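import Groth.Statements.S13404
import Groth.Agent.Lib.HopfUnitComp61

set_option autoImplicit false
universe u v
open Hopf

namespace Groth.Agent.S13404

/-- Let R be a henselian local ring and G = Spec A a finite flat group scheme over R (A a commutative
Hopf algebra over R, finite and flat as an R-module; G need not be commutative). Let e be an
idempotent of A on which the counit takes the value 1 and such that A/(1 - e) is a local ring, so
that Spec A/(1 - e) is the connected component G⁰ of G containing the unit section. Then the ideal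
(1 - e) is a Hopf ideal (G⁰ is a closed subgroup scheme of G), A/(1 - e) is a henselian local ring
with the same residue field as R (the composite R → A/(1 - e) → residue field is surjective), and
A/(1 - e) is flat over R. (The published statement also asserts that G⁰ is normal in G; this row
does not state normality.) -/
theorem result (R : Type u) [CommRing R] [HenselianLocalRing R]
    (A : Type v) [CommRing A] [HopfAlgebra R A] [Module.Finite R A] [Module.Flat R A]
    (e : A) (he : IsIdempotentElem e) (hε : Bialgebra.counitAlgHom R A e = 1)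
    [IsLocalRing (A ⧸ Ideal.span ({1 - e} : Set A))] :
    (Ideal.span ({1 - e} : Set A)).IsHopfIdeal R ∧ HenselianLocalRing (A ⧸ Ideal.span ({1 - e} : Set A)) ∧
      Function.Surjective (⇑(IsLocalRing.residue (A ⧸ Ideal.span ({1 - e} : Set A))) ∘ ⇑(algebraMap R (A ⧸ Ideal.span ({1 - e} : Set A)))) ∧
      Module.Flat R (A ⧸ Ideal.span ({1 - e} : Set A)) := by
  have hfin : Module.Finite R (A ⧸ Ideal.span ({1 - e} : Set A)) :=
    Module.Finite.of_surjective (Ideal.Quotient.mkₐ R (Ideal.span ({1 - e} : Set A))).toLinearMap
      Ideal.Quotient.mk_surjective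
  refine ⟨Groth.Agent.Lib.HopfUnitComp61.isHopfIdeal_span_one_sub he hε,
    Groth.Agent.Lib.HopfUnitComp61.henselianLocalRing_of_isIntegral' R _, ?_, ?_⟩
  · intro x
    obtain ⟨a, rfl⟩ := IsLocalRing.residue_surjective x
    refine ⟨Groth.Agent.Lib.HopfUnitComp61.counitQuot hε a, ?_⟩
    change IsLocalRing.residue _ (algebraMap R _ _) = IsLocalRing.residue _ a
    rw [← sub_eq_zero, ← map_sub, IsLocalRing.residue_eq_zero_iff]
    have hker : algebraMap R (A ⧸ Ideal.span ({1 - e} : Set A))
        (Groth.Agent.Lib.HopfUnitComp61.counitQuot hε a) - a ∈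
        RingHom.ker ((Groth.Agent.Lib.HopfUnitComp61.counitQuot hε :
          (A ⧸ Ideal.span ({1 - e} : Set A)) →ₐ[R] R) : (A ⧸ Ideal.span ({1 - e} : Set A)) →+* R) := by
      rw [RingHom.mem_ker, map_sub]
      change (Groth.Agent.Lib.HopfUnitComp61.counitQuot hε) (algebraMap R _ _) -
        (Groth.Agent.Lib.HopfUnitComp61.counitQuot hε) a = 0
      rw [AlgHom.commutes]
      simp
    exact IsLocalRing.le_maximalIdeal (RingHom.ker_ne_top _) hker
  · -- `A/(1-e)` is a retract of `A`
    let i : (A ⧸ Ideal.span ({1 - e} : Set A)) →ₗ[R] A :=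
      Submodule.liftQ ((Ideal.span ({1 - e} : Set A)).restrictScalars R)
        (LinearMap.mulLeft R e) (by
          intro x hx
          obtain ⟨a, rfl⟩ := Ideal.mem_span_singleton'.mp hx
          rw [LinearMap.mem_ker, LinearMap.mulLeft_apply]
          have : e * (a * (1 - e)) = a * (e * (1 - e)) := by ring
          rw [this, mul_sub, mul_one, he.eq, sub_self, mul_zero])
    refine Module.Flat.of_retract i (Ideal.Quotient.mkₐ R (Ideal.span ({1 - e} : Set A))).toLinearMap ?_
    ext x
    obtain ⟨a, rfl⟩ := Ideal.Quotient.mk_surjective x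
    change Ideal.Quotient.mk _ (e * a) = Ideal.Quotient.mk _ a
    rw [← sub_eq_zero, ← map_sub, Ideal.Quotient.eq_zero_iff_mem]
    have : e * a - a = (-a) * (1 - e) := by ring
    rw [this]
    exact Ideal.mul_mem_left _ _ (Ideal.subset_span rfl)

end Groth.Agent.S13404
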