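import Groth.Statements.S13409
import Mathlib.Combinatorics.SimpleGraph.Connectivity.Connected
import Mathlib.Combinatorics.SimpleGraph.Finite
import Mathlib.Algebra.BigOperators.Pi
import Mathlib.Tactic.Abel
import Mathlib.Algebra.Module.Basic
import Mathlib.Algebra.Module.Pi

set_option autoImplicit false
universe u v
open CombGraph

namespace Groth.Agent.S13409

section aux
variable {V : Type u} [Fintype V] [DecidableEq V] (G : SimpleGraph V) [DecidableRel G.Adj]
  (A : Type v) [AddCommGroup A]

/-- The vertex functions realised by an edge labelling. -/
def L (a : V → A) : Prop :=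
  ∃ x : Sym2 V → A, ∀ v : V, ∑ e ∈ G.incidenceFinset v, x e = a v

variable {G A}

lemma L_zero : L G A 0 := ⟨fun _ => 0, fun v => by simp⟩

lemma L_add {a b : V → A} (ha : L G A a) (hb : L G A b) : L G A (a + b) := by
  obtain ⟨x, hx⟩ := ha
  obtain ⟨y, hy⟩ := hb
  exact ⟨fun e => x e + y e, fun v => by rw [Finset.sum_add_distrib, hx, hy]; rfl⟩

lemma L_neg {a : V → A} (ha : L G A a) : L G A (-a) := by
  obtain ⟨x, hx⟩ := ha
  exact ⟨fun e => - x e, fun v => by rw [Finset.sum_neg_distrib, hx]; rfl⟩

lemma L_sub {a b : V → A} (ha : L G A a) (hb : L G A b) : L G A (a - b) := by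
  rw [sub_eq_add_neg]
  exact L_add ha (L_neg hb)

lemma L_sum {ι : Type*} (s : Finset ι) (f : ι → V → A) (h : ∀ i ∈ s, L G A (f i)) :
    L G A (∑ i ∈ s, f i) := by
  classical
  induction s using Finset.induction_on with
  | empty => simpa using L_zero
  | insert i s hi ih =>
    rw [Finset.sum_insert hi]
    exact L_add (h i (Finset.mem_insert_self _ _))
      (ih fun j hj => h j (Finset.mem_insert_of_mem hj))

lemma L_edge {u w : V} (h : G.Adj u w) (α : A) :
    L G A (Pi.single u α + Pi.single w α) := by
  refine ⟨fun e => if e = s(u, w) then α else 0, fun v => ?_⟩
  rw [Finset.sum_ite_eq']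
  have hne : u ≠ w := h.ne
  simp only [SimpleGraph.mem_incidenceFinset, SimpleGraph.mk'_mem_incidenceSet_iff, Pi.add_apply,
    Pi.single_apply]
  by_cases hvu : v = u
  · subst hvu
    simp [h, hne]
  · by_cases hvw : v = w
    · subst hvw
      simp [h, hvu]
    · simp [hvu, hvw, h]

/-- The sign comparing two colours. -/
def sgn (c : V → Bool) (u w : V) : ℤ := if c u = c w then 1 else -1

lemma L_walk (c : V → Bool) (hbip : ∀ v w : V, G.Adj v w → c v ≠ c w) {u w : V}
    (p : G.Walk u w) (α : A) :
    L G A (Pi.single u α - sgn c u w • Pi.single w α) := by
  induction p with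
  | nil =>
    simp only [sgn, if_true, one_smul, sub_self]
    exact (L_zero : L G A 0)
  | @cons u v w h p ih =>
    have hs : sgn c u w = - sgn c v w := by
      have := hbip u v h
      unfold sgn
      cases hcu : c u <;> cases hcv : c v <;> cases hcw : c w <;> simp_all
    have : (Pi.single u α - sgn c u w • Pi.single w α : V → A) =
        (Pi.single u α + Pi.single v α) - (Pi.single v α - sgn c v w • Pi.single w α) := by
      rw [hs, neg_smul]
      abel
    rw [this]
    exact L_sub (L_edge h α) ih

end aux

/-- Let `A` be an abelian group and `G` a finite connected simple graph on `V` that is bipartite for a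
two-colouring `c : V → Bool` (adjacent vertices get different colours). If `a : V → A` has the same
sum over the vertices of each colour, then some labelling `x` of the edges by elements of `A` has,
at every vertex `v`, the sum of `x` over the edges incident to `v` equal to `a v`. (The published
statement concerns finite bipartite graphs in general; this row treats simple graphs.) -/
theorem result {V : Type u} [Fintype V] [DecidableEq V]
    (G : SimpleGraph V) [DecidableRel G.Adj] (hconn : G.Connected) (c : V → Bool)
    (hbip : ∀ v w : V, G.Adj v w → c v ≠ c w) (A : Type v) [AddCommGroup A] (a : V → A)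
    (hsum : ∑ v ∈ Finset.univ.filter (fun v => c v = true), a v =
      ∑ v ∈ Finset.univ.filter (fun v => c v = false), a v) :
    ∃ x : Sym2 V → A, ∀ v : V, ∑ e ∈ G.incidenceFinset v, x e = a v := by
  classical
  change L G A a
  obtain ⟨r⟩ : Nonempty V := hconn.nonempty
  have hwalk : ∀ v : V, L G A (Pi.single v (a v) - sgn c v r • Pi.single r (a v)) := by
    intro v
    obtain ⟨p⟩ := hconn.preconnected v r
    exact L_walk c hbip p (a v)
  have h1 := L_sum (G := G) (A := A) Finset.univ
    (fun v => (Pi.single v (a v) - sgn c v r • Pi.single r (a v) : V → A))
    (fun v _ => hwalk v)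
  have h2 : (∑ v : V, (Pi.single v (a v) - sgn c v r • Pi.single r (a v) : V → A)) = a := by
    rw [Finset.sum_sub_distrib]
    have e1 : (∑ v : V, (Pi.single v (a v) : V → A)) = a := by
      ext w
      simp [Finset.sum_apply, Pi.single_apply]
    have e2 : (∑ v : V, (sgn c v r • Pi.single r (a v) : V → A)) = 0 := by
      have e3 : ∀ v : V, (sgn c v r • Pi.single r (a v) : V → A) =
          Pi.single r (sgn c v r • a v) := by
        intro v
        ext w
        by_cases hw : w = r
        · subst hw; simp
        · simp [Pi.single_apply, hw]
      simp_rw [e3]
      have e4 : (∑ v : V, (Pi.single r (sgn c v r • a v) : V → A)) =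
          Pi.single r (∑ v : V, sgn c v r • a v) := by
        ext w
        by_cases hw : w = r
        · subst hw; simp [Finset.sum_apply]
        · simp [Finset.sum_apply, Pi.single_apply, hw]
      rw [e4]
      have e5 : ∑ v : V, sgn c v r • a v = 0 := by
        have hsplit : ∀ f : V → A, ∑ v : V, f v =
            ∑ v ∈ Finset.univ.filter (fun v => c v = true), f v +
            ∑ v ∈ Finset.univ.filter (fun v => c v = false), f v := by
          intro f
          rw [← Finset.sum_filter_add_sum_filter_not Finset.univ (fun v => c v = true) f]
          congr 2
          ext v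
          simp
        rw [hsplit]
        cases hr : c r
        · have t1 : ∑ v ∈ Finset.univ.filter (fun v => c v = true), sgn c v r • a v =
              - ∑ v ∈ Finset.univ.filter (fun v => c v = true), a v := by
            rw [← Finset.sum_neg_distrib]
            apply Finset.sum_congr rfl
            intro v hv
            simp only [Finset.mem_filter, Finset.mem_univ, true_and] at hv
            simp [sgn, hv, hr]
          have t2 : ∑ v ∈ Finset.univ.filter (fun v => c v = false), sgn c v r • a v =
              ∑ v ∈ Finset.univ.filter (fun v => c v = false), a v := by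
            apply Finset.sum_congr rfl
            intro v hv
            simp only [Finset.mem_filter, Finset.mem_univ, true_and] at hv
            simp [sgn, hv, hr]
          rw [t1, t2, hsum]
          abel
        · have t1 : ∑ v ∈ Finset.univ.filter (fun v => c v = true), sgn c v r • a v =
              ∑ v ∈ Finset.univ.filter (fun v => c v = true), a v := by
            apply Finset.sum_congr rfl
            intro v hv
            simp only [Finset.mem_filter, Finset.mem_univ, true_and] at hv
            simp [sgn, hv, hr]
          have t2 : ∑ v ∈ Finset.univ.filter (fun v => c v = false), sgn c v r • a v =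
              - ∑ v ∈ Finset.univ.filter (fun v => c v = false), a v := by
            rw [← Finset.sum_neg_distrib]
            apply Finset.sum_congr rfl
            intro v hv
            simp only [Finset.mem_filter, Finset.mem_univ, true_and] at hv
            simp [sgn, hv, hr]
          rw [t1, t2, hsum]
          abel
      rw [e5]
      simp
    rw [e1, e2, sub_zero]
  rw [h2] at h1
  exact h1

end Groth.Agent.S13409
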