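import Mathlib
import Groth.Statements.S13410

set_option autoImplicit false
universe u v
open CombGraph

namespace Groth.Agent.S13410

section Helpers

variable {V : Type u} [DecidableEq V] {A : Type v} [AddCommGroup A]

/-- alternating weights along a walk, starting with `b` on the first edge -/
def wt {H : SimpleGraph V} : {x y : V} → H.Walk x y → A → (Sym2 V → A)
  | _, _, SimpleGraph.Walk.nil, _ => 0
  | x, _, SimpleGraph.Walk.cons (v := x') _ p, b => Pi.single s(x, x') b + wt p (-b)

/-- the weight that the next edge after the walk would get -/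
def endW {H : SimpleGraph V} : {x y : V} → H.Walk x y → A → A
  | _, _, SimpleGraph.Walk.nil, b => b
  | _, _, SimpleGraph.Walk.cons _ p, b => endW p (-b)

theorem wt_add {H : SimpleGraph V} {x y : V} (p : H.Walk x y) (b b' : A) :
    wt p (b + b') = wt p b + wt p b' := by
  induction p generalizing b b' with
  | nil => simp [wt]
  | cons h p ih =>
    simp only [wt]
    rw [neg_add, ih, Pi.single_add]
    abel

theorem wt_eq_zero_of_notMem {H : SimpleGraph V} {x y : V} (p : H.Walk x y) (b : A) (e : Sym2 V)
    (he : e ∉ p.edges) : wt p b e = 0 := by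
  induction p generalizing b with
  | nil => simp [wt]
  | cons h p ih =>
    simp only [SimpleGraph.Walk.edges_cons, List.mem_cons, not_or] at he
    simp only [wt, Pi.add_apply]
    rw [ih _ he.2, add_zero, Pi.single_eq_of_ne he.1]

omit [DecidableEq V] in
theorem endW_eq {H : SimpleGraph V} {x y : V} (p : H.Walk x y) (b : A) :
    endW p b = if Even p.length then b else -b := by
  induction p generalizing b with
  | nil => simp [endW]
  | cons h p ih =>
    simp only [endW]
    rw [ih]
    by_cases hp : Even p.length
    · have : ¬ Even (SimpleGraph.Walk.cons h p).length := by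
        rw [SimpleGraph.Walk.length_cons, Nat.even_add_one]; simpa using hp
      rw [if_pos hp, if_neg this]
    · have : Even (SimpleGraph.Walk.cons h p).length := by
        rw [SimpleGraph.Walk.length_cons, Nat.even_add_one]; exact hp
      rw [if_neg hp, if_pos this, neg_neg]

omit [DecidableEq V] in
theorem even_length_iff {G : SimpleGraph V} (c : V → Bool)
    (hbip : ∀ v w : V, G.Adj v w → c v ≠ c w) {H : SimpleGraph V} (hH : H ≤ G) {x y : V}
    (p : H.Walk x y) : Even p.length ↔ c x = c y := by
  induction p with
  | nil => simp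
  | cons h p ih =>
    rw [SimpleGraph.Walk.length_cons, Nat.even_add_one, ih]
    have := hbip _ _ (hH h)
    revert this
    cases c _ <;> cases c _ <;> cases c _ <;> simp

variable [Fintype V]

theorem sum_single_incidence (G : SimpleGraph V) [DecidableRel G.Adj] {x x' : V} (h : G.Adj x x')
    (b : A) (w : V) :
    ∑ e ∈ G.incidenceFinset w, (Pi.single s(x, x') b : Sym2 V → A) e
      = (if w = x then b else 0) + (if w = x' then b else 0) := by
  rw [Finset.sum_pi_single']
  have hne : x ≠ x' := h.ne
  by_cases h1 : w = x
  · have h2 : w ≠ x' := fun h2 => hne (h1.symm.trans h2)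
    rw [if_pos h1, if_neg h2, add_zero, if_pos]
    rw [SimpleGraph.mem_incidenceFinset, SimpleGraph.mk'_mem_incidenceSet_iff]
    exact ⟨h, Or.inl h1⟩
  · by_cases h2 : w = x'
    · rw [if_neg h1, if_pos h2, zero_add, if_pos]
      rw [SimpleGraph.mem_incidenceFinset, SimpleGraph.mk'_mem_incidenceSet_iff]
      exact ⟨h, Or.inr h2⟩
    · rw [if_neg h1, if_neg h2, add_zero, if_neg]
      rw [SimpleGraph.mem_incidenceFinset, SimpleGraph.mk'_mem_incidenceSet_iff]
      rintro ⟨-, h3 | h3⟩
      · exact h1 h3
      · exact h2 h3

theorem sum_wt_incidence (G : SimpleGraph V) [DecidableRel G.Adj] {H : SimpleGraph V} (hH : H ≤ G)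
    {x y : V} (p : H.Walk x y) (b : A) (w : V) :
    ∑ e ∈ G.incidenceFinset w, wt p b e
      = (if w = x then b else 0) - (if w = y then endW p b else 0) := by
  induction p generalizing b with
  | nil => simp [wt, endW]
  | cons h p ih =>
    simp only [wt, endW, Pi.add_apply, Finset.sum_add_distrib]
    rw [sum_single_incidence G (hH h), ih]
    split_ifs <;> abel

omit [Fintype V] in
theorem wt_eq_zero_of_notMem_edgeSet (G : SimpleGraph V) {H : SimpleGraph V} (hH : H ≤ G)
    {x y : V} (p : H.Walk x y) (b : A) (e : Sym2 V) (he : e ∉ G.edgeSet) : wt p b e = 0 := by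
  apply wt_eq_zero_of_notMem
  intro hmem
  exact he (SimpleGraph.edgeSet_mono hH (SimpleGraph.Walk.edges_subset_edgeSet p hmem))

end Helpers

/-- Let `A` be an abelian group and `G` a finite connected simple graph on `V`, bipartite for a
two-colouring `c`. Consider the additive group of labellings `x : Sym2 V → A` vanishing off the edge
set and with `∑_{e ∋ v} x e = 0` at every vertex `v`. If `e₀` is an edge whose deletion leaves `G`
connected, then evaluation at `e₀` restricted to this group is surjective and split: there is an
additive map `φ : A → (Sym2 V → A)` with values in this group and with `φ a e₀ = a` for all `a`.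
(The published statement concerns finite bipartite graphs in general; this row treats simple
graphs.) -/
theorem result {V : Type u} [Fintype V]
    [DecidableEq V] (G : SimpleGraph V) [DecidableRel G.Adj] (hconn : G.Connected) (c : V → Bool)
    (hbip : ∀ v w : V, G.Adj v w → c v ≠ c w) (A : Type v) [AddCommGroup A] (e₀ : Sym2 V)
    (he₀ : e₀ ∈ G.edgeSet) (hdel : (G.deleteEdges {e₀}).Connected) :
    ∃ φ : A →+ (Sym2 V → A),
      (∀ a : A, (∀ e : Sym2 V, e ∉ G.edgeSet → φ a e = 0) ∧
        ∀ v : V, ∑ e ∈ G.incidenceFinset v, φ a e = 0) ∧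
      ∀ a : A, φ a e₀ = a := by
  induction e₀ using Sym2.ind with
  | h u v =>
    have hadj : G.Adj u v := (SimpleGraph.mem_edgeSet G).mp he₀
    have hH : G.deleteEdges {s(u, v)} ≤ G := SimpleGraph.deleteEdges_le _
    obtain ⟨p⟩ := hdel.preconnected v u
    have hodd : ¬ Even p.length := by
      rw [even_length_iff c hbip hH p]
      exact (hbip u v hadj).symm
    have hend : ∀ a : A, endW p (-a) = a := by
      intro a
      rw [endW_eq, if_neg hodd, neg_neg]
    have hnot : s(u, v) ∉ p.edges := by
      intro hmem
      have := SimpleGraph.Walk.edges_subset_edgeSet p hmem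
      rw [SimpleGraph.edgeSet_deleteEdges] at this
      exact this.2 rfl
    refine ⟨AddMonoidHom.mk' (fun a => Pi.single s(u, v) a + wt p (-a)) ?_, ?_, ?_⟩
    · intro a b
      rw [Pi.single_add, neg_add, wt_add]
      abel
    · intro a
      refine ⟨fun e he => ?_, fun w => ?_⟩
      · change ((Pi.single s(u, v) a : Sym2 V → A) + wt p (-a)) e = 0
        rw [Pi.add_apply, wt_eq_zero_of_notMem_edgeSet G hH p _ e he, add_zero, Pi.single_eq_of_ne]
        rintro rfl
        exact he he₀
      · change ∑ e ∈ G.incidenceFinset w, ((Pi.single s(u, v) a : Sym2 V → A) + wt p (-a)) e = 0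
        simp only [Pi.add_apply, Finset.sum_add_distrib]
        rw [sum_single_incidence G hadj, sum_wt_incidence G hH, hend]
        split_ifs <;> abel
    · intro a
      change ((Pi.single s(u, v) a : Sym2 V → A) + wt p (-a)) s(u, v) = a
      rw [Pi.add_apply, wt_eq_zero_of_notMem p _ _ hnot, add_zero, Pi.single_eq_same]

end Groth.Agent.S13410
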