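import Mathlib
import Groth.Agent.S13410
import Groth.Statements.S13411

set_option autoImplicit false
universe u v
open CombGraph

namespace Groth.Agent.S13411

section Helpers

variable {V : Type u} [Fintype V] [DecidableEq V] {A : Type v} [AddCommGroup A]

/-- the set of cycle labellings -/
def K (G : SimpleGraph V) [DecidableRel G.Adj] (A : Type v) [AddCommGroup A] :
    Set (Sym2 V → A) :=
  {x | (∀ e : Sym2 V, e ∉ G.edgeSet → x e = 0) ∧ ∀ v : V, ∑ e ∈ G.incidenceFinset v, x e = 0}

theorem sum_filter_mem_sym2 {M : Type*} [AddCommMonoid M] {a b : V} (hab : a ≠ b) (F : V → M) :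
    ∑ w ∈ Finset.univ.filter (· ∈ s(a, b)), F w = F a + F b := by
  have : Finset.univ.filter (· ∈ s(a, b)) = {a, b} := by
    ext w
    simp [Sym2.mem_iff]
  rw [this, Finset.sum_pair hab]

/-- swapping the double sum -/
theorem sum_smul_incidence (G : SimpleGraph V) [DecidableRel G.Adj] (h : V → ℤ)
    (x : Sym2 V → A) :
    ∑ w, h w • ∑ e ∈ G.incidenceFinset w, x e
      = ∑ e ∈ G.edgeFinset, ∑ w ∈ Finset.univ.filter (· ∈ e), h w • x e := by
  simp only [Finset.smul_sum]
  apply Finset.sum_comm'
  intro w e
  simp only [Finset.mem_univ, true_and, SimpleGraph.mem_incidenceFinset, Finset.mem_filter,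
    SimpleGraph.mem_edgeFinset, SimpleGraph.incidenceSet, Set.mem_ofPred_eq]
  tauto

/-- a cycle labelling of a bipartite graph vanishes on bridges -/
theorem eq_zero_of_isBridge (G : SimpleGraph V) [DecidableRel G.Adj] (c : V → Bool)
    (hbip : ∀ v w : V, G.Adj v w → c v ≠ c w) (x : Sym2 V → A) (hx : x ∈ K G A)
    {u v : V} (hadj : G.Adj u v) (hbr : G.IsBridge s(u, v)) : x s(u, v) = 0 := by
  classical
  set G' := G.deleteEdges {s(u, v)} with hG'
  let σ : V → ℤ := fun w => if c w then 1 else -1
  let h : V → ℤ := fun w => if G'.Reachable u w then σ w else 0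
  have hσ : ∀ a b, G.Adj a b → σ a + σ b = 0 := by
    intro a b hab
    have := hbip a b hab
    simp only [σ]
    revert this
    cases c a <;> cases c b <;> simp
  have h0 : ∑ w, h w • ∑ e ∈ G.incidenceFinset w, x e = 0 := by
    apply Finset.sum_eq_zero
    intro w _
    rw [hx.2 w, smul_zero]
  rw [sum_smul_incidence] at h0
  have he₀ : s(u, v) ∈ G.edgeFinset := by
    rw [SimpleGraph.mem_edgeFinset]; exact hadj
  rw [Finset.sum_eq_single_of_mem _ he₀] at h0
  · rw [sum_filter_mem_sym2 hadj.ne, ← add_smul] at h0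
    have hu : h u = σ u := by
      simp only [h]; rw [if_pos (SimpleGraph.Reachable.refl u)]
    have hv : h v = 0 := by
      simp only [h]; rw [if_neg]
      exact SimpleGraph.isBridge_iff.mp hbr
    rw [hu, hv, add_zero] at h0
    have : σ u = 1 ∨ σ u = -1 := by
      simp only [σ]; cases c u <;> simp
    rcases this with h1 | h1
    · rwa [h1, one_smul] at h0
    · rw [h1, neg_smul, one_smul, neg_eq_zero] at h0; exact h0
  · intro e he hne
    induction e using Sym2.ind with
    | h a b =>
      rw [SimpleGraph.mem_edgeFinset, SimpleGraph.mem_edgeSet] at he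
      rw [sum_filter_mem_sym2 he.ne, ← add_smul]
      have hab' : G'.Adj a b := by
        rw [hG', SimpleGraph.deleteEdges_adj]
        exact ⟨he, fun hmem => hne (Set.mem_singleton_iff.mp hmem)⟩
      have hiff : G'.Reachable u a ↔ G'.Reachable u b :=
        ⟨fun hr => hr.trans hab'.reachable, fun hr => hr.trans hab'.symm.reachable⟩
      simp only [h]
      by_cases hr : G'.Reachable u a
      · rw [if_pos hr, if_pos (hiff.mp hr), hσ a b he, zero_smul]
      · rw [if_neg hr, if_neg (fun hb => hr (hiff.mpr hb)), add_zero, zero_smul]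

/-- cycle labellings of a tree vanish -/
theorem K_eq_zero_of_isTree (G : SimpleGraph V) [DecidableRel G.Adj] (c : V → Bool)
    (hbip : ∀ v w : V, G.Adj v w → c v ≠ c w) (hT : G.IsAcyclic) (x : Sym2 V → A)
    (hx : x ∈ K G A) : x = 0 := by
  funext e
  by_cases he : e ∈ G.edgeSet
  · induction e using Sym2.ind with
    | h a b =>
      exact eq_zero_of_isBridge G c hbip x hx he
        (SimpleGraph.isAcyclic_iff_forall_adj_isBridge.mp hT he)
  · exact hx.1 e he

/-- comparing incidence sums in `G` and `G - e₀` -/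
theorem sum_incidence_deleteEdges (G : SimpleGraph V) [DecidableRel G.Adj] (e₀ : Sym2 V)
    [DecidableRel (G.deleteEdges {e₀}).Adj] (x : Sym2 V → A) (hx : x e₀ = 0) (w : V) :
    ∑ e ∈ (G.deleteEdges {e₀}).incidenceFinset w, x e = ∑ e ∈ G.incidenceFinset w, x e := by
  apply Finset.sum_subset
  · intro e he
    rw [SimpleGraph.mem_incidenceFinset] at he ⊢
    exact ⟨SimpleGraph.edgeSet_mono (SimpleGraph.deleteEdges_le _) he.1, he.2⟩
  · intro e he hne
    rw [SimpleGraph.mem_incidenceFinset] at he hne
    by_cases h : e = e₀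
    · rw [h, hx]
    · exfalso
      apply hne
      refine ⟨?_, he.2⟩
      rw [SimpleGraph.edgeSet_deleteEdges]
      exact ⟨he.1, h⟩

theorem mem_K_deleteEdges_iff (G : SimpleGraph V) [DecidableRel G.Adj] (e₀ : Sym2 V)
    [DecidableRel (G.deleteEdges {e₀}).Adj] (x : Sym2 V → A) :
    x ∈ K (G.deleteEdges {e₀}) A ↔ x ∈ K G A ∧ x e₀ = 0 := by
  constructor
  · intro hx
    have h0 : x e₀ = 0 := by
      apply hx.1
      rw [SimpleGraph.edgeSet_deleteEdges]
      exact fun h => h.2 rfl
    refine ⟨⟨fun e he => ?_, fun w => ?_⟩, h0⟩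
    · apply hx.1
      intro h
      exact he (SimpleGraph.edgeSet_mono (SimpleGraph.deleteEdges_le _) h)
    · rw [← sum_incidence_deleteEdges G e₀ x h0 w]
      exact hx.2 w
  · rintro ⟨hx, h0⟩
    refine ⟨fun e he => ?_, fun w => ?_⟩
    · by_cases h : e = e₀
      · rw [h, h0]
      · apply hx.1
        intro h'
        apply he
        rw [SimpleGraph.edgeSet_deleteEdges]
        exact ⟨h', h⟩
    · rw [sum_incidence_deleteEdges G e₀ x h0 w]
      exact hx.2 w

theorem main (n : ℕ) : ∀ (G : SimpleGraph V) [DecidableRel G.Adj], G.Connected →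
    ∀ (c : V → Bool), (∀ v w : V, G.Adj v w → c v ≠ c w) →
    G.edgeFinset.card + 1 = Fintype.card V + n →
    ∃ f : (Fin n → A) →+ (Sym2 V → A), Function.Injective f ∧ Set.range f = K G A := by
  induction n with
  | zero =>
    intro G _ hconn c hbip hn
    have hT : G.IsTree := by
      rw [SimpleGraph.isTree_iff_connected_and_card]
      refine ⟨hconn, ?_⟩
      rw [Nat.card_eq_fintype_card, ← SimpleGraph.edgeFinset_card, Nat.card_eq_fintype_card]
      simpa using hn
    refine ⟨0, fun a b _ => Subsingleton.elim a b, ?_⟩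
    ext x
    constructor
    · rintro ⟨y, rfl⟩
      refine ⟨fun e _ => rfl, fun w => ?_⟩
      simp
    · intro hx
      exact ⟨0, (K_eq_zero_of_isTree G c hbip hT.isAcyclic x hx).symm⟩
  | succ n ih =>
    intro G _ hconn c hbip hn
    classical
    -- a non-bridge edge
    have hex : ∃ e ∈ G.edgeSet, ¬ G.IsBridge e := by
      by_contra hcon
      push Not at hcon
      have hac : G.IsAcyclic := SimpleGraph.isAcyclic_iff_forall_isBridge.mpr hcon
      have hT : G.IsTree := ⟨hconn, hac⟩
      have := hT.card_edgeFinset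
      omega
    obtain ⟨e₀, he₀, hnb⟩ := hex
    have hdel : (G.deleteEdges {e₀}).Connected := by
      induction e₀ using Sym2.ind with
      | h a b => exact hconn.connected_delete_edge_of_not_isBridge hnb
    have hbip' : ∀ v w : V, (G.deleteEdges {e₀}).Adj v w → c v ≠ c w := fun v w h =>
      hbip v w (SimpleGraph.deleteEdges_le _ h)
    have hcard : (G.deleteEdges {e₀}).edgeFinset.card + 1 = Fintype.card V + n := by
      have : (G.deleteEdges {e₀}).edgeFinset = G.edgeFinset.erase e₀ := by
        ext e
        rw [SimpleGraph.mem_edgeFinset, SimpleGraph.edgeSet_deleteEdges, Finset.mem_erase,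
          SimpleGraph.mem_edgeFinset]
        simp only [Set.mem_sdiff, Set.mem_singleton_iff]
        tauto
      rw [this, Finset.card_erase_of_mem (SimpleGraph.mem_edgeFinset.mpr he₀)]
      have hpos : 0 < G.edgeFinset.card :=
        Finset.card_pos.mpr ⟨e₀, SimpleGraph.mem_edgeFinset.mpr he₀⟩
      omega
    obtain ⟨f', hf'inj, hf'range⟩ := ih (G.deleteEdges {e₀}) hdel c hbip' hcard
    obtain ⟨φ, hφK, hφe⟩ := Groth.Agent.S13410.result G hconn c hbip A e₀ he₀ hdel
    have hf'K : ∀ z, f' z ∈ K (G.deleteEdges {e₀}) A := fun z => by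
      rw [← hf'range]; exact ⟨z, rfl⟩
    have hf'e : ∀ z, f' z e₀ = 0 := fun z =>
      ((mem_K_deleteEdges_iff G e₀ (f' z)).mp (hf'K z)).2
    let tailHom : (Fin (n + 1) → A) →+ (Fin n → A) :=
      AddMonoidHom.mk' (fun y => Fin.tail y) (fun a b => rfl)
    let f : (Fin (n + 1) → A) →+ (Sym2 V → A) :=
      f'.comp tailHom + φ.comp (Pi.evalAddMonoidHom (fun _ => A) 0)
    have hf : ∀ y, f y = f' (Fin.tail y) + φ (y 0) := fun y => rfl
    refine ⟨f, ?_, ?_⟩
    · rw [injective_iff_map_eq_zero]
      intro y hy
      rw [hf] at hy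
      have h0 : y 0 = 0 := by
        have := congrFun hy e₀
        rw [Pi.add_apply, hf'e, hφe, zero_add, Pi.zero_apply] at this
        exact this
      rw [h0, map_zero, add_zero] at hy
      have ht : Fin.tail y = 0 := by
        apply hf'inj
        rw [hy, map_zero]
      funext i
      refine Fin.cases ?_ (fun j => ?_) i
      · exact h0
      · exact congrFun ht j
    · ext x
      constructor
      · rintro ⟨y, rfl⟩
        rw [hf]
        have h1 : f' (Fin.tail y) ∈ K G A :=
          ((mem_K_deleteEdges_iff G e₀ _).mp (hf'K _)).1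
        have h2 := hφK (y 0)
        refine ⟨fun e he => ?_, fun w => ?_⟩
        · rw [Pi.add_apply, h1.1 e he, h2.1 e he, add_zero]
        · simp only [Pi.add_apply, Finset.sum_add_distrib]
          rw [h1.2 w, h2.2 w, add_zero]
      · intro hx
        have h2 := hφK (x e₀)
        have hmem : x - φ (x e₀) ∈ K (G.deleteEdges {e₀}) A := by
          rw [mem_K_deleteEdges_iff]
          refine ⟨⟨fun e he => ?_, fun w => ?_⟩, ?_⟩
          · rw [Pi.sub_apply, hx.1 e he, h2.1 e he, sub_zero]
          · simp only [Pi.sub_apply, Finset.sum_sub_distrib]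
            rw [hx.2 w, h2.2 w, sub_zero]
          · rw [Pi.sub_apply, hφe, sub_self]
        rw [← hf'range] at hmem
        obtain ⟨z, hz⟩ := hmem
        refine ⟨Fin.cons (x e₀) z, ?_⟩
        rw [hf, Fin.tail_cons, Fin.cons_zero, hz]
        abel

end Helpers

/-- Let `A` be an abelian group and `G` a finite connected simple graph on `V`, bipartite for a
two-colouring `c`, with cyclomatic number `n` (number of edges minus number of vertices plus one).
Then the additive group of labellings `x : Sym2 V → A` vanishing off the edge set and with `∑_{e ∋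
v} x e = 0` at every vertex `v` is isomorphic to `A^n`: it is the range of an injective additive map
`(Fin n → A) → (Sym2 V → A)`. (The published statement concerns finite bipartite graphs in general;
this row treats simple graphs.) -/
theorem result {V : Type u} [Fintype V]
    [DecidableEq V] (G : SimpleGraph V) [DecidableRel G.Adj] (hconn : G.Connected) (c : V → Bool)
    (hbip : ∀ v w : V, G.Adj v w → c v ≠ c w) (A : Type v) [AddCommGroup A] (n : ℕ)
    (hn : G.edgeFinset.card + 1 = Fintype.card V + n) :
    ∃ f : (Fin n → A) →+ (Sym2 V → A), Function.Injective f ∧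
      Set.range f = {x : Sym2 V → A | (∀ e : Sym2 V, e ∉ G.edgeSet → x e = 0) ∧
        ∀ v : V, ∑ e ∈ G.incidenceFinset v, x e = 0} := by
  exact main n G hconn c hbip hn

end Groth.Agent.S13411
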