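import Groth.Statements.S13418
-- import your own Groth.Agent.* helpers here

set_option autoImplicit false
universe u
open CategoryTheory AlgebraicGeometry
open NeronHD

namespace Groth.Agent.S13418

open CategoryTheory.Limits

section aux
variable {C : Type*} [Category C] [HasPullbacks C] {S S₀ : C} (i : S₀ ⟶ S)

/-- The fibre product of two objects over `S`, as an object over `S`. -/
noncomputable abbrev P (N M : Over S) : Over S := Over.mk (pullback.fst N.hom M.hom ≫ N.hom)

/-- First projection. -/
noncomputable def pr1 (N M : Over S) : P N M ⟶ N := Over.homMk (pullback.fst N.hom M.hom) rfl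

/-- Second projection. -/
noncomputable def pr2 (N M : Over S) : P N M ⟶ M :=
  Over.homMk (pullback.snd N.hom M.hom) (by simp [pullback.condition])

lemma hom_ext_P {N M Z : Over S} (g g' : Z ⟶ P N M) (h1 : g ≫ pr1 N M = g' ≫ pr1 N M)
    (h2 : g ≫ pr2 N M = g' ≫ pr2 N M) : g = g' := by
  apply Over.OverMorphism.ext
  apply pullback.hom_ext
  · exact congrArg (fun t => t.left) h1
  · exact congrArg (fun t => t.left) h2

lemma map_pr1_fst (N M : Over S) :
    ((Over.pullback i).map (pr1 N M)).left ≫ pullback.fst N.hom i =
      pullback.fst (P N M).hom i ≫ pullback.fst N.hom M.hom :=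
  pullback.lift_fst _ _ _

lemma map_pr2_fst (N M : Over S) :
    ((Over.pullback i).map (pr2 N M)).left ≫ pullback.fst M.hom i =
      pullback.fst (P N M).hom i ≫ pullback.snd N.hom M.hom :=
  pullback.lift_fst _ _ _

lemma hom_ext_FP {N M : Over S} {T : Over S₀} (a b : T ⟶ (Over.pullback i).obj (P N M))
    (h1 : a ≫ (Over.pullback i).map (pr1 N M) = b ≫ (Over.pullback i).map (pr1 N M))
    (h2 : a ≫ (Over.pullback i).map (pr2 N M) = b ≫ (Over.pullback i).map (pr2 N M)) : a = b := by
  apply Over.OverMorphism.ext
  apply pullback.hom_ext
  · apply pullback.hom_ext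
    · have := congrArg (fun t => t.left ≫ pullback.fst N.hom i) h1
      simp only [Over.comp_left, Category.assoc] at this
      rw [map_pr1_fst] at this
      simpa only [Category.assoc] using this
    · have := congrArg (fun t => t.left ≫ pullback.fst M.hom i) h2
      simp only [Over.comp_left, Category.assoc] at this
      rw [map_pr2_fst] at this
      simpa only [Category.assoc] using this
  · exact (Over.w a).trans (Over.w b).symm

lemma prod_bij (N M Z : Over S)
    (hN : Function.Bijective (fun g : Z ⟶ N => (Over.pullback i).map g))
    (hM : Function.Bijective (fun g : Z ⟶ M => (Over.pullback i).map g)) :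
    Function.Bijective (fun g : Z ⟶ P N M => (Over.pullback i).map g) := by
  constructor
  · intro g g' h
    simp only at h
    apply hom_ext_P
    · apply hN.1
      simp only [Functor.map_comp, h]
    · apply hM.1
      simp only [Functor.map_comp, h]
  · intro h
    obtain ⟨g1, hg1⟩ := hN.2 (h ≫ (Over.pullback i).map (pr1 N M))
    obtain ⟨g2, hg2⟩ := hM.2 (h ≫ (Over.pullback i).map (pr2 N M))
    simp only at hg1 hg2
    refine ⟨Over.homMk (pullback.lift g1.left g2.left (by rw [Over.w g1, Over.w g2]))
      (by
        change pullback.lift g1.left g2.left _ ≫ pullback.fst N.hom M.hom ≫ N.hom = Z.hom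
        rw [pullback.lift_fst_assoc, Over.w g1]), ?_⟩
    simp only
    apply hom_ext_FP
    · rw [← Functor.map_comp, ← hg1]
      congr 1
      apply Over.OverMorphism.ext
      exact pullback.lift_fst _ _ _
    · rw [← Functor.map_comp, ← hg2]
      congr 1
      apply Over.OverMorphism.ext
      exact pullback.lift_snd _ _ _

end aux

/-- Let S be a locally Noetherian scheme over a field of characteristic 0 and S₀ ⊆ S a
scheme-theoretically dense open. If N and M are smooth S-schemes having the Néron mapping property
for S₀ ⊆ S (for every smooth S-scheme Z, restriction to S₀ is a bijection from S-morphisms Z → N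
onto S₀-morphisms Z|S₀ → N|S₀), then the fibre product N ×_S M has the Néron mapping property for S₀
⊆ S (its smoothness over S being automatic). (This row is the case of schemes, with smooth test
schemes, of a statement about algebraic spaces.) -/
theorem result {k : Type u} [Field k] [CharZero k] {S : Scheme.{u}} (σ : S ⟶ Spec (CommRingCat.of k)) [IsLocallyNoetherian S] (S₀ : S.Opens) (hS₀ : CInt.IsSchematicallyDense S₀)
    (N M : Over S) [Smooth N.hom] [Smooth M.hom]
    (hN : ∀ Z : Over S, Smooth Z.hom → Function.Bijective (fun g : Z ⟶ N => (Over.pullback S₀.ι).map g))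
    (hM : ∀ Z : Over S, Smooth Z.hom → Function.Bijective (fun g : Z ⟶ M => (Over.pullback S₀.ι).map g)) :
    ∀ Z : Over S, Smooth Z.hom → Function.Bijective (fun g : Z ⟶ Over.mk (Limits.pullback.fst N.hom M.hom ≫ N.hom) => (Over.pullback S₀.ι).map g) := by
  intro Z hZ
  exact prod_bij S₀.ι N M Z (hN Z hZ) (hM Z hZ)

end Groth.Agent.S13418
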