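import Groth.Statements.S13419
import Mathlib.CategoryTheory.Comma.Over.Pullback
import Mathlib.CategoryTheory.Adjunction.FullyFaithful
import Mathlib.AlgebraicGeometry.Restrict
import Mathlib.AlgebraicGeometry.Morphisms.Smooth

set_option autoImplicit false
universe u
open CategoryTheory AlgebraicGeometry
open NeronHD

namespace Groth.Agent.S13419

open CategoryTheory.Limits

section aux

/-- Naturally isomorphic functors: bijectivity on a hom-set transfers. -/
lemma bij_of_natIso {D E : Type*} [Category D] [Category E] {Φ Ψ : D ⥤ E} (α : Φ ≅ Ψ) (Z N : D)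
    (h : Function.Bijective (fun g : Z ⟶ N => Φ.map g)) :
    Function.Bijective (fun g : Z ⟶ N => Ψ.map g) := by
  have h1 : (fun g : Z ⟶ N => Ψ.map g) =
      (fun k => α.inv.app Z ≫ k ≫ α.hom.app N) ∘ (fun g : Z ⟶ N => Φ.map g) := by
    funext g
    simp
  rw [h1]
  refine Function.Bijective.comp ?_ h
  refine Function.bijective_iff_has_inverse.2 ⟨fun k => α.hom.app Z ≫ k ≫ α.inv.app N, ?_, ?_⟩
  · intro k; simp
  · intro k; simp

lemma bij_natIso_iff {D E : Type*} [Category D] [Category E] {Φ Ψ : D ⥤ E} (α : Φ ≅ Ψ) (Z N : D) :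
    Function.Bijective (fun g : Z ⟶ N => Φ.map g) ↔
      Function.Bijective (fun g : Z ⟶ N => Ψ.map g) :=
  ⟨bij_of_natIso α Z N, bij_of_natIso α.symm Z N⟩

lemma bij_comp_ff {D E E' : Type*} [Category D] [Category E] [Category E'] (Ψ : D ⥤ E)
    (K : E ⥤ E') [K.Full] [K.Faithful] (Z N : D) :
    Function.Bijective (fun g : Z ⟶ N => (Ψ ⋙ K).map g) ↔
      Function.Bijective (fun g : Z ⟶ N => Ψ.map g) := by
  have h1 : (fun g : Z ⟶ N => (Ψ ⋙ K).map g) =
      (fun k : Ψ.obj Z ⟶ Ψ.obj N => K.map k) ∘ (fun g : Z ⟶ N => Ψ.map g) := rfl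
  rw [h1]
  have hK : Function.Bijective (fun k : Ψ.obj Z ⟶ Ψ.obj N => K.map k) :=
    ⟨K.map_injective, K.map_surjective⟩
  exact Function.Bijective.of_comp_iff' hK _

variable {C : Type*} [Category C] [HasPullbacks C]

/-- Pullback functors along equal morphisms are isomorphic. -/
noncomputable def pullbackCongr {X Y : C} {f g : X ⟶ Y} (h : f = g) :
    Over.pullback f ≅ Over.pullback g := by
  subst h
  exact Iso.refl _

/-- The key reduction: restriction along `i₀` is bijective iff the two-step restriction along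
`i₁` and then `j` is, when `j ≫ i₁ = e ≫ i₀` with `e` an isomorphism. -/
lemma bij_iff_two_step {S S₁ S₀ S₀' : C} (i₀ : S₀ ⟶ S) (i₁ : S₁ ⟶ S) (j : S₀' ⟶ S₁)
    (e : S₀' ⟶ S₀) [IsIso e] (w : j ≫ i₁ = e ≫ i₀) (Z N : Over S) :
    Function.Bijective (fun g : Z ⟶ N => (Over.pullback i₀).map g) ↔
      Function.Bijective
        ((fun k : (Over.pullback i₁).obj Z ⟶ (Over.pullback i₁).obj N => (Over.pullback j).map k) ∘
          (fun g : Z ⟶ N => (Over.pullback i₁).map g)) := by
  haveI : (Over.pullback e).IsEquivalence :=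
    (Over.mapPullbackAdj e).isEquivalence_right_of_isEquivalence_left
  rw [← bij_comp_ff (Over.pullback i₀) (Over.pullback e) Z N,
    ← bij_natIso_iff (Over.pullbackComp e i₀) Z N,
    ← bij_natIso_iff (pullbackCongr w) Z N,
    bij_natIso_iff (Over.pullbackComp j i₁) Z N]
  rfl

end aux

/-- Let S be a locally Noetherian scheme over a field of characteristic 0, S₀ ⊆ S₁ ⊆ S opens with S₀
scheme-theoretically dense in S, and N a smooth S-scheme. If N has the Néron mapping property for S₁
⊆ S and the restriction N|S₁ has the Néron mapping property for S₀ ⊆ S₁ (in both cases: restriction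
of morphisms from smooth schemes over the base is bijective), then N has the Néron mapping property
for S₀ ⊆ S. (Case of schemes, with smooth test schemes, of a statement about algebraic spaces.) -/
theorem result {k : Type u} [Field k] [CharZero k] {S : Scheme.{u}} (σ : S ⟶ Spec (CommRingCat.of k)) [IsLocallyNoetherian S] (S₀ S₁ : S.Opens) (h01 : S₀ ≤ S₁) (hS₀ : CInt.IsSchematicallyDense S₀)
    (N : Over S) [Smooth N.hom]
    (hN1 : ∀ Z : Over S, Smooth Z.hom → Function.Bijective (fun g : Z ⟶ N => (Over.pullback S₁.ι).map g))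
    (hN10 : ∀ Z : Over (S₁ : Scheme.{u}), Smooth Z.hom → Function.Bijective (fun g : Z ⟶ (Over.pullback S₁.ι).obj N => (Over.pullback (S₁.ι ⁻¹ᵁ S₀).ι).map g)) :
    ∀ Z : Over S, Smooth Z.hom → Function.Bijective (fun g : Z ⟶ N => (Over.pullback S₀.ι).map g) := by
  intro Z hZ
  have w : (S₁.ι ⁻¹ᵁ S₀).ι ≫ S₁.ι = (Scheme.Opens.isoOfLE h01).hom ≫ S₀.ι :=
    (Scheme.Opens.isoOfLE_hom_ι h01).symm
  rw [bij_iff_two_step S₀.ι S₁.ι (S₁.ι ⁻¹ᵁ S₀).ι (Scheme.Opens.isoOfLE h01).hom w Z N]
  refine Function.Bijective.comp ?_ (hN1 Z hZ)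
  apply hN10
  haveI : Smooth Z.hom := hZ
  change Smooth (pullback.snd Z.hom S₁.ι)
  infer_instance

end Groth.Agent.S13419
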