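import Groth.Statements.S13421
import Mathlib.CategoryTheory.Comma.Over.Pullback
import Mathlib.AlgebraicGeometry.PullbackCarrier
import Mathlib.AlgebraicGeometry.Morphisms.Smooth
import Mathlib.AlgebraicGeometry.Morphisms.Etale

set_option autoImplicit false
universe u
open CategoryTheory AlgebraicGeometry
open NeronHD

namespace Groth.Agent.S13421

open CategoryTheory.Limits

section aux
variable {C : Type*} [Category C] [HasPullbacks C]

/-- Bijectivity of restriction to the part over `B₀` is an extension property for morphisms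
defined on the pulled back source. -/
lemma bij_iff_existsUnique {B B₀ : C} (i : B₀ ⟶ B) (Z N : Over B) :
    Function.Bijective (fun g : Z ⟶ N => (Over.pullback i).map g) ↔
      ∀ k : pullback Z.hom i ⟶ N.left, k ≫ N.hom = pullback.fst Z.hom i ≫ Z.hom →
        ∃! g : Z ⟶ N, pullback.fst Z.hom i ≫ g.left = k := by
  have hfst : ∀ g : Z ⟶ N, ((Over.pullback i).map g).left ≫ pullback.fst N.hom i =
      pullback.fst Z.hom i ≫ g.left := fun g => pullback.lift_fst _ _ _
  have hsnd : ∀ g : Z ⟶ N, ((Over.pullback i).map g).left ≫ pullback.snd N.hom i =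
      pullback.snd Z.hom i := fun g => pullback.lift_snd _ _ _
  have hext : ∀ (g : Z ⟶ N) (v : (Over.pullback i).obj Z ⟶ (Over.pullback i).obj N),
      pullback.fst Z.hom i ≫ g.left = v.left ≫ pullback.fst N.hom i →
      (Over.pullback i).map g = v := by
    intro g v h
    apply Over.OverMorphism.ext
    apply pullback.hom_ext
    · rw [hfst, h]
    · rw [hsnd]
      exact (Over.w v).symm
  constructor
  · intro hb k hk
    let v : (Over.pullback i).obj Z ⟶ (Over.pullback i).obj N :=
      Over.homMk (pullback.lift k (pullback.snd Z.hom i) (by rw [hk, pullback.condition]))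
        (pullback.lift_snd _ _ _)
    have hv : v.left ≫ pullback.fst N.hom i = k := pullback.lift_fst _ _ _
    obtain ⟨g, hg⟩ := hb.2 v
    simp only at hg
    refine ⟨g, ?_, ?_⟩
    · simp only
      rw [← hfst, hg, hv]
    · intro g' hg'
      apply hb.1
      simp only
      rw [hg]
      apply hext
      rw [hg', hv]
  · intro h
    constructor
    · intro g₁ g₂ h12
      simp only at h12
      have hk : (pullback.fst Z.hom i ≫ g₁.left) ≫ N.hom = pullback.fst Z.hom i ≫ Z.hom := by
        rw [Category.assoc, Over.w]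
      obtain ⟨g, _, hg⟩ := h _ hk
      rw [hg g₁ rfl]
      apply (hg g₂ _).symm
      rw [← hfst, ← h12, hfst]
    · intro v
      have hk : (v.left ≫ pullback.fst N.hom i) ≫ N.hom = pullback.fst Z.hom i ≫ Z.hom := by
        rw [Category.assoc, pullback.condition, ← Category.assoc]
        have := Over.w v
        simp only [Over.pullback_obj_hom] at this
        rw [this, pullback.condition]
      obtain ⟨g, hg, _⟩ := h _ hk
      exact ⟨g, hext g v hg⟩

end aux

/-- Smooth morphisms descend along étale postcomposition. -/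
lemma smooth_of_comp_etale {X Y Z : Scheme.{u}} (a : X ⟶ Y) (f : Y ⟶ Z) [Etale f]
    [Smooth (a ≫ f)] : Smooth a := by
  haveI : MorphismProperty.IsMultiplicative @Smooth :=
    { (inferInstance : MorphismProperty.IsStableUnderComposition @Smooth) with
      id_mem := fun X => inferInstanceAs (Smooth (𝟙 X)) }
  have : MorphismProperty.HasOfPostcompProperty @Smooth @Etale := by
    rw [MorphismProperty.hasOfPostcompProperty_iff_le_diagonal]
    intro X Y f hf
    haveI : Etale f := hf
    exact inferInstanceAs <| Smooth (pullback.diagonal f)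
  exact MorphismProperty.of_postcomp (W := @Smooth) (W' := @Etale) a f ‹_› ‹_›

/-- Let T be a locally Noetherian scheme over a field of characteristic 0 and T₀ ⊆ T a
scheme-theoretically dense open. Let f : S → T be étale and such that S, viewed as a T-scheme, has
the Néron mapping property for T₀ ⊆ T, and let g : N → S be smooth and such that N, viewed as an
S-scheme, has the Néron mapping property for f⁻¹(T₀) ⊆ S (restriction of morphisms from smooth
schemes over the base is bijective). Then N → T, the composite g ≫ f, has the Néron mapping property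
for T₀ ⊆ T. (Case of schemes, with smooth test schemes, of a statement about algebraic spaces.) -/
theorem result {k : Type u} [Field k] [CharZero k] {T : Scheme.{u}} (τ : T ⟶ Spec (CommRingCat.of k)) [IsLocallyNoetherian T] (T₀ : T.Opens) (hT₀ : CInt.IsSchematicallyDense T₀)
    {S N : Scheme.{u}} (f : S ⟶ T) [Etale f] (g : N ⟶ S) [Smooth g]
    (hS : ∀ Z : Over T, Smooth Z.hom → Function.Bijective (fun g : Z ⟶ Over.mk f => (Over.pullback T₀.ι).map g))
    (hN : ∀ Z : Over S, Smooth Z.hom → Function.Bijective (fun g : Z ⟶ Over.mk g => (Over.pullback (f ⁻¹ᵁ T₀).ι).map g)) :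
    ∀ Z : Over T, Smooth Z.hom → Function.Bijective (fun g : Z ⟶ Over.mk (g ≫ f) => (Over.pullback T₀.ι).map g) := by
  intro Z hZ
  haveI : Smooth Z.hom := hZ
  rw [bij_iff_existsUnique]
  intro k hk
  change k ≫ g ≫ f = _ at hk
  -- Step 1: extend `k ≫ g` to `a : Z ⟶ S` over `T`
  obtain ⟨a, ha, ha_uniq⟩ := (bij_iff_existsUnique T₀.ι Z (Over.mk f)).1 (hS Z hZ) (k ≫ g)
    (by
      change (k ≫ g) ≫ f = _
      rw [Category.assoc, hk])
  have haw : a.left ≫ f = Z.hom := Over.w a
  haveI : Smooth (a.left ≫ f) := by rw [haw]; infer_instance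
  have hsm : Smooth a.left := smooth_of_comp_etale a.left f
  -- Step 2: compare the two open parts of `Z`
  have hrange : Set.range (pullback.fst a.left (f ⁻¹ᵁ T₀).ι) =
      Set.range (pullback.fst Z.hom T₀.ι) := by
    rw [Scheme.Pullback.range_fst, Scheme.Pullback.range_fst, ← haw]
    ext x
    simp
  let θ := IsOpenImmersion.isoOfRangeEq (pullback.fst a.left (f ⁻¹ᵁ T₀).ι)
    (pullback.fst Z.hom T₀.ι) hrange
  have hθ : θ.hom ≫ pullback.fst Z.hom T₀.ι = pullback.fst a.left (f ⁻¹ᵁ T₀).ι :=
    IsOpenImmersion.isoOfRangeEq_hom_fac _ _ _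
  -- Step 3: extend over `S`
  obtain ⟨b, hb, hb_uniq⟩ := (bij_iff_existsUnique (f ⁻¹ᵁ T₀).ι (Over.mk a.left) (Over.mk g)).1
    (hN (Over.mk a.left) hsm) (θ.hom ≫ k)
    (by
      change (θ.hom ≫ k) ≫ g = pullback.fst a.left _ ≫ a.left
      rw [Category.assoc, ← ha, ← Category.assoc, hθ])
  have hbw : b.left ≫ g = a.left := Over.w b
  refine ⟨Over.homMk b.left (by
    change b.left ≫ g ≫ f = Z.hom
    rw [← Category.assoc, hbw, haw]), ?_, ?_⟩
  · change pullback.fst Z.hom T₀.ι ≫ b.left = k
    have hb2 : θ.hom ≫ pullback.fst Z.hom T₀.ι ≫ b.left = θ.hom ≫ k := by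
      rw [← Category.assoc, hθ]
      exact hb
    exact (cancel_epi θ.hom).1 hb2
  · intro B hB
    have hBw : B.left ≫ g ≫ f = Z.hom := Over.w B
    have ha' : (Over.homMk (B.left ≫ g) (by
        change (B.left ≫ g) ≫ f = Z.hom
        rw [Category.assoc, hBw]) : Z ⟶ Over.mk f) = a := ha_uniq _ (by
      change pullback.fst Z.hom T₀.ι ≫ B.left ≫ g = k ≫ g
      rw [← Category.assoc, hB])
    have hBg : B.left ≫ g = a.left := congrArg (fun t => t.left) ha'
    have hb' : (Over.homMk B.left hBg : Over.mk a.left ⟶ Over.mk g) = b := hb_uniq _ (by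
      change pullback.fst a.left _ ≫ B.left = θ.hom ≫ k
      rw [← hθ, Category.assoc, hB])
    apply Over.OverMorphism.ext
    exact congrArg (fun t => t.left) hb'

end Groth.Agent.S13421
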