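import Groth.Statements.S13422
import Groth.Agent.Lib.QuasiSectionDense68
-- import your own Groth.Agent.* helpers here

set_option autoImplicit false
universe u
open CategoryTheory AlgebraicGeometry
open NeronHD

namespace Groth.Agent.S13422

/-- Let S be a locally Noetherian scheme over a field of characteristic 0, S₀ ⊆ S a scheme-theoretically
dense open, and N a smooth S-scheme with the weak Néron mapping property for S₀ ⊆ S: for every étale
S-scheme U, restriction to S₀ is a bijection from S-morphisms U → N onto S₀-morphisms U|S₀ → N|S₀.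
Then N has the uniqueness half of the Néron mapping property: for every smooth S-scheme Z,
restriction of S-morphisms Z → N to S₀ is injective. (Case of schemes of a statement about algebraic
spaces.) -/
theorem result {k : Type u} [Field k] [CharZero k] {S : Scheme.{u}} (σ : S ⟶ Spec (CommRingCat.of k)) [IsLocallyNoetherian S] (S₀ : S.Opens) (hS₀ : CInt.IsSchematicallyDense S₀)
    (N : Over S) [Smooth N.hom]
    (hN : ∀ U : Over S, Etale U.hom → Function.Bijective (fun g : U ⟶ N => (Over.pullback S₀.ι).map g))
    (Z : Over S) [Smooth Z.hom] :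
    Function.Injective (fun g : Z ⟶ N => (Over.pullback S₀.ι).map g) := by
  intro g₁ g₂ h
  simp only at h
  -- residue characteristics are zero
  have hchar : ∀ s : S, CharZero (S.residueField s) := by
    intro s
    let φ : CommRingCat.of k ⟶ S.residueField s := Spec.preimage (S.fromSpecResidueField s ≫ σ)
    exact charZero_of_injective_ringHom (f := φ.hom) φ.hom.injective
  -- the equalizer
  have hι : IsImmersion (Limits.equalizer.ι g₁.left g₂.left) := inferInstance
  have hfac : ∀ (U : Scheme.{u}) (u : U ⟶ Z.left), Etale (u ≫ Z.hom) →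
      Set.range u ⊆ Set.range (Limits.equalizer.ι g₁.left g₂.left) := by
    intro U u hét
    let u' : Over.mk (u ≫ Z.hom) ⟶ Z := Over.homMk u rfl
    have h1 : u' ≫ g₁ = u' ≫ g₂ := by
      apply (hN (Over.mk (u ≫ Z.hom)) hét).1
      simp only [Functor.map_comp, h]
    have h2 : u ≫ g₁.left = u ≫ g₂.left := congrArg (fun t => t.left) h1
    rintro _ ⟨x, rfl⟩
    refine ⟨Limits.equalizer.lift u h2 x, ?_⟩
    rw [← Scheme.Hom.comp_apply, Limits.equalizer.lift_ι]
  have hsurj := Groth.Agent.Lib.QuasiSectionDense68.surjective_of_quasiSections Z.hom hchar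
    (Limits.equalizer.ι g₁.left g₂.left) hfac
  -- the dense open part factors through the equalizer
  have hdomS : IsSchemeTheoreticallyDominant S₀.ι :=
    Groth.Agent.Lib.SchDense68.isSchemeTheoreticallyDominant_ι S₀ hS₀
  have hj : Limits.pullback.fst Z.hom S₀.ι ≫ g₁.left = Limits.pullback.fst Z.hom S₀.ι ≫ g₂.left := by
    have h1 : ((Over.pullback S₀.ι).map g₁).left ≫ Limits.pullback.fst N.hom S₀.ι =
        Limits.pullback.fst Z.hom S₀.ι ≫ g₁.left := Limits.pullback.lift_fst _ _ _
    have h2 : ((Over.pullback S₀.ι).map g₂).left ≫ Limits.pullback.fst N.hom S₀.ι =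
        Limits.pullback.fst Z.hom S₀.ι ≫ g₂.left := Limits.pullback.lift_fst _ _ _
    rw [← h1, ← h2, h]
  have hiso : IsIso (Limits.equalizer.ι g₁.left g₂.left) :=
    Groth.Agent.Lib.QuasiSectionDense68.isIso_of_surjective_of_fac _ hsurj
      (Limits.pullback.fst Z.hom S₀.ι) (Limits.equalizer.lift _ hj) (Limits.equalizer.lift_ι _ hj)
  apply Over.OverMorphism.ext
  exact Limits.eq_of_epi_equalizer

end Groth.Agent.S13422
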