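import Groth.Statements.S13427
-- import your own Groth.Agent.* helpers here

set_option autoImplicit false
universe u
open CategoryTheory AlgebraicGeometry
open NeronHD

namespace Groth.Agent.S13427

open CategoryTheory.Limits

section aux
variable {C : Type*} [Category C] [HasPullbacks C] {S S₀ : C} (i : S₀ ⟶ S)
  {G H : Over S} (f : G ⟶ H) (e : S ⟶ H.left) (he : e ≫ H.hom = 𝟙 S)

/-- The fibre of `f` over the section `e`, as an object over `S`. -/
noncomputable abbrev K : Over S := Over.mk (pullback.snd f.left e)

include he in
lemma fst_hom : pullback.fst f.left e ≫ G.hom = pullback.snd f.left e := by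
  rw [← Over.w f, ← Category.assoc, pullback.condition, Category.assoc, he, Category.comp_id]

/-- The inclusion of the fibre. -/
noncomputable def prG : K f e ⟶ G := Over.homMk (pullback.fst f.left e) (fst_hom f e he)

/-- The section `e` as a morphism from any object over `S`. -/
noncomputable def eps (Z : Over S) : Z ⟶ H := Over.homMk (Z.hom ≫ e) (by simp [he])

lemma prG_f : prG f e he ≫ f = eps e he (K f e) := by
  apply Over.OverMorphism.ext
  exact pullback.condition

lemma hom_ext_K {Z : Over S} (g g' : Z ⟶ K f e) (h1 : g ≫ prG f e he = g' ≫ prG f e he) :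
    g = g' := by
  apply Over.OverMorphism.ext
  apply pullback.hom_ext
  · exact congrArg (fun t => t.left) h1
  · exact (Over.w g).trans (Over.w g').symm

lemma map_prG_fst :
    ((Over.pullback i).map (prG f e he)).left ≫ pullback.fst G.hom i =
      pullback.fst (K f e).hom i ≫ pullback.fst f.left e :=
  pullback.lift_fst _ _ _

lemma hom_ext_FK {T : Over S₀} (a b : T ⟶ (Over.pullback i).obj (K f e))
    (h1 : a ≫ (Over.pullback i).map (prG f e he) = b ≫ (Over.pullback i).map (prG f e he)) :
    a = b := by
  have hw : a.left ≫ pullback.snd (K f e).hom i = b.left ≫ pullback.snd (K f e).hom i :=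
    (Over.w a).trans (Over.w b).symm
  apply Over.OverMorphism.ext
  apply pullback.hom_ext
  · apply pullback.hom_ext
    · have := congrArg (fun t => t.left ≫ pullback.fst G.hom i) h1
      simp only [Over.comp_left, Category.assoc] at this
      rw [map_prG_fst] at this
      simpa only [Category.assoc] using this
    · have c : pullback.fst (K f e).hom i ≫ pullback.snd f.left e =
          pullback.snd (K f e).hom i ≫ i := pullback.condition
      rw [Category.assoc, Category.assoc, c, ← Category.assoc, ← Category.assoc, hw]
  · exact hw

lemma map_eps {Z : Over S} (h : (Over.pullback i).obj Z ⟶ (Over.pullback i).obj (K f e)) :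
    (Over.pullback i).map (eps e he Z) = h ≫ (Over.pullback i).map (eps e he (K f e)) := by
  have hw : h.left ≫ pullback.snd (K f e).hom i = pullback.snd Z.hom i := Over.w h
  apply Over.OverMorphism.ext
  apply pullback.hom_ext
  · have e1 : ((Over.pullback i).map (eps e he Z)).left ≫ pullback.fst H.hom i =
        pullback.fst Z.hom i ≫ Z.hom ≫ e := pullback.lift_fst _ _ _
    have e2 : ((Over.pullback i).map (eps e he (K f e))).left ≫ pullback.fst H.hom i =
        pullback.fst (K f e).hom i ≫ (K f e).hom ≫ e := pullback.lift_fst _ _ _
    rw [e1, Over.comp_left, Category.assoc, e2]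
    have c1 : pullback.fst Z.hom i ≫ Z.hom = pullback.snd Z.hom i ≫ i := pullback.condition
    have c2 : pullback.fst (K f e).hom i ≫ (K f e).hom = pullback.snd (K f e).hom i ≫ i :=
      pullback.condition
    rw [← Category.assoc (pullback.fst Z.hom i), c1, ← Category.assoc (pullback.fst (K f e).hom i),
      c2, ← Category.assoc h.left, ← Category.assoc h.left, hw]
  · have e1 : ((Over.pullback i).map (eps e he Z)).left ≫ pullback.snd H.hom i =
        pullback.snd Z.hom i := pullback.lift_snd _ _ _
    have e2 : ((Over.pullback i).map (eps e he (K f e))).left ≫ pullback.snd H.hom i =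
        pullback.snd (K f e).hom i := pullback.lift_snd _ _ _
    rw [e1, Over.comp_left, Category.assoc, e2, hw]

include he in
lemma fibre_bij (Z : Over S)
    (hG : Function.Bijective (fun g : Z ⟶ G => (Over.pullback i).map g))
    (hH : Function.Bijective (fun g : Z ⟶ H => (Over.pullback i).map g)) :
    Function.Bijective (fun g : Z ⟶ K f e => (Over.pullback i).map g) := by
  constructor
  · intro g g' h
    simp only at h
    apply hom_ext_K f e he
    apply hG.1
    simp only [Functor.map_comp, h]
  · intro h
    obtain ⟨g1, hg1⟩ := hG.2 (h ≫ (Over.pullback i).map (prG f e he))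
    simp only at hg1
    have key : g1 ≫ f = eps e he Z := by
      apply hH.1
      simp only
      rw [Functor.map_comp, hg1, Category.assoc, ← Functor.map_comp, prG_f, map_eps i f e he h]
    have key' : g1.left ≫ f.left = Z.hom ≫ e := congrArg (fun t => t.left) key
    refine ⟨Over.homMk (pullback.lift g1.left Z.hom key') (pullback.lift_snd _ _ _), ?_⟩
    simp only
    apply hom_ext_FK i f e he
    rw [← Functor.map_comp, ← hg1]
    congr 1
    apply Over.OverMorphism.ext
    exact pullback.lift_fst _ _ _

end aux

/-- Let S be a locally Noetherian scheme over a field of characteristic 0, S₀ ⊆ S a scheme-theoretically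
dense open, and G, H smooth S-schemes with the Néron mapping property for S₀ ⊆ S (restriction to S₀
of S-morphisms from smooth S-schemes is bijective). Let f : G → H be an S-morphism and e : S → H a
section of H → S, and let K = G ×_H S be the fibre of f over e (the case in view: f a homomorphism
of smooth group schemes, e the unit, K the kernel, so that 1 → K → G → H is left exact). If K → S is
smooth, then K has the Néron mapping property for S₀ ⊆ S. (Case of schemes, with smooth test
schemes, of a statement about group algebraic spaces.) -/
theorem result {k : Type u} [Field k] [CharZero k] {S : Scheme.{u}} (σ : S ⟶ Spec (CommRingCat.of k)) [IsLocallyNoetherian S] (S₀ : S.Opens) (hS₀ : CInt.IsSchematicallyDense S₀)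
    (G H : Over S) [Smooth G.hom] [Smooth H.hom]
    (hG : ∀ Z : Over S, Smooth Z.hom → Function.Bijective (fun g : Z ⟶ G => (Over.pullback S₀.ι).map g))
    (hH : ∀ Z : Over S, Smooth Z.hom → Function.Bijective (fun g : Z ⟶ H => (Over.pullback S₀.ι).map g))
    (f : G ⟶ H) (e : S ⟶ H.left) (he : e ≫ H.hom = 𝟙 S)
    [Smooth (Limits.pullback.snd f.left e)] :
    ∀ Z : Over S, Smooth Z.hom → Function.Bijective (fun g : Z ⟶ Over.mk (Limits.pullback.snd f.left e) => (Over.pullback S₀.ι).map g) := by
  intro Z hZ
  exact fibre_bij S₀.ι f e he Z (hG Z hZ) (hH Z hZ)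

end Groth.Agent.S13427
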