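import Groth.Statements.S13428
import Groth.Agent.S0449
import Groth.Agent.Lib.SmoothDenseUnram68
import Groth.Agent.Lib.SchDense68
-- import your own Groth.Agent.* helpers here

set_option autoImplicit false
universe u
open CategoryTheory AlgebraicGeometry
open NeronHD

namespace Groth.Agent.S13428

open CategoryTheory.Limits

/-- If `S₀ ⊆ S` is an open with quasi-compact scheme-theoretically dominant inclusion, `N → S` is
smooth and étale over `S₀`, then `N → S` is étale. -/
theorem etale_of_smooth_of_etale_over_dense {S : Scheme.{u}} (S₀ : S.Opens)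
    [QuasiCompact S₀.ι] [IsSchemeTheoreticallyDominant S₀.ι] (N : Over S) [Smooth N.hom]
    [Etale ((Over.pullback S₀.ι).obj N).hom] : Etale N.hom := by
  have hsnd : Etale (pullback.snd N.hom S₀.ι) :=
    (inferInstance : Etale ((Over.pullback S₀.ι).obj N).hom)
  have hdom : IsDominant (pullback.fst N.hom S₀.ι) := inferInstance
  let U : N.left.Opens := (pullback.fst N.hom S₀.ι).opensRange
  have hU : Dense (U : Set N.left) := (pullback.fst N.hom S₀.ι).denseRange
  have hfU : FormallyUnramified (U.ι ≫ N.hom) := by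
    have h1 : U.ι = (pullback.fst N.hom S₀.ι).isoOpensRange.inv ≫ pullback.fst N.hom S₀.ι :=
      (Scheme.Hom.isoOpensRange_inv_comp _).symm
    rw [h1, Category.assoc, pullback.condition]
    infer_instance
  exact Groth.Agent.Lib.SmoothDenseUnram68.etale_of_smooth_of_dense N.hom U hU hfU

/-- If the base change of `φ : M ⟶ N` to the open `S₀ ⊆ S` is an isomorphism, then `φ` restricts to
an isomorphism over the open `N ×ₛ S₀ ⊆ N`. -/
theorem isIso_morphismRestrict_opensRange {S : Scheme.{u}} (S₀ : S.Opens) {M N : Over S}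
    (φ : M ⟶ N) [IsIso ((Over.pullback S₀.ι).map φ)] :
    IsIso (φ.left ∣_ (pullback.fst N.hom S₀.ι).opensRange) := by
  have hψ : IsIso ((Over.pullback S₀.ι).map φ).left :=
    inferInstanceAs (IsIso ((Over.forget _).map ((Over.pullback S₀.ι).map φ)))
  have hψ1 : ((Over.pullback S₀.ι).map φ).left ≫ pullback.fst N.hom S₀.ι =
      pullback.fst M.hom S₀.ι ≫ φ.left := by
    change pullback.lift _ _ _ ≫ _ = _
    rw [pullback.lift_fst]
  have hψ2 : ((Over.pullback S₀.ι).map φ).left ≫ pullback.snd N.hom S₀.ι =
      pullback.snd M.hom S₀.ι := by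
    change pullback.lift _ _ _ ≫ _ = _
    rw [pullback.lift_snd]
  have hpb : IsPullback ((Over.pullback S₀.ι).map φ).left (pullback.fst M.hom S₀.ι)
      (pullback.fst N.hom S₀.ι) φ.left := by
    refine IsPullback.of_right ?_ hψ1 (IsPullback.of_hasPullback N.hom S₀.ι).flip
    rw [hψ2, Over.w φ]
    exact (IsPullback.of_hasPullback M.hom S₀.ι).flip
  have e := morphismRestrictOpensRange φ.left (pullback.fst N.hom S₀.ι)
  have h1 : IsIso (pullback.snd φ.left (pullback.fst N.hom S₀.ι)) := by
    have h2 : hpb.flip.isoPullback.hom ≫ pullback.snd φ.left (pullback.fst N.hom S₀.ι) =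
        ((Over.pullback S₀.ι).map φ).left := hpb.flip.isoPullback_hom_snd
    have h3 : pullback.snd φ.left (pullback.fst N.hom S₀.ι) =
        hpb.flip.isoPullback.inv ≫ ((Over.pullback S₀.ι).map φ).left :=
      ((Iso.inv_comp_eq _).mpr h2.symm).symm
    rw [h3]
    infer_instance
  exact ((MorphismProperty.isomorphisms Scheme.{u}).arrow_mk_iso_iff e).mpr h1

theorem result {k : Type u} [Field k] [CharZero k] {S : Scheme.{u}} (σ : S ⟶ Spec (CommRingCat.of k)) [IsNoetherian S] (hS : Pi1.IsNormalScheme S) (S₀ : S.Opens) (hS₀ : CInt.IsSchematicallyDense S₀)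
    (N : Over S) [Smooth N.hom] [IsSeparated N.hom] [QuasiCompact N.hom]
    (hN : ∀ Z : Over S, Smooth Z.hom → Function.Bijective (fun g : Z ⟶ N => (Over.pullback S₀.ι).map g))
    [Etale ((Over.pullback S₀.ι).obj N).hom]
    (M : Over S) [Etale M.hom] [IsSeparated M.hom] [QuasiCompact M.hom]
    (φ : M ⟶ N) [IsIso ((Over.pullback S₀.ι).map φ)] :
    IsOpenImmersion φ.left := by
  have hdomS : IsSchemeTheoreticallyDominant S₀.ι :=
    Groth.Agent.Lib.SchDense68.isSchemeTheoreticallyDominant_ι S₀ hS₀
  have hNet : Etale N.hom := etale_of_smooth_of_etale_over_dense S₀ N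
  have hw : φ.left ≫ N.hom = M.hom := Over.w φ
  have hφet : Etale φ.left := by
    have : Etale (φ.left ≫ N.hom) := by rw [hw]; infer_instance
    exact Etale.of_comp φ.left N.hom
  have hφsep : IsSeparated φ.left := by
    have : IsSeparated (φ.left ≫ N.hom) := by rw [hw]; infer_instance
    exact IsSeparated.of_comp φ.left N.hom
  have hNnoeth : IsLocallyNoetherian N.left := LocallyOfFiniteType.isLocallyNoetherian N.hom
  let U : N.left.Opens := (pullback.fst N.hom S₀.ι).opensRange
  have hUι : U.ι = (pullback.fst N.hom S₀.ι).isoOpensRange.inv ≫ pullback.fst N.hom S₀.ι :=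
    (Scheme.Hom.isoOpensRange_inv_comp _).symm
  have hUdom : IsSchemeTheoreticallyDominant U.ι := by
    rw [hUι]; infer_instance
  have hUiso : IsIso (φ.left ∣_ U) := isIso_morphismRestrict_opensRange S₀ φ
  exact Groth.Agent.S0449.result φ.left U

end Groth.Agent.S13428
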