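import Groth.Statements.S13430
-- import your own Groth.Agent.* helpers here

set_option autoImplicit false
universe u
open CategoryTheory MonoidalCategory CartesianMonoidalCategory MonObj GrpObj AlgebraicGeometry
open NeronHD

namespace Groth.Agent.S13430

section cat

open CategoryTheory.Limits

variable {C D : Type*} [Category C] [Category D] [CartesianMonoidalCategory C] (F : C ⥤ D)
  [PreservesLimitsOfShape (Discrete WalkingPair) F]

/-- Morphisms into `F (A ⊗ B)` are determined by their composites with `F fst` and `F snd`. -/
lemma map_hom_ext {A B : C} {T : D} (a b : T ⟶ F.obj (A ⊗ B))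
    (h1 : a ≫ F.map (fst A B) = b ≫ F.map (fst A B))
    (h2 : a ≫ F.map (snd A B) = b ≫ F.map (snd A B)) : a = b := by
  have hl := isLimitOfPreserves F (tensorProductIsBinaryProduct A B)
  apply hl.hom_ext
  rintro ⟨⟨⟩⟩
  · exact h1
  · exact h2

/-- The mapping property passes to products. -/
lemma prod_bij (A B Z : C)
    (hA : Function.Bijective (fun g : Z ⟶ A => F.map g))
    (hB : Function.Bijective (fun g : Z ⟶ B => F.map g)) :
    Function.Bijective (fun g : Z ⟶ A ⊗ B => F.map g) := by
  constructor
  · intro g g' h
    simp only at h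
    apply CartesianMonoidalCategory.hom_ext
    · apply hA.1
      simp only [Functor.map_comp, h]
    · apply hB.1
      simp only [Functor.map_comp, h]
  · intro h
    obtain ⟨g1, hg1⟩ := hA.2 (h ≫ F.map (fst A B))
    obtain ⟨g2, hg2⟩ := hB.2 (h ≫ F.map (snd A B))
    simp only at hg1 hg2
    refine ⟨lift g1 g2, ?_⟩
    simp only
    apply map_hom_ext
    · rw [← F.map_comp, lift_fst, hg1]
    · rw [← F.map_comp, lift_snd, hg2]

omit [CartesianMonoidalCategory C] [PreservesLimitsOfShape (Discrete WalkingPair) F] in
/-- A morphism between two objects with the mapping property which `F` turns into an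
isomorphism is an isomorphism. -/
lemma isIso_of_bij {A B : C} (τ : A ⟶ B) [IsIso (F.map τ)]
    (hAB : Function.Bijective (fun g : B ⟶ A => F.map g))
    (hAA : Function.Injective (fun g : A ⟶ A => F.map g))
    (hBB : Function.Injective (fun g : B ⟶ B => F.map g)) : IsIso τ := by
  obtain ⟨σ, hσ⟩ := hAB.2 (inv (F.map τ))
  simp only at hσ
  refine ⟨⟨σ, ?_, ?_⟩⟩
  · apply hAA
    simp only [Functor.map_comp, hσ, IsIso.hom_inv_id]
    exact (F.map_id A).symm
  · apply hBB
    simp only [Functor.map_comp, hσ, IsIso.inv_hom_id]
    exact (F.map_id B).symm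

end cat

/-- The implication ⇐: let S be a locally Noetherian scheme over a field of characteristic 0 and S₀ ⊆ S
a scheme-theoretically dense open. Let G be a smooth group scheme over S and N a smooth S-scheme,
both with the Néron mapping property for S₀ ⊆ S (restriction to S₀ of S-morphisms from smooth
S-schemes is bijective), and let a be an action of G on N over S whose translation map G ×_S N → N
×_S N, (g, x) ↦ (g·x, x), restricts to an isomorphism over S₀, so that N|S₀ is a pseudo-torsor under
G|S₀ and a is the unique extension of that action. If N → S is surjective, then the translation map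
is an isomorphism: N is a pseudo-torsor under G over all of S (and then a torsor for the étale
topology, N → S being smooth and surjective). (Case of schemes of a statement about group algebraic
spaces; the converse 'torsor ⇒ surjective' presumes local triviality.) -/
theorem result {k : Type u} [Field k] [CharZero k] {S : Scheme.{u}} (σ : S ⟶ Spec (CommRingCat.of k)) [IsLocallyNoetherian S] (S₀ : S.Opens) (hS₀ : CInt.IsSchematicallyDense S₀)
    (G : Over S) [GrpObj G] [Smooth G.hom]
    (hG : ∀ Z : Over S, Smooth Z.hom → Function.Bijective (fun g : Z ⟶ G => (Over.pullback S₀.ι).map g))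
    (N : Over S) [Smooth N.hom] [Surjective N.hom]
    (hN : ∀ Z : Over S, Smooth Z.hom → Function.Bijective (fun g : Z ⟶ N => (Over.pullback S₀.ι).map g))
    (a : AlgGrp.Action G N)
    (h0 : IsIso ((Over.pullback S₀.ι).map (lift a.act (snd G N)))) :
    NonAbH1.IsPseudoTorsorSch a := by
  have hpres : Limits.PreservesLimitsOfShape (Discrete Limits.WalkingPair) (Over.pullback S₀.ι) :=
    (Over.mapPullbackAdj S₀.ι).rightAdjoint_preservesLimits.preservesLimitsOfShape
  have hGN : Smooth (G ⊗ N).hom := by
    rw [Over.tensorObj_hom]; infer_instance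
  have hNN : Smooth (N ⊗ N).hom := by
    rw [Over.tensorObj_hom]; infer_instance
  have bGN : ∀ Z : Over S, Smooth Z.hom →
      Function.Bijective (fun g : Z ⟶ G ⊗ N => (Over.pullback S₀.ι).map g) :=
    fun Z hZ => prod_bij (Over.pullback S₀.ι) G N Z (hG Z hZ) (hN Z hZ)
  have bNN : ∀ Z : Over S, Smooth Z.hom →
      Function.Bijective (fun g : Z ⟶ N ⊗ N => (Over.pullback S₀.ι).map g) :=
    fun Z hZ => prod_bij (Over.pullback S₀.ι) N N Z (hN Z hZ) (hN Z hZ)
  exact isIso_of_bij (Over.pullback S₀.ι) (lift a.act (snd G N)) (bGN _ hNN)
    (bGN _ hGN).1 (bNN _ hNN).1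

end Groth.Agent.S13430
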