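import Groth.Statements.S1344
import Groth.Agent.Lib.CMQF33l
import Groth.Agent.Lib.H30FibBC
import Groth.Agent.Lib.H86DimAt
import Groth.Agent.S9359

set_option autoImplicit false
universe u
open FlatMor

namespace Groth.Agent.S1344

open AlgebraicGeometry CategoryTheory Limits in
/-- Let f be locally of finite type between locally Noetherian schemes and Cohen–Macaulay at every
point. Then for every point x of the source with image y, the local dimension of the source at x
equals the local dimension of the target at y plus the local dimension at x of the fibre over y. -/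
theorem result {X Y : Scheme.{u}} (f : X ⟶ Y) [IsLocallyNoetherian X] [IsLocallyNoetherian Y] [LocallyOfFiniteType f]
    (hf : ∀ x : X, MoreMor.IsCMAt f x) (x : X) :
    FlatMor.localDim ↑X x = FlatMor.localDim ↑Y (f x) + FlatMor.fibreDimAt f x := by
  have hlfp : LocallyOfFinitePresentation f :=
    LocallyOfFinitePresentation.iff_locallyOfFiniteType.mpr inferInstance
  have hflat : Flat f := Flat.of_stalkMap f (fun x => (hf x).1)
  obtain ⟨n, U, hx, g, hg, hqf, hfl⟩ :=
    Groth.Agent.Lib.CMQF33.HasQFChart.exists_opens f x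
      (Groth.Agent.Lib.CMQF33.hasQFChart f x (hf x))
  have hconst : ∀ w : X, ∀ hw : w ∈ U, FlatMor.fibreDimAt f w = (n : WithBot ℕ∞) := fun w hw =>
    Groth.Agent.Lib.CMQF33.chart_dim_eq f w n U hw g hg (Flat.stalkMap g _)
  have hrel : Cyc.HasRelDim (U.ι ≫ f) n := by
    rw [Groth.Agent.Lib.H30FibBC.hasRelDim_iff]
    intro w
    rw [Groth.Agent.Lib.H56OpenDim.fibreDimAt_ι_comp f U w]
    exact hconst _ w.2
  have key := Groth.Agent.S9359.result (U.ι ≫ f) n hrel ⟨x, hx⟩
  rw [Groth.Agent.Lib.H86DimAt.localDim_eq_of_etale U.ι ⟨x, hx⟩] at key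
  rw [hconst x hx]
  exact key

end Groth.Agent.S1344
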