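import Groth.Statements.S13441
import Mathlib

set_option autoImplicit false
universe u
open W4c1hilbpn

namespace Groth.Agent.S13441

section Helpers

open MvPolynomial

/-- Monomials outside a monomial ideal of finite colength: any injective family of them is finite. -/
theorem finite_of_not_mem_exps {σ : Type*} {k : Type*} [Field k] (I : Ideal (MvPolynomial σ k))
    (hI : IsMonomial I) [Module.Finite k (MvPolynomial σ k ⧸ I)] {ι : Type*} (β : ι → (σ →₀ ℕ))
    (hβ : Function.Injective β) (hout : ∀ c, β c ∉ exps I) : Finite ι := by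
  classical
  have hli : LinearIndependent k
      (fun c : ι => Ideal.Quotient.mk I (monomial (β c) (1 : k))) := by
    rw [linearIndependent_iff']
    intro s g hg c hc
    by_contra hne
    have hmem : (∑ c ∈ s, monomial (β c) (g c)) ∈ I := by
      rw [← Ideal.Quotient.eq_zero_iff_mem, map_sum, ← hg]
      apply Finset.sum_congr rfl
      intro c' _
      change Ideal.Quotient.mkₐ k I _ = g c' • Ideal.Quotient.mkₐ k I _
      rw [← map_smul, smul_monomial, smul_eq_mul, mul_one]
    have hcoeff : coeff (β c) (∑ c ∈ s, monomial (β c) (g c)) = g c := by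
      rw [coeff_sum, Finset.sum_eq_single c]
      · rw [coeff_monomial, if_pos rfl]
      · intro c' _ hc'
        rw [coeff_monomial, if_neg (fun h => hc' (hβ h))]
      · intro h; exact absurd hc h
    have hsupp : β c ∈ (∑ c ∈ s, monomial (β c) (g c)).support := by
      rw [mem_support_iff, hcoeff]
      exact hne
    exact hout c (hI _ hmem _ hsupp)
  exact hli.finite_of_isNoetherian

theorem e3_zero (a b c : ℕ) : e3 a b c 0 = a := rfl
theorem e3_one (a b c : ℕ) : e3 a b c 1 = b := rfl
theorem e3_two (a b c : ℕ) : e3 a b c 2 = c := rfl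

theorem fin3_ext (f g : Fin 3 →₀ ℕ) (h0 : f 0 = g 0) (h1 : f 1 = g 1) (h2 : f 2 = g 2) : f = g := by
  ext t
  fin_cases t
  · exact h0
  · exact h1
  · exact h2

theorem e3_injective_right (a b : ℕ) : Function.Injective (fun c => e3 a b c) := by
  intro c c' h
  have := DFunLike.congr_fun h (2 : Fin 3)
  simpa only [e3_two] using this

theorem e3_injective_mid (a c : ℕ) : Function.Injective (fun b => e3 a b c) := by
  intro b b' h
  have := DFunLike.congr_fun h (1 : Fin 3)
  simpa only [e3_one] using this

end Helpers

open W4c1hilbpn in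
/-- Let k be an infinite field, S = k[x,y,z] with variables ordered x > y > z, and I a strongly stable
ideal of finite colength, with staircase numbers b^z_{i,j} = the number of c with x^i y^j z^c
outside I and b^y_{i,j} = the number of b with x^i y^b z^j outside I. Then b^z_{i+1,j} ≤ b^z_{i,j+1}
and b^y_{i+1,j} ≤ b^y_{i,j+1} for all i and j (equivalently the maximum of the two neighbouring
staircase numbers is the second one). -/
theorem result (k : Type u) [Field k] [Infinite k]
    (I : Ideal (MvPolynomial (Fin 3) k)) (hI : IsStronglyStable I) [Module.Finite k (MvPolynomial (Fin 3) k ⧸ I)] (i j : ℕ) :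
    stairZ I (i + 1) j ≤ stairZ I i (j + 1) ∧ stairY I (i + 1) j ≤ stairY I i (j + 1) := by
  constructor
  · have hfin : Finite {c : ℕ // e3 i (j + 1) c ∉ exps I} :=
      finite_of_not_mem_exps I hI.1 (fun c : {c : ℕ // e3 i (j + 1) c ∉ exps I} => e3 i (j + 1) c.1)
        (fun c c' h => Subtype.ext (e3_injective_right i (j + 1) h)) (fun c => c.2)
    unfold stairZ
    refine Nat.card_le_card_of_injective
      (fun c : {c : ℕ // e3 (i + 1) j c ∉ exps I} =>
        (⟨c.1, fun hmem => c.2 ?_⟩ : {c : ℕ // e3 i (j + 1) c ∉ exps I}))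
      (fun c c' h => Subtype.ext (by simpa using congrArg Subtype.val h))
    have h1 := hI.2 _ hmem 0 1 (by decide) (by rw [e3_one]; omega)
    convert h1 using 1
    apply fin3_ext
    · rw [Finsupp.add_apply, Finsupp.tsub_apply, e3_zero, e3_zero]
      simp
    · rw [Finsupp.add_apply, Finsupp.tsub_apply, e3_one, e3_one]
      simp
    · rw [Finsupp.add_apply, Finsupp.tsub_apply, e3_two, e3_two]
      simp
  · have hfin : Finite {b : ℕ // e3 i b (j + 1) ∉ exps I} :=
      finite_of_not_mem_exps I hI.1 (fun b : {b : ℕ // e3 i b (j + 1) ∉ exps I} => e3 i b.1 (j + 1))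
        (fun b b' h => Subtype.ext (e3_injective_mid i (j + 1) h)) (fun b => b.2)
    unfold stairY
    refine Nat.card_le_card_of_injective
      (fun b : {b : ℕ // e3 (i + 1) b j ∉ exps I} =>
        (⟨b.1, fun hmem => b.2 ?_⟩ : {b : ℕ // e3 i b (j + 1) ∉ exps I}))
      (fun b b' h => Subtype.ext (by simpa using congrArg Subtype.val h))
    have h1 := hI.2 _ hmem 0 2 (by decide) (by rw [e3_two]; omega)
    convert h1 using 1
    apply fin3_ext
    · rw [Finsupp.add_apply, Finsupp.tsub_apply, e3_zero, e3_zero]
      simp
    · rw [Finsupp.add_apply, Finsupp.tsub_apply, e3_one, e3_one]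
      simp
    · rw [Finsupp.add_apply, Finsupp.tsub_apply, e3_two, e3_two]
      simp

end Groth.Agent.S13441
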