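import Mathlib
import Groth.Statements.S13453

set_option autoImplicit false
universe u
open W4c1hilbpn

namespace Groth.Agent.S13453

section Helpers

open MvPolynomial

variable {k : Type u} [Field k]

theorem lemS {I : Ideal (MvPolynomial (Fin 3) k)} (hI : IsMonomial I)
    (p : MvPolynomial (Fin 2) k) (δ : Fin 3 →₀ ℕ) :
    rename Fin.succ p * monomial δ (1 : k) ∈ I ↔
      ∀ β ∈ p.support, β.mapDomain Fin.succ + δ ∈ exps I := by
  constructor
  · intro h β hβ
    apply hI _ h
    rw [mem_support_iff, coeff_mul_monomial, mul_one,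
      coeff_rename_mapDomain _ (Fin.succ_injective 2)]
    exact mem_support_iff.mp hβ
  · intro h
    have hp : rename Fin.succ p = ∑ β ∈ p.support, rename Fin.succ (monomial β (coeff β p)) := by
      conv_lhs => rw [← support_sum_monomial_coeff p]
      rw [map_sum]
    rw [hp, Finset.sum_mul]
    refine Ideal.sum_mem _ fun β hβ => ?_
    rw [rename_monomial, monomial_mul, mul_one]
    have := h β hβ
    have h2 : monomial (β.mapDomain Fin.succ + δ) (coeff β p)
        = C (coeff β p) * monomial (β.mapDomain Fin.succ + δ) (1 : k) := by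
      rw [C_mul_monomial, mul_one]
    rw [h2]
    exact Ideal.mul_mem_left _ _ this

theorem mem_slice {I : Ideal (MvPolynomial (Fin 3) k)} (hI : IsMonomial I)
    (p : MvPolynomial (Fin 2) k) (a : ℕ) :
    p ∈ sliceX I a ↔ ∀ β ∈ p.support, β.mapDomain Fin.succ + Finsupp.single 0 a ∈ exps I := by
  rw [← lemS hI]
  unfold sliceX
  rw [Ideal.mem_comap, Submodule.mem_colon_singleton, X_pow_eq_monomial]
  rfl

theorem monomial_mem_slice {I : Ideal (MvPolynomial (Fin 3) k)} (hI : IsMonomial I)
    (β : Fin 2 →₀ ℕ) (a : ℕ) :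
    monomial β (1 : k) ∈ sliceX I a ↔ β.mapDomain Fin.succ + Finsupp.single 0 a ∈ exps I := by
  classical
  rw [mem_slice hI, support_monomial, if_neg one_ne_zero]
  simp

theorem exch_eq (β : Fin 2 →₀ ℕ) (a : ℕ) (i j : Fin 2) :
    (β.mapDomain Fin.succ + Finsupp.single 0 a) - Finsupp.single j.succ 1 + Finsupp.single i.succ 1
      = (β - Finsupp.single j 1 + Finsupp.single i 1).mapDomain Fin.succ + Finsupp.single 0 a := by
  ext x
  refine Fin.cases ?_ (fun m => ?_) x
  · simp [Finsupp.mapDomain_of_notMem_range, Finsupp.single_apply, Fin.succ_ne_zero]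
  · simp [Finsupp.mapDomain_apply (Fin.succ_injective 2), Finsupp.single_apply, Fin.succ_ne_zero]

theorem exch_eq2 (β : Fin 2 →₀ ℕ) (a : ℕ) :
    ((β + Finsupp.single 0 1).mapDomain Fin.succ + Finsupp.single 0 a)
        - Finsupp.single 1 1 + Finsupp.single 0 1
      = β.mapDomain Fin.succ + Finsupp.single 0 (a + 1) := by
  ext x
  refine Fin.cases ?_ (fun m => ?_) x
  · simp [Finsupp.mapDomain_of_notMem_range, Finsupp.single_apply, Fin.succ_ne_zero]
  · have h1 : (1 : Fin 3) = Fin.succ (0 : Fin 2) := rfl
    rw [h1]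
    simp only [Finsupp.coe_add, Finsupp.coe_tsub, Pi.add_apply, Pi.sub_apply,
      Finsupp.mapDomain_apply (Fin.succ_injective 2), Finsupp.single_apply,
      (Fin.succ_injective 2).eq_iff]
    simp [(Fin.succ_ne_zero _).symm]

end Helpers

open W4c1hilbpn in
/-- Let k be an infinite field, S = k[x,y,z] with variables ordered x > y > z, and I a strongly stable
ideal of finite colength; write I_i for the ideal of polynomials f in k[y,z] with x^i f in I (so I
is the direct sum of the x^i I_i). Then each I_i is a strongly stable ideal of k[y,z] (with y > z)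
and the ideal quotient (I_i : y) is contained in I_{i+1}. -/
theorem result (k : Type u) [Field k] [Infinite k]
    (I : Ideal (MvPolynomial (Fin 3) k)) (hI : IsStronglyStable I) [Module.Finite k (MvPolynomial (Fin 3) k ⧸ I)] (i : ℕ) :
    IsStronglyStable (sliceX I i) ∧
      (sliceX I i).colon {(MvPolynomial.X 0 : MvPolynomial (Fin 2) k)} ≤ sliceX I (i + 1) := by
  have hm : IsMonomial (sliceX I i) := by
    intro p hp β hβ
    rw [monomial_mem_slice hI.1]
    exact (mem_slice hI.1 p i).mp hp β hβ
  refine ⟨⟨hm, ?_⟩, ?_⟩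
  · intro β hβ i' j' hij hpos
    have h1 : β.mapDomain Fin.succ + Finsupp.single 0 i ∈ exps I :=
      (monomial_mem_slice hI.1 β i).mp hβ
    have h2 := hI.2 _ h1 i'.succ j'.succ (Fin.succ_lt_succ_iff.mpr hij) (by
      simp [Finsupp.mapDomain_apply (Fin.succ_injective 2), Finsupp.single_apply,
        (Fin.succ_ne_zero _).symm]
      exact hpos)
    rw [exch_eq] at h2
    exact (monomial_mem_slice hI.1 _ i).mpr h2
  · intro p hp
    rw [Submodule.mem_colon_singleton, smul_eq_mul] at hp
    rw [mem_slice hI.1]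
    intro β hβ
    have h0 : β + Finsupp.single 0 1 ∈ (p * MvPolynomial.X 0).support := by
      rw [MvPolynomial.mem_support_iff, MvPolynomial.coeff_mul_X]
      exact MvPolynomial.mem_support_iff.mp hβ
    have h1 := (mem_slice hI.1 _ i).mp hp _ h0
    have h2 := hI.2 _ h1 0 1 (by decide) (by
      show 0 < (Finsupp.mapDomain Fin.succ (β + Finsupp.single 0 1) + Finsupp.single 0 i :
        Fin 3 →₀ ℕ) (Fin.succ (0 : Fin 2))
      rw [Finsupp.add_apply, Finsupp.mapDomain_apply (Fin.succ_injective 2), Finsupp.add_apply,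
        Finsupp.single_eq_same]
      omega)
    rw [exch_eq2] at h2
    exact h2

end Groth.Agent.S13453
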