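import Groth.Statements.S13455
import Mathlib.RingTheory.MvPolynomial.Ideal

set_option autoImplicit false
universe u
open W4c1hilbpn

namespace Groth.Agent.S13455

open MvPolynomial in
/-- exponent set of the left-hand side generators -/
def SI (n k0 e1 e2 : ℕ) : Set (Fin (n + 1) →₀ ℕ) :=
  {s | (∃ p q : Fin (n + 1), e1 ≤ p.val ∧ p.val ≤ e2 ∧ e1 ≤ q.val ∧ q.val ≤ e2 ∧
        s = Finsupp.single p 1 + Finsupp.single q 1) ∨
      (∃ p q m : Fin (n + 1), e1 ≤ p.val ∧ p.val < q.val ∧ q.val ≤ e2 ∧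
        m.val + k0 = n + 1 + q.val ∧ s = Finsupp.single p 1 + Finsupp.single m 1)}

/-- exponent set of the generators of the `j`-th component -/
def SJ (n k0 e1 e2 : ℕ) (j : Fin (n + 1)) : Set (Fin (n + 1) →₀ ℕ) :=
  {s | (∃ i : Fin (n + 1), e1 ≤ i.val ∧ i.val ≤ e2 ∧ i ≠ j ∧ s = Finsupp.single i 1) ∨
      s = Finsupp.single j 2 ∨
      (∃ q m : Fin (n + 1), j.val < q.val ∧ q.val ≤ e2 ∧ m.val + k0 = n + 1 + q.val ∧
        s = Finsupp.single m 1)}

open MvPolynomial in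
theorem lhs_eq (k : Type u) [Field k] (n k0 e1 e2 : ℕ) :
    ({f : MvPolynomial (Fin (n + 1)) k | ∃ p q : Fin (n + 1), e1 ≤ p.val ∧ p.val ≤ e2 ∧ e1 ≤ q.val ∧ q.val ≤ e2 ∧
        f = MvPolynomial.X p * MvPolynomial.X q} ∪
      {f : MvPolynomial (Fin (n + 1)) k | ∃ p q m : Fin (n + 1), e1 ≤ p.val ∧ p.val < q.val ∧ q.val ≤ e2 ∧
        m.val + k0 = n + 1 + q.val ∧ f = MvPolynomial.X p * MvPolynomial.X m}) =
    (fun s => monomial s (1 : k)) '' SI n k0 e1 e2 := by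
  have hX : ∀ a b : Fin (n + 1), (X a * X b : MvPolynomial (Fin (n + 1)) k) =
      monomial (Finsupp.single a 1 + Finsupp.single b 1) 1 := by
    intro a b
    simp [X, monomial_mul]
  ext f
  constructor
  · rintro (⟨p, q, h1, h2, h3, h4, rfl⟩ | ⟨p, q, m, h1, h2, h3, h4, rfl⟩)
    · exact ⟨_, Or.inl ⟨p, q, h1, h2, h3, h4, rfl⟩, (hX p q).symm⟩
    · exact ⟨_, Or.inr ⟨p, q, m, h1, h2, h3, h4, rfl⟩, (hX p m).symm⟩
  · rintro ⟨s, (⟨p, q, h1, h2, h3, h4, rfl⟩ | ⟨p, q, m, h1, h2, h3, h4, rfl⟩), rfl⟩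
    · exact Or.inl ⟨p, q, h1, h2, h3, h4, (hX p q).symm⟩
    · exact Or.inr ⟨p, q, m, h1, h2, h3, h4, (hX p m).symm⟩

open MvPolynomial in
theorem rhs_eq (k : Type u) [Field k] (n k0 e1 e2 : ℕ) (j : Fin (n + 1)) :
    ({f : MvPolynomial (Fin (n + 1)) k | ∃ i : Fin (n + 1), e1 ≤ i.val ∧ i.val ≤ e2 ∧ i ≠ j ∧ f = MvPolynomial.X i} ∪
        {MvPolynomial.X j ^ 2} ∪
        {f : MvPolynomial (Fin (n + 1)) k | ∃ q m : Fin (n + 1), j.val < q.val ∧ q.val ≤ e2 ∧ m.val + k0 = n + 1 + q.val ∧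
          f = MvPolynomial.X m}) =
    (fun s => monomial s (1 : k)) '' SJ n k0 e1 e2 j := by
  have hX2 : (X j ^ 2 : MvPolynomial (Fin (n + 1)) k) = monomial (Finsupp.single j 2) 1 :=
    X_pow_eq_monomial
  ext f
  constructor
  · rintro ((⟨i, h1, h2, h3, rfl⟩ | hf) | ⟨q, m, h1, h2, h3, rfl⟩)
    · exact ⟨_, Or.inl ⟨i, h1, h2, h3, rfl⟩, rfl⟩
    · rw [Set.mem_singleton_iff] at hf
      subst hf
      exact ⟨_, Or.inr (Or.inl rfl), hX2.symm⟩
    · exact ⟨_, Or.inr (Or.inr ⟨q, m, h1, h2, h3, rfl⟩), rfl⟩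
  · rintro ⟨s, (⟨i, h1, h2, h3, rfl⟩ | rfl | ⟨q, m, h1, h2, h3, rfl⟩), rfl⟩
    · exact Or.inl (Or.inl ⟨i, h1, h2, h3, rfl⟩)
    · exact Or.inl (Or.inr hX2.symm)
    · exact Or.inr ⟨q, m, h1, h2, h3, rfl⟩

/-- the combinatorial heart -/
theorem comb (n k0 e1 e2 : ℕ) (hk : 1 ≤ k0) (hn : 2 * k0 ≤ n + 1) (he : e1 ≤ e2) (he2 : e2 + 1 ≤ k0)
    (a : Fin (n + 1) →₀ ℕ) :
    (∃ s ∈ SI n k0 e1 e2, s ≤ a) ↔
      ∀ j : Fin (n + 1), e1 ≤ j.val ∧ j.val ≤ e2 → ∃ s ∈ SJ n k0 e1 e2 j, s ≤ a := by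
  classical
  have single_le : ∀ (i : Fin (n + 1)) (c : ℕ), Finsupp.single i c ≤ a ↔ c ≤ a i := by
    intro i c
    constructor
    · intro h
      simpa using h i
    · intro h x
      by_cases hx : x = i
      · subst hx; simpa using h
      · simp [Finsupp.single_apply, Ne.symm hx]
  have two_le : ∀ (p q : Fin (n + 1)), p ≠ q →
      (Finsupp.single p 1 + Finsupp.single q 1 ≤ a ↔ 1 ≤ a p ∧ 1 ≤ a q) := by
    intro p q hpq
    constructor
    · intro h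
      have hp := h p
      have hq := h q
      simp [Finsupp.single_apply, hpq, Ne.symm hpq] at hp hq
      exact ⟨hp, hq⟩
    · rintro ⟨hp, hq⟩ x
      by_cases hxp : x = p
      · subst hxp
        simp [Finsupp.single_apply, hpq, Ne.symm hpq]; exact hp
      · by_cases hxq : x = q
        · subst hxq
          simp [Finsupp.single_apply, hpq, Ne.symm hpq]; exact hq
        · simp [Finsupp.single_apply, Ne.symm hxp, Ne.symm hxq]
  have same_le : ∀ (p : Fin (n + 1)),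
      (Finsupp.single p 1 + Finsupp.single p 1 ≤ a ↔ 2 ≤ a p) := by
    intro p
    rw [← Finsupp.single_add]
    exact single_le p 2
  constructor
  · rintro ⟨s, (⟨p, q, h1, h2, h3, h4, rfl⟩ | ⟨p, q, m, h1, h2, h3, h4, rfl⟩), hsa⟩ j ⟨hj1, hj2⟩
    · by_cases hpq : p = q
      · subst hpq
        rw [same_le] at hsa
        by_cases hpj : p = j
        · subst hpj
          exact ⟨_, Or.inr (Or.inl rfl), (single_le _ _).2 hsa⟩
        · exact ⟨_, Or.inl ⟨p, h1, h2, hpj, rfl⟩, (single_le _ _).2 (by omega)⟩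
      · rw [two_le p q hpq] at hsa
        by_cases hpj : p = j
        · subst hpj
          exact ⟨_, Or.inl ⟨q, h3, h4, Ne.symm hpq, rfl⟩, (single_le _ _).2 hsa.2⟩
        · exact ⟨_, Or.inl ⟨p, h1, h2, hpj, rfl⟩, (single_le _ _).2 hsa.1⟩
    · have hpm : p ≠ m := by
        intro h
        have : p.val = m.val := by rw [h]
        omega
      rw [two_le p m hpm] at hsa
      by_cases hpj : p = j
      · subst hpj
        exact ⟨_, Or.inr (Or.inr ⟨q, m, h2, h3, h4, rfl⟩), (single_le _ _).2 hsa.2⟩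
      · exact ⟨_, Or.inl ⟨p, h1, by omega, hpj, rfl⟩, (single_le _ _).2 hsa.1⟩
  · intro H
    by_cases hex : ∃ p : Fin (n + 1), e1 ≤ p.val ∧ p.val ≤ e2 ∧ 1 ≤ a p
    · obtain ⟨p, hp1, hp2, hap⟩ := hex
      obtain ⟨s, (⟨i, h1, h2, h3, rfl⟩ | rfl | ⟨q, m, h1, h2, h3, rfl⟩), hsa⟩ := H p ⟨hp1, hp2⟩
      · refine ⟨_, Or.inl ⟨p, i, hp1, hp2, h1, h2, rfl⟩, ?_⟩
        rw [two_le p i (Ne.symm h3)]
        exact ⟨hap, (single_le _ _).1 hsa⟩
      · refine ⟨_, Or.inl ⟨p, p, hp1, hp2, hp1, hp2, rfl⟩, ?_⟩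
        rw [same_le]
        exact (single_le _ _).1 hsa
      · have hpm : p ≠ m := by
          intro h
          have : p.val = m.val := by rw [h]
          omega
        refine ⟨_, Or.inr ⟨p, q, m, hp1, h1, h2, h3, rfl⟩, ?_⟩
        rw [two_le p m hpm]
        exact ⟨hap, (single_le _ _).1 hsa⟩
    · exfalso
      have he2n : e2 < n + 1 := by omega
      obtain ⟨s, (⟨i, h1, h2, h3, rfl⟩ | rfl | ⟨q, m, h1, h2, h3, rfl⟩), hsa⟩ :=
        H ⟨e2, he2n⟩ ⟨he, le_refl _⟩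
      · exact hex ⟨i, h1, h2, (single_le _ _).1 hsa⟩
      · exact hex ⟨⟨e2, he2n⟩, he, le_refl _, by have := (single_le _ _).1 hsa; omega⟩
      · simp only at h1
        omega

/-- Let k be an algebraically closed field of characteristic different from 2, k0 ≥ 1 and n ≥ 2k0 - 1
natural numbers, S = k[x_0, ..., x_n], and e1 ≤ e2 ≤ k0 - 1. The ideal generated by all products x_p
x_q with e1 ≤ p, q ≤ e2 together with the products x_p x_{n-k0+1+q} for e1 ≤ p < q ≤ e2 is the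
intersection, over j from e1 to e2, of the ideals generated by the variables x_i with e1 ≤ i ≤ e2
and i ≠ j, the square x_j^2, and the variables x_{n-k0+1+q} for j < q ≤ e2 (a primary decomposition
of this monomial ideal). -/
theorem result (k : Type u) [Field k] [IsAlgClosed k] (hchar : ringChar k ≠ 2)
    (n k0 e1 e2 : ℕ) (hk : 1 ≤ k0) (hn : 2 * k0 ≤ n + 1) (he : e1 ≤ e2) (he2 : e2 + 1 ≤ k0) :
    Ideal.span ({f : MvPolynomial (Fin (n + 1)) k | ∃ p q : Fin (n + 1), e1 ≤ p.val ∧ p.val ≤ e2 ∧ e1 ≤ q.val ∧ q.val ≤ e2 ∧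
        f = MvPolynomial.X p * MvPolynomial.X q} ∪
      {f : MvPolynomial (Fin (n + 1)) k | ∃ p q m : Fin (n + 1), e1 ≤ p.val ∧ p.val < q.val ∧ q.val ≤ e2 ∧
        m.val + k0 = n + 1 + q.val ∧ f = MvPolynomial.X p * MvPolynomial.X m}) =
    ⨅ j : Fin (n + 1), ⨅ (_ : e1 ≤ j.val ∧ j.val ≤ e2),
      Ideal.span ({f : MvPolynomial (Fin (n + 1)) k | ∃ i : Fin (n + 1), e1 ≤ i.val ∧ i.val ≤ e2 ∧ i ≠ j ∧ f = MvPolynomial.X i} ∪
        {MvPolynomial.X j ^ 2} ∪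
        {f : MvPolynomial (Fin (n + 1)) k | ∃ q m : Fin (n + 1), j.val < q.val ∧ q.val ≤ e2 ∧ m.val + k0 = n + 1 + q.val ∧
          f = MvPolynomial.X m}) := by
  classical
  rw [lhs_eq]
  ext f
  rw [MvPolynomial.mem_ideal_span_monomial_image]
  simp only [Ideal.mem_iInf]
  constructor
  · intro H j hj
    rw [rhs_eq, MvPolynomial.mem_ideal_span_monomial_image]
    intro a ha
    exact (comb n k0 e1 e2 hk hn he he2 a).1 (H a ha) j hj
  · intro H a ha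
    rw [comb n k0 e1 e2 hk hn he he2 a]
    intro j hj
    have := H j hj
    rw [rhs_eq, MvPolynomial.mem_ideal_span_monomial_image] at this
    exact this a ha

end Groth.Agent.S13455
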