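import Groth.Statements.S5016
import Groth.Agent.Lib.OmegaDer81F
import Groth.Agent.Lib.H90OXModQcqs
import Groth.Agent.Lib.QCohBiproduct
import Groth.Agent.Lib.FormallySmoothHomAffine

set_option autoImplicit false
universe u
open CategoryTheory CategoryTheory.Limits AlgebraicGeometry TopologicalSpace
open Unram17

namespace Groth.Agent.S5016

open Groth.Agent.Lib.OmegaDer81 Groth.Agent.Lib.QCohStalk TensorProduct

/-- a morphism of modules which is injective on sections over a basis of opens is mono -/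
theorem mono_of_locally_injective {X : Scheme.{u}} {M N : X.Modules} (φ : M ⟶ N)
    (h : ∀ (W : X.Opens) (x : X), x ∈ W →
      ∃ U' : X.Opens, U' ≤ W ∧ x ∈ U' ∧ Function.Injective (φ.app U')) : Mono φ := by
  apply Groth.Agent.Lib.QCohBiproduct.mono_of_injective_app
  intro W
  rw [injective_iff_map_eq_zero]
  intro s hs
  choose U' hle hmem hinj using h W
  apply Groth.Agent.Lib.H90OXModQcqs.res_ext M W (fun x : W => U' x.1 x.2) (fun x => hle x.1 x.2)
    (fun x hx => Opens.mem_iSup.mpr ⟨⟨x, hx⟩, hmem x hx⟩)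
  intro x
  rw [res_zero]
  apply hinj x.1 x.2
  rw [map_zero, Groth.Agent.Lib.QCohBiproduct.hom_app_res, hs, res_zero]

section
variable {X Y S : Scheme.{u}} (g : Y ⟶ S) (f : X ⟶ Y)
    {ΩY : Y.Modules} (dY : OmegaSh.Der g ΩY) (hY : OmegaSh.IsUniversal dY)
    {ΩX : X.Modules} (dX : OmegaSh.Der (f ≫ g) ΩX) (hX : OmegaSh.IsUniversal dX)
    (c : (Scheme.Modules.pullback f).obj ΩY ⟶ ΩX) (hc : OmegaSh.IsDiffCompat f dY dX c)
    {V : S.Opens} {U : Y.Opens} {U' : X.Opens}
    (hV : IsAffineOpen V) (hU : IsAffineOpen U) (hU' : IsAffineOpen U')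
    (e : U ≤ g ⁻¹ᵁ V) (hUU' : U' ≤ f ⁻¹ᵁ U)

include hY hX hc hV hU hU' e in
set_option backward.isDefEq.respectTransparency false in
/-- on a chart: `c` is injective on sections if the ring map is formally smooth -/
theorem injective_app_of_formallySmooth
    (hfs : letI := (f.appLE U U' hUU').hom.toAlgebra
      Algebra.FormallySmooth Γ(Y, U) Γ(X, U')) :
    Function.Injective (c.app U') := by
  have e' : U' ≤ (f ≫ g) ⁻¹ᵁ V := fun x hx => e (hUU' hx)
  letI : Algebra Γ(S, V) Γ(Y, U) := (g.appLE V U e).hom.toAlgebra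
  letI : Algebra Γ(S, V) Γ(X, U') := ((f ≫ g).appLE V U' e').hom.toAlgebra
  letI : Algebra Γ(Y, U) Γ(X, U') := (f.appLE U U' hUU').hom.toAlgebra
  haveI : IsScalarTower Γ(S, V) Γ(Y, U) Γ(X, U') := .of_algebraMap_eq' (by
    change ((f ≫ g).appLE V U' e').hom = (f.appLE U U' hUU').hom.comp (g.appLE V U e).hom
    rw [← CommRingCat.hom_comp, Scheme.Hom.appLE_comp_appLE])
  haveI : Algebra.FormallySmooth Γ(Y, U) Γ(X, U') := hfs
  obtain ⟨κ, h1, -, h2, -⟩ := exists_chart_kappa f dY hY dX hX c hc hU hV hU' hV e e' hUU'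
  rw [h2]
  exact injective_lift_of_formallySmooth κ h1

end

/-- Let g : Y ⟶ S, h : X ⟶ S and f : X ⟶ Y with f ≫ g = h, and suppose f is formally smooth. Given
sheaves of differentials of Y over S and of X over S (universal derivations) and the canonical
compatible map c from the pullback of the former to the latter, c is a monomorphism of O_X-modules.
(The published statement also identifies the cokernel of this map with the sheaf of differentials of
X over Y and splits the sequence locally; this row states only that the map is injective.) -/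
theorem result {X Y S : Scheme.{u}} (g : Y ⟶ S) (h : X ⟶ S)
    (f : X ⟶ Y) (w : f ≫ g = h) (hf : MoreMor.IsFormallySmoothHom f)
    (ΩY : Y.Modules) (dY : OmegaSh.Der g ΩY) (hY : OmegaSh.IsUniversal dY)
    (ΩX : X.Modules) (dX : OmegaSh.Der h ΩX) (hX : OmegaSh.IsUniversal dX)
    (c : (Scheme.Modules.pullback f).obj ΩY ⟶ ΩX) (hc : OmegaSh.IsDiffCompat f dY dX c) :
    Mono c := by
  subst w
  apply mono_of_locally_injective
  intro W x hxW
  obtain ⟨_, ⟨V, hV, rfl⟩, hxV, -⟩ :=
    S.isBasis_affineOpens.exists_subset_of_mem_open (Set.mem_univ (g (f x))) isOpen_univ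
  obtain ⟨_, ⟨U, hU, rfl⟩, hxU, hUV⟩ :=
    Y.isBasis_affineOpens.exists_subset_of_mem_open (show f x ∈ g ⁻¹ᵁ V from hxV)
      (g ⁻¹ᵁ V).isOpen
  obtain ⟨_, ⟨U', hU', rfl⟩, hxU', hU'W⟩ :=
    X.isBasis_affineOpens.exists_subset_of_mem_open
      (show x ∈ f ⁻¹ᵁ U ⊓ W from ⟨hxU, hxW⟩) (f ⁻¹ᵁ U ⊓ W).isOpen
  have hUU' : U' ≤ f ⁻¹ᵁ U := fun y hy => (hU'W hy).1
  refine ⟨U', fun y hy => (hU'W hy).2, hxU', ?_⟩
  exact injective_app_of_formallySmooth g f dY hY dX hX c hc hV hU hU' hUV hUU'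
    (Groth.Agent.Lib.FormallySmoothHomAffine.formallySmooth_appLE f hf U' U hU' hU hUU')

end Groth.Agent.S5016
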