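import Groth.Statements.S13501
import Groth.Agent.Lib.TorsColim34
import Groth.Agent.Lib.EtConstrKer22

set_option autoImplicit false
universe u
open CategoryTheory CategoryTheory.Limits AlgebraicGeometry Opposite
open EtPBC

namespace Groth.Agent.S13501

/-- Let X be a quasi-compact and quasi-separated scheme and F a torsion abelian sheaf on X_et. If Hom(F,
-) commutes with filtered colimits (of shape any small filtered category in the universe of the
sheaf category's morphisms), then F is constructible. This is the converse of the compactness of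
constructible sheaves. -/
theorem result (X : Scheme.{u}) [CompactSpace X]
    [QuasiSeparatedSpace X] (F : EtCoh.Ab X) (hF : EtCoh.IsTorsion F)
    (hc : ∀ (J : Type (u + 1)) [SmallCategory J] [IsFiltered J],
      PreservesColimitsOfShape J (coyoneda.obj (op F))) :
    EtPBC.IsConstructible F := by
  obtain ⟨J, _, _, D, c, hcolim, hD, ⟨e⟩⟩ :=
    Groth.Agent.Lib.TorsColim34.exists_filtered_colimit F hF
  haveI := hc J
  have hc' : IsColimit ((coyoneda.obj (op F)).mapCocone c) := isColimitOfPreserves _ hcolim
  obtain ⟨j, s, hs⟩ := Types.jointly_surjective_of_isColimit hc' e.inv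
  have hs' : s ≫ c.ι.app j = e.inv := hs
  let r : D.obj j ⟶ F := c.ι.app j ≫ e.hom
  have hsr : s ≫ r = 𝟙 F := by
    show s ≫ c.ι.app j ≫ e.hom = 𝟙 F
    rw [← Category.assoc, hs', e.inv_hom_id]
  have h0 : s ≫ (𝟙 (D.obj j) - r ≫ s) = 0 := by
    rw [Preadditive.comp_sub, Category.comp_id, ← Category.assoc, hsr, Category.id_comp, sub_self]
  have hι : kernel.ι (𝟙 (D.obj j) - r ≫ s) ≫ r ≫ s = kernel.ι (𝟙 (D.obj j) - r ≫ s) := by
    have h := kernel.condition (𝟙 (D.obj j) - r ≫ s)
    rw [Preadditive.comp_sub, Category.comp_id, sub_eq_zero] at h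
    exact h.symm
  let i : F ≅ kernel (𝟙 (D.obj j) - r ≫ s) :=
    { hom := kernel.lift _ s h0
      inv := kernel.ι _ ≫ r
      hom_inv_id := by rw [← Category.assoc, kernel.lift_ι, hsr]
      inv_hom_id := by
        apply (cancel_mono (kernel.ι (𝟙 (D.obj j) - r ≫ s))).1
        simp only [Category.assoc, kernel.lift_ι, hι, Category.id_comp] }
  exact Groth.Agent.Lib.EtConstr22.isConstructible_of_iso i.symm
    (Groth.Agent.Lib.EtConstr22.isConstructible_ker_coker _ (hD j) (hD j)).1

end Groth.Agent.S13501
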