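import Groth.Statements.S13514
import Groth.Agent.Lib.FibSiteExact

set_option autoImplicit false
universe u
open CategoryTheory CategoryTheory.Limits Opposite Pseudofunctor.CoGrothendieck
open FibSite

namespace Groth.Agent.S13514

/-- Let `F` be a fibred site over a small category `𝒮` with small fibres (every inverse-image functor is
a morphism of sites) and let `i` be a final object of `𝒮`. Then the left adjoint `α_{i!}` of the
restriction of sheaves of sets from the total site to the fibre over `i` is left exact (it preserves
finite limits), so that the pair (`α_{i!}`, restriction) is a morphism of topoi from the total topos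
to the topos of the fibre. The continuity of the fibre inclusion and the existence of the left
adjoint are carried as instance hypotheses. -/
theorem result {𝒮 : Type u} [SmallCategory 𝒮]
    (F : Pseudofunctor (LocallyDiscrete 𝒮ᵒᵖ) Cat.{u, u}) (J : FibSite.Topologies F)
    (hF : FibSite.IsFibSite F J) (i : 𝒮) (hi : IsTerminal i)
    [(ι F i).IsContinuous (J i) (FibSite.totalTopology F J)]
    [((ι F i).sheafPushforwardContinuous (Type u) (J i) (FibSite.totalTopology F J)).IsRightAdjoint] :
    PreservesFiniteLimits (FibSite.extend F J (Type u) i) := by
  have hcont : ∀ S : 𝒮, (ι F S).IsContinuous (J S) (FibSite.totalTopology F J) :=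
    Groth.Agent.Lib.FibSiteCont.isContinuous_ι F J hF.isPreFibSite
  have hcocont : ∀ S : 𝒮, (ι F S).IsCocontinuous (J S) (FibSite.totalTopology F J) :=
    Groth.Agent.Lib.FibSiteTotal.isCocontinuous_ι F J hF.isPreFibSite
  have key : ∀ S : 𝒮, PreservesFiniteLimits
      (FibSite.extend F J (Type u) i ⋙ FibSite.restr F J (Type u) S) := by
    intro S
    obtain ⟨h1, h2, h3⟩ := hF (hi.from S)
    obtain ⟨e⟩ := Groth.Agent.Lib.FibSiteExact.nonempty_extend_restr_iso.{u} J (hi.from S)
      (fun f' => hi.hom_ext _ _)
    exact preservesFiniteLimits_of_natIso e.symm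
  constructor
  intro K _ _
  constructor
  intro D
  constructor
  intro c hc
  refine ⟨Groth.Agent.Lib.FibSiteExact.isLimitOfRestr J _ (fun S => ?_)⟩
  have h1 : PreservesLimitsOfShape K
      (FibSite.extend F J (Type u) i ⋙ FibSite.restr F J (Type u) S) :=
    (key S).preservesFiniteLimits K
  exact ((h1.preservesLimit (K := D)).preserves hc).some

end Groth.Agent.S13514
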