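import Groth.Statements.S13515
import Groth.Agent.Lib.FibSiteMap

set_option autoImplicit false
universe u
open CategoryTheory CategoryTheory.Limits Opposite Pseudofunctor.CoGrothendieck
open scoped CategoryTheory.Pseudofunctor.StrongTrans
open FibSite

namespace Groth.Agent.S13515

/-- Let `F` and `G` be fibred sites over a small category `𝒮` with small fibres and let `α : G ⟶ F` be a
strong transformation of pseudofunctors, i.e. a cartesian functor `∫ᶜ G ⥤ ∫ᶜ F` over `𝒮`, which is a
morphism of fibred sites: on each fibre the functor `α_S : G(S) ⥤ F(S)` is a morphism of sites from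
`(F(S), J S)` to `(G(S), K S)` (continuous, with left exact inverse image on sheaves of sets). Then
the induced functor between the total categories is a morphism of sites from the total site of `F`
to the total site of `G`: it is continuous for the total topologies and the inverse image of sheaves
of sets along it exists and is left exact. -/
theorem result {𝒮 : Type u} [SmallCategory 𝒮]
    (F G : Pseudofunctor (LocallyDiscrete 𝒮ᵒᵖ) Cat.{u, u}) (J : FibSite.Topologies F) (K : FibSite.Topologies G)
    (hF : FibSite.IsFibSite F J) (hG : FibSite.IsFibSite G K) (α : G ⟶ F)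
    (hα : ∀ S : 𝒮, ∃ (_ : (α.app ⟨op S⟩).toFunctor.IsContinuous (K S) (J S))
      (_ : ((α.app ⟨op S⟩).toFunctor.sheafPushforwardContinuous (Type u) (K S) (J S)).IsRightAdjoint),
      PreservesFiniteLimits ((α.app ⟨op S⟩).toFunctor.sheafPullback (Type u) (K S) (J S))) :
    ∃ (_ : (Pseudofunctor.CoGrothendieck.map α).IsContinuous
        (FibSite.totalTopology G K) (FibSite.totalTopology F J))
      (_ : ((Pseudofunctor.CoGrothendieck.map α).sheafPushforwardContinuous (Type u)
        (FibSite.totalTopology G K) (FibSite.totalTopology F J)).IsRightAdjoint),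
      PreservesFiniteLimits ((Pseudofunctor.CoGrothendieck.map α).sheafPullback (Type u)
        (FibSite.totalTopology G K) (FibSite.totalTopology F J)) := by
  have hcF : ∀ S : 𝒮, (ι F S).IsContinuous (J S) (FibSite.totalTopology F J) :=
    Groth.Agent.Lib.FibSiteCont.isContinuous_ι F J hF.isPreFibSite
  have hcG : ∀ S : 𝒮, (ι G S).IsContinuous (K S) (FibSite.totalTopology G K) :=
    Groth.Agent.Lib.FibSiteCont.isContinuous_ι G K hG.isPreFibSite
  have hccF : ∀ S : 𝒮, (ι F S).IsCocontinuous (J S) (FibSite.totalTopology F J) :=
    Groth.Agent.Lib.FibSiteTotal.isCocontinuous_ι F J hF.isPreFibSite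
  have hccG : ∀ S : 𝒮, (ι G S).IsCocontinuous (K S) (FibSite.totalTopology G K) :=
    Groth.Agent.Lib.FibSiteTotal.isCocontinuous_ι G K hG.isPreFibSite
  have hα1 : ∀ S : 𝒮, (α.app ⟨op S⟩).toFunctor.IsContinuous (K S) (J S) := fun S => (hα S).1
  have hM : (Pseudofunctor.CoGrothendieck.map α).IsContinuous
      (FibSite.totalTopology G K) (FibSite.totalTopology F J) :=
    Groth.Agent.Lib.FibSiteMap.isContinuous_map α J K hG.isPreFibSite hF.isPreFibSite hα1
  have hMadj : ((Pseudofunctor.CoGrothendieck.map α).sheafPushforwardContinuous (Type u)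
      (FibSite.totalTopology G K) (FibSite.totalTopology F J)).IsRightAdjoint := inferInstance
  refine ⟨hM, hMadj, ?_⟩
  have key : ∀ S : 𝒮, PreservesFiniteLimits
      ((Pseudofunctor.CoGrothendieck.map α).sheafPullback (Type u)
        (FibSite.totalTopology G K) (FibSite.totalTopology F J) ⋙ FibSite.restr F J (Type u) S) := by
    intro S
    obtain ⟨h1, h2, h3⟩ := hα S
    obtain ⟨e⟩ := Groth.Agent.Lib.FibSiteMap.nonempty_sheafPullback_restr_iso.{u} α J K S
    have h4 : PreservesFiniteLimits (FibSite.restr G K (Type u) S) := by
      have : (FibSite.restr G K (Type u) S).IsRightAdjoint :=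
        ((ι G S).sheafAdjunctionContinuous (Type u) (K S)
          (FibSite.totalTopology G K)).isRightAdjoint
      infer_instance
    have h5 : PreservesFiniteLimits (FibSite.restr G K (Type u) S ⋙
        (α.app ⟨op S⟩).toFunctor.sheafPullback (Type u) (K S) (J S)) :=
      comp_preservesFiniteLimits _ _
    exact preservesFiniteLimits_of_natIso e.symm
  constructor
  intro I _ _
  constructor
  intro D
  constructor
  intro c hc
  refine ⟨Groth.Agent.Lib.FibSiteExact.isLimitOfRestr J _ (fun S => ?_)⟩
  have h1 : PreservesLimitsOfShape I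
      ((Pseudofunctor.CoGrothendieck.map α).sheafPullback (Type u)
        (FibSite.totalTopology G K) (FibSite.totalTopology F J) ⋙ FibSite.restr F J (Type u) S) :=
    (key S).preservesFiniteLimits I
  exact ((h1.preservesLimit (K := D)).preserves hc).some

end Groth.Agent.S13515
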