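import Groth.Statements.S13532
import Groth.Agent.S1608
import Groth.Agent.Lib.H71GenericSmooth
import Groth.Agent.Lib.QFAt91

set_option autoImplicit false
universe u
open CategoryTheory CategoryTheory.Limits AlgebraicGeometry
open ResProp

namespace Groth.Agent.S13532


/-- A morphism of finite type between locally Noetherian schemes which is birational (an isomorphism
over a dense open of the target whose preimage is dense in the source) has finite fibres over all
points of the target of codimension at most 1, i.e. whose local ring has Krull dimension at most 1. -/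
theorem result {X Y : Scheme.{u}}
    [IsLocallyNoetherian X] [IsLocallyNoetherian Y] (f : Y ⟶ X) [LocallyOfFiniteType f] [QuasiCompact f]
    (U : X.Opens) (hU : Dense (U : Set X)) (hU' : Dense ((f ⁻¹ᵁ U : Y.Opens) : Set Y)) (hiso : IsIso (f ∣_ U))
    (x : X) (hx : ringKrullDim (X.presheaf.stalk x) ≤ 1) :
    (f.base ⁻¹' {x}).Finite := by
  -- quasi-finite at the generic points
  have hgen : ∀ Z ∈ irreducibleComponents (Y : Type u), ∀ η : Y, IsGenericPoint η Z →
      f.QuasiFiniteAt η := by
    intro Z hZ η hη
    have hmax : ∀ y : Y, y ⤳ η → y = η := by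
      intro y hy
      have h1 : closure ({η} : Set Y) ⊆ closure {y} := by
        rw [← specializes_iff_closure_subset]; exact hy
      rw [hη.def] at h1
      have h2 := hZ.2 isIrreducible_singleton.closure h1
      have h3 : η ⤳ y := by
        rw [specializes_iff_closure_subset, hη.def]; exact h2
      exact (hy.antisymm h3).eq
    have hηU : η ∈ ((f ⁻¹ᵁ U : Y.Opens) : Set Y) :=
      Groth.Agent.Lib.H71GenericSmooth.mem_of_dense_of_maximal_point _ (f ⁻¹ᵁ U).2 hU' η hmax
    rw [Groth.Agent.Lib.QFAt91.quasiFiniteAt_iff_isolated]
    refine ⟨_, (f ⁻¹ᵁ U).2, hηU, fun y hy hfy => ?_⟩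
    have hinj : Function.Injective (f ∣_ U).base := by
      have : IsIso (f ∣_ U).base := inferInstance
      exact ((TopCat.homeoOfIso (asIso (f ∣_ U).base)).injective)
    have := @hinj ⟨y, hy⟩ ⟨η, hηU⟩ (Subtype.ext (by simpa [morphismRestrict_base] using hfy))
    exact congrArg Subtype.val this
  -- quasi-finite at all points of the fibre
  have hqf : ∀ y : Y, f y = x → f.QuasiFiniteAt y := fun y hy =>
    Groth.Agent.S1608.result f x hx hgen y hy
  -- the fibre is compact and discrete
  haveI : CompactSpace (f.fiber x) := inferInstance
  haveI : DiscreteTopology (f.fiber x) := by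
    rw [discreteTopology_iff_isOpen_singleton]
    intro z
    have hz : f (f.fiberι x z) = x := by
      have : f.fiberι x z ∈ Set.range (f.fiberι x) := ⟨z, rfl⟩
      rw [f.range_fiberι x] at this
      exact this
    obtain ⟨O, hO, hzO, hOz⟩ :=
      (Groth.Agent.Lib.QFAt91.quasiFiniteAt_iff_isolated f (f.fiberι x z)).mp (hqf _ hz)
    have heq : ({z} : Set (f.fiber x)) = (f.fiberι x).base ⁻¹' O := by
      ext z'
      simp only [Set.mem_singleton_iff, Set.mem_preimage]
      constructor
      · rintro rfl; exact hzO
      · intro hz'
        have hz'x : f (f.fiberι x z') = x := by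
          have : f.fiberι x z' ∈ Set.range (f.fiberι x) := ⟨z', rfl⟩
          rw [f.range_fiberι x] at this
          exact this
        have := hOz _ hz' (hz'x.trans hz.symm)
        exact (f.fiberι x).isEmbedding.injective this
    rw [heq]
    exact hO.preimage (f.fiberι x).continuous
  have hfin : Finite (f.fiber x) := finite_of_compact_of_discrete
  exact (Set.finite_coe_iff.mp ((f.fiberHomeo x).toEquiv.finite_iff.mp hfin))

end Groth.Agent.S13532
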