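import Groth.Statements.S8267
import Groth.Agent.Lib.SymQCAlgUniq
import Groth.Agent.Lib.RelSpecLocal
import Groth.Agent.Lib.CohFinite
import Mathlib.AlgebraicGeometry.Morphisms.FiniteType

set_option autoImplicit false
universe u
open CategoryTheory CategoryTheory.Limits AlgebraicGeometry Opposite TopologicalSpace
open EGA2

namespace Groth.Agent.S8267

/-- The symmetric algebra of a finite module is an algebra of finite type. -/
theorem finiteType_symmetricAlgebra (R M : Type*) [CommRing R] [AddCommGroup M] [Module R M]
    [Module.Finite R M] : Algebra.FiniteType R (SymmetricAlgebra R M) := by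
  classical
  obtain ⟨s, hs⟩ := (Module.Finite.fg_top : (⊤ : Submodule R M).FG)
  refine ⟨⟨s.image (SymmetricAlgebra.ι R M), ?_⟩⟩
  rw [Finset.coe_image]
  rw [eq_top_iff]
  intro y _
  induction y using SymmetricAlgebra.induction with
  | algebraMap r => exact Subalgebra.algebraMap_mem _ r
  | ι x =>
    have hx : x ∈ Submodule.span R (s : Set M) := by rw [hs]; trivial
    have h1 : SymmetricAlgebra.ι R M x ∈ Submodule.span R (SymmetricAlgebra.ι R M '' (s : Set M)) := by
      rw [← Submodule.map_span]; exact Submodule.mem_map_of_mem hx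
    have h2 : Submodule.span R (SymmetricAlgebra.ι R M '' (s : Set M)) ≤
        Subalgebra.toSubmodule (Algebra.adjoin R (SymmetricAlgebra.ι R M '' (s : Set M))) :=
      Submodule.span_le.mpr Algebra.subset_adjoin
    have h3 := h2 h1
    simpa using h3
  | mul a b ha hb => exact Subalgebra.mul_mem _ (ha trivial) (hb trivial)
  | add a b ha hb => exact Subalgebra.add_mem _ (ha trivial) (hb trivial)


/-- Let E be a quasi-coherent O_S-module of finite type and A (through j : E → A) its symmetric algebra.
Then the vector bundle V(E) = Spec(A) is of finite type over S, i.e. its (affine) structure morphism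
is locally of finite type. -/
theorem result {S : Scheme.{u}} (E : S.Modules) (hE : Coh.IsCoh E)
    (A : RelSpec.QCAlg S) (j : E ⟶ A.toModule) (hA : RelSpec.IsSymAlg E A j) :
    LocallyOfFiniteType A.π := by
  haveI : E.IsQuasicoherent := hE.1
  refine Groth.Agent.Lib.RelSpecLocal.π_of_forall (P := @LocallyOfFiniteType)
    (fun f _ => inferInstance) A fun U hU => ?_
  rw [HasRingHomProperty.Spec_iff (P := @LocallyOfFiniteType)]
  obtain ⟨e, he, -⟩ := Groth.Agent.Lib.SymQCAlg.exists_ringEquiv E A j hA U hU
  haveI : Module.Finite Γ(S, U) Γ(E, U) := Groth.Agent.Lib.CohFinite.finite_sections_of_isCoh E hE hU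
  have h1 : (algebraMap Γ(S, U) (SymmetricAlgebra Γ(S, U) Γ(E, U))).FiniteType :=
    RingHom.finiteType_algebraMap.mpr (finiteType_symmetricAlgebra _ _)
  have h2 : (e.symm.toRingHom).FiniteType := RingHom.FiniteType.of_surjective _ e.symm.surjective
  have h3 : (A.str.app (op U)).hom =
      e.symm.toRingHom.comp (algebraMap Γ(S, U) (SymmetricAlgebra Γ(S, U) Γ(E, U))) := by
    ext a
    change (A.str.app (op U)).hom a = e.symm (algebraMap _ _ a)
    rw [← he a, e.symm_apply_apply]
  rw [h3]
  exact h2.comp h1

end Groth.Agent.S8267
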