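import Groth.Statements.S8268
import Groth.Agent.Lib.SymQCAlgUniq
import Groth.Agent.Lib.RelSpecLocal
import Groth.Agent.Lib.H90OXModExact
import Mathlib.AlgebraicGeometry.Morphisms.ClosedImmersion

set_option autoImplicit false
universe u
open CategoryTheory CategoryTheory.Limits AlgebraicGeometry Opposite TopologicalSpace
open EGA2

namespace Groth.Agent.S8268

/-- `Sym(f)` is surjective when `f` is. -/
theorem surjective_symLift {R M N : Type*} [CommRing R] [AddCommGroup M] [Module R M]
    [AddCommGroup N] [Module R N] (f : M →ₗ[R] N) (hf : Function.Surjective f) :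
    Function.Surjective (SymmetricAlgebra.lift ((SymmetricAlgebra.ι R N).comp f)) := by
  intro y
  induction y using SymmetricAlgebra.induction with
  | algebraMap r => exact ⟨algebraMap _ _ r, by simp⟩
  | ι x =>
    obtain ⟨m, rfl⟩ := hf x
    exact ⟨SymmetricAlgebra.ι R M m, by simp⟩
  | mul a b ha hb =>
    obtain ⟨a', rfl⟩ := ha
    obtain ⟨b', rfl⟩ := hb
    exact ⟨a' * b', map_mul _ _ _⟩
  | add a b ha hb =>
    obtain ⟨a', rfl⟩ := ha
    obtain ⟨b', rfl⟩ := hb
    exact ⟨a' + b', map_add _ _ _⟩

/-- A surjective homomorphism E → F of quasi-coherent O_S-modules induces a closed immersion V(F) → V(E)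
of the associated vector bundles (relative spectra of the symmetric algebras; the algebra map A → B
is the one extending E → F). -/
theorem result {S : Scheme.{u}} (E F : S.Modules) (hE : Coh.IsQCoh E)
    (hF : Coh.IsQCoh F) (u : E ⟶ F) [Epi u]
    (A B : RelSpec.QCAlg S) (j : E ⟶ A.toModule) (k : F ⟶ B.toModule)
    (hA : RelSpec.IsSymAlg E A j) (hB : RelSpec.IsSymAlg F B k)
    (ψ : A ⟶ B) (hψ : j ≫ RelSpec.QCAlg.Hom.toModuleMap ψ = u ≫ k) :
    IsClosedImmersion (RelSpec.QCAlg.specMap ψ) := by
  haveI : E.IsQuasicoherent := hE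
  haveI : F.IsQuasicoherent := hF
  refine Groth.Agent.Lib.RelSpecLocal.specMap_of_forall (P := @IsClosedImmersion) ψ fun U hU => ?_
  refine IsClosedImmersion.spec_of_surjective _ ?_
  obtain ⟨eA, heA, heA'⟩ := Groth.Agent.Lib.SymQCAlg.exists_ringEquiv E A j hA U hU
  obtain ⟨eB, heB, heB'⟩ := Groth.Agent.Lib.SymQCAlg.exists_ringEquiv F B k hB U hU
  -- the linear map `u(U)`
  let uU : Γ(E, U) →ₗ[Γ(S, U)] Γ(F, U) :=
    { toFun := fun x => u.app U x
      map_add' := fun x y => map_add _ x y
      map_smul' := fun r x => Scheme.Modules.Hom.app_smul u r x }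
  have huU : Function.Surjective uU := Groth.Agent.Lib.H90OXModExact.surjective_app_of_epi u hU
  let T := SymmetricAlgebra.lift ((SymmetricAlgebra.ι Γ(S, U) Γ(F, U)).comp uU)
  have hT : Function.Surjective T := surjective_symLift uU huU
  -- `eB ∘ ψ_U = T ∘ eA`
  have key : (eB.toRingHom.comp (ψ.hom.app (op U)).hom).comp eA.symm.toRingHom = T.toRingHom := by
    refine Groth.Agent.Lib.SymAlgLoc.ringHom_ext ?_ ?_
    · intro a
      change eB ((ψ.hom.app (op U)).hom (eA.symm (algebraMap _ _ a))) = T (algebraMap _ _ a)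
      have h0 : eA.symm (algebraMap _ _ a) = (A.str.app (op U)).hom a := by
        rw [← heA a, eA.symm_apply_apply]
      rw [h0]
      have hc : (ψ.hom.app (op U)).hom ((A.str.app (op U)).hom a) = (B.str.app (op U)).hom a :=
        congr($(NatTrans.congr_app ψ.comm (op U)) a)
      rw [hc, heB a, AlgHom.commutes]
    · intro x
      change eB ((ψ.hom.app (op U)).hom (eA.symm (SymmetricAlgebra.ι _ _ x))) = T (SymmetricAlgebra.ι _ _ x)
      have h0 : eA.symm (SymmetricAlgebra.ι _ _ x) = (show A.presheaf.obj (op U) from j.app U x) := by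
        rw [← heA' x, eA.symm_apply_apply]
      rw [h0, ← Groth.Agent.Lib.SymQCAlg.toModuleMap_app]
      have hj : (show B.presheaf.obj (op U) from
          (RelSpec.QCAlg.Hom.toModuleMap ψ).app U (j.app U x)) =
          (show B.presheaf.obj (op U) from k.app U (u.app U x)) := by
        change (show B.presheaf.obj (op U) from (j ≫ RelSpec.QCAlg.Hom.toModuleMap ψ).app U x) = _
        rw [hψ]; rfl
      rw [hj, heB' (u.app U x)]
      simp [T, uU]
  intro b
  obtain ⟨t, ht⟩ := hT (eB b)
  refine ⟨eA.symm t, ?_⟩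
  apply eB.injective
  rw [← ht]
  exact congr($key t)

end Groth.Agent.S8268
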