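import Groth.Statements.S9380
import Groth.Agent.Lib.AffAlgH3
import Groth.Agent.S8255

set_option autoImplicit false
universe u
open QAff

namespace Groth.Agent.S9380

section helpers

open AlgebraicGeometry CategoryTheory Opposite TopologicalSpace Groth.Agent.Lib.AffAlgH3

variable {X S : Scheme.{u}} (f : X ⟶ S) [QuasiCompact f] [QuasiSeparated f]

/-- The canonical morphism exists (by the bijection for the affine morphism `π`). -/
theorem exists_canonical :
    ∃ (c : X ⟶ (RelSpec.QCAlg.directImage f).spec) (e : c ≫ (RelSpec.QCAlg.directImage f).π = f),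
      (RelSpec.QCAlg.directImage f).gammaMap =
        AffAlg.algHom (RelSpec.QCAlg.directImage f).π f c e := by
  obtain ⟨⟨c, e⟩, hc⟩ := algOf_surjective (RelSpec.QCAlg.directImage f).π f
    ⟨(RelSpec.QCAlg.directImage f).gammaMap, (RelSpec.QCAlg.directImage f).π_c_gammaMap⟩
  exact ⟨c, e, (congrArg Subtype.val hc).symm⟩

/-- Over an affine open `V`, the canonical morphism restricted to `f⁻¹V` is `toSpecΓ` followed by an
isomorphism and an open immersion. -/
theorem ι_comp_canonical (c : X ⟶ (RelSpec.QCAlg.directImage f).spec)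
    (e : c ≫ (RelSpec.QCAlg.directImage f).π = f)
    (hc : (RelSpec.QCAlg.directImage f).gammaMap =
      AffAlg.algHom (RelSpec.QCAlg.directImage f).π f c e)
    (V : S.Opens) (hV : IsAffineOpen V) :
    (f ⁻¹ᵁ V).ι ≫ c = (f ⁻¹ᵁ V).toSpecΓ ≫
      Spec.map ((RelSpec.QCAlg.directImage f).gammaAff V hV) ≫
        (hV.preimage (RelSpec.QCAlg.directImage f).π).fromSpec := by
  rw [ι_comp_eq c (hV.preimage (RelSpec.QCAlg.directImage f).π) (f ⁻¹ᵁ V)
    (preimage_le (RelSpec.QCAlg.directImage f).π f c e V),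
    ← algHom_app (RelSpec.QCAlg.directImage f).π f c e V, ← hc,
    (RelSpec.QCAlg.directImage f).gammaMap_app V hV]

theorem isOpenImmersion_ι_comp (c : X ⟶ (RelSpec.QCAlg.directImage f).spec)
    (e : c ≫ (RelSpec.QCAlg.directImage f).π = f)
    (hc : (RelSpec.QCAlg.directImage f).gammaMap =
      AffAlg.algHom (RelSpec.QCAlg.directImage f).π f c e)
    (V : S.Opens) (hV : IsAffineOpen V) (hq : Scheme.IsQuasiAffine (f ⁻¹ᵁ V : Scheme.{u})) :
    ∀ V' : X.Opens, V' = f ⁻¹ᵁ V → IsOpenImmersion (V'.ι ≫ c) := by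
  rintro _ rfl
  rw [ι_comp_canonical f c e hc V hV]
  have h1 : IsOpenImmersion (f ⁻¹ᵁ V).toSpecΓ := by
    unfold Scheme.Opens.toSpecΓ
    infer_instance
  have h2 : IsIso ((RelSpec.QCAlg.directImage f).gammaAff V hV) :=
    Groth.Agent.S8255.isIso_gammaAff _ V hV
  have h3 : IsOpenImmersion (hV.preimage (RelSpec.QCAlg.directImage f).π).fromSpec :=
    (hV.preimage (RelSpec.QCAlg.directImage f).π).isOpenImmersion_fromSpec
  have h4 : IsIso (Spec.map ((RelSpec.QCAlg.directImage f).gammaAff V hV)) := inferInstance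
  have h5 : IsOpenImmersion (Spec.map ((RelSpec.QCAlg.directImage f).gammaAff V hV) ≫
      (hV.preimage (RelSpec.QCAlg.directImage f).π).fromSpec) := inferInstance
  exact MorphismProperty.comp_mem _ _ _ h1 h5

set_option backward.isDefEq.respectTransparency.types false in
theorem quasiCompact_of_forall {X Y : Scheme.{u}} (c : X ⟶ Y) {ι : Type u} (U : ι → Y.affineOpens)
    (hU : ⨆ i, (U i : Y.Opens) = ⊤) (h : ∀ i, CompactSpace ↥(c ⁻¹ᵁ (U i).1)) : QuasiCompact c := by
  refine (HasAffineProperty.iff_of_iSup_eq_top (P := @QuasiCompact) U hU).mpr fun i => ?_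
  exact h i

end helpers

open AlgebraicGeometry CategoryTheory in
/-- A quasi-compact quasi-separated morphism f : X → S is quasi-affine if and only if the canonical
S-morphism X → Spec_S(f_*O_X) (the one inducing the comparison map on direct-image algebras) exists
as a quasi-compact open immersion. -/
theorem result {X S : Scheme.{u}} (f : X ⟶ S) [QuasiCompact f] [QuasiSeparated f] :
    MoreMor.IsQuasiAffineHom f ↔
      ∃ (c : X ⟶ (RelSpec.QCAlg.directImage f).spec) (e : c ≫ (RelSpec.QCAlg.directImage f).π = f),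
        (RelSpec.QCAlg.directImage f).gammaMap = AffAlg.algHom (RelSpec.QCAlg.directImage f).π f c e ∧
          QuasiCompact c ∧ IsOpenImmersion c := by
  constructor
  · rintro ⟨-, hqa⟩
    obtain ⟨c, e, hc⟩ := exists_canonical f
    have hpre : ∀ V : S.Opens, c ⁻¹ᵁ ((RelSpec.QCAlg.directImage f).π ⁻¹ᵁ V) = f ⁻¹ᵁ V := by
      intro V
      rw [← Scheme.Hom.comp_preimage, e]
    refine ⟨c, e, hc, ?_, ?_⟩
    · refine quasiCompact_of_forall c
        (fun V : S.affineOpens => (⟨(RelSpec.QCAlg.directImage f).π ⁻¹ᵁ V.1,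
          V.2.preimage (RelSpec.QCAlg.directImage f).π⟩ :
            (RelSpec.QCAlg.directImage f).spec.affineOpens))
        (Groth.Agent.Lib.AffAlgH3.iSup_preimage_affineOpens (RelSpec.QCAlg.directImage f).π)
          fun V => ?_
      show CompactSpace ↥(c ⁻¹ᵁ ((RelSpec.QCAlg.directImage f).π ⁻¹ᵁ V.1))
      rw [hpre]
      exact isCompact_iff_compactSpace.mp (f.isCompact_preimage V.2.isCompact)
    · refine IsZariskiLocalAtTarget.of_iSup_eq_top (P := @IsOpenImmersion)
        (fun V : S.affineOpens => (RelSpec.QCAlg.directImage f).π ⁻¹ᵁ V.1)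
        (Groth.Agent.Lib.AffAlgH3.iSup_preimage_affineOpens (RelSpec.QCAlg.directImage f).π)
          fun V => ?_
      have h1 : IsOpenImmersion
          ((c ⁻¹ᵁ ((RelSpec.QCAlg.directImage f).π ⁻¹ᵁ V.1)).ι ≫ c) :=
        isOpenImmersion_ι_comp f c e hc V.1 V.2 (hqa V.1 V.2) _ (hpre V.1)
      have h2 : IsOpenImmersion ((c ∣_ ((RelSpec.QCAlg.directImage f).π ⁻¹ᵁ V.1)) ≫
          ((RelSpec.QCAlg.directImage f).π ⁻¹ᵁ V.1).ι) := by
        rw [morphismRestrict_ι]; exact h1
      exact IsOpenImmersion.of_comp _ ((RelSpec.QCAlg.directImage f).π ⁻¹ᵁ V.1).ι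
  · rintro ⟨c, e, -, -, hc⟩
    refine ⟨inferInstance, fun V hV => ?_⟩
    have hW : IsAffineOpen ((RelSpec.QCAlg.directImage f).π ⁻¹ᵁ V) :=
      hV.preimage (RelSpec.QCAlg.directImage f).π
    have : IsAffine ((RelSpec.QCAlg.directImage f).π ⁻¹ᵁ V : Scheme.{u}) := hW
    have : CompactSpace ↥(f ⁻¹ᵁ V : Scheme.{u}) :=
      isCompact_iff_compactSpace.mp (f.isCompact_preimage hV.isCompact)
    have hle : f ⁻¹ᵁ V ≤ c ⁻¹ᵁ ((RelSpec.QCAlg.directImage f).π ⁻¹ᵁ V) := by
      rw [← Scheme.Hom.comp_preimage, e]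
    exact Scheme.IsQuasiAffine.of_isImmersion
      (c.resLE ((RelSpec.QCAlg.directImage f).π ⁻¹ᵁ V) (f ⁻¹ᵁ V) hle)

end Groth.Agent.S9380
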