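import Groth.Statements.S8269
import Mathlib
import Groth.Agent.S4353
import Groth.Agent.S4354
import Groth.Agent.S9380
import Groth.Agent.S8255
import Groth.Agent.Lib.SymQCAlg
import Groth.Agent.Lib.RelSpecLocal

set_option autoImplicit false
universe u
open CategoryTheory CategoryTheory.Limits AlgebraicGeometry Opposite TopologicalSpace
open EGA2

namespace Groth.Agent.S8269

section helpers

open Groth.Agent.Lib.SymQCAlg

variable {X Y : Scheme.{u}}

/-- the direct-image algebra of a morphism locally of finite type is of finite type over affine opens -/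
theorem finiteType_directImage (f : X ⟶ Y) [IsAffineHom f] [LocallyOfFiniteType f] (U : Y.affineOpens) :
    ((RelSpec.QCAlg.directImage f).str.app (op (U : Y.Opens))).hom.FiniteType := by
  have h := LocallyOfFiniteType.finiteType_appLE (f := f) U.2 (U.2.preimage f) le_rfl
  rwa [Scheme.Hom.appLE, show (homOfLE (le_refl (f ⁻¹ᵁ U.1))).op = 𝟙 _ from rfl,
    CategoryTheory.Functor.map_id, Category.comp_id] at h

/-- the canonical morphism `X ⟶ Spec(f_* O_X)` is an isomorphism for affine `f` -/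
theorem isIso_canonical (f : X ⟶ Y) [IsAffineHom f]
    (c : X ⟶ (RelSpec.QCAlg.directImage f).spec)
    (e : c ≫ (RelSpec.QCAlg.directImage f).π = f)
    (hc : (RelSpec.QCAlg.directImage f).gammaMap =
      AffAlg.algHom (RelSpec.QCAlg.directImage f).π f c e) : IsIso c := by
  let B := RelSpec.QCAlg.directImage f
  have hpre : ∀ V : Y.Opens, c ⁻¹ᵁ (B.π ⁻¹ᵁ V) = f ⁻¹ᵁ V := by
    intro V
    rw [← Scheme.Hom.comp_preimage, e]
  refine (IsZariskiLocalAtTarget.iff_of_iSup_eq_top (P := MorphismProperty.isomorphisms Scheme.{u})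
    (fun V : Y.affineOpens => B.π ⁻¹ᵁ V.1)
    (Groth.Agent.Lib.AffAlgH3.iSup_preimage_affineOpens B.π)).mpr fun V => ?_
  change IsIso (c ∣_ (B.π ⁻¹ᵁ V.1))
  have hW : IsAffineOpen (B.π ⁻¹ᵁ V.1) := V.2.preimage B.π
  have hV' : IsAffineOpen (f ⁻¹ᵁ V.1) := V.2.preimage f
  have key : ∀ V' : X.Opens, V' = f ⁻¹ᵁ V.1 → IsAffineOpen V' → ∃ g : (V' : Scheme.{u}) ⟶
      ((B.π ⁻¹ᵁ V.1 : B.spec.Opens) : Scheme.{u}), IsIso g ∧ g ≫ (B.π ⁻¹ᵁ V.1).ι = V'.ι ≫ c := by
    rintro _ rfl hV''
    haveI h2 : IsIso (B.gammaAff V.1 V.2) := Groth.Agent.S8255.isIso_gammaAff _ V.1 V.2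
    haveI h4 : IsIso (Spec.map (B.gammaAff V.1 V.2)) := inferInstance
    refine ⟨(hV''.isoSpec ≪≫ @asIso _ _ _ _ _ h4 ≪≫ hW.isoSpec.symm).hom,
      inferInstance, ?_⟩
    rw [Groth.Agent.S9380.ι_comp_canonical f c e hc V.1 V.2]
    simp only [Iso.trans_hom, Iso.symm_hom, Category.assoc]
    rfl
  obtain ⟨g, hg, hgc⟩ := key (c ⁻¹ᵁ (B.π ⁻¹ᵁ V.1)) (hpre V.1) (by rw [hpre]; exact hV')
  have : c ∣_ (B.π ⁻¹ᵁ V.1) = g := by
    rw [← cancel_mono (B.π ⁻¹ᵁ V.1).ι, morphismRestrict_ι, hgc]
  rw [this]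
  exact hg

/-- the canonical homomorphism `Sym(E) ⟶ B` is surjective over affine opens if `E` generates `B` -/
theorem surjective_lift (B : RelSpec.QCAlg Y) (E : Y.Modules) [E.IsQuasicoherent] (j : E ⟶ B.toModule)
    (U : Y.affineOpens)
    (hgen : Subring.closure (Set.range (B.str.app (op (U : Y.Opens))).hom ∪
          Set.range (fun e : E.val.obj (op (U : Y.Opens)) ↦
            (show B.presheaf.obj (op (U : Y.Opens)) from (j.val.app (op (U : Y.Opens))).hom e))) = ⊤) :
    Function.Surjective ((lift E B j).hom.app (op U.1)).hom := by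
  rw [← RingHom.range_eq_top, eq_top_iff, ← hgen, Subring.closure_le]
  rintro x (⟨a, rfl⟩ | ⟨e, rfl⟩)
  · refine ⟨((symAlg E).str.app (op U.1)).hom a, ?_⟩
    have := congr($((lift E B j).comm).app (op U.1))
    exact congr($this a)
  · refine ⟨(show (symAlg E).presheaf.obj (op U.1) from (Groth.Agent.Lib.SymQCAlg.j E).app U.1 e), ?_⟩
    have h := j_lift E B j
    have h2 := congr($(h).app U.1 e)
    exact h2

end helpers

/-- Let Y be either a quasi-compact separated scheme or a scheme with Noetherian underlying space, and X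
affine and of finite type over Y. Then X is Y-isomorphic to a closed subscheme of a vector bundle
V(E) with E a quasi-coherent O_Y-module of finite type: there are such an E, its symmetric algebra
A, and a closed immersion X → Spec(A) over Y. -/
theorem result {X Y : Scheme.{u}}
    (hY : (CompactSpace Y ∧ Y.IsSeparated) ∨ NoetherianSpace Y) (f : X ⟶ Y) [IsAffineHom f]
    [LocallyOfFiniteType f] :
    ∃ (E : Y.Modules) (_ : Coh.IsCoh E) (A : RelSpec.QCAlg Y) (j : E ⟶ A.toModule)
      (_ : RelSpec.IsSymAlg E A j) (i : X ⟶ A.spec), IsClosedImmersion i ∧ i ≫ A.π = f := by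
  let B := RelSpec.QCAlg.directImage f
  have hB : ∀ U : Y.affineOpens, (B.str.app (op (U : Y.Opens))).hom.FiniteType :=
    fun U => finiteType_directImage f U
  obtain ⟨E, j, -, hq, hft, hgen⟩ : ∃ (E : Y.Modules) (j : E ⟶ B.toModule), Mono j ∧ Coh.IsQCoh E ∧
      CohB1.IsFT E ∧ ∀ U : Y.affineOpens,
        Subring.closure (Set.range (B.str.app (op (U : Y.Opens))).hom ∪
          Set.range (fun e : E.val.obj (op (U : Y.Opens)) ↦
            (show B.presheaf.obj (op (U : Y.Opens)) from (j.val.app (op (U : Y.Opens))).hom e))) = ⊤ := by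
    rcases hY with ⟨h1, h2⟩ | h
    · haveI := h1; haveI := h2
      exact Groth.Agent.S4354.result B hB
    · haveI := h
      exact Groth.Agent.S4353.result B hB
  haveI : E.IsQuasicoherent := hq
  obtain ⟨c, e, hc⟩ := Groth.Agent.S9380.exists_canonical f
  haveI := isIso_canonical f c e hc
  let ψ := Groth.Agent.Lib.SymQCAlg.lift E B j
  have hcl : IsClosedImmersion (RelSpec.QCAlg.specMap ψ) :=
    Groth.Agent.Lib.RelSpecLocal.specMap_of_forall (P := @IsClosedImmersion) ψ fun U hU =>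
      IsClosedImmersion.spec_of_surjective _ (surjective_lift B E j ⟨U, hU⟩ (hgen ⟨U, hU⟩))
  refine ⟨E, ⟨hq, hft⟩, Groth.Agent.Lib.SymQCAlg.symAlg E, Groth.Agent.Lib.SymQCAlg.j E,
    Groth.Agent.Lib.SymQCAlg.isSymAlg E, c ≫ RelSpec.QCAlg.specMap ψ, inferInstance, ?_⟩
  rw [Category.assoc, RelSpec.QCAlg.specMap_π, e]

end Groth.Agent.S8269
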