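import Groth.Statements.S13541
import Mathlib
import Groth.Agent.S8267
import Groth.Agent.S8268
import Groth.Agent.S8269
import Groth.Agent.S8255
import Groth.Agent.Lib.H90SymPr
import Groth.Agent.Lib.H90InvertibleFP
import Groth.Agent.Lib.H90OXModExact
import Groth.Agent.Lib.AffAlgH3

set_option autoImplicit false
universe u
open CategoryTheory CategoryTheory.Limits AlgebraicGeometry
open ResProp

namespace Groth.Agent.S13541


section helpers

open Groth.Agent.Lib.SymQCAlg Groth.Agent.Lib.H90SymPr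
open AlgebraicGeometry.Scheme AlgebraicGeometry.Scheme.Modules Opposite

variable {S : Scheme.{u}}

/-- the algebra homomorphism attached to an `S`-morphism of relative spectra -/
theorem exists_algHom (A B : RelSpec.QCAlg S) (i : B.spec ⟶ A.spec) (e : i ≫ A.π = B.π) :
    ∃ ψ : A ⟶ B, ∀ (U : S.Opens) (hU : IsAffineOpen U) (a' : Γ(A.spec, A.π ⁻¹ᵁ U)),
      (ψ.hom.app (op U)).hom ((A.gammaAff U hU).hom a') =
        (B.gammaAff U hU).hom ((i.appLE (A.π ⁻¹ᵁ U) (B.π ⁻¹ᵁ U)
          (Groth.Agent.Lib.AffAlgH3.preimage_le A.π B.π i e U)).hom a') := by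
  haveI : IsIso A.gammaMap := Groth.Agent.S8255.result A
  refine ⟨⟨inv A.gammaMap ≫ AffAlg.algHom A.π B.π i e ≫ B.gammaMap, ?_⟩, fun U hU a' => ?_⟩
  · have h1 : A.str ≫ inv A.gammaMap = A.π.c := by
      rw [← A.π_c_gammaMap, Category.assoc, IsIso.hom_inv_id, Category.comp_id]
    rw [← Category.assoc, h1, ← Category.assoc, AffAlg.algHom_comm, B.π_c_gammaMap]
  · change ((inv A.gammaMap ≫ AffAlg.algHom A.π B.π i e ≫ B.gammaMap).app (op U)).hom
      ((A.gammaAff U hU).hom a') = _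
    rw [← A.gammaMap_app U hU, ← B.gammaMap_app U hU]
    have h2 : A.gammaMap.app (op U) ≫ (inv A.gammaMap ≫ AffAlg.algHom A.π B.π i e ≫ B.gammaMap).app (op U) =
        (AffAlg.algHom A.π B.π i e).app (op U) ≫ B.gammaMap.app (op U) := by
      rw [← NatTrans.comp_app, IsIso.hom_inv_id_assoc, NatTrans.comp_app]
    have h3 := congr($h2 a')
    rw [Groth.Agent.Lib.AffAlgH3.algHom_app] at h3
    exact h3

/-- a closed immersion of relative spectra is surjective on sections over affine opens -/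
theorem surjective_algHom (A B : RelSpec.QCAlg S) (i : B.spec ⟶ A.spec) [IsClosedImmersion i]
    (e : i ≫ A.π = B.π) (ψ : A ⟶ B)
    (hψ : ∀ (U : S.Opens) (hU : IsAffineOpen U) (a' : Γ(A.spec, A.π ⁻¹ᵁ U)),
      (ψ.hom.app (op U)).hom ((A.gammaAff U hU).hom a') =
        (B.gammaAff U hU).hom ((i.appLE (A.π ⁻¹ᵁ U) (B.π ⁻¹ᵁ U)
          (Groth.Agent.Lib.AffAlgH3.preimage_le A.π B.π i e U)).hom a'))
    (U : S.Opens) (hU : IsAffineOpen U) : Function.Surjective (ψ.hom.app (op U)).hom := by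
  intro b
  haveI := Groth.Agent.S8255.isIso_gammaAff B U hU
  obtain ⟨b', rfl⟩ := (ConcreteCategory.bijective_of_isIso (B.gammaAff U hU)).2 b
  have hpre : i ⁻¹ᵁ (A.π ⁻¹ᵁ U) = B.π ⁻¹ᵁ U := by
    rw [← Scheme.Hom.comp_preimage, e]
  have hsurj : Function.Surjective (i.appLE (A.π ⁻¹ᵁ U) (B.π ⁻¹ᵁ U)
      (Groth.Agent.Lib.AffAlgH3.preimage_le A.π B.π i e U)).hom := by
    have key : ∀ (W : B.spec.Opens) (hW : W ≤ i ⁻¹ᵁ (A.π ⁻¹ᵁ U)), i ⁻¹ᵁ (A.π ⁻¹ᵁ U) = W →
        Function.Surjective (i.appLE (A.π ⁻¹ᵁ U) W hW).hom := by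
      rintro W hW rfl
      rw [Scheme.Hom.appLE]
      have : (homOfLE hW).op = 𝟙 _ := rfl
      rw [this, CategoryTheory.Functor.map_id, Category.comp_id]
      exact i.app_surjective _ (hU.preimage A.π)
    exact key _ _ hpre
  obtain ⟨a', rfl⟩ := hsurj b'
  exact ⟨(A.gammaAff U hU).hom a', hψ U hU a'⟩

/-- first-order part of a ring homomorphism between symmetric algebras lies in the span of the images of the
generators -/
theorem symD_mem_span {R E M : Type*} [CommRing R] [AddCommGroup E] [Module R E] [AddCommGroup M] [Module R M]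
    (κ : SymmetricAlgebra R E →+* SymmetricAlgebra R M)
    (hκ : ∀ r, κ (algebraMap R _ r) = algebraMap R _ r) (y : SymmetricAlgebra R E) :
    symD R M (κ y) ∈ Submodule.span R (Set.range fun x : E => symD R M (κ (SymmetricAlgebra.ι R E x))) := by
  induction y using SymmetricAlgebra.induction with
  | algebraMap r => rw [hκ, symD_algebraMap]; exact Submodule.zero_mem _
  | ι x => exact Submodule.subset_span ⟨x, rfl⟩
  | mul a b ha hb =>
    rw [map_mul, symD_mul]
    exact Submodule.add_mem _ (Submodule.smul_mem _ _ hb) (Submodule.smul_mem _ _ ha)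
  | add a b ha hb =>
    rw [map_add, map_add]
    exact Submodule.add_mem _ ha hb

/-- an algebra homomorphism `Sym(E) ⟶ Sym(M)` that is surjective over affine opens induces an epimorphism
`E ⟶ M` on first-order parts -/
theorem epi_of_surjective (E M : S.Modules) [E.IsQuasicoherent] [M.IsQuasicoherent]
    (A : RelSpec.QCAlg S) (jA : E ⟶ A.toModule) (hA : RelSpec.IsSymAlg E A jA)
    (ψ : A ⟶ symAlg M)
    (hψ : ∀ (U : S.Opens) (_ : IsAffineOpen U), Function.Surjective (ψ.hom.app (op U)).hom) :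
    Epi (jA ≫ RelSpec.QCAlg.Hom.toModuleMap ψ ≫ pr M) := by
  rw [Groth.Agent.Lib.H90OXModExact.epi_iff_forall_affine]
  rintro ⟨U, (hU : IsAffineOpen U)⟩ m
  obtain ⟨eA, heA, heA'⟩ := exists_ringEquiv E A jA hA U hU
  let κ : SymmetricAlgebra Γ(S, U) Γ(E, U) →+* SymmetricAlgebra Γ(S, U) Γ(M, U) :=
    ((symIso M U hU).hom.hom.comp (ψ.hom.app (op U)).hom).comp eA.symm.toRingHom
  have hκ : ∀ r : Γ(S, U), κ (algebraMap Γ(S, U) _ r) = algebraMap Γ(S, U) _ r := by
    intro r
    change (symIso M U hU).hom ((ψ.hom.app (op U)).hom (eA.symm (algebraMap Γ(S, U) _ r))) = _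
    have h0 : eA.symm (algebraMap Γ(S, U) _ r) = (A.str.app (op U)).hom r := by
      rw [← heA r, eA.symm_apply_apply]
    rw [h0]
    have hc : (ψ.hom.app (op U)).hom ((A.str.app (op U)).hom r) = ((symAlg M).str.app (op U)).hom r :=
      congr($(NatTrans.congr_app ψ.comm (op U)) r)
    rw [hc]
    exact symIso_hom_str M U hU r
  -- the section map of the composite
  let l := jA ≫ RelSpec.QCAlg.Hom.toModuleMap ψ ≫ pr M
  have hl : ∀ x : Γ(E, U), l.app U x = symD _ _ (κ (SymmetricAlgebra.ι _ _ x)) := by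
    intro x
    change (pr M).app U ((RelSpec.QCAlg.Hom.toModuleMap ψ).app U (jA.app U x)) = _
    rw [pr_app M U hU, prAff_apply]
    have h0 : eA.symm (SymmetricAlgebra.ι _ _ x) = (show A.presheaf.obj (op U) from jA.app U x) := by
      rw [← heA' x, eA.symm_apply_apply]
    change _ = symD _ _ ((symIso M U hU).hom ((ψ.hom.app (op U)).hom (eA.symm (SymmetricAlgebra.ι _ _ x))))
    rw [h0]
    rfl
  -- lift `ι m`
  obtain ⟨a, ha⟩ := hψ U hU ((symIso M U hU).inv (SymmetricAlgebra.ι Γ(S, U) Γ(M, U) m))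
  have h1 : symD _ _ (κ (eA a)) = m := by
    change symD _ _ ((symIso M U hU).hom ((ψ.hom.app (op U)).hom (eA.symm (eA a)))) = m
    rw [eA.symm_apply_apply, ha]
    have : (symIso M U hU).hom ((symIso M U hU).inv (SymmetricAlgebra.ι Γ(S, U) Γ(M, U) m)) =
        SymmetricAlgebra.ι Γ(S, U) Γ(M, U) m :=
      congr($((symIso M U hU).inv_hom_id) (SymmetricAlgebra.ι _ _ m))
    rw [this, symD_ι]
  have h2 := symD_mem_span κ hκ (eA a)
  rw [h1] at h2
  -- the span is contained in the range of the (linear) section map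
  let lU : Γ(E, U) →ₗ[Γ(S, U)] Γ(M, U) :=
    { toFun := fun x => l.app U x
      map_add' := fun x y => map_add _ x y
      map_smul' := fun r x => Scheme.Modules.Hom.app_smul l r x }
  have h3 : Submodule.span Γ(S, U) (Set.range fun x : Γ(E, U) =>
      symD Γ(S, U) Γ(M, U) (κ (SymmetricAlgebra.ι _ _ x))) ≤ LinearMap.range lU := by
    rw [Submodule.span_le]
    rintro _ ⟨x, rfl⟩
    exact ⟨x, hl x⟩
  obtain ⟨x, hx⟩ := h3 h2
  exact ⟨x, hx⟩

end helpers

/-- In the case of schemes, a Noetherian scheme S has the resolution property exactly when each affine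
finite-type morphism X ⟶ S factors over S through a closed immersion of X into a vector bundle V(E)
= Spec Sym(E), E a finite locally free module on S (V(E) is given as the relative spectrum of a
quasi-coherent algebra A with a map E ⟶ A making A the symmetric algebra of E). (The published
statement is for Noetherian algebraic stacks; this row is the case of schemes.) -/
theorem result (S : Scheme.{u}) [IsNoetherian S] :
    PerfAux.HasResolutionProperty S ↔
      ∀ (X : Scheme.{u}) (f : X ⟶ S) [IsAffineHom f] [LocallyOfFiniteType f],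
        ∃ (E : S.Modules) (A : RelSpec.QCAlg S) (j : E ⟶ A.toModule) (i : X ⟶ A.spec),
          Coh.IsQCoh E ∧ FlatMod.IsFinLocFree E ∧ RelSpec.IsSymAlg E A j ∧ IsClosedImmersion i ∧ i ≫ A.π = f := by
  constructor
  · intro hres X f _ _
    obtain ⟨E₀, hE₀, A₀, j₀, hA₀, i₀, hi₀, hcomp⟩ := Groth.Agent.S8269.result (Or.inr inferInstance) f
    obtain ⟨E, p, hE, hp⟩ := hres E₀ hE₀.1 hE₀.2
    haveI := hp
    have hEq : Coh.IsQCoh E := Groth.Agent.Lib.H90Invertible.isQuasicoherent_of_isFinLocFree hE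
    haveI : E.IsQuasicoherent := hEq
    obtain ⟨ψ, hψ, -⟩ := Groth.Agent.Lib.SymQCAlg.isSymAlg E A₀ (p ≫ j₀)
    haveI := Groth.Agent.S8268.result E E₀ hEq hE₀.1 p (Groth.Agent.Lib.SymQCAlg.symAlg E) A₀
      (Groth.Agent.Lib.SymQCAlg.j E) j₀ (Groth.Agent.Lib.SymQCAlg.isSymAlg E) hA₀ ψ hψ
    refine ⟨E, Groth.Agent.Lib.SymQCAlg.symAlg E, Groth.Agent.Lib.SymQCAlg.j E,
      i₀ ≫ RelSpec.QCAlg.specMap ψ, hEq, hE, Groth.Agent.Lib.SymQCAlg.isSymAlg E, inferInstance, ?_⟩
    rw [Category.assoc, RelSpec.QCAlg.specMap_π, hcomp]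
  · intro h M hMq hMft
    haveI : M.IsQuasicoherent := hMq
    let B := Groth.Agent.Lib.SymQCAlg.symAlg M
    haveI : LocallyOfFiniteType B.π :=
      Groth.Agent.S8267.result M ⟨hMq, hMft⟩ B (Groth.Agent.Lib.SymQCAlg.j M)
        (Groth.Agent.Lib.SymQCAlg.isSymAlg M)
    obtain ⟨E, A, jA, i, hEq, hE, hA, hi, hcomp⟩ := h B.spec B.π
    haveI : E.IsQuasicoherent := hEq
    haveI := hi
    obtain ⟨ψ, hψ⟩ := exists_algHom A B i hcomp
    have hsurj := surjective_algHom A B i hcomp ψ hψ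
    exact ⟨E, jA ≫ RelSpec.QCAlg.Hom.toModuleMap ψ ≫ Groth.Agent.Lib.H90SymPr.pr M, hE,
      epi_of_surjective E M A jA hA ψ hsurj⟩

end Groth.Agent.S13541
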