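import Groth.Statements.S13543
import Mathlib
import Groth.Agent.S13541
import Groth.Agent.Lib.CohSigmaFin
import Groth.Agent.Lib.QCohBiprod
import Groth.Agent.Lib.H72LimMod
import Groth.Agent.Lib.H90QCAlg

set_option autoImplicit false
universe u
open CategoryTheory CategoryTheory.Limits AlgebraicGeometry Opposite
open ResProp

namespace Groth.Agent.S13543


section helpers

open Groth.Agent.Lib.SymQCAlg Groth.Agent.Lib.H90SymPr
open AlgebraicGeometry.Scheme AlgebraicGeometry.Scheme.Modules Opposite

variable {X : Scheme.{u}}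

/-- the restriction of a map out of a coproduct to the sub-coproduct over a finite set of indices -/
noncomputable def subMap {κ : Type u} (P : κ → X.Modules) (S : Finset κ) :
    (∐ fun k : {k // k ∈ S} => P k.1) ⟶ ∐ P :=
  Sigma.desc fun k : {k // k ∈ S} => Sigma.ι P k.1

theorem ι_subMap {κ : Type u} (P : κ → X.Modules) (S : Finset κ) (k : {k // k ∈ S}) :
    Sigma.ι (fun k : {k // k ∈ S} => P k.1) k ≫ subMap P S = Sigma.ι P k.1 :=
  Sigma.ι_desc _ _

/-- one affine open: a finite subfamily already generates the algebra -/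
theorem exists_finset_of_affine [QuasiSeparatedSpace X] (B : RelSpec.QCAlg X) {κ : Type u}
    (P : κ → X.Modules) (hP : ∀ k, (P k).IsQuasicoherent) (π : (∐ P) ⟶ B.toModule) [Epi π]
    (U : X.affineOpens) (hB : (B.str.app (op U.1)).hom.FiniteType) :
    ∃ S₀ : Finset κ, ∀ S : Finset κ, S₀ ⊆ S →
      Subring.closure (Set.range (B.str.app (op (U : X.Opens))).hom ∪
          Set.range (fun e : (∐ fun k : {k // k ∈ S} => P k.1).val.obj (op (U : X.Opens)) ↦
            (show B.presheaf.obj (op (U : X.Opens)) from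
              ((subMap P S ≫ π).val.app (op (U : X.Opens))).hom e))) = ⊤ := by
  classical
  haveI : (∐ P).IsQuasicoherent := Groth.Agent.Lib.QCohBiprod.isQuasicoherent_sigmaObj P hP
  haveI : B.toModule.IsQuasicoherent := Groth.Agent.Lib.H90QCAlg.isQuasicoherent_toModule B
  letI : Algebra Γ(X, U.1) (B.presheaf.obj (op U.1)) := (B.str.app (op U.1)).hom.toAlgebra
  obtain ⟨t, ht⟩ : ∃ t : Finset (B.presheaf.obj (op U.1)),
      Algebra.adjoin Γ(X, U.1) (t : Set (B.presheaf.obj (op U.1))) = ⊤ := hB.out
  have hsurj : Function.Surjective (π.app U.1) :=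
    Groth.Agent.Lib.H90OXModExact.surjective_app_of_epi π U.2
  -- for every section of `B` over `U` a finite set of indices
  have key : ∀ b : B.presheaf.obj (op U.1), ∃ (s : Finset κ) (y : ∀ k, Γ(P k, U.1)),
      b = (show B.presheaf.obj (op U.1) from π.app U.1 (∑ k ∈ s, (Sigma.ι P k).app U.1 (y k))) := by
    intro b
    obtain ⟨x, hx⟩ := hsurj (show Γ(B.toModule, U.1) from b)
    obtain ⟨s, y, hy⟩ := Groth.Agent.Lib.CohSigmaFin.exists_finset_sections_sigma P U.1 U.2.isCompact x
    exact ⟨s, y, by rw [← hy, hx]⟩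
  choose sb yb hb using key
  refine ⟨t.biUnion sb, fun S hS => ?_⟩
  rw [eq_top_iff]
  have h1 : (⊤ : Subring (B.presheaf.obj (op U.1))) =
      Subring.closure (Set.range (algebraMap Γ(X, U.1) (B.presheaf.obj (op U.1))) ∪
        (t : Set (B.presheaf.obj (op U.1)))) := by
    rw [← Algebra.adjoin_eq_ring_closure, ht]; rfl
  rw [h1, Subring.closure_le]
  rintro b (⟨a, rfl⟩ | hbt)
  · exact Subring.subset_closure (Or.inl ⟨a, rfl⟩)
  · rw [hb b]
    have h2 : (show B.presheaf.obj (op U.1) from
        π.app U.1 (∑ k ∈ sb b, (Sigma.ι P k).app U.1 (yb b k))) =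
        ∑ k ∈ sb b, (show B.presheaf.obj (op U.1) from π.app U.1 ((Sigma.ι P k).app U.1 (yb b k))) := by
      change (π.app U.1).hom (∑ k ∈ sb b, (Sigma.ι P k).app U.1 (yb b k)) = _
      rw [map_sum]
      rfl
    rw [h2]
    refine Subring.sum_mem _ fun k hk => Subring.subset_closure (Or.inr ?_)
    have hkS : k ∈ S := hS (Finset.mem_biUnion.mpr ⟨b, hbt, hk⟩)
    refine ⟨(Sigma.ι (fun k : {k // k ∈ S} => P k.1) ⟨k, hkS⟩).app U.1 (yb b k), ?_⟩
    have h3 : Sigma.ι (fun k : {k // k ∈ S} => P k.1) ⟨k, hkS⟩ ≫ subMap P S ≫ π = Sigma.ι P k ≫ π := by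
      rw [← Category.assoc, ι_subMap]
    exact congr($(h3).app U.1 (yb b k))

end helpers

/-- In the case of schemes, on a quasi-compact quasi-separated scheme X let (E_i) be a family of
finitely presented quasi-coherent modules closed (up to isomorphism) under binary tensor products
and binary direct sums. Then (E_i) is a generating family, i.e. every quasi-coherent module is a
quotient of a direct sum of copies of the E_i, if and only if every affine morphism Y ⟶ X factors
over X through a closed immersion of Y into the vector bundle V(E) = Spec Sym(E) of a direct sum E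
of copies of members of the family, with finitely many summands whenever Y ⟶ X is of finite type
(V(E) is given as the relative spectrum of a quasi-coherent algebra that is the symmetric algebra of
E). (The published statement is for quasi-compact quasi-separated algebraic stacks and takes E to be
the direct sum of a subfamily without repeated members; this row is the case of schemes and allows
repetitions, as the printed argument produces: for the generating family of free modules k, k^2,
k^3, … on a point and the affine morphism from the spectrum of a polynomial ring in uncountably many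
variables, no direct sum of distinct members works.) -/
theorem result (X : Scheme.{u}) [CompactSpace X] [QuasiSeparatedSpace X]
    {ι : Type u} (E : ι → X.Modules) (hE : ∀ i, Coh.IsQCoh (E i) ∧ CohB1.IsFP (E i))
    (htens : ∀ i i' : ι, ∃ i'' : ι, Nonempty (E i'' ≅ CohB1.tensorMod (E i) (E i')))
    (hsum : ∀ i i' : ι, ∃ i'' : ι, Nonempty (E i'' ≅ E i ⊞ E i')) :
    (∀ M : X.Modules, Coh.IsQCoh M → ∃ (κ : Type u) (j : κ → ι) (π : (∐ fun k : κ => E (j k)) ⟶ M), Epi π) ↔
    (∀ (Y : Scheme.{u}) (f : Y ⟶ X) [IsAffineHom f],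
      ∃ (κ : Type u) (j : κ → ι) (B : RelSpec.QCAlg X) (φ : (∐ fun k : κ => E (j k)) ⟶ B.toModule) (c : Y ⟶ B.spec),
        RelSpec.IsSymAlg (∐ fun k : κ => E (j k)) B φ ∧ IsClosedImmersion c ∧ c ≫ B.π = f ∧
        (LocallyOfFiniteType f → Finite κ)) := by
  classical
  constructor
  · intro hgen Y f _
    let B := RelSpec.QCAlg.directImage f
    haveI hBq : B.toModule.IsQuasicoherent := Groth.Agent.Lib.H90QCAlg.isQuasicoherent_toModule B
    obtain ⟨κ, j, π, hπ⟩ := hgen B.toModule hBq
    haveI := hπ
    have hP : ∀ k, (E (j k)).IsQuasicoherent := fun k => (hE (j k)).1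
    obtain ⟨c, e, hc⟩ := Groth.Agent.S9380.exists_canonical f
    haveI := Groth.Agent.S8269.isIso_canonical f c e hc
    -- the construction for a map `E' ⟶ B` generating `B` over affine opens
    have build : ∀ (κ' : Type u) (j' : κ' → ι) (π' : (∐ fun k : κ' => E (j' k)) ⟶ B.toModule),
        (∀ U : X.affineOpens, Subring.closure (Set.range (B.str.app (op (U : X.Opens))).hom ∪
          Set.range (fun e : (∐ fun k : κ' => E (j' k)).val.obj (op (U : X.Opens)) ↦
            (show B.presheaf.obj (op (U : X.Opens)) from (π'.val.app (op (U : X.Opens))).hom e))) = ⊤) →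
        ∃ (B' : RelSpec.QCAlg X) (φ : (∐ fun k : κ' => E (j' k)) ⟶ B'.toModule) (c' : Y ⟶ B'.spec),
          RelSpec.IsSymAlg (∐ fun k : κ' => E (j' k)) B' φ ∧ IsClosedImmersion c' ∧ c' ≫ B'.π = f := by
      intro κ' j' π' hgen'
      haveI : (∐ fun k : κ' => E (j' k)).IsQuasicoherent :=
        Groth.Agent.Lib.QCohBiprod.isQuasicoherent_sigmaObj _ fun k => (hE (j' k)).1
      let ψ := Groth.Agent.Lib.SymQCAlg.lift (∐ fun k : κ' => E (j' k)) B π'
      have hcl : IsClosedImmersion (RelSpec.QCAlg.specMap ψ) :=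
        Groth.Agent.Lib.RelSpecLocal.specMap_of_forall (P := @IsClosedImmersion) ψ fun U hU =>
          IsClosedImmersion.spec_of_surjective _
            (Groth.Agent.S8269.surjective_lift B _ π' ⟨U, hU⟩ (hgen' ⟨U, hU⟩))
      refine ⟨Groth.Agent.Lib.SymQCAlg.symAlg _, Groth.Agent.Lib.SymQCAlg.j _,
        c ≫ RelSpec.QCAlg.specMap ψ, Groth.Agent.Lib.SymQCAlg.isSymAlg _, inferInstance, ?_⟩
      rw [Category.assoc, RelSpec.QCAlg.specMap_π, e]
    by_cases hft : LocallyOfFiniteType f
    · -- finite type: a finite subfamily suffices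
      haveI := hft
      have hB : ∀ U : X.affineOpens, (B.str.app (op (U : X.Opens))).hom.FiniteType :=
        fun U => Groth.Agent.S8269.finiteType_directImage f U
      obtain ⟨s, hs, hcover⟩ := (isCompact_iff_finite_and_eq_biUnion_affineOpens (U := (⊤ : X.Opens))).mp
        (by rw [TopologicalSpace.Opens.coe_top]; exact isCompact_univ)
      have hS₀ : ∀ U : X.affineOpens, ∃ S₀ : Finset κ, ∀ S : Finset κ, S₀ ⊆ S →
          Subring.closure (Set.range (B.str.app (op (U : X.Opens))).hom ∪
          Set.range (fun e : (∐ fun k : {k // k ∈ S} => E (j k.1)).val.obj (op (U : X.Opens)) ↦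
            (show B.presheaf.obj (op (U : X.Opens)) from
              ((subMap (fun k => E (j k)) S ≫ π).val.app (op (U : X.Opens))).hom e))) = ⊤ :=
        fun U => exists_finset_of_affine B (fun k => E (j k)) hP π U (hB U)
      choose S₀ hS₀' using hS₀
      let S : Finset κ := hs.toFinset.biUnion S₀
      haveI : (∐ fun k : {k // k ∈ S} => E (j k.1)).IsQuasicoherent :=
        Groth.Agent.Lib.QCohBiprod.isQuasicoherent_sigmaObj _ fun k => (hE (j k.1)).1
      let π' := subMap (fun k => E (j k)) S ≫ π
      let ψ := Groth.Agent.Lib.SymQCAlg.lift (∐ fun k : {k // k ∈ S} => E (j k.1)) B π'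
      -- surjective over the members of the cover
      have hcov : ∀ U : s, Function.Surjective ((ψ.hom.app (op U.1.1)).hom) := fun U =>
        Groth.Agent.S8269.surjective_lift B _ π' U.1
          (hS₀' U.1 S (Finset.subset_biUnion_of_mem S₀ (hs.mem_toFinset.mpr U.2)))
      haveI : (Groth.Agent.Lib.SymQCAlg.symAlg (∐ fun k : {k // k ∈ S} => E (j k.1))).toModule.IsQuasicoherent :=
        Groth.Agent.Lib.H90QCAlg.isQuasicoherent_toModule _
      haveI hepi : Epi (RelSpec.QCAlg.Hom.toModuleMap ψ) := by
        refine Groth.Agent.Lib.H72LimMod.epi_of_cover _ (fun U : s => U.1.1) (fun U => U.1.2) ?_ ?_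
        · intro x
          have hx : x ∈ (⊤ : X.Opens) := trivial
          rw [hcover] at hx
          obtain ⟨U, hxU⟩ := TopologicalSpace.Opens.mem_iSup.mp hx
          obtain ⟨hU, hxU⟩ := TopologicalSpace.Opens.mem_iSup.mp hxU
          exact ⟨⟨U, hU⟩, hxU⟩
        · intro U b
          obtain ⟨a, ha⟩ := hcov U (show B.presheaf.obj (op U.1.1) from b)
          exact ⟨a, ha⟩
      have hall : ∀ (U : X.Opens) (hU : IsAffineOpen U), Function.Surjective ((ψ.hom.app (op U)).hom) := by
        intro U hU b
        obtain ⟨a, ha⟩ := Groth.Agent.Lib.H90OXModExact.surjective_app_of_epi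
          (RelSpec.QCAlg.Hom.toModuleMap ψ) hU (show Γ(B.toModule, U) from b)
        exact ⟨a, ha⟩
      have hcl : IsClosedImmersion (RelSpec.QCAlg.specMap ψ) :=
        Groth.Agent.Lib.RelSpecLocal.specMap_of_forall (P := @IsClosedImmersion) ψ fun U hU =>
          IsClosedImmersion.spec_of_surjective _ (hall U hU)
      refine ⟨{k // k ∈ S}, fun k => j k.1, Groth.Agent.Lib.SymQCAlg.symAlg _, Groth.Agent.Lib.SymQCAlg.j _,
        c ≫ RelSpec.QCAlg.specMap ψ, Groth.Agent.Lib.SymQCAlg.isSymAlg _, inferInstance, ?_, fun _ => inferInstance⟩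
      rw [Category.assoc, RelSpec.QCAlg.specMap_π, e]
    · obtain ⟨B', φ, c', h1, h2, h3⟩ := build κ j π (fun U => by
        haveI : (∐ fun k : κ => E (j k)).IsQuasicoherent :=
          Groth.Agent.Lib.QCohBiprod.isQuasicoherent_sigmaObj _ hP
        have hsurj : Function.Surjective (π.app U.1) :=
          Groth.Agent.Lib.H90OXModExact.surjective_app_of_epi π U.2
        rw [eq_top_iff]
        intro b _
        obtain ⟨x, hx⟩ := hsurj (show Γ(B.toModule, U.1) from b)
        exact Subring.subset_closure (Or.inr ⟨x, hx⟩))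
      exact ⟨κ, j, B', φ, c', h1, h2, h3, fun h => absurd h hft⟩
  · intro h M hMq
    haveI : M.IsQuasicoherent := hMq
    let B := Groth.Agent.Lib.SymQCAlg.symAlg M
    obtain ⟨κ, j, A, φ, c, hA, hc, hcomp, -⟩ := h B.spec B.π
    haveI : (∐ fun k : κ => E (j k)).IsQuasicoherent :=
      Groth.Agent.Lib.QCohBiprod.isQuasicoherent_sigmaObj _ fun k => (hE (j k)).1
    haveI := hc
    obtain ⟨ψ, hψ⟩ := Groth.Agent.S13541.exists_algHom A B c hcomp
    have hsurj := Groth.Agent.S13541.surjective_algHom A B c hcomp ψ hψ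
    exact ⟨κ, j, φ ≫ RelSpec.QCAlg.Hom.toModuleMap ψ ≫ Groth.Agent.Lib.H90SymPr.pr M,
      Groth.Agent.S13541.epi_of_surjective _ M A φ hA ψ hsurj⟩

end Groth.Agent.S13543
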