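import Groth.Statements.S13576
-- import your own Groth.Agent.* helpers here

set_option autoImplicit false
universe u
open CategoryTheory CategoryTheory.Limits MonoidalCategory
attribute [local instance] HasDerivedCategory.standard
open DTen

namespace Groth.Agent.S13576


variable {A : Type u} [CommRing A]

/-- `braidCx` is an involution. -/
lemma braidCx_hom_hom (K L : DRing.Cx A) : (braidCx K L).hom ≫ (braidCx L K).hom = 𝟙 _ := by
  refine HomologicalComplex.hom_ext _ _ (fun n => HomologicalComplex.mapBifunctor.hom_ext (fun p q h => ?_))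
  have h' : p + q = n := h
  have h'' : q + p = n := by omega
  rw [HomologicalComplex.comp_f]
  erw [ι_braidCx_hom_assoc K L p q n h']
  simp only [Linear.units_smul_comp, Category.assoc]
  erw [ι_braidCx_hom L K q p n h'']
  simp only [Linear.comp_units_smul, smul_smul]
  have hsign : (p * q).negOnePow * (q * p).negOnePow = 1 := by
    rw [mul_comm q p, ← Int.negOnePow_add, ← two_mul]
    exact Int.negOnePow_even _ (even_two_mul _)
  rw [hsign, one_smul, SymmetricCategory.symmetry_assoc, HomologicalComplex.id_f]
  exact (Category.comp_id _).symm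

/-- The composite `symm ∘ symm` as an endo-transformation of `LTen₂`. -/
noncomputable def symmSq (A : Type u) [CommRing A] [HasLTen A] : LTen₂ A ⟶ LTen₂ A where
  app X := (symm A).app (X.2, X.1) ≫ (symm A).app X
  naturality X Y f := by
    have h1 := (symm A).naturality (X := (X.2, X.1)) (Y := (Y.2, Y.1)) (Prod.mkHom f.2 f.1)
    have h2 := (symm A).naturality f
    dsimp at h1 h2 ⊢
    have h1' : (LTen₂ A).map f ≫ (DTen.symm A).app (Y.2, Y.1) =
        (DTen.symm A).app (X.2, X.1) ≫ (LTen₂ A).map (Prod.mkHom f.2 f.1) := h1
    rw [reassoc_of% h1', h2, Category.assoc]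

lemma symmSq_eq_id (A : Type u) [CommRing A] [HasLTen A] : symmSq A = 𝟙 (LTen₂ A) := by
  apply (LTen₂ A).leftDerived_ext (ε A) (qis₂ A)
  ext ⟨K, L⟩
  dsimp [symmSq]
  have h1 := symm_fac A K L
  have h2 := symm_fac A L K
  rw [Category.assoc, h1, reassoc_of% h2, ← Functor.map_comp, braidCx_hom_hom]
  erw [CategoryTheory.Functor.map_id]
  rw [Category.comp_id, Category.id_comp]

theorem result' (A : Type u) [CommRing A] [DTen.HasLTen A] (K L : Dual.D A) :
    IsIso ((DTen.symm A).app (K, L)) := by
  refine ⟨(symm A).app (L, K), ?_, ?_⟩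
  · have := congrArg (fun t => t.app (L, K)) (symmSq_eq_id A)
    exact this
  · have := congrArg (fun t => t.app (K, L)) (symmSq_eq_id A)
    exact this



/-- For a commutative ring `A` and objects `K`, `L` of `D(A)`, the canonical symmetry morphism `L ⊗^L K
⟶ K ⊗^L L` of the derived tensor product, the one compatible with the swap of complexes carrying the
sign `(-1)^{pq}` on `K^p ⊗ L^q`, is an isomorphism. -/
theorem result (A : Type u) [CommRing A] [DTen.HasLTen A] (K L : Dual.D A) :
    IsIso ((DTen.symm A).app (K, L)) :=
  result' A K L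

end Groth.Agent.S13576
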