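import Groth.Statements.S13582
import Groth.Agent.Lib.SuppTensor21
import Groth.Agent.Lib.ModSiteExtSS21

set_option autoImplicit false
universe u
open CategoryTheory CategoryTheory.Limits
open ExtSupp

namespace Groth.Agent.S13582

/-- On a ringed site, for an object `U` with closed complement `Z` and a sheaf of modules `M`, the
`q`-th right derived functor of `N ↦ Γ_Z(ℋom_O(M, N))`, which is the definition of Ext with supports
`Ext^q_{O,Z}(M, -)` as a derived functor, is isomorphic as a functor of `N` to `N ↦ Ext^q_O(M ⊗ O_Z,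
N) = Ext^q_O(M/M_U, N)`. Existence of an isomorphism of functors only. The internal hom out of `M`,
the right adjoint of restriction to `U` and injective resolutions of sheaves of modules are assumed
to exist. -/
theorem result {C : Type u} [SmallCategory C]
    {J : GrothendieckTopology C} {O : Sheaf J CommRingCat.{u}} [HasExt.{u} (ModSite.Mod O)]
    (U : C) [ModSite.HasPushOver O U] (M : ModSite.Mod O) [ModSite.HasSheafHom M]
    [HasInjectiveResolutions (ModSite.Mod O)] (q : ℕ) :
    Nonempty (ExtSupp.ExtZR U M q ≅ Abelian.extFunctorObj ((ModSite.quotOn O U).obj M) q) := by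
  have : EnoughInjectives (ModSite.Mod O) :=
    Groth.Agent.Lib.GrothSS21.enoughInjectives_of_hasInjectiveResolutions
  have : (ModSite.sheafHom M).Additive := inferInstance
  have : (ModSite.sectOn O U).Additive := inferInstance
  have : (ModSite.sheafHom M ⋙ ModSite.sectOn O U).Additive := inferInstance
  let adj1 := (Groth.Agent.Lib.SuppAdj21.adj O U).comp (ModSite.sheafHomAdj M)
  let i1 : (ModSite.quotOn O U ⋙ (ModSite.tensorBi O).flip.obj M).obj (ModSite.unit O) ≅
      (ModSite.quotOn O U).obj M :=
    (Groth.Agent.Lib.SuppAdj21.quotOnTensIso U M).app (ModSite.unit O) ≪≫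
      (ModSite.quotOn O U).mapIso ((Groth.Agent.Lib.ModSiteFlat.unitTensIso O).app M)
  let e : ExtSupp.gammaZHom U M ≅
      preadditiveCoyoneda.obj (Opposite.op ((ModSite.quotOn O U).obj M)) :=
    (Functor.associator _ _ _).symm ≪≫
      Groth.Agent.Lib.GrothSS21.compCoyonedaIso adj1 (ModSite.unit O) ≪≫
      preadditiveCoyoneda.mapIso i1.symm.op
  have : (ExtSupp.gammaZHom U M).Additive :=
    inferInstanceAs (ModSite.sheafHom M ⋙ ModSite.sectOn O U ⋙
      preadditiveCoyoneda.obj (Opposite.op (ModSite.unit O))).Additive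
  obtain ⟨i⟩ := Groth.Agent.Lib.ExtDerived21.nonempty_rightDerived_iso_hF
    ((ModSite.quotOn O U).obj M) (ExtSupp.gammaZHom U M)
    (e ≪≫ (Groth.Agent.Lib.ExtDerived21.hFZeroIso _).symm) q
  exact ⟨i⟩

end Groth.Agent.S13582
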