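import Groth.Statements.S13586
import Groth.Agent.Lib.SuppHZ21
import Groth.Agent.Lib.SuppTensor21
import Groth.Agent.Lib.ModSiteExtSS21

set_option autoImplicit false
universe u
open CategoryTheory CategoryTheory.Limits
open ExtSupp

namespace Groth.Agent.S13586

/-- On a ringed site, for an object `U` with closed complement `Z` and sheaves of modules `M`, `N`,
there is a bounded `E_2` spectral sequence of abelian groups with `E_2^{p,q}` isomorphic to
`H^p_Z(ℰxt^q_O(M, N))` for `p, q ≥ 0` and zero otherwise, together with abutment data whose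
filtrations are finite on `Ext^n_Z(M, N)` (`n ≥ 0`; zero for `n < 0`). The `E_2` identifications and
the abutment isomorphisms are asserted to exist only and are not pinned to the canonical maps, so
edge maps are not part of this statement; the internal hom out of `M`, the right adjoint of
restriction to `U` and injective resolutions of sheaves of modules are assumed to exist. (The
published statement, on a ringed topos and likewise on a ringed space, is functorial in `M`, `N` and
in an object `X` of the topos; this row is the case of the final object.) -/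
theorem result {C : Type u} [SmallCategory C]
    {J : GrothendieckTopology C} {O : Sheaf J CommRingCat.{u}} [HasExt.{u} (ModSite.Mod O)]
    (U : C) [ModSite.HasPushOver O U] (M N : ModSite.Mod O) [ModSite.HasSheafHom M]
    [HasInjectiveResolutions (ModSite.Mod O)] :
    ∃ (E : E₂CohomologicalSpectralSequence AddCommGrpCat.{u})
      (a : SpSeq.Abutment E (fun n : ℤ =>
        if 0 ≤ n then AddCommGrpCat.of (ExtSupp.ExtZ U M N n.toNat) else AddCommGrpCat.of PUnit.{u + 1})),
      (∀ n, a.IsFinite n) ∧ SpSeq.IsBounded E ∧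
      ∀ p q : ℤ, Nonempty ((E.page 2 le_rfl).X (p, q) ≅
        (if 0 ≤ p ∧ 0 ≤ q then AddCommGrpCat.of (ModSite.HZ U ((ModSite.extSh M q.toNat).obj N) p.toNat)
         else AddCommGrpCat.of PUnit.{u + 1})) := by
  have : EnoughInjectives (ModSite.Mod O) :=
    Groth.Agent.Lib.GrothSS21.enoughInjectives_of_hasInjectiveResolutions
  let T : ModSite.Mod O ⥤ ModSite.Mod O := ModSite.sheafHom M
  let S : ModSite.Mod O ⥤ AddCommGrpCat.{u} :=
    preadditiveCoyoneda.obj (Opposite.op ((ModSite.quotOn O U).obj (ModSite.unit O)))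
  have : T.Additive := inferInstanceAs (ModSite.sheafHom M).Additive
  have : PreservesFiniteLimits S :=
    (preservesLimits_preadditiveCoyoneda_obj
      (Opposite.op ((ModSite.quotOn O U).obj (ModSite.unit O)))).preservesFiniteLimits
  have key : ∀ (p : ℕ) (G : ModSite.Mod O),
      Nonempty ((S.rightDerived p).obj G ≅ AddCommGrpCat.of (ModSite.HZ U G p)) := by
    intro p G
    obtain ⟨e⟩ := Groth.Agent.Lib.ExtDerived21.nonempty_rightDerived_obj_iso_ext
      ((ModSite.quotOn O U).obj (ModSite.unit O)) S (Iso.refl _) p G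
    obtain ⟨e'⟩ := Groth.Agent.Lib.SuppHZ21.nonempty_ext_quotOn_unit_addEquiv_HZ O U G p
    exact ⟨e ≪≫ e'.toAddCommGrpIso⟩
  have hZ₀ : IsZero (AddCommGrpCat.of PUnit.{u + 1}) := by
    rw [IsZero.iff_id_eq_zero]
    ext x
  refine Groth.Agent.Lib.GrothSS21.exists_grothendieck_spectralSequence_gen T S
    (fun Q hQ q hq => ?_) N (AddCommGrpCat.of PUnit.{u + 1}) hZ₀
    (fun n => AddCommGrpCat.of (ExtSupp.ExtZ U M N n)) (fun n => ?_)
    (fun p q => AddCommGrpCat.of (ModSite.HZ U ((ModSite.extSh M q).obj N) p)) (fun p q => ?_)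
  · have : Injective Q := hQ
    obtain ⟨k, rfl⟩ : ∃ k, q = k + 1 := ⟨q - 1, by lia⟩
    obtain ⟨e⟩ := key (k + 1) (T.obj Q)
    have hacyc := Groth.Agent.Lib.ModSiteHomAcyc.isTotallyAcyclic_sheafHom_injective O M Q
    have hsub : Subsingleton (ModSite.HZ U (T.obj Q) (k + 1)) :=
      Groth.Agent.Lib.SuppHZ21.subsingleton_HZ_of_isTotallyAcyclic O U _ hacyc k
    refine IsZero.of_iso ?_ e
    rw [IsZero.iff_id_eq_zero]
    ext x
    exact Subsingleton.elim _ _
  · obtain ⟨e⟩ := Groth.Agent.Lib.ExtDerived21.nonempty_rightDerived_obj_iso_ext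
      (((ModSite.tensorBi O).flip.obj M).obj ((ModSite.quotOn O U).obj (ModSite.unit O))) (T ⋙ S)
      (Groth.Agent.Lib.GrothSS21.compCoyonedaIso (ModSite.sheafHomAdj M)
        ((ModSite.quotOn O U).obj (ModSite.unit O))) n N
    let i1 : ((ModSite.tensorBi O).flip.obj M).obj ((ModSite.quotOn O U).obj (ModSite.unit O)) ≅
        (ModSite.quotOn O U).obj M :=
      (Groth.Agent.Lib.SuppAdj21.quotOnTensIso U M).app (ModSite.unit O) ≪≫
        (ModSite.quotOn O U).mapIso ((Groth.Agent.Lib.ModSiteFlat.unitTensIso O).app M)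
    obtain ⟨e'⟩ := Groth.Agent.Lib.GrothSS21.nonempty_ext_iso_of_iso_left i1 N n
    exact ⟨e ≪≫ e'⟩
  · exact key p _

end Groth.Agent.S13586
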