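import Groth.Statements.S13598
import Groth.Agent.Lib.HenselizationUP

set_option autoImplicit false
universe u
open Hensel

namespace Groth.Agent.S13598

/-- For a local ring A, a henselization A ⟶ S of A (S a henselian local ring, the structure map local,
and initial among local homomorphisms from A to henselian local rings) and an ideal I of A inside
the maximal ideal, the quotient S/IS with its induced algebra structure over A/I is a henselization
of A/I. (The local-ring and local-homomorphism instances on the quotients hold automatically; they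
are taken as hypotheses only so that the conclusion can be stated.) -/
theorem result {A S : Type u} [CommRing A] [IsLocalRing A] [CommRing S]
    [IsLocalRing S] [Algebra A S] [IsLocalHom (algebraMap A S)] [Hensel.IsHenselization A S]
    (I : Ideal A) (hI : I ≤ IsLocalRing.maximalIdeal A)
    [IsLocalRing (A ⧸ I)] [IsLocalRing (S ⧸ I.map (algebraMap A S))]
    [IsLocalHom (algebraMap (A ⧸ I) (S ⧸ I.map (algebraMap A S)))] :
    Hensel.IsHenselization (A ⧸ I) (S ⧸ I.map (algebraMap A S)) := by
  classical
  have hS : HenselianLocalRing S := Hensel.IsHenselization.henselian (R := A) (S := S)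
  set J : Ideal S := I.map (algebraMap A S) with hJ
  have hmkS : Function.Surjective (Ideal.Quotient.mk J) := Ideal.Quotient.mk_surjective
  have hmkA : Function.Surjective (Ideal.Quotient.mk I) := Ideal.Quotient.mk_surjective
  have hcomm : ∀ a : A, algebraMap (A ⧸ I) (S ⧸ J) (Ideal.Quotient.mk I a) =
      Ideal.Quotient.mk J (algebraMap A S a) := fun a => rfl
  refine ⟨Groth.Agent.Lib.HenselizationUP.henselianLocalRing_of_surjective
    (Ideal.Quotient.mk J) hmkS, ?_⟩
  intro T _ _ f hf
  have hloc : IsLocalHom (Ideal.Quotient.mk I) := IsLocalHom.of_surjective _ hmkA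
  have hf' : IsLocalHom (f.comp (Ideal.Quotient.mk I)) := RingHom.isLocalHom_comp _ _
  obtain ⟨g', hg', hg'u⟩ := Hensel.IsHenselization.universal (R := A) (S := S) T
    (f.comp (Ideal.Quotient.mk I)) hf'
  have hker : ∀ s ∈ J, g' s = 0 := by
    intro s hs
    have hle : J ≤ RingHom.ker g' := by
      rw [hJ, Ideal.map_le_iff_le_comap]
      intro a ha
      rw [Ideal.mem_comap, RingHom.mem_ker]
      have := congrArg (fun k => k a) hg'
      simp only [RingHom.comp_apply] at this
      rw [this, Ideal.Quotient.eq_zero_iff_mem.mpr ha, map_zero]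
    exact hle hs
  refine ⟨Ideal.Quotient.lift J g' hker, ?_, ?_⟩
  · refine RingHom.ext fun x => ?_
    obtain ⟨a, rfl⟩ := hmkA x
    rw [RingHom.comp_apply, hcomm, Ideal.Quotient.lift_mk]
    exact congrArg (fun k => k a) hg'
  · intro g₂ hg₂
    have h1 : (g₂.comp (Ideal.Quotient.mk J)).comp (algebraMap A S) =
        f.comp (Ideal.Quotient.mk I) := by
      ext a
      have := congrArg (fun k => k (Ideal.Quotient.mk I a)) hg₂
      simp only [RingHom.comp_apply] at this ⊢
      rw [← hcomm, this]
    have h2 := hg'u _ h1
    refine RingHom.ext fun x => ?_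
    obtain ⟨s, rfl⟩ := hmkS x
    rw [Ideal.Quotient.lift_mk, ← h2]
    rfl

end Groth.Agent.S13598
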