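import Groth.Statements.S13601
import Groth.Agent.Lib.H8FibPowGamma
import Groth.Agent.Lib.IsQuot45
import Groth.Agent.Lib.QuotAffine37

set_option autoImplicit false
universe u
open CategoryTheory AlgebraicGeometry
open SymProd

namespace Groth.Agent.S13601

open CategoryTheory.Limits

/-- Let f : X ⟶ S be a flat morphism of schemes such that every finite set of points of X lying over a
single point of S is contained in an affine open of X, let n ≥ 0, and let (Y, q, g) be an n-th
symmetric power of X over S: q : X ×_S ⋯ ×_S X ⟶ Y (n factors) is a quotient by the symmetric group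
on n letters permuting the factors (affine, invariant, identifying sections of O_Y with invariant
sections) and g : Y ⟶ S satisfies q ≫ g = the structure map of the fibre power. Then g is flat. -/
theorem result {X S Y : Scheme.{u}} (f : X ⟶ S) [Flat f]
    (hAF : SymProd.IsAF f) (n : ℕ) (q : SymProd.fibPow f n ⟶ Y) (g : Y ⟶ S)
    (hq : SymProd.IsSymProd f n q g) : Flat g := by
  classical
  have hQ := hq.isQuot
  rw [HasRingHomProperty.iff_exists_appLE (P := @Flat)
    (RingHom.Flat.stableUnderComposition.stableUnderCompositionWithLocalizationAway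
      RingHom.Flat.holdsForLocalizationAway).left]
  intro y
  obtain ⟨x, rfl⟩ := Groth.Agent.Lib.IsQuot45.surjective hQ y
  have hgb : g (q x) = (WidePullback.base (fun _ : Fin n => f)) x := by
    rw [← Scheme.Hom.comp_apply, hq.over]
  obtain ⟨V, hV, hxV, -⟩ := exists_isAffineOpen_mem_and_subset
    (x := (WidePullback.base (fun _ : Fin n => f)) x) (U := ⊤) trivial
  obtain ⟨U, hU, hUV, hxW, hW⟩ :=
    Groth.Agent.Lib.H8FibPow.exists_fibPowOpen_of_AF hAF x V hV hxV
  set W := Groth.Agent.Lib.H8FibPow.fibPowOpen f n U V with hWdef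
  have hsat : q ⁻¹' (q '' (W : Set _)) = (W : Set _) := by
    apply Set.Subset.antisymm
    · rintro z ⟨w, hw, hwz⟩
      obtain ⟨σ, hσ⟩ := (Groth.Agent.Lib.IsQuot45.eq_iff_exists_smul hQ w z).mp hwz
      rw [← hσ]
      exact Groth.Agent.Lib.H8FibPow.permHom_mem_fibPowOpen hw σ.down
    · exact Set.subset_preimage_image _ _
  have hopen : IsOpen (q '' (W : Set _)) := by
    rw [← (Groth.Agent.Lib.IsQuot45.isQuotientMap hQ).isOpen_preimage, hsat]
    exact W.isOpen
  let W' : Y.Opens := ⟨q '' (W : Set _), hopen⟩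
  have hpre : q ⁻¹ᵁ W' = W := by
    ext1
    exact hsat
  have hW'a : IsAffineOpen W' := by
    refine Groth.Agent.Lib.QuotAffine37.isAffineOpen_of_isAffineOpen_preimage hQ W' ?_
    rw [hpre]
    exact hW
  have hW'V : W' ≤ g ⁻¹ᵁ V := by
    rintro _ ⟨w, hw, rfl⟩
    change g (q w) ∈ V
    rw [← Scheme.Hom.comp_apply, hq.over]
    exact (Groth.Agent.Lib.H8FibPow.mem_fibPowOpen.mp hw).1
  refine ⟨⟨V, hV⟩, ⟨W', hW'a⟩, ⟨x, hxW, rfl⟩, hW'V, ?_⟩
  have hWa' : IsAffineOpen (q ⁻¹ᵁ W') := by
    rw [hpre]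
    exact hW
  change (g.appLE V W' hW'V).hom.Flat
  letI : Algebra Γ(S, V) Γ(Y, W') := (g.appLE V W' hW'V).hom.toAlgebra
  letI := Groth.Agent.Lib.H8FibPowGamma.algVW (f := f) (d := n) (U := U) (V := V) hpre
  change Module.Flat Γ(S, V) Γ(Y, W')
  have hlin : ∀ (r : Γ(S, V)) (s : Γ(Y, W')),
      (q.app W').hom (r • s) = r • (q.app W').hom s := by
    intro r s
    rw [Algebra.smul_def, Algebra.smul_def, map_mul]
    congr 1
    change (g.appLE V W' hW'V ≫ q.app W').hom r =
      (Groth.Agent.Lib.H8FibPowGamma.baseApp hpre).hom r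
    congr 2
    rw [Scheme.Hom.app_eq_appLE, Scheme.Hom.appLE_comp_appLE]
    unfold Groth.Agent.Lib.H8FibPowGamma.baseApp
    congr 1
    exact hq.over
  let j : Γ(Y, W') →ₗ[Γ(S, V)] Γ(fibPow f n, q ⁻¹ᵁ W') :=
    { toFun := (q.app W').hom
      map_add' := map_add _
      map_smul' := hlin }
  refine Groth.Agent.Lib.H8FibPowGamma.flat_of_range_eq_invariants hU hV hUV hpre hWa'
    (Flat.flat_appLE f hV hU hUV) j (hQ.injective W') ?_
  intro c
  change c ∈ Set.range (q.app W').hom ↔ _
  rw [hQ.range_iff W' c]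
  constructor
  · intro h σ
    exact h ⟨σ⟩
  · intro h σ
    exact h σ.down

end Groth.Agent.S13601
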