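import Groth.Statements.S13602
import Groth.Agent.Lib.H8FibPow

set_option autoImplicit false
universe u
open CategoryTheory AlgebraicGeometry
open SymProd

namespace Groth.Agent.S13602


/-- Let f : X ⟶ S be a morphism of schemes satisfying (AF): every finite set of points of X over a
single point of S lies in an affine open of X. Then for every d ≥ 0 and every point x of the d-fold
fibre power X ×_S ⋯ ×_S X, some affine open of the fibre power contains the whole orbit of x under
the symmetric group on d letters permuting the factors. (With the existence of a quotient by a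
finite group whose orbits lie in affine opens, this is the existence of the symmetric power
Sym^d(X/S) for X/S satisfying (AF).) -/
theorem result {X S : Scheme.{u}} (f : X ⟶ S) (hAF : SymProd.IsAF f)
    (d : ℕ) (x : ↥(SymProd.fibPow f d)) :
    ∃ U : (SymProd.fibPow f d).Opens, IsAffineOpen U ∧
      ∀ σ : Equiv.Perm (Fin d), (SymProd.permHom f d σ).base x ∈ U := by
  obtain ⟨V, hV, hxV, -⟩ := exists_isAffineOpen_mem_and_subset
    (x := (CategoryTheory.Limits.WidePullback.base (fun _ : Fin d => f)) x) (U := ⊤) trivial
  obtain ⟨U, hU, hUV, hxW, hW⟩ := Groth.Agent.Lib.H8FibPow.exists_fibPowOpen_of_AF hAF x V hV hxV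
  exact ⟨_, hW, fun σ => Groth.Agent.Lib.H8FibPow.permHom_mem_fibPowOpen hxW σ⟩

end Groth.Agent.S13602
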