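import Groth.Statements.S13603
-- import your own Groth.Agent.* helpers here

set_option autoImplicit false
universe u v
open CAlg

namespace Groth.Agent.S13603

/-- Let a group G act on a commutative ring B by ring automorphisms so that every element of B has a
finite orbit, and let S ⊆ B be a multiplicative set of G-fixed elements (so each g ∈ G induces an
endomorphism of the localization S⁻¹B; the hypothesis that g maps S into S is implied by the
previous one and is only carried to name that endomorphism). Then an element of S⁻¹B is fixed by all
of G if and only if it is a fraction b/s with b fixed by G and s ∈ S: the canonical map S⁻¹(B^G) →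
(S⁻¹B)^G is onto. -/
theorem result {B : Type u} [CommRing B]
    {G : Type v} [Group G] [MulSemiringAction G B] (hfin : ∀ b : B, (MulAction.orbit G b).Finite)
    (S : Submonoid B) (hS : ∀ (g : G) (s : B), s ∈ S → g • s = s)
    (hS' : ∀ g : G, S ≤ S.comap (MulSemiringAction.toRingHom G B g)) (x : Localization S) :
    (∀ g : G, IsLocalization.map (Localization S) (MulSemiringAction.toRingHom G B g) (hS' g) x = x) ↔
      ∃ (b : B) (s : S), (∀ g : G, g • b = b) ∧ x = IsLocalization.mk' (Localization S) b s := by
  classical
  constructor
  · intro hx
    obtain ⟨b, s, rfl⟩ := IsLocalization.exists_mk'_eq S x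
    have key : ∀ g : G, ∃ c : S, (c : B) * ((s : B) * g • b) = c * (s * b) := by
      intro g
      have h1 := hx g
      rw [IsLocalization.map_mk', IsLocalization.eq] at h1
      obtain ⟨c, hc⟩ := h1
      refine ⟨c, ?_⟩
      have h2 : (MulSemiringAction.toRingHom G B g) (s : B) = s := hS g s s.2
      simp only [MulSemiringAction.toRingHom_apply] at hc h2
      rw [h2] at hc
      exact hc
    have key' : ∀ y : B, (∃ g : G, g • b = y) → ∃ c : S, (c : B) * ((s : B) * y) = c * (s * b) := by
      rintro y ⟨g, rfl⟩
      exact key g
    let c : B → S := fun y => if h : ∃ g : G, g • b = y then Classical.choose (key' y h) else 1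
    have hc : ∀ g : G, ((c (g • b) : S) : B) * ((s : B) * g • b) = (c (g • b) : S) * (s * b) := by
      intro g
      have h : ∃ g' : G, g' • b = g • b := ⟨g, rfl⟩
      have h3 := Classical.choose_spec (key' (g • b) h)
      simp only [c, dif_pos h]
      exact h3
    let O : Finset B := (hfin b).toFinset
    let t : B := (∏ y ∈ O, ((c y : S) : B)) * s
    have htS : t ∈ S := S.mul_mem (S.prod_mem fun y _ => (c y).2) s.2
    have ht : ∀ g : G, t * g • b = t * b := by
      intro g
      have hmem : g • b ∈ O := by
        simp only [O, Set.Finite.mem_toFinset]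
        exact MulAction.mem_orbit b g
      simp only [t]
      rw [← Finset.mul_prod_erase O _ hmem]
      calc ((c (g • b) : S) : B) * (∏ y ∈ O.erase (g • b), ((c y : S) : B)) * s * g • b
          = (∏ y ∈ O.erase (g • b), ((c y : S) : B)) * (((c (g • b) : S) : B) * ((s : B) * g • b)) := by ring
        _ = (∏ y ∈ O.erase (g • b), ((c y : S) : B)) * (((c (g • b) : S) : B) * ((s : B) * b)) := by rw [hc g]
        _ = ((c (g • b) : S) : B) * (∏ y ∈ O.erase (g • b), ((c y : S) : B)) * s * b := by ring
    refine ⟨t * b, ⟨t, htS⟩ * s, ?_, ?_⟩
    · intro g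
      rw [smul_mul', hS g t htS, ht g]
    · rw [IsLocalization.eq]
      refine ⟨1, ?_⟩
      simp only [Submonoid.coe_mul, OneMemClass.coe_one, one_mul]
      ring
  · rintro ⟨b, s, hb, rfl⟩ g
    rw [IsLocalization.map_mk']
    congr 1
    · exact hb g
    · exact Subtype.ext (hS g s s.2)

end Groth.Agent.S13603
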