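import Groth.Statements.S13605
import Groth.Agent.Lib.H8FibPow
import Groth.Agent.Lib.IsQuot45
import Groth.Agent.Lib.QuotAffine37

set_option autoImplicit false
universe u
open CategoryTheory AlgebraicGeometry
open CategoryTheory.Limits
open SymProd

namespace Groth.Agent.S13605


/-- Let f : X ⟶ S be a morphism of schemes satisfying (AF) (every finite set of points of X over a
single point of S lies in an affine open of X), let 𝒮 be a cover of S by affine opens, let d ≥ 1 and
let (Y, q, g) be a d-th symmetric power of X over S: q : X ×_S ⋯ ×_S X ⟶ Y is a quotient by the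
symmetric group on d letters permuting the factors (affine, invariant, sections of O_Y = invariant
sections) and q ≫ g is the structure map of the fibre power. Then Y is covered by affine opens of
the form Sym^d(U/V) with V in the given cover: for every point y of Y there are V ∈ 𝒮 and an affine
open U ⊆ f⁻¹V of X such that the open W = ⋂_i pr_i⁻¹ U of the fibre power (the fibre power of U over
V) is affine and stable under every permutation of the factors, and an affine open W' of Y
containing y with q⁻¹ W' = W. (The published statement also fixes an affine open cover of X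
subordinate to the cover of S, in which any d points over a common point of a member V lie in a
common member mapping into V, and concludes that the corresponding opens Sym^d(U/V) cover Y; this
row states the pointwise form, producing U for each y.) -/
theorem result {X S Y : Scheme.{u}} (f : X ⟶ S) (hAF : SymProd.IsAF f)
    (𝒮 : Set S.Opens) (h𝒮 : ∀ V ∈ 𝒮, IsAffineOpen V) (hcov : ∀ s : S, ∃ V ∈ 𝒮, s ∈ V)
    (d : ℕ) (hd : 0 < d) (q : SymProd.fibPow f d ⟶ Y) (g : Y ⟶ S) (hq : SymProd.IsSymProd f d q g) (y : Y) :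
    ∃ V ∈ 𝒮, ∃ U : X.Opens, IsAffineOpen U ∧ U ≤ f ⁻¹ᵁ V ∧
      ∃ W : (SymProd.fibPow f d).Opens,
        (W : Set ↥(SymProd.fibPow f d)) =
          ⋂ i : Fin d, (WidePullback.π (fun _ : Fin d => f) i).base ⁻¹' (U : Set X) ∧
        IsAffineOpen W ∧ (∀ σ : Equiv.Perm (Fin d), (SymProd.permHom f d σ) ⁻¹ᵁ W = W) ∧
        ∃ W' : Y.Opens, y ∈ W' ∧ IsAffineOpen W' ∧ q ⁻¹ᵁ W' = W := by
  have hQ := hq.isQuot
  obtain ⟨x, rfl⟩ := Groth.Agent.Lib.IsQuot45.surjective hQ y
  have hgb : g (q x) = (WidePullback.base (fun _ : Fin d => f)) x := by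
    rw [← Scheme.Hom.comp_apply, hq.over]
  obtain ⟨V, hV𝒮, hsV⟩ := hcov (g (q x))
  rw [hgb] at hsV
  obtain ⟨U, hU, hUV, hxW, hW⟩ :=
    Groth.Agent.Lib.H8FibPow.exists_fibPowOpen_of_AF hAF x V (h𝒮 V hV𝒮) hsV
  set W := Groth.Agent.Lib.H8FibPow.fibPowOpen f d U V with hWdef
  refine ⟨V, hV𝒮, U, hU, hUV, W, Groth.Agent.Lib.H8FibPow.coe_fibPowOpen_of_pos hUV hd, hW,
    fun σ => Groth.Agent.Lib.H8FibPow.permHom_preimage_fibPowOpen U V σ, ?_⟩
  -- the image of `W` in `Y`
  have hsat : q ⁻¹' (q '' (W : Set _)) = (W : Set _) := by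
    apply Set.Subset.antisymm
    · rintro z ⟨w, hw, hwz⟩
      obtain ⟨σ, hσ⟩ := (Groth.Agent.Lib.IsQuot45.eq_iff_exists_smul hQ w z).mp hwz
      rw [← hσ]
      exact Groth.Agent.Lib.H8FibPow.permHom_mem_fibPowOpen hw σ.down
    · exact Set.subset_preimage_image _ _
  have hopen : IsOpen (q '' (W : Set _)) := by
    rw [← (Groth.Agent.Lib.IsQuot45.isQuotientMap hQ).isOpen_preimage, hsat]
    exact W.isOpen
  let W' : Y.Opens := ⟨q '' (W : Set _), hopen⟩
  have hpre : q ⁻¹ᵁ W' = W := by
    ext1
    exact hsat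
  refine ⟨W', ⟨x, hxW, rfl⟩, ?_, hpre⟩
  refine Groth.Agent.Lib.QuotAffine37.isAffineOpen_of_isAffineOpen_preimage hQ W' ?_
  rw [hpre]
  exact hW

end Groth.Agent.S13605
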