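import Mathlib
import Groth.Statements.S13606

set_option autoImplicit false
universe u
open CategoryTheory AlgebraicGeometry
open SGA1

namespace Groth.Agent.S13606

section Helpers

variable {X Y : Scheme.{u}} {G : Type u} [Group G]

set_option backward.isDefEq.respectTransparency false in
lemma isAffineHom_restrict {X Y : Scheme.{u}} (f : X ⟶ Y) (h : IsAffineHom f) (U : Y.Opens) :
    IsAffineHom (f ∣_ U) :=
  IsZariskiLocalAtTarget.restrict h U

lemma appLE_congr_hom {X Y : Scheme.{u}} {f f' : X ⟶ Y} (h : f = f') (U : Y.Opens) (V : X.Opens)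
    (e : V ≤ f ⁻¹ᵁ U) : f.appLE U V e = f'.appLE U V (h ▸ e) := by
  subst h; rfl

/-- compatibility of the `appLE` of an endomorphism of an open subscheme with that of the ambient one -/
lemma appLE_restrict_eq (Z : X.Opens) (φ : Z.toScheme ⟶ Z.toScheme) (ψ : X ⟶ X)
    (hφ : φ ≫ Z.ι = Z.ι ≫ ψ) (W : Z.toScheme.Opens) (h : W ≤ φ ⁻¹ᵁ W)
    (h' : Z.ι ''ᵁ W ≤ ψ ⁻¹ᵁ (Z.ι ''ᵁ W)) :
    φ.appLE W W h = ψ.appLE (Z.ι ''ᵁ W) (Z.ι ''ᵁ W) h' := by
  have e₁ : W ≤ Z.ι ⁻¹ᵁ (Z.ι ''ᵁ W) := by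
    rw [Z.ι.preimage_image_eq]
  have hid : Z.ι.appLE (Z.ι ''ᵁ W) W e₁ = 𝟙 _ := by
    rw [Scheme.Opens.ι_appLE]
    exact X.presheaf.map_id _
  have h1 := Scheme.Hom.appLE_comp_appLE φ Z.ι (Z.ι ''ᵁ W) W W e₁ h
  have h2 := Scheme.Hom.appLE_comp_appLE Z.ι ψ (Z.ι ''ᵁ W) (Z.ι ''ᵁ W) W h' e₁
  rw [hid] at h1 h2
  erw [Category.id_comp] at h1
  erw [Category.comp_id] at h2
  rw [h1, h2]
  exact appLE_congr_hom hφ _ _ _

lemma range_appLE_iff (ρ : G →* Aut X) (p : X ⟶ Y) (hp : SGA1.IsQuot ρ p) (W' : X.Opens)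
    (V₀ : Y.Opens) (h : W' = p ⁻¹ᵁ V₀) (s : Γ(X, W')) :
    s ∈ Set.range (p.appLE V₀ W' h.le).hom ↔
      ∀ g : G, ((ρ g).hom.appLE W' W'
        (h ▸ preimage_le_of_inv ρ p hp.inv g V₀)).hom s = s := by
  subst h
  rw [Scheme.Hom.appLE_eq_app]
  exact hp.range_iff V₀ s

lemma injective_appLE (ρ : G →* Aut X) (p : X ⟶ Y) (hp : SGA1.IsQuot ρ p) (W' : X.Opens)
    (V₀ : Y.Opens) (h : W' = p ⁻¹ᵁ V₀) : Function.Injective (p.appLE V₀ W' h.le).hom := by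
  subst h
  rw [Scheme.Hom.appLE_eq_app]
  exact hp.injective V₀

end Helpers

/-- Let a finite group G act on a scheme X and let p : X ⟶ Y be a quotient of X by G (affine,
G-invariant, sections of O_Y over every open = G-invariant sections of O_X over its preimage). Then
for every open U ⊆ Y, U is the quotient of p⁻¹U by G: the restriction p⁻¹U ⟶ U of p is again a
quotient in the same sense, for the action ρU of G on the G-stable open p⁻¹U induced by ρ (pinned by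
compatibility with the inclusion p⁻¹U ⟶ X). -/
theorem result {X Y : Scheme.{u}} {G : Type u} [Group G] [Finite G]
    (ρ : G →* Aut X) (p : X ⟶ Y) (hp : SGA1.IsQuot ρ p) (U : Y.Opens)
    (ρU : G →* Aut (p ⁻¹ᵁ U).toScheme)
    (hρU : ∀ g : G, (ρU g).hom ≫ (p ⁻¹ᵁ U).ι = (p ⁻¹ᵁ U).ι ≫ (ρ g).hom) :
    SGA1.IsQuot ρU (p ∣_ U) := by
  have hinv : ∀ g : G, (ρU g).hom ≫ (p ∣_ U) = p ∣_ U := by
    intro g
    rw [← cancel_mono U.ι, Category.assoc, morphismRestrict_ι, reassoc_of% (hρU g), hp.inv g]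
  have himg : ∀ V : U.toScheme.Opens,
      (p ⁻¹ᵁ U).ι ''ᵁ ((p ∣_ U) ⁻¹ᵁ V) = p ⁻¹ᵁ (U.ι ''ᵁ V) :=
    fun V => image_morphismRestrict_preimage p U V
  have haff : IsAffineHom (p ∣_ U) := Groth.Agent.S13606.isAffineHom_restrict p hp.affine U
  refine ⟨haff, hinv, ?_, ?_⟩
  · intro V
    rw [morphismRestrict_app']
    exact Groth.Agent.S13606.injective_appLE ρ p hp _ _ (himg V)
  · intro V s
    rw [morphismRestrict_app']
    refine (Groth.Agent.S13606.range_appLE_iff ρ p hp _ _ (himg V) s).trans ?_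
    refine forall_congr' (fun g => ?_)
    rw [Groth.Agent.S13606.appLE_restrict_eq (p ⁻¹ᵁ U) (ρU g).hom (ρ g).hom (hρU g)
      ((p ∣_ U) ⁻¹ᵁ V) (preimage_le_of_inv ρU (p ∣_ U) hinv g V)
      ((himg V) ▸ preimage_le_of_inv ρ p hp.inv g (U.ι ''ᵁ V))]
    exact Iff.rfl

end Groth.Agent.S13606
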