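import Groth.Statements.S13615
import Groth.Agent.Lib.ModARDescent22
import Groth.Agent.S13614

set_option autoImplicit false
open CategoryTheory CategoryTheory.Limits AlgebraicGeometry Opposite
universe u
open EtModW

namespace Groth.Agent.S13615

/-- Let X be a Noetherian scheme, i : A → X a closed immersion and j : U → X an open immersion whose
images are complementary, Λ a Noetherian ring, I an ideal of Λ and F = (F_n) an inverse system of
constructible sheaves of Λ-modules on the small etale site of X with I^(n+1) F_n = 0 for all n. Then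
F is AR I-adic (receives a morphism with kernel and cokernel null up to translation from an I-adic
system of constructible sheaves) if and only if both restricted systems (j^* F_n)_n on U and (i^*
F_n)_n on A are AR I-adic in the same sense. -/
theorem result
    (Λ : Type (u + 1)) [CommRing Λ] [IsNoetherianRing Λ] (I : Ideal Λ)
    {X A U : Scheme.{u}} [IsNoetherian X] (i : A ⟶ X) [IsClosedImmersion i] (j : U ⟶ X) [IsOpenImmersion j]
    (hAU : Set.range (fun a => i.base a) = (Set.range (fun t => j.base t))ᶜ)
    (F : ARSys.PS (EtModW.Mod Λ X)) (hc : ∀ n : ℕ, EtModW.IsConstructible Λ (F.obj (op n)))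
    (hk : ARSys.TermKilled I F) :
    (ARSys.TermKilled I F ∧ ∃ (Y : ARSys.PS (EtModW.Mod Λ X)) (v : Y ⟶ F), ARSys.IsAdic I Y ∧ (∀ n : ℕ, EtModW.IsConstructible Λ (Y.obj (op n))) ∧ ARSys.IsARIso v) ↔
      ((ARSys.TermKilled I (F ⋙ EtModW.pull Λ j) ∧ ∃ (Y : ARSys.PS (EtModW.Mod Λ U)) (v : Y ⟶ (F ⋙ EtModW.pull Λ j)), ARSys.IsAdic I Y ∧ (∀ n : ℕ, EtModW.IsConstructible Λ (Y.obj (op n))) ∧ ARSys.IsARIso v) ∧ (ARSys.TermKilled I (F ⋙ EtModW.pull Λ i) ∧ ∃ (Y : ARSys.PS (EtModW.Mod Λ A)) (v : Y ⟶ (F ⋙ EtModW.pull Λ i)), ARSys.IsAdic I Y ∧ (∀ n : ℕ, EtModW.IsConstructible Λ (Y.obj (op n))) ∧ ARSys.IsARIso v)) := by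
  have hU : IsNoetherian U := by
    have : IsLocallyNoetherian U := isLocallyNoetherian_of_isOpenImmersion j
    have : TopologicalSpace.NoetherianSpace U := j.isOpenEmbedding.isInducing.noetherianSpace
    exact {}
  have hA : IsNoetherian A := by
    have : IsLocallyNoetherian A := LocallyOfFiniteType.isLocallyNoetherian i
    have : TopologicalSpace.NoetherianSpace A := i.isClosedEmbedding.isInducing.noetherianSpace
    exact {}
  constructor
  · intro h
    exact ⟨Groth.Agent.S13614.result Λ I j F hc h, Groth.Agent.S13614.result Λ I i F hc h⟩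
  · rintro ⟨h1, h2⟩
    let T : Bool → Scheme.{u} := fun b => Bool.rec A U b
    let g : ∀ b, T b ⟶ X := fun b => Bool.rec (motive := fun b => T b ⟶ X) i j b
    haveI hT : ∀ b, AlgebraicGeometry.IsNoetherian (T b) := fun b => by
      cases b
      · exact hA
      · exact hU
    refine @Groth.Agent.Lib.ModSubLC22.isARAdicConstr_of_pull_family _ _ _ I X _ Bool _ T hT g ?_ F hc hk ?_
    · intro x
      by_cases hx : x ∈ Set.range (fun t => j.base t)
      · exact ⟨true, hx⟩
      · refine ⟨false, ?_⟩
        have hx' : x ∈ Set.range (fun a => i.base a) := by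
          rw [hAU]; exact hx
        exact hx'
    · intro b
      cases b
      · exact h2
      · exact h1

end Groth.Agent.S13615
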