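import Groth.Statements.S13622
import Groth.Agent.Lib.LimAdic2

set_option autoImplicit false
universe u v
open CAlg

namespace Groth.Agent.S13622

/-- Let A be a commutative ring, I a finitely generated ideal and (M_n) an inverse system of finitely
generated A-modules whose transition maps f_n : M_(n+1) → M_n are surjective with kernel I^(n+1)
M_(n+1), and with I^(n+1) M_n = 0 for all n. If L is an inverse limit of the system (projections π_n
compatible with the f_n, jointly injective, every compatible family lifting to L), endowed with a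
module structure over the I-adic completion A^ of A that is compatible with its A-module structure,
then L is finitely generated as an A^-module. No completeness of A is assumed. -/
theorem result
    (A : Type u) [CommRing A] (I : Ideal A) (hI : I.FG)
    (M : ℕ → Type v) [∀ n, AddCommGroup (M n)] [∀ n, Module A (M n)] [∀ n, Module.Finite A (M n)]
    (f : ∀ n, M (n + 1) →ₗ[A] M n) (hf : ∀ n, Function.Surjective (f n))
    (hker : ∀ n, LinearMap.ker (f n) = I ^ (n + 1) • (⊤ : Submodule A (M (n + 1))))
    (hkill : ∀ n, I ^ (n + 1) • (⊤ : Submodule A (M n)) = ⊥)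
    (L : Type v) [AddCommGroup L] [Module A L] (π : ∀ n, L →ₗ[A] M n)
    (hπ : ∀ n, f n ∘ₗ π (n + 1) = π n)
    (hinj : ∀ x : L, (∀ n, π n x = 0) → x = 0)
    (hlift : ∀ y : (∀ n, M n), (∀ n, f n (y (n + 1)) = y n) → ∃ x : L, ∀ n, π n x = y n)
    [Module (AdicCompletion I A) L] [IsScalarTower A (AdicCompletion I A) L] :
    Module.Finite (AdicCompletion I A) L := by
  obtain ⟨hcompl, hsk⟩ :=
    Groth.Agent.Lib.LimAdic.module_limit A I hI M f hf hker L π hπ hinj hlift
  have hk : LinearMap.ker (π 0) = (I • ⊤ : Submodule A L) := by
    rw [(hsk 0).2, zero_add, pow_one]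
  have e : (L ⧸ (I • ⊤ : Submodule A L)) ≃ₗ[A] M 0 :=
    (Submodule.quotEquivOfEq _ _ hk.symm).trans
      (LinearMap.quotKerEquivOfSurjective (π 0) (hsk 0).1)
  have hfin : Module.Finite A (L ⧸ (I • ⊤ : Submodule A L)) := Module.Finite.equiv e.symm
  have : IsHausdorff I L := hcompl.toIsHausdorff
  exact Groth.Agent.Lib.LimAdic2.finite_adicCompletion_of_finite_quotient I hI hfin

end Groth.Agent.S13622
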