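import Groth.Statements.S13624
-- import your own Groth.Agent.* helpers here
import Mathlib
import Groth.Agent.S3617

set_option autoImplicit false
set_option linter.style.haveILetI false
universe u
open CategoryTheory CategoryTheory.Limits AlgebraicGeometry Opposite
open Goren

namespace Groth.Agent.S13624

lemma gor_stalk_fiber {X Y : Scheme.{u}} (f : X ⟶ Y) (x₀ : X) (h : Dual3.IsGorensteinAt f x₀) :
    ∀ (y : Y) (_ : f x₀ = y) (x : ↥(f.fiber y)) (_ : f.fiberι y x = x₀),
      LocCoh.IsGorensteinLocalRing ((f.fiber y).presheaf.stalk x) := by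
  intro y hy x hx
  subst hy
  have : x = f.asFiber x₀ := by
    apply (f.fiberι (f x₀)).isEmbedding.injective
    rw [hx, f.fiberι_asFiber]
  subst this
  exact h.2

/-- Let f : X → Y be a proper, flat morphism of schemes which is locally of finite presentation. Then
the set of points y of Y whose scheme-theoretic fibre X_y = X ×_Y Spec κ(y) is a Gorenstein scheme
(every local ring of X_y is a Gorenstein local ring) is open in Y. -/
theorem result (X Y : Scheme.{u}) (f : X ⟶ Y)
    [IsProper f] [Flat f] [LocallyOfFinitePresentation f] :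
    IsOpen {y : Y | ∀ x : ↥(f.fiber y), LocCoh.IsGorensteinLocalRing ((f.fiber y).presheaf.stalk x)} := by
  have hopen : IsOpen {x : X | Dual3.IsGorensteinAt f x} := Groth.Agent.S3617.result X Y f
  have hclosed : IsClosed (f '' {x : X | Dual3.IsGorensteinAt f x}ᶜ) :=
    f.isClosedMap _ hopen.isClosed_compl
  have heq : {y : Y | ∀ x : ↥(f.fiber y),
      LocCoh.IsGorensteinLocalRing ((f.fiber y).presheaf.stalk x)} =
      (f '' {x : X | Dual3.IsGorensteinAt f x}ᶜ)ᶜ := by
    ext y
    simp only [Set.mem_ofPred_eq, Set.mem_compl_iff, Set.mem_image, not_exists, not_and]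
    constructor
    · intro h x₀ hx₀ hy
      subst hy
      exact hx₀ ⟨Flat.stalkMap f x₀, h (f.asFiber x₀)⟩
    · intro h x
      have hy : f (f.fiberι y x) = y := by
        have : f.fiberι y x ∈ Set.range (f.fiberι y) := ⟨x, rfl⟩
        rw [f.range_fiberι y] at this
        exact this
      have hG : Dual3.IsGorensteinAt f (f.fiberι y x) := by
        by_contra hcon
        exact h (f.fiberι y x) hcon hy
      exact gor_stalk_fiber f (f.fiberι y x) hG y hy x rfl
  rw [heq]
  exact hclosed.isOpen_compl

end Groth.Agent.S13624
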