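import Groth.Statements.S13626
import Groth.Agent.Lib.RpushRestrict
import Groth.Agent.Lib.ModPullback
import Groth.Agent.Lib.H78ProjFormula
import Groth.Agent.Lib.CohLES
import Groth.Agent.S11319
import Groth.Agent.S0462

set_option autoImplicit false
universe u
open CategoryTheory CategoryTheory.Limits AlgebraicGeometry
open Coh

namespace Groth.Agent.S13626

/-- an abstract isomorphism `f_* O_X ≅ O_Y` of `O_Y`-modules forces `f^♯` to be bijective on every
open -/
theorem bijective_app_of_iso {X Y : Scheme.{u}} (f : X ⟶ Y)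
    (e : (Coh.push f).obj (Coh.structureModule X) ≅ Coh.structureModule Y) (V : Y.Opens) :
    Function.Bijective (f.app V) := by
  -- `φ : Γ(Y, V) → Γ(X, f⁻¹V)`, bijective and `Γ(Y, V)`-linear
  let φ : Γ(Y, V) → Γ(X, f ⁻¹ᵁ V) := fun a => e.inv.app V a
  let ψ : Γ(X, f ⁻¹ᵁ V) → Γ(Y, V) := fun s => e.hom.app V s
  have hφψ : ∀ s, φ (ψ s) = s := fun s => by
    change (e.hom ≫ e.inv).app V s = s
    rw [e.hom_inv_id]
    rfl
  have hψφ : ∀ a, ψ (φ a) = a := fun a => by
    change (e.inv ≫ e.hom).app V a = a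
    rw [e.inv_hom_id]
    rfl
  have hlin : ∀ a b : Γ(Y, V), φ (a * b) = f.app V a * φ b := fun a b =>
    Scheme.Modules.Hom.app_smul e.inv a b
  set u : Γ(X, f ⁻¹ᵁ V) := φ 1 with hu
  have hφ : ∀ a, φ a = f.app V a * u := fun a => by
    have := hlin a 1
    rwa [mul_one] at this
  -- `u` is a unit
  have hunit : f.app V (ψ 1) * u = 1 := by rw [← hφ, hφψ]
  constructor
  · intro a b hab
    have : φ a = φ b := by rw [hφ, hφ, hab]
    have := congrArg ψ this
    rwa [hψφ, hψφ] at this
  · intro s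
    refine ⟨ψ (s * u), ?_⟩
    have h1 : φ (ψ (s * u)) = s * u := hφψ _
    rw [hφ] at h1
    have h2 := congrArg (fun t => t * f.app V (ψ 1)) h1
    simp only [mul_assoc] at h2
    rw [mul_comm u, hunit, mul_one, mul_one] at h2
    exact h2

/-- Let f : X → Y be a morphism of schemes with R^i f_* O_X = 0 for every i ≥ 1 and f_* O_X ≅ O_Y. Then
for every invertible O_Y-module L and every p ≥ 0 the groups H^p(X, f^* L) and H^p(Y, L) are
isomorphic (existence of a group isomorphism; the higher direct images are the right derived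
functors of f_* on O_X-modules, under the instance argument recording that O_X-modules have
injective resolutions). -/
theorem result
    {X Y : Scheme.{u}} (f : X ⟶ Y) [HasInjectiveResolutions X.Modules]
    (hR : ∀ i : ℕ, IsZero ((Coh.Rpush f (i + 1)).obj (Coh.structureModule X)))
    (h0 : Nonempty ((Coh.push f).obj (Coh.structureModule X) ≅ Coh.structureModule Y))
    (L : Y.Modules) (hL : PicF.IsInvertible L) (p : ℕ) :
    Nonempty (Coh.HH X ((Scheme.Modules.pullback f).obj L) p ≃+ Coh.HH Y L p) := by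
  obtain ⟨e0⟩ := h0
  -- the higher direct images of `f^* L` vanish
  have hzero : ∀ q : ℕ, IsZero ((Coh.Rpush f (q + 1)).obj ((Scheme.Modules.pullback f).obj L)) := by
    intro q
    apply Groth.Agent.Lib.ModPullback.isZero_of_forall_subsingleton_stalk
    intro y
    obtain ⟨V, hyV, ⟨e⟩⟩ := hL y
    refine Groth.Agent.Lib.ModStalk.subsingleton_stalk_of_isZero_restrict _ V ?_ y hyV
    have : HasInjectiveResolutions (f ⁻¹ᵁ V).toScheme.Modules :=
      Groth.Agent.Lib.RpushRestrict.hasInjectiveResolutions _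
    obtain ⟨e1⟩ := Groth.Agent.Lib.RpushRestrict.nonempty_iso f V
      ((Scheme.Modules.pullback f).obj L) (q + 1)
    obtain ⟨e2⟩ := Groth.Agent.Lib.RpushRestrict.nonempty_iso f V (Coh.structureModule X) (q + 1)
    let t : ((Scheme.Modules.pullback f).obj L).restrict (f ⁻¹ᵁ V).ι ≅
        (Coh.structureModule X).restrict (f ⁻¹ᵁ V).ι :=
      Groth.Agent.Lib.ModPullback.restrictPullbackIso f V L ≪≫
        (Scheme.Modules.pullback (f ∣_ V)).mapIso e ≪≫
        (Groth.Agent.Lib.ModPullback.pullbackUnitIso (f ∣_ V)).symm ≪≫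
        (Scheme.Modules.restrictUnitIso (f ⁻¹ᵁ V).ι).symm
    have hz1 : IsZero (((Coh.Rpush f (q + 1)).obj (Coh.structureModule X)).restrict V.ι) :=
      (Scheme.Modules.restrictFunctor V.ι).map_isZero (hR q)
    have hz2 : IsZero ((Coh.Rpush (f ∣_ V) (q + 1)).obj
        ((Coh.structureModule X).restrict (f ⁻¹ᵁ V).ι)) := hz1.of_iso e2.symm
    have hz3 : IsZero ((Coh.Rpush (f ∣_ V) (q + 1)).obj
        (((Scheme.Modules.pullback f).obj L).restrict (f ⁻¹ᵁ V).ι)) :=
      hz2.of_iso ((Coh.Rpush (f ∣_ V) (q + 1)).mapIso t)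
    exact hz3.of_iso e1
  -- abelian sheaf level
  have hzeroAb : ∀ q : ℕ, IsZero ((CohTop.Rpush f.base (q + 1)).obj
      (Coh.toAb ((Scheme.Modules.pullback f).obj L))) := by
    intro q
    obtain ⟨i⟩ := Groth.Agent.S11319.result f ((Scheme.Modules.pullback f).obj L) (q + 1)
    exact ((SheafOfModules.toSheaf _).map_isZero (hzero q)).of_iso i.symm
  obtain ⟨E1⟩ := Groth.Agent.S0462.result f.base
    (Coh.toAb ((Scheme.Modules.pullback f).obj L)) hzeroAb p
  -- `f_* f^* L ≅ L`
  have hiso : IsIso ((Scheme.Modules.pullbackPushforwardAdjunction f).unit.app L) :=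
    Groth.Agent.Lib.H78ProjFormula.isIso_unit_of_isInvertible f (bijective_app_of_iso f e0) hL
  let E2 : Coh.HH Y L p ≃+
      Coh.HH Y ((Scheme.Modules.pushforward f).obj ((Scheme.Modules.pullback f).obj L)) p :=
    Groth.Agent.Lib.CohLES.mapEquiv
      (asIso ((Scheme.Modules.pullbackPushforwardAdjunction f).unit.app L)) p
  exact ⟨E1.trans E2.symm⟩

end Groth.Agent.S13626
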