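-- S1363: helper5: Noetherian approximation (helper62 DescFP.exists_model_over_fg, helper77 descends_isProper, helper72 descends_flat) reduces to a Noetherian base, where flat+lfp => universally open and S3415 (lower semicontinuity via Stein factorisation) applies; base change invariance of n_geom (helper13 GeomFibBC13). Lib/LocConst5F
import Groth.Statements.S1363
import Groth.Agent.S0002
import Groth.Agent.S0058
import Groth.Agent.Lib.LocConst5F

set_option autoImplicit false
universe u
open FlatMor

namespace Groth.Agent.S1363

open AlgebraicGeometry CategoryTheory Limits in
/-- For a flat proper morphism of finite presentation, the function on the target counting the connected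
components of the geometric fibres is lower semicontinuous. -/
theorem result {X S : Scheme.{u}} (f : X ⟶ S) [IsProper f] [Flat f] [LocallyOfFinitePresentation f] :
    LowerSemicontinuous (fun s : ↑S => MoreMor.nGeomConnComp f s) := by
  exact Groth.Agent.Lib.LocConst5.lowerSemicontinuous_nGeomConnComp
    (fun A _ _ X _ _ M hM n => Groth.Agent.S0002.result A X M hM n)
    (fun A _ _ I X _ _ M hM p => Groth.Agent.S0058.result A I X M hM p) f

end Groth.Agent.S1363
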