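import Groth.Statements.S13631
import Mathlib.LinearAlgebra.Matrix.ToLinearEquiv
import Mathlib.LinearAlgebra.Basis.Basic
import Mathlib.RingTheory.Finiteness.Basic

set_option autoImplicit false
universe u v w
open CAlg

namespace Groth.Agent.S13631

/-- Let k be a field, R an integral domain which is a k-algebra of infinite dimension over k, M a finite
free R-module, σ a ring automorphism of R mapping the image of k onto itself, and φ : M → M a
σ-semilinear map. If the cokernel of φ is finite-dimensional over k, in the sense that some finitely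
generated k-subspace N of M satisfies M = N + φ(M), then φ is injective. -/
theorem result
    {k : Type u} {R : Type v} {M : Type w} [Field k] [CommRing R] [IsDomain R] [Algebra k R]
    (hR : ¬ Module.Finite k R)
    [AddCommGroup M] [Module R M] [Module k M] [IsScalarTower k R M]
    [Module.Finite R M] [Module.Free R M]
    (σ : R ≃+* R)
    (hσ : ∀ x : k, ∃ y : k, σ (algebraMap k R x) = algebraMap k R y)
    (hσ' : ∀ y : k, ∃ x : k, σ (algebraMap k R x) = algebraMap k R y)
    (φ : M →ₛₗ[(σ : R →+* R)] M)
    (hcoker : ∃ N : Submodule k M, N.FG ∧ ∀ m : M, ∃ n ∈ N, ∃ m' : M, m = n + φ m') :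
    Function.Injective φ := by
  classical
  rw [injective_iff_map_eq_zero]
  intro m₀ hm₀
  by_contra hne
  let ι := Module.Free.ChooseBasisIndex R M
  let b : Module.Basis ι R M := Module.Free.chooseBasis R M
  let A : Matrix ι ι R := Matrix.of fun i j => b.repr (φ (b j)) i
  -- formula for `φ` in coordinates
  have hφ : ∀ m : M, ∀ i, b.repr (φ m) i = ∑ j, A i j * σ (b.repr m j) := by
    intro m i
    conv_lhs => rw [← b.sum_repr m]
    rw [map_sum, map_sum, Finset.sum_apply']
    refine Finset.sum_congr rfl (fun j _ => ?_)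
    rw [map_smulₛₗ, map_smul, Finsupp.smul_apply, smul_eq_mul, mul_comm]
    rfl
  -- kernel vector
  let v : ι → R := fun j => σ (b.repr m₀ j)
  have hv : v ≠ 0 := by
    intro hv0
    apply hne
    apply b.repr.injective
    ext j
    have := congrFun hv0 j
    simp only [v, Pi.zero_apply] at this
    rw [map_zero, Finsupp.zero_apply]
    exact (map_eq_zero_iff σ σ.injective).mp this
  have hAv : A.mulVec v = 0 := by
    funext i
    rw [Matrix.mulVec, dotProduct, Pi.zero_apply]
    have := hφ m₀ i
    rw [hm₀, map_zero, Finsupp.zero_apply] at this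
    exact this.symm
  have hdet : A.det = 0 := Matrix.exists_mulVec_eq_zero_iff.mp ⟨v, hv, hAv⟩
  obtain ⟨w, hw, hwA⟩ := Matrix.exists_vecMul_eq_zero_iff.mpr hdet
  -- the functional
  let lam : M →ₗ[R] R := ∑ i, w i • b.coord i
  have hlam : ∀ m, lam m = ∑ i, w i * b.repr m i := by
    intro m
    simp [lam, LinearMap.sum_apply, Module.Basis.coord_apply]
  have hlamφ : ∀ m, lam (φ m) = 0 := by
    intro m
    rw [hlam]
    simp only [hφ, Finset.mul_sum]
    rw [Finset.sum_comm]
    refine Finset.sum_eq_zero (fun j _ => ?_)
    have h1 : ∑ i, w i * (A i j * σ (b.repr m j)) = (∑ i, w i * A i j) * σ (b.repr m j) := by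
      rw [Finset.sum_mul]
      refine Finset.sum_congr rfl (fun i _ => ?_)
      ring
    rw [h1]
    have h2 : ∑ i, w i * A i j = (Matrix.vecMul w A) j := rfl
    rw [h2, hwA, Pi.zero_apply, zero_mul]
  obtain ⟨i₀, hi₀⟩ : ∃ i, w i ≠ 0 := by
    by_contra hcon
    push Not at hcon
    exact hw (funext hcon)
  have hlamb : lam (b i₀) = w i₀ := by
    rw [hlam]
    simp [Module.Basis.repr_self, Finsupp.single_apply]
  obtain ⟨N, hNfg, hN⟩ := hcoker
  let lamk : M →ₗ[k] R := lam.restrictScalars k
  have hfgim : (N.map lamk).FG := hNfg.map lamk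
  have hfin : Module.Finite k (N.map lamk) := Module.Finite.iff_fg.mpr hfgim
  -- `R` embeds into `N.map lamk`
  have hmem : ∀ r : R, r * w i₀ ∈ N.map lamk := by
    intro r
    obtain ⟨n, hn, m', hm'⟩ := hN (r • b i₀)
    refine ⟨n, hn, ?_⟩
    have h1 : lam (r • b i₀) = r * w i₀ := by rw [map_smul, hlamb, smul_eq_mul]
    rw [← h1, hm', map_add, hlamφ, add_zero]
    rfl
  let g : R →ₗ[k] (N.map lamk) :=
    { toFun := fun r => ⟨r * w i₀, hmem r⟩
      map_add' := fun r s => by
        apply Subtype.ext
        simp [add_mul]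
      map_smul' := fun c r => by
        apply Subtype.ext
        simp }
  have hginj : Function.Injective g := by
    intro r s hrs
    have := congrArg Subtype.val hrs
    exact mul_right_cancel₀ hi₀ this
  exact hR (Module.Finite.of_injective g hginj)

end Groth.Agent.S13631
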