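import Groth.Statements.S13632
import Mathlib
import Groth.Agent.Lib.FlatFibre97
-- import your own Groth.Agent.* helpers here

set_option autoImplicit false
universe u
open TensorProduct
open CAlg

namespace Groth.Agent.S13632

/-- Let S = Spec R, X = Spec A finite and flat over S, Y = Spec B of finite type over S, and φ : X → Y
an S-morphism given by f : B → A. If for every point s of S the fibres X_s and Y_s have the same
order (the κ(s)-dimension of their rings of global sections κ(s) ⊗ A and κ(s) ⊗ B; equivalently at
every geometric point) and φ is an isomorphism over every closed point of S (κ(m) ⊗ f bijective for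
every maximal ideal m), then φ is an isomorphism, i.e. f is bijective. (The published statement
allows an arbitrary base scheme S and Y separated of finite type over S; this row is the case of an
affine base with X and Y affine, the case its proof treats directly. Over a base with no closed
points the general statement fails: the hypothesis at closed points is then empty.) -/
theorem result
    {R A B : Type u} [CommRing R] [CommRing A] [CommRing B] [Algebra R A] [Algebra R B]
    [Module.Finite R A] [Module.Flat R A] [Algebra.FiniteType R B]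
    (f : B →ₐ[R] A)
    (hrank : ∀ p : PrimeSpectrum R,
      Module.rank p.asIdeal.ResidueField (p.asIdeal.ResidueField ⊗[R] B) =
        Module.rank p.asIdeal.ResidueField (p.asIdeal.ResidueField ⊗[R] A))
    (hmax : ∀ (m : Ideal R) [m.IsMaximal],
      Function.Bijective (LinearMap.lTensor m.ResidueField f.toLinearMap)) :
    Function.Bijective f := by
  classical
  -- Step 1: surjectivity
  have hsurj : Function.Surjective f.toLinearMap :=
    Groth.Agent.Lib.FlatFibre97.surjective_of_residue_surjective f.toLinearMap
      (fun m _ => (hmax m).2)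
  -- Step 2: the kernel is a finitely generated ideal
  obtain ⟨S, hS⟩ := (Algebra.FiniteType.out : (⊤ : Subalgebra R B).FG)
  have hint : ∀ b : B, IsIntegral R (f b) := fun b => Algebra.IsIntegral.isIntegral (f b)
  choose Pm hPmonic hPzero using hint
  let K₀ : Ideal B := Ideal.span ((fun b => Polynomial.aeval b (Pm b)) '' (S : Set B))
  have hK₀ : ∀ x ∈ K₀, f x = 0 := by
    intro x hx
    have : K₀ ≤ RingHom.ker f := by
      rw [Ideal.span_le]
      rintro _ ⟨b, _, rfl⟩
      rw [SetLike.mem_coe, RingHom.mem_ker, ← Polynomial.aeval_algHom_apply, Polynomial.aeval_def]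
      exact hPzero b
    exact RingHom.mem_ker.mp (this hx)
  let f' : (B ⧸ K₀) →ₐ[R] A := Ideal.Quotient.liftₐ K₀ f hK₀
  have hfin : Module.Finite R (B ⧸ K₀) := by
    have h1 : ∀ x ∈ (Ideal.Quotient.mkₐ R K₀) '' (S : Set B), IsIntegral R x := by
      rintro _ ⟨b, hb, rfl⟩
      refine ⟨Pm b, hPmonic b, ?_⟩
      have h2 : Polynomial.aeval b (Pm b) ∈ K₀ := Ideal.subset_span ⟨b, hb, rfl⟩
      rw [← Polynomial.aeval_def, Polynomial.aeval_algHom_apply, Ideal.Quotient.mkₐ_eq_mk,
        Ideal.Quotient.eq_zero_iff_mem]
      exact h2
    have h3 := fg_adjoin_of_finite ((Finset.finite_toSet S).image (Ideal.Quotient.mkₐ R K₀)) h1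
    rw [← AlgHom.map_adjoin, hS, Algebra.map_top, (AlgHom.range_eq_top _).mpr
      (Ideal.Quotient.mkₐ_surjective R K₀), Algebra.top_toSubmodule] at h3
    exact ⟨h3⟩
  have hcomp : f.toLinearMap = f'.toLinearMap ∘ₗ (Ideal.Quotient.mkₐ R K₀).toLinearMap := by
    ext x
    rfl
  have hinj' : Function.Injective f'.toLinearMap := by
    refine Groth.Agent.Lib.FlatFibre97.injective_of_residue_injective f'.toLinearMap ?_
    intro m _
    rw [injective_iff_map_eq_zero]
    intro y hy
    obtain ⟨z, rfl⟩ := LinearMap.lTensor_surjective m.ResidueField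
      (g := (Ideal.Quotient.mkₐ R K₀).toLinearMap) (Ideal.Quotient.mkₐ_surjective R K₀) y
    rw [← LinearMap.comp_apply, ← LinearMap.lTensor_comp, ← hcomp] at hy
    have hz : z = 0 := (hmax m).1 (by rw [hy, map_zero])
    rw [hz, map_zero]
  have hker : RingHom.ker f = K₀ := by
    refine le_antisymm (fun x hx => ?_) (fun x hx => RingHom.mem_ker.mpr (hK₀ x hx))
    have h0 : f x = 0 := RingHom.mem_ker.mp hx
    have h1 : f'.toLinearMap (Ideal.Quotient.mk K₀ x) = 0 := h0
    have h2 : Ideal.Quotient.mk K₀ x = 0 := hinj' (by rw [h1, map_zero])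
    exact Ideal.Quotient.eq_zero_iff_mem.mp h2
  have hfg : (RingHom.ker f).FG := by
    rw [hker]
    exact ⟨S.image fun b => Polynomial.aeval b (Pm b), by rw [Finset.coe_image]⟩
  -- Step 3: the kernel vanishes
  have hfinK : Module.Finite B (RingHom.ker f) := Module.Finite.iff_fg.mpr hfg
  let e : LinearMap.ker f.toLinearMap ≃ₗ[R] (RingHom.ker f) :=
    { toFun := fun x => ⟨x.1, x.2⟩
      invFun := fun x => ⟨x.1, x.2⟩
      map_add' := fun _ _ => rfl
      map_smul' := fun _ _ => rfl
      left_inv := fun _ => rfl
      right_inv := fun _ => rfl }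
  have hsub : Subsingleton (RingHom.ker f) := by
    refine Groth.Agent.Lib.FlatFibre97.subsingleton_of_fibres (R := R) (B := B) ?_
    intro p _
    have hr := hrank ⟨p, inferInstance⟩
    simp only at hr
    have hfinA : Module.Finite p.ResidueField (p.ResidueField ⊗[R] A) := inferInstance
    have hfinB : Module.Finite p.ResidueField (p.ResidueField ⊗[R] B) :=
      Module.rank_lt_aleph0_iff.mp (hr ▸ Module.rank_lt_aleph0 _ _)
    have hfr : Module.finrank p.ResidueField (p.ResidueField ⊗[R] B) =
        Module.finrank p.ResidueField (p.ResidueField ⊗[R] A) := by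
      rw [Module.finrank, Module.finrank, hr]
    have hs : Function.Surjective (LinearMap.baseChange p.ResidueField f.toLinearMap) := by
      rw [LinearMap.baseChange_eq_ltensor]
      exact LinearMap.lTensor_surjective _ hsurj
    have hi : Function.Injective (f.toLinearMap.lTensor p.ResidueField) := by
      rw [← LinearMap.baseChange_eq_ltensor]
      exact (LinearMap.injective_iff_surjective_of_finrank_eq_finrank hfr).mpr hs
    have hk : Subsingleton (LinearMap.ker (f.toLinearMap.lTensor p.ResidueField)) := by
      rw [LinearMap.ker_eq_bot.mpr hi]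
      infer_instance
    have e1 := LinearMap.kerLTensorEquivOfSurjective f.toLinearMap hsurj p.ResidueField
    have e2 := e1 ≪≫ₗ (LinearEquiv.lTensor p.ResidueField e)
    exact e2.symm.toEquiv.subsingleton
  refine ⟨?_, hsurj⟩
  rw [← AlgHom.coe_toRingHom, RingHom.injective_iff_ker_eq_bot]
  exact (Submodule.subsingleton_iff_eq_bot).mp hsub

end Groth.Agent.S13632
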