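import Groth.Statements.S13635
import Groth.Agent.Lib.CGrpShLocal
import Groth.Agent.S13634

set_option autoImplicit false
universe u w
open CategoryTheory CategoryTheory.Limits MonoidalCategory CartesianMonoidalCategory MonObj AlgebraicGeometry
open MultSch

namespace Groth.Agent.S13635

open Groth.Agent.Lib.CGrpShLocal in
/-- Let M₁ → M₂ → M₃ → 0 be a sequence of R-module schemes over a scheme S, with R-linear homomorphisms
j : M₁ → M₂ and π : M₂ → M₃, exact as a sequence of fppf sheaves. For n ≥ 1 and an R-module scheme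
N, the sequence 0 → Alt(M₃^n, N) → Alt(M₂^n, N) → Alt(M₁ × M₂^(n-1), N) of R-multilinear alternating
morphisms is exact: an R-multilinear alternating φ : M₂^n → N which is trivial on all points with
first coordinate in the image of j is of the form φ' ∘ π^n for a unique morphism φ' : M₃^n → N
(unique among all morphisms), and this φ' is R-multilinear and alternating. -/
theorem result
    {S : Scheme.{u}} {R : Type w} [CommRing R] {M₁ M₂ M₃ N : Over S}
    [GrpObj M₁] [IsCommMonObj M₁] [GrpObj M₂] [IsCommMonObj M₂] [GrpObj M₃] [IsCommMonObj M₃]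
    [GrpObj N] [IsCommMonObj N]
    (ρ₁ : MultSch.RMod R M₁) (ρ₂ : MultSch.RMod R M₂) (ρ₃ : MultSch.RMod R M₃) (ρN : MultSch.RMod R N)
    (j : M₁ ⟶ M₂) (π : M₂ ⟶ M₃) [IsMonHom j] [IsMonHom π]
    (hj : ∀ a : R, j ≫ ρ₂.act a = ρ₁.act a ≫ j) (hπ : ∀ a : R, π ≫ ρ₃.act a = ρ₂.act a ≫ π)
    (w : j ≫ π = 1) (hex : (CGrpSh.seq Scheme.fppfPrecoverage j π w).Exact)
    (hepi : Epi (CGrpSh.ptsMap Scheme.fppfPrecoverage π))
    {n : ℕ} (hn : 1 ≤ n) (φ : MultSch.pow M₂ n ⟶ N)
    (hmult : MultSch.IsMultilinear φ) (hlin : MultSch.IsRLinear ρ₂ ρN φ) (halt : MultSch.IsAlternating φ)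
    (hvan : ∀ (T : Over S) (y : T ⟶ M₁) (x : Fin n → (T ⟶ M₂)), x ⟨0, hn⟩ = y ≫ j →
      MultSch.tuple x ≫ φ = 1) :
    ∃ φ' : MultSch.pow M₃ n ⟶ N,
      (∀ (T : Over S) (x : Fin n → (T ⟶ M₂)), MultSch.tuple x ≫ φ = MultSch.tuple (fun l => x l ≫ π) ≫ φ') ∧
      MultSch.IsMultilinear φ' ∧ MultSch.IsRLinear ρ₃ ρN φ' ∧ MultSch.IsAlternating φ' ∧
      ∀ φ'' : MultSch.pow M₃ n ⟶ N,
        (∀ (T : Over S) (x : Fin n → (T ⟶ M₂)), MultSch.tuple x ≫ φ = MultSch.tuple (fun l => x l ≫ π) ≫ φ'') →
          φ'' = φ' := by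
  classical
  -- vanishing when the first coordinate is killed by π
  have hvan0 : ∀ (T : Over S) (x : Fin n → (T ⟶ M₂)), x ⟨0, hn⟩ ≫ π = 1 → tuple x ≫ φ = 1 := by
    intro T x hx
    obtain ⟨Rd, hRd, hl⟩ := exists_cover_lift_of_exact Scheme.fppfPrecoverage j π w hex _ hx
    refine hom_ext_of_cover Scheme.fppfPrecoverage Rd hRd _ _ fun T' a ha => ?_
    obtain ⟨y', hy'⟩ := hl a ha
    rw [MonObj.comp_one, ← Category.assoc, comp_tuple]
    exact hvan T' y' _ hy'.symm
  -- vanishing when any coordinate is killed by π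
  have hvani : ∀ (T : Over S) (x : Fin n → (T ⟶ M₂)) (i : Fin n), x i ≫ π = 1 → tuple x ≫ φ = 1 := by
    intro T x i hx
    by_cases hi : i = ⟨0, hn⟩
    · subst hi; exact hvan0 T x hx
    set o : Fin n := ⟨0, hn⟩ with ho
    have hoi : o ≠ i := fun h => hi h.symm
    set a := x o with ha
    set d := x i with hd
    -- X has `a * d` in slots `o` and `i`
    have h1 : tuple (Function.update (Function.update x o (a * d)) i (a * d)) ≫ φ = 1 := by
      refine halt T _ o i hoi ?_
      rw [Function.update_self, Function.update_of_ne hoi, Function.update_self]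
    rw [hmult T (Function.update x o (a * d)) i a d] at h1
    -- second factor
    have h2 : Function.update (Function.update x o (a * d)) i d = Function.update x o (a * d) := by
      apply Function.update_eq_self_iff.mpr
      rw [Function.update_of_ne hi]
    have h3 : tuple (Function.update x o (a * d)) ≫ φ = tuple x ≫ φ := by
      rw [hmult T x o a d, Function.update_eq_self, hvan0 T (Function.update x o d)
        (by rw [Function.update_self]; exact hx), _root_.mul_one]
    -- first factor
    have h4 : tuple (Function.update (Function.update x o (a * d)) i a) ≫ φ = 1 := by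
      rw [Function.update_comm hoi, hmult T (Function.update x i a) o a d]
      rw [halt T (Function.update (Function.update x i a) o a) o i hoi
        (by rw [Function.update_self, Function.update_of_ne hi, Function.update_self]),
        hvan0 T (Function.update (Function.update x i a) o d)
        (by rw [Function.update_self]; exact hx), _root_.mul_one]
    rw [h4, h2, h3, _root_.one_mul] at h1
    exact h1
  -- changing one coordinate within its class mod ker π
  have hwd1 : ∀ (T : Over S) (x : Fin n → (T ⟶ M₂)) (i : Fin n) (c : T ⟶ M₂), c ≫ π = x i ≫ π →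
      tuple (Function.update x i c) ≫ φ = tuple x ≫ φ := by
    intro T x i c hc
    have hd : (c * (x i)⁻¹) ≫ π = 1 := by
      have h1 : ((c * (x i)⁻¹) ≫ π) * (x i ≫ π) = x i ≫ π := by
        rw [← MonObj.mul_comp, inv_mul_cancel_right, hc]
      exact mul_eq_right.mp h1
    have h2 := hmult T x i (c * (x i)⁻¹) (x i)
    rw [inv_mul_cancel_right, Function.update_eq_self,
      hvani T (Function.update x i (c * (x i)⁻¹)) i (by rw [Function.update_self]; exact hd),
      _root_.one_mul] at h2
    exact h2
  -- well-definedness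
  have hwdS : ∀ (s : Finset (Fin n)) (T : Over S) (x z : Fin n → (T ⟶ M₂)),
      (∀ l, x l ≫ π = z l ≫ π) → (∀ l, l ∉ s → x l = z l) → tuple x ≫ φ = tuple z ≫ φ := by
    intro s
    induction s using Finset.induction_on with
    | empty =>
      intro T x z _ h
      have : x = z := funext fun l => h l (Finset.notMem_empty l)
      rw [this]
    | insert i s his ih =>
      intro T x z hxz h
      rw [← hwd1 T x i (z i) (hxz i).symm]
      apply ih
      · intro l
        by_cases hl : l = i
        · subst hl; rw [Function.update_self]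
        · rw [Function.update_of_ne hl]; exact hxz l
      · intro l hl
        by_cases hli : l = i
        · subst hli; rw [Function.update_self]
        · rw [Function.update_of_ne hli]
          exact h l (by simp [hli, hl])
  have hwd : ∀ (T : Over S) (x z : Fin n → (T ⟶ M₂)), (∀ l, x l ≫ π = z l ≫ π) →
      tuple x ≫ φ = tuple z ≫ φ := fun T x z h =>
    hwdS Finset.univ T x z h (fun l hl => absurd (Finset.mem_univ l) hl)
  -- the universal point
  obtain ⟨R₀, hR₀, hlift⟩ := exists_cover_lift_fin Scheme.fppfPrecoverage π hepi (proj M₃ n)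
  let yc : ∀ ⦃T' : Over S⦄ (g : T' ⟶ pow M₃ n), R₀ g → (Fin n → (T' ⟶ M₂)) :=
    fun T' g hg => (hlift g hg).choose
  have hyc : ∀ ⦃T' : Over S⦄ (g : T' ⟶ pow M₃ n) (hg : R₀ g) (l : Fin n),
      yc g hg l ≫ π = g ≫ proj M₃ n l := fun T' g hg => (hlift g hg).choose_spec
  obtain ⟨φ', hφ'⟩ := exists_glue Scheme.fppfPrecoverage R₀ hR₀
    (fun T' g hg => tuple (yc g hg) ≫ φ)
    (by
      intro T' T'' g hg h
      rw [← Category.assoc h, comp_tuple]
      apply hwd
      intro l
      rw [hyc _ (R₀.downward_closed hg h) l]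
      simp only [Category.assoc]
      rw [hyc g hg l])
  -- key property
  have hkey : ∀ (T : Over S) (x : Fin n → (T ⟶ M₂)),
      tuple (fun l => x l ≫ π) ≫ φ' = tuple x ≫ φ := by
    intro T x
    refine hom_ext_of_cover Scheme.fppfPrecoverage (R₀.pullback (tuple (fun l => x l ≫ π)))
      ((QuotSh.J Scheme.fppfPrecoverage S).pullback_stable _ hR₀) _ _ fun T' a ha => ?_
    rw [← Category.assoc, hφ' _ ha, ← Category.assoc a, comp_tuple a x]
    apply hwd
    intro l
    rw [hyc _ ha, Category.assoc, tuple_proj, Category.assoc]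
  -- a general tool: equality after lifting
  have hkey' : ∀ (T : Over S) (x : Fin n → (T ⟶ M₃)) (x' : Fin n → (T ⟶ M₂)),
      (∀ l, x' l ≫ π = x l) → tuple x ≫ φ' = tuple x' ≫ φ := by
    intro T x x' h
    rw [← hkey T x']
    congr 2
    funext l
    exact (h l).symm
  have hmult' : MultSch.IsMultilinear φ' := by
    intro T x i y z
    obtain ⟨R₁, hR₁, h₁⟩ := exists_cover_lift_fin Scheme.fppfPrecoverage π hepi x
    obtain ⟨R₂, hR₂, h₂⟩ := exists_cover_lift Scheme.fppfPrecoverage π hepi y
    obtain ⟨R₃, hR₃, h₃⟩ := exists_cover_lift Scheme.fppfPrecoverage π hepi z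
    refine hom_ext_of_cover Scheme.fppfPrecoverage (R₁ ⊓ (R₂ ⊓ R₃))
      ((QuotSh.J Scheme.fppfPrecoverage S).intersection_covering hR₁
        ((QuotSh.J Scheme.fppfPrecoverage S).intersection_covering hR₂ hR₃)) _ _ fun T' a ha => ?_
    obtain ⟨x₁, hx₁⟩ := h₁ a ha.1
    obtain ⟨y₁, hy₁⟩ := h₂ a ha.2.1
    obtain ⟨z₁, hz₁⟩ := h₃ a ha.2.2
    rw [MonObj.comp_mul, ← Category.assoc, ← Category.assoc, ← Category.assoc, comp_tuple,
      comp_tuple, comp_tuple]
    rw [hkey' T' _ (Function.update x₁ i (y₁ * z₁)), hkey' T' _ (Function.update x₁ i y₁),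
      hkey' T' _ (Function.update x₁ i z₁)]
    · exact hmult T' x₁ i y₁ z₁
    · intro l
      by_cases hl : l = i
      · subst hl; rw [Function.update_self, Function.update_self, hz₁]
      · rw [Function.update_of_ne hl, Function.update_of_ne hl, hx₁]
    · intro l
      by_cases hl : l = i
      · subst hl; rw [Function.update_self, Function.update_self, hy₁]
      · rw [Function.update_of_ne hl, Function.update_of_ne hl, hx₁]
    · intro l
      by_cases hl : l = i
      · subst hl
        rw [Function.update_self, Function.update_self, MonObj.mul_comp, hy₁, hz₁, MonObj.comp_mul]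
      · rw [Function.update_of_ne hl, Function.update_of_ne hl, hx₁]
  have hlin' : MultSch.IsRLinear ρ₃ ρN φ' := by
    intro T x i c
    obtain ⟨R₁, hR₁, h₁⟩ := exists_cover_lift_fin Scheme.fppfPrecoverage π hepi x
    refine hom_ext_of_cover Scheme.fppfPrecoverage R₁ hR₁ _ _ fun T' a ha => ?_
    obtain ⟨x₁, hx₁⟩ := h₁ a ha
    rw [← Category.assoc, ← Category.assoc a, ← Category.assoc a, comp_tuple, comp_tuple]
    rw [hkey' T' _ (Function.update x₁ i (x₁ i ≫ ρ₂.act c)), hkey' T' _ x₁ hx₁]
    · exact hlin T' x₁ i c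
    · intro l
      by_cases hl : l = i
      · subst hl
        rw [Function.update_self, Function.update_self, Category.assoc, ← hπ c, ← Category.assoc,
          hx₁, Category.assoc]
      · rw [Function.update_of_ne hl, Function.update_of_ne hl, hx₁]
  have halt' : MultSch.IsAlternating φ' := by
    refine Groth.Agent.S13634.result π hepi φ' hmult' ?_
    intro T x i j hij hxij
    rw [hkey]
    exact halt T x i j hij hxij
  refine ⟨φ', fun T x => (hkey T x).symm, hmult', hlin', halt', ?_⟩
  intro φ'' hφ''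
  refine hom_ext_of_cover Scheme.fppfPrecoverage R₀ hR₀ _ _ fun T' g hg => ?_
  rw [hφ' g hg, hφ'' T' (yc g hg)]
  congr 1
  exact (tuple_eta g).symm.trans (congrArg tuple (funext fun l => (hyc g hg l).symm))

end Groth.Agent.S13635
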