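import Groth.Statements.S13636
import Groth.Agent.Lib.CGrpShLocal

set_option autoImplicit false
universe u w
open CategoryTheory CategoryTheory.Limits MonoidalCategory CartesianMonoidalCategory MonObj AlgebraicGeometry
open MultSch

namespace Groth.Agent.S13636

section Aux

variable {C : Type*} [Category C] [CartesianMonoidalCategory C]

theorem comp_lift3 {T T' P M Q : C} (a : T' ⟶ T) (p : T ⟶ P) (y : T ⟶ M) (q : T ⟶ Q) :
    a ≫ lift p (lift y q) = lift (a ≫ p) (lift (a ≫ y) (a ≫ q)) := by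
  rw [comp_lift, comp_lift]

theorem lift3_whisker {T P M M'' Q : C} (p : T ⟶ P) (y : T ⟶ M) (q : T ⟶ Q) (π : M ⟶ M'') :
    lift p (lift y q) ≫ (P ◁ (π ▷ Q)) = lift p (lift (y ≫ π) q) := by
  rw [lift_whiskerLeft, lift_whiskerRight]

theorem lift3_eta {T P M Q : C} (g : T ⟶ P ⊗ (M ⊗ Q)) :
    lift (g ≫ fst _ _) (lift (g ≫ snd _ _ ≫ fst _ _) (g ≫ snd _ _ ≫ snd _ _)) = g := by
  apply CartesianMonoidalCategory.hom_ext
  · simp
  · apply CartesianMonoidalCategory.hom_ext <;> simp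

end Aux

open Groth.Agent.Lib.CGrpShLocal in
/-- Let M' → M → M'' → 0 be a sequence of R-module schemes over a scheme S, with R-linear homomorphisms
j and π, exact as fppf sheaves, and let ψ : P × M × Q → N be a morphism to an R-module scheme N
which is additive and R-linear in the coordinate M (on T-valued points) and trivial on all points
whose M-coordinate lies in the image of j. Then ψ = ψ' ∘ (id × π × id) for a unique morphism ψ' : P
× M'' × Q → N, and ψ' is additive and R-linear in the coordinate M''. (The published statement has a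
product M₁ × ⋯ × M_r of R-module schemes with the exact sequence in the i-th factor and ψ
R-multilinear; here the factors before and after the i-th are collected into single S-schemes P and
Q, and only linearity in the i-th coordinate, the one the statement is about, is carried; linearity
in the other coordinates passes between ψ and ψ' formally.) -/
theorem result
    {S : Scheme.{u}} {R : Type w} [CommRing R] {P Q M' M M'' N : Over S}
    [GrpObj M'] [IsCommMonObj M'] [GrpObj M] [IsCommMonObj M] [GrpObj M''] [IsCommMonObj M'']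
    [GrpObj N] [IsCommMonObj N]
    (ρ' : MultSch.RMod R M') (ρ : MultSch.RMod R M) (ρ'' : MultSch.RMod R M'') (ρN : MultSch.RMod R N)
    (j : M' ⟶ M) (π : M ⟶ M'') [IsMonHom j] [IsMonHom π]
    (hj : ∀ a : R, j ≫ ρ.act a = ρ'.act a ≫ j) (hπ : ∀ a : R, π ≫ ρ''.act a = ρ.act a ≫ π)
    (w : j ≫ π = 1) (hex : (CGrpSh.seq Scheme.fppfPrecoverage j π w).Exact)
    (hepi : Epi (CGrpSh.ptsMap Scheme.fppfPrecoverage π))
    (ψ : P ⊗ (M ⊗ Q) ⟶ N)
    (hadd : ∀ (T : Over S) (p : T ⟶ P) (q : T ⟶ Q) (y z : T ⟶ M),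
      lift p (lift (y * z) q) ≫ ψ = (lift p (lift y q) ≫ ψ) * (lift p (lift z q) ≫ ψ))
    (hlin : ∀ (T : Over S) (p : T ⟶ P) (q : T ⟶ Q) (y : T ⟶ M) (a : R),
      lift p (lift (y ≫ ρ.act a) q) ≫ ψ = (lift p (lift y q) ≫ ψ) ≫ ρN.act a)
    (hvan : ∀ (T : Over S) (p : T ⟶ P) (q : T ⟶ Q) (y' : T ⟶ M'), lift p (lift (y' ≫ j) q) ≫ ψ = 1) :
    ∃ ψ' : P ⊗ (M'' ⊗ Q) ⟶ N,
      (P ◁ (π ▷ Q)) ≫ ψ' = ψ ∧
      (∀ (T : Over S) (p : T ⟶ P) (q : T ⟶ Q) (y z : T ⟶ M''),
        lift p (lift (y * z) q) ≫ ψ' = (lift p (lift y q) ≫ ψ') * (lift p (lift z q) ≫ ψ')) ∧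
      (∀ (T : Over S) (p : T ⟶ P) (q : T ⟶ Q) (y : T ⟶ M'') (a : R),
        lift p (lift (y ≫ ρ''.act a) q) ≫ ψ' = (lift p (lift y q) ≫ ψ') ≫ ρN.act a) ∧
      ∀ ψ'' : P ⊗ (M'' ⊗ Q) ⟶ N, (P ◁ (π ▷ Q)) ≫ ψ'' = ψ → ψ'' = ψ' := by
  classical
  -- vanishing on the kernel of π
  have hker : ∀ (T : Over S) (p : T ⟶ P) (q : T ⟶ Q) (d : T ⟶ M), d ≫ π = 1 →
      lift p (lift d q) ≫ ψ = 1 := by
    intro T p q d hd
    obtain ⟨Rd, hRd, hl⟩ := exists_cover_lift_of_exact Scheme.fppfPrecoverage j π w hex d hd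
    refine hom_ext_of_cover Scheme.fppfPrecoverage Rd hRd _ _ fun T' a ha => ?_
    obtain ⟨y', hy'⟩ := hl a ha
    rw [MonObj.comp_one, ← Category.assoc, comp_lift3, ← hy']
    exact hvan T' _ _ y'
  -- well-definedness
  have hwd : ∀ (T : Over S) (p : T ⟶ P) (q : T ⟶ Q) (y z : T ⟶ M), y ≫ π = z ≫ π →
      lift p (lift y q) ≫ ψ = lift p (lift z q) ≫ ψ := by
    intro T p q y z hyz
    have hd : (y * z⁻¹) ≫ π = 1 := by
      have h1 : ((y * z⁻¹) ≫ π) * (z ≫ π) = z ≫ π := by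
        rw [← MonObj.mul_comp, inv_mul_cancel_right, hyz]
      exact mul_eq_right.mp h1
    have h2 := hadd T p q (y * z⁻¹) z
    rw [inv_mul_cancel_right, hker T p q _ hd, _root_.one_mul] at h2
    exact h2
  -- the universal point
  obtain ⟨R₀, hR₀, hlift⟩ := exists_cover_lift Scheme.fppfPrecoverage π hepi
    (snd P (M'' ⊗ Q) ≫ fst M'' Q)
  let yc : ∀ ⦃T' : Over S⦄ (g : T' ⟶ P ⊗ (M'' ⊗ Q)), R₀ g → (T' ⟶ M) :=
    fun T' g hg => (hlift g hg).choose
  have hyc : ∀ ⦃T' : Over S⦄ (g : T' ⟶ P ⊗ (M'' ⊗ Q)) (hg : R₀ g),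
      yc g hg ≫ π = g ≫ snd P (M'' ⊗ Q) ≫ fst M'' Q := fun T' g hg => (hlift g hg).choose_spec
  obtain ⟨ψ', hψ'⟩ := exists_glue Scheme.fppfPrecoverage R₀ hR₀
    (fun T' g hg => lift (g ≫ fst _ _) (lift (yc g hg) (g ≫ snd _ _ ≫ snd _ _)) ≫ ψ)
    (by
      intro T' T'' g hg h
      rw [← Category.assoc h, comp_lift3]
      simp only [Category.assoc]
      apply hwd
      rw [hyc _ (R₀.downward_closed hg h)]
      simp only [Category.assoc]
      rw [hyc g hg])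
  -- key property
  have hkey : ∀ (T : Over S) (p : T ⟶ P) (q : T ⟶ Q) (y : T ⟶ M),
      lift p (lift (y ≫ π) q) ≫ ψ' = lift p (lift y q) ≫ ψ := by
    intro T p q y
    refine hom_ext_of_cover Scheme.fppfPrecoverage (R₀.pullback (lift p (lift (y ≫ π) q)))
      ((QuotSh.J Scheme.fppfPrecoverage S).pullback_stable _ hR₀) _ _ fun T' a ha => ?_
    rw [← Category.assoc, hψ' _ ha, ← Category.assoc a, comp_lift3 a p y q]
    have e1 : (a ≫ lift p (lift (y ≫ π) q)) ≫ fst P (M'' ⊗ Q) = a ≫ p := by simp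
    have e2 : (a ≫ lift p (lift (y ≫ π) q)) ≫ snd P (M'' ⊗ Q) ≫ snd M'' Q = a ≫ q := by simp
    rw [e1, e2]
    apply hwd
    rw [hyc _ ha]
    simp
  refine ⟨ψ', ?_, ?_, ?_, ?_⟩
  · have h := hkey (P ⊗ (M ⊗ Q)) (fst _ _) (snd _ _ ≫ snd _ _) (snd _ _ ≫ fst _ _)
    rw [← lift3_whisker, Category.assoc] at h
    have e : lift (fst P (M ⊗ Q)) (lift (snd P (M ⊗ Q) ≫ fst M Q) (snd P (M ⊗ Q) ≫ snd M Q)) =
        𝟙 _ := by
      have := lift3_eta (𝟙 (P ⊗ (M ⊗ Q)))
      simpa using this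
    rw [e, Category.id_comp, Category.id_comp] at h
    exact h
  · intro T p q y z
    obtain ⟨R₁, hR₁, h₁⟩ := exists_cover_lift Scheme.fppfPrecoverage π hepi y
    obtain ⟨R₂, hR₂, h₂⟩ := exists_cover_lift Scheme.fppfPrecoverage π hepi z
    refine hom_ext_of_cover Scheme.fppfPrecoverage (R₁ ⊓ R₂)
      ((QuotSh.J Scheme.fppfPrecoverage S).intersection_covering hR₁ hR₂) _ _ fun T' a ha => ?_
    obtain ⟨y₁, hy₁⟩ := h₁ a ha.1
    obtain ⟨z₁, hz₁⟩ := h₂ a ha.2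
    rw [MonObj.comp_mul, ← Category.assoc, ← Category.assoc, ← Category.assoc, comp_lift3,
      comp_lift3, comp_lift3, MonObj.comp_mul, ← hy₁, ← hz₁, ← MonObj.mul_comp, hkey, hkey, hkey]
    exact hadd T' _ _ y₁ z₁
  · intro T p q y c
    obtain ⟨R₁, hR₁, h₁⟩ := exists_cover_lift Scheme.fppfPrecoverage π hepi y
    refine hom_ext_of_cover Scheme.fppfPrecoverage R₁ hR₁ _ _ fun T' a ha => ?_
    obtain ⟨y₁, hy₁⟩ := h₁ a ha
    rw [← Category.assoc, ← Category.assoc a, ← Category.assoc a, comp_lift3, comp_lift3,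
      ← Category.assoc a y, ← hy₁, Category.assoc y₁, hπ c, ← Category.assoc y₁, hkey, hkey]
    exact hlin T' _ _ y₁ c
  · intro ψ'' hψ''
    refine hom_ext_of_cover Scheme.fppfPrecoverage R₀ hR₀ _ _ fun T' g hg => ?_
    rw [hψ' g hg, ← hψ'', ← Category.assoc, lift3_whisker, hyc g hg]
    congr 1
    exact (lift3_eta g).symm

end Groth.Agent.S13636
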