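-- S1364: helper5: Noetherian approximation reduces to a Noetherian base, where S3416 (EGA IV 15.5.9(ii), Lib/LocConst5A-E: DVR lemma) applies pointwise; Lib/LocConst5F
import Groth.Statements.S1364
import Groth.Agent.S0002
import Groth.Agent.S0058
import Groth.Agent.Lib.LocConst5F

set_option autoImplicit false
universe u
open FlatMor

namespace Groth.Agent.S1364

open AlgebraicGeometry CategoryTheory Limits in
/-- For a flat proper morphism of finite presentation whose geometric fibres are reduced, the function
on the target counting the connected components of the geometric fibres is locally constant. -/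
theorem result {X S : Scheme.{u}} (f : X ⟶ S) [IsProper f] [Flat f] [LocallyOfFinitePresentation f] [GeometricallyReduced f] :
    IsLocallyConstant (fun s : ↑S => MoreMor.nGeomConnComp f s) := by
  exact Groth.Agent.Lib.LocConst5.isLocallyConstant_nGeomConnComp
    (fun A _ _ X _ _ M hM n => Groth.Agent.S0002.result A X M hM n)
    (fun A _ _ I X _ _ M hM p => Groth.Agent.S0058.result A I X M hM p) f

end Groth.Agent.S1364
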