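import Groth.Statements.S13642
import Mathlib.AlgebraicGeometry.Morphisms.Finite

set_option autoImplicit false
open CategoryTheory
universe u
open FSch

namespace Groth.Agent.S13642

open AlgebraicGeometry

theorem isFinite_resLE_of_eq {X Y : Scheme.{u}} (f : X ⟶ Y) (hf : IsFinite f) (U : Y.Opens)
    (V : X.Opens) (hV : V = f ⁻¹ᵁ U) : IsFinite (f.resLE U V hV.le) := by
  subst hV
  rw [Scheme.Hom.resLE_eq_morphismRestrict]
  exact IsZariskiLocalAtTarget.restrict hf U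

/-- Let f : 𝔛 ⟶ 𝔜 be a finite morphism of locally Noetherian formal schemes (adic, with finite morphism
of smallest levels). Then for every open U of 𝔜 the restriction f⁻¹(U) ⟶ U of f to the induced
formal schemes on U and on its inverse image is a finite morphism. -/
theorem result (𝔛 𝔜 : FSch.Sys.{u}) (h𝔛 : 𝔛.IsLocNoethFormal) (h𝔜 : 𝔜.IsLocNoethFormal)
    (f : 𝔛 ⟶ 𝔜) (hf : FSch.IsFiniteHom f) (U : (𝔜.X 0).Opens) :
    FSch.IsFiniteHom (FSch.Hom.restrictOpen f h𝔛.1 h𝔜.1 U) := by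
  obtain ⟨hadic, hfin⟩ := hf
  refine ⟨fun n => ?_, ?_⟩
  · refine Scheme.Hom.isPullback_resLE (hadic n) (𝔜.lvU_le h𝔜.1 n U)
      (FSch.Hom.lvU_preimage f h𝔛.1 h𝔜.1 (n + 1) U).ge ?_
    rw [𝔛.lvU_succ h𝔛.1 n, FSch.Hom.lvU_preimage f h𝔛.1 h𝔜.1 n U, inf_idem]
  · exact isFinite_resLE_of_eq _ hfin _ _ (FSch.Hom.lvU_preimage f h𝔛.1 h𝔜.1 0 U).symm

end Groth.Agent.S13642
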