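import Groth.Statements.S13664
import Groth.Agent.Lib.GradedZ50
import Mathlib

set_option autoImplicit false
universe u
open GrRing

namespace Groth.Agent.S13664

section helpers

variable {R A : Type u} [CommRing R] [CommRing A] [Algebra R A]
  (𝒜 : ℤ → Submodule R A) [GradedAlgebra 𝒜]

omit [GradedAlgebra 𝒜] in
/-- powers of a submodule contained in an ideal are contained in the powers of the ideal. -/
lemma subpow_le (S : Submodule R A) (I : Ideal A) (hS : ∀ a ∈ S, a ∈ I) (k : ℕ) :
    ∀ a ∈ S ^ k, a ∈ I ^ k := by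
  induction k with
  | zero => intro a _; simp
  | succ k ih =>
    intro a ha
    rw [pow_succ] at ha
    refine Submodule.mul_induction_on ha ?_ ?_
    · intro u hu v hv
      rw [pow_succ]
      exact Ideal.mul_mem_mul (ih u hu) (hS v hv)
    · intro u v hu hv
      exact Ideal.add_mem _ hu hv

/-- the ideal generated by the homogeneous elements of degree `≥ j`. -/
def Hge (j : ℤ) : Ideal A := Ideal.span {a : A | ∃ n : ℤ, j ≤ n ∧ a ∈ 𝒜 n}

lemma Hge_mul_le (i j : ℤ) : Hge 𝒜 i * Hge 𝒜 j ≤ Hge 𝒜 (i + j) := by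
  unfold Hge
  rw [Ideal.span_mul_span']
  apply Ideal.span_mono
  rintro _ ⟨a, ⟨n, hn, ha⟩, b, ⟨n', hn', hb⟩, rfl⟩
  exact ⟨n + n', by omega, SetLike.mul_mem_graded ha hb⟩

lemma pow_le_Hge (I : Ideal A) (hI : I = Hge 𝒜 1) (k : ℕ) : I ^ (k + 1) ≤ Hge 𝒜 (k + 1) := by
  induction k with
  | zero => simp [hI]
  | succ k ih =>
    rw [pow_succ]
    refine le_trans (Ideal.mul_mono ih (le_of_eq hI)) ?_
    have := Hge_mul_le 𝒜 (k + 1) 1
    push_cast
    exact this

end helpers


/-- Let A be a commutative ring graded by the integers whose ideal I generated by the homogeneous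
elements of positive degree has homogeneous generators f_1, …, f_p, of positive degrees d_1, …, d_p,
let d be a positive integer divisible by each d_i, and let x be an element of an A-module M. The
following are equivalent: x is annihilated by some power of I; x is annihilated by (A_d)^n for all
sufficiently large n; there is an integer s such that A_n x = 0 for all n ≥ s. (The published
statement is for a homogeneous element of a graded module; this row drops both the grading of M and
the homogeneity of x, which play no role.) -/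
theorem result {R A : Type u} [CommRing R] [CommRing A] [Algebra R A]
    (𝒜 : ℤ → Submodule R A) [GradedAlgebra 𝒜]
    {p : ℕ} (f : Fin p → A) (deg : Fin p → ℤ) (hdeg : ∀ i, 0 < deg i) (hf : ∀ i, f i ∈ 𝒜 (deg i))
    (hgen : Ideal.span {a : A | ∃ n : ℤ, 0 < n ∧ a ∈ 𝒜 n} = Ideal.span (Set.range f))
    (d : ℤ) (hd : 0 < d) (hdvd : ∀ i, deg i ∣ d)
    {M : Type u} [AddCommGroup M] [Module A M] (x : M) :
    [x ∈ GrLC.gam (Ideal.span (Set.range f)) M,
     ∃ n₀ : ℕ, ∀ n : ℕ, n₀ ≤ n → ∀ r ∈ (𝒜 d) ^ n, r • x = 0,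
     ∃ s : ℤ, ∀ n : ℤ, s ≤ n → ∀ r ∈ 𝒜 n, r • x = 0].TFAE := by
  classical
  have hI1 : Ideal.span (Set.range f) = Hge 𝒜 1 := by
    rw [← hgen]; rfl
  have hAd : ∀ a ∈ 𝒜 d, a ∈ Ideal.span (Set.range f) := by
    intro a ha
    rw [← hgen]
    exact Ideal.subset_span ⟨d, hd, ha⟩
  -- iterated decomposition
  have hiter : ∀ (k : ℕ) (N : ℤ), d * p - ∑ i, deg i + (k : ℤ) * d - d < N →
      𝒜 N ≤ (𝒜 d) ^ k * 𝒜 (N - (k : ℤ) * d) := by
    intro k
    induction k with
    | zero => intro N _; simp
    | succ k ih =>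
      intro N hN
      push_cast at hN
      have h1 := ih N (by nlinarith)
      have h2 := Groth.Agent.Lib.GradedZ50.eq_mul 𝒜 f deg hdeg hf hgen d hd hdvd
        (N - (k : ℤ) * d) (by linarith)
      rw [h2, ← mul_assoc, ← pow_succ] at h1
      have h3 : N - (k : ℤ) * d - d = N - ((k + 1 : ℕ) : ℤ) * d := by push_cast; ring
      rw [h3] at h1
      exact h1
  tfae_have 1 → 2 := by
    rintro ⟨n, hn⟩
    refine ⟨n, fun n' hn' r hr => ?_⟩
    apply hn
    exact Ideal.pow_le_pow_right hn' (subpow_le (𝒜 d) _ hAd n' r hr)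
  tfae_have 2 → 3 := by
    rintro ⟨n₀, hn₀⟩
    refine ⟨d * p - ∑ i, deg i + 1 + (n₀ : ℤ) * d, fun N hN r hr => ?_⟩
    have h1 := hiter n₀ N (by linarith) hr
    refine Submodule.mul_induction_on h1 ?_ ?_
    · intro u hu v _
      rw [mul_comm, mul_smul, hn₀ n₀ le_rfl u hu, smul_zero]
    · intro u v hu hv
      rw [add_smul, hu, hv, add_zero]
  tfae_have 3 → 1 := by
    rintro ⟨s, hs⟩
    refine ⟨s.toNat + 1, fun r hr => ?_⟩
    have h1 := pow_le_Hge 𝒜 _ hI1 s.toNat hr
    have h2 : Hge 𝒜 ((s.toNat : ℤ) + 1) ≤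
        LinearMap.ker (LinearMap.toSpanSingleton A M x) := by
      unfold Hge
      rw [Ideal.span_le]
      rintro a ⟨n, hn, ha⟩
      simp only [SetLike.mem_coe, LinearMap.mem_ker, LinearMap.toSpanSingleton_apply]
      exact hs n (by have := Int.self_le_toNat s; omega) a ha
    have h3 := h2 h1
    simpa using h3
  tfae_finish

end Groth.Agent.S13664
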