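import Groth.Statements.S13665
import Mathlib.RingTheory.FiniteType
import Mathlib.RingTheory.GradedAlgebra.Homogeneous.Ideal

set_option autoImplicit false
universe u
open GrRing

namespace Groth.Agent.S13665

open DirectSum

section
variable {R A : Type u} [CommRing R] [CommRing A] [Algebra R A]
  (𝒜 : ℤ → Submodule R A) [GradedAlgebra 𝒜]

lemma proj_mul_right {a t : A} {d : ℤ} (ht : t ∈ 𝒜 d) (n : ℤ) :
    GradedRing.proj 𝒜 n (a * t) = GradedRing.proj 𝒜 (n - d) a * t := by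
  have := DirectSum.coe_decompose_mul_add_of_right_mem 𝒜 (i := n - d) (a := a) ht
  rw [sub_add_cancel] at this
  simpa [GradedRing.proj_apply] using this

lemma exists_repr {T : Set A} (deg : A → ℤ) (hdeg : ∀ t ∈ T, t ∈ 𝒜 (deg t)) {x : A}
    (hx : x ∈ Ideal.span T) {n : ℤ} (hxn : x ∈ 𝒜 n) :
    ∃ c : A →₀ A, (c.support : Set A) ⊆ T ∧
      x = ∑ t ∈ c.support, GradedRing.proj 𝒜 (n - deg t) (c t) * t := by
  obtain ⟨c, hc, hsum⟩ := Submodule.mem_span_set.mp hx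
  refine ⟨c, hc, ?_⟩
  have h1 : GradedRing.proj 𝒜 n x = x := by
    rw [GradedRing.proj_apply, DirectSum.decompose_of_mem_same 𝒜 hxn]
  rw [← h1, ← hsum, Finsupp.sum, map_sum]
  refine Finset.sum_congr rfl (fun t ht => ?_)
  rw [smul_eq_mul, proj_mul_right 𝒜 (hdeg t (hc ht))]

lemma exists_finite_span (h2 : ∀ I : Ideal A, I.IsHomogeneous 𝒜 → I.FG) (n : ℤ) (s : Set A)
    (hs : s ⊆ 𝒜 n) :
    ∃ t : Finset A, (t : Set A) ⊆ s ∧ s ⊆ Submodule.span (𝒜 0) (t : Set A) := by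
  have hI : (Ideal.span s).IsHomogeneous 𝒜 :=
    Ideal.homogeneous_span 𝒜 s (fun x hx => ⟨n, hs hx⟩)
  obtain ⟨t, hts, hspan⟩ := (Submodule.fg_span_iff_fg_span_finset_subset s).mp (h2 _ hI)
  refine ⟨t, hts, fun x hx => ?_⟩
  have hx' : x ∈ Ideal.span (t : Set A) := by
    have : x ∈ Ideal.span s := Submodule.subset_span hx
    rw [Ideal.span, hspan] at this
    exact this
  obtain ⟨c, hc, hxe⟩ := exists_repr 𝒜 (fun _ => n) (fun y hy => hs (hts hy)) hx' (hs hx)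
  rw [hxe]
  refine Submodule.sum_mem _ (fun y hy => ?_)
  rw [sub_self]
  have : GradedRing.proj 𝒜 0 (c y) * y = (decompose 𝒜 (c y) 0 : 𝒜 0) • y := rfl
  rw [this]
  exact Submodule.smul_mem _ _ (Submodule.subset_span (hc hy))

lemma noeth_zero (h2 : ∀ I : Ideal A, I.IsHomogeneous 𝒜 → I.FG) : IsNoetherianRing (𝒜 0) := by
  classical
  rw [isNoetherianRing_iff_ideal_fg]
  intro J
  obtain ⟨t, hts, hst⟩ := exists_finite_span 𝒜 h2 0
    ((fun x : 𝒜 0 => (x : A)) '' (J : Set (𝒜 0))) (by rintro _ ⟨x, _, rfl⟩; exact x.2)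
  obtain ⟨t', ht'J, rfl⟩ := Finset.subset_set_image_iff.mp hts
  refine ⟨t', le_antisymm (Ideal.span_le.mpr ht'J) (fun x hx => ?_)⟩
  have hxA : (x : A) ∈ Submodule.span (𝒜 0) ((t'.image (fun x : 𝒜 0 => (x : A)) : Finset A) : Set A) :=
    hst ⟨x, hx, rfl⟩
  have himg : ((t'.image (fun x : 𝒜 0 => (x : A)) : Finset A) : Set A) =
      (Algebra.linearMap (𝒜 0) A) '' (t' : Set (𝒜 0)) := by
    rw [Finset.coe_image]; rfl
  rw [himg, ← Submodule.map_span] at hxA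
  obtain ⟨y, hy, hyx⟩ := hxA
  have : y = x := Subtype.ext hyx
  rw [this] at hy
  exact hy

lemma adjoin_fg (h2 : ∀ I : Ideal A, I.IsHomogeneous 𝒜 → I.FG) (ε : ℤ) :
    (Algebra.adjoin (𝒜 0) {a : A | ∃ n : ℕ, a ∈ 𝒜 (ε * n)}).FG := by
  classical
  set P : Set A := {a : A | ∃ n : ℕ, 0 < n ∧ a ∈ 𝒜 (ε * n)} with hP
  have hI : (Ideal.span P).IsHomogeneous 𝒜 :=
    Ideal.homogeneous_span 𝒜 P (fun x ⟨n, _, hx⟩ => ⟨_, hx⟩)
  obtain ⟨T, hTP, hspan⟩ := (Submodule.fg_span_iff_fg_span_finset_subset P).mp (h2 _ hI)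
  have hPex : ∀ t : A, ∃ n : ℕ, t ∈ P → (0 < n ∧ t ∈ 𝒜 (ε * n)) := by
    intro t
    by_cases ht : t ∈ P
    · obtain ⟨n, hn, htn⟩ := ht
      exact ⟨n, fun _ => ⟨hn, htn⟩⟩
    · exact ⟨0, fun h => absurd h ht⟩
  choose dg hdg using hPex
  let d : ℕ := T.sup dg
  have hlow : ∀ n : ℕ, ∃ g : Finset A, (g : Set A) ⊆ 𝒜 (ε * n) ∧
      ((𝒜 (ε * n) : Set A)) ⊆ Submodule.span (𝒜 0) (g : Set A) := fun n =>
    exists_finite_span 𝒜 h2 (ε * n) (𝒜 (ε * n) : Set A) subset_rfl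
  choose g hg1 hg2 using hlow
  let G : Finset A := T ∪ (Finset.range (d + 1)).biUnion g
  have hTG : ∀ t ∈ T, t ∈ (G : Set A) := fun t ht => by
    simp only [G, Finset.coe_union, Set.mem_union, Finset.mem_coe]; exact Or.inl ht
  have hgG : ∀ n ≤ d, ∀ y ∈ g n, y ∈ (G : Set A) := fun n hn y hy => by
    simp only [G, Finset.coe_union, Set.mem_union, Finset.mem_coe, Finset.mem_biUnion,
      Finset.mem_range]
    exact Or.inr ⟨n, by omega, hy⟩
  refine ⟨G, le_antisymm ?_ ?_⟩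
  · apply Algebra.adjoin_mono
    intro x hx
    simp only [G, Finset.coe_union, Set.mem_union, Finset.mem_coe, Finset.mem_biUnion,
      Finset.mem_range] at hx
    rcases hx with hx | ⟨n, _, hx⟩
    · exact ⟨dg x, (hdg x (hTP hx)).2⟩
    · exact ⟨n, hg1 n hx⟩
  · apply Algebra.adjoin_le
    rintro x ⟨n, hx⟩
    induction n using Nat.strong_induction_on generalizing x with
    | _ n ih =>
      by_cases hnd : n ≤ d
      · have hxs := hg2 n hx
        have hle : Submodule.span (𝒜 0) (g n : Set A) ≤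
            Subalgebra.toSubmodule (Algebra.adjoin (𝒜 0) (G : Set A)) := by
          apply Submodule.span_le.mpr
          intro y hy
          exact Algebra.subset_adjoin (hgG n hnd y hy)
        exact hle hxs
      · have hnd' : d < n := not_le.mp hnd
        have hxP : x ∈ Ideal.span P := Submodule.subset_span ⟨n, by omega, hx⟩
        rw [Ideal.span, hspan] at hxP
        obtain ⟨c, hc, hxe⟩ := exists_repr 𝒜 (fun t => ε * dg t)
          (fun t ht => (hdg t (hTP ht)).2) hxP hx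
        rw [hxe]
        refine Subalgebra.sum_mem _ (fun t ht => ?_)
        have htT : t ∈ T := hc ht
        refine Subalgebra.mul_mem _ ?_ (Algebra.subset_adjoin (hTG t htT))
        have h1 : dg t ≤ d := Finset.le_sup htT
        have h0 : 0 < dg t := (hdg t (hTP htT)).1
        have hsub : ε * (n : ℤ) - ε * (dg t : ℤ) = ε * ((n - dg t : ℕ) : ℤ) := by
          rw [Nat.cast_sub (by omega : dg t ≤ n)]; ring
        rw [hsub]
        apply ih (n - dg t) (by omega)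
        rw [GradedRing.proj_apply]
        exact SetLike.coe_mem _

lemma finiteType_of
    (hp : (Algebra.adjoin (𝒜 0) {a : A | ∃ n : ℤ, 0 ≤ n ∧ a ∈ 𝒜 n}).FG)
    (hn : (Algebra.adjoin (𝒜 0) {a : A | ∃ n : ℤ, n ≤ 0 ∧ a ∈ 𝒜 n}).FG) :
    Algebra.FiniteType (𝒜 0) A := by
  classical
  obtain ⟨s₁, hs₁⟩ := hp
  obtain ⟨s₂, hs₂⟩ := hn
  refine ⟨⟨s₁ ∪ s₂, ?_⟩⟩
  rw [eq_top_iff]
  intro a _
  rw [← DirectSum.sum_support_decompose 𝒜 a]
  refine Subalgebra.sum_mem _ (fun i _ => ?_)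
  rcases le_total 0 i with hi | hi
  · have : (decompose 𝒜 a i : A) ∈ Algebra.adjoin (𝒜 0) {a : A | ∃ n : ℤ, 0 ≤ n ∧ a ∈ 𝒜 n} :=
      Algebra.subset_adjoin ⟨i, hi, SetLike.coe_mem _⟩
    rw [← hs₁] at this
    exact Algebra.adjoin_mono (by simp) this
  · have : (decompose 𝒜 a i : A) ∈ Algebra.adjoin (𝒜 0) {a : A | ∃ n : ℤ, n ≤ 0 ∧ a ∈ 𝒜 n} :=
      Algebra.subset_adjoin ⟨i, hi, SetLike.coe_mem _⟩
    rw [← hs₂] at this
    exact Algebra.adjoin_mono (by simp) this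

end

theorem result {R A : Type u} [CommRing R] [CommRing A] [Algebra R A]
    (𝒜 : ℤ → Submodule R A) [GradedAlgebra 𝒜] :
    [IsNoetherianRing A,
     ∀ I : Ideal A, I.IsHomogeneous 𝒜 → I.FG,
     IsNoetherianRing (𝒜 0) ∧ (Algebra.adjoin (𝒜 0) {a : A | ∃ n : ℤ, 0 ≤ n ∧ a ∈ 𝒜 n}).FG ∧
       (Algebra.adjoin (𝒜 0) {a : A | ∃ n : ℤ, n ≤ 0 ∧ a ∈ 𝒜 n}).FG,
     IsNoetherianRing (𝒜 0) ∧ Algebra.FiniteType (𝒜 0) A].TFAE := by
  tfae_have 1 → 2 := fun h I _ => (isNoetherianRing_iff_ideal_fg A).mp h I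
  tfae_have 2 → 3 := by
    intro h2
    refine ⟨noeth_zero 𝒜 h2, ?_, ?_⟩
    · have hset : {a : A | ∃ n : ℤ, 0 ≤ n ∧ a ∈ 𝒜 n} = {a : A | ∃ n : ℕ, a ∈ 𝒜 (1 * n)} := by
        ext a
        constructor
        · rintro ⟨n, hn, ha⟩
          refine ⟨n.toNat, ?_⟩
          rw [one_mul, Int.toNat_of_nonneg hn]; exact ha
        · rintro ⟨n, ha⟩
          exact ⟨n, Int.natCast_nonneg n, by simpa using ha⟩
      rw [hset]
      exact adjoin_fg 𝒜 h2 1
    · have hset : {a : A | ∃ n : ℤ, n ≤ 0 ∧ a ∈ 𝒜 n} = {a : A | ∃ n : ℕ, a ∈ 𝒜 (-1 * n)} := by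
        ext a
        constructor
        · rintro ⟨n, hn, ha⟩
          refine ⟨(-n).toNat, ?_⟩
          rw [Int.toNat_of_nonneg (by omega)]
          simpa using ha
        · rintro ⟨n, ha⟩
          exact ⟨-1 * n, by simp, ha⟩
      rw [hset]
      exact adjoin_fg 𝒜 h2 (-1)
  tfae_have 3 → 4 := fun ⟨h0, hp, hn⟩ => ⟨h0, finiteType_of 𝒜 hp hn⟩
  tfae_have 4 → 1 := by
    rintro ⟨h0, hft⟩
    exact Algebra.FiniteType.isNoetherianRing (𝒜 0) A
  tfae_finish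

end Groth.Agent.S13665
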