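import Mathlib
import Groth.Statements.S13682

set_option autoImplicit false
universe u v w
open scoped BigOperators
open BTGrp

namespace Groth.Agent.S13682

section Helpers

variable {A : Type u} [CommRing A] {r : ℕ} {M : Fin r → Type v} {N : Type w}
  [∀ i, AddCommGroup (M i)] [∀ i, Module A (M i)] [AddCommGroup N] [Module A N]

theorem fin_tele (P : ℕ → N) : ∑ k : Fin r, (P (k.val + 1) - P k.val) = P r - P 0 := by
  rw [Fin.sum_univ_eq_sum_range (fun m => P (m + 1) - P m) r, Finset.sum_range_sub]

/-- hybrid vectors along the canonical path -/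
def T (y w : ∀ i, ℕ → M i) (s : Fin r → ℕ) (i : Fin r) (j : ℕ) : ∀ k, M k :=
  fun k => if k < i then w k (s k) else if k = i then y k j else w k 0

def Psi (φ : MultilinearMap A M N) (y w : ∀ i, ℕ → M i) (s : Fin r → ℕ) : N :=
  ∑ i : Fin r, ∑ j ∈ Finset.range (s i), φ (T y w s i j)

def om (φ : MultilinearMap A M N) (y w : ∀ i, ℕ → M i) (s : Fin r → ℕ) (i : Fin r) : N :=
  φ (fun k => if k = i then y k (s k) else w k (s k))

def G (y w : ∀ i, ℕ → M i) (s : Fin r → ℕ) (i : Fin r) (m : ℕ) : ∀ k, M k :=
  fun l => if l = i then y l (s i) else if l.val < m then w l (s l) else w l 0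

def P (φ : MultilinearMap A M N) (y w : ∀ i, ℕ → M i) (s : Fin r → ℕ) (i : Fin r) (m : ℕ) : N :=
  if m ≤ i.val then 0 else φ (G y w s i m)

theorem T_congr (y w : ∀ i, ℕ → M i) (s s' : Fin r → ℕ) (k : Fin r) (j : ℕ)
    (h : ∀ l, l < k → s' l = s l) : T y w s' k j = T y w s k j := by
  funext l
  unfold T
  by_cases hl : l < k
  · rw [if_pos hl, if_pos hl, h l hl]
  · rw [if_neg hl, if_neg hl]

theorem w_eq (α : A) (y w : ∀ i, ℕ → M i) (hw : ∀ i j, w i (j + 1) = w i j + α • y i j)
    (k : Fin r) (m : ℕ) :
    w k m - w k 0 = ∑ j ∈ Finset.range m, α • y k j := by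
  induction m with
  | zero => simp
  | succ m ih => rw [Finset.sum_range_succ, ← ih, hw]; abel

theorem G_succ (y w : ∀ i, ℕ → M i) (s : Fin r → ℕ) (i k : Fin r) (hk : i < k) :
    Function.update (G y w s i k.val) k (w k (s k)) = G y w s i (k.val + 1) := by
  funext l
  by_cases h2 : l = k
  · subst h2
    rw [Function.update_self]
    unfold G
    rw [if_neg (ne_of_gt hk), if_pos (Nat.lt_succ_self _)]
  · rw [Function.update_of_ne h2]
    unfold G
    by_cases h1 : l = i
    · rw [if_pos h1, if_pos h1]
    · rw [if_neg h1, if_neg h1]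
      have : l.val ≠ k.val := fun h => h2 (Fin.ext h)
      by_cases h3 : l.val < k.val
      · rw [if_pos h3, if_pos (by omega)]
      · rw [if_neg h3, if_neg (by omega)]

theorem G_self (y w : ∀ i, ℕ → M i) (s : Fin r → ℕ) (i k : Fin r) (hk : i < k) :
    Function.update (G y w s i k.val) k (w k 0) = G y w s i k.val := by
  have : G y w s i k.val k = w k 0 := by
    unfold G
    rw [if_neg (ne_of_gt hk), if_neg (lt_irrefl _)]
  rw [← this, Function.update_eq_self]

theorem T_eq (y w : ∀ i, ℕ → M i) (s : Fin r → ℕ) (i k : Fin r) (hk : i < k) (j : ℕ) (n' : ℕ) :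
    T y w (Function.update s i n') k j =
      Function.update (Function.update (G y w s i k.val) k (y k j)) i (w i n') := by
  funext l
  by_cases h1 : l = i
  · subst h1
    rw [Function.update_self]
    unfold T
    rw [if_pos hk, Function.update_self]
  · rw [Function.update_of_ne h1]
    by_cases h2 : l = k
    · subst h2
      rw [Function.update_self]
      unfold T
      rw [if_neg (lt_irrefl _), if_pos rfl]
    · rw [Function.update_of_ne h2]
      unfold T G
      rw [if_neg h1, if_neg h2, Function.update_of_ne h1]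
      rfl

theorem step_gt (φ : MultilinearMap A M N) (α : A) (y w : ∀ i, ℕ → M i)
    (hw : ∀ i j, w i (j + 1) = w i j + α • y i j) (s : Fin r → ℕ) (i k : Fin r) (hk : i < k) (j : ℕ) :
    φ (T y w (Function.update s i (s i + 1)) k j) - φ (T y w s k j) =
      φ.toLinearMap (G y w s i k.val) k (α • y k j) := by
  have h0 : T y w s k j = T y w (Function.update s i (s i)) k j := by
    rw [Function.update_eq_self]
  rw [h0, T_eq y w s i k hk j, T_eq y w s i k hk j, ← MultilinearMap.map_update_sub, hw,
    add_sub_cancel_left, MultilinearMap.map_update_smul, map_smul]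
  congr 1
  have : (Function.update (G y w s i k.val) k (y k j)) i = y i (s i) := by
    rw [Function.update_of_ne (ne_of_lt hk)]
    unfold G
    rw [if_pos rfl]
  rw [← this, Function.update_eq_self]
  rfl

theorem key (φ : MultilinearMap A M N) (α : A) (y w : ∀ i, ℕ → M i)
    (hw : ∀ i j, w i (j + 1) = w i j + α • y i j) (s : Fin r → ℕ) (i k : Fin r) :
    (∑ j ∈ Finset.range (Function.update s i (s i + 1) k),
        φ (T y w (Function.update s i (s i + 1)) k j)) -
      ∑ j ∈ Finset.range (s k), φ (T y w s k j) =
    P φ y w s i (k.val + 1) - P φ y w s i k.val := by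
  rcases lt_trichotomy k i with hk | hk | hk
  · -- k < i
    have h1 : ∀ j, T y w (Function.update s i (s i + 1)) k j = T y w s k j := fun j =>
      T_congr y w _ _ k j (fun l hl => Function.update_of_ne (ne_of_lt (lt_trans hl hk)) _ _)
    rw [Function.update_of_ne (ne_of_lt hk)]
    simp only [h1, sub_self]
    unfold P
    rw [if_pos (by rw [Fin.lt_def] at hk; omega), if_pos (by rw [Fin.lt_def] at hk; omega), sub_self]
  · subst hk
    have h1 : ∀ j, T y w (Function.update s k (s k + 1)) k j = T y w s k j := fun j =>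
      T_congr y w _ _ k j (fun l hl => Function.update_of_ne (ne_of_lt hl) _ _)
    rw [Function.update_self]
    simp only [h1]
    rw [Finset.sum_range_succ, add_sub_cancel_left]
    unfold P
    rw [if_neg (by omega), if_pos le_rfl, sub_zero]
    congr 1
    funext l
    unfold T G
    rcases lt_trichotomy l k with h | h | h
    · rw [if_pos h, if_neg (ne_of_lt h), if_pos (by rw [Fin.lt_def] at h; omega)]
    · subst h
      rw [if_neg (lt_irrefl _), if_pos rfl, if_pos rfl]
    · rw [if_neg (not_lt_of_gt h), if_neg (ne_of_gt h), if_neg (ne_of_gt h),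
        if_neg (by rw [Fin.lt_def] at h; omega)]
  · -- i < k
    rw [Function.update_of_ne (ne_of_gt hk), ← Finset.sum_sub_distrib]
    simp only [step_gt φ α y w hw s i k hk]
    rw [← map_sum, ← w_eq α y w hw, map_sub]
    unfold P
    rw [if_neg (by rw [Fin.lt_def] at hk; omega), if_neg (by rw [Fin.lt_def] at hk; omega)]
    rw [MultilinearMap.toLinearMap_apply, MultilinearMap.toLinearMap_apply, G_succ y w s i k hk,
      G_self y w s i k hk]

theorem step (φ : MultilinearMap A M N) (α : A) (y w : ∀ i, ℕ → M i)
    (hw : ∀ i j, w i (j + 1) = w i j + α • y i j) (s : Fin r → ℕ) (i : Fin r) :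
    Psi φ y w (Function.update s i (s i + 1)) - Psi φ y w s = om φ y w s i := by
  unfold Psi
  rw [← Finset.sum_sub_distrib, Finset.sum_congr rfl (fun k _ => key φ α y w hw s i k), fin_tele]
  unfold P
  rw [if_neg (by have := i.isLt; omega), if_pos (Nat.zero_le _), sub_zero]
  unfold om
  congr 1
  funext l
  unfold G
  by_cases h : l = i
  · subst h; rw [if_pos rfl, if_pos rfl]
  · rw [if_neg h, if_neg h, if_pos l.isLt]

/-- staircase states -/
def S (j : ℕ) (m : ℕ) : Fin r → ℕ := fun k => if k.val < m then j + 1 else j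

theorem S_succ (j : ℕ) (i : Fin r) :
    Function.update (S j i.val) i (S j i.val i + 1) = (S j (i.val + 1) : Fin r → ℕ) := by
  funext l
  by_cases h : l = i
  · subst h
    rw [Function.update_self]
    unfold S
    rw [if_neg (lt_irrefl _), if_pos (Nat.lt_succ_self _)]
  · rw [Function.update_of_ne h]
    unfold S
    have : l.val ≠ i.val := fun h' => h (Fin.ext h')
    by_cases h3 : l.val < i.val
    · rw [if_pos h3, if_pos (by omega)]
    · rw [if_neg h3, if_neg (by omega)]

theorem gen (φ : MultilinearMap A M N) (α : A) (y w : ∀ i, ℕ → M i)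
    (hw : ∀ i j, w i (j + 1) = w i j + α • y i j) (n : ℕ) :
    (∑ i : Fin r, ∑ j ∈ Finset.range n,
        φ (fun k => if k < i then w k (j + 1) else if k = i then y k j else w k j)) =
      ∑ i : Fin r, ∑ j ∈ Finset.range n,
        φ (fun k => if k < i then w k n else if k = i then y k j else w k 0) := by
  have h1 : ∀ (i : Fin r) (j : ℕ),
      φ (fun k => if k < i then w k (j + 1) else if k = i then y k j else w k j) =
        Psi φ y w (S j (i.val + 1)) - Psi φ y w (S j i.val) := by
    intro i j
    rw [← S_succ, step φ α y w hw]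
    unfold om
    congr 1
    funext k
    unfold S
    rcases lt_trichotomy k i with h | h | h
    · rw [if_pos h, if_neg (ne_of_lt h), if_pos (by rw [Fin.lt_def] at h; exact h)]
    · subst h
      rw [if_neg (lt_irrefl _), if_pos rfl, if_pos rfl, if_neg (lt_irrefl _)]
    · rw [if_neg (not_lt_of_gt h), if_neg (ne_of_gt h), if_neg (ne_of_gt h),
        if_neg (by rw [Fin.lt_def] at h; omega)]
  rw [Finset.sum_comm]
  simp only [h1]
  have h2 : ∀ j : ℕ, ∑ i : Fin r, (Psi φ y w (S j (i.val + 1)) - Psi φ y w (S j i.val)) =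
      Psi φ y w (fun _ => j + 1) - Psi φ y w (fun _ => j) := by
    intro j
    rw [fin_tele (fun m => Psi φ y w (S j m))]
    congr 2
    funext k; unfold S; rw [if_pos k.isLt]
  simp only [h2]
  rw [Finset.sum_range_sub (fun j => Psi φ y w (fun _ => j))]
  unfold Psi
  simp only [Finset.range_zero, Finset.sum_empty, Finset.sum_const_zero, sub_zero]
  rfl

end Helpers

/-- Let A be a commutative ring, α ∈ A a non-zero-divisor, M_1, …, M_r and N modules over A and φ : M_1
× ⋯ × M_r → N an A-multilinear map. Let n be a natural number and let y_{i,j} (j < n) and w_{i,j} (j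
≤ n) be elements of M_i with w_{i,j+1} = w_{i,j} + α y_{i,j} for all i and all j < n. Then Σ_i
Σ_{j<n} φ(w_{1,j+1}, …, w_{i-1,j+1}, y_{i,j}, w_{i+1,j}, …, w_{r,j}) = Σ_i Σ_{j<n} φ(w_{1,n}, …,
w_{i-1,n}, y_{i,j}, w_{i+1,0}, …, w_{r,0}). (The published statement takes n ≥ 1; for n = 0 both
sides are empty sums. The families y, w are indexed by all natural numbers here and only the indices
named above enter.) -/
theorem result {A : Type u} [CommRing A] (α : A) (hα : α ∈ nonZeroDivisors A)
    {r : ℕ} (M : Fin r → Type v) (N : Type w) [∀ i, AddCommGroup (M i)] [∀ i, Module A (M i)]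
    [AddCommGroup N] [Module A N] (φ : MultilinearMap A M N) (n : ℕ)
    (y w : ∀ i, ℕ → M i) (hw : ∀ i, ∀ j < n, w i (j + 1) = w i j + α • y i j) :
    (∑ i : Fin r, ∑ j ∈ Finset.range n,
        φ (fun k => if k < i then w k (j + 1) else if k = i then y k j else w k j)) =
      ∑ i : Fin r, ∑ j ∈ Finset.range n,
        φ (fun k => if k < i then w k n else if k = i then y k j else w k 0) := by
  set w' : ∀ i, ℕ → M i := fun i j => w i 0 + α • ∑ l ∈ Finset.range j, y i l with hw'
  have hw1 : ∀ i j, w' i (j + 1) = w' i j + α • y i j := by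
    intro i j
    simp only [hw', Finset.sum_range_succ, smul_add, add_assoc]
  have hw2 : ∀ i j, j ≤ n → w' i j = w i j := by
    intro i j
    induction j with
    | zero => intro _; simp [hw']
    | succ j ih =>
      intro hj
      rw [hw1, ih (by omega), hw i j (by omega)]
  have := gen φ α y w' hw1 n
  have e1 : ∀ i : Fin r, ∀ j ∈ Finset.range n,
      φ (fun k => if k < i then w k (j + 1) else if k = i then y k j else w k j) =
      φ (fun k => if k < i then w' k (j + 1) else if k = i then y k j else w' k j) := by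
    intro i j hj
    rw [Finset.mem_range] at hj
    congr 1
    funext k
    rw [hw2 k (j + 1) (by omega), hw2 k j (by omega)]
  have e2 : ∀ i : Fin r, ∀ j ∈ Finset.range n,
      φ (fun k => if k < i then w k n else if k = i then y k j else w k 0) =
      φ (fun k => if k < i then w' k n else if k = i then y k j else w' k 0) := by
    intro i j hj
    congr 1
    funext k
    rw [hw2 k n le_rfl, hw2 k 0 (Nat.zero_le _)]
  rw [Finset.sum_congr rfl (fun i _ => Finset.sum_congr rfl (e1 i)),
    Finset.sum_congr rfl (fun i _ => Finset.sum_congr rfl (e2 i))]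
  exact this

end Groth.Agent.S13682
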