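import Groth.Statements.S13683

set_option autoImplicit false
universe u v

namespace Groth.Agent.S13683

theorem iter_smul {G : Type*} [AddCommGroup G] (V : G →+ G) (c : ℕ) (n : ℕ) (x : G) :
    (⇑V)^[n] (c • x) = c • (⇑V)^[n] x := by
  induction n generalizing x with
  | zero => simp
  | succ n ih =>
    rw [Function.iterate_succ_apply, Function.iterate_succ_apply, map_nsmul, ih]

theorem iter_VF {G : Type*} [AddCommGroup G] (p : ℕ) (F V : G →+ G)
    (hVF : ∀ x : G, V (F x) = p • x) (n : ℕ) (x : G) :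
    (⇑V)^[n] ((⇑F)^[n] x) = p ^ n • x := by
  induction n generalizing x with
  | zero => simp
  | succ n ih =>
    rw [Function.iterate_succ_apply' (⇑F), Function.iterate_succ_apply (⇑V), hVF, iter_smul, ih,
      pow_succ, smul_smul, mul_comm]

theorem result (p : ℕ) {r : ℕ} (hr : 0 < r)
    (M : Fin r → Type u) (N : Type v) [∀ i, AddCommGroup (M i)] [AddCommGroup N]
    (F V : ∀ i, M i →+ M i) (F₀ V₀ : N →+ N)
    (hVF : ∀ i (x : M i), V i (F i x) = p • x) (hVF₀ : ∀ x : N, V₀ (F₀ x) = p • x)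
    (hV₀ : Function.Injective V₀)
    (φ : MultilinearMap ℤ M N) (hφ : ∀ x : ∀ i, M i, φ (fun i => V i (x i)) = V₀ (φ x))
    (Nn Mm : ℕ) (d : Fin r → ℕ) (y z : ∀ i, M i)
    (hyz : ∀ i, (⇑(F i))^[Nn] (z i) = (⇑(V i))^[Mm] (y i)) :
    (⇑F₀)^[Nn] (p ^ ((r - 1) * Nn) • φ (fun i => (⇑(V i))^[d i] (z i))) =
      (⇑V₀)^[Mm] (φ (fun i => (⇑(V i))^[d i] (y i))) := by
  -- iterate of V through φ
  have hφk : ∀ (k : ℕ) (x : ∀ i, M i), φ (fun i => (⇑(V i))^[k] (x i)) = (⇑V₀)^[k] (φ x) := by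
    intro k
    induction k with
    | zero => intro x; rfl
    | succ k ih =>
      intro x
      have : (fun i => (⇑(V i))^[k + 1] (x i)) = fun i => V i ((⇑(V i))^[k] (x i)) := by
        funext i
        rw [Function.iterate_succ_apply']
      rw [this, hφ, ih, Function.iterate_succ_apply']
  apply (hV₀.iterate Nn)
  rw [iter_VF p F₀ V₀ hVF₀, ← hφk Mm, ← hφk Nn, smul_smul]
  have hpow : p ^ Nn * p ^ ((r - 1) * Nn) = ∏ _i : Fin r, p ^ Nn := by
    rw [Finset.prod_const, Finset.card_univ, Fintype.card_fin, ← pow_add, ← pow_mul]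
    congr 1
    obtain ⟨r, rfl⟩ : ∃ k, r = k + 1 := ⟨r - 1, by omega⟩
    simp only [Nat.add_sub_cancel]
    ring
  rw [hpow]
  have hsm : ((∏ _i : Fin r, p ^ Nn : ℕ) • φ (fun i => (⇑(V i))^[d i] (z i))) =
      φ (fun i => ((p ^ Nn : ℕ) : ℤ) • (⇑(V i))^[d i] (z i)) := by
    rw [MultilinearMap.map_smul_univ, ← Nat.cast_prod, natCast_zsmul]
  rw [hsm]
  congr 1
  funext i
  rw [natCast_zsmul, ← iter_smul, ← iter_VF p (F i) (V i) (hVF i), hyz i]
  rw [← Function.iterate_add_apply, ← Function.iterate_add_apply, ← Function.iterate_add_apply,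
    ← Function.iterate_add_apply]
  congr 1
  omega

end Groth.Agent.S13683
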