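import Groth.Statements.S13685
-- import your own Groth.Agent.* helpers here

set_option autoImplicit false
universe u v w
open Disp

namespace Groth.Agent.S13685

section helpers
open W4c1extbt610

variable {p : ℕ} [Fact p.Prime] {R : Type u} [CommRing R]
  {P : Type v} [AddCommGroup P] [Module (WittVector p R) P]

lemma V_smul_mem (D : Display3n p R P) (x : P) :
    WittVector.verschiebung (1 : WittVector p R) • x ∈ D.Q :=
  D.IV_smul_le (Submodule.smul_mem_smul (verschiebung_mem_IV p R 1) Submodule.mem_top)

lemma F_eq (D : Display3n p R P) (x : P) :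
    D.F x = D.Vinv ⟨WittVector.verschiebung (1 : WittVector p R) • x, V_smul_mem D x⟩ := by
  have := D.Vinv_verschiebung_smul 1 x
  rw [one_smul] at this
  exact this.symm

lemma Vinv_congr (D : Display3n p R P) {a b : P} (ha : a ∈ D.Q) (hb : b ∈ D.Q) (h : a = b) :
    D.Vinv ⟨a, ha⟩ = D.Vinv ⟨b, hb⟩ := by
  subst h
  rfl

end helpers

/-- Let p be a prime, R a commutative ring, W its ring of p-typical Witt vectors, D = (P, Q, F, V⁻¹) a
3n-display over R with a normal decomposition P = L ⊕ T, Q = L + I_R T in which T is free of rank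
one over W, and E the 3n-display structure on ⋀^r P whose distinguished submodule is spanned by the
wedges of elements of Q and whose V⁻¹ sends q_1 ∧ ⋯ ∧ q_r to V⁻¹q_1 ∧ ⋯ ∧ V⁻¹q_r. Then the wedge map
λ : P^r → ⋀^r P is an alternating multilinear morphism of 3n-displays from D to E, and for every
3n-display D' = (P', Q', F', V'⁻¹) and every alternating multilinear morphism of 3n-displays φ : P^r
→ P' (W-multilinear alternating, φ(Q^r) ⊆ Q', V'⁻¹(φ(q)) = φ(V⁻¹q_1, …, V⁻¹q_r), F'(φ(q_1, …, x_i,
…, q_r)) = φ(V⁻¹q_1, …, F x_i, …, V⁻¹q_r)) there is a unique W-linear ψ : ⋀^r P → P' that is a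
morphism of 3n-displays from E to D' (ψ maps E's submodule into Q' and commutes with F and V⁻¹) with
ψ ∘ λ = φ. (The published statement has T projective of rank one; this row takes T free of rank
one.) -/
theorem result (p : ℕ) [Fact p.Prime] (R : Type u) [CommRing R]
    (P : Type v) [AddCommGroup P] [Module (WittVector p R) P] (D : W4c1extbt610.Display3n p R P)
    (hT : ∃ L T : Submodule (WittVector p R) P, IsCompl L T ∧ D.Q = L ⊔ W4c1extbt610.IV p R • T ∧
      Nonempty (T ≃ₗ[WittVector p R] WittVector p R))
    (r : ℕ) (E : W4c1extbt610.Display3n p R (⋀[WittVector p R]^r P)) (hE : W4c1extbt610.IsExtPow D r E) :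
    W4c1extbt610.IsAltMult D E (exteriorPower.ιMulti (WittVector p R) r) ∧
      ∀ (P' : Type w) [AddCommGroup P'] [Module (WittVector p R) P'] (D' : W4c1extbt610.Display3n p R P')
        (φ : P [⋀^Fin r]→ₗ[WittVector p R] P'), W4c1extbt610.IsAltMult D D' φ →
        ∃! ψ : ⋀[WittVector p R]^r P →ₗ[WittVector p R] P',
          W4c1extbt610.IsHom E D' ψ ∧ ψ.compAlternatingMap (exteriorPower.ιMulti (WittVector p R) r) = φ := by
  classical
  obtain ⟨hEQ, hEV⟩ := hE
  have hmem : ∀ q : Fin r → D.Q,
      exteriorPower.ιMulti (WittVector p R) r (fun i => (q i : P)) ∈ E.Q := by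
    intro q
    rw [hEQ]
    exact Submodule.subset_span ⟨q, rfl⟩
  refine ⟨⟨hmem, fun q => hEV q (hmem q), ?_⟩, ?_⟩
  · -- the F-condition
    intro i x q
    rw [F_eq E]
    let q' : Fin r → D.Q := Function.update q i
      ⟨WittVector.verschiebung (1 : WittVector p R) • x, V_smul_mem D x⟩
    have h1 : (fun j => ((q' j : D.Q) : P)) =
        Function.update (fun j => (q j : P)) i
          (WittVector.verschiebung (1 : WittVector p R) • x) := by
      funext j
      by_cases hj : j = i
      · subst hj
        simp [q']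
      · simp [q', Function.update_of_ne hj]
    have h2 : WittVector.verschiebung (1 : WittVector p R) •
        exteriorPower.ιMulti (WittVector p R) r (Function.update (fun j => (q j : P)) i x) =
        exteriorPower.ιMulti (WittVector p R) r (fun j => ((q' j : D.Q) : P)) := by
      rw [h1, AlternatingMap.map_update_smul]
    rw [Vinv_congr E (V_smul_mem E _) (hmem q') h2, hEV q' (hmem q')]
    congr 1
    funext j
    by_cases hj : j = i
    · subst hj
      simp only [q', Function.update_self]
      exact (F_eq D x).symm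
    · simp [q', Function.update_of_ne hj]
  · intro P' _ _ D' φ hφ
    have hψmaps : ∀ y : ⋀[WittVector p R]^r P, y ∈ E.Q →
        exteriorPower.alternatingMapLinearEquiv φ y ∈ D'.Q := by
      intro y hy
      rw [hEQ] at hy
      induction hy using Submodule.span_induction with
      | mem y hy =>
        obtain ⟨q, rfl⟩ := hy
        rw [exteriorPower.alternatingMapLinearEquiv_apply_ιMulti]
        exact hφ.mapsTo q
      | zero => rw [map_zero]; exact Submodule.zero_mem _
      | add a b _ _ ha hb => rw [map_add]; exact Submodule.add_mem _ ha hb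
      | smul c a _ ha => rw [map_smul]; exact Submodule.smul_mem _ c ha
    have hψV : ∀ (y : ⋀[WittVector p R]^r P) (hy : y ∈ E.Q),
        exteriorPower.alternatingMapLinearEquiv φ (E.Vinv ⟨y, hy⟩) =
          D'.Vinv ⟨exteriorPower.alternatingMapLinearEquiv φ y, hψmaps y hy⟩ := by
      intro y hy
      have hy' : y ∈ Submodule.span (WittVector p R)
          (Set.range fun q : Fin r → D.Q =>
            exteriorPower.ιMulti (WittVector p R) r (fun i => (q i : P))) := hEQ ▸ hy
      induction hy' using Submodule.span_induction with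
      | mem y hy0 =>
        obtain ⟨q, rfl⟩ := hy0
        rw [hEV q hy, exteriorPower.alternatingMapLinearEquiv_apply_ιMulti, ← hφ.vCond q]
        exact Vinv_congr D' _ _ (exteriorPower.alternatingMapLinearEquiv_apply_ιMulti φ _).symm
      | zero =>
        have h0 : (⟨0, hy⟩ : E.Q) = 0 := rfl
        have h1 : (⟨exteriorPower.alternatingMapLinearEquiv φ 0, hψmaps 0 hy⟩ : D'.Q) = 0 :=
          Subtype.ext (map_zero _)
        rw [h0, h1]
        simp only [map_zero]
      | add a b ha0 hb0 ha hb =>
        have haQ : a ∈ E.Q := hEQ ▸ ha0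
        have hbQ : b ∈ E.Q := hEQ ▸ hb0
        have h0 : (⟨a + b, hy⟩ : E.Q) = ⟨a, haQ⟩ + ⟨b, hbQ⟩ := rfl
        rw [h0, map_add, map_add, ha haQ, hb hbQ, ← map_add]
        exact Vinv_congr D' _ _ (by simp)
      | smul c a ha0 ha =>
        have haQ : a ∈ E.Q := hEQ ▸ ha0
        have h0 : (⟨c • a, hy⟩ : E.Q) = c • ⟨a, haQ⟩ := rfl
        rw [h0, LinearMap.map_smulₛₗ, map_smul, ha haQ, ← LinearMap.map_smulₛₗ]
        exact Vinv_congr D' _ _ (by simp)
    have hψ : W4c1extbt610.IsHom E D' (exteriorPower.alternatingMapLinearEquiv φ) := by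
      refine ⟨hψmaps, ?_, fun q => hψV q q.2⟩
      intro x
      rw [F_eq E, F_eq D', hψV _ (V_smul_mem E x)]
      exact Vinv_congr D' _ _ (by rw [map_smul])
    refine ⟨exteriorPower.alternatingMapLinearEquiv φ,
      ⟨hψ, exteriorPower.alternatingMapLinearEquiv_comp_ιMulti φ⟩, ?_⟩
    rintro ψ' ⟨-, hψ'⟩
    apply exteriorPower.linearMap_ext
    rw [hψ', exteriorPower.alternatingMapLinearEquiv_comp_ιMulti]

end Groth.Agent.S13685
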