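import Groth.Statements.S13692
import Groth.Agent.Lib.GaloisDescentVS
import Groth.Agent.Lib.HomCount

set_option autoImplicit false
universe u v w
open scoped TensorProduct
attribute [local instance] CSAGal.tensorAction GpH1.unitsAction
open GalCoh

namespace Groth.Agent.S13692

open Groth.Agent.Lib.GaloisDescentVS Groth.Agent.Lib.HomCount

section Common

variable {k : Type u} [Field k] {K : Type v} [Field K] [Algebra k K]
  [FiniteDimensional k K] [IsGalois k K]
  {A : Type w} [Ring A] [Algebra k A] [FiniteDimensional k A]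

/-- the twisted semilinear action attached to a cocycle -/
noncomputable def rho (a : (K ≃ₐ[k] K) → (K ⊗[k] A)ˣ) (σ : K ≃ₐ[k] K) (v : K ⊗[k] A) :
    K ⊗[k] A :=
  (σ • v) * (((a σ)⁻¹ : (K ⊗[k] A)ˣ) : K ⊗[k] A)

theorem cocycle_one {a : (K ≃ₐ[k] K) → (K ⊗[k] A)ˣ} (ha : GpH1.IsOneCocycle a) : a 1 = 1 := by
  have h := ha 1 1
  rw [one_smul, mul_one] at h
  exact (mul_eq_left.mp h.symm)

theorem val_inv_smul (σ : K ≃ₐ[k] K) (u : (K ⊗[k] A)ˣ) :
    (((σ • u)⁻¹ : (K ⊗[k] A)ˣ) : K ⊗[k] A) = σ • ((u⁻¹ : (K ⊗[k] A)ˣ) : K ⊗[k] A) := rfl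

theorem smul_smul_B (σ : K ≃ₐ[k] K) (c : K) (z : K ⊗[k] A) :
    σ • (c • z) = σ c • σ • z := by
  induction z using TensorProduct.induction_on with
  | zero => simp
  | tmul x y =>
    rw [TensorProduct.smul_tmul', CSAGal.smul_eq_map, CSAGal.smul_eq_map,
      Algebra.TensorProduct.map_tmul, Algebra.TensorProduct.map_tmul, TensorProduct.smul_tmul']
    simp
  | add z z' hz hz' => simp only [smul_add, hz, hz']

theorem isSemiAction_rho {a : (K ≃ₐ[k] K) → (K ⊗[k] A)ˣ} (ha : GpH1.IsOneCocycle a) :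
    IsSemiAction (k := k) (K := K) (M := K ⊗[k] A) (rho a) where
  add σ x y := by simp only [rho, smul_add, add_mul]
  one x := by simp only [rho, one_smul, cocycle_one ha, inv_one, Units.val_one, mul_one]
  mul σ τ x := by
    simp only [rho]
    rw [ha σ τ, mul_inv_rev, Units.val_mul, val_inv_smul, mul_smul, smul_mul', mul_assoc]
  smul σ c x := by
    simp only [rho]
    rw [smul_smul_B, smul_mul_assoc]

/-- the twisted invariants, as a `k`-subspace -/
noncomputable def Wk (a : (K ≃ₐ[k] K) → (K ⊗[k] A)ˣ) (ha : GpH1.IsOneCocycle a) :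
    Submodule k (K ⊗[k] A) where
  carrier := {v | ∀ σ, rho a σ v = v}
  add_mem' := fun {x y} hx hy σ => by rw [(isSemiAction_rho ha).add, hx σ, hy σ]
  zero_mem' := fun σ => (isSemiAction_rho ha).map_zero σ
  smul_mem' := fun c v hv σ => by
    rw [← algebraMap_smul K c v, (isSemiAction_rho ha).smul, hv σ, AlgEquiv.commutes]

theorem mem_Wk {a : (K ≃ₐ[k] K) → (K ⊗[k] A)ˣ} (ha : GpH1.IsOneCocycle a) (v : K ⊗[k] A) :
    v ∈ Wk a ha ↔ ∀ σ, rho a σ v = v := Iff.rfl

/-- Speiser's descent for the twisted invariants -/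
noncomputable def desc (a : (K ≃ₐ[k] K) → (K ⊗[k] A)ˣ) (ha : GpH1.IsOneCocycle a) :
    K ⊗[k] (Wk a ha) ≃ₗ[K] K ⊗[k] A :=
  descentEquiv (isSemiAction_rho ha) (Wk a ha).subtype Subtype.val_injective (fun x => by
    rw [Submodule.range_subtype]; exact mem_Wk ha x)

theorem desc_tmul (a : (K ≃ₐ[k] K) → (K ⊗[k] A)ˣ) (ha : GpH1.IsOneCocycle a) (c : K)
    (w : Wk a ha) : desc a ha (c ⊗ₜ w) = c • (w : K ⊗[k] A) := rfl

theorem cohomologous_of_unit (a : (K ≃ₐ[k] K) → (K ⊗[k] A)ˣ) (w : (K ⊗[k] A)ˣ)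
    (hw : ∀ σ, rho a σ (w : K ⊗[k] A) = w) : GpH1.Cohomologous a (fun _ => 1) := by
  refine ⟨w, fun σ => ?_⟩
  have h1 : σ • w = w * a σ := by
    apply Units.ext
    have := hw σ
    unfold rho at this
    rw [Units.mul_inv_eq_iff_eq_mul] at this
    exact this
  rw [h1, mul_one, inv_mul_cancel_left]

instance : IsArtinianRing (K ⊗[k] A) := IsArtinianRing.of_finite K (K ⊗[k] A)

theorem isUnit_of_det_ne_zero {n : ℕ} (bB : Module.Basis (Fin n) K (K ⊗[k] A)) (w : K ⊗[k] A)
    (h : (Algebra.leftMulMatrix bB w).det ≠ 0) : IsUnit w := by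
  rw [Algebra.leftMulMatrix_apply, LinearMap.det_toMatrix] at h
  have h1 : IsUnit (Algebra.lmul K (K ⊗[k] A) w) :=
    (LinearMap.isUnit_iff_isUnit_det _).mpr (Ne.isUnit h)
  obtain ⟨u, hu⟩ := ((Module.End.isUnit_iff _).mp h1).2 1
  exact IsUnit.of_mul_eq_one u hu

end Common

section Infinite

variable {k : Type u} [Field k] {K : Type v} [Field K] [Algebra k K]
  [FiniteDimensional k K] [IsGalois k K]
  {A : Type w} [Ring A] [Algebra k A] [FiniteDimensional k A]

theorem exists_unit_infinite [Infinite k] (a : (K ≃ₐ[k] K) → (K ⊗[k] A)ˣ)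
    (ha : GpH1.IsOneCocycle a) :
    ∃ w : (K ⊗[k] A)ˣ, ∀ σ, rho a σ (w : K ⊗[k] A) = w := by
  classical
  let n := Module.finrank k (Wk a ha)
  let bW : Module.Basis (Fin n) k (Wk a ha) := Module.finBasis k (Wk a ha)
  let bB : Module.Basis (Fin n) K (K ⊗[k] A) := (bW.baseChange K).map (desc a ha)
  have hbB : ∀ i, bB i = (bW i : K ⊗[k] A) := by
    intro i
    simp only [bB, Module.Basis.map_apply, Module.Basis.baseChange_apply, desc_tmul, one_smul]
  let L : Fin n → Matrix (Fin n) (Fin n) K := fun i => Algebra.leftMulMatrix bB (bB i)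
  let Mx : Matrix (Fin n) (Fin n) (MvPolynomial (Fin n) K) :=
    fun j l => ∑ i, MvPolynomial.C (L i j l) * MvPolynomial.X i
  have heval : ∀ x : Fin n → K, MvPolynomial.eval x Mx.det
      = (Algebra.leftMulMatrix bB (∑ i, x i • bB i)).det := by
    intro x
    rw [RingHom.map_det]
    congr 1
    ext j l
    simp only [RingHom.mapMatrix_apply, Matrix.map_apply, Mx, L, map_sum, map_mul,
      MvPolynomial.eval_C, MvPolynomial.eval_X, map_smul, Matrix.sum_apply, Matrix.smul_apply,
      smul_eq_mul, mul_comm]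
  have hP : Mx.det ≠ 0 := by
    intro h0
    have := heval (fun i => bB.repr 1 i)
    rw [h0, map_zero, bB.sum_repr, map_one, Matrix.det_one] at this
    exact zero_ne_one this
  obtain ⟨y, hy⟩ : ∃ y : Fin n → k,
      MvPolynomial.eval (fun i => algebraMap k K (y i)) Mx.det ≠ 0 := by
    by_contra hcon
    push Not at hcon
    apply hP
    apply MvPolynomial.funext_set (fun _ => Set.range (algebraMap k K))
    · intro i
      exact Set.infinite_range_of_injective (algebraMap k K).injective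
    · intro x hx
      choose y hy using fun i => hx i (Set.mem_univ i)
      have : x = fun i => algebraMap k K (y i) := funext fun i => (hy i).symm
      rw [this, hcon, map_zero]
  let w : Wk a ha := ∑ i, y i • bW i
  have hw : (w : K ⊗[k] A) = ∑ i, (algebraMap k K (y i)) • bB i := by
    simp only [w, hbB, algebraMap_smul, Submodule.coe_sum, Submodule.coe_smul]
  rw [heval, ← hw] at hy
  have hunit : IsUnit (w : K ⊗[k] A) := isUnit_of_det_ne_zero bB _ hy
  refine ⟨hunit.unit, fun σ => ?_⟩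
  rw [IsUnit.unit_spec]
  exact w.2 σ

end Infinite

section FiniteCase

variable {k : Type u} [Field k] {K : Type v} [Field K] [Algebra k K]
  [FiniteDimensional k K] [IsGalois k K]
  {A : Type w} [Ring A] [Algebra k A] [FiniteDimensional k A]

variable (k K A) in
/-- the Galois-fixed subring of `K ⊗ A` -/
noncomputable def fixedRing : Subring (K ⊗[k] A) where
  carrier := {v | ∀ σ : K ≃ₐ[k] K, σ • v = v}
  mul_mem' := fun {x y} hx hy σ => by rw [smul_mul', hx σ, hy σ]
  one_mem' := fun σ => smul_one σ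
  add_mem' := fun {x y} hx hy σ => by rw [smul_add, hx σ, hy σ]
  zero_mem' := fun σ => smul_zero σ
  neg_mem' := fun {x} hx σ => by rw [smul_neg, hx σ]

/-- the twisted invariants as a module over the fixed ring -/
noncomputable def Wmod (a : (K ≃ₐ[k] K) → (K ⊗[k] A)ˣ) (ha : GpH1.IsOneCocycle a) :
    Submodule (fixedRing k K A) (K ⊗[k] A) where
  carrier := Wk a ha
  add_mem' := (Wk a ha).add_mem'
  zero_mem' := (Wk a ha).zero_mem'
  smul_mem' := fun u v hv σ => by
    rw [Subring.smul_def, smul_eq_mul]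
    unfold rho
    rw [smul_mul', u.2 σ, mul_assoc]
    congr 1
    exact hv σ

theorem phi_bijective (a : (K ≃ₐ[k] K) → (K ⊗[k] A)ˣ) (ha : GpH1.IsOneCocycle a) {m : ℕ}
    (b : Module.Basis (Fin m) k K) :
    Function.Bijective (fun f : Fin m → Wk a ha => ∑ i, b i • (f i : K ⊗[k] A)) := by
  let Θ : (Fin m → Wk a ha) ≃ₗ[k] K ⊗[k] (Wk a ha) :=
    (Finsupp.linearEquivFunOnFinite k (Wk a ha) (Fin m)).symm ≪≫ₗ
      (TensorProduct.equivFinsuppOfBasisLeft b).symm
  have : (fun f : Fin m → Wk a ha => ∑ i, b i • (f i : K ⊗[k] A)) = (desc a ha) ∘ Θ := by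
    funext f
    simp only [Θ, Function.comp_apply, LinearEquiv.trans_apply,
      TensorProduct.equivFinsuppOfBasisLeft_symm_apply]
    rw [Finsupp.sum_fintype _ _ (fun i => by simp), map_sum]
    refine Finset.sum_congr rfl fun i _ => ?_
    rw [desc_tmul]
    rfl
  rw [this]
  exact (desc a ha).bijective.comp Θ.bijective

/-- `(Wmod)^m → K ⊗ A` as a linear map over the fixed ring -/
noncomputable def PhiLin (a : (K ≃ₐ[k] K) → (K ⊗[k] A)ˣ) (ha : GpH1.IsOneCocycle a) {m : ℕ}
    (b : Module.Basis (Fin m) k K) :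
    (Fin m → Wmod a ha) →ₗ[fixedRing k K A] K ⊗[k] A where
  toFun := fun f => ∑ i, b i • (f i : K ⊗[k] A)
  map_add' := fun f g => by
    simp only [Pi.add_apply, Submodule.coe_add, smul_add, Finset.sum_add_distrib]
  map_smul' := fun u f => by
    simp only [Pi.smul_apply, Submodule.coe_smul, RingHom.id_apply, Subring.smul_def,
      smul_eq_mul, Finset.mul_sum, mul_smul_comm]

/-- `(Wmod)^m ≃ K ⊗ A` as modules over the fixed ring -/
noncomputable def Phi (a : (K ≃ₐ[k] K) → (K ⊗[k] A)ˣ) (ha : GpH1.IsOneCocycle a) {m : ℕ}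
    (b : Module.Basis (Fin m) k K) :
    (Fin m → Wmod a ha) ≃ₗ[fixedRing k K A] K ⊗[k] A :=
  LinearEquiv.ofBijective (PhiLin a ha b) (phi_bijective a ha b)

theorem Phi_apply (a : (K ≃ₐ[k] K) → (K ⊗[k] A)ˣ) (ha : GpH1.IsOneCocycle a) {m : ℕ}
    (b : Module.Basis (Fin m) k K) (f : Fin m → Wmod a ha) :
    Phi a ha b f = ∑ i, b i • (f i : K ⊗[k] A) := rfl

theorem exists_unit_finite [Finite k] (a : (K ≃ₐ[k] K) → (K ⊗[k] A)ˣ)
    (ha : GpH1.IsOneCocycle a) :
    ∃ w : (K ⊗[k] A)ˣ, ∀ σ, rho a σ (w : K ⊗[k] A) = w := by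
  classical
  haveI : Finite (K ⊗[k] A) := Module.finite_of_finite k
  let m := Module.finrank k K
  let b : Module.Basis (Fin m) k K := Module.finBasis k K
  haveI : Nonempty (Fin m) := Fin.pos_iff_nonempty.mp Module.finrank_pos
  have h1c : GpH1.IsOneCocycle (fun _ : K ≃ₐ[k] K => (1 : (K ⊗[k] A)ˣ)) := GpH1.isOneCocycle_one
  obtain ⟨e⟩ := nonempty_linearEquiv_of_pi ((Phi a ha b).trans (Phi _ h1c b).symm)
  let one' : Wmod (fun _ : K ≃ₐ[k] K => (1 : (K ⊗[k] A)ˣ)) h1c := ⟨1, fun σ => by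
    simp only [rho, smul_one, inv_one, Units.val_one, mul_one]⟩
  let w₀ : Wmod a ha := e.symm one'
  have key : ∀ w : Wmod a ha, ∃ u : K ⊗[k] A, (w : K ⊗[k] A) = u * (w₀ : K ⊗[k] A) := by
    intro w
    have hfix : ((e w : Wmod _ h1c) : K ⊗[k] A) ∈ fixedRing k K A := by
      intro σ
      have := (e w).2 σ
      simpa only [rho, inv_one, Units.val_one, mul_one] using this
    let u : fixedRing k K A := ⟨_, hfix⟩
    have h2 : e w = u • one' := by
      apply Subtype.ext
      simp only [Submodule.coe_smul, Subring.smul_def, smul_eq_mul, u, one', mul_one]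
    refine ⟨u, ?_⟩
    have h3 : w = u • w₀ := by
      rw [← e.symm_apply_apply w, h2, map_smul]
    rw [h3]
    simp only [Submodule.coe_smul, Subring.smul_def, smul_eq_mul]
  obtain ⟨f, hf⟩ := (Phi a ha b).surjective 1
  choose u hu using fun i => key (f i)
  have hx : (∑ i, b i • u i) * (w₀ : K ⊗[k] A) = 1 := by
    rw [← hf, Phi_apply, Finset.sum_mul]
    refine Finset.sum_congr rfl fun i _ => ?_
    rw [hu i, smul_mul_assoc]
  have hunit : IsUnit (w₀ : K ⊗[k] A) := IsUnit.of_mul_eq_one_right _ hx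
  refine ⟨hunit.unit, fun σ => ?_⟩
  rw [IsUnit.unit_spec]
  exact w₀.2 σ

end FiniteCase




/-- Let K be a finite Galois extension of a field k with Galois group G = Aut_k(K), and A a
finite-dimensional associative unital k-algebra, not assumed simple or central. Then H¹(G, (K ⊗_k
A)ˣ) is trivial, G acting on K ⊗_k A through the first factor. (The published statement allows any
Galois extension and reduces to the finite case by a direct limit; the finite case is stated.) -/
theorem result (k : Type u) [Field k] (K : Type v)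
    [Field K] [Algebra k K] [FiniteDimensional k K] [IsGalois k K]
    (A : Type w) [Ring A] [Algebra k A] [FiniteDimensional k A] :
    GpH1.H1.IsTrivial (K ≃ₐ[k] K) (K ⊗[k] A)ˣ := by
  intro x
  obtain ⟨a, rfl⟩ := GpH1.OneCocycle.cl_surjective x
  rw [GpH1.H1.pt, GpH1.OneCocycle.cl_eq_cl_iff]
  rcases finite_or_infinite k with hk | hk
  · obtain ⟨w, hw⟩ := exists_unit_finite a.1 a.2
    exact cohomologous_of_unit a.1 w hw
  · obtain ⟨w, hw⟩ := exists_unit_infinite a.1 a.2
    exact cohomologous_of_unit a.1 w hw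

end Groth.Agent.S13692
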