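import Groth.Statements.S13695
import Groth.Agent.Lib.CayleyHam23

set_option autoImplicit false
universe u
open scoped TensorProduct
open ZeroCyc

namespace Groth.Agent.S13695

/-- For a commutative ring A, a commutative A-algebra B and a multiplicative polynomial law F : B → A
homogeneous of degree d, the quotient of B by the kernel of F (the largest ideal I of B such that F
factors through B/I) is integral over A. Geometrically: the image of a family of zero-cycles of
degree d on Spec B parametrised by Spec A is integral over Spec A. -/
theorem result {A : Type u} [CommRing A] {B : Type u} [CommRing B] [Algebra A B]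
    {d : ℕ} (F : PolLaw.MulLaw A B A d) :
    Algebra.IsIntegral A (PolLaw.image F.law) := by
  refine ⟨fun x => ?_⟩
  obtain ⟨b, rfl⟩ := Ideal.Quotient.mk_surjective x
  obtain ⟨q, hq, hmem⟩ := Groth.Agent.Lib.CayleyHam23.exists_monic F b
  refine ⟨q, hq, ?_⟩
  have h1 : Polynomial.eval₂ (algebraMap A (PolLaw.image F.law)) (Ideal.Quotient.mk (PolLaw.ker F.law) b) q =
      Ideal.Quotient.mk (PolLaw.ker F.law) (Polynomial.aeval b q) := by
    rw [← Polynomial.aeval_def]
    exact Polynomial.aeval_algHom_apply (Ideal.Quotient.mkₐ A (PolLaw.ker F.law)) b q
  rw [h1]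
  exact Ideal.Quotient.eq_zero_iff_mem.2 hmem

end Groth.Agent.S13695
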