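import Groth.Statements.S13698
import Groth.Agent.Lib.KerBCFin23
import Groth.Agent.Lib.PolyCoeffT23
import Groth.Agent.Lib.PolyTensorPoly23
import Mathlib.RingTheory.MvPolynomial.Localization

set_option autoImplicit false
universe u
open scoped TensorProduct
open ZeroCyc

namespace Groth.Agent.S13698

open Groth.Agent.Lib.PolLaw23 Groth.Agent.Lib.KerBC23 Groth.Agent.Lib.PolLawExt23 Groth.Agent.Lib.KerBCFin23
  Groth.Agent.Lib.PolyCoeffT23 Groth.Agent.Lib.PolyTensorPoly23

section

variable {A : Type u} [CommRing A] {B : Type u} [CommRing B] [Algebra A B] (F : B →ₚₗ[A] A)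

/-- If a scalar kills all the defects `F (x + w b) - F x`, then it moves `b` into the kernel. -/
theorem smul_mem_ker_of_kill (b : B) (m : A)
    (h : ∀ (S : Type u) [CommRing S] [Algebra A S] (x w : S ⊗[A] B),
      m • (F.toFun' S (x + w * ((1 : S) ⊗ₜ[A] b)) - F.toFun' S x) = 0) :
    m • b ∈ PolLaw.ker F := by
  rw [mem_ker_iff]
  intro S _ _ x w
  set Q := Polynomial S with hQ
  set x' : Q ⊗[A] B := (Cm (A := A) S).toLinearMap.rTensor B x with hx'
  set w' : Q ⊗[A] B := ((Polynomial.X : Q) ⊗ₜ[A] (1 : B)) * (Cm (A := A) S).toLinearMap.rTensor B w with hw'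
  set G : Q ⊗[A] A := F.toFun' Q (x' + w' * ((1 : Q) ⊗ₜ[A] b)) - F.toFun' Q x' with hG
  set Gb : Polynomial S := TensorProduct.rid A Q G with hGb
  have hmG : m • Gb = 0 := by
    rw [hGb, ← map_smul, hG, h Q x' w', map_zero]
  -- evaluation at `t = r`
  have hev : ∀ r : S, Gb.eval r = TensorProduct.rid A S
      (F.toFun' S (x + (r ⊗ₜ[A] (1 : B)) * w * ((1 : S) ⊗ₜ[A] b)) - F.toFun' S x) := by
    intro r
    set evr : Q →ₐ[A] S := (Polynomial.aeval r).restrictScalars A with hevr
    have h1 : Gb.eval r = evr Gb := by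
      rw [hevr]
      show _ = Polynomial.aeval r Gb
      rw [Polynomial.coe_aeval_eq_eval]
    have hcomp : evr.comp (Cm (A := A) S) = AlgHom.id A S := by
      ext a
      show Polynomial.aeval r (Polynomial.C a) = a
      simp
    rw [h1, hGb, ← rid_rTensor, hG, map_sub, PolynomialLaw.isCompat_apply', PolynomialLaw.isCompat_apply']
    congr 2
    · rw [PolLaw.rTensor_algHom_apply, map_add, map_mul, ← PolLaw.rTensor_algHom_apply,
        ← PolLaw.rTensor_algHom_apply, ← PolLaw.rTensor_algHom_apply, hx', ← rTensor_comp_apply', hcomp, hw',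
        PolLaw.rTensor_algHom_apply evr, map_mul, ← PolLaw.rTensor_algHom_apply, ← PolLaw.rTensor_algHom_apply,
        ← rTensor_comp_apply', hcomp, LinearMap.rTensor_tmul, LinearMap.rTensor_tmul, AlgHom.toLinearMap_apply,
        AlgHom.toLinearMap_apply, map_one]
      have : evr Polynomial.X = r := by
        show Polynomial.aeval r Polynomial.X = r
        simp
      rw [this]
      simp
    · rw [hx', ← rTensor_comp_apply', hcomp]
      simp
  have h0 : Gb.coeff 0 = 0 := by
    rw [Polynomial.coeff_zero_eq_eval_zero, hev 0]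
    simp
  have hm : Gb.eval (algebraMap A S m) = 0 := by
    rw [Polynomial.eval_eq_sum_range]
    refine Finset.sum_eq_zero fun k _ => ?_
    rcases Nat.eq_zero_or_eq_succ_pred k with hk | hk
    · rw [hk, h0, zero_mul]
    · have h2 : m • Gb.coeff k = 0 := by
        rw [← Polynomial.coeff_smul, hmG, Polynomial.coeff_zero]
      rw [hk, pow_succ, ← mul_assoc, mul_comm _ (algebraMap A S m), ← mul_assoc, ← Algebra.smul_def, ← hk, h2,
        zero_mul]
  rw [hev] at hm
  have h3 := (TensorProduct.rid A S).injective (hm.trans (map_zero _).symm)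
  rw [sub_eq_zero] at h3
  have h4 : ((algebraMap A S m) ⊗ₜ[A] (1 : B)) * w * ((1 : S) ⊗ₜ[A] b) = w * ((1 : S) ⊗ₜ[A] (m • b)) := by
    rw [TensorProduct.tmul_smul, Algebra.smul_def m ((1 : S) ⊗ₜ[A] b), Algebra.TensorProduct.algebraMap_apply]
    ring
  rw [h4] at h3
  exact h3


/-- Clearing denominators in `A' ⊗ B`. -/
theorem exists_clear (M : Submonoid A) (A' : Type u) [CommRing A'] [Algebra A A'] [IsLocalization M A']
    (b' : A' ⊗[A] B) : ∃ (m : M) (b : B), (m : A) • b' = (1 : A') ⊗ₜ[A] b := by
  induction b' using TensorProduct.induction_on with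
  | zero => exact ⟨1, 0, by simp⟩
  | tmul a' b0 =>
    obtain ⟨⟨a, m⟩, h⟩ := IsLocalization.surj M a'
    refine ⟨m, a • b0, ?_⟩
    rw [TensorProduct.smul_tmul', Algebra.smul_def, mul_comm]
    simp only at h
    rw [h, Algebra.algebraMap_eq_smul_one, TensorProduct.smul_tmul]
  | add x y hx hy =>
    obtain ⟨m1, b1, h1⟩ := hx
    obtain ⟨m2, b2, h2⟩ := hy
    refine ⟨m1 * m2, (m2 : A) • b1 + (m1 : A) • b2, ?_⟩
    rw [smul_add, Submonoid.coe_mul, mul_comm (m1 : A), mul_smul, h1, mul_comm (m2 : A), mul_smul, h2,
      TensorProduct.tmul_add, TensorProduct.tmul_smul, TensorProduct.tmul_smul]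

/-- A polynomial dying in the localization is killed by one element of `M`. -/
theorem exists_kill (M : Submonoid A) (A' : Type u) [CommRing A'] [Algebra A A'] [IsLocalization M A']
    {σ : Type} (p : MvPolynomial σ A) (hp : MvPolynomial.map (algebraMap A A') p = 0) :
    ∃ m : M, (m : A) • p = 0 := by
  classical
  have h1 : ∀ s, ∃ m : M, (m : A) * p.coeff s = 0 := by
    intro s
    have := congrArg (MvPolynomial.coeff s) hp
    rw [MvPolynomial.coeff_map, MvPolynomial.coeff_zero] at this
    exact (IsLocalization.map_eq_zero_iff M A' _).1 this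
  choose m hm using h1
  refine ⟨∏ s ∈ p.support, m s, ?_⟩
  ext s
  rw [MvPolynomial.coeff_smul, MvPolynomial.coeff_zero, smul_eq_mul]
  by_cases hs : s ∈ p.support
  · rw [Submonoid.coe_finsetProd, ← Finset.mul_prod_erase _ _ hs, mul_comm (m s : A), mul_assoc, hm, mul_zero]
  · rw [MvPolynomial.notMem_support_iff.1 hs, mul_zero]

theorem main [Module.Finite A B] (M : Submonoid A) (A' : Type u) [CommRing A'] [Algebra A A']
    [IsLocalization M A'] :
    (PolLaw.ker F).map (Algebra.TensorProduct.includeRight : B →ₐ[A] A' ⊗[A] B) = PolLaw.kerBC F A' := by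
  refine le_antisymm (map_ker_le_kerBC F A') ?_
  intro b' hb'
  obtain ⟨N, e, he⟩ := Module.Finite.exists_fin (R := A) (M := B)
  obtain ⟨m, b, hmb⟩ := exists_clear M A' b'
  have h1 : (1 : A') ⊗ₜ[A] b ∈ PolLaw.kerBC F A' := by
    rw [← hmb, Algebra.smul_def]
    exact Ideal.mul_mem_left _ _ hb'
  set D := gdef F e A ((1 : A) ⊗ₜ[A] b) with hD
  set Db := TensorProduct.rid A (GR N A) D with hDb
  have h2 : mapGR (N := N) (Algebra.ofId A A') Db = 0 := by
    rw [hDb, ← rid_rTensor, hD, mapGR_gdef, bc_tmul, map_one, (mem_kerBC_iff_gdef F e he A' _).1 h1, map_zero]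
  obtain ⟨m₁, hm₁⟩ := exists_kill M A' Db h2
  have h3 : (m₁ : A) • D = 0 := by
    apply (TensorProduct.rid A (GR N A)).injective
    rw [map_smul, ← hDb, hm₁, map_zero]
  have h4 : (m₁ : A) • b ∈ PolLaw.ker F := by
    apply smul_mem_ker_of_kill
    intro S _ _ x w
    obtain ⟨xs, rfl⟩ := Groth.Agent.Lib.PolLawFin23.exists_eq_sum_tmul e he x
    obtain ⟨ws, rfl⟩ := Groth.Agent.Lib.PolLawFin23.exists_eq_sum_tmul e he w
    have h := evHom_gdef F e (Algebra.ofId A S) xs ws ((1 : A) ⊗ₜ[A] b)
    rw [bc_tmul, map_one] at h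
    rw [← h, ← hD, ← map_smul, h3, map_zero]
  obtain ⟨v, hv⟩ : ∃ v : A', v * algebraMap A A' ((m₁ : A) * (m : A)) = 1 := by
    have hu : IsUnit (algebraMap A A' ((m₁ * m : M) : A)) := IsLocalization.map_units A' (m₁ * m)
    obtain ⟨u, hu'⟩ := hu
    refine ⟨↑u⁻¹, ?_⟩
    rw [← Submonoid.coe_mul, ← hu']
    exact u.inv_mul
  have h5 : b' = (v ⊗ₜ[A] (1 : B)) *
      ((Algebra.TensorProduct.includeRight : B →ₐ[A] A' ⊗[A] B) ((m₁ : A) • b)) := by
    rw [Algebra.TensorProduct.includeRight_apply, TensorProduct.tmul_smul, ← hmb, smul_smul, Algebra.smul_def,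
      Algebra.TensorProduct.algebraMap_apply, ← mul_assoc, Algebra.TensorProduct.tmul_mul_tmul, hv, mul_one]
    exact (one_mul b').symm
  rw [h5]
  exact Ideal.mul_mem_left _ _ (Ideal.mem_map_of_mem _ h4)

end

/-- Let F : B → A be a multiplicative polynomial law homogeneous of degree d over the commutative ring
A, on a commutative A-algebra B which is finite as an A-module, and let A' be a localization of A at
a submonoid M. Then the kernel of the base change of F to A' is the ideal of A' ⊗_A B generated by
the kernel of F: the kernel (hence the image of a family of zero-cycles) commutes with localization.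
(The published statement has no finiteness hypothesis on B and is false without one: for a suitable
algebra B that is not finitely generated the conditions cutting out the kernel at an element are
infinitely many elements of A annihilated by elements of M but by no single one, and the kernel of
the localised law is then strictly larger than the localised kernel; the published proof's reduction
to finite B does not go through. This row assumes B finite over A, the case that proof establishes.) -/
theorem result {A : Type u} [CommRing A] {B : Type u} [CommRing B] [Algebra A B]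
    [Module.Finite A B] {d : ℕ} (F : PolLaw.MulLaw A B A d) (M : Submonoid A) (A' : Type u) [CommRing A'] [Algebra A A']
    [IsLocalization M A'] :
    (PolLaw.ker F.law).map (Algebra.TensorProduct.includeRight : B →ₐ[A] A' ⊗[A] B) =
      PolLaw.kerBC F.law A' := by
  exact Groth.Agent.S13698.main F.law M A'

end Groth.Agent.S13698
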