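import Groth.Statements.S13701
import Groth.Agent.Lib.PolarKer23
import Groth.Agent.Lib.PolLawFin23
import Mathlib.RingTheory.Flat.Basic

set_option autoImplicit false
universe u
open scoped TensorProduct
open ZeroCyc

namespace Groth.Agent.S13701

open Groth.Agent.Lib.PolLaw23 Groth.Agent.Lib.KerBC23 Groth.Agent.Lib.PolLawExt23 Groth.Agent.Lib.Polarize23
  Groth.Agent.Lib.PolarKer23

section

variable {A : Type u} [CommRing A] {B : Type u} [CommRing B] [Algebra A B] (F : B →ₚₗ[A] A)

/-- The finitely many polar conditions attached to a spanning family. -/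
noncomputable def Lam {N : ℕ} (e : Fin N → B) (d : ℕ) : B →ₗ[A] (Fin d × (Fin d → Fin N) → A) :=
  LinearMap.pi fun j =>
    ((muMulti F d).toLinearMap (fun i => e (j.2 i)) j.1) ∘ₗ (LinearMap.mulRight A (e (j.2 j.1)))

theorem Lam_apply {N : ℕ} (e : Fin N → B) (d : ℕ) (b : B) (i0 : Fin d) (c : Fin d → Fin N) :
    Lam F e d b (i0, c) = mu F (Function.update (fun i => e (c i)) i0 (b * e (c i0))) := by
  simp [Lam, MultilinearMap.toLinearMap_apply]
  rfl

/-- The polar conditions on a spanning family give all of them. -/
theorem Kc_of_Lam {N : ℕ} (e : Fin N → B) (he : Submodule.span A (Set.range e) = ⊤) (d : ℕ) (b : B)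
    (hb : Lam F e d b = 0) : Kc F d b := by
  classical
  intro i0 m
  set g : MultilinearMap A (fun _ : Fin d => B) A :=
    (muMulti F d).compLinearMap (fun i => if i = i0 then LinearMap.mulLeft A b else LinearMap.id) with hg
  have hgm : ∀ m' : Fin d → B, g m' = mu F (Function.update m' i0 (b * m' i0)) := by
    intro m'
    rw [hg, MultilinearMap.compLinearMap_apply]
    show mu F _ = _
    congr 1
    funext i
    by_cases hi : i = i0
    · subst hi
      simp
    · simp [hi]
  rw [← hgm]
  apply multilinear_eq_zero_of_span e he g
  intro c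
  rw [hgm, ← Lam_apply, hb]
  rfl

/-- An element of `A' ⊗ (J → A)` with vanishing coordinates vanishes. -/
theorem eq_zero_of_proj {J : Type} [Fintype J] [DecidableEq J] (A' : Type u) [CommRing A'] [Algebra A A']
    (y : A' ⊗[A] (J → A))
    (h : ∀ j, (LinearMap.proj (R := A) (φ := fun _ : J => A) j).lTensor A' y = 0) : y = 0 := by
  have h1 : ∀ y : A' ⊗[A] (J → A), y = ∑ j, (LinearMap.single A (fun _ : J => A) j).lTensor A'
      ((LinearMap.proj (R := A) (φ := fun _ : J => A) j).lTensor A' y) := by
    intro y
    induction y using TensorProduct.induction_on with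
    | zero => simp
    | tmul a v =>
      simp only [LinearMap.lTensor_tmul, LinearMap.proj_apply, LinearMap.single_apply]
      rw [← TensorProduct.tmul_sum, Finset.univ_sum_single]
    | add u v hu hv =>
      simp only [map_add, Finset.sum_add_distrib]
      rw [← hu, ← hv]
  rw [h1 y]
  refine Finset.sum_eq_zero fun j _ => ?_
  rw [h, map_zero]

theorem mulRight_lTensor (A' : Type u) [CommRing A'] [Algebra A A'] (x : B) (b' : A' ⊗[A] B) :
    (LinearMap.mulRight A x).lTensor A' b' = ((1 : A') ⊗ₜ[A] x) * b' := by
  induction b' using TensorProduct.induction_on with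
  | zero => simp
  | tmul a b => simp [Algebra.TensorProduct.tmul_mul_tmul, mul_comm]
  | add u v hu hv => rw [map_add, hu, hv, mul_add]

theorem main [Algebra ℚ A] [Module.Finite A B] {d : ℕ} (hF : PolLaw.IsHomog F d)
    (A' : Type u) [CommRing A'] [Algebra A A'] [Module.Flat A A'] :
    (PolLaw.ker F).map (Algebra.TensorProduct.includeRight : B →ₐ[A] A' ⊗[A] B) = PolLaw.kerBC F A' := by
  classical
  refine le_antisymm (map_ker_le_kerBC F A') ?_
  intro b' hb'
  obtain ⟨N, e, he⟩ := Module.Finite.exists_fin (R := A) (M := B)
  have hd : IsUnit ((d.factorial : ℕ) : A) := by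
    have h1 : ((d.factorial : ℕ) : A) = algebraMap ℚ A (d.factorial : ℚ) := by simp
    rw [h1]
    exact (IsUnit.mk0 _ (by exact_mod_cast d.factorial_ne_zero)).map _
  -- the polar conditions vanish on `b'`
  have h1 : (Lam F e d).lTensor A' b' = 0 := by
    apply eq_zero_of_proj
    rintro ⟨i0, c⟩
    rw [← LinearMap.comp_apply, ← LinearMap.lTensor_comp]
    have h2 : (LinearMap.proj (R := A) (φ := fun _ : Fin d × (Fin d → Fin N) => A) (i0, c)).comp (Lam F e d) =
        ((muMulti F d).toLinearMap (fun i => e (c i)) i0) ∘ₗ (LinearMap.mulRight A (e (c i0))) := by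
      ext b
      rfl
    rw [h2, LinearMap.lTensor_comp, LinearMap.comp_apply, mulRight_lTensor]
    exact polar_kerBC F hF hd A' b' hb' i0 _ _
  -- flatness
  have h3 := Module.Flat.lTensor_exact A' (LinearMap.exact_subtype_ker_map (Lam F e d))
  obtain ⟨t, ht⟩ := (h3 b').1 h1
  rw [← ht]
  -- elements of `A' ⊗ ker Λ` land in the extended ideal
  have h4 : ∀ k : LinearMap.ker (Lam F e d), (k : B) ∈ PolLaw.ker F := by
    intro k
    exact mem_ker_of_Kc F hF hd _ (Kc_of_Lam F e he d _ (LinearMap.mem_ker.1 k.2))
  have h6 : ∀ t : A' ⊗[A] LinearMap.ker (Lam F e d), (LinearMap.ker (Lam F e d)).subtype.lTensor A' t ∈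
      (PolLaw.ker F).map (Algebra.TensorProduct.includeRight : B →ₐ[A] A' ⊗[A] B) := by
    intro t
    induction t using TensorProduct.induction_on with
    | zero => rw [map_zero]; exact Ideal.zero_mem _
    | tmul a k =>
      rw [LinearMap.lTensor_tmul]
      have h5 : a ⊗ₜ[A] ((LinearMap.ker (Lam F e d)).subtype k) =
          (a ⊗ₜ[A] (1 : B)) * (Algebra.TensorProduct.includeRight : B →ₐ[A] A' ⊗[A] B) (k : B) := by
        rw [Algebra.TensorProduct.includeRight_apply, Algebra.TensorProduct.tmul_mul_tmul, mul_one, one_mul]
        rfl
      rw [h5]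
      exact Ideal.mul_mem_left _ _ (Ideal.mem_map_of_mem _ (h4 k))
    | add u v hu hv =>
      rw [map_add]
      exact Ideal.add_mem _ hu hv
  exact h6 t

end

/-- Let A be a commutative ℚ-algebra, F : B → A a multiplicative polynomial law homogeneous of degree d
on a commutative A-algebra B which is finite as an A-module, and A' a commutative A-algebra which is
flat as an A-module. Then the kernel of the base change of F to A' is the ideal of A' ⊗_A B
generated by the kernel of F. (In positive characteristic this fails even for finite free base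
change. The published statement has no finiteness hypothesis on B and is false without one: a
localisation of A is flat, and for a suitable algebra B that is not finitely generated the kernel
does not commute with it; the published proof's reduction to finite B does not go through. This row
assumes B finite over A, the case that proof establishes: there the kernel is the intersection of
finitely many kernels of A-linear maps on B, which commutes with flat base change.) -/
theorem result {A : Type u} [CommRing A] [Algebra ℚ A] {B : Type u} [CommRing B] [Algebra A B]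
    [Module.Finite A B] {d : ℕ} (F : PolLaw.MulLaw A B A d) (A' : Type u) [CommRing A'] [Algebra A A'] [Module.Flat A A'] :
    (PolLaw.ker F.law).map (Algebra.TensorProduct.includeRight : B →ₐ[A] A' ⊗[A] B) =
      PolLaw.kerBC F.law A' := by
  exact Groth.Agent.S13701.main F.law F.homog A'

end Groth.Agent.S13701
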