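import Groth.Statements.S13702
import Mathlib.RingTheory.AdjoinRoot
import Mathlib.FieldTheory.Separable
import Mathlib.FieldTheory.IsAlgClosed.AlgebraicClosure
import Mathlib.Algebra.CharP.Reduced
import Mathlib.LinearAlgebra.Determinant
import Mathlib.LinearAlgebra.Matrix.ToLinearEquiv
import Mathlib.RingTheory.LocalRing.ResidueField.Basic
import Mathlib.RingTheory.Polynomial.Basic

set_option autoImplicit false
universe u
open ZeroCyc

namespace Groth.Agent.S13702

open Polynomial in
theorem eq_zero_of_dvd_expand {κ : Type u} [Field κ] (p : ℕ) [Fact p.Prime] [CharP κ p] (s : ℕ)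
    (gb : Polynomial κ) (hsep : gb.Separable) (h : Polynomial κ)
    (hdeg : h.natDegree < gb.natDegree) (hdvd : gb ∣ Polynomial.expand κ (p ^ s) h) : h = 0 := by
  classical
  by_contra hne
  let L := AlgebraicClosure κ
  have : CharP L p := charP_of_injective_algebraMap (algebraMap κ L).injective p
  have hsplit : (gb.map (algebraMap κ L)).Splits := IsAlgClosed.splits _
  have hnodup : (gb.map (algebraMap κ L)).roots.Nodup := nodup_roots hsep.map
  have hcard : (gb.map (algebraMap κ L)).roots.card = gb.natDegree := by
    rw [← hsplit.natDegree_eq_card_roots, natDegree_map]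
  have hLne : h.map (algebraMap κ L) ≠ 0 := by
    rwa [Ne, Polynomial.map_eq_zero]
  have hdvdL : gb.map (algebraMap κ L) ∣ expand L (p ^ s) (h.map (algebraMap κ L)) := by
    rw [← map_expand]
    exact Polynomial.map_dvd _ hdvd
  have hsub : ((gb.map (algebraMap κ L)).roots.toFinset.image (fun x => x ^ p ^ s)) ⊆
      (h.map (algebraMap κ L)).roots.toFinset := by
    intro y hy
    rw [Finset.mem_image] at hy
    obtain ⟨x, hx, rfl⟩ := hy
    rw [Multiset.mem_toFinset] at hx ⊢
    rw [mem_roots hLne, IsRoot.def, ← expand_eval]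
    have hx0 : eval x (gb.map (algebraMap κ L)) = 0 := (mem_roots'.mp hx).2
    exact eval_eq_zero_of_dvd_of_eval_eq_zero hdvdL hx0
  have hinj : Function.Injective (fun x : L => x ^ p ^ s) := iterateFrobenius_inj L p s
  have h1 := Finset.card_le_card hsub
  rw [Finset.card_image_of_injective _ hinj, Multiset.toFinset_card_of_nodup hnodup, hcard] at h1
  have h2 : (h.map (algebraMap κ L)).roots.toFinset.card ≤ h.natDegree := by
    calc _ ≤ (h.map (algebraMap κ L)).roots.card := Multiset.toFinset_card_le _
      _ ≤ (h.map (algebraMap κ L)).natDegree := card_roots' _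
      _ = h.natDegree := natDegree_map _
  omega

/-- Let A be a local ring with residue field of characteristic p > 0, let g ∈ A[X] be monic and
separable of degree n, so that A' = A[X]/(g) is an étale A-algebra, and let q = p^s with s ≥ 0. Then
the powers 1, t^q, t^{2q}, …, t^{(n-1)q} of the class t of X form a basis of A' as an A-module. -/
theorem result {A : Type u} [CommRing A] [IsLocalRing A] (p : ℕ) [Fact p.Prime]
    [CharP (IsLocalRing.ResidueField A) p] (g : Polynomial A) (hg : g.Monic) (hsep : g.Separable) (s : ℕ) :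
    ∃ b : Module.Basis (Fin g.natDegree) A (AdjoinRoot g),
      ∀ i : Fin g.natDegree, b i = AdjoinRoot.root g ^ (p ^ s * (i : ℕ)) := by
  classical
  have hgbm : (g.map (IsLocalRing.residue A)).Monic := hg.map _
  have hgbd : (g.map (IsLocalRing.residue A)).natDegree = g.natDegree := hg.natDegree_map _
  have hgbs : (g.map (IsLocalRing.residue A)).Separable := hsep.map
  let T : Matrix (Fin g.natDegree) (Fin g.natDegree) A :=
    Matrix.of fun i j => ((Polynomial.X : Polynomial A) ^ (p ^ s * (j : ℕ)) %ₘ g).coeff (i : ℕ)
  have hTres : ∀ i j, IsLocalRing.residue A (T i j) =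
      ((Polynomial.X : Polynomial (IsLocalRing.ResidueField A)) ^ (p ^ s * (j : ℕ)) %ₘ
        g.map (IsLocalRing.residue A)).coeff (i : ℕ) := by
    intro i j
    simp only [T, Matrix.of_apply]
    rw [← Polynomial.coeff_map, Polynomial.map_modByMonic _ hg, Polynomial.map_pow,
      Polynomial.map_X]
  have hdet : IsUnit T.det := by
    rw [← IsLocalRing.residue_ne_zero_iff_isUnit]
    intro h0
    rw [RingHom.map_det] at h0
    obtain ⟨c, hc, hTc⟩ := Matrix.exists_mulVec_eq_zero_iff.mpr h0
    obtain ⟨j₀, hj₀⟩ := Function.ne_iff.mp hc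
    have hnpos : 0 < g.natDegree := lt_of_le_of_lt (Nat.zero_le _) j₀.2
    let h : Polynomial (IsLocalRing.ResidueField A) :=
      ∑ j : Fin g.natDegree, Polynomial.C (c j) * Polynomial.X ^ (j : ℕ)
    have hdeg : h.natDegree < (g.map (IsLocalRing.residue A)).natDegree := by
      rw [hgbd]
      by_cases hh : h = 0
      · rw [hh, Polynomial.natDegree_zero]
        exact hnpos
      · rw [Polynomial.natDegree_lt_iff_degree_lt hh]
        exact Polynomial.degree_sum_fin_lt c
    have hexp : Polynomial.expand (IsLocalRing.ResidueField A) (p ^ s) h =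
        ∑ j : Fin g.natDegree, c j • (Polynomial.X : Polynomial (IsLocalRing.ResidueField A)) ^
          (p ^ s * (j : ℕ)) := by
      simp only [h, map_sum, map_mul, Polynomial.expand_C, map_pow, Polynomial.expand_X,
        ← pow_mul, Polynomial.smul_eq_C_mul]
    have hmod : Polynomial.expand (IsLocalRing.ResidueField A) (p ^ s) h %ₘ
        g.map (IsLocalRing.residue A) = 0 := by
      rw [hexp, ← Polynomial.modByMonicHom_apply, map_sum]
      simp only [map_smul, Polynomial.modByMonicHom_apply]
      ext k
      rw [Polynomial.finsetSum_coeff, Polynomial.coeff_zero]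
      by_cases hk : k < g.natDegree
      · have := congrFun hTc ⟨k, hk⟩
        rw [Matrix.mulVec, dotProduct] at this
        simp only [Pi.zero_apply] at this
        rw [← this]
        refine Finset.sum_congr rfl fun j _ => ?_
        rw [Polynomial.coeff_smul, smul_eq_mul, mul_comm, RingHom.mapMatrix_apply,
          Matrix.map_apply, hTres]
      · refine Finset.sum_eq_zero fun j _ => ?_
        rw [Polynomial.coeff_smul, Polynomial.coeff_eq_zero_of_degree_lt, smul_zero]
        have hd := Polynomial.degree_modByMonic_lt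
          ((Polynomial.X : Polynomial (IsLocalRing.ResidueField A)) ^ (p ^ s * (j : ℕ))) hgbm
        refine lt_of_lt_of_le hd ?_
        rw [Polynomial.degree_eq_natDegree hgbm.ne_zero, hgbd]
        exact_mod_cast not_lt.mp hk
    have hdvd := (Polynomial.modByMonic_eq_zero_iff_dvd hgbm).mp hmod
    have h0' := eq_zero_of_dvd_expand p s _ hgbs h hdeg hdvd
    apply hj₀
    have h1 := congrArg (fun f => Polynomial.coeff f (j₀ : ℕ)) h0'
    simp only [h, Polynomial.finsetSum_coeff, Polynomial.coeff_C_mul, Polynomial.coeff_X_pow,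
      Polynomial.coeff_zero] at h1
    rw [Finset.sum_eq_single j₀] at h1
    · simpa using h1
    · intro j _ hj
      rw [if_neg, mul_zero]
      exact fun h => hj (Fin.ext h.symm)
    · intro h
      exact absurd (Finset.mem_univ _) h
  -- conclude
  let v : Fin g.natDegree → AdjoinRoot g := fun i => AdjoinRoot.root g ^ (p ^ s * (i : ℕ))
  have hmat : (AdjoinRoot.powerBasisAux' hg).toMatrix v = T := by
    ext i j
    rw [Module.Basis.toMatrix_apply]
    simp only [v, T, Matrix.of_apply]
    rw [← AdjoinRoot.mk_X, ← map_pow, AdjoinRoot.powerBasisAux'_repr_apply_to_fun,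
      AdjoinRoot.modByMonicHom_mk]
  have hbasis := (Module.Basis.is_basis_iff_det (AdjoinRoot.powerBasisAux' hg) (v := v)).mpr (by
    rw [Module.Basis.det_apply, hmat]
    exact hdet)
  refine ⟨Module.Basis.mk hbasis.1 hbasis.2.ge, fun i => ?_⟩
  rw [Module.Basis.mk_apply]

end Groth.Agent.S13702
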