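import Groth.Statements.S13703
import Groth.Agent.Lib.KerPoly23
import Groth.Agent.Lib.ZeroCycField23
import Mathlib.RingTheory.Ideal.MinimalPrime.Localization
import Mathlib.RingTheory.Ideal.GoingUp

set_option autoImplicit false
universe u
open scoped TensorProduct
open ZeroCyc

namespace Groth.Agent.S13703

open Groth.Agent.Lib.KerPoly23 Groth.Agent.Lib.ZeroCycField23

variable {A : Type u} [CommRing A] [IsDomain A] {B : Type u} [CommRing B] [Algebra A B] {d : ℕ}

theorem comap_eq_bot (F : PolLaw.MulLaw A B A d) {P : Ideal B}
    (hP : P ∈ (PolLaw.ker F.law).minimalPrimes) : P.comap (algebraMap A B) = ⊥ := by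
  rw [eq_bot_iff]
  intro a ha
  rw [Ideal.mem_comap] at ha
  rw [Ideal.mem_bot]
  by_contra hne
  obtain ⟨y, hy, hay⟩ := Ideal.exists_mul_mem_of_mem_minimalPrimes hP ha
  rw [← Algebra.smul_def] at hay
  exact hy (mem_ker_of_smul_mem F.law F.homog hne hay)

theorem main (F : PolLaw.MulLaw A B A d) {P : Ideal B} (hP : P ∈ (PolLaw.ker F.law).minimalPrimes) :
    P.comap (algebraMap A B) = ⊥ ∧
      ∀ q : Ideal A, q.IsPrime → ∃ Q : Ideal B, Q.IsPrime ∧ P ≤ Q ∧ Q.comap (algebraMap A B) = q := by
  have h1 := comap_eq_bot F hP
  refine ⟨h1, fun q hq => ?_⟩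
  have : P.IsPrime := hP.1.1
  have : Algebra.IsIntegral A (B ⧸ P) := isIntegral_quotient F P hP.1.2
  have hker : RingHom.ker (algebraMap A (B ⧸ P)) ≤ q := by
    intro a ha
    rw [RingHom.mem_ker, IsScalarTower.algebraMap_apply A B (B ⧸ P), Ideal.Quotient.algebraMap_eq,
      Ideal.Quotient.eq_zero_iff_mem] at ha
    have : a ∈ P.comap (algebraMap A B) := ha
    rw [h1, Ideal.mem_bot] at this
    rw [this]
    exact Ideal.zero_mem _
  obtain ⟨Q', hQ'prime, hQ'⟩ := Ideal.exists_ideal_over_prime_of_isIntegral_of_isDomain q hker
  refine ⟨Q'.comap (Ideal.Quotient.mk P), Ideal.comap_isPrime _ _, ?_, ?_⟩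
  · intro x hx
    rw [Ideal.mem_comap, Ideal.Quotient.eq_zero_iff_mem.2 hx]
    exact Ideal.zero_mem _
  · rw [← hQ', Ideal.comap_comap]
    rfl

/-- Let A be an integral domain, B a commutative A-algebra and F : B → A a multiplicative polynomial law
homogeneous of degree d. For every prime ideal P of B minimal among those containing the kernel of
F, the contraction of P to A is zero and every prime of A is the contraction of a prime of B
containing P. Geometrically: every irreducible component of the support of the family of zero-cycles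
on Spec B defined by F maps onto Spec A. (The published statement is over an arbitrary algebraic
space S, every irreducible component of the support mapping onto an irreducible component of S, and
its proof reduces to an integral affine base; this row is that case.) -/
theorem result {A : Type u} [CommRing A] [IsDomain A] {B : Type u} [CommRing B] [Algebra A B]
    {d : ℕ} (F : PolLaw.MulLaw A B A d) {P : Ideal B} (hP : P ∈ (PolLaw.ker F.law).minimalPrimes) :
    P.comap (algebraMap A B) = ⊥ ∧
      ∀ q : Ideal A, q.IsPrime → ∃ Q : Ideal B, Q.IsPrime ∧ P ≤ Q ∧ Q.comap (algebraMap A B) = q := by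
  exact Groth.Agent.S13703.main F hP

end Groth.Agent.S13703
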