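import Groth.Statements.S13704
import Groth.Agent.S13703
import Groth.Agent.S13697
import Mathlib.RingTheory.Ideal.GoingDown
import Mathlib.RingTheory.Ideal.MinimalPrime.Basic

set_option autoImplicit false
universe u
open scoped TensorProduct
open ZeroCyc

namespace Groth.Agent.S13704

open Groth.Agent.Lib.BCLaw23 Groth.Agent.Lib.KerBC23

variable {A : Type u} [CommRing A] {B : Type u} [CommRing B] [Algebra A B] {d : ℕ}

/-- Going down for primes containing the kernel: the ring-level core. -/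
theorem core (F : PolLaw.MulLaw A B A d) (Q₁ : Ideal B) [Q₁.IsPrime] (hQ₁ : PolLaw.ker F.law ≤ Q₁)
    (p : Ideal A) [p.IsPrime] (hp : p ≤ Q₁.comap (algebraMap A B)) :
    ∃ P₁ : Ideal B, P₁.IsPrime ∧ P₁ ≤ Q₁ ∧ PolLaw.ker F.law ≤ P₁ ∧ P₁.comap (algebraMap A B) = p := by
  -- base change to the domain `D = A ⧸ p`
  set G := bcMul F (A ⧸ p) with hG
  -- the map `(A ⧸ p) ⊗ B → B ⧸ Q₁`
  have h0 : ∀ a ∈ p, (Algebra.ofId A (B ⧸ Q₁)) a = 0 := by
    intro a ha
    have := hp ha
    rw [Ideal.mem_comap] at this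
    show algebraMap A (B ⧸ Q₁) a = 0
    rw [IsScalarTower.algebraMap_apply A B (B ⧸ Q₁)]
    exact Ideal.Quotient.eq_zero_iff_mem.2 this
  set θ : (A ⧸ p) ⊗[A] B →ₐ[A] B ⧸ Q₁ :=
    Algebra.TensorProduct.lift (Ideal.Quotient.liftₐ p (Algebra.ofId A _) h0)
      (Ideal.Quotient.mkₐ A Q₁) (fun _ _ => Commute.all _ _) with hθ
  set Q₂ : Ideal ((A ⧸ p) ⊗[A] B) := RingHom.ker (θ : (A ⧸ p) ⊗[A] B →+* B ⧸ Q₁) with hQ₂
  have hQ₂prime : Q₂.IsPrime := RingHom.ker_isPrime _
  have hθι : ∀ b : B, θ ((1 : A ⧸ p) ⊗ₜ[A] b) = Ideal.Quotient.mk Q₁ b := by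
    intro b
    rw [hθ, Algebra.TensorProduct.lift_tmul, map_one, one_mul, Ideal.Quotient.mkₐ_eq_mk]
  -- `ker G ≤ Q₂`
  have h1 : (PolLaw.ker F.law).map
      (Algebra.TensorProduct.includeRight : B →ₐ[A] (A ⧸ p) ⊗[A] B) ≤ Q₂ := by
    rw [Ideal.map_le_iff_le_comap]
    intro b hb
    rw [Ideal.mem_comap, hQ₂, RingHom.mem_ker]
    show θ ((1 : A ⧸ p) ⊗ₜ[A] b) = 0
    rw [hθι, Ideal.Quotient.eq_zero_iff_mem]
    exact hQ₁ hb
  have h2 : PolLaw.ker G.law ≤ Q₂ := by
    rw [hG, ker_bcMul]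
    refine le_trans Ideal.le_radical ?_
    rw [Groth.Agent.S13697.main F (A ⧸ p)]
    exact (Ideal.IsPrime.radical_le_iff hQ₂prime).2 h1
  obtain ⟨P₂, hP₂min, hP₂le⟩ := Ideal.exists_minimalPrimes_le h2
  have hP₂prime : P₂.IsPrime := hP₂min.1.1
  have h3 := (Groth.Agent.S13703.main G hP₂min).1
  refine ⟨P₂.comap (Algebra.TensorProduct.includeRight : B →ₐ[A] (A ⧸ p) ⊗[A] B),
    Ideal.comap_isPrime _ _, ?_, ?_, ?_⟩
  · intro b hb
    rw [Ideal.mem_comap] at hb
    have := hP₂le hb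
    rw [hQ₂, RingHom.mem_ker] at this
    have h4 : θ ((1 : A ⧸ p) ⊗ₜ[A] b) = 0 := this
    rw [hθι, Ideal.Quotient.eq_zero_iff_mem] at h4
    exact h4
  · intro b hb
    rw [Ideal.mem_comap]
    apply hP₂min.1.2
    rw [hG, ker_bcMul]
    exact map_ker_le_kerBC F.law (A ⧸ p) (Ideal.mem_map_of_mem _ hb)
  · ext a
    rw [Ideal.mem_comap, Ideal.mem_comap]
    have h5 : (Algebra.TensorProduct.includeRight : B →ₐ[A] (A ⧸ p) ⊗[A] B) (algebraMap A B a) =
        algebraMap (A ⧸ p) ((A ⧸ p) ⊗[A] B) (Ideal.Quotient.mk p a) := by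
      rw [AlgHom.commutes, Algebra.TensorProduct.algebraMap_apply, Algebra.TensorProduct.algebraMap_apply]
      rfl
    rw [h5, ← Ideal.mem_comap, h3, Ideal.mem_bot, Ideal.Quotient.eq_zero_iff_mem]


theorem main (F : PolLaw.MulLaw A B A d) (A' : Type u) [CommRing A'] [Algebra A A'] :
    GeneralizingMap (PrimeSpectrum.comap (algebraMap A' (A' ⊗[A] PolLaw.image F.law))) := by
  rw [← Algebra.HasGoingDown.iff_generalizingMap_primeSpectrumComap]
  refine ⟨fun {p} hp Q hQ hlt => ?_⟩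
  set ρ : A' ⊗[A] B →ₐ[A] A' ⊗[A] PolLaw.image F.law :=
    Algebra.TensorProduct.map (AlgHom.id A A') (Ideal.Quotient.mkₐ A (PolLaw.ker F.law)) with hρ
  have hsurj : Function.Surjective ρ := by
    rw [hρ]
    exact Algebra.TensorProduct.map_surjective _ _ Function.surjective_id
      (Ideal.Quotient.mkₐ_surjective A _)
  have hker : RingHom.ker (ρ : A' ⊗[A] B →+* A' ⊗[A] PolLaw.image F.law) =
      (PolLaw.ker F.law).map (Algebra.TensorProduct.includeRight : B →ₐ[A] A' ⊗[A] B) := by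
    have := Algebra.TensorProduct.lTensor_ker (A := A') (Ideal.Quotient.mkₐ A (PolLaw.ker F.law))
      (Ideal.Quotient.mkₐ_surjective A _)
    have hk : RingHom.ker (Ideal.Quotient.mkₐ A (PolLaw.ker F.law)) = PolLaw.ker F.law := by
      ext b
      rw [RingHom.mem_ker, Ideal.Quotient.mkₐ_eq_mk, Ideal.Quotient.eq_zero_iff_mem]
    rw [hk] at this
    exact this
  have hcomm : ∀ a : A', ρ (algebraMap A' (A' ⊗[A] B) a) =
      algebraMap A' (A' ⊗[A] PolLaw.image F.law) a := by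
    intro a
    rw [Algebra.TensorProduct.algebraMap_apply, Algebra.TensorProduct.algebraMap_apply, hρ,
      Algebra.TensorProduct.map_tmul, map_one]
    rfl
  set G := bcMul F A' with hG
  set Q₁ : Ideal (A' ⊗[A] B) := Q.comap (ρ : A' ⊗[A] B →+* A' ⊗[A] PolLaw.image F.law) with hQ₁
  have hQ₁prime : Q₁.IsPrime := Ideal.comap_isPrime _ _
  have hkerle : RingHom.ker (ρ : A' ⊗[A] B →+* A' ⊗[A] PolLaw.image F.law) ≤ Q₁ := by
    intro z hz
    rw [hQ₁, Ideal.mem_comap, RingHom.mem_ker.1 hz]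
    exact Ideal.zero_mem _
  have hGle : PolLaw.ker G.law ≤ Q₁ := by
    rw [hG, ker_bcMul]
    refine le_trans Ideal.le_radical ?_
    rw [Groth.Agent.S13697.main F A', ← hker]
    exact (Ideal.IsPrime.radical_le_iff hQ₁prime).2 hkerle
  have hple : p ≤ Q₁.comap (algebraMap A' (A' ⊗[A] B)) := by
    intro a ha
    rw [Ideal.mem_comap, hQ₁, Ideal.mem_comap]
    show ρ (algebraMap A' (A' ⊗[A] B) a) ∈ Q
    rw [hcomm]
    exact hlt.le ha
  obtain ⟨P₁, hP₁prime, hP₁le, hP₁ker, hP₁over⟩ := core G Q₁ hGle p hple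
  have hkerP₁ : RingHom.ker (ρ : A' ⊗[A] B →+* A' ⊗[A] PolLaw.image F.law) ≤ P₁ := by
    rw [hker]
    refine le_trans ?_ hP₁ker
    rw [hG, ker_bcMul]
    exact map_ker_le_kerBC F.law A'
  have hcomap : (P₁.map (ρ : A' ⊗[A] B →+* A' ⊗[A] PolLaw.image F.law)).comap
      (ρ : A' ⊗[A] B →+* A' ⊗[A] PolLaw.image F.law) = P₁ := by
    rw [Ideal.comap_map_of_surjective (ρ : A' ⊗[A] B →+* A' ⊗[A] PolLaw.image F.law) hsurj,
      ← RingHom.ker_eq_comap_bot]
    exact sup_eq_left.2 hkerP₁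
  refine ⟨P₁.map (ρ : A' ⊗[A] B →+* A' ⊗[A] PolLaw.image F.law), ?_,
    Ideal.map_isPrime_of_surjective hsurj hkerP₁, ⟨?_⟩⟩
  · rw [Ideal.map_le_iff_le_comap]
    exact hP₁le
  · ext a
    rw [Ideal.under_def, Ideal.mem_comap, ← hcomm, ← hP₁over, Ideal.mem_comap]
    have h6 : algebraMap A' (A' ⊗[A] B) a ∈ P₁ ↔
        algebraMap A' (A' ⊗[A] B) a ∈ (P₁.map (ρ : A' ⊗[A] B →+* A' ⊗[A] PolLaw.image F.law)).comap
          (ρ : A' ⊗[A] B →+* A' ⊗[A] PolLaw.image F.law) := by rw [hcomap]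
    rw [h6, Ideal.mem_comap]
    rfl

/-- Let F : B → A be a multiplicative polynomial law homogeneous of degree d over the commutative ring A
and let Z = Spec(B/ker F) be the image of the corresponding family of zero-cycles on Spec B over
Spec A. Then Z → Spec A is universally generizing: for every commutative A-algebra A', along the map
Spec(A' ⊗_A (B/ker F)) → Spec A' every generization of the image of a point lifts to a generization
of the point. (The published statement is for X affine over an algebraic space S and for the support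
of the family; this row is the case of an affine base, stated for the image, which has the same
underlying space as the support since generizing is a topological property.) -/
theorem result {A : Type u} [CommRing A] {B : Type u} [CommRing B] [Algebra A B]
    {d : ℕ} (F : PolLaw.MulLaw A B A d) (A' : Type u) [CommRing A'] [Algebra A A'] :
    GeneralizingMap (PrimeSpectrum.comap (algebraMap A' (A' ⊗[A] PolLaw.image F.law))) := by
  exact Groth.Agent.S13704.main F A'

end Groth.Agent.S13704
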