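import Groth.Statements.S13705
import Groth.Agent.Lib.MonicChar23
import Groth.Agent.Lib.H80UnivOpenSpec
import Groth.Agent.S13697

set_option autoImplicit false
universe u
open scoped TensorProduct
open ZeroCyc

namespace Groth.Agent.S13705

open Groth.Agent.Lib.KerBC23 Groth.Agent.Lib.BCLaw23 Groth.Agent.Lib.MonicChar23

variable {A : Type u} [CommRing A] {B : Type u} [CommRing B] [Algebra A B] {d : ℕ}

theorem mem_ker_of_one_tmul {C : Type u} [CommRing C] [Algebra A C] (F : B →ₚₗ[A] C) (b : B)
    (h : (1 : A) ⊗ₜ[A] b ∈ PolLaw.kerBC F A) : b ∈ PolLaw.ker F := by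
  rw [mem_ker_iff]
  intro S _ _ x w
  have := (mem_kerBC_iff F A _).1 h S (Algebra.ofId A S) x w
  rwa [bc_tmul, map_one] at this

theorem forward (F : PolLaw.MulLaw A B A d) (b : B) (Q : Ideal B) [Q.IsPrime]
    (hQ : PolLaw.ker F.law ≤ Q) (hb : b ∉ Q) :
    ∃ i, i < d ∧ algebraMap A B ((mchar F A ((1 : A) ⊗ₜ[A] b)).coeff i) ∉ Q := by
  by_contra hcon
  push Not at hcon
  obtain ⟨hdeg, hcoeff⟩ := mchar_degree F A ((1 : A) ⊗ₜ[A] b)
  have h1 : Polynomial.aeval b (mchar F A ((1 : A) ⊗ₜ[A] b)) ∈ PolLaw.ker F.law := by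
    apply mem_ker_of_one_tmul
    have h := aeval_mchar_mem F A ((1 : A) ⊗ₜ[A] b)
    have e : Polynomial.aeval ((1 : A) ⊗ₜ[A] b) (mchar F A ((1 : A) ⊗ₜ[A] b)) =
        (1 : A) ⊗ₜ[A] (Polynomial.aeval b (mchar F A ((1 : A) ⊗ₜ[A] b))) := by
      have := Polynomial.aeval_algHom_apply
        (Algebra.TensorProduct.includeRight : B →ₐ[A] A ⊗[A] B) b (mchar F A ((1 : A) ⊗ₜ[A] b))
      simpa using this
    rwa [e] at h
  have h2 := hQ h1
  rw [Polynomial.aeval_eq_sum_range' (n := d + 1) (by omega), Finset.sum_range_succ, hcoeff,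
    one_smul] at h2
  have h3 : ∑ i ∈ Finset.range d, (mchar F A ((1 : A) ⊗ₜ[A] b)).coeff i • b ^ i ∈ Q :=
    Q.sum_mem (fun i hi => by
      rw [Algebra.smul_def]
      exact Q.mul_mem_right _ (hcon i (Finset.mem_range.1 hi)))
  have h4 : b ^ d ∈ Q := (Ideal.add_mem_iff_right Q h3).1 h2
  exact hb (Ideal.IsPrime.mem_of_pow_mem inferInstance d h4)

theorem backward (F : PolLaw.MulLaw A B A d) (b : B) (p : Ideal A) [p.IsPrime] (i : ℕ) (hi : i < d)
    (hpi : (mchar F A ((1 : A) ⊗ₜ[A] b)).coeff i ∉ p) :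
    ∃ Q : Ideal B, Q.IsPrime ∧ PolLaw.ker F.law ≤ Q ∧ b ∉ Q ∧ Q.comap (algebraMap A B) = p := by
  have h1 : (mchar F A ((1 : A) ⊗ₜ[A] b)).map (algebraMap A p.ResidueField) =
      mchar F p.ResidueField ((1 : p.ResidueField) ⊗ₜ[A] b) := by
    have := mchar_map F (Algebra.ofId A p.ResidueField) ((1 : A) ⊗ₜ[A] b)
    rwa [bc_tmul, map_one] at this
  have h2 : ∀ N, ((1 : p.ResidueField) ⊗ₜ[A] b) ^ N ∉ PolLaw.kerBC F.law p.ResidueField := by
    intro N hN
    have h3 := mchar_of_pow_mem F p.ResidueField hN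
    rw [← h1] at h3
    have h4 := congrArg (fun f => f.coeff i) h3
    simp only [Polynomial.coeff_map, Polynomial.coeff_X_pow] at h4
    rw [if_neg (by omega)] at h4
    exact hpi (Ideal.algebraMap_residueField_eq_zero.1 h4)
  have h5 : (1 : p.ResidueField) ⊗ₜ[A] b ∉ (PolLaw.kerBC F.law p.ResidueField).radical :=
    fun ⟨N, hN⟩ => h2 N hN
  rw [Groth.Agent.S13697.main F p.ResidueField, Ideal.radical_eq_sInf, Ideal.mem_sInf] at h5
  push Not at h5
  obtain ⟨Q', ⟨hQ'1, hQ'2⟩, hQ'3⟩ := h5
  refine ⟨Q'.comap (Algebra.TensorProduct.includeRight : B →ₐ[A] p.ResidueField ⊗[A] B),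
    Ideal.comap_isPrime _ _, Ideal.map_le_iff_le_comap.1 hQ'1, hQ'3, ?_⟩
  have h6 : Q'.comap (algebraMap p.ResidueField (p.ResidueField ⊗[A] B)) = ⊥ :=
    Ideal.eq_bot_of_prime _
  have h7 : ((Algebra.TensorProduct.includeRight : B →ₐ[A] p.ResidueField ⊗[A] B) : B →+* _).comp
      (algebraMap A B) = (algebraMap p.ResidueField (p.ResidueField ⊗[A] B)).comp
        (algebraMap A p.ResidueField) := by
    ext a
    simp [Algebra.algebraMap_eq_smul_one]
  have h8 : (Q'.comap (Algebra.TensorProduct.includeRight : B →ₐ[A] p.ResidueField ⊗[A] B)).comap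
      (algebraMap A B) = Q'.comap (((Algebra.TensorProduct.includeRight :
        B →ₐ[A] p.ResidueField ⊗[A] B) : B →+* _).comp (algebraMap A B)) := rfl
  rw [h8, h7, ← Ideal.comap_comap, h6]
  exact Ideal.ker_algebraMap_residueField p

/-- The image in `Spec A` of `V(ker F) ∩ D(b)` is open. -/
theorem isOpen_image (F : PolLaw.MulLaw A B A d) (b : B) :
    IsOpen {p : PrimeSpectrum A | ∃ Q : PrimeSpectrum B, PolLaw.ker F.law ≤ Q.asIdeal ∧
      b ∉ Q.asIdeal ∧ Q.asIdeal.comap (algebraMap A B) = p.asIdeal} := by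
  have h : {p : PrimeSpectrum A | ∃ Q : PrimeSpectrum B, PolLaw.ker F.law ≤ Q.asIdeal ∧
      b ∉ Q.asIdeal ∧ Q.asIdeal.comap (algebraMap A B) = p.asIdeal} =
      ⋃ i ∈ Finset.range d,
        (PrimeSpectrum.basicOpen ((mchar F A ((1 : A) ⊗ₜ[A] b)).coeff i) : Set (PrimeSpectrum A)) := by
    ext p
    simp only [Set.mem_ofPred_eq, Set.mem_iUnion, Finset.mem_range, SetLike.mem_coe,
      PrimeSpectrum.mem_basicOpen, exists_prop]
    constructor
    · rintro ⟨Q, h1, h2, h3⟩
      obtain ⟨i, hi, hi'⟩ := forward F b Q.asIdeal h1 h2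
      refine ⟨i, hi, fun hmem => hi' ?_⟩
      rw [← h3] at hmem
      exact hmem
    · rintro ⟨i, hi, hi'⟩
      obtain ⟨Q, hQ, h1, h2, h3⟩ := backward F b p.asIdeal i hi hi'
      exact ⟨⟨Q, hQ⟩, h1, h2, h3⟩
  rw [h]
  exact isOpen_biUnion (fun i _ => (PrimeSpectrum.basicOpen _).isOpen)

theorem isOpenMap_comap (F : PolLaw.MulLaw A B A d) (R : Type u) [CommRing R] [Algebra A R] :
    IsOpenMap (PrimeSpectrum.comap
      (Algebra.TensorProduct.includeLeftRingHom : R →+* R ⊗[A] (PolLaw.image F.law))) := by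
  rw [PrimeSpectrum.isTopologicalBasis_basic_opens.isOpenMap_iff]
  rintro _ ⟨zbar, rfl⟩
  have hρs : Function.Surjective (Algebra.TensorProduct.map (AlgHom.id A R)
      (Ideal.Quotient.mkₐ A (PolLaw.ker F.law))) :=
    Algebra.TensorProduct.map_surjective (AlgHom.id A R) (Ideal.Quotient.mkₐ A (PolLaw.ker F.law))
      Function.surjective_id (Ideal.Quotient.mkₐ_surjective A _)
  have hker : RingHom.ker (Algebra.TensorProduct.map (AlgHom.id A R)
      (Ideal.Quotient.mkₐ A (PolLaw.ker F.law))) =
      (PolLaw.ker F.law).map (Algebra.TensorProduct.includeRight : B →ₐ[A] R ⊗[A] B) := by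
    have hk : RingHom.ker (Ideal.Quotient.mkₐ A (PolLaw.ker F.law)) = PolLaw.ker F.law := by
      ext x
      rw [RingHom.mem_ker]
      exact Ideal.Quotient.eq_zero_iff_mem
    rw [Algebra.TensorProduct.lTensor_ker _ (Ideal.Quotient.mkₐ_surjective A _), hk]
  obtain ⟨z, rfl⟩ := hρs zbar
  have hset : (PrimeSpectrum.comap
      (Algebra.TensorProduct.includeLeftRingHom : R →+* R ⊗[A] (PolLaw.image F.law))) ''
      (PrimeSpectrum.basicOpen ((Algebra.TensorProduct.map (AlgHom.id A R)
        (Ideal.Quotient.mkₐ A (PolLaw.ker F.law))) z) : Set _) =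
      {p : PrimeSpectrum R | ∃ Q : PrimeSpectrum (R ⊗[A] B),
        PolLaw.ker (bcMul F R).law ≤ Q.asIdeal ∧
        z ∉ Q.asIdeal ∧ Q.asIdeal.comap (algebraMap R (R ⊗[A] B)) = p.asIdeal} := by
    ext p
    simp only [Set.mem_image, SetLike.mem_coe, PrimeSpectrum.mem_basicOpen, Set.mem_ofPred_eq]
    constructor
    · rintro ⟨Qb, hQb, rfl⟩
      refine ⟨PrimeSpectrum.comap (Algebra.TensorProduct.map (AlgHom.id A R)
        (Ideal.Quotient.mkₐ A (PolLaw.ker F.law))).toRingHom Qb, ?_, hQb, ?_⟩
      · rw [ker_bcMul]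
        have h1 : (PolLaw.ker F.law).map
            (Algebra.TensorProduct.includeRight : B →ₐ[A] R ⊗[A] B) ≤
            (PrimeSpectrum.comap (Algebra.TensorProduct.map (AlgHom.id A R)
              (Ideal.Quotient.mkₐ A (PolLaw.ker F.law))).toRingHom Qb).asIdeal := by
          rw [← hker]
          intro x hx
          rw [PrimeSpectrum.comap_asIdeal, Ideal.mem_comap]
          rw [RingHom.mem_ker] at hx
          change (Algebra.TensorProduct.map (AlgHom.id A R)
              (Ideal.Quotient.mkₐ A (PolLaw.ker F.law))) x ∈ Qb.asIdeal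
          rw [hx]
          exact Qb.asIdeal.zero_mem
        refine le_trans Ideal.le_radical ?_
        rw [Groth.Agent.S13697.main F R]
        exact (Ideal.IsPrime.radical_le_iff (PrimeSpectrum.isPrime _)).2 h1
      · ext r
        simp only [PrimeSpectrum.comap_asIdeal, Ideal.mem_comap]
        have : (Algebra.TensorProduct.map (AlgHom.id A R)
            (Ideal.Quotient.mkₐ A (PolLaw.ker F.law))).toRingHom (algebraMap R (R ⊗[A] B) r) =
            (Algebra.TensorProduct.includeLeftRingHom : R →+* R ⊗[A] (PolLaw.image F.law)) r := by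
          simp [Algebra.TensorProduct.algebraMap_apply]
        rw [this]
    · rintro ⟨Q, hQ1, hQ2, hQ3⟩
      rw [ker_bcMul] at hQ1
      have hle : RingHom.ker (Algebra.TensorProduct.map (AlgHom.id A R)
          (Ideal.Quotient.mkₐ A (PolLaw.ker F.law))) ≤ Q.asIdeal := by
        rw [hker]
        exact le_trans (map_ker_le_kerBC F.law R) hQ1
      have hprime : (Q.asIdeal.map (Algebra.TensorProduct.map (AlgHom.id A R)
          (Ideal.Quotient.mkₐ A (PolLaw.ker F.law)))).IsPrime :=
        Ideal.map_isPrime_of_surjective hρs hle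
      have hcm : (Q.asIdeal.map (Algebra.TensorProduct.map (AlgHom.id A R)
          (Ideal.Quotient.mkₐ A (PolLaw.ker F.law)))).comap (Algebra.TensorProduct.map (AlgHom.id A R)
          (Ideal.Quotient.mkₐ A (PolLaw.ker F.law))) = Q.asIdeal := by
        rw [Ideal.comap_map_of_surjective _ hρs]
        exact sup_eq_left.2 (by rwa [← RingHom.ker_eq_comap_bot])
      refine ⟨⟨_, hprime⟩, ?_, ?_⟩
      · intro hmem
        apply hQ2
        rw [← hcm]
        exact hmem
      · ext r
        rw [← hQ3]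
        simp only [PrimeSpectrum.comap_asIdeal, Ideal.mem_comap]
        have : (Algebra.TensorProduct.map (AlgHom.id A R)
            (Ideal.Quotient.mkₐ A (PolLaw.ker F.law))) (algebraMap R (R ⊗[A] B) r) =
            (Algebra.TensorProduct.includeLeftRingHom : R →+* R ⊗[A] (PolLaw.image F.law)) r := by
          simp [Algebra.TensorProduct.algebraMap_apply]
        rw [← this]
        conv_rhs => rw [← hcm]
        rw [Ideal.mem_comap]
  rw [hset]
  exact isOpen_image (bcMul F R) z

theorem main (F : PolLaw.MulLaw A B A d) :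
    AlgebraicGeometry.UniversallyOpen
      (AlgebraicGeometry.Spec.map (CommRingCat.ofHom (algebraMap A (PolLaw.image F.law)))) :=
  Groth.Agent.Lib.H80UnivOpenSpec.universallyOpen_SpecMap_of_forall_isOpenMap_comap
    (fun R _ _ => isOpenMap_comap F R)

/-- Let F : B → A be a multiplicative polynomial law homogeneous of degree d over the commutative ring
A, with no finiteness assumption on B. Then the morphism Spec(B/ker F) → Spec A, the image of the
family of zero-cycles on Spec B defined by F, is universally open. (The published statement is for X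
affine over an algebraic space S and for the support; this row is the case of an affine base, stated
for the image, which has the same underlying space as the support, the property being étale-local on
the base and topological.) -/
theorem result {A : Type u} [CommRing A] {B : Type u} [CommRing B] [Algebra A B]
    {d : ℕ} (F : PolLaw.MulLaw A B A d) :
    AlgebraicGeometry.UniversallyOpen
      (AlgebraicGeometry.Spec.map (CommRingCat.ofHom (algebraMap A (PolLaw.image F.law)))) := by
  exact Groth.Agent.S13705.main F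

end Groth.Agent.S13705
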