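import Groth.Statements.S13706
import Groth.Agent.Lib.GenericCH23
import Mathlib.RingTheory.IntegralClosure.IsIntegralClosure.Basic
import Mathlib.RingTheory.FiniteType

set_option autoImplicit false
universe u
open scoped TensorProduct
open ZeroCyc

namespace Groth.Agent.S13706

open Groth.Agent.Lib.KerBC23 Groth.Agent.Lib.KerBCPoly23 Groth.Agent.Lib.GenericCH23 Groth.Agent.Lib.CayleyHam23

variable {A : Type u} [CommRing A] {B : Type u} [CommRing B] [Algebra A B]

/-- An element of an extended ideal lies in the extension of a finitely generated subideal. -/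
theorem exists_fg_le_of_mem_map {S : Type u} [CommRing S] (f : B →+* S) (I : Ideal B) {x : S}
    (hx : x ∈ I.map f) : ∃ J : Ideal B, J.FG ∧ J ≤ I ∧ x ∈ J.map f := by
  unfold Ideal.map at hx
  induction hx using Submodule.span_induction with
  | mem x hx =>
    obtain ⟨k, hk, rfl⟩ := hx
    refine ⟨Ideal.span {k}, ⟨{k}, by simp⟩, ?_, ?_⟩
    · rw [Ideal.span_le]
      simpa using hk
    · exact Ideal.mem_map_of_mem _ (Ideal.subset_span rfl)
  | zero => exact ⟨⊥, Submodule.fg_bot, bot_le, Ideal.zero_mem _⟩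
  | add x y _ _ hx hy =>
    obtain ⟨J₁, h1, h2, h3⟩ := hx
    obtain ⟨J₂, h4, h5, h6⟩ := hy
    refine ⟨J₁ ⊔ J₂, Submodule.FG.sup h1 h4, sup_le h2 h5, ?_⟩
    exact Ideal.add_mem _ (Ideal.map_mono le_sup_left h3) (Ideal.map_mono le_sup_right h6)
  | smul a x _ hx =>
    obtain ⟨J₁, h1, h2, h3⟩ := hx
    exact ⟨J₁, h1, h2, Ideal.mul_mem_left _ _ h3⟩

variable {d : ℕ}

/-- Step 1: a finitely generated ideal inside the kernel modulo which `B` is a finite module. -/
theorem exists_fg_finite [Algebra.FiniteType A B] (F : PolLaw.MulLaw A B A d) :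
    ∃ J₁ : Ideal B, J₁.FG ∧ J₁ ≤ PolLaw.ker F.law ∧ Module.Finite A (B ⧸ J₁) := by
  classical
  obtain ⟨s, hs⟩ := (Algebra.FiniteType.out : (⊤ : Subalgebra A B).FG)
  choose q hq1 hq2 using fun b : B => exists_monic F b
  set J₁ : Ideal B := Ideal.span ((fun b => Polynomial.aeval b (q b)) '' (s : Set B)) with hJ₁
  refine ⟨J₁, ⟨s.image (fun b => Polynomial.aeval b (q b)), by rw [hJ₁, Finset.coe_image]⟩, ?_, ?_⟩
  · rw [hJ₁, Ideal.span_le]
    rintro _ ⟨b, -, rfl⟩
    exact hq2 b
  · set π : B →ₐ[A] B ⧸ J₁ := Ideal.Quotient.mkₐ A J₁ with hπ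
    have hπs : Function.Surjective π := Ideal.Quotient.mkₐ_surjective A J₁
    have h1 : Algebra.adjoin A (π '' (s : Set B)) = ⊤ := by
      rw [← AlgHom.map_adjoin, hs, Algebra.map_top]
      exact (AlgHom.range_eq_top π).2 hπs
    have h2 : ∀ x ∈ π '' (s : Set B), IsIntegral A x := by
      rintro _ ⟨b, hb, rfl⟩
      refine ⟨q b, hq1 b, ?_⟩
      rw [← Polynomial.aeval_def, Polynomial.aeval_algHom_apply, hπ, Ideal.Quotient.mkₐ_eq_mk,
        Ideal.Quotient.eq_zero_iff_mem]
      exact Ideal.subset_span ⟨b, hb, rfl⟩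
    have h3 := fg_adjoin_of_finite (s.finite_toSet.image π) h2
    rw [h1, Algebra.top_toSubmodule] at h3
    exact Module.finite_def.2 h3

theorem main [Algebra.FiniteType A B] (F : PolLaw.MulLaw A B A d) :
    ∃ J : Ideal B, J.FG ∧ J ≤ PolLaw.ker F.law ∧ J.radical = (PolLaw.ker F.law).radical := by
  classical
  obtain ⟨J₁, hfg₁, hle₁, hfin⟩ := exists_fg_finite F
  obtain ⟨N, e₀, he₀⟩ := Module.Finite.exists_fin (R := A) (M := B ⧸ J₁)
  choose e he using fun l => Ideal.Quotient.mk_surjective (I := J₁) (e₀ l)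
  obtain ⟨c, hc, hspec⟩ := generic F N e
  obtain ⟨J₂, hfg₂, hle₂, hc₂⟩ := exists_fg_le_of_mem_map _ _ hc
  refine ⟨J₁ ⊔ J₂, Submodule.FG.sup hfg₁ hfg₂, sup_le hle₁ hle₂, ?_⟩
  apply le_antisymm (Ideal.radical_mono (sup_le hle₁ hle₂))
  rw [Ideal.radical_le_radical_iff]
  intro b hb
  -- write `b` modulo `J₁` as a combination of the `e l`
  have h1 : Ideal.Quotient.mk J₁ b ∈ Submodule.span A (Set.range e₀) := by rw [he₀]; trivial
  obtain ⟨a, ha⟩ := (Submodule.mem_span_range_iff_exists_fun A).1 h1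
  set b₀ : B := ∑ l, a l • e l with hb₀
  have h2 : b - b₀ ∈ J₁ := by
    rw [← Ideal.Quotient.eq, ← ha, hb₀, map_sum]
    refine Finset.sum_congr rfl fun l _ => ?_
    rw [← he l]
    rfl
  have hb₀ker : b₀ ∈ PolLaw.ker F.law := by
    have := Ideal.sub_mem _ hb (hle₁ h2)
    rwa [sub_sub_cancel] at this
  -- the specialisation
  have h3 : (∑ l, a l ⊗ₜ[A] e l : A ⊗[A] B) =
      (Algebra.TensorProduct.includeRight : B →ₐ[A] A ⊗[A] B) b₀ := by
    rw [hb₀, map_sum]
    refine Finset.sum_congr rfl fun l _ => ?_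
    rw [Algebra.TensorProduct.includeRight_apply, TensorProduct.tmul_smul, TensorProduct.smul_tmul',
      smul_eq_mul, mul_one]
  have h4 : (∑ l, a l ⊗ₜ[A] e l : A ⊗[A] B) ∈ PolLaw.kerBC F.law A := by
    rw [h3]
    exact map_ker_le_kerBC F.law A (Ideal.mem_map_of_mem _ hb₀ker)
  have h5 := hspec A a h4
  have h6 := bc_mem_map_includeRight J₂ (MvPolynomial.aeval a : MvPolynomial (Fin N) A →ₐ[A] A) hc₂
  rw [h5, h3] at h6
  -- transport to `B`
  have h7 : J₂.map (Algebra.TensorProduct.includeRight : B →ₐ[A] A ⊗[A] B) ≤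
      J₂.comap (Algebra.TensorProduct.lid A B) := by
    rw [Ideal.map_le_iff_le_comap]
    intro k hk
    rw [Ideal.mem_comap, Ideal.mem_comap, Algebra.TensorProduct.includeRight_apply,
      Algebra.TensorProduct.lid_tmul, one_smul]
    exact hk
  have h8 := h7 h6
  rw [Ideal.mem_comap, map_pow, map_neg, Algebra.TensorProduct.includeRight_apply,
    Algebra.TensorProduct.lid_tmul, one_smul] at h8
  have h9 : b₀ ∈ (J₁ ⊔ J₂).radical := by
    refine ⟨d, ?_⟩
    apply Ideal.mem_sup_right
    rw [neg_pow] at h8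
    rcases neg_one_pow_eq_or B d with h | h
    · rwa [h, one_mul] at h8
    · rw [h, neg_one_mul] at h8
      exact (Ideal.neg_mem_iff _).1 h8
  have h10 : b - b₀ ∈ (J₁ ⊔ J₂).radical := Ideal.le_radical (Ideal.mem_sup_left h2)
  have := Ideal.add_mem _ h10 h9
  rwa [sub_add_cancel] at this

/-- Let A be a commutative ring, B an A-algebra of finite type and F : B → A a multiplicative polynomial
law homogeneous of degree d. Then there is a finitely generated ideal J of B, contained in the
kernel of F and with the same radical; thus the support of the family of zero-cycles defined by F is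
carried by a bijective closed immersion into Spec(B/J), a scheme of finite presentation over A. -/
theorem result {A : Type u} [CommRing A] {B : Type u} [CommRing B] [Algebra A B]
    [Algebra.FiniteType A B] {d : ℕ} (F : PolLaw.MulLaw A B A d) :
    ∃ J : Ideal B, J.FG ∧ J ≤ PolLaw.ker F.law ∧ J.radical = (PolLaw.ker F.law).radical := by
  exact Groth.Agent.S13706.main F

end Groth.Agent.S13706
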