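import Groth.Statements.S13707
import Groth.Agent.Lib.ZeroCycField23
import Groth.Agent.Lib.SepBound23
import Mathlib.RingTheory.LocalRing.ResidueField.Ideal
import Mathlib.RingTheory.Ideal.GoingUp
import Mathlib.RingTheory.Spectrum.Prime.RingHom

set_option autoImplicit false
universe u
open scoped TensorProduct
open ZeroCyc

namespace Groth.Agent.S13707

open Groth.Agent.Lib.ZeroCycField23 Groth.Agent.Lib.SepBound23 Groth.Agent.Lib.CayleyHam23

variable {k : Type u} [Field k] {B : Type u} [CommRing B] [Algebra k B] {d : ℕ}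

theorem card_le_image (F : PolLaw.MulLaw k B k d) (s : Finset (PrimeSpectrum (PolLaw.image F.law))) :
    s.card ≤ d := by
  classical
  set π : B →+* PolLaw.image F.law := Ideal.Quotient.mk (PolLaw.ker F.law) with hπ
  have hinj : Function.Injective (PrimeSpectrum.comap π) :=
    PrimeSpectrum.comap_injective_of_surjective π Ideal.Quotient.mk_surjective
  rw [← Finset.card_image_of_injective s hinj]
  apply card_le F
  intro Q hQ
  obtain ⟨P, -, rfl⟩ := Finset.mem_image.1 hQ
  intro b hb
  show π b ∈ P.asIdeal
  rw [hπ, Ideal.Quotient.eq_zero_iff_mem.2 hb]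
  exact Ideal.zero_mem _

theorem main (F : PolLaw.MulLaw k B k d) :
    Finite (PrimeSpectrum (PolLaw.image F.law)) ∧ Nat.card (PrimeSpectrum (PolLaw.image F.law)) ≤ d ∧
      ∀ P : PrimeSpectrum (PolLaw.image F.law), P.asIdeal.IsMaximal ∧
        Finite (Field.Emb k P.asIdeal.ResidueField) := by
  obtain ⟨h1, h2⟩ := finite_of_forall_card_le d (card_le_image F)
  refine ⟨h1, h2, fun P => ?_⟩
  have hint : Algebra.IsIntegral k (PolLaw.image F.law) := isIntegral_quotient F _ le_rfl
  have hmax : P.asIdeal.IsMaximal := by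
    apply Ideal.isMaximal_of_isIntegral_of_isMaximal_comap (R := k) P.asIdeal
    have : (P.asIdeal.comap (algebraMap k (PolLaw.image F.law))) = ⊥ :=
      Ideal.eq_bot_of_prime _
    rw [this]
    exact Ideal.bot_isMaximal
  refine ⟨hmax, ?_⟩
  apply finite_emb_of_bounded d
  intro x
  obtain ⟨y, rfl⟩ := Ideal.algebraMap_residueField_surjective P.asIdeal x
  obtain ⟨b, rfl⟩ := Ideal.Quotient.mk_surjective y
  obtain ⟨q, hq1, hq2, hq3⟩ := exists_monic_le F b
  refine ⟨q, hq1, hq2, ?_⟩
  rw [Polynomial.aeval_algebraMap_apply]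
  have h3 : Polynomial.aeval (Ideal.Quotient.mkₐ k (PolLaw.ker F.law) b) q =
      Ideal.Quotient.mkₐ k (PolLaw.ker F.law) (Polynomial.aeval b q) :=
    Polynomial.aeval_algHom_apply _ _ _
  rw [Ideal.Quotient.mkₐ_eq_mk] at h3
  rw [h3, Ideal.Quotient.eq_zero_iff_mem.2 hq3, map_zero]

/-- Let k be a field, B a commutative k-algebra and F : B → k a multiplicative polynomial law
homogeneous of degree d. Then the spectrum of B/ker F (the image of the family of zero-cycles of
degree d on Spec B defined by F) is a finite set of at most d closed points, and the residue field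
at each of them has finite separable degree over k. -/
theorem result {k : Type u} [Field k] {B : Type u} [CommRing B] [Algebra k B]
    {d : ℕ} (F : PolLaw.MulLaw k B k d) :
    Finite (PrimeSpectrum (PolLaw.image F.law)) ∧ Nat.card (PrimeSpectrum (PolLaw.image F.law)) ≤ d ∧
      ∀ P : PrimeSpectrum (PolLaw.image F.law), P.asIdeal.IsMaximal ∧
        Finite (Field.Emb k P.asIdeal.ResidueField) := by
  exact Groth.Agent.S13707.main F

end Groth.Agent.S13707
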