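import Groth.Statements.S13708
import Mathlib.AlgebraicGeometry.Morphisms.Separated
import Mathlib.AlgebraicGeometry.PullbackCarrier
import Mathlib.AlgebraicGeometry.Morphisms.Immersion

set_option autoImplicit false
universe u
open CategoryTheory CategoryTheory.Limits AlgebraicGeometry
open ZeroCyc

namespace Groth.Agent.S13708

/-- Let X be a scheme over S such that every finite set of points of X over a common point of S lies in
some affine open subscheme of X (the condition (AF)). Then X is separated over S. (The published
condition (AF) asks for an open U with U → S quasi-affine rather than U affine; with U affine, as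
here, the same argument applies verbatim, and the two conditions agree over a quasi-separated base.) -/
theorem result {X S : Scheme.{u}} (f : X ⟶ S) (hX : SymProd.IsAF f) :
    IsSeparated f := by
  constructor
  apply IsClosedImmersion.of_isPreimmersion
  rw [← isOpen_compl_iff, isOpen_iff_forall_mem_open]
  intro z hz
  -- the two projections lie over the same point of `S`
  have hfib : f.base (pullback.snd f f z) = f.base (pullback.fst f f z) := by
    rw [← Scheme.Hom.comp_apply, ← Scheme.Hom.comp_apply, pullback.condition]
  classical
  obtain ⟨U, hU, hUmem⟩ := hX (f.base (pullback.fst f f z))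
    {pullback.fst f f z, pullback.snd f f z} (by
      intro x hx
      rw [Finset.mem_insert, Finset.mem_singleton] at hx
      rcases hx with rfl | rfl
      · rfl
      · exact hfib)
  have h1 : pullback.fst f f z ∈ U := hUmem _ (by simp)
  have h2 : pullback.snd f f z ∈ U := hUmem _ (by simp)
  have : IsAffine U := hU
  let g : (U : Scheme.{u}) ⟶ S := U.ι ≫ f
  let j : pullback g g ⟶ pullback f f :=
    pullback.map g g f f U.ι U.ι (𝟙 S) (by simp [g]) (by simp [g])
  have hjrange : Set.range j = pullback.fst f f ⁻¹' Set.range U.ι ∩
      pullback.snd f f ⁻¹' Set.range U.ι :=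
    Scheme.Pullback.range_map g g f f U.ι U.ι (𝟙 S) (by simp [g]) (by simp [g])
  have hzj : z ∈ Set.range j := by
    rw [hjrange]
    refine ⟨?_, ?_⟩
    · simp only [Set.mem_preimage, Scheme.Opens.range_ι]
      exact h1
    · simp only [Set.mem_preimage, Scheme.Opens.range_ι]
      exact h2
  obtain ⟨z', rfl⟩ := hzj
  have hcomm : pullback.diagonal g ≫ j = U.ι ≫ pullback.diagonal f := by
    apply pullback.hom_ext
    · rw [Category.assoc, Category.assoc, pullback.lift_fst, pullback.diagonal_fst,
        ← Category.assoc, pullback.diagonal_fst, Category.id_comp, Category.comp_id]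
    · rw [Category.assoc, Category.assoc, pullback.lift_snd, pullback.diagonal_snd,
        ← Category.assoc, pullback.diagonal_snd, Category.id_comp, Category.comp_id]
  have hz' : z' ∉ Set.range (pullback.diagonal g) := by
    rintro ⟨u, rfl⟩
    apply hz
    refine ⟨U.ι u, ?_⟩
    rw [← Scheme.Hom.comp_apply, ← Scheme.Hom.comp_apply, hcomm]
  have hclosed : IsClosed (Set.range (pullback.diagonal g)) :=
    (pullback.diagonal g).isClosedEmbedding.isClosed_range
  refine ⟨j '' (Set.range (pullback.diagonal g))ᶜ, ?_, ?_, ⟨z', hz', rfl⟩⟩
  · rintro _ ⟨o, ho, rfl⟩ ⟨x, hx⟩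
    apply ho
    have hxU : x ∈ U := by
      have : pullback.fst f f (j o) ∈ Set.range U.ι := by
        have : j o ∈ Set.range j := ⟨o, rfl⟩
        rw [hjrange] at this
        exact this.1
      rw [← hx, ← Scheme.Hom.comp_apply] at this
      simpa using this
    refine ⟨⟨x, hxU⟩, ?_⟩
    apply j.isOpenEmbedding.injective
    rw [← Scheme.Hom.comp_apply, hcomm, Scheme.Hom.comp_apply, ← hx]
    rfl
  · exact j.isOpenEmbedding.isOpenMap _ hclosed.isOpen_compl

end Groth.Agent.S13708
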