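import Groth.Statements.S13713
import Groth.Agent.Lib.TSFinType75

set_option autoImplicit false
universe u
open scoped TensorProduct
open ZeroCyc

namespace Groth.Agent.S13713

/-- Let (C, γ) be the algebra of divided powers Γ^d_A(B) of a commutative A-algebra B with its universal
multiplicative law γ : B → C homogeneous of degree d (every multiplicative law B → C' homogeneous of
degree d factors uniquely through γ by an algebra map C → C'). If B is of finite type over A then so
is C = Γ^d_A(B). -/
theorem result {A : Type u} [CommRing A] {B : Type u} [CommRing B] [Algebra A B] {C : Type u} [CommRing C] [Algebra A C]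
    {d : ℕ} (γ : PolLaw.MulLaw A B C d) (hγ : PolLaw.IsGammaD γ) [Algebra.FiniteType A B] :
    Algebra.FiniteType A C := by
  obtain ⟨n, π, hπ⟩ := Algebra.FiniteType.iff_quotient_mvPolynomial''.1 (inferInstance : Algebra.FiniteType A B)
  obtain ⟨τP, hτP, hΓP⟩ := Groth.Agent.Lib.GammaTS75.main A (MvPolynomial (Fin n) A) d (Or.inl inferInstance)
  obtain ⟨f, hf, -⟩ := hΓP C (γ.precomp π)
  have hfsurj : Function.Surjective f := Groth.Agent.S13717.result τP hΓP γ hγ π hπ f hf
  have h1 : Algebra.FiniteType A (SymTen.TS A (MvPolynomial (Fin n) A) d) :=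
    (Subalgebra.fg_iff_finiteType _).1 (Groth.Agent.Lib.TSFinType75.fg_TS A n d)
  exact Algebra.FiniteType.of_surjective f hfsurj

end Groth.Agent.S13713
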