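import Groth.Statements.S13716
import Groth.Agent.Lib.PolLawFin23

set_option autoImplicit false
universe u
open scoped TensorProduct
open ZeroCyc

namespace Groth.Agent.S13716

open Groth.Agent.Lib.PolLawFin23 Groth.Agent.Lib.PolLawSpan23

/-- Let (C, γ) be the algebra of divided powers Γ^d_A(B) of a commutative A-algebra B with its universal
multiplicative law γ : B → C homogeneous of degree d (every multiplicative law B → C' homogeneous of
degree d factors uniquely through γ by an algebra map C → C'). If B is integral over A then so is C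
= Γ^d_A(B). -/
theorem result {A : Type u} [CommRing A] {B : Type u} [CommRing B] [Algebra A B] {C : Type u} [CommRing C] [Algebra A C]
    {d : ℕ} (γ : PolLaw.MulLaw A B C d) (hγ : PolLaw.IsGammaD γ) [Algebra.IsIntegral A B] :
    Algebra.IsIntegral A C := by
  classical
  -- every coefficient is integral
  have hcoef : ∀ c ∈ Groth.Agent.Lib.PolLawSpan23.coeffSet γ, IsIntegral A c := by
    rintro c ⟨n, z, l, rfl⟩
    obtain ⟨S, hS⟩ := TensorProduct.exists_finset z
    let s : Finset B := S.image Prod.snd
    have hfg : (Algebra.adjoin A (s : Set B)).toSubmodule.FG :=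
      fg_adjoin_of_finite s.finite_toSet (fun x _ => Algebra.IsIntegral.isIntegral x)
    obtain ⟨N, e, he⟩ := Submodule.fg_iff_exists_fin_generating_family.1 hfg
    have hmem : ∀ x : B, x ∈ Submodule.span A (Set.range e) ↔ x ∈ Algebra.adjoin A (s : Set B) := by
      intro x; rw [he]; exact Iff.rfl
    have hemem : ∀ l, e l ∈ Algebra.adjoin A (s : Set B) := fun l =>
      (hmem _).1 (Submodule.subset_span ⟨l, rfl⟩)
    have hmul : ∀ l m, e l * e m ∈ Submodule.span A (Set.range e) := fun l m =>
      (hmem _).2 (mul_mem (hemem l) (hemem m))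
    have hone : (1 : B) ∈ Submodule.span A (Set.range e) := (hmem _).2 (one_mem _)
    have hz : Groth.Agent.Lib.PolLawFin23.Comb e z := by
      rw [hS]
      refine Groth.Agent.Lib.PolLawFin23.comb_sum _ _ fun i hi => ?_
      refine Groth.Agent.Lib.PolLawFin23.comb_tmul _ ((hmem _).2 (Algebra.subset_adjoin ?_))
      exact Finset.mem_coe.2 (Finset.mem_image_of_mem _ hi)
    exact Groth.Agent.Lib.PolLawFin23.isIntegral_of_mem_span_coeffFinset γ hmul hone
      (Groth.Agent.Lib.PolLawFin23.dagger' γ hz l)
  constructor
  intro c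
  have hc : c ∈ Submodule.span A (Groth.Agent.Lib.PolLawSpan23.coeffSet γ) := by
    rw [Groth.Agent.Lib.PolLawSpan23.span_coeffSet_eq_top γ hγ]; trivial
  have hle : Submodule.span A (Groth.Agent.Lib.PolLawSpan23.coeffSet γ) ≤
      (integralClosure A C).toSubmodule := Submodule.span_le.2 hcoef
  exact hle hc

end Groth.Agent.S13716
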