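import Groth.Statements.S13718
import Groth.Agent.Lib.CayleyHam23
import Groth.Agent.S13696

set_option autoImplicit false
universe u
open scoped TensorProduct
open ZeroCyc

namespace Groth.Agent.S13718

open Groth.Agent.Lib.KerBC23 Groth.Agent.Lib.PolLawGen23

section

variable {A : Type u} [CommRing A] {B : Type u} [CommRing B] [Algebra A B]
  {B' : Type u} [CommRing B'] [Algebra A B'] {d : ℕ}

theorem comap_ker_le (F : PolLaw.MulLaw A B A d) (φ : B' →ₐ[A] B) :
    (PolLaw.ker F.law).comap φ ≤ PolLaw.ker (F.precomp φ).law := by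
  intro b' hb' S _ _ x w
  have h1 := hb' S (φ.toLinearMap.lTensor S x) (φ.toLinearMap.lTensor S w)
  show F.law.toFun' S (φ.toLinearMap.lTensor S (x + w * ((1 : S) ⊗ₜ[A] b'))) =
    F.law.toFun' S (φ.toLinearMap.lTensor S x)
  rw [PolLaw.lTensor_algHom_apply, map_add, map_mul, Algebra.TensorProduct.map_tmul, AlgHom.id_apply,
    ← PolLaw.lTensor_algHom_apply, ← PolLaw.lTensor_algHom_apply]
  exact h1

theorem ker_le_radical (F : PolLaw.MulLaw A B A d) (φ : B' →ₐ[A] B) :
    PolLaw.ker (F.precomp φ).law ≤ ((PolLaw.ker F.law).comap φ).radical := by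
  intro b' hb'
  refine ⟨d, ?_⟩
  have h1 := Groth.Agent.S13696.chi_of_mem_ker (F.precomp φ) b' hb'
  have h2 : F.law.toFun' (Polynomial A) ((1 : Polynomial A) ⊗ₜ[A] φ b' - Polynomial.X ⊗ₜ[A] (1 : B)) =
      ((-Polynomial.X) ^ d : Polynomial A) ⊗ₜ[A] (1 : A) := by
    rw [← h1]
    show _ = F.law.toFun' (Polynomial A) (φ.toLinearMap.lTensor _ _)
    rw [map_sub, LinearMap.lTensor_tmul, LinearMap.lTensor_tmul, AlgHom.toLinearMap_apply,
      AlgHom.toLinearMap_apply, map_one]
  have h3 := Groth.Agent.Lib.CayleyHam23.cayley_hamilton F (φ b') _ h2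
  rw [map_pow, map_neg, Polynomial.aeval_X] at h3
  rw [Ideal.mem_comap, map_pow]
  have h4 : φ b' ^ d = (-1) ^ d * (-φ b') ^ d := by
    rw [← mul_pow, neg_one_mul, neg_neg]
  rw [h4]
  exact Ideal.mul_mem_left _ _ h3

end

/-- Let φ : B' → B be a map of commutative algebras over the commutative ring A and F : B → A a
multiplicative polynomial law homogeneous of degree d, with push-forward the law F ∘ φ : B' → A.
Then the radical of the kernel of F ∘ φ equals the radical of the inverse image under φ of the
kernel of F: the support of the pushed-forward family of zero-cycles on Spec B' is the image of the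
support of the family on Spec B. (The published statement is for affine morphisms X → Y → S of
algebraic spaces; this row is the case of an affine base.) -/
theorem result {A : Type u} [CommRing A] {B : Type u} [CommRing B] [Algebra A B]
    {B' : Type u} [CommRing B'] [Algebra A B'] {d : ℕ} (F : PolLaw.MulLaw A B A d) (φ : B' →ₐ[A] B) :
    (PolLaw.ker (F.precomp φ).law).radical = ((PolLaw.ker F.law).comap φ).radical := by
  apply le_antisymm
  · rw [Ideal.radical_le_radical_iff]
    exact Groth.Agent.S13718.ker_le_radical F φ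
  · exact Ideal.radical_mono (Groth.Agent.S13718.comap_ker_le F φ)

end Groth.Agent.S13718
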