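import Groth.Statements.S13719
import Groth.Agent.Lib.PolLawGen23
import Mathlib.RingTheory.Spectrum.Prime.Topology

set_option autoImplicit false
universe u
open scoped TensorProduct
open ZeroCyc

namespace Groth.Agent.S13719

section Prod

variable {A : Type u} [CommRing A] {B₁ : Type u} [CommRing B₁] [Algebra A B₁]
  {B₂ : Type u} [CommRing B₂] [Algebra A B₂] (S : Type u) [CommSemiring S] [Algebra A S]

/-- `x₁ ↦ (x₁, 0)` on `S ⊗ B₁` -/
noncomputable abbrev inlT : S ⊗[A] B₁ →ₗ[A] S ⊗[A] (B₁ × B₂) := (LinearMap.inl A B₁ B₂).lTensor S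
/-- `x₂ ↦ (0, x₂)` on `S ⊗ B₂` -/
noncomputable abbrev inrT : S ⊗[A] B₂ →ₗ[A] S ⊗[A] (B₁ × B₂) := (LinearMap.inr A B₁ B₂).lTensor S

/-- the idempotent `1 ⊗ (1, 0)` -/
noncomputable abbrev e1 : S ⊗[A] (B₁ × B₂) := (1 : S) ⊗ₜ[A] ((1, 0) : B₁ × B₂)
/-- the idempotent `1 ⊗ (0, 1)` -/
noncomputable abbrev e2 : S ⊗[A] (B₁ × B₂) := (1 : S) ⊗ₜ[A] ((0, 1) : B₁ × B₂)

theorem e1_add_e2 : (e1 S : S ⊗[A] (B₁ × B₂)) + e2 S = 1 := by
  rw [← TensorProduct.tmul_add]; simp [Algebra.TensorProduct.one_def, Prod.mk_one_one]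

theorem e1_mul_e2 : (e1 S : S ⊗[A] (B₁ × B₂)) * e2 S = 0 := by
  simp [Algebra.TensorProduct.tmul_mul_tmul, Prod.mk_zero_zero]

theorem e2_mul_e2 : (e2 S : S ⊗[A] (B₁ × B₂)) * e2 S = e2 S := by
  simp [Algebra.TensorProduct.tmul_mul_tmul, Prod.mk_zero_zero]

theorem e1_mul_e1 : (e1 S : S ⊗[A] (B₁ × B₂)) * e1 S = e1 S := by
  simp [Algebra.TensorProduct.tmul_mul_tmul, Prod.mk_zero_zero]

theorem inlT_mul (x y : S ⊗[A] B₁) : inlT (B₂ := B₂) S (x * y) = inlT S x * inlT S y := by
  induction x using TensorProduct.induction_on with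
  | zero => simp
  | tmul s b =>
    induction y using TensorProduct.induction_on with
    | zero => simp
    | tmul s' b' => simp [Algebra.TensorProduct.tmul_mul_tmul, Prod.mk_zero_zero]
    | add a b ha hb => simp only [mul_add, map_add, ha, hb]
  | add a b ha hb => simp only [add_mul, map_add, ha, hb]

theorem inrT_mul (x y : S ⊗[A] B₂) : inrT (B₁ := B₁) S (x * y) = inrT S x * inrT S y := by
  induction x using TensorProduct.induction_on with
  | zero => simp
  | tmul s b =>
    induction y using TensorProduct.induction_on with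
    | zero => simp
    | tmul s' b' => simp [Algebra.TensorProduct.tmul_mul_tmul, Prod.mk_zero_zero]
    | add a b ha hb => simp only [mul_add, map_add, ha, hb]
  | add a b ha hb => simp only [add_mul, map_add, ha, hb]

theorem inlT_one : inlT (B₂ := B₂) S (1 : S ⊗[A] B₁) = e1 S := by
  simp [Algebra.TensorProduct.one_def]

theorem inrT_one : inrT (B₁ := B₁) S (1 : S ⊗[A] B₂) = e2 S := by
  simp [Algebra.TensorProduct.one_def]

theorem inlT_mul_e2 (x : S ⊗[A] B₁) : inlT (B₂ := B₂) S x * e2 S = 0 := by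
  induction x using TensorProduct.induction_on with
  | zero => simp
  | tmul s b => simp [Algebra.TensorProduct.tmul_mul_tmul, Prod.mk_zero_zero]
  | add a b ha hb => simp only [add_mul, map_add, ha, hb, add_zero]

theorem inrT_mul_e1 (x : S ⊗[A] B₂) : inrT (B₁ := B₁) S x * e1 S = 0 := by
  induction x using TensorProduct.induction_on with
  | zero => simp
  | tmul s b => simp [Algebra.TensorProduct.tmul_mul_tmul, Prod.mk_zero_zero]
  | add a b ha hb => simp only [add_mul, map_add, ha, hb, add_zero]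

theorem inlT_mul_e1 (x : S ⊗[A] B₁) : inlT (B₂ := B₂) S x * e1 S = inlT S x := by
  induction x using TensorProduct.induction_on with
  | zero => simp
  | tmul s b => simp [Algebra.TensorProduct.tmul_mul_tmul, Prod.mk_zero_zero]
  | add a b ha hb => simp only [add_mul, map_add, ha, hb]

theorem inrT_mul_e2 (x : S ⊗[A] B₂) : inrT (B₁ := B₁) S x * e2 S = inrT S x := by
  induction x using TensorProduct.induction_on with
  | zero => simp
  | tmul s b => simp [Algebra.TensorProduct.tmul_mul_tmul, Prod.mk_zero_zero]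
  | add a b ha hb => simp only [add_mul, map_add, ha, hb]

theorem inlT_mul_inrT (x : S ⊗[A] B₁) (y : S ⊗[A] B₂) : inlT (B₂ := B₂) S x * inrT S y = 0 := by
  rw [← inlT_mul_e1, mul_assoc, mul_comm (e1 S), inrT_mul_e1, mul_zero]

theorem inlT_smul (s : S) (x : S ⊗[A] B₁) : inlT (B₂ := B₂) S (s • x) = s • inlT S x := by
  induction x using TensorProduct.induction_on with
  | zero => simp
  | tmul s' b => simp [TensorProduct.smul_tmul']
  | add a b ha hb => simp only [smul_add, map_add, ha, hb]

theorem inrT_smul (s : S) (x : S ⊗[A] B₂) : inrT (B₁ := B₁) S (s • x) = s • inrT S x := by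
  induction x using TensorProduct.induction_on with
  | zero => simp
  | tmul s' b => simp [TensorProduct.smul_tmul']
  | add a b ha hb => simp only [smul_add, map_add, ha, hb]

theorem decomp (x : S ⊗[A] (B₁ × B₂)) :
    x = inlT S ((LinearMap.fst A B₁ B₂).lTensor S x) + inrT S ((LinearMap.snd A B₁ B₂).lTensor S x) := by
  rw [← LinearMap.comp_apply, ← LinearMap.comp_apply, ← LinearMap.lTensor_comp,
    ← LinearMap.lTensor_comp, ← LinearMap.add_apply, ← LinearMap.lTensor_add]
  have : LinearMap.inl A B₁ B₂ ∘ₗ LinearMap.fst A B₁ B₂ + LinearMap.inr A B₁ B₂ ∘ₗ LinearMap.snd A B₁ B₂ =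
      LinearMap.id := by
    ext <;> simp
  rw [this, LinearMap.lTensor_id, LinearMap.id_apply]

end Prod


section Main

variable {A : Type u} [CommRing A] {B₁ : Type u} [CommRing B₁] [Algebra A B₁]
  {B₂ : Type u} [CommRing B₂] [Algebra A B₂] {d : ℕ} (F : PolLaw.MulLaw A (B₁ × B₂) A d)

/-- `s ⊗ (1,0) + 1 ⊗ (0,1)` -/
noncomputable def E1 (S : Type u) [CommSemiring S] [Algebra A S] (s : S) : S ⊗[A] (B₁ × B₂) :=
  s ⊗ₜ[A] ((1, 0) : B₁ × B₂) + e2 S

/-- `1 ⊗ (1,0) + s ⊗ (0,1)` -/
noncomputable def E2 (S : Type u) [CommSemiring S] [Algebra A S] (s : S) : S ⊗[A] (B₁ × B₂) :=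
  e1 S + s ⊗ₜ[A] ((0, 1) : B₁ × B₂)

theorem E1_mul (S : Type u) [CommSemiring S] [Algebra A S] (s s' : S) :
    (E1 S s : S ⊗[A] (B₁ × B₂)) * E1 S s' = E1 S (s * s') := by
  simp only [E1, mul_add, add_mul, Algebra.TensorProduct.tmul_mul_tmul]
  simp [Prod.mk_zero_zero]

theorem E2_mul (S : Type u) [CommSemiring S] [Algebra A S] (s s' : S) :
    (E2 S s : S ⊗[A] (B₁ × B₂)) * E2 S s' = E2 S (s * s') := by
  simp only [E2, mul_add, add_mul, Algebra.TensorProduct.tmul_mul_tmul]
  simp [Prod.mk_zero_zero]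

theorem E1_one (S : Type u) [CommSemiring S] [Algebra A S] : (E1 S 1 : S ⊗[A] (B₁ × B₂)) = 1 :=
  e1_add_e2 S

theorem E2_one (S : Type u) [CommSemiring S] [Algebra A S] : (E2 S 1 : S ⊗[A] (B₁ × B₂)) = 1 :=
  e1_add_e2 S

theorem E1_mul_E2 (S : Type u) [CommSemiring S] [Algebra A S] (s : S) :
    (E1 S s : S ⊗[A] (B₁ × B₂)) * E2 S s = s • 1 := by
  simp only [E1, E2, mul_add, add_mul, Algebra.TensorProduct.tmul_mul_tmul]
  simp only [mul_one, one_mul, Prod.mk_mul_mk, mul_zero, zero_mul, Prod.mk_zero_zero,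
    TensorProduct.tmul_zero, add_zero, zero_add]
  rw [← TensorProduct.tmul_add]
  simp [Algebra.TensorProduct.one_def, TensorProduct.smul_tmul', Prod.mk_one_one]

theorem rTensor_E1 {S S' : Type u} [CommSemiring S] [Algebra A S] [CommSemiring S'] [Algebra A S']
    (ψ : S →ₐ[A] S') (s : S) :
    ψ.toLinearMap.rTensor (B₁ × B₂) (E1 S s) = E1 S' (ψ s) := by
  simp [E1]

theorem rTensor_E2 {S S' : Type u} [CommSemiring S] [Algebra A S] [CommSemiring S'] [Algebra A S']
    (ψ : S →ₐ[A] S') (s : S) :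
    ψ.toLinearMap.rTensor (B₁ × B₂) (E2 S s) = E2 S' (ψ s) := by
  simp [E2]

end Main


section Val

open Polynomial

variable {A : Type u} [CommRing A] {B : Type u} [CommRing B] [Algebra A B]

theorem eq_rid_tmul (S : Type u) [CommSemiring S] [Algebra A S] (u : S ⊗[A] A) :
    u = (TensorProduct.rid A S u) ⊗ₜ[A] (1 : A) := by
  induction u using TensorProduct.induction_on with
  | zero => simp
  | tmul s a => simp [TensorProduct.smul_tmul]
  | add x y hx hy =>
    rw [map_add, TensorProduct.add_tmul, ← hx, ← hy]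

theorem idem_of_mul (p : A[X])
    (h : aeval (C (X : A[X]) * (X : A[X][X])) p = aeval (C (X : A[X]) : A[X][X]) p * aeval (X : A[X][X]) p)
    (i j : ℕ) : p.coeff i * p.coeff j = if i = j then p.coeff j else 0 := by
  have h1 : aeval (C (X : A[X]) : A[X][X]) p = C p := by
    rw [← Polynomial.algebraMap_eq, Polynomial.aeval_algebraMap_apply]
    simp
  have h2 : aeval (X : A[X][X]) p = p.map (algebraMap A A[X]) := aeval_X_left_eq_map p
  have h3 : (aeval (C (X : A[X]) * (X : A[X][X])) p).coeff j = C (p.coeff j) * X ^ j := by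
    rw [aeval_eq_sum_range, finsetSum_coeff]
    simp only [mul_pow, ← C_pow, coeff_smul, coeff_C_mul, coeff_X_pow]
    rw [Finset.sum_eq_single j]
    · simp [Algebra.smul_def]
    · intro b _ hb
      simp [Ne.symm hb]
    · intro hj
      have : p.coeff j = 0 := by
        apply coeff_eq_zero_of_natDegree_lt
        simp only [Finset.mem_range, not_lt] at hj
        omega
      simp [this]
  have h4 := congrArg (fun q : A[X][X] => (q.coeff j).coeff i) h
  simp only [h3, h1, h2, coeff_C_mul, coeff_map, coeff_X_pow] at h4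
  simp only [Polynomial.algebraMap_eq, coeff_mul_C] at h4
  rw [← h4]
  split_ifs <;> simp

theorem idem_eq_zero_or_one [ConnectedSpace (PrimeSpectrum A)] (e : A) (he : IsIdempotentElem e) :
    e = 0 ∨ e = 1 := by
  have hcl : IsClopen ((PrimeSpectrum.basicOpen e : TopologicalSpace.Opens (PrimeSpectrum A)) :
      Set (PrimeSpectrum A)) :=
    PrimeSpectrum.isClopen_iff.2 ⟨e, he, rfl⟩
  rcases isClopen_iff.1 hcl with h | h
  · left
    have h0 : PrimeSpectrum.basicOpen e = PrimeSpectrum.basicOpen (0 : A) := by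
      apply TopologicalSpace.Opens.ext
      rw [h]; simp
    exact PrimeSpectrum.basicOpen_injOn_isIdempotentElem he IsIdempotentElem.zero h0
  · right
    have h1 : PrimeSpectrum.basicOpen e = PrimeSpectrum.basicOpen (1 : A) := by
      apply TopologicalSpace.Opens.ext
      rw [h]; simp
    exact PrimeSpectrum.basicOpen_injOn_isIdempotentElem he IsIdempotentElem.one h1

theorem nontrivial_of_connected [ConnectedSpace (PrimeSpectrum A)] : Nontrivial A := by
  by_contra hA
  rw [not_nontrivial_iff_subsingleton] at hA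
  have : IsEmpty (PrimeSpectrum A) := inferInstance
  exact (not_isEmpty_of_nonempty (PrimeSpectrum A)) this

theorem eq_X_pow_of_idem [ConnectedSpace (PrimeSpectrum A)] (p : A[X])
    (h : ∀ i j : ℕ, p.coeff i * p.coeff j = if i = j then p.coeff j else 0)
    (h1 : p.eval 1 = 1) : ∃ k : ℕ, p = X ^ k := by
  have hnt : Nontrivial A := nontrivial_of_connected
  have hid : ∀ k, p.coeff k = 0 ∨ p.coeff k = 1 := fun k =>
    idem_eq_zero_or_one _ (by have := h k k; simpa [IsIdempotentElem] using this)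
  have hex : ∃ k, p.coeff k ≠ 0 := by
    by_contra hcon
    push Not at hcon
    have : p = 0 := Polynomial.ext (by simpa using hcon)
    rw [this] at h1
    simp at h1
  obtain ⟨k, hk⟩ := hex
  have hk1 : p.coeff k = 1 := (hid k).resolve_left hk
  refine ⟨k, Polynomial.ext fun j => ?_⟩
  rw [coeff_X_pow]
  split_ifs with hjk
  · rw [hjk, hk1]
  · have := h j k
    rw [hk1, mul_one, if_neg hjk] at this
    exact this

/-- A multiplicative family `E` evaluated by a multiplicative law over a connected base is a power. -/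
theorem exists_pow [ConnectedSpace (PrimeSpectrum A)] (G : B →ₚₗ[A] A) (hG : PolLaw.IsMult G)
    (E : ∀ (S : Type u) [CommSemiring S] [Algebra A S], S → S ⊗[A] B)
    (hEnat : ∀ (S S' : Type u) [CommSemiring S] [Algebra A S] [CommSemiring S'] [Algebra A S']
      (ψ : S →ₐ[A] S') (s : S), ψ.toLinearMap.rTensor B (E S s) = E S' (ψ s))
    (hEmul : ∀ (S : Type u) [CommSemiring S] [Algebra A S] (s s' : S), E S s * E S s' = E S (s * s'))
    (hEone : ∀ (S : Type u) [CommSemiring S] [Algebra A S], E S 1 = 1) :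
    ∃ k : ℕ, ∀ (S : Type u) [CommSemiring S] [Algebra A S] (s : S),
      G.toFun' S (E S s) = (s ^ k) ⊗ₜ[A] (1 : A) := by
  let p : A[X] := TensorProduct.rid A A[X] (G.toFun' A[X] (E A[X] X))
  have hp : ∀ (S : Type u) [CommSemiring S] [Algebra A S] (s : S),
      G.toFun' S (E S s) = (aeval s p) ⊗ₜ[A] (1 : A) := by
    intro S _ _ s
    have h1 := hEnat A[X] S (aeval s) X
    rw [aeval_X] at h1
    rw [← h1, ← PolynomialLaw.isCompat_apply', eq_rid_tmul A[X] (G.toFun' A[X] (E A[X] X))]
    simp [p]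
  have hmul : ∀ (S : Type u) [CommRing S] [Algebra A S] (s s' : S),
      aeval (s * s') p = aeval s p * aeval s' p := by
    intro S _ _ s s'
    have h1 := hp S (s * s')
    rw [← hEmul, (hG S).2, hp, hp, Algebra.TensorProduct.tmul_mul_tmul, mul_one] at h1
    have h2 := congrArg (TensorProduct.rid A S) h1
    simpa using h2.symm
  have hone : p.eval 1 = 1 := by
    have h1 := hp A 1
    rw [hEone, (hG A).1, Algebra.TensorProduct.one_def] at h1
    have h2 := congrArg (TensorProduct.rid A A) h1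
    simp only [TensorProduct.rid_tmul, one_smul] at h2
    rw [← Polynomial.coe_aeval_eq_eval]
    exact h2.symm
  obtain ⟨k, hk⟩ := eq_X_pow_of_idem p (idem_of_mul p (hmul A[X][X] (C X) X)) hone
  refine ⟨k, fun S _ _ s => ?_⟩
  rw [hp, hk]
  simp

end Val


section Final

open Polynomial

variable {A : Type u} [CommRing A] {B₁ : Type u} [CommRing B₁] [Algebra A B₁]
  {B₂ : Type u} [CommRing B₂] [Algebra A B₂] {d : ℕ}

theorem tmul_one_mul (S : Type u) [CommSemiring S] [Algebra A S] (s : S) (u : S ⊗[A] A) :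
    (s ⊗ₜ[A] (1 : A)) * u = s • u := by
  induction u using TensorProduct.induction_on with
  | zero => simp
  | tmul s' a => simp [Algebra.TensorProduct.tmul_mul_tmul, TensorProduct.smul_tmul']
  | add x y hx hy => simp only [mul_add, smul_add, hx, hy]

theorem X_pow_tmul_inj [Nontrivial A] {k l : ℕ}
    (h : ((X : A[X]) ^ k) ⊗ₜ[A] (1 : A) = ((X : A[X]) ^ l) ⊗ₜ[A] (1 : A)) : k = l := by
  have h2 := congrArg (TensorProduct.rid A A[X]) h
  simp only [TensorProduct.rid_tmul, one_smul] at h2
  have := congrArg Polynomial.natDegree h2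
  simpa using this

/-- the first factor law `x₁ ↦ F (x₁, 1)` -/
noncomputable def law1 (F : (B₁ × B₂) →ₚₗ[A] A) : B₁ →ₚₗ[A] A where
  toFun' S _ _ x := F.toFun' S (inlT S x + e2 S)
  isCompat' {S} _ _ {S'} _ _ ψ := by
    funext x
    simp only [Function.comp_apply]
    rw [F.isCompat_apply', map_add, ← Groth.Agent.Lib.PolLawGen23.lTensor_rTensor_comm]
    simp

/-- the second factor law `x₂ ↦ F (1, x₂)` -/
noncomputable def law2 (F : (B₁ × B₂) →ₚₗ[A] A) : B₂ →ₚₗ[A] A where
  toFun' S _ _ x := F.toFun' S (e1 S + inrT S x)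
  isCompat' {S} _ _ {S'} _ _ ψ := by
    funext x
    simp only [Function.comp_apply]
    rw [F.isCompat_apply', map_add, ← Groth.Agent.Lib.PolLawGen23.lTensor_rTensor_comm]
    simp

theorem E1_mul_inl (S : Type u) [CommSemiring S] [Algebra A S] (s : S) (x : S ⊗[A] B₁) :
    (E1 S s : S ⊗[A] (B₁ × B₂)) * (inlT S x + e2 S) = inlT S (s • x) + e2 S := by
  have hE : (E1 S s : S ⊗[A] (B₁ × B₂)) = s • e1 S + e2 S := by
    simp [E1, TensorProduct.smul_tmul']
  rw [hE, add_mul, mul_add, mul_add, smul_mul_assoc, smul_mul_assoc,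
    mul_comm (e1 S : S ⊗[A] (B₁ × B₂)) (inlT S x),
    inlT_mul_e1, e1_mul_e2, smul_zero, add_zero, mul_comm (e2 S : S ⊗[A] (B₁ × B₂)) (inlT S x),
    inlT_mul_e2, zero_add, e2_mul_e2, inlT_smul]

theorem E2_mul_inr (S : Type u) [CommSemiring S] [Algebra A S] (s : S) (x : S ⊗[A] B₂) :
    (E2 S s : S ⊗[A] (B₁ × B₂)) * (e1 S + inrT S x) = e1 S + inrT S (s • x) := by
  have hE : (E2 S s : S ⊗[A] (B₁ × B₂)) = e1 S + s • e2 S := by
    simp [E2, TensorProduct.smul_tmul']
  rw [hE, add_mul, mul_add, mul_add, smul_mul_assoc, smul_mul_assoc,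
    mul_comm (e2 S : S ⊗[A] (B₁ × B₂)) (inrT S x),
    inrT_mul_e2, mul_comm (e2 S : S ⊗[A] (B₁ × B₂)) (e1 S), e1_mul_e2, smul_zero, zero_add,
    mul_comm (e1 S : S ⊗[A] (B₁ × B₂)) (inrT S x), inrT_mul_e1, add_zero, e1_mul_e1, inrT_smul]

end Final

/-- Let A be a commutative ring whose prime spectrum is connected, B₁, B₂ commutative A-algebras and F :
B₁ × B₂ → A a multiplicative polynomial law homogeneous of degree d (a family of zero-cycles of
degree d on the disjoint union Spec B₁ ⊔ Spec B₂ over Spec A). Then there are natural numbers d₁ +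
d₂ = d, the multiplicities of the family on the two pieces, and multiplicative laws F₁ : B₁ → A, F₂
: B₂ → A homogeneous of degrees d₁, d₂ with F(x) = F₁(x₁) F₂(x₂) for every test algebra S and x ∈ S
⊗ (B₁ × B₂) with components x₁, x₂; and the degrees d₁, d₂ of any such factorisation are uniquely
determined. (The published statement is for finitely many algebraic spaces affine over a connected
algebraic space S; this row is the case of two pieces over an affine base.) -/
theorem result {A : Type u} [CommRing A] [ConnectedSpace (PrimeSpectrum A)]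
    {B₁ : Type u} [CommRing B₁] [Algebra A B₁] {B₂ : Type u} [CommRing B₂] [Algebra A B₂]
    {d : ℕ} (F : PolLaw.MulLaw A (B₁ × B₂) A d) :
    ∃ d₁ d₂ : ℕ, d₁ + d₂ = d ∧
      (∃ (F₁ : PolLaw.MulLaw A B₁ A d₁) (F₂ : PolLaw.MulLaw A B₂ A d₂),
        ∀ (S : Type u) [CommSemiring S] [Algebra A S] (x : S ⊗[A] (B₁ × B₂)),
          F.law.toFun' S x = F₁.law.toFun' S (LinearMap.lTensor S (LinearMap.fst A B₁ B₂) x) *
            F₂.law.toFun' S (LinearMap.lTensor S (LinearMap.snd A B₁ B₂) x)) ∧
      ∀ (e₁ e₂ : ℕ) (G₁ : PolLaw.MulLaw A B₁ A e₁) (G₂ : PolLaw.MulLaw A B₂ A e₂),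
        (∀ (S : Type u) [CommSemiring S] [Algebra A S] (x : S ⊗[A] (B₁ × B₂)),
          F.law.toFun' S x = G₁.law.toFun' S (LinearMap.lTensor S (LinearMap.fst A B₁ B₂) x) *
            G₂.law.toFun' S (LinearMap.lTensor S (LinearMap.snd A B₁ B₂) x)) → e₁ = d₁ ∧ e₂ = d₂ := by
  have hnt : Nontrivial A := Groth.Agent.S13719.nontrivial_of_connected
  obtain ⟨d₁, h₁⟩ := Groth.Agent.S13719.exists_pow F.law F.mult
    (fun S _ _ s => Groth.Agent.S13719.E1 S s)
    (fun S S' _ _ _ _ ψ s => Groth.Agent.S13719.rTensor_E1 ψ s)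
    (fun S _ _ s s' => Groth.Agent.S13719.E1_mul S s s')
    (fun S _ _ => Groth.Agent.S13719.E1_one S)
  obtain ⟨d₂, h₂⟩ := Groth.Agent.S13719.exists_pow F.law F.mult
    (fun S _ _ s => Groth.Agent.S13719.E2 S s)
    (fun S S' _ _ _ _ ψ s => Groth.Agent.S13719.rTensor_E2 ψ s)
    (fun S _ _ s s' => Groth.Agent.S13719.E2_mul S s s')
    (fun S _ _ => Groth.Agent.S13719.E2_one S)
  have hsum : d₁ + d₂ = d := by
    have h := (F.mult (Polynomial A)).2 (Groth.Agent.S13719.E1 (Polynomial A) Polynomial.X) (Groth.Agent.S13719.E2 (Polynomial A) Polynomial.X)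
    rw [Groth.Agent.S13719.E1_mul_E2, F.homog, (F.mult (Polynomial A)).1, h₁, h₂,
      Algebra.TensorProduct.tmul_mul_tmul, mul_one, ← pow_add, Algebra.TensorProduct.one_def,
      TensorProduct.smul_tmul', smul_eq_mul, mul_one] at h
    exact (Groth.Agent.S13719.X_pow_tmul_inj h).symm
  refine ⟨d₁, d₂, hsum, ?_, ?_⟩
  · let F₁ : PolLaw.MulLaw A B₁ A d₁ :=
      { law := Groth.Agent.S13719.law1 F.law
        homog := by
          intro S _ _ s x
          show F.law.toFun' S (Groth.Agent.S13719.inlT S (s • x) + Groth.Agent.S13719.e2 S) =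
            s ^ d₁ • F.law.toFun' S (Groth.Agent.S13719.inlT S x + Groth.Agent.S13719.e2 S)
          rw [← Groth.Agent.S13719.E1_mul_inl, (F.mult S).2, h₁, Groth.Agent.S13719.tmul_one_mul]
        mult := by
          intro S _ _
          refine ⟨?_, fun x y => ?_⟩
          · show F.law.toFun' S (Groth.Agent.S13719.inlT S 1 + Groth.Agent.S13719.e2 S) = 1
            rw [Groth.Agent.S13719.inlT_one, Groth.Agent.S13719.e1_add_e2, (F.mult S).1]
          · show F.law.toFun' S (Groth.Agent.S13719.inlT S (x * y) + Groth.Agent.S13719.e2 S) =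
              F.law.toFun' S (Groth.Agent.S13719.inlT S x + Groth.Agent.S13719.e2 S) *
              F.law.toFun' S (Groth.Agent.S13719.inlT S y + Groth.Agent.S13719.e2 S)
            rw [← (F.mult S).2]
            congr 1
            rw [add_mul, mul_add, mul_add, ← Groth.Agent.S13719.inlT_mul,
              Groth.Agent.S13719.inlT_mul_e2, mul_comm (Groth.Agent.S13719.e2 S : S ⊗[A] (B₁ × B₂)) (Groth.Agent.S13719.inlT S y),
              Groth.Agent.S13719.inlT_mul_e2, Groth.Agent.S13719.e2_mul_e2]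
            simp }
    let F₂ : PolLaw.MulLaw A B₂ A d₂ :=
      { law := Groth.Agent.S13719.law2 F.law
        homog := by
          intro S _ _ s x
          show F.law.toFun' S (Groth.Agent.S13719.e1 S + Groth.Agent.S13719.inrT S (s • x)) =
            s ^ d₂ • F.law.toFun' S (Groth.Agent.S13719.e1 S + Groth.Agent.S13719.inrT S x)
          rw [← Groth.Agent.S13719.E2_mul_inr, (F.mult S).2, h₂, Groth.Agent.S13719.tmul_one_mul]
        mult := by
          intro S _ _
          refine ⟨?_, fun x y => ?_⟩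
          · show F.law.toFun' S (Groth.Agent.S13719.e1 S + Groth.Agent.S13719.inrT S 1) = 1
            rw [Groth.Agent.S13719.inrT_one, Groth.Agent.S13719.e1_add_e2, (F.mult S).1]
          · show F.law.toFun' S (Groth.Agent.S13719.e1 S + Groth.Agent.S13719.inrT S (x * y)) =
              F.law.toFun' S (Groth.Agent.S13719.e1 S + Groth.Agent.S13719.inrT S x) *
              F.law.toFun' S (Groth.Agent.S13719.e1 S + Groth.Agent.S13719.inrT S y)
            rw [← (F.mult S).2]
            congr 1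
            rw [add_mul, mul_add, mul_add, ← Groth.Agent.S13719.inrT_mul,
              Groth.Agent.S13719.inrT_mul_e1, mul_comm (Groth.Agent.S13719.e1 S : S ⊗[A] (B₁ × B₂)) (Groth.Agent.S13719.inrT S y),
              Groth.Agent.S13719.inrT_mul_e1, Groth.Agent.S13719.e1_mul_e1]
            simp }
    refine ⟨F₁, F₂, fun S _ _ x => ?_⟩
    show F.law.toFun' S x =
      F.law.toFun' S (Groth.Agent.S13719.inlT S _ + Groth.Agent.S13719.e2 S) *
      F.law.toFun' S (Groth.Agent.S13719.e1 S + Groth.Agent.S13719.inrT S _)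
    rw [← (F.mult S).2]
    congr 1
    conv_lhs => rw [Groth.Agent.S13719.decomp S x]
    rw [add_mul, mul_add, mul_add, Groth.Agent.S13719.inlT_mul_e1, Groth.Agent.S13719.inlT_mul_inrT,
      mul_comm (Groth.Agent.S13719.e2 S : S ⊗[A] (B₁ × B₂)) (Groth.Agent.S13719.e1 S), Groth.Agent.S13719.e1_mul_e2,
      mul_comm (Groth.Agent.S13719.e2 S : S ⊗[A] (B₁ × B₂)) (Groth.Agent.S13719.inrT S _), Groth.Agent.S13719.inrT_mul_e2]
    simp
  · intro e₁ e₂ G₁ G₂ hG
    constructor
    · have h := hG (Polynomial A) (Groth.Agent.S13719.E1 (Polynomial A) Polynomial.X)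
      rw [h₁] at h
      have hf : LinearMap.lTensor (Polynomial A) (LinearMap.fst A B₁ B₂) (Groth.Agent.S13719.E1 (Polynomial A) Polynomial.X) =
          (Polynomial.X : Polynomial A) • (1 : (Polynomial A) ⊗[A] B₁) := by
        simp [Groth.Agent.S13719.E1, Algebra.TensorProduct.one_def, TensorProduct.smul_tmul']
      have hs : LinearMap.lTensor (Polynomial A) (LinearMap.snd A B₁ B₂) (Groth.Agent.S13719.E1 (Polynomial A) Polynomial.X) =
          (1 : (Polynomial A) ⊗[A] B₂) := by
        simp [Groth.Agent.S13719.E1, Algebra.TensorProduct.one_def]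
      rw [hf, hs, G₁.homog, (G₁.mult _).1, (G₂.mult _).1, mul_one, Algebra.TensorProduct.one_def,
        TensorProduct.smul_tmul', smul_eq_mul, mul_one] at h
      exact (Groth.Agent.S13719.X_pow_tmul_inj h).symm
    · have h := hG (Polynomial A) (Groth.Agent.S13719.E2 (Polynomial A) Polynomial.X)
      rw [h₂] at h
      have hf : LinearMap.lTensor (Polynomial A) (LinearMap.fst A B₁ B₂) (Groth.Agent.S13719.E2 (Polynomial A) Polynomial.X) =
          (1 : (Polynomial A) ⊗[A] B₁) := by
        simp [Groth.Agent.S13719.E2, Algebra.TensorProduct.one_def]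
      have hs : LinearMap.lTensor (Polynomial A) (LinearMap.snd A B₁ B₂) (Groth.Agent.S13719.E2 (Polynomial A) Polynomial.X) =
          (Polynomial.X : Polynomial A) • (1 : (Polynomial A) ⊗[A] B₂) := by
        simp [Groth.Agent.S13719.E2, Algebra.TensorProduct.one_def, TensorProduct.smul_tmul']
      rw [hf, hs, G₂.homog, (G₁.mult _).1, (G₂.mult _).1, one_mul, Algebra.TensorProduct.one_def,
        TensorProduct.smul_tmul', smul_eq_mul, mul_one] at h
      exact (Groth.Agent.S13719.X_pow_tmul_inj h).symm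

end Groth.Agent.S13719
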