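import Groth.Statements.S13720

set_option autoImplicit false
universe u
open scoped TensorProduct
open ZeroCyc

namespace Groth.Agent.S13720

/-- the value of the precomposed law -/
theorem precomp_apply {A : Type u} [CommRing A] {B B' C : Type u} [CommRing B] [Algebra A B]
    [CommRing B'] [Algebra A B'] [CommRing C] [Algebra A C] {d : ℕ} (F : PolLaw.MulLaw A B C d)
    (f : B' →ₐ[A] B) (S : Type u) [CommSemiring S] [Algebra A S] (x : S ⊗[A] B') :
    (F.precomp f).law.toFun' S x =
      F.law.toFun' S (Algebra.TensorProduct.map (AlgHom.id S S) f x) := by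
  show F.law.toFun' S (f.toLinearMap.lTensor S x) = _
  rw [PolLaw.lTensor_algHom_apply]

/-- every element of `S ⊗ B` comes from a finite stage -/
theorem exists_lift {A : Type u} [CommRing A] {B : Type u} [CommRing B] [Algebra A B]
    {ι : Type u} [Preorder ι] [IsDirected ι (fun i j => i ≤ j)] [Nonempty ι]
    (Bi : ι → Type u) [∀ i, CommRing (Bi i)] [∀ i, Algebra A (Bi i)]
    (t : ∀ i j : ι, i ≤ j → (Bi i →ₐ[A] Bi j)) (φ : ∀ i : ι, Bi i →ₐ[A] B)
    (hcomp : ∀ (i j : ι) (h : i ≤ j), (φ j).comp (t i j h) = φ i)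
    (hsurj : ∀ b : B, ∃ (i : ι) (x : Bi i), φ i x = b)
    (S : Type u) [CommSemiring S] [Algebra A S] (z : S ⊗[A] B) (i₀ : ι) :
    ∃ (j : ι) (_ : i₀ ≤ j) (y : S ⊗[A] Bi j),
      Algebra.TensorProduct.map (AlgHom.id S S) (φ j) y = z := by
  have hmove : ∀ (i j : ι) (h : i ≤ j) (y : S ⊗[A] Bi i),
      Algebra.TensorProduct.map (AlgHom.id S S) (φ j)
        (Algebra.TensorProduct.map (AlgHom.id S S) (t i j h) y) =
      Algebra.TensorProduct.map (AlgHom.id S S) (φ i) y := by
    intro i j h y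
    rw [← AlgHom.comp_apply, ← Algebra.TensorProduct.map_comp, hcomp]
    rfl
  induction z using TensorProduct.induction_on with
  | zero => exact ⟨i₀, le_rfl, 0, map_zero _⟩
  | tmul s b =>
    obtain ⟨i, x, rfl⟩ := hsurj b
    obtain ⟨j, hi, hj⟩ := exists_ge_ge i i₀
    refine ⟨j, hj, s ⊗ₜ[A] t i j hi x, ?_⟩
    rw [Algebra.TensorProduct.map_tmul, ← hcomp i j hi]
    rfl
  | add z₁ z₂ h₁ h₂ =>
    obtain ⟨j₁, hj₁, y₁, rfl⟩ := h₁
    obtain ⟨j₂, hj₂, y₂, rfl⟩ := h₂
    obtain ⟨j, h1, h2⟩ := exists_ge_ge j₁ j₂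
    refine ⟨j, hj₁.trans h1, Algebra.TensorProduct.map (AlgHom.id S S) (t j₁ j h1) y₁ +
      Algebra.TensorProduct.map (AlgHom.id S S) (t j₂ j h2) y₂, ?_⟩
    rw [map_add, hmove, hmove]

/-- Let B be the filtered direct limit of a directed system (B_i, t_ij : B_i → B_j) of commutative
algebras over the commutative ring A, with structure maps φ_i : B_i → B (jointly surjective, and an
element of B_i vanishing in B already vanishes in some B_j), and let F : B → C be a multiplicative
polynomial law homogeneous of degree d, with restrictions F_i = F ∘ φ_i. Then an element b of B lies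
in the kernel of F if and only if it is the image of some x ∈ B_i whose images in B_j lie in the
kernel of F_j for every j ≥ i; that is, the kernel of F is the direct limit of the kernels of the
F_i. -/
theorem result {A : Type u} [CommRing A] {B : Type u} [CommRing B] [Algebra A B]
    {C : Type u} [CommRing C] [Algebra A C] {ι : Type u} [Preorder ι] [IsDirected ι (fun i j => i ≤ j)] [Nonempty ι]
    (Bi : ι → Type u) [∀ i, CommRing (Bi i)] [∀ i, Algebra A (Bi i)]
    (t : ∀ i j : ι, i ≤ j → (Bi i →ₐ[A] Bi j)) (φ : ∀ i : ι, Bi i →ₐ[A] B)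
    (hcomp : ∀ (i j : ι) (h : i ≤ j), (φ j).comp (t i j h) = φ i)
    (hsurj : ∀ b : B, ∃ (i : ι) (x : Bi i), φ i x = b)
    (hzero : ∀ (i : ι) (x : Bi i), φ i x = 0 → ∃ (j : ι) (h : i ≤ j), t i j h x = 0)
    {d : ℕ} (F : PolLaw.MulLaw A B C d) (b : B) :
    b ∈ PolLaw.ker F.law ↔ ∃ (i : ι) (x : Bi i), φ i x = b ∧
      ∀ (j : ι) (h : i ≤ j), t i j h x ∈ PolLaw.ker (F.precomp (φ j)).law := by
  have hφt : ∀ (i j : ι) (h : i ≤ j) (x : Bi i), φ j (t i j h x) = φ i x := by
    intro i j h x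
    rw [← hcomp i j h]; rfl
  constructor
  · intro hb
    obtain ⟨i, x, hx⟩ := hsurj b
    refine ⟨i, x, hx, ?_⟩
    intro j h S _ _ x' w
    rw [precomp_apply, precomp_apply, map_add, map_mul, Algebra.TensorProduct.map_tmul, hφt, hx]
    exact hb S _ _
  · rintro ⟨i, x, hx, hker⟩ S _ _ x' w
    obtain ⟨j₁, hj₁, y₁, rfl⟩ := exists_lift Bi t φ hcomp hsurj S x' i
    obtain ⟨j₂, hj₂, y₂, rfl⟩ := exists_lift Bi t φ hcomp hsurj S w j₁
    have hmove : ∀ (i j : ι) (h : i ≤ j) (y : S ⊗[A] Bi i),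
        Algebra.TensorProduct.map (AlgHom.id S S) (φ j)
          (Algebra.TensorProduct.map (AlgHom.id S S) (t i j h) y) =
        Algebra.TensorProduct.map (AlgHom.id S S) (φ i) y := by
      intro i j h y
      rw [← AlgHom.comp_apply, ← Algebra.TensorProduct.map_comp, hcomp]
      rfl
    have h := hker j₂ (hj₁.trans hj₂) S
      (Algebra.TensorProduct.map (AlgHom.id S S) (t j₁ j₂ hj₂) y₁) y₂
    rw [precomp_apply, precomp_apply, map_add, map_mul, Algebra.TensorProduct.map_tmul, hφt, hx,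
      hmove] at h
    exact h

end Groth.Agent.S13720
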