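import Groth.Statements.S13721
import Groth.Agent.Lib.KerBCFin23

set_option autoImplicit false
universe u
open scoped TensorProduct
open ZeroCyc

namespace Groth.Agent.S13721

open Groth.Agent.Lib.PolLaw23 Groth.Agent.Lib.KerBC23 Groth.Agent.Lib.PolLawExt23 Groth.Agent.Lib.KerBCFin23

section

variable {A : Type u} [CommRing A] {B : Type u} [CommRing B] [Algebra A B] (F : B →ₚₗ[A] A)
  {A' : Type u} [CommRing A'] [Algebra A A'] {ι : Type u} [Preorder ι] [IsDirected ι (fun i j => i ≤ j)] [Nonempty ι]
  (Ai : ι → Type u) [∀ i, CommRing (Ai i)] [∀ i, Algebra A (Ai i)]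
  (t : ∀ i j : ι, i ≤ j → (Ai i →ₐ[A] Ai j)) (φ : ∀ i : ι, Ai i →ₐ[A] A')

include t in
/-- Every element of `A' ⊗ B` comes from a finite stage. -/
theorem exists_lift (hcomp : ∀ (i j : ι) (h : i ≤ j), (φ j).comp (t i j h) = φ i)
    (hsurj : ∀ a : A', ∃ (i : ι) (x : Ai i), φ i x = a) (b' : A' ⊗[A] B) :
    ∃ (i : ι) (bi : Ai i ⊗[A] B), bc (φ i) bi = b' := by
  induction b' using TensorProduct.induction_on with
  | zero =>
    obtain ⟨i⟩ := ‹Nonempty ι›
    exact ⟨i, 0, map_zero _⟩
  | tmul a' b =>
    obtain ⟨i, x, hx⟩ := hsurj a'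
    exact ⟨i, x ⊗ₜ[A] b, by rw [bc_tmul, hx]⟩
  | add x y hx hy =>
    obtain ⟨i, xi, hxi⟩ := hx
    obtain ⟨j, yj, hyj⟩ := hy
    obtain ⟨k, hik, hjk⟩ := directed_of (fun i j : ι => i ≤ j) i j
    refine ⟨k, bc (t i k hik) xi + bc (t j k hjk) yj, ?_⟩
    rw [map_add, bc_bc, bc_bc, hcomp, hcomp, hxi, hyj]

theorem main [Module.Finite A B]
    (hcomp : ∀ (i j : ι) (h : i ≤ j), (φ j).comp (t i j h) = φ i)
    (hsurj : ∀ a : A', ∃ (i : ι) (x : Ai i), φ i x = a)
    (hzero : ∀ (i : ι) (x : Ai i), φ i x = 0 → ∃ (j : ι) (h : i ≤ j), t i j h x = 0)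
    (htrans : ∀ (i j k : ι) (hij : i ≤ j) (hjk : j ≤ k), (t j k hjk).comp (t i j hij) = t i k (hij.trans hjk)) :
    PolLaw.kerBC F A' =
      ⨆ i : ι, (PolLaw.kerBC F (Ai i)).map (Algebra.TensorProduct.map (φ i) (AlgHom.id A B)) := by
  classical
  refine le_antisymm ?_ (iSup_le fun i => Ideal.map_le_iff_le_comap.2 fun x hx => bc_mem_kerBC F (φ i) hx)
  intro b' hb'
  obtain ⟨N, e, he⟩ := Module.Finite.exists_fin (R := A) (M := B)
  obtain ⟨i, bi, hbi⟩ := exists_lift Ai t φ hcomp hsurj b'
  set Db := TensorProduct.rid A (GR N (Ai i)) (gdef F e (Ai i) bi) with hDb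
  have h1 : mapGR (N := N) (φ i) Db = 0 := by
    rw [hDb, ← rid_rTensor, mapGR_gdef, hbi, (mem_kerBC_iff_gdef F e he A' _).1 hb', map_zero]
  have h2 : ∀ s, ∃ (j : ι) (h : i ≤ j), t i j h (Db.coeff s) = 0 := by
    intro s
    apply hzero
    rw [← coeff_mapGR, h1, MvPolynomial.coeff_zero]
  choose j hj hjz using h2
  obtain ⟨k, hk⟩ := Finset.exists_le (insert i (Db.support.image j))
  have hik : i ≤ k := hk i (Finset.mem_insert_self _ _)
  have h3 : mapGR (N := N) (t i k hik) Db = 0 := by
    ext s
    rw [coeff_mapGR, MvPolynomial.coeff_zero]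
    by_cases hs : s ∈ Db.support
    · have hjk : j s ≤ k := hk (j s) (Finset.mem_insert_of_mem (Finset.mem_image_of_mem j hs))
      rw [← htrans i (j s) k (hj s) hjk, AlgHom.comp_apply, hjz, map_zero]
    · rw [MvPolynomial.notMem_support_iff.1 hs, map_zero]
  have h4 : bc (t i k hik) bi ∈ PolLaw.kerBC F (Ai k) := by
    rw [mem_kerBC_iff_gdef F e he, ← mapGR_gdef]
    apply (TensorProduct.rid A (GR N (Ai k))).injective
    rw [rid_rTensor, ← hDb, h3, map_zero]
  have h5 : b' = Algebra.TensorProduct.map (φ k) (AlgHom.id A B) (bc (t i k hik) bi) := by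
    show b' = bc (φ k) (bc (t i k hik) bi)
    rw [bc_bc, hcomp, hbi]
  rw [h5]
  exact Ideal.mem_iSup_of_mem k (Ideal.mem_map_of_mem _ h4)

end

/-- Let F : B → A be a multiplicative polynomial law homogeneous of degree d over the commutative ring
A, on a commutative A-algebra B which is finite as an A-module, and let A' be the filtered direct
limit of a directed system (A'_i, t_ij) of commutative A-algebras (t_ii the identity, t_jk ∘ t_ij =
t_ik) with structure maps φ_i : A'_i → A' (compatible with the t_ij, jointly surjective, and an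
element of A'_i vanishing in A' already vanishes in some A'_j). Then the kernel of the base change
of F to A', an ideal of A' ⊗_A B, is the supremum over i of the extensions along φ_i ⊗ B of the
kernels of the base changes of F to the A'_i: the kernel of the base-changed law is the direct limit
of the kernels. (The published statement has no finiteness hypothesis on B and is false without one:
for a suitable algebra B that is not finitely generated and a suitable directed system of quotients
of A, an element of A' ⊗_A B lies in the kernel over the limit although it comes from the kernel at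
no finite stage, because the conditions cutting out the kernel at an element are infinitely many and
die one at a time along the system; the published proof's reduction to finite B does not go through.
This row assumes B finite over A, the case that proof establishes.) -/
theorem result {A : Type u} [CommRing A] {B : Type u} [CommRing B] [Algebra A B]
    [Module.Finite A B] {A' : Type u} [CommRing A'] [Algebra A A'] {ι : Type u} [Preorder ι] [IsDirected ι (fun i j => i ≤ j)] [Nonempty ι]
    (Ai : ι → Type u) [∀ i, CommRing (Ai i)] [∀ i, Algebra A (Ai i)]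
    (t : ∀ i j : ι, i ≤ j → (Ai i →ₐ[A] Ai j)) (φ : ∀ i : ι, Ai i →ₐ[A] A')
    (hcomp : ∀ (i j : ι) (h : i ≤ j), (φ j).comp (t i j h) = φ i)
    (hsurj : ∀ a : A', ∃ (i : ι) (x : Ai i), φ i x = a)
    (hzero : ∀ (i : ι) (x : Ai i), φ i x = 0 → ∃ (j : ι) (h : i ≤ j), t i j h x = 0)
    (hid : ∀ (i : ι) (h : i ≤ i), t i i h = AlgHom.id A (Ai i))
    (htrans : ∀ (i j k : ι) (hij : i ≤ j) (hjk : j ≤ k), (t j k hjk).comp (t i j hij) = t i k (hij.trans hjk))
    {d : ℕ} (F : PolLaw.MulLaw A B A d) :
    PolLaw.kerBC F.law A' =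
      ⨆ i : ι, (PolLaw.kerBC F.law (Ai i)).map (Algebra.TensorProduct.map (φ i) (AlgHom.id A B)) := by
  exact Groth.Agent.S13721.main F.law Ai t φ hcomp hsurj hzero htrans

end Groth.Agent.S13721
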