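import Groth.Statements.S13722
import Groth.Agent.Lib.PolyTensorPoly23
import Mathlib.RingTheory.TensorProduct.MvPolynomial
import Mathlib.Algebra.MvPolynomial.Nilpotent
import Mathlib.RingTheory.Ideal.Quotient.Nilpotent

set_option autoImplicit false
universe u
open scoped TensorProduct
open ZeroCyc

namespace Groth.Agent.S13722

open Groth.Agent.Lib.PolLaw23 Groth.Agent.Lib.PolLawExt23 Groth.Agent.Lib.PolLawGen23
  Groth.Agent.Lib.PolLawSpan23 Groth.Agent.Lib.PolyCoeffT23 Groth.Agent.Lib.PolyTensorPoly23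

section

variable {A : Type u} [CommRing A] {B : Type u} [CommRing B] [Algebra A B]
    {C : Type u} [CommRing C] [Algebra A C] {d : ℕ} (F : PolLaw.MulLaw A B C d)

theorem key_poly (b : B) (hb : b ^ 2 ∈ PolLaw.ker F.law)
    (P : Type u) [CommRing P] [Algebra A P] [IsReduced (P ⊗[A] C)] (x w : P ⊗[A] B) :
    F.law.toFun' P (x + w * ((1 : P) ⊗ₜ[A] b)) = F.law.toFun' P x := by
  have hb' : ∀ (S : Type u) [CommSemiring S] [Algebra A S] (x w : S ⊗[A] B),
      F.law.toFun' S (x + w * ((1 : S) ⊗ₜ[A] (b ^ 2))) = F.law.toFun' S x := hb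
  set Q := Polynomial P with hQ
  set X₀ : Q ⊗[A] B := (Cm (A := A) P).toLinearMap.rTensor B x with hX₀
  set W₀ : Q ⊗[A] B := (Cm (A := A) P).toLinearMap.rTensor B w with hW₀
  set T : Q ⊗[A] B := (Polynomial.X : Q) ⊗ₜ[A] (1 : B) with hT
  set u : Q ⊗[A] B := (1 : Q) ⊗ₜ[A] b with hu
  set Z : Q ⊗[A] B := X₀ + T * W₀ * u with hZ
  set G := F.law.toFun' Q Z with hG
  -- the substitution T ↦ -T
  have hσZ : (sg (A := A) P).toLinearMap.rTensor B Z = X₀ - T * W₀ * u := by
    rw [hZ, PolLaw.rTensor_algHom_apply, map_add, map_mul, map_mul, ← PolLaw.rTensor_algHom_apply,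
      ← PolLaw.rTensor_algHom_apply, ← PolLaw.rTensor_algHom_apply, ← PolLaw.rTensor_algHom_apply,
      hX₀, hW₀, ← rTensor_comp_apply', ← rTensor_comp_apply', sg_comp_Cm, hT, hu, LinearMap.rTensor_tmul,
      LinearMap.rTensor_tmul, AlgHom.toLinearMap_apply, AlgHom.toLinearMap_apply, sg_X, map_one,
      TensorProduct.neg_tmul]
    ring
  have hprod : Z * (X₀ - T * W₀ * u) = X₀ ^ 2 + (-(T ^ 2 * W₀ ^ 2)) * ((1 : Q) ⊗ₜ[A] (b ^ 2)) := by
    have hu2 : ((1 : Q) ⊗ₜ[A] (b ^ 2) : Q ⊗[A] B) = u ^ 2 := by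
      rw [hu, Algebra.TensorProduct.tmul_pow, one_pow]
    rw [hu2, hZ]
    ring
  have h1 : G * (sg (A := A) P).toLinearMap.rTensor C G =
      ((Cm (A := A) P).toLinearMap.rTensor C (F.law.toFun' P x)) ^ 2 := by
    rw [hG, PolynomialLaw.isCompat_apply', hσZ, ← (F.mult Q).2, hprod, hb' Q, pow_two, (F.mult Q).2,
      ← pow_two, hX₀, ← PolynomialLaw.isCompat_apply']
  -- transport to `(P ⊗ C)[T]`
  set Gh := Psi (A := A) P C G with hGh
  have hcoeff0 : Gh.coeff 0 = F.law.toFun' P x := by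
    rw [hGh, coeff_Psi, cT_zero_eq, hG, PolynomialLaw.isCompat_apply']
    congr 1
    rw [hZ, PolLaw.rTensor_algHom_apply, map_add, map_mul, map_mul, ← PolLaw.rTensor_algHom_apply,
      ← PolLaw.rTensor_algHom_apply, ← PolLaw.rTensor_algHom_apply, ← PolLaw.rTensor_algHom_apply,
      hX₀, ← rTensor_comp_apply', ev0_comp_Cm, hT, LinearMap.rTensor_tmul, AlgHom.toLinearMap_apply, ev0_X,
      TensorProduct.zero_tmul, zero_mul, zero_mul, add_zero]
    simp
  have h2 : Gh * Gh.comp (-Polynomial.X) = Polynomial.C (Gh.coeff 0 ^ 2) := by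
    have := congrArg (Psi (A := A) P C) h1
    rw [map_mul, Psi_sg, map_pow, Psi_Cm, ← Polynomial.C_pow] at this
    rw [hcoeff0]
    exact this
  have h3 : Gh = Polynomial.C (Gh.coeff 0) := by
    ext k
    rw [Polynomial.coeff_C]
    split_ifs with hk
    · rw [hk]
    · exact coeff_eq_zero_of_mul_comp_neg Gh h2 k (Nat.pos_of_ne_zero hk)
  have h4 : Gh.eval 1 = F.law.toFun' P (x + w * ((1 : P) ⊗ₜ[A] b)) := by
    rw [hGh, eval_one_Psi, hG, PolynomialLaw.isCompat_apply']
    congr 1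
    rw [hZ, PolLaw.rTensor_algHom_apply, map_add, map_mul, map_mul, ← PolLaw.rTensor_algHom_apply,
      ← PolLaw.rTensor_algHom_apply, ← PolLaw.rTensor_algHom_apply, ← PolLaw.rTensor_algHom_apply,
      hX₀, hW₀, ← rTensor_comp_apply', ← rTensor_comp_apply', ev1_comp_Cm, hT, hu, LinearMap.rTensor_tmul,
      LinearMap.rTensor_tmul, AlgHom.toLinearMap_apply, AlgHom.toLinearMap_apply, ev1_X, map_one]
    simp only [AlgHom.toLinearMap_id, LinearMap.rTensor_id, LinearMap.id_apply]
    rw [← Algebra.TensorProduct.one_def, one_mul]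
  rw [← h4, h3, Polynomial.eval_C, hcoeff0]


theorem isReduced_mvPolynomial_tensor [IsReduced C] (n : ℕ) :
    IsReduced (MvPolynomial (Fin n) A ⊗[A] C) := by
  let e1 : MvPolynomial (Fin n) A ⊗[A] C ≃ₐ[A] C ⊗[A] MvPolynomial (Fin n) A :=
    Algebra.TensorProduct.comm A _ _
  let e2 : C ⊗[A] MvPolynomial (Fin n) A ≃ₐ[C] MvPolynomial (Fin n) C :=
    MvPolynomial.algebraTensorAlgEquiv A C
  exact isReduced_of_injective ((e2 : C ⊗[A] MvPolynomial (Fin n) A →+* MvPolynomial (Fin n) C).comp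
    (e1 : MvPolynomial (Fin n) A ⊗[A] C →+* C ⊗[A] MvPolynomial (Fin n) A))
    (e2.injective.comp e1.injective)

/-- Two tensors can be lifted simultaneously to a polynomial ring. -/
theorem exists_lift_pair {S : Type u} [CommRing S] [Algebra A S] (x w : S ⊗[A] B) :
    ∃ (n : ℕ) (ψ : MvPolynomial (Fin n) A →ₐ[A] S) (x' w' : MvPolynomial (Fin n) A ⊗[A] B),
      ψ.toLinearMap.rTensor B x' = x ∧ ψ.toLinearMap.rTensor B w' = w := by
  set t : S ⊗[A] (B × B) := (LinearMap.inl A B B).lTensor S x + (LinearMap.inr A B B).lTensor S w with ht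
  obtain ⟨n, ψ, p, hp⟩ := PolynomialLaw.exists_lift t
  refine ⟨n, ψ, (LinearMap.fst A B B).lTensor _ p, (LinearMap.snd A B B).lTensor _ p, ?_, ?_⟩
  · rw [← LinearMap.comp_apply, LinearMap.rTensor_comp_lTensor, ← LinearMap.lTensor_comp_rTensor,
      LinearMap.comp_apply, hp]
    simp only [ht, map_add, ← LinearMap.comp_apply, ← LinearMap.lTensor_comp]
    simp
  · rw [← LinearMap.comp_apply, LinearMap.rTensor_comp_lTensor, ← LinearMap.lTensor_comp_rTensor,
      LinearMap.comp_apply, hp]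
    simp only [ht, map_add, ← LinearMap.comp_apply, ← LinearMap.lTensor_comp]
    simp

/-- The defining condition of `ker` on one test algebra. -/
def KerAt (b : B) (S : Type u) [CommSemiring S] [Algebra A S] : Prop :=
  ∀ x w : S ⊗[A] B, F.law.toFun' S (x + w * ((1 : S) ⊗ₜ[A] b)) = F.law.toFun' S x

theorem kerAt_ring [IsReduced C] (b : B) (hb : b ^ 2 ∈ PolLaw.ker F.law)
    (S : Type u) [CommRing S] [Algebra A S] : KerAt F b S := by
  intro x w
  obtain ⟨n, ψ, x', w', rfl, rfl⟩ := exists_lift_pair (A := A) x w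
  have := isReduced_mvPolynomial_tensor (A := A) (C := C) n
  have h := key_poly F b hb (MvPolynomial (Fin n) A) x' w'
  have h2 : ψ.toLinearMap.rTensor B x' + ψ.toLinearMap.rTensor B w' * ((1 : S) ⊗ₜ[A] b) =
      ψ.toLinearMap.rTensor B (x' + w' * ((1 : MvPolynomial (Fin n) A) ⊗ₜ[A] b)) := by
    rw [PolLaw.rTensor_algHom_apply, PolLaw.rTensor_algHom_apply, PolLaw.rTensor_algHom_apply, map_add,
      map_mul, Algebra.TensorProduct.map_tmul, map_one, AlgHom.id_apply]
  rw [h2, ← PolynomialLaw.isCompat_apply', ← PolynomialLaw.isCompat_apply', h]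

theorem kerAt [IsReduced C] (b : B) (hb : b ^ 2 ∈ PolLaw.ker F.law)
    (S : Type u) [CommSemiring S] [Algebra A S] : KerAt F b S :=
  forall_semiring_of_forall_ring
    (fun S instS instA => @KerAt A _ B _ _ C _ _ d F b S instS instA)
    (fun S _ _ => kerAt_ring F b hb S) S

end

/-- Let B and C be commutative algebras over the commutative ring A and F : B → C a multiplicative
polynomial law homogeneous of degree d. If C is reduced, then the quotient of B by the kernel of F
is reduced. In particular the image of a family of zero-cycles parametrised by a reduced base is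
reduced. -/
theorem result {A : Type u} [CommRing A] {B : Type u} [CommRing B] [Algebra A B]
    {C : Type u} [CommRing C] [Algebra A C] [IsReduced C] {d : ℕ} (F : PolLaw.MulLaw A B C d) :
    IsReduced (PolLaw.image F.law) := by
  show IsReduced (B ⧸ PolLaw.ker F.law)
  rw [← Ideal.isRadical_iff_quotient_reduced, Ideal.isRadical_iff_pow_one_lt 2 (by norm_num)]
  intro b hb S _ _ x w
  exact Groth.Agent.S13722.kerAt F b hb S x w

end Groth.Agent.S13722
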