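import Groth.Statements.S13723
import Groth.Agent.Lib.ZeroCycField23
import Groth.Agent.S13697
import Mathlib.RingTheory.Spectrum.Prime.RingHom

set_option autoImplicit false
universe u
open scoped TensorProduct
open ZeroCyc

namespace Groth.Agent.S13723

open Groth.Agent.Lib.ZeroCycField23 Groth.Agent.Lib.BCLaw23

variable {A : Type u} [CommRing A] {B : Type u} [CommRing B] [Algebra A B] {d : ℕ}

theorem card_le_fibre (F : PolLaw.MulLaw A B A d) (K : Type u) [Field K] [Algebra A K]
    (s : Finset (PrimeSpectrum (K ⊗[A] PolLaw.image F.law))) : s.card ≤ d := by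
  classical
  set ρ : K ⊗[A] B →ₐ[K] K ⊗[A] PolLaw.image F.law :=
    Algebra.TensorProduct.map (AlgHom.id K K) (Ideal.Quotient.mkₐ A (PolLaw.ker F.law)) with hρ
  have hsurj : Function.Surjective ρ := by
    rw [hρ]
    exact Algebra.TensorProduct.map_surjective _ _ Function.surjective_id
      (Ideal.Quotient.mkₐ_surjective A _)
  have hinj : Function.Injective (PrimeSpectrum.comap (ρ : K ⊗[A] B →+* K ⊗[A] PolLaw.image F.law)) :=
    PrimeSpectrum.comap_injective_of_surjective _ hsurj
  rw [← Finset.card_image_of_injective s hinj]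
  apply card_le (bcMul F K)
  intro Q hQ
  obtain ⟨P, -, rfl⟩ := Finset.mem_image.1 hQ
  rw [ker_bcMul]
  have h1 : (PolLaw.ker F.law).map (Algebra.TensorProduct.includeRight : B →ₐ[A] K ⊗[A] B) ≤
      (PrimeSpectrum.comap (ρ : K ⊗[A] B →+* K ⊗[A] PolLaw.image F.law) P).asIdeal := by
    rw [Ideal.map_le_iff_le_comap]
    intro b hb
    rw [Ideal.mem_comap]
    show ρ ((1 : K) ⊗ₜ[A] b) ∈ P.asIdeal
    rw [hρ, Algebra.TensorProduct.map_tmul, Ideal.Quotient.mkₐ_eq_mk,
      Ideal.Quotient.eq_zero_iff_mem.2 hb, TensorProduct.tmul_zero]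
    exact Ideal.zero_mem _
  have h2 := (Ideal.IsPrime.radical_le_iff
    (PrimeSpectrum.comap (ρ : K ⊗[A] B →+* K ⊗[A] PolLaw.image F.law) P).isPrime).2 h1
  rw [← Groth.Agent.S13697.main F K] at h2
  exact le_trans Ideal.le_radical h2

/-- Let F : B → A be a multiplicative polynomial law homogeneous of degree d over the commutative ring A
and let Z = Spec(B/ker F) be the image of the family of zero-cycles it defines. For every field K
and ring map A → K, the fibre Spec(K ⊗_A (B/ker F)) has finitely many points, at most d of them. In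
particular every geometric fibre of Z → Spec A has at most d points and Z → Spec A has universally
topologically finite fibres. -/
theorem result {A : Type u} [CommRing A] {B : Type u} [CommRing B] [Algebra A B]
    {d : ℕ} (F : PolLaw.MulLaw A B A d) (K : Type u) [Field K] [Algebra A K] :
    Finite (PrimeSpectrum (K ⊗[A] PolLaw.image F.law)) ∧
      Nat.card (PrimeSpectrum (K ⊗[A] PolLaw.image F.law)) ≤ d := by
  exact Groth.Agent.Lib.ZeroCycField23.finite_of_forall_card_le d (Groth.Agent.S13723.card_le_fibre F K)

end Groth.Agent.S13723
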