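import Groth.Statements.S13724
import Groth.Agent.S13723
import Mathlib.RingTheory.Ideal.GoingUp
import Mathlib.RingTheory.Spectrum.Maximal.Basic

set_option autoImplicit false
universe u
open scoped TensorProduct
open ZeroCyc

namespace Groth.Agent.S13724

open Groth.Agent.Lib.ZeroCycField23

variable {A : Type u} [CommRing A] {B : Type u} [CommRing B] [Algebra A B] {d : ℕ}

/-- The fibre of the maximal spectrum over a maximal ideal of the base is finite. -/
theorem finite_fibre (F : PolLaw.MulLaw A B A d) (m : Ideal A) [hm : m.IsMaximal] :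
    {M : MaximalSpectrum (PolLaw.image F.law) |
      M.asIdeal.comap (algebraMap A (PolLaw.image F.law)) = m}.Finite := by
  let _ : Field (A ⧸ m) := Ideal.Quotient.field m
  have hfin : Finite (PrimeSpectrum ((A ⧸ m) ⊗[A] PolLaw.image F.law)) :=
    (Groth.Agent.S13723.result F (A ⧸ m)).1
  -- the map to the fibre
  have key : ∀ M : {M : MaximalSpectrum (PolLaw.image F.law) //
      M.asIdeal.comap (algebraMap A (PolLaw.image F.law)) = m},
      ∃ P : PrimeSpectrum ((A ⧸ m) ⊗[A] PolLaw.image F.law),
        P.asIdeal.comap (Algebra.TensorProduct.includeRight :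
          PolLaw.image F.law →ₐ[A] (A ⧸ m) ⊗[A] PolLaw.image F.law) = M.1.asIdeal := by
    rintro ⟨M, hM⟩
    have := M.isMaximal
    have h0 : ∀ a ∈ m, (Algebra.ofId A (PolLaw.image F.law ⧸ M.asIdeal)) a = 0 := by
      intro a ha
      rw [← hM, Ideal.mem_comap] at ha
      show algebraMap A (PolLaw.image F.law ⧸ M.asIdeal) a = 0
      rw [IsScalarTower.algebraMap_apply A (PolLaw.image F.law) (PolLaw.image F.law ⧸ M.asIdeal)]
      exact Ideal.Quotient.eq_zero_iff_mem.2 ha
    set θ : (A ⧸ m) ⊗[A] PolLaw.image F.law →ₐ[A] PolLaw.image F.law ⧸ M.asIdeal :=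
      Algebra.TensorProduct.lift (Ideal.Quotient.liftₐ m (Algebra.ofId A _) h0)
        (Ideal.Quotient.mkₐ A M.asIdeal) (fun _ _ => Commute.all _ _) with hθ
    refine ⟨⟨RingHom.ker (θ : (A ⧸ m) ⊗[A] PolLaw.image F.law →+* PolLaw.image F.law ⧸ M.asIdeal),
      RingHom.ker_isPrime _⟩, ?_⟩
    ext x
    rw [Ideal.mem_comap, RingHom.mem_ker]
    show θ ((1 : A ⧸ m) ⊗ₜ[A] x) = 0 ↔ _
    rw [hθ, Algebra.TensorProduct.lift_tmul, map_one, one_mul, Ideal.Quotient.mkₐ_eq_mk,
      Ideal.Quotient.eq_zero_iff_mem]
  choose g hg using key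
  have hinj : Function.Injective g := by
    intro M M' h
    apply Subtype.ext
    apply MaximalSpectrum.ext
    rw [← hg M, ← hg M', h]
  exact Set.finite_coe_iff.1 (Finite.of_injective g hinj)

theorem main [Finite (MaximalSpectrum A)] (F : PolLaw.MulLaw A B A d) :
    Finite (MaximalSpectrum (PolLaw.image F.law)) := by
  have hint : Algebra.IsIntegral A (PolLaw.image F.law) := isIntegral_quotient F _ le_rfl
  rw [← Set.finite_univ_iff]
  have hcover : (Set.univ : Set (MaximalSpectrum (PolLaw.image F.law))) =
      ⋃ m : MaximalSpectrum A, {M : MaximalSpectrum (PolLaw.image F.law) |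
        M.asIdeal.comap (algebraMap A (PolLaw.image F.law)) = m.asIdeal} := by
    ext M
    simp only [Set.mem_univ, Set.mem_iUnion, Set.mem_ofPred_eq, true_iff]
    have := M.isMaximal
    exact ⟨⟨M.asIdeal.comap (algebraMap A (PolLaw.image F.law)),
      Ideal.isMaximal_comap_of_isIntegral_of_isMaximal (R := A) M.asIdeal⟩, rfl⟩
  rw [hcover]
  exact Set.finite_iUnion fun m => by
    have := m.isMaximal
    exact finite_fibre F m.asIdeal

/-- Let A be a commutative ring with finitely many maximal ideals, B a commutative A-algebra and F : B →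
A a multiplicative polynomial law homogeneous of degree d. Then B/ker F, the coordinate ring of the
image of the family of zero-cycles defined by F, has finitely many maximal ideals. -/
theorem result {A : Type u} [CommRing A] [Finite (MaximalSpectrum A)] {B : Type u} [CommRing B] [Algebra A B]
    {d : ℕ} (F : PolLaw.MulLaw A B A d) :
    Finite (MaximalSpectrum (PolLaw.image F.law)) := by
  exact Groth.Agent.S13724.main F

end Groth.Agent.S13724
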