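import Groth.Statements.S13725
import Mathlib.Algebra.CharP.Lemmas
import Mathlib.RingTheory.AdjoinRoot

set_option autoImplicit false
universe u
open scoped TensorProduct
open ZeroCyc

namespace Groth.Agent.S13725

/-- Let k be a field of characteristic p > 0 and let F : k → k be the law x ↦ x^p, multiplicative and
homogeneous of degree p over k. The kernel of F is the zero ideal, but after the flat base change k
→ A' = k[X]/(X^p) the kernel of the base-changed law on A' ⊗_k k is not zero (the class of X lies in
it). So in characteristic p, forming the kernel of a multiplicative law is not compatible with flat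
base change. -/
theorem result {k : Type u} [Field k] (p : ℕ) [Fact p.Prime] [CharP k p] :
    PolLaw.ker (PolLaw.MulLaw.pow k k p).law = ⊥ ∧
      PolLaw.kerBC (PolLaw.MulLaw.pow k k p).law (AdjoinRoot ((Polynomial.X : Polynomial k) ^ p)) ≠ ⊥ := by
  have hp : p.Prime := Fact.out
  constructor
  · rw [eq_bot_iff]
    intro b hb
    have h := hb k (0 : k ⊗[k] k) 1
    change (0 + 1 * ((1 : k) ⊗ₜ[k] b)) ^ p = (0 : k ⊗[k] k) ^ p at h
    rw [zero_add, one_mul, zero_pow hp.ne_zero] at h
    have h2 := congrArg (Algebra.TensorProduct.lid k k) h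
    rw [map_pow, Algebra.TensorProduct.lid_tmul, map_zero, one_smul] at h2
    have : b = 0 := pow_eq_zero_iff hp.ne_zero |>.mp h2
    simpa using this
  · set A' := AdjoinRoot ((Polynomial.X : Polynomial k) ^ p) with hA'
    set r : A' := AdjoinRoot.root ((Polynomial.X : Polynomial k) ^ p) with hr
    have hrp : r ^ p = 0 := by
      have : r ^ p = AdjoinRoot.mk ((Polynomial.X : Polynomial k) ^ p) (Polynomial.X ^ p) := by
        rw [map_pow, AdjoinRoot.mk_X]
      rw [this, AdjoinRoot.mk_self]
    have hr0 : r ≠ 0 := by
      intro h0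
      have : AdjoinRoot.mk ((Polynomial.X : Polynomial k) ^ p) Polynomial.X = 0 := by
        rw [AdjoinRoot.mk_X]; exact h0
      rw [AdjoinRoot.mk_eq_zero] at this
      have hdeg := Polynomial.natDegree_le_of_dvd this Polynomial.X_ne_zero
      rw [Polynomial.natDegree_X_pow, Polynomial.natDegree_X] at hdeg
      have := hp.two_le
      omega
    have hmem : (r ⊗ₜ[k] (1 : k) : A' ⊗[k] k) ∈
        PolLaw.kerBC (PolLaw.MulLaw.pow k k p).law A' := by
      intro R _ _ _ _ x w
      change (x + w * Algebra.TensorProduct.map (IsScalarTower.toAlgHom k A' R) (AlgHom.id k k)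
        (r ⊗ₜ[k] (1 : k))) ^ p = x ^ p
      rw [Algebra.TensorProduct.map_tmul]
      set y : R ⊗[k] k := (IsScalarTower.toAlgHom k A' R) r ⊗ₜ[k] (AlgHom.id k k) 1 with hy
      have hyp : y ^ p = 0 := by
        rw [hy, Algebra.TensorProduct.tmul_pow, ← map_pow, hrp, map_zero, TensorProduct.zero_tmul]
      have hpT : ((p : ℕ) : R ⊗[k] k) = 0 := by
        have : ((p : ℕ) : R ⊗[k] k) = algebraMap k (R ⊗[k] k) ((p : ℕ) : k) := by
          rw [map_natCast]
        rw [this, CharP.cast_eq_zero k p, map_zero]
      rw [add_pow_prime_eq hp, hpT, mul_pow, hyp]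
      simp
    intro hbot
    rw [hbot, Ideal.mem_bot] at hmem
    have h2 := congrArg (Algebra.TensorProduct.rid k k A') hmem
    rw [Algebra.TensorProduct.rid_tmul, map_zero, one_smul] at h2
    exact hr0 h2

end Groth.Agent.S13725
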