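import Groth.Statements.S13726
import Mathlib.Algebra.CharP.Lemmas
import Mathlib.RingTheory.AdjoinRoot
import Mathlib.RingTheory.MvPolynomial.Ideal

set_option autoImplicit false
universe u
open scoped TensorProduct
open ZeroCyc

namespace Groth.Agent.S13726

theorem mem_ker_pow_iff {Q : Type u} [CommRing Q] (p : ℕ) (hp : p.Prime) (hpQ : ((p : ℕ) : Q) = 0)
    (b : Q) : b ∈ PolLaw.ker (PolLaw.MulLaw.pow Q Q p).law ↔ b ^ p = 0 := by
  constructor
  · intro hb
    have h := hb Q (0 : Q ⊗[Q] Q) 1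
    change (0 + 1 * ((1 : Q) ⊗ₜ[Q] b)) ^ p = (0 : Q ⊗[Q] Q) ^ p at h
    rw [zero_add, one_mul, zero_pow hp.ne_zero] at h
    have h2 := congrArg (Algebra.TensorProduct.lid Q Q) h
    rw [map_pow, Algebra.TensorProduct.lid_tmul, map_zero, one_smul] at h2
    exact h2
  · intro hb S _ _ x w
    change (x + w * ((1 : S) ⊗ₜ[Q] b)) ^ p = x ^ p
    set y : S ⊗[Q] Q := (1 : S) ⊗ₜ[Q] b with hy
    have hyp : y ^ p = 0 := by
      rw [hy, Algebra.TensorProduct.tmul_pow, hb, TensorProduct.tmul_zero]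
    have hpT : ((p : ℕ) : S ⊗[Q] Q) = 0 := by
      have : ((p : ℕ) : S ⊗[Q] Q) = algebraMap Q (S ⊗[Q] Q) ((p : ℕ) : Q) := by
        rw [map_natCast]
      rw [this, hpQ, map_zero]
    rw [add_pow_prime_eq hp, hpT, mul_pow, hyp]
    simp

/-- Let k be a field of characteristic p > 0 and A = k[t_i : i ∈ ℕ]/(t_i^p : i ∈ ℕ). The law x ↦ x^p
from A to A is multiplicative and homogeneous of degree p over A; its kernel is the ideal generated
by the classes of the variables t_i, and this ideal is not finitely generated. Hence the image of a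
family of zero-cycles need not be of finite presentation over the base even when X → S is. -/
theorem result {k : Type u} [Field k] (p : ℕ) [Fact p.Prime] [CharP k p] :
    PolLaw.ker (PolLaw.MulLaw.pow
        (MvPolynomial ℕ k ⧸ Ideal.span (Set.range fun i : ℕ => (MvPolynomial.X i : MvPolynomial ℕ k) ^ p))
        (MvPolynomial ℕ k ⧸ Ideal.span (Set.range fun i : ℕ => (MvPolynomial.X i : MvPolynomial ℕ k) ^ p)) p).law =
      (Ideal.span (Set.range fun i : ℕ => (MvPolynomial.X i : MvPolynomial ℕ k))).map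
        (Ideal.Quotient.mk (Ideal.span (Set.range fun i : ℕ => (MvPolynomial.X i : MvPolynomial ℕ k) ^ p))) ∧
    ¬ (PolLaw.ker (PolLaw.MulLaw.pow
        (MvPolynomial ℕ k ⧸ Ideal.span (Set.range fun i : ℕ => (MvPolynomial.X i : MvPolynomial ℕ k) ^ p))
        (MvPolynomial ℕ k ⧸ Ideal.span (Set.range fun i : ℕ => (MvPolynomial.X i : MvPolynomial ℕ k) ^ p)) p).law).FG := by
  have hp : p.Prime := Fact.out
  set J : Ideal (MvPolynomial ℕ k) :=
    Ideal.span (Set.range fun i : ℕ => (MvPolynomial.X i : MvPolynomial ℕ k) ^ p) with hJ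
  set I : Ideal (MvPolynomial ℕ k) :=
    Ideal.span (Set.range fun i : ℕ => (MvPolynomial.X i : MvPolynomial ℕ k)) with hI
  have hpQ : ((p : ℕ) : MvPolynomial ℕ k ⧸ J) = 0 := by
    have : ((p : ℕ) : MvPolynomial ℕ k ⧸ J) = algebraMap k (MvPolynomial ℕ k ⧸ J) ((p : ℕ) : k) := by
      rw [map_natCast]
    rw [this, CharP.cast_eq_zero k p, map_zero]
  -- the constant-coefficient map kills J
  have hJc : ∀ f ∈ J, MvPolynomial.constantCoeff f = 0 := by
    intro f hf
    have : J ≤ RingHom.ker (MvPolynomial.constantCoeff : MvPolynomial ℕ k →+* k) := by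
      rw [hJ, Ideal.span_le]
      rintro _ ⟨i, rfl⟩
      simp [RingHom.mem_ker, hp.ne_zero]
    exact this hf
  have hXp : ∀ i : ℕ, (Ideal.Quotient.mk J (MvPolynomial.X i)) ^ p = 0 := by
    intro i
    rw [← map_pow, Ideal.Quotient.eq_zero_iff_mem]
    exact Ideal.subset_span ⟨i, rfl⟩
  have hker : PolLaw.ker (PolLaw.MulLaw.pow (MvPolynomial ℕ k ⧸ J) (MvPolynomial ℕ k ⧸ J) p).law =
      I.map (Ideal.Quotient.mk J) := by
    apply le_antisymm
    · intro b hb
      rw [mem_ker_pow_iff p hp hpQ] at hb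
      obtain ⟨f, rfl⟩ := Ideal.Quotient.mk_surjective b
      rw [← map_pow, Ideal.Quotient.eq_zero_iff_mem] at hb
      have h0 := hJc _ hb
      rw [map_pow] at h0
      have h0' : MvPolynomial.constantCoeff f = 0 := pow_eq_zero_iff hp.ne_zero |>.mp h0
      apply Ideal.mem_map_of_mem
      have hIeq : I = Ideal.span (MvPolynomial.X '' (Set.univ : Set ℕ)) := by
        rw [hI, Set.image_univ]
      rw [hIeq, MvPolynomial.mem_ideal_span_X_image]
      intro m hm
      by_contra hcon
      push Not at hcon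
      have hm0 : m = 0 := by
        ext i
        simpa using hcon i (Set.mem_univ i)
      rw [hm0, MvPolynomial.mem_support_iff] at hm
      exact hm h0'
    · rw [Ideal.map_le_iff_le_comap, hI, Ideal.span_le]
      rintro _ ⟨i, rfl⟩
      rw [SetLike.mem_coe, Ideal.mem_comap, mem_ker_pow_iff p hp hpQ]
      exact hXp i
  refine ⟨hker, ?_⟩
  rw [hker]
  intro hfg
  rw [hI, Ideal.map_span] at hfg
  obtain ⟨T, hTsub, hTeq⟩ := (Submodule.fg_span_iff_fg_span_finset_subset _).mp hfg
  -- choose indices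
  have hidx : ∀ e ∈ T, ∃ i : ℕ, Ideal.Quotient.mk J (MvPolynomial.X i) = e := by
    intro e he
    obtain ⟨_, ⟨i, rfl⟩, rfl⟩ := hTsub he
    exact ⟨i, rfl⟩
  choose! idx hidx' using hidx
  obtain ⟨N, hN⟩ : ∃ N : ℕ, ∀ e ∈ T, idx e < N := by
    refine ⟨(T.sup idx) + 1, fun e he => ?_⟩
    exact Nat.lt_succ_of_le (Finset.le_sup he)
  set A' := AdjoinRoot ((Polynomial.X : Polynomial k) ^ p) with hA'
  set r : A' := AdjoinRoot.root ((Polynomial.X : Polynomial k) ^ p) with hr
  have hrp : r ^ p = 0 := by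
    have : r ^ p = AdjoinRoot.mk ((Polynomial.X : Polynomial k) ^ p) (Polynomial.X ^ p) := by
      rw [map_pow, AdjoinRoot.mk_X]
    rw [this, AdjoinRoot.mk_self]
  have hr0 : r ≠ 0 := by
    intro h0
    have : AdjoinRoot.mk ((Polynomial.X : Polynomial k) ^ p) Polynomial.X = 0 := by
      rw [AdjoinRoot.mk_X]; exact h0
    rw [AdjoinRoot.mk_eq_zero] at this
    have hdeg := Polynomial.natDegree_le_of_dvd this Polynomial.X_ne_zero
    rw [Polynomial.natDegree_X_pow, Polynomial.natDegree_X] at hdeg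
    have := hp.two_le
    omega
  set ψ : MvPolynomial ℕ k →+* A' :=
    MvPolynomial.eval₂Hom (algebraMap k A') (fun i => if i = N then r else 0) with hψ
  have hψX : ∀ i, ψ (MvPolynomial.X i) = if i = N then r else 0 := by
    intro i
    rw [hψ, MvPolynomial.coe_eval₂Hom, MvPolynomial.eval₂_X]
  have hψJ : ∀ a ∈ J, ψ a = 0 := by
    intro a ha
    have : J ≤ RingHom.ker ψ := by
      rw [hJ, Ideal.span_le]
      rintro _ ⟨i, rfl⟩
      show ψ (MvPolynomial.X i ^ p) = 0
      rw [map_pow, hψX]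
      split_ifs
      · exact hrp
      · exact zero_pow hp.ne_zero
    exact this ha
  set φ : (MvPolynomial ℕ k ⧸ J) →+* A' := Ideal.Quotient.lift J ψ hψJ with hφ
  have hφmk : ∀ f, φ (Ideal.Quotient.mk J f) = ψ f := fun f => Ideal.Quotient.lift_mk J ψ hψJ
  have hmem : Ideal.Quotient.mk J (MvPolynomial.X N) ∈
      Ideal.span ((T : Set (MvPolynomial ℕ k ⧸ J))) := by
    have : Ideal.Quotient.mk J (MvPolynomial.X N) ∈ Ideal.span ((Ideal.Quotient.mk J) ''
        (Set.range fun i : ℕ => (MvPolynomial.X i : MvPolynomial ℕ k))) :=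
      Ideal.subset_span ⟨_, ⟨N, rfl⟩, rfl⟩
    rw [Ideal.span, hTeq] at this
    exact this
  have hle : Ideal.span ((T : Set (MvPolynomial ℕ k ⧸ J))) ≤ RingHom.ker φ := by
    rw [Ideal.span_le]
    intro e he
    have he' : e ∈ T := he
    rw [SetLike.mem_coe, RingHom.mem_ker, ← hidx' e he', hφmk, hψX]
    rw [if_neg (hN e he').ne]
  have := hle hmem
  rw [RingHom.mem_ker, hφmk, hψX, if_pos rfl] at this
  exact hr0 this

end Groth.Agent.S13726
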