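import Groth.Statements.S13727
import Groth.Agent.Lib.IdemMult23
import Mathlib.RingTheory.Spectrum.Prime.Topology
import Mathlib.Topology.Connected.Clopen
import Mathlib.Topology.Separation.Connected

set_option autoImplicit false
universe u
open scoped TensorProduct
open ZeroCyc

namespace Groth.Agent.S13727

open Groth.Agent.Lib.QuotLaw23 Groth.Agent.Lib.IdemMult23

variable {A : Type u} [CommRing A] [ConnectedSpace (PrimeSpectrum A)]
  {B : Type u} [CommRing B] [Algebra A B] {d : ℕ}

theorem clopen_card_le (F : PolLaw.MulLaw A B A d) {n : ℕ}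
    (U : Fin n → Set (PrimeSpectrum (PolLaw.image F.law))) (hcl : ∀ i, IsClopen (U i))
    (hne : ∀ i, (U i).Nonempty) (hdisj : Pairwise (Function.onFun Disjoint U)) : n ≤ d := by
  have hex : ∀ i, ∃ e : PolLaw.image F.law, IsIdempotentElem e ∧
      U i = (PrimeSpectrum.basicOpen e : Set (PrimeSpectrum (PolLaw.image F.law))) :=
    fun i => PrimeSpectrum.isClopen_iff.1 (hcl i)
  choose e he hU using hex
  apply card_le (quotMul F (PolLaw.ker F.law) le_rfl) (ker_quotMul_self F) e he
  · intro i j hij
    have h1 : PrimeSpectrum.basicOpen (e i * e j) = PrimeSpectrum.basicOpen (0 : PolLaw.image F.law) := by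
      apply TopologicalSpace.Opens.ext
      rw [PrimeSpectrum.basicOpen_mul, TopologicalSpace.Opens.coe_inf, ← hU i, ← hU j,
        PrimeSpectrum.basicOpen_zero]
      exact Set.disjoint_iff_inter_eq_empty.1 (hdisj hij)
    exact PrimeSpectrum.basicOpen_injOn_isIdempotentElem ((he i).mul (he j)) IsIdempotentElem.zero h1
  · intro i h0
    obtain ⟨x, hx⟩ := hne i
    rw [hU i, h0, PrimeSpectrum.basicOpen_zero] at hx
    exact hx

theorem main (F : PolLaw.MulLaw A B A d) :
    Finite (ConnectedComponents (PrimeSpectrum (PolLaw.image F.law))) ∧
      Nat.card (ConnectedComponents (PrimeSpectrum (PolLaw.image F.law))) ≤ d := by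
  have hfin : Finite (ConnectedComponents (PrimeSpectrum (PolLaw.image F.law))) := by
    by_contra h
    rw [not_finite_iff_infinite] at h
    obtain ⟨U, h1, h2, h3, -⟩ := ConnectedComponents.exists_fun_isClopen_of_infinite
      (PrimeSpectrum (PolLaw.image F.law)) (d + 1) (by omega)
    have := clopen_card_le F U h1 h2 h3
    omega
  refine ⟨hfin, ?_⟩
  have hdisc : DiscreteTopology (ConnectedComponents (PrimeSpectrum (PolLaw.image F.law))) := inferInstance
  set eqv := Finite.equivFin (ConnectedComponents (PrimeSpectrum (PolLaw.image F.law))) with heqv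
  apply clopen_card_le F (fun i => ConnectedComponents.mk ⁻¹' {eqv.symm i})
  · intro i
    exact (isClopen_discrete _).preimage ConnectedComponents.continuous_coe
  · intro i
    obtain ⟨x, hx⟩ := ConnectedComponents.surjective_coe (eqv.symm i)
    exact ⟨x, hx⟩
  · intro i j hij
    rw [Function.onFun, Set.disjoint_iff_inter_eq_empty, ← Set.preimage_inter]
    have : ({eqv.symm i} ∩ {eqv.symm j} : Set (ConnectedComponents (PrimeSpectrum (PolLaw.image F.law)))) = ∅ := by
      rw [Set.singleton_inter_eq_empty, Set.mem_singleton_iff]
      exact fun h => hij (eqv.symm.injective h)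
    rw [this, Set.preimage_empty]

/-- Let A be a commutative ring whose prime spectrum is connected, B a commutative A-algebra and F : B →
A a multiplicative polynomial law homogeneous of degree d. Then Spec(B/ker F), the support of the
family of zero-cycles of degree d defined by F, has at most d connected components (in particular
finitely many). -/
theorem result {A : Type u} [CommRing A] [ConnectedSpace (PrimeSpectrum A)]
    {B : Type u} [CommRing B] [Algebra A B] {d : ℕ} (F : PolLaw.MulLaw A B A d) :
    Finite (ConnectedComponents (PrimeSpectrum (PolLaw.image F.law))) ∧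
      Nat.card (ConnectedComponents (PrimeSpectrum (PolLaw.image F.law))) ≤ d := by
  exact Groth.Agent.S13727.main F

end Groth.Agent.S13727
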