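import Groth.Statements.S13728
import Groth.Agent.Lib.PiTensorDirLim

set_option autoImplicit false
universe u
open scoped TensorProduct
open ZeroCyc

namespace Groth.Agent.S13728

open Groth.Agent.Lib.PiTensorDirLim in
theorem tmap_eq_map {A : Type u} [CommRing A] {B C : Type u} [CommRing B] [Algebra A B]
    [CommRing C] [Algebra A C] (d : ℕ) (f : B →ₐ[A] C) (y : ⨂[A] _ : Fin d, B) :
    SymTen.tmap A d f y = PiTensorProduct.map (fun _ : Fin d => f.toLinearMap) y := by
  induction y using PiTensorProduct.induction_on with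
  | smul_tprod a x =>
    rw [map_smul, map_smul, SymTen.tmap_tprod, PiTensorProduct.map_tprod]
    rfl
  | add x y hx hy => rw [map_add, map_add, hx, hy]

/-- The functor B ↦ TS^d_A(B) (symmetric tensors of degree d, the invariants of the symmetric group in
the d-fold tensor power) commutes with filtered direct limits. Concretely, let B be the direct limit
of a directed system (B_i, t_ij : B_i → B_j) of commutative algebras over the commutative ring A
(t_ii the identity, t_jk ∘ t_ij = t_ik) with structure maps φ_i : B_i → B (compatible with the t_ij,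
jointly surjective, and an element of B_i vanishing in B vanishes in some B_j). Then every element
of TS^d_A(B) is the image of an element of some TS^d_A(B_i), and an element of TS^d_A(B_i) whose
image in TS^d_A(B) is zero has image zero in TS^d_A(B_j) for some j ≥ i. -/
theorem result {A : Type u} [CommRing A] {B : Type u} [CommRing B] [Algebra A B]
    {ι : Type u} [Preorder ι] [IsDirected ι (fun i j => i ≤ j)] [Nonempty ι]
    (Bi : ι → Type u) [∀ i, CommRing (Bi i)] [∀ i, Algebra A (Bi i)]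
    (t : ∀ i j : ι, i ≤ j → (Bi i →ₐ[A] Bi j)) (φ : ∀ i : ι, Bi i →ₐ[A] B)
    (hcomp : ∀ (i j : ι) (h : i ≤ j), (φ j).comp (t i j h) = φ i)
    (hsurj : ∀ b : B, ∃ (i : ι) (x : Bi i), φ i x = b)
    (hzero : ∀ (i : ι) (x : Bi i), φ i x = 0 → ∃ (j : ι) (h : i ≤ j), t i j h x = 0)
    (hid : ∀ (i : ι) (h : i ≤ i), t i i h = AlgHom.id A (Bi i))
    (htrans : ∀ (i j k : ι) (hij : i ≤ j) (hjk : j ≤ k), (t j k hjk).comp (t i j hij) = t i k (hij.trans hjk)) (d : ℕ) :
    (∀ z : SymTen.TS A B d, ∃ (i : ι) (y : SymTen.TS A (Bi i) d), SymTen.TSmap A d (φ i) y = z) ∧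
      ∀ (i : ι) (y : SymTen.TS A (Bi i) d), SymTen.TSmap A d (φ i) y = 0 →
        ∃ (j : ι) (h : i ≤ j), SymTen.TSmap A d (t i j h) y = 0 := by
  classical
  have H : Groth.Agent.Lib.PiTensorDirLim.IsColim (A := A) (M := Bi) (N := B)
      (fun i j h => (t i j h).toLinearMap) (fun i => (φ i).toLinearMap) := by
    refine ⟨?_, hsurj, hzero, ?_, ?_⟩
    · intro i j h
      ext x
      have := AlgHom.congr_fun (hcomp i j h) x
      simpa using this
    · intro i h
      rw [hid i h]; rfl
    · intro i j k hij hjk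
      rw [← htrans i j k hij hjk]; rfl
  have hinj : ∀ (i : ι) (y : ⨂[A] _ : Fin d, Bi i), SymTen.tmap A d (φ i) y = 0 →
      ∃ (j : ι) (h : i ≤ j), SymTen.tmap A d (t i j h) y = 0 := by
    intro i y hy
    rw [tmap_eq_map] at hy
    obtain ⟨j, h, hj⟩ := Groth.Agent.Lib.PiTensorDirLim.exists_map_eq_zero H i y hy
    exact ⟨j, h, by rw [tmap_eq_map]; exact hj⟩
  have htt : ∀ (i j k : ι) (hij : i ≤ j) (hjk : j ≤ k) (y : ⨂[A] _ : Fin d, Bi i),
      SymTen.tmap A d (t j k hjk) (SymTen.tmap A d (t i j hij) y) =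
        SymTen.tmap A d (t i k (hij.trans hjk)) y := by
    intro i j k hij hjk y
    rw [tmap_eq_map, tmap_eq_map, tmap_eq_map]
    exact H.map_map_t i j k hij hjk y
  have hφt : ∀ (i j : ι) (hij : i ≤ j) (y : ⨂[A] _ : Fin d, Bi i),
      SymTen.tmap A d (φ j) (SymTen.tmap A d (t i j hij) y) = SymTen.tmap A d (φ i) y := by
    intro i j hij y
    rw [tmap_eq_map, tmap_eq_map, tmap_eq_map]
    exact H.map_φ_map_t i j hij y
  refine ⟨?_, ?_⟩
  · intro z
    obtain ⟨i, y, hy⟩ := Groth.Agent.Lib.PiTensorDirLim.exists_map_eq H z.1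
    rw [← tmap_eq_map] at hy
    -- for each σ, find a stage where σ y = y
    have h1 : ∀ σ : Equiv.Perm (Fin d), ∃ (j : ι) (h : i ≤ j),
        SymTen.tmap A d (t i j h) (PiTensorProduct.reindex A (fun _ : Fin d => Bi i) σ y - y) = 0 := by
      intro σ
      apply hinj
      rw [map_sub, SymTen.tmap_reindex, hy, z.2 σ, sub_self]
    choose jσ hjσ hσ using h1
    obtain ⟨j, hj⟩ := Finite.exists_le jσ
    obtain ⟨j', hj'1, hj'2⟩ := exists_ge_ge i j
    have hmem : SymTen.tmap A d (t i j' hj'1) y ∈ SymTen.TS A (Bi j') d := by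
      intro σ
      rw [← SymTen.tmap_reindex]
      have h2 : SymTen.tmap A d (t i j' hj'1)
          (PiTensorProduct.reindex A (fun _ : Fin d => Bi i) σ y - y) = 0 := by
        rw [← htt i (jσ σ) j' (hjσ σ) ((hj σ).trans hj'2), hσ σ, map_zero]
      rw [map_sub, sub_eq_zero] at h2
      exact h2
    refine ⟨j', ⟨_, hmem⟩, ?_⟩
    apply Subtype.ext
    show SymTen.tmap A d (φ j') (SymTen.tmap A d (t i j' hj'1) y) = z.1
    rw [hφt, hy]
  · intro i y hy
    have h1 : SymTen.tmap A d (φ i) y.1 = 0 := congrArg Subtype.val hy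
    obtain ⟨j, h, hj⟩ := hinj i y.1 h1
    refine ⟨j, h, ?_⟩
    apply Subtype.ext
    exact hj

end Groth.Agent.S13728
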