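import Groth.Statements.S13731
-- import your own Groth.Agent.* helpers here
import Groth.Agent.Lib.SubtrFamH52

set_option autoImplicit false
universe u
open HTop

namespace Groth.Agent.S13731

open CategoryTheory CategoryTheory.Limits AlgebraicGeometry in
/-- Let X be a separated Noetherian scheme and {p_i : U_i → X} a finite family of separated morphisms of
finite type whose induced morphism from the disjoint union of the U_i to X is universally submersive
(an h-covering). Then every point x of X is p_i(u) for some i and some point u of U_i admitting a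
generization ξ in U_i whose image p_i(ξ) is a generic point of an irreducible component of X.
Equivalently, the irreducible components of the U_i dominating an irreducible component of X jointly
cover X. -/
theorem result {X : Scheme.{u}} [IsNoetherian X] [X.IsSeparated] (E : PreZeroHypercover.{u} X) [Finite E.I₀] [∀ i, LocallyOfFiniteType (E.f i)] [∀ i, QuasiCompact (E.f i)] [∀ i, IsSeparated (E.f i)] (hE : SGA1.UnivSubmersive (Sigma.desc E.f)) (x : X) : ∃ (i : E.I₀) (ξ u : E.X i), ξ ⤳ u ∧ E.f i u = x ∧ closure {E.f i ξ} ∈ irreducibleComponents ↥X := by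
  have hqc : QuasiCompact (Sigma.desc E.f) :=
    Groth.Agent.Lib.SubtrFamH52.quasiCompact_sigmaDesc E.X E.f
  have hX : IsLocallyNoetherian X := inferInstance
  have hsub : Subtr.UnivSSubtrusive (Sigma.desc E.f) :=
    Groth.Agent.Lib.SubtrNoethH52.univSSubtrusive_of_forall_noetherian (Sigma.desc E.f)
      (fun T _ t =>
        Groth.Agent.Lib.SubtrNoethH52.isSSubtrusive_snd_of_univSubmersive (Sigma.desc E.f) hE t)
  have hS : Subtr.IsSSubtrusive (Sigma.desc E.f) :=
    MorphismProperty.universally_le (P := fun _ _ f => Subtr.IsSSubtrusive f) _ hsub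
  -- the generic point of the irreducible component through `x`
  obtain ⟨η, hη⟩ := QuasiSober.sober (isIrreducible_irreducibleComponent (x := x))
    (isClosed_irreducibleComponent (x := x))
  have hηx : η ⤳ x := by
    rw [specializes_iff_mem_closure, hη.def]
    exact mem_irreducibleComponent
  obtain ⟨z, z', hz, hz1, hz2⟩ := hS hηx
  obtain ⟨i, ξ, u, hξu, h1, h2⟩ := Groth.Agent.Lib.SubtrFamH52.exists_specializes_of_sigma E.X hz
  refine ⟨i, ξ, u, hξu, ?_, ?_⟩
  · have : Sigma.desc E.f (Sigma.ι E.X i u) = x := by rw [h2]; exact hz1
    rw [← Scheme.Hom.comp_apply, Sigma.ι_desc] at this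
    exact this
  · have : Sigma.desc E.f (Sigma.ι E.X i ξ) = η := by rw [h1]; exact hz2
    rw [← Scheme.Hom.comp_apply, Sigma.ι_desc] at this
    rw [this, hη.def]
    exact irreducibleComponent_mem_irreducibleComponents x

end Groth.Agent.S13731
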