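import Groth.Statements.S13736
import Groth.Agent.S1454
import Groth.Agent.Lib.H80Submersive

set_option autoImplicit false
universe u
open HTop

namespace Groth.Agent.S13736

open CategoryTheory CategoryTheory.Limits AlgebraicGeometry in
theorem univOpen_of_dominant {X U : Scheme.{u}} [IsNoetherian X]
    (hX : ∀ x : X, CAlg2.IsGeomUnibranch (X.presheaf.stalk x)) (f : U ⟶ X)
    [LocallyOfFiniteType f] [LocallyQuasiFinite f] [IrreducibleSpace ↥U] [IsDominant f] :
    UniversallyOpen f := by
  refine Groth.Agent.S1454.result f hX ?_
  intro Z hZ x hx
  rw [irreducibleComponents_eq_singleton, Set.mem_singleton_iff] at hZ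
  subst hZ
  have h1 := hx.image f.continuous
  rw [Set.image_univ, f.denseRange.closure_range] at h1
  refine ⟨Set.univ, ?_, h1⟩
  have hirr : IsIrreducible (Set.univ : Set ↥X) := by
    rw [← h1.def]
    exact isIrreducible_singleton.closure
  have : IrreducibleSpace ↥X := by
    have : PreirreducibleSpace ↥X := ⟨hirr.isPreirreducible⟩
    exact ⟨⟨f x⟩⟩
  rw [irreducibleComponents_eq_singleton]
  rfl

open CategoryTheory CategoryTheory.Limits AlgebraicGeometry in
/-- Let X be a separated irreducible Noetherian scheme whose local rings are all geometrically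
unibranch, and {p_i : U_i → X} a finite family of separated quasi-finite morphisms of finite type
with every U_i irreducible. Then the induced morphism from the disjoint union of the U_i to X is
universally submersive (a qfh-covering) if and only if the dominant members p_i are jointly
surjective onto X; in that case the induced morphism from the disjoint union of the dominant members
alone is already universally submersive. (The published statement does not require the U_i
irreducible; for the affine line X over a field and the single member U = (X minus a closed point) ⊔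
(that point) → X, which is dominant and surjective, the quotient property fails, and the published
proof uses that every irreducible component of a dominant member dominates X, so the members are
taken irreducible here.) -/
theorem result {X : Scheme.{u}} [IsNoetherian X] [X.IsSeparated] [IrreducibleSpace ↥X] (hX : ∀ x : X, CAlg2.IsGeomUnibranch (X.presheaf.stalk x)) (E : PreZeroHypercover.{u} X) [Finite E.I₀] [∀ i, LocallyOfFiniteType (E.f i)] [∀ i, QuasiCompact (E.f i)] [∀ i, LocallyQuasiFinite (E.f i)] [∀ i, IsSeparated (E.f i)] [∀ i, IrreducibleSpace ↥(E.X i)] : (SGA1.UnivSubmersive (Sigma.desc E.f) ↔ ∀ x : X, ∃ (i : E.I₀) (u : E.X i), IsDominant (E.f i) ∧ E.f i u = x) ∧ ((∀ x : X, ∃ (i : E.I₀) (u : E.X i), IsDominant (E.f i) ∧ E.f i u = x) → SGA1.UnivSubmersive (Sigma.desc fun j : {i : E.I₀ // IsDominant (E.f i)} => E.f j.1)) := by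
  have hopen : ∀ i, IsDominant (E.f i) → UniversallyOpen (E.f i) := fun i hi =>
    univOpen_of_dominant hX (E.f i)
  refine ⟨⟨fun h x => Groth.Agent.Lib.H80Submersive.exists_dominant_of_univSubmersive E.X E.f h x,
    fun h => ?_⟩, fun h => ?_⟩
  · refine Groth.Agent.Lib.H80Submersive.univSubmersive_sigmaDesc E.X E.f
      {i | IsDominant (E.f i)} (fun i hi => hopen i hi) ?_
    intro x
    obtain ⟨i, u, hi, hu⟩ := h x
    exact ⟨i, hi, u, hu⟩
  · refine Groth.Agent.Lib.H80Submersive.univSubmersive_sigmaDesc
      (fun j : {i : E.I₀ // IsDominant (E.f i)} => E.X j.1) (fun j => E.f j.1)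
      Set.univ (fun j _ => hopen j.1 j.2) ?_
    intro x
    obtain ⟨i, u, hi, hu⟩ := h x
    exact ⟨⟨i, hi⟩, trivial, u, hu⟩

end Groth.Agent.S13736
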