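import Groth.Statements.S13738
-- import your own Groth.Agent.* helpers here
import Mathlib

set_option autoImplicit false
universe u
open SGA1

namespace Groth.Agent.S13738

open CategoryTheory CategoryTheory.Limits AlgebraicGeometry in
/-- Let S be a separated irreducible Noetherian scheme, q : X → S finite and surjective with X
separated, and G a finite group acting on X by S-automorphisms, transitively on the geometric points
of X over every geometric point of S. Then every irreducible component of X maps onto S and G acts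
transitively on the set of irreducible components of X. -/
theorem result {X S : Scheme.{u}} [IsNoetherian S] [S.IsSeparated] [X.IsSeparated] [IrreducibleSpace ↥S] (q : X ⟶ S) [IsFinite q] [Surjective q] {G : Type u} [Group G] [Finite G] (ρ : G →* Aut X) (hρ : ∀ g : G, (ρ g).hom ≫ q = q) (htrans : ∀ (Ω : Type u) [Field Ω] [IsAlgClosed Ω] (τ₁ τ₂ : Spec (CommRingCat.of Ω) ⟶ X), τ₁ ≫ q = τ₂ ≫ q → ∃ g : G, τ₁ ≫ (ρ g).hom = τ₂) : (∀ T ∈ irreducibleComponents ↥X, Set.image (fun x => q x) T = Set.univ) ∧ ∀ T₁ ∈ irreducibleComponents ↥X, ∀ T₂ ∈ irreducibleComponents ↥X, ∃ g : G, Set.image (fun x => (ρ g).hom x) T₁ = T₂ := by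
  classical
  -- Step 1: G is transitive on the fibres of q
  have hfib : ∀ x₁ x₂ : X, q x₁ = q x₂ → ∃ g : G, (ρ g).hom x₁ = x₂ := by
    intro x₁ x₂ h
    obtain ⟨z, hz₁, hz₂⟩ := Scheme.Pullback.exists_preimage_pullback (f := q) (g := q) x₁ x₂ h
    let Ω := AlgebraicClosure ((pullback q q).residueField z)
    let τ : Spec (CommRingCat.of Ω) ⟶ pullback q q :=
      Spec.map (CommRingCat.ofHom (algebraMap ((pullback q q).residueField z) Ω)) ≫
        (pullback q q).fromSpecResidueField z
    obtain ⟨g, hg⟩ := htrans Ω (τ ≫ pullback.fst q q) (τ ≫ pullback.snd q q)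
      (by simp only [Category.assoc, pullback.condition])
    refine ⟨g, ?_⟩
    let pt : ↥(Spec (CommRingCat.of Ω)) := IsLocalRing.closedPoint Ω
    have hτ : τ pt = z := by
      simp only [τ, Scheme.Hom.comp_apply]
      exact Scheme.fromSpecResidueField_apply _ _
    have h1 := congrArg (fun f : Spec (CommRingCat.of Ω) ⟶ X => f pt) hg
    simp only [Scheme.Hom.comp_apply, hτ, hz₁, hz₂] at h1
    exact h1
  -- action facts
  have hmul : ∀ (g h : G) (x : X), (ρ (g * h)).hom x = (ρ g).hom ((ρ h).hom x) := by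
    intro g h x
    rw [map_mul, Aut.Aut_mul_def]
    simp
  have hone : ∀ x : X, (ρ 1).hom x = x := by
    intro x
    rw [map_one]
    rfl
  have hq : ∀ (g : G) (x : X), q ((ρ g).hom x) = q x := by
    intro g x
    rw [← Scheme.Hom.comp_apply, hρ g]
  -- Step 2: a component dominating S
  obtain ⟨x₀, hx₀⟩ := q.surjective (genericPoint ↥S)
  set T₀ : Set ↥X := irreducibleComponent x₀ with hT₀def
  have hT₀mem : T₀ ∈ irreducibleComponents ↥X := irreducibleComponent_mem_irreducibleComponents x₀
  have hT₀img : Set.image (fun x => q x) T₀ = Set.univ := by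
    have hcl : IsClosed (Set.image (fun x => q x) T₀) :=
      q.isClosedMap _ isClosed_irreducibleComponent
    have hmem : genericPoint ↥S ∈ Set.image (fun x => q x) T₀ :=
      ⟨x₀, mem_irreducibleComponent, hx₀⟩
    have := ((genericPoint_spec ↥S).mem_closed_set_iff hcl).mp hmem
    exact Set.eq_univ_of_univ_subset (by simpa using this)
  -- Step 3: every component is a translate of T₀
  have key : ∀ T ∈ irreducibleComponents ↥X, ∃ g : G, Set.image (fun x => (ρ g).hom x) T₀ = T := by
    intro T hT
    have hTirr : IsIrreducible T := hT.1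
    have hTcl : IsClosed T := isClosed_of_mem_irreducibleComponents T hT
    obtain ⟨ξ, hξ⟩ := QuasiSober.sober hTirr hTcl
    have hξ' : closure {ξ} = T := hξ
    obtain ⟨x', hx'T, hx'⟩ : q ξ ∈ Set.image (fun x => q x) T₀ := by rw [hT₀img]; trivial
    obtain ⟨g, hg⟩ := hfib x' ξ hx'
    refine ⟨g, ?_⟩
    have himg_irr : IsIrreducible (Set.image (fun x => (ρ g).hom x) T₀) :=
      hT₀mem.1.image _ ((ρ g).hom.continuous.continuousOn)
    have himg_cl : IsClosed (Set.image (fun x => (ρ g).hom x) T₀) :=
      (Scheme.homeoOfIso (ρ g)).isClosedMap _ isClosed_irreducibleComponent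
    have hsub : T ⊆ Set.image (fun x => (ρ g).hom x) T₀ := by
      rw [← hξ']
      exact closure_minimal (Set.singleton_subset_iff.mpr ⟨x', hx'T, hg⟩) himg_cl
    exact hT.eq_of_ge himg_irr hsub
  refine ⟨?_, ?_⟩
  · intro T hT
    obtain ⟨g, rfl⟩ := key T hT
    rw [Set.image_image]
    simp only [hq]
    exact hT₀img
  · intro T₁ hT₁ T₂ hT₂
    obtain ⟨g₁, rfl⟩ := key T₁ hT₁
    obtain ⟨g₂, rfl⟩ := key T₂ hT₂
    refine ⟨g₂ * g₁⁻¹, ?_⟩
    rw [Set.image_image]
    refine Set.image_congr' ?_
    intro x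
    rw [hmul, ← hmul g₁⁻¹ g₁, inv_mul_cancel, hone]

end Groth.Agent.S13738
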