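import Groth.Statements.S1374
import Mathlib
import Groth.Agent.Lib.H56ClosedFib4
import Groth.Agent.Lib.H80QuasiSec3

set_option autoImplicit false
universe u
open FlatMor

namespace Groth.Agent.S1374

open AlgebraicGeometry CategoryTheory Limits in
/-- Let f : X ⟶ S be locally of finite type and x ⤳ x' a specialization of points of X, with x' a closed
point of its fibre f⁻¹(f(x')) and f(x) ≠ f(x'). Then the points x₁ with f(x₁) = f(x) which are
closed in the fibre f⁻¹(f(x)) and satisfy x ⤳ x₁ ⤳ x' are dense in the closure of {x} intersected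
with the fibre f⁻¹(f(x)) (fibres taken as subspaces of X). (The published statement omits the
condition f(x) ≠ f(x'), but the claim fails without it; it is stated here with that condition.) -/
theorem result {X S : Scheme.{u}} (f : X ⟶ S) [LocallyOfFiniteType f] (x x' : X) (hsp : x ⤳ x') (hne : f x ≠ f x')
    (hcl : IsClosed (Subtype.val ⁻¹' {x'} : Set ↑(f ⁻¹' {f x'}))) :
    Dense (Subtype.val ⁻¹' {x₁ : ↑X | f x₁ = f x ∧ IsClosed (Subtype.val ⁻¹' {x₁} : Set ↑(f ⁻¹' {f x})) ∧ x ⤳ x₁ ∧ x₁ ⤳ x'} :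
      Set ↑(closure {x} ∩ f ⁻¹' {f x})) := by
  classical
  rw [dense_iff_inter_open]
  rintro W hWopen ⟨e₀, he₀W⟩
  obtain ⟨U₀, hU₀open, rfl⟩ := isOpen_induced_iff.mp hWopen
  -- `x ∈ U₀`
  have hxU₀ : x ∈ U₀ := by
    have h1 : x ⤳ e₀.1 := specializes_iff_mem_closure.mpr e₀.2.1
    exact h1.mem_open hU₀open he₀W
  -- affine charts
  obtain ⟨V, hV, hfx'V⟩ : ∃ V : S.Opens, IsAffineOpen V ∧ f x' ∈ V := by
    obtain ⟨_, ⟨V, hV, rfl⟩, hxV, -⟩ := S.isBasis_affineOpens.exists_subset_of_mem_open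
      (Set.mem_univ (f x')) isOpen_univ
    exact ⟨V, hV, hxV⟩
  obtain ⟨U, hU, hx'U, e⟩ : ∃ U : X.Opens, IsAffineOpen U ∧ x' ∈ U ∧ U ≤ f ⁻¹ᵁ V := by
    obtain ⟨_, ⟨U, hU, rfl⟩, hxU, hUV⟩ := X.isBasis_affineOpens.exists_subset_of_mem_open
      (show x' ∈ ((f ⁻¹ᵁ V : X.Opens) : Set X) from hfx'V) (f ⁻¹ᵁ V).isOpen
    exact ⟨U, hU, hxU, hUV⟩
  have hxU : x ∈ U := hsp.mem_open U.isOpen hx'U
  let alg := (f.appLE V U e).hom.toAlgebra
  have hft : Algebra.FiniteType Γ(S, V) Γ(X, U) := f.finiteType_appLE hV hU e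
  have hinjV : Function.Injective hV.fromSpec := hV.fromSpec.isOpenEmbedding.injective
  have hinjU : Function.Injective hU.fromSpec := hU.fromSpec.isOpenEmbedding.injective
  have hunder : ∀ (y : X) (hy : y ∈ U), (hU.primeIdealOf ⟨y, hy⟩).asIdeal.under Γ(S, V) =
      (hV.primeIdealOf ⟨f y, e hy⟩).asIdeal := fun y hy =>
    congrArg PrimeSpectrum.asIdeal (IsAffineOpen.comap_primeIdealOf_appLE V hV U hU e hy)
  -- a basic open around `x` inside `U₀`
  obtain ⟨g, hgle, hxg⟩ := hU.exists_basicOpen_le (V := ⟨U₀, hU₀open⟩) ⟨x, hxU₀⟩ hxU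
  have hbo : ∀ P : Spec Γ(X, U), hU.fromSpec P ∈ X.basicOpen g ↔ g ∉ P.asIdeal := by
    intro P
    change P ∈ (hU.fromSpec ⁻¹ᵁ X.basicOpen g) ↔ _
    rw [hU.fromSpec_preimage_basicOpen]
    exact Iff.rfl
  -- the primes of `x` and `x'`
  set q : Spec Γ(X, U) := hU.primeIdealOf ⟨x, hxU⟩ with hq
  set q' : Spec Γ(X, U) := hU.primeIdealOf ⟨x', hx'U⟩ with hq'
  have hqx : hU.fromSpec q = x := hU.fromSpec_primeIdealOf ⟨x, hxU⟩
  have hq'x' : hU.fromSpec q' = x' := hU.fromSpec_primeIdealOf ⟨x', hx'U⟩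
  have hqq' : q.asIdeal ≤ q'.asIdeal := by
    have h2 : q ⤳ q' := hU.fromSpec.isOpenEmbedding.isInducing.specializes_iff.mp (by
      rw [hqx, hq'x']; exact hsp)
    exact (PrimeSpectrum.le_iff_specializes q q').mpr h2
  have hgq : g ∉ q.asIdeal := (hbo q).mp (hqx ▸ hxg)
  have hne' : q.asIdeal.under Γ(S, V) ≠ q'.asIdeal.under Γ(S, V) := by
    rw [hunder x hxU, hunder x' hx'U]
    intro h
    apply hne
    have h1 := congrArg hV.fromSpec (PrimeSpectrum.ext h)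
    rwa [hV.fromSpec_primeIdealOf ⟨f x, e hxU⟩, hV.fromSpec_primeIdealOf ⟨f x', e hx'U⟩] at h1
  -- points of `U` from primes
  have hpt : ∀ P : Spec Γ(X, U), ∃ hy : hU.fromSpec P ∈ U,
      hU.primeIdealOf ⟨hU.fromSpec P, hy⟩ = P := by
    intro P
    have hy : hU.fromSpec P ∈ U := by
      have : hU.fromSpec P ∈ Set.range hU.fromSpec := Set.mem_range_self P
      rwa [hU.range_fromSpec] at this
    exact ⟨hy, hinjU (hU.fromSpec_primeIdealOf ⟨_, hy⟩)⟩
  have hfeq : ∀ (P : Spec Γ(X, U)) (y : X) (hy : y ∈ U),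
      P.asIdeal.under Γ(S, V) = (hU.primeIdealOf ⟨y, hy⟩).asIdeal.under Γ(S, V) →
      f (hU.fromSpec P) = f y := by
    intro P y hy h
    obtain ⟨hP, hPeq⟩ := hpt P
    have h1 := hunder (hU.fromSpec P) hP
    rw [hPeq, h, hunder y hy] at h1
    have h2 := congrArg hV.fromSpec (PrimeSpectrum.ext h1)
    rw [hV.fromSpec_primeIdealOf ⟨f y, e hy⟩, hV.fromSpec_primeIdealOf ⟨_, e hP⟩] at h2
    exact h2.symm
  have hmax : ∀ Q : Ideal Γ(X, U), Q.IsPrime → q'.asIdeal ≤ Q →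
      Q.under Γ(S, V) = q'.asIdeal.under Γ(S, V) → Q = q'.asIdeal := by
    intro Q hQ hle hQA
    let P : Spec Γ(X, U) := ⟨Q, hQ⟩
    have hfy : f (hU.fromSpec P) = f x' := hfeq P x' hx'U hQA
    have hspy : x' ⤳ hU.fromSpec P := by
      have h1 : q' ⤳ P := (PrimeSpectrum.le_iff_specializes q' P).mp hle
      have h2 := h1.map hU.fromSpec.continuous
      rwa [hq'x'] at h2
    have h3 : (⟨x', rfl⟩ : ↑(f ⁻¹' {f x'})) ⤳ ⟨hU.fromSpec P, hfy⟩ := by
      rw [subtype_specializes_iff]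
      exact hspy
    have h4 := h3.mem_closed hcl (show (⟨x', rfl⟩ : ↑(f ⁻¹' {f x'})) ∈ Subtype.val ⁻¹' {x'} from rfl)
    have h5 : hU.fromSpec P = x' := h4
    have h6 : P = q' := hinjU (h5.trans hq'x'.symm)
    exact congrArg PrimeSpectrum.asIdeal h6
  have hqprime : q.asIdeal.IsPrime := q.isPrime
  have hq'prime : q'.asIdeal.IsPrime := q'.isPrime
  obtain ⟨q₁, hq₁prime, hqq₁, hq₁q', hq₁A, hgq₁, hq₁max⟩ :=
    Groth.Agent.Lib.H56ClosedFib.exists_closed_prime q.asIdeal q'.asIdeal hqq' hne' hmax g hgq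
  -- the point `x₁`
  let P₁ : Spec Γ(X, U) := ⟨q₁, hq₁prime⟩
  obtain ⟨hx₁U, hP₁eq⟩ := hpt P₁
  have hfx₁ : f (hU.fromSpec P₁) = f x := hfeq P₁ x hxU hq₁A
  have hxx₁ : x ⤳ hU.fromSpec P₁ := by
    have h1 : q ⤳ P₁ := (PrimeSpectrum.le_iff_specializes q P₁).mp hqq₁
    have h2 := h1.map hU.fromSpec.continuous
    rwa [hqx] at h2
  have hx₁x' : hU.fromSpec P₁ ⤳ x' := by
    have h1 : P₁ ⤳ q' := (PrimeSpectrum.le_iff_specializes P₁ q').mp hq₁q'
    have h2 := h1.map hU.fromSpec.continuous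
    rwa [hq'x'] at h2
  have hx₁U₀ : hU.fromSpec P₁ ∈ U₀ := hgle ((hbo P₁).mpr hgq₁)
  -- closedness in the fibre
  have hclosed : IsClosed (Subtype.val ⁻¹' {hU.fromSpec P₁} : Set ↑(f ⁻¹' {f x})) := by
    have hlft : LocallyOfFiniteType (f.fiberToSpecResidueField (f x)) :=
      Groth.Agent.Lib.H80QuasiSec.locallyOfFiniteType_fiberToSpecResidueField f (f x)
    have hJ : JacobsonSpace (f.fiber (f x)) :=
      LocallyOfFiniteType.jacobsonSpace (f.fiberToSpecResidueField (f x))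
    have hJF : JacobsonSpace ↑(f ⁻¹' {f x}) :=
      JacobsonSpace.of_isOpenEmbedding (f.fiberHomeo (f x)).symm.isOpenEmbedding
    have hsing : (Subtype.val ⁻¹' {hU.fromSpec P₁} : Set ↑(f ⁻¹' {f x})) =
        {(⟨hU.fromSpec P₁, hfx₁⟩ : ↑(f ⁻¹' {f x}))} := by
      ext z
      simp only [Set.mem_preimage, Set.mem_singleton_iff]
      exact ⟨fun h => Subtype.ext h, fun h => congrArg Subtype.val h⟩
    rw [hsing]
    apply isClosed_singleton_of_isLocallyClosed_singleton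
    have hlc : IsLocallyClosed ((Subtype.val ⁻¹' (U : Set X) : Set ↑(f ⁻¹' {f x})) ∩
        closure {(⟨hU.fromSpec P₁, hfx₁⟩ : ↑(f ⁻¹' {f x}))}) :=
      (U.isOpen.preimage continuous_subtype_val).isLocallyClosed.inter
        isClosed_closure.isLocallyClosed
    have hset : ((Subtype.val ⁻¹' (U : Set X) : Set ↑(f ⁻¹' {f x})) ∩
        closure {(⟨hU.fromSpec P₁, hfx₁⟩ : ↑(f ⁻¹' {f x}))}) =
        {(⟨hU.fromSpec P₁, hfx₁⟩ : ↑(f ⁻¹' {f x}))} := by
      ext z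
      constructor
      · rintro ⟨hzU, hzcl⟩
        have hsp' : (⟨hU.fromSpec P₁, hfx₁⟩ : ↑(f ⁻¹' {f x})) ⤳ z :=
          specializes_iff_mem_closure.mpr hzcl
        rw [subtype_specializes_iff] at hsp'
        have hzU' : z.1 ∈ U := hzU
        -- the prime of `z`
        have h1 : P₁ ⤳ hU.primeIdealOf ⟨z.1, hzU'⟩ :=
          hU.fromSpec.isOpenEmbedding.isInducing.specializes_iff.mp (by
            rw [hU.fromSpec_primeIdealOf ⟨z.1, hzU'⟩]; exact hsp')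
        have h2 : q₁ ≤ (hU.primeIdealOf ⟨z.1, hzU'⟩).asIdeal :=
          (PrimeSpectrum.le_iff_specializes P₁ _).mpr h1
        have h3 : (hU.primeIdealOf ⟨z.1, hzU'⟩).asIdeal.under Γ(S, V) = q.asIdeal.under Γ(S, V) := by
          rw [hunder z.1 hzU', hunder x hxU]
          have hfz : f z.1 = f x := z.2
          congr 2
          exact Subtype.ext hfz
        have h4 := hq₁max _ (hU.primeIdealOf ⟨z.1, hzU'⟩).isPrime h2 h3
        have h5 : hU.primeIdealOf ⟨z.1, hzU'⟩ = P₁ := PrimeSpectrum.ext h4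
        have h6 := congrArg hU.fromSpec h5
        rw [hU.fromSpec_primeIdealOf ⟨z.1, hzU'⟩] at h6
        exact Subtype.ext h6
      · rintro rfl
        exact ⟨hx₁U, subset_closure rfl⟩
    rwa [hset] at hlc
  refine ⟨⟨hU.fromSpec P₁, ⟨specializes_iff_mem_closure.mp hxx₁, hfx₁⟩⟩, hx₁U₀, ?_⟩
  exact ⟨hfx₁, hclosed, hxx₁, hx₁x'⟩

end Groth.Agent.S1374
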