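import Groth.Statements.S13741


set_option autoImplicit false
universe u
open SGA1

namespace Groth.Agent.S13741

open CategoryTheory CategoryTheory.Limits AlgebraicGeometry

/-- field theory core -/
theorem exists_aut {F E Ω : Type u} [Field F] [Field E] [Field Ω] (r : F →+* E) (φ φ' : E →+* Ω)
    (hn : @Normal F E _ _ r.toAlgebra) (h : φ.comp r = φ'.comp r) :
    ∃ σ : E ≃+* E, (σ : E →+* E).comp r = r ∧ φ.comp (σ : E →+* E) = φ' := by
  letI : Algebra F E := r.toAlgebra
  letI : Algebra E Ω := φ.toAlgebra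
  letI : Algebra F Ω := (φ.comp r).toAlgebra
  haveI : IsScalarTower F E Ω := IsScalarTower.of_algebraMap_eq (fun _ => rfl)
  haveI : Normal F E := hn
  let ψ : E →ₐ[F] Ω := { φ' with commutes' := fun a => (RingHom.congr_fun h a).symm }
  let σ₀ : E →ₐ[F] E := ψ.restrictNormal E
  have hσ₀ : ∀ e : E, φ (σ₀ e) = φ' e := fun e => ψ.restrictNormal_commutes E e
  have hbij : Function.Bijective σ₀ := Algebra.IsAlgebraic.algHom_bijective σ₀
  refine ⟨RingEquiv.ofBijective (σ₀ : E →+* E) hbij, ?_, ?_⟩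
  · ext a
    exact σ₀.commutes a
  · ext e
    exact hσ₀ e

/-- the case of two geometric points with the same image point -/
theorem core {X S : Scheme.{u}} (q : X ⟶ S) {G : Type u} [Group G] (ρ : G →* Aut X)
    (x : X)
    (h2 : @Normal (S.residueField (q x)) (X.residueField x) _ _ (q.residueFieldMap x).hom.toAlgebra)
    (h3 : ∀ (σ : X.residueField x ≅ X.residueField x), q.residueFieldMap x ≫ σ.hom = q.residueFieldMap x →
      ∃ g : G, X.fromSpecResidueField x ≫ (ρ g).hom = Spec.map σ.hom ≫ X.fromSpecResidueField x)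
    (Ω : Type u) [Field Ω] (φ φ' : X.residueField x ⟶ CommRingCat.of Ω)
    (h : (Spec.map φ ≫ X.fromSpecResidueField x) ≫ q = (Spec.map φ' ≫ X.fromSpecResidueField x) ≫ q) :
    ∃ g : G, (Spec.map φ ≫ X.fromSpecResidueField x) ≫ (ρ g).hom =
      Spec.map φ' ≫ X.fromSpecResidueField x := by
  have h' : q.residueFieldMap x ≫ φ = q.residueFieldMap x ≫ φ' := by
    rw [Category.assoc, Category.assoc, ← Scheme.Hom.SpecMap_residueFieldMap_fromSpecResidueField,
      ← Category.assoc, ← Category.assoc, cancel_mono, ← Spec.map_comp, ← Spec.map_comp] at h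
    exact Spec.map_injective h
  obtain ⟨σ, hσ1, hσ2⟩ := exists_aut (q.residueFieldMap x).hom φ.hom φ'.hom h2 (by
    have := congrArg (fun f => f.hom) h'
    exact this)
  let σi : X.residueField x ≅ X.residueField x := σ.toCommRingCatIso
  obtain ⟨g, hg⟩ := h3 σi (by
    ext a
    exact RingHom.congr_fun hσ1 a)
  refine ⟨g, ?_⟩
  rw [Category.assoc, hg, ← Category.assoc, ← Spec.map_comp]
  congr 2
  ext a
  exact RingHom.congr_fun hσ2 a


open CategoryTheory CategoryTheory.Limits AlgebraicGeometry in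
/-- Let S be a separated Noetherian scheme, q : X → S finite and surjective with X separated, and G a
finite group acting on X by S-automorphisms. Assume that G acts transitively on every fibre of q,
that each residue field extension k(x)/k(q x) is normal, and that for each x every k(q
x)-automorphism of k(x) is induced by an element of G fixing x. Then for every algebraically closed
field Ω, any two Ω-points of X with the same composite to S are conjugate under G. -/
theorem result {X S : Scheme.{u}} [IsNoetherian S] [S.IsSeparated] [X.IsSeparated] (q : X ⟶ S) [IsFinite q] [Surjective q] {G : Type u} [Group G] [Finite G] (ρ : G →* Aut X) (hρ : ∀ g : G, (ρ g).hom ≫ q = q) (h1 : ∀ x y : X, q x = q y → ∃ g : G, (ρ g).hom x = y) (h2 : ∀ x : X, @Normal (S.residueField (q x)) (X.residueField x) _ _ (q.residueFieldMap x).hom.toAlgebra) (h3 : ∀ (x : X) (σ : X.residueField x ≅ X.residueField x), q.residueFieldMap x ≫ σ.hom = q.residueFieldMap x → ∃ g : G, X.fromSpecResidueField x ≫ (ρ g).hom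 = Spec.map σ.hom ≫ X.fromSpecResidueField x) (Ω : Type u) [Field Ω] [IsAlgClosed Ω] (τ₁ τ₂ : Spec (CommRingCat.of Ω) ⟶ X) (hτ : τ₁ ≫ q = τ₂ ≫ q) : ∃ g : G, τ₁ ≫ (ρ g).hom = τ₂ := by
  have hpt : q (τ₁ (IsLocalRing.closedPoint Ω)) = q (τ₂ (IsLocalRing.closedPoint Ω)) := by
    have := congrArg (fun f : Spec (CommRingCat.of Ω) ⟶ S => f (IsLocalRing.closedPoint Ω)) hτ
    simpa using this
  obtain ⟨g₀, hg₀⟩ := h1 _ _ hpt
  have hτ' : (τ₁ ≫ (ρ g₀).hom) ≫ q = τ₂ ≫ q := by rw [Category.assoc, hρ, hτ]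
  have hx : (τ₁ ≫ (ρ g₀).hom) (IsLocalRing.closedPoint Ω) = τ₂ (IsLocalRing.closedPoint Ω) := by
    simpa using hg₀
  have e1 := Scheme.descResidueField_stalkClosedPointTo_fromSpecResidueField Ω X (τ₁ ≫ (ρ g₀).hom)
  have e2 := Scheme.descResidueField_stalkClosedPointTo_fromSpecResidueField Ω X τ₂
  have key : ∀ (x x' : X) (e : x = x') (φ : X.residueField x ⟶ CommRingCat.of Ω)
      (φ' : X.residueField x' ⟶ CommRingCat.of Ω),
      (Spec.map φ ≫ X.fromSpecResidueField x) ≫ q = (Spec.map φ' ≫ X.fromSpecResidueField x') ≫ q →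
      ∃ g : G, (Spec.map φ ≫ X.fromSpecResidueField x) ≫ (ρ g).hom =
        Spec.map φ' ≫ X.fromSpecResidueField x' := by
    intro x x' e φ φ' h
    subst e
    exact core q ρ x (h2 x) (h3 x) Ω φ φ' h
  obtain ⟨g, hg⟩ := key _ _ hx _ _ (by rw [e1, e2]; exact hτ')
  rw [e1, e2] at hg
  refine ⟨g * g₀, ?_⟩
  rw [map_mul, Aut.Aut_mul_def, Iso.trans_hom, ← Category.assoc]
  exact hg

end Groth.Agent.S13741
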