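import Groth.Statements.S13757
import Mathlib.Data.Finset.Max
import Mathlib.Algebra.Order.BigOperators.Group.Finset
import Mathlib.Tactic.Linarith
import Mathlib.Tactic.SplitIfs

set_option autoImplicit false
universe u
open LabGraph

namespace Groth.Agent.S13757

theorem ediv_eq_zero_of_nonpos {a b : ℤ} (ha : a ≤ 0) (hb : 0 < b) (h : a / b = 0) : a = 0 := by
  rcases ha.lt_or_eq with h1 | h1
  · have := Int.ediv_neg_of_neg_of_pos h1 hb
    omega
  · exact h1

theorem ediv_nonpos_of_nonpos {a b : ℤ} (ha : a ≤ 0) (hb : 0 < b) : a / b ≤ 0 := by
  rcases ha.lt_or_eq with h1 | h1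
  · exact (Int.ediv_neg_of_neg_of_pos h1 hb).le
  · rw [h1, Int.zero_ediv]

/-- Let G be a finite connected multigraph (loops and multiple edges allowed) with vertex set V, edge
set E, endpoint map E → V × V and a labelling of the edges by positive integers l. A vertex
labelling φ : V → ℤ is Cartier when l(e) divides the difference of the values of φ at the two
endpoints of every edge e; its multidegree is the vertex labelling whose value at v is the sum, over
the edge-ends at v, of (value of φ at the other endpoint − φ(v)) / l(e). Then the Cartier vertex
labellings of multidegree zero are exactly the constant ones: the kernel of the multidegree operator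
on Cartier labellings is ℤ, embedded as the constants. -/
theorem result
    {V E : Type u} [Fintype V] [Fintype E] [DecidableEq V] [DecidableEq E]
    (ends : E → V × V) (l : E → ℕ) (hl : ∀ e, 0 < l e) (hconn : LabGraph.Connected ends)
    (φ : V → ℤ) (hφ : LabGraph.IsCartier ends l φ) :
    (∀ v : V, LabGraph.mdeg ends l φ v = 0) ↔ ∀ v w : V, φ v = φ w := by
  constructor
  · intro h0
    obtain ⟨⟨v₀⟩, hpath⟩ := hconn
    obtain ⟨vm, -, hmax⟩ := Finset.exists_max_image Finset.univ φ ⟨v₀, Finset.mem_univ _⟩
    have hmax' : ∀ w, φ w ≤ φ vm := fun w => hmax w (Finset.mem_univ _)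
    -- closure under adjacency
    have hstep : ∀ v w : V, φ v = φ vm → LabGraph.Adj ends v w → φ w = φ vm := by
      intro v w hv ⟨e, he⟩
      have hsum := h0 v
      unfold LabGraph.mdeg at hsum
      have hlpos : ∀ e : E, (0 : ℤ) < (l e : ℤ) := fun e => by exact_mod_cast hl e
      have ht1 : ∀ e : E, (if (ends e).1 = v then (φ (ends e).2 - φ (ends e).1) / (l e : ℤ) else 0) ≤ 0 := by
        intro e
        split_ifs with h1
        · apply ediv_nonpos_of_nonpos _ (hlpos e)
          rw [h1, hv]
          linarith [hmax' (ends e).2]
        · exact le_rfl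
      have ht2 : ∀ e : E, (if (ends e).2 = v then (φ (ends e).1 - φ (ends e).2) / (l e : ℤ) else 0) ≤ 0 := by
        intro e
        split_ifs with h1
        · apply ediv_nonpos_of_nonpos _ (hlpos e)
          rw [h1, hv]
          linarith [hmax' (ends e).1]
        · exact le_rfl
      have hall := (Finset.sum_eq_zero_iff_of_nonpos (fun e _ => add_nonpos (ht1 e) (ht2 e))).mp hsum e
        (Finset.mem_univ _)
      have h1 := ht1 e
      have h2 := ht2 e
      rcases he with he | he
      · have hz : (if (ends e).1 = v then (φ (ends e).2 - φ (ends e).1) / (l e : ℤ) else 0) = 0 := by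
          linarith
        rw [he] at hz
        simp only [if_true] at hz
        have := ediv_eq_zero_of_nonpos (by rw [hv]; linarith [hmax' w]) (hlpos e) hz
        linarith
      · have hz : (if (ends e).2 = v then (φ (ends e).1 - φ (ends e).2) / (l e : ℤ) else 0) = 0 := by
          linarith
        rw [he] at hz
        simp only [if_true] at hz
        have := ediv_eq_zero_of_nonpos (by rw [hv]; linarith [hmax' w]) (hlpos e) hz
        linarith
    have hall : ∀ w : V, φ w = φ vm := by
      intro w
      have := hpath vm w
      induction this with
      | refl => rfl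
      | tail _ hadj ih => exact hstep _ _ ih hadj
    intro v w
    rw [hall v, hall w]
  · intro hconst v
    unfold LabGraph.mdeg
    apply Finset.sum_eq_zero
    intro e _
    rw [hconst (ends e).2 (ends e).1]
    simp

end Groth.Agent.S13757
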