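import Groth.Statements.S13758
import Groth.Agent.Lib.LabGraphCycle

set_option autoImplicit false
universe u
open LabGraph

namespace Groth.Agent.S13758

/-- Let G be a finite connected multigraph with vertex set V, edge set E, endpoint map E → V × V (whose
component order fixes an orientation) and positive integer edge labels l. Then the labels along
every circuit of G have greatest common divisor 1 (G is circuit-coprime) if and only if, for every
integer edge vector x, there is an integer edge vector y such that x − l·y is orthogonal to every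
integer cycle: Σ_e γ(e) (x(e) − l(e) y(e)) = 0 for all γ : E → ℤ with zero boundary. (The published
statement says that the r nonzero diagonal entries of the Smith normal form of the labelled circuit
matrix, r the first Betti number, are all equal to 1; since the fundamental circuits of a spanning
tree form a basis of the lattice of integer cycles, this is the surjectivity of x ↦ (γ ↦ Σ_e γ(e)
l(e) x(e)) from ℤ^E onto the dual of the cycle lattice, which is the condition stated here.) -/
theorem result
    {V E : Type u} [Fintype V] [Fintype E] [DecidableEq V] [DecidableEq E]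
    (ends : E → V × V) (l : E → ℕ) (hl : ∀ e, 0 < l e) (hconn : LabGraph.Connected ends) :
    LabGraph.IsCircuitCoprime ends l ↔
      ∀ x : E → ℤ, ∃ y : E → ℤ, ∀ γ : E → ℤ, (∀ v : V, LabGraph.boundary ends γ v = 0) →
        ∑ e : E, γ e * (x e - (l e : ℤ) * y e) = 0 := by
  open Groth.Agent.Lib.LabGraphTree in
  have hbd : ∀ γ : E → ℤ, (∀ v, boundary ends γ v = 0) ↔
      Matrix.mulVec (incR ℤ ends) γ = 0 := by
    intro γ
    constructor
    · intro h
      funext v
      rw [incR_mulVec_apply]
      exact h v
    · intro h v
      have := congrFun h v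
      rw [incR_mulVec_apply] at this
      exact this
  constructor
  · intro hc x
    obtain ⟨y, φ, hyφ⟩ := exists_decomp_of_isCircuitCoprime ends l hc x
    refine ⟨y, fun γ hγ => ?_⟩
    have h1 : ∀ e, x e - (l e : ℤ) * y e = φ (ends e).2 - φ (ends e).1 := fun e => by
      rw [hyφ e]
      ring
    simp only [h1]
    rw [sum_mul_coboundary, (hbd γ).1 hγ]
    simp
  · intro H C hC
    obtain ⟨e₀, he₀⟩ := hC.1
    obtain ⟨γ, hγ0, hγe, hγC⟩ := exists_int_cycle_of_isCircuit ends C hC e₀ he₀
    obtain ⟨y, hy⟩ := H (Pi.single e₀ 1)
    have h1 := hy γ ((hbd γ).2 hγ0)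
    have h2 : (1 : ℤ) = ∑ e ∈ C, γ e * ((l e : ℤ) * y e) := by
      have h3 : ∑ e, γ e * ((Pi.single e₀ 1 : E → ℤ) e - (l e : ℤ) * y e) =
          γ e₀ - ∑ e ∈ C, γ e * ((l e : ℤ) * y e) := by
        simp only [mul_sub, Finset.sum_sub_distrib, Pi.single_apply, mul_ite, mul_one, mul_zero,
          Finset.sum_ite_eq', Finset.mem_univ, if_true]
        congr 1
        symm
        apply Finset.sum_subset (Finset.subset_univ C)
        intro e _ he
        rw [hγC e he, zero_mul]
      rw [h3, hγe] at h1
      linarith
    have hdvd : ((C.gcd l : ℕ) : ℤ) ∣ 1 := by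
      rw [h2]
      apply Finset.dvd_sum
      intro e he
      have : ((C.gcd l : ℕ) : ℤ) ∣ (l e : ℤ) := Int.natCast_dvd_natCast.2 (Finset.gcd_dvd he)
      exact Dvd.dvd.mul_left (Dvd.dvd.mul_right this _) _
    have : C.gcd l ∣ 1 := by exact_mod_cast hdvd
    exact Nat.dvd_one.1 this

end Groth.Agent.S13758
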