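import Groth.Statements.S13759
import Groth.Agent.Lib.LabGraphBlowup

set_option autoImplicit false
universe u
open LabGraph

namespace Groth.Agent.S13759

/-- Let G be a finite connected multigraph with vertex set V, edge set E, endpoint map E → V × V and
positive integer edge labels l, and let G̃ be its total blow-up graph: every edge e is replaced by a
path of l(e) edges through l(e) − 1 new vertices, all new edges labelled 1 (so every vertex
labelling of G̃ is Cartier and its multidegree is the sum over edge-ends of the differences of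
values). Let H, resp. H̃, be the cokernel of the multidegree operator from Cartier vertex labellings
of G to ℤ^V, resp. of G̃ to ℤ^Ṽ, and ε : H → H̃ the map induced by extending vertex labellings of G
by zero on the new vertices. Then ε is injective: if a vertex labelling α of G, extended by zero, is
the multidegree of some vertex labelling of G̃, then α is the multidegree of some Cartier vertex
labelling of G. -/
theorem result
    {V E : Type u} [Fintype V] [Fintype E] [DecidableEq V] [DecidableEq E]
    (ends : E → V × V) (l : E → ℕ) (hl : ∀ e, 0 < l e) (hconn : LabGraph.Connected ends)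
    (α : V → ℤ) (ψ : LabGraph.BlVert V E l → ℤ)
    (hψ : ∀ w : LabGraph.BlVert V E l,
      LabGraph.mdeg (LabGraph.blEnds ends l) (fun _ => 1) ψ w = Sum.elim α (fun _ => (0 : ℤ)) w) :
    ∃ φ : V → ℤ, LabGraph.IsCartier ends l φ ∧ ∀ v : V, LabGraph.mdeg ends l φ v = α v := by
  open Groth.Agent.Lib.LabGraphBlowup in
  have hseq : ∀ e k, k ≤ l e → ψ (LabGraph.pathVert ends l e k) =
      ψ (LabGraph.pathVert ends l e 0) +
        (k : ℤ) * (ψ (LabGraph.pathVert ends l e 1) - ψ (LabGraph.pathVert ends l e 0)) := by
    intro e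
    have h := eq_tsol (fun k => ψ (LabGraph.pathVert ends l e k)) (fun _ => 0) (l e) (by
      intro k hk
      have h1 := hψ (Sum.inr ⟨e, ⟨k, by omega⟩⟩)
      rw [mdeg_bl_inr] at h1
      simpa using h1)
    intro k hk
    have h2 := h k hk
    rw [tsol_eq_zero_of_forall _ (l e) (fun _ _ => rfl) k hk, add_zero] at h2
    exact h2
  have hend : ∀ e, ψ (Sum.inl (ends e).2) - ψ (Sum.inl (ends e).1) =
      (l e : ℤ) * (ψ (LabGraph.pathVert ends l e 1) - ψ (LabGraph.pathVert ends l e 0)) := by
    intro e
    have h1 := hseq e (l e) le_rfl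
    rw [pathVert_of_le ends l e (l e) (hl e).ne' le_rfl, pathVert_zero] at h1
    rw [h1, pathVert_zero]
    ring
  have hl0 : ∀ e, (l e : ℤ) ≠ 0 := fun e => by exact_mod_cast (hl e).ne'
  refine ⟨fun v => ψ (Sum.inl v), ?_, ?_⟩
  · intro e
    show (l e : ℤ) ∣ ψ (Sum.inl (ends e).1) - ψ (Sum.inl (ends e).2)
    have := hend e
    exact ⟨-(ψ (LabGraph.pathVert ends l e 1) - ψ (LabGraph.pathVert ends l e 0)), by linarith⟩
  · intro v
    have h1 := hψ (Sum.inl v)
    rw [mdeg_bl_inl ends l hl] at h1
    simp only [Sum.elim_inl] at h1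
    rw [← h1]
    unfold LabGraph.mdeg
    refine Finset.sum_congr rfl fun e _ => ?_
    have h2 : ψ (Sum.inl (ends e).1) - ψ (Sum.inl (ends e).2) =
        (l e : ℤ) * -(ψ (LabGraph.pathVert ends l e 1) - ψ (LabGraph.pathVert ends l e 0)) := by
      have := hend e
      linarith
    have h3 : ψ (LabGraph.pathVert ends l e (l e - 1)) - ψ (LabGraph.pathVert ends l e (l e)) =
        -(ψ (LabGraph.pathVert ends l e 1) - ψ (LabGraph.pathVert ends l e 0)) := by
      rw [hseq e (l e - 1) (by omega), hseq e (l e) le_rfl, Nat.cast_pred (hl e)]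
      ring
    rw [hend e, h2, Int.mul_ediv_cancel_left _ (hl0 e), Int.mul_ediv_cancel_left _ (hl0 e), h3]

end Groth.Agent.S13759
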