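import Groth.Statements.S13760
import Groth.Agent.Lib.LabGraphBlowup

set_option autoImplicit false
universe u
open LabGraph

namespace Groth.Agent.S13760

/-- Let G be a finite connected multigraph with vertex set V, edge set E, endpoint map E → V × V and
positive integer edge labels l, let G̃ be its total blow-up graph (every edge e replaced by a path
of l(e) edges through l(e) − 1 new vertices, all labelled 1), and let ε : H → H̃ be the map from the
cokernel of the multidegree operator on Cartier vertex labellings of G to the cokernel of the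
multidegree operator on vertex labellings of G̃ induced by extension by zero. Then ε is surjective —
every vertex labelling β of G̃ can be corrected by the multidegree of a vertex labelling of G̃ so as
to vanish at all new vertices — if and only if G is circuit-coprime (the labels along every circuit
have greatest common divisor 1). (The published statement is 'ε is an isomorphism if and only if the
labelled graph is circuit-coprime'; injectivity of ε holds for every labelled graph, so the content
is the equivalence for surjectivity, stated here with the cokernels unpacked.) -/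
theorem result
    {V E : Type u} [Fintype V] [Fintype E] [DecidableEq V] [DecidableEq E]
    (ends : E → V × V) (l : E → ℕ) (hl : ∀ e, 0 < l e) (hconn : LabGraph.Connected ends) :
    (∀ β : LabGraph.BlVert V E l → ℤ, ∃ (ψ : LabGraph.BlVert V E l → ℤ) (α : V → ℤ),
        ∀ w : LabGraph.BlVert V E l,
          LabGraph.mdeg (LabGraph.blEnds ends l) (fun _ => 1) ψ w + β w = Sum.elim α (fun _ => (0 : ℤ)) w) ↔
      LabGraph.IsCircuitCoprime ends l := by
  open Groth.Agent.Lib.LabGraphBlowup Groth.Agent.Lib.LabGraphTree in
  constructor
  · -- surjectivity ⟹ circuit-coprime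
    intro H C hC
    obtain ⟨e₀, he₀⟩ := hC.1
    by_cases hl1 : l e₀ = 1
    · have h1 : C.gcd l ∣ l e₀ := Finset.gcd_dvd he₀
      rw [hl1] at h1
      exact Nat.dvd_one.1 h1
    have hl2 : 2 ≤ l e₀ := by
      have := hl e₀
      omega
    obtain ⟨γ, hγ0, hγe, hγC⟩ := exists_int_cycle_of_isCircuit ends C hC e₀ he₀
    set j₀ : Fin (l e₀ - 1) := ⟨l e₀ - 2, by omega⟩ with hj₀
    obtain ⟨ψ, α, hψ⟩ := H (fun w => if w = Sum.inr ⟨e₀, j₀⟩ then -1 else 0)
    -- the path sequences
    have hsec : ∀ e k, k + 2 ≤ l e →
        ψ (LabGraph.pathVert ends l e (k + 2)) - 2 * ψ (LabGraph.pathVert ends l e (k + 1)) +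
          ψ (LabGraph.pathVert ends l e k) =
        (fun m => if e = e₀ ∧ m = l e₀ - 1 then (1 : ℤ) else 0) (k + 1) := by
      intro e k hk
      have h1 := hψ (Sum.inr ⟨e, ⟨k, by omega⟩⟩)
      rw [mdeg_bl_inr] at h1
      simp only [Sum.elim_inr] at h1
      by_cases hee : e = e₀
      · subst hee
        by_cases hk' : k + 1 = l e - 1
        · have hjj : (⟨k, by omega⟩ : Fin (l e - 1)) = j₀ := by
            apply Fin.ext
            simp only [hj₀]
            omega
          rw [hjj, if_pos rfl] at h1
          show _ = (if e = e ∧ k + 1 = l e - 1 then (1 : ℤ) else 0)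
          rw [if_pos ⟨rfl, hk'⟩]
          linarith
        · have hjj : (Sum.inr ⟨e, ⟨k, by omega⟩⟩ : LabGraph.BlVert V E l) ≠ Sum.inr ⟨e, j₀⟩ := by
            intro h
            simp only [Sum.inr.injEq, Sigma.mk.injEq, heq_eq_eq, true_and] at h
            have := congrArg Fin.val h
            simp only [hj₀] at this
            omega
          rw [if_neg hjj] at h1
          show _ = (if e = e ∧ k + 1 = l e - 1 then (1 : ℤ) else 0)
          rw [if_neg (fun h => hk' h.2)]
          linarith
      · have hjj : (Sum.inr ⟨e, ⟨k, by omega⟩⟩ : LabGraph.BlVert V E l) ≠ Sum.inr ⟨e₀, j₀⟩ := by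
          intro h
          simp only [Sum.inr.injEq, Sigma.mk.injEq] at h
          exact hee h.1
        rw [if_neg hjj] at h1
        show _ = (if e = e₀ ∧ k + 1 = l e₀ - 1 then (1 : ℤ) else 0)
        rw [if_neg (fun h => hee h.1)]
        linarith
    have hdiff : ∀ e, ψ (Sum.inl (ends e).2) - ψ (Sum.inl (ends e).1) =
        (l e : ℤ) * (ψ (LabGraph.pathVert ends l e 1) - ψ (LabGraph.pathVert ends l e 0)) +
          (if e = e₀ then 1 else 0) := by
      intro e
      have h1 := eq_tsol (fun k => ψ (LabGraph.pathVert ends l e k))
        (fun m => if e = e₀ ∧ m = l e₀ - 1 then (1 : ℤ) else 0) (l e) (hsec e) (l e) le_rfl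
      rw [pathVert_of_le ends l e (l e) (hl e).ne' le_rfl, pathVert_zero] at h1
      rw [h1, pathVert_zero]
      have ht : tsol (fun m => if e = e₀ ∧ m = l e₀ - 1 then (1 : ℤ) else 0) (l e) =
          if e = e₀ then 1 else 0 := by
        by_cases hee : e = e₀
        · subst hee
          rw [if_pos rfl]
          set bb : ℕ → ℤ := fun m => if e = e ∧ m = l e - 1 then (1 : ℤ) else 0 with hbb
          have hz := tsol_eq_zero_of_forall bb (l e - 1) (fun k hk => by
              simp only [hbb, true_and]
              rw [if_neg (by omega)])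
          obtain ⟨n, hn⟩ : ∃ n, l e = n + 2 := ⟨l e - 2, by omega⟩
          have hbn : bb (n + 1) = 1 := by
            simp only [hbb, true_and]
            rw [if_pos (by omega)]
          rw [hn, tsol_add_two, hz (n + 1) (by omega), hz n (by omega), hbn]
          ring
        · rw [if_neg hee]
          exact tsol_eq_zero_of_forall _ (l e) (fun k _ => by simp only [hee, false_and, if_false])
            (l e) le_rfl
      rw [ht]
      ring
    -- pair with the cycle
    have hsum := sum_mul_coboundary ends γ (fun v => ψ (Sum.inl v))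
    rw [hγ0] at hsum
    simp only [Pi.zero_apply, mul_zero, Finset.sum_const_zero] at hsum
    simp only [hdiff] at hsum
    have h2 : (1 : ℤ) = -∑ e ∈ C, γ e * ((l e : ℤ) *
        (ψ (LabGraph.pathVert ends l e 1) - ψ (LabGraph.pathVert ends l e 0))) := by
      have h3 : ∑ e, γ e * ((l e : ℤ) *
          (ψ (LabGraph.pathVert ends l e 1) - ψ (LabGraph.pathVert ends l e 0)) +
            (if e = e₀ then 1 else 0)) =
          ∑ e ∈ C, γ e * ((l e : ℤ) *
            (ψ (LabGraph.pathVert ends l e 1) - ψ (LabGraph.pathVert ends l e 0))) + γ e₀ := by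
        simp only [mul_add, Finset.sum_add_distrib, mul_ite, mul_one, mul_zero,
          Finset.sum_ite_eq', Finset.mem_univ, if_true]
        congr 1
        symm
        apply Finset.sum_subset (Finset.subset_univ C)
        intro e _ he
        rw [hγC e he, zero_mul]
      rw [h3, hγe] at hsum
      linarith
    have hdvd : ((C.gcd l : ℕ) : ℤ) ∣ 1 := by
      rw [h2, dvd_neg]
      apply Finset.dvd_sum
      intro e he
      have : ((C.gcd l : ℕ) : ℤ) ∣ (l e : ℤ) := Int.natCast_dvd_natCast.2 (Finset.gcd_dvd he)
      exact Dvd.dvd.mul_left (Dvd.dvd.mul_right this _) _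
    have : C.gcd l ∣ 1 := by exact_mod_cast hdvd
    exact Nat.dvd_one.1 this
  · -- circuit-coprime ⟹ surjectivity
    intro hc β
    -- second differences prescribed by β
    set b : E → ℕ → ℤ := fun e k =>
      if h : 0 < k ∧ k < l e then -β (Sum.inr ⟨e, ⟨k - 1, by omega⟩⟩) else 0 with hb
    obtain ⟨y, φ, hyφ⟩ := exists_decomp_of_isCircuitCoprime ends l hc (fun e => tsol (b e) (l e))
    set a : E → ℕ → ℤ := fun e k => φ (ends e).1 + (k : ℤ) * (-y e) + tsol (b e) k with ha
    have ha0 : ∀ e, a e 0 = φ (ends e).1 := fun e => by simp [ha, tsol_zero]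
    have hal : ∀ e, a e (l e) = φ (ends e).2 := fun e => by
      have := hyφ e
      simp only [ha]
      linarith
    set ψ : LabGraph.BlVert V E l → ℤ := Sum.elim φ (fun p => a p.1 (p.2.val + 1)) with hψdef
    have hψP : ∀ e k, k ≤ l e → ψ (LabGraph.pathVert ends l e k) = a e k := by
      intro e k hk
      unfold LabGraph.pathVert
      split_ifs with h0 h1
      · rw [h0, hψdef, Sum.elim_inl, ha0]
      · rw [hψdef, Sum.elim_inr]
        have : k - 1 + 1 = k := by omega
        simp only [this]
      · have : k = l e := by omega
        rw [this, hψdef, Sum.elim_inl, hal]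
    refine ⟨ψ, fun v => LabGraph.mdeg (LabGraph.blEnds ends l) (fun _ => 1) ψ (Sum.inl v) +
      β (Sum.inl v), ?_⟩
    rintro (v | ⟨e, j⟩)
    · rfl
    · rw [mdeg_bl_inr, Sum.elim_inr]
      have hj := j.2
      rw [hψP e (j.val + 2) (by omega), hψP e (j.val + 1) (by omega), hψP e j.val (by omega)]
      simp only [ha]
      rw [tsol_add_two]
      have hbj : b e (j.val + 1) = -β (Sum.inr ⟨e, j⟩) := by
        simp only [hb]
        rw [dif_pos ⟨by omega, by omega⟩]
        rfl
      rw [hbj]
      push_cast
      ring

end Groth.Agent.S13760
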