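import Groth.Statements.S13779
import Groth.Agent.S13773

set_option autoImplicit false
universe u v
open PLie

namespace Groth.Agent.S13779

/-- eigenvector powers. -/
theorem pow_eigen {R : Type*} [CommRing R] {M : Type*} [AddCommGroup M] [Module R M]
    (E : Module.End R M) (z : M) (t : R) (h : E z = t • z) (m : ℕ) : (E ^ m) z = t ^ m • z := by
  induction m with
  | zero => simp
  | succ m ih => rw [pow_succ, Module.End.mul_apply, h, map_smul, ih, smul_smul, pow_succ, mul_comm]

/-- square-zero endomorphisms have vanishing `p`-th power. -/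
theorem pow_eq_zero_of_sq {R : Type*} [CommRing R] {M : Type*} [AddCommGroup M] [Module R M]
    (E : Module.End R M) (h : E ^ 2 = 0) (p : ℕ) (hp : 2 ≤ p) : E ^ p = 0 := by
  obtain ⟨k, rfl⟩ := Nat.exists_eq_add_of_le hp
  rw [pow_add, h, zero_mul]


/-- Let p be an odd prime, R a commutative ring of characteristic p, t ∈ R, and L a Lie algebra over R,
free as a module with basis x = bs 0, y = bs 1, z = bs 2 and brackets [x,y] = z, [x,z] = t • y,
[y,z] = 0. Then L carries a p-mapping φ with φ x = t ^ ((p - 1) / 2) • x, φ y = 0 and φ z = 0. (The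
published statement concerns the Lie algebra with these brackets over a field of Laurent series
k((t)), k algebraically closed of odd characteristic, t the variable; this row states its
restrictability over every commutative ring of odd prime characteristic and every t.) -/
theorem result (R : Type u) [CommRing R] (p : ℕ) [Fact p.Prime] [CharP R p] (hp : p ≠ 2)
    (t : R) (L : Type v) [LieRing L] [LieAlgebra R L] (bs : Module.Basis (Fin 3) R L)
    (hxy : ⁅bs 0, bs 1⁆ = bs 2) (hxz : ⁅bs 0, bs 2⁆ = t • bs 1) (hyz : ⁅bs 1, bs 2⁆ = 0) :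
    ∃ φ : PLie.PMap R p L, φ (bs 0) = t ^ ((p - 1) / 2) • bs 0 ∧ φ (bs 1) = 0 ∧ φ (bs 2) = 0 := by
  have hpp : p.Prime := Fact.out
  have hodd : p = 2 * ((p - 1) / 2) + 1 := by
    have := hpp.eq_one_or_self_of_dvd 2
    rcases Nat.even_or_odd p with he | ho
    · exfalso
      rcases this he.two_dvd with h | h
      · omega
      · exact hp h.symm
    · obtain ⟨k, hk⟩ := ho
      omega
  have hyx : ⁅bs 1, bs 0⁆ = -bs 2 := by rw [← lie_skew, hxy]
  have hzx : ⁅bs 2, bs 0⁆ = -(t • bs 1) := by rw [← lie_skew, hxz]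
  have hzy : ⁅bs 2, bs 1⁆ = 0 := by rw [← lie_skew, hyz, neg_zero]
  set m := (p - 1) / 2 with hm
  let Y : Fin 3 → L := ![t ^ m • bs 0, 0, 0]
  have hY : ∀ i : Fin 3, LieAlgebra.ad R L (bs i) ^ p = LieAlgebra.ad R L (Y i) := by
    intro i
    fin_cases i
    · -- x
      show LieAlgebra.ad R L (bs 0) ^ p = LieAlgebra.ad R L (t ^ m • bs 0)
      have h2y : (LieAlgebra.ad R L (bs 0) ^ 2) (bs 1) = t • bs 1 := by
        rw [pow_two, Module.End.mul_apply, LieAlgebra.ad_apply, LieAlgebra.ad_apply, hxy, hxz]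
      have h2z : (LieAlgebra.ad R L (bs 0) ^ 2) (bs 2) = t • bs 2 := by
        rw [pow_two, Module.End.mul_apply, LieAlgebra.ad_apply, LieAlgebra.ad_apply, hxz, lie_smul,
          hxy]
      have hpow : LieAlgebra.ad R L (bs 0) ^ p =
          (LieAlgebra.ad R L (bs 0) ^ 2) ^ m * LieAlgebra.ad R L (bs 0) := by
        conv_lhs => rw [hodd]
        rw [pow_succ, pow_mul]
      rw [hpow]
      apply bs.ext
      intro j
      fin_cases j
      · show ((LieAlgebra.ad R L (bs 0) ^ 2) ^ m * LieAlgebra.ad R L (bs 0)) (bs 0) =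
          LieAlgebra.ad R L (t ^ m • bs 0) (bs 0)
        rw [Module.End.mul_apply, LieAlgebra.ad_apply, lie_self, map_zero, LieAlgebra.ad_apply,
          smul_lie, lie_self, smul_zero]
      · show ((LieAlgebra.ad R L (bs 0) ^ 2) ^ m * LieAlgebra.ad R L (bs 0)) (bs 1) =
          LieAlgebra.ad R L (t ^ m • bs 0) (bs 1)
        rw [Module.End.mul_apply, LieAlgebra.ad_apply, hxy, pow_eigen _ _ _ h2z, LieAlgebra.ad_apply,
          smul_lie, hxy]
      · show ((LieAlgebra.ad R L (bs 0) ^ 2) ^ m * LieAlgebra.ad R L (bs 0)) (bs 2) =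
          LieAlgebra.ad R L (t ^ m • bs 0) (bs 2)
        rw [Module.End.mul_apply, LieAlgebra.ad_apply, hxz, map_smul, pow_eigen _ _ _ h2y,
          LieAlgebra.ad_apply, smul_lie, hxz, smul_comm]
    · -- y
      show LieAlgebra.ad R L (bs 1) ^ p = LieAlgebra.ad R L 0
      rw [map_zero]
      apply pow_eq_zero_of_sq _ _ p hpp.two_le
      apply bs.ext
      intro j
      fin_cases j <;>
        simp only [pow_two, Module.End.mul_apply, LieAlgebra.ad_apply, hyx, hyz, lie_self, lie_neg,
          lie_zero, neg_zero, LinearMap.zero_apply, Fin.zero_eta, Fin.mk_one, Fin.reduceFinMk]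
    · -- z
      show LieAlgebra.ad R L (bs 2) ^ p = LieAlgebra.ad R L 0
      rw [map_zero]
      apply pow_eq_zero_of_sq _ _ p hpp.two_le
      apply bs.ext
      intro j
      fin_cases j <;>
        simp only [pow_two, Module.End.mul_apply, LieAlgebra.ad_apply, hzx, hzy, lie_self, lie_neg,
          lie_smul, smul_zero, lie_zero, neg_zero, LinearMap.zero_apply, Fin.zero_eta, Fin.mk_one,
          Fin.reduceFinMk]
  obtain ⟨φ, hφ⟩ := S13773.exists_pmap bs Y hY
  exact ⟨φ, hφ 0, hφ 1, hφ 2⟩

end Groth.Agent.S13779
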