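import Groth.Statements.S13776
import Groth.Agent.S13773
import Groth.Agent.S13779

set_option autoImplicit false
universe u v
open PLie

namespace Groth.Agent.S13776
open Groth.Agent.S13779 (pow_eigen pow_eq_zero_of_sq)


/-- Let R be a commutative ring of prime characteristic p, t ∈ R, and L a Lie algebra over R, free as a
module with basis x = bs 0, y = bs 1, z = bs 2 and brackets [x,y] = y, [x,z] = t • z, [y,z] = 0.
Then L carries a p-mapping if and only if t ^ p = t. (The published statement is the corresponding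
entry of the classification table over an algebraically closed field of characteristic p, where the
condition reads: t lies in the prime field; this row states it over every commutative ring of
characteristic p.) -/
theorem result (R : Type u) [CommRing R] (p : ℕ) [Fact p.Prime] [CharP R p] (t : R)
    (L : Type v) [LieRing L] [LieAlgebra R L] (bs : Module.Basis (Fin 3) R L)
    (hxy : ⁅bs 0, bs 1⁆ = bs 1) (hxz : ⁅bs 0, bs 2⁆ = t • bs 2) (hyz : ⁅bs 1, bs 2⁆ = 0) :
    Nonempty (PLie.PMap R p L) ↔ t ^ p = t := by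
  have hpp : p.Prime := Fact.out
  have hyx : ⁅bs 1, bs 0⁆ = -bs 1 := by rw [← lie_skew, hxy]
  have hzx : ⁅bs 2, bs 0⁆ = -(t • bs 2) := by rw [← lie_skew, hxz]
  have hzy : ⁅bs 2, bs 1⁆ = 0 := by rw [← lie_skew, hyz, neg_zero]
  have hey : LieAlgebra.ad R L (bs 0) (bs 1) = (1 : R) • bs 1 := by
    rw [LieAlgebra.ad_apply, hxy, one_smul]
  have hez : LieAlgebra.ad R L (bs 0) (bs 2) = t • bs 2 := by
    rw [LieAlgebra.ad_apply, hxz]
  constructor
  · rintro ⟨φ⟩
    set w := φ (bs 0) with hw
    have h1 : ⁅w, bs 1⁆ = bs 1 := by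
      rw [← LieAlgebra.ad_apply (R := R), hw, φ.ad_map, pow_eigen _ _ _ hey, one_pow, one_smul]
    have h2 : ⁅w, bs 2⁆ = t ^ p • bs 2 := by
      rw [← LieAlgebra.ad_apply (R := R), hw, φ.ad_map, pow_eigen _ _ _ hez]
    have hrep : w = bs.repr w 0 • bs 0 + bs.repr w 1 • bs 1 + bs.repr w 2 • bs 2 := by
      conv_lhs => rw [← bs.sum_repr w, Fin.sum_univ_three]
    rw [hrep] at h1 h2
    simp only [add_lie, smul_lie, hxy, hxz, hyz, hzy, lie_self, smul_zero, add_zero] at h1 h2
    have e1 := congrArg (fun v => bs.repr v 1) h1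
    have e2 := congrArg (fun v => bs.repr v 2) h2
    simp at e1 e2
    rw [e1, one_mul] at e2
    exact e2.symm
  · intro ht
    let Y : Fin 3 → L := ![bs 0, 0, 0]
    have hY : ∀ i : Fin 3, LieAlgebra.ad R L (bs i) ^ p = LieAlgebra.ad R L (Y i) := by
      intro i
      fin_cases i
      · show LieAlgebra.ad R L (bs 0) ^ p = LieAlgebra.ad R L (bs 0)
        apply bs.ext
        intro j
        fin_cases j
        · show (LieAlgebra.ad R L (bs 0) ^ p) (bs 0) = LieAlgebra.ad R L (bs 0) (bs 0)
          have : p = (p - 1) + 1 := (Nat.sub_add_cancel hpp.one_le).symm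
          rw [this, pow_succ, Module.End.mul_apply, LieAlgebra.ad_apply, lie_self, map_zero]
        · show (LieAlgebra.ad R L (bs 0) ^ p) (bs 1) = LieAlgebra.ad R L (bs 0) (bs 1)
          rw [pow_eigen _ _ _ hey, one_pow, hey]
        · show (LieAlgebra.ad R L (bs 0) ^ p) (bs 2) = LieAlgebra.ad R L (bs 0) (bs 2)
          rw [pow_eigen _ _ _ hez, ht, hez]
      · show LieAlgebra.ad R L (bs 1) ^ p = LieAlgebra.ad R L 0
        rw [map_zero]
        apply pow_eq_zero_of_sq _ _ p hpp.two_le
        apply bs.ext
        intro j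
        fin_cases j <;>
          simp only [pow_two, Module.End.mul_apply, LieAlgebra.ad_apply, hyx, hyz, lie_self, lie_neg,
            lie_zero, neg_zero, LinearMap.zero_apply, Fin.zero_eta, Fin.mk_one, Fin.reduceFinMk]
      · show LieAlgebra.ad R L (bs 2) ^ p = LieAlgebra.ad R L 0
        rw [map_zero]
        apply pow_eq_zero_of_sq _ _ p hpp.two_le
        apply bs.ext
        intro j
        fin_cases j <;>
          simp only [pow_two, Module.End.mul_apply, LieAlgebra.ad_apply, hzx, hzy, lie_self, lie_neg,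
            lie_smul, smul_zero, lie_zero, neg_zero, LinearMap.zero_apply, Fin.zero_eta, Fin.mk_one,
            Fin.reduceFinMk]
    obtain ⟨φ, -⟩ := S13773.exists_pmap bs Y hY
    exact ⟨φ⟩

end Groth.Agent.S13776
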