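import Groth.Statements.S13778
import Groth.Agent.Lib.PLieMat58

set_option autoImplicit false
universe u v
open PLie

namespace Groth.Agent.S13778

open DualNumber Groth.Agent.Lib.PLieMat58

section Aux

variable {K : Type u} [Field K] {L : Type v} [LieRing L] [LieAlgebra (DualNumber K) L]
  (bs : Module.Basis (Fin 3) (DualNumber K) L)

theorem repr_comb (r0 r1 r2 : DualNumber K) (i : Fin 3) :
    bs.repr (r0 • bs 0 + r1 • bs 1 + r2 • bs 2) i = ![r0, r1, r2] i := by
  simp only [map_add, map_smul, Module.Basis.repr_self, Finsupp.add_apply, Finsupp.smul_apply,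
    Finsupp.single_apply, smul_eq_mul]
  fin_cases i <;> simp

@[simp] theorem fst_algMap (t : K) : TrivSqZeroExt.fst (algebraMap K (DualNumber K) t) = t := rfl

@[simp] theorem snd_algMap (t : K) : TrivSqZeroExt.snd (algebraMap K (DualNumber K) t) = 0 := rfl

variable (t a b c d e f g h i : K)

/-- The matrix of `ad x`. -/
def MX : Matrix (Fin 3) (Fin 3) (DualNumber K) :=
  !![0, a • ε, d • ε; 0, 1 + b • ε, e • ε; 0, c • ε, algebraMap K (DualNumber K) t + f • ε]

/-- The matrix of `ad y`. -/
def MY : Matrix (Fin 3) (Fin 3) (DualNumber K) :=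
  !![-(a • ε), 0, g • ε; -(1 + b • ε), 0, h • ε; -(c • ε), 0, i • ε]

/-- The matrix of `ad z`. -/
def MZ : Matrix (Fin 3) (Fin 3) (DualNumber K) :=
  !![-(d • ε), -(g • ε), 0; -(e • ε), -(h • ε), 0;
    -(algebraMap K (DualNumber K) t + f • ε), -(i • ε), 0]

variable {t a b c d e f g h i}
variable
    (hxy : ⁅bs 0, bs 1⁆ = (a • ε : DualNumber K) • bs 0 + (1 + b • ε : DualNumber K) • bs 1 + (c • ε : DualNumber K) • bs 2)
    (hxz : ⁅bs 0, bs 2⁆ = (d • ε : DualNumber K) • bs 0 + (e • ε : DualNumber K) • bs 1 +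
      (algebraMap K (DualNumber K) t + f • ε) • bs 2)
    (hyz : ⁅bs 1, bs 2⁆ = (g • ε : DualNumber K) • bs 0 + (h • ε : DualNumber K) • bs 1 + (i • ε : DualNumber K) • bs 2)

include hxy hxz in
theorem adM_x : adM bs (bs 0) = MX t a b c d e f := by
  apply Matrix.ext
  intro r s
  rw [adM_apply]
  fin_cases s
  · show bs.repr ⁅bs 0, bs 0⁆ r = _
    rw [lie_self, map_zero]
    fin_cases r <;> simp [MX]
  · show bs.repr ⁅bs 0, bs 1⁆ r = _
    rw [hxy, repr_comb]
    fin_cases r <;> simp [MX]
  · show bs.repr ⁅bs 0, bs 2⁆ r = _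
    rw [hxz, repr_comb]
    fin_cases r <;> simp [MX]

include hxy hyz in
theorem adM_y : adM bs (bs 1) = MY a b c g h i := by
  apply Matrix.ext
  intro r s
  rw [adM_apply]
  fin_cases s
  · show bs.repr ⁅bs 1, bs 0⁆ r = _
    rw [← lie_skew, hxy, map_neg, Finsupp.neg_apply, repr_comb]
    fin_cases r <;> simp [MY]
  · show bs.repr ⁅bs 1, bs 1⁆ r = _
    rw [lie_self, map_zero]
    fin_cases r <;> simp [MY]
  · show bs.repr ⁅bs 1, bs 2⁆ r = _
    rw [hyz, repr_comb]
    fin_cases r <;> simp [MY]

include hxz hyz in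
theorem adM_z : adM bs (bs 2) = MZ t d e f g h i := by
  apply Matrix.ext
  intro r s
  rw [adM_apply]
  fin_cases s
  · show bs.repr ⁅bs 2, bs 0⁆ r = _
    rw [← lie_skew, hxz, map_neg, Finsupp.neg_apply, repr_comb]
    fin_cases r <;> simp [MZ]
  · show bs.repr ⁅bs 2, bs 1⁆ r = _
    rw [← lie_skew, hyz, map_neg, Finsupp.neg_apply, repr_comb]
    fin_cases r <;> simp [MZ]
  · show bs.repr ⁅bs 2, bs 2⁆ r = _
    rw [lie_self, map_zero]
    fin_cases r <;> simp [MZ]

include hxy hxz hyz in
/-- The Jacobi identity forces `d = t h`. -/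
theorem jacobi_d : d = t * h := by
  have key := leibniz_lie (bs 0) (bs 1) (bs 2)
  rw [hyz, hxy, hxz] at key
  simp only [lie_add, lie_smul, add_lie, smul_lie, lie_self, smul_zero, add_zero, zero_add] at key
  have e10 : ⁅bs 1, bs 0⁆ = -⁅bs 0, bs 1⁆ := (lie_skew (bs 1) (bs 0)).symm
  rw [e10, hxy, hxz, hyz] at key
  have h0 := congrArg (fun v => bs.repr v 1) key
  simp only [map_add, map_smul, map_neg, Module.Basis.repr_self, Finsupp.add_apply,
    Finsupp.smul_apply, Finsupp.neg_apply, Finsupp.single_apply, smul_eq_mul] at h0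
  have h1 := congrArg TrivSqZeroExt.snd h0
  simp at h1
  linear_combination -h1

end Aux

section Mat

variable {K : Type u} [Field K] (t a b c d e f g h i : K)

/-- The geometric sum `1 + t + ⋯ + t^(m-1)`. -/
def sg (m : ℕ) : K := ∑ j ∈ Finset.range m, t ^ j

theorem sg_succ (m : ℕ) : sg t (m + 1) = sg t m + t ^ m := Finset.sum_range_succ _ _

theorem sg_succ' (m : ℕ) : sg t (m + 1) = t * sg t m + 1 := by
  unfold sg
  rw [geom_sum_succ, mul_comm]

theorem MX_pow (n : ℕ) : MX t a b c d e f ^ (n + 1) =
    !![0, a • ε, (d * t ^ n) • ε;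
      0, 1 + (((n + 1 : ℕ) : K) * b) • ε, (e * sg t (n + 1)) • ε;
      0, (c * sg t (n + 1)) • ε,
        algebraMap K (DualNumber K) (t ^ (n + 1)) + (((n + 1 : ℕ) : K) * t ^ n * f) • ε] := by
  induction n with
  | zero =>
    rw [zero_add, pow_one]
    ext r s <;> fin_cases r <;> fin_cases s <;> simp [MX, sg]
  | succ n ih =>
    rw [pow_succ, ih]
    have h1 := sg_succ t (n + 1)
    have h2 := sg_succ' t (n + 1)
    ext r s <;> fin_cases r <;> fin_cases s <;>
      simp [MX, Matrix.mul_apply, Fin.sum_univ_three]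
    all_goals first | ring1 | (rw [h2]; ring1) | (rw [h1]; ring1)

theorem sg_mul (m : ℕ) : (t - 1) * sg t m = t ^ m - 1 := mul_geom_sum t m

theorem MX_pow_p {p : ℕ} (hp : p.Prime) [CharP K p] (ht : t ^ p = t) (hd : d = t * h) :
    MX t a b c d e f ^ p =
      !![0, a • ε, d • ε; 0, 1, (e * sg t p) • ε;
        0, (c * sg t p) • ε, algebraMap K (DualNumber K) t] := by
  obtain ⟨n, rfl⟩ : ∃ n, p = n + 1 := ⟨p - 1, by have := hp.pos; omega⟩
  rw [MX_pow, ht]
  have h0 : ((n + 1 : ℕ) : K) = 0 := CharP.cast_eq_zero K (n + 1)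
  have h1 : d * t ^ n = d := by
    rw [hd, mul_comm t h, mul_assoc, ← pow_succ', ht]
  rw [h0, h1]
  simp

theorem MY_sq : MY a b c g h i * MY a b c g h i =
    !![0, 0, 0; a • ε, 0, -(g • ε); 0, 0, 0] := by
  ext r s <;> fin_cases r <;> fin_cases s <;>
    simp [MY, Matrix.mul_apply, Fin.sum_univ_three]

theorem MY_cube : MY a b c g h i * MY a b c g h i * MY a b c g h i = 0 := by
  rw [MY_sq]
  ext r s <;> fin_cases r <;> fin_cases s <;>
    simp [MY, Matrix.mul_apply, Fin.sum_univ_three]

theorem MZ_sq : MZ t d e f g h i * MZ t d e f g h i =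
    !![0, 0, 0; 0, 0, 0; (t * d) • ε, (t * g) • ε, 0] := by
  ext r s <;> fin_cases r <;> fin_cases s <;>
    simp [MZ, Matrix.mul_apply, Fin.sum_univ_three, mul_comm]

theorem MZ_cube : MZ t d e f g h i * MZ t d e f g h i * MZ t d e f g h i = 0 := by
  rw [MZ_sq]
  ext r s <;> fin_cases r <;> fin_cases s <;>
    simp [MZ, Matrix.mul_apply, Fin.sum_univ_three]

theorem pow_eq_zero_of_cube {M : Matrix (Fin 3) (Fin 3) (DualNumber K)} (hM : M * M * M = 0)
    {p : ℕ} (hp : 3 ≤ p) : M ^ p = 0 := by
  obtain ⟨q, rfl⟩ : ∃ q, p = 3 + q := ⟨p - 3, by omega⟩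
  rw [pow_add]
  have : M ^ 3 = M * M * M := by
    rw [pow_succ, pow_two]
  rw [this, hM, zero_mul]

end Mat


open DualNumber in
/-- Let K be a field of prime characteristic p, K[ε] the ring of dual numbers (taken with its
characteristic-p structure), t ∈ K with t ^ p = t (an element of the prime field), and a, …, i ∈ K.
Let L be a Lie algebra over K[ε], free as a module with basis x = bs 0, y = bs 1, z = bs 2 and
brackets [x,y] = aε x + (1 + bε) y + cε z, [x,z] = dε x + eε y + (t + fε) z, [y,z] = gε x + hε y +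
iε z. Then L carries a p-mapping over K[ε] if and only if b t = f, c = e = 0 when t = 1, and g = 0
when p = 2. (The published statement determines the singular locus of the restrictable locus in the
centreless stratum of the moduli scheme of based three-dimensional Lie algebras, for t non-zero, and
the rank-one-centre stratum treats t = 0; this row states the restrictability criterion for the
first-order deformations of l_t that the proofs compute, over any field of characteristic p in place
of the prime field and for every t in the prime field.) -/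
theorem result (K : Type u) [Field K] (p : ℕ) [Fact p.Prime] [CharP K p]
    [CharP (DualNumber K) p] (t a b c d e f g h i : K) (ht : t ^ p = t)
    (L : Type v) [LieRing L] [LieAlgebra (DualNumber K) L] (bs : Module.Basis (Fin 3) (DualNumber K) L)
    (hxy : ⁅bs 0, bs 1⁆ = (a • ε : DualNumber K) • bs 0 + (1 + b • ε : DualNumber K) • bs 1 + (c • ε : DualNumber K) • bs 2)
    (hxz : ⁅bs 0, bs 2⁆ = (d • ε : DualNumber K) • bs 0 + (e • ε : DualNumber K) • bs 1 +
      (algebraMap K (DualNumber K) t + f • ε) • bs 2)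
    (hyz : ⁅bs 1, bs 2⁆ = (g • ε : DualNumber K) • bs 0 + (h • ε : DualNumber K) • bs 1 + (i • ε : DualNumber K) • bs 2) :
    Nonempty (PLie.PMap (DualNumber K) p L) ↔ (b * t = f ∧ (t = 1 → c = 0 ∧ e = 0) ∧ (p = 2 → g = 0)) := by
  rw [nonempty_pmap_iff bs]
  have hX := adM_x bs hxy hxz
  have hY := adM_y bs hxy hyz
  have hZ := adM_z bs hxz hyz
  have hd := jacobi_d bs hxy hxz hyz
  have hp : p.Prime := Fact.out
  have hXp := MX_pow_p t a b c d e f h hp ht hd
  have hsg := sg_mul t p
  rw [ht] at hsg
  constructor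
  · intro H
    obtain ⟨w, hw⟩ := H 0
    rw [Fin.sum_univ_three, hX, hY, hZ, hXp] at hw
    have E : ∀ r s, (!![0, a • ε, d • ε; 0, 1, (e * sg t p) • ε;
        0, (c * sg t p) • ε, algebraMap K (DualNumber K) t] :
        Matrix (Fin 3) (Fin 3) (DualNumber K)) r s =
        w 0 * MX t a b c d e f r s + w 1 * MY a b c g h i r s + w 2 * MZ t d e f g h i r s := by
      intro r s
      have := congrFun (congrFun hw r) s
      simpa [Matrix.add_apply, Matrix.smul_apply] using this
    have e11f := congrArg TrivSqZeroExt.fst (E 1 1)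
    have e11s := congrArg TrivSqZeroExt.snd (E 1 1)
    have e10f := congrArg TrivSqZeroExt.fst (E 1 0)
    have e20f := congrArg TrivSqZeroExt.fst (E 2 0)
    have e22s := congrArg TrivSqZeroExt.snd (E 2 2)
    have e12s := congrArg TrivSqZeroExt.snd (E 1 2)
    have e21s := congrArg TrivSqZeroExt.snd (E 2 1)
    simp [MX, MY, MZ] at e11f e11s e10f e20f e22s e12s e21s
    have hα2t : TrivSqZeroExt.fst (w 2) * t = 0 := by
      rcases e20f with h0 | h0
      · rw [h0, zero_mul]
      · rw [h0, mul_zero]
    rw [← e11f] at e11s e22s e12s e21s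
    rw [e10f] at e22s e12s
    refine ⟨?_, ?_, ?_⟩
    · linear_combination (-t) * e11s + e22s + h * hα2t
    · intro ht1
      subst ht1
      have hs0 : sg (1 : K) p = 0 := by
        unfold sg
        simp [CharP.cast_eq_zero]
      rw [hs0] at e12s e21s
      have hα2 : TrivSqZeroExt.fst (w 2) = 0 := by
        rcases e20f with h0 | h0
        · exact h0
        · exact absurd h0 one_ne_zero
      rw [hα2] at e21s
      constructor
      · linear_combination -e21s
      · linear_combination -e12s
    · intro hp2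
      subst hp2
      obtain ⟨w', hw'⟩ := H 1
      rw [Fin.sum_univ_three, hX, hY, hZ, pow_two, MY_sq] at hw'
      have E' : ∀ r s, (!![0, 0, 0; a • ε, 0, -(g • ε); 0, 0, 0] :
          Matrix (Fin 3) (Fin 3) (DualNumber K)) r s =
          w' 0 * MX t a b c d e f r s + w' 1 * MY a b c g h i r s +
            w' 2 * MZ t d e f g h i r s := by
        intro r s
        have := congrFun (congrFun hw' r) s
        simpa [Matrix.add_apply, Matrix.smul_apply] using this
      have f11 := congrArg TrivSqZeroExt.fst (E' 1 1)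
      have f10 := congrArg TrivSqZeroExt.fst (E' 1 0)
      have s12 := congrArg TrivSqZeroExt.snd (E' 1 2)
      simp [MX, MY, MZ] at f11 f10 s12
      rw [← f11, f10] at s12
      simpa using s12
  · rintro ⟨hbt, h1, h2⟩
    have he : e * sg t p = e := by
      by_cases ht1 : t = 1
      · rw [(h1 ht1).2, zero_mul]
      · have : sg t p = 1 := by
          have hne : t - 1 ≠ 0 := sub_ne_zero.mpr ht1
          apply mul_left_cancel₀ hne
          rw [hsg, mul_one]
        rw [this, mul_one]
    have hc : c * sg t p = c := by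
      by_cases ht1 : t = 1
      · rw [(h1 ht1).1, zero_mul]
      · have : sg t p = 1 := by
          have hne : t - 1 ≠ 0 := sub_ne_zero.mpr ht1
          apply mul_left_cancel₀ hne
          rw [hsg, mul_one]
        rw [this, mul_one]
    rw [he, hc] at hXp
    intro j
    fin_cases j
    · refine ⟨![1 - b • ε, 0, 0], ?_⟩
      show adM bs (bs 0) ^ p = _
      rw [Fin.sum_univ_three, hX, hY, hZ, hXp]
      ext r s <;> fin_cases r <;> fin_cases s <;> simp [MX, MY, MZ]
      linear_combination hbt
    · by_cases hp2 : p = 2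
      · have hg := h2 hp2
        subst hp2 hg
        refine ⟨![0, -(a • ε), 0], ?_⟩
        show adM bs (bs 1) ^ 2 = _
        rw [Fin.sum_univ_three, hX, hY, hZ, pow_two, MY_sq]
        ext r s <;> fin_cases r <;> fin_cases s <;> simp [MX, MY, MZ]
      · have hp3 : 3 ≤ p := by
          have := hp.two_le
          omega
        refine ⟨fun _ => 0, ?_⟩
        show adM bs (bs 1) ^ p = _
        rw [hY, pow_eq_zero_of_cube (MY_cube a b c g h i) hp3]
        simp
    · by_cases hp2 : p = 2
      · have hg := h2 hp2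
        subst hp2 hg
        refine ⟨![0, 0, -(d • ε)], ?_⟩
        show adM bs (bs 2) ^ 2 = _
        rw [Fin.sum_univ_three, hX, hY, hZ, pow_two, MZ_sq]
        ext r s <;> fin_cases r <;> fin_cases s <;> simp [MX, MY, MZ, mul_comm]
      · have hp3 : 3 ≤ p := by
          have := hp.two_le
          omega
        refine ⟨fun _ => 0, ?_⟩
        show adM bs (bs 2) ^ p = _
        rw [hZ, pow_eq_zero_of_cube (MZ_cube t d e f g h i) hp3]
        simp

end Groth.Agent.S13778
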