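import Groth.Statements.S13780
-- no extra imports

set_option autoImplicit false
universe u v w
open PLie

namespace Groth.Agent.S13780


/-- Let R be a commutative ring of prime characteristic p, L and L' Lie algebras over R with p-mappings
γ and γ', the centre of L' being zero, and φ : L ≃ L' an isomorphism of Lie algebras over R. Then φ
(γ x) = γ' (φ x) for every x: φ is an isomorphism of p-Lie algebras. (The published statement is the
case L' = L of a centreless restrictable Lie algebra over a field with its unique p-mapping and a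
Lie algebra automorphism; this row allows two algebras and any commutative base ring of
characteristic p.) -/
theorem result (R : Type u) [CommRing R] (p : ℕ) [Fact p.Prime] [CharP R p]
    (L : Type v) [LieRing L] [LieAlgebra R L] (L' : Type w) [LieRing L'] [LieAlgebra R L']
    (γ : PLie.PMap R p L) (γ' : PLie.PMap R p L') (hZ : LieAlgebra.center R L' = ⊥) (φ : L ≃ₗ⁅R⁆ L') :
    PLie.IsPHom γ γ' φ.toLieHom := by
  intro x
  change φ (γ x) = γ' (φ x)
  have hpow : ∀ (n : ℕ) (w : L), φ ((LieAlgebra.ad R L x ^ n) w) = (LieAlgebra.ad R L' (φ x) ^ n) (φ w) := by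
    intro n
    induction n with
    | zero => intro w; simp
    | succ n ih =>
      intro w
      rw [pow_succ, pow_succ, Module.End.mul_apply, Module.End.mul_apply, ih]
      congr 1
      simp only [LieAlgebra.ad_apply]
      exact LieEquiv.map_lie φ x w
  have hcen : φ (γ x) - γ' (φ x) ∈ LieAlgebra.center R L' := by
    rw [LieModule.mem_maxTrivSubmodule]
    intro z
    rw [lie_sub, sub_eq_zero, ← lie_skew z _, ← lie_skew z _]
    congr 1
    have h1 : ⁅γ' (φ x), z⁆ = (LieAlgebra.ad R L' (φ x) ^ p) z := by
      rw [← γ'.ad_map]; rfl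
    have h2 : ⁅φ (γ x), z⁆ = (LieAlgebra.ad R L' (φ x) ^ p) z := by
      have hz : z = φ (φ.symm z) := (φ.apply_symm_apply z).symm
      have h3 : ⁅γ x, φ.symm z⁆ = (LieAlgebra.ad R L x ^ p) (φ.symm z) := by
        rw [← γ.ad_map]; rfl
      calc ⁅φ (γ x), z⁆ = ⁅φ (γ x), φ (φ.symm z)⁆ := by rw [← hz]
        _ = φ ⁅γ x, φ.symm z⁆ := (LieEquiv.map_lie φ _ _).symm
        _ = (LieAlgebra.ad R L' (φ x) ^ p) (φ (φ.symm z)) := by rw [h3, hpow]
        _ = (LieAlgebra.ad R L' (φ x) ^ p) z := by rw [← hz]
    rw [h1, h2]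
  rw [hZ, LieSubmodule.mem_bot, sub_eq_zero] at hcen
  exact hcen

end Groth.Agent.S13780
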