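import Groth.Statements.S2921
import Groth.Agent.Lib.H94Eisen
import Mathlib

set_option autoImplicit false
universe u
open IsLocalRing
open SGA1

namespace Groth.Agent.S2921

open Groth.Agent.Lib.H94Eisen in
theorem part1 (A : Type u) [CommRing A] [IsRegularLocalRing A] (r : ℕ) (f : Fin r → A)
    (hm : ∀ i, f i ∈ maximalIdeal A)
    (hf : LinearIndependent (ResidueField A) (fun i => (maximalIdeal A).toCotangent ⟨f i, hm i⟩))
    (n : Fin r → ℕ) (hn : ∀ i, 1 ≤ n i) :
    IsRegularLocalRing (SGA1.kummerAlg A f n) := by
  let F : Fin r → Polynomial A := fun i => Polynomial.X ^ n i - Polynomial.C (f i)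
  have hmon : ∀ i, (F i).Monic := fun i =>
    Polynomial.monic_X_pow_sub_C (f i) (by have := hn i; omega)
  have hnd : ∀ i, (F i).natDegree = n i := fun i => Polynomial.natDegree_X_pow_sub_C
  have hdeg : ∀ i, 1 ≤ (F i).natDegree := fun i => by rw [hnd]; exact hn i
  have hcoeff : ∀ i k, k < n i → (F i).coeff k = if k = 0 then - f i else 0 := by
    intro i k hk
    simp only [F, Polynomial.coeff_sub, Polynomial.coeff_X_pow, Polynomial.coeff_C]
    rw [if_neg (by omega)]
    split_ifs <;> simp
  have hlow : ∀ i k, k < (F i).natDegree → (F i).coeff k ∈ maximalIdeal A := by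
    intro i k hk
    rw [hnd] at hk
    rw [hcoeff i k hk]
    split_ifs
    · exact neg_mem (hm i)
    · exact zero_mem _
  have hfam : (fun i => (maximalIdeal A).toCotangent ⟨(F i).coeff 0, hlow i 0 (hdeg i)⟩) =
      - (fun i => (maximalIdeal A).toCotangent ⟨f i, hm i⟩) := by
    funext i
    rw [Pi.neg_apply, ← map_neg]
    congr 1
    ext
    simp only [NegMemClass.coe_neg]
    rw [hcoeff i 0 (hn i), if_pos rfl]
  have hli : LinearIndependent (ResidueField A)
      (fun i => (maximalIdeal A).toCotangent ⟨(F i).coeff 0, hlow i 0 (hdeg i)⟩) := by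
    rw [hfam]; exact hf.neg
  have hreg : IsRegularLocalRing (Q F) :=
    isRegularLocalRing_of_linearIndependent F hmon hdeg hlow hli
  have hI : Groth.Agent.Lib.H94Eisen.Iof F = Ideal.span (Set.range fun i =>
      (MvPolynomial.X i : MvPolynomial (Fin r) A) ^ n i - MvPolynomial.C (f i)) := by
    show Ideal.span _ = _
    congr 2
    funext i
    simp [F, MvPolynomial.algebraMap_eq]
  show IsRegularLocalRing (MvPolynomial (Fin r) A ⧸ _)
  rw [← hI]
  exact hreg

lemma t_pow (A : Type u) [CommRing A] (r : ℕ) (f : Fin r → A) (n : Fin r → ℕ) (i : Fin r) :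
    (Ideal.Quotient.mk _ (MvPolynomial.X i) : SGA1.kummerAlg A f n) ^ n i =
      algebraMap A (SGA1.kummerAlg A f n) (f i) := by
  rw [← map_pow, ← sub_eq_zero]
  show Ideal.Quotient.mk _ (MvPolynomial.X i ^ n i) - Ideal.Quotient.mk _ (MvPolynomial.C (f i)) = 0
  rw [← map_sub]
  exact Ideal.Quotient.eq_zero_iff_mem.2 (Ideal.subset_span ⟨i, rfl⟩)

open Algebra MvPolynomial in
theorem isStandardSmooth_away (A : Type u) [CommRing A] (r : ℕ) (f : Fin r → A) (n : Fin r → ℕ)
    (hn : ∀ i, 1 ≤ n i) (hu : ∀ i, IsUnit ((n i : ℕ) : A)) :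
    Algebra.IsStandardSmoothOfRelativeDimension 0 A
      (Localization.Away (algebraMap A (SGA1.kummerAlg A f n) (∏ i, f i))) := by
  classical
  set B := SGA1.kummerAlg A f n with hB
  set g : A := ∏ i, f i with hg
  set Bg := Localization.Away (algebraMap A B g) with hBg
  let v : Fin r → MvPolynomial (Fin r) A := fun i => (X i) ^ n i - C (f i)
  let P0 : PreSubmersivePresentation A B (Fin r) (Fin r) :=
    PreSubmersivePresentation.naive (v := v) _root_.id Function.injective_id
  let Q0 : PreSubmersivePresentation B Bg Unit Unit :=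
    PreSubmersivePresentation.localizationAway Bg (algebraMap A B g)
  have hjac0 : P0.jacobiMatrix = Matrix.diagonal (fun i => C ((n i : ℕ) : A) * X i ^ (n i - 1)) := by
    ext i j
    rw [PreSubmersivePresentation.jacobiMatrix_naive]
    simp only [v, _root_.id]
    rw [Matrix.diagonal_apply]
    by_cases hij : i = j
    · subst hij
      simp [Derivation.leibniz_pow]
    · rw [if_neg hij]
      simp [Derivation.leibniz_pow, pderiv_X_of_ne (Ne.symm hij)]
  let t : Fin r → B := fun i => Ideal.Quotient.mk _ (X i)
  have hP0jac : P0.jacobian = ∏ i, (algebraMap A B ((n i : ℕ) : A)) * (t i) ^ (n i - 1) := by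
    rw [PreSubmersivePresentation.jacobian_eq_jacobiMatrix_det, hjac0, Matrix.det_diagonal,
      map_prod]
    rfl
  have hgunit : IsUnit (algebraMap B Bg (algebraMap A B g)) :=
    IsLocalization.Away.algebraMap_isUnit _
  have htunit : ∀ i, IsUnit (algebraMap B Bg (t i)) := by
    intro i
    have h1 : t i * (t i ^ (n i - 1) * algebraMap A B (∏ j ∈ Finset.univ.erase i, f j)) =
        algebraMap A B g := by
      rw [← mul_assoc, ← pow_succ', Nat.sub_add_cancel (hn i), t_pow, ← map_mul, hg,
        Finset.mul_prod_erase _ _ (Finset.mem_univ i)]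
    have h2 : IsUnit (algebraMap B Bg (t i) *
        algebraMap B Bg (t i ^ (n i - 1) * algebraMap A B (∏ j ∈ Finset.univ.erase i, f j))) := by
      rw [← map_mul, h1]; exact hgunit
    exact isUnit_of_mul_isUnit_left h2
  have hunit : IsUnit (Q0.comp P0).jacobian := by
    rw [PreSubmersivePresentation.comp_jacobian_eq_jacobian_smul_jacobian, Algebra.smul_def]
    refine IsUnit.mul ?_ ?_
    · rw [hP0jac, map_prod (algebraMap B Bg) (fun i => (algebraMap A B ((n i : ℕ) : A)) *
        (t i) ^ (n i - 1)) Finset.univ]
      refine Finset.prod_induction _ IsUnit (fun _ _ => IsUnit.mul) isUnit_one (fun i _ => ?_)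
      rw [map_mul, map_pow]
      exact IsUnit.mul (((hu i).map (algebraMap A B)).map (algebraMap B Bg)) ((htunit i).pow _)
    · rw [PreSubmersivePresentation.localizationAway_jacobian]
      exact hgunit
  let PQ : SubmersivePresentation A Bg (Unit ⊕ Fin r) (Unit ⊕ Fin r) := ⟨Q0.comp P0, hunit⟩
  exact PQ.isStandardSmoothOfRelativeDimension (by simp [Presentation.dimension])

theorem part2 (A : Type u) [CommRing A] (r : ℕ) (f : Fin r → A) (n : Fin r → ℕ)
    (hn : ∀ i, 1 ≤ n i) (hu : ∀ i, IsUnit ((n i : ℕ) : A)) :
    letI := (Localization.awayMap (algebraMap A (SGA1.kummerAlg A f n)) (∏ i, f i)).toAlgebra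
    Algebra.Etale (Localization.Away (∏ i, f i))
      (Localization.Away (algebraMap A (SGA1.kummerAlg A f n) (∏ i, f i))) := by
  letI := (Localization.awayMap (algebraMap A (SGA1.kummerAlg A f n)) (∏ i, f i)).toAlgebra
  have h0 := isStandardSmooth_away A r f n hn hu
  have h1 : Algebra.Etale A
      (Localization.Away (algebraMap A (SGA1.kummerAlg A f n) (∏ i, f i))) := inferInstance
  have h2 : IsScalarTower A (Localization.Away (∏ i, f i))
      (Localization.Away (algebraMap A (SGA1.kummerAlg A f n) (∏ i, f i))) := by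
    refine IsScalarTower.of_algebraMap_eq' ?_
    rw [RingHom.algebraMap_toAlgebra, Localization.awayMap, IsLocalization.Away.map,
      IsLocalization.map_comp]
    exact IsScalarTower.algebraMap_eq A (SGA1.kummerAlg A f n) _
  have h3 : Algebra.Etale A (Localization.Away (∏ i, f i)) :=
    Algebra.Etale.of_isLocalizationAway (∏ i, f i)
  exact Algebra.Etale.of_restrictScalars A _ _

/-- Regularity and etaleness; the tameness assertion is not stated: Let A be a regular local ring, f_1,
…, f_r elements of the maximal ideal whose images in the cotangent space are linearly independent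
(part of a regular system of parameters), and n_1, …, n_r ≥ 1. Then A' = A[T_1, …, T_r]/(T_i^{n_i} −
f_i) is a regular local ring; and if each n_i is invertible in the residue field of A, then A'
becomes etale over A after inverting f_1 ⋯ f_r. -/
theorem result (A : Type u) [CommRing A] [IsRegularLocalRing A] (r : ℕ) (f : Fin r → A)
    (hm : ∀ i, f i ∈ maximalIdeal A)
    (hf : LinearIndependent (ResidueField A) (fun i => (maximalIdeal A).toCotangent ⟨f i, hm i⟩))
    (n : Fin r → ℕ) (hn : ∀ i, 1 ≤ n i) :
    IsRegularLocalRing (SGA1.kummerAlg A f n) ∧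
    ((∀ i, IsUnit ((n i : ℕ) : ResidueField A)) →
      letI := (Localization.awayMap (algebraMap A (SGA1.kummerAlg A f n)) (∏ i, f i)).toAlgebra
      Algebra.Etale (Localization.Away (∏ i, f i)) (Localization.Away (algebraMap A (SGA1.kummerAlg A f n) (∏ i, f i)))) := by
  refine ⟨part1 A r f hm hf n hn, fun hu => ?_⟩
  refine part2 A r f n hn (fun i => ?_)
  have h := hu i
  rw [← map_natCast (residue A)] at h
  exact (isUnit_map_iff (residue A) _).mp h

end Groth.Agent.S2921
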