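import Groth.Statements.S13781
import Groth.Agent.S2921
import Groth.Agent.S5779
import Groth.Agent.Lib.SmoothRegular
import Groth.Agent.Lib.H87Serre2
import Groth.Agent.Lib.RegularLocal
import Mathlib

set_option autoImplicit false
universe u
open CAlg

namespace Groth.Agent.S13781

open Polynomial IsLocalRing

/-- the unit case: étale. -/
theorem etale_of_isUnit (A : Type u) [CommRing A] (s : A) (hs : IsUnit s) (e : ℕ) (he : 0 < e)
    (heu : IsUnit (e : A)) : Algebra.Etale A (AdjoinRoot (X ^ e - C s : A[X])) := by
  obtain ⟨u, hu⟩ := (heu.mul hs).exists_right_inv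
  let P : StandardEtalePair A :=
    { f := X ^ e - C s
      monic_f := monic_X_pow_sub_C s (by omega)
      g := 1
      cond := ⟨C u * X, - C (u * e), 0, by
        rw [pow_zero, derivative_sub, derivative_X_pow, derivative_C, sub_zero]
        have h1 : (C (e : A) * X ^ (e - 1)) * (C u * X) = C (u * e) * X ^ e := by
          have : X ^ e = X ^ (e - 1) * (X : A[X]) := by
            rw [← pow_succ, Nat.sub_add_cancel he]
          rw [this, map_mul]; ring
        have h2 : C (u * (e : A)) * C s = (1 : A[X]) := by
          rw [← map_mul, ← map_one C]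
          congr 1
          rw [mul_assoc, mul_comm, hu]
        calc C (e : A) * X ^ (e - 1) * (C u * X) + (X ^ e - C s) * -C (u * (e : A))
            = C (e : A) * X ^ (e - 1) * (C u * X) - C (u * e) * X ^ e + C (u * e) * C s := by
              ring
          _ = 1 := by rw [h1, sub_self, zero_add, h2]⟩ }
  have h1 : Algebra.Etale A P.Ring := inferInstance
  let e1 : P.Ring ≃ₐ[A] Localization.Away (AdjoinRoot.mk P.f P.g) := P.equivAwayAdjoinRoot
  have hle : Submonoid.powers (AdjoinRoot.mk P.f P.g) ≤ IsUnit.submonoid (AdjoinRoot P.f) := by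
    rintro _ ⟨n, rfl⟩
    show IsUnit _
    simp [P]
  let e2 : AdjoinRoot P.f ≃ₐ[A] Localization.Away (AdjoinRoot.mk P.f P.g) :=
    (IsLocalization.atUnits (AdjoinRoot P.f) (Submonoid.powers (AdjoinRoot.mk P.f P.g))
      (S := Localization.Away (AdjoinRoot.mk P.f P.g)) hle).restrictScalars A
  exact Algebra.Etale.of_equiv (e1.trans e2.symm)

/-- the comparison of the two presentations. -/
noncomputable def cmp (A : Type u) [CommRing A] (s : A) (e : ℕ) :
    SGA1.kummerAlg A (fun _ : Fin 1 => s) (fun _ => e) ≃+* AdjoinRoot (X ^ e - C s : A[X]) := by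
  let e1 : MvPolynomial (Fin 1) A ≃ₐ[A] A[X] := MvPolynomial.uniqueAlgEquiv A (Fin 1)
  refine Ideal.quotientEquiv _ _ e1.toRingEquiv ?_
  rw [Ideal.map_span, ← Set.range_comp]
  congr 1
  ext x
  simp only [Set.mem_singleton_iff, Set.mem_range, Function.comp_apply]
  constructor
  · rintro rfl
    refine ⟨0, ?_⟩
    simp [e1]
  · rintro ⟨i, rfl⟩
    simp [e1]

theorem main (A : Type u) [CommRing A] [IsLocalRing A]
    [IsRegularRing A] (s : A) (hs : s ≠ 0) (hreg : IsRegularRing (A ⧸ Ideal.span {s}))
    (e : ℕ) (he : 0 < e) (heu : IsUnit (e : A)) :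
    IsRegularRing (AdjoinRoot (Polynomial.X ^ e - Polynomial.C s)) := by
  have hA : IsRegularLocalRing A := IsRegularLocalRing.of_isRegularRing_of_isLocalRing A
  by_cases hsu : IsUnit s
  · have := etale_of_isUnit A s hsu e he heu
    exact Groth.Agent.Lib.SmoothRegular.isRegularRing_of_smooth A _
  · have hsm : s ∈ maximalIdeal A := (mem_maximalIdeal s).mpr hsu
    have hdom : IsDomain A := Groth.Agent.Lib.RegularLocal.isDomain A
    have hJne : Ideal.span {s} ≠ ⊤ := by
      rw [Ne, Ideal.span_singleton_eq_top]; exact hsu
    have hnt : Nontrivial (A ⧸ Ideal.span {s}) := Ideal.Quotient.nontrivial_iff.mpr hJne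
    have hloc : IsLocalRing (A ⧸ Ideal.span {s}) :=
      IsLocalRing.of_surjective' (Ideal.Quotient.mk _) Ideal.Quotient.mk_surjective
    have hregq : IsRegularLocalRing (A ⧸ Ideal.span {s}) :=
      IsRegularLocalRing.of_isRegularRing_of_isLocalRing _
    have hdim : ringKrullDim (A ⧸ Ideal.span {s}) + 1 = ringKrullDim A :=
      ringKrullDim_quotient_span_singleton_succ_eq_ringKrullDim_of_mem_nonZeroDivisors
        (mem_nonZeroDivisors_of_ne_zero hs) hsm
    have key := (Groth.Agent.S5779.result A 1 (fun _ => ⟨s, hsm⟩)).1
    have hrange : Ideal.span (Set.range fun i : Fin 1 =>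
        ((fun _ => (⟨s, hsm⟩ : maximalIdeal A)) i : A)) = Ideal.span {s} := by
      simp [Set.range_const]
    rw [hrange] at key
    have hli := (key.mpr ⟨by exact_mod_cast hdim, hregq⟩).2
    have hK := Groth.Agent.S2921.part1 A 1 (fun _ => s) (fun _ => hsm) hli (fun _ => e)
      (fun _ => he)
    have := Groth.Agent.Lib.H87Serre2.isRegularRing_of_isRegularLocalRing
      (R := SGA1.kummerAlg A (fun _ : Fin 1 => s) (fun _ => e))
    exact IsRegularRing.of_ringEquiv (cmp A s e)

/-- Let A be a regular local ring, s a non-zero element of A such that A/(s) is regular, and e a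
positive integer invertible in A. Then A[t]/(t^e - s) is regular. (Regularity of a ring is taken
throughout as: Noetherian, with every localization at a prime ideal a regular local ring; the
hypotheses on A and on A/(s) and the conclusion on A[t]/(t^e - s) are all read this way, which for
the local rings A and A/(s) is the usual notion once localizations of regular local rings are known
to be regular.) -/
theorem result (A : Type u) [CommRing A] [IsLocalRing A]
    [IsRegularRing A] (s : A) (hs : s ≠ 0) (hreg : IsRegularRing (A ⧸ Ideal.span {s}))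
    (e : ℕ) (he : 0 < e) (heu : IsUnit (e : A)) :
    IsRegularRing (AdjoinRoot (Polynomial.X ^ e - Polynomial.C s)) := by
  exact main A s hs hreg e he heu

end Groth.Agent.S13781
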