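import Groth.Statements.S13782
import Groth.Agent.Lib.PrincipalSmooth9
import Groth.Agent.Lib.SmoothRegular
import Groth.Agent.Lib.RegularLocal
import Mathlib

set_option autoImplicit false
universe u
open CAlg

namespace Groth.Agent.S13782

open Polynomial Groth.Agent.Lib.PrincipalSmooth9

theorem forward (k A : Type u) [Field k] [CommRing A] [Algebra k A] [Algebra.Smooth k A]
    (s : A) (e : ℕ) (he : 2 ≤ e)
    [Algebra.FormallySmooth k (AdjoinRoot (X ^ e - C s : A[X]))] :
    Algebra.FormallySmooth k (A ⧸ Ideal.span {s}) := by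
  set F : A[X] := X ^ e - C s with hF
  letI : Algebra A[X] (AdjoinRoot F) := (AdjoinRoot.mk F).toAlgebra
  haveI : IsScalarTower A A[X] (AdjoinRoot F) := IsScalarTower.of_algebraMap_eq (fun _ => rfl)
  haveI : IsScalarTower k A[X] (AdjoinRoot F) := IsScalarTower.of_algebraMap_eq (fun x => by
    rw [IsScalarTower.algebraMap_apply k A (AdjoinRoot F), IsScalarTower.algebraMap_apply k A A[X],
      ← IsScalarTower.algebraMap_apply A A[X] (AdjoinRoot F)])
  haveI : Algebra.FormallySmooth k A[X] := Algebra.FormallySmooth.comp k A A[X]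
  have hsurj : Function.Surjective (algebraMap A[X] (AdjoinRoot F)) := AdjoinRoot.mk_surjective
  have hker : RingHom.ker (algebraMap A[X] (AdjoinRoot F)) = Ideal.span {F} := Ideal.mk_ker
  have hmon : F.Monic := monic_X_pow_sub_C s (by omega)
  obtain ⟨D, hD⟩ := exists_derivation_of_formallySmooth (R := k) hsurj F
    hmon.mem_nonZeroDivisors hker
  let π : AdjoinRoot F →ₐ[A] A ⧸ Ideal.span {s} :=
    AdjoinRoot.liftAlgHom F (Algebra.ofId A (A ⧸ Ideal.span {s})) 0 (by
      simp [F, eval₂_sub, zero_pow (show e ≠ 0 by omega)])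
  let δ : Derivation k A (A ⧸ Ideal.span {s}) := π.toLinearMap.compDer (D.compAlgebraMap A)
  have hδ : δ s = -1 := by
    show π (D (algebraMap A A[X] s)) = -1
    have h1 : algebraMap A A[X] s = X ^ e - F := by simp [F]
    rw [h1, map_sub, hD, Derivation.leibniz_pow, map_sub, map_one]
    have h2 : π (e • (X : A[X]) ^ (e - 1) • D X) = 0 := by
      rw [map_nsmul, Algebra.smul_def (X ^ (e - 1) : A[X]), map_mul]
      have : π (algebraMap A[X] (AdjoinRoot F) (X ^ (e - 1))) = 0 := by
        show π (AdjoinRoot.mk F (X ^ (e - 1))) = 0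
        rw [map_pow, AdjoinRoot.mk_X, map_pow]
        simp [π, zero_pow (show e - 1 ≠ 0 by omega)]
      rw [this, zero_mul, smul_zero]
    rw [h2, zero_sub]
  exact formallySmooth_of_derivation (R := k) (P := A) Ideal.Quotient.mk_surjective s
    (by rw [Ideal.Quotient.algebraMap_eq, Ideal.mk_ker]) (-δ) (by simp [hδ])

theorem backward (k A : Type u) [Field k] [CommRing A] [Algebra k A] [Algebra.Smooth k A]
    (s : A) (hs : Irreducible s) (e : ℕ) (he : 2 ≤ e) (hek : (e : k) ≠ 0)
    [Algebra.FormallySmooth k (A ⧸ Ideal.span {s})] :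
    Algebra.FormallySmooth k (AdjoinRoot (X ^ e - C s : A[X])) := by
  set F : A[X] := X ^ e - C s with hF
  letI : Algebra A[X] (AdjoinRoot F) := (AdjoinRoot.mk F).toAlgebra
  haveI : IsScalarTower A A[X] (AdjoinRoot F) := IsScalarTower.of_algebraMap_eq (fun _ => rfl)
  haveI : IsScalarTower k A[X] (AdjoinRoot F) := IsScalarTower.of_algebraMap_eq (fun x => by
    rw [IsScalarTower.algebraMap_apply k A (AdjoinRoot F), IsScalarTower.algebraMap_apply k A A[X],
      ← IsScalarTower.algebraMap_apply A A[X] (AdjoinRoot F)])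
  haveI : Algebra.FormallySmooth k A[X] := Algebra.FormallySmooth.comp k A A[X]
  have hsurj : Function.Surjective (algebraMap A[X] (AdjoinRoot F)) := AdjoinRoot.mk_surjective
  have hker : RingHom.ker (algebraMap A[X] (AdjoinRoot F)) = Ideal.span {F} := Ideal.mk_ker
  -- `s` is a nonzerodivisor
  haveI : Algebra.FinitePresentation k A := inferInstance
  haveI : IsNoetherianRing A := Algebra.FiniteType.isNoetherianRing k A
  have hsnzd : s ∈ nonZeroDivisors A := by
    refine mem_nonZeroDivisors_of_irreducible (fun m hm => ?_) s hs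
    haveI := Groth.Agent.Lib.SmoothRegular.isRegularLocalRing_of_smooth (K := k) m
    exact Groth.Agent.Lib.RegularLocal.isDomain _
  obtain ⟨δ, hδ⟩ := exists_derivation_of_formallySmooth (R := k) (P := A)
    (A := A ⧸ Ideal.span {s}) Ideal.Quotient.mk_surjective s hsnzd
    (by rw [Ideal.Quotient.algebraMap_eq, Ideal.mk_ker])
  -- lift to a derivation `A → A`
  obtain ⟨h, hh⟩ := Module.projective_lifting_property (Algebra.linearMap A (A ⧸ Ideal.span {s}))
    δ.liftKaehlerDifferential Ideal.Quotient.mk_surjective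
  let δ' : Derivation k A A := h.compDer (KaehlerDifferential.D k A)
  have hδ' : Ideal.Quotient.mk (Ideal.span {s}) (δ' s) = 1 := by
    have := congrArg (fun u => u (KaehlerDifferential.D k A s)) hh
    simp only [LinearMap.comp_apply, Derivation.liftKaehlerDifferential_comp_D, hδ] at this
    exact this
  obtain ⟨a, ha⟩ : ∃ a : A, a * s = δ' s - 1 := by
    have : δ' s - 1 ∈ Ideal.span {s} := by
      rw [← Ideal.Quotient.eq_zero_iff_mem, map_sub, hδ', map_one, sub_self]
    exact Ideal.mem_span_singleton'.mp this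
  -- the derivation on `A[X]`
  let L : PolynomialModule A A →ₗ[A[X]] AdjoinRoot F :=
    (Algebra.linearMap A[X] (AdjoinRoot F)) ∘ₗ PolynomialModule.equivPolynomialSelf.toLinearMap
  let D1 : Derivation k A[X] (AdjoinRoot F) := L.compDer δ'.mapCoeffs
  let D2 : Derivation k A[X] (AdjoinRoot F) :=
    (Algebra.linearMap A[X] (AdjoinRoot F)).compDer (derivative'.restrictScalars k)
  let c : A[X] := C (((e : k)⁻¹) • a) * X
  have hD1 : D1 F = - AdjoinRoot.of F (δ' s) := by
    have hm : δ'.mapCoeffs F = - PolynomialModule.single A 0 (δ' s) := by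
      show δ'.mapCoeffs (X ^ e - C s) = _
      rw [map_sub, Derivation.leibniz_pow, Derivation.mapCoeffs_X, smul_zero, smul_zero,
        zero_sub, Derivation.mapCoeffs_C]
    show L (δ'.mapCoeffs F) = _
    rw [hm, map_neg]
    congr 1
  have hD2 : D2 F = AdjoinRoot.mk F (C (e : A) * X ^ (e - 1)) := by
    show AdjoinRoot.mk F (derivative F) = _
    rw [hF, derivative_sub, derivative_X_pow, derivative_C, sub_zero]
  have hroot : AdjoinRoot.mk F (X ^ e) = AdjoinRoot.of F s := by
    have : AdjoinRoot.mk F F = 0 := AdjoinRoot.mk_self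
    rw [hF, map_sub, sub_eq_zero] at this
    rw [this, AdjoinRoot.mk_C]
  have hDF : (D1 + c • D2) F = -1 := by
    rw [Derivation.add_apply, Derivation.smul_apply, hD1, hD2, Algebra.smul_def]
    show _ + AdjoinRoot.mk F c * _ = _
    rw [← map_mul]
    have h3 : c * (C (e : A) * X ^ (e - 1)) = C a * X ^ e := by
      have : (X : A[X]) ^ e = X * X ^ (e - 1) := by
        rw [← pow_succ', Nat.sub_add_cancel (by omega)]
      rw [this]
      simp only [c]
      have h4 : (((e : k)⁻¹) • a) * (e : A) = a := by
        rw [Algebra.smul_def, mul_comm _ a, mul_assoc]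
        have : (algebraMap k A (e : k)⁻¹) * (e : A) = 1 := by
          rw [← map_natCast (algebraMap k A) e, ← map_mul, inv_mul_cancel₀ hek, map_one]
        rw [this, mul_one]
      calc C ((e : k)⁻¹ • a) * X * (C (e : A) * X ^ (e - 1))
          = C (((e : k)⁻¹ • a) * (e : A)) * (X * X ^ (e - 1)) := by rw [C_mul]; ring
        _ = _ := by rw [h4]
    rw [h3, map_mul, hroot, AdjoinRoot.mk_C, ← map_mul, ha, map_sub, map_one]
    ring
  exact formallySmooth_of_derivation (R := k) hsurj F hker (-(D1 + c • D2)) (by
    rw [Derivation.neg_apply, hDF, neg_neg])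


/-- Let k be a field, A a smooth k-algebra, s an irreducible element of A and e an integer, at least 2,
that is invertible in k. Then the k-algebra A[t]/(t^e - s) is smooth exactly when the quotient ring
A/(s) is a smooth k-algebra. (Smooth over k means formally smooth and of finite presentation over
k.) -/
theorem result (k A : Type u) [Field k] [CommRing A] [Algebra k A]
    [Algebra.Smooth k A] (s : A) (hs : Irreducible s) (e : ℕ) (he : 2 ≤ e) (hek : (e : k) ≠ 0) :
    Algebra.Smooth k (AdjoinRoot (Polynomial.X ^ e - Polynomial.C s)) ↔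
      Algebra.Smooth k (A ⧸ Ideal.span {s}) := by
  constructor
  · intro h
    haveI := h.formallySmooth
    exact ⟨forward k A s e he, Algebra.FinitePresentation.quotient (Submodule.fg_span_singleton s)⟩
  · intro h
    haveI := h.formallySmooth
    refine ⟨backward k A s hs e he hek, ?_⟩
    haveI : Algebra.FinitePresentation A (AdjoinRoot (X ^ e - C s : A[X])) :=
      Algebra.FinitePresentation.quotient (A := A[X]) (Submodule.fg_span_singleton _)
    exact Algebra.FinitePresentation.trans k A _

end Groth.Agent.S13782
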