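import Groth.Statements.S13783
import Mathlib
-- import your own Groth.Agent.* helpers here

set_option autoImplicit false
universe u
open Curves

namespace Groth.Agent.S13783

open Matrix

section
variable {K : Type u} [Field K]

def D2 (v w : Fin 2 → K) : K := v 0 * w 1 - v 1 * w 0

/-- explicit frame matrix -/
def frameMat (v1 v2 v3 w1 w2 w3 : Fin 2 → K) : Matrix (Fin 2) (Fin 2) K :=
  !![w1 0 * (D2 w3 w2 * D2 v1 v3) * v2 1 - w2 0 * (D2 w1 w3 * D2 v3 v2) * v1 1,
      - w1 0 * (D2 w3 w2 * D2 v1 v3) * v2 0 + w2 0 * (D2 w1 w3 * D2 v3 v2) * v1 0;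
     w1 1 * (D2 w3 w2 * D2 v1 v3) * v2 1 - w2 1 * (D2 w1 w3 * D2 v3 v2) * v1 1,
      - w1 1 * (D2 w3 w2 * D2 v1 v3) * v2 0 + w2 1 * (D2 w1 w3 * D2 v3 v2) * v1 0]

theorem frameMat_v1 (v1 v2 v3 w1 w2 w3 : Fin 2 → K) :
    frameMat v1 v2 v3 w1 w2 w3 *ᵥ v1 = (D2 v1 v2 * (D2 w3 w2 * D2 v1 v3)) • w1 := by
  ext i
  fin_cases i <;> simp [frameMat, Matrix.mulVec, dotProduct, Fin.sum_univ_two, D2] <;> ring

theorem frameMat_v2 (v1 v2 v3 w1 w2 w3 : Fin 2 → K) :
    frameMat v1 v2 v3 w1 w2 w3 *ᵥ v2 = (D2 v1 v2 * (D2 w1 w3 * D2 v3 v2)) • w2 := by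
  ext i
  fin_cases i <;> simp [frameMat, Matrix.mulVec, dotProduct, Fin.sum_univ_two, D2] <;> ring

theorem frameMat_v3 (v1 v2 v3 w1 w2 w3 : Fin 2 → K) :
    frameMat v1 v2 v3 w1 w2 w3 *ᵥ v3 = (D2 v3 v2 * D2 v1 v3 * D2 w1 w2) • w3 := by
  ext i
  fin_cases i <;> simp [frameMat, Matrix.mulVec, dotProduct, Fin.sum_univ_two, D2] <;> ring

theorem frameMat_det (v1 v2 v3 w1 w2 w3 : Fin 2 → K) :
    (frameMat v1 v2 v3 w1 w2 w3).det
      = D2 w1 w2 * (D2 w3 w2 * D2 v1 v3) * (D2 w1 w3 * D2 v3 v2) * D2 v1 v2 := by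
  simp [frameMat, Matrix.det_fin_two, D2]; ring

/-- Cramer -/
theorem cramer2 (v1 v2 x : Fin 2 → K) :
    D2 v1 v2 • x = D2 x v2 • v1 + D2 v1 x • v2 := by
  ext i
  fin_cases i <;> simp [D2] <;> ring

/-- a matrix scaling three pairwise independent vectors is scalar -/
theorem scalar_of_three (N : Matrix (Fin 2) (Fin 2) K) (v1 v2 v3 : Fin 2 → K) (c1 c2 c3 : K)
    (h12 : D2 v1 v2 ≠ 0) (h13 : D2 v1 v3 ≠ 0) (h23 : D2 v2 v3 ≠ 0)
    (e1 : N *ᵥ v1 = c1 • v1) (e2 : N *ᵥ v2 = c2 • v2) (e3 : N *ᵥ v3 = c3 • v3) :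
    N = c1 • (1 : Matrix (Fin 2) (Fin 2) K) := by
  have hcr := cramer2 v1 v2 v3
  have h32 : D2 v3 v2 ≠ 0 := by
    intro h; apply h23; unfold D2 at h ⊢; linear_combination -h
  -- apply N to Cramer
  have hN := congrArg (fun x => N *ᵥ x) hcr
  simp only [Matrix.mulVec_smul, Matrix.mulVec_add, e1, e2, e3] at hN
  -- hN : D12 • c3 • v3 = D32 • c1 • v1 + D13 • c2 • v2
  have hN' : D2 v3 v2 • ((c1 - c3) • v1) + D2 v1 v3 • ((c2 - c3) • v2) = 0 := by
    have : D2 v1 v2 • c3 • v3 = c3 • (D2 v3 v2 • v1 + D2 v1 v3 • v2) := by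
      rw [← hcr, smul_comm]
    rw [this] at hN
    rw [sub_smul, sub_smul, smul_sub, smul_sub]
    rw [smul_add, smul_comm c3, smul_comm c3] at hN
    rw [sub_add_sub_comm, ← hN, sub_self]
  have hc1 : c1 = c3 := by
    have := congrArg (fun x => D2 x v2) hN'
    simp only [D2, Pi.add_apply, Pi.smul_apply, smul_eq_mul, Pi.zero_apply] at this
    have h' : (v3 0 * v2 1 - v3 1 * v2 0) * (c1 - c3) * (v1 0 * v2 1 - v1 1 * v2 0) = 0 := by
      linear_combination this
    unfold D2 at h32 h12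
    rcases mul_eq_zero.mp h' with h'' | h''
    · rcases mul_eq_zero.mp h'' with h''' | h'''
      · exact absurd h''' h32
      · exact sub_eq_zero.mp h'''
    · exact absurd h'' h12
  have hc2 : c2 = c3 := by
    have := congrArg (fun x => D2 v1 x) hN'
    simp only [D2, Pi.add_apply, Pi.smul_apply, smul_eq_mul, Pi.zero_apply] at this
    have h' : (v1 0 * v3 1 - v1 1 * v3 0) * (c2 - c3) * (v1 0 * v2 1 - v1 1 * v2 0) = 0 := by
      linear_combination this
    unfold D2 at h13 h12
    rcases mul_eq_zero.mp h' with h'' | h''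
    · rcases mul_eq_zero.mp h'' with h''' | h'''
      · exact absurd h''' h13
      · exact sub_eq_zero.mp h'''
    · exact absurd h'' h12
  -- now N x = c1 x for all x
  have hall : ∀ x : Fin 2 → K, N *ᵥ x = c1 • x := by
    intro x
    have hx := cramer2 v1 v2 x
    have hNx := congrArg (fun y => N *ᵥ y) hx
    simp only [Matrix.mulVec_smul, Matrix.mulVec_add, e1, e2] at hNx
    rw [hc2, ← hc1] at hNx
    have : D2 v1 v2 • N *ᵥ x = D2 v1 v2 • (c1 • x) := by
      rw [hNx, smul_comm _ c1 x, hx, smul_add, smul_comm c1, smul_comm c1 (D2 v1 x)]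
    exact smul_right_injective _ h12 this
  ext i j
  have := congrFun (hall (Pi.single j 1)) i
  simp only [Matrix.mulVec_single_one, Matrix.col_apply] at this
  rw [this]
  simp [Matrix.one_apply, Pi.single_apply, eq_comm]


theorem D2_swap (v w : Fin 2 → K) : D2 w v = - D2 v w := by unfold D2; ring

theorem D2_ne_swap {v w : Fin 2 → K} (h : D2 v w ≠ 0) : D2 w v ≠ 0 := by
  rw [D2_swap]; exact neg_ne_zero.mpr h

theorem prop_of_two_solutions (M M' : Matrix (Fin 2) (Fin 2) K) (hM : M.det ≠ 0)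
    (v w : Fin 3 → (Fin 2 → K))
    (h01 : D2 (v 0) (v 1) ≠ 0) (h02 : D2 (v 0) (v 2) ≠ 0) (h12 : D2 (v 1) (v 2) ≠ 0)
    (c c' : Fin 3 → K) (hc : ∀ i, c i ≠ 0)
    (h : ∀ i, M *ᵥ v i = c i • w i) (h' : ∀ i, M' *ᵥ v i = c' i • w i) :
    ∃ l : K, M' = l • M := by
  have hu : IsUnit M.det := isUnit_iff_ne_zero.mpr hM
  have hinv : ∀ i, M⁻¹ *ᵥ w i = (c i)⁻¹ • v i := by
    intro i
    have := congrArg (fun x => M⁻¹ *ᵥ x) (h i)
    simp only [Matrix.mulVec_mulVec, Matrix.nonsing_inv_mul _ hu, Matrix.one_mulVec,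
      Matrix.mulVec_smul] at this
    rw [this, smul_smul, inv_mul_cancel₀ (hc i), one_smul]
  have hN : ∀ i, (M⁻¹ * M') *ᵥ v i = (c' i * (c i)⁻¹) • v i := by
    intro i
    rw [← Matrix.mulVec_mulVec, h' i, Matrix.mulVec_smul, hinv i, smul_smul]
  have := scalar_of_three (M⁻¹ * M') (v 0) (v 1) (v 2) _ _ _ h01 h02 h12 (hN 0) (hN 1) (hN 2)
  refine ⟨c' 0 * (c 0)⁻¹, ?_⟩
  have h2 := congrArg (fun X => M * X) this
  simp only [← Matrix.mul_assoc, Matrix.mul_nonsing_inv _ hu, Matrix.one_mul, Matrix.mul_smul,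
    Matrix.mul_one] at h2
  exact h2

theorem mk_eq_mk_iff_D2 (v w : Fin 2 → K) (hv : v ≠ 0) (hw : w ≠ 0) :
    Projectivization.mk K v hv = Projectivization.mk K w hw ↔ D2 v w = 0 := by
  rw [Projectivization.mk_eq_mk_iff']
  constructor
  · rintro ⟨a, rfl⟩
    simp [D2]; ring
  · intro h
    unfold D2 at h
    by_cases h0 : w 0 = 0
    · have h1 : w 1 ≠ 0 := by
        intro h1; apply hw; funext i; fin_cases i <;> simp [h0, h1]
      refine ⟨v 1 / w 1, ?_⟩
      funext i
      fin_cases i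
      · simp only [Fin.zero_eta, Pi.smul_apply, smul_eq_mul, h0, mul_zero]
        rw [h0] at h
        have : v 0 * w 1 = 0 := by linear_combination h
        rcases mul_eq_zero.mp this with h' | h'
        · exact h'.symm
        · exact absurd h' h1
      · simp only [Fin.mk_one, Pi.smul_apply, smul_eq_mul]
        field_simp
    · refine ⟨v 0 / w 0, ?_⟩
      funext i
      fin_cases i
      · simp only [Fin.zero_eta, Pi.smul_apply, smul_eq_mul]
        field_simp
      · simp only [Fin.mk_one, Pi.smul_apply, smul_eq_mul]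
        field_simp
        linear_combination h

theorem smul_mk_eq (g : Matrix.GeneralLinearGroup (Fin 2) K) (v : Fin 2 → K) (hv : v ≠ 0)
    (h' : g.1 *ᵥ v ≠ 0) :
    (Matrix.GeneralLinearGroup.toLin g) • Projectivization.mk K v hv
      = Projectivization.mk K (g.1 *ᵥ v) h' := by
  rw [Projectivization.smul_mk]
  congr 1


section gal
variable {k K : Type u} [Field k] [Field K] [Algebra k K]

theorem galP_mk (σ : K ≃ₐ[k] K) (v : Fin 2 → K) (hv : v ≠ 0) (h' : (fun i => σ (v i)) ≠ 0) :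
    W4c1stackycurves.galP σ (Projectivization.mk K v hv)
      = Projectivization.mk K (fun i => σ (v i)) h' := rfl

theorem sigma_ne_zero (σ : K ≃ₐ[k] K) (v : Fin 2 → K) (hv : v ≠ 0) : (fun i => σ (v i)) ≠ 0 := by
  intro h; apply hv; funext i; have := congrFun h i; simpa using this

variable [FiniteDimensional k K] [IsGalois k K]

theorem main_frame (p q : Fin 3 → Projectivization K (Fin 2 → K))
    (hp : Function.Injective p) (hq : Function.Injective q)
    (H : ∀ (σ : K ≃ₐ[k] K) (j : Fin 3), ∃ i, W4c1stackycurves.galP σ (p i) = p j ∧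
      W4c1stackycurves.galP σ (q i) = q j) :
    ∃ g : Matrix.GeneralLinearGroup (Fin 2) k, ∀ i,
      (Matrix.GeneralLinearGroup.toLin ((Matrix.GeneralLinearGroup.map (algebraMap k K)) g)) • p i = q i := by
  classical
  obtain ⟨v, hvdef⟩ : ∃ v : Fin 3 → (Fin 2 → K), v = fun i => (p i).rep := ⟨_, rfl⟩
  obtain ⟨w, hwdef⟩ : ∃ w : Fin 3 → (Fin 2 → K), w = fun i => (q i).rep := ⟨_, rfl⟩
  have hv0 : ∀ i, v i ≠ 0 := fun i => by rw [hvdef]; exact (p i).rep_nonzero
  have hw0 : ∀ i, w i ≠ 0 := fun i => by rw [hwdef]; exact (q i).rep_nonzero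
  have hpv : ∀ i, p i = Projectivization.mk K (v i) (hv0 i) := fun i => by
    subst hvdef; exact (Projectivization.mk_rep (p i)).symm
  have hqw : ∀ i, q i = Projectivization.mk K (w i) (hw0 i) := fun i => by
    subst hwdef; exact (Projectivization.mk_rep (q i)).symm
  have hDv : ∀ i j, i ≠ j → D2 (v i) (v j) ≠ 0 := by
    intro i j hij h
    apply hij; apply hp
    rw [hpv i, hpv j, mk_eq_mk_iff_D2]; exact h
  have hDw : ∀ i j, i ≠ j → D2 (w i) (w j) ≠ 0 := by
    intro i j hij h
    apply hij; apply hq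
    rw [hqw i, hqw j, mk_eq_mk_iff_D2]; exact h
  obtain ⟨M, hMdef⟩ : ∃ M, M = frameMat (v 0) (v 1) (v 2) (w 0) (w 1) (w 2) := ⟨_, rfl⟩
  obtain ⟨c, hcdef⟩ : ∃ c : Fin 3 → K, c = ![D2 (v 0) (v 1) * (D2 (w 2) (w 1) * D2 (v 0) (v 2)),
      D2 (v 0) (v 1) * (D2 (w 0) (w 2) * D2 (v 2) (v 1)),
      D2 (v 2) (v 1) * D2 (v 0) (v 2) * D2 (w 0) (w 1)] := ⟨_, rfl⟩
  have hc : ∀ i, c i ≠ 0 := by
    intro i
    rw [hcdef]
    fin_cases i
    · exact mul_ne_zero (hDv 0 1 (by decide)) (mul_ne_zero (hDw 2 1 (by decide)) (hDv 0 2 (by decide)))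
    · exact mul_ne_zero (hDv 0 1 (by decide)) (mul_ne_zero (hDw 0 2 (by decide)) (hDv 2 1 (by decide)))
    · exact mul_ne_zero (mul_ne_zero (hDv 2 1 (by decide)) (hDv 0 2 (by decide))) (hDw 0 1 (by decide))
  have hMv : ∀ i, M *ᵥ v i = c i • w i := by
    intro i
    rw [hMdef, hcdef]
    fin_cases i
    · exact frameMat_v1 _ _ _ _ _ _
    · exact frameMat_v2 _ _ _ _ _ _
    · exact frameMat_v3 _ _ _ _ _ _
  have hMdet : M.det ≠ 0 := by
    rw [hMdef, frameMat_det]
    exact mul_ne_zero (mul_ne_zero (mul_ne_zero (hDw 0 1 (by decide))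
      (mul_ne_zero (hDw 2 1 (by decide)) (hDv 0 2 (by decide))))
      (mul_ne_zero (hDw 0 2 (by decide)) (hDv 2 1 (by decide)))) (hDv 0 1 (by decide))
  -- Galois twist
  have hσ : ∀ σ : K ≃ₐ[k] K, ∃ l : K, M.map σ = l • M := by
    intro σ
    have hsol : ∀ j, ∃ c' : K, (M.map σ) *ᵥ v j = c' • w j := by
      intro j
      obtain ⟨i, hpi, hqi⟩ := H σ j
      rw [hpv i, hpv j, galP_mk σ _ _ (sigma_ne_zero σ _ (hv0 i)), eq_comm,
        Projectivization.mk_eq_mk_iff'] at hpi
      rw [hqw i, hqw j, galP_mk σ _ _ (sigma_ne_zero σ _ (hw0 i)),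
        Projectivization.mk_eq_mk_iff'] at hqi
      obtain ⟨s, hs⟩ := hpi
      obtain ⟨t, ht⟩ := hqi
      -- hs : s • (σ ∘ v i) = v j ; ht : t • w j = σ ∘ w i
      have h1 : (M.map σ) *ᵥ (fun a => σ (v i a)) = σ (c i) • (fun a => σ (w i a)) := by
        have := congrArg (fun x : Fin 2 → K => fun a => σ (x a)) (hMv i)
        have e2 : (fun a => σ ((c i • w i) a)) = σ (c i) • (fun a => σ (w i a)) := by
          funext a; simp
        rw [← e2, ← this]
        funext a
        simp [Matrix.mulVec, dotProduct, map_sum, map_mul]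
      refine ⟨s * σ (c i) * t, ?_⟩
      rw [← hs, Matrix.mulVec_smul, h1, ← ht, smul_smul, smul_smul]
    choose c' hc' using hsol
    exact prop_of_two_solutions M (M.map σ) hMdet v w (hDv 0 1 (by decide)) (hDv 0 2 (by decide))
      (hDv 1 2 (by decide)) c c' hc hMv hc'
  -- nonzero entry
  obtain ⟨i0, j0, ha⟩ : ∃ i0 j0, M i0 j0 ≠ 0 := by
    by_contra hcon
    push Not at hcon
    apply hMdet
    have : M = 0 := by ext i j; exact hcon i j
    rw [this]; simp
  obtain ⟨M0, hM0⟩ : ∃ M0, M0 = (M i0 j0)⁻¹ • M := ⟨_, rfl⟩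
  have hfix : ∀ (σ : K ≃ₐ[k] K) i j, σ (M0 i j) = M0 i j := by
    intro σ i j
    obtain ⟨l, hl⟩ := hσ σ
    have hl' : ∀ i j, σ (M i j) = l * M i j := fun i j => by
      have := congrFun (congrFun hl i) j
      simpa using this
    have hl0 : l ≠ 0 := by
      intro h0
      have := hl' i0 j0
      rw [h0, zero_mul] at this
      exact ha (by simpa using this)
    rw [hM0]
    simp only [Matrix.smul_apply, smul_eq_mul, map_mul, map_inv₀, hl']
    field_simp
  have hrange : ∀ i j, ∃ m : k, algebraMap k K m = M0 i j := fun i j =>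
    (IsGalois.mem_range_algebraMap_iff_fixed (M0 i j)).mpr (fun σ => hfix σ i j)
  choose Mk hMk using hrange
  have hMkmap : (Matrix.of Mk).map (algebraMap k K) = M0 := by
    ext i j; simp [hMk]
  have hM0det : M0.det ≠ 0 := by
    rw [hM0, Matrix.det_smul]
    exact mul_ne_zero (pow_ne_zero _ (inv_ne_zero ha)) hMdet
  have hMkdet : (Matrix.of Mk).det ≠ 0 := by
    intro h
    apply hM0det
    rw [← hMkmap, ← RingHom.mapMatrix_apply, ← RingHom.map_det, h, map_zero]
  refine ⟨Matrix.GeneralLinearGroup.mkOfDetNeZero (Matrix.of Mk) hMkdet, ?_⟩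
  intro i
  have hcoe : ((Matrix.GeneralLinearGroup.map (algebraMap k K))
      (Matrix.GeneralLinearGroup.mkOfDetNeZero (Matrix.of Mk) hMkdet)).1 = M0 := by
    rw [← hMkmap]; rfl
  have hne : ((Matrix.GeneralLinearGroup.map (algebraMap k K))
      (Matrix.GeneralLinearGroup.mkOfDetNeZero (Matrix.of Mk) hMkdet)).1 *ᵥ v i ≠ 0 := by
    rw [hcoe, hM0, Matrix.smul_mulVec, hMv i, smul_smul]
    exact smul_ne_zero (mul_ne_zero (inv_ne_zero ha) (hc i)) (hw0 i)
  rw [hpv i, smul_mk_eq _ _ _ hne, hqw i, Projectivization.mk_eq_mk_iff']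
  refine ⟨(M i0 j0)⁻¹ * c i, ?_⟩
  rw [hcoe, hM0, Matrix.smul_mulVec, hMv i, smul_smul]

end gal


section wrap
variable {k K : Type u} [Field k] [Field K] [Algebra k K]

theorem v10_ne : (![1, 0] : Fin 2 → K) ≠ 0 := by
  intro h; have := congrFun h 0; simp at this
theorem v01_ne : (![0, 1] : Fin 2 → K) ≠ 0 := by
  intro h; have := congrFun h 1; simp at this
theorem v11_ne : (![1, 1] : Fin 2 → K) ≠ 0 := by
  intro h; have := congrFun h 0; simp at this

/-- the three standard rational points -/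
def Rset (K : Type u) [Field K] : Set (Projectivization K (Fin 2 → K)) :=
  {Projectivization.mk K ![1, 0] v10_ne, Projectivization.mk K ![0, 1] v01_ne,
    Projectivization.mk K ![1, 1] v11_ne}

theorem Rset_ncard : (Rset K).ncard = 3 := by
  rw [Set.ncard_eq_three]
  refine ⟨_, _, _, ?_, ?_, ?_, rfl⟩
  · rw [Ne, mk_eq_mk_iff_D2]; simp [D2]
  · rw [Ne, mk_eq_mk_iff_D2]; simp [D2]
  · rw [Ne, mk_eq_mk_iff_D2]; simp [D2]

theorem Rset_fixed (σ : K ≃ₐ[k] K) (r : Projectivization K (Fin 2 → K)) (hr : r ∈ Rset K) :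
    W4c1stackycurves.galP σ r = r := by
  unfold Rset at hr
  simp only [Set.mem_insert_iff, Set.mem_singleton_iff] at hr
  rcases hr with rfl | rfl | rfl
  · rw [galP_mk σ _ _ (sigma_ne_zero σ _ v10_ne)]
    congr 1
    funext i; fin_cases i <;> simp
  · rw [galP_mk σ _ _ (sigma_ne_zero σ _ v01_ne)]
    congr 1
    funext i; fin_cases i <;> simp
  · rw [galP_mk σ _ _ (sigma_ne_zero σ _ v11_ne)]
    congr 1
    funext i; fin_cases i <;> simp

theorem galP_galP_symm (σ : K ≃ₐ[k] K) (x : Projectivization K (Fin 2 → K)) :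
    W4c1stackycurves.galP σ (W4c1stackycurves.galP σ.symm x) = x := by
  induction x using Projectivization.ind with
  | h v hv =>
    rw [galP_mk σ.symm _ _ (sigma_ne_zero σ.symm _ hv),
      galP_mk σ _ _ (sigma_ne_zero σ _ (sigma_ne_zero σ.symm _ hv))]
    congr 1
    funext i; simp

variable [FiniteDimensional k K] [IsGalois k K]

theorem ext_main : ∀ (n : ℕ) (S : Set (Projectivization K (Fin 2 → K)))
    (β : Projectivization K (Fin 2 → K) → Projectivization K (Fin 2 → K)),
    S.Finite → S.ncard + n = 3 →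
    (∀ (σ : K ≃ₐ[k] K) x, x ∈ S → W4c1stackycurves.galP σ x ∈ S) →
    Set.InjOn β S →
    (∀ (σ : K ≃ₐ[k] K) x, x ∈ S → β (W4c1stackycurves.galP σ x) = W4c1stackycurves.galP σ (β x)) →
    ∃ g : Matrix.GeneralLinearGroup (Fin 2) k, ∀ x ∈ S,
      (Matrix.GeneralLinearGroup.toLin ((Matrix.GeneralLinearGroup.map (algebraMap k K)) g)) • x = β x := by
  classical
  intro n
  induction n with
  | zero =>
    intro S β hfin hcard hstab hinj heq
    rw [add_zero, Set.ncard_eq_three] at hcard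
    obtain ⟨x, y, z, hxy, hxz, hyz, rfl⟩ := hcard
    have hpinj : Function.Injective (![x, y, z] : Fin 3 → _) := by
      intro i j hij
      fin_cases i <;> fin_cases j <;> simp_all
    have hmem : ∀ i, (![x, y, z] : Fin 3 → _) i ∈ ({x, y, z} : Set _) := by
      intro i; fin_cases i <;> simp
    obtain ⟨g, hg⟩ := main_frame (k := k) (![x, y, z]) (fun i => β (![x, y, z] i)) hpinj
      (fun i j hij => hpinj (hinj (hmem i) (hmem j) hij))
      (by
        intro σ j
        have h1 := hstab σ.symm _ (hmem j)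
        have : ∃ i, (![x, y, z] : Fin 3 → _) i = W4c1stackycurves.galP σ.symm (![x, y, z] j) := by
          simp only [Set.mem_insert_iff, Set.mem_singleton_iff] at h1
          rcases h1 with h | h | h
          · exact ⟨0, by simp [h]⟩
          · exact ⟨1, by simp [h]⟩
          · exact ⟨2, by simp [h]⟩
        obtain ⟨i, hi⟩ := this
        refine ⟨i, ?_, ?_⟩
        · rw [hi, galP_galP_symm]
        · rw [← heq σ _ (hmem i), hi, galP_galP_symm])
    refine ⟨g, ?_⟩
    intro t ht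
    simp only [Set.mem_insert_iff, Set.mem_singleton_iff] at ht
    rcases ht with rfl | rfl | rfl
    · exact hg 0
    · exact hg 1
    · exact hg 2
  | succ n ih =>
    intro S β hfin hcard hstab hinj heq
    have hlt : S.ncard < (Rset K).ncard := by rw [Rset_ncard]; omega
    obtain ⟨r, hrR, hrS⟩ := Set.exists_mem_notMem_of_ncard_lt_ncard hlt hfin
    have hlt' : (β '' S).ncard < (Rset K).ncard := by
      rw [hinj.ncard_image, Rset_ncard]; omega
    obtain ⟨r', hrR', hrS'⟩ := Set.exists_mem_notMem_of_ncard_lt_ncard hlt' (hfin.image β)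
    have hβ₁ : ∀ x ∈ S, Function.update β r r' x = β x := fun x hx =>
      Function.update_of_ne (fun h : x = r => hrS (by rw [← h]; exact hx)) _ _
    obtain ⟨g, hg⟩ := ih (insert r S) (Function.update β r r') (hfin.insert r)
      (by rw [Set.ncard_insert_of_notMem hrS hfin]; omega)
      (by
        intro σ x hx
        rcases hx with rfl | hx
        · rw [Rset_fixed σ _ hrR]; exact Set.mem_insert _ _
        · exact Set.mem_insert_of_mem _ (hstab σ x hx))
      (by
        intro x hx y hy hxy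
        rcases hx with rfl | hx
        · rcases hy with rfl | hy
          · rfl
          · rw [Function.update_self, hβ₁ y hy] at hxy
            exact absurd ⟨y, hy, hxy.symm⟩ hrS'
        · rcases hy with rfl | hy
          · rw [Function.update_self, hβ₁ x hx] at hxy
            exact absurd ⟨x, hx, hxy⟩ hrS'
          · rw [hβ₁ x hx, hβ₁ y hy] at hxy
            exact hinj hx hy hxy)
      (by
        intro σ x hx
        rcases hx with rfl | hx
        · rw [Rset_fixed σ _ hrR, Function.update_self, Rset_fixed σ _ hrR']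
        · rw [hβ₁ x hx, hβ₁ _ (hstab σ x hx)]
          exact heq σ x hx)
    exact ⟨g, fun x hx => by rw [hg x (Set.mem_insert_of_mem _ hx), hβ₁ x hx]⟩

end wrap


end

/-- Let k be a field and K a finite Galois extension of k. Let S be a finite set of at most three
K-points of the projective line that is stable under the Galois group of K over k, and let b be a
Galois-equivariant bijection from S onto another set S' of K-points. Then some element of GL_2(k)
maps S onto S'. (This is the statement that two closed subschemes of the projective line over k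
which are etale over k of the same degree at most 3 and have isomorphic k-algebras of functions are
exchanged by a k-automorphism of the line, written for their sets of points over a finite Galois
extension K of k splitting both; an isomorphism of the function algebras is the same as a
Galois-equivariant bijection of these point sets.) -/
theorem result (k K : Type u) [Field k] [Field K]
    [Algebra k K] [FiniteDimensional k K] [IsGalois k K]
    (S S' : Set (Projectivization K (Fin 2 → K))) (hfin : S.Finite) (h3 : S.ncard ≤ 3)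
    (hS : ∀ (σ : K ≃ₐ[k] K) (x : Projectivization K (Fin 2 → K)), x ∈ S → W4c1stackycurves.galP σ x ∈ S)
    (b : S ≃ S')
    (hb : ∀ (σ : K ≃ₐ[k] K) (x : S),
      (b ⟨W4c1stackycurves.galP σ x.1, hS σ x.1 x.2⟩ : Projectivization K (Fin 2 → K)) =
        W4c1stackycurves.galP σ (b x).1) :
    ∃ g : Matrix.GeneralLinearGroup (Fin 2) k,
      (fun x => (Matrix.GeneralLinearGroup.toLin ((Matrix.GeneralLinearGroup.map (algebraMap k K)) g)) • x) '' S = S' := by
  classical
  obtain ⟨β, hβ⟩ : ∃ β : Projectivization K (Fin 2 → K) → Projectivization K (Fin 2 → K),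
      ∀ x (h : x ∈ S), β x = b ⟨x, h⟩ :=
    ⟨fun x => if h : x ∈ S then (b ⟨x, h⟩ : Projectivization K (Fin 2 → K)) else x,
      fun x h => dif_pos h⟩
  obtain ⟨g, hg⟩ := ext_main (k := k) (3 - S.ncard) S β hfin (by omega) hS
    (by
      intro x hx y hy hxy
      rw [hβ x hx, hβ y hy] at hxy
      exact congrArg Subtype.val (b.injective (Subtype.ext hxy)))
    (by
      intro σ x hx
      rw [hβ _ (hS σ x hx), hβ x hx]
      exact hb σ ⟨x, hx⟩)
  refine ⟨g, ?_⟩
  ext y
  constructor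
  · rintro ⟨x, hx, rfl⟩
    show _ • x ∈ S'
    rw [hg x hx, hβ x hx]
    exact (b ⟨x, hx⟩).2
  · intro hy
    refine ⟨(b.symm ⟨y, hy⟩ : Projectivization K (Fin 2 → K)), (b.symm ⟨y, hy⟩).2, ?_⟩
    show _ • _ = y
    rw [hg _ (b.symm ⟨y, hy⟩).2, hβ _ (b.symm ⟨y, hy⟩).2]
    simp
  

end Groth.Agent.S13783
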