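import Groth.Statements.S13784
import Mathlib.RingTheory.IntegralDomain
import Mathlib.RingTheory.LocalRing.ResidueField.Basic
import Mathlib.Algebra.Ring.GeomSum

set_option autoImplicit false
universe u
open CAlg

namespace Groth.Agent.S13784

/-- Let A be a commutative local ring and G a finite subgroup of Aˣ. If the order of G is invertible in
A, then G is cyclic. -/
theorem result {A : Type u} [CommRing A] [IsLocalRing A]
    (G : Subgroup Aˣ) [Finite G] (hG : IsUnit ((Nat.card G : ℕ) : A)) : IsCyclic G := by
  classical
  -- the map to the residue field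
  let f : G →* IsLocalRing.ResidueField A :=
    ((IsLocalRing.residue A : A →* IsLocalRing.ResidueField A).comp (Units.coeHom A)).comp G.subtype
  have hf : Function.Injective f := by
    rw [injective_iff_map_eq_one]
    intro g hg
    have hg1 : IsLocalRing.residue A ((g : Aˣ) : A) = 1 := hg
    set x : A := ((g : Aˣ) : A) with hx
    have hxm : x - 1 ∈ IsLocalRing.maximalIdeal A := by
      rw [← IsLocalRing.residue_eq_zero_iff, map_sub, hg1, map_one, sub_self]
    have hpow : x ^ Nat.card G = 1 := by
      have h1 : g ^ Nat.card G = 1 := pow_card_eq_one'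
      have h2 : (((g ^ Nat.card G : G) : Aˣ) : A) = ((1 : G) : Aˣ) := by rw [h1]
      rw [Subgroup.coe_pow, Units.val_pow_eq_pow_val, Subgroup.coe_one, Units.val_one] at h2
      exact h2
    -- the geometric sum is a unit
    have hsum : IsUnit (∑ i ∈ Finset.range (Nat.card G), x ^ i) := by
      have h3 : IsLocalRing.residue A (∑ i ∈ Finset.range (Nat.card G), x ^ i) =
          IsLocalRing.residue A ((Nat.card G : ℕ) : A) := by
        rw [map_sum]
        simp only [map_pow, hx]
        rw [hg1]
        simp
      have h4 : IsUnit (IsLocalRing.residue A (∑ i ∈ Finset.range (Nat.card G), x ^ i)) := by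
        rw [h3]; exact hG.map _
      exact isUnit_of_map_unit (IsLocalRing.residue A) _ h4
    have h5 : (∑ i ∈ Finset.range (Nat.card G), x ^ i) * (x - 1) = 0 := by
      rw [geom_sum_mul, hpow, sub_self]
    have h6 : x - 1 = 0 := (hsum.mul_right_eq_zero).mp h5
    have h7 : x = 1 := sub_eq_zero.mp h6
    ext
    exact h7
  exact isCyclic_of_injective_ringHom f hf

end Groth.Agent.S13784
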