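import Groth.Statements.S13786
import Mathlib
import Groth.Agent.Lib.MvPolyNZD50

set_option autoImplicit false
universe u
open CAlg

namespace Groth.Agent.S13786
open MvPolynomial

/-- flatness of `A[X_σ]/(d)` when `d` stays a nonzerodivisor modulo every ideal of `A`. -/
lemma flat_quotient (A : Type u) [CommRing A] (σ : Type) (d : MvPolynomial σ A)
    (hd : ∀ I : Ideal A, MvPolynomial.map (Ideal.Quotient.mk I) d ∈
      nonZeroDivisors (MvPolynomial σ (A ⧸ I))) :
    Module.Flat A (MvPolynomial σ A ⧸ Ideal.span {d}) := by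
  classical
  apply Module.Flat.of_forall_isTrivialRelation
  intro l f x hfx
  -- lift
  choose X hX using fun i => Ideal.Quotient.mk_surjective (x i)
  have h1 : (∑ i, f i • X i) ∈ Ideal.span {d} := by
    rw [← Ideal.Quotient.eq_zero_iff_mem, map_sum]
    rw [← hfx]
    refine Finset.sum_congr rfl fun i _ => ?_
    rw [← hX i]
    exact map_smul (Ideal.Quotient.mkₐ A (Ideal.span {d})) (f i) (X i)
  obtain ⟨y, hy⟩ := Ideal.mem_span_singleton.mp h1
  let I : Ideal A := Ideal.span (Set.range f)
  have h2 : MvPolynomial.map (Ideal.Quotient.mk I) y = 0 := by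
    have h3 : MvPolynomial.map (Ideal.Quotient.mk I) (∑ i, f i • X i) = 0 := by
      rw [map_sum]
      refine Finset.sum_eq_zero fun i _ => ?_
      rw [MvPolynomial.smul_eq_C_mul, map_mul, MvPolynomial.map_C]
      have : Ideal.Quotient.mk I (f i) = 0 :=
        Ideal.Quotient.eq_zero_iff_mem.mpr (Ideal.subset_span ⟨i, rfl⟩)
      rw [this, map_zero, zero_mul]
    rw [hy, map_mul] at h3
    exact (mul_left_mem_nonZeroDivisors_eq_zero_iff (hd I)).mp h3
  have h4 : y ∈ Ideal.map (C : A →+* MvPolynomial σ A) I := by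
    have : y ∈ RingHom.ker (MvPolynomial.map (Ideal.Quotient.mk I) :
        MvPolynomial σ A →+* MvPolynomial σ (A ⧸ I)) := h2
    rw [MvPolynomial.ker_map, Ideal.mk_ker] at this
    exact this
  have h5 : ∃ z : Fin l → MvPolynomial σ A, y = ∑ i, f i • z i := by
    rw [Ideal.map_span, ← Set.range_comp] at h4
    obtain ⟨z, hz⟩ := (Ideal.mem_span_range_iff_exists_fun).mp h4
    refine ⟨z, ?_⟩
    rw [← hz]
    refine Finset.sum_congr rfl fun i _ => ?_
    rw [MvPolynomial.smul_eq_C_mul, mul_comm]
    rfl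
  obtain ⟨z, hz⟩ := h5
  have h6 : ∑ i, f i • (X i - d * z i) = 0 := by
    simp only [smul_sub, Finset.sum_sub_distrib]
    rw [hy, hz, Finset.mul_sum]
    rw [sub_eq_zero]
    refine Finset.sum_congr rfl fun i _ => ?_
    rw [mul_smul_comm]
  obtain ⟨k, a, Y, hY, ha⟩ := Module.Flat.isTrivialRelation_of_sum_smul_eq_zero h6
  refine ⟨k, a, fun j => Ideal.Quotient.mk _ (Y j), fun i => ?_, ha⟩
  have h7 : x i = Ideal.Quotient.mk (Ideal.span {d}) (X i - d * z i) := by
    rw [map_sub, hX i]
    have : Ideal.Quotient.mk (Ideal.span {d}) (d * z i) = 0 :=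
      Ideal.Quotient.eq_zero_iff_mem.mpr (Ideal.mul_mem_right _ _ (Ideal.mem_span_singleton_self d))
    rw [this, sub_zero]
  have hYi : X i - d * z i = ∑ j, a i j • Y j := hY i
  rw [h7, hYi, map_sum]
  refine Finset.sum_congr rfl fun j _ => ?_
  exact map_smul (Ideal.Quotient.mkₐ A (Ideal.span {d})) (a i j) (Y j)


/-- For a commutative ring A and n ≥ 1, with det the determinant of the generic n × n matrix in the
polynomial ring A[X] in n² indeterminates, the A-algebra A[X]/(det) is faithfully flat over A. (For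
n = 0 the determinant is 1 and the quotient is the zero ring, so n ≥ 1 is required.) -/
theorem result (A : Type u) [CommRing A] (n : ℕ) (hn : 0 < n) :
    Module.FaithfullyFlat A
      (MvPolynomial (Fin n × Fin n) A ⧸ Ideal.span {(Matrix.mvPolynomialX (Fin n) (Fin n) A).det}) := by
  have hflat := flat_quotient A (Fin n × Fin n) (Matrix.mvPolynomialX (Fin n) (Fin n) A).det
    (fun I => by
      have : MvPolynomial.map (Ideal.Quotient.mk I) (Matrix.mvPolynomialX (Fin n) (Fin n) A).det =
          (Matrix.mvPolynomialX (Fin n) (Fin n) (A ⧸ I)).det := by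
        rw [RingHom.map_det]
        congr 1
        ext i j : 1
        simp [Matrix.mvPolynomialX]
      rw [this]
      exact Groth.Agent.Lib.MvPolyNZD50.det_mvPolynomialX_mem_nonZeroDivisors (A ⧸ I) n)
  have : Nonempty (Fin n) := ⟨⟨0, hn⟩⟩
  -- the retraction
  let r : (MvPolynomial (Fin n × Fin n) A ⧸
      Ideal.span {(Matrix.mvPolynomialX (Fin n) (Fin n) A).det}) →ₐ[A] A :=
    Ideal.Quotient.liftₐ _ (MvPolynomial.aeval (fun _ => (0 : A))) (by
      intro a ha
      obtain ⟨b, rfl⟩ := Ideal.mem_span_singleton.mp ha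
      rw [map_mul, AlgHom.map_det]
      have : (MvPolynomial.aeval (fun _ => (0 : A))).mapMatrix
          (Matrix.mvPolynomialX (Fin n) (Fin n) A) = 0 := by
        ext i j
        simp [Matrix.mvPolynomialX]
      rw [this, Matrix.det_zero, zero_mul])
  refine { hflat with submodule_ne_top := ?_ }
  intro m hm htop
  have h1 : (1 : MvPolynomial (Fin n × Fin n) A ⧸
      Ideal.span {(Matrix.mvPolynomialX (Fin n) (Fin n) A).det}) ∈ m • (⊤ : Submodule A _) := by
    rw [htop]; trivial
  have h2 : r.toLinearMap 1 ∈ Submodule.map r.toLinearMap (m • (⊤ : Submodule A _)) :=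
    Submodule.mem_map_of_mem h1
  rw [Submodule.map_smul''] at h2
  have h3 : m • Submodule.map r.toLinearMap ⊤ ≤ m := by
    calc m • Submodule.map r.toLinearMap ⊤ ≤ m • (⊤ : Submodule A A) := smul_mono_right _ le_top
      _ = m := by simp
  have h4 := h3 h2
  simp only [AlgHom.toLinearMap_apply, map_one] at h4
  exact hm.ne_top ((Ideal.eq_top_iff_one m).mpr h4)

end Groth.Agent.S13786
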