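import Groth.Statements.S13787
import Groth.Agent.Lib.MvPolyNZD50
import Mathlib.LinearAlgebra.Matrix.Determinant.Basic
import Mathlib.Tactic.Ring
import Mathlib.Tactic.Linarith

set_option autoImplicit false
universe u
open CAlg

namespace Groth.Agent.S13787

/-- the "diagonal" specialization `X_ij ↦ δ_ij T`. -/
noncomputable def diagHom (A : Type u) [CommRing A] (n : ℕ) :
    MvPolynomial (Fin n × Fin n) A →ₐ[A] Polynomial A :=
  MvPolynomial.aeval (fun ij : Fin n × Fin n => if ij.1 = ij.2 then (Polynomial.X : Polynomial A) else 0)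

lemma map_det_eq_X_pow (A : Type u) [CommRing A] (n : ℕ) :
    diagHom A n (Matrix.mvPolynomialX (Fin n) (Fin n) A).det = Polynomial.X ^ n := by
  classical
  rw [AlgHom.map_det]
  have : (diagHom A n).mapMatrix (Matrix.mvPolynomialX (Fin n) (Fin n) A) =
      Matrix.diagonal (fun _ => (Polynomial.X : Polynomial A)) := by
    ext i j
    simp [diagHom, Matrix.diagonal_apply]
  rw [this, Matrix.det_diagonal, Finset.prod_const, Finset.card_univ, Fintype.card_fin]

/-- negative exponents are impossible. -/
lemma not_neg (A : Type u) [CommRing A] [Nontrivial A] (n : ℕ) (hn : 0 < n) (v : Aˣ) (k : ℤ)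
    (hk : k < 0) :
    ¬ (Units.map (algebraMap A (Localization.Away (Matrix.mvPolynomialX (Fin n) (Fin n) A).det)).toMonoidHom v =
      (IsLocalization.Away.algebraMap_isUnit
        (S := Localization.Away (Matrix.mvPolynomialX (Fin n) (Fin n) A).det)
        (Matrix.mvPolynomialX (Fin n) (Fin n) A).det).unit ^ k) := by
  classical
  intro hvk
  set D := (Matrix.mvPolynomialX (Fin n) (Fin n) A).det with hD
  set L := Localization.Away D with hL
  have hDnzd : D ∈ nonZeroDivisors (MvPolynomial (Fin n × Fin n) A) :=
    Groth.Agent.Lib.MvPolyNZD50.det_mvPolynomialX_mem_nonZeroDivisors A n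
  have hinjBL : Function.Injective (algebraMap (MvPolynomial (Fin n × Fin n) A) L) :=
    IsLocalization.injective L (M := Submonoid.powers D) (Submonoid.powers_le.mpr hDnzd)
  set dU : Lˣ := (IsLocalization.Away.algebraMap_isUnit (S := L) D).unit with hdU
  have hdUval : (dU : L) = algebraMap _ L D := rfl
  have hAL : ∀ a : A, algebraMap A L a = algebraMap (MvPolynomial (Fin n × Fin n) A) L (MvPolynomial.C a) :=
    fun a => IsScalarTower.algebraMap_apply A (MvPolynomial (Fin n × Fin n) A) L a
  obtain ⟨m, rfl⟩ : ∃ m : ℕ, k = -((m : ℤ) + 1) := ⟨(-k - 1).toNat, by omega⟩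
  have h1 : Units.map (algebraMap A L).toMonoidHom v * dU ^ (m + 1) = 1 := by
    rw [hvk, zpow_neg]
    have : dU ^ ((m : ℤ) + 1) = dU ^ (m + 1) := by
      rw [← zpow_natCast]; push_cast; rfl
    rw [this, inv_mul_cancel]
  have h2 : algebraMap (MvPolynomial (Fin n × Fin n) A) L (MvPolynomial.C (v : A) * D ^ (m + 1)) =
      algebraMap (MvPolynomial (Fin n × Fin n) A) L 1 := by
    have := congrArg (fun u : Lˣ => (u : L)) h1
    simp only [Units.val_mul, Units.val_pow_eq_pow_val, hdUval, Units.val_one] at this
    rw [map_mul, map_pow, map_one, ← hAL]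
    exact this
  have h3 : MvPolynomial.C (v : A) * D ^ (m + 1) = 1 := hinjBL h2
  have h4 := congrArg (diagHom A n) h3
  rw [map_mul, map_pow, map_det_eq_X_pow, ← pow_mul, map_one] at h4
  have h5 := congrArg (fun p => Polynomial.coeff p 0) h4
  simp only [diagHom, MvPolynomial.aeval_C, Polynomial.algebraMap_apply, Algebra.algebraMap_self,
    RingHom.id_apply, Polynomial.coeff_C_mul, Polynomial.coeff_X_pow, Polynomial.coeff_one_zero] at h5
  have hne : (0 : ℕ) ≠ n * (m + 1) := by positivity
  rw [if_neg hne, mul_zero] at h5
  exact zero_ne_one h5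


/-- Let A be a nonzero commutative ring and n ≥ 1, let det be the determinant of the generic n × n
matrix in the polynomial ring A[X] in its n² entries, and let A[X, 1/det] be the localization at det
(the coordinate ring of GL_n over A). The homomorphism Aˣ × ℤ → (A[X, 1/det])ˣ sending (a, e) to a ·
det^e is injective. (The published statement takes the exponent in the group of locally constant
ℤ-valued functions on Spec A, which also covers A = 0; with integer exponents as here, A must be
nonzero and n ≥ 1.) -/
theorem result (A : Type u) [CommRing A] [Nontrivial A] (n : ℕ) (hn : 0 < n) :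
    Function.Injective (fun p : Aˣ × ℤ =>
        Units.map (algebraMap A (Localization.Away (Matrix.mvPolynomialX (Fin n) (Fin n) A).det)).toMonoidHom p.1 *
          (IsLocalization.Away.algebraMap_isUnit (S := Localization.Away (Matrix.mvPolynomialX (Fin n) (Fin n) A).det)
            (Matrix.mvPolynomialX (Fin n) (Fin n) A).det).unit ^ p.2) := by
  classical
  set D := (Matrix.mvPolynomialX (Fin n) (Fin n) A).det with hD
  set L := Localization.Away D with hL
  have hDnzd : D ∈ nonZeroDivisors (MvPolynomial (Fin n × Fin n) A) :=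
    Groth.Agent.Lib.MvPolyNZD50.det_mvPolynomialX_mem_nonZeroDivisors A n
  have hinjBL : Function.Injective (algebraMap (MvPolynomial (Fin n × Fin n) A) L) :=
    IsLocalization.injective L (M := Submonoid.powers D) (Submonoid.powers_le.mpr hDnzd)
  set dU : Lˣ := (IsLocalization.Away.algebraMap_isUnit (S := L) D).unit with hdU
  have hdUval : (dU : L) = algebraMap _ L D := rfl
  have hAL : ∀ a : A, algebraMap A L a = algebraMap (MvPolynomial (Fin n × Fin n) A) L (MvPolynomial.C a) :=
    fun a => IsScalarTower.algebraMap_apply A (MvPolynomial (Fin n × Fin n) A) L a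
  -- the key claim
  have key : ∀ (v : Aˣ) (k : ℤ), Units.map (algebraMap A L).toMonoidHom v = dU ^ k → k = 0 ∧ v = 1 := by
    intro v k hvk
    have hφD := map_det_eq_X_pow A n
    have hk0 : k = 0 := by
      rcases Int.eq_ofNat_of_zero_le (a := k) (by by_contra hneg; exact absurd hvk (not_neg A n hn v k (by omega))) with ⟨m, rfl⟩
      have h1 : algebraMap A L v = algebraMap _ L (D ^ m) := by
        have := congrArg (fun u : Lˣ => (u : L)) hvk
        simpa [hdUval] using this
      rw [hAL] at h1
      have h2 : MvPolynomial.C (v : A) = D ^ m := hinjBL h1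
      have h3 := congrArg (diagHom A n) h2
      rw [map_pow, hφD, ← pow_mul] at h3
      by_contra hm
      have hm' : n * m ≠ 0 := by
        intro h0
        rcases Nat.mul_eq_zero.mp h0 with h | h
        · omega
        · exact hm (by simp [h])
      have h4 := congrArg (fun p => Polynomial.coeff p 0) h3
      simp only [diagHom, MvPolynomial.aeval_C, Polynomial.algebraMap_apply, Algebra.algebraMap_self, RingHom.id_apply, Polynomial.coeff_C_zero, Polynomial.coeff_X_pow] at h4
      rw [if_neg (Ne.symm hm')] at h4
      exact v.ne_zero h4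
    refine ⟨hk0, ?_⟩
    rw [hk0, zpow_zero] at hvk
    have h1 : algebraMap A L v = algebraMap A L 1 := by
      have := congrArg (fun u : Lˣ => (u : L)) hvk
      simpa using this
    rw [hAL, hAL] at h1
    have h2 := MvPolynomial.C_injective _ _ (hinjBL h1)
    exact Units.ext h2
  intro p p' hpp
  obtain ⟨a, e⟩ := p
  obtain ⟨a', e'⟩ := p'
  simp only at hpp
  have h1 : Units.map (algebraMap A L).toMonoidHom (a'⁻¹ * a) = dU ^ (e' - e) := by
    rw [map_mul, map_inv, zpow_sub]
    rw [inv_mul_eq_iff_eq_mul, ← mul_assoc, eq_mul_inv_iff_mul_eq]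
    exact hpp
  obtain ⟨hk, hv⟩ := key _ _ h1
  have he : e = e' := by omega
  have ha : a = a' := by
    have := inv_mul_eq_one.mp hv
    exact this.symm
  rw [he, ha]

end Groth.Agent.S13787
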