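import Groth.Statements.S13788
import Groth.Agent.Lib.UnitsGL38
import Groth.Agent.S13787

set_option autoImplicit false
universe u
open CAlg

namespace Groth.Agent.S13788

/-- Units of GL_n: let A be a nonzero commutative ring whose only idempotents are 0 and 1, let n ≥ 1,
let det be the determinant of the generic n × n matrix in the polynomial ring A[X] in its n²
entries, and let A[X, 1/det] be the coordinate ring of GL_n over A. The homomorphism Aˣ × ℤ → (A[X,
1/det])ˣ, (a, e) ↦ a · det^e, is bijective if and only if A is reduced. (The published statement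
allows Spec A disconnected, with exponents locally constant ℤ-valued functions on Spec A; this row
is the connected case, to which the published proof reduces.) -/
theorem result (A : Type u) [CommRing A] [Nontrivial A]
    (hconn : ∀ e : A, IsIdempotentElem e → e = 0 ∨ e = 1) (n : ℕ) (hn : 0 < n) :
    Function.Bijective (fun p : Aˣ × ℤ =>
        Units.map (algebraMap A (Localization.Away (Matrix.mvPolynomialX (Fin n) (Fin n) A).det)).toMonoidHom p.1 *
          (IsLocalization.Away.algebraMap_isUnit (S := Localization.Away (Matrix.mvPolynomialX (Fin n) (Fin n) A).det)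
            (Matrix.mvPolynomialX (Fin n) (Fin n) A).det).unit ^ p.2) ↔ IsReduced A := by
  constructor
  · rintro ⟨-, hsurj⟩
    rw [isReduced_iff_pow_one_lt 2 (by norm_num)]
    intro ε hε
    refine Lib.UnitsGL38.eq_zero_of_sq_eq_zero_of_surj n hn ?_ ε hε
    intro u
    obtain ⟨⟨a, m⟩, h⟩ := hsurj u
    refine ⟨a, m, ?_⟩
    rw [← h]
    rfl
  · intro hred
    refine ⟨Groth.Agent.S13787.result A n hn, fun u => ?_⟩
    obtain ⟨a, m, h⟩ := Lib.UnitsGL38.exists_eq_mul_det_zpow hconn n hn u
    refine ⟨(a, m), ?_⟩
    apply Units.ext
    rw [h]
    rfl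

end Groth.Agent.S13788
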