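import Groth.Statements.S13792
import Mathlib

set_option autoImplicit false
universe u
open CategoryTheory AlgebraicGeometry
open Curves

namespace Groth.Agent.S13792

open TopologicalSpace in
/-- A proper closed subspace of an irreducible space of dimension one has dimension at most
zero. -/
theorem dim_le_zero_of_ne_univ {G E : Type*} [TopologicalSpace G] [TopologicalSpace E]
    [IrreducibleSpace E] (φ : G → E) (hφ : Topology.IsInducing φ)
    (hcl : IsClosed (Set.range φ)) (hne : Set.range φ ≠ Set.univ)
    (hE : topologicalKrullDim E = 1) : topologicalKrullDim G ≤ 0 := by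
  unfold topologicalKrullDim Order.krullDim
  refine iSup_le fun p => ?_
  let top' : IrreducibleCloseds E :=
    ⟨Set.univ, IrreducibleSpace.isIrreducible_univ E, isClosed_univ⟩
  let p' : LTSeries (IrreducibleCloseds E) :=
    p.map (IrreducibleCloseds.map φ hφ.continuous)
      (IrreducibleCloseds.map_strictMono_of_isInducing hφ)
  have hlast : p'.last < top' := by
    refine lt_of_le_of_ne (fun x _ => Set.mem_univ x) ?_
    intro heq
    apply hne
    have h1 : (p'.last : Set E) ⊆ Set.range φ := by
      have : (p'.last : Set E) = closure (φ '' (p.last : Set G)) := by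
        rw [LTSeries.last_map]
        rfl
      rw [this]
      exact closure_minimal (Set.image_subset_range _ _) hcl
    have h2 : (p'.last : Set E) = Set.univ := by rw [heq]; rfl
    rw [h2] at h1
    exact Set.eq_univ_of_univ_subset h1
  let q : LTSeries (IrreducibleCloseds E) := p'.snoc top' hlast
  have hq : q.length = p.length + 1 := rfl
  have h3 : (q.length : WithBot ℕ∞) ≤ topologicalKrullDim E :=
    Order.LTSeries.length_le_krullDim q
  rw [hE, hq] at h3
  have h4 : p.length + 1 ≤ 1 := by exact_mod_cast h3
  have h5 : p.length = 0 := by omega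
  rw [h5]
  rfl


/-- Let k be a field and E an integral k-scheme of finite type whose underlying space has dimension 1,
and let ι : G → E be a closed immersion. Then either ι is an isomorphism or G is finite over k. (The
published statement is about a closed subgroup scheme of an elliptic curve and its proof states this
fact for E geometrically integral; this row assumes only that E is integral.) -/
theorem result {k : Type u} [Field k]
    {E G : Scheme.{u}} (f : E ⟶ Spec (CommRingCat.of k)) [LocallyOfFiniteType f] [QuasiCompact f]
    [IsIntegral E] (hdim : topologicalKrullDim ↥E = 1) (ι : G ⟶ E) [IsClosedImmersion ι] :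
    IsIso ι ∨ IsFinite (ι ≫ f) := by
  classical
  by_cases hsurj : Function.Surjective ι.base
  · left
    haveI : Surjective ι := ⟨hsurj⟩
    exact isIso_of_isClosedImmersion_of_surjective ι
  right
  have hne : Set.range ι.base ≠ Set.univ := fun h => hsurj (Set.range_eq_univ.mp h)
  have hdimG : topologicalKrullDim ↥G ≤ 0 :=
    dim_le_zero_of_ne_univ ι.base ι.isClosedEmbedding.isInducing
      ι.isClosedEmbedding.isClosed_range hne hdim
  haveI : LocallyOfFiniteType (ι ≫ f) := inferInstance
  haveI : IsLocallyNoetherian G := LocallyOfFiniteType.isLocallyNoetherian (ι ≫ f)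
  haveI : IsLocallyArtinian G := IsLocallyArtinian.of_topologicalKrullDim_le_zero hdimG
  haveI : CompactSpace ↥G := QuasiCompact.compactSpace_of_compactSpace (ι ≫ f)
  haveI : IsArtinianScheme G := { }
  haveI : IsAffine G := inferInstance
  rw [HasAffineProperty.iff_of_isAffine (P := @IsFinite)]
  refine ⟨inferInstance, ?_⟩
  have hft : (ι ≫ f).appTop.hom.FiniteType :=
    (HasRingHomProperty.iff_of_isAffine (P := @LocallyOfFiniteType)).mp inferInstance
  letI := (ι ≫ f).appTop.hom.toAlgebra
  haveI : Algebra.FiniteType Γ(Spec (CommRingCat.of k), ⊤) Γ(G, ⊤) := hft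
  haveI : IsArtinianRing Γ(G, ⊤) := inferInstance
  haveI : IsJacobsonRing Γ(Spec (CommRingCat.of k), ⊤) :=
    (isJacobsonRing_iso (Scheme.ΓSpecIso (CommRingCat.of k)).commRingCatIsoToRingEquiv).mpr
      inferInstance
  exact Module.finite_of_isArtinianRing Γ(Spec (CommRingCat.of k), ⊤) Γ(G, ⊤)

end Groth.Agent.S13792
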