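import Groth.Statements.S13794
import Mathlib.Tactic.LinearCombination
import Mathlib.Algebra.Polynomial.Coeff
import Mathlib.Algebra.Polynomial.Monomial
import Mathlib.Tactic.FieldSimp
import Mathlib.Tactic.Ring
import Mathlib.Tactic.NormNum

set_option autoImplicit false
universe u
open Polynomial
open Curves

namespace Groth.Agent.S13794

/-- Let k be a field of characteristic not 3 and β ∈ k. If a line ax + by + c = 0 with a³ ≠ b³ is the
tangent line at a flex point of the affine cubic x³ + y³ + β = 3xy, then β is a cube in k. Here the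
line is normalised to b ≠ 0 (the roles of x and y are symmetric) and the flex-tangency is expressed
by the restriction of the cubic to the line being λ (x − x₀)³. -/
theorem result {k : Type u} [Field k] (h3 : (3 : k) ≠ 0)
    (β a b c : k) (hb : b ≠ 0) (hab : a ^ 3 ≠ b ^ 3) (lam x₀ : k)
    (hflex : (X : k[X]) ^ 3 + (C (-a / b) * X + C (-c / b)) ^ 3 + C β - 3 * X * (C (-a / b) * X + C (-c / b)) =
      C lam * (X - C x₀) ^ 3) :
    ∃ γ : k, β = γ ^ 3 := by
  set m : k := -a / b with hm
  set q : k := -c / b with hq
  clear_value m q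
  have hL : (X : k[X]) ^ 3 + (C m * X + C q) ^ 3 + C β - 3 * X * (C m * X + C q) =
      C (1 + m ^ 3) * X ^ 3 + C (3 * m ^ 2 * q - 3 * m) * X ^ 2 + C (3 * m * q ^ 2 - 3 * q) * X +
        C (q ^ 3 + β) := by
    simp only [map_add, map_sub, map_mul, map_pow, map_one, map_ofNat]
    ring
  have hR : C lam * (X - C x₀) ^ 3 =
      C lam * X ^ 3 + C (-3 * lam * x₀) * X ^ 2 + C (3 * lam * x₀ ^ 2) * X + C (-lam * x₀ ^ 3) := by
    simp only [map_mul, map_pow, map_ofNat, map_neg]
    ring
  rw [hL, hR] at hflex
  have e3 := congrArg (fun p => Polynomial.coeff p 3) hflex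
  have e2 := congrArg (fun p => Polynomial.coeff p 2) hflex
  have e1 := congrArg (fun p => Polynomial.coeff p 1) hflex
  have e0 := congrArg (fun p => Polynomial.coeff p 0) hflex
  simp only [coeff_add, coeff_C_mul, coeff_X_pow, coeff_X, coeff_C] at e3 e2 e1 e0
  norm_num at e3 e2 e1 e0
  -- `lam ≠ 0`
  have hlam : lam ≠ 0 := by
    intro h0
    apply hab
    rw [h0] at e3
    have h1 : m ^ 3 = -1 := by linear_combination e3
    rw [hm, div_pow] at h1
    have hb3 : b ^ 3 ≠ 0 := pow_ne_zero 3 hb
    field_simp at h1
    linear_combination -h1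
  have e2' : m ^ 2 * q - m = -lam * x₀ := by
    have : (3 : k) * (m ^ 2 * q - m) = 3 * (-lam * x₀) := by linear_combination e2
    exact mul_left_cancel₀ h3 this
  have e1' : m * q ^ 2 - q = lam * x₀ ^ 2 := by
    have : (3 : k) * (m * q ^ 2 - q) = 3 * (lam * x₀ ^ 2) := by linear_combination e1
    exact mul_left_cancel₀ h3 this
  by_cases hw : m * q - 1 = 0
  · have hx0 : x₀ = 0 := by
      have : lam * x₀ = 0 := by linear_combination e2' - m * hw
      rcases mul_eq_zero.mp this with h | h
      · exact absurd h hlam
      · exact h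
    refine ⟨-q, ?_⟩
    rw [hx0] at e0
    linear_combination e0
  · have h1 : (m * q - 1) * (q + m * x₀) = 0 := by
      linear_combination e1' + x₀ * e2'
    have hqm : q = -m * x₀ := by
      rcases mul_eq_zero.mp h1 with h | h
      · exact absurd h hw
      · linear_combination h
    have hmx : m = x₀ := by
      have : m * (m * q - 1) = -lam * x₀ := by linear_combination e2'
      rw [hqm, ← e3] at this
      linear_combination -this
    refine ⟨-m, ?_⟩
    rw [← hmx] at hqm e0
    rw [hqm, ← e3] at e0
    linear_combination e0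

end Groth.Agent.S13794
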