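import Groth.Statements.S13801
import Mathlib.Tactic.Linarith
import Mathlib.Tactic.Ring
import Mathlib.Algebra.Order.BigOperators.Group.Finset

set_option autoImplicit false
open ChowMon

namespace Groth.Agent.S13801

/-- For a prime p and positive natural numbers a_1, ..., a_k with sum n one has v_p(a_1!) + ... +
v_p(a_k!) ≤ v_p(n!), and the inequality is strict whenever some a_i is not divisible by p^(v_p(n)). -/
theorem result {k : ℕ} (p : ℕ) [Fact p.Prime]
    (a : Fin k → ℕ) (ha : ∀ i, 0 < a i) :
    (∑ i, padicValNat p (a i).factorial ≤ padicValNat p (∑ i, a i).factorial) ∧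
      ((∃ i, ¬ p ^ padicValNat p (∑ j, a j) ∣ a i) →
        ∑ i, padicValNat p (a i).factorial < padicValNat p (∑ i, a i).factorial) := by
  classical
  set n := ∑ i, a i with hn
  have hp : p.Prime := Fact.out
  have hale : ∀ i, a i ≤ n := fun i =>
    Finset.single_le_sum (f := a) (fun j _ => Nat.zero_le _) (Finset.mem_univ i)
  set b := Nat.log p n + 1 with hb
  have hlog : ∀ i, Nat.log p (a i) < b := fun i =>
    Nat.lt_succ_of_le (Nat.log_mono_right (hale i))
  have hleg : ∀ i, padicValNat p (a i).factorial = ∑ j ∈ Finset.Ico 1 b, a i / p ^ j :=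
    fun i => padicValNat_factorial (hlog i)
  have hlegn : padicValNat p n.factorial = ∑ j ∈ Finset.Ico 1 b, n / p ^ j :=
    padicValNat_factorial (Nat.lt_succ_self _)
  have hsum : ∑ i, padicValNat p (a i).factorial =
      ∑ j ∈ Finset.Ico 1 b, ∑ i, a i / p ^ j := by
    simp_rw [hleg]
    exact Finset.sum_comm
  have hterm : ∀ d : ℕ, 0 < d → ∑ i, a i / d ≤ n / d := by
    intro d hd
    rw [Nat.le_div_iff_mul_le hd, Finset.sum_mul]
    exact Finset.sum_le_sum fun i _ => Nat.div_mul_le_self _ _
  have hppos : ∀ j, 0 < p ^ j := fun j => pow_pos hp.pos j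
  refine ⟨?_, ?_⟩
  · rw [hsum, hlegn]
    exact Finset.sum_le_sum fun j _ => hterm _ (hppos j)
  · rintro ⟨i₀, hi₀⟩
    rw [hsum, hlegn]
    set e := padicValNat p n with he
    have hn0 : n ≠ 0 := by
      have := hale i₀
      have := ha i₀
      omega
    have he1 : 1 ≤ e := by
      by_contra h
      have : e = 0 := by omega
      rw [this, pow_zero] at hi₀
      exact hi₀ (one_dvd _)
    have heb : e < b := Nat.lt_succ_of_le (padicValNat_le_nat_log n)
    have hdvd : p ^ e ∣ n := pow_padicValNat_dvd
    apply Finset.sum_lt_sum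
    · exact fun j _ => hterm _ (hppos j)
    · refine ⟨e, Finset.mem_Ico.mpr ⟨he1, heb⟩, ?_⟩
      -- strict inequality at level `e`
      have hd := hppos e
      have h1 : n = p ^ e * ∑ i, a i / p ^ e + ∑ i, a i % p ^ e := by
        rw [hn, Finset.mul_sum, ← Finset.sum_add_distrib]
        exact Finset.sum_congr rfl fun i _ => (Nat.div_add_mod _ _).symm
      have h2 : 0 < ∑ i, a i % p ^ e := by
        apply Finset.sum_pos'
        · exact fun i _ => Nat.zero_le _
        · refine ⟨i₀, Finset.mem_univ _, ?_⟩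
          exact Nat.pos_of_ne_zero fun h => hi₀ (Nat.dvd_of_mod_eq_zero h)
      obtain ⟨c, hc⟩ := hdvd
      rw [hc, Nat.mul_div_cancel_left _ hd]
      have h3 : p ^ e * ∑ i, a i / p ^ e < p ^ e * c := by
        rw [← hc]
        omega
      exact lt_of_mul_lt_mul_left h3 (Nat.zero_le _)

end Groth.Agent.S13801
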