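import Groth.Statements.S13805
-- import your own Groth.Agent.* helpers here
import Groth.Agent.Lib.EtaPtDescent
import Groth.Agent.S13802

set_option autoImplicit false
universe u
open EtaPt

namespace Groth.Agent.S13805

/-- For a commutative ring A with finitely many minimal prime ideals, every integral ring map f from
M_η(A) to a reduced ring B with N_η(f) bijective is itself bijective. Here η is a natural
transformation from the identity of the category of fields to an endofunctor F with F(η_K) bijective
and η_K purely inseparable for every field K, N_η(A) is the product of the F(k(p)) over the primes p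
of A with diagonal map t_A, and M_η(A) ⊆ N_η(A) is the subring of elements sent into the range of
t_R by every ring map from A to a valuation ring R at whose fraction field η is bijective; q_A : A →
M_η(A) is the corestriction of t_A. -/
theorem result (η : EtaPt.FieldEndo.{u}) (A : Type u) [CommRing A]
    (hA : (minimalPrimes A).Finite) (B : Type u) [CommRing B] [IsReduced B] (f : η.M A →+* B)
    (hf : f.IsIntegral) (hN : Function.Bijective (η.Nmap f)) : Function.Bijective f := by
  have hq := Groth.Agent.Lib.EtaPtSpec.Nmap_q_bijective η hA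
  have hqt := Groth.Agent.Lib.EtaPtSpec.Nmap_q_eq_t η hA
  constructor
  · rw [injective_iff_map_eq_zero]
    intro x hx
    have h1 : η.Nmap f (η.t (η.M A) x) = 0 := by
      rw [EtaPt.FieldEndo.Nmap_t_apply, hx, map_zero]
    have h2 : η.t (η.M A) x = 0 := hN.1 (by rw [h1, map_zero])
    rw [← hqt] at h2
    have h3 : (x : η.N A) = 0 := hq.1 (by rw [h2, map_zero])
    exact Subtype.ext h3
  · intro b
    obtain ⟨y, hy⟩ := hN.2 (η.t B b)
    obtain ⟨x, hx⟩ := hq.2 y
    have hint : (f.comp (η.q A)).IsIntegral :=
      RingHom.IsIntegral.trans _ _ (Groth.Agent.S13802.result η A hA) hf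
    have hsurj : Function.Surjective (PrimeSpectrum.comap (f.comp (η.q A))) := by
      have h1 := Groth.Agent.Lib.EtaPtInt.comap_surjective_of_Nmap_injective η f hN.1
      have h2 := Groth.Agent.Lib.EtaPtSpec.comap_q_surjective η (A := A)
      intro P
      obtain ⟨Q, rfl⟩ := h2 P
      obtain ⟨Q', rfl⟩ := h1 Q
      exact ⟨Q', rfl⟩
    have hmem : x ∈ η.M A := by
      apply Groth.Agent.Lib.EtaPtDescent.mem_M_of_Nmap_mem_M η (f.comp (η.q A)) hint hsurj
      rw [Groth.Agent.Lib.EtaPtBasic.Nmap_comp, hx, hy]
      exact η.t_mem_M B b
    refine ⟨⟨x, hmem⟩, ?_⟩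
    apply Groth.Agent.Lib.EtaPtDescent.t_injective_of_isReduced η B
    rw [← EtaPt.FieldEndo.Nmap_t_apply, ← hqt, hx, hy]

end Groth.Agent.S13805
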