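import Groth.Statements.S13806
-- import your own Groth.Agent.* helpers here
import Groth.Agent.Lib.EtaPtDescent

set_option autoImplicit false
universe u
open EtaPt

namespace Groth.Agent.S13806

/-- For a commutative ring A with finitely many minimal prime ideals and an integral ring map g : A → B
with N_η(g) bijective, there is exactly one ring map g' : B → M_η(A) with g' ∘ g = q_A. Here η is a
natural transformation from the identity of the category of fields to an endofunctor F with F(η_K)
bijective and η_K purely inseparable for every field K, N_η(A) is the product of the F(k(p)) over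
the primes p of A with diagonal map t_A, and M_η(A) ⊆ N_η(A) is the subring of elements sent into
the range of t_R by every ring map from A to a valuation ring R at whose fraction field η is
bijective; q_A : A → M_η(A) is the corestriction of t_A. -/
theorem result (η : EtaPt.FieldEndo.{u}) (A : Type u) [CommRing A]
    (hA : (minimalPrimes A).Finite) (B : Type u) [CommRing B] (g : A →+* B)
    (hg : g.IsIntegral) (hN : Function.Bijective (η.Nmap g)) :
    ∃! g' : B →+* η.M A, g'.comp g = η.q A := by
  have hsurj : Function.Surjective (PrimeSpectrum.comap g) :=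
    Groth.Agent.Lib.EtaPtInt.comap_surjective_of_Nmap_injective η g hN.1
  let e : η.N A ≃+* η.N B := RingEquiv.ofBijective (η.Nmap g) hN
  have he : ∀ x, η.Nmap g (e.symm x) = x := fun x => e.apply_symm_apply x
  let g₀ : B →+* η.N A := (e.symm : η.N B →+* η.N A).comp (η.t B)
  have hg₀ : ∀ b, η.Nmap g (g₀ b) = η.t B b := fun b => he _
  have hmem : ∀ b, g₀ b ∈ η.M A := by
    intro b
    apply Groth.Agent.Lib.EtaPtDescent.mem_M_of_Nmap_mem_M η g hg hsurj
    rw [hg₀]
    exact η.t_mem_M B b
  -- key: any compatible map is computed by `g₀`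
  have key : ∀ (h : B →+* η.M A), h.comp g = η.q A → ∀ b, ((h b : η.M A) : η.N A) = g₀ b := by
    intro h hh b
    funext P
    let ψ : B →+* η.obj P.asIdeal.ResidueField := (Groth.Agent.Lib.EtaPtSpec.proj η P).comp h
    have hψ : ψ.comp g = (η.eta P.asIdeal.ResidueField).comp
        (algebraMap A P.asIdeal.ResidueField) := by
      rw [RingHom.comp_assoc, hh]
      rfl
    have h1 : Groth.Agent.Lib.EtaPtStruct.ev η ψ (η.Nmap g (g₀ b)) = η.eta _ (ψ b) := by
      rw [hg₀, Groth.Agent.Lib.EtaPtStruct.ev_t]
    rw [Groth.Agent.Lib.EtaPtStruct.ev_Nmap, hψ, Groth.Agent.Lib.EtaPtStruct.ev_comp_field,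
      Groth.Agent.Lib.EtaPtStruct.ev_algebraMap,
      ← Groth.Agent.Lib.EtaPtStruct.eta_obj_eq] at h1
    exact ((η.eta _).injective h1).symm
  refine ⟨g₀.codRestrict (η.M A) hmem, ?_, ?_⟩
  · ext a : 1
    apply Subtype.ext
    change g₀ (g a) = η.t A a
    apply hN.1
    rw [hg₀, EtaPt.FieldEndo.Nmap_t_apply]
  · intro h hh
    ext b : 1
    apply Subtype.ext
    exact key h hh b

end Groth.Agent.S13806
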