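import Groth.Statements.S13807
import Groth.Agent.Lib.EtaPtVal
import Mathlib.Algebra.GCDMonoid.IntegrallyClosed
import Mathlib.RingTheory.Bezout
import Mathlib.RingTheory.PrincipalIdealDomain
import Mathlib.Algebra.CharP.Reduced
import Mathlib.Algebra.CharP.Algebra
import Mathlib.RingTheory.IntegralClosure.IntegrallyClosed

set_option autoImplicit false
universe u
open EtaPt

namespace Groth.Agent.S13807

/-- For a field K the pointwise ring M_η(K) is all of N_η(K) = F(k((0))). Here η is a natural
transformation from the identity of the category of fields to an endofunctor F with F(η_K) bijective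
and η_K purely inseparable for every field K, N_η(A) is the product of the F(k(p)) over the primes p
of A with diagonal map t_A, and M_η(A) ⊆ N_η(A) is the subring of elements sent into the range of
t_R by every ring map from A to a valuation ring R at whose fraction field η is bijective; q_A : A →
M_η(A) is the corestriction of t_A. -/
theorem result (η : EtaPt.FieldEndo.{u}) (K : Type u) [Field K] : η.M K = ⊤ := by
  classical
  rw [eq_top_iff]
  intro x _ R _ _ _ hR g
  -- the unique prime of `K`
  let p₀ : PrimeSpectrum K := ⟨⊥, Ideal.isPrime_bot⟩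
  have hcomap : ∀ q : PrimeSpectrum R, p₀.asIdeal = q.asIdeal.comap g := by
    intro q
    have : (q.asIdeal.comap g).IsPrime := inferInstance
    exact (Ideal.eq_bot_of_prime (q.asIdeal.comap g)).symm
  have hmax : p₀.asIdeal.IsMaximal := Ideal.bot_isMaximal
  obtain ⟨n, y, hy⟩ := η.exists_pow_mem_range_eta p₀.asIdeal.ResidueField (x p₀)
  obtain ⟨y', rfl⟩ := Ideal.algebraMap_residueField_surjective p₀.asIdeal y
  set e := ringExpChar p₀.asIdeal.ResidueField with he
  -- the generic point of `R`
  let q₀ : PrimeSpectrum R := ⟨⊥, Ideal.isPrime_bot⟩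
  have hbij₀ : Function.Bijective (η.eta (⊥ : Ideal R).ResidueField) :=
    (Groth.Agent.Lib.EtaPtVal.inV_iff_of_isFractionRing η R _).mp hR
  obtain ⟨l, hl⟩ := hbij₀.2 (η.Nmap g x q₀)
  have hpow : ∀ q : PrimeSpectrum R, (η.Nmap g x q) ^ e ^ n =
      η.eta _ (algebraMap R q.asIdeal.ResidueField (g y')) := by
    intro q
    rw [Groth.Agent.Lib.EtaPtVal.Nmap_apply' η g x q p₀ (hcomap q), ← map_pow, ← hy,
      Groth.Agent.Lib.EtaPtBasic.eta_natural_apply, Ideal.ResidueField.map_algebraMap]
  have hl' : l ^ e ^ n = algebraMap R (⊥ : Ideal R).ResidueField (g y') := by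
    apply (η.eta _).injective
    rw [map_pow, hl]
    exact hpow q₀
  have hepos : e ^ n ≠ 0 := by
    have : 0 < e := expChar_pos p₀.asIdeal.ResidueField e
    positivity
  have hint : IsIntegral R l := by
    refine ⟨Polynomial.X ^ (e ^ n) - Polynomial.C (g y'), Polynomial.monic_X_pow_sub_C _ hepos, ?_⟩
    simp [hl']
  obtain ⟨r, hr⟩ := IsIntegrallyClosed.algebraMap_eq_of_integral hint
  have hrpow : r ^ e ^ n = g y' := by
    apply IsFractionRing.injective R (⊥ : Ideal R).ResidueField
    rw [map_pow, hr, hl']
  refine ⟨r, ?_⟩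
  funext q
  rw [Groth.Agent.Lib.EtaPtBasic.t_apply]
  have hexp : ExpChar (η.obj q.asIdeal.ResidueField) e :=
    expChar_of_injective_ringHom
      (f := (η.eta q.asIdeal.ResidueField).comp
        (Ideal.ResidueField.map p₀.asIdeal q.asIdeal g (hcomap q)))
      (RingHom.injective _) e
  apply iterateFrobenius_inj (η.obj q.asIdeal.ResidueField) e n
  rw [iterateFrobenius_def, iterateFrobenius_def, ← map_pow, ← map_pow, hrpow, hpow]

end Groth.Agent.S13807
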