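import Groth.Statements.S13809
import Groth.Agent.Lib.EtaPtVal
-- import your own Groth.Agent.* helpers here

set_option autoImplicit false
universe u
open EtaPt

namespace Groth.Agent.S13809

open Groth.Agent.Lib.EtaPtBasic Groth.Agent.Lib.EtaPtVal

/-- If `x ∈ M A` has generic component `η c`, then `c` lies in every valuation subring of the
fraction field containing the image of `A`. -/
theorem mem_valuationSubring_of_generic (η : EtaPt.FieldEndo.{u}) (A : Type u) [CommRing A]
    [IsDomain A] (hA : η.InV A) {x : η.N A} (hx : x ∈ η.M A) (c : (⊥ : Ideal A).ResidueField)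
    (hc : η.eta _ c = x ⟨⊥, Ideal.isPrime_bot⟩) (V : ValuationSubring (⊥ : Ideal A).ResidueField)
    (hV : ∀ a : A, algebraMap A (⊥ : Ideal A).ResidueField a ∈ V) : c ∈ V := by
  have hK : Function.Bijective (η.eta (⊥ : Ideal A).ResidueField) :=
    (inV_iff_of_isFractionRing η A _).mp hA
  have hVin : η.InV V := (inV_iff_of_isFractionRing η V (⊥ : Ideal A).ResidueField).mpr hK
  let g : A →+* V := (algebraMap A (⊥ : Ideal A).ResidueField).codRestrict V.toSubring hV
  have hg : ∀ a, (g a : (⊥ : Ideal A).ResidueField) = algebraMap A _ a := fun a => rfl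
  obtain ⟨r, hr⟩ := hx V hVin g
  have hginj : Function.Injective g := by
    intro a b hab
    apply IsFractionRing.injective A (⊥ : Ideal A).ResidueField
    rw [← hg, ← hg, hab]
  have hbot : (⊥ : Ideal A) = (⊥ : Ideal V).comap g := by
    ext a
    rw [Ideal.mem_comap, Ideal.mem_bot, Ideal.mem_bot]
    exact ⟨fun h => by rw [h, map_zero], fun h => hginj (by rw [h, map_zero])⟩
  have h3 := congrFun hr ⟨⊥, Ideal.isPrime_bot⟩
  rw [Nmap_apply' η g x ⟨⊥, Ideal.isPrime_bot⟩ ⟨⊥, Ideal.isPrime_bot⟩ hbot, t_apply, ← hc,
    eta_natural_apply] at h3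
  have h4 : algebraMap V (⊥ : Ideal V).ResidueField r =
      Ideal.ResidueField.map ⊥ ⊥ g hbot c := (η.eta _).injective h3
  obtain ⟨a, b, hb, rfl⟩ := IsFractionRing.div_surjective (A := A) c
  have hb0 : b ≠ 0 := nonZeroDivisors.ne_zero hb
  have hgb0 : g b ≠ 0 := fun h => hb0 (hginj (by rw [h, map_zero]))
  rw [map_div₀, Ideal.ResidueField.map_algebraMap, Ideal.ResidueField.map_algebraMap] at h4
  have hgb0' : algebraMap V (⊥ : Ideal V).ResidueField (g b) ≠ 0 := by
    intro h
    rw [Ideal.algebraMap_residueField_eq_zero] at h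
    exact hgb0 (by simpa using h)
  have h5 : algebraMap V (⊥ : Ideal V).ResidueField (r * g b - g a) = 0 := by
    rw [map_sub, map_mul, h4, div_mul_cancel₀ _ hgb0', sub_self]
  rw [Ideal.algebraMap_residueField_eq_zero] at h5
  have h6 : r * g b = g a := sub_eq_zero.mp (by simpa using h5)
  have h7 : (r : (⊥ : Ideal A).ResidueField) * algebraMap A _ b = algebraMap A _ a := by
    rw [← hg, ← hg]
    exact congrArg Subtype.val h6
  have hb0' : algebraMap A (⊥ : Ideal A).ResidueField b ≠ 0 := by
    intro h
    exact hb0 ((IsFractionRing.injective A (⊥ : Ideal A).ResidueField) (by rw [h, map_zero]))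
  have h8 : algebraMap A (⊥ : Ideal A).ResidueField a / algebraMap A _ b = r := by
    rw [div_eq_iff hb0', h7]
  rw [h8]
  exact r.2

/-- For an integrally closed domain A such that η is bijective at the fraction field of A, the map q_A :
A → M_η(A) is bijective. Here η is a natural transformation from the identity of the category of
fields to an endofunctor F with F(η_K) bijective and η_K purely inseparable for every field K,
N_η(A) is the product of the F(k(p)) over the primes p of A with diagonal map t_A, and M_η(A) ⊆
N_η(A) is the subring of elements sent into the range of t_R by every ring map from A to a valuation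
ring R at whose fraction field η is bijective; q_A : A → M_η(A) is the corestriction of t_A. -/
theorem result (η : EtaPt.FieldEndo.{u}) (A : Type u) [CommRing A] [IsDomain A] [IsIntegrallyClosed A]
    (hA : η.InV A) : Function.Bijective (η.q A) := by
  refine ⟨?_, ?_⟩
  · intro a b hab
    apply t_injective_of_isDomain η
    exact congrArg Subtype.val hab
  · rintro ⟨x, hx⟩
    have hK : Function.Bijective (η.eta (⊥ : Ideal A).ResidueField) :=
      (inV_iff_of_isFractionRing η A _).mp hA
    obtain ⟨c, hc⟩ := hK.2 (x ⟨⊥, Ideal.isPrime_bot⟩)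
    have hcA : ∃ a, algebraMap A (⊥ : Ideal A).ResidueField a = c := by
      rw [← IsIntegrallyClosed.isIntegral_iff]
      by_contra hint
      have hnot : c ∉ (integralClosure A (⊥ : Ideal A).ResidueField).toSubring := hint
      obtain ⟨V, hle, hcV⟩ := Subring.exists_le_valuationSubring_of_isIntegrallyClosedIn hnot
      apply hcV
      exact mem_valuationSubring_of_generic η A hA hx c hc V
        (fun a => hle (Subalgebra.algebraMap_mem _ a))
    obtain ⟨a, rfl⟩ := hcA
    refine ⟨a, Subtype.ext ?_⟩
    have h0 : x - η.t A a = 0 := eq_zero_of_generic_eq_zero η A hA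
      (Subring.sub_mem _ hx (η.t_mem_M A a)) (by rw [Pi.sub_apply, t_apply, hc, sub_self])
    exact (sub_eq_zero.mp h0).symm

end Groth.Agent.S13809
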