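import Groth.Statements.S13810
import Groth.Agent.Lib.EtaPtBasic
import Mathlib.RingTheory.Ideal.Prod
import Mathlib.RingTheory.SurjectiveOnStalks
import Mathlib.RingTheory.Spectrum.Prime.Topology
-- import your own Groth.Agent.* helpers here

set_option autoImplicit false
universe u
open EtaPt

namespace Groth.Agent.S13810

open Groth.Agent.Lib.EtaPtBasic

section Aux

variable {A B : Type u} [CommRing A] [CommRing B]

theorem prime_prod_cases (r : PrimeSpectrum (A × B)) :
    (∃ p : PrimeSpectrum A, PrimeSpectrum.comap (RingHom.fst A B) p = r) ∨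
      (∃ q : PrimeSpectrum B, PrimeSpectrum.comap (RingHom.snd A B) q = r) := by
  rcases (Ideal.ideal_prod_prime r.asIdeal).mp r.isPrime with ⟨p, hp, h⟩ | ⟨q, hq, h⟩
  · left
    refine ⟨⟨p, hp⟩, PrimeSpectrum.ext ?_⟩
    rw [h]
    change Ideal.comap (RingHom.fst A B) p = Ideal.prod p ⊤
    simp [Ideal.prod]
  · right
    refine ⟨⟨q, hq⟩, PrimeSpectrum.ext ?_⟩
    rw [h]
    change Ideal.comap (RingHom.snd A B) q = Ideal.prod ⊤ q
    simp [Ideal.prod]

theorem comap_fst_ne_comap_snd (p : PrimeSpectrum A) (q : PrimeSpectrum B) :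
    PrimeSpectrum.comap (RingHom.fst A B) p ≠ PrimeSpectrum.comap (RingHom.snd A B) q := by
  intro h
  have h1 : ((0, 1) : A × B) ∈ (PrimeSpectrum.comap (RingHom.fst A B) p).asIdeal := by
    change (RingHom.fst A B) (0, 1) ∈ p.asIdeal
    simp
  rw [h] at h1
  have h2 : (1 : B) ∈ q.asIdeal := h1
  exact q.isPrime.ne_top ((Ideal.eq_top_iff_one _).mpr h2)

theorem factor_of_isDomain {R : Type u} [CommRing R] [IsDomain R] (g : A × B →+* R) :
    (∃ g' : A →+* R, g'.comp (RingHom.fst A B) = g) ∨
      (∃ g' : B →+* R, g'.comp (RingHom.snd A B) = g) := by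
  have h0 : g (1, 0) * g (0, 1) = 0 := by
    rw [← map_mul]
    have : ((1, 0) : A × B) * (0, 1) = 0 := by ext <;> simp
    rw [this, map_zero]
  rcases mul_eq_zero.mp h0 with h | h
  · right
    have hker : RingHom.ker (RingHom.snd A B) ≤ RingHom.ker g := by
      intro x hx
      rw [RingHom.mem_ker] at hx ⊢
      have hx' : x.2 = 0 := hx
      have : x = (1, 0) * x := by
        ext <;> simp [hx']
      rw [this, map_mul, h, zero_mul]
    exact ⟨(RingHom.snd A B).liftOfRightInverse (fun b => (0, b)) (fun b => rfl) ⟨g, hker⟩,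
      RingHom.liftOfRightInverse_comp _ _ _ _⟩
  · left
    have hker : RingHom.ker (RingHom.fst A B) ≤ RingHom.ker g := by
      intro x hx
      rw [RingHom.mem_ker] at hx ⊢
      have hx' : x.1 = 0 := hx
      have : x = (0, 1) * x := by
        ext <;> simp [hx']
      rw [this, map_mul, h, zero_mul]
    exact ⟨(RingHom.fst A B).liftOfRightInverse (fun a => (a, 0)) (fun a => rfl) ⟨g, hker⟩,
      RingHom.liftOfRightInverse_comp _ _ _ _⟩

end Aux

/-- For commutative rings A and B, the pair of maps N_η of the two projections restricts to a bijection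
from M_η(A × B) onto M_η(A) × M_η(B). Here η is a natural transformation from the identity of the
category of fields to an endofunctor F with F(η_K) bijective and η_K purely inseparable for every
field K, N_η(A) is the product of the F(k(p)) over the primes p of A with diagonal map t_A, and
M_η(A) ⊆ N_η(A) is the subring of elements sent into the range of t_R by every ring map from A to a
valuation ring R at whose fraction field η is bijective; q_A : A → M_η(A) is the corestriction of
t_A. -/
theorem result (η : EtaPt.FieldEndo.{u}) (A B : Type u) [CommRing A] [CommRing B] :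
    Set.BijOn (fun x : η.N (A × B) => (η.Nmap (RingHom.fst A B) x, η.Nmap (RingHom.snd A B) x))
      (η.M (A × B)) ((η.M A : Set (η.N A)) ×ˢ (η.M B : Set (η.N B))) := by
  have hfst : Function.Surjective (RingHom.fst A B) := fun a => ⟨(a, 0), rfl⟩
  have hsnd : Function.Surjective (RingHom.snd A B) := fun b => ⟨(0, b), rfl⟩
  refine ⟨?_, ?_, ?_⟩
  · intro x hx
    exact ⟨Nmap_mem_M η _ hx, Nmap_mem_M η _ hx⟩
  · intro x _ x' _ h
    have h1 : η.Nmap (RingHom.fst A B) (x - x') = 0 := by
      rw [map_sub, sub_eq_zero]; exact congrArg Prod.fst h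
    have h2 : η.Nmap (RingHom.snd A B) (x - x') = 0 := by
      rw [map_sub, sub_eq_zero]; exact congrArg Prod.snd h
    have h3 : x - x' = 0 := by
      funext r
      rcases prime_prod_cases r with ⟨p, rfl⟩ | ⟨q, rfl⟩
      · exact eq_zero_of_Nmap_eq_zero η _ h1 p
      · exact eq_zero_of_Nmap_eq_zero η _ h2 q
    exact sub_eq_zero.mp h3
  · rintro ⟨a, b⟩ ⟨ha, hb⟩
    obtain ⟨z₁, hz₁, hz₁'⟩ := exists_Nmap_eq η (RingHom.fst A B)
      (PrimeSpectrum.comap_injective_of_surjective _ hfst)
      (fun q => (RingHom.surjectiveOnStalks_of_surjective hfst).residueFieldMap_bijective _ _ rfl) a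
    obtain ⟨z₂, hz₂, hz₂'⟩ := exists_Nmap_eq η (RingHom.snd A B)
      (PrimeSpectrum.comap_injective_of_surjective _ hsnd)
      (fun q => (RingHom.surjectiveOnStalks_of_surjective hsnd).residueFieldMap_bijective _ _ rfl) b
    have h12 : η.Nmap (RingHom.fst A B) z₂ = 0 := by
      funext p
      rw [Nmap_apply, hz₂', map_zero]; rfl
      rintro ⟨q, hq⟩
      exact comap_fst_ne_comap_snd p q hq.symm
    have h21 : η.Nmap (RingHom.snd A B) z₁ = 0 := by
      funext q
      rw [Nmap_apply, hz₁', map_zero]; rfl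
      rintro ⟨p, hp⟩
      exact comap_fst_ne_comap_snd p q hp
    have e1 : η.Nmap (RingHom.fst A B) (z₁ + z₂) = a := by
      rw [map_add, hz₁, h12, add_zero]
    have e2 : η.Nmap (RingHom.snd A B) (z₁ + z₂) = b := by
      rw [map_add, hz₂, h21, zero_add]
    refine ⟨z₁ + z₂, ?_, ?_⟩
    · intro R _ _ _ hR g
      rcases factor_of_isDomain g with ⟨g', rfl⟩ | ⟨g', rfl⟩
      · rw [Nmap_comp, e1]
        exact ha R hR g'
      · rw [Nmap_comp, e2]
        exact hb R hR g'
    · change (η.Nmap (RingHom.fst A B) (z₁ + z₂), η.Nmap (RingHom.snd A B) (z₁ + z₂)) = (a, b)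
      rw [e1, e2]

end Groth.Agent.S13810
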