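import Groth.Statements.S13811
import Groth.Agent.Lib.EtaPtInt
import Mathlib.Algebra.GCDMonoid.IntegrallyClosed
import Mathlib.RingTheory.Bezout
-- import your own Groth.Agent.* helpers here

set_option autoImplicit false
universe u
open EtaPt

namespace Groth.Agent.S13811

open Groth.Agent.Lib.EtaPtBasic Groth.Agent.Lib.EtaPtVal Groth.Agent.Lib.EtaPtInt

/-- If f : A → B is an integral ring map with N_η(f) bijective, then every ring map from A to a
valuation ring R at whose fraction field η is bijective factors through f. Here η is a natural
transformation from the identity of the category of fields to an endofunctor F with F(η_K) bijective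
and η_K purely inseparable for every field K, N_η(A) is the product of the F(k(p)) over the primes p
of A with diagonal map t_A, and M_η(A) ⊆ N_η(A) is the subring of elements sent into the range of
t_R by every ring map from A to a valuation ring R at whose fraction field η is bijective; q_A : A →
M_η(A) is the corestriction of t_A. -/
theorem result (η : EtaPt.FieldEndo.{u}) {A B : Type u} [CommRing A] [CommRing B] (f : A →+* B)
    (hf : f.IsIntegral) (hN : Function.Bijective (η.Nmap f))
    (R : Type u) [CommRing R] [IsDomain R] [ValuationRing R] (hR : η.InV R) (g : A →+* R) :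
    ∃ g' : B →+* R, g'.comp f = g := by
  classical
  -- the prime `ker g` and a prime of `B` above it
  obtain ⟨q, hq⟩ := comap_surjective_of_Nmap_injective η f hN.1
    ⟨RingHom.ker g, RingHom.ker_isPrime g⟩
  have hker : (PrimeSpectrum.comap f q).asIdeal = RingHom.ker g := by rw [hq]
  have hinjι : Function.Injective (algebraMap R (FractionRing R)) :=
    IsFractionRing.injective R (FractionRing R)
  -- the residue field of `ker g` maps to `Frac R`
  let gbar : (PrimeSpectrum.comap f q).asIdeal.ResidueField →+* FractionRing R :=
    Ideal.ResidueField.lift _ ((algebraMap R (FractionRing R)).comp g)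
      (by
        intro a ha
        rw [hker, RingHom.mem_ker] at ha
        rw [RingHom.mem_ker, RingHom.comp_apply, ha, map_zero])
      (by
        intro a ha
        rw [Submonoid.mem_comap]
        change IsUnit ((algebraMap R (FractionRing R)) (g a))
        apply IsUnit.mk0
        intro h0
        apply ha
        change a ∈ (PrimeSpectrum.comap f q).asIdeal
        rw [hker, RingHom.mem_ker]
        exact hinjι (by rw [h0, map_zero]))
  have hgbar : ∀ a : A, gbar (algebraMap A _ a) = algebraMap R (FractionRing R) (g a) := by
    intro a
    exact Ideal.ResidueField.lift_algebraMap _ _ _ _ a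
  -- the isomorphisms
  have hres := map_residue_bijective_of_Nmap_surjective η f hN.2 q
  let e := RingEquiv.ofBijective _ hres
  let eK := RingEquiv.ofBijective (η.eta (FractionRing R)) hR
  let h : q.asIdeal.ResidueField →+* FractionRing R :=
    (eK.symm : _ →+* _).comp ((η.map gbar).comp ((e.symm : _ →+* _).comp (η.eta _)))
  let g'' : B →+* FractionRing R := h.comp (algebraMap B q.asIdeal.ResidueField)
  have hfac : ∀ a : A, g'' (f a) = algebraMap R (FractionRing R) (g a) := by
    intro a
    change eK.symm (η.map gbar (e.symm (η.eta _ (algebraMap B q.asIdeal.ResidueField (f a))))) = _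
    have h1 : η.eta _ (algebraMap B q.asIdeal.ResidueField (f a)) =
        e (η.eta _ (algebraMap A (PrimeSpectrum.comap f q).asIdeal.ResidueField a)) := by
      change _ = η.map _ (η.eta _ _)
      rw [eta_natural_apply, Ideal.ResidueField.map_algebraMap]
    rw [h1, RingEquiv.symm_apply_apply, eta_natural_apply, hgbar]
    exact eK.symm_apply_apply _
  -- integrality puts the image inside `R`
  have hmem : ∀ b : B, ∃ r : R, algebraMap R (FractionRing R) r = g'' b := by
    intro b
    obtain ⟨p, hp, hpb⟩ := hf b
    rw [← IsIntegrallyClosed.isIntegral_iff]
    refine ⟨p.map g, hp.map g, ?_⟩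
    rw [Polynomial.eval₂_map]
    have hcomp : (algebraMap R (FractionRing R)).comp g = g''.comp f :=
      RingHom.ext fun a => (hfac a).symm
    rw [hcomp, ← Polynomial.hom_eval₂, hpb, map_zero]
  choose r hr using hmem
  refine ⟨{ toFun := r
            map_one' := hinjι (by rw [hr, map_one, map_one])
            map_mul' := fun x y => hinjι (by rw [hr, map_mul, map_mul, hr, hr])
            map_zero' := hinjι (by rw [hr, map_zero, map_zero])
            map_add' := fun x y => hinjι (by rw [hr, map_add, map_add, hr, hr]) }, ?_⟩
  ext a
  apply hinjι
  change algebraMap R (FractionRing R) (r (f a)) = _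
  rw [hr, hfac]

end Groth.Agent.S13811
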