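import Groth.Statements.S13814
-- import your own Groth.Agent.* helpers here
import Groth.Agent.Lib.EtaPtValRing
import Groth.Agent.Lib.EtaPtSpec

set_option autoImplicit false
universe u
open EtaPt

namespace Groth.Agent.S13814

/-- Let R be a valuation ring with fraction field K = k((0)) such that η is bijective at K, or such that
every field of the same characteristic as R at which η is bijective is perfect. Then the ring M_η(R)
is again a valuation ring, every element of F(K) is a quotient of generic components of elements of
M_η(R), and an element of F(K) that is both the generic component of an element of M_η(R) and in the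
image of K comes from R. (The published statement assumes nothing about η beyond the standing
conditions, and then fails: for the endofunctor equal to the perfect closure on the fields of
characteristic 2 and transcendence degree at least 2 over the prime field and to the identity on
every other field, and R = F_2(s)[t] localised at (t), neither of the elements (s^(1/2) t, 0) and
(t, 0) of M_η(R) ⊆ F(K) × F_2(s) divides the other, so M_η(R) is not a valuation ring. This row
assumes that η is bijective at Frac R, or that every field of the same characteristic as R at which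
η is bijective is perfect; both the identity and the perfect closure satisfy this.) Here η is a
natural transformation from the identity of the category of fields to an endofunctor F with F(η_K)
bijective and η_K purely inseparable for every field K, N_η(A) is the product of the F(k(p)) over
the primes p of A with diagonal map t_A, and M_η(A) ⊆ N_η(A) is the subring of elements sent into
the range of t_R by every ring map from A to a valuation ring R at whose fraction field η is
bijective; q_A : A → M_η(A) is the corestriction of t_A. -/
theorem result (η : EtaPt.FieldEndo.{u}) (R : Type u) [CommRing R] [IsDomain R] [ValuationRing R]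
    (hη : η.InV R ∨ ∀ (k : Type u) [Field k], ringChar k = ringChar R →
      Function.Bijective (η.eta k) → PerfectField k) :
    IsDomain (η.M R) ∧ PreValuationRing (η.M R) ∧
      (∀ y : η.obj (⊥ : Ideal R).ResidueField, ∃ a b : η.M R,
        (b : η.N R) ⟨⊥, Ideal.isPrime_bot⟩ ≠ 0 ∧
          y * (b : η.N R) ⟨⊥, Ideal.isPrime_bot⟩ = (a : η.N R) ⟨⊥, Ideal.isPrime_bot⟩) ∧
      (fun x : η.N R => x ⟨⊥, Ideal.isPrime_bot⟩) '' (η.M R : Set (η.N R)) ∩
          Set.range (η.eta (⊥ : Ideal R).ResidueField) =
        Set.range ((η.eta (⊥ : Ideal R).ResidueField).comp (algebraMap R (⊥ : Ideal R).ResidueField)) := by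
  classical
  -- the generic projection
  let p₀ : PrimeSpectrum R := ⟨⊥, Ideal.isPrime_bot⟩
  let π : η.M R →+* η.obj (⊥ : Ideal R).ResidueField := Groth.Agent.Lib.EtaPtSpec.proj η p₀
  have hπ : ∀ x : η.M R, π x = (x : η.N R) ⟨⊥, Ideal.isPrime_bot⟩ := fun _ => rfl
  have hπinj : Function.Injective π := by
    intro x y hxy
    exact Subtype.ext (Groth.Agent.Lib.EtaPtValRing.generic_injOn η R x.2 y.2 hxy)
  have himage := Groth.Agent.Lib.EtaPtValRing.generic_image η R hη
  -- integral elements are generic components
  have hlift : ∀ u : η.obj (⊥ : Ideal R).ResidueField,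
      ((η.eta (⊥ : Ideal R).ResidueField).comp
        (algebraMap R (⊥ : Ideal R).ResidueField)).IsIntegralElem u → ∃ c : η.M R, π c = u := by
    intro u hu
    have : u ∈ (fun x : η.N R => x ⟨⊥, Ideal.isPrime_bot⟩) '' (η.M R : Set (η.N R)) := by
      rw [himage]
      exact hu
    obtain ⟨x, hx, hxu⟩ := this
    exact ⟨⟨x, hx⟩, hxu⟩
  refine ⟨Function.Injective.isDomain π hπinj, ⟨fun x₁ x₂ => ?_⟩, fun y => ?_, ?_⟩
  · by_cases h2 : π x₂ = 0
    · refine ⟨0, Or.inl ?_⟩
      apply hπinj
      rw [mul_zero, map_zero, h2]
    by_cases h1 : π x₁ = 0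
    · refine ⟨0, Or.inr ?_⟩
      apply hπinj
      rw [mul_zero, map_zero, h1]
    rcases Groth.Agent.Lib.EtaPtValRing.isIntegralElem_or_inv η R (π x₂ / π x₁) with hu | hu
    · obtain ⟨c, hc⟩ := hlift _ hu
      refine ⟨c, Or.inl ?_⟩
      apply hπinj
      rw [map_mul, hc, mul_div_cancel₀ _ h1]
    · obtain ⟨c, hc⟩ := hlift _ hu
      refine ⟨c, Or.inr ?_⟩
      apply hπinj
      rw [map_mul, hc, inv_div, mul_div_cancel₀ _ h2]
  · by_cases hy0 : y = 0
    · refine ⟨0, 1, ?_, ?_⟩
      · change π 1 ≠ 0
        rw [map_one]
        exact one_ne_zero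
      · change y * π 1 = π 0
        rw [hy0, zero_mul, map_zero]
    rcases Groth.Agent.Lib.EtaPtValRing.isIntegralElem_or_inv η R y with hu | hu
    · obtain ⟨a, ha⟩ := hlift _ hu
      refine ⟨a, 1, ?_, ?_⟩
      · change π 1 ≠ 0
        rw [map_one]
        exact one_ne_zero
      · change y * π 1 = π a
        rw [map_one, mul_one, ha]
    · obtain ⟨b, hb⟩ := hlift _ hu
      refine ⟨1, b, ?_, ?_⟩
      · change π b ≠ 0
        rw [hb]
        exact inv_ne_zero hy0
      · change y * π b = π 1
        rw [hb, map_one, mul_inv_cancel₀ hy0]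
  · ext w
    constructor
    · rintro ⟨⟨x, hx, rfl⟩, ⟨c, hc⟩⟩
      have hint := Groth.Agent.Lib.EtaPtStruct.isIntegralElem_of_mem_M η hx ⟨⊥, Ideal.isPrime_bot⟩
      simp only at hc
      rw [← hc] at hint
      obtain ⟨c₀, hc₀⟩ := Groth.Agent.Lib.EtaPtValRing.exists_of_isIntegralElem_eta η R hint
      refine ⟨c₀, ?_⟩
      rw [RingHom.comp_apply, hc₀]
      exact hc
    · rintro ⟨r, rfl⟩
      refine ⟨⟨η.t R r, η.t_mem_M R r, ?_⟩, ⟨algebraMap R _ r, rfl⟩⟩
      exact Groth.Agent.Lib.EtaPtBasic.t_apply η r _

end Groth.Agent.S13814
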