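import Groth.Statements.S13815
-- import your own Groth.Agent.* helpers here
import Groth.Agent.Lib.EtaPtDescent
import Groth.Agent.S13802

set_option autoImplicit false
universe u
open EtaPt

namespace Groth.Agent.S13815

/-- For a commutative ring A with finitely many minimal prime ideals, the two maps M_η(A) → M_η(M_η(A)),
namely q at the ring M_η(A) and the restriction of N_η(q_A), coincide, and this map is bijective.
Here η is a natural transformation from the identity of the category of fields to an endofunctor F
with F(η_K) bijective and η_K purely inseparable for every field K, N_η(A) is the product of the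
F(k(p)) over the primes p of A with diagonal map t_A, and M_η(A) ⊆ N_η(A) is the subring of elements
sent into the range of t_R by every ring map from A to a valuation ring R at whose fraction field η
is bijective; q_A : A → M_η(A) is the corestriction of t_A. -/
theorem result (η : EtaPt.FieldEndo.{u}) (A : Type u) [CommRing A] (hA : (minimalPrimes A).Finite) :
    (∀ x : η.M A, η.Nmap (η.q A) (x : η.N A) = η.t (η.M A) x) ∧ Function.Bijective (η.q (η.M A)) := by
  refine ⟨Groth.Agent.Lib.EtaPtSpec.Nmap_q_eq_t η hA, ?_, ?_⟩
  · -- injective: `M A` is reduced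
    rw [injective_iff_map_eq_zero]
    intro x hx
    have h1 : η.t (η.M A) x = 0 := congrArg Subtype.val hx
    rw [← Groth.Agent.Lib.EtaPtSpec.Nmap_q_eq_t η hA] at h1
    have h2 : (x : η.N A) = 0 :=
      (Groth.Agent.Lib.EtaPtSpec.Nmap_q_bijective η hA).1 (by rw [h1, map_zero])
    exact Subtype.ext h2
  · rintro ⟨y, hy⟩
    obtain ⟨x, rfl⟩ := (Groth.Agent.Lib.EtaPtSpec.Nmap_q_bijective η hA).2 y
    have hint : (η.q A).IsIntegral := Groth.Agent.S13802.result η A hA
    have hx : x ∈ η.M A :=
      Groth.Agent.Lib.EtaPtDescent.mem_M_of_Nmap_mem_M η (η.q A) hint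
        (Groth.Agent.Lib.EtaPtSpec.comap_q_surjective η) hy
    refine ⟨⟨x, hx⟩, Subtype.ext ?_⟩
    exact (Groth.Agent.Lib.EtaPtSpec.Nmap_q_eq_t η hA ⟨x, hx⟩).symm

end Groth.Agent.S13815
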