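import Groth.Statements.S13820
-- import your own Groth.Agent.* helpers here
import Groth.Agent.Lib.EtaPtRel

set_option autoImplicit false
universe u
open EtaPt

namespace Groth.Agent.S13820

/-- Let A have finitely many minimal prime ideals and let B be an A-algebra with Spec B → Spec A
surjective, C the integral closure of A in B; then the inclusion C ⊆ B carries (C/A)_η onto (B/A)_η.
Here η is a natural transformation from the identity of the category of fields to an endofunctor F
with F(η_K) bijective and η_K purely inseparable for every field K, N_η(A) is the product of the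
F(k(p)) over the primes p of A with diagonal map t_A, and M_η(A) ⊆ N_η(A) is the subring of elements
sent into the range of t_R by every ring map from A to a valuation ring R at whose fraction field η
is bijective; q_A : A → M_η(A) is the corestriction of t_A. For a ring map f : A → B, (B/A)_η ⊆ B
denotes the subring of elements b with t_B(b) in N_η(f)(M_η(A)) (the image in B of the fibre product
of M_η(A) and B over M_η(B)), and q_{B/A} : A → (B/A)_η the corestriction of f. -/
theorem result (η : EtaPt.FieldEndo.{u}) (A B : Type u) [CommRing A] [CommRing B] [Algebra A B]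
    (hA : (minimalPrimes A).Finite) (hs : Function.Surjective (PrimeSpectrum.comap (algebraMap A B))) :
    (η.rel (algebraMap A (integralClosure A B))).map (integralClosure A B).val.toRingHom =
      η.rel (algebraMap A B) := by
  set C := integralClosure A B with hC
  let ι : C →+* B := C.val.toRingHom
  have hι : Function.Injective ι := Subtype.val_injective
  have hcomp : ι.comp (algebraMap A C) = algebraMap A B := by
    ext a
    rfl
  apply le_antisymm
  · rintro _ ⟨c, hc, rfl⟩
    obtain ⟨x, hx, hxc⟩ := hc
    refine ⟨x, hx, ?_⟩
    rw [← hcomp, Groth.Agent.Lib.EtaPtBasic.Nmap_comp, hxc, EtaPt.FieldEndo.Nmap_t_apply]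
  · intro b hb
    obtain ⟨x, hx, hxb⟩ := hb
    have hbint : IsIntegral A b := by
      have h1 := Groth.Agent.Lib.EtaPtRel.qRel_isIntegral η (algebraMap A B) hs hA ⟨b, x, hx, hxb⟩
      have h2 := h1.map (η.rel (algebraMap A B)).subtype
      exact h2
    refine ⟨⟨b, hbint⟩, ?_, rfl⟩
    refine ⟨x, hx, ?_⟩
    have hy : η.Nmap (algebraMap A C) x - η.t C ⟨b, hbint⟩ ∈ η.M C :=
      Subring.sub_mem _ (Groth.Agent.Lib.EtaPtBasic.Nmap_mem_M η _ hx) (η.t_mem_M C _)
    have h0 : η.Nmap ι (η.Nmap (algebraMap A C) x - η.t C ⟨b, hbint⟩) = 0 := by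
      rw [map_sub, ← Groth.Agent.Lib.EtaPtBasic.Nmap_comp, hcomp, hxb,
        EtaPt.FieldEndo.Nmap_t_apply]
      exact sub_self _
    have hz := Groth.Agent.Lib.EtaPtStruct.eq_zero_of_minimalPrimes η hy (by
      intro p hp
      obtain ⟨p', hp', hpp'⟩ := Ideal.exists_comap_eq_of_mem_minimalPrimes_of_injective hι
        p.asIdeal hp
      exact Groth.Agent.Lib.EtaPtVal.eq_zero_of_Nmap_eq_zero' η ι h0 ⟨p', hp'⟩ p hpp'.symm)
    exact sub_eq_zero.mp hz

end Groth.Agent.S13820
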