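import Groth.Statements.S13822
-- import your own Groth.Agent.* helpers here
import Groth.Agent.Lib.EtaPtRel
import Mathlib.RingTheory.Flat.FaithfullyFlat.Algebra

set_option autoImplicit false
universe u
open scoped TensorProduct
open EtaPt

namespace Groth.Agent.S13822

/-- Let A → A' be faithfully flat with A and A' having finitely many minimal prime ideals, and B an
A-algebra with Spec B → Spec A surjective; if q_{(A' ⊗ B)/A'} is bijective then q_{B/A} is
bijective. Here η is a natural transformation from the identity of the category of fields to an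
endofunctor F with F(η_K) bijective and η_K purely inseparable for every field K, N_η(A) is the
product of the F(k(p)) over the primes p of A with diagonal map t_A, and M_η(A) ⊆ N_η(A) is the
subring of elements sent into the range of t_R by every ring map from A to a valuation ring R at
whose fraction field η is bijective; q_A : A → M_η(A) is the corestriction of t_A. For a ring map f
: A → B, (B/A)_η ⊆ B denotes the subring of elements b with t_B(b) in N_η(f)(M_η(A)) (the image in B
of the fibre product of M_η(A) and B over M_η(B)), and q_{B/A} : A → (B/A)_η the corestriction of f. -/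
theorem result (η : EtaPt.FieldEndo.{u}) (A A' B : Type u) [CommRing A] [CommRing A'] [CommRing B]
    [Algebra A A'] [Algebra A B] [Module.FaithfullyFlat A A']
    (hA : (minimalPrimes A).Finite) (hA' : (minimalPrimes A').Finite)
    (hs : Function.Surjective (PrimeSpectrum.comap (algebraMap A B)))
    (h : Function.Bijective (η.qRel (Algebra.TensorProduct.includeLeftRingHom : A' →+* A' ⊗[A] B))) :
    Function.Bijective (η.qRel (algebraMap A B)) := by
  have hinclinj : Function.Injective
      (Algebra.TensorProduct.includeLeftRingHom : A' →+* A' ⊗[A] B) := by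
    intro a b hab
    exact h.1 (Subtype.ext hab :
      η.qRel (Algebra.TensorProduct.includeLeftRingHom : A' →+* A' ⊗[A] B) a = η.qRel _ b)
  have hcomp : (Algebra.TensorProduct.includeLeftRingHom : A' →+* A' ⊗[A] B).comp
      (algebraMap A A') =
      (Algebra.TensorProduct.includeRight : B →ₐ[A] A' ⊗[A] B).toRingHom.comp (algebraMap A B) :=
    Algebra.TensorProduct.includeLeftRingHom_comp_algebraMap
  constructor
  · rw [injective_iff_map_eq_zero]
    intro a ha
    have ha' : algebraMap A B a = 0 := congrArg Subtype.val ha
    have h1 : (Algebra.TensorProduct.includeLeftRingHom : A' →+* A' ⊗[A] B)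
        (algebraMap A A' a) = 0 := by
      have := congrArg (fun φ : A →+* A' ⊗[A] B => φ a) hcomp
      simp only [RingHom.comp_apply] at this
      rw [this, ha', map_zero]
    have h2 : algebraMap A A' a = 0 := hinclinj (by rw [h1, map_zero])
    exact FaithfulSMul.algebraMap_injective A A' (by rw [h2, map_zero])
  · rintro ⟨b, x, hx, hxb⟩
    -- `1 ⊗ b` lies in the relative ring of the base change
    have hmem : (Algebra.TensorProduct.includeRight : B →ₐ[A] A' ⊗[A] B) b ∈
        η.rel (Algebra.TensorProduct.includeLeftRingHom : A' →+* A' ⊗[A] B) := by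
      refine ⟨η.Nmap (algebraMap A A') x,
        Groth.Agent.Lib.EtaPtBasic.Nmap_mem_M η _ hx, ?_⟩
      rw [← Groth.Agent.Lib.EtaPtBasic.Nmap_comp, hcomp, Groth.Agent.Lib.EtaPtBasic.Nmap_comp,
        hxb, EtaPt.FieldEndo.Nmap_t_apply]
      rfl
    obtain ⟨a', ha'⟩ := h.2 ⟨_, hmem⟩
    have ha'' : a' ⊗ₜ[A] (1 : B) = (1 : A') ⊗ₜ[A] b := congrArg Subtype.val ha'
    -- pass to the cokernel of `A → B`
    let π := (LinearMap.range (Algebra.linearMap A B)).mkQ
    have hπ1 : π 1 = 0 := by
      rw [Submodule.mkQ_apply, Submodule.Quotient.mk_eq_zero]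
      exact ⟨1, by simp⟩
    have h3 := congrArg (π.lTensor A') ha''
    rw [LinearMap.lTensor_tmul, LinearMap.lTensor_tmul, hπ1, TensorProduct.tmul_zero] at h3
    have h4 : π b = 0 := (Module.FaithfullyFlat.one_tmul_eq_zero_iff A _ (A := A') (π b)).mp h3.symm
    rw [Submodule.mkQ_apply, Submodule.Quotient.mk_eq_zero] at h4
    obtain ⟨a, ha⟩ := h4
    exact ⟨a, Subtype.ext ha⟩

end Groth.Agent.S13822
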