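import Groth.Statements.S13823
-- import your own Groth.Agent.* helpers here
import Groth.Agent.Lib.EtaPtRel
import Mathlib.RingTheory.Flat.FaithfullyFlat.Algebra
import Mathlib.RingTheory.Flat.TorsionFree

set_option autoImplicit false
universe u
open EtaPt

namespace Groth.Agent.S13823

/-- Let A → A' be faithfully flat with A and A' having finitely many minimal prime ideals, and let Ā, Ā'
be the integral closures of A, A' in their total rings of fractions; if q_{Ā'/A'} is bijective then
q_{Ā/A} is bijective. Here η is a natural transformation from the identity of the category of fields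
to an endofunctor F with F(η_K) bijective and η_K purely inseparable for every field K, N_η(A) is
the product of the F(k(p)) over the primes p of A with diagonal map t_A, and M_η(A) ⊆ N_η(A) is the
subring of elements sent into the range of t_R by every ring map from A to a valuation ring R at
whose fraction field η is bijective; q_A : A → M_η(A) is the corestriction of t_A. For a ring map f
: A → B, (B/A)_η ⊆ B denotes the subring of elements b with t_B(b) in N_η(f)(M_η(A)) (the image in B
of the fibre product of M_η(A) and B over M_η(B)), and q_{B/A} : A → (B/A)_η the corestriction of f. -/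
theorem result (η : EtaPt.FieldEndo.{u}) (A A' : Type u) [CommRing A] [CommRing A'] [Algebra A A'] [Module.FaithfullyFlat A A']
    (hA : (minimalPrimes A).Finite) (hA' : (minimalPrimes A').Finite)
    (h : Function.Bijective (η.qRel (algebraMap A' (integralClosure A' (FractionRing A'))))) :
    Function.Bijective (η.qRel (algebraMap A (integralClosure A (FractionRing A)))) := by
  classical
  -- notation
  have hinjA : Function.Injective (algebraMap A (FractionRing A)) :=
    IsFractionRing.injective A (FractionRing A)
  have hinjA' : Function.Injective (algebraMap A' (FractionRing A')) :=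
    IsFractionRing.injective A' (FractionRing A')
  -- nonzerodivisors stay nonzerodivisors
  have hy : nonZeroDivisors A ≤ (nonZeroDivisors A').comap (algebraMap A A') := by
    intro r hr
    rw [Submonoid.mem_comap, mem_nonZeroDivisors_iff_right]
    intro z hz
    have hreg : IsSMulRegular A' r := Module.Flat.isSMulRegular_of_nonZeroDivisors hr
    apply hreg
    change r • z = r • (0 : A')
    rw [smul_zero, Algebra.smul_def, mul_comm]
    exact hz
  let σ : FractionRing A →+* FractionRing A' :=
    IsLocalization.map (FractionRing A') (algebraMap A A') hy
  have hσ : ∀ a : A, σ (algebraMap A (FractionRing A) a) =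
      algebraMap A' (FractionRing A') (algebraMap A A' a) := fun a => IsLocalization.map_eq hy a
  have hσcomp : σ.comp (algebraMap A (FractionRing A)) =
      (algebraMap A' (FractionRing A')).comp (algebraMap A A') := by
    ext a
    exact hσ a
  have hint : ∀ z : integralClosure A (FractionRing A),
      (σ.comp (integralClosure A (FractionRing A)).val.toRingHom) z ∈
        integralClosure A' (FractionRing A') := by
    intro z
    have h1 : (algebraMap A (FractionRing A)).IsIntegralElem (z : FractionRing A) := z.2
    have h2 := h1.map σ
    rw [hσcomp] at h2
    exact RingHom.IsIntegralElem.of_comp h2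
  let τ : integralClosure A (FractionRing A) →+* integralClosure A' (FractionRing A') :=
    (σ.comp (integralClosure A (FractionRing A)).val.toRingHom).codRestrict _ hint
  have hτ : τ.comp (algebraMap A (integralClosure A (FractionRing A))) =
      (algebraMap A' (integralClosure A' (FractionRing A'))).comp (algebraMap A A') := by
    ext a
    exact hσ a
  constructor
  · intro a b hab
    apply hinjA
    have := congrArg (fun z : η.rel (algebraMap A (integralClosure A (FractionRing A))) =>
      ((z : integralClosure A (FractionRing A)) : FractionRing A)) hab
    exact this
  · rintro ⟨c, x, hx, hxc⟩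
    have hmem : τ c ∈ η.rel (algebraMap A' (integralClosure A' (FractionRing A'))) := by
      refine ⟨η.Nmap (algebraMap A A') x, Groth.Agent.Lib.EtaPtBasic.Nmap_mem_M η _ hx, ?_⟩
      rw [← Groth.Agent.Lib.EtaPtBasic.Nmap_comp, ← hτ, Groth.Agent.Lib.EtaPtBasic.Nmap_comp,
        hxc, EtaPt.FieldEndo.Nmap_t_apply]
    obtain ⟨a', ha'⟩ := h.2 ⟨_, hmem⟩
    have ha'' : algebraMap A' (FractionRing A') a' = σ (c : FractionRing A) := by
      have := congrArg (fun z : η.rel (algebraMap A' (integralClosure A' (FractionRing A'))) =>
        ((z : integralClosure A' (FractionRing A')) : FractionRing A')) ha'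
      exact this
    -- write `c = s / t`
    obtain ⟨⟨s, t⟩, hst⟩ := IsLocalization.surj (nonZeroDivisors A) (c : FractionRing A)
    simp only at hst
    -- `s = a' * t` in `A'`
    have h1 : algebraMap A A' s = a' * algebraMap A A' (t : A) := by
      apply hinjA'
      rw [map_mul, ha'', ← hσ, ← hσ, ← map_mul, hst]
    have h2 : s ∈ ((Ideal.span {(t : A)}).map (algebraMap A A')).comap (algebraMap A A') := by
      rw [Ideal.mem_comap, h1]
      exact Ideal.mul_mem_left _ _ (Ideal.mem_map_of_mem _ (Ideal.mem_span_singleton_self _))
    rw [Ideal.comap_map_eq_self_of_faithfullyFlat, Ideal.mem_span_singleton'] at h2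
    obtain ⟨a, ha⟩ := h2
    refine ⟨a, ?_⟩
    apply Subtype.ext
    apply Subtype.ext
    change algebraMap A (FractionRing A) a = (c : FractionRing A)
    have htu : IsUnit (algebraMap A (FractionRing A) (t : A)) :=
      IsLocalization.map_units (FractionRing A) t
    apply htu.mul_right_cancel
    rw [hst, ← ha, map_mul]

end Groth.Agent.S13823
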