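import Groth.Statements.S13824
import Groth.Agent.Lib.EtaPtBasic
import Mathlib.RingTheory.SurjectiveOnStalks
import Mathlib.RingTheory.Spectrum.Prime.Topology
-- import your own Groth.Agent.* helpers here

set_option autoImplicit false
universe u
open EtaPt

namespace Groth.Agent.S13824

/-- For a commutative ring A and f ∈ A, N_η(A)[1/t_A(f)] → N_η(A_f) is bijective: every element of
N_η(A_f) times a power of the image of f comes from N_η(A), and an element of N_η(A) dies in
N_η(A_f) only if a power of t_A(f) kills it. Here η is a natural transformation from the identity of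
the category of fields to an endofunctor F with F(η_K) bijective and η_K purely inseparable for
every field K, N_η(A) is the product of the F(k(p)) over the primes p of A with diagonal map t_A,
and M_η(A) ⊆ N_η(A) is the subring of elements sent into the range of t_R by every ring map from A
to a valuation ring R at whose fraction field η is bijective; q_A : A → M_η(A) is the corestriction
of t_A. -/
theorem result (η : EtaPt.FieldEndo.{u}) (A : Type u) [CommRing A] (f : A) :
    (∀ y : η.N (Localization.Away f), ∃ (x : η.N A) (n : ℕ),
        y * η.t (Localization.Away f) (algebraMap A (Localization.Away f) f) ^ n =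
          η.Nmap (algebraMap A (Localization.Away f)) x) ∧
      ∀ x : η.N A, η.Nmap (algebraMap A (Localization.Away f)) x = 0 → ∃ n : ℕ, η.t A f ^ n * x = 0 := by
  have hinj : Function.Injective (PrimeSpectrum.comap (algebraMap A (Localization.Away f))) :=
    PrimeSpectrum.localization_comap_injective (Localization.Away f) (Submonoid.powers f)
  have hstalk : (algebraMap A (Localization.Away f)).SurjectiveOnStalks :=
    RingHom.surjectiveOnStalks_of_isLocalization (Submonoid.powers f) _
  refine ⟨?_, ?_⟩
  · intro y
    obtain ⟨x, hx, -⟩ := Groth.Agent.Lib.EtaPtBasic.exists_Nmap_eq η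
      (algebraMap A (Localization.Away f)) hinj
      (fun q => hstalk.residueFieldMap_bijective _ _ rfl) y
    exact ⟨x, 0, by rw [pow_zero, mul_one, hx]⟩
  · intro x hx
    refine ⟨1, ?_⟩
    rw [pow_one]
    funext p
    rw [Pi.mul_apply, Pi.zero_apply]
    by_cases hp : f ∈ p.asIdeal
    · rw [Groth.Agent.Lib.EtaPtBasic.t_apply]
      have : algebraMap A p.asIdeal.ResidueField f = 0 :=
        Ideal.algebraMap_residueField_eq_zero.mpr hp
      rw [this, map_zero, zero_mul]
    · have hmem : p ∈ Set.range (PrimeSpectrum.comap (algebraMap A (Localization.Away f))) := by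
        rw [PrimeSpectrum.localization_away_comap_range (Localization.Away f) f]
        exact hp
      obtain ⟨q, rfl⟩ := hmem
      rw [Groth.Agent.Lib.EtaPtBasic.eq_zero_of_Nmap_eq_zero η _ hx q, mul_zero]

end Groth.Agent.S13824
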