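import Groth.Statements.S13826
-- import your own Groth.Agent.* helpers here
import Groth.Agent.Lib.SpecResidueH52
import Groth.Agent.Lib.EtaPtRel
import Groth.Agent.S13802
import Groth.Agent.S13806

set_option autoImplicit false
universe u
open EtaPt

namespace Groth.Agent.S13826

/-- If the identity factors as `K → K' → K`, the first map is bijective. -/
theorem bijective_of_comp_eq_id {K K' : Type u} [Field K] [Field K'] (ι : K →+* K')
    (φ : K' →+* K) (h : φ.comp ι = RingHom.id K) : Function.Bijective ι := by
  refine ⟨ι.injective, fun z => ⟨φ z, ?_⟩⟩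
  apply φ.injective
  exact congrArg (fun ψ : K →+* K => ψ (φ z)) h

/-- For the identity endofunctor and a commutative ring A with finitely many minimal prime ideals, q_A :
A → M(A) is a seminormalization of A: Spec(q_A) is a universal homeomorphism with trivial residue
field extensions, final among ring maps out of A with these properties. Here M(A) ⊆ ∏_p k(p) is the
subring of families whose image in ∏_q k(q), for every ring map from A to a valuation ring R, is the
diagonal image of an element of R. -/
theorem result (A : Type u) [CommRing A] (hA : (minimalPrimes A).Finite) :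
    HTop.IsRingSN (EtaPt.FieldEndo.ident.{u}.q A) := by
  have hint := Groth.Agent.S13802.result EtaPt.FieldEndo.ident.{u} A hA
  have hbij := Groth.Agent.Lib.EtaPtSpec.comap_q_bijective EtaPt.FieldEndo.ident.{u} hA
  have hres : ∀ Q : PrimeSpectrum (EtaPt.FieldEndo.ident.{u}.M A), Function.Bijective
      (Ideal.ResidueField.map (PrimeSpectrum.comap (EtaPt.FieldEndo.ident.{u}.q A) Q).asIdeal
        Q.asIdeal (EtaPt.FieldEndo.ident.{u}.q A) rfl) := by
    intro Q
    obtain ⟨φ, -, hφ⟩ := Groth.Agent.Lib.EtaPtSpec.exists_factor EtaPt.FieldEndo.ident.{u} hA Q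
    exact bijective_of_comp_eq_id _ φ hφ
  refine ⟨⟨Groth.Agent.Lib.SpecResidueH52.isUnivHomeo_of _ hint hbij hres,
    (Groth.Agent.Lib.SpecResidueH52.residueFieldsIso_iff _).mpr hres⟩, ?_⟩
  intro C _ ψ hψ1 hψ2
  obtain ⟨hψint, hψbij⟩ := Groth.Agent.Lib.SpecResidueH52.of_isUnivHomeo ψ hψ1
  have hψres := (Groth.Agent.Lib.SpecResidueH52.residueFieldsIso_iff ψ).mp hψ2
  have hN : Function.Bijective (EtaPt.FieldEndo.ident.{u}.Nmap ψ) := by
    apply Groth.Agent.Lib.EtaPtRel.Nmap_bijective_of_factor EtaPt.FieldEndo.ident.{u} ψ hψbij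
    intro Q
    let e := RingEquiv.ofBijective _ (hψres Q)
    refine ⟨(e.symm : Q.asIdeal.ResidueField →+*
      (PrimeSpectrum.comap ψ Q).asIdeal.ResidueField), ?_⟩
    exact RingHom.ext (fun z => e.symm_apply_apply z)
  exact Groth.Agent.S13806.result EtaPt.FieldEndo.ident.{u} A hA C ψ hψint hN

end Groth.Agent.S13826
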