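import Groth.Statements.S13827
-- import your own Groth.Agent.* helpers here
import Groth.Agent.Lib.EtaPtDescent
import Mathlib.RingTheory.LocalProperties.Reduced

set_option autoImplicit false
universe u
open EtaPt

namespace Groth.Agent.S13827

open Groth.Agent.Lib.EtaPtBasic Groth.Agent.Lib.EtaPtStruct Groth.Agent.Lib.EtaPtDescent

theorem isReduced_of_isNormalRing (A : Type u) [CommRing A] (hn : EGA4.IsNormalRing A) :
    IsReduced A := by
  apply isReduced_ofLocalizationMaximal A
  intro J hJ
  haveI := hJ.isPrime
  haveI := (hn J).1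
  infer_instance

/-- Gluing integral elements of the residue fields at the minimal primes of a normal ring with
finitely many minimal primes. -/
theorem exists_glue (A : Type u) [CommRing A] (hn : EGA4.IsNormalRing A)
    (hA : (minimalPrimes A).Finite)
    (c : ∀ P : PrimeSpectrum A, P.asIdeal.ResidueField)
    (hc : ∀ P : PrimeSpectrum A, P.asIdeal ∈ minimalPrimes A →
      (algebraMap A P.asIdeal.ResidueField).IsIntegralElem (c P)) :
    ∃ a : A, ∀ P : PrimeSpectrum A, P.asIdeal ∈ minimalPrimes A →
      algebraMap A P.asIdeal.ResidueField a = c P := by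
  classical
  let D : Ideal A :=
    { carrier := {d | ∃ a : A, ∀ P : PrimeSpectrum A, P.asIdeal ∈ minimalPrimes A →
        algebraMap A P.asIdeal.ResidueField d * c P = algebraMap A P.asIdeal.ResidueField a}
      add_mem' := by
        rintro d1 d2 ⟨a1, h1⟩ ⟨a2, h2⟩
        exact ⟨a1 + a2, fun P hP => by rw [map_add, add_mul, h1 P hP, h2 P hP, map_add]⟩
      zero_mem' := ⟨0, fun P hP => by rw [map_zero, zero_mul]⟩
      smul_mem' := by
        rintro r d ⟨a, h⟩
        exact ⟨r * a, fun P hP => by rw [smul_eq_mul, map_mul, mul_assoc, h P hP, map_mul]⟩ }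
  have hD : D = ⊤ := by
    by_contra hne
    obtain ⟨m, hm, hDm⟩ := Ideal.exists_le_maximal D hne
    haveI := hm.isPrime
    obtain ⟨hdom, hic⟩ := hn m
    let S := Localization.AtPrime m
    let K := FractionRing S
    let f : A →+* K := (algebraMap S K).comp (algebraMap A S)
    have hf0 : ∀ a : A, f a = 0 ↔ ∃ s : A, s ∉ m ∧ s * a = 0 := by
      intro a
      change algebraMap S K (algebraMap A S a) = 0 ↔ _
      rw [map_eq_zero_iff _ (IsFractionRing.injective S K),
        IsLocalization.map_eq_zero_iff m.primeCompl S a]
      constructor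
      · rintro ⟨s, hs⟩
        exact ⟨s, s.2, hs⟩
      · rintro ⟨s, hs, h⟩
        exact ⟨⟨s, hs⟩, h⟩
    let P0 : PrimeSpectrum A := kerPt f
    have hP0 : ∀ a : A, a ∈ P0.asIdeal ↔ ∃ s : A, s ∉ m ∧ s * a = 0 := by
      intro a
      rw [kerPt_asIdeal, RingHom.mem_ker, hf0]
    -- `P0` is contained in every prime contained in `m`
    have hP0le : ∀ q : Ideal A, q.IsPrime → q ≤ m → P0.asIdeal ≤ q := by
      intro q hq hqm a ha
      obtain ⟨s, hs, h⟩ := (hP0 a).mp ha
      have : s * a ∈ q := by rw [h]; exact q.zero_mem
      rcases hq.mem_or_mem this with h1 | h1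
      · exact absurd (hqm h1) hs
      · exact h1
    have hP0m : P0.asIdeal ≤ m := hP0le m inferInstance le_rfl
    have hP0min : P0.asIdeal ∈ minimalPrimes A :=
      ⟨⟨P0.2, bot_le⟩, fun q hq hle => hP0le q hq.1 (hle.trans hP0m)⟩
    -- the element `c P0` maps to an element of `S`
    let σ : P0.asIdeal.ResidueField →+* K := kerLift f
    have hσ : ∀ a : A, σ (algebraMap A P0.asIdeal.ResidueField a) = f a := kerLift_algebraMap f
    have h1 : (algebraMap S K).IsIntegralElem (σ (c P0)) := by
      have h2 := (hc P0 hP0min).map σ
      have h3 : σ.comp (algebraMap A P0.asIdeal.ResidueField) = f := RingHom.ext hσ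
      rw [h3] at h2
      exact RingHom.IsIntegralElem.of_comp h2
    obtain ⟨y, hy⟩ := IsIntegrallyClosed.algebraMap_eq_of_integral h1
    obtain ⟨⟨a', s⟩, hys⟩ := IsLocalization.surj m.primeCompl y
    have hs : (s : A) ∉ m := s.2
    have h4 : algebraMap A P0.asIdeal.ResidueField s * c P0 =
        algebraMap A P0.asIdeal.ResidueField a' := by
      apply σ.injective
      rw [map_mul, hσ, hσ, ← hy]
      change algebraMap S K (algebraMap A S s) * algebraMap S K y = algebraMap S K (algebraMap A S a')
      rw [← map_mul, mul_comm, hys]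
    -- an element outside `m` lying in all other minimal primes
    have hu : ∃ u : A, u ∉ m ∧ ∀ q ∈ hA.toFinset.erase P0.asIdeal, u ∈ q := by
      by_contra hcon
      push Not at hcon
      have hle : (hA.toFinset.erase P0.asIdeal).inf id ≤ m := by
        intro u hu
        by_contra hum
        obtain ⟨q, hq, huq⟩ := hcon u hum
        apply huq
        have : (hA.toFinset.erase P0.asIdeal).inf id ≤ id q := Finset.inf_le hq
        exact this hu
      obtain ⟨q, hq, hqm⟩ := (Ideal.IsPrime.inf_le' inferInstance).mp hle
      rw [Finset.mem_erase, Set.Finite.mem_toFinset] at hq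
      apply hq.1
      have hq' : q.IsPrime := hq.2.1.1
      exact le_antisymm (hq.2.2 ⟨P0.2, bot_le⟩ (hP0le q hq' hqm)) (hP0le q hq' hqm)
    obtain ⟨u, hum, hu⟩ := hu
    have hmem : u * s ∈ D := by
      refine ⟨u * a', fun P hP => ?_⟩
      by_cases hPP : P = P0
      · subst hPP
        rw [map_mul, map_mul, mul_assoc, h4]
      · have huP : u ∈ P.asIdeal := by
          apply hu
          rw [Finset.mem_erase, Set.Finite.mem_toFinset]
          exact ⟨fun h => hPP (PrimeSpectrum.ext h), hP⟩
        have h0 : algebraMap A P.asIdeal.ResidueField u = 0 :=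
          (Ideal.algebraMap_residueField_eq_zero).mpr huP
        rw [map_mul, map_mul, h0, zero_mul, zero_mul, zero_mul]
    rcases (inferInstance : m.IsPrime).mem_or_mem (hDm hmem) with h | h
    · exact hum h
    · exact hs h
  have h1 : (1 : A) ∈ D := by rw [hD]; exact Submodule.mem_top
  obtain ⟨a, ha⟩ := h1
  exact ⟨a, fun P hP => by rw [← ha P hP, map_one, one_mul]⟩

/-- For a normal ring A (every localization at a prime is an integrally closed domain) with finitely
many minimal prime ideals such that η is bijective at the residue field of every minimal prime, q_A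
: A → M_η(A) is bijective. Here η is a natural transformation from the identity of the category of
fields to an endofunctor F with F(η_K) bijective and η_K purely inseparable for every field K,
N_η(A) is the product of the F(k(p)) over the primes p of A with diagonal map t_A, and M_η(A) ⊆
N_η(A) is the subring of elements sent into the range of t_R by every ring map from A to a valuation
ring R at whose fraction field η is bijective; q_A : A → M_η(A) is the corestriction of t_A. -/
theorem result (η : EtaPt.FieldEndo.{u}) (A : Type u) [CommRing A] (hn : EGA4.IsNormalRing A)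
    (hA : (minimalPrimes A).Finite)
    (hη : ∀ p : PrimeSpectrum A, p.asIdeal ∈ minimalPrimes A → Function.Bijective (η.eta p.asIdeal.ResidueField)) :
    Function.Bijective (η.q A) := by
  have := isReduced_of_isNormalRing A hn
  refine ⟨?_, ?_⟩
  · intro a b hab
    apply t_injective_of_isReduced η A
    exact congrArg Subtype.val hab
  · rintro ⟨x, hx⟩
    have hex : ∀ P : PrimeSpectrum A, ∃ c : P.asIdeal.ResidueField,
        P.asIdeal ∈ minimalPrimes A → η.eta _ c = x P := by
      intro P
      by_cases hP : P.asIdeal ∈ minimalPrimes A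
      · obtain ⟨c, hc⟩ := (hη P hP).2 (x P)
        exact ⟨c, fun _ => hc⟩
      · exact ⟨0, fun h => absurd h hP⟩
    choose c hc using hex
    obtain ⟨a, ha⟩ := exists_glue A hn hA c (fun P hP => by
      have h1 := isIntegralElem_of_mem_M η hx P
      rw [← hc P hP] at h1
      exact RingHom.IsIntegralElem.of_map (η.eta P.asIdeal.ResidueField).injective h1)
    refine ⟨a, Subtype.ext ?_⟩
    have h0 : x - η.t A a = 0 := eq_zero_of_minimalPrimes η
      (Subring.sub_mem _ hx (η.t_mem_M A a)) (fun P hP => by
        rw [Pi.sub_apply, t_apply, ha P hP, hc P hP, sub_self])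
    exact (sub_eq_zero.mp h0).symm

end Groth.Agent.S13827
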