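import Groth.Statements.S13829
-- import your own Groth.Agent.* helpers here
import Groth.Agent.Lib.EtaPtLoc

set_option autoImplicit false
universe u
open EtaPt

namespace Groth.Agent.S13829

/-- For A with finitely many minimal prime ideals, f ∈ A and a ring map φ : A → B with Spec(φ)
surjective, the localization of (B/A)_η at f is (B_f/A_f)_η: the image of (B/A)_η in B_f lies in
(B_f/A_f)_η, and every element of (B_f/A_f)_η times a power of the image of f is the image of an
element of (B/A)_η. Here η is a natural transformation from the identity of the category of fields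
to an endofunctor F with F(η_K) bijective and η_K purely inseparable for every field K, N_η(A) is
the product of the F(k(p)) over the primes p of A with diagonal map t_A, and M_η(A) ⊆ N_η(A) is the
subring of elements sent into the range of t_R by every ring map from A to a valuation ring R at
whose fraction field η is bijective; q_A : A → M_η(A) is the corestriction of t_A. For a ring map f
: A → B, (B/A)_η ⊆ B denotes the subring of elements b with t_B(b) in N_η(f)(M_η(A)) (the image in B
of the fibre product of M_η(A) and B over M_η(B)), and q_{B/A} : A → (B/A)_η the corestriction of f. -/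
theorem result (η : EtaPt.FieldEndo.{u}) {A B : Type u} [CommRing A] [CommRing B] (hA : (minimalPrimes A).Finite)
    (φ : A →+* B) (hs : Function.Surjective (PrimeSpectrum.comap φ)) (f : A) :
    (η.rel φ).map (algebraMap B (Localization.Away (φ f))) ≤ η.rel (Localization.awayMap φ f) ∧
      ∀ y ∈ η.rel (Localization.awayMap φ f), ∃ x ∈ η.rel φ, ∃ n : ℕ,
        y * algebraMap B (Localization.Away (φ f)) (φ f) ^ n = algebraMap B (Localization.Away (φ f)) x := by
  have hcomp : (Localization.awayMap φ f).comp (algebraMap A (Localization.Away f)) =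
      (algebraMap B (Localization.Away (φ f))).comp φ := IsLocalization.map_comp _
  have hcompf : Localization.awayMap φ f (algebraMap A (Localization.Away f) f) =
      algebraMap B (Localization.Away (φ f)) (φ f) :=
    congrArg (fun ψ : A →+* Localization.Away (φ f) => ψ f) hcomp
  constructor
  · rintro _ ⟨b, ⟨x, hx, hxb⟩, rfl⟩
    refine ⟨η.Nmap (algebraMap A (Localization.Away f)) x,
      Groth.Agent.Lib.EtaPtBasic.Nmap_mem_M η _ hx, ?_⟩
    rw [← Groth.Agent.Lib.EtaPtBasic.Nmap_comp, hcomp, Groth.Agent.Lib.EtaPtBasic.Nmap_comp, hxb,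
      EtaPt.FieldEndo.Nmap_t_apply]
  · rintro y ⟨y', hy', hyy'⟩
    obtain ⟨x₀, hx₀, n, hn⟩ := Groth.Agent.Lib.EtaPtLoc.exists_mul_pow_eq_Nmap η hA f hy'
    obtain ⟨⟨b, ⟨s, m, hm⟩⟩, hbs⟩ := IsLocalization.surj (Submonoid.powers (φ f)) y
    simp only at hbs
    rw [← hm, map_pow] at hbs
    -- names
    set ℓB := algebraMap B (Localization.Away (φ f)) with hℓB
    have h1 : η.Nmap ℓB (η.Nmap φ x₀) = η.t _ (y * ℓB (φ f) ^ n) := by
      rw [← Groth.Agent.Lib.EtaPtBasic.Nmap_comp, ← hcomp, Groth.Agent.Lib.EtaPtBasic.Nmap_comp,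
        ← hn, map_mul (η.Nmap _), map_pow (η.Nmap _), EtaPt.FieldEndo.Nmap_t_apply, hyy', hcompf,
        ← map_pow, ← map_mul]
    have h2 : η.Nmap ℓB (η.Nmap φ (η.t A f ^ m * x₀) - η.t B (b * φ f ^ n)) = 0 := by
      rw [map_sub, map_mul (η.Nmap φ), map_pow (η.Nmap φ), EtaPt.FieldEndo.Nmap_t_apply,
        map_mul (η.Nmap ℓB), map_pow (η.Nmap ℓB), EtaPt.FieldEndo.Nmap_t_apply, h1,
        EtaPt.FieldEndo.Nmap_t_apply, ← map_pow, ← map_mul, map_mul ℓB, ← hbs, map_pow ℓB,
        sub_eq_zero]
      congr 1
      ring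
    have h3 := Groth.Agent.Lib.EtaPtLoc.mul_eq_zero_of_Nmap_away_eq_zero η (φ f) h2
    refine ⟨φ f * (b * φ f ^ n), ?_, m + n + 1, ?_⟩
    · refine ⟨η.t A f * (η.t A f ^ m * x₀), ?_, ?_⟩
      · exact Subring.mul_mem _ (η.t_mem_M A f)
          (Subring.mul_mem _ (Subring.pow_mem _ (η.t_mem_M A f) m) hx₀)
      · rw [mul_sub, sub_eq_zero] at h3
        rw [map_mul (η.Nmap φ), EtaPt.FieldEndo.Nmap_t_apply, map_mul (η.t B)]
        exact h3
    · rw [map_mul ℓB, map_mul ℓB, ← hbs, map_pow ℓB]
      ring

end Groth.Agent.S13829
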