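import Groth.Statements.S13830
-- import your own Groth.Agent.* helpers here
import Groth.Agent.Lib.SpecResidueH52
import Groth.Agent.Lib.EtaPtRel

set_option autoImplicit false
universe u
open AlgebraicGeometry
open EtaPt

namespace Groth.Agent.S13830

/-- If the identity factors as `K → K' → K`, the first map is bijective. -/
theorem bijective_of_comp_eq_id {K K' : Type u} [Field K] [Field K'] (ι : K →+* K')
    (φ : K' →+* K) (h : φ.comp ι = RingHom.id K) : Function.Bijective ι := by
  refine ⟨ι.injective, fun z => ⟨φ z, ?_⟩⟩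
  apply φ.injective
  exact congrArg (fun ψ : K →+* K => ψ (φ z)) h

/-- For the identity endofunctor, a commutative ring A with finitely many minimal prime ideals and an
A-algebra B with Spec B → Spec A surjective, the subring (B/A) ⊆ B (elements b whose residue classes
(b mod q)_q come from a family in M(A) ⊆ ∏_p k(p), M(A) being the families that come from an element
of R after any base change to a valuation ring R) is the seminormalization of A in B: Spec (B/A) →
Spec A is a universal homeomorphism with trivial residue field extensions, and every A-subalgebra C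
of B with these two properties is contained in (B/A). -/
theorem result (A B : Type u) [CommRing A] [CommRing B] [Algebra A B] (hA : (minimalPrimes A).Finite)
    (hs : Function.Surjective (PrimeSpectrum.comap (algebraMap A B))) :
    (FlatMor.IsUnivHomeo (Spec.map (CommRingCat.ofHom (EtaPt.FieldEndo.ident.{u}.qRel (algebraMap A B)))) ∧
      HTop.ResidueFieldsIso (Spec.map (CommRingCat.ofHom (EtaPt.FieldEndo.ident.{u}.qRel (algebraMap A B))))) ∧
    ∀ C : Subalgebra A B,
      FlatMor.IsUnivHomeo (Spec.map (CommRingCat.ofHom (algebraMap A C))) →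
      HTop.ResidueFieldsIso (Spec.map (CommRingCat.ofHom (algebraMap A C))) →
      C.toSubring ≤ EtaPt.FieldEndo.ident.{u}.rel (algebraMap A B) := by
  have hint := Groth.Agent.Lib.EtaPtRel.qRel_isIntegral EtaPt.FieldEndo.ident.{u}
    (algebraMap A B) hs hA
  have hbij := Groth.Agent.Lib.EtaPtRel.comap_qRel_bijective EtaPt.FieldEndo.ident.{u}
    (algebraMap A B) hs hA
  have hres : ∀ Q : PrimeSpectrum (EtaPt.FieldEndo.ident.{u}.rel (algebraMap A B)),
      Function.Bijective
        (Ideal.ResidueField.map
          (PrimeSpectrum.comap (EtaPt.FieldEndo.ident.{u}.qRel (algebraMap A B)) Q).asIdeal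
          Q.asIdeal (EtaPt.FieldEndo.ident.{u}.qRel (algebraMap A B)) rfl) := by
    intro Q
    obtain ⟨φ, hφ⟩ := Groth.Agent.Lib.EtaPtRel.exists_factor_rel EtaPt.FieldEndo.ident.{u}
      (algebraMap A B) hs hA Q
    exact bijective_of_comp_eq_id _ φ hφ
  refine ⟨⟨Groth.Agent.Lib.SpecResidueH52.isUnivHomeo_of _ hint hbij hres,
    (Groth.Agent.Lib.SpecResidueH52.residueFieldsIso_iff _).mpr hres⟩, ?_⟩
  intro C hC1 hC2 c hc
  obtain ⟨hgint, hgbij⟩ := Groth.Agent.Lib.SpecResidueH52.of_isUnivHomeo (algebraMap A C) hC1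
  have hgres := (Groth.Agent.Lib.SpecResidueH52.residueFieldsIso_iff (algebraMap A C)).mp hC2
  have hN : Function.Bijective (EtaPt.FieldEndo.ident.{u}.Nmap (algebraMap A C)) := by
    apply Groth.Agent.Lib.EtaPtRel.Nmap_bijective_of_factor EtaPt.FieldEndo.ident.{u} _ hgbij
    intro Q
    let e := RingEquiv.ofBijective _ (hgres Q)
    refine ⟨(e.symm : Q.asIdeal.ResidueField →+*
      (PrimeSpectrum.comap (algebraMap A C) Q).asIdeal.ResidueField), ?_⟩
    exact RingHom.ext (fun z => e.symm_apply_apply z)
  obtain ⟨x, hx⟩ := hN.2 (EtaPt.FieldEndo.ident.{u}.t C ⟨c, hc⟩)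
  have hxM : x ∈ EtaPt.FieldEndo.ident.{u}.M A := by
    apply Groth.Agent.Lib.EtaPtDescent.mem_M_of_Nmap_mem_M EtaPt.FieldEndo.ident.{u}
      (algebraMap A C) hgint hgbij.2
    rw [hx]
    exact EtaPt.FieldEndo.ident.{u}.t_mem_M C _
  refine ⟨x, hxM, ?_⟩
  have hcomp : (C.val : C →+* B).comp (algebraMap A C) = algebraMap A B := by
    ext a
    rfl
  rw [← hcomp, Groth.Agent.Lib.EtaPtBasic.Nmap_comp, hx, EtaPt.FieldEndo.Nmap_t_apply]
  rfl

end Groth.Agent.S13830
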