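import Groth.Statements.S13831
-- import your own Groth.Agent.* helpers here
import Groth.Agent.Lib.UHResDegH52

set_option autoImplicit false
universe u
open AlgebraicGeometry
open ChowMon

namespace Groth.Agent.S13831

/-- For a finite universal homeomorphism p : T' → T of Noetherian schemes there is an integer d ≥ 1 such
that for every point t' of T' over t the residue field degree [k(t') : k(t)] is a power of the
exponential characteristic of k(t) dividing d. -/
theorem result {T' T : Scheme.{u}} (p : T' ⟶ T) [IsFinite p] (hp : FlatMor.IsUnivHomeo p)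
    [IsNoetherian T] [IsNoetherian T'] [T.IsSeparated] [T'.IsSeparated] :
    ∃ d : ℕ, 0 < d ∧ ∀ t' : T', ∃ e : ℕ,
      @Module.finrank (T.residueField (p t')) (T'.residueField t') _ _
          (p.residueFieldMap t').hom.toAlgebra.toModule =
        ringExpChar (T.residueField (p t')) ^ e ∧
      ringExpChar (T.residueField (p t')) ^ e ∣ d := by
  classical
  -- affine neighbourhoods and generators
  have hex : ∀ t : T, ∃ (U : T.Opens) (_ : IsAffineOpen U) (_ : t ∈ U) (n : ℕ)
      (b : Fin n → Γ(T', p ⁻¹ᵁ U)),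
      letI := (p.app U).hom.toAlgebra; Submodule.span Γ(T, U) (Set.range b) = ⊤ := by
    intro t
    obtain ⟨U, hxU⟩ := TopologicalSpace.Opens.mem_iSup.mp
      ((iSup_affineOpens_eq_top T).ge (Set.mem_univ t))
    have hfin := IsFinite.finite_app p U.1 U.2
    let _ := (p.app U.1).hom.toAlgebra
    have hfin' : Module.Finite Γ(T, U.1) Γ(T', p ⁻¹ᵁ U.1) := hfin
    obtain ⟨n, b, hb⟩ := Module.Finite.exists_fin (R := Γ(T, U.1)) (M := Γ(T', p ⁻¹ᵁ U.1))
    exact ⟨U.1, U.2, hxU, n, b, hb⟩
  choose U hU htU n b hb using hex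
  obtain ⟨s, hs⟩ := isCompact_univ.elim_finite_subcover (fun t => ((U t : T.Opens) : Set T))
    (fun t => (U t).isOpen) (fun t _ => Set.mem_iUnion.mpr ⟨t, htU t⟩)
  refine ⟨(s.sup n).factorial, Nat.factorial_pos _, fun t' => ?_⟩
  obtain ⟨t, hts, ht⟩ : ∃ t ∈ s, p t' ∈ U t := by
    have := hs (Set.mem_univ (p t'))
    simpa using this
  obtain ⟨hfd, hle⟩ := Groth.Agent.Lib.UHResDegH52.finrank_residueField_le p (U t)
    ((hU t).preimage p) (n t) (b t) (hb t) t' ht
  have h02 : UniversallyInjective p ↔ (Function.Injective p ∧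
      ∀ x, (p.residueFieldMap x).hom.IsPurelyInseparable) :=
    (tfae_universallyInjective p).out 0 2
  have hpi := (h02.mp (Groth.Agent.Lib.UnivHomeo.universallyInjective hp)).2 t'
  let _ := (p.residueFieldMap t').hom.toAlgebra
  have hpi' : IsPurelyInseparable (T.residueField (p t')) (T'.residueField t') := hpi
  obtain ⟨e, he⟩ := IsPurelyInseparable.finrank_eq_pow (F := T.residueField (p t'))
    (T'.residueField t') (ringExpChar (T.residueField (p t')))
  refine ⟨e, he, ?_⟩
  apply Nat.dvd_factorial
  · rw [← he]; exact Module.finrank_pos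
  · rw [← he]; exact hle.trans (Finset.le_sup hts)

end Groth.Agent.S13831
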