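import Groth.Statements.S13832
-- import your own Groth.Agent.* helpers here
import Groth.Agent.Lib.UHImageH52

set_option autoImplicit false
universe u
open AlgebraicGeometry CategoryTheory
open HTop

namespace Groth.Agent.S13832

/-- Let S be a Noetherian scheme, X → S locally of finite type, T a Noetherian S-scheme and ν : T' → T
an absolute weak normalization (all schemes separated). Then S-morphisms T' → X are the colimit of
S-morphisms T₁ → X over the finite universal homeomorphisms T₁ → T: every S-morphism g : T' → X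
factors as T' → T₁ → X for some finite universal homeomorphism T₁ → T, and two such factorizations
through T₁ and T₂ become equal on some finite universal homeomorphism T₃ → T dominating both. -/
theorem result {S X T T' : Scheme.{u}} [IsNoetherian S] [IsNoetherian T] [S.IsSeparated] [X.IsSeparated]
    [T.IsSeparated] [T'.IsSeparated] (fX : X ⟶ S) [LocallyOfFiniteType fX] (fT : T ⟶ S)
    (ν : T' ⟶ T) (hν : HTop.IsAWNormalization ν) :
    (∀ g : T' ⟶ X, g ≫ fX = ν ≫ fT →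
      ∃ (T₁ : Scheme.{u}) (π : T₁ ⟶ T) (_ : IsFinite π) (_ : FlatMor.IsUnivHomeo π) (g₁ : T₁ ⟶ X)
        (h : T' ⟶ T₁), h ≫ π = ν ∧ g₁ ≫ fX = π ≫ fT ∧ h ≫ g₁ = g) ∧
    (∀ (T₁ T₂ : Scheme.{u}) (π₁ : T₁ ⟶ T) (π₂ : T₂ ⟶ T) [IsFinite π₁] [IsFinite π₂],
      FlatMor.IsUnivHomeo π₁ → FlatMor.IsUnivHomeo π₂ →
      ∀ (g₁ : T₁ ⟶ X) (g₂ : T₂ ⟶ X) (h₁ : T' ⟶ T₁) (h₂ : T' ⟶ T₂),
        g₁ ≫ fX = π₁ ≫ fT → g₂ ≫ fX = π₂ ≫ fT → h₁ ≫ π₁ = ν → h₂ ≫ π₂ = ν → h₁ ≫ g₁ = h₂ ≫ g₂ →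
        ∃ (T₃ : Scheme.{u}) (π₃ : T₃ ⟶ T) (_ : IsFinite π₃) (_ : FlatMor.IsUnivHomeo π₃)
          (a₁ : T₃ ⟶ T₁) (a₂ : T₃ ⟶ T₂), a₁ ≫ π₁ = π₃ ∧ a₂ ≫ π₂ = π₃ ∧ a₁ ≫ g₁ = a₂ ≫ g₂) := by
  have hνu : FlatMor.IsUnivHomeo ν := hν.1
  refine ⟨fun g hg => ?_, fun T₁ T₂ π₁ π₂ _ _ hπ₁ hπ₂ g₁ g₂ h₁ h₂ e₁ e₂ eh₁ eh₂ egg => ?_⟩
  · let q : Limits.pullback fT fX ⟶ T := Limits.pullback.fst fT fX
    let k : T' ⟶ Limits.pullback fT fX := Limits.pullback.lift ν g hg.symm
    have hkq : k ≫ q = ν := Limits.pullback.lift_fst _ _ _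
    have hk : FlatMor.IsUnivHomeo (k ≫ q) := by rw [hkq]; exact hνu
    refine ⟨k.image, k.imageι ≫ q, Groth.Agent.Lib.UHImageH52.isFinite_imageι_comp k q hk,
      Groth.Agent.Lib.UHImageH52.isUnivHomeo_imageι_comp k q hk,
      k.imageι ≫ Limits.pullback.snd fT fX, k.toImage, ?_, ?_, ?_⟩
    · rw [Groth.Agent.Lib.UHImageH52.toImage_imageι_comp, hkq]
    · rw [Category.assoc, Category.assoc, Limits.pullback.condition]
    · rw [← Category.assoc, Scheme.Hom.toImage_imageι]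
      exact Limits.pullback.lift_snd _ _ _
  · let q : Limits.pullback π₁ π₂ ⟶ T := Limits.pullback.fst π₁ π₂ ≫ π₁
    let k : T' ⟶ Limits.pullback π₁ π₂ := Limits.pullback.lift h₁ h₂ (eh₁.trans eh₂.symm)
    have hkq : k ≫ q = ν := by
      rw [← Category.assoc, Limits.pullback.lift_fst, eh₁]
    have hk : FlatMor.IsUnivHomeo (k ≫ q) := by rw [hkq]; exact hνu
    have hqc : IsAffineHom k := Groth.Agent.Lib.UHImageH52.isAffineHom_of_comp k q hk
    have hdom := Groth.Agent.Lib.UHImageH52.isSchemeTheoreticallyDominant_toImage k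
    have ea₂ : (k.imageι ≫ Limits.pullback.snd π₁ π₂) ≫ π₂ = k.imageι ≫ q := by
      rw [Category.assoc, ← Limits.pullback.condition]
    refine ⟨k.image, k.imageι ≫ q, Groth.Agent.Lib.UHImageH52.isFinite_imageι_comp k q hk,
      Groth.Agent.Lib.UHImageH52.isUnivHomeo_imageι_comp k q hk,
      k.imageι ≫ Limits.pullback.fst π₁ π₂, k.imageι ≫ Limits.pullback.snd π₁ π₂, ?_, ea₂, ?_⟩
    · rw [Category.assoc]
    · apply Groth.Agent.Lib.UHImageH52.ext_of_isSchemeTheoreticallyDominant_of_isSeparated fX ?_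
        k.toImage ?_
      · simp only [Category.assoc, e₁, e₂, Limits.pullback.condition_assoc]
      · rw [← Category.assoc, ← Category.assoc, ← Category.assoc, ← Category.assoc,
          Scheme.Hom.toImage_imageι, Limits.pullback.lift_fst, Limits.pullback.lift_snd]
        exact egg

end Groth.Agent.S13832
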