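import Groth.Statements.S13834
import Groth.Agent.Lib.FiniteIrredCompH44

set_option autoImplicit false
universe u
open AlgebraicGeometry
open EtaPt

namespace Groth.Agent.S13834

open Groth.Agent.Lib.FiniteIrredCompH44

/-- An affine open `U`, as a subspace, is homeomorphic to the prime spectrum of its sections. -/
noncomputable def homeoAffine {X : Scheme.{u}} {U : X.Opens} (hU : IsAffineOpen U) :
    (U : Type u) ≃ₜ PrimeSpectrum Γ(X, U) :=
  Scheme.homeoOfIso hU.isoSpec

theorem finite_of_affine_pair {Y X : Scheme.{u}} (f : Y ⟶ X) [Flat f]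
    [LocallyOfFinitePresentation f] {U : X.Opens} (hU : IsAffineOpen U) {W : Y.Opens}
    (hW : IsAffineOpen W) (e : W ≤ f ⁻¹ᵁ U)
    (h : (irreducibleComponents (U : Type u)).Finite) :
    (irreducibleComponents (W : Type u)).Finite := by
  have hflat : (f.appLE U W e).hom.Flat :=
    HasRingHomProperty.appLE (P := @Flat) f inferInstance ⟨U, hU⟩ ⟨W, hW⟩ e
  have hfp : (f.appLE U W e).hom.FinitePresentation :=
    HasRingHomProperty.appLE (P := @LocallyOfFinitePresentation) f inferInstance ⟨U, hU⟩ ⟨W, hW⟩ e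
  algebraize [(f.appLE U W e).hom]
  have hA := finite_irreducibleComponents_of_homeomorph (homeoAffine hU) h
  have hB := finite_irreducibleComponents_primeSpectrum_of_flat_finiteType
    (A := Γ(X, U)) (B := Γ(Y, W)) hA
  exact finite_irreducibleComponents_of_homeomorph (homeoAffine hW).symm hB

/-- If f : Y → X is faithfully flat and locally of finite presentation and each quasi-compact open
subset of X has only finitely many irreducible components, the same is true of each quasi-compact
open subset of Y. -/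
theorem result {Y X : Scheme.{u}} (f : Y ⟶ X) [Flat f] [LocallyOfFinitePresentation f] [Surjective f]
    (hX : ∀ U : X.Opens, IsCompact (U : Set X) → (irreducibleComponents (U : Type u)).Finite)
    (V : Y.Opens) (hV : IsCompact (V : Set Y)) : (irreducibleComponents (V : Type u)).Finite := by
  classical
  have hloc : ∀ y : V, ∃ W : Y.Opens, IsAffineOpen W ∧ (y : Y) ∈ W ∧ W ≤ V ∧
      (irreducibleComponents (W : Type u)).Finite := by
    intro y
    obtain ⟨U, hU, hyU, -⟩ := exists_isAffineOpen_mem_and_subset (x := f y.1) (U := ⊤) trivial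
    have hy' : (y : Y) ∈ V ⊓ f ⁻¹ᵁ U := ⟨y.2, hyU⟩
    obtain ⟨W, hW, hyW, hWle⟩ := exists_isAffineOpen_mem_and_subset hy'
    refine ⟨W, hW, hyW, fun z hz => (hWle hz).1, ?_⟩
    exact finite_of_affine_pair f hU hW (fun z hz => (hWle hz).2) (hX U hU.isCompact)
  choose W hWaff hyW hWV hWfin using hloc
  obtain ⟨t, ht⟩ := hV.elim_finite_subcover (fun y : V => ((W y : Y.Opens) : Set Y))
    (fun y => (W y).isOpen) (fun z hz => Set.mem_iUnion.2 ⟨⟨z, hz⟩, hyW ⟨z, hz⟩⟩)
  exact finite_irreducibleComponents_of_openCover (ι := t) (fun i => (W i.1 : Type u))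
    (fun i => Set.inclusion (hWV i.1))
    (fun i => TopologicalSpace.Opens.isOpenEmbedding_of_le (hWV i.1))
    (fun x => by
      obtain ⟨i, hi, hx⟩ := Set.mem_iUnion₂.1 (ht x.2)
      exact ⟨⟨i, hi⟩, ⟨⟨x.1, hx⟩, rfl⟩⟩)
    (fun i => hWfin i.1)

end Groth.Agent.S13834
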