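import Groth.Statements.S13835
import Mathlib.AlgebraicGeometry.Morphisms.Separated
import Mathlib.AlgebraicGeometry.Gluing

set_option autoImplicit false
universe u
open AlgebraicGeometry CategoryTheory
open ChowMon

namespace Groth.Agent.S13835

open CategoryTheory.Limits

section

variable {T' T Y : Scheme.{u}} (p : T' ⟶ T) (f' : T' ⟶ Y)

/-- the key compatibility: a local factorization computes `f'` on anything lying over the open -/
theorem comp_eq_of_factor (V : T.Opens) (fV : (V : Scheme.{u}) ⟶ Y)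
    (hV : (p ⁻¹ᵁ V).ι ≫ f' = (p ∣_ V) ≫ fV) {P : Scheme.{u}} (π : P ⟶ T') (r : P ⟶ V)
    (h : π ≫ p = r ≫ V.ι) : r ≫ fV = π ≫ f' := by
  have hsub : Set.range π.base ⊆ Set.range (p ⁻¹ᵁ V).ι.base := by
    rw [Scheme.Opens.range_ι]
    rintro _ ⟨x, rfl⟩
    change p.base (π.base x) ∈ V
    rw [← Scheme.Hom.comp_apply, h, Scheme.Hom.comp_apply]
    exact (r.base x).2
  let a : P ⟶ (p ⁻¹ᵁ V : Scheme.{u}) := IsOpenImmersion.lift (p ⁻¹ᵁ V).ι π hsub
  have ha : a ≫ (p ⁻¹ᵁ V).ι = π := IsOpenImmersion.lift_fac _ _ _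
  have har : a ≫ (p ∣_ V) = r := by
    rw [← cancel_mono V.ι, Category.assoc, morphismRestrict_ι, ← Category.assoc, ha, h]
  rw [← har, Category.assoc, ← hV, ← Category.assoc, ha]

end

/-- Let p : T' → T be a universal homeomorphism of separated schemes with T reduced and f' : T' → Y a
morphism (Y separated); if T has an open cover by affine opens U_i such that each restriction of f'
to p⁻¹(U_i) factors through p⁻¹(U_i) → U_i, then f' factors through p. -/
theorem result {T' T Y : Scheme.{u}} (p : T' ⟶ T) (hp : FlatMor.IsUnivHomeo p) [IsReduced T]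
    [T.IsSeparated] [T'.IsSeparated] [Y.IsSeparated] (f' : T' ⟶ Y)
    {ι : Type u} (U : ι → T.affineOpens) (hU : ⨆ i, (U i : T.Opens) = ⊤)
    (hloc : ∀ i, ∃ fi : ((U i : T.Opens) : Scheme.{u}) ⟶ Y, (p ⁻¹ᵁ (U i : T.Opens)).ι ≫ f' = (p ∣_ (U i : T.Opens)) ≫ fi) :
    ∃ f : T ⟶ Y, p ≫ f = f' := by
  have hhomeo : IsHomeomorph p.base := (MorphismProperty.universally_le _) _ hp
  have hsurj : Surjective p := ⟨hhomeo.surjective⟩
  choose fi hfi using hloc
  let 𝒰 : T.OpenCover := T.openCoverOfIsOpenCover (fun i => (U i : T.Opens)) hU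
  have hcompat : ∀ i j, pullback.fst (𝒰.f i) (𝒰.f j) ≫ fi i = pullback.snd (𝒰.f i) (𝒰.f j) ≫ fi j := by
    intro (i : ι) (j : ι)
    have hred : IsReduced (pullback (𝒰.f i) (𝒰.f j)) :=
      isReduced_of_isOpenImmersion (pullback.fst (𝒰.f i) (𝒰.f j) ≫ 𝒰.f i)
    let c : pullback (𝒰.f i) (𝒰.f j) ⟶ T := pullback.fst (𝒰.f i) (𝒰.f j) ≫ 𝒰.f i
    have hq : Surjective (pullback.snd p c) := inferInstance
    have hdom : IsDominant (pullback.snd p c) := inferInstance
    apply ext_of_isDominant (pullback.snd p c)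
    have h1 : (pullback.snd p c ≫ pullback.fst (𝒰.f i) (𝒰.f j)) ≫ fi i = pullback.fst p c ≫ f' := by
      apply comp_eq_of_factor p f' (U i : T.Opens) (fi i) (hfi i)
      have hc : pullback.fst p c ≫ p = pullback.snd p c ≫ c := pullback.condition
      exact hc.trans (Category.assoc _ _ _).symm
    have h2 : (pullback.snd p c ≫ pullback.snd (𝒰.f i) (𝒰.f j)) ≫ fi j = pullback.fst p c ≫ f' := by
      apply comp_eq_of_factor p f' (U j : T.Opens) (fi j) (hfi j)
      have hc : pullback.fst p c ≫ p = pullback.snd p c ≫ c := pullback.condition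
      have hc2 : c = pullback.snd (𝒰.f i) (𝒰.f j) ≫ 𝒰.f j := pullback.condition
      exact (hc.trans (congrArg (fun k => pullback.snd p c ≫ k) hc2)).trans
        (Category.assoc _ _ _).symm
    rw [← Category.assoc, h1, ← Category.assoc, h2]
  refine ⟨𝒰.glueMorphisms fi hcompat, ?_⟩
  refine Scheme.Cover.hom_ext (𝒰.pullback₁ p) _ _ fun i => ?_
  change pullback.fst p (𝒰.f i) ≫ p ≫ _ = pullback.fst p (𝒰.f i) ≫ f'
  rw [← Category.assoc, pullback.condition, Category.assoc, Scheme.Cover.ι_glueMorphisms]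
  exact comp_eq_of_factor p f' (U i : T.Opens) (fi i) (hfi i) _ _ pullback.condition

end Groth.Agent.S13835
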