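import Groth.Statements.S13837
-- import your own Groth.Agent.* helpers here
import Groth.Agent.Lib.UnivInjRingH52
import Groth.Agent.Lib.EtaPtDescent
import Mathlib.RingTheory.TensorProduct.Maps

set_option autoImplicit false
universe u
open AlgebraicGeometry
open scoped TensorProduct
open HTop

namespace Groth.Agent.S13837

open scoped TensorProduct in
/-- the difference of the two coprojections -/
theorem delta_mul {A B : Type u} [CommRing A] [CommRing B] [Algebra A B] (b b' : B) :
    (b * b') ⊗ₜ[A] (1 : B) - (1 : B) ⊗ₜ[A] (b * b') =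
      (b ⊗ₜ[A] (1 : B)) * (b' ⊗ₜ[A] (1 : B) - (1 : B) ⊗ₜ[A] b') +
        ((1 : B) ⊗ₜ[A] b') * (b ⊗ₜ[A] (1 : B) - (1 : B) ⊗ₜ[A] b) := by
  simp only [mul_sub, Algebra.TensorProduct.tmul_mul_tmul, mul_one, one_mul]
  rw [mul_comm b' b]
  abel

/-- Let A ⊆ B be an integral ring extension where A and B have finitely many minimal prime ideals; then
the weak normalization of A in B is the equaliser of the two maps B ⇉ (B ⊗_A B)_red: the
A-subalgebra E of elements b with b ⊗ 1 − 1 ⊗ b nilpotent in B ⊗_A B has Spec E → Spec A a universal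
homeomorphism, and every A-subalgebra C of B with Spec C → Spec A a universal homeomorphism is
contained in E. -/
theorem result (A B : Type u) [CommRing A] [CommRing B] [Algebra A B] (hinj : Function.Injective (algebraMap A B))
    [Algebra.IsIntegral A B] (hA : (minimalPrimes A).Finite) (hB : (minimalPrimes B).Finite) :
    ∃ E : Subalgebra A B, (∀ b : B, b ∈ E ↔ IsNilpotent (b ⊗ₜ[A] (1 : B) - (1 : B) ⊗ₜ[A] b)) ∧
      FlatMor.IsUnivHomeo (Spec.map (CommRingCat.ofHom (algebraMap A E))) ∧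
      ∀ C : Subalgebra A B, FlatMor.IsUnivHomeo (Spec.map (CommRingCat.ofHom (algebraMap A C))) → C ≤ E := by
  classical
  -- the subalgebra `E`
  let E : Subalgebra A B :=
    { carrier := {b | b ⊗ₜ[A] (1 : B) - (1 : B) ⊗ₜ[A] b ∈ nilradical (B ⊗[A] B)}
      mul_mem' := by
        intro b b' hb hb'
        change (b * b') ⊗ₜ[A] (1 : B) - (1 : B) ⊗ₜ[A] (b * b') ∈ nilradical (B ⊗[A] B)
        rw [delta_mul]
        exact Ideal.add_mem _ (Ideal.mul_mem_left _ _ hb') (Ideal.mul_mem_left _ _ hb)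
      add_mem' := by
        intro b b' hb hb'
        change (b + b') ⊗ₜ[A] (1 : B) - (1 : B) ⊗ₜ[A] (b + b') ∈ nilradical (B ⊗[A] B)
        have : (b + b') ⊗ₜ[A] (1 : B) - (1 : B) ⊗ₜ[A] (b + b') =
            (b ⊗ₜ[A] (1 : B) - (1 : B) ⊗ₜ[A] b) + (b' ⊗ₜ[A] (1 : B) - (1 : B) ⊗ₜ[A] b') := by
          rw [TensorProduct.add_tmul, TensorProduct.tmul_add]
          ring
        rw [this]
        exact Ideal.add_mem _ hb hb'
      algebraMap_mem' := by
        intro a
        change (algebraMap A B a) ⊗ₜ[A] (1 : B) - (1 : B) ⊗ₜ[A] (algebraMap A B a) ∈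
          nilradical (B ⊗[A] B)
        have : (algebraMap A B a) ⊗ₜ[A] (1 : B) - (1 : B) ⊗ₜ[A] (algebraMap A B a) = 0 := by
          rw [Algebra.algebraMap_eq_smul_one, TensorProduct.smul_tmul, sub_self]
        rw [this]
        exact Ideal.zero_mem _ }
  have hE : ∀ b : B, b ∈ E ↔ IsNilpotent (b ⊗ₜ[A] (1 : B) - (1 : B) ⊗ₜ[A] b) := by
    intro b
    exact mem_nilradical
  refine ⟨E, hE, ?_, ?_⟩
  · -- `Spec E → Spec A` is a universal homeomorphism
    have hinjE : Function.Injective (algebraMap A E) := by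
      intro a a' h
      exact hinj (congrArg Subtype.val h)
    have hintE : (algebraMap A E).IsIntegral := by
      intro e
      have h1 : IsIntegral A (e : B) := Algebra.IsIntegral.isIntegral _
      exact (isIntegral_algHom_iff E.val Subtype.val_injective).mp h1
    apply Groth.Agent.Lib.UnivInjRingH52.isUnivHomeo_of_ring _ hintE
      (hintE.comap_surjective hinjE)
    intro K _ g₁ g₂ hg
    -- extend to `B` with values in an algebraic closure
    let ιK : K →+* AlgebraicClosure K := algebraMap K (AlgebraicClosure K)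
    have hEB_int : (E.val : E →+* B).IsIntegral := by
      intro b
      have h1 : IsIntegral A b := Algebra.IsIntegral.isIntegral _
      exact h1.tower_top
    have hEB_surj : Function.Surjective (PrimeSpectrum.comap (E.val : E →+* B)) :=
      hEB_int.comap_surjective Subtype.val_injective
    obtain ⟨G₁, hG₁⟩ := Groth.Agent.Lib.EtaPtDescent.exists_extension_of_isIntegral
      (E.val : E →+* B) hEB_int hEB_surj (ιK.comp g₁)
    obtain ⟨G₂, hG₂⟩ := Groth.Agent.Lib.EtaPtDescent.exists_extension_of_isIntegral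
      (E.val : E →+* B) hEB_int hEB_surj (ιK.comp g₂)
    have hG₁e : ∀ e : E, G₁ (e : B) = ιK (g₁ e) :=
      fun e => congrArg (fun ψ : E →+* AlgebraicClosure K => ψ e) hG₁
    have hG₂e : ∀ e : E, G₂ (e : B) = ιK (g₂ e) :=
      fun e => congrArg (fun ψ : E →+* AlgebraicClosure K => ψ e) hG₂
    have hGA : ∀ a : A, G₁ (algebraMap A B a) = G₂ (algebraMap A B a) := by
      intro a
      have h1 := hG₁e (algebraMap A E a)
      have h2 := hG₂e (algebraMap A E a)
      have h3 : g₁ (algebraMap A E a) = g₂ (algebraMap A E a) :=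
        congrArg (fun ψ : A →+* K => ψ a) hg
      rw [h3] at h1
      exact h1.trans h2.symm
    let _ : Algebra A (AlgebraicClosure K) := (G₁.comp (algebraMap A B)).toAlgebra
    let F₁ : B →ₐ[A] AlgebraicClosure K := { G₁ with commutes' := fun a => rfl }
    let F₂ : B →ₐ[A] AlgebraicClosure K := { G₂ with commutes' := fun a => (hGA a).symm }
    let Θ : B ⊗[A] B →ₐ[A] AlgebraicClosure K := Algebra.TensorProduct.productMap F₁ F₂
    ext e
    have hnil : IsNilpotent ((e : B) ⊗ₜ[A] (1 : B) - (1 : B) ⊗ₜ[A] (e : B)) := (hE e).mp e.2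
    have h1 : IsNilpotent (Θ ((e : B) ⊗ₜ[A] (1 : B) - (1 : B) ⊗ₜ[A] (e : B))) := hnil.map Θ
    have h2 : Θ ((e : B) ⊗ₜ[A] (1 : B) - (1 : B) ⊗ₜ[A] (e : B)) = ιK (g₁ e) - ιK (g₂ e) := by
      rw [map_sub, Algebra.TensorProduct.productMap_apply_tmul,
        Algebra.TensorProduct.productMap_apply_tmul, map_one, map_one, mul_one, one_mul]
      change G₁ (e : B) - G₂ (e : B) = _
      rw [hG₁e, hG₂e]
    rw [h2] at h1
    have h3 : ιK (g₁ e) - ιK (g₂ e) = 0 := h1.eq_zero
    exact ιK.injective (sub_eq_zero.mp h3)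
  · -- maximality
    intro C hC c hc
    change c ⊗ₜ[A] (1 : B) - (1 : B) ⊗ₜ[A] c ∈ nilradical (B ⊗[A] B)
    rw [nilradical_eq_sInf, Ideal.mem_sInf]
    intro 𝔓 h𝔓
    have key : ∀ P : PrimeSpectrum (B ⊗[A] B),
        c ⊗ₜ[A] (1 : B) - (1 : B) ⊗ₜ[A] c ∈ P.asIdeal := by
      intro P
      let κ : B ⊗[A] B →+* P.asIdeal.ResidueField := algebraMap _ _
      let g₁ : C →+* P.asIdeal.ResidueField :=
        κ.comp ((Algebra.TensorProduct.includeLeftRingHom : B →+* B ⊗[A] B).comp (C.val : C →+* B))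
      let g₂ : C →+* P.asIdeal.ResidueField :=
        κ.comp ((Algebra.TensorProduct.includeRight : B →ₐ[A] B ⊗[A] B).toRingHom.comp
          (C.val : C →+* B))
      have hg : g₁.comp (algebraMap A C) = g₂.comp (algebraMap A C) := by
        ext a
        have e : (algebraMap A B a) ⊗ₜ[A] (1 : B) = (1 : B) ⊗ₜ[A] (algebraMap A B a) := by
          rw [Algebra.algebraMap_eq_smul_one, TensorProduct.smul_tmul]
        exact congrArg κ e
      have h12 := Groth.Agent.Lib.UnivInjRingH52.eq_of_comp_eq_of_isUnivHomeo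
        (algebraMap A C) hC g₁ g₂ hg
      have h3 : κ (c ⊗ₜ[A] (1 : B)) = κ ((1 : B) ⊗ₜ[A] c) :=
        congrArg (fun ψ : C →+* P.asIdeal.ResidueField => ψ ⟨c, hc⟩) h12
      rw [← Ideal.algebraMap_residueField_eq_zero, map_sub, sub_eq_zero]
      exact h3
    exact key ⟨𝔓, h𝔓⟩

end Groth.Agent.S13837
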