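import Groth.Statements.S13838
-- import your own Groth.Agent.* helpers here
import Groth.Agent.Lib.SpecResidueInsepH52

set_option autoImplicit false
universe u
open AlgebraicGeometry
open HTop

namespace Groth.Agent.S13838

/-- Let A ⊆ B be an integral ring extension where A and B have finitely many minimal prime ideals, such
that every prime p of A has a prime q of B above it for which k(p) is closed under extracting
p-power roots inside k(q) (the purely inseparable closure of k(p) in k(q) is k(p)); then the semi-
and weak normalizations of A in B coincide: every A-subalgebra C of B with Spec C → Spec A a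
universal homeomorphism already induces isomorphisms on residue fields. -/
theorem result (A B : Type u) [CommRing A] [CommRing B] [Algebra A B] (hinj : Function.Injective (algebraMap A B))
    [Algebra.IsIntegral A B] (hA : (minimalPrimes A).Finite) (hB : (minimalPrimes B).Finite)
    (hpi : ∀ p : PrimeSpectrum A, ∃ q : PrimeSpectrum B, ∃ hq : p.asIdeal = Ideal.comap (algebraMap A B) q.asIdeal,
      ∀ x : q.asIdeal.ResidueField,
        (∃ n : ℕ, x ^ ringExpChar p.asIdeal.ResidueField ^ n ∈
            Set.range (Ideal.ResidueField.map p.asIdeal q.asIdeal (algebraMap A B) hq)) →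
        x ∈ Set.range (Ideal.ResidueField.map p.asIdeal q.asIdeal (algebraMap A B) hq)) :
    ∀ C : Subalgebra A B, FlatMor.IsUnivHomeo (Spec.map (CommRingCat.ofHom (algebraMap A C))) →
      HTop.ResidueFieldsIso (Spec.map (CommRingCat.ofHom (algebraMap A C))) := by
  intro C hC
  rw [Groth.Agent.Lib.SpecResidueH52.residueFieldsIso_iff]
  intro QC
  obtain ⟨-, hbij⟩ := Groth.Agent.Lib.SpecResidueH52.of_isUnivHomeo (algebraMap A C) hC
  obtain ⟨q, hq, hclosed⟩ := hpi (PrimeSpectrum.comap (algebraMap A C) QC)
  -- the prime of `C` under `q` is `QC`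
  have hQC : PrimeSpectrum.comap (C.val : C →+* B) q = QC := by
    apply hbij.1
    apply PrimeSpectrum.ext
    rw [hq]
    rfl
  have hQq : QC.asIdeal = q.asIdeal.comap (C.val : C →+* B) := by
    rw [← hQC]
    rfl
  let ι := Ideal.ResidueField.map (PrimeSpectrum.comap (algebraMap A C) QC).asIdeal QC.asIdeal
    (algebraMap A C) rfl
  let j := Ideal.ResidueField.map QC.asIdeal q.asIdeal (C.val : C →+* B) hQq
  have hjι : j.comp ι = Ideal.ResidueField.map
      (PrimeSpectrum.comap (algebraMap A C) QC).asIdeal q.asIdeal (algebraMap A B) hq := by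
    apply Ideal.ResidueField.ringHom_ext
    ext a
    simp only [RingHom.comp_apply, ι, j]
    rw [Ideal.ResidueField.map_algebraMap, Ideal.ResidueField.map_algebraMap,
      Ideal.ResidueField.map_algebraMap]
    rfl
  refine ⟨ι.injective, fun z => ?_⟩
  obtain ⟨n, w, hw⟩ := Groth.Agent.Lib.SpecResidueInsepH52.exists_pow_mem_range_of_isUnivHomeo
    (algebraMap A C) hC QC z
  have h1 : j z ∈ Set.range (Ideal.ResidueField.map
      (PrimeSpectrum.comap (algebraMap A C) QC).asIdeal q.asIdeal (algebraMap A B) hq) := by
    apply hclosed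
    refine ⟨n, w, ?_⟩
    rw [← map_pow, ← hw, ← hjι]
    rfl
  obtain ⟨w', hw'⟩ := h1
  refine ⟨w', j.injective ?_⟩
  rw [← hw', ← hjι]
  rfl

end Groth.Agent.S13838
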