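import Groth.Statements.S13842
import Groth.Agent.Lib.EtResCores95
import Groth.Agent.Lib.EtFieldLifts95

set_option autoImplicit false
universe u
open CategoryTheory CategoryTheory.Limits AlgebraicGeometry
open GalCoh

namespace Groth.Agent.S13842

/-- Let K be a field, F an abelian sheaf on the small étale site of Spec K, i > 0 and α a class in
H^i(Spec K, F). If L is a finite separable field extension of K such that α pulls back to zero in
H^i(Spec L, F|_{Spec L}), then [L : K] · α = 0. In particular the order of α (its period) divides
the greatest common divisor of the degrees of the finite separable extensions of K killing α (its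
index). (Exactness of pullback of abelian sheaves, which always holds, is carried as an instance
hypothesis.) -/
theorem result (K : Type u) [Field K] (F : EtCoh.Ab (Spec (CommRingCat.of K))) (i : ℕ) (hi : 0 < i)
    (α : EtCoh.H (Spec (CommRingCat.of K)) F i) (L : Type u) [Field L] [Algebra K L] [FiniteDimensional K L]
    [Algebra.IsSeparable K L] [PreservesFiniteLimits (EtCoh.pull (Spec.map (CommRingCat.ofHom (algebraMap K L))))]
    (hα : EtCore.Hpull (Spec.map (CommRingCat.ofHom (algebraMap K L))) F i α = 0) :
    Module.finrank K L • α = 0 := by
  have hE : AlgebraicGeometry.Etale (Spec.map (CommRingCat.ofHom (algebraMap K L))) :=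
    Groth.Agent.Lib.EtFieldLifts95.etale_SpecMap K L
  have hF : IsFinite (Spec.map (CommRingCat.ofHom (algebraMap K L))) :=
    Groth.Agent.Lib.EtFieldLifts95.isFinite_SpecMap K L
  exact Groth.Agent.Lib.EtResCores95.nsmul_eq_zero_of_Hpull_eq_zero _ _
    (fun x => Groth.Agent.Lib.EtFieldLifts95.card_lifts K L
      (Groth.Agent.Lib.EtGeomPtConservative39.algPt x)) F i α hα

end Groth.Agent.S13842
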