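import Groth.Statements.S13843
import Groth.Agent.Lib.EtResCores95
import Groth.Agent.Lib.EtFieldLifts95
import Groth.Agent.Lib.EtLTorsIso95
import Groth.Agent.Lib.EtPullExact95
import Groth.Agent.Lib.SylowField95
import Groth.Agent.Lib.EtHpullTower95

set_option autoImplicit false
universe u
open CategoryTheory CategoryTheory.Limits AlgebraicGeometry
open GalCoh

namespace Groth.Agent.S13843

/-- Let K be a field, F an abelian sheaf on the small étale site of Spec K, i > 0 and α a class in
H^i(Spec K, F) which pulls back to zero over some finite separable field extension L of K. If p is a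
prime not dividing the order of α, then there is a finite separable field extension L' of K whose
degree is not divisible by p and over which α pulls back to zero. Hence the period and the index of
α have the same prime factors. (Exactness of pullback of abelian sheaves, which always holds, is
carried as an instance hypothesis, in the conclusion for every such instance.) -/
theorem result (K : Type u) [Field K] (F : EtCoh.Ab (Spec (CommRingCat.of K))) (i : ℕ)
    (hi : 0 < i) (α : EtCoh.H (Spec (CommRingCat.of K)) F i) (L : Type u) [Field L] [Algebra K L] [FiniteDimensional K L]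
    [Algebra.IsSeparable K L] [PreservesFiniteLimits (EtCoh.pull (Spec.map (CommRingCat.ofHom (algebraMap K L))))]
    (hα : EtCore.Hpull (Spec.map (CommRingCat.ofHom (algebraMap K L))) F i α = 0) (p : ℕ) (hp : p.Prime) (hpα : ¬ p ∣ addOrderOf α) :
    ∃ (L' : Type u) (_ : Field L') (_ : Algebra K L') (_ : FiniteDimensional K L') (_ : Algebra.IsSeparable K L'),
      ¬ p ∣ Module.finrank K L' ∧
        ∀ [PreservesFiniteLimits (EtCoh.pull (Spec.map (CommRingCat.ofHom (algebraMap K L'))))],
          EtCore.Hpull (Spec.map (CommRingCat.ofHom (algebraMap K L'))) F i α = 0 := by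
  obtain ⟨M, iM1, iM2, iM3, iM4, iM5, iM6, L', hL'1, r, hr⟩ :=
    Groth.Agent.Lib.SylowField95.exists_sylow_fixedField K L p hp
  refine ⟨↥L', inferInstance, inferInstance, inferInstance,
    Algebra.isSeparable_tower_bot_of_isSeparable K L' M, hL'1, ?_⟩
  intro inst
  have e : ∀ {A B : Scheme.{u}} (f : A ⟶ B),
      CategoryTheory.Limits.PreservesFiniteLimits (EtCoh.pull f) :=
    fun f => Groth.Agent.Lib.EtPullExact95.preservesFiniteLimits_pull f
  have w1 : Spec.map (CommRingCat.ofHom (algebraMap L M)) ≫
      Spec.map (CommRingCat.ofHom (algebraMap K L)) =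
      Spec.map (CommRingCat.ofHom (algebraMap K M)) := by
    rw [← Spec.map_comp, ← CommRingCat.ofHom_comp, ← IsScalarTower.algebraMap_eq]
  have w2 : Spec.map (CommRingCat.ofHom (algebraMap L' M)) ≫
      Spec.map (CommRingCat.ofHom (algebraMap K L')) =
      Spec.map (CommRingCat.ofHom (algebraMap K M)) := by
    rw [← Spec.map_comp, ← CommRingCat.ofHom_comp, ← IsScalarTower.algebraMap_eq]
  have := e (Spec.map (CommRingCat.ofHom (algebraMap L M)))
  have := e (Spec.map (CommRingCat.ofHom (algebraMap K M)))
  have := e (Spec.map (CommRingCat.ofHom (algebraMap L' M)))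
  have h1 : EtCore.Hpull (Spec.map (CommRingCat.ofHom (algebraMap K M))) F i α = 0 :=
    Groth.Agent.Lib.EtHpullTower95.Hpull_eq_zero_of_factor
      (Spec.map (CommRingCat.ofHom (algebraMap L M)))
      (Spec.map (CommRingCat.ofHom (algebraMap K L))) w1 F i α hα
  have h2 := Groth.Agent.Lib.EtHpullTower95.Hpull_Hpull_eq_zero
      (Spec.map (CommRingCat.ofHom (algebraMap L' M)))
      (Spec.map (CommRingCat.ofHom (algebraMap K L'))) w2 F i α h1
  have hsep : Algebra.IsSeparable L' M := Algebra.isSeparable_tower_top_of_isSeparable K L' M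
  have hE : AlgebraicGeometry.Etale (Spec.map (CommRingCat.ofHom (algebraMap L' M))) :=
    Groth.Agent.Lib.EtFieldLifts95.etale_SpecMap L' M
  have hFin : IsFinite (Spec.map (CommRingCat.ofHom (algebraMap L' M))) :=
    Groth.Agent.Lib.EtFieldLifts95.isFinite_SpecMap L' M
  have h3 : Module.finrank L' M •
      EtCore.Hpull (Spec.map (CommRingCat.ofHom (algebraMap K L'))) F i α = 0 :=
    Groth.Agent.Lib.EtResCores95.nsmul_eq_zero_of_Hpull_eq_zero _ _
      (fun y => Groth.Agent.Lib.EtFieldLifts95.card_lifts L' M
        (Groth.Agent.Lib.EtGeomPtConservative39.algPt y)) _ i _ h2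
  have h4 : addOrderOf α •
      EtCore.Hpull (Spec.map (CommRingCat.ofHom (algebraMap K L'))) F i α = 0 := by
    rw [← map_nsmul, addOrderOf_nsmul_eq_zero, map_zero]
  have hc : Nat.Coprime (p ^ r) (addOrderOf α) :=
    Nat.Coprime.pow_left r ((Nat.Prime.coprime_iff_not_dvd hp).2 hpα)
  rw [hr] at h3
  exact Groth.Agent.Lib.EtLTorsIso95.eq_zero_of_nsmul_eq_zero hc _ h3 h4

end Groth.Agent.S13843
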