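import Groth.Statements.S13844
import Groth.Agent.Lib.H14SmoothReg2

set_option autoImplicit false
universe u
open CategoryTheory CategoryTheory.Limits AlgebraicGeometry
attribute [local instance] Curv2.resAlgebra
open Curves

namespace Groth.Agent.S13844

/-- Let K be a field and C a normal curve over K, namely an integral normal separated K-scheme of finite
type of dimension one, and let S be a set of closed points of C whose residue fields are separable
over K. If the structure morphism of C is smooth at every point outside S, then it is smooth. (The
published statement takes S to be a closed subscheme finite étale over K, that is finitely many such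
points; this row allows any set of closed points with separable residue fields.) -/
theorem result (K : Type u) [Field K] (C : Scheme.{u}) [C.Over (Spec (CommRingCat.of K))]
    [IsIntegral C] [IsSeparated (C ↘ (Spec (CommRingCat.of K)))] [LocallyOfFinitePresentation (C ↘ (Spec (CommRingCat.of K)))]
    [QuasiCompact (C ↘ (Spec (CommRingCat.of K)))] (hN : ∀ x : C, IsIntegrallyClosed (C.presheaf.stalk x))
    (hdim : topologicalKrullDim C = 1) (S : Set C)
    (hS : ∀ x ∈ S, IsClosed ({x} : Set C) ∧ Algebra.IsSeparable K (C.residueField x))
    (hsm : ∀ x : C, x ∉ S → x ∈ (C ↘ (Spec (CommRingCat.of K))).smoothLocus) :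
    AlgebraicGeometry.Smooth (C ↘ (Spec (CommRingCat.of K))) := by
  rw [← Scheme.Hom.smoothLocus_eq_top_iff, ← top_le_iff]
  rintro x -
  by_cases hxS : x ∈ S
  · obtain ⟨hx, hsep⟩ := hS x hxS
    letI := Curv2.stalkAlgebra K C x
    have heq : (Curv2.resAlgebra K C x : Algebra K (C.residueField x)) =
        (inferInstance : Algebra K (IsLocalRing.ResidueField (C.presheaf.stalk x))) :=
      Algebra.algebra_ext _ _ (fun _ => rfl)
    haveI hsep' : @Algebra.IsSeparable K (IsLocalRing.ResidueField (C.presheaf.stalk x)) _ _
        (inferInstance : Algebra K (IsLocalRing.ResidueField (C.presheaf.stalk x))) := by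
      rw [← heq]; exact hsep
    haveI : Algebra.FormallyEtale K (IsLocalRing.ResidueField (C.presheaf.stalk x)) :=
      Algebra.FormallyEtale.of_isSeparable K _
    haveI : Algebra.FormallySmooth K (IsLocalRing.ResidueField (C.presheaf.stalk x)) :=
      inferInstance
    rw [Groth.Agent.Lib.H14SmoothReg.mem_smoothLocus_iff_isRegularLocalRing_of_residueField]
    haveI : IsLocallyNoetherian C :=
      LocallyOfFiniteType.isLocallyNoetherian (C ↘ Spec (CommRingCat.of K))
    haveI := hN x
    have hle : ringKrullDim (C.presheaf.stalk x) ≤ 1 :=
      hdim ▸ Groth.Agent.Lib.RegularDimOne.dim_stalk_le C x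
    haveI : IsPrincipalIdealRing (C.presheaf.stalk x) := by
      by_cases hF : IsField (C.presheaf.stalk x)
      · exact hF.isPrincipalIdealRing
      · have h1 : Ring.KrullDimLE 1 (C.presheaf.stalk x) := Ring.krullDimLE_iff.mpr hle
        have h2 : Ring.DimensionLEOne (C.presheaf.stalk x) :=
          ⟨fun {p} hp hpp => Ring.krullDimLE_one_iff_of_noZeroDivisors.mp h1 p hp hpp⟩
        have h3 : IsDedekindDomain (C.presheaf.stalk x) := { }
        have h4 : IsDiscreteValuationRing (C.presheaf.stalk x) :=
          ((IsDiscreteValuationRing.TFAE (C.presheaf.stalk x) hF).out 2 0).mp h3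
        infer_instance
    infer_instance
  · exact hsm x hxS

end Groth.Agent.S13844
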