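import Groth.Statements.S13846
import Mathlib.LinearAlgebra.GeneralLinearGroup.AlgEquiv
import Mathlib.Algebra.Central.End
import Mathlib.LinearAlgebra.Basis.VectorSpace
import Mathlib.Algebra.DirectSum.Module

set_option autoImplicit false
universe u v
open TwSh

namespace Groth.Agent.S13846

section

variable {k : Type u} [Field k] {V : Type v} [AddCommGroup V] [Module k V]
  (𝒱 : ℤ → Submodule k V) (h𝒱 : DirectSum.IsInternal 𝒱)

include h𝒱 in
/-- a functional which is `1` at a nonzero homogeneous vector and kills the other degrees -/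
theorem exists_dual {i : ℤ} {x : V} (hx : x ∈ 𝒱 i) (hx0 : x ≠ 0) :
    ∃ lam : V →ₗ[k] k, lam x = 1 ∧ ∀ l, l ≠ i → ∀ v ∈ 𝒱 l, lam v = 0 := by
  have hind := h𝒱.submodule_iSupIndep
  have hnot : x ∉ ⨆ (j : ℤ) (_ : j ≠ i), 𝒱 j := by
    intro hmem
    have := (Submodule.disjoint_def.mp (hind i)) x hx hmem
    exact hx0 this
  obtain ⟨f, hfx, hker⟩ := Submodule.exists_le_ker_of_notMem hnot
  refine ⟨(f x)⁻¹ • f, by simp [hfx], ?_⟩
  intro l hl v hv
  have : v ∈ ⨆ (j : ℤ) (_ : j ≠ i), 𝒱 j :=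
    Submodule.mem_iSup_of_mem l (Submodule.mem_iSup_of_mem hl hv)
  have := hker this
  rw [LinearMap.mem_ker] at this
  simp [this]

theorem smulRight_homogeneous {i j : ℤ} (lam : V →ₗ[k] k)
    (hlam : ∀ l, l ≠ i → ∀ v ∈ 𝒱 l, lam v = 0) {y : V} (hy : y ∈ 𝒱 j) :
    ∀ (l : ℤ) (v : V), v ∈ 𝒱 l → (lam.smulRight y) v ∈ 𝒱 (l + (j - i)) := by
  intro l v hv
  rw [LinearMap.smulRight_apply]
  by_cases hl : l = i
  · subst hl
    have : l + (j - l) = j := by ring
    rw [this]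
    exact Submodule.smul_mem _ _ hy
  · rw [hlam l hl v hv, zero_smul]
    exact Submodule.zero_mem _

/-- a nonzero vector lying in two components forces the indices to agree -/
theorem index_eq_of_mem_of_mem {𝒲 : ℤ → Submodule k V} (h𝒲 : DirectSum.IsInternal 𝒲) {a b : ℤ} {w : V}
    (hw0 : w ≠ 0) (ha : w ∈ 𝒲 a) (hb : w ∈ 𝒲 b) : a = b := by
  by_contra hab
  have hdisj := h𝒲.submodule_iSupIndep.pairwiseDisjoint hab
  exact hw0 ((Submodule.disjoint_def.mp hdisj) w ha hb)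

end

section

variable {k : Type u} [Field k] {V W : Type v} [AddCommGroup V] [Module k V]
  [AddCommGroup W] [Module k W]
  (𝒱 : ℤ → Submodule k V) (h𝒱 : DirectSum.IsInternal 𝒱)
  (𝒲 : ℤ → Submodule k W) (h𝒲 : DirectSum.IsInternal 𝒲)

include h𝒱 h𝒲 in
/-- a linear isomorphism shifting all degrees by `n` maps components onto components -/
theorem map_eq_of_le (g : V ≃ₗ[k] W) (n : ℤ)
    (hle : ∀ j, ∀ y ∈ 𝒱 j, g y ∈ 𝒲 (j + n)) (i : ℤ) :
    Submodule.map (g : V →ₗ[k] W) (𝒱 i) = 𝒲 (i + n) := by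
  have h1 : Submodule.map (g : V →ₗ[k] W) (𝒱 i) ≤ 𝒲 (i + n) := by
    rintro _ ⟨y, hy, rfl⟩
    exact hle i y hy
  set R : Submodule k W := ⨆ (l : ℤ) (_ : l ≠ i + n), 𝒲 l with hR
  have htop : Submodule.map (g : V →ₗ[k] W) (𝒱 i) ⊔ R = ⊤ := by
    rw [eq_top_iff]
    have : (⊤ : Submodule k W) = Submodule.map (g : V →ₗ[k] W) (⨆ j, 𝒱 j) := by
      rw [h𝒱.submodule_iSup_eq_top, Submodule.map_top, LinearMap.range_eq_top.mpr g.surjective]
    rw [this, Submodule.map_iSup]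
    refine iSup_le fun j => ?_
    by_cases hj : j = i
    · subst hj; exact le_sup_left
    · refine le_trans ?_ le_sup_right
      rintro _ ⟨y, hy, rfl⟩
      have hne : j + n ≠ i + n := fun h => hj (by linarith)
      exact Submodule.mem_iSup_of_mem (j + n) (Submodule.mem_iSup_of_mem hne (hle j y hy))
  have hdisj : 𝒲 (i + n) ⊓ R = ⊥ := (h𝒲.submodule_iSupIndep (i + n)).eq_bot
  calc Submodule.map (g : V →ₗ[k] W) (𝒱 i)
      = Submodule.map (g : V →ₗ[k] W) (𝒱 i) ⊔ (R ⊓ 𝒲 (i + n)) := by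
        rw [inf_comm, hdisj, sup_bot_eq]
    _ = (Submodule.map (g : V →ₗ[k] W) (𝒱 i) ⊔ R) ⊓ 𝒲 (i + n) := (sup_inf_assoc_of_le R h1).symm
    _ = 𝒲 (i + n) := by rw [htop, top_inf_eq]

end

/-- Let k be a field and V, W finite-dimensional ℤ-graded k-vector spaces, V = ⊕ V_i with V ≠ 0 and W =
⊕ W_i. Let φ : End_k(V) ≃ End_k(W) be a k-algebra isomorphism which sends every endomorphism
homogeneous of degree d (one mapping V_i into V_{i+d} for all i) to an endomorphism homogeneous of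
degree d. Then there are an integer n and a k-linear isomorphism g : V ≅ W with g(V_i) = W_{i+n} for
every i such that φ(f) = g ∘ f ∘ g⁻¹ for all f; moreover n is unique and g is unique up to a nonzero
scalar: if g' : V ≅ W satisfies g'(V_i) = W_{i+n'} for all i and φ(f) = g' ∘ f ∘ g'⁻¹ for all f,
then n' = n and g' = c·g for some c ∈ kˣ. (The published statement is about non-zero perfect
complexes over k: an isomorphism of their derived endomorphism algebras, as algebra objects of the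
derived category, is induced by an isomorphism from the first complex to a shift of the second, for
a unique shift and up to a unit; this row is its form for finite-dimensional ℤ-graded vector spaces,
to which the bounded derived category of a field is equivalent by taking cohomology.) -/
theorem result (k : Type u) [Field k] (V W : Type v) [AddCommGroup V] [Module k V] [FiniteDimensional k V] [Nontrivial V] [AddCommGroup W] [Module k W] [FiniteDimensional k W] (𝒱 : ℤ → Submodule k V) (h𝒱 : DirectSum.IsInternal 𝒱) (𝒲 : ℤ → Submodule k W) (h𝒲 : DirectSum.IsInternal 𝒲) (φ : Module.End k V ≃ₐ[k] Module.End k W) (hφ : ∀ (d : ℤ) (f : Module.End k V), (∀ (i : ℤ) (x : V), x ∈ 𝒱 i → f x ∈ 𝒱 (i + d)) → ∀ (i : ℤ) (y : W), y ∈ 𝒲 i → φ f y ∈ 𝒲 (i + d)) : ∃ (n : ℤ) (g : V ≃ₗ[k] W), (∀ i : ℤ, Submodule.map (g : V →ₗ[k] W) (𝒱 i) = 𝒲 (i + n)) ∧ (∀ f : Module.End k V, φ f = (g : V →ₗ[k] W) ∘ₗ f ∘ₗ (g.symm : W →ₗ[k] V)) ∧ ∀ (n' : ℤ) (g' :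 V ≃ₗ[k] W), (∀ i : ℤ, Submodule.map (g' : V →ₗ[k] W) (𝒱 i) = 𝒲 (i + n')) → (∀ f : Module.End k V, φ f = (g' : V →ₗ[k] W) ∘ₗ f ∘ₗ (g'.symm : W →ₗ[k] V)) → n' = n ∧ ∃ c : kˣ, ∀ x : V, g' x = c • g x := by
  classical
  obtain ⟨g, hg⟩ := φ.eq_linearEquivConjAlgEquiv
  have hφg : ∀ f : Module.End k V, φ f = (g : V →ₗ[k] W) ∘ₗ f ∘ₗ (g.symm : W →ₗ[k] V) := by
    intro f; rw [hg]; rfl
  -- a nonzero homogeneous vector
  obtain ⟨i₀, x₀, hx₀, hx₀0⟩ : ∃ (i₀ : ℤ) (x₀ : V), x₀ ∈ 𝒱 i₀ ∧ x₀ ≠ 0 := by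
    by_contra hcon
    push Not at hcon
    have hbot : ∀ i, 𝒱 i = ⊥ := fun i => by
      rw [eq_bot_iff]; intro x hx; exact hcon i x hx
    have := h𝒱.submodule_iSup_eq_top
    have h2 : (⨆ i, 𝒱 i) = ⊥ := by
      rw [eq_bot_iff]
      exact iSup_le fun i => (hbot i).le
    rw [h2] at this
    exact bot_ne_top this
  obtain ⟨lam, hlam1, hlam0⟩ := exists_dual 𝒱 h𝒱 hx₀ hx₀0
  have hgx₀ : g x₀ ≠ 0 := fun h => hx₀0 (g.map_eq_zero_iff.mp h)
  -- `g x₀` is homogeneous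
  obtain ⟨m, hm⟩ : ∃ m : ℤ, g x₀ ∈ 𝒲 m := by
    have hdeg := hφ (i₀ - i₀) (lam.smulRight x₀) (smulRight_homogeneous 𝒱 lam hlam0 hx₀)
    -- some homogeneous `y` with `lam (g.symm y) ≠ 0`
    obtain ⟨l, y, hy, hly⟩ : ∃ (l : ℤ) (y : W), y ∈ 𝒲 l ∧ lam (g.symm y) ≠ 0 := by
      by_contra hcon
      push Not at hcon
      have hz : ∀ w ∈ (⨆ l, 𝒲 l), lam (g.symm w) = 0 := by
        intro w hw
        induction hw using Submodule.iSup_induction' with
        | mem l y hy => exact hcon l y hy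
        | zero => simp
        | add a b _ _ ha hb => rw [map_add, map_add, ha, hb, add_zero]
      have := hz (g x₀) (by rw [h𝒲.submodule_iSup_eq_top]; trivial)
      rw [g.symm_apply_apply, hlam1] at this
      exact one_ne_zero this
    refine ⟨l, ?_⟩
    have h1 := hdeg l y hy
    rw [hφg] at h1
    simp only [LinearMap.coe_comp, LinearEquiv.coe_coe, Function.comp_apply,
      LinearMap.smulRight_apply, map_smul, sub_self, add_zero] at h1
    have := Submodule.smul_mem (𝒲 l) (lam (g.symm y))⁻¹ h1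
    rwa [smul_smul, inv_mul_cancel₀ hly, one_smul] at this
  let n : ℤ := m - i₀
  have hle : ∀ j, ∀ y ∈ 𝒱 j, g y ∈ 𝒲 (j + n) := by
    intro j y hy
    have hdeg := hφ (j - i₀) (lam.smulRight y) (smulRight_homogeneous 𝒱 lam hlam0 hy)
    have h1 := hdeg m (g x₀) hm
    rw [hφg] at h1
    simp only [LinearMap.coe_comp, LinearEquiv.coe_coe, Function.comp_apply,
      LinearMap.smulRight_apply, LinearEquiv.symm_apply_apply, hlam1, one_smul] at h1
    have : m + (j - i₀) = j + n := by simp only [n]; ring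
    rwa [this] at h1
  refine ⟨n, g, map_eq_of_le 𝒱 h𝒱 𝒲 h𝒲 g n hle, hφg, ?_⟩
  intro n' g' hmap' hφg'
  have hconj : g'.conjAlgEquiv k = g.conjAlgEquiv k := by
    apply AlgEquiv.ext
    intro f
    rw [← hg, LinearEquiv.conjAlgEquiv_apply, hφg']
  obtain ⟨c, hc⟩ := (LinearEquiv.conjAlgEquiv_ext_iff' g' g).mp hconj
  have hcx : ∀ x : V, g' x = c • g x := fun x => by rw [hc]; rfl
  refine ⟨?_, c, hcx⟩
  -- compare the degrees of `g' x₀`
  have h1 : g' x₀ ∈ 𝒲 (i₀ + n') := by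
    rw [← hmap']; exact ⟨x₀, hx₀, rfl⟩
  have h2 : g' x₀ ∈ 𝒲 (i₀ + n) := by
    rw [hcx]; exact Submodule.smul_mem _ _ (hle i₀ x₀ hx₀)
  have h0 : g' x₀ ≠ 0 := fun h => hx₀0 (g'.map_eq_zero_iff.mp h)
  have := index_eq_of_mem_of_mem h𝒲 h0 h1 h2
  linarith

end Groth.Agent.S13846
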