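import Groth.Statements.S13848
import Mathlib.RingTheory.Jacobson.Radical
import Mathlib.RingTheory.SimpleRing.Basic
import Mathlib.Algebra.Module.Projective

set_option autoImplicit false
universe u v
open TwSh

namespace Groth.Agent.S13848

section

variable {A : Type u} [Ring A] {P : Type v} [AddCommGroup P] [Module A P]

/-- the trace ideal of `P` as a left ideal -/
def traceIdeal (A : Type u) [Ring A] (P : Type v) [AddCommGroup P] [Module A P] : Submodule A A :=
  ⨆ f : P →ₗ[A] A, LinearMap.range f

theorem mem_traceIdeal_of_apply (f : P →ₗ[A] A) (p : P) : f p ∈ traceIdeal A P :=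
  Submodule.mem_iSup_of_mem f ⟨p, rfl⟩

theorem traceIdeal_mul_mem {t : A} (ht : t ∈ traceIdeal A P) (b : A) : t * b ∈ traceIdeal A P := by
  unfold traceIdeal at ht ⊢
  induction ht using Submodule.iSup_induction' with
  | mem f x hx =>
    obtain ⟨p, rfl⟩ := hx
    have : f p * b = ((LinearMap.toSpanSingleton A A b) ∘ₗ f) p := by
      simp [LinearMap.toSpanSingleton_apply]
    rw [this]
    exact Submodule.mem_iSup_of_mem _ ⟨p, rfl⟩
  | zero => simp
  | add x y _ _ hx hy => rw [add_mul]; exact Submodule.add_mem _ hx hy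

theorem traceIdeal_not_le_jacobson [Module.Finite A P] [Module.Projective A P] [Nontrivial P] :
    ¬ traceIdeal A P ≤ Ring.jacobson A := by
  intro hle
  obtain ⟨s, hs⟩ := (Module.projective_def' (R := A) (P := P)).mp inferInstance
  have htop : (⊤ : Submodule A P) ≤ Ring.jacobson A • (⊤ : Submodule A P) := by
    intro y _
    have hy : y = Finsupp.linearCombination A id (s y) := by
      have := LinearMap.congr_fun hs y
      simpa using this.symm
    rw [hy, Finsupp.linearCombination_apply]
    refine Submodule.sum_mem _ fun x _ => ?_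
    apply Submodule.smul_mem_smul _ Submodule.mem_top
    apply hle
    exact mem_traceIdeal_of_apply ((Finsupp.lapply x) ∘ₗ s) y
  have hfg : (⊤ : Submodule A P).FG := Module.Finite.fg_top
  have := Submodule.FG.eq_bot_of_le_jacobson_smul hfg htop
  exact top_ne_bot this

theorem traceIdeal_eq_top [IsSimpleRing (A ⧸ Ring.jacobson A)] [Module.Finite A P]
    [Module.Projective A P] [Nontrivial P] : traceIdeal A P = ⊤ := by
  let I' : TwoSidedIdeal (A ⧸ Ring.jacobson A) := TwoSidedIdeal.mk'
    {q | ∃ t ∈ traceIdeal A P, Ideal.Quotient.mk (Ring.jacobson A) t = q}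
    ⟨0, Submodule.zero_mem _, map_zero _⟩
    (by
      rintro _ _ ⟨t, ht, rfl⟩ ⟨t', ht', rfl⟩
      exact ⟨t + t', Submodule.add_mem _ ht ht', map_add _ _ _⟩)
    (by
      rintro _ ⟨t, ht, rfl⟩
      exact ⟨-t, Submodule.neg_mem _ ht, map_neg _ _⟩)
    (by
      rintro x _ ⟨t, ht, rfl⟩
      obtain ⟨a, rfl⟩ := Ideal.Quotient.mk_surjective x
      exact ⟨a * t, Submodule.smul_mem _ a ht, map_mul _ _ _⟩)
    (by
      rintro _ y ⟨t, ht, rfl⟩
      obtain ⟨b, rfl⟩ := Ideal.Quotient.mk_surjective y
      exact ⟨t * b, traceIdeal_mul_mem ht b, map_mul _ _ _⟩)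
  have hmem : ∀ q, q ∈ I' ↔ ∃ t ∈ traceIdeal A P, Ideal.Quotient.mk (Ring.jacobson A) t = q := by
    intro q
    exact TwoSidedIdeal.mem_mk' _ _ _ _ _ _ _
  rcases eq_bot_or_eq_top I' with h | h
  · exfalso
    apply traceIdeal_not_le_jacobson (A := A) (P := P)
    intro t ht
    have : Ideal.Quotient.mk (Ring.jacobson A) t ∈ I' := (hmem _).mpr ⟨t, ht, rfl⟩
    rw [h, TwoSidedIdeal.mem_bot] at this
    exact Ideal.Quotient.eq_zero_iff_mem.mp this
  · have h1 : (1 : A ⧸ Ring.jacobson A) ∈ I' := by rw [h]; trivial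
    obtain ⟨t, ht, ht1⟩ := (hmem _).mp h1
    have htJ : t - 1 ∈ Ring.jacobson A := by
      rw [← Ideal.Quotient.eq_zero_iff_mem, map_sub, ht1, map_one, sub_self]
    by_contra hne
    obtain ⟨𝔪, h𝔪, hle⟩ := Ideal.exists_le_maximal (traceIdeal A P : Ideal A) hne
    have hJ : Ring.jacobson A ≤ 𝔪 := Ring.jacobson_le_of_isMaximal 𝔪
    have h1m : (1 : A) ∈ 𝔪 := by
      have := 𝔪.sub_mem (hle ht) (hJ htJ)
      simpa using this
    exact h𝔪.ne_top ((Ideal.eq_top_iff_one 𝔪).mpr h1m)

end

/-- Let A be a ring with A/J a simple left-Artinian ring, J the Jacobson radical, and let P be a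
non-zero finitely generated projective left A-module. An A-linear automorphism u of P which commutes
with every A-linear endomorphism of P (equivalently, induces the identity on End_A(P) by
conjugation) is scalar multiplication by a unique central element a of A: u(x) = a·x for all x ∈ P,
and a is determined by u. (So the automorphisms of P acting trivially on End_A(P) are exactly the
central units of A acting by scalars; the published assertion does not exclude P = 0, where
uniqueness fails.) -/
theorem result (A : Type u) [Ring A] [IsSimpleRing (A ⧸ Ring.jacobson A)] [IsArtinianRing (A ⧸ Ring.jacobson A)] (P : Type v) [AddCommGroup P] [Module A P] [Module.Finite A P] [Module.Projective A P] [Nontrivial P] (u : P ≃ₗ[A] P) (hu : ∀ f : Module.End A P, (u : P →ₗ[A] P) ∘ₗ f = f ∘ₗ (u : P →ₗ[A] P)) : ∃! a : A, (∀ b : A, a * b = b * a) ∧ ∀ x : P, u x = a • x := by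
  have hT : (1 : A) ∈ traceIdeal A P := by rw [traceIdeal_eq_top]; trivial
  -- `P` is faithful
  have hfaith : ∀ c : A, (∀ x : P, c • x = 0) → c = 0 := by
    intro c hc
    have : ∀ t ∈ traceIdeal A P, c * t = 0 := by
      intro t ht
      unfold traceIdeal at ht
      induction ht using Submodule.iSup_induction' with
      | mem f x hx =>
        obtain ⟨p, rfl⟩ := hx
        rw [← smul_eq_mul, ← map_smul, hc, map_zero]
      | zero => simp
      | add x y _ _ hx hy => rw [mul_add, hx, hy, add_zero]
    simpa using this 1 hT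
  -- existence of the scalar
  have hex : ∀ t ∈ traceIdeal A P, ∃ a : A, ∀ x : P, a • x = t • u x := by
    intro t ht
    unfold traceIdeal at ht
    induction ht using Submodule.iSup_induction' with
    | mem f y hy =>
      obtain ⟨p, rfl⟩ := hy
      refine ⟨f (u p), fun x => ?_⟩
      let e : Module.End A P := (LinearMap.toSpanSingleton A P x) ∘ₗ f
      have := LinearMap.congr_fun (hu e) p
      simp only [LinearMap.coe_comp, LinearEquiv.coe_coe, Function.comp_apply, e,
        LinearMap.toSpanSingleton_apply, map_smul] at this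
      exact this.symm
    | zero => exact ⟨0, by simp⟩
    | add s t _ _ hs ht =>
      obtain ⟨a, ha⟩ := hs
      obtain ⟨b, hb⟩ := ht
      exact ⟨a + b, fun x => by rw [add_smul, add_smul, ha, hb]⟩
  obtain ⟨a, ha⟩ := hex 1 hT
  have ha' : ∀ x, u x = a • x := fun x => by rw [ha, one_smul]
  refine ⟨a, ⟨?_, ha'⟩, ?_⟩
  · intro b
    rw [← sub_eq_zero]
    apply hfaith
    intro x
    rw [sub_smul, mul_smul, mul_smul, ← ha', ← ha', map_smul, sub_self]
  · rintro a' ⟨-, h'⟩
    rw [← sub_eq_zero]
    apply hfaith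
    intro x
    rw [sub_smul, ← h', ← ha', sub_self]

end Groth.Agent.S13848
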