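import Groth.Statements.S13860
-- import your own Groth.Agent.* helpers here

set_option autoImplicit false
universe u v w
open ModRep

namespace Groth.Agent.S13860

/-- For k a field of characteristic p > 0, G a finite group and P a Sylow p-subgroup of G, a short exact
sequence of k[G]-modules has a k[G]-linear splitting exactly when it has a k[P]-linear one. Stated
here for the surjection of the sequence: a G-equivariant k-linear map g : B → C between k-linear
representations of G admits a G-equivariant k-linear section if and only if it admits a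
P-equivariant k-linear section. -/
theorem result {k : Type u} [Field k] (p : ℕ) [Fact p.Prime]
    [CharP k p] {G : Type v} [Group G] [Finite G] (P : Sylow p G)
    {B C : Type w} [AddCommGroup B] [Module k B] [AddCommGroup C] [Module k C]
    (ρB : Representation k G B) (ρC : Representation k G C)
    (g : B →ₗ[k] C) (hg : ∀ x : G, g ∘ₗ ρB x = ρC x ∘ₗ g) :
    (∃ s : C →ₗ[k] B, g ∘ₗ s = LinearMap.id ∧ ∀ x : G, s ∘ₗ ρC x = ρB x ∘ₗ s) ↔
      (∃ s : C →ₗ[k] B, g ∘ₗ s = LinearMap.id ∧ ∀ x : G, x ∈ P → s ∘ₗ ρC x = ρB x ∘ₗ s) := by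
  classical
  constructor
  · rintro ⟨s, hs, hs'⟩
    exact ⟨s, hs, fun x _ => hs' x⟩
  · rintro ⟨s, hs, hs'⟩
    have : Fintype (G ⧸ (P : Subgroup G)) := Fintype.ofFinite _
    -- the conjugated sections
    let ψ : G → (C →ₗ[k] B) := fun x => ρB x ∘ₗ s ∘ₗ ρC x⁻¹
    have hψ : ∀ x : G, ∀ h : G, h ∈ P → ψ (x * h) = ψ x := by
      intro x h hh
      ext c
      have h1 := LinearMap.congr_fun (hs' h hh) (ρC (x * h)⁻¹ c)
      simp only [LinearMap.comp_apply] at h1
      simp only [ψ, LinearMap.comp_apply, map_mul, Module.End.mul_apply]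
      rw [← h1]
      congr 2
      rw [← Module.End.mul_apply, ← map_mul, mul_inv_rev, mul_inv_cancel_left]
    let Ψ : G ⧸ (P : Subgroup G) → (C →ₗ[k] B) := fun q =>
      Quotient.liftOn' q ψ (fun a b hab => by
        have hab' : a⁻¹ * b ∈ (P : Subgroup G) := QuotientGroup.leftRel_apply.mp hab
        have := hψ a (a⁻¹ * b) hab'
        rw [mul_inv_cancel_left] at this
        exact this.symm)
    have hΨ : ∀ x : G, Ψ (QuotientGroup.mk x) = ψ x := fun x => rfl
    have hm : ((Fintype.card (G ⧸ (P : Subgroup G)) : ℕ) : k) ≠ 0 := by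
      rw [Ne, CharP.cast_eq_zero_iff k p, ← Nat.card_eq_fintype_card, ← Subgroup.index_eq_card]
      exact P.not_dvd_index
    have hgΨ : ∀ q, g ∘ₗ Ψ q = LinearMap.id := by
      intro q
      induction q using QuotientGroup.induction_on with
      | H x =>
        rw [hΨ]
        ext c
        have h1 := LinearMap.congr_fun (hg x) (s (ρC x⁻¹ c))
        have h2 := LinearMap.congr_fun hs (ρC x⁻¹ c)
        simp only [LinearMap.comp_apply, LinearMap.id_apply] at h1 h2
        simp only [ψ, LinearMap.comp_apply, LinearMap.id_apply]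
        rw [h1, h2, ← Module.End.mul_apply, ← map_mul, mul_inv_cancel, map_one, Module.End.one_apply]
    have hyΨ : ∀ (y : G) q, ρB y ∘ₗ Ψ q = Ψ (y • q) ∘ₗ ρC y := by
      intro y q
      induction q using QuotientGroup.induction_on with
      | H x =>
        rw [MulAction.Quotient.smul_mk, hΨ, hΨ, smul_eq_mul]
        ext c
        simp only [ψ, LinearMap.comp_apply, map_mul, Module.End.mul_apply]
        congr 2
        rw [← Module.End.mul_apply, ← map_mul, mul_inv_rev, inv_mul_cancel_right]
    refine ⟨((Fintype.card (G ⧸ (P : Subgroup G)) : ℕ) : k)⁻¹ • ∑ q, Ψ q, ?_, ?_⟩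
    · ext c
      have h1 : ∀ q, g (Ψ q c) = c := fun q => LinearMap.congr_fun (hgΨ q) c
      simp only [LinearMap.comp_apply, LinearMap.smul_apply, LinearMap.sum_apply, map_smul, map_sum,
        LinearMap.id_apply, h1, Finset.sum_const, Finset.card_univ]
      rw [← Nat.cast_smul_eq_nsmul k, smul_smul, inv_mul_cancel₀ hm, one_smul]
    · intro y
      ext c
      have h1 : ∀ q, ρB y (Ψ q c) = Ψ (y • q) (ρC y c) := fun q => LinearMap.congr_fun (hyΨ y q) c
      simp only [LinearMap.comp_apply, LinearMap.smul_apply, LinearMap.sum_apply, map_smul, map_sum,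
        h1]
      congr 1
      exact (Equiv.sum_comp (MulAction.toPerm y) (fun q => Ψ q (ρC y c))).symm

end Groth.Agent.S13860
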