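import Groth.Statements.S1387
import Groth.Agent.Lib.H79ValChart4
import Groth.Agent.Lib.H30IrrFib
import Groth.Agent.Lib.GenericDense68
import Groth.Agent.Lib.H56ValFib

set_option autoImplicit false
universe u
open FlatMor

namespace Groth.Agent.S1387

set_option linter.style.haveILetI false

open AlgebraicGeometry CategoryTheory TopologicalSpace Topology
open Groth.Agent.Lib.H79ValChart Groth.Agent.Lib.H30DimRel Groth.Agent.Lib.H30IrrFib
  Groth.Agent.Lib.DimIneqScheme Groth.Agent.Lib.H56LocDim Groth.Agent.Lib.H56OpenDim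
  Groth.Agent.Lib.H56ValTrdeg

/-- chart step: a point of a locally principal closed subscheme with empty generic fibre has a
generization in its fibre, inside the subscheme, whose residual transcendence degree is at least
the generic one. -/
theorem exists_generization_in_support {X S : Scheme.{u}} (f : X ⟶ S) [IrreducibleSpace ↑X]
    [LocallyOfFiniteType f] (Z : X.IdealSheafData)
    (hZ : ∀ x : X, ∃ (U : X.Opens) (hU : IsAffineOpen U) (g : Γ(X, U)), x ∈ U ∧
      Z.ideal ⟨U, hU⟩ = Ideal.span {g})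
    (hη : ∀ x ∈ (Z.support : Set ↑X), f x ≠ f (genericPoint ↑X))
    (x : X) (hx : x ∈ (Z.support : Set ↑X)) :
    ∃ ζ : X, ζ ⤳ x ∧ f ζ = f x ∧ ζ ∈ (Z.support : Set ↑X) ∧
      rt f (genericPoint ↑X) ≤ rt f ζ := by
  classical
  obtain ⟨U₀, hU₀, g₀, hxU₀, hZU₀⟩ := hZ x
  obtain ⟨V, hV, hfxV⟩ : ∃ V : S.Opens, IsAffineOpen V ∧ f x ∈ V := by
    obtain ⟨_, ⟨V, hV, rfl⟩, hxV, -⟩ := S.isBasis_affineOpens.exists_subset_of_mem_open
      (Set.mem_univ (f x)) isOpen_univ
    exact ⟨V, hV, hxV⟩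
  obtain ⟨U, hU, hxU, hUle⟩ : ∃ U : X.Opens, IsAffineOpen U ∧ x ∈ U ∧ U ≤ U₀ ⊓ f ⁻¹ᵁ V := by
    obtain ⟨_, ⟨U, hU, rfl⟩, hxU, hUV⟩ := X.isBasis_affineOpens.exists_subset_of_mem_open
      (show x ∈ ((U₀ ⊓ f ⁻¹ᵁ V : X.Opens) : Set X) from ⟨hxU₀, hfxV⟩) (U₀ ⊓ f ⁻¹ᵁ V).isOpen
    exact ⟨U, hU, hxU, hUV⟩
  have hUU₀ : U ≤ U₀ := hUle.trans inf_le_left
  have e : U ≤ f ⁻¹ᵁ V := hUle.trans inf_le_right
  let g : Γ(X, U) := (X.presheaf.map (homOfLE hUU₀).op).hom g₀
  have hZU : Z.ideal ⟨U, hU⟩ = Ideal.span {g} := by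
    have := Z.map_ideal (U := ⟨U, hU⟩) (V := ⟨U₀, hU₀⟩) hUU₀
    rw [← this, hZU₀, Ideal.map_span, Set.image_singleton]
    rfl
  letI := (f.appLE V U e).hom.toAlgebra
  haveI : Algebra.FiniteType Γ(S, V) Γ(X, U) := f.finiteType_appLE hV hU e
  have hξU : genericPoint ↑X ∈ U := (genericPoint_specializes x).mem_open U.isOpen hxU
  have hemb : IsOpenEmbedding hU.fromSpec := hU.fromSpec.isOpenEmbedding
  have hspec : ∀ a b : PrimeSpectrum Γ(X, U), a.asIdeal ≤ b.asIdeal ↔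
      hU.fromSpec a ⤳ hU.fromSpec b := fun a b => by
    rw [hemb.isInducing.specializes_iff]
    exact PrimeSpectrum.le_iff_specializes a b
  have hmemU : ∀ P : PrimeSpectrum Γ(X, U), hU.fromSpec P ∈ U := by
    intro P
    have : hU.fromSpec P ∈ Set.range hU.fromSpec := ⟨P, rfl⟩
    rw [hU.range_fromSpec] at this
    exact this
  have hpq : (hU.primeIdealOf ⟨genericPoint ↑X, hξU⟩).asIdeal ≤ (hU.primeIdealOf ⟨x, hxU⟩).asIdeal := by
    rw [hspec, hU.fromSpec_primeIdealOf, hU.fromSpec_primeIdealOf]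
    exact genericPoint_specializes x
  have hsupp : ∀ P : PrimeSpectrum Γ(X, U),
      hU.fromSpec P ∈ (Z.support : Set ↑X) ↔ g ∈ P.asIdeal := by
    intro P
    have h1 := Scheme.IdealSheafData.mem_support_iff_of_mem (I := Z) (U := ⟨U, hU⟩) (hmemU P)
    have h2 : hU.fromSpec P ∈ X.zeroLocus (U := U) ((Ideal.span {g} : Ideal Γ(X, U)) : Set Γ(X, U)) ↔
        P ∈ PrimeSpectrum.zeroLocus ((Ideal.span {g} : Ideal Γ(X, U)) : Set Γ(X, U)) :=
      Set.ext_iff.mp (hU.fromSpec_preimage_zeroLocus _) P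
    rw [SetLike.mem_coe, h1, hZU, h2, PrimeSpectrum.mem_zeroLocus, SetLike.coe_subset_coe,
      Ideal.span_singleton_le_iff_mem]
  have hgq : g ∈ (hU.primeIdealOf ⟨x, hxU⟩).asIdeal := by
    rw [← hsupp, hU.fromSpec_primeIdealOf]; exact hx
  have hfpt : ∀ P : PrimeSpectrum Γ(X, U),
      f (hU.fromSpec P) = hV.fromSpec (Spec.map (f.appLE V U e) P) := by
    intro P
    have := IsAffineOpen.SpecMap_appLE_fromSpec f hV hU e
    rw [← Scheme.Hom.comp_apply, ← this, Scheme.Hom.comp_apply]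
  have hfeq : ∀ P P' : PrimeSpectrum Γ(X, U),
      P.asIdeal.under Γ(S, V) = P'.asIdeal.under Γ(S, V) →
        f (hU.fromSpec P) = f (hU.fromSpec P') := by
    intro P P' h
    rw [hfpt, hfpt]
    congr 1
    exact PrimeSpectrum.ext h
  obtain ⟨Q, hQprime, hp₀Q, hQq, hgQ, hQA, htr⟩ := exists_prime_trdeg_ge
    (hU.primeIdealOf ⟨genericPoint ↑X, hξU⟩).asIdeal (hU.primeIdealOf ⟨x, hxU⟩).asIdeal hpq g hgq
    (by
      intro P hPprime hp₀P hPq hgP hPA
      have h1 : hU.fromSpec ⟨P, hPprime⟩ ∈ (Z.support : Set ↑X) := (hsupp ⟨P, hPprime⟩).mpr hgP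
      apply hη _ h1
      rw [hfeq ⟨P, hPprime⟩ (hU.primeIdealOf ⟨genericPoint ↑X, hξU⟩) hPA, hU.fromSpec_primeIdealOf])
  refine ⟨hU.fromSpec ⟨Q, hQprime⟩, ?_, ?_, (hsupp _).mpr hgQ, ?_⟩
  · have := (hspec ⟨Q, hQprime⟩ (hU.primeIdealOf ⟨x, hxU⟩)).mp hQq
    rwa [hU.fromSpec_primeIdealOf] at this
  · rw [hfeq ⟨Q, hQprime⟩ (hU.primeIdealOf ⟨x, hxU⟩) hQA, hU.fromSpec_primeIdealOf]
  · have hprim : hU.primeIdealOf ⟨hU.fromSpec ⟨Q, hQprime⟩, hmemU _⟩ = ⟨Q, hQprime⟩ := by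
      apply hemb.injective
      rw [hU.fromSpec_primeIdealOf]
    have h1 := trdeg_residueField_eq f hU hV e (genericPoint ↑X) hξU
    have h2 := trdeg_residueField_eq f hU hV e (hU.fromSpec ⟨Q, hQprime⟩) (hmemU _)
    rw [hprim] at h2
    have h3 := (trdeg_eq_rt f (genericPoint ↑X)).symm.trans h1
    have h4 := (trdeg_eq_rt f (hU.fromSpec ⟨Q, hQprime⟩)).symm.trans h2
    have h5 : (rt f (genericPoint ↑X) : Cardinal) ≤ (rt f (hU.fromSpec ⟨Q, hQprime⟩) : Cardinal) := by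
      rw [h3, h4]; exact htr
    exact_mod_cast h5


open AlgebraicGeometry CategoryTheory Limits in
/-- Let f : X → S be dominant and locally of finite type with X and S irreducible, let η be the generic
point of S and s a point with dim X_s ≤ dim X_η, and let Z be a locally principal closed subscheme
of X (its ideal sheaf is generated by one section on an affine neighbourhood of each point) whose
generic fibre is empty. Then, set-theoretically, the fibre of Z over s is a union of irreducible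
components of the fibre of X over s. -/
theorem result {X S : Scheme.{u}} (f : X ⟶ S) [IrreducibleSpace ↑S] [IrreducibleSpace ↑X] [IsDominant f] [LocallyOfFiniteType f]
    (s : S) (hdim : topologicalKrullDim ↑(f.fiber s) ≤ topologicalKrullDim ↑(f.fiber (genericPoint ↑S)))
    (Z : X.IdealSheafData) (hZ : ∀ x : X, ∃ (U : X.Opens) (hU : IsAffineOpen U) (g : Γ(X, U)), x ∈ U ∧ Z.ideal ⟨U, hU⟩ = Ideal.span {g})
    (hη : ∀ x ∈ (Z.support : Set ↑X), f x ≠ genericPoint ↑S) :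
    ∀ x : ↑(f ⁻¹' {s}), (x : ↑X) ∈ (Z.support : Set ↑X) →
      ∃ C ∈ irreducibleComponents ↑(f ⁻¹' {s}), x ∈ C ∧ Subtype.val '' C ⊆ (Z.support : Set ↑X) := by
  intro x hxZ
  have hfξ : f (genericPoint ↑X) = genericPoint ↑S := by
    have h1 : IsGenericPoint (f (genericPoint ↑X)) (closure (f '' (⊤ : Set ↑X))) :=
      (genericPoint_spec ↑X).image f.continuous
    rw [Set.top_eq_univ, Set.image_univ, f.denseRange.closure_range] at h1
    exact h1.eq (genericPoint_spec ↑S)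
  have hgen : topologicalKrullDim ↑(f.fiber (genericPoint ↑S)) ≤
      ((rt f (genericPoint ↑X) : ℕ) : WithBot ℕ∞) := by
    rw [dim_fiber_le_iff]
    intro y hy
    obtain ⟨w, hfw, hwy, hwmax, hw⟩ := exists_rt_eq_fibreDimAt f y
    have h1 : genericPoint ↑X = w :=
      hwmax (genericPoint ↑X) (by rw [hfξ]; exact hy.symm) (genericPoint_specializes w)
    rw [← hw, ← h1]
  have hbound : ∀ y : X, f y = s → rt f y ≤ rt f (genericPoint ↑X) := by
    intro y hy
    have h1 : ((tdeg f y : ℕ) : WithBot ℕ∞) ≤ FlatMor.fibreDimAt f y := tdeg_le_fibreDimAt f y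
    have h2 := (dim_fiber_le_iff f s _).mp le_rfl y hy
    have h3 := h1.trans (h2.trans (hdim.trans hgen))
    have h4 : tdeg f y ≤ rt f (genericPoint ↑X) := by exact_mod_cast h3
    exact h4
  obtain ⟨ζ, hζx, hfζ, hζZ, hrt⟩ := exists_generization_in_support f Z hZ
    (by intro y hy; rw [hfξ]; exact hη y hy) x.1 hxZ
  have hfζs : f ζ = s := hfζ.trans x.2
  have hmax : ∀ v : X, v ⤳ ζ → f v = s → v = ζ := by
    intro v hv hfv
    by_contra hne
    have h1 : tdeg f ζ < tdeg f v :=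
      tdeg_lt_of_specializes_of_ne f v ζ hv (hfv.trans hfζs.symm) hne
    have h2 := hbound v hfv
    have h3 : rt f v = tdeg f v := rfl
    have h4 : rt f ζ = tdeg f ζ := rfl
    omega
  haveI : QuasiSober ↑(f ⁻¹' {s}) := (f.fiberHomeo s).symm.isOpenEmbedding.quasiSober
  have hζmem : ζ ∈ f ⁻¹' {s} := hfζs
  have hC := Groth.Agent.Lib.GenericDense68.closure_singleton_mem_irreducibleComponents
    (⟨ζ, hζmem⟩ : ↑(f ⁻¹' {s})) (by
      intro y hy
      have h1 : y.1 ⤳ ζ := hy.map continuous_subtype_val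
      have h2 := hmax y.1 h1 y.2
      have h3 : y = ⟨ζ, hζmem⟩ := Subtype.ext h2
      rw [h3])
  refine ⟨closure {⟨ζ, hζmem⟩}, hC, ?_, ?_⟩
  · rw [← specializes_iff_mem_closure]
    exact Topology.IsInducing.subtypeVal.specializes_iff.mp hζx
  · rintro _ ⟨y, hy, rfl⟩
    have h1 : (⟨ζ, hζmem⟩ : ↑(f ⁻¹' {s})) ⤳ y := specializes_iff_mem_closure.mpr hy
    have h2 : ζ ⤳ y.1 := h1.map continuous_subtype_val
    exact h2.mem_closed Z.support.isClosed hζZ

end Groth.Agent.S1387
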