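import Groth.Statements.S13872
import Groth.Agent.Lib.Polarize23

set_option autoImplicit false
universe u
open scoped TensorProduct
open ZeroCyc

namespace Groth.Agent.S13872

open MvPolynomial
open Groth.Agent.Lib.PolLaw23 Groth.Agent.Lib.PolLawExt23 Groth.Agent.Lib.PolLawGen23
  Groth.Agent.Lib.PolLawSpan23 Groth.Agent.Lib.PolLawCoeff23 Groth.Agent.Lib.Polarize23

section Main

variable {A B C : Type u} [CommRing A] [CommRing B] [Algebra A B] [CommRing C] [Algebra A C] {d : ℕ}
  (γ : PolLaw.MulLaw A B C d) (φ : C →ₐ[A] SymTen.TS A B d)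
  (hφ : ∀ (S : Type u) [CommSemiring S] [Algebra A S] (n : ℕ) (s : Fin n → S) (b : Fin n → B),
      ((SymTen.TS A B d).val.comp φ).toLinearMap.lTensor S (γ.law.toFun' S (∑ j, s j ⊗ₜ[A] b j)) =
        ∑ c : Fin d → Fin n, (∏ i, s (c i)) ⊗ₜ[A] PiTensorProduct.tprod A (fun i => b (c i)))

include hφ in
theorem val_phi_mu (b : Fin d → B) :
    (SymTen.TS A B d).val (φ (mu γ.law b)) =
      ∑ σ : Equiv.Perm (Fin d), PiTensorProduct.tprod A (fun i => b (σ i)) := by
  classical
  have h := hφ (MvPolynomial (Fin d) A) d X b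
  have h' := congrArg (evalFun _ ((basisMonomials (Fin d) A).coord (ones d))) h
  rw [evalFun_lTensor] at h'
  have h2 : evalFun C ((basisMonomials (Fin d) A).coord (ones d))
      (γ.law.toFun' (MvPolynomial (Fin d) A) (∑ j, X j ⊗ₜ[A] b j)) = mu γ.law b := by
    rw [mu, cfs_apply]
    rfl
  rw [h2] at h'
  rw [← sum_bij_perm (fun c => PiTensorProduct.tprod A (fun i => b (c i)))]
  refine h'.trans ?_
  rw [map_sum]
  refine Finset.sum_congr rfl fun c _ => ?_
  rw [evalFun_tmul, coord_apply, coeff_ones_prod_X]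
  split_ifs <;> simp

include hφ in
theorem val_phi_psi (t : ⨂[A] _ : Fin d, B) :
    (SymTen.TS A B d).val (φ (psi γ.law d t)) = ∑ σ : Equiv.Perm (Fin d), SymTen.perm A B d σ t := by
  induction t using PiTensorProduct.induction_on with
  | smul_tprod r b =>
    simp only [map_smul, psi_tprod, SymTen.perm_tprod, ← Finset.smul_sum]
    rw [val_phi_mu γ φ hφ b]
    congr 1
    exact (Equiv.sum_comp (Equiv.inv (Equiv.Perm (Fin d)))
      (fun σ : Equiv.Perm (Fin d) => PiTensorProduct.tprod A (fun i => b (σ i)))).symm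
  | add x y hx hy =>
    simp only [map_add, hx, hy, Finset.sum_add_distrib]

include hφ in
theorem part2 (y : SymTen.TS A B d) : d.factorial • y ∈ φ.range := by
  rw [AlgHom.mem_range]
  refine ⟨psi γ.law d ((SymTen.TS A B d).val y), Subtype.ext ?_⟩
  have h := val_phi_psi γ φ hφ ((SymTen.TS A B d).val y)
  have h2 : ∀ σ : Equiv.Perm (Fin d), SymTen.perm A B d σ ((SymTen.TS A B d).val y) =
      (SymTen.TS A B d).val y := by
    intro σ
    rw [SymTen.perm_apply]
    exact y.2 σ
  simp only [h2, Finset.sum_const, Finset.card_univ, Fintype.card_perm, Fintype.card_fin] at h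
  refine h.trans ?_
  simp

end Main


section Final

variable {A B C : Type u} [CommRing A] [CommRing B] [Algebra A B] [CommRing C] [Algebra A C] {d : ℕ}
  (γ : PolLaw.MulLaw A B C d) (φ : C →ₐ[A] SymTen.TS A B d)

theorem exists_fin_sum_tmul {S : Type u} [CommSemiring S] [Algebra A S] (z : S ⊗[A] B) :
    ∃ (n : ℕ) (s : Fin n → S) (b : Fin n → B), z = ∑ j, s j ⊗ₜ[A] b j := by
  induction z using TensorProduct.induction_on with
  | zero => exact ⟨0, Fin.elim0, Fin.elim0, by simp⟩
  | tmul s b => exact ⟨1, fun _ => s, fun _ => b, by simp⟩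
  | add x y hx hy =>
    obtain ⟨n, s, b, rfl⟩ := hx
    obtain ⟨n', s', b', rfl⟩ := hy
    exact ⟨n + n', Fin.append s s', Fin.append b b', by rw [Fin.sum_univ_add]; simp⟩

/-- The identity `ψ_S ∘ (val ∘ φ)_S ∘ γ_S = d! · γ_S` on a test algebra. -/
def Good (S : Type u) [CommSemiring S] [Algebra A S] : Prop :=
  ∀ z : S ⊗[A] B, (psi γ.law d).lTensor S
    (((SymTen.TS A B d).val.comp φ).toLinearMap.lTensor S (γ.law.toFun' S z)) =
      d.factorial • γ.law.toFun' S z

variable (hφ : ∀ (S : Type u) [CommSemiring S] [Algebra A S] (n : ℕ) (s : Fin n → S) (b : Fin n → B),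
      ((SymTen.TS A B d).val.comp φ).toLinearMap.lTensor S (γ.law.toFun' S (∑ j, s j ⊗ₜ[A] b j)) =
        ∑ c : Fin d → Fin n, (∏ i, s (c i)) ⊗ₜ[A] PiTensorProduct.tprod A (fun i => b (c i)))

include hφ in
theorem good_ring (S : Type u) [CommRing S] [Algebra A S] : Good γ φ S := by
  intro z
  obtain ⟨n, s, b, rfl⟩ := exists_fin_sum_tmul (A := A) z
  rw [hφ S n s b, map_sum]
  simp only [LinearMap.lTensor_tmul, psi_tprod]
  exact key γ.law γ.homog S s b

include hφ in
theorem good (S : Type u) [CommSemiring S] [Algebra A S] : Good γ φ S :=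
  forall_semiring_of_forall_ring
    (fun S instS instA => @Good A B C _ _ _ _ _ d γ φ S instS instA)
    (fun S _ _ => good_ring γ φ hφ S) S

include hφ in
theorem psi_val_phi (hγ : PolLaw.IsGammaD γ) :
    (psi γ.law d) ∘ₗ ((SymTen.TS A B d).val.comp φ).toLinearMap =
      (d.factorial : A) • (LinearMap.id : C →ₗ[A] C) := by
  apply linearMap_ext_of_isGammaD γ hγ
  ext S _ _ z
  rw [postcomp_toFun', postcomp_toFun', LinearMap.lTensor_comp_apply, good γ φ hφ S z,
    LinearMap.lTensor_smul, LinearMap.smul_apply, LinearMap.lTensor_id, LinearMap.id_apply,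
    Nat.cast_smul_eq_nsmul]

end Final

/-- Let A be a commutative ring, B an A-algebra and d ≥ 1; let (C, γ) be the degree-d divided power
algebra Γ^d_A(B) with its universal multiplicative law γ : B → C of degree d (every multiplicative
law of degree d out of B factors uniquely through γ), and let φ : Γ^d_A(B) → TS^d_A(B) be the
canonical homomorphism to the symmetric tensors, taken as data characterised by: after any base
change S, φ ∘ γ sends Σ_j s_j ⊗ b_j to Σ_{c : [d] → [n]} (∏_i s_{c(i)}) ⊗ (b_{c(1)} ⊗ ⋯ ⊗ b_{c(d)}),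
i.e. φ corresponds to the law x ↦ x ⊗ ⋯ ⊗ x. Then d!·x = 0 for every x in the kernel of φ, and d!·y
lies in the image of φ for every symmetric tensor y ∈ TS^d_A(B). (The published statement also
asserts x^{d!} = 0 and y^{d!} in the image of φ; those two halves are a separate result and are not
restated here.) -/
theorem result {A B C : Type u} [CommRing A] [CommRing B] [Algebra A B] [CommRing C] [Algebra A C] (d : ℕ) (hd : 0 < d)
    (γ : PolLaw.MulLaw A B C d) (hγ : PolLaw.IsGammaD γ) (φ : C →ₐ[A] SymTen.TS A B d)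
    (hφ : ∀ (S : Type u) [CommSemiring S] [Algebra A S] (n : ℕ) (s : Fin n → S) (b : Fin n → B),
      ((SymTen.TS A B d).val.comp φ).toLinearMap.lTensor S (γ.law.toFun' S (∑ j, s j ⊗ₜ[A] b j)) =
        ∑ c : Fin d → Fin n, (∏ i, s (c i)) ⊗ₜ[A] PiTensorProduct.tprod A (fun i => b (c i))) :
    (∀ x : C, φ x = 0 → d.factorial • x = 0) ∧
      (∀ y : SymTen.TS A B d, d.factorial • y ∈ φ.range) := by
  refine ⟨fun x hx => ?_, fun y => Groth.Agent.S13872.part2 γ φ hφ y⟩
  have h := congrArg (fun f => f x) (Groth.Agent.S13872.psi_val_phi γ φ hφ hγ)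
  simp only [LinearMap.comp_apply, AlgHom.toLinearMap_apply, AlgHom.comp_apply, hx, map_zero,
    LinearMap.smul_apply, LinearMap.id_apply, Nat.cast_smul_eq_nsmul] at h
  exact h.symm

end Groth.Agent.S13872
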