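import Groth.Statements.S13878
import Mathlib

set_option autoImplicit false
universe u
open Crimp

namespace Groth.Agent.S13878

open PowerSeries

section Helpers

variable {k : Type u} [Field k]

local notation "R" => PowerSeries k

lemma X_not_unit : ¬ IsUnit (X : R) := X_irreducible.not_isUnit

/-- length of `R/(a)` when `a` is associated to `X^j` -/
lemma length_quot_of_associated (a : R) (j : ℕ) (h : Associated a (X ^ j)) :
    Module.length R (R ⧸ Ideal.span {a}) = j := by
  have hX : Irreducible (X : R) := X_irreducible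
  rw [(Ideal.span_singleton_eq_span_singleton).2 h, ← Ideal.span_singleton_pow,
    ← hX.maximalIdeal_eq]
  exact IsDiscreteValuationRing.length_quotient_pow_maximalIdeal R j

lemma smul_quot_eq_zero (a : R) (I : Ideal R) (h : a ∈ I) (x : R ⧸ I) : a • x = 0 := by
  obtain ⟨y, rfl⟩ := Ideal.Quotient.mk_surjective x
  rw [← Ideal.Quotient.mk_eq_mk, ← Submodule.Quotient.mk_smul, Ideal.Quotient.mk_eq_mk,
    Ideal.Quotient.eq_zero_iff_mem, smul_eq_mul]
  exact I.mul_mem_right y h

lemma mem_span_smul_top {M : Type*} [AddCommGroup M] [Module R M] (r : R) (v : M) :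
    v ∈ Ideal.span {r} • (⊤ : Submodule R M) ↔ ∃ w : M, r • w = v := by
  rw [Submodule.ideal_span_singleton_smul, Submodule.mem_smul_pointwise_iff_exists]
  simp

/-- the projection `R^3 → R^2` killing `1`. -/
def π : (Fin 3 → R) →ₗ[R] (Fin 2 → R) where
  toFun v := ![v 1 - v 0, v 2 - v 0]
  map_add' x y := by
    ext i; fin_cases i <;> simp <;> ring
  map_smul' c x := by
    ext i; fin_cases i <;> simp [mul_sub]

/-- a section of `π`. -/
def σ : (Fin 2 → R) →ₗ[R] (Fin 3 → R) where
  toFun w := ![0, w 0, w 1]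
  map_add' x y := by
    ext i; fin_cases i <;> simp
  map_smul' c x := by
    ext i; fin_cases i <;> simp

lemma π_σ (w : Fin 2 → R) : π (σ w) = w := by
  ext i; fin_cases i <;> simp [π, σ]

lemma π_one : π (1 : Fin 3 → R) = 0 := by
  ext i; fin_cases i <;> simp [π]

lemma eq_smul_one_add (v : Fin 3 → R) : v = v 0 • (1 : Fin 3 → R) + σ (π v) := by
  ext i; fin_cases i <;> simp [π, σ]

lemma σ_π (v : Fin 3 → R) : σ (π v) = v - v 0 • (1 : Fin 3 → R) := by
  rw [eq_sub_iff_add_eq, add_comm]
  exact (eq_smul_one_add v).symm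

lemma π_surjective : Function.Surjective (π : (Fin 3 → R) →ₗ[R] (Fin 2 → R)) :=
  fun w => ⟨σ w, π_σ w⟩

lemma mem_iff_π_mem (S : Submodule R (Fin 3 → R)) (h1 : (1 : Fin 3 → R) ∈ S) (v : Fin 3 → R) :
    v ∈ S ↔ π v ∈ S.map π := by
  constructor
  · exact fun hv => Submodule.mem_map_of_mem hv
  · rintro ⟨s, hs, hsv⟩
    rw [eq_smul_one_add v, ← hsv, σ_π]
    exact S.add_mem (S.smul_mem _ h1) (S.sub_mem hs (S.smul_mem _ h1))

/-- `S'/S ≃ F/π(S)`. -/
noncomputable def eQ (S : Submodule R (Fin 3 → R)) (h1 : (1 : Fin 3 → R) ∈ S) :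
    ((Fin 3 → R) ⧸ S) ≃ₗ[R] ((Fin 2 → R) ⧸ S.map π) :=
  (Submodule.quotEquivOfEq S (LinearMap.ker ((S.map π).mkQ ∘ₗ π)) (by
    ext v
    rw [LinearMap.mem_ker, LinearMap.comp_apply, Submodule.mkQ_apply,
      Submodule.Quotient.mk_eq_zero]
    exact mem_iff_π_mem S h1 v)).trans
    (LinearMap.quotKerEquivOfSurjective ((S.map π).mkQ ∘ₗ π)
      ((Submodule.mkQ_surjective _).comp π_surjective))

lemma final (m n : ℕ) (S : Submodule R (Fin 3 → R)) (h1 : (1 : Fin 3 → R) ∈ S)
    (hn : Ideal.span {(X : R) ^ n} • (⊤ : Submodule R (Fin 3 → R)) ≤ S)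
    (b' : Module.Basis (Fin 2) R (Fin 2 → R))
    (hmem : ∀ x : Fin 2 → R, x ∈ S.map π ↔
      (X : R) ^ m ∣ b'.repr x 0 ∧ (X : R) ^ n ∣ b'.repr x 1) :
    ∃ f : Fin 3 → R,
      f ∉ Submodule.span R {(1 : Fin 3 → R)} ⊔
        Ideal.span {(X : R)} • (⊤ : Submodule R (Fin 3 → R)) ∧
      S = Submodule.span R {(1 : Fin 3 → R), ((X : R) ^ m) • f} ⊔
        Ideal.span {(X : R) ^ n} • (⊤ : Submodule R (Fin 3 → R)) := by
  refine ⟨σ (b' 0), ?_, ?_⟩
  · intro hf
    obtain ⟨y, hy, z, hz, hyz⟩ := Submodule.mem_sup.1 hf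
    obtain ⟨c, rfl⟩ := Submodule.mem_span_singleton.1 hy
    obtain ⟨w, rfl⟩ := (mem_span_smul_top _ _).1 hz
    have h2 : b' 0 = (X : R) • π w := by
      have := congrArg π hyz
      rw [map_add, map_smul, π_one, smul_zero, zero_add, map_smul, π_σ] at this
      exact this.symm
    have h3 : (1 : R) = X * b'.repr (π w) 0 := by
      have := congrArg (fun x => b'.repr x 0) h2
      simpa using this
    exact X_not_unit (IsUnit.of_mul_eq_one _ h3.symm)
  · apply le_antisymm
    · intro v hv
      obtain ⟨⟨c0, hc0⟩, ⟨c1, hc1⟩⟩ := (hmem (π v)).1 ((mem_iff_π_mem S h1 v).1 hv)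
      have h2 : π v = (X ^ m * c0) • b' 0 + (X ^ n * c1) • b' 1 := by
        rw [← hc0, ← hc1]
        conv_lhs => rw [← b'.sum_repr (π v)]
        rw [Fin.sum_univ_two]
      have h3 : v = v 0 • (1 : Fin 3 → R) + c0 • ((X : R) ^ m • σ (b' 0))
          + (X : R) ^ n • (c1 • σ (b' 1)) := by
        conv_lhs => rw [eq_smul_one_add v, h2]
        rw [map_add, map_smul, map_smul, add_assoc]
        congr 2
        · rw [smul_smul, mul_comm]
        · rw [smul_smul]
      rw [h3]
      refine Submodule.add_mem _ (Submodule.mem_sup_left (Submodule.add_mem _ ?_ ?_))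
        (Submodule.mem_sup_right ((mem_span_smul_top _ _).2 ⟨_, rfl⟩))
      · exact Submodule.smul_mem _ _ (Submodule.subset_span (by simp))
      · exact Submodule.smul_mem _ _ (Submodule.subset_span (by simp))
    · refine sup_le (Submodule.span_le.2 ?_) hn
      rintro x (rfl | rfl)
      · exact h1
      · rw [SetLike.mem_coe, mem_iff_π_mem S h1, map_smul, π_σ, hmem]
        constructor
        · simp
        · simp

/-- membership in a full-rank submodule in terms of its Smith normal form. -/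
lemma mem_iff_snf {ι : Type*} [Fintype ι] {M : Type*} [AddCommGroup M] [Module R M]
    (N : Submodule R M) (b' : Module.Basis ι R M) (a : ι → R) (ab : Module.Basis ι R N)
    (hab : ∀ i, (ab i : M) = a i • b' i) (x : M) :
    x ∈ N ↔ ∀ i, a i ∣ b'.repr x i := by
  simp_rw [ab.mem_submodule_iff', hab]
  have : ∀ (c : ι → R) (i), b'.repr (∑ j : ι, c j • a j • b' j) i = a i * c i := by
    intro c i
    simp only [← mul_smul, b'.repr_sum_self, mul_comm]
  constructor
  · rintro ⟨c, rfl⟩ i
    exact ⟨c i, this c i⟩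
  · rintro ha
    choose c hc using ha
    exact ⟨c, b'.ext_elem fun i => Eq.trans (hc i) (this c i).symm⟩

end Helpers

open Classical in
/-- Over R = k⟦t⟧ with k an algebraically closed field of characteristic zero, let S' = R × R × R (the
unramified triple cover of the formal disk) and let S be an R-submodule of S' containing 1 such that
S' / S is isomorphic to R / (t ^ m) ⊕ R / (t ^ n) with m ≤ n. Then t ^ n S' is contained in S, and
there is f in S', not lying in R·1 + t S', such that S = R·1 + R·(t ^ m f) + t ^ n S'. -/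
theorem result {k : Type u} [Field k] [IsAlgClosed k] [CharZero k] (m n : ℕ) (hmn : m ≤ n)
    (S : Submodule (PowerSeries k) (Fin 3 → PowerSeries k))
    (h1 : (1 : (Fin 3 → PowerSeries k)) ∈ S)
    (e : ((Fin 3 → PowerSeries k) ⧸ S) ≃ₗ[PowerSeries k]
      ((PowerSeries k ⧸ Ideal.span {(PowerSeries.X : PowerSeries k) ^ m}) × (PowerSeries k ⧸ Ideal.span {(PowerSeries.X : PowerSeries k) ^ n}))) :
    Ideal.span {(PowerSeries.X : PowerSeries k) ^ n} • (⊤ : Submodule (PowerSeries k) (Fin 3 → PowerSeries k)) ≤ S ∧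
    ∃ f : (Fin 3 → PowerSeries k),
      f ∉ Submodule.span (PowerSeries k) {(1 : (Fin 3 → PowerSeries k))} ⊔ Ideal.span {(PowerSeries.X : PowerSeries k)} • (⊤ : Submodule (PowerSeries k) (Fin 3 → PowerSeries k)) ∧
      S = Submodule.span (PowerSeries k) {(1 : (Fin 3 → PowerSeries k)), ((PowerSeries.X : PowerSeries k) ^ m) • f} ⊔
        Ideal.span {(PowerSeries.X : PowerSeries k) ^ n} • (⊤ : Submodule (PowerSeries k) (Fin 3 → PowerSeries k)) := by
  -- `X^n` kills the right-hand side
  have hkill : ∀ j : ℕ, n ≤ j → ∀ y : (PowerSeries k ⧸ Ideal.span {(X : PowerSeries k) ^ m}) ×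
      (PowerSeries k ⧸ Ideal.span {(X : PowerSeries k) ^ n}), (X : PowerSeries k) ^ j • y = 0 := by
    intro j hj y
    ext
    · exact smul_quot_eq_zero _ _
        (Ideal.mem_span_singleton.2 (pow_dvd_pow _ (hmn.trans hj))) _
    · exact smul_quot_eq_zero _ _ (Ideal.mem_span_singleton.2 (pow_dvd_pow _ hj)) _
  -- Step 0
  have hn : Ideal.span {(X : PowerSeries k) ^ n} • (⊤ : Submodule (PowerSeries k) (Fin 3 → PowerSeries k)) ≤ S := by
    intro v hv
    obtain ⟨w, rfl⟩ := (mem_span_smul_top _ _).1 hv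
    rw [← Submodule.Quotient.mk_eq_zero, ← e.map_eq_zero_iff, Submodule.Quotient.mk_smul,
      map_smul]
    exact hkill n le_rfl _
  refine ⟨hn, ?_⟩
  -- the image in `R^2`
  set Sb : Submodule (PowerSeries k) (Fin 2 → PowerSeries k) := S.map π with hSb
  have hX0 : (X : PowerSeries k) ≠ 0 := X_ne_zero
  have hrank : Module.finrank (PowerSeries k) Sb = Module.finrank (PowerSeries k) (Fin 2 → PowerSeries k) := by
    apply le_antisymm (Submodule.finrank_le _)
    have hmemSb : ∀ w : Fin 2 → PowerSeries k, LinearMap.lsmul (PowerSeries k) (Fin 2 → PowerSeries k) ((X : PowerSeries k) ^ n) w ∈ Sb := by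
      intro w
      rw [hSb]
      refine ⟨(X : PowerSeries k) ^ n • σ w, hn ((mem_span_smul_top _ _).2 ⟨_, rfl⟩), ?_⟩
      rw [map_smul, π_σ]
      rfl
    exact LinearMap.finrank_le_finrank_of_injective
      (f := (LinearMap.lsmul (PowerSeries k) (Fin 2 → PowerSeries k) ((X : PowerSeries k) ^ n)).codRestrict Sb hmemSb)
      ((LinearMap.injective_codRestrict_iff _).2 (LinearMap.lsmul_injective (pow_ne_zero n hX0)))
  set b0 : Module.Basis (Fin 2) (PowerSeries k) (Fin 2 → PowerSeries k) := Pi.basisFun _ _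
  set b' := Sb.smithNormalFormTopBasis b0 hrank with hb'
  set ab := Sb.smithNormalFormBotBasis b0 hrank with hab
  set a := Sb.smithNormalFormCoeffs b0 hrank with ha
  have hab0 : ∀ i, (ab i : Fin 2 → PowerSeries k) = a i • b' i :=
    Submodule.smithNormalFormBotBasis_def b0 hrank
  have hmemSb : ∀ x, x ∈ Sb ↔ ∀ i, a i ∣ b'.repr x i := mem_iff_snf Sb b' a ab hab0
  -- the comparison isomorphism
  let E : (Π i : Fin 2, PowerSeries k ⧸ Ideal.span ({a i} : Set (PowerSeries k))) ≃ₗ[PowerSeries k]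
      ((PowerSeries k ⧸ Ideal.span {(X : PowerSeries k) ^ m}) × (PowerSeries k ⧸ Ideal.span {(X : PowerSeries k) ^ n})) :=
    ((Sb.quotientEquivPiSpan b0 hrank).symm.trans (eQ S h1).symm).trans e
  -- each `a i` divides `X^n`
  have hQkill : ∀ j : ℕ, n ≤ j → ∀ q : (Π i : Fin 2, PowerSeries k ⧸ Ideal.span ({a i} : Set (PowerSeries k))),
      (X : PowerSeries k) ^ j • q = 0 := by
    intro j hj q
    rw [← E.map_eq_zero_iff, map_smul]
    exact hkill j hj _
  have hdvd : ∀ i, a i ∣ (X : PowerSeries k) ^ n := by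
    intro i
    have h2 := congrFun (hQkill n le_rfl (Pi.single i 1)) i
    rw [Pi.smul_apply, Pi.single_eq_same, Pi.zero_apply] at h2
    have h3 : (X : PowerSeries k) ^ n • (1 : PowerSeries k ⧸ Ideal.span ({a i} : Set (PowerSeries k)))
        = Ideal.Quotient.mk _ ((X : PowerSeries k) ^ n) := by
      rw [← map_one (Ideal.Quotient.mk _), ← Ideal.Quotient.mk_eq_mk,
        ← Submodule.Quotient.mk_smul, smul_eq_mul, mul_one]
      rfl
    rw [h3, Ideal.Quotient.eq_zero_iff_mem, Ideal.mem_span_singleton] at h2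
    exact h2
  have hass : ∀ i, ∃ α : ℕ, α ≤ n ∧ Associated (a i) ((X : PowerSeries k) ^ α) :=
    fun i => (dvd_prime_pow X_prime n).1 (hdvd i)
  choose α hαn hαa using hass
  -- length count
  have hlen : α 0 + α 1 = m + n := by
    have h2 := E.length_eq
    rw [Module.length_pi_of_fintype, Fin.sum_univ_two, Module.length_prod,
      length_quot_of_associated _ _ (hαa 0), length_quot_of_associated _ _ (hαa 1),
      length_quot_of_associated _ m (Associated.refl _),
      length_quot_of_associated _ n (Associated.refl _)] at h2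
    exact_mod_cast h2
  -- exponent
  have hmax : n ≤ max (α 0) (α 1) := by
    have h2 : ∀ q : (Π i : Fin 2, PowerSeries k ⧸ Ideal.span ({a i} : Set (PowerSeries k))),
        (X : PowerSeries k) ^ (max (α 0) (α 1)) • q = 0 := by
      intro q
      funext i
      rw [Pi.smul_apply, Pi.zero_apply]
      refine smul_quot_eq_zero _ _ (Ideal.mem_span_singleton.2 ?_) _
      refine (hαa i).dvd.trans (pow_dvd_pow _ ?_)
      fin_cases i
      · exact le_max_left _ _
      · exact le_max_right _ _
    have h3 : (X : PowerSeries k) ^ (max (α 0) (α 1)) •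
        ((0, 1) : (PowerSeries k ⧸ Ideal.span {(X : PowerSeries k) ^ m}) × (PowerSeries k ⧸ Ideal.span {(X : PowerSeries k) ^ n})) = 0 := by
      rw [← E.apply_symm_apply (0, 1), ← map_smul, h2, map_zero]
    have h4 := congrArg Prod.snd h3
    rw [Prod.smul_snd, Prod.snd_zero] at h4
    have h5 : (X : PowerSeries k) ^ (max (α 0) (α 1)) • (1 : PowerSeries k ⧸ Ideal.span {(X : PowerSeries k) ^ n})
        = Ideal.Quotient.mk _ ((X : PowerSeries k) ^ (max (α 0) (α 1))) := by
      rw [← map_one (Ideal.Quotient.mk _), ← Ideal.Quotient.mk_eq_mk,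
        ← Submodule.Quotient.mk_smul, smul_eq_mul, mul_one]
      rfl
    rw [h5, Ideal.Quotient.eq_zero_iff_mem, Ideal.mem_span_singleton] at h4
    exact (pow_dvd_pow_iff hX0 X_not_unit).1 h4
  have hα0 := hαn 0
  have hα1 := hαn 1
  by_cases hcase : α 1 = n
  · -- exponents `(m, n)`
    have hα0m : α 0 = m := by omega
    refine final m n S h1 hn b' (fun x => ?_)
    rw [← hSb, hmemSb, Fin.forall_fin_two, (hαa 0).dvd_iff_dvd_left, (hαa 1).dvd_iff_dvd_left,
      hα0m, hcase]
  · -- exponents `(n, m)`: swap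
    have hα0n : α 0 = n := by
      rcases le_max_iff.1 hmax with h | h <;> omega
    have hα1m : α 1 = m := by omega
    refine final m n S h1 hn (b'.reindex (Equiv.swap 0 1)) (fun x => ?_)
    rw [← hSb, hmemSb, Fin.forall_fin_two, (hαa 0).dvd_iff_dvd_left, (hαa 1).dvd_iff_dvd_left,
      hα0n, hα1m, Module.Basis.repr_reindex_apply, Module.Basis.repr_reindex_apply]
    simp only [Equiv.symm_swap, Equiv.swap_apply_left, Equiv.swap_apply_right]
    exact and_comm

end Groth.Agent.S13878
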