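import Groth.Statements.S13879
import Mathlib.Algebra.Module.Submodule.Pointwise
import Mathlib.RingTheory.Ideal.Operations

set_option autoImplicit false
universe u
open Crimp

namespace Groth.Agent.S13879

open Pointwise

/-- Over R = k⟦t⟧ with k an algebraically closed field of characteristic zero, let S' = R × R × R and
let S be the R-submodule R·1 + R·(t ^ m f) + t ^ n S' of S' for some f in S' and natural numbers m,
n. Then S is closed under multiplication (equivalently, is an R-subalgebra of S') if and only if t ^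
(2m) f ^ 2 lies in S. (The published statement has m ≤ n and S' / S isomorphic to R / (t ^ m) ⊕ R /
(t ^ n), under which S has this shape; this row states the criterion for every submodule of this
shape.) -/
theorem result {k : Type u} [Field k] [IsAlgClosed k] [CharZero k] (m n : ℕ) (f : (Fin 3 → PowerSeries k))
    (S : Submodule (PowerSeries k) (Fin 3 → PowerSeries k))
    (hS : S = Submodule.span (PowerSeries k) {(1 : (Fin 3 → PowerSeries k)), ((PowerSeries.X : PowerSeries k) ^ m) • f} ⊔
        Ideal.span {(PowerSeries.X : PowerSeries k) ^ n} • (⊤ : Submodule (PowerSeries k) (Fin 3 → PowerSeries k))) :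
    (∀ x ∈ S, ∀ y ∈ S, x * y ∈ S) ↔ ((PowerSeries.X : PowerSeries k) ^ (2 * m)) • (f * f) ∈ S := by
  have hT : Ideal.span {(PowerSeries.X : PowerSeries k) ^ n} •
      (⊤ : Submodule (PowerSeries k) (Fin 3 → PowerSeries k)) =
      ((PowerSeries.X : PowerSeries k) ^ n) • (⊤ : Submodule (PowerSeries k) (Fin 3 → PowerSeries k)) :=
    Submodule.ideal_span_singleton_smul _ _
  have hmem : ∀ x : Fin 3 → PowerSeries k, x ∈ S ↔ ∃ a b : PowerSeries k, ∃ s : Fin 3 → PowerSeries k,
      x = a • (1 : Fin 3 → PowerSeries k) + b • (((PowerSeries.X : PowerSeries k) ^ m) • f) +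
        ((PowerSeries.X : PowerSeries k) ^ n) • s := by
    intro x
    rw [hS, hT, Submodule.mem_sup]
    constructor
    · rintro ⟨y, hy, z, hz, rfl⟩
      rw [Submodule.mem_span_pair] at hy
      obtain ⟨a, b, rfl⟩ := hy
      rw [Submodule.mem_smul_pointwise_iff_exists] at hz
      obtain ⟨s, -, rfl⟩ := hz
      exact ⟨a, b, s, rfl⟩
    · rintro ⟨a, b, s, rfl⟩
      exact ⟨_, Submodule.mem_span_pair.mpr ⟨a, b, rfl⟩, _,
        Submodule.smul_mem_pointwise_smul _ _ _ trivial, rfl⟩
  have hgg : (((PowerSeries.X : PowerSeries k) ^ m) • f) * (((PowerSeries.X : PowerSeries k) ^ m) • f) =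
      ((PowerSeries.X : PowerSeries k) ^ (2 * m)) • (f * f) := by
    rw [smul_mul_smul_comm, ← pow_add, two_mul]
  constructor
  · intro h
    rw [← hgg]
    have hgS : (((PowerSeries.X : PowerSeries k) ^ m) • f) ∈ S :=
      (hmem _).mpr ⟨0, 1, 0, by simp⟩
    exact h _ hgS _ hgS
  · intro h x hx y hy
    rw [← hgg, hmem] at h
    obtain ⟨a₀, b₀, s₀, h0⟩ := h
    obtain ⟨a, b, s, rfl⟩ := (hmem x).mp hx
    obtain ⟨a', b', s', rfl⟩ := (hmem y).mp hy
    rw [hmem]
    refine ⟨a * a' + b * b' * a₀, a * b' + a' * b + b * b' * b₀,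
      a • s' + a' • s + b • ((((PowerSeries.X : PowerSeries k) ^ m) • f) * s') +
        b' • ((((PowerSeries.X : PowerSeries k) ^ m) • f) * s) +
        ((PowerSeries.X : PowerSeries k) ^ n) • (s * s') + (b * b') • s₀, ?_⟩
    funext i
    have h0i := congrFun h0 i
    simp only [Pi.add_apply, Pi.smul_apply, Pi.mul_apply, Pi.one_apply, smul_eq_mul] at h0i ⊢
    linear_combination (b * b') * h0i

end Groth.Agent.S13879
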