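import Mathlib
import Groth.Agent.Lib.CrimpRank2H27
import Groth.Statements.S13880

set_option autoImplicit false
universe u
open Crimp

namespace Groth.Agent.S13880

section Helpers

open Module Groth.Agent.Lib.CrimpRank2H27

variable {k : Type u} [Field k]

/-- coordinates w.r.t. `{(1,1), (1,-1)}` when `2 u2 = 1`. -/
noncomputable def coordEquiv {R : Type u} [CommRing R] (u2 : R) (h2 : 2 * u2 = 1) :
    (Fin 2 → R) ≃ₗ[R] (Fin 2 → R) where
  toFun x := ![u2 * (x 0 + x 1), u2 * (x 0 - x 1)]
  invFun y := ![y 0 + y 1, y 0 - y 1]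
  map_add' x y := by
    funext i; fin_cases i <;> simp <;> ring
  map_smul' r x := by
    funext i; fin_cases i <;> simp <;> ring
  left_inv x := by
    funext i
    fin_cases i
    · simp only [Fin.zero_eta, Matrix.cons_val_zero, Matrix.cons_val_one]
      linear_combination (x 0) * h2
    · simp only [Fin.mk_one, Matrix.cons_val_zero, Matrix.cons_val_one]
      linear_combination (x 1) * h2
  right_inv y := by
    funext i
    fin_cases i
    · simp only [Fin.zero_eta, Matrix.cons_val_zero, Matrix.cons_val_one]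
      linear_combination (y 0) * h2
    · simp only [Fin.mk_one, Matrix.cons_val_zero, Matrix.cons_val_one]
      linear_combination (y 1) * h2

theorem exists_basis_eta {R : Type u} [CommRing R] (u2 : R) (h2 : 2 * u2 = 1) :
    ∃ b' : Basis (Fin 2) R (Fin 2 → R), b' 0 = 1 ∧ b' 1 = ![1, -1] := by
  refine ⟨Basis.ofEquivFun (coordEquiv u2 h2), ?_, ?_⟩
  · rw [Basis.coe_ofEquivFun]
    funext i
    fin_cases i <;> simp [coordEquiv]
  · rw [Basis.coe_ofEquivFun]
    funext i
    fin_cases i <;> simp [coordEquiv]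

theorem two_mul_inv [CharZero k] : (2 : PowerSeries k) * PowerSeries.C ((2 : k)⁻¹) = 1 := by
  have : (2 : PowerSeries k) = PowerSeries.C (2 : k) := (map_ofNat _ 2).symm
  rw [this, ← map_mul, mul_inv_cancel₀ (two_ne_zero), map_one]

end Helpers

/-- Over R = k⟦t⟧ with k an algebraically closed field of characteristic zero, let S' = R × R, the
trivial double cover of the formal disk (branch divisor (t ^ 0)). An R-subalgebra S of S' admits an
R-basis of size 2 whose discriminant generates (t ^ b), that is, S is a crimp with branch divisor (t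
^ b), if and only if b = 2n for some n and S = R·1 + t ^ n S'. So there is exactly one such crimp
when b is even and none when b is odd; moreover the subalgebra R·1 + t ^ n S' is isomorphic as an
R-algebra to R[y] / (y ^ 2 - t ^ (2n)) (existence of an isomorphism; y ↦ (t ^ n, -t ^ n)). (The
published statement also gives the space of crimps its reduced one-point scheme structure; this row
classifies its k-points.) -/
theorem result {k : Type u} [Field k] [IsAlgClosed k] [CharZero k] (b : ℕ) (S : Subalgebra (PowerSeries k) (Fin 2 → PowerSeries k)) :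
    ((∃ bS : Module.Basis (Fin 2) (PowerSeries k) S,
      Ideal.span {Algebra.discr (PowerSeries k) ⇑bS} = Ideal.span {(PowerSeries.X : PowerSeries k) ^ b}) ↔
    ∃ n : ℕ, b = 2 * n ∧
      Subalgebra.toSubmodule S = Submodule.span (PowerSeries k) {(1 : (Fin 2 → PowerSeries k))} ⊔
        Ideal.span {(PowerSeries.X : PowerSeries k) ^ n} • (⊤ : Submodule (PowerSeries k) (Fin 2 → PowerSeries k))) ∧
    (∀ n : ℕ, Subalgebra.toSubmodule S = Submodule.span (PowerSeries k) {(1 : (Fin 2 → PowerSeries k))} ⊔
        Ideal.span {(PowerSeries.X : PowerSeries k) ^ n} • (⊤ : Submodule (PowerSeries k) (Fin 2 → PowerSeries k)) →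
      Nonempty (S ≃ₐ[PowerSeries k] AdjoinRoot (Polynomial.X ^ 2 - Polynomial.C ((PowerSeries.X : PowerSeries k) ^ (2 * n))))) := by
  have h2 := two_mul_inv (k := k)
  obtain ⟨b', h0, h1⟩ := exists_basis_eta (PowerSeries.C ((2 : k)⁻¹)) h2
  have hX : Irreducible (PowerSeries.X : PowerSeries k) := PowerSeries.X_prime.irreducible
  have hsq : b' 1 * b' 1 = (1 : PowerSeries k) • (1 : Fin 2 → PowerSeries k) + (0 : PowerSeries k) • b' 1 := by
    rw [h1]
    funext i
    fin_cases i <;> simp
  have hdisc : Algebra.discr (PowerSeries k) b' = 4 * 1 + 0 ^ 2 := Groth.Agent.Lib.CrimpRank2H27.discr_eq b' h0 1 0 hsq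
  have h4 : IsUnit (Algebra.discr (PowerSeries k) b') := by
    have hu2 : IsUnit (2 : PowerSeries k) := IsUnit.of_mul_eq_one _ h2
    have : Algebra.discr (PowerSeries k) b' = 2 * 2 := by rw [hdisc]; norm_num
    rw [this]
    exact hu2.mul hu2
  have hspan : ∀ m : ℕ, Ideal.span {((PowerSeries.X : PowerSeries k) ^ m) ^ 2 * Algebra.discr (PowerSeries k) b'} =
      Ideal.span {(PowerSeries.X : PowerSeries k) ^ (2 * m)} := by
    intro m
    rw [mul_comm, ← Ideal.span_singleton_mul_span_singleton, Ideal.span_singleton_eq_top.mpr h4,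
      Ideal.top_mul, ← pow_mul, mul_comm]
  have hXm : ∀ m : ℕ, (PowerSeries.X : PowerSeries k) ^ m ≠ 0 := fun m => pow_ne_zero _ hX.ne_zero
  refine ⟨⟨?_, ?_⟩, ?_⟩
  · rintro ⟨bS, hbS⟩
    obtain ⟨m, hm⟩ := Groth.Agent.Lib.CrimpRank2H27.exists_form_of_basis PowerSeries.X hX b' h0 S bS
    refine ⟨m, ?_, hm⟩
    have := Groth.Agent.Lib.CrimpRank2H27.span_discr_of_form b' h0 S _ (hXm m) hm bS
    rw [hspan, hbS] at this
    exact Groth.Agent.Lib.CrimpRank2H27.pow_eq_of_span_eq hX this
  · rintro ⟨n, rfl, hS⟩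
    obtain ⟨bS, -, -⟩ := Groth.Agent.Lib.CrimpRank2H27.exists_basis_of_form b' h0 S _ (hXm n) hS
    refine ⟨bS, ?_⟩
    rw [Groth.Agent.Lib.CrimpRank2H27.span_discr_of_form b' h0 S _ (hXm n) hS bS, hspan]
  · intro n hS
    obtain ⟨bS, hb0, hb1⟩ := Groth.Agent.Lib.CrimpRank2H27.exists_basis_of_form b' h0 S _ (hXm n) hS
    refine Groth.Agent.Lib.CrimpRank2H27.nonempty_algEquiv_adjoinRoot bS (Subtype.ext hb0) _ ?_
    apply Subtype.ext
    rw [Subalgebra.coe_mul, hb1, Subalgebra.coe_algebraMap, h1]
    funext i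
    fin_cases i
    · simp
      ring
    · simp
      ring

end Groth.Agent.S13880
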