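import Mathlib
import Groth.Agent.Lib.CrimpRank2H27
import Groth.Statements.S13881

set_option autoImplicit false
universe u
open Crimp

namespace Groth.Agent.S13881

section Helpers

open Module Polynomial

theorem exists_basis_root {R : Type u} [CommRing R] [Nontrivial R] (t : R) :
    ∃ b' : Basis (Fin 2) R (AdjoinRoot ((X : R[X]) ^ 2 - C t)),
      b' 0 = 1 ∧ b' 1 = AdjoinRoot.root _ ∧
      AdjoinRoot.root ((X : R[X]) ^ 2 - C t) * AdjoinRoot.root _ = algebraMap R _ t := by
  have hmonic : ((X : R[X]) ^ 2 - C t).Monic := monic_X_pow_sub_C t (by norm_num)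
  have hdeg : ((X : R[X]) ^ 2 - C t).natDegree = 2 := natDegree_X_pow_sub_C
  let pb := AdjoinRoot.powerBasis' hmonic
  have hdim : pb.dim = 2 := by rw [AdjoinRoot.powerBasis'_dim, hdeg]
  refine ⟨pb.basis.reindex (finCongr hdim), ?_, ?_, ?_⟩
  · rw [Basis.reindex_apply, PowerBasis.basis_eq_pow]
    simp
  · rw [Basis.reindex_apply, PowerBasis.basis_eq_pow, AdjoinRoot.powerBasis'_gen]
    simp
  · have h := AdjoinRoot.mk_self (f := (X : R[X]) ^ 2 - C t)
    rw [map_sub, map_pow, AdjoinRoot.mk_X, AdjoinRoot.mk_C, sub_eq_zero] at h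
    rw [AdjoinRoot.algebraMap_eq]
    exact (pow_two _).symm.trans h

theorem two_mul_inv {k : Type u} [Field k] [CharZero k] :
    (2 : PowerSeries k) * PowerSeries.C ((2 : k)⁻¹) = 1 := by
  have : (2 : PowerSeries k) = PowerSeries.C (2 : k) := (map_ofNat _ 2).symm
  rw [this, ← map_mul, mul_inv_cancel₀ (two_ne_zero), map_one]

end Helpers

/-- Over R = k⟦t⟧ with k an algebraically closed field of characteristic zero, let S' = R[x] / (x ^ 2 -
t), the ramified smooth double cover of the formal disk (branch divisor (t)). An R-subalgebra S of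
S' admits an R-basis of size 2 whose discriminant generates (t ^ b), that is, S is a crimp with
branch divisor (t ^ b), if and only if b = 2n + 1 for some n and S = R·1 + t ^ n S'. So there is
exactly one such crimp when b is odd and none when b is even; moreover the subalgebra R·1 + t ^ n S'
is isomorphic as an R-algebra to R[y] / (y ^ 2 - t ^ (2n+1)) (existence of an isomorphism; y ↦ t ^ n
x). (The published statement describes this algebra as R[y] / (y ^ 2 - t ^ (b - a)) with a = 1, that
is R[y] / (y ^ 2 - t ^ (2n)); that algebra has discriminant ideal (t ^ (b - 1)), not (t ^ b), so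
this row uses R[y] / (y ^ 2 - t ^ b) = R[y] / (y ^ 2 - t ^ (2n+1)), which is the algebra R·1 + t ^ n
S'. The published statement also gives the space of crimps its reduced one-point scheme structure;
this row classifies its k-points.) -/
theorem result {k : Type u} [Field k] [IsAlgClosed k] [CharZero k] (b : ℕ)
    (S : Subalgebra (PowerSeries k) (AdjoinRoot (Polynomial.X ^ 2 - Polynomial.C (PowerSeries.X : PowerSeries k)))) :
    ((∃ bS : Module.Basis (Fin 2) (PowerSeries k) S,
      Ideal.span {Algebra.discr (PowerSeries k) ⇑bS} = Ideal.span {(PowerSeries.X : PowerSeries k) ^ b}) ↔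
    ∃ n : ℕ, b = 2 * n + 1 ∧
      Subalgebra.toSubmodule S = Submodule.span (PowerSeries k) {(1 : (AdjoinRoot (Polynomial.X ^ 2 - Polynomial.C (PowerSeries.X : PowerSeries k))))} ⊔
        Ideal.span {(PowerSeries.X : PowerSeries k) ^ n} • (⊤ : Submodule (PowerSeries k) (AdjoinRoot (Polynomial.X ^ 2 - Polynomial.C (PowerSeries.X : PowerSeries k))))) ∧
    (∀ n : ℕ, Subalgebra.toSubmodule S = Submodule.span (PowerSeries k) {(1 : (AdjoinRoot (Polynomial.X ^ 2 - Polynomial.C (PowerSeries.X : PowerSeries k))))} ⊔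
        Ideal.span {(PowerSeries.X : PowerSeries k) ^ n} • (⊤ : Submodule (PowerSeries k) (AdjoinRoot (Polynomial.X ^ 2 - Polynomial.C (PowerSeries.X : PowerSeries k)))) →
      Nonempty (S ≃ₐ[PowerSeries k] AdjoinRoot (Polynomial.X ^ 2 - Polynomial.C ((PowerSeries.X : PowerSeries k) ^ (2 * n + 1))))) := by
  have h2 := two_mul_inv (k := k)
  obtain ⟨b', h0, h1, hrr⟩ := exists_basis_root (PowerSeries.X : PowerSeries k)
  have hX : Irreducible (PowerSeries.X : PowerSeries k) := PowerSeries.X_prime.irreducible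
  have hsq : b' 1 * b' 1 = (PowerSeries.X : PowerSeries k) • (1 : AdjoinRoot (Polynomial.X ^ 2 - Polynomial.C (PowerSeries.X : PowerSeries k))) + (0 : PowerSeries k) • b' 1 := by
    rw [h1, hrr, zero_smul, add_zero, Algebra.algebraMap_eq_smul_one]
  have hdisc : Algebra.discr (PowerSeries k) b' = 4 * PowerSeries.X + 0 ^ 2 :=
    Groth.Agent.Lib.CrimpRank2H27.discr_eq b' h0 _ 0 hsq
  have hu4 : IsUnit (4 : PowerSeries k) := by
    have hu2 : IsUnit (2 : PowerSeries k) := IsUnit.of_mul_eq_one _ h2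
    have : (4 : PowerSeries k) = 2 * 2 := by norm_num
    rw [this]
    exact hu2.mul hu2
  have hspan : ∀ m : ℕ, Ideal.span {((PowerSeries.X : PowerSeries k) ^ m) ^ 2 * Algebra.discr (PowerSeries k) b'} =
      Ideal.span {(PowerSeries.X : PowerSeries k) ^ (2 * m + 1)} := by
    intro m
    have : ((PowerSeries.X : PowerSeries k) ^ m) ^ 2 * Algebra.discr (PowerSeries k) b' =
        4 * PowerSeries.X ^ (2 * m + 1) := by
      rw [hdisc]; ring
    rw [this, ← Ideal.span_singleton_mul_span_singleton, Ideal.span_singleton_eq_top.mpr hu4,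
      Ideal.top_mul]
  have hXm : ∀ m : ℕ, (PowerSeries.X : PowerSeries k) ^ m ≠ 0 := fun m => pow_ne_zero _ hX.ne_zero
  refine ⟨⟨?_, ?_⟩, ?_⟩
  · rintro ⟨bS, hbS⟩
    obtain ⟨m, hm⟩ := Groth.Agent.Lib.CrimpRank2H27.exists_form_of_basis PowerSeries.X hX b' h0 S bS
    refine ⟨m, ?_, hm⟩
    have := Groth.Agent.Lib.CrimpRank2H27.span_discr_of_form b' h0 S _ (hXm m) hm bS
    rw [hspan, hbS] at this
    exact Groth.Agent.Lib.CrimpRank2H27.pow_eq_of_span_eq hX this
  · rintro ⟨n, rfl, hS⟩
    obtain ⟨bS, -, -⟩ := Groth.Agent.Lib.CrimpRank2H27.exists_basis_of_form b' h0 S _ (hXm n) hS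
    refine ⟨bS, ?_⟩
    rw [Groth.Agent.Lib.CrimpRank2H27.span_discr_of_form b' h0 S _ (hXm n) hS bS, hspan]
  · intro n hS
    obtain ⟨bS, hb0, hb1⟩ := Groth.Agent.Lib.CrimpRank2H27.exists_basis_of_form b' h0 S _ (hXm n) hS
    refine Groth.Agent.Lib.CrimpRank2H27.nonempty_algEquiv_adjoinRoot bS (Subtype.ext hb0) _ ?_
    apply Subtype.ext
    rw [Subalgebra.coe_mul, hb1, Subalgebra.coe_algebraMap, h1, smul_mul_smul_comm, hrr,
      ← pow_add, Algebra.smul_def, ← map_mul]
    congr 1
    rw [← pow_succ]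
    congr 1
    omega

end Groth.Agent.S13881
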