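import Groth.Statements.S13882
-- import your own Groth.Agent.* helpers here

set_option autoImplicit false
universe u
open FinCov

namespace Groth.Agent.S13882

open MvPolynomial W4c1hurwitzcpt

/-- The index type of the generators: structure constants and unit coordinates. -/
abbrev Idx (d : ℕ) : Type := (Fin d × Fin d × Fin d) ⊕ Fin d

section

variable (K : Type u) [Field K] (d : ℕ)

/-- variable for the structure constant `c i j k` -/
noncomputable abbrev cX (i j k : Fin d) : MvPolynomial (Idx d) K := X (Sum.inl (i, j, k))

/-- variable for the unit coordinate `u i` -/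
noncomputable abbrev uX (i : Fin d) : MvPolynomial (Idx d) K := X (Sum.inr i)

/-- The relations: commutativity, associativity, unit. -/
def rels : Set (MvPolynomial (Idx d) K) :=
  {q | ∃ i j k, q = cX K d i j k - cX K d j i k} ∪
  {q | ∃ i j l m, q = (∑ k, cX K d i j k * cX K d k l m) - ∑ k, cX K d j l k * cX K d i k m} ∪
  {q | ∃ j m, q = (∑ i, uX K d i * cX K d i j m) - if j = m then 1 else 0}

/-- The representing algebra. -/
abbrev Rep : Type u := MvPolynomial (Idx d) K ⧸ Ideal.span (rels K d)

variable {K d}

/-- The evaluation attached to a based algebra structure. -/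
noncomputable def evalOf {A : Type u} [CommRing A] [Algebra K A] (s : BasedAlg d A) :
    MvPolynomial (Idx d) K →ₐ[K] A :=
  aeval (Sum.elim (fun t : Fin d × Fin d × Fin d => s.c t.1 t.2.1 t.2.2) s.u)

theorem evalOf_rels {A : Type u} [CommRing A] [Algebra K A] (s : BasedAlg d A) :
    ∀ q ∈ Ideal.span (rels K d), evalOf s q = 0 := by
  intro q hq
  have : Ideal.span (rels K d) ≤ RingHom.ker (evalOf (K := K) s).toRingHom := by
    rw [Ideal.span_le]
    rintro q ((⟨i, j, k, rfl⟩ | ⟨i, j, l, m, rfl⟩) | ⟨j, m, rfl⟩)
    · simp [evalOf, RingHom.mem_ker, s.comm i j k]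
    · simp [evalOf, RingHom.mem_ker, s.assoc i j l m]
    · have hu := s.unit j m
      by_cases hjm : j = m
      · simp [evalOf, RingHom.mem_ker, hjm] at hu ⊢
        rw [hu, sub_self]
      · simp [evalOf, RingHom.mem_ker, hjm] at hu ⊢
        rw [hu]
  exact this hq

/-- The structure attached to an algebra map out of the representing algebra. -/
noncomputable def structOf {A : Type u} [CommRing A] [Algebra K A] (φ : Rep K d →ₐ[K] A) :
    BasedAlg d A where
  c i j k := φ (Ideal.Quotient.mk _ (cX K d i j k))
  u i := φ (Ideal.Quotient.mk _ (uX K d i))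
  comm i j k := by
    have h := Ideal.Quotient.eq_zero_iff_mem.mpr
      (Ideal.subset_span (Or.inl (Or.inl ⟨i, j, k, rfl⟩)) : _ ∈ Ideal.span (rels K d))
    have h2 := congrArg φ h
    simpa only [map_sub, map_zero, sub_eq_zero] using h2
  assoc i j l m := by
    rw [← sub_eq_zero]
    have h := Ideal.Quotient.eq_zero_iff_mem.mpr
      (Ideal.subset_span (Or.inl (Or.inr ⟨i, j, l, m, rfl⟩)) : _ ∈ Ideal.span (rels K d))
    have h2 := congrArg φ h
    simpa only [map_sub, map_sum, map_mul, map_zero] using h2
  unit j m := by
    have h := Ideal.Quotient.eq_zero_iff_mem.mpr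
      (Ideal.subset_span (Or.inr ⟨j, m, rfl⟩) : _ ∈ Ideal.span (rels K d))
    have h2 := congrArg φ h
    simp only [map_sub, map_sum, map_mul, map_zero, sub_eq_zero] at h2
    rw [h2]
    split <;> simp

/-- The equivalence. -/
noncomputable def eta (A : Type u) [CommRing A] [Algebra K A] :
    (Rep K d →ₐ[K] A) ≃ BasedAlg d A where
  toFun := structOf
  invFun s := Ideal.Quotient.liftₐ _ (evalOf s) (evalOf_rels s)
  left_inv φ := by
    apply Ideal.Quotient.algHom_ext
    apply MvPolynomial.algHom_ext
    rintro (⟨i, j, k⟩ | i)
    · simp [evalOf, structOf]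
    · simp [evalOf, structOf]
  right_inv s := by
    ext
    · simp [evalOf, structOf]
    · simp [evalOf, structOf]

end

/-- Over a field K of characteristic zero, the functor that sends a K-scheme S to the set of isomorphism
classes of pairs (A, τ) of an O_S-algebra A and an O_S-module isomorphism τ from A to the free
module of rank d, equivalently to the set of commutative unital algebra structures on the rank-d
free module with its standard basis, is represented by an affine K-scheme of finite type. Stated on
affine K-schemes in one universe: there is a finitely generated commutative K-algebra B with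
bijections between K-algebra maps B → A and based algebra structures of rank d over A, natural in
the commutative K-algebra A. -/
theorem result (K : Type u) [Field K] [CharZero K] (d : ℕ) :
    ∃ (B : Type u) (_ : CommRing B) (_ : Algebra K B) (_ : Algebra.FiniteType K B)
      (η : ∀ (A : Type u) [CommRing A] [Algebra K A], (B →ₐ[K] A) ≃ W4c1hurwitzcpt.BasedAlg d A),
      ∀ (A A' : Type u) [CommRing A] [Algebra K A] [CommRing A'] [Algebra K A']
        (f : A →ₐ[K] A') (g : B →ₐ[K] A),
        η A' (f.comp g) = (η A g).map f.toRingHom := by
  refine ⟨Rep K d, inferInstance, inferInstance, inferInstance, fun A _ _ => eta A, ?_⟩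
  intro A A' _ _ _ _ f g
  ext <;> rfl

end Groth.Agent.S13882
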