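import Groth.Statements.S13885
import Groth.Agent.Lib.RootDiskBasis57
-- import your own Groth.Agent.* helpers here

set_option autoImplicit false
universe u
open Crimp

namespace Groth.Agent.S13885

/-- Over R = k⟦t⟧ with k an algebraically closed field of characteristic zero, let S' = k⟦x⟧ × R, where
k⟦x⟧ is regarded as an R-algebra through t ↦ x ^ 2, that is S' = R[x] / (x ^ 2 - t) ⊕ R, the smooth
simply ramified triple cover of the formal disk, with R embedded diagonally. If M is an R-submodule
of S' containing 1 which is free of rank 3, then M is spanned by 1, (f₁, 0) and (f₂, 0) for some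
power series f₁, f₂ whose x-adic valuations are distinct modulo 2. (Items (2) and (3) of the
published proposition, on the base change of M to R[s] / (s ^ 2 - t), are not restated.) -/
theorem result {k : Type u} [Field k] [IsAlgClosed k] [CharZero k]
    (M : Submodule (PowerSeries k) (W4c1hurwitzcpt.RootDisk 2 k × PowerSeries k))
    (h1 : (1 : (W4c1hurwitzcpt.RootDisk 2 k × PowerSeries k)) ∈ M)
    (bM : Module.Basis (Fin 3) (PowerSeries k) M) :
    ∃ f₁ f₂ : W4c1hurwitzcpt.RootDisk 2 k,
      ¬ Nat.ModEq 2 (PowerSeries.order (W4c1hurwitzcpt.RootDisk.val (f₁ : W4c1hurwitzcpt.RootDisk 2 k))).toNat (PowerSeries.order (W4c1hurwitzcpt.RootDisk.val (f₂ : W4c1hurwitzcpt.RootDisk 2 k))).toNat ∧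
      M = Submodule.span (PowerSeries k) {(1 : (W4c1hurwitzcpt.RootDisk 2 k × PowerSeries k)), (f₁, 0), (f₂, 0)} := by
  classical
  let inl := LinearMap.inl (PowerSeries k) (W4c1hurwitzcpt.RootDisk 2 k) (PowerSeries k)
  let M₀ : Submodule (PowerSeries k) (W4c1hurwitzcpt.RootDisk 2 k) := Submodule.comap inl M
  have hM₀ : ∀ u, u ∈ M₀ ↔ ((u, 0) : W4c1hurwitzcpt.RootDisk 2 k × PowerSeries k) ∈ M :=
    fun u => Iff.rfl
  -- decomposition
  have hdecomp : ∀ m ∈ M, ∃ r : PowerSeries k, ∃ u ∈ M₀,
      m = r • (1 : W4c1hurwitzcpt.RootDisk 2 k × PowerSeries k) + (u, 0) := by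
    intro m hm
    refine ⟨m.2, m.1 - m.2 • (1 : W4c1hurwitzcpt.RootDisk 2 k), ?_, ?_⟩
    · rw [hM₀]
      have h2 : m - m.2 • (1 : W4c1hurwitzcpt.RootDisk 2 k × PowerSeries k) ∈ M :=
        M.sub_mem hm (M.smul_mem _ h1)
      have h3 : m - m.2 • (1 : W4c1hurwitzcpt.RootDisk 2 k × PowerSeries k) =
          (m.1 - m.2 • (1 : W4c1hurwitzcpt.RootDisk 2 k), 0) := by
        refine Prod.ext ?_ ?_
        · simp
        · simp
      rw [← h3]
      exact h2
    · refine Prod.ext ?_ ?_
      · simp
      · simp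
  -- M₀ is spanned by the selected elements
  have hspan₀ := Groth.Agent.Lib.RootDiskBasis57.span_hsel M₀
  -- generating set of M
  let G : Finset (W4c1hurwitzcpt.RootDisk 2 k × PowerSeries k) :=
    insert 1 (Finset.univ.image fun r : Groth.Agent.Lib.RootDiskBasis57.Cls M₀ =>
      ((Groth.Agent.Lib.RootDiskBasis57.hsel M₀ r, 0) :
        W4c1hurwitzcpt.RootDisk 2 k × PowerSeries k))
  have hinl_mem : ∀ u ∈ M₀, ((u, 0) : W4c1hurwitzcpt.RootDisk 2 k × PowerSeries k) ∈
      Submodule.span (PowerSeries k) (Set.range fun r : Groth.Agent.Lib.RootDiskBasis57.Cls M₀ =>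
        ((Groth.Agent.Lib.RootDiskBasis57.hsel M₀ r, 0) :
          W4c1hurwitzcpt.RootDisk 2 k × PowerSeries k)) := by
    intro u hu
    rw [← hspan₀] at hu
    have : inl u ∈ Submodule.map inl (Submodule.span (PowerSeries k)
        (Set.range (Groth.Agent.Lib.RootDiskBasis57.hsel M₀))) := Submodule.mem_map_of_mem hu
    rw [Submodule.map_span, ← Set.range_comp] at this
    exact this
  have hMG : M = Submodule.span (PowerSeries k) (G : Set _) := by
    apply le_antisymm
    · intro m hm
      obtain ⟨r, u, hu, rfl⟩ := hdecomp m hm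
      apply Submodule.add_mem
      · apply Submodule.smul_mem
        apply Submodule.subset_span
        simp [G]
      · refine Submodule.span_mono ?_ (hinl_mem u hu)
        rintro _ ⟨r, rfl⟩
        simp [G]
    · rw [Submodule.span_le]
      intro x hx
      simp only [G, Finset.coe_insert, Finset.coe_image, Finset.coe_univ, Set.image_univ,
        Set.mem_insert_iff, Set.mem_range] at hx
      rcases hx with rfl | ⟨r, rfl⟩
      · exact h1
      · exact (hM₀ _).mp (Groth.Agent.Lib.RootDiskBasis57.hsel_mem M₀ r)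
  -- counting
  have hcard : 2 ≤ Fintype.card (Groth.Agent.Lib.RootDiskBasis57.Cls M₀) := by
    have h3 : Module.finrank (PowerSeries k) M = 3 := by
      rw [Module.finrank_eq_card_basis bM]; rfl
    have h4 := finrank_span_finset_le_card (R := PowerSeries k) G
    unfold Set.finrank at h4
    rw [← hMG, h3] at h4
    have h5 : G.card ≤ 1 + Fintype.card (Groth.Agent.Lib.RootDiskBasis57.Cls M₀) := by
      calc G.card ≤ (Finset.univ.image fun r : Groth.Agent.Lib.RootDiskBasis57.Cls M₀ =>
            ((Groth.Agent.Lib.RootDiskBasis57.hsel M₀ r, 0) :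
              W4c1hurwitzcpt.RootDisk 2 k × PowerSeries k)).card + 1 := Finset.card_insert_le _ _
        _ ≤ Fintype.card (Groth.Agent.Lib.RootDiskBasis57.Cls M₀) + 1 :=
            Nat.add_le_add_right Finset.card_image_le 1
        _ = _ := by ring
    omega
  have hall : ∀ r : Fin 2, ∃ n, n ∈ Groth.Agent.Lib.RootDiskBasis57.ordSet M₀ ∧ n % 2 = (r : ℕ) := by
    intro r
    by_contra hr
    have := Fintype.card_subtype_lt (p := fun r : Fin 2 =>
      ∃ n, n ∈ Groth.Agent.Lib.RootDiskBasis57.ordSet M₀ ∧ n % 2 = (r : ℕ)) hr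
    have hc : Fintype.card (Groth.Agent.Lib.RootDiskBasis57.Cls M₀) =
        Fintype.card {r : Fin 2 // ∃ n, n ∈ Groth.Agent.Lib.RootDiskBasis57.ordSet M₀ ∧
          n % 2 = (r : ℕ)} := Fintype.card_congr (Equiv.refl _)
    rw [hc] at hcard
    simp only [Fintype.card_fin] at this
    omega
  let r0 : Groth.Agent.Lib.RootDiskBasis57.Cls M₀ := ⟨0, hall 0⟩
  let r1 : Groth.Agent.Lib.RootDiskBasis57.Cls M₀ := ⟨1, hall 1⟩
  refine ⟨Groth.Agent.Lib.RootDiskBasis57.hsel M₀ r0, Groth.Agent.Lib.RootDiskBasis57.hsel M₀ r1,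
    ?_, ?_⟩
  · have ho : ∀ r : Groth.Agent.Lib.RootDiskBasis57.Cls M₀,
        (PowerSeries.order (W4c1hurwitzcpt.RootDisk.val
          (Groth.Agent.Lib.RootDiskBasis57.hsel M₀ r))).toNat =
          Groth.Agent.Lib.RootDiskBasis57.nmin M₀ r := by
      intro r
      show ((Groth.Agent.Lib.RootDiskBasis57.ps
        (Groth.Agent.Lib.RootDiskBasis57.hsel M₀ r)).order).toNat = _
      rw [Groth.Agent.Lib.RootDiskBasis57.hsel_order]
      rfl
    rw [ho r0, ho r1]
    unfold Nat.ModEq
    rw [(Groth.Agent.Lib.RootDiskBasis57.nmin_spec M₀ r0).2,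
      (Groth.Agent.Lib.RootDiskBasis57.nmin_spec M₀ r1).2]
    simp [r0, r1]
  · rw [hMG]
    congr 1
    ext x
    simp only [G, Finset.coe_insert, Finset.coe_image, Finset.coe_univ, Set.image_univ,
      Set.mem_insert_iff, Set.mem_range, Set.mem_singleton_iff]
    constructor
    · rintro (rfl | ⟨r, rfl⟩)
      · left; rfl
      · right
        have hr : r = r0 ∨ r = r1 := by
          have : (r.1 : Fin 2) = 0 ∨ (r.1 : Fin 2) = 1 := by
            have hlt := r.1.2
            rcases (by omega : (r.1 : ℕ) = 0 ∨ (r.1 : ℕ) = 1) with h | h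
            · left; exact Fin.ext h
            · right; exact Fin.ext h
          rcases this with h | h
          · left; exact Subtype.ext h
          · right; exact Subtype.ext h
        rcases hr with rfl | rfl
        · left; rfl
        · right; rfl
    · rintro (rfl | rfl | rfl)
      · left; rfl
      · right; exact ⟨r0, rfl⟩
      · right; exact ⟨r1, rfl⟩

end Groth.Agent.S13885
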