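import Mathlib
import Groth.Statements.S13886

set_option autoImplicit false
universe u
open Crimp

namespace Groth.Agent.S13886

section Helpers

open PowerSeries

variable {k : Type u} [Field k]

theorem exists_ij (f : Fin 3 → PowerSeries k)
    (hf : f ∉ Submodule.span (PowerSeries k) {(1 : (Fin 3 → PowerSeries k))} ⊔
      Ideal.span {(PowerSeries.X : PowerSeries k)} •
        (⊤ : Submodule (PowerSeries k) (Fin 3 → PowerSeries k))) :
    ∃ i j, constantCoeff (f i) ≠ constantCoeff (f j) := by
  by_contra h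
  simp only [not_exists, not_not] at h
  apply hf
  have hdvd : ∀ i, (X : PowerSeries k) ∣ f i - f 0 := fun i => by
    rw [PowerSeries.X_dvd_iff, map_sub, h i 0, sub_self]
  choose z hz using hdvd
  rw [Submodule.mem_sup]
  refine ⟨(f 0) • 1, Submodule.smul_mem _ _ (Submodule.subset_span rfl), (X : PowerSeries k) • z,
    Submodule.smul_mem_smul (Ideal.subset_span rfl) trivial, ?_⟩
  funext i
  simp only [Pi.add_apply, Pi.smul_apply, Pi.one_apply, smul_eq_mul, mul_one]
  rw [← hz i]; ring

theorem mem_S_iff (m n : ℕ) (f x : Fin 3 → PowerSeries k) :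
    x ∈ Submodule.span (PowerSeries k)
        {(1 : (Fin 3 → PowerSeries k)), ((PowerSeries.X : PowerSeries k) ^ m) • f} ⊔
        Ideal.span {(PowerSeries.X : PowerSeries k) ^ n} •
          (⊤ : Submodule (PowerSeries k) (Fin 3 → PowerSeries k)) ↔
      ∃ a b : PowerSeries k, ∃ z : Fin 3 → PowerSeries k,
        x = a • 1 + b • (((PowerSeries.X : PowerSeries k) ^ m) • f) +
          ((PowerSeries.X : PowerSeries k) ^ n) • z := by
  rw [Submodule.mem_sup]
  constructor
  · rintro ⟨y, hy, w, hw, rfl⟩
    rw [Submodule.mem_span_pair] at hy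
    obtain ⟨a, b, rfl⟩ := hy
    rw [Submodule.ideal_span_singleton_smul, Submodule.mem_smul_pointwise_iff_exists] at hw
    obtain ⟨z, -, rfl⟩ := hw
    exact ⟨a, b, z, rfl⟩
  · rintro ⟨a, b, z, rfl⟩
    exact ⟨_, Submodule.mem_span_pair.2 ⟨a, b, rfl⟩, _,
      Submodule.smul_mem_smul (Ideal.subset_span rfl) trivial, rfl⟩

theorem third (i j : Fin 3) (h : i ≠ j) :
    ∃ l : Fin 3, l ≠ i ∧ l ≠ j ∧ ∀ q : Fin 3, q = i ∨ q = j ∨ q = l := by
  revert i j; decide

end Helpers

/-- Over R = k⟦t⟧ with k an algebraically closed field of characteristic zero, let S' = R × R × R be the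
unramified triple cover of the formal disk and let m ≤ n ≤ 2m be natural numbers. For every f in S'
not lying in R·1 + t S', the R-submodule S = R·1 + R·(t ^ m f) + t ^ n S' is closed under
multiplication, hence an R-subalgebra (a crimp), and S' / S is isomorphic to R / (t ^ m) ⊕ R / (t ^
n) (so the crimp has μ-invariant n - m and branch divisor (t ^ (2(m+n)))). Together with the
structure result for submodules with this quotient, this identifies the k-points of the space of
crimps of splitting type (m, n), 2m ≥ n, with the submodules of this shape. (The published statement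
moreover asserts that this stratum is an irreducible variety of dimension n - m; that part is not
restated.) -/
theorem result {k : Type u} [Field k] [IsAlgClosed k] [CharZero k]
    (m n : ℕ) (hmn : m ≤ n) (hn : n ≤ 2 * m)
    (f : (Fin 3 → PowerSeries k)) (hf : f ∉ Submodule.span (PowerSeries k) {(1 : (Fin 3 → PowerSeries k))} ⊔ Ideal.span {(PowerSeries.X : PowerSeries k)} • (⊤ : Submodule (PowerSeries k) (Fin 3 → PowerSeries k)))
    (S : Submodule (PowerSeries k) (Fin 3 → PowerSeries k))
    (hS : S = Submodule.span (PowerSeries k) {(1 : (Fin 3 → PowerSeries k)), ((PowerSeries.X : PowerSeries k) ^ m) • f} ⊔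
        Ideal.span {(PowerSeries.X : PowerSeries k) ^ n} • (⊤ : Submodule (PowerSeries k) (Fin 3 → PowerSeries k))) :
    (∀ x ∈ S, ∀ y ∈ S, x * y ∈ S) ∧
    Nonempty (((Fin 3 → PowerSeries k) ⧸ S) ≃ₗ[PowerSeries k]
      ((PowerSeries k ⧸ Ideal.span {(PowerSeries.X : PowerSeries k) ^ m}) × (PowerSeries k ⧸ Ideal.span {(PowerSeries.X : PowerSeries k) ^ n}))) := by
  subst hS
  refine ⟨?_, ?_⟩
  · intro x hx y hy
    obtain ⟨a, b, z, rfl⟩ := (mem_S_iff m n f x).1 hx
    obtain ⟨a', b', z', rfl⟩ := (mem_S_iff m n f y).1 hy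
    apply (mem_S_iff m n f _).2
    have hpow : (PowerSeries.X : PowerSeries k) ^ m * PowerSeries.X ^ m =
        PowerSeries.X ^ n * PowerSeries.X ^ (2 * m - n) := by
      rw [← pow_add, ← pow_add]; congr 1; omega
    refine ⟨a * a', a * b' + a' * b,
      (b * b' * PowerSeries.X ^ (2 * m - n)) • (f * f) + a • z' + a' • z +
        (b * PowerSeries.X ^ m) • (f * z') + (b' * PowerSeries.X ^ m) • (f * z) +
        ((PowerSeries.X : PowerSeries k) ^ n) • (z * z'), ?_⟩
    funext q
    simp only [Pi.add_apply, Pi.mul_apply, Pi.smul_apply, Pi.one_apply, smul_eq_mul, mul_one]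
    linear_combination (b * b' * f q * f q) * hpow
  · obtain ⟨i, j, hij⟩ := exists_ij f hf
    have hne : i ≠ j := fun h => hij (by rw [h])
    obtain ⟨l, hli, hlj, hall⟩ := third i j hne
    have hu : IsUnit (f i - f j) := by
      rw [PowerSeries.isUnit_iff_constantCoeff, map_sub]
      exact isUnit_iff_ne_zero.2 (sub_ne_zero.2 hij)
    obtain ⟨u, hu'⟩ := hu
    -- coordinate functionals
    let bL : (Fin 3 → PowerSeries k) →ₗ[PowerSeries k] PowerSeries k :=
      ((u⁻¹ : (PowerSeries k)ˣ) : PowerSeries k) •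
        ((LinearMap.proj i : (Fin 3 → PowerSeries k) →ₗ[PowerSeries k] PowerSeries k) -
          (LinearMap.proj j : (Fin 3 → PowerSeries k) →ₗ[PowerSeries k] PowerSeries k))
    let aL : (Fin 3 → PowerSeries k) →ₗ[PowerSeries k] PowerSeries k :=
      (LinearMap.proj i : (Fin 3 → PowerSeries k) →ₗ[PowerSeries k] PowerSeries k) - (f i) • bL
    let cL : (Fin 3 → PowerSeries k) →ₗ[PowerSeries k] PowerSeries k :=
      (LinearMap.proj l : (Fin 3 → PowerSeries k) →ₗ[PowerSeries k] PowerSeries k) - aL - (f l) • bL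
    have hb : ∀ x, bL x = ((u⁻¹ : (PowerSeries k)ˣ) : PowerSeries k) * (x i - x j) := fun x => rfl
    have ha : ∀ x, aL x = x i - f i * bL x := fun x => rfl
    have hc : ∀ x, cL x = x l - aL x - f l * bL x := fun x => rfl
    have huinv : ((u⁻¹ : (PowerSeries k)ˣ) : PowerSeries k) * (f i - f j) = 1 := by
      rw [← hu']; exact Units.inv_mul u
    -- decomposition
    have hdecomp : ∀ x : Fin 3 → PowerSeries k,
        x = aL x • 1 + bL x • f + cL x • Pi.single l 1 := by
      intro x
      funext q
      simp only [Pi.add_apply, Pi.smul_apply, Pi.one_apply, smul_eq_mul, mul_one]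
      rcases hall q with rfl | rfl | rfl
      · rw [Pi.single_eq_of_ne hli.symm, ha]; ring
      · rw [Pi.single_eq_of_ne hlj.symm, ha, hb]
        linear_combination (x i - x q) * huinv
      · rw [Pi.single_eq_same, hc]; ring
    have hb1 : bL 1 = 0 := by rw [hb]; simp
    have hbf : bL f = 1 := by rw [hb]; exact huinv
    have ha1 : aL 1 = 1 := by rw [ha, hb1]; simp
    have haf : aL f = 0 := by rw [ha, hbf]; ring
    have hc1 : cL 1 = 0 := by rw [hc, ha1, hb1]; simp
    have hcf : cL f = 0 := by rw [hc, haf, hbf]; ring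
    let Φ : (Fin 3 → PowerSeries k) →ₗ[PowerSeries k]
        ((PowerSeries k ⧸ Ideal.span {(PowerSeries.X : PowerSeries k) ^ m}) ×
          (PowerSeries k ⧸ Ideal.span {(PowerSeries.X : PowerSeries k) ^ n})) :=
      LinearMap.prod ((Submodule.mkQ (Ideal.span {(PowerSeries.X : PowerSeries k) ^ m})).comp bL)
        ((Submodule.mkQ (Ideal.span {(PowerSeries.X : PowerSeries k) ^ n})).comp cL)
    have hΦ : ∀ x, Φ x = (Submodule.Quotient.mk (bL x), Submodule.Quotient.mk (cL x)) := fun x => rfl
    have hsurj : Function.Surjective Φ := by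
      rintro ⟨β, γ⟩
      obtain ⟨β', rfl⟩ := Submodule.Quotient.mk_surjective _ β
      obtain ⟨γ', rfl⟩ := Submodule.Quotient.mk_surjective _ γ
      refine ⟨β' • f + γ' • Pi.single l 1, ?_⟩
      have hbs : bL (Pi.single l 1) = 0 := by
        rw [hb, Pi.single_eq_of_ne hli.symm, Pi.single_eq_of_ne hlj.symm]; simp
      have has : aL (Pi.single l 1) = 0 := by
        rw [ha, hbs, Pi.single_eq_of_ne hli.symm]; simp
      have hcs : cL (Pi.single l 1) = 1 := by
        rw [hc, has, hbs, Pi.single_eq_same]; simp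
      rw [hΦ, map_add, map_add, map_smul, map_smul, map_smul, map_smul, hbf, hbs, hcf, hcs]
      simp
    have hker : Submodule.span (PowerSeries k)
        {(1 : (Fin 3 → PowerSeries k)), ((PowerSeries.X : PowerSeries k) ^ m) • f} ⊔
        Ideal.span {(PowerSeries.X : PowerSeries k) ^ n} •
          (⊤ : Submodule (PowerSeries k) (Fin 3 → PowerSeries k)) = LinearMap.ker Φ := by
      ext x
      rw [mem_S_iff m n f, LinearMap.mem_ker, hΦ, Prod.mk_eq_zero, Submodule.Quotient.mk_eq_zero,
        Submodule.Quotient.mk_eq_zero, Ideal.mem_span_singleton', Ideal.mem_span_singleton']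
      constructor
      · rintro ⟨a, b, z, rfl⟩
        refine ⟨⟨b + PowerSeries.X ^ (n - m) * bL z, ?_⟩, ⟨cL z, ?_⟩⟩
        · rw [map_add, map_add, map_smul, map_smul, map_smul, map_smul, hb1, hbf]
          have : (PowerSeries.X : PowerSeries k) ^ n = PowerSeries.X ^ (n - m) * PowerSeries.X ^ m := by
            rw [← pow_add]; congr 1; omega
          simp only [smul_eq_mul, mul_zero, mul_one, zero_add]
          rw [this]; ring
        · rw [map_add, map_add, map_smul, map_smul, map_smul, map_smul, hc1, hcf]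
          simp only [smul_eq_mul, mul_zero, zero_add]
          ring
      · rintro ⟨⟨b', hb'⟩, ⟨c', hc'⟩⟩
        refine ⟨aL x, b', c' • Pi.single l 1, ?_⟩
        conv_lhs => rw [hdecomp x]
        rw [← hb', ← hc']
        funext q
        simp only [Pi.add_apply, Pi.smul_apply, Pi.one_apply, smul_eq_mul, mul_one]
        ring
    exact ⟨(Submodule.quotEquivOfEq _ _ hker).trans (Φ.quotKerEquivOfSurjective hsurj)⟩

end Groth.Agent.S13886
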