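import Groth.Statements.S13888
import Groth.Agent.Lib.DTenAssoc

set_option autoImplicit false
universe u
open CategoryTheory CategoryTheory.Limits MonoidalCategory
attribute [local instance] HasDerivedCategory.standard
open DTen

namespace Groth.Agent.S13888

/-- For a commutative ring `A` (assuming the derived tensor product on `D(A)` with its triple version
exists, that its symmetry, unit and associativity maps are isomorphisms, and that every `- ⊗^L L`
has a right adjoint `RHom(L, -)`) and objects `K`, `L`, `M` of `D(A)`, the canonical morphism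
`RHom(K ⊗^L L, M) ⟶ RHom(K, RHom(L, M))`, namely the double adjunct of the associativity isomorphism
followed by evaluation at `K ⊗^L L`, is an isomorphism. (Functoriality in the three objects is built
into the construction; the identification on `H^0` with the hom bijection of the adjunction is not
part of this row.) -/
theorem result (A : Type u) [CommRing A] [DTen.HasLTen A] [DTen.HasLTen₃ A]
    [DTen.IsSymMonoidal A] [DTen.HasRHom A] (K L M : Dual.D A) :
    IsIso (DTen.curryHom K L M) := by
  refine isIso_of_yoneda_map_bijective _ (fun X => ?_)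
  -- postcomposition with `curryHom` is a composite of bijections
  have key : ∀ φ : X ⟶ (RHomR A ((LTen₂ A).obj (K, L))).obj M,
      φ ≫ DTen.curryHom K L M =
        rhomHomEquiv _ _ _ (rhomHomEquiv _ _ _
          ((DTen.associator X K L).hom ≫ (rhomHomEquiv X ((LTen₂ A).obj (K, L)) M).symm φ)) := by
    intro φ
    have h1 : φ ≫ DTen.curryHom K L M =
        rhomHomEquiv _ _ _ ((LTen₂ A).map (Prod.mkHom φ (𝟙 K)) ≫
          rhomHomEquiv _ _ _ (DTen.curryHomAux K L M)) :=
      ((rhomAdj A K).homEquiv_naturality_left φ _).symm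
    have h2 : (LTen₂ A).map (Prod.mkHom φ (𝟙 K)) ≫ rhomHomEquiv _ _ _ (DTen.curryHomAux K L M) =
        rhomHomEquiv _ _ _ ((LTen₂ A).map (Prod.mkHom ((LTen₂ A).map (Prod.mkHom φ (𝟙 K))) (𝟙 L)) ≫
          DTen.curryHomAux K L M) :=
      ((rhomAdj A L).homEquiv_naturality_left ((LTen₂ A).map (Prod.mkHom φ (𝟙 K))) _).symm
    have h3 : (LTen₂ A).map (Prod.mkHom ((LTen₂ A).map (Prod.mkHom φ (𝟙 K))) (𝟙 L)) ≫
          DTen.curryHomAux K L M =
        (DTen.associator X K L).hom ≫ (rhomHomEquiv X ((LTen₂ A).obj (K, L)) M).symm φ := by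
      have hn := Groth.Agent.Lib.DTenAssoc.associator_naturality φ (𝟙 K) (𝟙 L)
      have hid : (LTen₂ A).map (Prod.mkHom (𝟙 K) (𝟙 L)) = 𝟙 ((LTen₂ A).obj (K, L)) :=
        (LTen₂ A).map_id (K, L)
      rw [hid] at hn
      unfold DTen.curryHomAux
      rw [← Category.assoc, hn, Category.assoc]
      rfl
    rw [h1, h2, h3]
  have hbij : Function.Bijective (fun φ : X ⟶ (RHomR A ((LTen₂ A).obj (K, L))).obj M =>
      rhomHomEquiv _ _ _ (rhomHomEquiv _ _ _
          ((DTen.associator X K L).hom ≫ (rhomHomEquiv X ((LTen₂ A).obj (K, L)) M).symm φ))) := by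
    refine (Equiv.bijective _).comp ((Equiv.bijective _).comp (Function.Bijective.comp ?_
      (Equiv.bijective (rhomHomEquiv X ((LTen₂ A).obj (K, L)) M).symm)))
    exact (Iso.homFromEquiv (DTen.associator X K L).symm).bijective
  convert hbij using 1
  funext φ
  exact key φ

end Groth.Agent.S13888
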