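import Groth.Statements.S1389
import Mathlib.AlgebraicGeometry.Morphisms.FormallyUnramified

set_option autoImplicit false
universe u
open FlatMor

namespace Groth.Agent.S1389

open AlgebraicGeometry CategoryTheory Limits in
/-- Let (U, u) and (U', u') be étale neighbourhoods of a point s of S and h₁, h₂ two S-morphisms U → U'
sending u to u' which induce the same map of residue fields κ(u') → κ(u). Then there is an étale
neighbourhood (U'', u'') of s with an S-morphism h : U'' → U sending u'' to u and with h followed by
h₁ equal to h followed by h₂. -/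
theorem result {S U U' : Scheme.{u}} (s : S) (g : U ⟶ S) (g' : U' ⟶ S) [Etale g] [Etale g'] (u : U) (u' : U')
    (hu : g u = s) (hu' : g' u' = s) (h₁ h₂ : U ⟶ U') (w₁ : h₁ ≫ g' = g) (w₂ : h₂ ≫ g' = g) (e₁ : h₁ u = u') (e₂ : h₂ u = u')
    (hres : (U'.residueFieldCongr e₁).inv ≫ h₁.residueFieldMap u = (U'.residueFieldCongr e₂).inv ≫ h₂.residueFieldMap u) :
    ∃ (U'' : Scheme.{u}) (g'' : U'' ⟶ S) (u'' : U'') (h : U'' ⟶ U), Etale g'' ∧ g'' u'' = s ∧ h ≫ g = g'' ∧ h u'' = u ∧ h ≫ h₁ = h ≫ h₂ := by
  have hΔ : IsOpenImmersion (pullback.diagonal g') := inferInstance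
  have key : U.fromSpecResidueField u ≫ h₁ = U.fromSpecResidueField u ≫ h₂ := by
    have a₁ : U.fromSpecResidueField u ≫ h₁ =
        Spec.map ((U'.residueFieldCongr e₁).inv ≫ h₁.residueFieldMap u) ≫
          U'.fromSpecResidueField u' := by
      rw [Spec.map_comp, Category.assoc, Scheme.residueFieldCongr_inv,
        Scheme.residueFieldCongr_fromSpecResidueField,
        Scheme.Hom.SpecMap_residueFieldMap_fromSpecResidueField]
    have a₂ : U.fromSpecResidueField u ≫ h₂ =
        Spec.map ((U'.residueFieldCongr e₂).inv ≫ h₂.residueFieldMap u) ≫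
          U'.fromSpecResidueField u' := by
      rw [Spec.map_comp, Category.assoc, Scheme.residueFieldCongr_inv,
        Scheme.residueFieldCongr_fromSpecResidueField,
        Scheme.Hom.SpecMap_residueFieldMap_fromSpecResidueField]
    rw [a₁, a₂, hres]
  set k : U ⟶ pullback g' g' := pullback.lift h₁ h₂ (w₁.trans w₂.symm) with hk
  have hk1 : k ≫ pullback.fst g' g' = h₁ := pullback.lift_fst _ _ _
  have hk2 : k ≫ pullback.snd g' g' = h₂ := pullback.lift_snd _ _ _
  have hφ : U.fromSpecResidueField u ≫ k =
      (U.fromSpecResidueField u ≫ h₁) ≫ pullback.diagonal g' := by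
    apply pullback.hom_ext
    · simp only [Category.assoc, hk1, pullback.diagonal_fst, Category.comp_id]
    · simp only [Category.assoc, hk2, pullback.diagonal_snd, Category.comp_id, key]
  let φ : Spec (U.residueField u) ⟶ pullback k (pullback.diagonal g') :=
    pullback.lift (U.fromSpecResidueField u) (U.fromSpecResidueField u ≫ h₁) hφ
  obtain ⟨pt⟩ : Nonempty (Spec (U.residueField u)) := inferInstance
  have hpt : pullback.fst k (pullback.diagonal g') (φ pt) = u := by
    rw [← Scheme.Hom.comp_apply, pullback.lift_fst, Scheme.fromSpecResidueField_apply]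
  refine ⟨pullback k (pullback.diagonal g'), pullback.fst k (pullback.diagonal g') ≫ g, φ pt,
    pullback.fst k (pullback.diagonal g'), inferInstance, ?_, rfl, hpt, ?_⟩
  · rw [Scheme.Hom.comp_apply, hpt, hu]
  · have c₁ : pullback.fst k (pullback.diagonal g') ≫ h₁ = pullback.snd k (pullback.diagonal g') := by
      have := pullback.condition (f := k) (g := pullback.diagonal g') =≫ pullback.fst g' g'
      simpa only [Category.assoc, hk1, pullback.diagonal_fst, Category.comp_id] using this
    have c₂ : pullback.fst k (pullback.diagonal g') ≫ h₂ = pullback.snd k (pullback.diagonal g') := by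
      have := pullback.condition (f := k) (g := pullback.diagonal g') =≫ pullback.snd g' g'
      simpa only [Category.assoc, hk2, pullback.diagonal_snd, Category.comp_id] using this
    rw [c₁, c₂]

end Groth.Agent.S1389
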