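import Groth.Statements.S13903
import Mathlib
import Groth.Agent.Lib.H2PrimElt

set_option autoImplicit false
universe u
open EtAlg

namespace Groth.Agent.S13903

open Groth.Agent.Lib.H2PrimElt Module

theorem result' (K L : Type u) [Field K] [CommRing L]
    [Algebra K L] [Module.Finite K L] [IsReduced L] [Algebra.IsSeparable K L] (z t : L)
    (hgen : Algebra.adjoin K ({z, t} : Set L) = ⊤) (S : Finset K)
    (hS : Module.finrank K L ^ (4 * Module.finrank K L) ≤ S.card) :
    ∃ c ∈ S, Algebra.adjoin K ({c • z + t} : Set L) = ⊤ := by
  classical
  have hfinH : Finite (L →ₐ[K] AlgebraicClosure K) := inferInstance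
  have := Fintype.ofFinite (L →ₐ[K] AlgebraicClosure K)
  have hcard : Fintype.card (L →ₐ[K] AlgebraicClosure K) = finrank K L := by
    rw [Fintype.card_eq_nat_card]
    exact le_antisymm (card_algHom_le_finrank K L (AlgebraicClosure K))
      (finrank_le_card_algHom K L (AlgebraicClosure K))
  -- bad sets
  let B : (L →ₐ[K] AlgebraicClosure K) × (L →ₐ[K] AlgebraicClosure K) → Finset K :=
    fun p => S.filter (fun c => p.1 (c • z + t) = p.2 (c • z + t))
  have hB : ∀ p ∈ (Finset.univ : Finset (L →ₐ[K] AlgebraicClosure K)).offDiag, (B p).card ≤ 1 := by
    intro p hp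
    rw [Finset.mem_offDiag] at hp
    rw [Finset.card_le_one]
    intro c hc c' hc'
    simp only [B, Finset.mem_filter] at hc hc'
    by_contra hne
    apply hp.2.2
    have h1 := hc.2
    have h2 := hc'.2
    simp only [map_add, map_smul] at h1 h2
    have h3 : (c - c') • (p.1 z - p.2 z) = 0 := by
      have : c • p.1 z - c' • p.1 z = c • p.2 z - c' • p.2 z := by
        have e1 : c • p.1 z = c • p.2 z + p.2 t - p.1 t := by rw [← h1]; ring
        have e2 : c' • p.1 z = c' • p.2 z + p.2 t - p.1 t := by rw [← h2]; ring
        rw [e1, e2]; ring
      rw [sub_smul, smul_sub, smul_sub]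
      linear_combination this
    have h4 : p.1 z = p.2 z := by
      rcases smul_eq_zero.mp h3 with h | h
      · exact absurd (sub_eq_zero.mp h) hne
      · exact sub_eq_zero.mp h
    have h5 : p.1 t = p.2 t := by
      rw [h4] at h1
      exact add_left_cancel h1
    apply AlgHom.ext_of_adjoin_eq_top hgen
    intro x hx
    rcases hx with rfl | rfl
    · exact h4
    · exact h5
  let bad : Finset K := (Finset.univ : Finset (L →ₐ[K] AlgebraicClosure K)).offDiag.biUnion B
  have hbad : bad.card < S.card := by
    have h1 : bad.card ≤ (Finset.univ : Finset (L →ₐ[K] AlgebraicClosure K)).offDiag.card * 1 :=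
      Finset.card_biUnion_le_card_mul _ _ _ hB
    rw [mul_one, Finset.offDiag_card, Finset.card_univ, hcard] at h1
    refine lt_of_le_of_lt h1 (lt_of_lt_of_le ?_ hS)
    set d := finrank K L
    rcases Nat.eq_zero_or_pos d with h0 | hpos
    · rw [h0]; simp
    · have h2 : d * d ≤ d ^ (4 * d) := by
        rw [← pow_two]
        exact Nat.pow_le_pow_right hpos (by omega)
      have h3 : d * d - d < d * d := Nat.sub_lt (Nat.mul_pos hpos hpos) hpos
      omega
  obtain ⟨c, hcS, hcbad⟩ := Finset.exists_mem_notMem_of_card_lt_card hbad
  refine ⟨c, hcS, ?_⟩
  set w := c • z + t with hw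
  have hinj : Function.Injective (fun σ : L →ₐ[K] AlgebraicClosure K => σ w) := by
    intro σ τ h
    by_contra hne
    apply hcbad
    rw [Finset.mem_biUnion]
    refine ⟨(σ, τ), ?_, ?_⟩
    · rw [Finset.mem_offDiag]; exact ⟨Finset.mem_univ _, Finset.mem_univ _, hne⟩
    · simp only [B, Finset.mem_filter]
      exact ⟨hcS, h⟩
  have hint : IsIntegral K w := IsIntegral.of_finite K w
  have hne0 : minpoly K w ≠ 0 := minpoly.ne_zero hint
  have hdeg : finrank K L ≤ (minpoly K w).natDegree := by
    rw [← hcard]
    calc Fintype.card (L →ₐ[K] AlgebraicClosure K)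
        = (Finset.univ : Finset (L →ₐ[K] AlgebraicClosure K)).card := rfl
      _ ≤ ((minpoly K w).map (algebraMap K (AlgebraicClosure K))).roots.toFinset.card := by
          apply Finset.card_le_card_of_injOn (fun σ => σ w)
          · intro σ _
            rw [Finset.mem_coe, Multiset.mem_toFinset]
            rw [Polynomial.mem_roots (Polynomial.map_ne_zero hne0), Polynomial.IsRoot,
              Polynomial.eval_map, ← Polynomial.aeval_def, Polynomial.aeval_algHom_apply,
              minpoly.aeval, map_zero]
          · exact hinj.injOn
      _ ≤ ((minpoly K w).map (algebraMap K (AlgebraicClosure K))).roots.card :=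
          Multiset.toFinset_card_le _
      _ ≤ ((minpoly K w).map (algebraMap K (AlgebraicClosure K))).natDegree :=
          Polynomial.card_roots' _
      _ = (minpoly K w).natDegree := Polynomial.natDegree_map _
  have hfr : finrank K (Algebra.adjoin K ({w} : Set L)) = (minpoly K w).natDegree :=
    (Algebra.adjoin.powerBasis hint).finrank
  rw [← Algebra.toSubmodule_eq_top]
  apply Submodule.eq_top_of_finrank_eq
  apply le_antisymm (Submodule.finrank_le _)
  show finrank K L ≤ finrank K (Algebra.adjoin K ({w} : Set L))
  rw [hfr]
  exact hdeg


/-- Let K be a field and L a finite-dimensional reduced commutative K-algebra of dimension d all of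
whose elements are separable over K, generated as a K-algebra by z and t. In any finite set of at
least d^(4d) elements of K there is an element c such that c • z + t generates L as a K-algebra.
(The published statement does not require separability; for K of characteristic p and L obtained by
adjoining p-th roots of two independent indeterminates, L is a reduced finite K-algebra generated by
two elements with no single generator, so separability over K is assumed here, as the counting in
the published proof requires.) -/
theorem result (K L : Type u) [Field K] [CommRing L]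
    [Algebra K L] [Module.Finite K L] [IsReduced L] [Algebra.IsSeparable K L] (z t : L)
    (hgen : Algebra.adjoin K ({z, t} : Set L) = ⊤) (S : Finset K)
    (hS : Module.finrank K L ^ (4 * Module.finrank K L) ≤ S.card) :
    ∃ c ∈ S, Algebra.adjoin K ({c • z + t} : Set L) = ⊤ := by
  exact result' K L z t hgen S hS

end Groth.Agent.S13903
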