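import Groth.Statements.S13904
import Groth.Agent.Lib.FTDim

set_option autoImplicit false
universe u
open CAlg

namespace Groth.Agent.S13904

/-- Let k be a field, A a commutative k-algebra and φ : k[x_1, …, x_r] → A a finite k-algebra map such
that A/p has Krull dimension r for every minimal prime p of A (an equidimensional affine scheme of
dimension r, finite over affine r-space). Then for every minimal prime p of A and every prime q of
k[x_1, …, x_r] there is a prime P ⊇ p of A with φ⁻¹(P) = q: the finite map restricted to each
irreducible component of Spec A is surjective onto affine r-space. (The published statement is over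
an algebraically closed field with φ a Noether normalisation; this row allows any field and any
finite k-algebra map φ.) -/
theorem result (k : Type u) [Field k] (r : ℕ)
    (A : Type u) [CommRing A] [Algebra k A] (φ : MvPolynomial (Fin r) k →ₐ[k] A)
    (hφ : φ.toRingHom.Finite)
    (hdim : ∀ p ∈ minimalPrimes A, ringKrullDim (A ⧸ p) = r)
    (p : Ideal A) (hp : p ∈ minimalPrimes A)
    (q : Ideal (MvPolynomial (Fin r) k)) [q.IsPrime] :
    ∃ P : Ideal A, P.IsPrime ∧ p ≤ P ∧ P.comap φ.toRingHom = q := by
  classical
  have hpp : p.IsPrime := hp.1.1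
  letI : Algebra (MvPolynomial (Fin r) k) A := φ.toRingHom.toAlgebra
  have hint : Algebra.IsIntegral (MvPolynomial (Fin r) k) A := by
    have : φ.toRingHom.IsIntegral := hφ.to_isIntegral
    exact ⟨this⟩
  have halg : algebraMap (MvPolynomial (Fin r) k) A = φ.toRingHom := rfl
  -- the contraction of `p` is zero
  have hbot : p.comap (algebraMap (MvPolynomial (Fin r) k) A) = ⊥ := by
    by_contra hne
    obtain ⟨x, hx, hx0⟩ := Submodule.exists_mem_ne_zero_of_ne_bot hne
    have h1 : ringKrullDim (MvPolynomial (Fin r) k ⧸ p.comap (algebraMap (MvPolynomial (Fin r) k) A)) =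
        ringKrullDim (A ⧸ p) :=
      Groth.Agent.Lib.FTDim.ringKrullDim_eq_of_isIntegral_of_injective
        Ideal.algebraMap_quotient_injective
    have h2 : ringKrullDim (MvPolynomial (Fin r) k ⧸ p.comap (algebraMap (MvPolynomial (Fin r) k) A)) + 1
        ≤ ringKrullDim (MvPolynomial (Fin r) k) :=
      ringKrullDim_succ_le_of_surjective (Ideal.Quotient.mk _) Ideal.Quotient.mk_surjective
        (mem_nonZeroDivisors_of_ne_zero hx0) (Ideal.Quotient.eq_zero_iff_mem.mpr hx)
    rw [h1, hdim p hp, Groth.Agent.Lib.FTDim.ringKrullDim_mvPolynomial] at h2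
    have h3 : ((r + 1 : ℕ) : WithBot ℕ∞) ≤ (r : ℕ) := by exact_mod_cast h2
    have h4 : r + 1 ≤ r := by exact_mod_cast h3
    omega
  obtain ⟨Q, hQp, hQprime, hQ⟩ := Ideal.exists_ideal_over_prime_of_isIntegral q p
    (by rw [hbot]; exact bot_le)
  exact ⟨Q, hQprime, hQp, hQ⟩

end Groth.Agent.S13904
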