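import Groth.Statements.S13905
import Mathlib.LinearAlgebra.FiniteDimensional.Lemmas
import Mathlib.LinearAlgebra.FiniteDimensional.Basic

set_option autoImplicit false
universe u
open ProjGeom

namespace Groth.Agent.S13905

/-- A hyperplane `H` (in an `(n+1)`-dimensional space) cuts the dimension of a subspace `W ⊄ H`
by exactly one. -/
lemma finrank_inf_add_one {k V : Type u} [Field k] [AddCommGroup V] [Module k V]
    [FiniteDimensional k V] (n : ℕ) (hV : Module.finrank k V = n + 1) (H W : Submodule k V)
    (hH : Module.finrank k H = n) (hW : ¬ W ≤ H) :
    Module.finrank k ↥(H ⊓ W) + 1 = Module.finrank k W := by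
  have hlt : H < H ⊔ W := by
    refine lt_of_le_of_ne le_sup_left fun h => hW ?_
    rw [h]; exact le_sup_right
  have h1 : n < Module.finrank k ↥(H ⊔ W) := hH ▸ Submodule.finrank_lt_finrank_of_lt hlt
  have h2 : Module.finrank k ↥(H ⊔ W) ≤ n + 1 := hV ▸ Submodule.finrank_le _
  have h3 := Submodule.finrank_sup_add_finrank_inf_eq H W
  omega


open W4c1etcurveeff3b in
/-- Hyperplanes of projective n-space in general position, in linear-algebra form (V of dimension n + 1
over a field k, hyperplanes as n-dimensional subspaces, points as nonzero vectors): if S is a finite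
set of hyperplanes in general position with at least n members and H is a hyperplane containing none
of the lines cut out by n members of S, then S with H added is again in general position. (The
published statement is for hyperplanes of P^n_k and closed points; a closed point lying on n + 1
members is automatically one of the rational points cut out by n of them, so the condition on
nonzero vectors of V is the same condition.) -/
theorem result (k V : Type u) [Field k]
    [AddCommGroup V] [Module k V] [DecidableEq (Submodule k V)] (n : ℕ) (S : Finset (Submodule k V))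
    (hS : InGeneralPosition k V n S) (hn : n ≤ S.card) (H : Submodule k V)
    (hH : Module.finrank k H = n)
    (havoid : ∀ T ⊆ S, T.card = n → ¬ (T.inf id ≤ H)) :
    InGeneralPosition k V n (insert H S) := by
  classical
  by_cases hHS : H ∈ S
  · rwa [Finset.insert_eq_of_mem hHS]
  obtain ⟨hV, hmem, hinf, hpt⟩ := hS
  haveI : FiniteDimensional k V := Module.finite_of_finrank_pos (by omega)
  -- extending a small subfamily to one of cardinality `n`
  have hext : ∀ T'' ⊆ S, T''.card ≤ n → ¬ (T''.inf id ≤ H) := by
    intro T'' hT'' hc hle
    obtain ⟨T, hT1, hT2, hT3⟩ := Finset.exists_subsuperset_card_eq hT'' hc hn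
    exact havoid T hT2 hT3 ((Finset.inf_mono hT1).trans hle)
  refine ⟨hV, ?_, ?_, ?_⟩
  · intro H' hH'
    rcases Finset.mem_insert.mp hH' with rfl | h
    · exact hH
    · exact hmem H' h
  · intro T' hT' hc
    by_cases hHT : H ∈ T'
    · have hsub : T'.erase H ⊆ S := Finset.subset_insert_iff.mp hT'
      have hcard : (T'.erase H).card + 1 = T'.card := Finset.card_erase_add_one hHT
      have hW := hinf (T'.erase H) hsub (by omega)
      have hnot := hext (T'.erase H) hsub (by omega)
      have hkey := finrank_inf_add_one n hV H ((T'.erase H).inf id) hH hnot
      have hins : T'.inf id = H ⊓ (T'.erase H).inf id := by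
        conv_lhs => rw [← Finset.insert_erase hHT]
        rw [Finset.inf_insert, id]
      rw [hins]
      omega
    · have hsub : T' ⊆ S := (Finset.subset_insert_iff_of_notMem hHT).mp hT'
      exact hinf T' hsub hc
  · intro v hv T' hT' hall
    by_cases hHT : H ∈ T'
    · have hsub : T'.erase H ⊆ S := Finset.subset_insert_iff.mp hT'
      have hcard : (T'.erase H).card + 1 = T'.card := Finset.card_erase_add_one hHT
      have hle : (T'.erase H).card ≤ n :=
        hpt v hv (T'.erase H) hsub (fun H' hH' => hall H' (Finset.mem_of_mem_erase hH'))
      rcases Nat.lt_or_ge (T'.erase H).card n with hlt | hge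
      · omega
      · exfalso
        have hcn : (T'.erase H).card = n := le_antisymm hle hge
        have hW := hinf (T'.erase H) hsub hle
        have hW1 : Module.finrank k ↥((T'.erase H).inf id) = 1 := by rw [hW, hcn]; omega
        have hvW : v ∈ (T'.erase H).inf id := by
          rw [Submodule.mem_finsetInf]
          intro H' hH'
          exact hall H' (Finset.mem_of_mem_erase hH')
        have hvH : v ∈ H := hall H hHT
        refine havoid (T'.erase H) hsub hcn ?_
        intro w hw
        have hv' : (⟨v, hvW⟩ : ↥((T'.erase H).inf id)) ≠ 0 := by
          intro h; exact hv (congrArg Subtype.val h)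
        obtain ⟨c, hc⟩ := (finrank_eq_one_iff_of_nonzero' (⟨v, hvW⟩ : ↥((T'.erase H).inf id)) hv').mp
          hW1 ⟨w, hw⟩
        have : c • v = w := congrArg Subtype.val hc
        rw [← this]
        exact H.smul_mem c hvH
    · have hsub : T' ⊆ S := (Finset.subset_insert_iff_of_notMem hHT).mp hT'
      exact hpt v hv T' hsub hall

end Groth.Agent.S13905
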