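import Groth.Statements.S13907
import Groth.Agent.Lib.H8ProjDim2
import Groth.Agent.Lib.H8ProjPoly

set_option autoImplicit false
universe u
open ProjGeom

namespace Groth.Agent.S13907

open MvPolynomial in
/-- The irrelevant ideal of the polynomial ring is contained in the ideal generated by the
variables. -/
theorem irrelevant_le_span_X (k : Type u) [Field k] (n : ℕ) :
    (HomogeneousIdeal.irrelevant (CohB1.polyGrading n k)).toIdeal ≤
      Ideal.span (X '' (Set.univ : Set (Fin (n + 1))) : Set (MvPolynomial (Fin (n + 1)) k)) := by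
  intro p hp
  have hp' : GradedRing.proj (CohB1.polyGrading n k) 0 p = 0 := hp
  have h0 : coeff 0 p = 0 := by
    have h1 : GradedRing.proj (CohB1.polyGrading n k) 0 p = homogeneousComponent 0 p :=
      decomposition.decompose'_apply p 0
    rw [h1, homogeneousComponent_zero] at hp'
    exact C_injective _ _ (hp'.trans C_0.symm)
  rw [mem_ideal_span_X_image]
  intro m hm
  have hm0 : m ≠ 0 := by
    rintro rfl
    exact (mem_support_iff.mp hm) h0
  obtain ⟨i, hi⟩ := Finsupp.ne_iff.mp hm0
  exact ⟨i, Set.mem_univ i, by simpa using hi⟩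


/-- Over an algebraically closed field k, let C be a nonempty irreducible closed subset of the
underlying space of projective n-space with homogeneous coordinates x_0, …, x_n, and for i ≤ n let
L_i be the linear subspace where x_1, …, x_i vanish. Then there is an index i ≤ n with C ∩ L_i
nonempty and of topological Krull dimension zero. -/
theorem result (k : Type u) [Field k]
    [IsAlgClosed k] (n : ℕ) (C : Set (ProjectiveSpectrum (CohB1.polyGrading n k)))
    (hC : IsClosed C) (hirr : IsIrreducible C) :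
    ∃ i : ℕ, i ≤ n ∧
      (C ∩ ProjectiveSpectrum.zeroLocus (CohB1.polyGrading n k)
          ((fun j : Fin (n + 1) => (MvPolynomial.X j : MvPolynomial (Fin (n + 1)) k)) ''
            {j : Fin (n + 1) | 1 ≤ j.val ∧ j.val ≤ i})).Nonempty ∧
      topologicalKrullDim ↥(C ∩ ProjectiveSpectrum.zeroLocus (CohB1.polyGrading n k)
          ((fun j : Fin (n + 1) => (MvPolynomial.X j : MvPolynomial (Fin (n + 1)) k)) ''
            {j : Fin (n + 1) | 1 ≤ j.val ∧ j.val ≤ i})) = 0 := by
  classical
  have h0 := Groth.Agent.Lib.H8ProjPoly.h0 n k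
  haveI hmax := Groth.Agent.Lib.H8GradedFT.irrelevant_isMaximal (CohB1.polyGrading n k) h0
  haveI hmp : (HomogeneousIdeal.irrelevant (CohB1.polyGrading n k)).toIdeal.IsPrime := hmax.isPrime
  -- notation
  set L : ℕ → Set (ProjectiveSpectrum (CohB1.polyGrading n k)) := fun i =>
    ProjectiveSpectrum.zeroLocus (CohB1.polyGrading n k)
      ((fun j : Fin (n + 1) => (MvPolynomial.X j : MvPolynomial (Fin (n + 1)) k)) ''
        {j : Fin (n + 1) | 1 ≤ j.val ∧ j.val ≤ i}) with hL
  have hLmem : ∀ (i : ℕ) (z : ProjectiveSpectrum (CohB1.polyGrading n k)), z ∈ L i ↔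
      ∀ j : Fin (n + 1), 1 ≤ j.val → j.val ≤ i →
        (MvPolynomial.X j : MvPolynomial (Fin (n + 1)) k) ∈ z.asHomogeneousIdeal.toIdeal := by
    intro i z
    rw [hL]
    simp only [ProjectiveSpectrum.mem_zeroLocus, Set.image_subset_iff]
    constructor
    · intro h j h1 h2
      exact h ⟨h1, h2⟩
    · rintro h j ⟨h1, h2⟩
      exact h j h1 h2
  have hLc : ∀ i, IsClosed (L i) := fun i => ProjectiveSpectrum.isClosed_zeroLocus _ _
  have hL0 : L 0 = Set.univ := by
    ext z
    rw [hLmem]
    simp only [Set.mem_univ, iff_true]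
    intro j h1 h2
    omega
  let P : ℕ → Prop := fun i => (C ∩ L i).Nonempty
  have hP0 : P 0 := by
    change (C ∩ L 0).Nonempty
    rw [hL0, Set.inter_univ]
    exact hirr.nonempty
  set i := Nat.findGreatest P n with hi
  have hPi : P i := Nat.findGreatest_spec (Nat.zero_le n) hP0
  have hin : i ≤ n := Nat.findGreatest_le n
  refine ⟨i, hin, hPi, ?_⟩
  change topologicalKrullDim ↥(C ∩ L i) = 0
  rw [Groth.Agent.Lib.H8ProjDim.topologicalKrullDim_eq_zero_iff _ (hC.inter (hLc i))]
  refine ⟨hPi, ?_⟩
  intro x hx y hxy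
  by_contra hyx
  have hlt : x < y := lt_of_le_not_ge hxy hyx
  obtain ⟨m, hm1, hm⟩ := Groth.Agent.Lib.H8ProjDim.exists_dim_of_lt _ h0 hlt
  by_cases hi' : i < n
  · -- cut with `X (i+1)`
    set g : MvPolynomial (Fin (n + 1)) k := MvPolynomial.X ⟨i + 1, by omega⟩ with hg
    have hgh : g ∈ CohB1.polyGrading n k 1 := MvPolynomial.isHomogeneous_X k _
    have hs : ∀ a ∈ ({g} : Finset (MvPolynomial (Fin (n + 1)) k)),
        a ∈ (HomogeneousIdeal.irrelevant (CohB1.polyGrading n k)).toIdeal := by
      intro a ha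
      rw [Finset.mem_singleton] at ha
      subst ha
      exact Groth.Agent.Lib.H8ProjPoly.X_mem_irrelevant n k _
    have hsh : (Ideal.span ((({g} : Finset (MvPolynomial (Fin (n + 1)) k)) :
        Set (MvPolynomial (Fin (n + 1)) k)))).IsHomogeneous (CohB1.polyGrading n k) := by
      refine Ideal.homogeneous_span _ _ ?_
      intro z hz
      rw [Finset.coe_singleton, Set.mem_singleton_iff] at hz
      exact hz ▸ ⟨1, hgh⟩
    obtain ⟨z, hxz, hz⟩ := Groth.Agent.Lib.H8ProjDim.exists_ge_of_card_le _ h0 x
      ({g} : Finset (MvPolynomial (Fin (n + 1)) k)) hs hsh m hm (by simpa using hm1)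
    have hgz : g ∈ z.asHomogeneousIdeal.toIdeal := hz (by simp)
    have hzC : z ∈ C := Groth.Agent.Lib.H8ProjDim.mem_of_le_of_isClosed _ hC hx.1 hxz
    have hzL : z ∈ L (i + 1) := by
      rw [hLmem]
      intro j h1 h2
      by_cases hj : j.val ≤ i
      · exact hxz ((hLmem i x).mp hx.2 j h1 hj)
      · have : j = ⟨i + 1, by omega⟩ := Fin.ext (by simp; omega)
        rw [this]
        exact hgz
    exact Nat.findGreatest_is_greatest (P := P) (n := n) (k := i + 1) (by omega) (by omega)
      ⟨z, hzC, hzL⟩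
  · -- `i = n`
    have hin' : i = n := by omega
    have hxL := (hLmem i x).mp hx.2
    have hle : (HomogeneousIdeal.irrelevant (CohB1.polyGrading n k)).toIdeal ≤
        x.asHomogeneousIdeal.toIdeal ⊔ Ideal.span
          ((({MvPolynomial.X 0} : Finset (MvPolynomial (Fin (n + 1)) k)) :
            Set (MvPolynomial (Fin (n + 1)) k))) := by
      refine (irrelevant_le_span_X k n).trans (Ideal.span_le.mpr ?_)
      rintro _ ⟨j, -, rfl⟩
      by_cases hj : j = 0
      · subst hj
        exact Ideal.mem_sup_right (Ideal.subset_span (by simp))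
      · refine Ideal.mem_sup_left (hxL j ?_ ?_)
        · have : j.val ≠ 0 := fun h => hj (Fin.ext h)
          omega
        · have := j.2
          omega
    have hge : x.asHomogeneousIdeal.toIdeal ⊔ Ideal.span
          ((({MvPolynomial.X 0} : Finset (MvPolynomial (Fin (n + 1)) k)) :
            Set (MvPolynomial (Fin (n + 1)) k))) ≤
        (HomogeneousIdeal.irrelevant (CohB1.polyGrading n k)).toIdeal := by
      refine sup_le (Groth.Agent.Lib.H8ProjDim.le_irrelevant _ h0 x) (Ideal.span_le.mpr ?_)
      intro a ha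
      rw [Finset.coe_singleton, Set.mem_singleton_iff] at ha
      subst ha
      exact Groth.Agent.Lib.H8ProjPoly.X_mem_irrelevant n k 0
    have hmin : (HomogeneousIdeal.irrelevant (CohB1.polyGrading n k)).toIdeal ∈
        (x.asHomogeneousIdeal.toIdeal ⊔ Ideal.span
          ((({MvPolynomial.X 0} : Finset (MvPolynomial (Fin (n + 1)) k)) :
            Set (MvPolynomial (Fin (n + 1)) k)))).minimalPrimes :=
      ⟨⟨hmp, hge⟩, fun q hq _ => hle.trans hq.2⟩
    have hdim := Groth.Agent.Lib.H8ProjDim.ringKrullDim_quotient_le_add_card k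
      ({MvPolynomial.X 0} : Finset (MvPolynomial (Fin (n + 1)) k)) hmin
    rw [hm, Groth.Agent.Lib.H8ProjDim.ringKrullDim_quotient_irrelevant _ h0,
      Finset.card_singleton] at hdim
    have : ((m + 1 : ℕ) : WithBot ℕ∞) ≤ ((1 : ℕ) : WithBot ℕ∞) := by
      push_cast; push_cast at hdim; simpa using hdim
    have : m + 1 ≤ 1 := by exact_mod_cast this
    omega

end Groth.Agent.S13907
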