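import Groth.Statements.S13911
import Mathlib
-- import your own Groth.Agent.* helpers here

set_option autoImplicit false
universe u
open PlaneConic

namespace Groth.Agent.S13911

open MvPolynomial in
/-- the quadratic form attached to a matrix -/
noncomputable def qf {k : Type u} [Field k] (Q : Matrix (Fin 3) (Fin 3) k) : MvPolynomial (Fin 3) k :=
  ∑ i : Fin 3, ∑ j : Fin 3, Q i j • (MvPolynomial.X i * MvPolynomial.X j)

/-- linear form -/
noncomputable def lf {k : Type u} [Field k] (a : Fin 3 → k) : MvPolynomial (Fin 3) k :=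
  ∑ i : Fin 3, a i • MvPolynomial.X i

/-- symmetric matrix of a product of two linear forms -/
def S {k : Type u} [Field k] (a b : Fin 3 → k) : Matrix (Fin 3) (Fin 3) k :=
  Matrix.of fun i j => (a i * b j + a j * b i) / 2

theorem S_apply {k : Type u} [Field k] (a b : Fin 3 → k) (i j : Fin 3) :
    S a b i j = (a i * b j + a j * b i) / 2 := rfl

theorem qf_S {k : Type u} [Field k] [CharZero k] (a b : Fin 3 → k) :
    qf (S a b) = lf a * lf b := by
  have h2 : (MvPolynomial.C (1/2 : k) : MvPolynomial (Fin 3) k) * 2 = 1 := by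
    have : (2 : MvPolynomial (Fin 3) k) = MvPolynomial.C (2 : k) := (map_ofNat MvPolynomial.C 2).symm
    rw [this, ← map_mul]
    have : (1/2 : k) * 2 = 1 := by norm_num
    rw [this, map_one]
  have e : ∀ i j, S a b i j = (1/2 : k) * (a i * b j + a j * b i) := by
    intro i j; rw [S_apply]; ring
  unfold qf lf
  simp only [e, Fin.sum_univ_three, MvPolynomial.smul_eq_C_mul, map_mul, map_add]
  linear_combination ((MvPolynomial.C (a 0) * MvPolynomial.X 0 + MvPolynomial.C (a 1) * MvPolynomial.X 1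
    + MvPolynomial.C (a 2) * MvPolynomial.X 2) * (MvPolynomial.C (b 0) * MvPolynomial.X 0
    + MvPolynomial.C (b 1) * MvPolynomial.X 1 + MvPolynomial.C (b 2) * MvPolynomial.X 2)) * h2

theorem eval_qf {k : Type u} [Field k] (Q : Matrix (Fin 3) (Fin 3) k) (x : Fin 3 → k) :
    MvPolynomial.eval x (qf Q) = ∑ i : Fin 3, ∑ j : Fin 3, Q i j * (x i * x j) := by
  unfold qf
  simp [MvPolynomial.smul_eq_C_mul]

theorem eval_lf {k : Type u} [Field k] (a : Fin 3 → k) (x : Fin 3 → k) :
    MvPolynomial.eval x (lf a) = ∑ i : Fin 3, a i * x i := by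
  unfold lf
  simp [MvPolynomial.smul_eq_C_mul]

/-- polarization: the symmetric matrix is determined by the form -/
theorem S_of_qf {k : Type u} [Field k] [CharZero k] (Q : Matrix (Fin 3) (Fin 3) k) (hQ : Q.IsSymm)
    (a b : Fin 3 → k) (h : qf Q = lf a * lf b) : Q = S a b := by
  have key : ∀ x : Fin 3 → k, ∑ i : Fin 3, ∑ j : Fin 3, Q i j * (x i * x j)
      = (∑ i : Fin 3, a i * x i) * (∑ i : Fin 3, b i * x i) := by
    intro x
    rw [← eval_qf, h, map_mul, eval_lf, eval_lf]
  have s10 : Q 1 0 = Q 0 1 := hQ.apply 0 1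
  have s20 : Q 2 0 = Q 0 2 := hQ.apply 0 2
  have s21 : Q 2 1 = Q 1 2 := hQ.apply 1 2
  have e0 := key ![1,0,0]
  have e1 := key ![0,1,0]
  have e2 := key ![0,0,1]
  have e01 := key ![1,1,0]
  have e02 := key ![1,0,1]
  have e12 := key ![0,1,1]
  simp [Fin.sum_univ_three] at e0 e1 e2 e01 e02 e12
  rw [s10] at e01
  rw [s20] at e02
  rw [s21] at e12
  have h2 : (2 : k) ≠ 0 := two_ne_zero
  ext i j
  rw [S_apply]
  fin_cases i <;> fin_cases j <;> simp only [Fin.zero_eta, Fin.mk_one, Fin.reduceFinMk] <;>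
    field_simp <;> first
      | linear_combination (2:k) * e0
      | linear_combination (2:k) * e1
      | linear_combination (2:k) * e2
      | linear_combination e01 - e0 - e1
      | linear_combination e02 - e0 - e2
      | linear_combination e12 - e1 - e2
      | (rw [s10]; linear_combination e01 - e0 - e1)
      | (rw [s20]; linear_combination e02 - e0 - e2)
      | (rw [s21]; linear_combination e12 - e1 - e2)

theorem det_S {k : Type u} [Field k] (a b : Fin 3 → k) : (S a b).det = 0 := by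
  rw [Matrix.det_fin_three]
  simp only [S_apply]
  ring

/-- factoring a binary quadratic form over an algebraically closed field -/
theorem binary_factor {k : Type u} [Field k] [IsAlgClosed k] [CharZero k] (α β γ : k) :
    ∃ a0 a1 b0 b1 : k, α = a0 * b0 ∧ β = (a0 * b1 + a1 * b0) / 2 ∧ γ = a1 * b1 := by
  by_cases hα : α = 0
  · refine ⟨0, 1, 2 * β, γ, by simp [hα], by field_simp; ring, by simp⟩
  · obtain ⟨s, hs⟩ := IsAlgClosed.exists_pow_nat_eq (β ^ 2 - α * γ) (n := 2) (by norm_num)
    refine ⟨α, β + s, 1, (β - s) / α, by simp, by field_simp; ring, ?_⟩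
    field_simp
    linear_combination hs

theorem S_comp_swap {k : Type u} [Field k] (a b : Fin 3 → k) (σ : Equiv.Perm (Fin 3)) :
    (S a b).submatrix σ σ = S (a ∘ σ) (b ∘ σ) := by
  ext i j
  simp [S_apply]

/-- core: symmetric with kernel vector having nonzero last coordinate -/
theorem core {k : Type u} [Field k] [IsAlgClosed k] [CharZero k] (Q : Matrix (Fin 3) (Fin 3) k)
    (hQ : Q.IsSymm) (u : Fin 3 → k) (hu : Q.mulVec u = 0) (hu2 : u 2 ≠ 0) :
    ∃ a b : Fin 3 → k, Q = S a b := by
  have s10 : Q 1 0 = Q 0 1 := hQ.apply 0 1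
  have s20 : Q 2 0 = Q 0 2 := hQ.apply 0 2
  have s21 : Q 2 1 = Q 1 2 := hQ.apply 1 2
  have r0 := congrFun hu 0
  have r1 := congrFun hu 1
  have r2 := congrFun hu 2
  simp only [Matrix.mulVec, dotProduct, Fin.sum_univ_three, Pi.zero_apply] at r0 r1 r2
  rw [s10] at r1
  rw [s20, s21] at r2
  obtain ⟨a0, a1, b0, b1, h00, h01, h11⟩ := binary_factor (Q 0 0) (Q 0 1) (Q 1 1)
  set v0 := u 0 / u 2 with hv0
  set v1 := u 1 / u 2 with hv1
  have k0 : Q 0 2 = -(Q 0 0 * v0 + Q 0 1 * v1) := by
    rw [hv0, hv1]; field_simp; linear_combination r0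
  have k1 : Q 1 2 = -(Q 0 1 * v0 + Q 1 1 * v1) := by
    rw [hv0, hv1]; field_simp; linear_combination r1
  have k2 : Q 2 2 = -(Q 0 2 * v0 + Q 1 2 * v1) := by
    rw [hv0, hv1]; field_simp; linear_combination r2
  obtain ⟨a, ha0, ha1, ha2⟩ : ∃ a : Fin 3 → k, a 0 = a0 ∧ a 1 = a1 ∧ a 2 = -(v0 * a0 + v1 * a1) :=
    ⟨![a0, a1, -(v0 * a0 + v1 * a1)], rfl, rfl, rfl⟩
  obtain ⟨b, hb0, hb1, hb2⟩ : ∃ b : Fin 3 → k, b 0 = b0 ∧ b 1 = b1 ∧ b 2 = -(v0 * b0 + v1 * b1) :=
    ⟨![b0, b1, -(v0 * b0 + v1 * b1)], rfl, rfl, rfl⟩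
  refine ⟨a, b, ?_⟩
  ext i j
  rw [S_apply]
  fin_cases i <;> fin_cases j <;>
    simp only [Fin.zero_eta, Fin.mk_one, Fin.reduceFinMk, ha0, ha1, ha2, hb0, hb1, hb2] <;>
    first
      | (rw [h00]; ring1)
      | (rw [h01])
      | (rw [s10, h01]; ring1)
      | (rw [h11]; ring1)
      | (rw [k0, h00, h01]; ring1)
      | (rw [s20, k0, h00, h01]; ring1)
      | (rw [k1, h01, h11]; ring1)
      | (rw [s21, k1, h01, h11]; ring1)
      | (rw [k2, k0, k1, h00, h01, h11]; ring1)

/-- symmetric singular 3x3 matrices are symmetric products -/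
theorem exists_S {k : Type u} [Field k] [IsAlgClosed k] [CharZero k] (Q : Matrix (Fin 3) (Fin 3) k)
    (hQ : Q.IsSymm) (hdet : Q.det = 0) : ∃ a b : Fin 3 → k, Q = S a b := by
  obtain ⟨u, hu0, hu⟩ := Matrix.exists_mulVec_eq_zero_iff.mpr hdet
  obtain ⟨i, hi⟩ := Function.ne_iff.mp hu0
  set σ : Equiv.Perm (Fin 3) := Equiv.swap i 2 with hσ
  have hσσ : ∀ j, σ (σ j) = j := fun j => Equiv.swap_apply_self i 2 j
  have h1 : (Q.submatrix σ σ).IsSymm := by
    ext a b
    simp only [Matrix.transpose_apply, Matrix.submatrix_apply]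
    exact hQ.apply _ _
  have h2 : (Q.submatrix σ σ).mulVec (u ∘ σ) = 0 := by
    ext a
    have := congrFun hu (σ a)
    simp only [Matrix.mulVec, dotProduct, Pi.zero_apply, Matrix.submatrix_apply,
      Function.comp_apply] at this ⊢
    rw [← this]
    exact Fintype.sum_equiv σ _ _ (fun j => rfl)
  have h3 : (u ∘ σ) 2 ≠ 0 := by
    simp only [Function.comp_apply, hσ, Equiv.swap_apply_right]
    exact hi
  obtain ⟨a, b, hab⟩ := core (Q.submatrix σ σ) h1 (u ∘ σ) h2 h3
  refine ⟨a ∘ σ, b ∘ σ, ?_⟩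
  rw [← S_comp_swap, ← hab]
  ext x y
  simp only [Matrix.submatrix_apply, hσσ]

/-- a homogeneous polynomial of degree one is a linear form -/
theorem exists_lf {k : Type u} [Field k] (p : MvPolynomial (Fin 3) k) (hp : p.IsHomogeneous 1) :
    ∃ a : Fin 3 → k, p = lf a := by
  have : p ∈ MvPolynomial.homogeneousSubmodule (Fin 3) k 1 := hp
  rw [MvPolynomial.homogeneousSubmodule_one_eq_span_X, Submodule.mem_span_range_iff_exists_fun] at this
  obtain ⟨c, hc⟩ := this
  exact ⟨c, hc.symm⟩

theorem rank_S_le {k : Type u} [Field k] (a b : Fin 3 → k) : (S a b).rank ≤ 2 := by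
  have : S a b = (Matrix.of fun (i : Fin 3) (c : Fin 2) => if c = 0 then a i / 2 else b i / 2) *
      (Matrix.of fun (c : Fin 2) (j : Fin 3) => if c = 0 then b j else a j) := by
    ext i j
    simp only [S_apply, Matrix.mul_apply, Fin.sum_univ_two, Matrix.of_apply]
    simp
    ring
  rw [this]
  refine (Matrix.rank_mul_le_left _ _).trans ?_
  refine (Matrix.rank_le_card_width _).trans ?_
  simp

theorem rank_S_self_le {k : Type u} [Field k] [CharZero k] (c : Fin 3 → k) : (S c c).rank ≤ 1 := by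
  have : S c c = Matrix.vecMulVec c c := by
    ext i j
    simp only [S_apply, Matrix.vecMulVec_apply]
    field_simp
    ring
  rw [this]
  exact Matrix.rank_vecMulVec_le c c

theorem mulVec_S {k : Type u} [Field k] (a b x : Fin 3 → k) :
    (S a b).mulVec x = (1/2 : k) • ((b ⬝ᵥ x) • a + (a ⬝ᵥ x) • b) := by
  ext i
  simp only [Matrix.mulVec, dotProduct, S_apply, Fin.sum_univ_three, Pi.smul_apply, Pi.add_apply,
    smul_eq_mul]
  ring

theorem rank_S_of_li {k : Type u} [Field k] (a b : Fin 3 → k) (h : LinearIndependent k ![a, b])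
    (h2 : (2 : k) ≠ 0) : (S a b).rank = 2 := by
  set A : Matrix (Fin 2) (Fin 3) k := Matrix.of ![a, b] with hA
  have hrA : A.rank = 2 := by
    have : LinearIndependent k A.row := h
    rw [this.rank_matrix]; simp
  have hker : LinearMap.ker (S a b).mulVecLin = LinearMap.ker A.mulVecLin := by
    ext x
    simp only [LinearMap.mem_ker, Matrix.mulVecLin_apply]
    rw [mulVec_S]
    have hAx : A.mulVec x = ![a ⬝ᵥ x, b ⬝ᵥ x] := by
      ext c
      fin_cases c <;> simp [hA, Matrix.mulVec]
    rw [hAx]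
    constructor
    · intro hx
      have hx' : (b ⬝ᵥ x) • a + (a ⬝ᵥ x) • b = 0 := by
        rcases smul_eq_zero.mp hx with h0 | h0
        · exact absurd h0 (by simpa using h2)
        · exact h0
      obtain ⟨e1, e2⟩ := LinearIndependent.pair_iff.mp h _ _ hx'
      rw [e1, e2]
      ext c; fin_cases c <;> simp
    · intro hx
      have e1 : a ⬝ᵥ x = 0 := by simpa using congrFun hx 0
      have e2 : b ⬝ᵥ x = 0 := by simpa using congrFun hx 1
      rw [e1, e2]; simp
  have r1 := LinearMap.finrank_range_add_finrank_ker (S a b).mulVecLin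
  have r2 := LinearMap.finrank_range_add_finrank_ker A.mulVecLin
  rw [hker] at r1
  unfold Matrix.rank at hrA ⊢
  omega

theorem S_of_not_li {k : Type u} [Field k] [IsAlgClosed k] [CharZero k] (a b : Fin 3 → k)
    (h : ¬ LinearIndependent k ![a, b]) : ∃ c : Fin 3 → k, S a b = S c c := by
  rw [LinearIndependent.pair_iff] at h
  push Not at h
  obtain ⟨s, t, hst, hne⟩ := h
  by_cases ht : t = 0
  · have hs : s ≠ 0 := fun hs => (hne hs) ht
    have ha : a = 0 := by
      rw [ht, zero_smul, add_zero] at hst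
      exact (smul_eq_zero.mp hst).resolve_left hs
    refine ⟨0, ?_⟩
    ext i j
    simp [S_apply, ha]
  · have hb : b = (-s / t) • a := by
      have : t • b = -(s • a) := by rw [eq_neg_iff_add_eq_zero, add_comm]; exact hst
      calc b = t⁻¹ • (t • b) := by rw [smul_smul, inv_mul_cancel₀ ht, one_smul]
        _ = (-s / t) • a := by rw [this, smul_neg, smul_smul, ← neg_smul]; congr 1; field_simp
    obtain ⟨μ, hμ⟩ := IsAlgClosed.exists_pow_nat_eq (-s / t) (n := 2) (by norm_num)
    refine ⟨μ • a, ?_⟩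
    ext i j
    simp only [S_apply, hb, Pi.smul_apply, smul_eq_mul, ← hμ]
    ring

theorem rank_pos_of_ne_zero {k : Type u} [Field k] (Q : Matrix (Fin 3) (Fin 3) k) (h : Q ≠ 0) :
    0 < Q.rank := by
  rw [Nat.pos_iff_ne_zero]
  intro h0
  apply h
  unfold Matrix.rank at h0
  rw [Submodule.finrank_eq_zero, LinearMap.range_eq_bot] at h0
  ext i j
  have := congrFun (LinearMap.congr_fun h0 (Pi.single j 1)) i
  simpa [Matrix.mulVec_single_one] using this

theorem eval_pderiv_qf {k : Type u} [Field k] (Q : Matrix (Fin 3) (Fin 3) k) (hQ : Q.IsSymm)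
    (x : Fin 3 → k) (i : Fin 3) :
    MvPolynomial.eval x (MvPolynomial.pderiv i (qf Q)) = 2 * (Q.mulVec x) i := by
  have s10 : Q 1 0 = Q 0 1 := hQ.apply 0 1
  have s20 : Q 2 0 = Q 0 2 := hQ.apply 0 2
  have s21 : Q 2 1 = Q 1 2 := hQ.apply 1 2
  unfold qf
  fin_cases i <;>
    simp [Fin.sum_univ_three, MvPolynomial.pderiv_X,
      Matrix.mulVec, dotProduct, MvPolynomial.smul_eq_C_mul, s10, s20, s21] <;> ring

theorem not_isUnit_lf {k : Type u} [Field k] (a : Fin 3 → k) : ¬ IsUnit (lf a) := by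
  intro h
  have := h.map (MvPolynomial.eval (0 : Fin 3 → k))
  rw [eval_lf] at this
  simp at this

theorem qf_isHomogeneous {k : Type u} [Field k] (Q : Matrix (Fin 3) (Fin 3) k) :
    (qf Q).IsHomogeneous 2 := by
  unfold qf
  refine MvPolynomial.IsHomogeneous.sum _ _ _ (fun i _ => ?_)
  refine MvPolynomial.IsHomogeneous.sum _ _ _ (fun j _ => ?_)
  rw [MvPolynomial.smul_eq_C_mul]
  refine MvPolynomial.IsHomogeneous.C_mul ?_ _
  exact (MvPolynomial.isHomogeneous_X k i).mul (MvPolynomial.isHomogeneous_X k j)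

theorem factor_lemma {k : Type u} [Field k] (f g h : MvPolynomial (Fin 3) k)
    (hf : f.IsHomogeneous 2) (hf0 : f ≠ 0) (hfgh : f = g * h) :
    IsUnit g ∨ IsUnit h ∨ ∃ a b : Fin 3 → k, f = lf a * lf b := by
  have hg0 : g ≠ 0 := by rintro rfl; exact hf0 (by rw [hfgh, zero_mul])
  have hh0 : h ≠ 0 := by rintro rfl; exact hf0 (by rw [hfgh, mul_zero])
  have hd : g.totalDegree + h.totalDegree = 2 := by
    rw [← MvPolynomial.totalDegree_mul_of_isDomain hg0 hh0, ← hfgh]
    exact hf.totalDegree hf0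
  have unit_of : ∀ p : MvPolynomial (Fin 3) k, p ≠ 0 → p.totalDegree = 0 → IsUnit p := by
    intro p hp hd
    rw [MvPolynomial.totalDegree_eq_zero_iff_eq_C] at hd
    rw [hd]
    apply IsUnit.map
    rw [isUnit_iff_ne_zero]
    intro h0
    rw [h0, map_zero] at hd
    exact hp hd
  by_cases hg : g.totalDegree = 0
  · exact Or.inl (unit_of g hg0 hg)
  by_cases hh : h.totalDegree = 0
  · exact Or.inr (Or.inl (unit_of h hh0 hh))
  right; right
  have hg1 : g.totalDegree = 1 := by omega
  have hh1 : h.totalDegree = 1 := by omega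
  have dg : g = MvPolynomial.homogeneousComponent 0 g + MvPolynomial.homogeneousComponent 1 g := by
    have := MvPolynomial.sum_homogeneousComponent g
    rw [hg1, Finset.sum_range_succ, Finset.sum_range_succ, Finset.sum_range_zero, zero_add] at this
    exact this.symm
  have dh : h = MvPolynomial.homogeneousComponent 0 h + MvPolynomial.homogeneousComponent 1 h := by
    have := MvPolynomial.sum_homogeneousComponent h
    rw [hh1, Finset.sum_range_succ, Finset.sum_range_succ, Finset.sum_range_zero, zero_add] at this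
    exact this.symm
  set g0 := MvPolynomial.homogeneousComponent 0 g with hg0'
  set g1 := MvPolynomial.homogeneousComponent 1 g with hg1'
  set h0 := MvPolynomial.homogeneousComponent 0 h with hh0'
  set h1 := MvPolynomial.homogeneousComponent 1 h with hh1'
  have Hg0 : g0.IsHomogeneous 0 := MvPolynomial.homogeneousComponent_isHomogeneous 0 g
  have Hg1 : g1.IsHomogeneous 1 := MvPolynomial.homogeneousComponent_isHomogeneous 1 g
  have Hh0 : h0.IsHomogeneous 0 := MvPolynomial.homogeneousComponent_isHomogeneous 0 h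
  have Hh1 : h1.IsHomogeneous 1 := MvPolynomial.homogeneousComponent_isHomogeneous 1 h
  have key : f = g1 * h1 := by
    have e1 : MvPolynomial.homogeneousComponent 2 f = f := MvPolynomial.homogeneousComponent_eq_self hf
    have e2 : f = g0 * h0 + g0 * h1 + g1 * h0 + g1 * h1 := by
      rw [hfgh]; nth_rewrite 1 [dg, dh]; ring
    rw [← e1]
    nth_rewrite 1 [e2]
    rw [map_add, map_add, map_add,
      MvPolynomial.homogeneousComponent_of_mem (Hg0.mul Hh0),
      MvPolynomial.homogeneousComponent_of_mem (Hg0.mul Hh1),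
      MvPolynomial.homogeneousComponent_of_mem (Hg1.mul Hh0),
      MvPolynomial.homogeneousComponent_of_mem (Hg1.mul Hh1)]
    simp
  obtain ⟨a, ha⟩ := exists_lf g1 Hg1
  obtain ⟨b, hb⟩ := exists_lf h1 Hh1
  exact ⟨a, b, by rw [key, ha, hb]⟩

/-- For an algebraically closed field k of characteristic zero, a nonzero symmetric 3 × 3 matrix Q over
k and the ternary quadratic form f = Σ Q_ij X_i X_j in k[X_0, X_1, X_2] (the equation of a plane
conic): (1) f is irreducible iff det Q ≠ 0; (2) the conic has a singular point, that is a nonzero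
vector at which all partial derivatives of f vanish, iff det Q = 0 (so smooth conics are exactly the
irreducible ones); (3) f is the product of two linearly independent linear forms (two distinct
lines) iff rank Q = 2; (4) f is the square of a linear form (a double line) iff rank Q = 1. -/
theorem result (k : Type u) [Field k] [IsAlgClosed k] [CharZero k]
    (Q : Matrix (Fin 3) (Fin 3) k) (hQ : Q.IsSymm) (hQ0 : Q ≠ 0) (f : MvPolynomial (Fin 3) k)
    (hf : f = ∑ i : Fin 3, ∑ j : Fin 3, Q i j • (MvPolynomial.X i * MvPolynomial.X j)) :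
    (Irreducible f ↔ Q.det ≠ 0) ∧
    ((∃ u : Fin 3 → k, u ≠ 0 ∧ ∀ i : Fin 3, MvPolynomial.eval u (MvPolynomial.pderiv i f) = 0) ↔ Q.det = 0) ∧
    ((∃ a b : Fin 3 → k, LinearIndependent k ![a, b] ∧
        f = (∑ i : Fin 3, a i • MvPolynomial.X i) * (∑ i : Fin 3, b i • MvPolynomial.X i)) ↔ Q.rank = 2) ∧
    ((∃ a : Fin 3 → k, f = (∑ i : Fin 3, a i • MvPolynomial.X i) ^ 2) ↔ Q.rank = 1) := by
  have hfq : f = qf Q := hf
  have h2 : (2 : k) ≠ 0 := two_ne_zero
  have fact1 : ∀ a b : Fin 3 → k, f = lf a * lf b → Q = S a b :=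
    fun a b h => S_of_qf Q hQ a b (hfq ▸ h)
  have fact2 : Q.det = 0 → ∃ a b : Fin 3 → k, f = lf a * lf b ∧ Q = S a b := by
    intro hdet
    obtain ⟨a, b, hab⟩ := exists_S Q hQ hdet
    exact ⟨a, b, by rw [hfq, hab, qf_S], hab⟩
  have hf0 : f ≠ 0 := by
    intro h0
    apply hQ0
    have : f = lf (0 : Fin 3 → k) * lf 0 := by
      rw [h0]; unfold lf; simp
    rw [fact1 0 0 this]
    ext i j
    simp [S_apply]
  have hfh : f.IsHomogeneous 2 := hfq ▸ qf_isHomogeneous Q
  refine ⟨⟨?_, ?_⟩, ?_, ⟨?_, ?_⟩, ⟨?_, ?_⟩⟩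
  · intro hirr hdet
    obtain ⟨a, b, hab, -⟩ := fact2 hdet
    rcases hirr.isUnit_or_isUnit hab with h | h
    · exact not_isUnit_lf a h
    · exact not_isUnit_lf b h
  · intro hdet
    refine ⟨?_, ?_⟩
    · intro hu
      have := hu.map (MvPolynomial.eval (0 : Fin 3 → k))
      rw [hfq, eval_qf] at this
      simp at this
    · intro g h hgh
      rcases factor_lemma f g h hfh hf0 hgh with hg | hh | ⟨a, b, hab⟩
      · exact Or.inl hg
      · exact Or.inr hh
      · exfalso
        apply hdet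
        rw [fact1 a b hab]
        exact det_S a b
  · rw [← Matrix.exists_mulVec_eq_zero_iff]
    constructor
    · rintro ⟨x, hx0, hx⟩
      refine ⟨x, hx0, ?_⟩
      ext i
      have := hx i
      rw [hfq, eval_pderiv_qf Q hQ] at this
      simpa [h2] using this
    · rintro ⟨x, hx0, hx⟩
      refine ⟨x, hx0, fun i => ?_⟩
      rw [hfq, eval_pderiv_qf Q hQ, hx]
      simp
  · rintro ⟨a, b, hli, hab⟩
    rw [fact1 a b hab]
    exact rank_S_of_li a b hli h2
  · intro hr
    have hdet : Q.det = 0 := by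
      by_contra hne
      have := Matrix.rank_of_isUnit Q ((Matrix.isUnit_iff_isUnit_det Q).mpr (isUnit_iff_ne_zero.mpr hne))
      rw [hr] at this
      simp at this
    obtain ⟨a, b, hab, hQab⟩ := fact2 hdet
    by_cases hli : LinearIndependent k ![a, b]
    · exact ⟨a, b, hli, hab⟩
    · exfalso
      obtain ⟨c, hc⟩ := S_of_not_li a b hli
      have := rank_S_self_le c
      rw [← hc, ← hQab, hr] at this
      omega
  · rintro ⟨a, ha⟩
    have hab : f = lf a * lf a := by rw [ha, pow_two]; rfl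
    have hQa := fact1 a a hab
    have h1 := rank_S_self_le a
    have h3 := rank_pos_of_ne_zero Q hQ0
    rw [← hQa] at h1
    omega
  · intro hr
    have hdet : Q.det = 0 := by
      by_contra hne
      have := Matrix.rank_of_isUnit Q ((Matrix.isUnit_iff_isUnit_det Q).mpr (isUnit_iff_ne_zero.mpr hne))
      rw [hr] at this
      simp at this
    obtain ⟨a, b, hab, hQab⟩ := fact2 hdet
    by_cases hli : LinearIndependent k ![a, b]
    · exfalso
      have := rank_S_of_li a b hli h2
      rw [← hQab, hr] at this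
      omega
    · obtain ⟨c, hc⟩ := S_of_not_li a b hli
      refine ⟨c, ?_⟩
      have : f = lf c * lf c := by rw [hfq, hQab, hc, qf_S]
      rw [this, pow_two]; rfl

end Groth.Agent.S13911
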