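import Groth.Statements.S13912
import Mathlib
-- import your own Groth.Agent.* helpers here

set_option autoImplicit false
universe u
open PlaneConic

namespace Groth.Agent.S13912

/-- linear form -/
noncomputable def lf {k : Type u} [Field k] (a : Fin 3 → k) : MvPolynomial (Fin 3) k :=
  ∑ i : Fin 3, a i • MvPolynomial.X i

/-- a homogeneous polynomial of degree one is a linear form -/
theorem exists_lf {k : Type u} [Field k] (p : MvPolynomial (Fin 3) k) (hp : p.IsHomogeneous 1) :
    ∃ a : Fin 3 → k, p = lf a := by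
  have : p ∈ MvPolynomial.homogeneousSubmodule (Fin 3) k 1 := hp
  rw [MvPolynomial.homogeneousSubmodule_one_eq_span_X, Submodule.mem_span_range_iff_exists_fun] at this
  obtain ⟨c, hc⟩ := this
  exact ⟨c, hc.symm⟩

theorem lf_isHomogeneous {k : Type u} [Field k] (a : Fin 3 → k) : (lf a).IsHomogeneous 1 := by
  unfold lf
  refine MvPolynomial.IsHomogeneous.sum _ _ _ (fun i _ => ?_)
  rw [MvPolynomial.smul_eq_C_mul]
  exact MvPolynomial.IsHomogeneous.C_mul (MvPolynomial.isHomogeneous_X k i) _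

theorem unit_of_deg_zero {k : Type u} [Field k] (p : MvPolynomial (Fin 3) k) (hp : p ≠ 0)
    (hd : p.totalDegree = 0) : ∃ c : k, c ≠ 0 ∧ p = MvPolynomial.C c := by
  rw [MvPolynomial.totalDegree_eq_zero_iff_eq_C] at hd
  refine ⟨_, ?_, hd⟩
  intro h0
  rw [h0, map_zero] at hd
  exact hp hd

theorem lin_prime {k : Type u} [Field k] (p : MvPolynomial (Fin 3) k) (hp : p.IsHomogeneous 1)
    (hp0 : p ≠ 0) : Prime p := by
  rw [← UniqueFactorizationMonoid.irreducible_iff_prime]
  have hd : p.totalDegree = 1 := hp.totalDegree hp0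
  refine ⟨?_, ?_⟩
  · intro hu
    obtain ⟨q, hq⟩ := hu.exists_right_inv
    have hq0 : q ≠ 0 := by rintro rfl; simp at hq
    have := MvPolynomial.totalDegree_mul_of_isDomain hp0 hq0
    rw [hq, MvPolynomial.totalDegree_one, hd] at this
    omega
  · intro g h hgh
    have hg0 : g ≠ 0 := by rintro rfl; exact hp0 (by rw [hgh, zero_mul])
    have hh0 : h ≠ 0 := by rintro rfl; exact hp0 (by rw [hgh, mul_zero])
    have := MvPolynomial.totalDegree_mul_of_isDomain hg0 hh0
    rw [← hgh, hd] at this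
    by_cases hg : g.totalDegree = 0
    · left
      obtain ⟨c, hc, rfl⟩ := unit_of_deg_zero g hg0 hg
      exact (isUnit_iff_ne_zero.mpr hc).map MvPolynomial.C
    · right
      have hh : h.totalDegree = 0 := by omega
      obtain ⟨c, hc, rfl⟩ := unit_of_deg_zero h hh0 hh
      exact (isUnit_iff_ne_zero.mpr hc).map MvPolynomial.C

theorem dvd_lin {k : Type u} [Field k] (p q : MvPolynomial (Fin 3) k) (hp : p.IsHomogeneous 1)
    (hq : q.IsHomogeneous 1) (hp0 : p ≠ 0) (hpq : p ∣ q) : ∃ c : k, q = MvPolynomial.C c * p := by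
  obtain ⟨r, hr⟩ := hpq
  by_cases hq0 : q = 0
  · exact ⟨0, by simp [hq0]⟩
  have hr0 : r ≠ 0 := by rintro rfl; exact hq0 (by rw [hr, mul_zero])
  have := MvPolynomial.totalDegree_mul_of_isDomain hp0 hr0
  rw [← hr, hq.totalDegree hq0, hp.totalDegree hp0] at this
  have hrd : r.totalDegree = 0 := by omega
  obtain ⟨c, -, rfl⟩ := unit_of_deg_zero r hr0 hrd
  exact ⟨c, by rw [hr, mul_comm]⟩

/-- rank-one analysis of a 2x2 matrix of linear forms with zero determinant -/
theorem detzero_lemma {k : Type u} [Field k] (N : Matrix (Fin 2) (Fin 2) (MvPolynomial (Fin 3) k))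
    (hN : ∀ a b, (N a b).IsHomogeneous 1) (hdet : N 0 0 * N 1 1 = N 0 1 * N 1 0) :
    (∃ c : Fin 2 → k, c ≠ 0 ∧ ∀ a, N a 0 * MvPolynomial.C (c 0) + N a 1 * MvPolynomial.C (c 1) = 0) ∨
    (∃ r : Fin 2 → k, r ≠ 0 ∧ ∀ b, MvPolynomial.C (r 0) * N 0 b + MvPolynomial.C (r 1) * N 1 b = 0) := by
  have ne10 : (![1, 0] : Fin 2 → k) ≠ 0 := by
    intro h; have := congrFun h 0; simp at this
  by_cases h00 : N 0 0 = 0
  · rw [h00, zero_mul] at hdet
    rcases mul_eq_zero.mp hdet.symm with h01 | h10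
    · right
      refine ⟨![1, 0], ne10, fun b => ?_⟩
      fin_cases b <;> simp [h00, h01]
    · left
      refine ⟨![1, 0], ne10, fun a => ?_⟩
      fin_cases a <;> simp [h00, h10]
  · have hpr := lin_prime (N 0 0) (hN 0 0) h00
    have hdvd : N 0 0 ∣ N 0 1 * N 1 0 := ⟨N 1 1, hdet.symm⟩
    rcases hpr.dvd_or_dvd hdvd with h | h
    · obtain ⟨c, hc⟩ := dvd_lin _ _ (hN 0 0) (hN 0 1) h00 h
      have h11 : N 1 1 = MvPolynomial.C c * N 1 0 := by
        apply mul_left_cancel₀ h00
        rw [hdet, hc]; ring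
      left
      refine ⟨![-c, 1], ?_, fun a => ?_⟩
      · intro h; have := congrFun h 1; simp at this
      · fin_cases a
        · simp [hc]; ring
        · simp [h11]; ring
    · obtain ⟨c, hc⟩ := dvd_lin _ _ (hN 0 0) (hN 1 0) h00 h
      have h11 : N 1 1 = MvPolynomial.C c * N 0 1 := by
        apply mul_left_cancel₀ h00
        rw [hdet, hc]; ring
      right
      refine ⟨![-c, 1], ?_, fun b => ?_⟩
      · intro h; have := congrFun h 1; simp at this
      · fin_cases b
        · simp [hc]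
        · simp [h11]

/-- substitution killing the linear form `lf γ` (when `γ i₀ ≠ 0`) -/
noncomputable def phi {k : Type u} [Field k] (γ : Fin 3 → k) (i₀ : Fin 3) :
    MvPolynomial (Fin 3) k →ₐ[k] MvPolynomial (Fin 3) k :=
  MvPolynomial.aeval (fun j => MvPolynomial.X j - MvPolynomial.C ((Pi.single i₀ (γ i₀)⁻¹ : Fin 3 → k) j) * lf γ)

theorem phi_lf {k : Type u} [Field k] (γ : Fin 3 → k) (i₀ : Fin 3) (a : Fin 3 → k) :
    phi γ i₀ (lf a) = lf a - MvPolynomial.C (a i₀ * (γ i₀)⁻¹) * lf γ := by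
  have : phi γ i₀ (lf a) = ∑ j : Fin 3, MvPolynomial.C (a j) *
      (MvPolynomial.X j - MvPolynomial.C ((Pi.single i₀ (γ i₀)⁻¹ : Fin 3 → k) j) * lf γ) := by
    show phi γ i₀ (∑ i : Fin 3, a i • MvPolynomial.X i) = _
    unfold phi
    simp only [map_sum, MvPolynomial.smul_eq_C_mul, map_mul, MvPolynomial.aeval_C,
      MvPolynomial.aeval_X, MvPolynomial.algebraMap_eq]
  rw [this]
  simp only [mul_sub, Finset.sum_sub_distrib]
  congr 1
  · unfold lf; simp only [MvPolynomial.smul_eq_C_mul]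
  · rw [Finset.sum_eq_single i₀]
    · simp [mul_assoc]
    · intro b _ hb
      simp [hb]
    · intro h; exact absurd (Finset.mem_univ _) h

theorem phi_lf_self {k : Type u} [Field k] (γ : Fin 3 → k) (i₀ : Fin 3) (h : γ i₀ ≠ 0) :
    phi γ i₀ (lf γ) = 0 := by
  rw [phi_lf, mul_inv_cancel₀ h, map_one, one_mul, sub_self]

theorem phi_homog {k : Type u} [Field k] (γ : Fin 3 → k) (i₀ : Fin 3)
    (p : MvPolynomial (Fin 3) k) (hp : p.IsHomogeneous 1) : (phi γ i₀ p).IsHomogeneous 1 := by
  obtain ⟨a, rfl⟩ := exists_lf p hp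
  rw [phi_lf]
  exact (lf_isHomogeneous a).sub (MvPolynomial.IsHomogeneous.C_mul (lf_isHomogeneous γ) _)

theorem mult_of_phi {k : Type u} [Field k] (γ : Fin 3 → k) (i₀ : Fin 3)
    (p : MvPolynomial (Fin 3) k) (hp : p.IsHomogeneous 1) (h : phi γ i₀ p = 0) :
    ∃ t : k, p = MvPolynomial.C t * lf γ := by
  obtain ⟨a, rfl⟩ := exists_lf p hp
  rw [phi_lf, sub_eq_zero] at h
  exact ⟨_, h⟩

theorem perp {k : Type u} [Field k] (t0 t1 : k) : ∃ r : Fin 2 → k, r ≠ 0 ∧ r 0 * t0 + r 1 * t1 = 0 := by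
  by_cases h : t0 = 0 ∧ t1 = 0
  · refine ⟨![1, 0], ?_, by simp [h.1]⟩
    intro h; have := congrFun h 0; simp at this
  · refine ⟨![-t1, t0], ?_, by simp; ring⟩
    intro h'
    apply h
    have e0 := congrFun h' 0
    have e1 := congrFun h' 1
    simp at e0 e1
    exact ⟨e1, e0⟩

theorem build {k : Type u} [Field k] (M : Matrix (Fin 2) (Fin 2) (MvPolynomial (Fin 3) k))
    (r c : Fin 2 → k) (hr : r ≠ 0) (hc : c ≠ 0)
    (h : (MvPolynomial.C (r 0) * M 0 0 + MvPolynomial.C (r 1) * M 1 0) * MvPolynomial.C (c 0)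
       + (MvPolynomial.C (r 0) * M 0 1 + MvPolynomial.C (r 1) * M 1 1) * MvPolynomial.C (c 1) = 0) :
    ∃ g h : GL (Fin 2) k,
      ((MvPolynomial.C : k →+* MvPolynomial (Fin 3) k).mapMatrix g.val * M *
        (MvPolynomial.C : k →+* MvPolynomial (Fin 3) k).mapMatrix h.val) 0 1 = 0 := by
  obtain ⟨G, hGdet, hG0, hG1⟩ : ∃ G : Matrix (Fin 2) (Fin 2) k, G.det ≠ 0 ∧ G 0 0 = r 0 ∧ G 0 1 = r 1 := by
    by_cases h0 : r 0 = 0
    · have h1 : r 1 ≠ 0 := by
        intro h1; apply hr; ext i; fin_cases i <;> simp [h0, h1]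
      refine ⟨!![r 0, r 1; 1, 0], ?_, rfl, rfl⟩
      rw [Matrix.det_fin_two]; simp [h1]
    · refine ⟨!![r 0, r 1; 0, 1], ?_, rfl, rfl⟩
      rw [Matrix.det_fin_two]; simp [h0]
  obtain ⟨H, hHdet, hH0, hH1⟩ : ∃ H : Matrix (Fin 2) (Fin 2) k, H.det ≠ 0 ∧ H 0 1 = c 0 ∧ H 1 1 = c 1 := by
    by_cases h1 : c 1 = 0
    · have h0 : c 0 ≠ 0 := by
        intro h0; apply hc; ext i; fin_cases i <;> simp [h0, h1]
      refine ⟨!![0, c 0; 1, c 1], ?_, rfl, rfl⟩
      rw [Matrix.det_fin_two]; simp [h0]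
    · refine ⟨!![1, c 0; 0, c 1], ?_, rfl, rfl⟩
      rw [Matrix.det_fin_two]; simp [h1]
  refine ⟨Matrix.GeneralLinearGroup.mkOfDetNeZero G hGdet, Matrix.GeneralLinearGroup.mkOfDetNeZero H hHdet, ?_⟩
  simp only [Matrix.GeneralLinearGroup.val_mkOfDetNeZero, Matrix.mul_apply, Fin.sum_univ_two,
    RingHom.mapMatrix_apply, Matrix.map_apply, hG0, hG1, hH0, hH1]
  exact h

theorem phi_C {k : Type u} [Field k] (γ : Fin 3 → k) (i₀ : Fin 3) (x : k) :
    phi γ i₀ (MvPolynomial.C x) = MvPolynomial.C x := by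
  unfold phi
  rw [MvPolynomial.aeval_C, MvPolynomial.algebraMap_eq]

theorem homog_entries {k : Type u} [Field k] (M : Matrix (Fin 2) (Fin 2) (MvPolynomial (Fin 3) k))
    (hM : ∀ a b : Fin 2, (M a b).IsHomogeneous 1) (G H : Matrix (Fin 2) (Fin 2) k) (a b : Fin 2) :
    (((MvPolynomial.C : k →+* MvPolynomial (Fin 3) k).mapMatrix G * M *
        (MvPolynomial.C : k →+* MvPolynomial (Fin 3) k).mapMatrix H) a b).IsHomogeneous 1 := by
  simp only [Matrix.mul_apply, RingHom.mapMatrix_apply, Matrix.map_apply]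
  refine MvPolynomial.IsHomogeneous.sum _ _ _ (fun j _ => ?_)
  rw [mul_comm]
  refine MvPolynomial.IsHomogeneous.C_mul ?_ _
  refine MvPolynomial.IsHomogeneous.sum _ _ _ (fun i _ => ?_)
  exact MvPolynomial.IsHomogeneous.C_mul (hM i j) _

/-- Over an algebraically closed field k of characteristic zero, for a 2 × 2 matrix M of linear forms in
k[X_0, X_1, X_2] (entries homogeneous of degree 1, zero allowed), det M is a product of two linear
forms if and only if M can be brought by invertible scalar row and column operations g M h, with g,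
h in GL_2(k), to a matrix with zero upper-right entry. (The published statement concerns matrices
with nonzero determinant; this row also allows determinant zero, where both sides hold.) -/
theorem result (k : Type u) [Field k] [IsAlgClosed k] [CharZero k]
    (M : Matrix (Fin 2) (Fin 2) (MvPolynomial (Fin 3) k)) (hM : ∀ a b : Fin 2, (M a b).IsHomogeneous 1) :
    (∃ l₁ l₂ : MvPolynomial (Fin 3) k, l₁.IsHomogeneous 1 ∧ l₂.IsHomogeneous 1 ∧ M.det = l₁ * l₂) ↔
    ∃ g h : GL (Fin 2) k,
      ((MvPolynomial.C : k →+* MvPolynomial (Fin 3) k).mapMatrix g.val * M *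
        (MvPolynomial.C : k →+* MvPolynomial (Fin 3) k).mapMatrix h.val) 0 1 = 0 := by
  have ne10 : (![1, 0] : Fin 2 → k) ≠ 0 := by
    intro h; have := congrFun h 0; simp at this
  constructor
  · rintro ⟨l₁, l₂, h₁, h₂, hdet⟩
    rw [Matrix.det_fin_two] at hdet
    by_cases hl0 : l₁ = 0
    · have hd : M 0 0 * M 1 1 = M 0 1 * M 1 0 := by
        rw [hl0, zero_mul, sub_eq_zero] at hdet; exact hdet
      rcases detzero_lemma M hM hd with ⟨c, hc, hcol⟩ | ⟨r, hr, hrow⟩
      · refine build M ![1, 0] c ne10 hc ?_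
        linear_combination MvPolynomial.C ((![1, 0] : Fin 2 → k) 0) * hcol 0 +
          MvPolynomial.C ((![1, 0] : Fin 2 → k) 1) * hcol 1
      · refine build M r ![1, 0] hr ne10 ?_
        linear_combination MvPolynomial.C ((![1, 0] : Fin 2 → k) 0) * hrow 0 +
          MvPolynomial.C ((![1, 0] : Fin 2 → k) 1) * hrow 1
    · obtain ⟨γ, rfl⟩ := exists_lf l₁ h₁
      have hγ : γ ≠ 0 := by
        rintro rfl
        apply hl0
        unfold lf; simp
      obtain ⟨i₀, hi₀⟩ := Function.ne_iff.mp hγ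
      set N : Matrix (Fin 2) (Fin 2) (MvPolynomial (Fin 3) k) :=
        Matrix.of fun a b => phi γ i₀ (M a b) with hN
      have hNh : ∀ a b, (N a b).IsHomogeneous 1 := fun a b => phi_homog γ i₀ _ (hM a b)
      have hNd : N 0 0 * N 1 1 = N 0 1 * N 1 0 := by
        have := congrArg (phi γ i₀) hdet
        rw [map_mul, phi_lf_self γ i₀ hi₀, zero_mul, map_sub, map_mul, map_mul, sub_eq_zero] at this
        exact this
      rcases detzero_lemma N hNh hNd with ⟨c, hc, hcol⟩ | ⟨r, hr, hrow⟩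
      · have hw : ∀ a, ∃ t : k, MvPolynomial.C (c 0) * M a 0 + MvPolynomial.C (c 1) * M a 1
            = MvPolynomial.C t * lf γ := by
          intro a
          apply mult_of_phi γ i₀
          · exact (MvPolynomial.IsHomogeneous.C_mul (hM a 0) _).add
              (MvPolynomial.IsHomogeneous.C_mul (hM a 1) _)
          · rw [map_add, map_mul, map_mul, phi_C, phi_C]
            have := hcol a
            simp only [hN, Matrix.of_apply] at this
            linear_combination this
        obtain ⟨t0, ht0⟩ := hw 0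
        obtain ⟨t1, ht1⟩ := hw 1
        obtain ⟨r, hr, hperp⟩ := perp t0 t1
        have hp' : MvPolynomial.C (r 0) * MvPolynomial.C t0 + MvPolynomial.C (r 1) * MvPolynomial.C t1
            = (0 : MvPolynomial (Fin 3) k) := by
          rw [← map_mul, ← map_mul, ← map_add, hperp, map_zero]
        refine build M r c hr hc ?_
        linear_combination MvPolynomial.C (r 0) * ht0 + MvPolynomial.C (r 1) * ht1 + lf γ * hp'
      · have hw : ∀ b, ∃ t : k, MvPolynomial.C (r 0) * M 0 b + MvPolynomial.C (r 1) * M 1 b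
            = MvPolynomial.C t * lf γ := by
          intro b
          apply mult_of_phi γ i₀
          · exact (MvPolynomial.IsHomogeneous.C_mul (hM 0 b) _).add
              (MvPolynomial.IsHomogeneous.C_mul (hM 1 b) _)
          · rw [map_add, map_mul, map_mul, phi_C, phi_C]
            have := hrow b
            simp only [hN, Matrix.of_apply] at this
            linear_combination this
        obtain ⟨t0, ht0⟩ := hw 0
        obtain ⟨t1, ht1⟩ := hw 1
        obtain ⟨c, hc, hperp⟩ := perp t0 t1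
        have hp' : MvPolynomial.C (c 0) * MvPolynomial.C t0 + MvPolynomial.C (c 1) * MvPolynomial.C t1
            = (0 : MvPolynomial (Fin 3) k) := by
          rw [← map_mul, ← map_mul, ← map_add, hperp, map_zero]
        refine build M r c hr hc ?_
        linear_combination MvPolynomial.C (c 0) * ht0 + MvPolynomial.C (c 1) * ht1 + lf γ * hp'
  · rintro ⟨g, h, hgh⟩
    set N := (MvPolynomial.C : k →+* MvPolynomial (Fin 3) k).mapMatrix g.val * M *
        (MvPolynomial.C : k →+* MvPolynomial (Fin 3) k).mapMatrix h.val with hN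
    have hdg : g.val.det ≠ 0 := by
      have := (Matrix.isUnit_iff_isUnit_det _).mp (Units.isUnit g)
      exact this.ne_zero
    have hdh : h.val.det ≠ 0 := by
      have := (Matrix.isUnit_iff_isUnit_det _).mp (Units.isUnit h)
      exact this.ne_zero
    have hdetN : N.det = MvPolynomial.C g.val.det * M.det * MvPolynomial.C h.val.det := by
      rw [hN, Matrix.det_mul, Matrix.det_mul, ← RingHom.map_det, ← RingHom.map_det]
    have hdetN2 : N.det = N 0 0 * N 1 1 := by
      rw [Matrix.det_fin_two, hgh, zero_mul, sub_zero]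
    refine ⟨MvPolynomial.C ((g.val.det)⁻¹ * (h.val.det)⁻¹) * N 0 0, N 1 1, ?_, ?_, ?_⟩
    · exact MvPolynomial.IsHomogeneous.C_mul (homog_entries M hM _ _ 0 0) _
    · exact homog_entries M hM _ _ 1 1
    · have e : MvPolynomial.C ((g.val.det)⁻¹ * (h.val.det)⁻¹) * (MvPolynomial.C g.val.det *
          MvPolynomial.C h.val.det) = (1 : MvPolynomial (Fin 3) k) := by
        rw [← map_mul, ← map_mul]
        have : (g.val.det)⁻¹ * (h.val.det)⁻¹ * (g.val.det * h.val.det) = 1 := by
          field_simp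
        rw [this, map_one]
      rw [mul_assoc, ← hdetN2, hdetN]
      linear_combination (-M.det) * e

end Groth.Agent.S13912
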