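import Groth.Statements.S13913
import Mathlib.RingTheory.MvPolynomial.EulerIdentity
import Mathlib.Tactic

set_option autoImplicit false
universe u
open PlaneCubic

namespace Groth.Agent.S13913

open MvPolynomial

theorem eq_zero_of_pderiv_eval (k : Type u) [Field k] (w : MvPolynomial (Fin 3) k)
    (hw : w.IsHomogeneous 1) (p : Fin 3 → k)
    (h : ∀ i : Fin 3, MvPolynomial.eval p (MvPolynomial.pderiv i w) = 0) : w = 0 := by
  have h0 : ∀ i : Fin 3, MvPolynomial.pderiv i w = 0 := by
    intro i
    have hi : (MvPolynomial.pderiv i w).IsHomogeneous 0 := hw.pderiv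
    rw [← totalDegree_zero_iff_isHomogeneous, totalDegree_eq_zero_iff_eq_C] at hi
    have := h i
    rw [hi, eval_C] at this
    rw [hi, this, map_zero]
  have he := hw.sum_X_mul_pderiv
  simp only [h0, mul_zero, Finset.sum_const_zero, one_smul] at he
  exact he.symm

/-- Over an algebraically closed field of characteristic zero, for linearly independent linear forms z₁,
z₂ and quadratic forms q₁, q₂ in three variables and a nonzero common zero p of z₁ and z₂, the point
p is a singular point of the plane cubic z₁q₂ − z₂q₁ = 0 (all three partial derivatives vanish at p)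
if and only if q₁ and q₂ both vanish at p. -/
theorem result (k : Type u) [Field k] [IsAlgClosed k] [CharZero k]
    (z₁ z₂ q₁ q₂ : MvPolynomial (Fin 3) k) (hz₁ : z₁.IsHomogeneous 1) (hz₂ : z₂.IsHomogeneous 1)
    (hq₁ : q₁.IsHomogeneous 2) (hq₂ : q₂.IsHomogeneous 2) (hind : LinearIndependent k ![z₁, z₂])
    (p : Fin 3 → k) (hp : p ≠ 0) (hp₁ : MvPolynomial.eval p z₁ = 0) (hp₂ : MvPolynomial.eval p z₂ = 0) :
    (∀ i : Fin 3, MvPolynomial.eval p (MvPolynomial.pderiv i (z₁ * q₂ - z₂ * q₁)) = 0) ↔
      (MvPolynomial.eval p q₁ = 0 ∧ MvPolynomial.eval p q₂ = 0) := by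
  have key : ∀ i : Fin 3, MvPolynomial.eval p (MvPolynomial.pderiv i (z₁ * q₂ - z₂ * q₁)) =
      MvPolynomial.eval p q₂ * MvPolynomial.eval p (MvPolynomial.pderiv i z₁) -
        MvPolynomial.eval p q₁ * MvPolynomial.eval p (MvPolynomial.pderiv i z₂) := by
    intro i
    simp only [map_sub, Derivation.leibniz, smul_eq_mul, map_add, map_mul, hp₁, hp₂, zero_mul,
      zero_add]
  constructor
  · intro h
    have hw : MvPolynomial.eval p q₂ • z₁ + (-(MvPolynomial.eval p q₁)) • z₂ = 0 := by
      apply eq_zero_of_pderiv_eval k _ _ p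
      · intro i
        have := h i
        rw [key i] at this
        rw [map_add, Derivation.map_smul, Derivation.map_smul, map_add, smul_eval, smul_eval]
        linear_combination this
      · exact (homogeneousSubmodule (Fin 3) k 1).add_mem
          ((homogeneousSubmodule (Fin 3) k 1).smul_mem _ hz₁)
          ((homogeneousSubmodule (Fin 3) k 1).smul_mem _ hz₂)
    have := (LinearIndependent.pair_iff.mp hind) _ _ hw
    exact ⟨neg_eq_zero.mp this.2, this.1⟩
  · rintro ⟨h1, h2⟩ i
    rw [key i, h1, h2]
    ring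

end Groth.Agent.S13913
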