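import Groth.Statements.S13919
import Groth.Agent.Lib.RamP175
-- import your own Groth.Agent.* helpers here

set_option autoImplicit false
universe u
open W4c1limliniiii

namespace Groth.Agent.S13919

open Groth.Agent.Lib.RamP175 in
open Polynomial in
/-- Over an algebraically closed field of characteristic p (zero allowed), fix three distinct points of
the affine line and indices 2 ≤ e_i ≤ d prime to p with ∑ (e_i − 1) = 2d − 2, and encode self-maps
of the projective line up to automorphisms of the target as base-point-free separable pencils of
polynomials of degree at most d. If p is positive, the first two indices are less than p and p ≤ d,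
then there is no separable degree-d self-map of the projective line with ramification index exactly
e_i at the i-th point; if p = 0 or d < p there is exactly one up to automorphisms of the target.
(The first clause includes the case d = p; with it, when all e_i are less than p, the three-point
count is one map if p = 0 or p > d and none otherwise.) -/
theorem result (k : Type u) [Field k] [IsAlgClosed k]
    (p : ℕ) [CharP k p] (d : ℕ) (P : Fin 3 → k) (hP : Function.Injective P)
    (e : Fin 3 → ℕ) (he : W4c1limliniiii.Admissible p d e) :
    (p ≠ 0 → e 0 < p → e 1 < p → p ≤ d → W4c1limliniiii.ramMaps d P e = ∅) ∧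
      (p = 0 ∨ d < p → ∃ V : Submodule k k[X], W4c1limliniiii.ramMaps d P e = {V}) := by
  have h : Hyp d P e := hyp_of_admissible hP he
  have he1 : ∀ i, 1 ≤ e i := fun i => le_trans (by norm_num) (he.1 i).1
  refine ⟨?_, ?_⟩
  · intro hp0 h0 h1 hpd
    exact (ramMaps_eq_empty_iff h he1).2 (exists_inseparable h p hp0 h0 h1 hpd)
  · intro hp
    have hne : (W4c1limliniiii.ramMaps d P e).Nonempty := by
      rw [Set.nonempty_iff_ne_empty]
      intro hempty
      obtain ⟨V, hVle, hVfin, hVinsep, hVmem⟩ := (ramMaps_eq_empty_iff h he1).1 hempty
      obtain ⟨v, hv, hv0, rfl⟩ := exists_mem_Lsp h V hVle hVfin hVmem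
      exact hVinsep (Lsp_isSeparable h p hp hv hv0)
    obtain ⟨V, hV⟩ := hne
    exact ⟨V, (ramMaps_subsingleton h).eq_singleton_of_mem hV⟩

end Groth.Agent.S13919
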