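import Groth.Statements.S19560
import Mathlib

set_option autoImplicit false
universe u
open W4c1limliniiii

namespace Groth.Agent.S19560


open Polynomial

theorem wr_comb {k : Type u} [Field k] (F G : k[X]) (α β γ δ : k) :
    wronskian (α • F + β • G) (γ • F + δ • G) = (α * δ - β * γ) • wronskian F G := by
  simp only [wronskian, smul_eq_C_mul, derivative_add, derivative_mul, derivative_C, zero_mul,
    zero_add, map_sub, map_mul]
  ring

/-- the multiplicity lemma -/
theorem mult_lemma {k : Type u} [Field k] (a : k) (s t : k[X]) (hs : s ≠ 0)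
    (hm : 1 ≤ rootMultiplicity a s) (ht : t.eval a ≠ 0) (hW : wronskian s t ≠ 0) :
    rootMultiplicity a s - 1 ≤ rootMultiplicity a (wronskian s t) ∧
    (((rootMultiplicity a s : ℕ) : k) = 0 → rootMultiplicity a s ≤ rootMultiplicity a (wronskian s t)) ∧
    (((rootMultiplicity a s : ℕ) : k) ≠ 0 → rootMultiplicity a (wronskian s t) < rootMultiplicity a s) := by
  obtain ⟨u, hu, hnd⟩ := exists_eq_pow_rootMultiplicity_mul_and_not_dvd s hs a
  obtain ⟨m', hm'⟩ : ∃ m', rootMultiplicity a s = m' + 1 := ⟨rootMultiplicity a s - 1, by omega⟩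
  rw [hm'] at hu ⊢
  have hua : u.eval a ≠ 0 := by
    intro h
    exact hnd (dvd_iff_isRoot.2 h)
  have key : wronskian s t = (X - C a) ^ m' *
      ((X - C a) * (u * derivative t - derivative u * t) - C (((m' + 1 : ℕ) : k)) * (u * t)) := by
    rw [wronskian]
    conv_lhs => rw [hu]
    rw [derivative_mul, derivative_pow]
    simp only [derivative_sub, derivative_X, derivative_C, sub_zero, mul_one, Nat.add_sub_cancel,
      Nat.cast_add, Nat.cast_one, map_add, map_one, map_natCast]
    ring
  refine ⟨?_, ?_, ?_⟩
  · rw [le_rootMultiplicity_iff hW]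
    have : m' + 1 - 1 = m' := by omega
    rw [this, key]
    exact dvd_mul_right _ _
  · intro h0
    rw [le_rootMultiplicity_iff hW, key, pow_succ]
    apply mul_dvd_mul_left
    rw [h0, map_zero, zero_mul, sub_zero]
    exact dvd_mul_right _ _
  · intro h0
    rw [← not_le, le_rootMultiplicity_iff hW, key, pow_succ]
    intro hdvd
    have hne : (X - C a) ^ m' ≠ 0 := pow_ne_zero _ (X_sub_C_ne_zero a)
    have h2 := (mul_dvd_mul_iff_left hne).1 hdvd
    have h3 : (X - C a) ∣ C (((m' + 1 : ℕ) : k)) * (u * t) := by
      have := dvd_sub (dvd_mul_right (X - C a) (u * derivative t - derivative u * t)) h2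
      simpa using this
    rw [dvd_iff_isRoot] at h3
    have : (((m' + 1 : ℕ) : k)) * (u.eval a * t.eval a) = 0 := by
      simpa [IsRoot] using h3
    rcases mul_eq_zero.1 this with h | h
    · exact h0 h
    · rcases mul_eq_zero.1 h with h | h
      · exact hua h
      · exact ht h

theorem result' (k : Type u) [Field k] (p : ℕ) [CharP k p]
    (d : ℕ) (F G : k[X]) (hV : W4c1limliniiii.IsPencil d (Submodule.span k {F, G}))
    (hW : Polynomial.wronskian F G ≠ 0) (a : k) (e : ℕ)
    (he : (Polynomial.wronskian F G).rootMultiplicity a + 1 = e) (hp : p = 0 ∨ e - 1 < p) :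
    W4c1limliniiii.HasRamIdx (Submodule.span k {F, G}) a e ∧ ¬ p ∣ e := by
  obtain ⟨-, -, -, hbpf⟩ := hV
  obtain ⟨t, htV, hta⟩ := hbpf a
  obtain ⟨γ, δ, rfl⟩ := Submodule.mem_span_pair.1 htV
  -- general bound
  have bound : ∀ s ∈ Submodule.span k {F, G}, s ≠ 0 → 1 ≤ rootMultiplicity a s →
      rootMultiplicity a s ≤ e ∧ (((rootMultiplicity a s : ℕ) : k) ≠ 0 → rootMultiplicity a s = e) ∧
      (((rootMultiplicity a s : ℕ) : k) = 0 → False) := by
    intro s hsV hs hm
    obtain ⟨α, β, rfl⟩ := Submodule.mem_span_pair.1 hsV
    have hWst := wr_comb F G α β γ δ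
    have hc : α * δ - β * γ ≠ 0 := by
      intro hc
      -- s and t proportional
      have hsa : (α • F + β • G).eval a = 0 := by
        have : IsRoot (α • F + β • G) a := (rootMultiplicity_pos hs).1 hm
        exact this
      -- t(a) • s = s(a) • t ... use: δ s - β t = (αδ-βγ) F, γ s - α t = -(αδ - βγ) G
      have h1 : δ • (α • F + β • G) - β • (γ • F + δ • G) = (α * δ - β * γ) • F := by
        simp only [smul_eq_C_mul, map_sub, map_mul]; ring
      have h2 : α • (γ • F + δ • G) - γ • (α • F + β • G) = (α * δ - β * γ) • G := by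
        simp only [smul_eq_C_mul, map_sub, map_mul]; ring
      rw [hc, zero_smul] at h1 h2
      have e1 := congrArg (eval a) h1
      have e2 := congrArg (eval a) h2
      simp only [eval_sub, eval_smul, hsa, smul_eq_mul, mul_zero, zero_sub, sub_zero, eval_zero,
        neg_eq_zero] at e1 e2
      have hβ : β = 0 := by
        rcases mul_eq_zero.1 e1 with h | h
        · exact h
        · exact absurd h hta
      have hα : α = 0 := by
        rcases mul_eq_zero.1 e2 with h | h
        · exact h
        · exact absurd h hta
      apply hs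
      rw [hα, hβ, zero_smul, zero_smul, add_zero]
    have hWne : wronskian (α • F + β • G) (γ • F + δ • G) ≠ 0 := by
      rw [hWst]
      exact smul_ne_zero hc hW
    have hmult : rootMultiplicity a (wronskian (α • F + β • G) (γ • F + δ • G)) = e - 1 := by
      rw [hWst, smul_eq_C_mul, rootMultiplicity_mul (by
        rw [← smul_eq_C_mul]; exact smul_ne_zero hc hW), rootMultiplicity_C, zero_add]
      omega
    obtain ⟨b1, b2, b3⟩ := mult_lemma a _ _ hs hm hta hWne
    rw [hmult] at b1 b2 b3
    refine ⟨by omega, ?_, ?_⟩
    · intro h0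
      have := b3 h0
      omega
    · intro h0
      have h1 := b2 h0
      -- p ∣ m
      have hpm : p ∣ rootMultiplicity a (α • F + β • G) := (CharP.cast_eq_zero_iff k p _).1 h0
      rcases hp with hp0 | hplt
      · subst hp0
        have := Nat.eq_zero_of_zero_dvd hpm
        omega
      · have := Nat.le_of_dvd (by omega) hpm
        omega
  -- the element s0 = G(a) F - F(a) G
  have hFG : F.eval a ≠ 0 ∨ G.eval a ≠ 0 := by
    by_contra hcon
    push Not at hcon
    apply hta
    simp [hcon.1, hcon.2]
  have hli : ∀ α β : k, α • F + β • G = 0 → α = 0 ∧ β = 0 := by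
    intro α β h
    have h1 := wr_comb F G α β 0 1
    have h2 := wr_comb F G α β 1 0
    rw [h, wronskian_zero_left] at h1 h2
    simp only [mul_one, mul_zero, sub_zero, zero_sub] at h1 h2
    have hα : α = 0 := by
      rcases smul_eq_zero.1 h1.symm with h | h
      · exact h
      · exact absurd h hW
    have hβ : β = 0 := by
      rcases smul_eq_zero.1 h2.symm with h | h
      · exact neg_eq_zero.1 h
      · exact absurd h hW
    exact ⟨hα, hβ⟩
  set s0 : k[X] := (G.eval a) • F + (-(F.eval a)) • G with hs0
  have hs0V : s0 ∈ Submodule.span k {F, G} := Submodule.mem_span_pair.2 ⟨_, _, rfl⟩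
  have hs0ne : s0 ≠ 0 := by
    intro h
    obtain ⟨h1, h2⟩ := hli _ _ h
    rcases hFG with h' | h'
    · exact h' (neg_eq_zero.1 h2)
    · exact h' h1
  have hs0a : 1 ≤ rootMultiplicity a s0 := by
    rw [Nat.one_le_iff_ne_zero, ← Nat.pos_iff_ne_zero, rootMultiplicity_pos hs0ne]
    simp [IsRoot, hs0, mul_comm]
  obtain ⟨c1, c2, c3⟩ := bound s0 hs0V hs0ne hs0a
  have hm0 : rootMultiplicity a s0 = e := by
    by_cases h0 : ((rootMultiplicity a s0 : ℕ) : k) = 0
    · exact (c3 h0).elim
    · exact c2 h0
  refine ⟨⟨⟨s0, hs0V, hs0ne, hm0.ge⟩, ?_⟩, ?_⟩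
  · intro s hsV hs
    by_cases hm : 1 ≤ rootMultiplicity a s
    · exact (bound s hsV hs hm).1
    · omega
  · intro hpe
    have h0 : ((rootMultiplicity a s0 : ℕ) : k) = 0 := by
      rw [hm0]
      exact (CharP.cast_eq_zero_iff k p e).2 hpe
    exact c3 h0


open Polynomial in
/-- Let k be an algebraically closed field of characteristic p (a prime or zero) and let F, G be
polynomials spanning a base-point-free pencil V of degree d (a two-dimensional space of polynomials
of degree at most d containing one of degree d and with no common zero in k), so that V encodes a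
degree-d self-map F/G of the projective line up to automorphisms of the target. Suppose the
Wronskian W = F′G − FG′ is non-zero and vanishes at the point a to order exactly e − 1 with e ≥ 1,
and that p = 0 or e − 1 < p. Then the map is tamely ramified at a with index e: the largest order of
vanishing at a of a non-zero member of V is e, and p does not divide e. (The hypothesis W ≠ 0 makes
the order of vanishing meaningful; for W = 0 the map is inseparable.) -/
theorem result
    (k : Type u) [Field k] [IsAlgClosed k] (p : ℕ) [CharP k p]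
    (d : ℕ) (F G : k[X]) (hV : W4c1limliniiii.IsPencil d (Submodule.span k {F, G}))
    (hW : Polynomial.wronskian F G ≠ 0) (a : k) (e : ℕ)
    (he : (Polynomial.wronskian F G).rootMultiplicity a + 1 = e) (hp : p = 0 ∨ e - 1 < p) :
    W4c1limliniiii.HasRamIdx (Submodule.span k {F, G}) a e ∧ ¬ p ∣ e := by
  exact result' k p d F G hV hW a e he hp

end Groth.Agent.S19560
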