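import Groth.Statements.S13920
import Mathlib
import Groth.Agent.S19560

set_option autoImplicit false
universe u
open W4c1limliniiii

namespace Groth.Agent.S13920


open Polynomial

variable {k : Type u} [Field k]

theorem deriv_Xp_mul (p : ℕ) [CharP k p] (G : k[X]) :
    derivative (X ^ p * G) = X ^ p * derivative G := by
  rw [derivative_mul, derivative_X_pow]
  have : (C ((p : ℕ) : k) : k[X]) = 0 := by rw [CharP.cast_eq_zero, map_zero]
  rw [this]
  ring

theorem wr_shift (p : ℕ) [CharP k p] (F G : k[X]) (c : k) :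
    wronskian (F + C c * (X ^ p * G)) G = wronskian F G := by
  rw [wronskian, wronskian, derivative_add, derivative_C_mul, deriv_Xp_mul]
  ring

theorem natDegree_comb (d : ℕ) (F' G : k[X]) (hF : F'.natDegree = d) (hG : G.natDegree < d)
    (α β : k) (hα : α ≠ 0) : (α • F' + β • G).natDegree = d := by
  have h1 : (α • F').natDegree = d := by rw [natDegree_smul _ hα, hF]
  have h2 : (β • G).natDegree < (α • F').natDegree := by
    rw [h1]
    exact lt_of_le_of_lt (natDegree_smul_le β G) hG
  rw [natDegree_add_eq_left_of_natDegree_lt h2, h1]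

theorem indep (d : ℕ) (F' G : k[X]) (hF : F'.natDegree = d) (hG : G.natDegree < d) (hG0 : G ≠ 0)
    (α β : k) (h : α • F' + β • G = 0) : α = 0 ∧ β = 0 := by
  have hα : α = 0 := by
    by_contra hα
    have := natDegree_comb d F' G hF hG α β hα
    rw [h, natDegree_zero] at this
    omega
  refine ⟨hα, ?_⟩
  rw [hα, zero_smul, zero_add] at h
  rcases smul_eq_zero.1 h with h | h
  · exact h
  · exact absurd h hG0

theorem finrank_pair (d : ℕ) (F' G : k[X]) (hF : F'.natDegree = d) (hG : G.natDegree < d)
    (hG0 : G ≠ 0) : Module.finrank k (Submodule.span k ({F', G} : Set k[X])) = 2 := by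
  have hli : LinearIndependent k ![F', G] :=
    LinearIndependent.pair_iff.2 (indep d F' G hF hG hG0)
  have := finrank_span_eq_card hli
  have hr : Set.range ![F', G] = ({F', G} : Set k[X]) := by
    ext x
    simp [eq_comm, or_comm]
  rw [hr] at this
  simpa using this

theorem natDegree_mem (d : ℕ) (F' G : k[X]) (hF : F'.natDegree = d) (hG : G.natDegree < d)
    (s : k[X]) (hs : s ∈ Submodule.span k ({F', G} : Set k[X])) (hs0 : s ≠ 0) :
    s.natDegree = d ∨ s.natDegree = G.natDegree := by
  obtain ⟨α, β, rfl⟩ := Submodule.mem_span_pair.1 hs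
  by_cases hα : α = 0
  · right
    rw [hα, zero_smul, zero_add] at hs0 ⊢
    have hβ : β ≠ 0 := by
      rintro rfl
      exact hs0 (zero_smul _ _)
    exact natDegree_smul _ hβ
  · left
    exact natDegree_comb d F' G hF hG α β hα

/-- if `s t ∈ span{F,G}` with `s ≠ 0`, `s(a) = 0`, `t(a) ≠ 0`, their Wronskian is a nonzero
multiple of `W(F,G)`. -/
theorem wr_mem (F G : k[X]) (a : k) (s t : k[X]) (hs : s ∈ Submodule.span k ({F, G} : Set k[X]))
    (ht : t ∈ Submodule.span k ({F, G} : Set k[X])) (hs0 : s ≠ 0) (hsa : s.eval a = 0)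
    (hta : t.eval a ≠ 0) : ∃ c : k, c ≠ 0 ∧ wronskian s t = c • wronskian F G := by
  obtain ⟨α, β, rfl⟩ := Submodule.mem_span_pair.1 hs
  obtain ⟨γ, δ, rfl⟩ := Submodule.mem_span_pair.1 ht
  refine ⟨α * δ - β * γ, ?_, Groth.Agent.S19560.wr_comb F G α β γ δ⟩
  intro hc
  have h1 : δ • (α • F + β • G) - β • (γ • F + δ • G) = (α * δ - β * γ) • F := by
    simp only [smul_eq_C_mul, map_sub, map_mul]; ring
  have h2 : α • (γ • F + δ • G) - γ • (α • F + β • G) = (α * δ - β * γ) • G := by
    simp only [smul_eq_C_mul, map_sub, map_mul]; ring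
  rw [hc, zero_smul] at h1 h2
  have e1 := congrArg (eval a) h1
  have e2 := congrArg (eval a) h2
  simp only [eval_sub, eval_smul, hsa, smul_eq_mul, mul_zero, zero_sub, sub_zero, eval_zero,
    neg_eq_zero] at e1 e2
  have hβ : β = 0 := by
    rcases mul_eq_zero.1 e1 with h | h
    · exact h
    · exact absurd h hta
  have hα : α = 0 := by
    rcases mul_eq_zero.1 e2 with h | h
    · exact h
    · exact absurd h hta
  apply hs0
  rw [hα, hβ, zero_smul, zero_smul, add_zero]

/-- the order of the Wronskian from the ramification index (tame case) -/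
theorem mult_wr (p : ℕ) [CharP k p] (F G : k[X]) (hW : wronskian F G ≠ 0) (a : k) (e : ℕ)
    (he1 : 1 ≤ e) (hep : e < p)
    (hbpf : ∃ t ∈ Submodule.span k ({F, G} : Set k[X]), t.eval a ≠ 0)
    (hram : HasRamIdx (Submodule.span k ({F, G} : Set k[X])) a e) :
    rootMultiplicity a (wronskian F G) + 1 = e := by
  obtain ⟨⟨s, hsV, hs0, hse⟩, hmax⟩ := hram
  obtain ⟨t, htV, hta⟩ := hbpf
  have hm : rootMultiplicity a s = e := le_antisymm (hmax s hsV hs0) hse
  have hm1 : 1 ≤ rootMultiplicity a s := by omega
  have hsa : s.eval a = 0 := (rootMultiplicity_pos hs0).1 hm1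
  obtain ⟨c, hc, hWst⟩ := wr_mem F G a s t hsV htV hs0 hsa hta
  have hWne : wronskian s t ≠ 0 := by
    rw [hWst]; exact smul_ne_zero hc hW
  have hmult : rootMultiplicity a (wronskian s t) = rootMultiplicity a (wronskian F G) := by
    rw [hWst, smul_eq_C_mul, rootMultiplicity_mul (by
      rw [← smul_eq_C_mul]; exact smul_ne_zero hc hW), rootMultiplicity_C, zero_add]
  obtain ⟨b1, -, b3⟩ := Groth.Agent.S19560.mult_lemma a s t hs0 hm1 hta hWne
  have hne : ((rootMultiplicity a s : ℕ) : k) ≠ 0 := by
    rw [hm]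
    intro h0
    have := (CharP.cast_eq_zero_iff k p e).1 h0
    have := Nat.le_of_dvd (by omega) this
    omega
  have := b3 hne
  omega

theorem result' (k : Type u) [Field k] [IsAlgClosed k] (p : ℕ) [Fact p.Prime] [CharP k p]
    (d n : ℕ) (P : Fin n → k) (e : Fin n → ℕ) (E : ℕ)
    (he : W4c1limliniiii.Admissible p d (Fin.cons E e : Fin (n + 1) → ℕ))
    (hlt : ∀ i, e i < p) (hE : p < E) :
    {V : Submodule k k[X] | V ∈ W4c1limliniiii.ramMaps d P e ∧ W4c1limliniiii.HasRamIdxInf d V E} = ∅ ∨
      {V : Submodule k k[X] | V ∈ W4c1limliniiii.ramMaps d P e ∧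
        W4c1limliniiii.HasRamIdxInf d V E}.Infinite := by
  have hp0 : 0 < p := (Fact.out : p.Prime).pos
  have he2 : ∀ i, 2 ≤ e i := by
    intro i
    have := (he.1 i.succ).1
    simpa using this
  by_cases hemp : {V : Submodule k k[X] | V ∈ W4c1limliniiii.ramMaps d P e ∧
      W4c1limliniiii.HasRamIdxInf d V E} = ∅
  · exact Or.inl hemp
  right
  obtain ⟨V, ⟨⟨hVle, hVrk, ⟨F, hFV, hFd⟩, hbpf⟩, ⟨F', hF'V, G', hG'V, hW'⟩, hram⟩,
    ⟨G, hGV, hG0, hGd⟩, hinf⟩ := Set.nonempty_iff_ne_empty.2 hemp
  have hGd' : d ≤ G.natDegree + E := hinf G hGV hG0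
  have hGlt : G.natDegree < d := by omega
  -- V = span {F, G}
  have hfin : FiniteDimensional k V := Module.finite_of_finrank_pos (by rw [hVrk]; norm_num)
  have hspan : Submodule.span k ({F, G} : Set k[X]) = V := by
    apply Submodule.eq_of_le_of_finrank_eq
    · rw [Submodule.span_le]
      rintro x (rfl | rfl)
      · exact hFV
      · exact hGV
    · rw [finrank_pair d F G hFd hGlt hG0, hVrk]
  subst hspan
  -- W(F,G) ≠ 0
  have hW : wronskian F G ≠ 0 := by
    obtain ⟨α, β, rfl⟩ := Submodule.mem_span_pair.1 hF'V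
    obtain ⟨γ, δ, rfl⟩ := Submodule.mem_span_pair.1 hG'V
    rw [Groth.Agent.S19560.wr_comb] at hW'
    intro h
    rw [h, smul_zero] at hW'
    exact hW' rfl
  -- the family
  let Fc : k → k[X] := fun c => F + C c * (X ^ p * G)
  have hXG : ∀ c : k, (C c * (X ^ p * G)).natDegree < d := by
    intro c
    refine lt_of_le_of_lt (natDegree_C_mul_le _ _) ?_
    rw [natDegree_mul (pow_ne_zero _ X_ne_zero) hG0, natDegree_X_pow]
    omega
  have hFcd : ∀ c, (Fc c).natDegree = d := by
    intro c
    show (F + C c * (X ^ p * G)).natDegree = d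
    rw [natDegree_add_eq_left_of_natDegree_lt (by rw [hFd]; exact hXG c), hFd]
  have hWc : ∀ c, wronskian (Fc c) G = wronskian F G := fun c => wr_shift p F G c
  have hpencil : ∀ c, IsPencil d (Submodule.span k ({Fc c, G} : Set k[X])) := by
    intro c
    refine ⟨?_, finrank_pair d (Fc c) G (hFcd c) hGlt hG0, ⟨Fc c, Submodule.subset_span (by simp),
      hFcd c⟩, ?_⟩
    · rw [Submodule.span_le]
      rintro x (rfl | rfl)
      · rw [SetLike.mem_coe, mem_degreeLE]
        exact natDegree_le_iff_degree_le.1 (hFcd c).le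
      · rw [SetLike.mem_coe, mem_degreeLE]
        exact natDegree_le_iff_degree_le.1 hGlt.le
    · intro a
      by_cases hGa : G.eval a = 0
      · refine ⟨Fc c, Submodule.subset_span (by simp), ?_⟩
        obtain ⟨s, hs, hsa⟩ := hbpf a
        obtain ⟨α, β, rfl⟩ := Submodule.mem_span_pair.1 hs
        show (F + C c * (X ^ p * G)).eval a ≠ 0
        intro h
        apply hsa
        simp only [eval_add, eval_mul, eval_C, eval_pow, eval_X, hGa, mul_zero, add_zero] at h
        simp [h, hGa]
      · exact ⟨G, Submodule.subset_span (by simp), hGa⟩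
  have hmemS : ∀ c, Submodule.span k ({Fc c, G} : Set k[X]) ∈
      {V : Submodule k k[X] | V ∈ W4c1limliniiii.ramMaps d P e ∧
        W4c1limliniiii.HasRamIdxInf d V E} := by
    intro c
    refine ⟨⟨hpencil c, ⟨Fc c, Submodule.subset_span (by simp), G, Submodule.subset_span (by simp),
      by rw [hWc c]; exact hW⟩, ?_⟩, ⟨G, Submodule.subset_span (by simp), hG0, hGd⟩, ?_⟩
    · intro i
      have hmul : rootMultiplicity (P i) (wronskian F G) + 1 = e i :=
        mult_wr p F G hW (P i) (e i) (by have := he2 i; omega) (hlt i) (hbpf (P i)) (hram i)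
      have := Groth.Agent.S19560.result k p d (Fc c) G (hpencil c) (by rw [hWc c]; exact hW) (P i)
        (e i) (by rw [hWc c]; exact hmul) (Or.inr (by have := hlt i; omega))
      exact this.1
    · intro s hs hs0
      rcases natDegree_mem d (Fc c) G (hFcd c) hGlt s hs hs0 with h | h
      · omega
      · omega
  refine Set.infinite_of_injective_forall_mem (f := fun c : k =>
    Submodule.span k ({Fc c, G} : Set k[X])) ?_ hmemS
  intro c c' hcc
  by_contra hne
  have hmem : Fc c ∈ Submodule.span k ({Fc c', G} : Set k[X]) := by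
    have : Fc c ∈ Submodule.span k ({Fc c, G} : Set k[X]) := Submodule.subset_span (by simp)
    have hcc' : Submodule.span k ({Fc c, G} : Set k[X]) = Submodule.span k ({Fc c', G} : Set k[X]) :=
      hcc
    rw [hcc'] at this
    exact this
  have hmem' : Fc c' ∈ Submodule.span k ({Fc c', G} : Set k[X]) := Submodule.subset_span (by simp)
  have hdiff : C (c - c') * (X ^ p * G) ∈ Submodule.span k ({Fc c', G} : Set k[X]) := by
    have := Submodule.sub_mem _ hmem hmem'
    have heq : Fc c - Fc c' = C (c - c') * (X ^ p * G) := by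
      show (F + C c * (X ^ p * G)) - (F + C c' * (X ^ p * G)) = _
      rw [map_sub]; ring
    rwa [heq] at this
  have hcc0 : c - c' ≠ 0 := sub_ne_zero.2 hne
  have hne0 : C (c - c') * (X ^ p * G) ≠ 0 :=
    mul_ne_zero (C_ne_zero.2 hcc0) (mul_ne_zero (pow_ne_zero _ X_ne_zero) hG0)
  have hdeg : (C (c - c') * (X ^ p * G)).natDegree = p + G.natDegree := by
    rw [natDegree_C_mul hcc0, natDegree_mul (pow_ne_zero _ X_ne_zero) hG0, natDegree_X_pow]
  rcases natDegree_mem d (Fc c') G (hFcd c') hGlt _ hdiff hne0 with h | h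
  · rw [hdeg] at h; omega
  · rw [hdeg] at h; omega


open Polynomial in
/-- Over an algebraically closed field of prime characteristic p, fix n points of the affine line with
ramification indices e_i < p, and at infinity an index E with p < E and E prime to p, the datum (E,
e_1, …, e_n) being admissible for degree d (each index between 2 and d, ∑ (index − 1) = 2d − 2). If
one separable degree-d self-map of the projective line (up to automorphisms of the target, encoded
as a base-point-free separable pencil of polynomials of degree at most d) has ramification index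
exactly e_i at the i-th point and exactly E at infinity, then infinitely many do: the set of such
pencils is empty or infinite. (The consequence for general points, that no such map exists, is not
restated.) -/
theorem result
    (k : Type u) [Field k] [IsAlgClosed k] (p : ℕ) [Fact p.Prime] [CharP k p]
    (d n : ℕ) (P : Fin n → k) (e : Fin n → ℕ) (E : ℕ)
    (he : W4c1limliniiii.Admissible p d (Fin.cons E e : Fin (n + 1) → ℕ))
    (hlt : ∀ i, e i < p) (hE : p < E) :
    {V : Submodule k k[X] | V ∈ W4c1limliniiii.ramMaps d P e ∧ W4c1limliniiii.HasRamIdxInf d V E} = ∅ ∨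
      {V : Submodule k k[X] | V ∈ W4c1limliniiii.ramMaps d P e ∧
        W4c1limliniiii.HasRamIdxInf d V E}.Infinite := by
  exact result' k p d n P e E he hlt hE

end Groth.Agent.S13920
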