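import Groth.Statements.S13926
import Mathlib.Tactic
import Mathlib.LinearAlgebra.FiniteDimensional.Lemmas

set_option autoImplicit false
universe u v w
open W4c1limliniiii

namespace Groth.Agent.S13926

open Module

theorem exists_between (k : Type u) [Field k] (E : Type w) [AddCommGroup E] [Module k E]
    [FiniteDimensional k E] (A B : Submodule k E) (hAB : A ≤ B) (r : ℕ)
    (hA : finrank k A ≤ r) (hB : r ≤ finrank k B) :
    ∃ V : Submodule k E, A ≤ V ∧ V ≤ B ∧ finrank k V = r := by
  induction r, hA using Nat.le_induction with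
  | base => exact ⟨A, le_rfl, hAB, rfl⟩
  | succ m hm ih =>
    obtain ⟨V, hAV, hVB, hV⟩ := ih (by omega)
    have hne : V ≠ B := by
      rintro rfl
      omega
    obtain ⟨x, hxB, hxV⟩ := SetLike.exists_of_lt (lt_of_le_of_ne hVB hne)
    refine ⟨V ⊔ Submodule.span k {x}, hAV.trans le_sup_left, sup_le hVB ?_, ?_⟩
    · rw [Submodule.span_le, Set.singleton_subset_iff]
      exact hxB
    · rw [Submodule.finrank_sup_span_singleton hxV, hV]

/-- Let k be a field, E₁ and E₂ finite-dimensional vector spaces over k of the same dimension, f : E₁ →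
E₂ and g : E₂ → E₁ linear maps whose composite g ∘ f is multiplication by a scalar s, and V₁ a
subspace of E₁. Then there is a subspace V₂ of E₂ of the same dimension as V₁ with f(V₁) ≤ V₂ and
g(V₂) ≤ V₁. (The published statement is the surjectivity of the truncation morphisms of a linked
Grassmannian, with a further assertion on lifting families; this row is the lifting step over a
field — over a point the chain of linked subspaces V_1, …, V_{n'} extends one index at a time — and
assumes only g ∘ f = s.) -/
theorem result (k : Type u) [Field k]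
    (E₁ : Type v) (E₂ : Type w) [AddCommGroup E₁] [Module k E₁] [FiniteDimensional k E₁]
    [AddCommGroup E₂] [Module k E₂] [FiniteDimensional k E₂]
    (hdim : Module.finrank k E₁ = Module.finrank k E₂)
    (f : E₁ →ₗ[k] E₂) (g : E₂ →ₗ[k] E₁) (s : k) (hgf : g.comp f = s • LinearMap.id)
    (V₁ : Submodule k E₁) :
    ∃ V₂ : Submodule k E₂, Module.finrank k V₂ = Module.finrank k V₁ ∧
      Submodule.map f V₁ ≤ V₂ ∧ Submodule.map g V₂ ≤ V₁ := by
  have hle : Submodule.map f V₁ ≤ Submodule.comap g V₁ := by
    rintro _ ⟨v, hv, rfl⟩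
    rw [Submodule.mem_comap]
    have : g (f v) = s • v := LinearMap.congr_fun hgf v
    rw [this]
    exact V₁.smul_mem s hv
  have hA : finrank k (Submodule.map f V₁) ≤ finrank k V₁ := Submodule.finrank_map_le f V₁
  have hB : finrank k V₁ ≤ finrank k (Submodule.comap g V₁) := by
    have h1 := LinearMap.finrank_range_add_finrank_ker (V₁.mkQ ∘ₗ g)
    have h2 : finrank k (LinearMap.range (V₁.mkQ ∘ₗ g)) ≤ finrank k (E₁ ⧸ V₁) :=
      Submodule.finrank_le _
    have h3 := V₁.finrank_quotient_add_finrank
    have h4 : LinearMap.ker (V₁.mkQ ∘ₗ g) = Submodule.comap g V₁ := by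
      rw [LinearMap.ker_comp, Submodule.ker_mkQ]
    rw [h4] at h1
    omega
  obtain ⟨V₂, h1, h2, h3⟩ := exists_between k E₂ _ _ hle _ hA hB
  exact ⟨V₂, h3, h1, Submodule.map_le_iff_le_comap.mpr h2⟩

end Groth.Agent.S13926
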