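import Groth.Statements.S13934
import Groth.Agent.Lib.CurveVB54
import Groth.Agent.Lib.DegAdd54
import Groth.Agent.S0002
import Mathlib
-- import your own Groth.Agent.* helpers here

set_option autoImplicit false
universe u
open CategoryTheory CategoryTheory.Limits AlgebraicGeometry
open W4c1limliniiii

namespace Groth.Agent.S13934

/-- On a smooth proper integral curve over an algebraically closed field (any characteristic), let 0 → L
→ E → M → 0 be a short exact sequence of O_X-modules with E finite locally free of rank 2 and degree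
0, L and M invertible and deg L > 0 (so M is det E ⊗ L⁻¹). Then: every invertible sheaf N admitting
a non-zero map N → E has deg N ≤ deg L, so L is the line bundle of maximal degree in E; every
invertible subsheaf N of E of positive degree with invertible quotient E/N coincides with L (some
isomorphism N ≅ L commutes with the inclusions); and E is not an extension of two invertible sheaves
of degree 0. Degrees are χ(−) minus rank times χ(O_X). (The published lemma is stated on a curve of
genus 2 in characteristic p; its argument uses neither, and this row assumes neither.) -/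
theorem result (k : Type u) [Field k] [IsAlgClosed k] (X : Scheme.{u}) [X.Over (Spec (CommRingCat.of k))]
    [IsIntegral X] [IsProper (X ↘ Spec (CommRingCat.of k))] [Smooth (X ↘ Spec (CommRingCat.of k))]
    (hdim : topologicalKrullDim X = 1)
    (S : ShortComplex X.Modules) (hS : S.ShortExact)
    (hE : FlatMod.IsFinLocFreeOfRank 2 S.X₂) (hE0 : Curv2.deg k X S.X₂ 2 = 0)
    (hL : PicF.IsInvertible S.X₁) (hM : PicF.IsInvertible S.X₃) (hpos : 0 < Curv2.deg k X S.X₁ 1) :
    (∀ (N : X.Modules), PicF.IsInvertible N → ∀ j : N ⟶ S.X₂, j ≠ 0 →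
        Curv2.deg k X N 1 ≤ Curv2.deg k X S.X₁ 1) ∧
    (∀ (N : X.Modules), PicF.IsInvertible N → ∀ (j : N ⟶ S.X₂), Mono j →
        PicF.IsInvertible (cokernel j) → 0 < Curv2.deg k X N 1 → ∃ φ : N ≅ S.X₁, φ.hom ≫ S.f = j) ∧
    (∀ (N N' : X.Modules), PicF.IsInvertible N → PicF.IsInvertible N' →
        Curv2.deg k X N 1 = 0 → Curv2.deg k X N' 1 = 0 →
        ∀ (a : N ⟶ S.X₂) (b : S.X₂ ⟶ N') (w : a ≫ b = 0), ¬ (ShortComplex.mk a b w).ShortExact) := by
  have H : Groth.Agent.Lib.ProperFinHyp.Hyp.{u} :=
    fun A _ _ X _ _ M hM n => Groth.Agent.S0002.result A X M hM n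
  have hmf : Mono S.f := hS.mono_f
  have hdeg : Curv2.deg k X S.X₂ 2 = Curv2.deg k X S.X₁ 1 + Curv2.deg k X S.X₃ 1 :=
    Groth.Agent.Lib.DegAdd54.deg_add H k X S hS 1 2 1
      ((Groth.Agent.Lib.H90Invertible.isInvertible_iff_isFinLocFreeOfRank_one _).mp hL) hE
      ((Groth.Agent.Lib.H90Invertible.isInvertible_iff_isFinLocFreeOfRank_one _).mp hM)
  have hMneg : Curv2.deg k X S.X₃ 1 < 0 := by lia
  refine ⟨?_, ?_, ?_⟩
  · intro N hN j hj
    by_cases h : j ≫ S.g = 0
    · have ha : hS.exact.lift j h ≫ S.f = j := hS.exact.lift_f j h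
      have hne : hS.exact.lift j h ≠ 0 := by
        intro h0
        apply hj
        rw [← ha, h0, zero_comp]
      exact (Groth.Agent.Lib.DegCurve54b.deg_le_and_isIso H k X hdim hN hL _ hne).1
    · have := (Groth.Agent.Lib.DegCurve54b.deg_le_and_isIso H k X hdim hN hM _ h).1
      lia
  · intro N hN j hj hq hNpos
    rcases Groth.Agent.Lib.CurveVB54.iso_or_comp_ne_zero S hS hL hN j hq with h | h
    · exact h
    · have := (Groth.Agent.Lib.DegCurve54b.deg_le_and_isIso H k X hdim hN hM _ h).1
      lia
  · intro N N' hN hN' hN0 hN'0 a b w hT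
    have hma : Mono (ShortComplex.mk a b w).f := hT.mono_f
    by_cases h : S.f ≫ b = 0
    · have hc : hT.exact.lift S.f h ≫ a = S.f := hT.exact.lift_f S.f h
      have hne : hT.exact.lift S.f h ≠ 0 := by
        intro h0
        have h1 : S.f = 0 := by rw [← hc, h0, zero_comp]
        have h2 : 𝟙 S.X₁ = 0 := by
          rw [← cancel_mono S.f, h1, comp_zero, comp_zero]
        have hz : IsZero S.X₁ := (IsZero.iff_id_eq_zero _).mpr h2
        exact Groth.Agent.Lib.CurveVB54.not_isZero_of_isInvertible hL hz
      have := (Groth.Agent.Lib.DegCurve54b.deg_le_and_isIso H k X hdim hL hN _ hne).1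
      lia
    · have := (Groth.Agent.Lib.DegCurve54b.deg_le_and_isIso H k X hdim hL hN' _ h).1
      lia

end Groth.Agent.S13934
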