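import Groth.Statements.S13936
-- import your own Groth.Agent.* helpers here

set_option autoImplicit false
universe u
open W4c1limliniiii

namespace Groth.Agent.S13936

open scoped TensorProduct

namespace PPaux

variable (R SX : Type u) [CommRing R] [CommRing SX] [Algebra R SX]

local notation "J" => KaehlerDifferential.ideal R SX

/-- `D x = 1 ⊗ x - x ⊗ 1`. -/
def D (x : SX) : SX ⊗[R] SX := (1 : SX) ⊗ₜ[R] x - x ⊗ₜ[R] (1 : SX)

variable {R SX}

theorem D_mem (x : SX) : D R SX x ∈ J := KaehlerDifferential.one_smul_sub_smul_one_mem_ideal R x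

theorem D_add (x y : SX) : D R SX (x + y) = D R SX x + D R SX y := by
  simp only [D, TensorProduct.tmul_add, TensorProduct.add_tmul]; ring

theorem D_mul (a x : SX) :
    D R SX (a * x) = (a ⊗ₜ[R] (1 : SX)) * D R SX x + D R SX a * D R SX x +
      D R SX a * (x ⊗ₜ[R] (1 : SX)) := by
  simp only [D, mul_sub, sub_mul, Algebra.TensorProduct.tmul_mul_tmul, one_mul, mul_one]
  ring

/-- Key computation: for `x ∈ I^(m+1)`, `1 ⊗ x - x ⊗ 1 ∈ (I ⊗ 1) J + J^(m+1)`. -/
theorem D_mem_of_mem_pow (I : Ideal SX) (m : ℕ) (x : SX) (hx : x ∈ I ^ (m + 1)) :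
    D R SX x ∈ (I.map (Algebra.TensorProduct.includeLeft (R := R) (S := R) (A := SX) (B := SX)).toRingHom) * J
      ⊔ J ^ (m + 1) := by
  induction m generalizing x with
  | zero =>
    rw [zero_add, pow_one]
    exact Ideal.mem_sup_right (D_mem x)
  | succ m ih =>
    rw [pow_succ'] at hx
    refine Submodule.mul_induction_on hx ?_ ?_
    · intro a ha x' hx'
      rw [D_mul]
      have h1 := ih x' hx'
      have ha' : a ⊗ₜ[R] (1 : SX) ∈
          I.map (Algebra.TensorProduct.includeLeft (R := R) (S := R) (A := SX) (B := SX)).toRingHom :=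
        Ideal.mem_map_of_mem _ ha
      refine Ideal.add_mem _ (Ideal.add_mem _ ?_ ?_) ?_
      · -- (a ⊗ 1) * D x'
        exact Ideal.mem_sup_left (Ideal.mul_mem_mul ha' (D_mem x'))
      · -- D a * D x'
        obtain ⟨u, hu, v, hv, huv⟩ := Submodule.mem_sup.mp h1
        rw [← huv, mul_add]
        refine Ideal.add_mem _ (Ideal.mem_sup_left (Ideal.mul_mem_left _ _ hu)) ?_
        refine Ideal.mem_sup_right ?_
        rw [pow_succ']
        exact Ideal.mul_mem_mul (D_mem a) hv
      · -- D a * (x' ⊗ 1)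
        refine Ideal.mem_sup_left ?_
        rw [mul_comm (D R SX a)]
        refine Ideal.mul_mem_mul (Ideal.mem_map_of_mem _ ?_) (D_mem a)
        exact Ideal.pow_le_self (Nat.succ_ne_zero m) hx'
    · intro x y hx hy
      rw [D_add]
      exact Ideal.add_mem _ hx hy

end PPaux

namespace PPaux

noncomputable section

variable {R SX : Type u} [CommRing R] [CommRing SX] [Algebra R SX] (σ : SX →ₐ[R] R) (n : ℕ)

local notation "J" => KaehlerDifferential.ideal R SX
local notation "I" => RingHom.ker σ.toRingHom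

/-- The submodule `I • T^n` of `P^n`. -/
def M : Submodule SX (PP16.P n R SX) := I • (PP16.augIdeal n R SX).restrictScalars SX

theorem smul_mk (a : SX) (t : SX ⊗[R] SX) :
    a • (Ideal.Quotient.mk (J ^ (n + 1)) t) = Ideal.Quotient.mk (J ^ (n + 1)) ((a ⊗ₜ[R] (1 : SX)) * t) := by
  rw [Algebra.smul_def]
  rfl

theorem mul_mem_M (p : PP16.P n R SX) {m : PP16.P n R SX} (hm : m ∈ M σ n) : p * m ∈ M σ n := by
  unfold M at hm ⊢
  refine Submodule.smul_induction_on hm ?_ ?_
  · intro a ha t ht
    rw [mul_smul_comm]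
    exact Submodule.smul_mem_smul ha ((PP16.augIdeal n R SX).mul_mem_left p ht)
  · intro x y hx hy
    rw [mul_add]
    exact Submodule.add_mem _ hx hy

theorem mk_mem_M_of_mem_mul {t : SX ⊗[R] SX}
    (ht : t ∈ (Ideal.map (Algebra.TensorProduct.includeLeft (R := R) (S := R) (A := SX) (B := SX)).toRingHom I) * J) :
    Ideal.Quotient.mk (J ^ (n + 1)) t ∈ M σ n := by
  refine Submodule.mul_induction_on ht ?_ ?_
  · intro u hu v hv
    -- `u` is a combination of `a ⊗ 1`, `a ∈ I`
    refine Submodule.span_induction ?_ ?_ ?_ ?_ hu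
    · rintro _ ⟨a, ha, rfl⟩
      change Ideal.Quotient.mk (J ^ (n + 1)) ((a ⊗ₜ[R] (1 : SX)) * v) ∈ M σ n
      rw [← smul_mk]
      exact Submodule.smul_mem_smul ha (Ideal.mem_map_of_mem _ hv)
    · rw [zero_mul, map_zero]; exact Submodule.zero_mem _
    · intro x y _ _ hx hy
      rw [add_mul, map_add]; exact Submodule.add_mem _ hx hy
    · intro s x _ hx
      rw [smul_eq_mul, mul_assoc, map_mul]
      exact mul_mem_M σ n _ hx
  · intro x y hx hy
    rw [map_add]; exact Submodule.add_mem _ hx hy

/-- The ring map `SX ⊗ SX → SX`, `a ⊗ c ↦ σ(a) c`. -/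
def ψ : SX ⊗[R] SX →ₐ[R] SX :=
  Algebra.TensorProduct.lift ((Algebra.ofId R SX).comp σ) (AlgHom.id R SX) (fun _ _ => Commute.all _ _)

theorem ψ_tmul (a c : SX) : ψ σ (a ⊗ₜ[R] c) = algebraMap R SX (σ a) * c := by
  simp [ψ, Algebra.TensorProduct.lift_tmul, Algebra.ofId_apply]

theorem ψ_D (x : SX) : ψ σ (D R SX x) = x - algebraMap R SX (σ x) := by
  simp [D, ψ_tmul]

theorem sub_mem_I (x : SX) : x - algebraMap R SX (σ x) ∈ I := by
  rw [RingHom.mem_ker]
  simp

theorem ψ_J_le : J ≤ Ideal.comap (ψ σ).toRingHom I := by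
  rw [← KaehlerDifferential.span_range_eq_ideal, Ideal.span_le]
  rintro _ ⟨x, rfl⟩
  change ψ σ (D R SX x) ∈ I
  rw [ψ_D]
  exact sub_mem_I σ x

/-- The induced ring map `P^n → SX / I^(n+1)`. -/
def Φ : PP16.P n R SX →+* SX ⧸ I ^ (n + 1) :=
  Ideal.Quotient.lift (J ^ (n + 1)) ((Ideal.Quotient.mk (I ^ (n + 1))).comp (ψ σ).toRingHom) (by
    intro t ht
    rw [RingHom.comp_apply, Ideal.Quotient.eq_zero_iff_mem]
    have h := Ideal.pow_right_mono (ψ_J_le σ) (n + 1)
    exact Ideal.le_comap_pow _ _ (h ht))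

end

end PPaux

namespace PPaux

noncomputable section

variable {R SX : Type u} [CommRing R] [CommRing SX] [Algebra R SX] (σ : SX →ₐ[R] R) (n : ℕ)

local notation "J" => KaehlerDifferential.ideal R SX
local notation "I" => RingHom.ker σ.toRingHom

theorem Φ_mk (t : SX ⊗[R] SX) :
    Φ σ n (Ideal.Quotient.mk (J ^ (n + 1)) t) = Ideal.Quotient.mk (I ^ (n + 1)) (ψ σ t) := rfl

theorem Φ_eq_zero_of_mem_M {m : PP16.P n R SX} (hm : m ∈ M σ n) : Φ σ n m = 0 := by
  unfold M at hm
  refine Submodule.smul_induction_on hm ?_ ?_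
  · intro a ha t _
    rw [Algebra.smul_def, map_mul]
    have : Φ σ n (algebraMap SX (PP16.P n R SX) a) = 0 := by
      change Φ σ n (Ideal.Quotient.mk (J ^ (n + 1)) (a ⊗ₜ[R] (1 : SX))) = 0
      have ha0 : σ a = 0 := (RingHom.mem_ker).mp ha
      rw [Φ_mk, ψ_tmul, ha0, map_zero, zero_mul, map_zero]
    rw [this, zero_mul]
  · intro x y hx hy
    rw [map_add, hx, hy, add_zero]

variable {SY : Type u} [CommRing SY] [Algebra R SY] [Algebra SY SX] [IsScalarTower R SY SX]

theorem main :
    (∀ y ∈ PP16.augIdeal n R SY, PP16.map n R SY R SX y ∈ M σ n) ↔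
      (∀ b : SY, algebraMap SY SX b ∈ I → algebraMap SY SX b ∈ I ^ (n + 1)) := by
  constructor
  · intro h b hb
    have hy : Ideal.Quotient.mk ((KaehlerDifferential.ideal R SY) ^ (n + 1)) (D R SY b) ∈
        PP16.augIdeal n R SY := Ideal.mem_map_of_mem _ (D_mem b)
    have h1 := Φ_eq_zero_of_mem_M σ n (h _ hy)
    rw [PP16.map_mk] at h1
    have h2 : PP16.tensorMap R SY R SX (D R SY b) = D R SX (algebraMap SY SX b) := by
      simp only [D, map_sub, PP16.tensorMap_tmul, map_one]
    have hb0 : σ (algebraMap SY SX b) = 0 := (RingHom.mem_ker).mp hb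
    rw [h2, Φ_mk, ψ_D, hb0, map_zero, sub_zero,
      Ideal.Quotient.eq_zero_iff_mem] at h1
    exact h1
  · intro h y hy
    obtain ⟨t, ht, rfl⟩ := (Ideal.mem_map_iff_of_surjective _ Ideal.Quotient.mk_surjective).mp hy
    rw [PP16.map_mk]
    rw [← KaehlerDifferential.span_range_eq_ideal] at ht
    refine Submodule.span_induction ?_ ?_ ?_ ?_ ht
    · rintro _ ⟨b, rfl⟩
      change Ideal.Quotient.mk _ (PP16.tensorMap R SY R SX (D R SY b)) ∈ M σ n
      have h2 : PP16.tensorMap R SY R SX (D R SY b) = D R SX (algebraMap SY SX b) := by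
        simp only [D, map_sub, PP16.tensorMap_tmul, map_one]
      rw [h2]
      -- subtract the constant
      set b' := algebraMap SY SX b with hb'
      let c : SY := b - algebraMap R SY (σ b')
      have hc : algebraMap SY SX c = b' - algebraMap R SX (σ b') := by
        simp only [c, map_sub, hb', ← IsScalarTower.algebraMap_apply]
      have hD : D R SX b' = D R SX (algebraMap SY SX c) := by
        rw [hc]
        simp only [D, TensorProduct.tmul_sub, TensorProduct.sub_tmul]
        have : (1 : SX) ⊗ₜ[R] (algebraMap R SX (σ b')) = (algebraMap R SX (σ b')) ⊗ₜ[R] (1 : SX) := by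
          rw [Algebra.algebraMap_eq_smul_one, TensorProduct.tmul_smul, TensorProduct.smul_tmul']
        rw [this]; ring
      have hcI : algebraMap SY SX c ∈ I := by rw [hc]; exact sub_mem_I σ b'
      have hcpow := h c hcI
      have hmem := D_mem_of_mem_pow (R := R) I n _ hcpow
      rw [hD]
      obtain ⟨u, hu, v, hv, huv⟩ := Submodule.mem_sup.mp hmem
      rw [← huv, map_add, Ideal.Quotient.eq_zero_iff_mem.mpr hv, add_zero]
      exact mk_mem_M_of_mem_mul σ n hu
    · rw [map_zero, map_zero]; exact Submodule.zero_mem _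
    · intro x y _ _ hx hy
      rw [map_add, map_add]; exact Submodule.add_mem _ hx hy
    · intro s x _ hx
      rw [smul_eq_mul, map_mul, map_mul]
      exact mul_mem_M σ n _ hx

end

end PPaux


/-- Let R be a commutative ring, S_Y → S_X a homomorphism of R-algebras (an affine piece of a morphism f
: X → Y of schemes over Spec R) and σ : S_X → R an R-algebra retraction (a section of X over the
base) with kernel I. For e ≥ 1 write T^{e−1} for the augmentation ideal of the ring of principal
parts of order e − 1 (the kernel of P^{e−1} → the algebra; for e = 2 this is the module of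
differentials). Then the natural map T^{e−1}(S_Y/R) → T^{e−1}(S_X/R) takes values in I ·
T^{e−1}(S_X/R) — that is, the induced map f^*T^{e−1}_Y → T^{e−1}_X vanishes at the section σ — if
and only if every element of S_Y whose image in S_X lies in I has image in I^e, which says that the
fibre of f through σ contains the e-th order thickening of σ. (The published statement is for a
morphism of separated schemes over a base and sections over an arbitrary base change; this row is
the affine computation it reduces to.) -/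
theorem result (R SY SX : Type u)
    [CommRing R] [CommRing SY] [CommRing SX] [Algebra R SY] [Algebra R SX] [Algebra SY SX]
    [IsScalarTower R SY SX] (σ : SX →ₐ[R] R) (e : ℕ) (he : 1 ≤ e) :
    (∀ y ∈ PP16.augIdeal (e - 1) R SY,
        PP16.map (e - 1) R SY R SX y ∈
          RingHom.ker σ.toRingHom • (PP16.augIdeal (e - 1) R SX).restrictScalars SX) ↔
      (∀ b : SY, algebraMap SY SX b ∈ RingHom.ker σ.toRingHom →
        algebraMap SY SX b ∈ RingHom.ker σ.toRingHom ^ e) := by
  obtain ⟨n, rfl⟩ : ∃ n, e = n + 1 := ⟨e - 1, by omega⟩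
  exact PPaux.main σ n

end Groth.Agent.S13936
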