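import Groth.Statements.S1394
import Mathlib.RingTheory.ZariskisMainTheorem
import Mathlib.RingTheory.Ideal.KrullsHeightTheorem
import Groth.Agent.Lib.H56RegSmooth2

set_option autoImplicit false
universe u
open FlatMor

namespace Groth.Agent.S1394

section helpers

open IsLocalRing

lemma quasiFinite_of_quotient_aux {A C B' : Type u} [CommRing A] [CommRing C] [CommRing B']
    [Algebra A C] [Algebra C B'] [Algebra A B'] [IsScalarTower A C B'] [Algebra.FiniteType A C]
    [IsLocalRing B'] (n : Ideal C) [n.IsPrime] [IsLocalization.AtPrime B' n]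
    (h : Algebra.QuasiFinite A (B' ⧸ ((maximalIdeal B').under A).map (algebraMap A B'))) :
    Algebra.QuasiFinite A B' := by
  let e : Localization.AtPrime n ≃ₐ[C] B' := IsLocalization.algEquiv n.primeCompl _ _
  let ek : Localization.AtPrime n ≃ₐ[A] B' := e.restrictScalars A
  have hunder : n.under A = (maximalIdeal B').under A := by
    rw [← IsLocalization.AtPrime.under_maximalIdeal B' n]
    ext a
    simp only [Ideal.under, Ideal.mem_comap]
    rw [← IsScalarTower.algebraMap_apply]
  have : Algebra.WeaklyQuasiFiniteAt A n := by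
    rw [Algebra.weaklyQuasiFiniteAt_iff]
    let g : B' →ₐ[A] (Localization.AtPrime n ⧸ (n.under A).map
        (algebraMap A (Localization.AtPrime n))) :=
      (Ideal.Quotient.mkₐ A _).comp ek.symm.toAlgHom
    have hle : ((maximalIdeal B').under A).map (algebraMap A B') ≤ RingHom.ker g.toRingHom := by
      rw [Ideal.map_le_iff_le_comap]
      intro a ha
      rw [Ideal.mem_comap, RingHom.mem_ker]
      change g (algebraMap A B' a) = 0
      rw [AlgHom.commutes]
      rw [← hunder] at ha
      exact Ideal.Quotient.eq_zero_iff_mem.mpr (Ideal.mem_map_of_mem _ ha)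
    have hg : ∀ x ∈ ((maximalIdeal B').under A).map (algebraMap A B'), g x = 0 :=
      fun x hx => hle hx
    refine .of_surjective_algHom (Ideal.Quotient.liftₐ _ g hg) ?_
    intro y
    obtain ⟨y, rfl⟩ := Ideal.Quotient.mk_surjective y
    refine ⟨Ideal.Quotient.mk _ (ek y), ?_⟩
    change g (ek y) = _
    change Ideal.Quotient.mk _ (ek.symm (ek y)) = _
    rw [AlgEquiv.symm_apply_apply]
  have h2 : Algebra.QuasiFiniteAt A n := .of_weaklyQuasiFiniteAt n
  exact (Algebra.QuasiFinite.iff_of_algEquiv ek).mp h2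

/-- ZMT consequence: an essentially finite type local algebra whose closed fibre is quasi-finite is
quasi-finite. -/
lemma quasiFinite_of_quotient_maximalIdeal {A B' : Type u} [CommRing A] [CommRing B'] [Algebra A B']
    [Algebra.EssFiniteType A B'] [IsLocalRing B']
    (h : Algebra.QuasiFinite A (B' ⧸ ((maximalIdeal B').under A).map (algebraMap A B'))) :
    Algebra.QuasiFinite A B' := by
  have hloc := Groth.Agent.Lib.H56RegSmooth.isLocalization_atPrime_of_essFiniteType A B'
  exact quasiFinite_of_quotient_aux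
    ((maximalIdeal B').comap (algebraMap (Algebra.EssFiniteType.subalgebra A B') B')) h


/-- In a Noetherian local domain, if all nonzero primes contain a fixed nonzero element,
then the only nonzero prime is the maximal ideal. -/
lemma eq_maximalIdeal_of_forall_mem {R : Type u} [CommRing R] [IsDomain R] [IsNoetherianRing R]
    [IsLocalRing R] (s : R) (hs0 : s ≠ 0) (hsm : s ∈ maximalIdeal R)
    (h : ∀ P : Ideal R, P.IsPrime → P ≠ ⊥ → s ∈ P)
    (P : Ideal R) [P.IsPrime] (hP : P ≠ ⊥) : P = maximalIdeal R := by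
  classical
  have hmin : maximalIdeal R ∈ (Ideal.span {s}).minimalPrimes := by
    by_contra hnot
    have hfin := Ideal.finite_minimalPrimes_of_isNoetherianRing R (Ideal.span {s})
    have hsle : Ideal.span {s} ≤ maximalIdeal R := (Ideal.span_singleton_le_iff_mem _).mpr hsm
    obtain ⟨Q₀, hQ₀, -⟩ := Ideal.exists_minimalPrimes_le hsle
    have havoid : ¬ ((maximalIdeal R : Set R) ⊆ ⋃ Q ∈ (hfin.toFinset : Set (Ideal R)), (Q : Set R)) := by
      rw [Ideal.subset_union_prime (f := fun Q : Ideal R => Q) Q₀ Q₀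
        (fun Q hQ _ _ => ((hfin.mem_toFinset).mp hQ).1.1)]
      rintro ⟨Q, hQ, hle⟩
      have hQ' := (hfin.mem_toFinset).mp hQ
      have : Q = maximalIdeal R :=
        le_antisymm (le_maximalIdeal hQ'.1.1.ne_top) hle
      exact hnot (this ▸ hQ')
    obtain ⟨y, hym, hy⟩ := Set.not_subset.mp havoid
    have hyQ : ∀ Q ∈ (Ideal.span {s}).minimalPrimes, y ∉ Q := by
      intro Q hQ hyQ
      apply hy
      simp only [Set.mem_iUnion]
      exact ⟨Q, (hfin.mem_toFinset).mpr hQ, hyQ⟩
    have hy0 : y ≠ 0 := fun h0 => hyQ Q₀ hQ₀ (h0 ▸ zero_mem _)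
    have hyle : Ideal.span {y} ≤ maximalIdeal R := (Ideal.span_singleton_le_iff_mem _).mpr hym
    obtain ⟨Q', hQ', -⟩ := Ideal.exists_minimalPrimes_le hyle
    have hQ'prime : Q'.IsPrime := hQ'.1.1
    have hyQ' : y ∈ Q' := hQ'.1.2 (Ideal.mem_span_singleton_self y)
    have hQ'bot : Q' ≠ ⊥ := fun hb => hy0 (by simpa [hb] using hyQ')
    have hht : Q'.height ≤ 1 :=
      Ideal.height_le_one_of_isPrincipal_of_mem_minimalPrimes _ Q' hQ'
    have hsQ' : s ∈ Q' := h Q' hQ'prime hQ'bot
    have hsle' : Ideal.span {s} ≤ Q' := (Ideal.span_singleton_le_iff_mem _).mpr hsQ'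
    obtain ⟨Q, hQ, hQle⟩ := Ideal.exists_minimalPrimes_le hsle'
    have hQprime : Q.IsPrime := hQ.1.1
    have hQbot : Q ≠ ⊥ := fun hb => hs0 (by
      have := hQ.1.2 (Ideal.mem_span_singleton_self s)
      simpa [hb] using this)
    have hQQ' : Q = Q' := by
      by_contra hne
      have hlt : Q < Q' := lt_of_le_of_ne hQle hne
      have h1 := Ideal.height_add_one_le_of_lt_of_isPrime hlt
      have h0 : Q.height ≠ 0 := fun h0 => hQbot (Ideal.height_eq_zero_iff_eq_bot.mp h0)
      have h2 : (1 : ℕ∞) ≤ Q.height := Order.one_le_iff_pos.mpr (pos_iff_ne_zero.mpr h0)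
      have h3 : (1 : ℕ∞) + 1 ≤ 1 := (add_le_add_left h2 1).trans (h1.trans hht)
      exact absurd h3 (by decide)
    exact hyQ Q hQ (hQQ' ▸ hyQ')
  have hht : (maximalIdeal R).height ≤ 1 :=
    Ideal.height_le_one_of_isPrincipal_of_mem_minimalPrimes _ _ hmin
  by_contra hne
  have hlt : P < maximalIdeal R := lt_of_le_of_ne (le_maximalIdeal (Ideal.IsPrime.ne_top ‹_›)) hne
  have h1 := Ideal.height_add_one_le_of_lt_of_isPrime hlt
  have h0 : P.height ≠ 0 := fun h0 => hP (Ideal.height_eq_zero_iff_eq_bot.mp h0)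
  have h2 : (1 : ℕ∞) ≤ P.height := Order.one_le_iff_pos.mpr (pos_iff_ne_zero.mpr h0)
  have h3 : (1 : ℕ∞) + 1 ≤ 1 := (add_le_add_left h2 1).trans (h1.trans hht)
  exact absurd h3 (by decide)


/-- closed fibre finiteness: a Noetherian local domain `B'` over a local ring `A` in which the only
nonzero prime is the maximal ideal, with some nonzero element of `m_A B'` and finite residue field. -/
lemma finite_quotient_of_forall_eq {A B' : Type u} [CommRing A] [CommRing B'] [Algebra A B']
    [IsLocalRing B'] [IsNoetherianRing B'] [IsDomain B']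
    [Module.Finite A (ResidueField B')]
    (hD : ∀ P : Ideal B', P.IsPrime → P ≠ ⊥ → P = maximalIdeal B')
    (hne : ((maximalIdeal B').under A).map (algebraMap A B') ≠ ⊥) :
    Module.Finite A (B' ⧸ ((maximalIdeal B').under A).map (algebraMap A B')) := by
  have hle : ((maximalIdeal B').under A).map (algebraMap A B') ≤ maximalIdeal B' :=
    Ideal.map_comap_le
  let f : (B' ⧸ ((maximalIdeal B').under A).map (algebraMap A B')) →ₐ[A] ResidueField B' :=
    Ideal.Quotient.factorₐ A hle
  refine Module.finite_of_surjective_of_ker_le_nilradical f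
    (Ideal.Quotient.factor_surjective hle) ?_ (IsNoetherian.noetherian _)
  intro x hx
  rw [nilradical_eq_sInf, Ideal.mem_sInf]
  intro PT hPT
  have hPTprime : PT.IsPrime := hPT
  obtain ⟨y, rfl⟩ := Ideal.Quotient.mk_surjective x
  have hy : y ∈ maximalIdeal B' := by
    have : f (Ideal.Quotient.mk _ y) = 0 := hx
    exact Ideal.Quotient.eq_zero_iff_mem.mp this
  have hP' : (PT.comap (Ideal.Quotient.mk _)) = maximalIdeal B' := by
    refine hD _ (Ideal.comap_isPrime _ _) ?_
    intro hbot
    apply hne
    rw [eq_bot_iff, ← hbot]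
    intro z hz
    rw [Ideal.mem_comap, Ideal.Quotient.eq_zero_iff_mem.mpr hz]
    exact zero_mem _
  exact hP'.ge hy

end helpers


/-- Let A → B be a local homomorphism of local rings with A Noetherian, B essentially of finite type
over A, and the residue field of B finite over that of A. Let V ⊆ Spec B be an open subset
containing some prime that does not lie over the maximal ideal of A. Then V contains a prime q, not
lying over the maximal ideal of A, such that B/q is quasi-finite over A in the sense that every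
fibre ring of A → B/q is finite over the corresponding residue field of A. (The published statement
is stronger: there B/q is moreover a localization of a quasi-finite A-algebra of finite type, which
implies this.) -/
theorem result {A B : Type u} [CommRing A] [CommRing B] [IsLocalRing A] [IsLocalRing B] [IsNoetherianRing A]
    [Algebra A B] [IsLocalHom (algebraMap A B)] [Algebra.EssFiniteType A B]
    [Module.Finite (IsLocalRing.ResidueField A) (IsLocalRing.ResidueField B)]
    (V : Set (PrimeSpectrum B)) (hV : IsOpen V) (hne : ∃ q ∈ V, q.asIdeal.comap (algebraMap A B) ≠ IsLocalRing.maximalIdeal A) :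
    ∃ q ∈ V, q.asIdeal.comap (algebraMap A B) ≠ IsLocalRing.maximalIdeal A ∧ Algebra.QuasiFinite A (B ⧸ q.asIdeal) := by
  classical
  have hBN : IsNoetherianRing B := Algebra.EssFiniteType.isNoetherianRing A B
  obtain ⟨J, hJ⟩ := (PrimeSpectrum.isClosed_iff_zeroLocus_ideal _).mp hV.isClosed_compl
  have hVJ : ∀ p : PrimeSpectrum B, p ∈ V ↔ ¬ J ≤ p.asIdeal := by
    intro p
    have : p ∈ Vᶜ ↔ p ∈ PrimeSpectrum.zeroLocus (J : Set B) := by rw [hJ]
    rw [Set.mem_compl_iff, PrimeSpectrum.mem_zeroLocus, SetLike.coe_subset_coe] at this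
    exact (not_iff_comm.mp this).symm
  -- the set of candidate primes
  let Sg : Set (Ideal B) := {I | I.IsPrime ∧ ¬ J ≤ I ∧
    Ideal.comap (algebraMap A B) I ≠ IsLocalRing.maximalIdeal A}
  have hSgne : Sg.Nonempty := by
    obtain ⟨q, hqV, hq⟩ := hne
    exact ⟨q.asIdeal, q.isPrime, (hVJ q).mp hqV, hq⟩
  obtain ⟨q, ⟨hqprime, hqJ, hqA⟩, hqmax⟩ :
      ∃ q : Ideal B, q ∈ Sg ∧ ∀ I ∈ Sg, ¬ q < I :=
    set_has_maximal_iff_noetherian.mpr hBN Sg hSgne
  -- elements `t ∈ J \ q` and `a ∈ m_A \ q`
  obtain ⟨t, htJ, htq⟩ := SetLike.not_le_iff_exists.mp hqJ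
  have hqAle : Ideal.comap (algebraMap A B) q ≤ IsLocalRing.maximalIdeal A :=
    IsLocalRing.le_maximalIdeal (Ideal.comap_ne_top _ hqprime.ne_top)
  obtain ⟨a, ham, haq⟩ := SetLike.exists_of_lt (lt_of_le_of_ne hqAle hqA)
  have haq' : algebraMap A B a ∉ q := haq
  have hamB : algebraMap A B a ∈ IsLocalRing.maximalIdeal B := by
    rw [IsLocalRing.mem_maximalIdeal, mem_nonunits_iff] at ham ⊢
    exact fun h => ham (isUnit_of_map_unit (algebraMap A B) a h)
  have hsq : t * algebraMap A B a ∉ q := fun h =>
    (hqprime.mem_or_mem h).elim htq haq'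
  have hsP : ∀ P : Ideal B, P.IsPrime → q < P → t * algebraMap A B a ∈ P := by
    intro P hP hlt
    by_cases htP : t ∈ P
    · exact Ideal.mul_mem_right _ _ htP
    · have hJP : ¬ J ≤ P := fun h => htP (h htJ)
      have hPA : Ideal.comap (algebraMap A B) P = IsLocalRing.maximalIdeal A := by
        by_contra hPA
        exact hqmax P ⟨hP, hJP, hPA⟩ hlt
      have : a ∈ Ideal.comap (algebraMap A B) P := hPA ▸ ham
      exact Ideal.mul_mem_left _ _ this
  -- the quotient `B ⧸ q`
  have hloc : IsLocalRing (B ⧸ q) :=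
    IsLocalRing.of_surjective' (Ideal.Quotient.mk q) Ideal.Quotient.mk_surjective
  have hD : ∀ P : Ideal (B ⧸ q), P.IsPrime → P ≠ ⊥ → P = IsLocalRing.maximalIdeal (B ⧸ q) := by
    intro P hP hPbot
    refine eq_maximalIdeal_of_forall_mem (Ideal.Quotient.mk q (t * algebraMap A B a))
      (fun h => hsq (Ideal.Quotient.eq_zero_iff_mem.mp h)) ?_ ?_ P hPbot
    · rw [IsLocalRing.mem_maximalIdeal, mem_nonunits_iff]
      intro hu
      have hmem : t * algebraMap A B a ∈ IsLocalRing.maximalIdeal B :=
        Ideal.mul_mem_left _ _ hamB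
      rw [IsLocalRing.mem_maximalIdeal, mem_nonunits_iff] at hmem
      have : IsLocalHom (Ideal.Quotient.mk q) :=
        IsLocalHom.of_surjective _ Ideal.Quotient.mk_surjective
      exact hmem (isUnit_of_map_unit (Ideal.Quotient.mk q) _ hu)
    · intro P' hP' hP'bot
      have hlt : q < Ideal.comap (Ideal.Quotient.mk q) P' := by
        refine lt_of_le_of_ne ?_ ?_
        · intro x hx
          rw [Ideal.mem_comap, Ideal.Quotient.eq_zero_iff_mem.mpr hx]
          exact zero_mem _
        · intro heq
          apply hP'bot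
          rw [eq_bot_iff]
          intro y hy
          obtain ⟨y, rfl⟩ := Ideal.Quotient.mk_surjective y
          have : y ∈ q := heq ▸ (show y ∈ Ideal.comap (Ideal.Quotient.mk q) P' from hy)
          rw [Ideal.mem_bot]
          exact Ideal.Quotient.eq_zero_iff_mem.mpr this
      exact hsP _ (Ideal.comap_isPrime _ _) hlt
  -- finiteness of the closed fibre
  have hfinA : Module.Finite A (IsLocalRing.ResidueField A) :=
    Module.Finite.of_surjective (Algebra.linearMap A (IsLocalRing.ResidueField A))
      IsLocalRing.residue_surjective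
  have hfinB : Module.Finite A (IsLocalRing.ResidueField B) :=
    Module.Finite.trans (IsLocalRing.ResidueField A) _
  have hmB : ∀ b ∈ IsLocalRing.maximalIdeal B,
      Ideal.Quotient.mk q b ∈ IsLocalRing.maximalIdeal (B ⧸ q) := by
    intro b hb
    rw [IsLocalRing.mem_maximalIdeal, mem_nonunits_iff] at hb ⊢
    have : IsLocalHom (Ideal.Quotient.mk q) :=
      IsLocalHom.of_surjective _ Ideal.Quotient.mk_surjective
    exact fun hu => hb (isUnit_of_map_unit (Ideal.Quotient.mk q) _ hu)
  let ρ : IsLocalRing.ResidueField B →ₐ[A] IsLocalRing.ResidueField (B ⧸ q) :=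
    Ideal.Quotient.liftₐ (IsLocalRing.maximalIdeal B)
      ((IsScalarTower.toAlgHom A (B ⧸ q) (IsLocalRing.ResidueField (B ⧸ q))).comp
        (Ideal.Quotient.mkₐ A q))
      (fun b hb => Ideal.Quotient.eq_zero_iff_mem.mpr (hmB b hb))
  have hρ : Function.Surjective ρ := by
    intro y
    obtain ⟨y, rfl⟩ := Ideal.Quotient.mk_surjective y
    obtain ⟨y, rfl⟩ := Ideal.Quotient.mk_surjective y
    exact ⟨Ideal.Quotient.mk _ y, rfl⟩
  have hfinB' : Module.Finite A (IsLocalRing.ResidueField (B ⧸ q)) :=
    Module.Finite.of_surjective ρ.toLinearMap hρ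
  have hne' : ((IsLocalRing.maximalIdeal (B ⧸ q)).under A).map (algebraMap A (B ⧸ q)) ≠ ⊥ := by
    intro hbot
    have hmem : algebraMap A (B ⧸ q) a ∈
        ((IsLocalRing.maximalIdeal (B ⧸ q)).under A).map (algebraMap A (B ⧸ q)) := by
      refine Ideal.mem_map_of_mem _ ?_
      change algebraMap A (B ⧸ q) a ∈ IsLocalRing.maximalIdeal (B ⧸ q)
      exact hmB _ hamB
    rw [hbot, Ideal.mem_bot] at hmem
    exact haq' (Ideal.Quotient.eq_zero_iff_mem.mp hmem)
  have hfinT := finite_quotient_of_forall_eq (A := A) hD hne'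
  have hQF : Algebra.QuasiFinite A (B ⧸ q) := quasiFinite_of_quotient_maximalIdeal inferInstance
  exact ⟨⟨q, hqprime⟩, (hVJ _).mpr hqJ, hqA, hQF⟩

end Groth.Agent.S1394
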