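import Groth.Statements.S13953
-- import your own Groth.Agent.* helpers here

set_option autoImplicit false
universe u
open TateLoc

namespace Groth.Agent.S13953

/-- Let (R_i) be a family of local commutative rings and R = ∏ R_i. Any open cover of Spec R can be
refined by one coming from a finite partition of the index set: there is a map c from the index set
to a finite set such that, for each value m, the basic open subset of Spec R defined by the
idempotent which is 1 at the indices with c i = m and 0 elsewhere (this open is the spectrum of the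
product of the R_i over that class) is contained in some member of the cover. -/
theorem result {ι : Type u} (R : ι → Type u)
    [∀ i, CommRing (R i)] [∀ i, IsLocalRing (R i)] {J : Type u}
    (U : J → TopologicalSpace.Opens (PrimeSpectrum (∀ i, R i))) (hU : ⨆ j, U j = ⊤) :
    ∃ (n : ℕ) (c : ι → Fin n), ∀ m : Fin n, ∃ j : J,
      PrimeSpectrum.basicOpen (fun i => if c i = m then (1 : R i) else 0) ≤ U j := by
  classical
  -- for each point choose a member of the cover and a basic open inside it
  have h1 : ∀ x : PrimeSpectrum (∀ i, R i), ∃ (j : J) (f : ∀ i, R i),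
      x ∈ PrimeSpectrum.basicOpen f ∧ PrimeSpectrum.basicOpen f ≤ U j := by
    intro x
    have hx : x ∈ ⨆ j, U j := by rw [hU]; trivial
    obtain ⟨j, hj⟩ := TopologicalSpace.Opens.mem_iSup.mp hx
    obtain ⟨_, ⟨f, rfl⟩, hxf, hfU⟩ :=
      PrimeSpectrum.isTopologicalBasis_basic_opens.exists_subset_of_mem_open hj (U j).2
    exact ⟨j, f, hxf, hfU⟩
  choose j f hxf hfU using h1
  obtain ⟨t, ht⟩ := CompactSpace.elim_nhds_subcover
    (fun x => (PrimeSpectrum.basicOpen (f x) : Set (PrimeSpectrum (∀ i, R i))))
    (fun x => (PrimeSpectrum.basicOpen (f x)).2.mem_nhds (hxf x))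
  -- the `f x`, `x ∈ t`, generate the unit ideal
  have hspan : Ideal.span (Set.range fun x : t => f x.1) = ⊤ := by
    rw [← PrimeSpectrum.iSup_basicOpen_eq_top_iff]
    apply top_unique
    intro y _
    have : y ∈ ⋃ x ∈ t, (PrimeSpectrum.basicOpen (f x) : Set (PrimeSpectrum (∀ i, R i))) := by
      rw [ht]; trivial
    obtain ⟨x, hx, hy⟩ := Set.mem_iUnion₂.mp this
    exact TopologicalSpace.Opens.mem_iSup.mpr ⟨⟨x, hx⟩, hy⟩
  have hone : (1 : ∀ i, R i) ∈ Ideal.span (Set.range fun x : t => f x.1) := by
    rw [hspan]; trivial
  obtain ⟨g, hg⟩ := (Submodule.mem_span_range_iff_exists_fun _).mp hone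
  -- at each index some `f x i` is a unit
  have h2 : ∀ i, ∃ x : t, IsUnit (f x.1 i) := by
    intro i
    by_contra hcon
    push Not at hcon
    have hmem : ∀ x : t, f x.1 i ∈ IsLocalRing.maximalIdeal (R i) := fun x =>
      (IsLocalRing.mem_maximalIdeal _).mpr (hcon x)
    have : (1 : R i) ∈ IsLocalRing.maximalIdeal (R i) := by
      have e : (1 : R i) = ∑ x : t, g x i * f x.1 i := by
        have := congrFun hg i
        simpa [Finset.sum_apply, Pi.smul_apply, smul_eq_mul] using this.symm
      rw [e]
      exact sum_mem fun x _ => Ideal.mul_mem_left _ _ (hmem x)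
    exact (IsLocalRing.maximalIdeal.isMaximal (R i)).ne_top
      ((Ideal.eq_top_iff_one _).mpr this)
  choose k hk using h2
  refine ⟨t.card, fun i => t.equivFin (k i), fun m => ?_⟩
  refine ⟨j (t.equivFin.symm m).1, le_trans ?_ (hfU _)⟩
  intro y hy
  rw [PrimeSpectrum.mem_basicOpen] at hy ⊢
  intro hmem
  apply hy
  -- the idempotent is a multiple of `f`
  let h : ∀ i, R i := fun i =>
    if hc : t.equivFin (k i) = m then ((hk i).unit⁻¹ : (R i)ˣ) else 0
  have e : (fun i => if t.equivFin (k i) = m then (1 : R i) else 0) =
      h * f (t.equivFin.symm m).1 := by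
    funext i
    simp only [Pi.mul_apply, h]
    split_ifs with hc
    · have hkm : k i = t.equivFin.symm m := by rw [← hc, Equiv.symm_apply_apply]
      rw [← hkm]
      exact (IsUnit.val_inv_mul (hk i)).symm
    · simp
  rw [e]
  exact Ideal.mul_mem_left _ _ hmem

end Groth.Agent.S13953
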