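import Groth.Statements.S13958
import Mathlib.GroupTheory.FiniteAbelian.Basic
import Mathlib.GroupTheory.ResiduallyFinite
import Mathlib.Data.ZMod.Basic

set_option autoImplicit false
universe u
open TateLoc

namespace Groth.Agent.S13958

/-- A finitely generated commutative group is residually finite: every non-trivial element survives
in some finite quotient. -/
theorem exists_finite_monoidHom_ne_one (Q : Type*) [CommGroup Q] [Group.FG Q] (q : Q)
    (hq : q ≠ 1) : ∃ (H : Type) (_ : CommGroup H) (_ : Finite H) (f : Q →* H), f q ≠ 1 := by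
  obtain ⟨ι, j, _, _, p, hp, e, ⟨φ⟩⟩ := CommGroup.equiv_free_prod_prod_multiplicative_zmod Q
  have : ∀ i, NeZero (p i ^ e i) := fun i => ⟨pow_ne_zero _ (hp i).ne_zero⟩
  by_cases hb : (φ q).2 = 1
  · -- the free part is non-trivial
    have ha : (φ q).1 ≠ 1 := by
      intro ha
      apply hq
      have : φ q = 1 := Prod.ext ha hb
      simpa using this
    obtain ⟨l, hl⟩ : ∃ l, (φ q).1 l ≠ 1 := by
      by_contra hcon
      push Not at hcon
      exact ha (funext hcon)
    set k : ℤ := Multiplicative.toAdd ((φ q).1 l) with hk
    have hk0 : k ≠ 0 := by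
      intro h0
      apply hl
      have : Multiplicative.ofAdd k = 1 := by rw [h0]; rfl
      simpa [hk] using this
    let n : ℕ := k.natAbs + 1
    let ψ : Multiplicative ℤ →* Multiplicative (ZMod n) :=
      AddMonoidHom.toMultiplicative (Int.castAddHom (ZMod n))
    refine ⟨Multiplicative (ZMod n), inferInstance, inferInstance,
      (ψ.comp (Pi.evalMonoidHom _ l)).comp ((MonoidHom.fst _ _).comp φ.toMonoidHom), ?_⟩
    change ψ ((φ q).1 l) ≠ 1
    intro h
    have h' : ((k : ℤ) : ZMod n) = 0 := by
      have : Multiplicative.toAdd (ψ ((φ q).1 l)) = 0 := by rw [h]; rfl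
      simpa [ψ, hk] using this
    rw [ZMod.intCast_zmod_eq_zero_iff_dvd] at h'
    have := Int.eq_zero_of_abs_lt_dvd h' (by
      simp only [n, Nat.cast_add, Nat.cast_one, Int.natCast_natAbs]
      omega)
    exact hk0 this
  · refine ⟨(i : ι) → Multiplicative (ZMod (p i ^ e i)), inferInstance, inferInstance,
      (MonoidHom.snd _ _).comp φ.toMonoidHom, ?_⟩
    exact hb

open CategoryTheory ProfiniteGrp ProfiniteGrp.ProfiniteCompletion in
theorem map_etaFn (G H : GrpCat.{u}) (f : G ⟶ H) (a : G) :
    (profiniteCompletion.map f).hom (etaFn G a) = etaFn H (f.hom a) :=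
  ConcreteCategory.congr_hom (lift_eta (f ≫ eta H)) a

open CategoryTheory in
/-- Let A' be a finitely generated abelian group (written multiplicatively, discrete) and A a subgroup.
If the image of x ∈ A' in the profinite completion of A' lies in the image of the profinite
completion of A under the map induced by the inclusion, then x ∈ A. (The published statement says
that the square formed by the two completion maps and the two inclusions is Cartesian; given the
injectivity of the induced map on completions, which holds here, that amounts to this membership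
criterion.) -/
theorem result (A' : Type u) [CommGroup A'] [Group.FG A']
    (A : Subgroup A') (x : A')
    (hx : ProfiniteGrp.ProfiniteCompletion.etaFn (GrpCat.of A') x ∈
      Set.range ⇑(ProfiniteGrp.profiniteCompletion.map (GrpCat.ofHom A.subtype)).hom) :
    x ∈ A := by
  classical
  by_contra hxA
  obtain ⟨y, hy⟩ := hx
  -- a finite quotient of `A' ⧸ A` in which the class of `x` survives
  have hq : (QuotientGroup.mk' A x) ≠ 1 := by
    rw [Ne, QuotientGroup.mk'_apply, QuotientGroup.eq_one_iff]
    exact hxA
  obtain ⟨H, _, _, f, hf⟩ := exists_finite_monoidHom_ne_one (A' ⧸ A) _ hq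
  let ψ : A' →* H := f.comp (QuotientGroup.mk' A)
  have hψA : ∀ a ∈ A, ψ a = 1 := by
    intro a ha
    change f (QuotientGroup.mk' A a) = 1
    rw [QuotientGroup.mk'_apply, (QuotientGroup.eq_one_iff a).mpr ha, map_one]
  have hfin : ψ.ker.FiniteIndex := Subgroup.finiteIndex_ker ψ
  let N : FiniteIndexNormalSubgroup (GrpCat.of A') :=
    { toSubgroup := ψ.ker, isNormal' := inferInstance, isFiniteIndex' := hfin }
  -- the `N`-component vanishes on the image of the completion of `A`
  have hclosed : IsClosed {z : ProfiniteGrp.ProfiniteCompletion.completion (GrpCat.of ↥A) |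
      ((ProfiniteGrp.profiniteCompletion.map (GrpCat.ofHom A.subtype)).hom z).1 N = 1} := by
    have hc : Continuous (fun z : ProfiniteGrp.ProfiniteCompletion.completion (GrpCat.of ↥A) =>
        ((ProfiniteGrp.profiniteCompletion.map (GrpCat.ofHom A.subtype)).hom z).1 N) :=
      ((continuous_apply N).comp continuous_subtype_val).comp
        (ProfiniteGrp.profiniteCompletion.map (GrpCat.ofHom A.subtype)).hom.continuous_toFun
    exact isClosed_singleton.preimage hc
  have hall : ∀ z : ProfiniteGrp.ProfiniteCompletion.completion (GrpCat.of ↥A),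
      ((ProfiniteGrp.profiniteCompletion.map (GrpCat.ofHom A.subtype)).hom z).1 N = 1 := by
    have hsub : Set.range (ProfiniteGrp.ProfiniteCompletion.etaFn (GrpCat.of ↥A)) ⊆
        {z | ((ProfiniteGrp.profiniteCompletion.map (GrpCat.ofHom A.subtype)).hom z).1 N = 1} := by
      rintro _ ⟨a, rfl⟩
      change ((ProfiniteGrp.profiniteCompletion.map (GrpCat.ofHom A.subtype)).hom
        (ProfiniteGrp.ProfiniteCompletion.etaFn (GrpCat.of ↥A) a)).1 N = 1
      rw [map_etaFn]
      change (QuotientGroup.mk (A.subtype a) : A' ⧸ ψ.ker) = 1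
      rw [QuotientGroup.eq_one_iff]
      exact hψA _ a.2
    intro z
    have := (ProfiniteGrp.ProfiniteCompletion.denseRange (GrpCat.of ↥A)).closure_eq ▸
      closure_minimal hsub hclosed
    exact this (Set.mem_univ z)
  have h1 := hall y
  rw [hy] at h1
  change (QuotientGroup.mk x : A' ⧸ ψ.ker) = 1 at h1
  rw [QuotientGroup.eq_one_iff] at h1
  exact hf h1

end Groth.Agent.S13958
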