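import Groth.Statements.S1396
import Groth.Agent.Lib.IndQuasiAffine

set_option autoImplicit false
universe u
open FlatMor

namespace Groth.Agent.S1396

open AlgebraicGeometry CategoryTheory Limits in
/-- (1) ⇔ (4): a morphism f : X → Y is ind-quasi-affine (the preimage of every affine open is a scheme
all of whose quasi-compact opens are quasi-affine) if and only if for every quasi-compact
quasi-separated open V of Y and every quasi-compact open U of the preimage of V, the induced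
morphism U → V is quasi-affine (quasi-compact with quasi-affine preimages of affine opens). -/
theorem result {X Y : Scheme.{u}} (f : X ⟶ Y) :
    MoreMor.IsIndQuasiAffineHom f ↔ ∀ (V : Y.Opens), IsCompact (V : Set ↑Y) → IsQuasiSeparated (V : Set ↑Y) →
      ∀ (U : X.Opens) (hUV : U ≤ f ⁻¹ᵁ V), IsCompact (U : Set ↑X) → MoreMor.IsQuasiAffineHom (f.resLE V U hUV) := by
  constructor
  · intro h V hVc hVq U hUV hUc
    have : CompactSpace (U : Scheme.{u}) := isCompact_iff_compactSpace.mp hUc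
    have : QuasiSeparatedSpace (V : Scheme.{u}) :=
      (isQuasiSeparated_iff_quasiSeparatedSpace _ V.2).mp hVq
    have hqc : QuasiCompact (f.resLE V U hUV) := inferInstance
    refine ⟨hqc, fun W hW => ?_⟩
    have hW' : IsAffineOpen (V.ι ''ᵁ W) := hW.image_of_isOpenImmersion V.ι
    have hZ := h _ hW'
    have : CompactSpace ((f.resLE V U hUV ⁻¹ᵁ W : (U : Scheme.{u}).Opens) : Scheme.{u}) :=
      isCompact_iff_compactSpace.mp (hqc.1 W.1 W.2 hW.isCompact)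
    have hr : Set.range ((f.resLE V U hUV ⁻¹ᵁ W).ι ≫ U.ι) ⊆ Set.range (f ⁻¹ᵁ (V.ι ''ᵁ W)).ι := by
      rintro _ ⟨x, rfl⟩
      rw [Scheme.Opens.range_ι]
      have hx : f.resLE V U hUV ((f.resLE V U hUV ⁻¹ᵁ W).ι x) ∈ W := x.2
      refine ⟨f.resLE V U hUV ((f.resLE V U hUV ⁻¹ᵁ W).ι x), hx, ?_⟩
      have h1 := congrArg (fun g => g ((f.resLE V U hUV ⁻¹ᵁ W).ι x)) (Scheme.Hom.resLE_comp_ι f hUV)
      simp only [Scheme.Hom.comp_apply] at h1 ⊢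
      exact h1
    have : IsOpenImmersion (IsOpenImmersion.lift (f ⁻¹ᵁ (V.ι ''ᵁ W)).ι ((f.resLE V U hUV ⁻¹ᵁ W).ι ≫ U.ι) hr) :=
      IsOpenImmersion.of_comp _ (f ⁻¹ᵁ (V.ι ''ᵁ W)).ι
    exact Lib.IndQuasiAffine.isQuasiAffine_of_isOpenImmersion
      (IsOpenImmersion.lift (f ⁻¹ᵁ (V.ι ''ᵁ W)).ι ((f.resLE V U hUV ⁻¹ᵁ W).ι ≫ U.ι) hr) hZ
  · intro H V hV U hU
    have : CompactSpace (U : Scheme.{u}) := isCompact_iff_compactSpace.mp hU
    have hU' : IsCompact (((f ⁻¹ᵁ V).ι ''ᵁ U : X.Opens) : Set X) := by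
      simpa using hU.image (f ⁻¹ᵁ V).ι.continuous
    have hle : (f ⁻¹ᵁ V).ι ''ᵁ U ≤ f ⁻¹ᵁ V := by
      rintro _ ⟨x, -, rfl⟩
      exact x.2
    have hq := (H V hV.isCompact hV.isQuasiSeparated _ hle hU').2 ⊤ (by
      have : IsAffine (V : Scheme.{u}) := hV
      exact isAffineOpen_top _)
    set T := (f.resLE V ((f ⁻¹ᵁ V).ι ''ᵁ U) hle ⁻¹ᵁ ⊤ : (((f ⁻¹ᵁ V).ι ''ᵁ U : X.Opens) : Scheme.{u}).Opens)
    have hr : Set.range (U.ι ≫ (f ⁻¹ᵁ V).ι) ⊆ Set.range (T.ι ≫ ((f ⁻¹ᵁ V).ι ''ᵁ U).ι) := by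
      rintro _ ⟨x, rfl⟩
      refine ⟨⟨⟨(f ⁻¹ᵁ V).ι x.1, x.1, x.2, rfl⟩, trivial⟩, rfl⟩
    have : IsOpenImmersion (IsOpenImmersion.lift (T.ι ≫ ((f ⁻¹ᵁ V).ι ''ᵁ U).ι) (U.ι ≫ (f ⁻¹ᵁ V).ι) hr) :=
      IsOpenImmersion.of_comp _ (T.ι ≫ ((f ⁻¹ᵁ V).ι ''ᵁ U).ι)
    exact Scheme.IsQuasiAffine.of_isImmersion
      (IsOpenImmersion.lift (T.ι ≫ ((f ⁻¹ᵁ V).ι ''ᵁ U).ι) (U.ι ≫ (f ⁻¹ᵁ V).ι) hr)

end Groth.Agent.S1396
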