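import Groth.Statements.S13971
import Groth.Agent.Lib.H59T1Lift
import Groth.Agent.S12734
import Groth.Agent.S12722

set_option autoImplicit false
universe u v
open CategoryTheory
open ArtFun

namespace Groth.Agent.S13971

/-- Let k be a field of characteristic zero and F a deformation functor on Artinian local k-algebras
with residue field k — F(k) is a point and the comparison map F(A₁ ×_A A₂) → F(A₁) ×_{F(A)} F(A₂) is
bijective whenever A₂ → A is surjective — whose tangent space F(k[ε]) is finite-dimensional. Suppose
that for every object A and every surjective morphism q : A'' → A' between split square-zero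
extensions of A (A' and A'' come with retractions onto A whose kernels have square zero and with
sections from A, and q commutes with the retractions and the sections), the map F(q) : F(A'') →
F(A') is surjective. Then F is unobstructed: F(B) → F(A) is surjective for every surjective B → A.
(The published statement is for deformation categories, with the hypothesis that, for every object
over A, the functor M ↦ {isomorphism classes of its liftings to A ⊕ M} on finite A-modules carries
surjections to surjections; this row is the case of a category fibred in sets, for which a split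
square-zero extension of A is A ⊕ M with M the kernel, a finite A-module, and that hypothesis is the
displayed surjectivity.) -/
theorem result {k : Type u} [Field k] [CharZero k]
    (F : ArtFun.Art k k ⥤ Type v) [ArtFun.TangentStr F]
    (h0 : ArtFun.H0 F)
    (hRS : (∀ ⦃B A A' A'' : ArtFun.Art k k⦄ (p' : B ⟶ A') (p'' : B ⟶ A'') (f' : A' ⟶ A) (f'' : A'' ⟶ A)
        (h : ArtFun.Art.IsFibreProd p' p'' f' f''), Function.Surjective f'' → Function.Bijective (ArtFun.cmp F h)))
    (hfin : ArtFun.Hfin F)
    (hT1 : ∀ ⦃A A' A'' : ArtFun.Art k k⦄ (π' : A' ⟶ A) (i' : A ⟶ A') (π'' : A'' ⟶ A) (i'' : A ⟶ A'')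
        (q : A'' ⟶ A'), i' ≫ π' = 𝟙 A → i'' ≫ π'' = 𝟙 A →
        RingHom.ker π'.toAlgHom * RingHom.ker π'.toAlgHom = ⊥ →
        RingHom.ker π''.toAlgHom * RingHom.ker π''.toAlgHom = ⊥ →
        q ≫ π' = π'' → i'' ≫ q = i' → Function.Surjective q → Function.Surjective (F.map q)) :
    ArtFun.IsSmoothFunctor F := by
  classical
  open Groth.Agent.Lib.H59T1Lift in
  -- pro-representability
  have hsub : Subsingleton (ArtFun.Art.base k k ⟶ ArtFun.Art.dual k k) := by
    refine ⟨fun σ τ => ArtFun.Art.hom_ext (AlgHom.ext fun c => ?_)⟩
    have h1 : σ.toAlgHom c = algebraMap k _ c := σ.toAlgHom.commutes c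
    have h2 : τ.toAlgHom c = algebraMap k _ c := τ.toAlgHom.commutes c
    rw [h1, h2]
  have hpro : ArtFun.IsProrepresentable F :=
    (Groth.Agent.S12734.result F).2 ⟨⟨h0, hRS⟩, hfin, fun x₀ σ τ _ => Subsingleton.elim σ τ⟩
  obtain ⟨P⟩ := hpro
  -- the lifting property of the ring
  have H : HasTszeLiftingFin (k := k) P.ring.carrier := by
    apply hasTszeLiftingFin_of_universal P.ring P.family P.universal
    intro A M M' _ _ _ _ _ _ _ _ _ _ _ _ _ _ _ _ f hf
    exact hT1 (artTszeFst A M) (artTszeInl A M) (artTszeFst A M') (artTszeInl A M') (artTszeMap A f)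
      (artTszeInl_comp_fst A) (artTszeInl_comp_fst A) (ker_artTszeFst_mul A) (ker_artTszeFst_mul A)
      (artTszeMap_comp_fst A f) (artTszeInl_comp_map A f) (artTszeMap_surjective A f hf)
  obtain ⟨e⟩ := nonempty_algEquiv_of_lift_fin P.ring H
  -- smoothness of h_R
  have hmk : IsLocalRing.maximalIdeal k = ⊥ := IsLocalRing.maximalIdeal_eq_bot
  have hcompl : IsAdicComplete (IsLocalRing.maximalIdeal k) k := by
    rw [hmk]; infer_instance
  have hsm : ArtFun.IsSmoothFunctor (ArtFun.hR P.ring.carrier P.ring.res) :=
    (Groth.Agent.S12722.result (Λ := k) (k := k) Function.surjective_id P.ring).2 ⟨_, ⟨e⟩⟩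
  -- transport
  intro B A μ hμ y
  obtain ⟨φ, hφ⟩ := (P.universal A).2 y
  obtain ⟨ψ, hψ⟩ := hsm μ hμ φ
  refine ⟨P.family.app B ψ, ?_⟩
  rw [← P.family.natural, ← hφ]
  exact congrArg _ hψ

end Groth.Agent.S13971
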