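import Groth.Statements.S13972
import Groth.Agent.Lib.KoszulReduce2
import Mathlib.RingTheory.Artinian.Ring

set_option autoImplicit false
universe u
open LCI

namespace Groth.Agent.S13972

theorem ofList_ofFn {R : Type*} [CommRing R] {r : ℕ} (g : Fin r → R) :
    Ideal.ofList (List.ofFn g) = Ideal.span (Set.range g) := by
  unfold Ideal.ofList
  congr 1
  ext x
  simp [List.mem_ofFn]

theorem isNilpotent_of_ne_top {A' : Type*} [CommRing A'] [IsLocalRing A'] [IsArtinianRing A']
    (I : Ideal A') (hI : I ≠ ⊤) : IsNilpotent I := by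
  obtain ⟨n, hn⟩ := IsArtinianRing.isNilpotent_jacobson_bot (R := A')
  have h1 : I ≤ Ideal.jacobson (⊥ : Ideal A') := by
    rw [IsLocalRing.jacobson_eq_maximalIdeal ⊥ bot_ne_top]
    exact IsLocalRing.le_maximalIdeal hI
  refine ⟨n, ?_⟩
  have h2 := Ideal.pow_right_mono h1 n
  rw [hn] at h2
  exact le_bot_iff.mp h2


/-- Let A' be an Artinian local ring, I a proper ideal of A', A = A'/I, R' a Noetherian A'-algebra flat
over A' and R = R'/IR'. Let f₁, …, f_r ∈ R be a Koszul-regular sequence (its Koszul complex is
acyclic in nonzero degrees) such that R/(f₁, …, f_r) is flat over A. Then: (1) for every choice of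
lifts f'₁, …, f'_r ∈ R' of the f_i, the quotient R'/(f'₁, …, f'_r) is flat over A' and f'₁, …, f'_r
is a Koszul-regular sequence in R'; (2) if J' ⊆ R' is an ideal with R'/J' flat over A' whose image
in R is the ideal (f₁, …, f_r), then J' is generated by any lifts f'₁, …, f'_r ∈ J' of the f_i. (The
published statement takes R' = R₀ ⊗_Λ A' for a flat Λ-algebra R₀ and a surjection A' → A of Artinian
local Λ-algebras; this row assumes only that R' is Noetherian and flat over A' and that I is a
proper ideal, which is what its proof uses. Regularity of a sequence is taken there in every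
localization at a prime containing the ideal it generates, which over a Noetherian ring is the
Koszul-acyclicity used in the proof and stated here.) -/
theorem result
    {A' : Type u} [CommRing A'] [IsLocalRing A'] [IsArtinianRing A'] (I : Ideal A') (hI : I ≠ ⊤)
    {R' : Type u} [CommRing R'] [Algebra A' R'] [IsNoetherianRing R'] [Module.Flat A' R']
    (r : ℕ) (f : Fin r → R' ⧸ I.map (algebraMap A' R'))
    (hf : LCI.IsKoszulRegularSeq (R' ⧸ I.map (algebraMap A' R')) (List.ofFn f))
    [Module.Flat (A' ⧸ I) ((R' ⧸ I.map (algebraMap A' R')) ⧸ Ideal.span (Set.range f))] :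
    (∀ f' : Fin r → R', (∀ i, Ideal.Quotient.mk (I.map (algebraMap A' R')) (f' i) = f i) →
        Module.Flat A' (R' ⧸ Ideal.span (Set.range f')) ∧ LCI.IsKoszulRegularSeq R' (List.ofFn f')) ∧
    (∀ (J' : Ideal R'), Module.Flat A' (R' ⧸ J') →
        J'.map (Ideal.Quotient.mk (I.map (algebraMap A' R'))) = Ideal.span (Set.range f) →
        ∀ f' : Fin r → R', (∀ i, f' i ∈ J') →
          (∀ i, Ideal.Quotient.mk (I.map (algebraMap A' R')) (f' i) = f i) →
          J' = Ideal.span (Set.range f')) := by
  have hnil := isNilpotent_of_ne_top I hI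
  refine ⟨?_, ?_⟩
  · intro f' hf'
    have hmap : (List.ofFn f').map (Ideal.Quotient.mk (I.map (algebraMap A' R'))) = List.ofFn f := by
      rw [List.map_ofFn]
      congr 1
      funext i
      exact hf' i
    have hflat : Module.Flat (A' ⧸ I) ((R' ⧸ I.map (algebraMap A' R')) ⧸
        Ideal.ofList ((List.ofFn f').map (Ideal.Quotient.mk (I.map (algebraMap A' R'))))) := by
      rw [hmap, ofList_ofFn]
      infer_instance
    have hreg : LCI.IsKoszulRegularSeq (R' ⧸ I.map (algebraMap A' R'))
        ((List.ofFn f').map (Ideal.Quotient.mk (I.map (algebraMap A' R')))) := by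
      rw [hmap]
      exact hf
    obtain ⟨h1, h2⟩ := Groth.Agent.Lib.KoszulReduce.isKoszulRegularSeq_lift_of_nilpotent A' R' I
      (List.ofFn f') hnil hreg hflat
    rw [ofList_ofFn] at h2
    exact ⟨h2, h1⟩
  · intro J' hJ' himg f' hmem hf'
    refine Groth.Agent.Lib.KoszulReduce.eq_of_flat_quotient_of_nilpotent A' R' I hnil J'
      (Ideal.span (Set.range f')) ?_ ?_
    · rw [Ideal.span_le]
      rintro _ ⟨i, rfl⟩
      exact hmem i
    · rw [himg, Ideal.map_span]
      apply Ideal.span_mono
      rintro _ ⟨i, rfl⟩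
      exact ⟨f' i, ⟨i, rfl⟩, hf' i⟩

end Groth.Agent.S13972

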