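import Groth.Statements.S13978
import Mathlib
-- import your own Groth.Agent.* helpers here

set_option autoImplicit false
universe u v
open CategoryTheory
open scoped TensorProduct
open ArtFun ArtFun.ObsTheory

namespace Groth.Agent.S13978

section LA
variable {k : Type u} [Field k] {V : Type u} [AddCommGroup V] [Module k V]
  {J : Type u} [AddCommGroup J] [Module k J]

lemma mem_range_rTensor_of_forall (Ω : Submodule k V) (ω : V ⊗[k] J)
    (h : ∀ φ : J →ₗ[k] k, TensorProduct.rid k V (LinearMap.lTensor V φ ω) ∈ Ω) :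
    ω ∈ LinearMap.range (LinearMap.rTensor J Ω.subtype) := by
  classical
  let b := Module.Free.chooseBasis k J
  set c := TensorProduct.equivFinsuppOfBasisRight b ω with hc
  have hω : ω = (TensorProduct.equivFinsuppOfBasisRight b).symm c := by
    rw [hc, LinearEquiv.symm_apply_apply]
  rw [hω, TensorProduct.equivFinsuppOfBasisRight_symm_apply]
  refine Submodule.sum_mem _ fun i _ => ?_
  have hci : c i ∈ Ω := by
    rw [hc, TensorProduct.equivFinsuppOfBasisRight_apply]
    exact h (b.coord i)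
  exact ⟨(⟨c i, hci⟩ : Ω) ⊗ₜ[k] b i, by simp⟩

end LA

section Main
open ArtFun ArtFun.Art
variable {k : Type u} [Field k] {C' C : ArtFun.Art k k} (p : C' ⟶ C)

lemma mul_eq_res_smul (hp : ArtFun.Art.IsSemismallExt p) (c x : C')
    (hx : x ∈ RingHom.ker p.toAlgHom) : c * x = (C'.res c) • x := by
  have h1 : c - algebraMap k C' (C'.res c) ∈ IsLocalRing.maximalIdeal C' := by
    rw [ArtFun.Art.mem_maximalIdeal_iff, map_sub, AlgHom.commutes]
    simp
  have h2 : (c - algebraMap k C' (C'.res c)) * x = 0 := by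
    have : (c - algebraMap k C' (C'.res c)) * x ∈
        IsLocalRing.maximalIdeal C' * RingHom.ker p.toAlgHom := Ideal.mul_mem_mul h1 hx
    rw [hp.2] at this
    exact this
  rw [Algebra.smul_def]
  linear_combination h2

lemma ker_le_maximalIdeal : RingHom.ker p.toAlgHom ≤ IsLocalRing.maximalIdeal C' :=
  IsLocalRing.le_maximalIdeal (RingHom.ker_ne_top _)

/-- The ideal of `C'` given by the kernel of a functional on `ker p`. -/
def Kideal (hp : ArtFun.Art.IsSemismallExt p) (φ : ↥(RingHom.ker p.toAlgHom) →ₗ[k] k) : Ideal C' where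
  carrier := {c | ∃ h : c ∈ RingHom.ker p.toAlgHom, φ ⟨c, h⟩ = 0}
  add_mem' := by
    rintro a b ⟨ha, ha'⟩ ⟨hb, hb'⟩
    refine ⟨add_mem ha hb, ?_⟩
    have : (⟨a + b, add_mem ha hb⟩ : ↥(RingHom.ker p.toAlgHom)) = ⟨a, ha⟩ + ⟨b, hb⟩ := rfl
    rw [this, map_add, ha', hb', add_zero]
  zero_mem' := by
    refine ⟨zero_mem _, ?_⟩
    have : (⟨0, zero_mem _⟩ : ↥(RingHom.ker p.toAlgHom)) = 0 := rfl
    rw [this, map_zero]
  smul_mem' := by
    rintro c x ⟨hx, hx'⟩
    refine ⟨Ideal.mul_mem_left _ c hx, ?_⟩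
    have : (⟨c • x, Ideal.mul_mem_left _ c hx⟩ : ↥(RingHom.ker p.toAlgHom)) =
        (C'.res c) • ⟨x, hx⟩ := Subtype.ext (mul_eq_res_smul p hp c x hx)
    rw [this, map_smul, hx', smul_zero]

lemma mem_Kideal (hp : ArtFun.Art.IsSemismallExt p) (φ : ↥(RingHom.ker p.toAlgHom) →ₗ[k] k) (c : C') :
    c ∈ Kideal p hp φ ↔ ∃ h : c ∈ RingHom.ker p.toAlgHom, φ ⟨c, h⟩ = 0 := Iff.rfl

lemma Kideal_le_ker (hp : ArtFun.Art.IsSemismallExt p) (φ : ↥(RingHom.ker p.toAlgHom) →ₗ[k] k) :
    Kideal p hp φ ≤ RingHom.ker p.toAlgHom := fun _ h => h.1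

lemma Kideal_le_max (hp : ArtFun.Art.IsSemismallExt p) (φ : ↥(RingHom.ker p.toAlgHom) →ₗ[k] k) :
    Kideal p hp φ ≤ IsLocalRing.maximalIdeal C' :=
  (Kideal_le_ker p hp φ).trans (ker_le_maximalIdeal p)

end Main

section Quot
open ArtFun ArtFun.Art
variable {k : Type u} [Field k] {C' C : ArtFun.Art k k} (p : C' ⟶ C)
  (hp : ArtFun.Art.IsSemismallExt p) (φ : ↥(RingHom.ker p.toAlgHom) →ₗ[k] k)

/-- the factored map `C'/K ⟶ C` -/
noncomputable abbrev qq : quot C' (Kideal p hp φ) (Kideal_le_max p hp φ) ⟶ C :=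
  quotFactor (Kideal_le_max p hp φ) p (Kideal_le_ker p hp φ)

lemma qq_mk (c : C') : (qq p hp φ) (Ideal.Quotient.mk (Kideal p hp φ) c) = p c := rfl

/-- `ker p → ker (C'/K → C)` -/
noncomputable abbrev kq : ↥(RingHom.ker p.toAlgHom) →ₗ[k]
    ↥(RingHom.ker (qq p hp φ).toAlgHom) :=
  (kerToQuot (Kideal_le_max p hp φ) p (Kideal_le_ker p hp φ)).restrictScalars k

lemma kq_val (j : ↥(RingHom.ker p.toAlgHom)) :
    (kq p hp φ j).1 = Ideal.Quotient.mk (Kideal p hp φ) (j : C') := rfl

lemma kq_surjective : Function.Surjective (kq p hp φ) := by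
  rintro ⟨x, hx⟩
  obtain ⟨c, rfl⟩ := Ideal.Quotient.mk_surjective x
  have hc : c ∈ RingHom.ker p.toAlgHom := by
    rw [RingHom.mem_ker] at hx ⊢
    exact hx
  exact ⟨⟨c, hc⟩, Subtype.ext rfl⟩

lemma kq_eq_zero_iff (j : ↥(RingHom.ker p.toAlgHom)) : kq p hp φ j = 0 ↔ φ j = 0 := by
  rw [← Subtype.coe_inj]
  change Ideal.Quotient.mk (Kideal p hp φ) (j : C') = 0 ↔ _
  rw [Ideal.Quotient.eq_zero_iff_mem, mem_Kideal]
  constructor
  · rintro ⟨h, h'⟩
    exact h'
  · intro h
    exact ⟨j.2, h⟩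

lemma ker_kq : LinearMap.ker (kq p hp φ) = LinearMap.ker φ := by
  ext j
  rw [LinearMap.mem_ker, LinearMap.mem_ker, kq_eq_zero_iff]

lemma isSmallExt_qq (j₀ : ↥(RingHom.ker p.toAlgHom)) (hj₀ : φ j₀ = 1) :
    ArtFun.Art.IsSmallExt (qq p hp φ) := by
  have hne : kq p hp φ j₀ ≠ 0 := by
    rw [Ne, kq_eq_zero_iff, hj₀]; exact one_ne_zero
  refine ⟨?_, ?_, ?_, ?_⟩
  · intro c
    obtain ⟨c', rfl⟩ := hp.1 c
    exact ⟨Ideal.Quotient.mk _ c', rfl⟩
  · intro h
    apply hne
    have := h.le (kq p hp φ j₀).2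
    rw [Ideal.mem_bot] at this
    exact Subtype.ext this
  · refine ⟨⟨Ideal.Quotient.mk (Kideal p hp φ) (j₀ : C'), ?_⟩⟩
    apply le_antisymm
    · intro x hx
      obtain ⟨j, hj⟩ := kq_surjective p hp φ ⟨x, hx⟩
      have h0 : kq p hp φ (j - φ j • j₀) = 0 := by
        rw [kq_eq_zero_iff, map_sub, map_smul, hj₀, smul_eq_mul, mul_one, sub_self]
      rw [map_sub, map_smul, sub_eq_zero, hj] at h0
      have hx' : x = φ j • Ideal.Quotient.mk (Kideal p hp φ) (j₀ : C') := by
        have := congrArg Subtype.val h0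
        exact this
      rw [hx', Algebra.smul_def]
      exact Ideal.mul_mem_left _ _ (Ideal.subset_span rfl)
    · change Ideal.span _ ≤ _
      rw [Ideal.span_le, Set.singleton_subset_iff]
      exact (kq p hp φ j₀).2
  · rw [eq_bot_iff, Ideal.mul_le]
    intro y hy x hx
    obtain ⟨c, rfl⟩ := Ideal.Quotient.mk_surjective y
    obtain ⟨j, hj⟩ := kq_surjective p hp φ ⟨x, hx⟩
    have hxj : x = Ideal.Quotient.mk (Kideal p hp φ) (j : C') := (congrArg Subtype.val hj).symm
    have hc : c ∈ IsLocalRing.maximalIdeal C' := by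
      rw [ArtFun.Art.mem_maximalIdeal_iff] at hy ⊢
      exact hy
    have h0 : c * (j : C') = 0 := by
      have : c * (j : C') ∈ IsLocalRing.maximalIdeal C' * RingHom.ker p.toAlgHom :=
        Ideal.mul_mem_mul hc j.2
      rw [hp.2] at this
      exact this
    have h1 : Ideal.Quotient.mk (Kideal p hp φ) (c * (j : C')) = 0 := by rw [h0, map_zero]
    rw [Ideal.mem_bot, hxj]
    exact (map_mul _ _ _).symm.trans h1

/-- the induced isomorphism `ker (C'/K → C) ≃ k` -/
noncomputable def phiBar (hφ : Function.Surjective φ) :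
    ↥(RingHom.ker (qq p hp φ).toAlgHom) ≃ₗ[k] k :=
  ((kq p hp φ).quotKerEquivOfSurjective (kq_surjective p hp φ)).symm ≪≫ₗ
    Submodule.quotEquivOfEq _ _ (ker_kq p hp φ) ≪≫ₗ φ.quotKerEquivOfSurjective hφ

lemma phiBar_kq (hφ : Function.Surjective φ) (j : ↥(RingHom.ker p.toAlgHom)) :
    phiBar p hp φ hφ (kq p hp φ j) = φ j := by
  have h1 : ((kq p hp φ).quotKerEquivOfSurjective (kq_surjective p hp φ)).symm (kq p hp φ j) =
      Submodule.Quotient.mk j := by
    rw [LinearEquiv.symm_apply_eq]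
    rfl
  simp only [phiBar, LinearEquiv.trans_apply, h1]
  rfl

end Quot

/-- For obstruction theories of functors in the vector-space form, let k be a field, F a functor on
Artinian local k-algebras with residue field k and (V, ω) an obstruction theory for F — for each
surjection p : C' → C whose kernel J is killed by the maximal ideal and each u ∈ F(C) an obstruction
ω(p, u) ∈ V ⊗_k J, zero exactly when u lifts, and compatible with replacing C' → C by C'/K → C for
ideals K ≤ J. Let Ω ⊆ V be the subspace spanned by the obstructions along tiny extensions (those p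
whose kernel is one-dimensional), transported into V by the isomorphisms V ⊗ J ≅ V coming from
linear isomorphisms J ≅ k. Then for every p and u the obstruction ω(p, u) lies in the image of Ω ⊗_k
J → V ⊗_k J. (The published statement is for deformation categories and obstruction theories
functorial along all morphisms of extensions; this row assumes functoriality along quotients C'/K
only, which is all its proof uses, and no condition on F.) -/
theorem result {k : Type u} [Field k]
    {F : ArtFun.Art k k ⥤ Type v} {V : Type u} [AddCommGroup V] [Module k V]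
    (T : ArtFun.ObsTheory F V) {C' C : ArtFun.Art k k} (p : C' ⟶ C) (hp : ArtFun.Art.IsSemismallExt p)
    (u : F.obj C) :
    T.obs p hp u ∈ LinearMap.range (LinearMap.rTensor (↥(RingHom.ker p.toAlgHom))
      (Submodule.span k {v : V | ∃ (B' B : ArtFun.Art k k) (t : B' ⟶ B) (ht : ArtFun.Art.IsSmallExt t)
          (w : F.obj B) (φ : ↥(RingHom.ker t.toAlgHom) ≃ₗ[k] k),
          v = TensorProduct.rid k V (LinearMap.lTensor V φ.toLinearMap (T.obs t ht.isSemismallExt w))}).subtype) := by
  classical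
  apply mem_range_rTensor_of_forall
  intro φ
  by_cases hφ0 : φ = 0
  · rw [hφ0, LinearMap.lTensor_zero, LinearMap.zero_apply, map_zero]
    exact zero_mem _
  · -- φ is surjective
    have hφs : Function.Surjective φ := by
      have : ∃ j, φ j ≠ 0 := by
        by_contra hcon
        push Not at hcon
        exact hφ0 (LinearMap.ext hcon)
      obtain ⟨j, hj⟩ := this
      intro c
      exact ⟨(c * (φ j)⁻¹) • j, by rw [map_smul, smul_eq_mul, mul_assoc, inv_mul_cancel₀ hj, mul_one]⟩
    obtain ⟨j₀, hj₀⟩ := hφs 1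
    have hsmall := isSmallExt_qq p hp φ j₀ hj₀
    have hquot := T.obs_quot p hp (Kideal p hp φ) (Kideal_le_max p hp φ) (Kideal_le_ker p hp φ)
      hsmall.isSemismallExt u
    apply Submodule.subset_span
    refine ⟨_, _, qq p hp φ, hsmall, u, phiBar p hp φ hφs, ?_⟩
    have hcomp : (phiBar p hp φ hφs).toLinearMap ∘ₗ kq p hp φ = φ :=
      LinearMap.ext fun j => phiBar_kq p hp φ hφs j
    rw [hquot, ← LinearMap.lTensor_comp_apply, hcomp]

end Groth.Agent.S13978
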