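import Groth.Statements.S13981
import Groth.Agent.Lib.H59ArtFunTorsor
import Groth.Agent.Lib.H59ArtFunVersal
import Groth.Agent.Lib.H71ArtFunProRep

set_option autoImplicit false
universe u v
open CategoryTheory
open ArtFun

namespace Groth.Agent.S13981

/-- Let F be a functor on Artinian local Λ-algebras with residue field k (Λ Noetherian, Λ → k finite and
surjective) satisfying (RS) — the comparison map for A₁ ×_A A₂ is bijective whenever A₂ → A is
surjective — and let ξ be a versal family of F over a complete local Noetherian Λ-algebra R with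
residue field k. Then the lifting property defining versality also holds along surjections of
complete local Noetherian algebras: if g : A' → A is such a surjection, η' is a formal element of F
over A' (a compatible system over the truncations A'/m^(n+1)) and φ : R → A is a map under which the
formal element of ξ becomes the pushforward of η' along g, then φ lifts to ψ : R → A' with g ∘ ψ = φ
and with ξ inducing η' along ψ. (The published statement takes Λ complete local Noetherian with
residue field k; its proof does not use completeness of Λ, and this row assumes only Λ Noetherian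
with Λ → k surjective.) -/
theorem result {Λ : Type u} {k : Type u} [CommRing Λ] [Field k]
    [Algebra Λ k] [IsNoetherianRing Λ] [Module.Finite Λ k] (hΛ : Function.Surjective (algebraMap Λ k))
    {F : ArtFun.Art Λ k ⥤ Type v}
    (hRS : ∀ ⦃B A A₁ A₂ : ArtFun.Art Λ k⦄ (p₁ : B ⟶ A₁) (p₂ : B ⟶ A₂) (f₁ : A₁ ⟶ A) (f₂ : A₂ ⟶ A)
        (h : ArtFun.Art.IsFibreProd p₁ p₂ f₁ f₂), Function.Surjective f₂ → Function.Bijective (ArtFun.cmp F h))
    (R : ArtFun.CRing Λ k) (ξ : ArtFun.Family R.carrier R.res F) (hξ : ArtFun.IsVersal ξ)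
    (A' A : ArtFun.CRing Λ k) (g : A'.carrier →ₐ[Λ] A.carrier) (hg : A.res.comp g = A'.res)
    (hgs : Function.Surjective g) (η' : ArtFun.FormalElt F A')
    (φ : R.carrier →ₐ[Λ] A.carrier) (hφ : A.res.comp φ = R.res)
    (hsq : (ξ.along φ hφ).toFormalElt = η'.push g hg) :
    ∃ (ψ : R.carrier →ₐ[Λ] A'.carrier) (hψ : A'.res.comp ψ = R.res),
      g.comp ψ = φ ∧ (ξ.along ψ hψ).toFormalElt = η' := by
  -- notation
  let gn : ∀ n, A'.trunc n ⟶ A.trunc n := fun n => ArtFun.CRing.truncMapOfHom g hg n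
  let φn : ∀ n, ArtFun.HomSet R.carrier R.res (A.trunc n) := fun n =>
    ⟨(A.truncHom n).1.comp φ, by rw [← AlgHom.comp_assoc, (A.truncHom n).2, hφ]⟩
  have hsqn : ∀ n, ξ.app _ (φn n) = F.map (gn n) (η'.elt n) := fun n =>
    congrArg (fun u : ArtFun.FormalElt F A => u.elt n) hsq
  have hφcompat : ∀ n, ArtFun.HomSet.map (A.truncMap n) (φn (n + 1)) = φn n := fun n =>
    Subtype.ext (AlgHom.ext fun _ => rfl)
  have hgn_surj : ∀ n, Function.Surjective (gn n) := by
    intro n y
    obtain ⟨a, rfl⟩ := Ideal.Quotient.mk_surjective y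
    obtain ⟨a', rfl⟩ := hgs a
    exact ⟨Ideal.Quotient.mk _ a', rfl⟩
  have htsurj : ∀ n, Function.Surjective (A.truncMap n) := by
    intro n y
    obtain ⟨a, rfl⟩ := Ideal.Quotient.mk_surjective y
    exact ⟨Ideal.Quotient.mk _ a, rfl⟩
  -- the maximal ideal of `A` is the image of that of `A'`
  have hmapm : ∀ N : ℕ, ∀ x ∈ IsLocalRing.maximalIdeal A.carrier ^ N,
      ∃ y ∈ IsLocalRing.maximalIdeal A'.carrier ^ N, g y = x := by
    intro N x hx
    have h1 : (IsLocalRing.maximalIdeal A'.carrier).map (g : A'.carrier →+* A.carrier) =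
        IsLocalRing.maximalIdeal A.carrier := by
      apply le_antisymm
      · rw [Ideal.map_le_iff_le_comap]
        exact ArtFun.CRing.maximalIdeal_le_comap g hg
      · intro a ha
        obtain ⟨a', rfl⟩ := hgs a
        apply Ideal.mem_map_of_mem
        rw [ArtFun.CRing.mem_maximalIdeal_iff] at ha ⊢
        rw [← ArtFun.CRing.res_comp_apply g hg]
        exact ha
    rw [← h1, ← Ideal.map_pow] at hx
    obtain ⟨y, hy, rfl⟩ := (Ideal.mem_map_iff_of_surjective (g : A'.carrier →+* A.carrier) hgs).1 hx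
    exact ⟨y, hy, rfl⟩
  -- the inductive step
  have step : ∀ (n : ℕ) (ψ : {ψ : ArtFun.HomSet R.carrier R.res (A'.trunc n) //
        ArtFun.HomSet.map (gn n) ψ = φn n ∧ ξ.app _ ψ = η'.elt n}),
      ∃ ψ' : {ψ' : ArtFun.HomSet R.carrier R.res (A'.trunc (n + 1)) //
        ArtFun.HomSet.map (gn (n + 1)) ψ' = φn (n + 1) ∧ ξ.app _ ψ' = η'.elt (n + 1)},
        ArtFun.HomSet.map (A'.truncMap n) ψ'.1 = ψ.1 := by
    intro n ψ
    obtain ⟨B, p', p'', hB⟩ := Groth.Agent.Lib.ArtFunFibre.exists_isFibreProd_of_surjective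
      (gn n) (A.truncMap n) (htsurj n)
    have hw : A'.truncMap n ≫ gn n = gn (n + 1) ≫ A.truncMap n :=
      (ArtFun.CRing.truncMapOfHom_truncMap g hg n).symm
    obtain ⟨lam, hl1, hl2⟩ := Groth.Agent.Lib.H59ArtFunTorsor.exists_hom_of_isFibreProd hB
      (A'.truncMap n) (gn (n + 1)) hw
    have hlam : Function.Surjective lam := by
      intro b
      obtain ⟨x', hx'⟩ := Ideal.Quotient.mk_surjective (p' b)
      obtain ⟨x, hx⟩ := Ideal.Quotient.mk_surjective (p'' b)
      have hcomp : gn n (p' b) = A.truncMap n (p'' b) := hB.w_apply b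
      have h1 : x - g x' ∈ IsLocalRing.maximalIdeal A.carrier ^ (n + 1) := by
        rw [← hx', ← hx] at hcomp
        have h2 : Ideal.Quotient.mk (A.mpow n) (g x') = Ideal.Quotient.mk (A.mpow n) x := hcomp
        rw [Ideal.Quotient.eq] at h2
        have := Ideal.neg_mem_iff _ |>.2 h2
        rwa [neg_sub] at this
      obtain ⟨y', hy', hgy'⟩ := hmapm (n + 1) _ h1
      refine ⟨Ideal.Quotient.mk _ (x' + y'), ?_⟩
      apply hB.inj
      · have e1 : p' (lam (Ideal.Quotient.mk _ (x' + y'))) =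
            A'.truncMap n (Ideal.Quotient.mk _ (x' + y')) := by
          rw [← hl1]; rfl
        rw [e1, ← hx']
        change Ideal.Quotient.mk (A'.mpow n) (x' + y') = Ideal.Quotient.mk (A'.mpow n) x'
        rw [Ideal.Quotient.eq, add_sub_cancel_left]
        exact hy'
      · have e2 : p'' (lam (Ideal.Quotient.mk _ (x' + y'))) =
            gn (n + 1) (Ideal.Quotient.mk _ (x' + y')) := by
          rw [← hl2]; rfl
        rw [e2, ← hx]
        change Ideal.Quotient.mk (A.mpow (n + 1)) (g (x' + y')) = Ideal.Quotient.mk (A.mpow (n + 1)) x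
        rw [map_add, hgy']
        congr 1
        ring
    obtain ⟨θ, hθ1, hθ2⟩ := Groth.Agent.Lib.ArtFunBasic.exists_lift_of_isFibreProd hB ψ.1
      (φn (n + 1)) (by rw [ψ.2.1, hφcompat])
    have hy : F.map lam (η'.elt (n + 1)) = ξ.app B θ := by
      apply (hRS p' p'' (gn n) (A.truncMap n) hB (htsurj n)).1
      apply ArtFun.FibProd.ext
      · change F.map p' (F.map lam (η'.elt (n + 1))) = F.map p' (ξ.app B θ)
        rw [← Functor.map_comp_apply, hl1, η'.compat, ← ξ.natural, hθ1, ψ.2.2]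
      · change F.map p'' (F.map lam (η'.elt (n + 1))) = F.map p'' (ξ.app B θ)
        rw [← Functor.map_comp_apply, hl2, ← ξ.natural, hθ2, hsqn]
    obtain ⟨ψ', hψ'1, hψ'2⟩ := hξ lam hlam θ (η'.elt (n + 1)) hy
    refine ⟨⟨ψ', ?_, hψ'2⟩, ?_⟩
    · rw [← hl2, Groth.Agent.Lib.H59ArtFunVersal.homSet_map_comp, hψ'1, hθ2]
    · change ArtFun.HomSet.map (A'.truncMap n) ψ' = ψ.1
      rw [← hl1, Groth.Agent.Lib.H59ArtFunVersal.homSet_map_comp, hψ'1, hθ1]
  -- base case
  have h0' : ∃ ψ : ArtFun.HomSet R.carrier R.res (A'.trunc 0),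
      ArtFun.HomSet.map (gn 0) ψ = φn 0 ∧ ξ.app _ ψ = η'.elt 0 :=
    hξ (gn 0) (hgn_surj 0) (φn 0) (η'.elt 0) (hsqn 0).symm
  choose next hnext using step
  obtain ⟨ψ0, hψ0⟩ := h0'
  let seq : ∀ n : ℕ, {ψ : ArtFun.HomSet R.carrier R.res (A'.trunc n) //
        ArtFun.HomSet.map (gn n) ψ = φn n ∧ ξ.app _ ψ = η'.elt n} :=
    fun n => Nat.rec (motive := fun n =>
      {ψ : ArtFun.HomSet R.carrier R.res (A'.trunc n) //
        ArtFun.HomSet.map (gn n) ψ = φn n ∧ ξ.app _ ψ = η'.elt n})
      ⟨ψ0, hψ0⟩ (fun n prev => next n prev) n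
  have hseq : ∀ n, ArtFun.HomSet.map (A'.truncMap n) (seq (n + 1)).1 = (seq n).1 :=
    fun n => hnext n (seq n)
  obtain ⟨G, hG, hGn⟩ := Groth.Agent.Lib.H71ArtFunProRep.exists_algHom_of_compatible R A'
    (fun n => (seq n).1) hseq
  refine ⟨G, hG, ?_, ?_⟩
  · apply Groth.Agent.Lib.ArtFunBasic.algHom_eq_of_forall_trunc_eq A
    intro n
    have h1 := congrArg Subtype.val (seq n).2.1
    have h2 := congrArg Subtype.val (hGn n)
    apply AlgHom.ext
    intro r
    have h3 : (gn n) ((seq n).1.1 r) = (φn n).1 r := DFunLike.congr_fun h1 r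
    have h4 : (A'.truncHom n).1 (G r) = (seq n).1.1 r := DFunLike.congr_fun h2 r
    change (A.truncHom n).1 (g (G r)) = (A.truncHom n).1 (φ r)
    rw [← h4] at h3
    exact h3
  · apply ArtFun.FormalElt.ext'
    intro n
    rw [Groth.Agent.Lib.ArtFunBasic.toFormalElt_along_elt, hGn n]
    exact (seq n).2.2

end Groth.Agent.S13981
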