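import Groth.Statements.S13985

set_option autoImplicit false
universe u
open CategoryTheory
open CohGab

namespace Groth.Agent.S13985

/-- For a ring A, the canonical map from the centre of A to the centre of the category of finitely
generated left A-modules (the endomorphism ring of its identity functor), sending a to
multiplication by a, is bijective: every natural endomorphism of the identity functor acts on each
finitely generated module as multiplication by a unique element of A, and that element is central.
(The published statement calls this map an isomorphism of commutative rings; this row states its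
bijectivity.) -/
theorem result (A : Type u) [Ring A]
    (φ : 𝟭 (FGModuleCat.{u} A) ⟶ 𝟭 (FGModuleCat.{u} A)) :
    ∃! a : A, a ∈ Subring.center A ∧
      ∀ (M : FGModuleCat.{u} A) (x : M), (φ.app M).hom.hom x = a • x := by
  -- the element
  set a : A := (φ.app (FGModuleCat.of A A)).hom.hom (1 : A) with ha
  -- key: naturality against `r ↦ r • x`
  have key : ∀ (M : FGModuleCat.{u} A) (x : M), (φ.app M).hom.hom x = a • x := by
    intro M x
    let f : A →ₗ[A] M := LinearMap.toSpanSingleton A M x
    let g : FGModuleCat.of A A ⟶ M :=
      ConcreteCategory.ofHom (C := FGModuleCat.{u} A) (X := FGModuleCat.of A A) (Y := M) f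
    have hnat := φ.naturality g
    have h1 := congrArg (fun h => h.hom.hom (1 : A)) hnat
    simp only [Functor.id_map, FGModuleCat.hom_hom_comp, LinearMap.comp_apply] at h1
    have hg : ∀ r : A, g.hom.hom r = r • x := fun r => rfl
    rw [hg, one_smul] at h1
    rw [h1, ← ha, hg]
  have hcomm : ∀ r : A, r * a = a * r := by
    intro r
    have h1 := key (FGModuleCat.of A A) r
    have h2 : (φ.app (FGModuleCat.of A A)).hom.hom r = r • a := by
      have : (r : A) = r • (1 : A) := by rw [smul_eq_mul, mul_one]
      conv_lhs => rw [this]
      rw [map_smul]
    rw [h2] at h1
    exact h1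
  refine ⟨a, ⟨?_, key⟩, ?_⟩
  · rw [Subring.mem_center_iff]
    intro r
    exact hcomm r
  · rintro b ⟨-, hb⟩
    have h1 := hb (FGModuleCat.of A A) (1 : A)
    rw [← ha] at h1
    rw [h1, smul_eq_mul, mul_one]

end Groth.Agent.S13985
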