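import Groth.Statements.S13987
import Mathlib
import Groth.Agent.Lib.H90LocCrit
import Groth.Agent.Lib.H43CohProp
import Groth.Agent.Lib.H90QCohLocalization
import Groth.Agent.Lib.RestrictExact
import Groth.Agent.Lib.H90GraphExt
import Groth.Agent.Lib.H90LocNoeth
import Groth.Agent.Lib.H90OXModQcqs

set_option autoImplicit false
universe u
open CategoryTheory CategoryTheory.Limits AlgebraicGeometry
open CohGab

namespace Groth.Agent.S13987

open Groth.Agent.Lib.H43CohProp Groth.Agent.Lib.H90LocCrit

instance preservesFiniteLimits_cohP_ι (X : Scheme.{u}) [IsLocallyNoetherian X] :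
    PreservesFiniteLimits (cohP X).ι := by
  haveI : ∀ {A B : (cohP X).FullSubcategory} (f : A ⟶ B),
      PreservesLimit (parallelPair f 0) (cohP X).ι := fun f => (cohP X).preservesKernels_ι f
  exact Functor.preservesFiniteLimits_of_preservesKernels _

instance preservesFiniteColimits_cohP_ι (X : Scheme.{u}) [IsLocallyNoetherian X] :
    PreservesFiniteColimits (cohP X).ι := by
  haveI : ∀ {A B : (cohP X).FullSubcategory} (f : A ⟶ B),
      PreservesColimit (parallelPair f 0) (cohP X).ι := fun f => (cohP X).preservesCokernels_ι f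
  exact Functor.preservesFiniteColimits_of_preservesCokernels _

/-- the restriction functor on coherent modules -/
noncomputable abbrev resCoh (X : Scheme.{u}) (U : X.Opens)
    (hres : ∀ M : X.Modules, Coh.IsCoh M → Coh.IsCoh ((Scheme.Modules.restrictFunctor U.ι).obj M)) :
    (cohP X).FullSubcategory ⥤ (cohP (↑U : Scheme.{u})).FullSubcategory :=
  ObjectProperty.lift (cohP (↑U : Scheme.{u})) ((cohP X).ι ⋙ Scheme.Modules.restrictFunctor U.ι)
    (fun M => hres M.obj M.property)

section

variable (X : Scheme.{u}) [IsLocallyNoetherian X] (U : X.Opens)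
    (hres : ∀ M : X.Modules, Coh.IsCoh M → Coh.IsCoh ((Scheme.Modules.restrictFunctor U.ι).obj M))

instance preservesFiniteLimits_resCoh : PreservesFiniteLimits (resCoh X U hres) := by
  haveI : PreservesFiniteLimits (resCoh X U hres ⋙ (cohP (↑U : Scheme.{u})).ι) :=
    inferInstanceAs (PreservesFiniteLimits ((cohP X).ι ⋙ Scheme.Modules.restrictFunctor U.ι))
  exact ⟨fun J _ _ => preservesLimitsOfShape_of_reflects_of_preserves (resCoh X U hres)
    (cohP (↑U : Scheme.{u})).ι⟩

instance preservesFiniteColimits_resCoh : PreservesFiniteColimits (resCoh X U hres) := by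
  haveI : PreservesFiniteColimits (resCoh X U hres ⋙ (cohP (↑U : Scheme.{u})).ι) :=
    inferInstanceAs (PreservesFiniteColimits ((cohP X).ι ⋙ Scheme.Modules.restrictFunctor U.ι))
  exact ⟨fun J _ _ => preservesColimitsOfShape_of_reflects_of_preserves (resCoh X U hres)
    (cohP (↑U : Scheme.{u})).ι⟩

end

theorem main (X : Scheme.{u}) [IsNoetherian X]
    (U : X.Opens)
    (hres : ∀ M : X.Modules, Coh.IsCoh M → Coh.IsCoh ((Scheme.Modules.restrictFunctor U.ι).obj M)) :
    (resCoh X U hres).IsLocalization (kerClass (resCoh X U hres)).isoModSerre := by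
  have hX : ∀ x : X, ∃ V : X.Opens, x ∈ V ∧ TopologicalSpace.NoetherianSpace (V : Set X) := by
    intro x
    obtain ⟨_, ⟨V, hV, rfl⟩, hxV, -⟩ :=
      X.isBasis_affineOpens.exists_subset_of_mem_open (Set.mem_univ x) isOpen_univ
    haveI : IsNoetherianRing Γ(X, V) := IsLocallyNoetherian.component_noetherian ⟨V, hV⟩
    exact ⟨V, hxV, noetherianSpace_of_isAffineOpen V hV⟩
  haveI : (resCoh X U hres).EssSurj := by
    constructor
    intro N
    have hN : Coh.IsCoh N.obj := N.property
    haveI : N.obj.IsQuasicoherent := hN.1
    let F := (Scheme.Modules.pushforward U.ι).obj N.obj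
    haveI : F.IsQuasicoherent :=
      Groth.Agent.Lib.H90OXModQcqs.isQuasicoherent_pushforward_of_qcqs U.ι N.obj
    let i : N.obj ⟶ F.restrict U.ι :=
      inv ((Scheme.Modules.restrictAdjunction U.ι).counit.app N.obj)
    haveI : Mono i := inferInstance
    obtain ⟨G', i', e, hmono, hq, hft, -⟩ :=
      Groth.Agent.Lib.H90LocNoeth.exists_finiteType_extension hX U F i hN.2
    exact ⟨⟨G', ⟨hq, hft⟩⟩, ⟨(cohP (↑U : Scheme.{u})).isoMk e⟩⟩
  refine isLocalization_of_exact (resCoh X U hres) ?_
  intro A B φ
  obtain ⟨E, a, b, hE, -, haiso, hb⟩ :=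
    Groth.Agent.Lib.H90GraphExt.exists_graph_extension hX A.obj B.obj A.property B.property U φ.hom
  let E' : (cohP X).FullSubcategory := ⟨E, hE⟩
  let s : E' ⟶ A := (cohP X).homMk a
  let f : E' ⟶ B := (cohP X).homMk b
  refine ⟨E', s, f, ?_, ?_⟩
  · haveI : IsIso ((cohP (↑U : Scheme.{u})).ι.map ((resCoh X U hres).map s)) := haiso
    exact isIso_of_fully_faithful (cohP (↑U : Scheme.{u})).ι _
  · apply (cohP (↑U : Scheme.{u})).hom_ext
    exact hb

/-- Let X be a Noetherian scheme, Z ⊆ X a closed subset and U = X ∖ Z. Then restriction to U induces an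
equivalence between the quotient abelian category Coh(X)/Coh_Z(X) (coherent modules modulo those
supported in Z) and Coh(U): the restriction functor Coh(X) ⥤ Coh(U) is a localization functor for
the class of morphisms of coherent O_X-modules whose kernel and cokernel (taken in O_X-modules) have
support contained in Z. The hypothesis that restriction to U preserves coherence always holds and is
carried only to form the functor between the full subcategories. (The published statement is about
coherent sheaves twisted by a class in the second etale cohomology group of the units of the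
structure sheaf; this row is its case of the trivial class, ordinary coherent sheaves.) -/
theorem result (X : Scheme.{u}) [IsNoetherian X]
    (U : X.Opens)
    (hres : ∀ M : X.Modules, Coh.IsCoh M → Coh.IsCoh ((Scheme.Modules.restrictFunctor U.ι).obj M)) :
    (ObjectProperty.lift (fun N : (↑U : Scheme.{u}).Modules => Coh.IsCoh N)
        (ObjectProperty.ι (fun M : X.Modules => Coh.IsCoh M) ⋙ Scheme.Modules.restrictFunctor U.ι)
        (fun M => hres M.obj M.property)).IsLocalization
      (fun (A B : ObjectProperty.FullSubcategory (fun M : X.Modules => Coh.IsCoh M)) (f : A ⟶ B) =>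
        CohB1.support (kernel f.hom) ⊆ (↑U : Set X)ᶜ ∧
          CohB1.support (cokernel f.hom) ⊆ (↑U : Set X)ᶜ) := by
  have hW : (fun (A B : (cohP X).FullSubcategory) (f : A ⟶ B) =>
        CohB1.support (kernel f.hom) ⊆ (↑U : Set X)ᶜ ∧
          CohB1.support (cokernel f.hom) ⊆ (↑U : Set X)ᶜ) =
      (kerClass (resCoh X U hres)).isoModSerre := by
    funext A B f
    apply propext
    rw [isoModSerre_kerClass_iff, ← Groth.Agent.Lib.H90QCohLocalization.isIso_restrict_map_iff]
    constructor
    · intro h
      haveI : IsIso ((cohP (↑U : Scheme.{u})).ι.map ((resCoh X U hres).map f)) := h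
      exact isIso_of_fully_faithful (cohP (↑U : Scheme.{u})).ι _
    · intro h
      haveI := h
      exact (inferInstance : IsIso ((cohP (↑U : Scheme.{u})).ι.map ((resCoh X U hres).map f)))
  have h := main X U hres
  rw [← hW] at h
  exact h

end Groth.Agent.S13987
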