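import Groth.Statements.S13989
import Mathlib

set_option autoImplicit false
universe v u v' u' v'' u''
open CategoryTheory CategoryTheory.Limits
open CohGab

namespace Groth.Agent.S13989

set_option linter.unusedSectionVars false

section
variable {A A' : Type u} [Category.{v} A] [Abelian A] [Category.{v} A'] [Abelian A']
    (i : A' ⥤ A) [PreservesFiniteLimits i] [PreservesFiniteColimits i]
    (J : ObjectProperty A) [J.IsSerreClass] [(J.inverseImage i).IsSerreClass]

lemma isoModSerre_inverseImage_iff {M N : A'} (m : M ⟶ N) :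
    (J.inverseImage i).isoModSerre m ↔ J.isoModSerre (i.map m) := by
  have : i.PreservesZeroMorphisms := inferInstance
  rw [ObjectProperty.isoModSerre_iff, ObjectProperty.isoModSerre_iff,
    ObjectProperty.monoModSerre_iff, ObjectProperty.monoModSerre_iff,
    ObjectProperty.epiModSerre_iff, ObjectProperty.epiModSerre_iff,
    ObjectProperty.prop_inverseImage_iff, ObjectProperty.prop_inverseImage_iff,
    J.prop_iff_of_iso (PreservesKernel.iso i m), J.prop_iff_of_iso (PreservesCokernel.iso i m)]

lemma faithful_part {Q : Type u'} [Category.{v'} Q] (L : A ⥤ Q) [L.IsLocalization J.isoModSerre]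
    {Q' : Type u''} [Category.{v''} Q'] (L' : A' ⥤ Q')
    [L'.IsLocalization (J.inverseImage i).isoModSerre]
    (Φ : Q' ⥤ Q) (e : L' ⋙ Φ ≅ i ⋙ L) : Φ.Faithful := by
  have : i.Additive := Functor.additive_of_preserves_binary_products i
  refine Functor.faithful_of_comp_of_hasLeftCalculusOfFractions L'
    (J.inverseImage i).isoModSerre Φ ?_
  intro M N f g hfg
  have h1 : L.map (i.map f) = L.map (i.map g) := by
    have nf := e.hom.naturality f
    have ng := e.hom.naturality g
    dsimp at nf ng
    rw [← cancel_epi (e.hom.app M), ← nf, ← ng, hfg]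
  obtain ⟨Z, t, ht, htfg⟩ := (MorphismProperty.map_eq_iff_precomp L J.isoModSerre _ _).1 h1
  rw [MorphismProperty.map_eq_iff_precomp L' (J.inverseImage i).isoModSerre]
  refine ⟨kernel (f - g), kernel.ι (f - g), ?_, ?_⟩
  · rw [isoModSerre_inverseImage_iff, ObjectProperty.isoModSerre_iff_of_mono,
      ObjectProperty.epiModSerre_iff]
    have h2 : t ≫ i.map (f - g) = 0 := by rw [i.map_sub, Preadditive.comp_sub, htfg, sub_self]
    let t₀ : Z ⟶ i.obj (kernel (f - g)) :=
      kernel.lift _ t h2 ≫ (PreservesKernel.iso i (f - g)).inv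
    have ht₀ : t₀ ≫ i.map (kernel.ι (f - g)) = t := by
      simp [t₀]
    let c := cokernel.desc t (cokernel.π (i.map (kernel.ι (f - g))))
      (by rw [← ht₀, Category.assoc, cokernel.condition, comp_zero])
    have : Epi c := epi_of_epi_fac (cokernel.π_desc _ _ _)
    exact J.prop_of_epi c ht.2
  · rw [← sub_eq_zero, ← Preadditive.comp_sub, kernel.condition]

end

section
variable {A A' : Type u} [Category.{v} A] [Abelian A] [Category.{v} A'] [Abelian A']
    (i : A' ⥤ A) [i.Full] [i.Faithful] [PreservesFiniteLimits i] [PreservesFiniteColimits i]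

/-- the essential image of an exact fully faithful functor is closed under kernels of maps from
objects of the image to objects of the essential image -/
lemma essImage_kernel {M : A'} {Z : A} (u : i.obj M ⟶ Z) (hZ : i.essImage Z) :
    i.essImage (kernel u) := by
  have : i.PreservesZeroMorphisms := inferInstance
  obtain ⟨C₀, ⟨β⟩⟩ := hZ
  let c : M ⟶ C₀ := i.preimage (u ≫ β.inv)
  have hc : i.map c = u ≫ β.inv := i.map_preimage _
  exact ⟨kernel c, ⟨PreservesKernel.iso i c ≪≫ kernelIsoOfEq hc ≪≫ kernelCompMono u β.inv⟩⟩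

variable (J : ObjectProperty A) [J.IsSerreClass] [(J.inverseImage i).IsSerreClass]

lemma full_part
    (hsub : ∀ (M : A') (N : A) (f : N ⟶ i.obj M), Mono f → J N → i.essImage N)
    (hquot : ∀ (M : A') (N : A) (p : i.obj M ⟶ N), Epi p → J N → i.essImage N)
    {Q : Type u'} [Category.{v'} Q] (L : A ⥤ Q) [L.IsLocalization J.isoModSerre]
    {Q' : Type u''} [Category.{v''} Q'] (L' : A' ⥤ Q')
    [L'.IsLocalization (J.inverseImage i).isoModSerre]
    (Φ : Q' ⥤ Q) (e : L' ⋙ Φ ≅ i ⋙ L) : Φ.Full := by
  have : i.PreservesZeroMorphisms := inferInstance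
  have : L'.EssSurj := Localization.essSurj L' (J.inverseImage i).isoModSerre
  refine Functor.full_of_comp_essSurj Φ L' ?_
  intro M N φ
  have hΦ : ∀ {M N : A'} (u : M ⟶ N),
      Φ.map (L'.map u) = e.hom.app M ≫ L.map (i.map u) ≫ e.inv.app N := by
    intro M N u
    have := e.hom.naturality u
    dsimp at this
    rw [← Category.assoc, ← this, Category.assoc, Iso.hom_inv_id_app]
    exact (Category.comp_id _).symm
  let ψ' : L.obj (i.obj M) ⟶ L.obj (i.obj N) := e.inv.app M ≫ φ ≫ e.hom.app N
  have hφ : φ = e.hom.app M ≫ ψ' ≫ e.inv.app N := by simp [ψ']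
  obtain ⟨ρ, hρ⟩ := Localization.exists_rightFraction L J.isoModSerre ψ'
  obtain ⟨s, hs, f⟩ := ρ
  rename_i X
  have hsf : L.map s ≫ ψ' = L.map f := by
    rw [hρ]
    exact (MorphismProperty.RightFraction.mk s hs f).map_s_comp_map L
      (Localization.inverts L J.isoModSerre)
  -- the image of `s`
  let p₁ : X ⟶ Abelian.image s := Abelian.factorThruImage s
  let ι₁ : Abelian.image s ⟶ i.obj M := Abelian.image.ι s
  have hp₁ι₁ : p₁ ≫ ι₁ = s := Abelian.image.fac s
  have hWp₁ : J.isoModSerre p₁ := hs.1.isoModSerre_factorThruImage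
  have hWι₁ : J.isoModSerre ι₁ := hs.2.isoModSerre_image_ι
  obtain ⟨M₁, ⟨α⟩⟩ : i.essImage (Abelian.image s) :=
    essImage_kernel i (cokernel.π s) (hquot M _ (cokernel.π s) inferInstance hs.2)
  let m₁ : M₁ ⟶ M := i.preimage (α.hom ≫ ι₁)
  have hm₁ : i.map m₁ = α.hom ≫ ι₁ := i.map_preimage _
  have hWm₁ : (J.inverseImage i).isoModSerre m₁ := by
    rw [isoModSerre_inverseImage_iff, hm₁]
    exact (MorphismProperty.cancel_left_of_respectsIso _ α.hom ι₁).2 hWι₁
  -- the image of the kernel of `s` in `i N`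
  let ι₀ : Abelian.image (kernel.ι s ≫ f) ⟶ i.obj N := Abelian.image.ι _
  have hJ₀ : J (Abelian.image (kernel.ι s ≫ f)) :=
    J.prop_of_epi (Abelian.factorThruImage (kernel.ι s ≫ f)) hs.1
  obtain ⟨N₀, ⟨γ⟩⟩ : i.essImage (Abelian.image (kernel.ι s ≫ f)) :=
    hsub N _ ι₀ inferInstance hJ₀
  let n₀ : N₀ ⟶ N := i.preimage (γ.hom ≫ ι₀)
  have hn₀ : i.map n₀ = γ.hom ≫ ι₀ := i.map_preimage _
  let q : N ⟶ cokernel n₀ := cokernel.π n₀
  have hWq : (J.inverseImage i).isoModSerre q := by
    rw [ObjectProperty.isoModSerre_iff_of_epi, ObjectProperty.monoModSerre_iff]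
    have hN₀ : (J.inverseImage i) N₀ := by
      rw [ObjectProperty.prop_inverseImage_iff]
      exact J.prop_of_iso γ.symm hJ₀
    exact (J.inverseImage i).prop_of_epi (Abelian.factorThruImage n₀) hN₀
  -- the induced map on the image
  have hker : kernel.ι p₁ ≫ f ≫ i.map q = 0 := by
    have h1 : kernel.ι p₁ ≫ s = 0 :=
      calc kernel.ι p₁ ≫ s = kernel.ι p₁ ≫ (p₁ ≫ ι₁) := congrArg (kernel.ι p₁ ≫ ·) hp₁ι₁.symm
        _ = 0 := by rw [← Category.assoc, kernel.condition, zero_comp]
    have h2 : kernel.ι p₁ = kernel.lift s (kernel.ι p₁) h1 ≫ kernel.ι s :=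
      (kernel.lift_ι _ _ _).symm
    have h3 : kernel.ι s ≫ f = Abelian.factorThruImage (kernel.ι s ≫ f) ≫ ι₀ :=
      (Abelian.image.fac _).symm
    have h4 : ι₀ = γ.inv ≫ i.map n₀ := by rw [hn₀, Iso.inv_hom_id_assoc]
    rw [h2, Category.assoc, ← Category.assoc (kernel.ι s), h3, h4, Category.assoc, Category.assoc,
      ← i.map_comp, cokernel.condition, i.map_zero, comp_zero, comp_zero, comp_zero]
  let fbar : Abelian.image s ⟶ i.obj (cokernel n₀) := Abelian.epiDesc p₁ (f ≫ i.map q) hker
  have hfbar : p₁ ≫ fbar = f ≫ i.map q := Abelian.comp_epiDesc _ _ _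
  let g : M₁ ⟶ cokernel n₀ := i.preimage (α.hom ≫ fbar)
  have hg : i.map g = α.hom ≫ fbar := i.map_preimage _
  -- the morphism in the localized category
  have : IsIso (L'.map m₁) := Localization.inverts L' _ _ hWm₁
  have : IsIso (L'.map q) := Localization.inverts L' _ _ hWq
  have : IsIso (L.map p₁) := Localization.inverts L _ _ hWp₁
  refine ⟨inv (L'.map m₁) ≫ L'.map g ≫ inv (L'.map q), ?_⟩
  -- key computation
  have key : L.map ι₁ ≫ ψ' ≫ L.map (i.map q) = L.map fbar := by
    rw [← cancel_epi (L.map p₁), ← Category.assoc, ← L.map_comp, hp₁ι₁, ← Category.assoc, hsf,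
      ← L.map_comp, ← L.map_comp, hfbar]
  have key2 : L.map (i.map m₁) ≫ ψ' ≫ L.map (i.map q) = L.map (i.map g) := by
    rw [hg, hm₁, L.map_comp, L.map_comp, Category.assoc, key]
  rw [Φ.map_comp, Φ.map_comp, Functor.map_inv, Functor.map_inv, IsIso.inv_comp_eq,
    IsIso.comp_inv_eq, hΦ g, hΦ m₁, hΦ q, hφ, ← key2]
  simp only [Category.assoc, Iso.inv_hom_id_app_assoc]

end


/-- Let A be an abelian category, A' a full abelian subcategory (given as a fully faithful exact functor
i : A' ⥤ A) and J a Serre subcategory of A, with J' = J ∩ A' (the preimage of J under i, a Serre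
subcategory of A'). Assume that every subobject and every quotient object, in A, of an object of A'
which belongs to J belongs to A' (lies in the essential image of i). Then the functor A'/J' ⥤ A/J
induced between the quotient categories is fully faithful: for L : A ⥤ Q and L' : A' ⥤ Q'
localization functors at the morphisms whose kernel and cokernel lie in J, resp. J', every functor Φ
: Q' ⥤ Q with L' ⋙ Φ ≅ i ⋙ L is full and faithful. -/
theorem result
    {A A' : Type u} [Category.{v} A] [Abelian A] [Category.{v} A'] [Abelian A']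
    (i : A' ⥤ A) [i.Full] [i.Faithful] [PreservesFiniteLimits i] [PreservesFiniteColimits i]
    (J : ObjectProperty A) [J.IsSerreClass] [(J.inverseImage i).IsSerreClass]
    (hsub : ∀ (M : A') (N : A) (f : N ⟶ i.obj M), Mono f → J N → i.essImage N)
    (hquot : ∀ (M : A') (N : A) (p : i.obj M ⟶ N), Epi p → J N → i.essImage N)
    {Q : Type u'} [Category.{v'} Q] (L : A ⥤ Q) [L.IsLocalization J.isoModSerre]
    {Q' : Type u''} [Category.{v''} Q'] (L' : A' ⥤ Q') [L'.IsLocalization (J.inverseImage i).isoModSerre]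
    (Φ : Q' ⥤ Q) (e : L' ⋙ Φ ≅ i ⋙ L) : Φ.Full ∧ Φ.Faithful := by
  exact ⟨full_part i J hsub hquot L L' Φ e, faithful_part i J L L' Φ e⟩

end Groth.Agent.S13989
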