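import Groth.Statements.S1399
import Groth.Agent.Lib.IndQuasiAffine

set_option autoImplicit false
universe u
open FlatMor

namespace Groth.Agent.S1399

open AlgebraicGeometry CategoryTheory Limits in
/-- If g ∘ f is ind-quasi-affine then so is f. -/
theorem result {X Y Z : Scheme.{u}} (f : X ⟶ Y) (g : Y ⟶ Z) (h : MoreMor.IsIndQuasiAffineHom (f ≫ g)) :
    MoreMor.IsIndQuasiAffineHom f := by
  intro V hV
  rw [Lib.IndQuasiAffine.isIndQuasiAffine_opens_iff]
  intro U hUV hU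
  refine Lib.IndQuasiAffine.isQuasiAffine_opens_of_forall_exists_basicOpen U hU fun x hx => ?_
  have hy : f x ∈ V := hUV hx
  obtain ⟨W, hW, hgW, -⟩ := exists_isAffineOpen_mem_and_subset (x := g (f x)) (U := ⊤) trivial
  obtain ⟨s₀, hs₀le, hys₀⟩ := hV.exists_basicOpen_le (V := g ⁻¹ᵁ W) ⟨f x, hgW⟩ hy
  refine ⟨f.appLE V U hUV s₀, ?_, ?_⟩
  · rw [Scheme.basicOpen_appLE]
    exact ⟨hx, hys₀⟩
  · have hc : IsCompact (X.basicOpen (f.appLE V U hUV s₀) : Set X) := isCompact_basicOpen X hU _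
    refine (Lib.IndQuasiAffine.isIndQuasiAffine_opens_iff _).mp (h W hW) _ ?_ hc
    rw [Scheme.basicOpen_appLE]
    intro z hz
    exact hs₀le hz.2

end Groth.Agent.S1399
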