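import Groth.Statements.S13991
import Mathlib
import Groth.Agent.Lib.H90SerreCore2

set_option autoImplicit false
universe u
open CategoryTheory AlgebraicGeometry
open CohGab

namespace Groth.Agent.S13991

/-- Let X be a Noetherian scheme and Z ⊆ X a closed subset. Then Z is irreducible (or empty) if and only
if Coh_Z(X), the coherent O_X-modules supported in Z, is an irreducible Serre subcategory of Coh(X),
i.e. it is not generated as a Serre subcategory by two Serre subcategories properly contained in it:
whenever J₁, J₂ are Serre classes on coherent modules (middle term of a short exact sequence of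
coherent modules belongs iff both outer terms do), both contained in Coh_Z, such that every Serre
class on coherent modules containing J₁ and J₂ contains Coh_Z, then J₁ or J₂ contains Coh_Z.
Consequently the points of X correspond to the irreducible Serre subcategories of finite type other
than the zero subcategory. (The published statement says 'Z is irreducible iff Coh_Z is irreducible'
and deduces a bijection between the points of X and all irreducible Serre subcategories of finite
type; the zero subcategory Coh_∅ is irreducible in this sense while ∅ is not an irreducible space,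
so irreducibility of Z is read here as 'irreducible or empty'. The published statement is also about
coherent sheaves twisted by a class in the second etale cohomology group of the units of the
structure sheaf; this row is its case of the trivial class.) -/
theorem result (X : Scheme.{u}) [IsNoetherian X]
    (Z : TopologicalSpace.Closeds X) :
    IsPreirreducible (↑Z : Set X) ↔
    ∀ J₁ J₂ : ObjectProperty X.Modules, (∀ S : ShortComplex X.Modules, S.ShortExact → Coh.IsCoh S.X₁ → Coh.IsCoh S.X₂ →
        Coh.IsCoh S.X₃ → (J₁ S.X₂ ↔ J₁ S.X₁ ∧ J₁ S.X₃)) → (∀ S : ShortComplex X.Modules, S.ShortExact → Coh.IsCoh S.X₁ → Coh.IsCoh S.X₂ →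
        Coh.IsCoh S.X₃ → (J₂ S.X₂ ↔ J₂ S.X₁ ∧ J₂ S.X₃)) →
      (∀ M : X.Modules, Coh.IsCoh M → J₁ M → CohB1.support M ⊆ (↑Z : Set X)) →
      (∀ M : X.Modules, Coh.IsCoh M → J₂ M → CohB1.support M ⊆ (↑Z : Set X)) →
      (∀ Q : ObjectProperty X.Modules, (∀ S : ShortComplex X.Modules, S.ShortExact → Coh.IsCoh S.X₁ → Coh.IsCoh S.X₂ →
        Coh.IsCoh S.X₃ → (Q S.X₂ ↔ Q S.X₁ ∧ Q S.X₃)) →
        (∀ M : X.Modules, Coh.IsCoh M → J₁ M → Q M) → (∀ M : X.Modules, Coh.IsCoh M → J₂ M → Q M) →
        ∀ M : X.Modules, Coh.IsCoh M → CohB1.support M ⊆ (↑Z : Set X) → Q M) →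
      (∀ M : X.Modules, Coh.IsCoh M → CohB1.support M ⊆ (↑Z : Set X) → J₁ M) ∨
        (∀ M : X.Modules, Coh.IsCoh M → CohB1.support M ⊆ (↑Z : Set X) → J₂ M) := by
  classical
  have hubc := Groth.Agent.Lib.H90DevHub2.isCoh_hub Z
  have hubs := Groth.Agent.Lib.H90SerreCore2.support_hub_eq Z
  constructor
  · intro hpre J₁ J₂ h1 h2 hs1 hs2 hgen
    by_contra hcon
    rw [not_or] at hcon
    obtain ⟨hc1, hc2⟩ := hcon
    -- a member of `J_k` whose support contains `Z` forces `J_k ⊇ Coh_Z`
    have full1 : ∀ M : X.Modules, Coh.IsCoh M → J₁ M → ¬ ((↑Z : Set X) ⊆ CohB1.support M) := by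
      intro M hM hJM hZM
      exact hc1 fun M' hM' hsM' =>
        Groth.Agent.Lib.H90SerreCore.serre_core h1 hM hJM M' hM' (hsM'.trans hZM)
    have full2 : ∀ M : X.Modules, Coh.IsCoh M → J₂ M → ¬ ((↑Z : Set X) ⊆ CohB1.support M) := by
      intro M hM hJM hZM
      exact hc2 fun M' hM' hsM' =>
        Groth.Agent.Lib.H90SerreCore.serre_core h2 hM hJM M' hM' (hsM'.trans hZM)
    by_cases hne : (↑Z : Set X).Nonempty
    · obtain ⟨ξ, hξ⟩ := QuasiSober.sober (⟨hne, hpre⟩ : IsIrreducible (↑Z : Set X)) Z.isClosed
      have hcl : closure {ξ} = (↑Z : Set X) := hξ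
      have key : ∀ M : X.Modules, Coh.IsCoh M → ξ ∈ CohB1.support M →
          (↑Z : Set X) ⊆ CohB1.support M := by
        intro M hM hξM
        haveI : M.IsFiniteType := hM.2
        rw [← hcl]
        exact closure_minimal (Set.singleton_subset_iff.mpr hξM)
          (Groth.Agent.Lib.ModStalk.isClosed_support_of_isFiniteType M)
      have hQ := hgen (fun M => CohB1.support M ⊆ (↑Z : Set X) \ {ξ})
        (Groth.Agent.Lib.H90SerreCore.isSerre_support _)
        (fun M hM hJM x hx => ⟨hs1 M hM hJM hx, fun hxξ => full1 M hM hJM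
          (key M hM (by rw [Set.mem_singleton_iff] at hxξ; rwa [hxξ] at hx))⟩)
        (fun M hM hJM x hx => ⟨hs2 M hM hJM hx, fun hxξ => full2 M hM hJM
          (key M hM (by rw [Set.mem_singleton_iff] at hxξ; rwa [hxξ] at hx))⟩)
        (Groth.Agent.Lib.H90DevCanon.hub Z) hubc (by rw [hubs])
      have hξhub : ξ ∈ CohB1.support (Groth.Agent.Lib.H90DevCanon.hub Z) := by
        rw [hubs]; exact hξ.mem
      exact (hQ hξhub).2 rfl
    · rw [Set.not_nonempty_iff_eq_empty] at hne
      have hQ := hgen (fun _ => False) (fun S _ _ _ _ => by simp)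
        (fun M hM hJM => full1 M hM hJM (by rw [hne]; exact Set.empty_subset _))
        (fun M hM hJM => full2 M hM hJM (by rw [hne]; exact Set.empty_subset _))
        (Groth.Agent.Lib.H90DevCanon.hub Z) hubc (by rw [hubs])
      exact hQ
  · intro h
    by_contra hnot
    unfold IsPreirreducible at hnot
    push Not at hnot
    obtain ⟨u, v, hu, hv, hZu, hZv, hZuv⟩ := hnot
    have hZ₁ : IsClosed ((↑Z : Set X) ∩ uᶜ) := Z.isClosed.inter hu.isClosed_compl
    have hZ₂ : IsClosed ((↑Z : Set X) ∩ vᶜ) := Z.isClosed.inter hv.isClosed_compl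
    have hcov : (↑Z : Set X) ⊆ ((↑Z : Set X) ∩ uᶜ) ∪ ((↑Z : Set X) ∩ vᶜ) := by
      intro x hx
      by_cases hxu : x ∈ u
      · right
        refine ⟨hx, fun hxv => ?_⟩
        have : x ∈ (↑Z : Set X) ∩ (u ∩ v) := ⟨hx, hxu, hxv⟩
        rw [hZuv] at this
        exact this
      · left
        exact ⟨hx, hxu⟩
    have hres := h (fun M => CohB1.support M ⊆ (↑Z : Set X) ∩ uᶜ)
      (fun M => CohB1.support M ⊆ (↑Z : Set X) ∩ vᶜ)
      (Groth.Agent.Lib.H90SerreCore.isSerre_support _)
      (Groth.Agent.Lib.H90SerreCore.isSerre_support _)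
      (fun M _ hJM => hJM.trans Set.inter_subset_left)
      (fun M _ hJM => hJM.trans Set.inter_subset_left)
      (fun Q hQ hQ1 hQ2 M hM hsM => by
        refine Groth.Agent.Lib.H90SerreCore2.serre_of_atoms hQ (T := (↑Z : Set X)) ?_ ?_ M hM hsM
        · intro N hN
          refine hQ1 N (Groth.Agent.Lib.H90DevHub2.isCoh_of_isZero hN) ?_
          rw [Groth.Agent.Lib.H90SerreCore2.support_eq_empty_of_isZero hN]
          exact Set.empty_subset _
        · intro C Zc hC hCc hsC
          have hsub : (↑Zc : Set X) ⊆ (↑Z : Set X) :=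
            Groth.Agent.Lib.H90DevHub2.atomC_subset_of_support_subset hC Z.isClosed hsC
          have hsC' := Groth.Agent.Lib.H90DevHub2.support_atomC_subset hC
          rcases (isPreirreducible_iff_isClosed_union_isClosed.mp hC.1.isPreirreducible) _ _
            hZ₁ hZ₂ (hsub.trans hcov) with h' | h'
          · exact hQ1 C hCc (hsC'.trans h')
          · exact hQ2 C hCc (hsC'.trans h'))
    rcases hres with h' | h'
    · obtain ⟨x, hxZ, hxu⟩ := hZu
      have := h' _ hubc (by rw [hubs])
      rw [hubs] at this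
      exact (this hxZ).2 hxu
    · obtain ⟨x, hxZ, hxv⟩ := hZv
      have := h' _ hubc (by rw [hubs])
      rw [hubs] at this
      exact (this hxZ).2 hxv

end Groth.Agent.S13991
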