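import Groth.Statements.S13993
import Groth.Agent.Lib.NodeTor
import Mathlib.RingTheory.MvPowerSeries.NoZeroDivisors
import Mathlib.Algebra.Homology.DerivedCategory.Ext.ExactSequences
import Mathlib.Algebra.Homology.DerivedCategory.Ext.EnoughProjectives
import Mathlib.Algebra.Category.ModuleCat.Projective
import Mathlib.LinearAlgebra.Dimension.FreeAndStrongRankCondition
-- import your own Groth.Agent.* helpers here

set_option autoImplicit false
universe u
open CategoryTheory
open CAlg

namespace Groth.Agent.S13993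

section ring
variable (k : Type u) [Field k]

noncomputable abbrev P := MvPowerSeries (Fin 2) k
noncomputable abbrev I0 : Ideal (P k) := Ideal.span {(MvPowerSeries.X (0 : Fin 2) : P k) * MvPowerSeries.X (1 : Fin 2)}
noncomputable abbrev A := P k ⧸ I0 k
noncomputable abbrev xb : A k := Ideal.Quotient.mk (I0 k) (MvPowerSeries.X (0 : Fin 2))
noncomputable abbrev yb : A k := Ideal.Quotient.mk (I0 k) (MvPowerSeries.X (1 : Fin 2))

lemma yx : yb k * xb k = 0 := by
  rw [← map_mul, Ideal.Quotient.eq_zero_iff_mem]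
  exact Ideal.mem_span_singleton'.mpr ⟨1, by ring⟩

lemma X1_ne : (MvPowerSeries.X (1 : Fin 2) : P k) ≠ 0 := by
  intro h
  have := congrArg (MvPowerSeries.coeff (Finsupp.single (1 : Fin 2) 1)) h
  rw [MvPowerSeries.coeff_X] at this
  simp at this

lemma hann (a : A k) (ha : yb k * a = 0) : ∃ b, a = xb k * b := by
  obtain ⟨f, rfl⟩ := Ideal.Quotient.mk_surjective a
  rw [← map_mul, Ideal.Quotient.eq_zero_iff_mem, Ideal.mem_span_singleton'] at ha
  obtain ⟨g, hg⟩ := ha
  have h1 : MvPowerSeries.X (1 : Fin 2) * (MvPowerSeries.X (0 : Fin 2) * g) = MvPowerSeries.X (1 : Fin 2) * f := by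
    rw [← hg]; ring
  have h2 := mul_left_cancel₀ (X1_ne k) h1
  exact ⟨Ideal.Quotient.mk _ g, by rw [← map_mul, h2]⟩

/-- The augmentation `A → k`. -/
noncomputable def aug : A k →+* k :=
  Ideal.Quotient.lift (I0 k) (MvPowerSeries.constantCoeff (σ := Fin 2) (R := k)) (by
    intro a ha
    obtain ⟨g, rfl⟩ := Ideal.mem_span_singleton'.mp ha
    simp)

lemma aug_xb : aug k (xb k) = 0 := by
  simp [aug, xb]

lemma aug_yb : aug k (yb k) = 0 := by
  simp [aug, yb]

lemma aug_algebraMap (c : k) : aug k (algebraMap k (A k) c) = c := by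
  have : algebraMap k (A k) c = Ideal.Quotient.mk (I0 k) (MvPowerSeries.C c) := rfl
  rw [this, aug, Ideal.Quotient.lift_mk, MvPowerSeries.constantCoeff_C]

lemma decomp (a : A k) : ∃ b b', a = algebraMap k (A k) (aug k a) + yb k * b + xb k * b' := by
  classical
  obtain ⟨f, rfl⟩ := Ideal.Quotient.mk_surjective a
  let f₁ : P k := fun m => if m 0 = 0 then 0 else MvPowerSeries.coeff m f
  have h1 : (MvPowerSeries.X (0 : Fin 2) : P k) ∣ f₁ := by
    rw [MvPowerSeries.X_dvd_iff]
    intro m hm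
    change (if m 0 = 0 then 0 else MvPowerSeries.coeff m f) = 0
    rw [if_pos hm]
  have h2 : (MvPowerSeries.X (1 : Fin 2) : P k) ∣ f - f₁ - MvPowerSeries.C (MvPowerSeries.constantCoeff f) := by
    rw [MvPowerSeries.X_dvd_iff]
    intro m hm
    rw [map_sub, map_sub]
    change MvPowerSeries.coeff m f - (if m 0 = 0 then 0 else MvPowerSeries.coeff m f) - _ = 0
    by_cases h0 : m 0 = 0
    · have : m = 0 := by
        ext i
        fin_cases i
        · exact h0
        · exact hm
      subst this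
      simp
    · rw [if_neg h0, MvPowerSeries.coeff_C, if_neg]
      · simp
      · intro h; apply h0; rw [h]; rfl
  obtain ⟨g₁, hg₁⟩ := h1
  obtain ⟨g₂, hg₂⟩ := h2
  refine ⟨Ideal.Quotient.mk _ g₂, Ideal.Quotient.mk _ g₁, ?_⟩
  have e : f = MvPowerSeries.C (MvPowerSeries.constantCoeff f) + MvPowerSeries.X 1 * g₂ + MvPowerSeries.X 0 * g₁ := by
    rw [← hg₁, ← hg₂]; ring
  have e2 : aug k (Ideal.Quotient.mk (I0 k) f) = MvPowerSeries.constantCoeff f := by
    simp [aug]
  rw [e2]
  conv_lhs => rw [e]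
  rw [map_add, map_add, map_mul, map_mul]
  rfl

end ring

section ext

open Groth.Agent.Lib.NodeTor CategoryTheory.Abelian

variable (k : Type u) [Field k]

/-- The short exact sequence `0 → A/(x) → A → A/(y) → 0`. -/
noncomputable abbrev SS : ShortComplex (ModuleCat.{u} (A k)) := cycSES (yb k) (xb k) (yx k)

lemma SS_shortExact : (SS k).ShortExact := cycSES_shortExact _ _ _ (hann k)

lemma span_v (w : Ext (SS k).X₃ (SS k).X₁ 1) :
    ∃ c : k, c • (SS_shortExact k).extClass = w := by
  have hproj : Projective (SS k).X₂ := by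
    change Projective (ModuleCat.of (A k) (A k))
    exact (IsProjective.iff_projective (R := A k) (P := A k)).mp inferInstance
  obtain ⟨x₁, hx₁⟩ := Ext.contravariant_sequence_exact₃ (SS_shortExact k) (SS k).X₁ w
    (Ext.eq_zero_of_projective _) (n₀ := 0) rfl
  obtain ⟨φ, rfl⟩ := (Ext.mk₀_bijective _ _).2 x₁
  let φl : (A k ⧸ Ideal.span {xb k}) →ₗ[A k] (A k ⧸ Ideal.span {xb k}) := φ.hom
  obtain ⟨a, ha⟩ := Submodule.Quotient.mk_surjective _ (φl (Submodule.Quotient.mk 1))
  obtain ⟨b, b', hab⟩ := decomp k a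
  generalize aug k a = c at hab
  let ψ : (SS k).X₂ ⟶ (SS k).X₁ :=
    ModuleCat.ofHom (b • Submodule.mkQ (Ideal.span {xb k}))
  have hφ : φ = c • 𝟙 _ + (SS k).f ≫ ψ := by
    apply ModuleCat.hom_ext
    apply LinearMap.ext
    intro z
    obtain ⟨r, rfl⟩ := Submodule.Quotient.mk_surjective _ z
    have h1 : φl (Submodule.Quotient.mk r) = Submodule.Quotient.mk (r * a) := by
      have : (Submodule.Quotient.mk r : A k ⧸ Ideal.span {xb k}) =
          r • (Submodule.Quotient.mk 1 : A k ⧸ Ideal.span {xb k}) := by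
        rw [← Submodule.Quotient.mk_smul, smul_eq_mul, mul_one]
      rw [this, map_smul, ← ha, ← Submodule.Quotient.mk_smul, smul_eq_mul]
    have h2 : (c • 𝟙 (SS k).X₁ + (SS k).f ≫ ψ).hom
        (Submodule.Quotient.mk r : A k ⧸ Ideal.span {xb k}) =
        (Submodule.Quotient.mk (algebraMap k (A k) c * r + b * (yb k * r)) :
          A k ⧸ Ideal.span {xb k}) := rfl
    have h3 : (Submodule.Quotient.mk (r * a) : A k ⧸ Ideal.span {xb k}) =
        Submodule.Quotient.mk (algebraMap k (A k) c * r + b * (yb k * r)) := by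
      rw [Submodule.Quotient.eq, Ideal.mem_span_singleton']
      refine ⟨r * b', ?_⟩
      conv_rhs => rw [hab]
      ring
    exact Eq.trans h1 (Eq.trans h3 h2.symm)
  refine ⟨c, ?_⟩
  rw [← hx₁, hφ, Ext.mk₀_add, Ext.comp_add, Ext.mk₀_smul, Ext.comp_smul, Ext.comp_mk₀_id,
    ← Ext.mk₀_comp_mk₀, ← Ext.comp_assoc_of_second_deg_zero,
    ShortComplex.ShortExact.extClass_comp, Ext.zero_comp, add_zero]

lemma v_ne : (SS_shortExact k).extClass ≠ 0 := by
  intro hv
  obtain ⟨x₂, hx₂⟩ := Ext.contravariant_sequence_exact₁ (SS_shortExact k) (SS k).X₁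
    (Ext.mk₀ (𝟙 _)) (n₁ := 1) rfl (by rw [hv, Ext.zero_comp])
  obtain ⟨ρ, rfl⟩ := (Ext.mk₀_bijective _ _).2 x₂
  rw [Ext.mk₀_comp_mk₀] at hx₂
  have h1 : (SS k).f ≫ ρ = 𝟙 _ := (Ext.mk₀_bijective _ _).1 hx₂
  let ρl : A k →ₗ[A k] (A k ⧸ Ideal.span {xb k}) := ρ.hom
  obtain ⟨n, hn⟩ := Submodule.Quotient.mk_surjective _ (ρl 1)
  have h2 := congrArg (fun φ => φ.hom (Submodule.Quotient.mk 1 : A k ⧸ Ideal.span {xb k})) h1
  have h3 : ρl (yb k * 1) = (Submodule.Quotient.mk 1 : A k ⧸ Ideal.span {xb k}) := h2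
  have h4 : ρl (yb k * 1) = Submodule.Quotient.mk (yb k * n) := by
    have : yb k * 1 = yb k • (1 : A k) := rfl
    rw [this, map_smul, ← hn, ← Submodule.Quotient.mk_smul, smul_eq_mul]
  rw [h4, Submodule.Quotient.eq, Ideal.mem_span_singleton'] at h3
  obtain ⟨b', hb'⟩ := h3
  have h5 := congrArg (aug k) hb'
  rw [map_mul, map_sub, map_mul, aug_xb, aug_yb, map_one] at h5
  simp at h5

end ext

/-- Let k be a field and A = k[[x,y]]/(xy) the complete local ring of a node, with branch rings A/(y)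
and A/(x) viewed as A-modules. Then the first Ext group Ext¹_A(A/(y), A/(x)) has dimension one over
k. (The published statement is for the local ring at a node of a reduced curve over an algebraically
closed field of characteristic zero, a node being a point whose complete local ring is A; this row
states the case of the complete local ring A itself, over an arbitrary field.) -/
theorem result (k : Type u) [Field k] : Module.finrank k (Abelian.Ext (ModuleCat.of (MvPowerSeries (Fin 2) k ⧸ Ideal.span {(MvPowerSeries.X (0 : Fin 2) : MvPowerSeries (Fin 2) k) * MvPowerSeries.X (1 : Fin 2)}) ((MvPowerSeries (Fin 2) k ⧸ Ideal.span {(MvPowerSeries.X (0 : Fin 2) : MvPowerSeries (Fin 2) k) * MvPowerSeries.X (1 : Fin 2)}) ⧸ Ideal.span {Ideal.Quotient.mk (Ideal.span {(MvPowerSeries.X (0 : Fin 2) : MvPowerSeries (Fin 2) k) * MvPowerSeries.X (1 : Fin 2)}) (MvPowerSeries.X (1 : Fin 2))})) (ModuleCat.of (MvPowerSeries (Fin 2) k ⧸ Ideal.span {(MvPowerSeries.X (0 : Fin 2) : MvPowerSeries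 (Fin 2) k) * MvPowerSeries.X (1 : Fin 2)}) ((MvPowerSeries (Fin 2) k ⧸ Ideal.span {(MvPowerSeries.X (0 : Fin 2) : MvPowerSeries (Fin 2) k) * MvPowerSeries.X (1 : Fin 2)}) ⧸ Ideal.span {Ideal.Quotient.mk (Ideal.span {(MvPowerSeries.X (0 : Fin 2) : MvPowerSeries (Fin 2) k) * MvPowerSeries.X (1 : Fin 2)}) (MvPowerSeries.X (0 : Fin 2))})) 1) = 1 := by
  rw [finrank_eq_one_iff']
  exact ⟨(SS_shortExact k).extClass, v_ne k, span_v k⟩

end Groth.Agent.S13993
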