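import Groth.Statements.S13995
import Mathlib

set_option autoImplicit false
universe u
open CAlg

namespace Groth.Agent.S13995
set_option linter.style.haveILetI false

lemma injective_of_field {F V W : Type*} [Field F] [AddCommGroup V] [Module F V] [AddCommGroup W]
    [Module F W] [Nontrivial W] (h1 : Module.finrank F V = 1) (g : V →ₗ[F] W)
    (hg : Function.Surjective g) : Function.Injective g := by
  obtain ⟨v, hv, hspan⟩ := finrank_eq_one_iff'.1 h1
  have hgv : g v ≠ 0 := by
    intro h
    obtain ⟨w, hw⟩ := exists_ne (0 : W)
    obtain ⟨x, rfl⟩ := hg w
    obtain ⟨c, rfl⟩ := hspan x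
    exact hw (by rw [map_smul, h, smul_zero])
  rw [injective_iff_map_eq_zero]
  intro x hx
  obtain ⟨c, rfl⟩ := hspan x
  rw [map_smul, smul_eq_zero] at hx
  rcases hx with hc | hc
  · rw [hc, zero_smul]
  · exact absurd hc hgv


/-- Let R be a reduced Noetherian ring, M a finitely generated R-module all of whose associated primes
are minimal primes of R and whose localization at each minimal prime p is one-dimensional over the
field R_p, and let g : M → Q be a surjection onto a finitely generated R-module Q all of whose
associated primes are minimal primes of R. Then the kernel of g is the intersection, over the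
minimal primes p of R lying in the support of Q, of the kernels of the localization maps M → M_p.
(The published statement is for a torsion-free coherent sheaf F of uniform rank one on a reduced
connected projective curve over a characteristic-zero algebraically closed field: its non-zero
torsion-free quotients are exactly the maximal torsion-free quotients F_D of the restrictions of F
to subcurves D; this row is the corresponding statement for modules over a reduced Noetherian ring,
a subcurve being a set of minimal primes, and identifies each torsion-free quotient with F_D for D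
the set of generic points of its support.) -/
theorem result (R : Type u) [CommRing R] [IsNoetherianRing R] [IsReduced R] (M : Type u) [AddCommGroup M] [Module R M] [Module.Finite R M] (hM : associatedPrimes R M ⊆ minimalPrimes R) (hrk : ∀ p : PrimeSpectrum R, p.asIdeal ∈ minimalPrimes R → Module.finrank (Localization.AtPrime p.asIdeal) (LocalizedModule p.asIdeal.primeCompl M) = 1) (Q : Type u) [AddCommGroup Q] [Module R Q] [Module.Finite R Q] (hQ : associatedPrimes R Q ⊆ minimalPrimes R) (g : M →ₗ[R] Q) (hg : Function.Surjective g) : LinearMap.ker g = ⨅ p ∈ {p : PrimeSpectrum R | p.asIdeal ∈ minimalPrimes R ∧ p ∈ Module.support R Q}, LinearMap.ker (LocalizedModule.mkLinearMap p.asIdeal.primeCompl M) := by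
  apply le_antisymm
  · intro x hx
    simp only [Submodule.mem_iInf]
    rintro p ⟨hpmin, hpsupp⟩
    rw [LinearMap.mem_ker] at hx ⊢
    haveI := p.2
    haveI : Ring.KrullDimLE 0 (Localization.AtPrime p.asIdeal) := .of_isLocalization _ hpmin _
    letI : Field (Localization.AtPrime p.asIdeal) := Ring.KrullDimLE.isField_of_isReduced.toField
    haveI : Nontrivial (LocalizedModule p.asIdeal.primeCompl Q) :=
      Module.mem_support_iff.1 hpsupp
    let gp := LocalizedModule.map p.asIdeal.primeCompl g
    have hgp : Function.Surjective gp := LocalizedModule.map_surjective _ _ hg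
    have hinj := injective_of_field (hrk p hpmin) gp hgp
    apply hinj
    rw [map_zero]
    simp only [gp, LocalizedModule.mkLinearMap_apply, LocalizedModule.map_mk, hx]
    exact LocalizedModule.zero_mk _
  · intro x hx
    simp only [Submodule.mem_iInf] at hx
    rw [LinearMap.mem_ker]
    by_contra hne
    obtain ⟨P, hP, hle⟩ := exists_le_isAssociatedPrime_of_isNoetherianRing R (g x) hne
    have hPmin : P ∈ minimalPrimes R := hQ hP
    haveI := hP.isPrime
    have hPsupp : (⟨P, hP.isPrime⟩ : PrimeSpectrum R) ∈ Module.support R Q := by
      obtain ⟨y, hy⟩ := (isAssociatedPrime_iff.1 hP).2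
      rw [Module.mem_support_iff_exists_annihilator]
      refine ⟨y, ?_⟩
      intro r hr
      show r ∈ P
      have h1 : r ∈ (⊥ : Submodule R Q).colon {y} := by
        rw [Submodule.mem_colon_singleton]
        simpa using Module.mem_annihilator.1 hr ⟨y, Submodule.mem_span_singleton_self y⟩
      rw [hy]; exact h1
    have h0 := hx ⟨P, hP.isPrime⟩ ⟨hPmin, hPsupp⟩
    rw [LinearMap.mem_ker, LocalizedModule.mkLinearMap_apply, ← LocalizedModule.zero_mk 1,
      LocalizedModule.mk_eq] at h0
    obtain ⟨s, hs⟩ := h0
    have hs' : (s : R) • x = 0 := by simpa [Submonoid.smul_def] using hs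
    have : (s : R) ∈ (⊥ : Submodule R Q).colon {g x} := by
      rw [Submodule.mem_colon_singleton, ← map_smul, hs', map_zero]
      exact Submodule.zero_mem _
    exact s.2 (hle this)

end Groth.Agent.S13995
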