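import Groth.Statements.S13996
import Mathlib

set_option autoImplicit false
universe u
open CAlg

namespace Groth.Agent.S13996

/-- Let R be a reduced Noetherian local ring of Krull dimension one with maximal ideal m, and M a
non-zero finitely generated R-module. Then M is torsion-free in the sense that no element of m which
is a non-zero-divisor on R is a zero-divisor on M, if and only if M has depth one, i.e. some element
of m is a non-zero-divisor on M. (The published statement is for a non-zero coherent sheaf F on a
connected reduced projective curve over a characteristic-zero algebraically closed field and asserts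
the equivalence of: F torsion-free in the above sense at every closed point; F pure of dimension
one; depth of F_p equal to one at every closed point p. This row is the equivalence of the first and
third conditions at a single closed point p with F_p ≠ 0; at points outside the support the third
condition as published cannot hold, so the row assumes the stalk non-zero.) -/
theorem result (R : Type u) [CommRing R] [IsLocalRing R] [IsNoetherianRing R] [IsReduced R] (hdim : ringKrullDim R = 1) (M : Type u) [AddCommGroup M] [Module R M] [Module.Finite R M] [Nontrivial M] : (∀ r : R, r ∈ IsLocalRing.maximalIdeal R → IsSMulRegular R r → IsSMulRegular M r) ↔ (∃ x : R, x ∈ IsLocalRing.maximalIdeal R ∧ IsSMulRegular M x) := by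
  have hmh : (IsLocalRing.maximalIdeal R).height = 1 := by
    have h := IsLocalRing.maximalIdeal_height_eq_ringKrullDim (R := R)
    rw [hdim] at h
    exact_mod_cast h
  have hprime : ∀ p : Ideal R, p.IsPrime → p ≠ IsLocalRing.maximalIdeal R →
      p ∈ minimalPrimes R := by
    intro p hp hne
    have hlt : p < IsLocalRing.maximalIdeal R :=
      lt_of_le_of_ne (IsLocalRing.le_maximalIdeal hp.ne_top) hne
    have h1 := Ideal.height_strict_mono_of_isPrime_of_isPrime hlt
    rw [hmh] at h1
    have h0 : p.height = 0 := Order.lt_one_iff.mp h1
    exact Ideal.height_eq_zero_iff.mp h0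
  constructor
  · intro h
    have hfin := minimalPrimes.finite_of_isNoetherianRing R
    have hnot : ¬ ((IsLocalRing.maximalIdeal R : Set R) ⊆ ⋃ p ∈ minimalPrimes R, (p : Set R)) := by
      intro hsub
      obtain ⟨p, hp, hle⟩ := (Ideal.subset_union_prime_finite hfin ⊥ ⊥
        (fun p hp _ _ => hp.1.1)).mp hsub
      have hpm : IsLocalRing.maximalIdeal R = p :=
        (IsLocalRing.maximalIdeal.isMaximal R).eq_of_le hp.1.1.ne_top hle
      have h0 : (IsLocalRing.maximalIdeal R).height = 0 :=
        Ideal.height_eq_zero_iff.mpr (hpm ▸ hp)
      rw [hmh] at h0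
      exact one_ne_zero h0
    obtain ⟨r, hrm, hr⟩ := Set.not_subset.mp hnot
    have hrreg : IsSMulRegular R r := by
      rw [isSMulRegular_iff_right_eq_zero_of_smul]
      intro s hs
      have hsn : s ∈ nilradical R := by
        rw [nilradical_eq_sInf, Ideal.mem_sInf]
        intro J hJ
        have hJp : J.IsPrime := hJ
        obtain ⟨p, hp, hpJ⟩ := Ideal.exists_minimalPrimes_le (bot_le : (⊥ : Ideal R) ≤ J)
        have hmem : r * s ∈ p := by
          rw [← smul_eq_mul, hs]
          exact zero_mem _
        rcases hp.1.1.mem_or_mem hmem with h1 | h1
        · exact absurd (Set.mem_biUnion hp h1) hr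
        · exact hpJ h1
      rw [nilradical_eq_zero R] at hsn
      exact hsn
    exact ⟨r, hrm, h r hrm hrreg⟩
  · rintro ⟨x, hxm, hxreg⟩ r hrm hrreg
    by_contra hnr
    have hr1 : r ∈ ({ r : R | IsSMulRegular M r }ᶜ : Set R) := hnr
    rw [← biUnion_associatedPrimes_eq_compl_regular] at hr1
    obtain ⟨p, hp, hrp⟩ := Set.mem_iUnion₂.mp hr1
    have hpprime : p.IsPrime := hp.isPrime
    have hxp : x ∉ p := by
      intro hxp
      have hx1 : x ∈ ({ r : R | IsSMulRegular M r }ᶜ : Set R) := by
        rw [← biUnion_associatedPrimes_eq_compl_regular]
        exact Set.mem_biUnion hp hxp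
      exact hx1 hxreg
    have hpne : p ≠ IsLocalRing.maximalIdeal R := fun h => hxp (h ▸ hxm)
    have hpmin := hprime p hpprime hpne
    have hdisj := Ideal.disjoint_nonZeroDivisors_of_mem_minimalPrimes hpmin
    have hrnzd : r ∈ nonZeroDivisors R := by
      rw [mem_nonZeroDivisors_iff_right]
      intro s hs
      exact hrreg.right_eq_zero_of_smul (by rw [smul_eq_mul, mul_comm]; exact hs)
    exact Set.disjoint_left.mp hdisj hrp hrnzd

end Groth.Agent.S13996
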