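import Groth.Statements.S13997
import Groth.Agent.S1309
import Mathlib.RingTheory.Noetherian.Nilpotent
import Mathlib.AlgebraicGeometry.Morphisms.Finite

set_option autoImplicit false
universe u
open FlatMor

namespace Groth.Agent.S13997

open Groth.Agent.Lib.ThickeningBC

lemma finiteType_of_surjective_of_fg_nilpotent_ker {R S T : Type*} [CommRing R] [CommRing S]
    [CommRing T] [Algebra R S] [Algebra R T] (ψ : S →ₐ[R] T) (hψ : Function.Surjective ψ)
    (hfg : (RingHom.ker ψ).FG) (hnil : IsNilpotent (RingHom.ker ψ))
    [Algebra.FiniteType R T] : Algebra.FiniteType R S := by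
  classical
  obtain ⟨k, hk⟩ := hfg
  let A : Subalgebra R S := Algebra.adjoin R (k : Set S)
  have hAft : Algebra.FiniteType R A := by
    have : (Algebra.adjoin R (k : Set S)).FG := ⟨k, rfl⟩
    exact (Subalgebra.fg_iff_finiteType _).mp this
  let gen : Set A := {a : A | (a : S) ∈ (k : Set S)}
  let I : Ideal A := Ideal.span gen
  have hgen : (algebraMap A S) '' gen = (k : Set S) := by
    ext x
    constructor
    · rintro ⟨a, ha, rfl⟩
      exact ha
    · intro hx
      exact ⟨⟨x, Algebra.subset_adjoin hx⟩, hx, rfl⟩
  have hImap : I.map (algebraMap A S) = RingHom.ker ψ := by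
    rw [Ideal.map_span, hgen, hk]
  have hgenfin : gen.Finite := by
    have : gen ⊆ (Subtype.val ⁻¹' (k : Set S)) := fun a ha => ha
    exact Set.Finite.subset (Set.Finite.preimage (Subtype.val_injective.injOn) k.finite_toSet) this
  have hIfg : I.FG := ⟨hgenfin.toFinset, by simp [I]⟩
  have hInil : IsNilpotent I := by
    rw [Ideal.FG.isNilpotent_iff_le_nilradical hIfg]
    refine Ideal.span_le.mpr ?_
    intro a ha
    have h1 : (a : S) ∈ RingHom.ker ψ := by rw [← hk]; exact Ideal.subset_span ha
    obtain ⟨n, hn⟩ := hnil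
    have h2 : (a : S) ^ n = 0 := by
      have := Ideal.pow_mem_pow h1 n
      rw [hn] at this
      simpa using this
    refine ⟨n, ?_⟩
    apply Subtype.val_injective
    simpa using h2
  letI algAT : Algebra A T := (ψ.toRingHom.comp (algebraMap A S)).toAlgebra
  have tower : IsScalarTower R A T := IsScalarTower.of_algebraMap_eq (fun r => by
    show algebraMap R T r = ψ (algebraMap A S (algebraMap R A r))
    rw [← IsScalarTower.algebraMap_apply R A S, AlgHom.commutes])
  have hftAT : Algebra.FiniteType A T := Algebra.FiniteType.of_restrictScalars_finiteType R A T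
  let ψA : S →ₐ[A] T := ⟨ψ.toRingHom, fun a => rfl⟩
  have hS : Algebra.FiniteType A S :=
    Groth.Agent.S1309.finiteType_of_surjective_of_nilpotent ψA hψ I hInil (by
      rw [hImap]; exact le_rfl)
  exact Algebra.FiniteType.trans hAft hS

/-- Ring hom form. -/
lemma finiteType_of_comp_surjective {R S T : Type u} [CommRing R] [CommRing S] [CommRing T]
    (α : R →+* S) (ψ : S →+* T) (hψ : Function.Surjective ψ)
    (hfg : (RingHom.ker ψ).FG) (hnil : IsNilpotent (RingHom.ker ψ))
    (h : (ψ.comp α).FiniteType) : α.FiniteType := by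
  letI := α.toAlgebra
  letI := (ψ.comp α).toAlgebra
  let ψ' : S →ₐ[R] T := ⟨ψ, fun _ => rfl⟩
  have : Algebra.FiniteType R T := h
  exact finiteType_of_surjective_of_fg_nilpotent_ker ψ' hψ hfg hnil

open AlgebraicGeometry CategoryTheory in
/-- If `i ≫ F` is locally of finite type and `i` is a closed immersion whose kernel is finitely
generated and nilpotent on affine opens, then `F` is locally of finite type. -/
lemma locallyOfFiniteType_of_comp_thickening {X Y Y₀ : Scheme.{u}} (F : Y ⟶ X) (i : Y₀ ⟶ Y)
    [IsClosedImmersion i]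
    (hinil : ∀ U : Y.affineOpens, IsNilpotent (i.ker.ideal U))
    (hfg : ∀ U : Y.affineOpens, (i.ker.ideal U).FG)
    (h : LocallyOfFiniteType (i ≫ F)) : LocallyOfFiniteType F := by
  rw [HasRingHomProperty.iff_appLE (P := @LocallyOfFiniteType)]
  intro V U e
  have hU : IsAffineOpen (i ⁻¹ᵁ U.1) := U.2.preimage i
  have e' : i ⁻¹ᵁ U.1 ≤ (i ≫ F) ⁻¹ᵁ V.1 := by
    intro y hy
    exact e hy
  have h1 := HasRingHomProperty.appLE @LocallyOfFiniteType (i ≫ F) h V ⟨_, hU⟩ e'
  have h2 : (i ≫ F).appLE V.1 (i ⁻¹ᵁ U.1) e' = F.appLE V.1 U.1 e ≫ i.app U.1 := by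
    rw [Scheme.Hom.app_eq_appLE, Scheme.Hom.appLE_comp_appLE]
  rw [h2, CommRingCat.hom_comp] at h1
  refine finiteType_of_comp_surjective _ (i.app U.1).hom (i.app_surjective _ U.2) ?_ ?_ h1
  · rw [← Scheme.Hom.ker_apply]; exact hfg U
  · rw [← Scheme.Hom.ker_apply]; exact hinil U

open AlgebraicGeometry CategoryTheory in
/-- Consider a commutative square of schemes F₀ ≫ j = i ≫ F in which i : Y₀ ⟶ Y and j : X₀ ⟶ X are
closed immersions surjective on points whose ideals are locally nilpotent (nilpotent on every affine
open), and suppose moreover that the ideal of i is of finite type (finitely generated on every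
affine open of Y). Then F : Y ⟶ X is locally of finite type if and only if F₀ : Y₀ ⟶ X₀ is. The
square is not assumed cartesian and the ideal of j need not be of finite type. (The published
statement also asserts the version for morphisms of finite type; that version follows from this one,
because quasi-compactness of a morphism transfers along closed immersions surjective on points, and
it is not restated here.) -/
theorem result {X X₀ Y Y₀ : Scheme.{u}}
    (F : Y ⟶ X) (F₀ : Y₀ ⟶ X₀) (i : Y₀ ⟶ Y) (j : X₀ ⟶ X)
    (hi : MoreMor.IsThickening i) (hj : MoreMor.IsThickening j)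
    (hinil : ∀ U : Y.affineOpens, IsNilpotent (i.ker.ideal U))
    (hjnil : ∀ U : X.affineOpens, IsNilpotent (j.ker.ideal U))
    (hfg : ∀ U : Y.affineOpens, (i.ker.ideal U).FG)
    (w : F₀ ≫ j = i ≫ F) :
    LocallyOfFiniteType F ↔ LocallyOfFiniteType F₀ := by
  have := hi.1
  have := hj.1
  constructor
  · intro hF
    have : LocallyOfFiniteType (F₀ ≫ j) := by rw [w]; infer_instance
    exact locallyOfFiniteType_of_comp F₀ j
  · intro hF₀
    have : LocallyOfFiniteType (i ≫ F) := by rw [← w]; infer_instance
    exact locallyOfFiniteType_of_comp_thickening F i hinil hfg this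

end Groth.Agent.S13997
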