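import Groth.Statements.S13998
import Groth.Agent.S1304
import Groth.Agent.S1309
import Groth.Agent.S1312
import Groth.Agent.S2306
import Mathlib.AlgebraicGeometry.ZariskisMainTheorem

set_option autoImplicit false
universe u
open FlatMor

namespace Groth.Agent.S13998

open AlgebraicGeometry CategoryTheory in
/-- Consider a cartesian square of schemes F₀ ≫ j = i ≫ F (so Y₀ = Y ×_X X₀) in which i : Y₀ ⟶ Y and j :
X₀ ⟶ X are closed immersions surjective on points whose ideals are locally nilpotent (nilpotent on
every affine open), and suppose moreover that the ideal of j is of finite type (finitely generated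
on every affine open of X). Then F : Y ⟶ X is finite if and only if F₀ : Y₀ ⟶ X₀ is finite. -/
theorem result {X X₀ Y Y₀ : Scheme.{u}}
    (F : Y ⟶ X) (F₀ : Y₀ ⟶ X₀) (i : Y₀ ⟶ Y) (j : X₀ ⟶ X)
    (hi : MoreMor.IsThickening i) (hj : MoreMor.IsThickening j)
    (hinil : ∀ U : Y.affineOpens, IsNilpotent (i.ker.ideal U))
    (hjnil : ∀ U : X.affineOpens, IsNilpotent (j.ker.ideal U))
    (hfg : ∀ U : X.affineOpens, (j.ker.ideal U).FG)
    (hc : IsPullback F₀ i j F) :
    IsFinite F ↔ IsFinite F₀ := by
  have := hi.1
  have := hi.2
  have := hj.1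
  constructor
  · intro hF
    exact MorphismProperty.of_isPullback hc.flip hF
  · intro hF₀
    have hsep : IsSeparated F :=
      (Groth.Agent.S2306.result F F₀ i j hc.w).mpr inferInstance
    have huc : UniversallyClosed F :=
      (Groth.Agent.S1304.result i j F₀ F hi hj hc.w.symm).mp inferInstance
    have hnil : ∀ V' : X.Opens, IsAffineOpen V' → IsNilpotent (RingHom.ker (j.app V').hom) := by
      intro V' hV'
      rw [← Scheme.Hom.ker_apply j ⟨V', hV'⟩]
      exact hjnil ⟨V', hV'⟩
    have hlft : LocallyOfFiniteType F :=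
      Groth.Agent.Lib.ThickeningBC.of_isPullback_of_forall_isNilpotent
        (P := @LocallyOfFiniteType)
        (fun h h1 h2 h3 h4 => Groth.Agent.S1309.finiteType_of_isPushout h h1 h2 h3 h4)
        hc.flip hnil inferInstance
    have hqf : LocallyQuasiFinite F :=
      (Groth.Agent.S1312.result i j F₀ F hj hc.flip).mp inferInstance
    have hproper : IsProper F := {}
    exact (IsFinite.iff_isProper_and_locallyQuasiFinite F).mpr ⟨hproper, hqf⟩

end Groth.Agent.S13998
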