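import Groth.Statements.S14000
import Groth.Agent.Lib.TFunAcyclic
import Groth.Agent.Lib.EulerDRank
import Groth.Agent.Lib.DRankBC
import Groth.Agent.Lib.TFunBC

set_option autoImplicit false
universe u
open Perf

namespace Groth.Agent.S14000

section Helpers
open CategoryTheory CategoryTheory.Limits CohIII TensorProduct Groth.Agent.Lib.TFun
  Groth.Agent.Lib.TFunCompare Groth.Agent.Lib.TFunAcyclic

variable {A : Type u} [CommRing A]

theorem dRank_eq_zero_of_localized_homology (P : CochainComplex (ModuleCat.{u} A) ℤ)
    (hP : ∀ i, Module.Flat A (P.X i)) (hb : ∃ b : ℤ, ∀ i, b < i → IsZero (P.X i))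
    (q : PrimeSpectrum A)
    (hq : ∀ i : ℤ, Subsingleton (LocalizedModule q.asIdeal.primeCompl (P.homology i))) (i : ℤ) :
    dRank P i q = 0 := by
  let B := Localization.AtPrime q.asIdeal
  let PB := bcCx (algebraMap A B) P
  have hPB : ∀ i, Module.Flat B (PB.X i) := Groth.Agent.Lib.TFunBC.flat_bcCx_X B P hP
  have hbB : ∃ b : ℤ, ∀ i, b < i → IsZero (PB.X i) := by
    obtain ⟨b, hb⟩ := hb
    exact ⟨b, fun i hi => Functor.map_isZero (ModuleCat.extendScalars _) (hb i hi)⟩
  have hac : ∀ p : ℤ, IsZero (PB.homology p) := by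
    intro p
    have := hq p
    let e1 := Groth.Agent.Lib.TFunFlatBC.homologyFBEquiv B P p
    let e2 := (IsLocalizedModule.isBaseChange q.asIdeal.primeCompl B
      (LocalizedModule.mkLinearMap q.asIdeal.primeCompl (P.homology p))).equiv
    have : Subsingleton (PB.homology p) := (e1.trans e2).toEquiv.subsingleton
    exact ModuleCat.isZero_of_subsingleton _
  have hz : ∀ M : ModuleCat.{u} B, IsZero ((TFun PB i).obj M) :=
    isZero_TFun_obj_of_acyclic_above PB hPB hbB (i - 1) (fun p _ => hac p) i (by omega)
  let y : PrimeSpectrum B := IsLocalRing.closedPoint B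
  have hy : PrimeSpectrum.comap (algebraMap A B) y = q :=
    PrimeSpectrum.ext (Localization.AtPrime.under_maximalIdeal (I := q.asIdeal))
  have h1 : dRank PB i y = 0 := by
    have e := homologyCompare y.asIdeal.ResidueField PB i
    have hz' := (hz (ModuleCat.of B y.asIdeal.ResidueField)).of_iso e
    have hs : Subsingleton ((RB (A := B) y.asIdeal.ResidueField).obj
        ((bcCx (algebraMap B y.asIdeal.ResidueField) PB).homology i)) :=
      ModuleCat.subsingleton_of_isZero hz'
    have hs' : Subsingleton ((bcCx (algebraMap B y.asIdeal.ResidueField) PB).homology i) := hs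
    unfold dRank
    exact Module.finrank_zero_of_subsingleton
  rw [← hy, ← Groth.Agent.Lib.DRankBC.dRank_bcCx P i y]
  exact h1

end Helpers


open CategoryTheory CategoryTheory.Limits in
/-- Let A be a commutative ring and P a strictly perfect complex over A, that is a cochain complex of
finitely generated projective A-modules which is zero outside a finite set s of degrees. Suppose the
cohomological support of P has positive codimension: for every minimal prime q of A and every degree
i the localization at q of the cohomology module H^i(P) is zero. Then the Euler characteristic of P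
vanishes identically: at every prime of A the alternating sum over i ∈ s of the ranks of the P^i is
zero. -/
theorem result {A : Type u} [CommRing A]
    (P : CochainComplex (ModuleCat.{u} A) ℤ) (s : Finset ℤ)
    (hP : ∀ i : ℤ, Module.Finite A (P.X i) ∧ Module.Projective A (P.X i))
    (hs : ∀ i : ℤ, i ∉ s → IsZero (P.X i))
    (hsupp : ∀ q : PrimeSpectrum A, q.asIdeal ∈ minimalPrimes A →
      ∀ i : ℤ, Subsingleton (LocalizedModule q.asIdeal.primeCompl (P.homology i))) :
    ∀ x : PrimeSpectrum A,
      (s.sum fun i => ((i.negOnePow : ℤˣ) : ℤ) * (Module.rankAtStalk (R := A) (P.X i) x : ℤ)) = 0 := by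
  intro x
  have hfl : ∀ i, Module.Flat A (P.X i) := fun i => by
    have := (hP i).2
    infer_instance
  have hbd : ∃ b : ℤ, ∀ i, b < i → IsZero (P.X i) := by
    obtain ⟨b, hb⟩ := Finset.exists_le s
    refine ⟨b, fun i hi => hs i (fun hmem => ?_)⟩
    have := hb i hmem
    omega
  obtain ⟨𝔮, h𝔮, hle⟩ := Ideal.exists_minimalPrimes_le (I := ⊥) (J := x.asIdeal) bot_le
  have h𝔮p : 𝔮.IsPrime := h𝔮.1.1
  let q : PrimeSpectrum A := ⟨𝔮, h𝔮p⟩
  have hEuler := (Groth.Agent.Lib.EulerDRank.euler_rankAtStalk P 1 (fun _ => rfl)
    Groth.Agent.Lib.EulerDRank.negOnePow_add_one hP s hs).1 q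
  have hzero : ∀ i, CohIII.dRank P i q = 0 :=
    dRank_eq_zero_of_localized_homology P hfl hbd q (hsupp q h𝔮)
  have hrank : ∀ i, Module.rankAtStalk (R := A) (P.X i) x = Module.rankAtStalk (R := A) (P.X i) q := by
    intro i
    have := (hP i).1
    have := hfl i
    exact (Module.rankAtStalk_eq_of_le_of_finite_of_flat (P.X i) (p := q) (q := x) hle).symm
  simp only [hrank]
  rw [← hEuler]
  simp [hzero]

end Groth.Agent.S14000
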