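import Groth.Statements.S14001
import Groth.Agent.Lib.K0KoszulPt35
import Groth.Agent.S15821

set_option autoImplicit false
universe u
open CategoryTheory
attribute [local instance] HasDerivedCategory.standard
open KZero

namespace Groth.Agent.S14001

/-- Let R be a Noetherian local ring whose maximal ideal is generated by an R-regular sequence f_1, …,
f_n. Let K_0 be the Grothendieck group of the full triangulated subcategory of D(R) consisting of
the perfect complexes all of whose cohomology modules are supported at the closed point (the perfect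
complexes acyclic off the closed point): the free abelian group on these objects modulo the
relations of distinguished triangles with all three vertices in the subcategory. Then K_0 is
generated by the class of the Koszul complex of f_1, …, f_n. -/
theorem result (R : Type u) [CommRing R]
    [IsNoetherianRing R] [IsLocalRing R] (fs : List R) (hreg : RingTheory.Sequence.IsRegular R fs)
    (hgen : Ideal.ofList fs = IsLocalRing.maximalIdeal R) :
    AddSubgroup.closure
        {KZero.clTr (fun K : Dual.D R => DRing.IsPerfect R K ∧
            ∀ i : ℤ, Module.support R (Dual.HD R K i) ⊆ {IsLocalRing.closedPoint R})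
          (DRing.toD (Koszul.koszul R fs))} = ⊤ := by
  have hw := hreg.toIsWeaklyRegular
  obtain ⟨hkos, ⟨e⟩⟩ := Groth.Agent.S15821.result R fs hw
  have hk' : DRing.IsPerfectModule R (R ⧸ Ideal.ofList fs) :=
    Groth.Agent.Lib.KoszulPerfect.isPerfectModule_of_isKoszulRegularSeq fs hkos
  have hk : DRing.IsPerfectModule R (R ⧸ IsLocalRing.maximalIdeal R) :=
    Groth.Agent.Lib.LCIPerfect.isPerfectModule_of_linearEquiv
      (Submodule.quotEquivOfEq _ _ hgen) hk'
  obtain ⟨e1⟩ := Groth.Agent.Lib.KoszulPerfect.nonempty_toD_iso_single (Koszul.koszul R fs) _ hkos e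
  have e0 : DRing.toD (Koszul.koszul R fs) ≅
      (DerivedCategory.singleFunctor (ModuleCat.{u} R) 0).obj
        (ModuleCat.of R (R ⧸ IsLocalRing.maximalIdeal R)) :=
    e1 ≪≫ (DerivedCategory.singleFunctor (ModuleCat.{u} R) 0).mapIso
      (Submodule.quotEquivOfEq _ _ hgen).toModuleIso
  have key : ∀ Q : ObjectProperty (Dual.D R),
      Q = Groth.Agent.Lib.H43K0Db.QD (Groth.Agent.Lib.K0KoszulPt35.FL R) →
      AddSubgroup.closure {KZero.clTr Q (DRing.toD (Koszul.koszul R fs))} = ⊤ := by
    rintro _ rfl
    refine Groth.Agent.Lib.K0KoszulPt35.closure_eq_top _ ?_ e0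
    have : IsSimpleModule R (R ⧸ IsLocalRing.maximalIdeal R) :=
      isSimpleModule_iff_quot_maximal.2
        ⟨IsLocalRing.maximalIdeal R, inferInstance, ⟨LinearEquiv.refl R _⟩⟩
    have hkFL : Groth.Agent.Lib.K0KoszulPt35.FL R
        (ModuleCat.of R (R ⧸ IsLocalRing.maximalIdeal R)) :=
      Groth.Agent.Lib.FiniteLengthSupport.isFiniteLength_of_isSimpleModule
    exact Groth.Agent.Lib.H43K0Db.QD_of_iso _ e0.symm
      (Groth.Agent.Lib.H43K0Db.single_mem _ hkFL 0)
  exact key _ (funext fun K => propext (Groth.Agent.Lib.K0KoszulPt35.prop_iff hk K))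

end Groth.Agent.S14001
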