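import Groth.Statements.S14005
import Mathlib.Topology.NoetherianSpace
import Mathlib.Topology.Sober
import Mathlib.AlgebraicGeometry.Properties
-- import your own Groth.Agent.* helpers here

set_option autoImplicit false
universe u
open CategoryTheory AlgebraicGeometry
open CohTop

namespace Groth.Agent.S14005

/-- In a Noetherian quasi-sober space, if the only point of the closed set `Z` specializing to `x`
is `x` itself, then `Z` is contained in the closure of `x` near `x`. -/
theorem exists_open_inter_subset_closure {α : Type*} [TopologicalSpace α]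
    [TopologicalSpace.NoetherianSpace α] [QuasiSober α] {Z : Set α} (hZ : IsClosed Z) (x : α)
    (h : ∀ η ∈ Z, η ⤳ x → η = x) :
    ∃ V : Set α, IsOpen V ∧ x ∈ V ∧ Z ∩ V ⊆ closure {x} := by
  obtain ⟨S, hSf, hSc, hSi, hSU⟩ :=
    TopologicalSpace.NoetherianSpace.exists_finite_set_isClosed_irreducible hZ
  refine ⟨(⋃ T ∈ {T ∈ S | x ∉ T}, T)ᶜ, ?_, ?_, ?_⟩
  · rw [isOpen_compl_iff]
    exact (hSf.subset (Set.sep_subset _ _)).isClosed_biUnion fun T hT => hSc T hT.1
  · simp only [Set.mem_compl_iff, Set.mem_iUnion, not_exists]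
    rintro T ⟨hT, hxT⟩ hx
    exact hxT hx
  · rintro u ⟨huZ, huV⟩
    rw [hSU] at huZ
    obtain ⟨T, hTS, huT⟩ := huZ
    have hxT : x ∈ T := by
      by_contra hxT
      apply huV
      simp only [Set.mem_iUnion]
      exact ⟨T, ⟨hTS, hxT⟩, huT⟩
    obtain ⟨η, hη⟩ := QuasiSober.sober (hSi T hTS) (hSc T hTS)
    have hηx : η ⤳ x := by
      rw [specializes_iff_mem_closure, hη.def]
      exact hxT
    have hηZ : η ∈ Z := by
      rw [hSU]
      exact ⟨T, hTS, hη.mem⟩
    have hηeq := h η hηZ hηx
    rw [← hηeq, hη.def]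
    exact huT

/-- Take a scheme X with a locally Noetherian underlying topological space, F a sheaf of abelian groups
on X, x a point of X and s an element of the stalk F_x. Then the following are equivalent: (i) s is
the germ of a section t over some open neighbourhood U of x whose support in U is contained in the
closure of {x} (that is, s belongs to the subgroup Γ_x(F) of F_x); (ii) for every generization y ≠ x
of x the image of s under the cospecialisation map F_x → F_y is zero (that is, viewed as a global
section of the inverse image of F on Spec O_{X,x}, s is supported at the closed point). -/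
theorem result {X : Scheme.{u}}
    (hX : ∀ x : X, ∃ U : X.Opens, x ∈ U ∧ TopologicalSpace.NoetherianSpace U)
    (F : TopCat.Sheaf AddCommGrpCat.{u} X.carrier) (x : X) (s : F.presheaf.stalk x) :
    (∃ (U : X.Opens) (hx : x ∈ U) (t : F.presheaf.obj (Opposite.op U)),
        F.presheaf.germ U x hx t = s ∧
          ∀ (u : X) (hu : u ∈ U), F.presheaf.germ U u hu t ≠ 0 → u ∈ closure ({x} : Set X)) ↔
      ∀ (y : X) (h : y ⤳ x), y ≠ x → F.presheaf.stalkSpecializes h s = 0 := by
  constructor
  · rintro ⟨U, hx, t, rfl, ht⟩ y h hne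
    have hy : y ∈ U := h.mem_open U.isOpen hx
    rw [TopCat.Presheaf.germ_stalkSpecializes_apply]
    by_contra hne0
    have hxy := ht y hy hne0
    rw [← specializes_iff_mem_closure] at hxy
    exact hne (h.antisymm hxy).eq
  · intro h
    obtain ⟨U₀, hxU₀, hN⟩ := hX x
    obtain ⟨U₁, hxU₁, t₁, ht₁⟩ := TopCat.Presheaf.exists_germ_eq F.presheaf s
    -- shrink to a Noetherian neighbourhood
    set U : X.Opens := U₀ ⊓ U₁ with hU
    have hxU : x ∈ U := ⟨hxU₀, hxU₁⟩
    haveI : TopologicalSpace.NoetherianSpace (U : Set X) := by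
      have hsub : (U : Set X) ⊆ U₀ := Set.inter_subset_left
      have : TopologicalSpace.NoetherianSpace (U₀ : Set X) := hN
      rw [TopologicalSpace.noetherianSpace_set_iff] at this ⊢
      intro t ht
      exact this t (ht.trans hsub)
    haveI : QuasiSober (U : Set X) := U.isOpenEmbedding.quasiSober
    let t : F.presheaf.obj (Opposite.op U) := F.presheaf.map (homOfLE inf_le_right).op t₁
    have ht : F.presheaf.germ U x hxU t = s := by
      rw [← ht₁]
      exact TopCat.Presheaf.germ_res_apply F.presheaf (homOfLE inf_le_right) x hxU t₁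
    -- the support of `t` in `U`
    let Z : Set (U : Set X) := {u | F.presheaf.germ U u.1 u.2 t ≠ 0}
    have hZ : IsClosed Z := by
      rw [← isOpen_compl_iff, isOpen_iff_forall_mem_open]
      intro u hu
      have hu0 : F.presheaf.germ U u.1 u.2 t = F.presheaf.germ U u.1 u.2 0 := by
        rw [map_zero]
        simpa [Z] using hu
      obtain ⟨W, huW, iU, iV, hW⟩ := TopCat.Presheaf.germ_eq F.presheaf u.1 u.2 u.2 t 0 hu0
      refine ⟨Subtype.val ⁻¹' (W : Set X), ?_, W.isOpen.preimage continuous_subtype_val, huW⟩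
      intro v hv
      simp only [Z, Set.mem_compl_iff, Set.mem_ofPred_eq, not_not]
      have hvW : v.1 ∈ W := hv
      rw [← TopCat.Presheaf.germ_res_apply F.presheaf iU v.1 hvW t, hW, map_zero, map_zero]
    obtain ⟨V, hVo, hxV, hZV⟩ := exists_open_inter_subset_closure hZ ⟨x, hxU⟩ (by
      intro η hηZ hηx
      by_contra hne
      have hηx' : η.1 ⤳ x := (subtype_specializes_iff _ _).mp hηx
      have hne' : η.1 ≠ x := fun e => hne (Subtype.ext e)
      have h0 := h η.1 hηx' hne'
      rw [← ht, TopCat.Presheaf.germ_stalkSpecializes_apply] at h0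
      exact hηZ h0)
    -- the smaller open neighbourhood
    have hVX : IsOpen (Subtype.val '' V : Set X) := U.isOpen.isOpenMap_subtype_val V hVo
    let U' : X.Opens := ⟨Subtype.val '' V, hVX⟩
    have hU'U : U' ≤ U := by
      rintro _ ⟨v, -, rfl⟩
      exact v.2
    have hxU' : x ∈ U' := ⟨⟨x, hxU⟩, hxV, rfl⟩
    refine ⟨U', hxU', F.presheaf.map (homOfLE hU'U).op t, ?_, ?_⟩
    · rw [TopCat.Presheaf.germ_res_apply F.presheaf (homOfLE hU'U) x hxU' t]
      exact ht
    · rintro u hu hne
      obtain ⟨v, hvV, rfl⟩ := hu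
      rw [TopCat.Presheaf.germ_res_apply F.presheaf (homOfLE hU'U) v.1 _ t] at hne
      have hvZ : v ∈ Z := hne
      have hcl := hZV ⟨hvZ, hvV⟩
      rw [← specializes_iff_mem_closure] at hcl ⊢
      exact (subtype_specializes_iff _ _).mp hcl

end Groth.Agent.S14005
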