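import Groth.Statements.S14018
import Groth.Agent.Lib.TowerSurj31
import Mathlib.CategoryTheory.Sites.LocallySurjective
import Mathlib.CategoryTheory.Sites.Limits

set_option autoImplicit false
open CategoryTheory CategoryTheory.Limits Opposite
universe w v u
open CohSite

namespace Groth.Agent.S14018

/-- Let (C, J) be a site with enough weakly contractible objects — every object V has a covering sieve
all of whose arrows factor through some weakly contractible object, an object U being weakly
contractible when every epimorphism of sheaves of sets (valued in a fixed universe) is surjective on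
sections over U. Then the topos of sheaves of sets is replete: if (F_n) is an inverse system of
sheaves of sets indexed by ℕ with every transition map F_(n+1) ⟶ F_n an epimorphism, then each
projection lim_n F_n ⟶ F_n is an epimorphism; the limit is taken as any limit cone. (The small
pro-étale site of a scheme is such a site.) -/
theorem result
    {C : Type u} [Category.{v} C] (J : GrothendieckTopology C)
    (hwc : ∀ V : C, ∃ S : Sieve V, S ∈ J V ∧ ∀ ⦃W : C⦄ (f : W ⟶ V), S.arrows f →
      ∃ (U : C) (g : W ⟶ U) (h : U ⟶ V), (∀ (A B : Sheaf J (Type w)) (ψ : A ⟶ B), Epi ψ → Function.Surjective (ψ.hom.app (op U))) ∧ g ≫ h = f)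
    (F : ℕᵒᵖ ⥤ Sheaf J (Type w))
    (hF : ∀ n : ℕ, Epi (F.map (homOfLE (Nat.le_succ n)).op))
    (c : Cone F) (hc : IsLimit c) (n : ℕ) :
    Epi (c.π.app (op n)) := by
  classical
  -- the projection is surjective on sections over weakly contractible objects
  have key : ∀ U : C, (∀ (A B : Sheaf J (Type w)) (ψ : A ⟶ B), Epi ψ →
      Function.Surjective (ψ.hom.app (op U))) →
      Function.Surjective ((c.π.app (op n)).hom.app (op U)) := by
    intro U hU
    let E : Sheaf J (Type w) ⥤ Type w :=
      sheafToPresheaf J (Type w) ⋙ (evaluation Cᵒᵖ (Type w)).obj (op U)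
    have hd : IsLimit (E.mapCone c) := isLimitOfPreserves E hc
    exact Groth.Agent.TowerSurj31.surjective_π_app (F ⋙ E) hd
      (fun m => hU _ _ _ (hF m)) n
  have : Sheaf.IsLocallySurjective (c.π.app (op n)) := by
    constructor
    intro V s
    obtain ⟨S, hS, hS'⟩ := hwc V
    refine J.superset_covering ?_ hS
    intro W f hf
    obtain ⟨U, g, h, hU, rfl⟩ := hS' f hf
    obtain ⟨t, ht⟩ := key U hU ((F.obj (op n)).obj.map h.op s)
    refine ⟨c.pt.obj.map g.op t, ?_⟩
    have nat := NatTrans.naturality_apply (c.π.app (op n)).hom g.op t
    refine nat.trans ?_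
    rw [ht, op_comp, Functor.map_comp]
    rfl
  infer_instance

end Groth.Agent.S14018
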