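import Groth.Statements.S1402
import Groth.Agent.Lib.IndQuasiAffine
import Mathlib.AlgebraicGeometry.ZariskisMainTheorem

set_option autoImplicit false
universe u
open FlatMor

namespace Groth.Agent.S1402

open AlgebraicGeometry CategoryTheory Limits in
/-- A separated, locally quasi-finite morphism is ind-quasi-affine. -/
theorem result {X Y : Scheme.{u}} (f : X ⟶ Y) [IsSeparated f] [LocallyQuasiFinite f] [LocallyOfFiniteType f] :
    MoreMor.IsIndQuasiAffineHom f := by
  intro V hV
  rw [Lib.IndQuasiAffine.isIndQuasiAffine_opens_iff]
  intro U hUV hU
  have : IsAffine (V : Scheme.{u}) := hV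
  have : CompactSpace (U : Scheme.{u}) := isCompact_iff_compactSpace.mp hU
  have hq : QuasiCompact (f.resLE V U hUV) := inferInstance
  have hs : IsSeparated (f.resLE V U hUV) := inferInstance
  have hlqf : LocallyQuasiFinite (f.resLE V U hUV) := inferInstance
  have hlft : LocallyOfFiniteType (f.resLE V U hUV) := inferInstance
  have hoi : IsOpenImmersion (f.resLE V U hUV).toNormalization := inferInstance
  have haff : IsAffineHom (f.resLE V U hUV).fromNormalization := inferInstance
  have : IsAffine (f.resLE V U hUV).normalization := isAffine_of_isAffineHom (f.resLE V U hUV).fromNormalization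
  exact Scheme.IsQuasiAffine.of_isImmersion (f.resLE V U hUV).toNormalization

end Groth.Agent.S1402
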