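import Groth.Statements.S14020
import Mathlib.Algebra.Module.Torsion.Basic
import Mathlib.RingTheory.Artinian.Module
import Mathlib.RingTheory.Finiteness.Ideal
import Mathlib.RingTheory.Ideal.Quotient.Basic

set_option autoImplicit false
universe u
open CAlg

namespace Groth.Agent.S14020

theorem isArtinian_quotient_pow (R : Type u) [CommRing R] (I : Ideal R) (hI : I.FG)
    [IsArtinianRing (R ⧸ I)] (n : ℕ) : IsArtinian R (R ⧸ I ^ n) := by
  induction n with
  | zero =>
    have : Subsingleton (R ⧸ I ^ 0) := by
      rw [pow_zero, Ideal.one_eq_top]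
      exact Ideal.Quotient.subsingleton_iff.mpr rfl
    infer_instance
  | succ n ih =>
    -- the graded piece `I^n / I • I^n` is a finite module over the artinian ring `R ⧸ I`
    let M₀ : Submodule R R := I ^ n
    have hfg : Module.Finite R M₀ := Module.Finite.iff_fg.mpr (Ideal.FG.pow hI)
    let M := M₀ ⧸ (I • (⊤ : Submodule R M₀))
    have hfin : Module.Finite (R ⧸ I) M :=
      Module.Finite.of_restrictScalars_finite R (R ⧸ I) M
    have hartI : IsArtinian (R ⧸ I) M := isArtinian_of_fg_of_artinian'
    have hart : IsArtinian R M :=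
      isArtinian_of_surjective_algebraMap (R := R ⧸ I) (S := R) Ideal.Quotient.mk_surjective
    have hle : I ^ (n + 1) ≤ I ^ n := Ideal.pow_le_pow_right (Nat.le_succ n)
    let g : (R ⧸ I ^ (n + 1)) →ₗ[R] (R ⧸ I ^ n) :=
      Submodule.mapQ (I ^ (n + 1)) (I ^ n) LinearMap.id hle
    let f₀ : M₀ →ₗ[R] (R ⧸ I ^ (n + 1)) := (Submodule.mkQ (I ^ (n + 1))).comp M₀.subtype
    have hf₀ : I • (⊤ : Submodule R M₀) ≤ LinearMap.ker f₀ := by
      rw [Submodule.smul_le]
      intro r hr x _
      rw [LinearMap.mem_ker]
      show Submodule.Quotient.mk ((r • x : M₀) : R) = 0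
      rw [Submodule.Quotient.mk_eq_zero]
      show r • (x : R) ∈ I ^ (n + 1)
      rw [smul_eq_mul, pow_succ']
      exact Ideal.mul_mem_mul hr x.2
    let f : M →ₗ[R] (R ⧸ I ^ (n + 1)) := Submodule.liftQ _ f₀ hf₀
    have hfg' : LinearMap.range f = LinearMap.ker g := by
      ext y
      obtain ⟨r, rfl⟩ := Submodule.Quotient.mk_surjective _ y
      constructor
      · rintro ⟨z, hz⟩
        obtain ⟨x, rfl⟩ := Submodule.Quotient.mk_surjective _ z
        rw [LinearMap.mem_ker, ← hz]
        show Submodule.Quotient.mk ((x : R)) = (0 : R ⧸ I ^ n)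
        rw [Submodule.Quotient.mk_eq_zero]
        exact x.2
      · intro hy
        rw [LinearMap.mem_ker] at hy
        have hr : r ∈ I ^ n := by
          have : Submodule.Quotient.mk r = (0 : R ⧸ I ^ n) := hy
          rwa [Submodule.Quotient.mk_eq_zero] at this
        exact ⟨Submodule.Quotient.mk ⟨r, hr⟩, rfl⟩
    exact isArtinian_of_range_eq_ker f g hfg'

/-- Let R be a commutative ring and I a finitely generated ideal such that the quotient ring R/I is
artinian. Then R/I^n is artinian for every n. -/
theorem result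
    (R : Type u) [CommRing R] (I : Ideal R) (hI : I.FG) [IsArtinianRing (R ⧸ I)] (n : ℕ) :
    IsArtinianRing (R ⧸ I ^ n) := by
  exact isArtinian_of_tower R (isArtinian_quotient_pow R I hI n)

end Groth.Agent.S14020
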