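import Groth.Statements.S14022
import Groth.Agent.S13611
import Groth.Agent.Lib.ModDenseOpen22
import Groth.Agent.Lib.ProEtAdicChar22
import Groth.Agent.Lib.ProEtModTransfer22b

set_option autoImplicit false
open CategoryTheory CategoryTheory.Limits AlgebraicGeometry Opposite
universe u
open EtModW

namespace Groth.Agent.S14022

/-- Let X be a Noetherian scheme, Λ a Noetherian commutative ring, I an ideal of Λ and F an I-adic
pro-étale sheaf of Λ-modules on X, given with its tower of quotient maps F ⟶ Q_n modulo I^(n+1)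
(each Q_n isomorphic to the pro-étale pullback of a constructible étale sheaf of Λ-modules, and F ⟶
lim_n Q_n an isomorphism). Then there is a dense open subscheme U of X on which F is lisse: for
every n the pullback of Q_n to the small pro-étale site of U is isomorphic to the pro-étale pullback
of a finite-type locally constant sheaf of Λ-modules on the small étale site of U. (Continuity of
the inclusions of étale into pro-étale sites and of the base-change functors between pro-étale sites
is carried as binders.) -/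
theorem result
    (Λ : Type (u + 1)) [CommRing Λ] [IsNoetherianRing Λ] (I : Ideal Λ)
    (X : Scheme.{u}) [IsNoetherian X] [∀ T : Scheme.{u}, ProEtS.EpsCont T]
    [∀ (T : Scheme.{u}) (g : T ⟶ X), ProEtS.PCont g]
    (F : EtModW.ModP Λ X) (Q : ℕᵒᵖ ⥤ EtModW.ModP Λ X) (p : (Functor.const ℕᵒᵖ).obj F ⟶ Q)
    (hQ : ∀ n : ℕ, ARSys.IsQuot (I ^ (n + 1)) (p.app (op n)))
    (hc : ∀ n : ℕ, ∃ E : EtModW.Mod Λ X, EtModW.IsConstructible Λ E ∧
      Nonempty ((EtModW.epsPullMod Λ X).obj E ≅ Q.obj (op n)))
    (hlim : IsIso (limit.lift Q (Cone.mk F p))) :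
    ∃ U : X.Opens, Dense (U : Set X) ∧
      ∀ n : ℕ, ∃ E : EtModW.Mod Λ (↑U), EtModW.IsFTLocConst Λ E ∧
          Nonempty ((EtModW.epsPullMod Λ (↑U)).obj E ≅ (((ProEtS.bcP U.ι).sheafPullback (ModuleCat.{u + 1} Λ) (Scheme.ProEt.topology X) (Scheme.ProEt.topology (↑U)))).obj (Q.obj (op n))) := by
  have hI : I.FG := IsNoetherian.noetherian I
  choose E hE a using hc
  have := hlim
  obtain ⟨G, hG, hGE, -⟩ := Groth.Agent.Lib.ProEtAdicChar22.exists_system_of_tower I hI F Q p hQ E
    (fun n => (a n).some)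
  obtain ⟨m, T, g, h1, -, h3, h4⟩ := Groth.Agent.S13611.result Λ I X G hG
    (fun n => (hGE n) ▸ hE n)
  obtain ⟨U, hU, hFT⟩ := Groth.Agent.Lib.ModThickening22.exists_dense_open_isFTLC T g h1 h3
    (fun n : ℕ => G.obj (op n)) h4
  refine ⟨U, hU, fun n => ⟨_, hFT n, ⟨?_⟩⟩⟩
  refine ((Groth.Agent.Lib.ProEtModTransfer22.pullEpsIso Λ U.ι).app (G.obj (op n))).symm ≪≫ ?_
  refine (Groth.Agent.Lib.ProEtModTransfer22.pullM Λ U.ι).mapIso ?_
  rw [hGE n]
  exact (a n).some

end Groth.Agent.S14022
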