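import Groth.Statements.S14028
import Groth.Agent.Lib.ProEtModTransfer22d

set_option autoImplicit false
open CategoryTheory CategoryTheory.Limits AlgebraicGeometry Opposite
universe u
open EtModW

namespace Groth.Agent.S14028

/-- Let X be a scheme, Λ a commutative ring, I an ideal of Λ and i : Z ⟶ X a closed immersion whose open
complement is retrocompact in X (its inclusion is quasi-compact). Assume that the étale direct image
along i sends constructible sheaves of Λ-modules on Z to constructible sheaves on X (a standard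
fact, carried here as a hypothesis). Let F be an I-adic pro-étale sheaf of Λ-modules on Z: F has a
compatible tower of quotient maps F ⟶ Q_n modulo I^(n+1), each Q_n isomorphic to the pro-étale
pullback of a constructible étale sheaf, and the canonical map F ⟶ lim_n Q_n is an isomorphism. Then
the direct image i_*F on the small pro-étale site of X is again an I-adic pro-étale sheaf.
(Continuity of the inclusions of étale into pro-étale sites and of the base-change functor along i
is carried as binders.) -/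
theorem result
    (Λ : Type (u + 1)) [CommRing Λ] (I : Ideal Λ)
    {Z X : Scheme.{u}} (i : Z ⟶ X) [IsClosedImmersion i]
    (hret : IsRetrocompact (Set.range (fun z => i.base z))ᶜ)
    [ProEtS.EpsCont Z] [ProEtS.EpsCont X] [ProEtS.PCont i]
    (hpush : ∀ E : EtModW.Mod Λ Z, EtModW.IsConstructible Λ E →
      EtModW.IsConstructible Λ ((EtModW.push Λ i).obj E))
    (F : EtModW.ModP Λ Z)
    (hF : (∃ (Q : ℕᵒᵖ ⥤ EtModW.ModP Λ Z) (p : (Functor.const ℕᵒᵖ).obj F ⟶ Q),
        (∀ n : ℕ, ARSys.IsQuot (I ^ (n + 1)) (p.app (op n))) ∧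
        (∀ n : ℕ, ∃ E : EtModW.Mod Λ Z, EtModW.IsConstructible Λ E ∧
          Nonempty ((EtModW.epsPullMod Λ Z).obj E ≅ Q.obj (op n))) ∧
        IsIso (limit.lift Q (Cone.mk F p)))) :
    (∃ (Q : ℕᵒᵖ ⥤ EtModW.ModP Λ X) (p : (Functor.const ℕᵒᵖ).obj (((ProEtS.bcP i).sheafPushforwardContinuous (ModuleCat.{u + 1} Λ) (Scheme.ProEt.topology X) (Scheme.ProEt.topology Z)).obj F) ⟶ Q),
      (∀ n : ℕ, ARSys.IsQuot (I ^ (n + 1)) (p.app (op n))) ∧
      (∀ n : ℕ, ∃ E : EtModW.Mod Λ X, EtModW.IsConstructible Λ E ∧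
        Nonempty ((EtModW.epsPullMod Λ X).obj E ≅ Q.obj (op n))) ∧
      IsIso (limit.lift Q (Cone.mk (((ProEtS.bcP i).sheafPushforwardContinuous (ModuleCat.{u + 1} Λ) (Scheme.ProEt.topology X) (Scheme.ProEt.topology Z)).obj F) p))) := by
  classical
  obtain ⟨Q, p, hp, hE, hiso⟩ := hF
  choose E hE1 hE2 using hE
  have hclosed : IsClosed (Set.range (fun z => i.base z)) := i.isClosedEmbedding.isClosed_range
  let U : X.Opens := ⟨(Set.range (fun z => i.base z))ᶜ, hclosed.isOpen_compl⟩
  let j : (U : Scheme.{u}) ⟶ X := U.ι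
  haveI : QuasiCompact j :=
    quasiCompact_iff_isSpectralMap.mpr (IsRetrocompact_iff_isSpectralMap_subtypeVal.mp hret)
  haveI : ProEtS.JPCont j := Groth.Agent.Lib.ProEtJPCont22.jpCont j
  have hc : (Set.range j)ᶜ = Set.range i := by
    have h1 : Set.range j = (Set.range (fun z => i.base z))ᶜ := Scheme.Opens.range_ι U
    rw [h1]
    exact compl_compl _
  let G := Groth.Agent.Lib.ProEtModTransfer22.pushM Λ i
  let c : Cone Q := Cone.mk F p
  haveI : IsIso (limit.lift Q c) := hiso
  haveI : PreservesLimitsOfShape ℕᵒᵖ G :=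
    ((Groth.Agent.Lib.ProEtModTransfer22.pullPushAdjM Λ i).rightAdjoint_preservesLimits).preservesLimitsOfShape
  refine ⟨Q ⋙ G, (G.mapCone c).π, fun n => ?_, fun n => ?_, ?_⟩
  · exact Groth.Agent.Lib.ProEtModTransfer22.isQuot_pushM_map Λ i j hc I (n + 1) (p.app (op n)) (hp n)
  · refine ⟨_, hpush (E n) (hE1 n), ⟨?_⟩⟩
    exact (Groth.Agent.Lib.ProEtModTransfer22.nonempty_epsPull_push_iso Λ i j hc (E n)).some ≪≫
      G.mapIso (hE2 n).some
  · exact Groth.Agent.Lib.ProEtExtZeroMod22.isIso_lift_mapCone G Q c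

end Groth.Agent.S14028
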