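import Groth.Statements.S1403
import Groth.Agent.Lib.H79FlatGenFibDimRing

set_option autoImplicit false
universe u
open FlatMor

namespace Groth.Agent.S1403

set_option linter.style.haveILetI false

open Groth.Agent.Lib.H79FlatGenFibDimRing Groth.Agent.Lib.H56LocDim

theorem exists_nat_of_add_eq (D : WithBot ℕ∞) (r n : ℕ)
    (h : D + (r : WithBot ℕ∞) = (n : WithBot ℕ∞)) : ∃ d : ℕ, D = (d : WithBot ℕ∞) ∧ d + r = n := by
  induction D using WithBot.recBotCoe with
  | bot => simp at h
  | coe a =>
    induction a using ENat.recTopCoe with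
    | top =>
      exfalso
      have : ((⊤ : ℕ∞) : WithBot ℕ∞) + ((r : ℕ∞) : WithBot ℕ∞) = ((n : ℕ∞) : WithBot ℕ∞) := h
      rw [← WithBot.coe_add, WithBot.coe_inj, top_add] at this
      exact ENat.top_ne_natCast n this
    | coe d =>
      refine ⟨d, rfl, ?_⟩
      have : (((d : ℕ∞)) : WithBot ℕ∞) + ((r : ℕ∞) : WithBot ℕ∞) = ((n : ℕ∞) : WithBot ℕ∞) := h
      rw [← WithBot.coe_add, WithBot.coe_inj] at this
      exact_mod_cast this


/-- Let A → B be an injective local homomorphism of local domains with B essentially of finite type and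
flat over A. Then dim(B / m_A B) + trdeg_{κ(A)} κ(B) = trdeg_A B; all three quantities are finite
here, and the statement gives them as natural numbers d, e with d + e the transcendence degree of B
over A. -/
theorem result {A B : Type u} [CommRing A] [CommRing B] [IsDomain A] [IsDomain B] [IsLocalRing A] [IsLocalRing B]
    [Algebra A B] [IsLocalHom (algebraMap A B)] [FaithfulSMul A B] [Algebra.EssFiniteType A B] [Module.Flat A B] :
    ∃ d e : ℕ, ringKrullDim (B ⧸ Ideal.map (algebraMap A B) (IsLocalRing.maximalIdeal A)) = d ∧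
      Algebra.trdeg (IsLocalRing.ResidueField A) (IsLocalRing.ResidueField B) = e ∧ Algebra.trdeg A B = (d + e : ℕ) := by
  classical
  let C := Algebra.EssFiniteType.subalgebra A B
  let M := Algebra.EssFiniteType.submonoid A B
  haveI hloc : IsLocalization M B := Algebra.EssFiniteType.isLocalization A B
  let q : Ideal C := (IsLocalRing.maximalIdeal B).comap (algebraMap C B)
  haveI hq : q.IsPrime := Ideal.comap_isPrime _ _
  have hM : M = q.primeCompl := by
    ext c
    change IsUnit (algebraMap C B c) ↔ ¬ (algebraMap C B c ∈ IsLocalRing.maximalIdeal B)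
    rw [IsLocalRing.mem_maximalIdeal, mem_nonunits_iff, not_not]
  haveI hlocq : IsLocalization.AtPrime B q := by
    change IsLocalization q.primeCompl B
    rw [← hM]; exact hloc
  let e : Localization.AtPrime q ≃ₐ[C] B := IsLocalization.algEquiv q.primeCompl _ _
  haveI : Module.Flat A (Localization.AtPrime q) :=
    Module.Flat.of_linearEquiv (e.restrictScalars A).toLinearEquiv
  haveI : FaithfulSMul A C := by
    rw [faithfulSMul_iff_algebraMap_injective]
    intro a b hab
    apply FaithfulSMul.algebraMap_injective A B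
    have := congrArg (algebraMap C B) hab
    simpa [← IsScalarTower.algebraMap_apply] using this
  obtain ⟨n, hn⟩ := Groth.Agent.Lib.GenericFibrePoint.exists_nat_trdeg_eq (R := A) (B := C)
  have h1 := fibLocDim_eq_trdeg_of_flat (A := A) (C := C) q n hn
  obtain ⟨r, hr⟩ := Groth.Agent.Lib.GenericFibrePoint.exists_nat_trdeg_quotient_eq (R := A) q
  have h2 := fibLocDim_eq_add (A := A) (C := C) q r hr
  rw [h1] at h2
  obtain ⟨d, hd, hdr⟩ := exists_nat_of_add_eq _ r n h2.symm
  have hqA : q.under A = IsLocalRing.maximalIdeal A := by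
    rw [Ideal.under_def]
    change ((IsLocalRing.maximalIdeal B).comap (algebraMap C B)).comap (algebraMap A C) = _
    rw [Ideal.comap_comap, ← IsScalarTower.algebraMap_eq]
    have hl : IsLocalHom (algebraMap A B) := inferInstance
    exact ((IsLocalRing.local_hom_TFAE (algebraMap A B)).out 0 4).1 hl
  refine ⟨d, r, ?_, ?_, ?_⟩
  · -- dimension of the closed fibre
    rw [← hd]
    have hJ : Ideal.map (algebraMap A B) (IsLocalRing.maximalIdeal A) =
        ((q.under A).map (algebraMap A (Localization.AtPrime q))).map
          (e.toRingEquiv : Localization.AtPrime q →+* B) := by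
      rw [Ideal.map_map, hqA]
      congr 1
      ext a
      exact (e.commutes (algebraMap A C a)).symm
    exact (ringKrullDim_eq_of_ringEquiv (Ideal.quotientEquiv
      ((q.under A).map (algebraMap A (Localization.AtPrime q)))
      (Ideal.map (algebraMap A B) (IsLocalRing.maximalIdeal A)) e.toRingEquiv hJ)).symm
  · -- residue field transcendence degree
    rw [← hr]
    haveI : Nontrivial (C ⧸ q) := Ideal.Quotient.nontrivial_iff.mpr hq.ne_top
    haveI : Nontrivial (A ⧸ q.under A) :=
      Ideal.Quotient.nontrivial_iff.mpr (inferInstance : (q.under A).IsPrime).ne_top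
    let f : A ⧸ q.under A →+* C ⧸ q := algebraMap (A ⧸ q.under A) (C ⧸ q)
    let g : A ⧸ q.under A →+* IsLocalRing.ResidueField A :=
      (Ideal.quotEquivOfEq hqA : A ⧸ q.under A ≃+* A ⧸ IsLocalRing.maximalIdeal A).toRingHom
    let h : IsLocalRing.ResidueField A →+* IsLocalRing.ResidueField B :=
      algebraMap (IsLocalRing.ResidueField A) (IsLocalRing.ResidueField B)
    let j : C ⧸ q →+* IsLocalRing.ResidueField B :=
      Ideal.quotientMap (IsLocalRing.maximalIdeal B) (algebraMap C B) le_rfl
    have key := trdeg_square (A₀ := A ⧸ q.under A) (B₀ := C ⧸ q) (K := IsLocalRing.ResidueField A)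
      (L := IsLocalRing.ResidueField B) f g h j ?_ ?_ ?_ ?_ ?_ ?_
    · convert key using 2
      · rfl
      · exact Algebra.algebra_ext _ _ (fun r => rfl)
      · exact Algebra.algebra_ext _ _ (fun r => rfl)
    · -- comm
      apply Ideal.Quotient.ringHom_ext
      ext a
      rfl
    · exact FaithfulSMul.algebraMap_injective _ _
    · exact (Ideal.quotEquivOfEq hqA).injective
    · exact Ideal.quotientMap_injective' le_rfl
    · intro x
      refine ⟨1, one_ne_zero, (Ideal.quotEquivOfEq hqA).symm x, ?_⟩
      rw [map_one, one_mul]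
      exact ((Ideal.quotEquivOfEq hqA).apply_symm_apply x).symm
    · intro y
      obtain ⟨b, rfl⟩ := Ideal.Quotient.mk_surjective y
      obtain ⟨⟨c, s⟩, hcs⟩ := IsLocalization.surj M b
      refine ⟨Ideal.Quotient.mk q s.1, ?_, Ideal.Quotient.mk q c, ?_⟩
      · rw [Ne, Ideal.Quotient.eq_zero_iff_mem]
        have hs : s.1 ∈ q.primeCompl := hM ▸ s.2
        exact hs
      · change Ideal.Quotient.mk (IsLocalRing.maximalIdeal B) (algebraMap C B s.1) *
          Ideal.Quotient.mk (IsLocalRing.maximalIdeal B) b =
          Ideal.Quotient.mk (IsLocalRing.maximalIdeal B) (algebraMap C B c)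
        rw [← map_mul, mul_comm]
        exact congrArg _ hcs
  · rw [hdr, ← hn]
    haveI : Algebra.IsAlgebraic C B := IsLocalization.isAlgebraic B M
    haveI : FaithfulSMul C B :=
      (faithfulSMul_iff_algebraMap_injective _ _).mpr Subtype.val_injective
    exact Groth.Agent.Lib.TrdegTransfer.trdeg_eq_of_isAlgebraic_square (A := A) (B := C) (K := A)
      (L := B)

end Groth.Agent.S1403
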