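import Groth.Statements.S14032
import Mathlib

set_option autoImplicit false
universe u v
open W4c1frobunstiva

namespace Groth.Agent.S14032

open TensorProduct

theorem one_tmul_eq_zero_iff {R : Type u} [CommRing R] {M : Type v} [AddCommGroup M] [Module R M]
    (I : Ideal R) (x : M) :
    (1 : R ⧸ I) ⊗ₜ[R] x = 0 ↔ x ∈ I • (⊤ : Submodule R M) := by
  rw [← (TensorProduct.quotTensorEquivQuotSMul M I).map_eq_zero_iff,
    TensorProduct.quotTensorEquivQuotSMul_mk_one_tmul, Submodule.Quotient.mk_eq_zero]

theorem sum_mk_smul_one_tmul {R : Type u} [CommRing R] {M : Type v} [AddCommGroup M] [Module R M]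
    (I : Ideal R) {r : ℕ} (a : Fin r → R) (m : Fin r → M) :
    ∑ i, (Ideal.Quotient.mk I (a i)) • ((1 : R ⧸ I) ⊗ₜ[R] m i) =
      (1 : R ⧸ I) ⊗ₜ[R] ∑ i, a i • m i := by
  rw [TensorProduct.tmul_sum]
  refine Finset.sum_congr rfl fun i _ => ?_
  rw [TensorProduct.smul_tmul', smul_eq_mul, mul_one, TensorProduct.tmul_smul,
    TensorProduct.smul_tmul']
  congr 1
  rw [Algebra.smul_def, mul_one]
  rfl

theorem exists_one_tmul_eq {R : Type u} [CommRing R] {M : Type v} [AddCommGroup M] [Module R M]
    (I : Ideal R) (z : (R ⧸ I) ⊗[R] M) : ∃ x : M, (1 : R ⧸ I) ⊗ₜ[R] x = z := by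
  obtain ⟨x, hx⟩ := Submodule.Quotient.mk_surjective _ (TensorProduct.quotTensorEquivQuotSMul M I z)
  refine ⟨x, ?_⟩
  apply (TensorProduct.quotTensorEquivQuotSMul M I).injective
  rw [TensorProduct.quotTensorEquivQuotSMul_mk_one_tmul, hx]

theorem eq_top_of_sup_smul_top_of_isNilpotent {R : Type u} [CommRing R] {M : Type v}
    [AddCommGroup M] [Module R M] (I : Ideal R) (hI : IsNilpotent I) (N : Submodule R M)
    (h : N ⊔ I • (⊤ : Submodule R M) = ⊤) : N = ⊤ := by
  have key : ∀ j : ℕ, N ⊔ (I ^ j) • (⊤ : Submodule R M) = ⊤ := by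
    intro j
    induction j with
    | zero => rw [pow_zero, Ideal.one_eq_top, Submodule.top_smul, sup_top_eq]
    | succ j ih =>
      have h1 : (I ^ j) • (⊤ : Submodule R M) ≤ N ⊔ (I ^ (j + 1)) • (⊤ : Submodule R M) := by
        calc (I ^ j) • (⊤ : Submodule R M) = (I ^ j) • (N ⊔ I • (⊤ : Submodule R M)) := by rw [h]
          _ = (I ^ j) • N ⊔ (I ^ j) • I • (⊤ : Submodule R M) := Submodule.smul_sup _ _ _
          _ ≤ N ⊔ (I ^ (j + 1)) • (⊤ : Submodule R M) := by
            refine sup_le_sup Submodule.smul_le_right ?_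
            rw [← Submodule.mul_smul, ← pow_succ]
      refine eq_top_iff.2 ?_
      calc (⊤ : Submodule R M) = N ⊔ (I ^ j) • (⊤ : Submodule R M) := ih.symm
        _ ≤ N ⊔ (I ^ (j + 1)) • (⊤ : Submodule R M) := sup_le le_sup_left h1
  obtain ⟨k, hk⟩ := hI
  have := key k
  rwa [hk, Ideal.zero_eq_bot, Submodule.bot_smul, sup_bot_eq] at this

open TensorProduct in
/-- Let R be a commutative Noetherian ring with nilradical n, M an R-module and r a natural number. Then
M is NR-free of rank r — generated by r elements such that every linear relation among them has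
nilpotent coefficients — if and only if (R/n) ⊗_R M is free of rank r over R/n, in the sense of
admitting a basis indexed by r elements. (The published statement assumes M finitely generated and
also gives the converse when R is local; over a Noetherian ring the nilradical is nilpotent, the
case used here, and finite generation is not needed.) -/
theorem result (R : Type u) [CommRing R]
    [IsNoetherianRing R] (M : Type v) [AddCommGroup M] [Module R M] (r : ℕ) :
    W4c1frobunstiva.IsNRFree R M r ↔
      Nonempty (Module.Basis (Fin r) (R ⧸ nilradical R) ((R ⧸ nilradical R) ⊗[R] M)) := by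
  set n := nilradical R with hn
  constructor
  · rintro ⟨m, hspan, hrel⟩
    let v : Fin r → (R ⧸ n) ⊗[R] M := fun i => (1 : R ⧸ n) ⊗ₜ[R] m i
    have hli : LinearIndependent (R ⧸ n) v := by
      rw [Fintype.linearIndependent_iff]
      intro g hg i
      have hgl : ∀ i, ∃ a : R, Ideal.Quotient.mk n a = g i := fun i =>
        Ideal.Quotient.mk_surjective (g i)
      choose a ha using hgl
      simp only [← ha] at hg ⊢
      rw [sum_mk_smul_one_tmul, one_tmul_eq_zero_iff, ← hspan,
        Submodule.mem_ideal_smul_span_iff_exists_sum] at hg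
      obtain ⟨d, hd, hsum⟩ := hg
      rw [Finsupp.sum_fintype d (fun i c => c • m i) (fun i => zero_smul R (m i))] at hsum
      have hzero : ∑ i, (a i - d i) • m i = 0 := by
        simp only [sub_smul, Finset.sum_sub_distrib, hsum, sub_self]
      have hnil := hrel _ hzero i
      rw [Ideal.Quotient.eq_zero_iff_mem]
      have : a i = (a i - d i) + d i := by ring
      rw [this]
      exact n.add_mem (mem_nilradical.2 hnil) (hd i)
    have hsp : ⊤ ≤ Submodule.span (R ⧸ n) (Set.range v) := by
      intro z _
      obtain ⟨x, rfl⟩ := exists_one_tmul_eq n z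
      have hx : x ∈ Submodule.span R (Set.range m) := by rw [hspan]; trivial
      obtain ⟨c, rfl⟩ := (Submodule.mem_span_range_iff_exists_fun R).1 hx
      rw [← sum_mk_smul_one_tmul]
      exact Submodule.sum_mem _ fun i _ => Submodule.smul_mem _ _ (Submodule.subset_span ⟨i, rfl⟩)
    exact ⟨Module.Basis.mk hli hsp⟩
  · rintro ⟨b⟩
    have hlift : ∀ i, ∃ x : M, (1 : R ⧸ n) ⊗ₜ[R] x = b i := fun i => exists_one_tmul_eq n (b i)
    choose m hm using hlift
    refine ⟨m, ?_, ?_⟩
    · apply eq_top_of_sup_smul_top_of_isNilpotent n (IsNoetherianRing.isNilpotent_nilradical R)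
      rw [eq_top_iff]
      intro x _
      have hx := b.sum_repr ((1 : R ⧸ n) ⊗ₜ[R] x)
      have hgl : ∀ i, ∃ a : R, Ideal.Quotient.mk n a = b.repr ((1 : R ⧸ n) ⊗ₜ[R] x) i := fun i =>
        Ideal.Quotient.mk_surjective _
      choose a ha using hgl
      simp only [← ha, ← hm] at hx
      rw [sum_mk_smul_one_tmul, ← sub_eq_zero, ← TensorProduct.tmul_sub, one_tmul_eq_zero_iff] at hx
      have : x = ∑ i, a i • m i - (∑ i, a i • m i - x) := by abel
      rw [this]
      refine Submodule.sub_mem _ (Submodule.mem_sup_left ?_) (Submodule.mem_sup_right hx)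
      exact Submodule.sum_mem _ fun i _ => Submodule.smul_mem _ _ (Submodule.subset_span ⟨i, rfl⟩)
    · intro a hsum i
      have h1 : ∑ i, (Ideal.Quotient.mk n (a i)) • b i = 0 := by
        simp only [← hm]
        rw [sum_mk_smul_one_tmul, hsum, TensorProduct.tmul_zero]
      have h2 := (Fintype.linearIndependent_iff.1 b.linearIndependent) _ h1 i
      rw [Ideal.Quotient.eq_zero_iff_mem] at h2
      exact mem_nilradical.1 h2

end Groth.Agent.S14032
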