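import Groth.Statements.S14033
import Groth.Agent.S14032

set_option autoImplicit false
universe u v
open W4c1frobunstiva

namespace Groth.Agent.S14033

section
open DualNumber Pointwise TrivSqZeroExt
variable {R : Type u} [CommRing R] {M : Type v}
  [AddCommGroup M] [Module R[ε] M] [Module R M] [IsScalarTower R R[ε] M]

theorem dn_smul (z : R[ε]) (x : M) :
    z • x = fst z • x + snd z • ((ε : R[ε]) • x) := by
  conv_lhs => rw [← inl_fst_add_inr_snd_eq z]
  rw [add_smul, inr_eq_smul_eps, smul_assoc,
    ← (congrFun (algebraMap_eq_inl (R' := R) (M := R)) (fst z)), algebraMap_smul]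

theorem eps_eps_smul (x : M) : (ε : R[ε]) • ((ε : R[ε]) • x) = 0 := by
  rw [← mul_smul, eps_mul_eps, zero_smul]

theorem smul_eps_smul (z : R[ε]) (x : M) :
    z • ((ε : R[ε]) • x) = fst z • ((ε : R[ε]) • x) := by
  rw [dn_smul z, eps_eps_smul, smul_zero, add_zero]

theorem eps_smul_smul (z : R[ε]) (x : M) :
    (ε : R[ε]) • (z • x) = fst z • ((ε : R[ε]) • x) := by
  rw [smul_comm, smul_eps_smul]

theorem mem_E_iff (y : M) : y ∈ (ε : R[ε]) • (⊤ : Submodule R[ε] M) ↔ ∃ x : M, (ε : R[ε]) • x = y := by
  rw [Submodule.mem_smul_pointwise_iff_exists]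
  simp

theorem ext_dn (z : R[ε]) (h1 : fst z = 0) (h2 : snd z = 0) : z = 0 :=
  TrivSqZeroExt.ext h1 h2

theorem inl_smul' (a : R) (x : M) : (inl a : R[ε]) • x = a • x := by
  rw [← (congrFun (algebraMap_eq_inl (R' := R) (M := R)) a), algebraMap_smul]

theorem mk_sum' (E : Submodule R[ε] M) {ι : Type*} (s : Finset ι) (f : ι → M) :
    (Submodule.Quotient.mk (∑ i ∈ s, f i) : M ⧸ E) = ∑ i ∈ s, Submodule.Quotient.mk (f i) :=
  map_sum E.mkQ f s

theorem eps_smul_mem (x : M) : (ε : R[ε]) • x ∈ (ε : R[ε]) • (⊤ : Submodule R[ε] M) :=
  (mem_E_iff _).2 ⟨x, rfl⟩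

end

open DualNumber Pointwise in
/-- Let R be a commutative ring, R[ε] its ring of dual numbers (ε² = 0), M an R[ε]-module and r a
natural number. Then M is free of rank r over R[ε] (admits a basis of r elements) if and only if the
R-modules M/εM and εM are both free of rank r. (The published statement concerns a coherent sheaf on
the product of a scheme S with Spec ℤ[ε] and local freeness of rank r; that assertion is local, and
this row is its form over one ring, with no finiteness assumption on M and no hypothesis on R.) -/
theorem result (R : Type u) [CommRing R] (M : Type v)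
    [AddCommGroup M] [Module R[ε] M] [Module R M] [IsScalarTower R R[ε] M] (r : ℕ) :
    Nonempty (Module.Basis (Fin r) R[ε] M) ↔
      (Nonempty (Module.Basis (Fin r) R (M ⧸ ((ε : R[ε]) • (⊤ : Submodule R[ε] M)))) ∧
        Nonempty (Module.Basis (Fin r) R (((ε : R[ε]) • (⊤ : Submodule R[ε] M)).restrictScalars R))) := by
  set E : Submodule R[ε] M := (ε : R[ε]) • (⊤ : Submodule R[ε] M) with hE
  constructor
  · rintro ⟨b⟩
    constructor
    · -- basis of `M ⧸ E`
      let v : Fin r → M ⧸ E := fun i => Submodule.Quotient.mk (b i)
      have hli : LinearIndependent R v := by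
        rw [Fintype.linearIndependent_iff]
        intro g hg i
        have h1 : (∑ j, g j • b j) ∈ E := by
          rw [← Submodule.Quotient.mk_eq_zero, mk_sum', ← hg]
          rfl
        rw [hE, mem_E_iff] at h1
        obtain ⟨x, hx⟩ := h1
        have h2 : b.repr ((ε : R[ε]) • x) i = b.repr (∑ j, (TrivSqZeroExt.inl (g j) : R[ε]) • b j) i := by
          rw [hx]; simp only [inl_smul']
        rw [map_smul, Module.Basis.repr_sum_self, Finsupp.smul_apply, smul_eq_mul] at h2
        have h3 := congrArg TrivSqZeroExt.fst h2
        rw [TrivSqZeroExt.fst_mul, fst_eps, zero_mul, TrivSqZeroExt.fst_inl] at h3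
        exact h3.symm
      have hsp : ⊤ ≤ Submodule.span R (Set.range v) := by
        intro y _
        obtain ⟨x, rfl⟩ := Submodule.Quotient.mk_surjective _ y
        rw [← b.sum_repr x, mk_sum']
        refine Submodule.sum_mem _ fun i _ => ?_
        rw [dn_smul, Submodule.Quotient.mk_add]
        have h0 : (Submodule.Quotient.mk (TrivSqZeroExt.snd (b.repr x i) • ((ε : R[ε]) • b i)) : M ⧸ E) = 0 := by
          rw [Submodule.Quotient.mk_eq_zero]
          exact Submodule.smul_of_tower_mem E _ (eps_smul_mem _)
        rw [h0, add_zero, Submodule.Quotient.mk_smul]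
        exact Submodule.smul_mem _ _ (Submodule.subset_span (Set.mem_range_self i))
      exact ⟨Module.Basis.mk hli hsp⟩
    · -- basis of `E`
      let w : Fin r → E.restrictScalars R := fun i => ⟨(ε : R[ε]) • b i, eps_smul_mem _⟩
      have hli : LinearIndependent R w := by
        rw [Fintype.linearIndependent_iff]
        intro g hg i
        have h1 : ∑ j, g j • ((ε : R[ε]) • b j) = 0 := by
          have := congrArg Subtype.val hg
          simpa [w] using this
        have h2 : b.repr (∑ j, (g j • (ε : R[ε])) • b j) i = 0 := by
          simp only [smul_assoc]; rw [h1, map_zero]; rfl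
        rw [Module.Basis.repr_sum_self] at h2
        have h3 := congrArg TrivSqZeroExt.snd h2
        rw [TrivSqZeroExt.snd_smul, snd_eps, smul_eq_mul, mul_one, TrivSqZeroExt.snd_zero] at h3
        exact h3
      have hsp : ⊤ ≤ Submodule.span R (Set.range w) := by
        rintro ⟨y, hy⟩ _
        have hy' : y ∈ E := hy
        rw [hE, mem_E_iff] at hy'
        obtain ⟨x, rfl⟩ := hy'
        have hsum : (⟨(ε : R[ε]) • x, hy⟩ : E.restrictScalars R) =
            ∑ i, TrivSqZeroExt.fst (b.repr x i) • w i := by
          apply Subtype.ext
          rw [Submodule.coe_sum]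
          simp only [Submodule.coe_smul, w]
          conv_lhs => rw [← b.sum_repr x, Finset.smul_sum]
          exact Finset.sum_congr rfl fun i _ => eps_smul_smul _ _
        rw [hsum]
        exact Submodule.sum_mem _ fun i _ =>
          Submodule.smul_mem _ _ (Submodule.subset_span (Set.mem_range_self i))
      exact ⟨Module.Basis.mk hli hsp⟩
  · rintro ⟨⟨ub⟩, ⟨wb⟩⟩
    have hlift : ∀ i, ∃ x : M, (Submodule.Quotient.mk x : M ⧸ E) = ub i := fun i =>
      Submodule.Quotient.mk_surjective _ (ub i)
    choose u hu using hlift
    -- the `u i` span `M` over `R[ε]`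
    have hspan : Submodule.span R[ε] (Set.range u) = ⊤ := by
      apply Groth.Agent.S14032.eq_top_of_sup_smul_top_of_isNilpotent (Ideal.span {(ε : R[ε])})
      · refine ⟨2, ?_⟩
        rw [Ideal.span_singleton_pow, sq, eps_mul_eps]
        simp
      · rw [Submodule.ideal_span_singleton_smul, eq_top_iff]
        intro x _
        have hx := ub.sum_repr (Submodule.Quotient.mk x)
        simp only [← hu] at hx
        have h1 : x - ∑ i, ub.repr (Submodule.Quotient.mk x) i • u i ∈ E := by
          rw [← Submodule.Quotient.mk_eq_zero, Submodule.Quotient.mk_sub,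
            mk_sum', sub_eq_zero]
          exact hx.symm
        have : x = ∑ i, ub.repr (Submodule.Quotient.mk x) i • u i +
            (x - ∑ i, ub.repr (Submodule.Quotient.mk x) i • u i) := by abel
        rw [this]
        refine Submodule.add_mem _ (Submodule.mem_sup_left ?_) (Submodule.mem_sup_right h1)
        refine Submodule.sum_mem _ fun i _ => ?_
        rw [← inl_smul']
        exact Submodule.smul_mem _ _ (Submodule.subset_span (Set.mem_range_self i))
    -- `ε • u i` are `R`-linearly independent in `E`
    let w : Fin r → E.restrictScalars R := fun i => ⟨(ε : R[ε]) • u i, eps_smul_mem _⟩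
    have hwli : LinearIndependent R w := by
      rcases subsingleton_or_nontrivial R with hR | hR
      · have : Subsingleton (Fin r →₀ R) := inferInstance
        exact Function.injective_of_subsingleton _
      · apply linearIndependent_of_top_le_span_of_card_eq_finrank
        · rintro ⟨y, hy⟩ _
          have hy' : y ∈ E := hy
          rw [hE, mem_E_iff] at hy'
          obtain ⟨x, rfl⟩ := hy'
          have hx : x ∈ Submodule.span R[ε] (Set.range u) := by rw [hspan]; trivial
          obtain ⟨c, rfl⟩ := (Submodule.mem_span_range_iff_exists_fun R[ε]).1 hx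
          have hsum : (⟨(ε : R[ε]) • ∑ i, c i • u i, hy⟩ : E.restrictScalars R) =
              ∑ i, TrivSqZeroExt.fst (c i) • w i := by
            apply Subtype.ext
            rw [Submodule.coe_sum]
            simp only [Submodule.coe_smul, w]
            rw [Finset.smul_sum]
            exact Finset.sum_congr rfl fun i _ => eps_smul_smul _ _
          rw [hsum]
          exact Submodule.sum_mem _ fun i _ =>
            Submodule.smul_mem _ _ (Submodule.subset_span (Set.mem_range_self i))
        · rw [Module.finrank_eq_card_basis wb]
    have hli : LinearIndependent R[ε] u := by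
      rw [Fintype.linearIndependent_iff]
      intro g hg i
      -- first components vanish
      have h1 : ∑ j, TrivSqZeroExt.fst (g j) • ub j = 0 := by
        have := congrArg (Submodule.Quotient.mk : M → M ⧸ E) hg
        rw [mk_sum', Submodule.Quotient.mk_zero] at this
        rw [← this]
        refine Finset.sum_congr rfl fun j _ => ?_
        rw [dn_smul, Submodule.Quotient.mk_add]
        have h0 : (Submodule.Quotient.mk (TrivSqZeroExt.snd (g j) • ((ε : R[ε]) • u j)) : M ⧸ E) = 0 := by
          rw [Submodule.Quotient.mk_eq_zero]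
          exact Submodule.smul_of_tower_mem E _ (eps_smul_mem _)
        rw [h0, add_zero, ← hu]
        rfl
      have hfst : ∀ j, TrivSqZeroExt.fst (g j) = 0 := Fintype.linearIndependent_iff.1 ub.linearIndependent _ h1
      -- second components vanish
      have h2 : ∑ j, TrivSqZeroExt.snd (g j) • w j = 0 := by
        apply Subtype.ext
        rw [Submodule.coe_sum]
        simp only [Submodule.coe_smul, w, Submodule.coe_zero]
        rw [← hg]
        refine Finset.sum_congr rfl fun j _ => ?_
        rw [dn_smul (g j), hfst j, zero_smul, zero_add]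
      have hsnd : ∀ j, TrivSqZeroExt.snd (g j) = 0 := Fintype.linearIndependent_iff.1 hwli _ h2
      exact ext_dn _ (hfst i) (hsnd i)
    exact ⟨Module.Basis.mk hli (le_of_eq hspan.symm)⟩

end Groth.Agent.S14033
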