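import Groth.Statements.S14035
import Mathlib

set_option autoImplicit false
universe u v
open W4c1frobunstiva

namespace Groth.Agent.S14035

open TensorProduct in
/-- Step A: if `B/N` is flat over `A` (`N` the nilradical) and the fibre over `p` is reduced, then
`κ(p) ⊗_A N = 0`. -/
theorem subsingleton_tensor_nilradical (A : Type u) (B : Type v)
    [CommRing A] [CommRing B] [Algebra A B]
    [Module.Flat A (B ⧸ nilradical B)] (p : PrimeSpectrum A)
    (hfib : IsReduced (p.asIdeal.ResidueField ⊗[A] B)) :
    Subsingleton (p.asIdeal.ResidueField ⊗[A] (nilradical B)) := by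
  let i : (nilradical B) →ₗ[A] B := (Submodule.subtype (nilradical B)).restrictScalars A
  let π : B →ₗ[A] B ⧸ nilradical B := (Ideal.Quotient.mkₐ A (nilradical B)).toLinearMap
  have hπ : Function.Surjective π := Ideal.Quotient.mk_surjective
  have hi : Function.Injective i := Subtype.val_injective
  have hex : Function.Exact i π := by
    intro b
    change Ideal.Quotient.mk _ b = 0 ↔ _
    rw [Ideal.Quotient.eq_zero_iff_mem]
    constructor
    · intro hb; exact ⟨⟨b, hb⟩, rfl⟩
    · rintro ⟨n, rfl⟩; exact n.2
  have hinj := LinearMap.lTensor_injective_of_exact_of_flat π hπ i hi hex p.asIdeal.ResidueField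
  have hnil : ∀ z : p.asIdeal.ResidueField ⊗[A] (nilradical B),
      IsNilpotent (i.lTensor p.asIdeal.ResidueField z) := by
    intro z
    induction z using TensorProduct.induction_on with
    | zero => rw [map_zero]; exact IsNilpotent.zero
    | add x y hx hy => rw [map_add]; exact Commute.isNilpotent_add (Commute.all _ _) hx hy
    | tmul c n =>
      rw [LinearMap.lTensor_tmul]
      obtain ⟨k, hk⟩ := (mem_nilradical.1 n.2 : IsNilpotent (n : B))
      refine ⟨k, ?_⟩
      change (c ⊗ₜ[A] (n : B)) ^ k = 0
      rw [Algebra.TensorProduct.tmul_pow, hk, TensorProduct.tmul_zero]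
  refine ⟨fun x y => hinj ?_⟩
  rw [(hnil x).eq_zero, (hnil y).eq_zero]

open TensorProduct in
/-- Let A → B be a ring homomorphism with B Noetherian. If B modulo its nilradical is flat over A and
every fibre ring κ(p) ⊗_A B, p a prime of A, is reduced, then B is reduced. (This is the affine form
of the statement for a morphism of schemes X → Y all of whose fibres are reduced and whose
restriction to the reduced closed subscheme X_red is flat. The published statement does not say X is
locally Noetherian, but its proof applies Nakayama's lemma to the nilradical as a finitely generated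
ideal; without it the square-zero extension of a discrete valuation ring A by Frac(A)/A is a
counterexample.) -/
theorem result (A : Type u) (B : Type v)
    [CommRing A] [CommRing B] [Algebra A B] [IsNoetherianRing B]
    [Module.Flat A (B ⧸ nilradical B)]
    (hfib : ∀ p : PrimeSpectrum A, IsReduced (p.asIdeal.ResidueField ⊗[A] B)) :
    IsReduced B := by
  rw [← nilradical_eq_bot_iff]
  by_contra hne
  have hnt : Nontrivial (nilradical B) := Submodule.nontrivial_iff_ne_bot.2 hne
  obtain ⟨q, hq⟩ := Module.nonempty_support_of_nontrivial (R := B) (M := nilradical B)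
  rw [Module.mem_support_iff_nontrivial_residueField_tensorProduct] at hq
  let p : PrimeSpectrum A := ⟨q.asIdeal.comap (algebraMap A B), inferInstance⟩
  have hsub := subsingleton_tensor_nilradical A B p (hfib p)
  let φ : p.asIdeal.ResidueField →ₐ[A] q.asIdeal.ResidueField :=
    Ideal.ResidueField.mapₐ p.asIdeal q.asIdeal (Algebra.ofId A B) rfl
  -- every pure tensor `1 ⊗ n` vanishes in `κ(q) ⊗_A N`
  have h1 : ∀ n : nilradical B, (1 : q.asIdeal.ResidueField) ⊗ₜ[A] n = 0 := by
    intro n
    have : (1 : p.asIdeal.ResidueField) ⊗ₜ[A] n = 0 := Subsingleton.elim _ _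
    have := congrArg (φ.toLinearMap.rTensor (nilradical B)) this
    rwa [LinearMap.rTensor_tmul, map_zero, AlgHom.toLinearMap_apply, map_one] at this
  have h2 : ∀ n : nilradical B, (1 : q.asIdeal.ResidueField) ⊗ₜ[B] n = 0 := by
    intro n
    have := congrArg (TensorProduct.mapOfCompatibleSMul B A A q.asIdeal.ResidueField
      (nilradical B)) (h1 n)
    rwa [TensorProduct.mapOfCompatibleSMul_tmul, map_zero] at this
  apply not_subsingleton (q.asIdeal.ResidueField ⊗[B] (nilradical B))
  refine ⟨fun x y => ?_⟩
  have h0 : ∀ z : q.asIdeal.ResidueField ⊗[B] (nilradical B), z = 0 := by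
    intro z
    induction z using TensorProduct.induction_on with
    | zero => rfl
    | add x y hx hy => rw [hx, hy, add_zero]
    | tmul c n =>
      have : c ⊗ₜ[B] n = c • ((1 : q.asIdeal.ResidueField) ⊗ₜ[B] n) := by
        rw [TensorProduct.smul_tmul', smul_eq_mul, mul_one]
      rw [this, h2, smul_zero]
  rw [h0 x, h0 y]

end Groth.Agent.S14035
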