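import Groth.Statements.S14038
import Mathlib
-- import your own Groth.Agent.* helpers here

set_option autoImplicit false
universe u
open W4c1frobunstiva

namespace Groth.Agent.S14038

open PowerSeries Matrix

section hnf

variable {k : Type u} [Field k] {r : ℕ}

/-- row-reduced shape -/
def RowRed (H : Matrix (Fin r) (Fin r) k⟦X⟧) (e : Fin r → ℕ) : Prop :=
  (∀ i, H i i = X ^ e i) ∧ (∀ i j, j < i → H i j = 0) ∧
    (∀ i j, i < j → ∀ n, e j ≤ n → coeff n (H i j) = 0)

theorem unit_of_cc {g : k⟦X⟧} (h : constantCoeff g ≠ 0) : IsUnit g :=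
  isUnit_iff_constantCoeff.mpr (isUnit_iff_ne_zero.mpr h)

theorem X_pow_eq_unit_mul {a b : ℕ} {u : k⟦X⟧} (hu : IsUnit u)
    (h : (X : k⟦X⟧)^a = u * X^b) : a = b ∧ u = 1 := by
  have hu0 : constantCoeff u ≠ 0 := by
    rw [isUnit_iff_constantCoeff] at hu; exact hu.ne_zero
  rcases lt_trichotomy a b with hab | hab | hab
  · exfalso
    obtain ⟨d, rfl⟩ : ∃ d, b = a + (d+1) := ⟨b - a - 1, by omega⟩
    have : (X : k⟦X⟧)^a * 1 = X^a * (u * X^(d+1)) := by
      rw [mul_one]; conv_lhs => rw [h]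
      ring
    have h1 := mul_left_cancel₀ (pow_ne_zero a X_ne_zero) this
    have := congrArg constantCoeff h1
    rw [map_one, map_mul, map_pow, constantCoeff_X, zero_pow (Nat.succ_ne_zero d), mul_zero]
      at this
    exact one_ne_zero this
  · subst hab
    refine ⟨rfl, ?_⟩
    have : (X : k⟦X⟧)^a * 1 = X^a * u := by
      rw [mul_one]; conv_lhs => rw [h]
      ring
    exact (mul_left_cancel₀ (pow_ne_zero a X_ne_zero) this).symm
  · exfalso
    obtain ⟨d, rfl⟩ : ∃ d, a = b + (d+1) := ⟨a - b - 1, by omega⟩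
    have : (X : k⟦X⟧)^b * X^(d+1) = X^b * u := by rw [← pow_add, h]; ring
    have h1 := mul_left_cancel₀ (pow_ne_zero b X_ne_zero) this
    have := congrArg constantCoeff h1
    rw [map_pow, constantCoeff_X, zero_pow (Nat.succ_ne_zero d)] at this
    exact hu0 this.symm

theorem rowRed_unique {H H' U : Matrix (Fin r) (Fin r) k⟦X⟧} {e e' : Fin r → ℕ}
    (hH : RowRed H e) (hH' : RowRed H' e') (hU : IsUnit U.det) (hUH : H' = U * H) : H' = H := by
  obtain ⟨d1, z1, r1⟩ := hH
  obtain ⟨d2, z2, r2⟩ := hH'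
  have hent : ∀ i j, H' i j = ∑ l, U i l * H l j := by
    intro i j; rw [hUH, Matrix.mul_apply]
  have hlow : ∀ n, ∀ j : Fin r, j.val = n → ∀ i, j < i → U i j = 0 := by
    intro n
    induction n using Nat.strong_induction_on with
    | _ n ih =>
    intro j hj i hji
    have h1 := hent i j
    rw [z2 i j hji, Finset.sum_eq_single j] at h1
    · rw [d1 j] at h1
      exact (mul_eq_zero.mp h1.symm).resolve_right (pow_ne_zero _ X_ne_zero)
    · intro l _ hl
      rcases lt_or_gt_of_ne hl with h | h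
      · rw [ih l.val (by rw [← hj]; exact h) l rfl i (lt_trans h hji), zero_mul]
      · rw [z1 l j h, mul_zero]
    · intro h; exact absurd (Finset.mem_univ j) h
  have hlow' : ∀ i j : Fin r, j < i → U i j = 0 := fun i j h => hlow j.val j rfl i h
  have hdiag : ∀ i, X ^ e' i = U i i * X ^ e i := by
    intro i
    have h1 := hent i i
    rw [d2 i, Finset.sum_eq_single i] at h1
    · rw [d1 i] at h1; exact h1
    · intro l _ hl
      rcases lt_or_gt_of_ne hl with h | h
      · rw [hlow' i l h, zero_mul]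
      · rw [z1 l i h, mul_zero]
    · intro h; exact absurd (Finset.mem_univ i) h
  have htri : U.BlockTriangular id := by
    intro i j hij; exact hlow' i j hij
  have hdet : U.det = ∏ i, U i i := Matrix.det_of_isUpperTriangular htri
  have hUii : ∀ i, IsUnit (U i i) := by
    intro i
    rw [hdet] at hU
    exact isUnit_of_dvd_unit (Finset.dvd_prod_of_mem (fun l => U l l) (Finset.mem_univ i)) hU
  have hee : ∀ i, e' i = e i ∧ U i i = 1 := fun i => X_pow_eq_unit_mul (hUii i) (hdiag i)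
  have hup : ∀ n, ∀ i j : Fin r, i < j → j.val - i.val = n → U i j = 0 := by
    intro n
    induction n using Nat.strong_induction_on with
    | _ n ih =>
    intro i j hij hn
    have h1 := hent i j
    rw [Finset.sum_eq_add i j (ne_of_lt hij)] at h1
    · rw [(hee i).2, one_mul, d1 j] at h1
      have h2 : U i j * X ^ e j = H' i j - H i j := by rw [h1]; ring
      have h3 : U i j * X ^ e j = 0 := by
        ext m
        rw [map_zero]
        by_cases hm : m < e j
        · rw [mul_comm]; exact X_pow_dvd_iff.mp (Dvd.intro _ rfl) m hm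
        · rw [h2, map_sub, r2 i j hij m (by rw [(hee j).1]; omega), r1 i j hij m (by omega),
            sub_zero]
      exact (mul_eq_zero.mp h3).resolve_right (pow_ne_zero _ X_ne_zero)
    · intro l _ hl
      by_cases h : l < i
      · rw [hlow' i l h, zero_mul]
      by_cases h' : j < l
      · rw [z1 l j h', mul_zero]
      have hil : i < l := lt_of_le_of_ne (not_lt.mp h) (Ne.symm hl.1)
      have hlj : l < j := lt_of_le_of_ne (not_lt.mp h') hl.2
      rw [ih (l.val - i.val) (by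
        rw [← hn]; have := Fin.lt_def.mp hil; have := Fin.lt_def.mp hlj; omega) i l hil rfl,
        zero_mul]
    · intro h; exact absurd (Finset.mem_univ i) h
    · intro h; exact absurd (Finset.mem_univ j) h
  have hU1 : U = 1 := by
    apply Matrix.ext; intro i j
    rcases lt_trichotomy i j with h | h | h
    · rw [hup _ i j h rfl, Matrix.one_apply_ne (ne_of_lt h)]
    · subst h; rw [(hee i).2, Matrix.one_apply_eq]
    · rw [hlow' i j h, Matrix.one_apply_ne (ne_of_gt h)]
  rw [hUH, hU1, Matrix.one_mul]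

/-- the row module -/
noncomputable def rowSpan (M : Matrix (Fin r) (Fin r) k⟦X⟧) : Submodule k⟦X⟧ (Fin r → k⟦X⟧) :=
  Submodule.span _ (Set.range fun i => M i)

theorem mem_rowSpan {M : Matrix (Fin r) (Fin r) k⟦X⟧} {x : Fin r → k⟦X⟧} :
    x ∈ rowSpan M ↔ ∃ c : Fin r → k⟦X⟧, c ᵥ* M = x := by
  unfold rowSpan
  rw [Submodule.mem_span_range_iff_exists_fun]
  constructor <;> rintro ⟨c, hc⟩ <;> refine ⟨c, ?_⟩
  · rw [Matrix.vecMul_eq_sum]; exact hc
  · rw [← Matrix.vecMul_eq_sum]; exact hc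

/-- vectors vanishing in the first `j` coordinates -/
noncomputable def ZZ (k : Type u) [Field k] (r j : ℕ) : Submodule k⟦X⟧ (Fin r → k⟦X⟧) where
  carrier := {x | ∀ l : Fin r, l.val < j → x l = 0}
  add_mem' := by
    intro a b ha hb l hl
    have h1 := ha l hl
    have h2 := hb l hl
    simp [h1, h2]
  zero_mem' := by intro l _; rfl
  smul_mem' := by
    intro c a ha l hl
    have h1 := ha l hl
    simp [h1]

theorem ZZ_mono {i j : ℕ} (h : i ≤ j) : ZZ k r j ≤ ZZ k r i := by
  intro x hx l hl; exact hx l (lt_of_lt_of_le hl h)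

theorem exists_pivot (M : Matrix (Fin r) (Fin r) k⟦X⟧) (hM : M.det ≠ 0) (j : Fin r) :
    ∃ (e : ℕ) (h : Fin r → k⟦X⟧), h ∈ rowSpan M ∧ h ∈ ZZ k r j.val ∧ h j = X^e ∧
      ∀ y ∈ rowSpan M, y ∈ ZZ k r j.val → (X : k⟦X⟧)^e ∣ y j := by
  classical
  have hex : ∃ n, ∃ y ∈ rowSpan M, y ∈ ZZ k r j.val ∧ coeff n (y j) ≠ 0 := by
    have hy : (Pi.single j M.det : Fin r → k⟦X⟧) ∈ rowSpan M := by
      rw [mem_rowSpan]
      refine ⟨M.adjugate j, ?_⟩
      have h2 := congrFun (Matrix.adjugate_mul M) j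
      rw [Matrix.mul_apply_eq_vecMul] at h2
      rw [h2]; funext l
      simp [Matrix.one_apply, Pi.single_apply, eq_comm]
    obtain ⟨n, hn⟩ := (exists_coeff_ne_zero_iff_ne_zero).mpr hM
    refine ⟨n, _, hy, ?_, by rwa [Pi.single_eq_same]⟩
    intro l hl
    rw [Pi.single_eq_of_ne]
    intro h; subst h; omega
  obtain ⟨y, hyL, hyZ, hyn⟩ := Nat.find_spec hex
  have hmin : ∀ y' ∈ rowSpan M, y' ∈ ZZ k r j.val → (X : k⟦X⟧)^(Nat.find hex) ∣ y' j := by
    intro y' h1 h2
    rw [X_pow_dvd_iff]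
    intro n hn
    by_contra hne
    exact Nat.find_min hex hn ⟨y', h1, h2, hne⟩
  obtain ⟨g, hg⟩ := hmin y hyL hyZ
  have hg0 : constantCoeff g ≠ 0 := by
    rw [hg] at hyn
    rw [← coeff_zero_eq_constantCoeff_apply]
    have := coeff_X_pow_mul g (Nat.find hex) 0
    rw [zero_add] at this
    rwa [this] at hyn
  obtain ⟨u, hu⟩ := (unit_of_cc hg0).exists_left_inv
  refine ⟨Nat.find hex, u • y, Submodule.smul_mem _ _ hyL, Submodule.smul_mem _ _ hyZ, ?_, hmin⟩
  rw [Pi.smul_apply, smul_eq_mul, hg]; linear_combination (X^(Nat.find hex)) * hu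

theorem exists_reduced (L : Submodule k⟦X⟧ (Fin r → k⟦X⟧)) (e : Fin r → ℕ)
    (H0 : Fin r → Fin r → k⟦X⟧) (hL : ∀ j, H0 j ∈ L) (hZ : ∀ j : Fin r, H0 j ∈ ZZ k r j.val)
    (hd : ∀ j, H0 j j = X^(e j)) (i : Fin r) :
    ∀ c : ℕ, ∃ x ∈ L, x ∈ ZZ k r i.val ∧ x i = X^(e i) ∧
      ∀ j : Fin r, i < j → j.val < c → ∀ n, e j ≤ n → coeff n (x j) = 0 := by
  intro c
  induction c with
  | zero => exact ⟨H0 i, hL i, hZ i, hd i, fun j _ hj => absurd hj (Nat.not_lt_zero _)⟩
  | succ c ih =>
    obtain ⟨x, hxL, hxZ, hxi, hxr⟩ := ih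
    by_cases hc : c < r ∧ i.val < c
    · obtain ⟨hcr, hic⟩ := hc
      have hij : i < (⟨c, hcr⟩ : Fin r) := hic
      refine ⟨x - (mk fun n => coeff (n + e ⟨c, hcr⟩) (x ⟨c, hcr⟩)) • H0 ⟨c, hcr⟩,
        L.sub_mem hxL (L.smul_mem _ (hL _)), ?_, ?_, ?_⟩
      · exact Submodule.sub_mem _ hxZ
          (Submodule.smul_mem _ _ (ZZ_mono (le_of_lt hic) (hZ ⟨c, hcr⟩)))
      · rw [Pi.sub_apply, Pi.smul_apply, (hZ ⟨c, hcr⟩) i hic, smul_zero, sub_zero, hxi]
      · intro j' hij' hj'c n hn
        rw [Pi.sub_apply, Pi.smul_apply, smul_eq_mul, map_sub]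
        rcases Nat.lt_succ_iff_lt_or_eq.mp hj'c with h | h
        · rw [(hZ ⟨c, hcr⟩) j' h, mul_zero, map_zero, sub_zero]
          exact hxr j' hij' h n hn
        · have hj'eq : j' = ⟨c, hcr⟩ := Fin.ext h
          subst hj'eq
          rw [hd]
          obtain ⟨m, rfl⟩ := Nat.exists_eq_add_of_le hn
          rw [add_comm, coeff_mul_X_pow, coeff_mk, sub_self]
    · refine ⟨x, hxL, hxZ, hxi, ?_⟩
      intro j hij hjc n hn
      have : j.val < c := by
        rcases Nat.lt_succ_iff_lt_or_eq.mp hjc with h | h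
        · exact h
        · exfalso; apply hc; exact ⟨by rw [← h]; exact j.2, by rw [← h]; exact hij⟩
      exact hxr j hij this n hn

theorem span_rows (L : Submodule k⟦X⟧ (Fin r → k⟦X⟧)) (H : Fin r → Fin r → k⟦X⟧)
    (e : Fin r → ℕ) (hHL : ∀ i, H i ∈ L) (hHZ : ∀ i : Fin r, H i ∈ ZZ k r i.val)
    (hHd : ∀ i, H i i = X^(e i))
    (hmin : ∀ j : Fin r, ∀ y ∈ L, y ∈ ZZ k r j.val → (X : k⟦X⟧)^(e j) ∣ y j) :
    L ≤ Submodule.span k⟦X⟧ (Set.range H) := by
  intro x hx
  have key : ∀ j : ℕ, j ≤ r → ∃ y ∈ Submodule.span k⟦X⟧ (Set.range H),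
      x - y ∈ L ∧ x - y ∈ ZZ k r j := by
    intro j
    induction j with
    | zero =>
      intro _
      exact ⟨0, Submodule.zero_mem _, by rwa [sub_zero], by intro l hl; omega⟩
    | succ j ih =>
      intro hj
      obtain ⟨y, hy, h1, h2⟩ := ih (by omega)
      obtain ⟨q, hq⟩ := hmin ⟨j, hj⟩ (x - y) h1 h2
      have hsub : x - (y + q • H ⟨j, hj⟩) = (x - y) - q • H ⟨j, hj⟩ := sub_add_eq_sub_sub _ _ _
      refine ⟨y + q • H ⟨j, hj⟩, Submodule.add_mem _ hy
        (Submodule.smul_mem _ _ (Submodule.subset_span ⟨_, rfl⟩)), ?_, ?_⟩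
      · rw [hsub]; exact L.sub_mem h1 (L.smul_mem _ (hHL _))
      · intro l hl
        rw [hsub, Pi.sub_apply, Pi.smul_apply, smul_eq_mul]
        rcases Nat.lt_succ_iff_lt_or_eq.mp hl with h | h
        · rw [h2 l h, (hHZ ⟨j, hj⟩) l h, mul_zero, sub_zero]
        · have hl' : l = ⟨j, hj⟩ := Fin.ext h
          subst hl'
          rw [hq, hHd]; ring
  obtain ⟨y, hy, _, h2⟩ := key r le_rfl
  have : x = y := by
    have h0 : x - y = 0 := by funext l; exact h2 l l.2
    exact sub_eq_zero.mp h0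
  rw [this]; exact hy

theorem exists_hnf (M : Matrix (Fin r) (Fin r) k⟦X⟧) (hM : M.det ≠ 0) :
    ∃ (H : Matrix (Fin r) (Fin r) k⟦X⟧) (e : Fin r → ℕ), RowRed H e ∧
      ∃ N : Matrix (Fin r) (Fin r) k⟦X⟧, IsUnit N ∧ N * M = H := by
  choose e H0 hL hZ hd hmin using exists_pivot M hM
  have hred := fun i => exists_reduced (rowSpan M) e H0 hL hZ hd i r
  choose H hHL hHZ hHd hHr using hred
  refine ⟨Matrix.of H, e, ⟨hHd, ?_, ?_⟩, ?_⟩
  · intro i j hji; exact hHZ i j hji
  · intro i j hij n hn; exact hHr i j hij j.2 n hn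
  · have h1 : ∀ i, ∃ c, c ᵥ* M = H i := fun i => mem_rowSpan.mp (hHL i)
    choose N hN using h1
    have hspan := span_rows (rowSpan M) H e hHL hHZ hHd hmin
    have h2 : ∀ i, ∃ c, c ᵥ* (Matrix.of H) = M i := by
      intro i
      have h3 : M i ∈ rowSpan M := Submodule.subset_span ⟨i, rfl⟩
      exact (mem_rowSpan (M := Matrix.of H)).mp (hspan h3)
    choose N' hN' using h2
    have e1 : Matrix.of N * M = Matrix.of H := by
      apply Matrix.ext; intro i j
      rw [Matrix.mul_apply_eq_vecMul]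
      exact congrFun (hN i) j
    have e2 : Matrix.of N' * Matrix.of H = M := by
      apply Matrix.ext; intro i j
      rw [Matrix.mul_apply_eq_vecMul]
      exact congrFun (hN' i) j
    have e3 : (Matrix.of N' * Matrix.of N) * M = M := by rw [Matrix.mul_assoc, e1, e2]
    have hdet : (Matrix.of N').det * (Matrix.of N).det = 1 := by
      have := congrArg Matrix.det e3
      rw [Matrix.det_mul, Matrix.det_mul] at this
      exact mul_right_cancel₀ hM (by rw [this, one_mul])
    refine ⟨Matrix.of N, ?_, e1⟩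
    rw [Matrix.isUnit_iff_isUnit_det]
    exact IsUnit.of_mul_eq_one _ (by rw [mul_comm]; exact hdet)

end hnf

/-- Let k be a field and M a square matrix of size r over the formal power series ring k[[t]] with
non-zero determinant. Call a matrix H over k[[t]] row-reduced when it is upper triangular, each
diagonal entry is a power t^{e_i} of the variable, and every entry above the diagonal in column j is
a polynomial of degree less than e_j (all its coefficients in degrees ≥ e_j vanish). Then there is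
exactly one row-reduced H obtainable from M by left multiplication with an invertible matrix over
k[[t]]. (The published statement takes k algebraically closed; the row-reduction argument needs only
a field.) -/
theorem result (k : Type u) [Field k] (r : ℕ)
    (M : Matrix (Fin r) (Fin r) (PowerSeries k)) (hM : M.det ≠ 0) :
    ∃! H : Matrix (Fin r) (Fin r) (PowerSeries k),
      (∃ e : Fin r → ℕ, (∀ i, H i i = PowerSeries.X ^ e i) ∧ (∀ i j, j < i → H i j = 0) ∧
        (∀ i j, i < j → ∀ n, e j ≤ n → PowerSeries.coeff n (H i j) = 0)) ∧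
      ∃ N : Matrix (Fin r) (Fin r) (PowerSeries k), IsUnit N ∧ N * M = H := by
  obtain ⟨H, e, hRR, N, hN, hNM⟩ := exists_hnf M hM
  refine ⟨H, ⟨⟨e, hRR⟩, N, hN, hNM⟩, ?_⟩
  rintro H1 ⟨⟨e1, hRR1⟩, N1, hN1, hN1M⟩
  obtain ⟨Ni, hNi1, hNi2⟩ : ∃ Ni, Ni * N = 1 ∧ N * Ni = 1 := by
    obtain ⟨u, rfl⟩ := hN; exact ⟨↑u⁻¹, Units.inv_mul u, Units.mul_inv u⟩
  have hU : H1 = (N1 * Ni) * H := by
    rw [← hNM, Matrix.mul_assoc, ← Matrix.mul_assoc Ni, hNi1, Matrix.one_mul, hN1M]
  have hdNi : IsUnit Ni.det := by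
    have := congrArg Matrix.det hNi1
    rw [Matrix.det_mul, Matrix.det_one] at this
    exact IsUnit.of_mul_eq_one _ this
  refine rowRed_unique (e := e) (e' := e1) hRR hRR1 ?_ hU
  rw [Matrix.det_mul]
  exact ((Matrix.isUnit_iff_isUnit_det _).mp hN1).mul hdNi

end Groth.Agent.S14038
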