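import Groth.Statements.S14039
import Mathlib
-- import your own Groth.Agent.* helpers here

set_option autoImplicit false
open W4c1frobunstiva

namespace Groth.Agent.S14039

open PowerSeries Finset

/-- the generating series of one exponent. -/
noncomputable def Gs (p : ℕ) : PowerSeries ℤ :=
  ∑ e : Fin p, if 1 ≤ (e : ℕ) then (X : PowerSeries ℤ) ^ (e : ℕ) else 0

theorem Gs_mul (p : ℕ) : Gs p * (1 - X) = X * (1 - X ^ (p - 1)) := by
  unfold Gs
  rw [Fin.sum_univ_eq_sum_range (fun e => if 1 ≤ e then (X : PowerSeries ℤ) ^ e else 0) p]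
  rcases Nat.eq_zero_or_pos p with rfl | hp
  · simp
  · obtain ⟨q, rfl⟩ : ∃ q, p = q + 1 := ⟨p - 1, by omega⟩
    rw [Finset.sum_range_succ']
    simp only [le_add_iff_nonneg_left, zero_le, if_true, add_tsub_cancel_right]
    have : (∑ x ∈ range q, (X : PowerSeries ℤ) ^ (x + 1)) = X * ∑ x ∈ range q, X ^ x := by
      rw [Finset.mul_sum]
      exact Finset.sum_congr rfl fun x _ => by rw [pow_succ']
    rw [this]
    have h0 : ¬ (1 ≤ 0) := by omega
    rw [if_neg h0, add_zero, mul_assoc, geom_sum_mul_neg]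

theorem coeff_Gs_pow (p n s : ℕ) :
    coeff s (Gs p ^ n) =
      (Fintype.card {e : Fin n → Fin p // (∀ i, 1 ≤ (e i : ℕ)) ∧ ∑ i, (e i : ℕ) = s} : ℤ) := by
  classical
  have h1 : Gs p ^ n = ∏ _i : Fin n, Gs p := by simp
  rw [h1]
  unfold Gs
  rw [Finset.prod_univ_sum, Fintype.piFinset_univ, map_sum]
  have h2 : ∀ e : Fin n → Fin p,
      coeff s (∏ i : Fin n, if 1 ≤ (e i : ℕ) then (X : PowerSeries ℤ) ^ (e i : ℕ) else 0) =
      if ((∀ i, 1 ≤ (e i : ℕ)) ∧ ∑ i, (e i : ℕ) = s) then (1 : ℤ) else 0 := by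
    intro e
    rw [Finset.prod_ite_zero, Finset.prod_pow_eq_pow_sum]
    by_cases h : ∀ i, 1 ≤ (e i : ℕ)
    · have h' : ∀ i ∈ (Finset.univ : Finset (Fin n)), 1 ≤ (e i : ℕ) := fun i _ => h i
      rw [if_pos h', coeff_X_pow]
      by_cases hs : s = ∑ i, (e i : ℕ)
      · rw [if_pos hs, if_pos ⟨h, hs.symm⟩]
      · rw [if_neg hs, if_neg (fun hh => hs hh.2.symm)]
    · have h' : ¬ ∀ i ∈ (Finset.univ : Finset (Fin n)), 1 ≤ (e i : ℕ) := fun hh => h fun i => hh i (Finset.mem_univ i)
      rw [if_neg h', if_neg (fun hh => h hh.1), map_zero]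
  rw [Finset.sum_congr rfl fun e _ => h2 e]
  rw [Finset.sum_boole, Fintype.card_subtype]

/-- For natural numbers p, n ≥ 1 and s, the number of monomials of degree s in n variables in which
every variable occurs with a positive exponent strictly less than p — that is, of exponent vectors
(e_1, …, e_n) with sum s and 1 ≤ e_i ≤ p − 1 — equals the inclusion–exclusion sum over i from 0 to n
of (−1)^i · C(n, i) · C(s − i(p − 1) − 1, n − 1), the last factor counting monomials of degree s −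
i(p − 1) − n in n variables and read as 0 when s < i(p − 1) + n. (A companion count, by how many
exponents lie below p/2, and a remark on polynomiality in s and p are not part of this row.) -/
theorem result (p n s : ℕ)
    (hn : 1 ≤ n) :
    (Fintype.card {e : Fin n → Fin p // (∀ i, 1 ≤ (e i : ℕ)) ∧ ∑ i, (e i : ℕ) = s} : ℤ) =
      ∑ i ∈ Finset.range (n + 1),
        (-1 : ℤ) ^ i * (n.choose i : ℤ) *
          (if i * (p - 1) + n ≤ s then (((s - i * (p - 1) - 1).choose (n - 1) : ℕ) : ℤ) else 0) := by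
  rw [← coeff_Gs_pow]
  obtain ⟨d, rfl⟩ : ∃ d, n = d + 1 := ⟨n - 1, by omega⟩
  have hinv : (PowerSeries.mk 1 : PowerSeries ℤ) * (1 - PowerSeries.X) = 1 :=
    PowerSeries.mk_one_mul_one_sub_eq_one ℤ
  have h1 : Gs p ^ (d + 1) =
      PowerSeries.X ^ (d + 1) * (1 - PowerSeries.X ^ (p - 1)) ^ (d + 1) *
        (PowerSeries.mk 1 : PowerSeries ℤ) ^ (d + 1) := by
    have : Gs p = PowerSeries.X * (1 - PowerSeries.X ^ (p - 1)) * PowerSeries.mk 1 := by
      rw [← Gs_mul, mul_assoc, mul_comm (1 - PowerSeries.X) _, hinv, mul_one]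
    rw [this, mul_pow, mul_pow]
  rw [h1, PowerSeries.mk_one_pow_eq_mk_choose_add]
  have h2 : (1 - (PowerSeries.X : PowerSeries ℤ) ^ (p - 1)) ^ (d + 1) =
      ∑ i ∈ Finset.range (d + 1 + 1), (-1 : PowerSeries ℤ) ^ i * ((d + 1).choose i : PowerSeries ℤ) *
        PowerSeries.X ^ (i * (p - 1)) := by
    rw [sub_eq_add_neg, add_comm, add_pow]
    refine Finset.sum_congr rfl fun i _ => ?_
    rw [one_pow, mul_one, neg_pow, ← pow_mul, mul_comm (p - 1) i]
    ring
  rw [h2, Finset.mul_sum, Finset.sum_mul, map_sum]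
  refine Finset.sum_congr rfl fun i _ => ?_
  have h3 : (PowerSeries.X : PowerSeries ℤ) ^ (d + 1) * ((-1) ^ i * ((d + 1).choose i : PowerSeries ℤ) *
        PowerSeries.X ^ (i * (p - 1))) * (PowerSeries.mk fun n => ((d + n).choose d : ℤ)) =
      PowerSeries.C (((-1) ^ i * ((d + 1).choose i : ℤ))) *
        (PowerSeries.X ^ (i * (p - 1) + (d + 1)) * (PowerSeries.mk fun n => ((d + n).choose d : ℤ))) := by
    rw [map_mul, map_pow, map_neg, map_one, pow_add]
    have : (PowerSeries.C ((d + 1).choose i : ℤ) : PowerSeries ℤ) = ((d + 1).choose i : PowerSeries ℤ) := by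
      simp
    rw [this]
    ring
  rw [h3, PowerSeries.coeff_C_mul, PowerSeries.coeff_X_pow_mul']
  congr 1
  by_cases hle : i * (p - 1) + (d + 1) ≤ s
  · rw [if_pos hle, if_pos hle, PowerSeries.coeff_mk]
    congr 2
    generalize i * (p - 1) = t at hle ⊢
    omega
  · rw [if_neg hle, if_neg hle]

end Groth.Agent.S14039
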