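import Groth.Statements.S1404
import Groth.Agent.Lib.H79ValChart3
import Groth.Agent.Lib.H56OpenComp

set_option autoImplicit false
universe u
open FlatMor

namespace Groth.Agent.S1404

set_option linter.style.haveILetI false

open Groth.Agent.Lib.H79FlatGenFibDimRing Groth.Agent.Lib.H56LocDim Groth.Agent.Lib.H56SpecTrdeg
  Groth.Agent.Lib.H56OpenDim Groth.Agent.Lib.H56PruferDim Groth.Agent.Lib.H56ValTrdeg
  Groth.Agent.Lib.H79ValChart AlgebraicGeometry


/-- Let A → B be an injective local homomorphism of local domains with B essentially of finite type over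
A, and g an element of the maximal ideal of B lying in no minimal prime over m_A B. Assume dim(B /
m_A B) + trdeg_{κ(A)} κ(B) = trdeg_A B (with all three finite). Then A → B/gB is injective. -/
theorem result {A B : Type u} [CommRing A] [CommRing B] [IsDomain A] [IsDomain B] [IsLocalRing A] [IsLocalRing B]
    [Algebra A B] [IsLocalHom (algebraMap A B)] [FaithfulSMul A B] [Algebra.EssFiniteType A B]
    (g : B) (hg : g ∈ IsLocalRing.maximalIdeal B)
    (hmin : ∀ q ∈ (Ideal.map (algebraMap A B) (IsLocalRing.maximalIdeal A)).minimalPrimes, g ∉ q)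
    (d e : ℕ) (hd : ringKrullDim (B ⧸ Ideal.map (algebraMap A B) (IsLocalRing.maximalIdeal A)) = d)
    (he : Algebra.trdeg (IsLocalRing.ResidueField A) (IsLocalRing.ResidueField B) = e) (hsum : Algebra.trdeg A B = (d + e : ℕ)) :
    Function.Injective (algebraMap A (B ⧸ Ideal.span {g})) := by
  classical
  let C := Algebra.EssFiniteType.subalgebra A B
  let M := Algebra.EssFiniteType.submonoid A B
  haveI hloc : IsLocalization M B := Algebra.EssFiniteType.isLocalization A B
  let q : Ideal C := (IsLocalRing.maximalIdeal B).comap (algebraMap C B)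
  haveI hq : q.IsPrime := Ideal.comap_isPrime _ _
  have hM : M = q.primeCompl := by
    ext c
    change IsUnit (algebraMap C B c) ↔ ¬ (algebraMap C B c ∈ IsLocalRing.maximalIdeal B)
    rw [IsLocalRing.mem_maximalIdeal, mem_nonunits_iff, not_not]
  haveI hlocq : IsLocalization.AtPrime B q := by
    change IsLocalization q.primeCompl B
    rw [← hM]; exact hloc
  let eqv : Localization.AtPrime q ≃ₐ[C] B := IsLocalization.algEquiv q.primeCompl _ _
  haveI : FaithfulSMul A C := by
    rw [faithfulSMul_iff_algebraMap_injective]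
    intro a b hab
    apply FaithfulSMul.algebraMap_injective A B
    have := congrArg (algebraMap C B) hab
    simpa [← IsScalarTower.algebraMap_apply] using this
  have hqA : q.under A = IsLocalRing.maximalIdeal A := by
    rw [Ideal.under_def]
    change ((IsLocalRing.maximalIdeal B).comap (algebraMap C B)).comap (algebraMap A C) = _
    rw [Ideal.comap_comap, ← IsScalarTower.algebraMap_eq]
    have hl : IsLocalHom (algebraMap A B) := inferInstance
    exact ((IsLocalRing.local_hom_TFAE (algebraMap A B)).out 0 4).1 hl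
  -- the transcendence degree of `C`
  have hnC : Algebra.trdeg A C = ((d + e : ℕ) : Cardinal) := by
    rw [← hsum]
    haveI : Algebra.IsAlgebraic C B := IsLocalization.isAlgebraic B M
    haveI : FaithfulSMul C B :=
      (faithfulSMul_iff_algebraMap_injective _ _).mpr Subtype.val_injective
    exact (Groth.Agent.Lib.TrdegTransfer.trdeg_eq_of_isAlgebraic_square (A := A) (B := C) (K := A)
      (L := B)).symm
  -- the residual transcendence degree at `q`
  have hr : Algebra.trdeg (A ⧸ q.under A) (C ⧸ q) = (e : Cardinal) := by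
    rw [← he]
    haveI : Nontrivial (C ⧸ q) := Ideal.Quotient.nontrivial_iff.mpr hq.ne_top
    haveI : Nontrivial (A ⧸ q.under A) :=
      Ideal.Quotient.nontrivial_iff.mpr (inferInstance : (q.under A).IsPrime).ne_top
    let f : A ⧸ q.under A →+* C ⧸ q := algebraMap (A ⧸ q.under A) (C ⧸ q)
    let g' : A ⧸ q.under A →+* IsLocalRing.ResidueField A :=
      (Ideal.quotEquivOfEq hqA : A ⧸ q.under A ≃+* A ⧸ IsLocalRing.maximalIdeal A).toRingHom
    let h : IsLocalRing.ResidueField A →+* IsLocalRing.ResidueField B :=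
      algebraMap (IsLocalRing.ResidueField A) (IsLocalRing.ResidueField B)
    let j : C ⧸ q →+* IsLocalRing.ResidueField B :=
      Ideal.quotientMap (IsLocalRing.maximalIdeal B) (algebraMap C B) le_rfl
    have key := trdeg_square (A₀ := A ⧸ q.under A) (B₀ := C ⧸ q) (K := IsLocalRing.ResidueField A)
      (L := IsLocalRing.ResidueField B) f g' h j ?_ ?_ ?_ ?_ ?_ ?_
    · symm
      convert key using 2
      · rfl
      · exact Algebra.algebra_ext _ _ (fun r => rfl)
      · exact Algebra.algebra_ext _ _ (fun r => rfl)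
    · apply Ideal.Quotient.ringHom_ext
      ext a
      rfl
    · exact FaithfulSMul.algebraMap_injective _ _
    · exact (Ideal.quotEquivOfEq hqA).injective
    · exact Ideal.quotientMap_injective' le_rfl
    · intro x
      refine ⟨1, one_ne_zero, (Ideal.quotEquivOfEq hqA).symm x, ?_⟩
      rw [map_one, one_mul]
      exact ((Ideal.quotEquivOfEq hqA).apply_symm_apply x).symm
    · intro y
      obtain ⟨b, rfl⟩ := Ideal.Quotient.mk_surjective y
      obtain ⟨⟨c, s⟩, hcs⟩ := IsLocalization.surj M b
      refine ⟨Ideal.Quotient.mk q s.1, ?_, Ideal.Quotient.mk q c, ?_⟩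
      · rw [Ne, Ideal.Quotient.eq_zero_iff_mem]
        have hs : s.1 ∈ q.primeCompl := hM ▸ s.2
        exact hs
      · change Ideal.Quotient.mk (IsLocalRing.maximalIdeal B) (algebraMap C B s.1) *
          Ideal.Quotient.mk (IsLocalRing.maximalIdeal B) b =
          Ideal.Quotient.mk (IsLocalRing.maximalIdeal B) (algebraMap C B c)
        rw [← map_mul, mul_comm]
        exact congrArg _ hcs
  -- the local fibre dimension at `q`
  have hfib : fibLocDim (PrimeSpectrum.comap (algebraMap A C)) ⟨q, hq⟩ =
      ((d + e : ℕ) : WithBot ℕ∞) := by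
    rw [fibLocDim_eq_add (A := A) (C := C) q e hr]
    have hJ : Ideal.map (algebraMap A B) (IsLocalRing.maximalIdeal A) =
        ((q.under A).map (algebraMap A (Localization.AtPrime q))).map
          (eqv.toRingEquiv : Localization.AtPrime q →+* B) := by
      rw [Ideal.map_map, hqA]
      congr 1
      ext a
      exact (eqv.commutes (algebraMap A C a)).symm
    rw [ringKrullDim_eq_of_ringEquiv (Ideal.quotientEquiv
      ((q.under A).map (algebraMap A (Localization.AtPrime q)))
      (Ideal.map (algebraMap A B) (IsLocalRing.maximalIdeal A)) eqv.toRingEquiv hJ), hd]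
    push_cast
    rfl
  -- write `g = c / s`
  obtain ⟨⟨c, s⟩, hcs⟩ := IsLocalization.surj M g
  have hsunit : IsUnit (algebraMap C B s.1) := IsLocalization.map_units B s
  have hcq : c ∈ q := by
    change algebraMap C B c ∈ IsLocalRing.maximalIdeal B
    rw [← hcs]
    exact Ideal.mul_mem_right _ _ hg
  have hgmem : ∀ P : Ideal B, P.IsPrime → (g ∈ P ↔ algebraMap C B c ∈ P) := by
    intro P hP
    rw [← hcs]
    constructor
    · intro h; exact Ideal.mul_mem_right _ _ h
    · intro h
      rcases hP.mem_or_mem h with h | h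
      · exact h
      · exact absurd (Ideal.eq_top_of_isUnit_mem _ h hsunit) hP.ne_top
  have hdisj : ∀ Q : Ideal C, Q ≤ q → Disjoint (M : Set C) (Q : Set C) := by
    intro Q hQ
    rw [Set.disjoint_left]
    intro x hxM hxQ
    rw [hM] at hxM
    exact hxM (hQ hxQ)
  -- the transcendence degree bound
  have hlt : ∀ Q : Ideal C, Q.IsPrime → Q ≤ q → Q.under A = q.under A → c ∈ Q →
      ∀ r : ℕ, Algebra.trdeg (A ⧸ Q.under A) (C ⧸ Q) = r → r < d + e := by
    intro Q hQprime hQle hQA hcQ r hr'
    have hQBprime : (Q.map (algebraMap C B)).IsPrime :=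
      IsLocalization.isPrime_of_isPrime_disjoint M B Q hQprime (hdisj Q hQle)
    have hQBcomap : (Q.map (algebraMap C B)).comap (algebraMap C B) = Q :=
      IsLocalization.under_map_of_isPrime_disjoint M B hQprime (hdisj Q hQle)
    have hmQB : Ideal.map (algebraMap A B) (IsLocalRing.maximalIdeal A) ≤ Q.map (algebraMap C B) := by
      rw [Ideal.map_le_iff_le_comap]
      intro a ha
      rw [Ideal.mem_comap, IsScalarTower.algebraMap_apply A C B]
      apply Ideal.mem_map_of_mem
      have : a ∈ Q.under A := by rw [hQA, hqA]; exact ha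
      exact this
    obtain ⟨P₁, hP₁min, hP₁le⟩ := Ideal.exists_minimalPrimes_le hmQB
    have hP₁prime : P₁.IsPrime := hP₁min.1.1
    have hgP₁ : g ∉ P₁ := hmin P₁ hP₁min
    have hQ₁prime : (P₁.comap (algebraMap C B)).IsPrime := Ideal.comap_isPrime _ _
    have hQ₁le : P₁.comap (algebraMap C B) ≤ Q := by
      rw [← hQBcomap]; exact Ideal.comap_mono hP₁le
    have hcQ₁ : c ∉ P₁.comap (algebraMap C B) := fun h => hgP₁ ((hgmem P₁ hP₁prime).mpr h)
    have hQ₁A : (P₁.comap (algebraMap C B)).under A = q.under A := by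
      apply le_antisymm
      · exact Ideal.comap_mono (hQ₁le.trans hQle)
      · rw [hqA]
        intro a ha
        rw [Ideal.under_def, Ideal.mem_comap, Ideal.mem_comap, ← IsScalarTower.algebraMap_apply]
        exact hP₁min.1.2 (Ideal.mem_map_of_mem _ ha)
    let xQ : PrimeSpectrum C := ⟨Q, hQprime⟩
    let xQ₁ : PrimeSpectrum C := ⟨P₁.comap (algebraMap C B), hQ₁prime⟩
    let xq : PrimeSpectrum C := ⟨q, hq⟩
    have hne : (show ↥(Spec (CommRingCat.of C)) from xQ₁) ≠ xQ := by
      intro h
      apply hcQ₁
      have : xQ₁.asIdeal = xQ.asIdeal := congrArg PrimeSpectrum.asIdeal h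
      change c ∈ xQ₁.asIdeal
      rw [this]; exact hcQ
    have h1 : tdeg (sp A C) xQ < tdeg (sp A C) xQ₁ := by
      refine tdeg_lt_of_specializes_of_ne (sp A C) xQ₁ xQ (specializes_of_le hQ₁le) ?_ hne
      rw [sp_apply, sp_apply]
      apply PrimeSpectrum.ext
      change (P₁.comap (algebraMap C B)).under A = Q.under A
      rw [hQ₁A, hQA]
    have h2 := tdeg_le_fibreDimAt (sp A C) xQ₁
    have h3 := Groth.Agent.Lib.H56OpenDim.fibreDimAt_le_of_specializes (sp A C) xQ₁ xq
      (specializes_of_le (hQ₁le.trans hQle))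
    have h4 : FlatMor.fibreDimAt (sp A C) xq = ((d + e : ℕ) : WithBot ℕ∞) := by
      rw [fibreDimAt_specMap]; exact hfib
    rw [h4] at h3
    have h5 : tdeg (sp A C) xQ₁ ≤ d + e := by exact_mod_cast h2.trans h3
    have h6 : tdeg (sp A C) xQ = r := by
      rw [tdeg_Spec_eq]
      change Cardinal.toNat (Algebra.trdeg (A ⧸ Q.under A) (C ⧸ Q)) = r
      rw [hr', Cardinal.toNat_natCast]
    omega
  obtain ⟨P, hPprime, hPle, hcP, hPA⟩ :=
    exists_horizontal_prime_of_domain (A := A) (C := C) q c hcq (d + e) hnC hlt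
  -- conclusion
  have hPBprime : (P.map (algebraMap C B)).IsPrime :=
    IsLocalization.isPrime_of_isPrime_disjoint M B P hPprime (hdisj P hPle)
  have hPBcomap : (P.map (algebraMap C B)).comap (algebraMap C B) = P :=
    IsLocalization.under_map_of_isPrime_disjoint M B hPprime (hdisj P hPle)
  have hgPB : g ∈ P.map (algebraMap C B) :=
    (hgmem _ hPBprime).mpr (Ideal.mem_map_of_mem _ hcP)
  rw [injective_iff_map_eq_zero]
  intro a ha
  have ha' : algebraMap A B a ∈ Ideal.span {g} := by
    rw [IsScalarTower.algebraMap_apply A B (B ⧸ Ideal.span {g}), Ideal.Quotient.algebraMap_eq,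
      Ideal.Quotient.eq_zero_iff_mem] at ha
    exact ha
  have h1 : algebraMap A B a ∈ P.map (algebraMap C B) :=
    (Ideal.span_singleton_le_iff_mem _).mpr hgPB ha'
  have h2 : algebraMap A C a ∈ P := by
    rw [← hPBcomap, Ideal.mem_comap, ← IsScalarTower.algebraMap_apply]
    exact h1
  have h3 : a ∈ P.under A := h2
  rw [hPA, Ideal.mem_bot] at h3
  exact h3

end Groth.Agent.S1404
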