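import Groth.Statements.S14040
import Groth.Agent.S14035

set_option autoImplicit false
universe u v
open W4c1frobunstiva

namespace Groth.Agent.S14040

open TensorProduct in
/-- Let A be a discrete valuation ring and B a Noetherian A-algebra such that the nilradical of B is
prime and meets the image of A only in 0 — the spectrum of B is irreducible and its generic point
lies over the generic point of A. If every fibre ring κ(p) ⊗_A B, p a prime of A, is reduced, then B
is reduced and flat over A. (Affine form of the statement for a dominant morphism from an
irreducible scheme to the spectrum of a discrete valuation ring with reduced fibres. The published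
statement also covers a scheme that is already reduced and does not assume it locally Noetherian;
this row treats reduced fibres with B Noetherian, without which the square-zero extension A ⊕
Frac(A)/A is a counterexample.) -/
theorem result (A : Type u) [CommRing A]
    [IsDomain A] [IsDiscreteValuationRing A] (B : Type v) [CommRing B] [Algebra A B]
    [IsNoetherianRing B] (hirr : (nilradical B).IsPrime)
    (hdom : (nilradical B).comap (algebraMap A B) = ⊥)
    (hfib : ∀ p : PrimeSpectrum A, IsReduced (p.asIdeal.ResidueField ⊗[A] B)) :
    IsReduced B ∧ Module.Flat A B := by
  have hD : IsDomain (B ⧸ nilradical B) := Ideal.Quotient.isDomain _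
  have hinj : Function.Injective (algebraMap A (B ⧸ nilradical B)) := by
    rw [RingHom.injective_iff_ker_eq_bot, eq_bot_iff]
    intro a ha
    rw [RingHom.mem_ker, ← Ideal.Quotient.mk_algebraMap,
      Ideal.Quotient.eq_zero_iff_mem] at ha
    rw [← hdom]
    exact ha
  have hTF : Module.IsTorsionFree A (B ⧸ nilradical B) :=
    Module.isTorsionFree_iff_algebraMap_injective.2 hinj
  have hflat : Module.Flat A (B ⧸ nilradical B) := inferInstance
  have hred : IsReduced B := Groth.Agent.S14035.result A B hfib
  refine ⟨hred, ?_⟩
  have hN : nilradical B = ⊥ := nilradical_eq_bot_iff.2 hred
  have hD' : IsDomain B := by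
    rw [hN] at hirr
    have : Nontrivial B := by
      by_contra h
      rw [not_nontrivial_iff_subsingleton] at h
      exact hirr.ne_top ((Ideal.eq_top_iff_one _).2 (by
        rw [Subsingleton.elim (1 : B) 0]; exact Ideal.zero_mem _))
    have : NoZeroDivisors B := ⟨fun {a b} hab => by
      have : a * b ∈ (⊥ : Ideal B) := by rw [hab]; exact Ideal.zero_mem _
      rcases hirr.mem_or_mem this with h | h
      · left; simpa using h
      · right; simpa using h⟩
    exact NoZeroDivisors.to_isDomain B
  have hinj' : Function.Injective (algebraMap A B) := by
    rw [RingHom.injective_iff_ker_eq_bot, eq_bot_iff]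
    intro a ha
    rw [RingHom.mem_ker] at ha
    rw [← hdom, Ideal.mem_comap, ha]
    exact Ideal.zero_mem _
  have hTF' : Module.IsTorsionFree A B := Module.isTorsionFree_iff_algebraMap_injective.2 hinj'
  infer_instance

end Groth.Agent.S14040
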