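import Groth.Statements.S14043
import Mathlib.RingTheory.Nilpotent.Basic
import Mathlib.LinearAlgebra.Matrix.NonsingularInverse

set_option autoImplicit false
universe u v

namespace Groth.Agent.S14043

open W4c1frobunstiva Matrix

/-- If `P * Q - 1` has nilpotent entries then `P * Q` has unit determinant. -/
theorem isUnit_det_of_nilpotent_sub_one {R : Type u} [CommRing R] {r : ℕ}
    (P : Matrix (Fin r) (Fin r) R) (h : ∀ i k, IsNilpotent (P i k - (1 : Matrix (Fin r) (Fin r) R) i k)) :
    IsUnit P.det := by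
  have h1 : (Ideal.Quotient.mk (nilradical R)) P.det = 1 := by
    rw [RingHom.map_det]
    have : (Ideal.Quotient.mk (nilradical R)).mapMatrix P = 1 := by
      ext i k
      have hik := h i k
      rw [← mem_nilradical, ← Ideal.Quotient.eq] at hik
      rw [RingHom.mapMatrix_apply, Matrix.map_apply, hik]
      by_cases hik' : i = k
      · subst hik'; simp
      · simp [hik']
    rw [this, Matrix.det_one]
  have h2 : IsNilpotent (P.det - 1) := by
    rw [← mem_nilradical, ← Ideal.Quotient.eq, h1, map_one]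
  have := IsNilpotent.isUnit_add_one h2
  simpa using this

theorem result (R : Type u) [CommRing R]
    [IsNoetherianRing R] (M : Type v) [AddCommGroup M] [Module R M] (r : ℕ)
    (hM : W4c1frobunstiva.IsNRFree R M r) (m m' : Fin r → M)
    (hm : Submodule.span R (Set.range m) = ⊤) (hm' : Submodule.span R (Set.range m') = ⊤) :
    ∃ T : Matrix (Fin r) (Fin r) R, IsUnit T ∧ ∀ j, m' j = ∑ i, T j i • m i := by
  obtain ⟨b, hb, hrel⟩ := hM
  -- key: for any generating family `m`, there are `P Q` with `b = P m`, `m = Q b`, both invertible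
  have key : ∀ m : Fin r → M, Submodule.span R (Set.range m) = ⊤ →
      ∃ P Q : Matrix (Fin r) (Fin r) R, IsUnit P ∧ IsUnit Q ∧ (∀ i, b i = ∑ j, P i j • m j) ∧
        (∀ j, m j = ∑ k, Q j k • b k) := by
    intro m hm
    have hP : ∀ i, ∃ c : Fin r → R, ∑ j, c j • m j = b i := fun i =>
      (Submodule.mem_span_range_iff_exists_fun R).1 (hm ▸ Submodule.mem_top)
    have hQ : ∀ j, ∃ c : Fin r → R, ∑ k, c k • b k = m j := fun j =>
      (Submodule.mem_span_range_iff_exists_fun R).1 (hb ▸ Submodule.mem_top)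
    choose P hP using hP
    choose Q hQ using hQ
    have hPQ : ∀ i, ∑ k, ((Matrix.of P * Matrix.of Q) i k - (1 : Matrix (Fin r) (Fin r) R) i k) • b k = 0 := by
      intro i
      simp only [sub_smul, Finset.sum_sub_distrib, Matrix.mul_apply, Matrix.of_apply, Finset.sum_smul]
      rw [Finset.sum_comm]
      have h1 : ∀ j, ∑ k, (P i j * Q j k) • b k = P i j • m j := by
        intro j
        rw [← hQ j, Finset.smul_sum]
        exact Finset.sum_congr rfl fun k _ => mul_smul _ _ _
      rw [Finset.sum_congr rfl fun j _ => h1 j, hP i]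
      simp [Matrix.one_apply, ite_smul]
    have hdet : IsUnit (Matrix.of P * Matrix.of Q).det :=
      isUnit_det_of_nilpotent_sub_one _ fun i k => hrel _ (hPQ i) k
    rw [Matrix.det_mul, IsUnit.mul_iff] at hdet
    refine ⟨Matrix.of P, Matrix.of Q, (Matrix.isUnit_iff_isUnit_det _).2 hdet.1,
      (Matrix.isUnit_iff_isUnit_det _).2 hdet.2, fun i => (hP i).symm, fun j => (hQ j).symm⟩
  obtain ⟨P, -, hPu, -, hP, -⟩ := key m hm
  obtain ⟨-, Q', -, hQ'u, -, hQ'⟩ := key m' hm'
  refine ⟨Q' * P, hQ'u.mul hPu, fun j => ?_⟩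
  rw [hQ' j]
  simp only [Matrix.mul_apply, Finset.sum_smul]
  rw [Finset.sum_comm]
  refine Finset.sum_congr rfl fun k _ => ?_
  rw [hP k, Finset.smul_sum]
  exact Finset.sum_congr rfl fun i _ => (mul_smul _ _ _).symm

end Groth.Agent.S14043
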