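import Groth.Statements.S14044
import Groth.Agent.S14038
import Mathlib
-- import your own Groth.Agent.* helpers here

set_option autoImplicit false
universe u
open W4c1frobunstiva

namespace Groth.Agent.S14044

/-- the subring `k[[t^p]]` of power series supported in degrees divisible by `p` -/
def Sp (k : Type u) [Field k] (p : ℕ) : Subring (PowerSeries k) where
  carrier := {f | ∀ n, ¬ p ∣ n → PowerSeries.coeff n f = 0}
  mul_mem' := by
    intro f g hf hg n hn
    rw [PowerSeries.coeff_mul]
    apply Finset.sum_eq_zero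
    rintro ⟨a, b⟩ hab
    have hab' : a + b = n := by simpa using hab
    by_cases ha : p ∣ a
    · have hb : ¬ p ∣ b := by
        intro hb; apply hn; rw [← hab']; exact dvd_add ha hb
      simp only [hg b hb, mul_zero]
    · simp only [hf a ha, zero_mul]
  one_mem' := by
    intro n hn
    rw [PowerSeries.coeff_one, if_neg]
    rintro rfl; exact hn (dvd_zero p)
  add_mem' := by
    intro f g hf hg n hn
    rw [map_add, hf n hn, hg n hn, add_zero]
  zero_mem' := by intro n _; simp
  neg_mem' := by
    intro f hf n hn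
    rw [map_neg, hf n hn, neg_zero]

theorem mem_Sp {k : Type u} [Field k] {p : ℕ} {f : PowerSeries k} :
    f ∈ Sp k p ↔ ∀ n, ¬ p ∣ n → PowerSeries.coeff n f = 0 := Iff.rfl

/-- equivalence of matrices by row operations and `k[[t^p]]`-column operations -/
def MRel {k : Type u} [Field k] (p r : ℕ) (R R' : Matrix (Fin r) (Fin r) (PowerSeries k)) : Prop :=
  ∃ N P : Matrix (Fin r) (Fin r) (PowerSeries k), IsUnit N ∧ IsUnit P ∧ (∀ i j, P i j ∈ Sp k p) ∧
    R' = N * R * P

theorem MRel.refl {k : Type u} [Field k] (p r : ℕ) (R : Matrix (Fin r) (Fin r) (PowerSeries k)) :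
    MRel p r R R := by
  refine ⟨1, 1, isUnit_one, isUnit_one, ?_, by simp⟩
  intro i j
  by_cases h : i = j
  · subst h; simp only [Matrix.one_apply_eq]; exact Subring.one_mem _
  · simp only [Matrix.one_apply_ne h]; exact Subring.zero_mem _

theorem MRel.trans {k : Type u} [Field k] {p r : ℕ} {R R' R'' : Matrix (Fin r) (Fin r) (PowerSeries k)}
    (h1 : MRel p r R R') (h2 : MRel p r R' R'') : MRel p r R R'' := by
  obtain ⟨N, P, hN, hP, hPS, rfl⟩ := h1
  obtain ⟨N', P', hN', hP', hPS', rfl⟩ := h2
  refine ⟨N' * N, P * P', hN'.mul hN, hP.mul hP', ?_, by simp only [Matrix.mul_assoc]⟩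
  intro i j
  rw [Matrix.mul_apply]
  exact Subring.sum_mem _ (fun l _ => Subring.mul_mem _ (hPS i l) (hPS' l j))

/-- upper triangular with prescribed monomial diagonal -/
def UT {k : Type u} [Field k] {r : ℕ} (e : Fin r → ℕ) (R : Matrix (Fin r) (Fin r) (PowerSeries k)) : Prop :=
  (∀ i, R i i = PowerSeries.X ^ e i) ∧ (∀ i j, j < i → R i j = 0)

/-- the entry has only allowed terms -/
def Good {k : Type u} [Field k] (p a b : ℕ) (f : PowerSeries k) : Prop :=
  ∀ n, (b ≤ n ∨ (a ≤ n ∧ n % p = a % p)) → PowerSeries.coeff n f = 0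

/-- power series arithmetic: kill the bad terms -/
theorem kill {k : Type u} [Field k] (p a b : ℕ) (A : PowerSeries k) :
    ∃ c q : PowerSeries k, c ∈ Sp k p ∧
      Good p a b (A + c * PowerSeries.X ^ a + (-q) * PowerSeries.X ^ b) := by
  refine ⟨-PowerSeries.mk fun n => if p ∣ n ∧ n + a < b then PowerSeries.coeff (n + a) A else 0,
    PowerSeries.mk fun n => PowerSeries.coeff (n + b) A, ?_, ?_⟩
  · intro n hn
    rw [map_neg, PowerSeries.coeff_mk, if_neg (fun h => hn h.1), neg_zero]
  · intro n hn
    rw [map_add, map_add]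
    by_cases hb : b ≤ n
    · obtain ⟨m, rfl⟩ := Nat.exists_eq_add_of_le' hb
      rw [PowerSeries.coeff_mul_X_pow, map_neg, PowerSeries.coeff_mk]
      have : PowerSeries.coeff (m + b) ((-PowerSeries.mk fun n => if p ∣ n ∧ n + a < b then
          PowerSeries.coeff (n + a) A else 0) * PowerSeries.X ^ a) = 0 := by
        by_cases ha : a ≤ m + b
        · obtain ⟨m', hm'⟩ := Nat.exists_eq_add_of_le' ha
          rw [hm', PowerSeries.coeff_mul_X_pow, map_neg, PowerSeries.coeff_mk, if_neg, neg_zero]
          rintro ⟨-, h⟩; omega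
        · rw [PowerSeries.coeff_mul_X_pow', if_neg ha]
      rw [this]; ring
    · have hn' : a ≤ n ∧ n % p = a % p := hn.resolve_left hb
      obtain ⟨m, rfl⟩ := Nat.exists_eq_add_of_le' hn'.1
      have hpm : p ∣ m := by
        have := (Nat.modEq_iff_dvd' (Nat.le_add_left a m)).mp hn'.2.symm
        simpa using this
      rw [PowerSeries.coeff_mul_X_pow, map_neg, PowerSeries.coeff_mk, if_pos ⟨hpm, by omega⟩,
        PowerSeries.coeff_mul_X_pow', if_neg hb]
      ring

theorem isUnit_transvection {k : Type u} [Field k] {r : ℕ} (i j : Fin r) (hij : i ≠ j)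
    (c : PowerSeries k) : IsUnit (Matrix.transvection i j c) := by
  rw [Matrix.isUnit_iff_isUnit_det, Matrix.det_transvection_of_ne i j hij]
  exact isUnit_one

theorem transvection_mem {k : Type u} [Field k] {p r : ℕ} (i j : Fin r)
    (c : PowerSeries k) (hc : c ∈ Sp k p) (a b : Fin r) : Matrix.transvection i j c a b ∈ Sp k p := by
  unfold Matrix.transvection
  rw [Matrix.add_apply]
  apply Subring.add_mem
  · by_cases h : a = b
    · subst h; simp only [Matrix.one_apply_eq]; exact Subring.one_mem _
    · simp only [Matrix.one_apply_ne h]; exact Subring.zero_mem _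
  · rw [Matrix.single_apply]
    split_ifs
    · exact hc
    · exact Subring.zero_mem _

theorem step {k : Type u} [Field k] (p r : ℕ) (e : Fin r → ℕ)
    (R : Matrix (Fin r) (Fin r) (PowerSeries k)) (hR : UT e R) (i j : Fin r) (hij : i < j) :
    ∃ R' : Matrix (Fin r) (Fin r) (PowerSeries k), MRel p r R R' ∧ UT e R' ∧
      Good p (e i) (e j) (R' i j) ∧
      ∀ l m : Fin r, (m < j ∨ (m = j ∧ i < l)) → R' l m = R l m := by
  obtain ⟨c, q, hc, hgood⟩ := kill p (e i) (e j) (R i j)
  have hne : i ≠ j := ne_of_lt hij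
  set R₁ := R * Matrix.transvection i j c with hR₁
  set R' := Matrix.transvection i j (-q) * R₁ with hR'
  have h1 : ∀ l m, m ≠ j → R₁ l m = R l m := fun l m hm =>
    Matrix.mul_transvection_apply_of_ne i j l m hm c R
  have h1j : ∀ l, R₁ l j = R l j + c * R l i := fun l =>
    Matrix.mul_transvection_apply_same i j l c R
  have h2 : ∀ l m, l ≠ i → R' l m = R₁ l m := fun l m hl =>
    Matrix.transvection_mul_apply_of_ne i j l m hl (-q) R₁
  have h2i : ∀ m, R' i m = R₁ i m + (-q) * R₁ j m := fun m =>
    Matrix.transvection_mul_apply_same i j m (-q) R₁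
  have hji : R j i = 0 := hR.2 j i hij
  refine ⟨R', ⟨Matrix.transvection i j (-q), Matrix.transvection i j c, isUnit_transvection i j hne _,
    isUnit_transvection i j hne _, transvection_mem i j c hc, ?_⟩, ⟨?_, ?_⟩, ?_, ?_⟩
  · rw [hR', hR₁, Matrix.mul_assoc]
  · intro a
    by_cases ha : a = i
    · subst ha
      rw [h2i, h1 a a hne, h1 j a hne, hji, mul_zero, add_zero]
      exact hR.1 a
    · rw [h2 a a ha]
      by_cases haj : a = j
      · subst haj
        rw [h1j, hji, mul_zero, add_zero]
        exact hR.1 a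
      · rw [h1 a a haj]
        exact hR.1 a
  · intro a b hba
    by_cases ha : a = i
    · subst ha
      have hbj : b ≠ j := ne_of_lt (hba.trans hij)
      rw [h2i, h1 a b hbj, h1 j b hbj, hR.2 a b hba, hR.2 j b (hba.trans hij), mul_zero, add_zero]
    · rw [h2 a b ha]
      by_cases hbj : b = j
      · subst hbj
        rw [h1j, hR.2 a b hba, hR.2 a i (hij.trans hba), mul_zero, add_zero]
      · rw [h1 a b hbj]
        exact hR.2 a b hba
  · have : R' i j = R i j + c * PowerSeries.X ^ e i + (-q) * PowerSeries.X ^ e j := by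
      rw [h2i, h1j, h1j, hji, mul_zero, add_zero, hR.1 i, hR.1 j]
    rw [this]
    exact hgood
  · rintro l m (hm | ⟨rfl, hl⟩)
    · have hmj : m ≠ j := ne_of_lt hm
      by_cases hl : l = i
      · subst hl
        rw [h2i, h1 l m hmj, h1 j m hmj, hR.2 j m hm, mul_zero, add_zero]
      · rw [h2 l m hl, h1 l m hmj]
    · rw [h2 l m (ne_of_gt hl), h1j, hR.2 l i hl, mul_zero, add_zero]

theorem column {k : Type u} [Field k] (p r : ℕ) (e : Fin r → ℕ) (j : Fin r) (d : ℕ) :
    d ≤ j.val → ∀ (R : Matrix (Fin r) (Fin r) (PowerSeries k)), UT e R →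
    ∃ R' : Matrix (Fin r) (Fin r) (PowerSeries k), MRel p r R R' ∧ UT e R' ∧
      (∀ l : Fin r, j.val - d ≤ l.val → l < j → Good p (e l) (e j) (R' l j)) ∧
      ∀ l m : Fin r, m < j → R' l m = R l m := by
  induction d with
  | zero =>
    intro _ R hR
    refine ⟨R, MRel.refl p r R, hR, ?_, fun _ _ _ => rfl⟩
    intro l hl hlj
    exfalso
    have : l.val < j.val := hlj
    omega
  | succ d ih =>
    intro hd R hR
    obtain ⟨R₁, hrel₁, hUT₁, hgood₁, heq₁⟩ := ih (by omega) R hR
    have hi : j.val - (d + 1) < r := lt_of_le_of_lt (Nat.sub_le _ _) j.isLt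
    set i : Fin r := ⟨j.val - (d + 1), hi⟩ with hidef
    have hij : i < j := by
      rw [Fin.lt_def]; simp only [hidef]; omega
    obtain ⟨R₂, hrel₂, hUT₂, hgood₂, heq₂⟩ := step p r e R₁ hUT₁ i j hij
    refine ⟨R₂, hrel₁.trans hrel₂, hUT₂, ?_, ?_⟩
    · intro l hl hlj
      by_cases hli : l = i
      · subst hli; exact hgood₂
      · have hil : i < l := by
          rw [Fin.lt_def]
          have : l.val ≠ i.val := fun h => hli (Fin.ext h)
          simp only [hidef] at this ⊢
          omega
        rw [heq₂ l j (Or.inr ⟨rfl, hil⟩)]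
        apply hgood₁ l _ hlj
        have : i.val < l.val := hil
        simp only [hidef] at this
        omega
    · intro l m hm
      rw [heq₂ l m (Or.inl hm), heq₁ l m hm]

theorem allcols {k : Type u} [Field k] (p r : ℕ) (e : Fin r → ℕ)
    (H : Matrix (Fin r) (Fin r) (PowerSeries k)) (hH : UT e H) (j : ℕ) :
    j ≤ r → ∃ R' : Matrix (Fin r) (Fin r) (PowerSeries k), MRel p r H R' ∧ UT e R' ∧
      ∀ l m : Fin r, l < m → m.val < j → Good p (e l) (e m) (R' l m) := by
  induction j with
  | zero =>
    intro _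
    exact ⟨H, MRel.refl p r H, hH, fun l m _ hm => absurd hm (Nat.not_lt_zero _)⟩
  | succ j ih =>
    intro hj
    obtain ⟨R₁, hrel₁, hUT₁, hgood₁⟩ := ih (by omega)
    obtain ⟨R₂, hrel₂, hUT₂, hgood₂, heq₂⟩ := column p r e ⟨j, by omega⟩ j (le_refl _) R₁ hUT₁
    refine ⟨R₂, hrel₁.trans hrel₂, hUT₂, ?_⟩
    intro l m hlm hm
    by_cases hmj : m.val < j
    · rw [heq₂ l m (by rw [Fin.lt_def]; exact hmj)]
      exact hgood₁ l m hlm hmj
    · have hmeq : m = ⟨j, by omega⟩ := Fin.ext (by simp only; omega)
      rw [hmeq] at hlm ⊢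
      exact hgood₂ l (by simp) hlm

/-- Let k be a field, p a prime number and M a square matrix of size r over k[[t]] with non-zero
determinant. Allowing, besides invertible row operations over k[[t]], invertible column operations
by matrices with entries in k[[t^p]] (power series whose coefficients vanish in all degrees not
divisible by p), M can be brought to a row-reduced form — upper triangular, diagonal entries
t^{e_i}, entries above the diagonal in column j polynomials of degree less than e_j — in which in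
addition the (i, j) entry (i < j) has no term in a degree that is at least e_i and congruent to e_i
modulo p. (Existence only; the form is not unique. The published statement asks that no term in any
degree congruent to e_i modulo p remain; the published reduction — adding k[[t^p]]-multiples of
column i to column j — removes exactly the terms of degree at least e_i, which is what is asserted
here. The published statement takes k algebraically closed of characteristic p, where k[[t^p]] is
the ring of p-th powers; neither assumption is used.) -/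
theorem result (k : Type u)
    [Field k] (p : ℕ) [Fact p.Prime] (r : ℕ) (M : Matrix (Fin r) (Fin r) (PowerSeries k))
    (hM : M.det ≠ 0) :
    ∃ (N P : Matrix (Fin r) (Fin r) (PowerSeries k)) (e : Fin r → ℕ), IsUnit N ∧ IsUnit P ∧
      (∀ i j n, ¬ p ∣ n → PowerSeries.coeff n (P i j) = 0) ∧
      (∀ i, (N * M * P) i i = PowerSeries.X ^ e i) ∧ (∀ i j, j < i → (N * M * P) i j = 0) ∧
      (∀ i j, i < j → ∀ n, (e j ≤ n ∨ (e i ≤ n ∧ n % p = e i % p)) →
        PowerSeries.coeff n ((N * M * P) i j) = 0) := by
  obtain ⟨H, ⟨⟨e, hdiag, hlow, -⟩, N₀, hN₀, hN₀M⟩, -⟩ := Groth.Agent.S14038.result k r M hM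
  obtain ⟨R', ⟨N, P, hN, hP, hPS, hR'⟩, hUT, hgood⟩ := allcols p r e H ⟨hdiag, hlow⟩ r (le_refl _)
  have hfin : N * N₀ * M * P = R' := by
    rw [hR', ← hN₀M, Matrix.mul_assoc N N₀ M]
  refine ⟨N * N₀, P, e, hN.mul hN₀, hP, fun i j n hn => hPS i j n hn, ?_, ?_, ?_⟩
  · intro i; rw [hfin]; exact hUT.1 i
  · intro i j hji; rw [hfin]; exact hUT.2 i j hji
  · intro i j hij n hn
    rw [hfin]
    exact hgood i j hij j.isLt n hn

end Groth.Agent.S14044
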