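import Groth.Statements.S14046
import Mathlib

set_option autoImplicit false
universe u v w
open W4c1frobunstiva

namespace Groth.Agent.S14046

open TensorProduct in
/-- Let R → A be a homomorphism of commutative rings and I, J ideals of A with I ∩ J = 0 — so that A is
the fibre product of A/I and A/J over A/(I + J), i.e. Spec A is the union of the two closed
subschemes in the strong sense — and suppose A/(I + J) is flat over R. Then this persists under
every base change: for every commutative R-algebra R', the ideals generated by I and J in R' ⊗_R A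
again meet in 0. (This is the ideal-theoretic, affine form of the base-change step; the exact
sequence of unit sheaves deduced from it in the published statement — restriction of units to a
closed subscheme being surjective locally — is not restated. Without flatness of A/(I + J) the
conclusion fails: for A = k[x, y]/(xy) over R = k[u] with u ↦ x + y, I = (x) and J = (y), the base
change to R/(u) gives k[x]/(x²), in which both ideals become (x).) -/
theorem result (R : Type u) (A : Type v)
    [CommRing R] [CommRing A] [Algebra R A] (I J : Ideal A) (hIJ : I ⊓ J = ⊥)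
    [Module.Flat R (A ⧸ (I ⊔ J))] (R' : Type w) [CommRing R'] [Algebra R R'] :
    I.map (Algebra.TensorProduct.includeRight : A →ₐ[R] R' ⊗[R] A) ⊓
      J.map (Algebra.TensorProduct.includeRight : A →ₐ[R] R' ⊗[R] A) = ⊥ := by
  -- the two quotient maps as `R`-linear maps
  let qI : A →ₗ[R] A ⧸ I := (Ideal.Quotient.mkₐ R I).toLinearMap
  let qJ : A →ₗ[R] A ⧸ J := (Ideal.Quotient.mkₐ R J).toLinearMap
  let g : A →ₗ[R] (A ⧸ I) × (A ⧸ J) := qI.prod qJ
  let pI : (A ⧸ I) →ₗ[R] A ⧸ (I ⊔ J) :=
    (Ideal.Quotient.factorₐ R (le_sup_left : I ≤ I ⊔ J)).toLinearMap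
  let pJ : (A ⧸ J) →ₗ[R] A ⧸ (I ⊔ J) :=
    (Ideal.Quotient.factorₐ R (le_sup_right : J ≤ I ⊔ J)).toLinearMap
  let f : (A ⧸ I) × (A ⧸ J) →ₗ[R] A ⧸ (I ⊔ J) := pI.coprod (-pJ)
  have hf : Function.Surjective f := by
    intro y
    obtain ⟨a, rfl⟩ := Ideal.Quotient.mk_surjective y
    exact ⟨(Ideal.Quotient.mk I a, 0), by simp [f, pI]⟩
  have hg : Function.Injective g := by
    rw [← LinearMap.ker_eq_bot, LinearMap.ker_eq_bot']
    intro a ha
    have h1 : a ∈ I := by
      have := congrArg Prod.fst ha
      simpa [g, qI, Ideal.Quotient.eq_zero_iff_mem] using this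
    have h2 : a ∈ J := by
      have := congrArg Prod.snd ha
      simpa [g, qJ, Ideal.Quotient.eq_zero_iff_mem] using this
    have : a ∈ I ⊓ J := ⟨h1, h2⟩
    rwa [hIJ] at this
  have hex : Function.Exact g f := by
    intro xy
    constructor
    · rintro hxy
      obtain ⟨x, y⟩ := xy
      obtain ⟨x, rfl⟩ := Ideal.Quotient.mk_surjective x
      obtain ⟨y, rfl⟩ := Ideal.Quotient.mk_surjective y
      have : x - y ∈ I ⊔ J := by
        rw [← Ideal.Quotient.eq_zero_iff_mem, map_sub]
        simpa [f, pI, pJ, sub_eq_add_neg] using hxy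
      obtain ⟨i, hi, j, hj, hij⟩ := Submodule.mem_sup.1 this
      refine ⟨x - i, ?_⟩
      refine Prod.ext ?_ ?_
      · change Ideal.Quotient.mk I (x - i) = Ideal.Quotient.mk I x
        rw [Ideal.Quotient.eq]; simpa using I.neg_mem hi
      · change Ideal.Quotient.mk J (x - i) = Ideal.Quotient.mk J y
        rw [Ideal.Quotient.eq]
        have : x - i - y = j := by
          have : x - i - y = (x - y) - i := by ring
          rw [this, ← hij]; ring
        rw [this]; exact hj
    · rintro ⟨a, rfl⟩
      simp [f, g, pI, pJ, qI, qJ]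
  have hinj := LinearMap.lTensor_injective_of_exact_of_flat f hf g hg hex R'
  -- the algebra maps
  let φI : R' ⊗[R] A →ₐ[R] R' ⊗[R] (A ⧸ I) :=
    Algebra.TensorProduct.map (AlgHom.id R R') (Ideal.Quotient.mkₐ R I)
  let φJ : R' ⊗[R] A →ₐ[R] R' ⊗[R] (A ⧸ J) :=
    Algebra.TensorProduct.map (AlgHom.id R R') (Ideal.Quotient.mkₐ R J)
  have hφI : I.map (Algebra.TensorProduct.includeRight : A →ₐ[R] R' ⊗[R] A) ≤
      RingHom.ker φI.toRingHom := by
    rw [Ideal.map_le_iff_le_comap]
    intro a ha
    rw [Ideal.mem_comap, RingHom.mem_ker]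
    change φI (1 ⊗ₜ a) = 0
    simp [φI, Ideal.Quotient.eq_zero_iff_mem.2 ha]
  have hφJ : J.map (Algebra.TensorProduct.includeRight : A →ₐ[R] R' ⊗[R] A) ≤
      RingHom.ker φJ.toRingHom := by
    rw [Ideal.map_le_iff_le_comap]
    intro a ha
    rw [Ideal.mem_comap, RingHom.mem_ker]
    change φJ (1 ⊗ₜ a) = 0
    simp [φJ, Ideal.Quotient.eq_zero_iff_mem.2 ha]
  have hcomp : ∀ z : R' ⊗[R] A,
      TensorProduct.prodRight R R R' (A ⧸ I) (A ⧸ J) (g.lTensor R' z) = (φI z, φJ z) := by
    intro z
    induction z using TensorProduct.induction_on with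
    | zero => simp only [map_zero]; rfl
    | add a b ha hb => rw [map_add, map_add, ha, hb, map_add, map_add]; rfl
    | tmul r a => simp [g, qI, qJ, φI, φJ]
  rw [eq_bot_iff]
  rintro z ⟨hzI, hzJ⟩
  have h1 : φI z = 0 := hφI hzI
  have h2 : φJ z = 0 := hφJ hzJ
  have h3 : g.lTensor R' z = 0 := by
    apply (TensorProduct.prodRight R R R' (A ⧸ I) (A ⧸ J)).injective
    rw [hcomp, h1, h2, map_zero]; rfl
  rw [Ideal.mem_bot]
  apply hinj
  rw [h3, map_zero]

end Groth.Agent.S14046
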