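import Groth.Statements.S14048
import Mathlib.NumberTheory.Padics.PadicNorm
import Mathlib.Algebra.Polynomial.Taylor
import Mathlib.RingTheory.Localization.BaseChange
import Mathlib.RingTheory.IsTensorProduct
import Mathlib.RingTheory.Noetherian.Basic
import Mathlib.Tactic

set_option autoImplicit false
universe u
open TensorProduct
open CAlg

namespace Groth.Agent.S14048

open Polynomial

section

variable {A : Type u} [CommRing A] (t : A)
  (h1 : Function.Bijective (Polynomial.aeval (R := ℚ) ((1 : ℚ) ⊗ₜ[ℤ] t : ℚ ⊗[ℤ] A)))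

/-- the isomorphism `ℚ[X] ≃ ℚ ⊗ A`. -/
noncomputable def e : ℚ[X] ≃ₐ[ℚ] ℚ ⊗[ℤ] A :=
  AlgEquiv.ofBijective (Polynomial.aeval (R := ℚ) ((1 : ℚ) ⊗ₜ[ℤ] t : ℚ ⊗[ℤ] A)) h1

/-- the embedding `A → ℚ[X]`. -/
noncomputable def ι : A →+* ℚ[X] :=
  ((e t h1).symm : ℚ ⊗[ℤ] A →+* ℚ[X]).comp
    (Algebra.TensorProduct.includeRight : A →ₐ[ℤ] ℚ ⊗[ℤ] A).toRingHom

lemma e_ι (a : A) : e t h1 (ι t h1 a) = (1 : ℚ) ⊗ₜ[ℤ] a := by
  simp [ι]

lemma ι_t : ι t h1 t = X := by
  apply (e t h1).injective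
  rw [e_ι]
  simp [e]

instance locMod : IsLocalizedModule (nonZeroDivisors ℤ) (TensorProduct.mk ℤ ℚ A 1) :=
  (isLocalizedModule_iff_isBaseChange (nonZeroDivisors ℤ) ℚ _).mpr
    (TensorProduct.isBaseChange ℤ A ℚ)

/-- every polynomial is, up to a nonzero integer multiple, in the image of `ι`. -/
lemma exists_int_mul_eq_ι (h : ℚ[X]) : ∃ m : ℤ, m ≠ 0 ∧ ∃ c : A, (m : ℚ[X]) * h = ι t h1 c := by
  obtain ⟨⟨c, m⟩, hm⟩ := IsLocalizedModule.surj (nonZeroDivisors ℤ)
    (TensorProduct.mk ℤ ℚ A 1) (e t h1 h)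
  refine ⟨m, nonZeroDivisors.ne_zero m.2, c, ?_⟩
  apply (e t h1).injective
  rw [e_ι, map_mul]
  have : (e t h1) ((m : ℤ) : ℚ[X]) = ((m : ℤ) : ℚ ⊗[ℤ] A) := map_intCast _ _
  rw [this]
  simp only [TensorProduct.mk_apply] at hm
  rw [← hm, Submonoid.smul_def, zsmul_eq_mul]

/-- `ℤ[1/2] → ℚ`. -/
noncomputable def j : Localization.Away (2 : ℤ) →+* ℚ :=
  IsLocalization.Away.lift (2 : ℤ) (g := Int.castRingHom ℚ) (by simp [isUnit_iff_ne_zero])

lemma j_algebraMap (z : ℤ) : j (algebraMap ℤ (Localization.Away (2 : ℤ)) z) = z := by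
  simp [j, IsLocalization.Away.lift_eq]

variable (s : A →+* Localization.Away (2 : ℤ)) (hs : s t = 1)

include hs in
lemma eval_one_ι (f : A) : (ι t h1 f).eval 1 = j (s f) := by
  let ψ : ℚ ⊗[ℤ] A →ₐ[ℚ] ℚ :=
    Algebra.TensorProduct.lift (Algebra.ofId ℚ ℚ) ((j.comp s).toIntAlgHom)
      (fun _ _ => Commute.all _ _)
  have h2 : ψ.comp (e t h1 : ℚ[X] →ₐ[ℚ] ℚ ⊗[ℤ] A) = Polynomial.aeval (1 : ℚ) := by
    apply Polynomial.algHom_ext
    simp [ψ, e, hs]
  have h3 := congrArg (fun φ => φ (ι t h1 f)) h2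
  simp only [AlgHom.comp_apply, AlgEquiv.coe_algHom, e_ι] at h3
  rw [← Polynomial.coe_aeval_eq_eval, ← h3]
  simp [ψ]

include hs in
lemma exists_uniform [IsNoetherianRing A] : ∃ N : ℤ, N ≠ 0 ∧ ∀ f ∈ RingHom.ker s,
    ∃ g : A, (N : ℚ[X]) * ι t h1 f = (X - 1) * ι t h1 g := by
  classical
  obtain ⟨G, hG⟩ := IsNoetherian.noetherian (RingHom.ker s)
  have key : ∀ g₀ : A, ∃ m : ℤ, m ≠ 0 ∧
      (s g₀ = 0 → ∃ c : A, (m : ℚ[X]) * ι t h1 g₀ = (X - 1) * ι t h1 c) := by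
    intro g₀
    by_cases h0 : s g₀ = 0
    · have hroot : (ι t h1 g₀).IsRoot 1 := by
        rw [Polynomial.IsRoot, eval_one_ι t h1 s hs, h0, map_zero]
      obtain ⟨h, hh⟩ := Polynomial.dvd_iff_isRoot.2 hroot
      obtain ⟨m, hm, c, hc⟩ := exists_int_mul_eq_ι t h1 h
      refine ⟨m, hm, fun _ => ⟨c, ?_⟩⟩
      rw [hh, ← hc, map_one]
      ring
    · exact ⟨1, one_ne_zero, fun h => absurd h h0⟩
  choose m hm0 hm using key
  refine ⟨∏ g₀ ∈ G, m g₀, Finset.prod_ne_zero_iff.2 (fun g₀ _ => hm0 g₀), ?_⟩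
  set N : ℤ := ∏ g₀ ∈ G, m g₀ with hN
  let J : Ideal A :=
    { carrier := {f | ∃ g : A, (N : ℚ[X]) * ι t h1 f = (X - 1) * ι t h1 g}
      add_mem' := by
        rintro a b ⟨ga, ha⟩ ⟨gb, hb⟩
        exact ⟨ga + gb, by rw [map_add, map_add, mul_add, mul_add, ha, hb]⟩
      zero_mem' := ⟨0, by simp⟩
      smul_mem' := by
        rintro c a ⟨ga, ha⟩
        refine ⟨c * ga, ?_⟩
        rw [smul_eq_mul, map_mul, map_mul, mul_left_comm, ha]
        ring }
  have hle : RingHom.ker s ≤ J := by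
    rw [← hG, Ideal.span_le]
    intro g₀ hg₀
    have hg₀' : g₀ ∈ RingHom.ker s := by rw [← hG]; exact Ideal.subset_span hg₀
    obtain ⟨c, hc⟩ := hm g₀ hg₀'
    obtain ⟨q, hq⟩ := Finset.dvd_prod_of_mem m hg₀
    refine ⟨(q : A) * c, ?_⟩
    rw [hN, hq, Int.cast_mul, mul_right_comm, hc, map_mul, map_intCast]
    ring
  exact fun f hf => hle hf

lemma padicNorm_two_pow (p : ℕ) [hp : Fact p.Prime] (hp2 : p ≠ 2) (k : ℕ) :
    padicNorm p ((2 : ℚ) ^ k) = 1 := by
  have h : ¬ p ∣ 2 ^ k := by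
    intro hd
    have := (Nat.prime_dvd_prime_iff_eq hp.out Nat.prime_two).1 (hp.out.dvd_of_dvd_pow hd)
    exact hp2 this
  have := (padicNorm.nat_eq_one_iff (p := p) (2 ^ k)).2 h
  simpa using this

lemma padicNorm_j (p : ℕ) [hp : Fact p.Prime] (hp2 : p ≠ 2) (x : Localization.Away (2 : ℤ)) :
    padicNorm p (j x) ≤ 1 := by
  obtain ⟨k, z, hz⟩ := IsLocalization.Away.surj (2 : ℤ) x
  have h := congrArg j hz
  rw [map_mul, map_pow, j_algebraMap, j_algebraMap] at h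
  have h2 := congrArg (padicNorm p) h
  rw [padicNorm.mul] at h2
  have h3 : padicNorm p (((2 : ℤ) : ℚ) ^ k) = 1 := by
    simpa using padicNorm_two_pow p hp2 k
  rw [h3, mul_one] at h2
  rw [h2]
  exact padicNorm.of_int z

include hs in
lemma taylor_coeff_integral (p : ℕ) [hp : Fact p.Prime] (hp2 : p ≠ 2) (N : ℤ)
    (hpN : ¬ (p : ℤ) ∣ N)
    (hN : ∀ f ∈ RingHom.ker s, ∃ g : A, (N : ℚ[X]) * ι t h1 f = (X - 1) * ι t h1 g) :
    ∀ (n : ℕ) (f : A), padicNorm p ((taylor 1 (ι t h1 f)).coeff n) ≤ 1 := by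
  intro n
  induction n with
  | zero =>
    intro f
    rw [taylor_coeff_zero, eval_one_ι t h1 s hs]
    exact padicNorm_j p hp2 _
  | succ n ih =>
    intro f
    obtain ⟨k, z, hz⟩ := IsLocalization.Away.surj (2 : ℤ) (s f)
    have hf₀ : (2 : A) ^ k * f - (z : A) ∈ RingHom.ker s := by
      rw [RingHom.mem_ker, map_sub, map_mul, map_pow, map_ofNat, map_intCast]
      have : algebraMap ℤ (Localization.Away (2 : ℤ)) 2 = 2 := by simp
      rw [this] at hz
      rw [mul_comm, hz]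
      simp
    obtain ⟨g, hg⟩ := hN _ hf₀
    have h2 : (taylor 1 ((N : ℚ[X]) * ι t h1 ((2 : A) ^ k * f - (z : A)))).coeff (n + 1) =
        (taylor 1 ((X - 1) * ι t h1 g)).coeff (n + 1) := by rw [hg]
    have e1 : taylor (1 : ℚ) ((X : ℚ[X]) - 1) = X := by
      rw [map_sub, taylor_X, taylor_one]; simp
    rw [taylor_mul (1 : ℚ) (X - 1), e1, coeff_X_mul] at h2
    have e2 : ((N : ℚ[X]) * ι t h1 ((2 : A) ^ k * f - (z : A))) =
        C ((N : ℚ) * 2 ^ k) * ι t h1 f - C ((N : ℚ) * z) := by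
      rw [map_sub, map_mul, map_pow, map_ofNat, map_intCast]
      simp only [map_mul, map_pow, map_intCast]
      have : (C (2 : ℚ) : ℚ[X]) = 2 := rfl
      rw [this]
      ring
    rw [e2, map_sub, taylor_mul, taylor_C, taylor_C, coeff_sub, coeff_C_mul, coeff_C_succ,
      sub_zero] at h2
    have h3 := congrArg (padicNorm p) h2
    rw [padicNorm.mul, padicNorm.mul, padicNorm_two_pow p hp2 k,
      (padicNorm.int_eq_one_iff (p := p) N).2 hpN, one_mul, one_mul] at h3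
    rw [h3]
    exact ih g

end

/-- Let A be an integral domain in which 2 is invertible and let t be an element of A, so that Spec A is
a scheme over the affine line Spec ℤ[1/2][t]. Assume that (1) the ℚ-algebra map ℚ[X] → ℚ ⊗_ℤ A
sending X to 1 ⊗ t is bijective (the map Spec A → Spec ℤ[1/2][t] becomes an isomorphism after base
change to ℚ); (2) every prime number is invertible in A/(t) (the fibre over t = 0 is of pure
characteristic zero); and (3) there is a ring homomorphism s : A → ℤ[1/2] with s(t) = 1 (the fibre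
over t = 1 admits a section). Then A is not Noetherian. -/
theorem result (A : Type u) [CommRing A]
    [IsDomain A] (h2 : IsUnit (2 : A)) (t : A)
    (h1 : Function.Bijective (Polynomial.aeval (R := ℚ) ((1 : ℚ) ⊗ₜ[ℤ] t : ℚ ⊗[ℤ] A)))
    (h0 : ∀ p : ℕ, p.Prime → IsUnit ((p : ℕ) : A ⧸ Ideal.span ({t} : Set A)))
    (s : A →+* Localization.Away (2 : ℤ)) (hs : s t = 1) :
    ¬ IsNoetherianRing A := by
  intro hNoeth
  obtain ⟨N, hN0, hN⟩ := exists_uniform t h1 s hs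
  obtain ⟨p, hpge, hpp⟩ := Nat.exists_infinite_primes (N.natAbs + 3)
  have : Fact p.Prime := ⟨hpp⟩
  have hp2 : p ≠ 2 := by omega
  have hpN : ¬ (p : ℤ) ∣ N := by
    intro hd
    have h3 : p ∣ N.natAbs := by
      have := Int.natAbs_dvd_natAbs.2 hd
      simpa using this
    have := Nat.le_of_dvd (Int.natAbs_pos.2 hN0) h3
    omega
  obtain ⟨u, hu⟩ := (h0 p hpp).exists_right_inv
  obtain ⟨a, rfl⟩ := Ideal.Quotient.mk_surjective u
  have hmem : (p : A) * a - 1 ∈ Ideal.span ({t} : Set A) := by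
    rw [← Ideal.Quotient.eq_zero_iff_mem, map_sub, map_mul, map_natCast, hu, map_one, sub_self]
  obtain ⟨b, hb⟩ := Ideal.mem_span_singleton'.1 hmem
  have h4 : (p : ℚ) * (ι t h1 a).eval 0 = 1 := by
    have h5 := congrArg (fun x => (ι t h1 x).eval 0) hb
    simp only [map_mul, map_sub, map_one, map_natCast, ι_t, eval_mul, eval_X, mul_zero, eval_sub,
      eval_natCast, eval_one] at h5
    linarith
  have h5 : padicNorm p ((ι t h1 a).eval 0) ≤ 1 := by
    have h6 : (ι t h1 a).eval 0 = (taylor 1 (ι t h1 a)).eval (0 - 1) := by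
      rw [taylor_eval_sub]
    rw [h6, eval_eq_sum_range]
    apply padicNorm.sum_le' _ zero_le_one
    intro i _
    rw [padicNorm.mul]
    have h7 := taylor_coeff_integral t h1 s hs p hp2 N hpN hN i a
    have h8 : padicNorm p (((0 : ℚ) - 1) ^ i) = 1 := by
      rcases Nat.even_or_odd i with he | ho
      · rw [zero_sub, he.neg_one_pow, padicNorm.one]
      · rw [zero_sub, ho.neg_one_pow, padicNorm.neg, padicNorm.one]
    rw [h8, mul_one]
    exact h7
  have h9 := congrArg (padicNorm p) h4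
  rw [padicNorm.mul, padicNorm.padicNorm_p hpp.one_lt, padicNorm.one] at h9
  have h10 : ((p : ℚ))⁻¹ < 1 := by
    apply inv_lt_one_of_one_lt₀
    exact_mod_cast hpp.one_lt
  have h11 : (0 : ℚ) < (p : ℚ)⁻¹ := by
    apply inv_pos.2
    exact_mod_cast hpp.pos
  nlinarith [padicNorm.nonneg (p := p) ((ι t h1 a).eval 0)]

end Groth.Agent.S14048
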