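import Mathlib
import Groth.Statements.S14049

set_option autoImplicit false
universe u
open CategoryTheory AlgebraicGeometry
open LocStr

namespace Groth.Agent.S14049

section Helpers

/-- Ring lemma: if `ψ ∘ φ` is surjective, `ker ψ ≤ J²` with `J` nilpotent, then `φ` is surjective. -/
theorem surjective_of_ker_le_sq {A B C : Type*} [CommRing A] [CommRing B] [CommRing C]
    (φ : A →+* B) (ψ : B →+* C) (J : Ideal B) (hJ : IsNilpotent J)
    (hker : RingHom.ker ψ ≤ J ^ 2) (hs : Function.Surjective (ψ.comp φ)) :
    Function.Surjective φ := by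
  -- key claim: for all k ≥ 1, every b is in range φ + J^k
  have key : ∀ k : ℕ, ∀ b : B, ∃ a : A, b - φ a ∈ J ^ (k + 1) := by
    intro k
    induction k with
    | zero =>
      intro b
      obtain ⟨a, ha⟩ := hs (ψ b)
      refine ⟨a, ?_⟩
      have : b - φ a ∈ RingHom.ker ψ := by
        rw [RingHom.mem_ker, map_sub, sub_eq_zero]
        exact ha.symm
      have h2 := hker this
      rw [zero_add, pow_one]
      exact Ideal.pow_le_self two_ne_zero h2
    | succ k ih =>
      -- J^2 ⊆ range φ + J^(k+2)
      have hsq : ∀ x ∈ J ^ 2, ∃ a : A, x - φ a ∈ J ^ (k + 1 + 1) := by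
        intro x hx
        rw [sq] at hx
        refine Submodule.mul_induction_on hx ?_ ?_
        · intro j1 hj1 j2 hj2
          obtain ⟨a1, ha1⟩ := ih j1
          obtain ⟨a2, ha2⟩ := ih j2
          refine ⟨a1 * a2, ?_⟩
          have hs1 : φ a1 ∈ J := by
            have : φ a1 = j1 - (j1 - φ a1) := by ring
            rw [this]
            exact J.sub_mem hj1 (Ideal.pow_le_self (Nat.succ_ne_zero k) ha1)
          have e : j1 * j2 - φ (a1 * a2) = φ a1 * (j2 - φ a2) + (j1 - φ a1) * j2 := by
            rw [map_mul]; ring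
          rw [e, pow_succ (n := k + 1)]
          refine Ideal.add_mem _ ?_ ?_
          · rw [mul_comm (φ a1)]
            exact Ideal.mul_mem_mul ha2 hs1
          · exact Ideal.mul_mem_mul ha1 hj2
        · intro x y ⟨a, ha⟩ ⟨b, hb⟩
          refine ⟨a + b, ?_⟩
          have : x + y - φ (a + b) = (x - φ a) + (y - φ b) := by rw [map_add]; ring
          rw [this]
          exact Ideal.add_mem _ ha hb
      intro b
      obtain ⟨a, ha⟩ := hs (ψ b)
      have : b - φ a ∈ RingHom.ker ψ := by
        rw [RingHom.mem_ker, map_sub, sub_eq_zero]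
        exact ha.symm
      obtain ⟨a', ha'⟩ := hsq _ (hker this)
      refine ⟨a + a', ?_⟩
      have e : b - φ (a + a') = b - φ a - φ a' := by rw [map_add]; ring
      rw [e]
      exact ha'
  obtain ⟨n, hn⟩ := hJ
  intro b
  obtain ⟨a, ha⟩ := key n b
  refine ⟨a, ?_⟩
  rw [pow_succ, hn, zero_mul] at ha
  have := (Submodule.mem_bot B).mp ha
  exact (sub_eq_zero.mp this).symm

end Helpers

/-- For schemes. Let f : X → Y be a morphism of schemes and let I be a quasi-coherent sheaf of ideals on
X which is nilpotent (some power of I is zero). Let X₁ ⊆ X be the closed subscheme defined by I².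
Then f is a closed immersion as soon as the composite X₁ → X → Y is one. (The published statement is
the same assertion for a morphism of algebraic stacks; it is stated here for schemes.) -/
theorem result (X Y : Scheme.{u}) (f : X ⟶ Y)
    (I : X.IdealSheafData) (hI : IsNilpotent I)
    (h : IsClosedImmersion ((I ^ 2).subschemeι ≫ f)) :
    IsClosedImmersion f := by
  obtain ⟨n, hn⟩ := hI
  have hn' : I ^ (n + 1) = 0 := by rw [pow_succ, hn, zero_mul]
  have hsupp : (I ^ 2).support = ⊤ := by
    have h1 : (I ^ (1 + 1)).support = I.support := Scheme.IdealSheafData.support_pow_succ I 1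
    have h2 : (I ^ (n + 1)).support = I.support := Scheme.IdealSheafData.support_pow_succ I n
    rw [show (2 : ℕ) = 1 + 1 from rfl, h1, ← h2, hn']
    rfl
  have hsurj : Function.Surjective (I ^ 2).subschemeι := by
    rw [← Set.range_eq_univ, Scheme.IdealSheafData.range_subschemeι, hsupp]
    rfl
  let e : (I ^ 2).subscheme ≃ₜ X :=
    (I ^ 2).subschemeι.isClosedEmbedding.isEmbedding.toHomeomorphOfSurjective hsurj
  have hf : Topology.IsClosedEmbedding f := by
    have h3 := ((I ^ 2).subschemeι ≫ f).isClosedEmbedding.comp e.symm.isClosedEmbedding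
    convert h3 using 1
    ext x
    obtain ⟨y, rfl⟩ := hsurj x
    simp only [Function.comp_apply]
    have : e.symm ((I ^ 2).subschemeι y) = y := e.symm_apply_apply y
    rw [this]
    rfl
  have haff : IsAffineHom f := isAffineHom_of_isInducing f hf.isInducing hf.isClosed_range
  refine isClosedImmersion_iff_isAffineHom.mpr ⟨haff, fun U hU => ?_⟩
  let V : X.affineOpens := ⟨f ⁻¹ᵁ U, hU.preimage f⟩
  have hs := Scheme.Hom.app_surjective ((I ^ 2).subschemeι ≫ f) U hU
  have hcomp : (((I ^ 2).subschemeι ≫ f).app U).hom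
      = ((I ^ 2).subschemeι.app V.1).hom.comp (f.app U).hom := by
    rw [Scheme.Hom.comp_app]
    rfl
  refine Groth.Agent.S14049.surjective_of_ker_le_sq (f.app U).hom
    ((I ^ 2).subschemeι.app V.1).hom (I.ideal V) ⟨n, ?_⟩ ?_ ?_
  · have : (I ^ n).ideal V = (I.ideal V) ^ n := by
      rw [Scheme.IdealSheafData.ideal_pow]; rfl
    rw [← this, hn]
    rfl
  · rw [Scheme.IdealSheafData.ker_subschemeι_app, Scheme.IdealSheafData.ideal_pow]
    rfl
  · rw [← hcomp]
    exact hs

end Groth.Agent.S14049
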