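import Groth.Statements.S1405
import Groth.Agent.Lib.NoethDescent
import Mathlib.RingTheory.RingHom.EssFiniteType

set_option autoImplicit false
universe u
open FlatMor

namespace Groth.Agent.S1405

open AlgebraicGeometry CategoryTheory Limits in
/-- Let Y' → Y be flat, locally of finite presentation and surjective and f' the base change of f : X →
Y. Then all fibres of f are locally Noetherian if and only if all fibres of f' are. -/
theorem result {X Y X' Y' : Scheme.{u}} (f : X ⟶ Y) (f' : X' ⟶ Y') (g' : X' ⟶ X) (g : Y' ⟶ Y) [Flat g] [LocallyOfFinitePresentation g] [Surjective g]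
    (hc : IsPullback g' f' f g) :
    (∀ y : Y, IsLocallyNoetherian (f.fiber y)) ↔ ∀ y' : Y', IsLocallyNoetherian (f'.fiber y') := by
  have sq : ∀ y' : Y', ∃ (m : pullback f' (Y'.fromSpecResidueField y') ⟶
      pullback f (Y.fromSpecResidueField (g y'))) (p : _) (q : _),
      IsPullback m p q (Spec.map (g.residueFieldMap y')) := fun y' =>
    ⟨_, _, _, isPullback_fiberToSpecResidueField_of_isPullback hc y'⟩
  have hess : ∀ y' : Y', (g.residueFieldMap y').hom.EssFiniteType := fun y' =>
    RingHom.EssFiniteType.residueFieldMap (LocallyOfFiniteType.stalkMap g y')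
  constructor
  · intro h y'
    obtain ⟨m, p, q, hsq⟩ := sq y'
    have : IsLocallyNoetherian (pullback f (Y.fromSpecResidueField (g y'))) := h (g y')
    change IsLocallyNoetherian (pullback f' (Y'.fromSpecResidueField y'))
    exact Lib.NoethDescent.isLocallyNoetherian_of_isPullback_SpecMap (g.residueFieldMap y')
      (hess y') m p q hsq
  · intro h y
    obtain ⟨y', rfl⟩ := g.surjective y
    obtain ⟨m, p, q, hsq⟩ := sq y'
    have : IsLocallyNoetherian (pullback f' (Y'.fromSpecResidueField y')) := h y'
    have hfl : Flat (Spec.map (g.residueFieldMap y')) := inferInstance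
    have hsu : Surjective (Spec.map (g.residueFieldMap y')) := inferInstance
    have hqc : QuasiCompact (Spec.map (g.residueFieldMap y')) := inferInstance
    have : Flat m := MorphismProperty.of_isPullback (P := @Flat) hsq.flip hfl
    have : Surjective m := MorphismProperty.of_isPullback (P := @Surjective) hsq.flip hsu
    have : QuasiCompact m := MorphismProperty.of_isPullback (P := @QuasiCompact) hsq.flip hqc
    change IsLocallyNoetherian (pullback f (Y.fromSpecResidueField (g y')))
    exact Lib.NoethDescent.isLocallyNoetherian_of_fpqc m

end Groth.Agent.S1405
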