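import Groth.Statements.S14051
import Mathlib.Algebra.Module.GradedModule
import Mathlib.Tactic.Ring
import Mathlib.Tactic.Linarith

set_option autoImplicit false
universe u
open CAlg

namespace Groth.Agent.S14051

section helpers

variable {R : Type u} [CommRing R] {A : Type u} [CommRing A] [Algebra R A]
  (𝒜 : ℕ → Submodule R A) [GradedAlgebra 𝒜]

lemma pow_le_piece (n : ℕ) : 𝒜 1 ^ n ≤ 𝒜 n := by
  induction n with
  | zero =>
    rw [pow_zero, Submodule.one_le]
    exact SetLike.one_mem_graded 𝒜
  | succ n ih =>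
    rw [pow_succ]
    refine (mul_le_mul' ih le_rfl).trans ?_
    rw [Submodule.mul_le]
    intro x hx y hy
    exact SetLike.mul_mem_graded hx hy

lemma piece_add_eq (hA : ∀ n : ℕ, 𝒜 (n + 1) = 𝒜 1 * 𝒜 n) (i j : ℕ) :
    𝒜 (i + j) = 𝒜 i * 𝒜 j := by
  apply le_antisymm
  · have h1 : ∀ i : ℕ, 𝒜 (i + j) = 𝒜 1 ^ i * 𝒜 j := by
      intro i
      induction i with
      | zero => rw [zero_add, pow_zero, one_mul]
      | succ i ih =>
        rw [show i + 1 + j = (i + j) + 1 by ring, hA, ih, pow_succ', mul_assoc]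
    rw [h1 i]
    exact mul_le_mul' (pow_le_piece 𝒜 i) le_rfl
  · rw [Submodule.mul_le]
    intro x hx y hy
    exact SetLike.mul_mem_graded hx hy

end helpers

/-- Let A be a commutative ℕ-graded algebra over a base ring R which is generated by A_1 as an
A_0-algebra, written as A_{n+1} = A_1 · A_n for every n, and let M be a graded A-module: an A-module
with R-submodules M_n giving a direct-sum decomposition and A_i · M_j ⊆ M_{i+j}. If M is spanned
over A by a set of homogeneous elements all of degree at most n₀, then for every n ≥ n₀ and every k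
≥ 0 the degree-(n+k) part of M is A_k · M_n. -/
theorem result
    (R : Type u) [CommRing R] (A : Type u) [CommRing A] [Algebra R A]
    (𝒜 : ℕ → Submodule R A) [GradedAlgebra 𝒜]
    (hA : ∀ n : ℕ, 𝒜 (n + 1) = 𝒜 1 * 𝒜 n)
    (M : Type u) [AddCommGroup M] [Module R M] [Module A M] [IsScalarTower R A M]
    (ℳ : ℕ → Submodule R M) [DirectSum.Decomposition ℳ] [SetLike.GradedSMul 𝒜 ℳ]
    (s : Set M) (n₀ : ℕ) (hs : ∀ y ∈ s, ∃ d : ℕ, d ≤ n₀ ∧ y ∈ ℳ d)
    (hspan : Submodule.span A s = ⊤)
    (n k : ℕ) (hn : n₀ ≤ n) :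
    ℳ (n + k) = 𝒜 k • ℳ n := by
  classical
  apply le_antisymm
  swap
  · rw [Submodule.smul_le]
    intro r hr m hm
    have := SetLike.GradedSMul.smul_mem (A := 𝒜) (B := ℳ) hr hm
    rwa [vadd_eq_add, add_comm] at this
  -- homogeneous case
  have hom_case : ∀ (i d : ℕ) (a : A) (y : M), a ∈ 𝒜 i → y ∈ ℳ d → d ≤ n →
      ((DirectSum.decompose ℳ (a • y) (n + k) : ℳ (n + k)) : M) ∈ 𝒜 k • ℳ n := by
    intro i d a y ha hy hdn
    have hay : a • y ∈ ℳ (i + d) := SetLike.GradedSMul.smul_mem (A := 𝒜) (B := ℳ) ha hy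
    by_cases hid : i + d = n + k
    · rw [hid] at hay
      rw [DirectSum.decompose_of_mem_same ℳ hay]
      have hi : i = k + (n - d) := by omega
      rw [hi, piece_add_eq 𝒜 hA] at ha
      refine Submodule.mul_induction_on ha ?_ ?_
      · intro b hb c hc
        rw [mul_smul]
        refine Submodule.smul_mem_smul hb ?_
        have := SetLike.GradedSMul.smul_mem (A := 𝒜) (B := ℳ) hc hy
        rwa [vadd_eq_add, Nat.sub_add_cancel hdn] at this
      · intro u v hu hv
        rw [add_smul]
        exact Submodule.add_mem _ hu hv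
    · rw [DirectSum.decompose_of_mem_ne ℳ hay hid]
      exact Submodule.zero_mem _
  -- general element of the span
  have key : ∀ z ∈ Submodule.span A s,
      ((DirectSum.decompose ℳ z (n + k) : ℳ (n + k)) : M) ∈ 𝒜 k • ℳ n := by
    intro z hz
    refine Submodule.closure_induction (p := fun z _ =>
      ((DirectSum.decompose ℳ z (n + k) : ℳ (n + k)) : M) ∈ 𝒜 k • ℳ n) ?_ ?_ ?_ hz
    · simp
    · intro u v _ _ hu hv
      rw [DirectSum.decompose_add, DirectSum.add_apply, Submodule.coe_add]
      exact Submodule.add_mem _ hu hv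
    · intro a y hy
      obtain ⟨d, hd, hyd⟩ := hs y hy
      rw [← DirectSum.sum_support_decompose 𝒜 a, Finset.sum_smul, DirectSum.decompose_sum,
        DFinsupp.finsetSum_apply, AddSubmonoidClass.coe_finsetSum]
      refine Submodule.sum_mem _ (fun i _ => ?_)
      exact hom_case i d _ y (SetLike.coe_mem _) hyd (hd.trans hn)
  intro x hx
  have := key x (by rw [hspan]; trivial)
  rwa [DirectSum.decompose_of_mem_same ℳ hx] at this

end Groth.Agent.S14051
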