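import Mathlib
import Groth.Statements.S14053

set_option autoImplicit false
universe u
open CAlg

namespace Groth.Agent.S14053

section Helpers

variable {k : Type u} [Field k] {R : Type u} [CommRing R] [Algebra k R]

lemma split_arith (a b c e n : ℕ) (hn : e ≤ n) (h : a + 2 * b + 3 * c = 6 * n)
    (hrem : a % 6 + 2 * (b % 3) + 3 * (c % 2) ≤ 6 * e) :
    ∃ a' b' c', a' ≤ a ∧ b' ≤ b ∧ c' ≤ c ∧ a' + 2 * b' + 3 * c' = 6 * e := by
  set t := (a % 6 + 2 * (b % 3) + 3 * (c % 2)) / 6 with ht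
  set u := min (a / 6) (e - t) with hu
  set v := min (b / 3) (e - t - u) with hv
  refine ⟨a % 6 + 6 * u, b % 3 + 3 * v, c % 2 + 2 * (e - t - u - v), ?_, ?_, ?_, ?_⟩ <;> omega

lemma pow_le_graded (ℛ : ℕ → Submodule k R) [GradedAlgebra ℛ] (i m : ℕ) :
    ℛ i ^ m ≤ ℛ (m * i) := by
  induction m with
  | zero =>
    simp only [pow_zero, zero_mul, Submodule.one_le]
    exact SetLike.GradedOne.one_mem
  | succ m ih =>
    rw [pow_succ, Nat.succ_mul]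
    exact Submodule.mul_le.mpr fun x hx y hy => SetLike.mul_mem_graded (ih hx) hy

lemma W_le (ℛ : ℕ → Submodule k R) [GradedAlgebra ℛ] (a b c : ℕ) :
    ℛ 1 ^ a * ℛ 2 ^ b * ℛ 3 ^ c ≤ ℛ (a + 2 * b + 3 * c) := by
  refine Submodule.mul_le.mpr fun x hx y hy => ?_
  have hy' := pow_le_graded ℛ 3 c hy
  have hx' : x ∈ ℛ (a + 2 * b) := by
    refine (Submodule.mul_le.mpr (fun x hx y hy => ?_) : ℛ 1 ^ a * ℛ 2 ^ b ≤ ℛ (a + 2 * b)) hx
    have := SetLike.mul_mem_graded (pow_le_graded ℛ 1 a hx) (pow_le_graded ℛ 2 b hy)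
    have e : a * 1 + b * 2 = a + 2 * b := by ring
    rwa [e] at this
  have := SetLike.mul_mem_graded hx' hy'
  have e : a + 2 * b + c * 3 = a + 2 * b + 3 * c := by ring
  rwa [e] at this

lemma iSup_W_eq_top (ℛ : ℕ → Submodule k R) [GradedAlgebra ℛ]
    (hgen : Algebra.adjoin k ((ℛ 1 : Set R) ∪ (ℛ 2 : Set R) ∪ (ℛ 3 : Set R)) = ⊤) :
    ⨆ t : ℕ × ℕ × ℕ, ℛ 1 ^ t.1 * ℛ 2 ^ t.2.1 * ℛ 3 ^ t.2.2 = ⊤ := by
  rw [eq_top_iff]
  intro x hx0
  clear hx0
  have hx : x ∈ Algebra.adjoin k ((ℛ 1 : Set R) ∪ (ℛ 2 : Set R) ∪ (ℛ 3 : Set R)) := by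
    rw [hgen]; trivial
  induction hx using Algebra.adjoin_induction with
  | mem x hx =>
    rcases hx with (hx | hx) | hx
    · exact Submodule.mem_iSup_of_mem (1, 0, 0) (by simpa using hx)
    · exact Submodule.mem_iSup_of_mem (0, 1, 0) (by simpa using hx)
    · exact Submodule.mem_iSup_of_mem (0, 0, 1) (by simpa using hx)
  | algebraMap r =>
    exact Submodule.mem_iSup_of_mem (0, 0, 0) (by simp [Submodule.mem_one])
  | add x y _ _ hx hy => exact add_mem hx hy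
  | mul x y _ _ hx hy =>
    have := Submodule.mul_mem_mul hx hy
    refine (?_ : (⨆ t : ℕ × ℕ × ℕ, ℛ 1 ^ t.1 * ℛ 2 ^ t.2.1 * ℛ 3 ^ t.2.2) *
      (⨆ t : ℕ × ℕ × ℕ, ℛ 1 ^ t.1 * ℛ 2 ^ t.2.1 * ℛ 3 ^ t.2.2) ≤
      ⨆ t : ℕ × ℕ × ℕ, ℛ 1 ^ t.1 * ℛ 2 ^ t.2.1 * ℛ 3 ^ t.2.2) this
    rw [Submodule.iSup_mul]
    refine iSup_le fun s => ?_
    rw [Submodule.mul_iSup]
    refine iSup_le fun t => ?_
    refine le_trans (le_of_eq ?_) (le_iSup _ (s.1 + t.1, s.2.1 + t.2.1, s.2.2 + t.2.2))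
    simp only [pow_add]
    ring

lemma W_le_pow (ℛ : ℕ → Submodule k R) [GradedAlgebra ℛ]
    [Module.Finite k (ℛ 1)] [Module.Finite k (ℛ 2)] [Module.Finite k (ℛ 3)]
    (e : ℕ) (he : 5 * Module.finrank k (ℛ 1) + 4 * Module.finrank k (ℛ 2) +
      3 * Module.finrank k (ℛ 3) ≤ e) (m : ℕ) :
    ∀ a b c : ℕ, a + 2 * b + 3 * c = m * (6 * e) →
      ℛ 1 ^ a * ℛ 2 ^ b * ℛ 3 ^ c ≤ ℛ (6 * e) ^ m := by
  induction m with
  | zero =>
    intro a b c h
    have ha : a = 0 := by omega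
    have hb : b = 0 := by omega
    have hc : c = 0 := by omega
    subst ha hb hc
    simp
  | succ m ih =>
    intro a b c h
    -- degenerate cases
    by_cases h1 : 0 < a ∧ Module.finrank k (ℛ 1) = 0
    · have : ℛ 1 = ⊥ := Submodule.finrank_eq_zero.mp h1.2
      rw [this, ← Submodule.zero_eq_bot, zero_pow (by omega), zero_mul, zero_mul]
      exact bot_le
    by_cases h2 : 0 < b ∧ Module.finrank k (ℛ 2) = 0
    · have : ℛ 2 = ⊥ := Submodule.finrank_eq_zero.mp h2.2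
      rw [this, ← Submodule.zero_eq_bot, zero_pow (by omega), mul_zero, zero_mul]
      exact bot_le
    by_cases h3 : 0 < c ∧ Module.finrank k (ℛ 3) = 0
    · have : ℛ 3 = ⊥ := Submodule.finrank_eq_zero.mp h3.2
      rw [this, ← Submodule.zero_eq_bot, zero_pow (by omega), mul_zero]
      exact bot_le
    have hrem : a % 6 + 2 * (b % 3) + 3 * (c % 2) ≤ 6 * e := by omega
    have hn : a + 2 * b + 3 * c = 6 * ((m + 1) * e) := by rw [h]; ring
    have hle : e ≤ (m + 1) * e := Nat.le_mul_of_pos_left e (Nat.succ_pos m)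
    obtain ⟨a', b', c', ha, hb, hc, hs⟩ := split_arith a b c e ((m + 1) * e) hle hn hrem
    have hrest : (a - a') + 2 * (b - b') + 3 * (c - c') = m * (6 * e) := by
      have : (m + 1) * (6 * e) = m * (6 * e) + 6 * e := by ring
      omega
    have hdecomp : ℛ 1 ^ a * ℛ 2 ^ b * ℛ 3 ^ c =
        (ℛ 1 ^ a' * ℛ 2 ^ b' * ℛ 3 ^ c') *
          (ℛ 1 ^ (a - a') * ℛ 2 ^ (b - b') * ℛ 3 ^ (c - c')) := by
      conv_lhs => rw [← Nat.add_sub_cancel' ha, ← Nat.add_sub_cancel' hb,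
        ← Nat.add_sub_cancel' hc]
      simp only [pow_add]
      ring
    rw [hdecomp, pow_succ']
    refine mul_le_mul' ?_ (ih _ _ _ hrest)
    have := W_le ℛ a' b' c'
    rwa [hs] at this

theorem main_aux
    (ℛ : ℕ → Submodule k R) [GradedAlgebra ℛ]
    (hgen : Algebra.adjoin k ((ℛ 1 : Set R) ∪ (ℛ 2 : Set R) ∪ (ℛ 3 : Set R)) = ⊤)
    [Module.Finite k (ℛ 1)] [Module.Finite k (ℛ 2)] [Module.Finite k (ℛ 3)]
    (e : ℕ) (he : 5 * Module.finrank k (ℛ 1) + 4 * Module.finrank k (ℛ 2) +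
      3 * Module.finrank k (ℛ 3) ≤ e)
    (m : ℕ) :
    ℛ (m * (6 * e)) = ℛ (6 * e) ^ m := by
  refine le_antisymm ?_ (pow_le_graded ℛ (6 * e) m)
  intro x hx
  have hxtop : x ∈ ⨆ t : ℕ × ℕ × ℕ, ℛ 1 ^ t.1 * ℛ 2 ^ t.2.1 * ℛ 3 ^ t.2.2 := by
    rw [iSup_W_eq_top ℛ hgen]; trivial
  obtain ⟨f, hf, hfx⟩ := (Submodule.mem_iSup_iff_exists_finsupp _ _).mp hxtop
  have hproj : x = GradedRing.proj ℛ (m * (6 * e)) x := by
    rw [GradedRing.proj_apply, DirectSum.decompose_of_mem_same ℛ hx]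
  rw [hproj, ← hfx, Finsupp.sum, map_sum]
  refine Submodule.sum_mem _ fun t _ => ?_
  have hft : f t ∈ ℛ (t.1 + 2 * t.2.1 + 3 * t.2.2) := W_le ℛ _ _ _ (hf t)
  by_cases hdeg : t.1 + 2 * t.2.1 + 3 * t.2.2 = m * (6 * e)
  · rw [GradedRing.proj_apply, ← hdeg, DirectSum.decompose_of_mem_same ℛ hft]
    exact W_le_pow ℛ e he m _ _ _ hdeg (hf t)
  · rw [GradedRing.proj_apply, DirectSum.decompose_of_mem_ne ℛ hft hdeg]
    exact zero_mem _

end Helpers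

/-- Let k be a field and R a commutative ℕ-graded k-algebra with R_0 = k · 1 which is generated as a
k-algebra by R_1, R_2 and R_3, each a finite-dimensional k-vector space, of dimensions d_1, d_2,
d_3. Then for every natural number e ≥ 5 d_1 + 4 d_2 + 3 d_3 the (6e)-th Veronese subring of R is
generated in degree one over k: R_{6em} = (R_{6e})^m for every m > 0. -/
theorem result
    (k : Type u) [Field k] (R : Type u) [CommRing R] [Algebra k R]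
    (ℛ : ℕ → Submodule k R) [GradedAlgebra ℛ]
    (h0 : ℛ 0 = 1)
    (hgen : Algebra.adjoin k ((ℛ 1 : Set R) ∪ (ℛ 2 : Set R) ∪ (ℛ 3 : Set R)) = ⊤)
    [Module.Finite k (ℛ 1)] [Module.Finite k (ℛ 2)] [Module.Finite k (ℛ 3)]
    (e : ℕ) (he : 5 * Module.finrank k (ℛ 1) + 4 * Module.finrank k (ℛ 2) + 3 * Module.finrank k (ℛ 3) ≤ e)
    (m : ℕ) (hm : 0 < m) :
    ℛ (m * (6 * e)) = ℛ (6 * e) ^ m := by
  exact main_aux ℛ hgen e he m

end Groth.Agent.S14053
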