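import Groth.Statements.S14060
import Groth.Agent.Lib.LerayDegen31

set_option autoImplicit false
universe u
open CategoryTheory CategoryTheory.Limits TopologicalSpace
open CohTop

namespace Groth.Agent.S14060

open Abelian Groth.Agent.LerayDegen31

section General

universe w v u'

variable {D : Type u'} [Category.{v} D] [Abelian D] [HasExt.{w} D] (A : D)

-- `0 ⟶ ker g ⟶ X₂ ⟶ ker d ⟶ 0` is short exact when `X₂ ⟶ X₃ ⟶ X₄` is exact.
omit [HasExt.{w} D] in
lemma ses_kernel {X₂ X₃ X₄ : D} (g : X₂ ⟶ X₃) (d : X₃ ⟶ X₄) (w₂ : g ≫ d = 0)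
    (e₂ : (ShortComplex.mk g d w₂).Exact) :
    (ShortComplex.mk (kernel.ι g) (kernel.lift d g w₂) (by
      rw [← cancel_mono (kernel.ι d), Category.assoc, kernel.lift_ι, kernel.condition,
        zero_comp])).ShortExact := by
  have hepi : Epi (kernel.lift d g w₂) :=
    (ShortComplex.exact_iff_epi_kernel_lift (ShortComplex.mk g d w₂)).1 e₂
  refine { exact := ?_, mono_f := by dsimp; infer_instance, epi_g := hepi }
  let S₁ : ShortComplex D := ShortComplex.mk (kernel.ι g) (kernel.lift d g w₂) (by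
      rw [← cancel_mono (kernel.ι d), Category.assoc, kernel.lift_ι, kernel.condition,
        zero_comp])
  let S₂ : ShortComplex D := ShortComplex.mk (kernel.ι g) g (kernel.condition g)
  let φ : S₁ ⟶ S₂ :=
    { τ₁ := 𝟙 _
      τ₂ := 𝟙 _
      τ₃ := kernel.ι d
      comm₁₂ := by simp [S₁, S₂]
      comm₂₃ := by simp [S₁, S₂] }
  have h1 : Epi φ.τ₁ := inferInstanceAs (Epi (𝟙 (kernel g)))
  have h2 : IsIso φ.τ₂ := inferInstanceAs (IsIso (𝟙 X₂))
  have h3 : Mono φ.τ₃ := inferInstanceAs (Mono (kernel.ι d))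
  exact (ShortComplex.exact_iff_of_epi_of_isIso_of_mono φ).2
    (ShortComplex.exact_of_f_is_kernel _ (kernelIsKernel g))

lemma subsingleton_ext_of_isZero {Z : D} (hZ : IsZero Z) (n : ℕ) :
    Subsingleton (Ext.{w} A Z n) := by
  refine subsingleton_of_forall_eq 0 fun x => ?_
  have : x = x.comp (Ext.mk₀ (𝟙 Z)) (add_zero n) := by simp
  rw [this, hZ.eq_of_src (𝟙 Z) 0, Ext.mk₀_zero, Ext.comp_zero]

/-- The general dimension-shifting statement. -/
lemma exists_lift (F : ChainComplex D ℕ) (r : ℕ)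
    (hmono : Mono (F.d (r + 1) r)) (hepi : Epi (F.d 1 0))
    (hex : ∀ j : ℕ, j < r → (ShortComplex.mk (F.d (j + 2) (j + 1)) (F.d (j + 1) j)
      (F.d_comp_d _ _ _)).Exact)
    (hvan : ∀ j : ℕ, j < r → Subsingleton (Ext.{w} A (F.X (j + 2)) (j + 1)))
    (φ : A ⟶ F.X 0) : ∃ ψ : A ⟶ F.X 1, ψ ≫ F.d 1 0 = φ := by
  have key : ∀ m k : ℕ, k + m = r →
      Subsingleton (Ext.{w} A (kernel (F.d (k + 1) k)) (k + 1)) := by
    intro m
    induction m with
    | zero =>
      intro k hk
      obtain rfl : k = r := by omega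
      exact subsingleton_ext_of_isZero A (isZero_kernel_of_mono _) _
    | succ m ih =>
      intro k hk
      have h₁ := ih (k + 1) (by omega)
      have hS := ses_kernel (F.d (k + 2) (k + 1)) (F.d (k + 1) k) (F.d_comp_d _ _ _)
        (hex k (by omega))
      exact subsingleton_ext_X₃ A hS (k + 1) (hvan k (by omega)) h₁
  exact exists_comp_g_eq A (T₂_shortExact (F.d 1 0)) (key r 0 (by omega)) φ

end General

/-- Let X be a topological space, r ≥ 1 an integer and 0 → F_r → ⋯ → F_2 → F_1 → F_0 → 0 an exact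
sequence of sheaves of abelian groups on X, presented as a chain complex F of abelian sheaves
indexed by the natural numbers whose differential F_r → F_{r−1} is a monomorphism, whose
differential F_1 → F_0 is an epimorphism of sheaves, and which is exact at F_j for 1 ≤ j ≤ r − 1
(for r = 1 the single map F_1 → F_0 is mono and epi). Assume the sheaf cohomology groups H^{j−1}(X,
F_j) vanish for 2 ≤ j ≤ r. Then the map on global sections F_1(X) → F_0(X) is surjective. (The
instance hypothesis that the category of abelian sheaves on X has Ext groups in the universe of X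
holds for every X, abelian sheaves on a space forming a Grothendieck abelian category; it is the
setting in which sheaf cohomology is defined.) -/
theorem result (X : TopCat.{u})
    [HasExt.{u} (Sheaf (Opens.grothendieckTopology X) AddCommGrpCat.{u})]
    (r : ℕ) (hr : 1 ≤ r)
    (F : ChainComplex (Sheaf (Opens.grothendieckTopology X) AddCommGrpCat.{u}) ℕ)
    (hmono : Mono (F.d r (r - 1))) (hepi : Epi (F.d 1 0))
    (hex : ∀ j : ℕ, 1 ≤ j → j < r → F.ExactAt j)
    (hvan : ∀ j : ℕ, 2 ≤ j → j ≤ r → Subsingleton (Sheaf.H (F.X j) (j - 1))) :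
    Function.Surjective ((F.d 1 0).hom.app (Opposite.op ⊤)) := by
  obtain ⟨r, rfl⟩ : ∃ r' : ℕ, r = r' + 1 := ⟨r - 1, by omega⟩
  intro s
  let A := (constantSheaf (Opens.grothendieckTopology X) AddCommGrpCat.{u}).obj
    (AddCommGrpCat.of (ULift ℤ))
  have hT : IsTerminal (⊤ : Opens X) := isTerminalTop
  let x : Sheaf.H (F.X 0) 0 := (Sheaf.H.equiv₀ (F.X 0) hT).symm s
  obtain ⟨ψ, hψ⟩ := exists_lift A F r hmono hepi
    (fun j hj => by
      have := (F.exactAt_iff' (j + 2) (j + 1) j (by simp) (by simp)).1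
        (hex (j + 1) (by omega) (by omega))
      exact this)
    (fun j hj => hvan (j + 2) (by omega) (by omega))
    (Ext.addEquiv₀ x)
  let y : Sheaf.H (F.X 1) 0 := Ext.addEquiv₀.symm ψ
  refine ⟨Sheaf.H.equiv₀ (F.X 1) hT y, ?_⟩
  rw [Sheaf.H.equiv₀_naturality]
  have : Sheaf.H.map (F.d 1 0) 0 y = x := by
    apply Ext.addEquiv₀.injective
    rw [Sheaf.H.addEquiv₀_map]
    simp only [y, AddEquiv.apply_symm_apply]
    exact hψ
  rw [this]
  simp [x]

end Groth.Agent.S14060
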