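import Groth.Statements.S14064
import Groth.Agent.Lib.H78IntegralSec
import Groth.Agent.Lib.H4TwistGamma
import Groth.Agent.Lib.CohVanAmple

set_option autoImplicit false
universe u
open CategoryTheory CategoryTheory.Limits AlgebraicGeometry TopologicalSpace
open Surf

namespace Groth.Agent.S14064

/-- Fix a field k, an integral proper k-scheme X, and an invertible O_X-module L with tensor inverse M.
Suppose that L^{⊗j} has a nonzero global section for every j ≥ 4 and that no tensor power L^{⊗j}
with j ≥ 1 is isomorphic to O_X. Then H⁰(X, M^{⊗i}) = 0 for every i ≥ 1: the negative powers of L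
have no nonzero global sections. (The published statement is for the canonical module of a minimal
surface of general type over an algebraically closed field, where the fourth and higher powers are
globally generated by a deep result quoted without proof, and non-triviality of the positive powers
comes from bigness; the published deduction of this part uses exactly the two hypotheses carried
here, on an integral proper X.) -/
theorem result (k : Type u) [Field k]
    (X : Scheme.{u}) [X.Over (Spec (CommRingCat.of k))] [IsProper (X ↘ (Spec (CommRingCat.of k)))] [IsIntegral X]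
    (L M : X.Modules) (hL : PicF.IsInvertible L) (hM : ClSub.IsInverseOf M L)
    (hsec : ∀ j : ℕ, 4 ≤ j → Nontrivial (Coh.HH X (CohB1.tensorPow L j) 0))
    (hnt : ∀ j : ℕ, 1 ≤ j → IsEmpty (CohB1.tensorPow L j ≅ Coh.structureModule X))
    (i : ℕ) (hi : 1 ≤ i) :
    Subsingleton (Coh.HH X (CohB1.tensorPow M i) 0) := by
  by_contra hns
  rw [not_subsingleton_iff_nontrivial] at hns
  obtain ⟨t, ht⟩ : ∃ t : Γ(CohB1.tensorPow M i, ⊤), t ≠ 0 := by
    obtain ⟨a, ha⟩ := exists_ne (0 : Coh.HH X (CohB1.tensorPow M i) 0)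
    exact ⟨Groth.Agent.Lib.H4Twist.h0Equiv _ a, fun h =>
      ha ((Groth.Agent.Lib.H4Twist.h0Equiv _).injective (h.trans (map_zero _).symm))⟩
  obtain ⟨u, hu⟩ : ∃ u : Γ(CohB1.tensorPow L (i * 4), ⊤), u ≠ 0 := by
    haveI := hsec (i * 4) (by omega)
    obtain ⟨a, ha⟩ := exists_ne (0 : Coh.HH X (CohB1.tensorPow L (i * 4)) 0)
    exact ⟨Groth.Agent.Lib.H4Twist.h0Equiv _ a, fun h =>
      ha ((Groth.Agent.Lib.H4Twist.h0Equiv _).injective (h.trans (map_zero _).symm))⟩
  obtain ⟨e⟩ := hM
  have hMinv : PicF.IsInvertible M := Groth.Agent.Lib.CohVanAmple.isInvertible_of_inverse e hL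
  have hMi := Groth.Agent.Lib.H78TensorGen.isInvertible_tensorPow hMinv i
  have hτ : Groth.Agent.Lib.H78TensorGen.epow t 4 ≠ 0 := fun h0 =>
    ht (Groth.Agent.Lib.H78PowSec.eq_zero_of_epow_eq_zero hMi t 4 h0)
  have hprod := Groth.Agent.Lib.H78IntegralSec.tmul_ne_zero
    (Groth.Agent.Lib.H78TensorGen.isInvertible_tensorPow hMi 4)
    (Groth.Agent.Lib.H78TensorGen.isInvertible_tensorPow hL (i * 4))
    (Groth.Agent.Lib.H78TensorGen.epow t 4) u hτ hu
  let φ : CohB1.tensorMod (CohB1.tensorPow (CohB1.tensorPow M i) 4) (CohB1.tensorPow L (i * 4)) ≅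
      Coh.structureModule X :=
    Groth.Agent.Lib.OXModTensor.tensorModIso (Groth.Agent.Lib.OXModTensor.tensorPowMul M i 4) (Iso.refl _) ≪≫
      (Groth.Agent.Lib.OXModTensor.tensorPowTensor M L (i * 4)).symm ≪≫
      Groth.Agent.Lib.OXModTensor.tensorPowIso e (i * 4) ≪≫
      Groth.Agent.Lib.OXModTensor.tensorPowUnit (i * 4)
  have hfield : IsField (Γ(X, ⊤) : Type u) :=
    isField_of_universallyClosed k (X ↘ (Spec (CommRingCat.of k)))
  have h1 := Groth.Agent.Lib.H78PowSec.genLocus_eq_top_of_iso_unit hfield φ _ hprod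
  rw [Groth.Agent.Lib.H78SecTwist.genLocus_ofSection_tmul
    (Groth.Agent.Lib.H78TensorGen.isInvertible_tensorPow hMi 4)
    (Groth.Agent.Lib.H78TensorGen.isInvertible_tensorPow hL (i * 4))] at h1
  have h2 : CohB1.genLocus _ (Groth.Agent.Lib.H90Invertible.ofSection u) = ⊤ :=
    top_le_iff.1 (h1 ▸ inf_le_right)
  haveI := Groth.Agent.Lib.PullInverse.isIso_of_genLocus_eq_top _ h2
  exact (hnt (i * 4) (by omega)).false (asIso (Groth.Agent.Lib.H90Invertible.ofSection u)).symm

end Groth.Agent.S14064
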