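import Groth.Statements.S14066
import Groth.Agent.Lib.ProjLinearH3
import Groth.Agent.S5734

set_option autoImplicit false
universe u
open CategoryTheory CategoryTheory.Limits AlgebraicGeometry TopologicalSpace
open Variety

namespace Groth.Agent.S14066

/-- Let k be a field, and let X₁ and X₂ be k-schemes with closed immersions i₁ : X₁ → P^n_k and i₂ : X₂
→ P^m_k over k. Then there is a closed immersion of the disjoint union X₁ ⨿ X₂ into P^{n+m+1}_k over
k, that is, compatible with the structure morphism of the coproduct induced by those of X₁ and X₂.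
(Stated as the step of the published proof showing that a disjoint union of two projective k-schemes
is projective.) -/
theorem result (k : Type u) [Field k] (n m : ℕ)
    (X₁ X₂ : Scheme.{u}) [X₁.Over (Spec (CommRingCat.of k))] [X₂.Over (Spec (CommRingCat.of k))]
    (i₁ : X₁ ⟶ CohB1.ProjSpace n k) [IsClosedImmersion i₁] (h₁ : i₁ ≫ CohB1.ProjSpace.toSpec n k = X₁ ↘ (Spec (CommRingCat.of k)))
    (i₂ : X₂ ⟶ CohB1.ProjSpace m k) [IsClosedImmersion i₂] (h₂ : i₂ ≫ CohB1.ProjSpace.toSpec m k = X₂ ↘ (Spec (CommRingCat.of k))) :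
    ∃ j : X₁ ⨿ X₂ ⟶ CohB1.ProjSpace (n + m + 1) k, IsClosedImmersion j ∧
      j ≫ CohB1.ProjSpace.toSpec (n + m + 1) k = coprod.desc (X₁ ↘ (Spec (CommRingCat.of k))) (X₂ ↘ (Spec (CommRingCat.of k))) := by
  let ι₁ : Fin (n + 1) → Fin (n + m + 1 + 1) := fun i => ⟨i.val, by omega⟩
  let ι₂ : Fin (m + 1) → Fin (n + m + 1 + 1) := fun i => ⟨n + 1 + i.val, by omega⟩
  have hι₁ : Function.Injective ι₁ := fun a b h => Fin.ext (by simpa [ι₁] using congrArg Fin.val h)
  have hι₂ : Function.Injective ι₂ := fun a b h => Fin.ext (by simpa [ι₂] using congrArg Fin.val h)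
  have hdisj : ∀ i i', ι₁ i ≠ ι₂ i' := by
    intro i i' h
    have := congrArg Fin.val h
    simp only [ι₁, ι₂] at this
    omega
  let l₁ : CohB1.ProjSpace n k ⟶ CohB1.ProjSpace (n + m + 1) k := Groth.Agent.Lib.ProjLinearH3.lin k ι₁ hι₁
  let l₂ : CohB1.ProjSpace m k ⟶ CohB1.ProjSpace (n + m + 1) k := Groth.Agent.Lib.ProjLinearH3.lin k ι₂ hι₂
  haveI : IsClosedImmersion l₁ := inferInstanceAs (IsClosedImmersion (Groth.Agent.Lib.ProjLinearH3.lin k ι₁ hι₁))
  haveI : IsClosedImmersion l₂ := inferInstanceAs (IsClosedImmersion (Groth.Agent.Lib.ProjLinearH3.lin k ι₂ hι₂))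
  have hl₁ : l₁ ≫ CohB1.ProjSpace.toSpec (n + m + 1) k = CohB1.ProjSpace.toSpec n k :=
    Groth.Agent.Lib.ProjLinearH3.lin_toSpec k ι₁ hι₁
  have hl₂ : l₂ ≫ CohB1.ProjSpace.toSpec (n + m + 1) k = CohB1.ProjSpace.toSpec m k :=
    Groth.Agent.Lib.ProjLinearH3.lin_toSpec k ι₂ hι₂
  refine ⟨coprod.desc (i₁ ≫ l₁) (i₂ ≫ l₂), ?_, ?_⟩
  · refine Groth.Agent.S5734.isClosedImmersion_coprod_desc (i₁ ≫ l₁) (i₂ ≫ l₂) (fun x y => ?_)
    exact Groth.Agent.Lib.ProjLinearH3.lin_base_ne k ι₁ hι₁ ι₂ hι₂ hdisj (i₁.base x) (i₂.base y)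
  · apply coprod.hom_ext
    · rw [coprod.inl_desc_assoc, coprod.inl_desc, Category.assoc, hl₁, h₁]
    · rw [coprod.inr_desc_assoc, coprod.inr_desc, Category.assoc, hl₂, h₂]

end Groth.Agent.S14066
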