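import Groth.Statements.S14076
import Mathlib
import Groth.Agent.Lib.H56EquidimComp

set_option autoImplicit false
open CategoryTheory AlgebraicGeometry
universe u
open FamCyc

namespace Groth.Agent.S14076

/-- Let f : X ⟶ S be locally of finite type and equidimensional at every point of X. Then every point x
of X lies on an irreducible component W of X, given its reduced subscheme structure, such that W ⟶ S
is equidimensional at x. -/
theorem result {X S : Scheme.{u}} (f : X ⟶ S) [LocallyOfFiniteType f]
    (h : ∀ x : X, EGA43.IsEquidimAt f x) (x : X) :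
    ∃ W : TopologicalSpace.Closeds X, (W : Set X) ∈ irreducibleComponents (X : Type u) ∧
      ∃ w : ↥((Scheme.IdealSheafData.vanishingIdeal W).subscheme),
        (Scheme.IdealSheafData.vanishingIdeal W).subschemeι.base w = x ∧
        EGA43.IsEquidimAt ((Scheme.IdealSheafData.vanishingIdeal W).subschemeι ≫ f) w := by
  obtain ⟨e, U, hxU, hmaxU, hfibU⟩ := (Groth.Agent.Lib.H30EquidimAt.isEquidimAt_iff f x).mp (h x)
  obtain ⟨ζ, hζ, hζx⟩ := Groth.Agent.Lib.EquidimOpen.exists_max_generization x
  have hζU : ζ ∈ U := hζx.mem_open U.isOpen hxU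
  have h1 : FlatMor.fibreDimAt f ζ = ((Groth.Agent.Lib.H56OpenDim.tdeg f ζ : ℕ) : WithBot ℕ∞) :=
    Groth.Agent.Lib.H56OpenDim.fibreDimAt_eq_tdeg_of_maximal' f ζ (fun w hw _ => hζ w hw)
  refine Groth.Agent.Lib.H56EquidimComp.exists_component_isEquidimAt f ζ x hζx hζ
    (hmaxU ζ hζU hζ).1 ?_
  rw [hfibU x hxU, ← h1, hfibU ζ hζU]

end Groth.Agent.S14076
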