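import Groth.Statements.S14079
import Mathlib
import Groth.Agent.Lib.H56EquidimComp

set_option autoImplicit false
open CategoryTheory AlgebraicGeometry
universe u
open FamCyc

namespace Groth.Agent.S14079

open Groth.Agent.Lib.H56OpenDim Groth.Agent.Lib.H56ValTrdeg Groth.Agent.Lib.H30GenFib
  Groth.Agent.Lib.H30DimRel Groth.Agent.Lib.H30IrrFib Groth.Agent.Lib.EquidimRestrict
  Groth.Agent.Lib.H69RedInduced

/-- (iv) ⇒ (iii): let f : X ⟶ S be locally of finite type. Suppose that every point x of X which is a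
maximal point of its fibre (no other point of the fibre over f x specializes to x) lies on an
irreducible component W of X, given its reduced subscheme structure, with W ⟶ S equidimensional at
x. Then every point of X lies on such an irreducible component. -/
theorem result {X S : Scheme.{u}} (f : X ⟶ S) [LocallyOfFiniteType f]
    (h : ∀ x : X, (∀ x' : X, f.base x' = f.base x → x ∈ closure ({x'} : Set X) → x' = x) →
      ∃ W : TopologicalSpace.Closeds X, (W : Set X) ∈ irreducibleComponents (X : Type u) ∧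
      ∃ w : ↥((Scheme.IdealSheafData.vanishingIdeal W).subscheme),
        (Scheme.IdealSheafData.vanishingIdeal W).subschemeι.base w = x ∧
        EGA43.IsEquidimAt ((Scheme.IdealSheafData.vanishingIdeal W).subschemeι ≫ f) w)
    (x : X) :
    ∃ W : TopologicalSpace.Closeds X, (W : Set X) ∈ irreducibleComponents (X : Type u) ∧
      ∃ w : ↥((Scheme.IdealSheafData.vanishingIdeal W).subscheme),
        (Scheme.IdealSheafData.vanishingIdeal W).subschemeι.base w = x ∧
        EGA43.IsEquidimAt ((Scheme.IdealSheafData.vanishingIdeal W).subschemeι ≫ f) w := by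
  obtain ⟨w₀, hw₀x, hfw₀, hw₀max, hw₀⟩ := exists_maxInFibre_fibreDimAt_eq f x
  obtain ⟨W, hW, w, hw, hE⟩ := h w₀
    (fun x' h1 h2 => hw₀max x' (specializes_iff_mem_closure.mpr h2) h1)
  obtain ⟨ζ, hζ⟩ := QuasiSober.sober hW.1 W.isClosed
  obtain rfl : W = clos ζ := TopologicalSpace.Closeds.ext hζ.def.symm
  obtain ⟨e, U, hwU, hmaxU, hfibU⟩ :=
    (Groth.Agent.Lib.H30EquidimAt.isEquidimAt_iff (redSubι (clos ζ) ≫ f) w).mp hE
  obtain ⟨ξZ, hξZ, hξ⟩ := exists_redSub_generic ζ
  have hξU : ξZ ∈ U := (hξ w).mem_open U.isOpen hwU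
  have hξmax : IsMaxPt ξZ := fun v hv => (hv.antisymm (hξ v)).eq
  have hfζ : IsMaxPt (f ζ) := by
    have := (hmaxU ξZ hξU hξmax).1
    rwa [Scheme.Hom.comp_apply, hξZ] at this
  have hζmax : IsMaxPt ζ :=
    (Groth.Agent.Lib.H30DimField.closure_mem_irreducibleComponents_iff ζ).mp hW
  have h1 : FlatMor.fibreDimAt (redSubι (clos ζ) ≫ f) ξZ =
      ((tdeg (redSubι (clos ζ) ≫ f) ξZ : ℕ) : WithBot ℕ∞) :=
    fibreDimAt_eq_tdeg_of_maximal' (redSubι (clos ζ) ≫ f) ξZ (fun v hv _ => hξmax v hv)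
  have h2 : tdeg (redSubι (clos ζ) ≫ f) ξZ = tdeg f ζ := by
    have := rt_comp_of_isPreimmersion (f := f) (redSubι (clos ζ)) ξZ
    rw [hξZ] at this
    exact this
  have h3 := tdeg_le_fibreDimAt (redSubι (clos ζ) ≫ f) w
  have h4 : tdeg (redSubι (clos ζ) ≫ f) w = tdeg f w₀ := by
    have := rt_comp_of_isPreimmersion (f := f) (redSubι (clos ζ)) w
    rw [show (redSubι (clos ζ)) w = w₀ from hw] at this
    exact this
  have hζw₀ : ζ ⤳ w₀ := by
    have := specializes_redSubι ζ w
    rwa [show (redSubι (clos ζ)) w = w₀ from hw] at this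
  refine Groth.Agent.Lib.H56EquidimComp.exists_component_isEquidimAt f ζ x (hζw₀.trans hw₀x)
    hζmax hfζ ?_
  rw [hw₀, ← h4, ← h2, ← h1, hfibU ξZ hξU, ← hfibU w hwU]
  exact h3

end Groth.Agent.S14079
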