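import Groth.Statements.S14080
import Mathlib
-- import your own Groth.Agent.* helpers here

set_option autoImplicit false
universe u
open ArSing

namespace Groth.Agent.S14080

open PowerSeries

section inv

variable {k : Type u} [Field k]

theorem tau_C (τ : k⟦X⟧ →ₐ[k] k⟦X⟧) (c : k) : τ (C c) = C c := by
  have := τ.commutes c
  rwa [algebraMap_eq] at this

theorem tau_cc (τ : k⟦X⟧ →ₐ[k] k⟦X⟧) (hτ : (X : k⟦X⟧) ∣ τ X) (f : k⟦X⟧) :
    constantCoeff (τ f) = constantCoeff f := by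
  obtain ⟨g, hg⟩ : (X : k⟦X⟧) ∣ f - C (constantCoeff f) := by
    rw [X_dvd_iff, map_sub, constantCoeff_C, sub_self]
  have hf : f = C (constantCoeff f) + X * g := by rw [← hg]; ring
  obtain ⟨s', hs'⟩ := hτ
  have h2 : τ f = C (constantCoeff f) + X * (s' * τ g) := by
    conv_lhs => rw [hf]
    rw [map_add, map_mul, tau_C, hs']; ring
  rw [h2, map_add, constantCoeff_C, map_mul, constantCoeff_X, zero_mul, add_zero]

theorem tau_dvd (τ : k⟦X⟧ →ₐ[k] k⟦X⟧) (hτ : (X : k⟦X⟧) ∣ τ X) {n : ℕ} {f : k⟦X⟧}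
    (h : (X : k⟦X⟧) ^ n ∣ f) : (X : k⟦X⟧) ^ n ∣ τ f := by
  obtain ⟨g, rfl⟩ := h
  obtain ⟨s', hs'⟩ := hτ
  rw [map_mul, map_pow, hs', mul_pow, mul_assoc]
  exact Dvd.intro _ rfl

theorem tau_ext (τ1 τ2 : k⟦X⟧ →ₐ[k] k⟦X⟧) (h1 : (X : k⟦X⟧) ∣ τ1 X) (h12 : τ1 X = τ2 X) :
    τ1 = τ2 := by
  have h2 : (X : k⟦X⟧) ∣ τ2 X := h12 ▸ h1
  have hpoly : ∀ p : Polynomial k, τ1 (p : k⟦X⟧) = τ2 (p : k⟦X⟧) := by
    intro p
    have : (τ1 : k⟦X⟧ →+* k⟦X⟧).comp Polynomial.coeToPowerSeries.ringHom =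
        (τ2 : k⟦X⟧ →+* k⟦X⟧).comp Polynomial.coeToPowerSeries.ringHom := by
      apply Polynomial.ringHom_ext
      · intro a
        simp only [RingHom.comp_apply, Polynomial.coeToPowerSeries.ringHom_apply, Polynomial.coe_C]
        show τ1 (C a) = τ2 (C a)
        rw [tau_C, tau_C]
      · simp only [RingHom.comp_apply, Polynomial.coeToPowerSeries.ringHom_apply, Polynomial.coe_X]
        exact h12
    exact RingHom.congr_fun this p
  apply AlgHom.ext
  intro f
  ext n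
  have hdec := eq_shift_mul_X_pow_add_trunc (n+1) f
  have e1 : τ1 f - τ2 f = τ1 ((mk fun i => coeff (i + (n+1)) f) * X^(n+1)) -
      τ2 ((mk fun i => coeff (i + (n+1)) f) * X^(n+1)) := by
    conv_lhs => rw [hdec]
    rw [map_add, map_add, hpoly]; ring
  have hd : (X : k⟦X⟧)^(n+1) ∣ τ1 f - τ2 f := by
    rw [e1]
    exact dvd_sub (tau_dvd τ1 h1 (Dvd.intro_left _ rfl)) (tau_dvd τ2 h2 (Dvd.intro_left _ rfl))
  have := X_pow_dvd_iff.mp hd n (Nat.lt_succ_self n)
  rw [map_sub, sub_eq_zero] at this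
  exact this

theorem contraction_fixpt (T : k⟦X⟧ → k⟦X⟧)
    (hT : ∀ n f f', (X : k⟦X⟧)^n ∣ f - f' → (X : k⟦X⟧)^(n+1) ∣ T f - T f') : ∃ f, T f = f := by
  have hF : ∀ n, (X : k⟦X⟧)^n ∣ T^[n+1] 0 - T^[n] 0 := by
    intro n
    induction n with
    | zero => simp
    | succ n ih =>
      have e1 : T^[n+1+1] 0 = T (T^[n+1] 0) := Function.iterate_succ_apply' T (n+1) 0
      have e2 : T^[n+1] 0 = T (T^[n] 0) := Function.iterate_succ_apply' T n 0
      have := hT n _ _ ih
      rw [← e2, ← e1] at this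
      exact this
  have hF2 : ∀ n m, n ≤ m → (X : k⟦X⟧)^n ∣ T^[m] 0 - T^[n] 0 := by
    intro n m hnm
    induction m, hnm using Nat.le_induction with
    | base => simp
    | succ m hm ih =>
      have : T^[m+1] 0 - T^[n] 0 = (T^[m+1] 0 - T^[m] 0) + (T^[m] 0 - T^[n] 0) := by ring
      rw [this]
      exact dvd_add (dvd_trans (pow_dvd_pow _ hm) (hF m)) ih
  have hf : ∀ n, (X : k⟦X⟧)^n ∣ (mk fun j => coeff j (T^[j+1] 0)) - T^[n] 0 := by
    intro n
    rw [X_pow_dvd_iff]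
    intro j hj
    rw [map_sub, coeff_mk, sub_eq_zero]
    have := X_pow_dvd_iff.mp (hF2 (j+1) n (by omega)) j (Nat.lt_succ_self j)
    rw [map_sub, sub_eq_zero] at this
    exact this.symm
  refine ⟨mk fun j => coeff j (T^[j+1] 0), ?_⟩
  ext j
  have h1 := hT j _ _ (hf j)
  have h2 := hf (j+1)
  have h3 : T (T^[j] 0) = T^[j+1] 0 := (Function.iterate_succ_apply' T j 0).symm
  have h4 : (X : k⟦X⟧)^(j+1) ∣ T (mk fun j => coeff j (T^[j+1] 0)) -
      (mk fun j => coeff j (T^[j+1] 0)) := by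
    have : T (mk fun j => coeff j (T^[j+1] 0)) - (mk fun j => coeff j (T^[j+1] 0)) =
        (T (mk fun j => coeff j (T^[j+1] 0)) - T (T^[j] 0)) -
          ((mk fun j => coeff j (T^[j+1] 0)) - T^[j+1] 0) := by rw [h3]; ring
    rw [this]; exact dvd_sub h1 h2
  have := X_pow_dvd_iff.mp h4 j (Nat.lt_succ_self j)
  rw [map_sub, sub_eq_zero] at this
  exact this

theorem phi_contract (φ : k⟦X⟧ →ₐ[k] k⟦X⟧) {p' : k⟦X⟧} (hp : φ X = X * p')
    (hp' : constantCoeff p' = 1) {n : ℕ} {h : k⟦X⟧} (hh : (X : k⟦X⟧)^n ∣ h) :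
    (X : k⟦X⟧)^(n+1) ∣ h - φ h := by
  obtain ⟨h', rfl⟩ := hh
  have hX : (X : k⟦X⟧) ∣ φ X := ⟨p', hp⟩
  have e : X^n * h' - φ (X^n * h') = X^n * (h' - p'^n * φ h') := by
    rw [map_mul, map_pow, hp, mul_pow]; ring
  rw [e, pow_succ]
  apply mul_dvd_mul_left
  rw [X_dvd_iff, map_sub, map_mul, map_pow, hp', one_pow, one_mul, tau_cc φ hX, sub_self]

theorem phi_bijective (φ : k⟦X⟧ →ₐ[k] k⟦X⟧) {p' : k⟦X⟧} (hp : φ X = X * p')
    (hp' : constantCoeff p' = 1) : Function.Bijective φ := by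
  constructor
  · rw [injective_iff_map_eq_zero]
    intro f hf
    have : ∀ n, (X : k⟦X⟧)^n ∣ f := by
      intro n
      induction n with
      | zero => simp
      | succ n ih =>
        have := phi_contract φ hp hp' ih
        rwa [hf, sub_zero] at this
    ext j
    rw [map_zero]
    exact X_pow_dvd_iff.mp (this (j+1)) j (Nat.lt_succ_self j)
  · intro g
    obtain ⟨f, hf⟩ := contraction_fixpt (fun f => f + (g - φ f)) (by
      intro n f f' hff
      have := phi_contract φ hp hp' hff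
      have e : (f + (g - φ f)) - (f' + (g - φ f')) = (f - f') - φ (f - f') := by
        rw [map_sub]; ring
      rw [e]; exact this)
    refine ⟨f, ?_⟩
    have h0 : g - φ f = 0 := by
      have : f + (g - φ f) = f := hf
      exact add_eq_left.mp this
    exact (sub_eq_zero.mp h0).symm

end inv

/-- Let k be a field in which 2 is invertible and σ an involutive k-algebra automorphism of the power
series ring k[[t]], with ξ the coefficient of t in σ(t). Then ξ^2 = 1, the k-algebra endomorphism φ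
with φ(t) = (t + ξ σ(t))/2 is an automorphism, and φ⁻¹ σ φ is the automorphism t ↦ ξ t. (The
published statement is over an algebraically closed field of characteristic prime to 2; only the
invertibility of 2 is used, so any field with 2 ≠ 0 is allowed here.) -/
theorem result (k : Type u) [Field k] (h2 : (2 : k) ≠ 0)
    (σ : PowerSeries k ≃ₐ[k] PowerSeries k) (hσ : ∀ f, σ (σ f) = f) :
    (PowerSeries.coeff 1 (σ PowerSeries.X)) ^ 2 = 1 ∧
    ∃ φ : PowerSeries k ≃ₐ[k] PowerSeries k,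
      φ PowerSeries.X = PowerSeries.C (2⁻¹ : k) *
        (PowerSeries.X + PowerSeries.C (PowerSeries.coeff 1 (σ PowerSeries.X)) * σ PowerSeries.X) ∧
      ∀ f, φ.symm (σ (φ f)) = PowerSeries.rescale (PowerSeries.coeff 1 (σ PowerSeries.X)) f := by
  have hs0 : constantCoeff (σ X) = 0 := by
    by_contra hne
    have hu : IsUnit (σ X) := by
      rw [isUnit_iff_constantCoeff]; exact isUnit_iff_ne_zero.mpr hne
    have hu2 : IsUnit (σ (σ X)) := hu.map σ
    rw [hσ, isUnit_iff_constantCoeff, constantCoeff_X] at hu2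
    exact not_isUnit_zero hu2
  obtain ⟨s', hs'⟩ := X_dvd_iff.mpr hs0
  have hξ' : constantCoeff s' = coeff 1 (σ X) := by
    rw [hs', ← coeff_zero_eq_constantCoeff_apply, show (1:ℕ) = 0 + 1 from rfl, coeff_succ_X_mul]
  have hσX : (X : k⟦X⟧) ∣ (σ : k⟦X⟧ →ₐ[k] k⟦X⟧) X := ⟨s', hs'⟩
  have h1 : s' * σ s' = 1 := by
    have e : X * (s' * σ s') = X * 1 := by
      have h3 := hσ X
      have h4 : σ (σ X) = X * (s' * σ s') := by
        conv_lhs => rw [hs', map_mul, hs']
        ring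
      rw [mul_one, ← h4, h3]
    exact mul_left_cancel₀ X_ne_zero e
  have hξ2 : (coeff 1 (σ X)) ^ 2 = 1 := by
    have := congrArg constantCoeff h1
    rw [map_mul, map_one] at this
    have h5 : constantCoeff (σ s') = constantCoeff s' := tau_cc (σ : k⟦X⟧ →ₐ[k] k⟦X⟧) hσX s'
    rw [h5, hξ'] at this
    rw [pow_two]; exact this
  refine ⟨hξ2, ?_⟩
  generalize hξ : coeff 1 (σ X) = ξ at *
  have hp0 : constantCoeff (C (2⁻¹ : k) * (X + C ξ * σ X)) = 0 := by
    rw [map_mul, map_add, map_mul, hs0, constantCoeff_X]; simp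
  have hpp : C (2⁻¹ : k) * (X + C ξ * σ X) = X * (C (2⁻¹ : k) * (1 + C ξ * s')) := by
    rw [hs']; ring
  have hp'1 : constantCoeff (C (2⁻¹ : k) * (1 + C ξ * s')) = 1 := by
    rw [map_mul, map_add, map_mul, hξ', constantCoeff_C, constantCoeff_C, map_one, ← pow_two, hξ2,
      one_add_one_eq_two, inv_mul_cancel₀ h2]
  have hφX : substAlgHom (HasSubst.of_constantCoeff_zero' hp0) (X : k⟦X⟧) =
      C (2⁻¹ : k) * (X + C ξ * σ X) := substAlgHom_X _
  have hbij := phi_bijective (substAlgHom (HasSubst.of_constantCoeff_zero' hp0))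
    (hφX.trans hpp) hp'1
  refine ⟨AlgEquiv.ofBijective (substAlgHom (HasSubst.of_constantCoeff_zero' hp0)) hbij, ?_, ?_⟩
  · exact hφX
  · intro f
    rw [AlgEquiv.symm_apply_eq]
    have key : (σ : k⟦X⟧ →ₐ[k] k⟦X⟧).comp (substAlgHom (HasSubst.of_constantCoeff_zero' hp0)) =
        (substAlgHom (HasSubst.of_constantCoeff_zero' hp0)).comp
          ({ toRingHom := rescale ξ, commutes' := fun c => by
              rw [algebraMap_eq]; show rescale ξ (C c) = C c
              ext n; rw [coeff_rescale, coeff_C]; split_ifs with h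
              · subst h; simp
              · simp } : k⟦X⟧ →ₐ[k] k⟦X⟧) := by
      apply tau_ext
      · show (X : k⟦X⟧) ∣ σ (substAlgHom (HasSubst.of_constantCoeff_zero' hp0) X)
        rw [hφX]
        have : (X : k⟦X⟧)^1 ∣ C (2⁻¹ : k) * (X + C ξ * σ X) := by
          rw [pow_one, hpp]; exact Dvd.intro _ rfl
        have := tau_dvd (σ : k⟦X⟧ →ₐ[k] k⟦X⟧) hσX this
        rwa [pow_one] at this
      · show σ (substAlgHom (HasSubst.of_constantCoeff_zero' hp0) X) =
          substAlgHom (HasSubst.of_constantCoeff_zero' hp0) (rescale ξ X)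
        have e1 : σ (C (2⁻¹ : k)) = C (2⁻¹ : k) := tau_C (σ : k⟦X⟧ →ₐ[k] k⟦X⟧) _
        have e2 : σ (C ξ) = C ξ := tau_C (σ : k⟦X⟧ →ₐ[k] k⟦X⟧) _
        have e3 : (C ξ : k⟦X⟧) * C ξ = 1 := by rw [← map_mul, ← pow_two, hξ2, map_one]
        have lhs : σ (C (2⁻¹ : k) * (X + C ξ * σ X)) = C (2⁻¹ : k) * (σ X + C ξ * X) := by
          rw [map_mul, map_add, map_mul, hσ, e1, e2]
        have rhs : substAlgHom (HasSubst.of_constantCoeff_zero' hp0) (rescale ξ X) =
            C ξ * (C (2⁻¹ : k) * (X + C ξ * σ X)) := by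
          rw [rescale_X, map_mul, tau_C, hφX]
        rw [hφX, lhs, rhs]
        linear_combination (-(C (2⁻¹ : k) * σ X)) * e3
    exact AlgHom.congr_fun key f

end Groth.Agent.S14080
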