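import Groth.Statements.S14081
import Mathlib
import Groth.Agent.Lib.ArSing97f
import Groth.Agent.S14080
-- import your own Groth.Agent.* helpers here

set_option autoImplicit false
universe u
open ArSing

namespace Groth.Agent.S14081

open Groth.Agent.Lib.ArSing97 PowerSeries

section S81
variable {k : Type u} [Field k] {n : ℕ} (h2 : (2 : k) ≠ 0)
variable (σ : ArSing.ring k (2 * n) ≃ₐ[k] ArSing.ring k (2 * n)) (hσ : ∀ a, σ (σ a) = a)

theorem x_ne_zero : ArSing.x k (2 * n) ≠ 0 := by
  intro h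
  have := congrArg (Ev.nu k n) h
  rw [Ev.nu_x, map_zero] at this
  exact pow_ne_zero _ PowerSeries.X_ne_zero this

/-- the relation in `k[[t]]` -/
theorem rel_nu : Ev.nu k n (σ (ArSing.y k (2 * n))) ^ 2 =
    Ev.nu k n (σ (ArSing.x k (2 * n))) ^ (2 * n + 1) := by
  have h := y_sq k (2 * n)
  rw [map_pow, xMap_X] at h
  have h1 := congrArg (fun z => Ev.nu k n (σ z)) h
  simp only [map_pow] at h1
  exact h1

/-- existence of the square root `q` of `ν(σ x)` with `q^(2n+1) = ν(σ y)` -/
theorem exists_root :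
    ∃ q : PowerSeries k, q ^ 2 = Ev.nu k n (σ (ArSing.x k (2 * n))) ∧
      q ^ (2 * n + 1) = Ev.nu k n (σ (ArSing.y k (2 * n))) ∧ PowerSeries.constantCoeff q = 0 := by
  have hrel := rel_nu σ
  set s := Ev.nu k n (σ (ArSing.x k (2 * n))) with hs
  set w := Ev.nu k n (σ (ArSing.y k (2 * n))) with hw
  have hs0 : s ≠ 0 := by
    intro h
    have h1 : σ (ArSing.x k (2 * n)) = 0 := Ev.nu_injective (by rw [← hs, h, map_zero])
    exact x_ne_zero (σ.injective (by rw [h1, map_zero]))
  have hccs : PowerSeries.constantCoeff s = 0 := by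
    have : s = ((Ev.nu k n).comp ((σ : ArSing.ring k (2 * n) →ₐ[k] ArSing.ring k (2 * n)).comp
        (ArSing.xMap k (2 * n)))) PowerSeries.X := by
      simp only [AlgHom.comp_apply, xMap_X]; rfl
    rw [this]
    exact constantCoeff_algHom_X _
  rcases ValuationRing.dvd_total (s ^ n) w with ⟨q, hq⟩ | ⟨q', hq'⟩
  · have hq2 : q ^ 2 = s := by
      have e : s ^ (2 * n) * q ^ 2 = s ^ (2 * n) * s := by
        have : s ^ (2 * n) * q ^ 2 = (s ^ n * q) ^ 2 := by ring
        rw [this, ← hq, hrel]; ring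
      exact mul_left_cancel₀ (pow_ne_zero _ hs0) e
    refine ⟨q, hq2, ?_, ?_⟩
    · rw [hq, ← hq2]; ring
    · have := congrArg (PowerSeries.constantCoeff (R := k)) hq2
      rw [map_pow, hccs] at this
      exact pow_eq_zero_iff (two_ne_zero) |>.mp this
  · exfalso
    have e : s ^ (2 * n) * 1 = s ^ (2 * n) * (s * q' ^ 2) := by
      have : s ^ (2 * n) * 1 = (s ^ n) ^ 2 := by ring
      rw [this, hq']
      have : (w * q') ^ 2 = w ^ 2 * q' ^ 2 := by ring
      rw [this, hrel]; ring
    have h1 := mul_left_cancel₀ (pow_ne_zero _ hs0) e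
    have := congrArg (PowerSeries.constantCoeff (R := k)) h1
    rw [map_one, map_mul, hccs, zero_mul] at this
    exact one_ne_zero this

include h2 hσ in
theorem main (hne : σ ≠ AlgEquiv.refl) :
    ∃ φ : ArSing.ring k (2 * n) ≃ₐ[k] ArSing.ring k (2 * n),
      φ.symm (σ (φ (ArSing.x k (2 * n)))) = ArSing.x k (2 * n) ∧
      φ.symm (σ (φ (ArSing.y k (2 * n)))) = -ArSing.y k (2 * n) := by
  obtain ⟨q, hq2, hqw, hccq⟩ := exists_root σ
  let st : PowerSeries k →ₐ[k] PowerSeries k :=
    PowerSeries.substAlgHom (PowerSeries.HasSubst.of_constantCoeff_zero' hccq)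
  have hstX : st PowerSeries.X = q := by
    show PowerSeries.substAlgHom _ _ = _
    rw [PowerSeries.coe_substAlgHom,
      PowerSeries.subst_X (PowerSeries.HasSubst.of_constantCoeff_zero' hccq)]
  -- ν ∘ σ = σ~ ∘ ν
  have hcomm : ∀ z, Ev.nu k n (σ z) = st (Ev.nu k n z) := by
    have : (Ev.nu k n).comp (σ : ArSing.ring k (2 * n) →ₐ[k] ArSing.ring k (2 * n)) =
        st.comp (Ev.nu k n) := by
      apply algHom_ext_ring' k (2 * n)
      · simp only [AlgHom.comp_apply, AlgEquiv.coe_toAlgHom, Ev.nu_x, map_pow, hstX, hq2]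
      · simp only [AlgHom.comp_apply, AlgEquiv.coe_toAlgHom, Ev.nu_y, map_pow, hstX, hqw]
      · intro w hw
        apply hausdorff_ps k _ _ w hw
        simp only [AlgHom.comp_apply, AlgEquiv.coe_toAlgHom]
        rw [← hq2]
        exact Dvd.dvd.pow (PowerSeries.X_dvd_iff.mpr hccq) two_ne_zero
    exact fun z => DFunLike.congr_fun this z
  -- σ~ is an involution
  have hinv2 : ∀ z, st (st (Ev.nu k n z)) = Ev.nu k n z := by
    intro z
    rw [← hcomm, ← hcomm, hσ]
  have hg2 : st (st PowerSeries.X) ^ 2 = PowerSeries.X ^ 2 := by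
    have := hinv2 (ArSing.x k (2 * n))
    rw [Ev.nu_x, map_pow, map_pow] at this
    exact this
  have hgodd : st (st PowerSeries.X) ^ (2 * n + 1) = PowerSeries.X ^ (2 * n + 1) := by
    have := hinv2 (ArSing.y k (2 * n))
    rw [Ev.nu_y, map_pow, map_pow] at this
    exact this
  have hgX : st (st PowerSeries.X) = PowerSeries.X := by
    have e : (st (st PowerSeries.X) - PowerSeries.X) * (st (st PowerSeries.X) + PowerSeries.X) = 0 := by
      linear_combination hg2
    rcases mul_eq_zero.mp e with h | h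
    · exact sub_eq_zero.mp h
    · exfalso
      have hg : st (st PowerSeries.X) = -PowerSeries.X := by linear_combination h
      rw [hg, Odd.neg_pow ⟨n, rfl⟩] at hgodd
      have h3 : (PowerSeries.X : PowerSeries k) ^ (2 * n + 1) + PowerSeries.X ^ (2 * n + 1) = 0 := by
        linear_combination -hgodd
      exact pow_ne_zero _ PowerSeries.X_ne_zero (two_smul_eq_zero k h2 _ h3)
  have hinv : ∀ f, st (st f) = f := by
    have : st.comp st = AlgHom.id k (PowerSeries k) := by
      apply algHom_ext_powerSeries k (PowerSeries.X : PowerSeries k) (hausdorff_ps k _ dvd_rfl)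
      · exact hgX
      · rfl
    exact fun f => DFunLike.congr_fun this f
  let SE : PowerSeries k ≃ₐ[k] PowerSeries k :=
    AlgEquiv.ofAlgHom st st (AlgHom.ext fun f => hinv f) (AlgHom.ext fun f => hinv f)
  obtain ⟨hξ2, φ, hφX, hφ⟩ := Groth.Agent.S14080.result k h2 SE (fun f => hinv f)
  have hSEX : SE PowerSeries.X = q := hstX
  rw [hSEX] at hξ2 hφX hφ
  -- oddness of q modulo t^(2n)
  have hξ0 : PowerSeries.coeff 1 q ≠ 0 := by
    intro h
    rw [h] at hξ2
    simp at hξ2
  have hqodd : (PowerSeries.X : PowerSeries k) ^ (2 * n) ∣ q + Nneg k q := by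
    have h1 := Ev.nu_sub_Nneg (σ (ArSing.x k (2 * n)))
    rw [← hq2, map_pow] at h1
    have e : q ^ 2 - Nneg k q ^ 2 = (q - Nneg k q) * (q + Nneg k q) := by ring
    rw [e] at h1
    obtain ⟨p, hp⟩ : (PowerSeries.X : PowerSeries k) ∣ q - Nneg k q := by
      have := X_dvd_Nneg_sub k q
      rw [← dvd_neg, neg_sub] at this
      exact this
    have hpu : IsUnit p := by
      rw [PowerSeries.isUnit_iff_constantCoeff, isUnit_iff_ne_zero]
      have e1 : PowerSeries.coeff 1 (PowerSeries.X * p) = PowerSeries.constantCoeff p := by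
        rw [show (1 : ℕ) = 0 + 1 from rfl, PowerSeries.coeff_succ_X_mul,
          PowerSeries.coeff_zero_eq_constantCoeff_apply]
      rw [← e1, ← hp, map_sub, coeff_Nneg, pow_one]
      intro h
      have h3 : PowerSeries.coeff 1 q * 2 = 0 := by linear_combination h
      rcases mul_eq_zero.mp h3 with h | h
      · exact hξ0 h
      · exact h2 h
    rw [hp, pow_succ', mul_assoc] at h1
    have h4 := (mul_dvd_mul_iff_left PowerSeries.X_ne_zero).mp h1
    exact (hpu.dvd_mul_left).mp h4
  generalize PowerSeries.coeff 1 q = ξ at hξ2 hφX hφ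
  have hφodd : (PowerSeries.X : PowerSeries k) ^ (2 * n) ∣
      φ PowerSeries.X + Nneg k (φ PowerSeries.X) := by
    rw [hφX, map_mul, map_add, map_mul, Ev.Nneg_C, Ev.Nneg_C, Nneg_X]
    obtain ⟨d, hd⟩ := hqodd
    exact ⟨PowerSeries.C (2⁻¹ : k) * PowerSeries.C ξ * d, by
      linear_combination (PowerSeries.C (2⁻¹ : k) * PowerSeries.C ξ) * hd⟩
  have key : ∀ z, Ev.nu k n ((Ev.nuEquiv h2 φ hφodd).symm (σ (Ev.nuEquiv h2 φ hφodd z))) =
      PowerSeries.rescale ξ (Ev.nu k n z) := by
    intro z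
    rw [Ev.nu_nuEquiv_symm, hcomm, Ev.nu_nuEquiv]
    exact hφ (Ev.nu k n z)
  have hp : ξ = 1 ∨ ξ = -1 := by
    rw [pow_two] at hξ2; exact mul_self_eq_one_iff.mp hξ2
  rcases hp with hp | hp
  · exfalso
    apply hne
    have hid : ∀ z, (Ev.nuEquiv h2 φ hφodd).symm (σ (Ev.nuEquiv h2 φ hφodd z)) = z := by
      intro z
      apply Ev.nu_injective
      rw [key, hp, PowerSeries.rescale_one, RingHom.id_apply]
    ext w
    have h5 := hid ((Ev.nuEquiv h2 φ hφodd).symm w)
    rw [AlgEquiv.apply_symm_apply] at h5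
    have h6 := congrArg (Ev.nuEquiv h2 φ hφodd) h5
    rw [AlgEquiv.apply_symm_apply, AlgEquiv.apply_symm_apply] at h6
    rw [h6]; rfl
  · refine ⟨Ev.nuEquiv h2 φ hφodd, ?_, ?_⟩
    · apply Ev.nu_injective
      rw [key, hp, Ev.nu_x, map_pow, PowerSeries.rescale_neg_one_X, neg_sq]
    · apply Ev.nu_injective
      rw [key, hp, map_neg, Ev.nu_y, map_pow, PowerSeries.rescale_neg_one_X, Odd.neg_pow ⟨n, rfl⟩]

end S81

/-- Over an algebraically closed field k of characteristic prime to 2 and to r+1, with r even, every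
non-trivial k-algebra involution σ of A_r = k[[x,y]]/(y^2 - x^(r+1)) is conjugate, by a k-algebra
automorphism φ of A_r, to the involution x ↦ x, y ↦ -y (that is, φ⁻¹σφ fixes the class of x and
negates the class of y). -/
theorem result (k : Type u) [Field k] [IsAlgClosed k] (r : ℕ)
    (h2 : (2 : k) ≠ 0) (hr : ((r + 1 : ℕ) : k) ≠ 0) (hev : Even r)
    (σ : ArSing.ring k r ≃ₐ[k] ArSing.ring k r) (hσ : ∀ a, σ (σ a) = a) (hne : σ ≠ AlgEquiv.refl) :
    ∃ φ : ArSing.ring k r ≃ₐ[k] ArSing.ring k r,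
      φ.symm (σ (φ (ArSing.x k r))) = ArSing.x k r ∧
      φ.symm (σ (φ (ArSing.y k r))) = -ArSing.y k r := by
  obtain ⟨n, hn⟩ := hev
  have hn' : r = 2 * n := by omega
  subst hn'
  exact main h2 σ hσ hne

end Groth.Agent.S14081
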