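import Groth.Statements.S14082
import Mathlib
import Groth.Agent.Lib.ArSing97e
import Groth.Agent.S14080
-- import your own Groth.Agent.* helpers here

set_option autoImplicit false
universe u
open ArSing

namespace Groth.Agent.S14082

open Groth.Agent.Lib.ArSing97 PowerSeries

section S82a
variable {k : Type u} [Field k] {n : ℕ}

/-- `t ↦ c t` -/
noncomputable def Resc (c : k) : PowerSeries k →ₐ[k] PowerSeries k := PowerSeries.rescaleAlgHom c

theorem Resc_apply (c : k) (a : PowerSeries k) : Resc c a = PowerSeries.rescale c a := by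
  unfold Resc
  rw [← PowerSeries.coe_rescaleAlgHom]; rfl

theorem Resc_Resc {c : k} (hc : c * c = 1) (a : PowerSeries k) : Resc c (Resc c a) = a := by
  ext j
  rw [Resc_apply, Resc_apply, PowerSeries.coeff_rescale, PowerSeries.coeff_rescale, ← mul_assoc,
    ← mul_pow, hc, one_pow, one_mul]

theorem Resc_one (a : PowerSeries k) : Resc (1 : k) a = a := by
  rw [Resc_apply, PowerSeries.rescale_one, RingHom.id_apply]

theorem Resc_neg_one_X : Resc (-1 : k) PowerSeries.X = -PowerSeries.X := by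
  rw [Resc_apply, PowerSeries.rescale_neg_one_X]

theorem u_ne_zero (h2 : (2 : k) ≠ 0) :
    ArSing.y k (2 * n + 1) + ArSing.x k (2 * n + 1) ^ (n + 1) ≠ 0 := by
  intro h
  have h1 := congrArg (Od.brp k n) h
  rw [map_add, map_pow, Od.brp_x, Od.brp_y, map_zero] at h1
  exact pow_ne_zero _ PowerSeries.X_ne_zero (two_smul_eq_zero k h2 _ h1)

theorem v_ne_zero (h2 : (2 : k) ≠ 0) :
    ArSing.y k (2 * n + 1) - ArSing.x k (2 * n + 1) ^ (n + 1) ≠ 0 := by
  intro h
  have h1 := congrArg (Od.brm k n) h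
  rw [map_sub, map_pow, Od.brm_x, Od.brm_y, map_zero] at h1
  have h3 : (PowerSeries.X : PowerSeries k) ^ (n + 1) + PowerSeries.X ^ (n + 1) = 0 := by
    linear_combination -h1
  exact pow_ne_zero _ PowerSeries.X_ne_zero (two_smul_eq_zero k h2 _ h3)

theorem dichotomy (h2 : (2 : k) ≠ 0) (σ : ArSing.ring k (2 * n + 1) ≃ₐ[k] ArSing.ring k (2 * n + 1)) :
    (Od.brp k n (σ (ArSing.y k (2 * n + 1) - ArSing.x k (2 * n + 1) ^ (n + 1))) = 0 ∧
      Od.brm k n (σ (ArSing.y k (2 * n + 1) + ArSing.x k (2 * n + 1) ^ (n + 1))) = 0) ∨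
    (Od.brp k n (σ (ArSing.y k (2 * n + 1) + ArSing.x k (2 * n + 1) ^ (n + 1))) = 0 ∧
      Od.brm k n (σ (ArSing.y k (2 * n + 1) - ArSing.x k (2 * n + 1) ^ (n + 1))) = 0) := by
  have h0 : σ (ArSing.y k (2 * n + 1) + ArSing.x k (2 * n + 1) ^ (n + 1)) *
      σ (ArSing.y k (2 * n + 1) - ArSing.x k (2 * n + 1) ^ (n + 1)) = 0 := by
    rw [← map_mul, Od.node_mul, map_zero]
  have hp := congrArg (Od.brp k n) h0
  rw [map_mul, map_zero] at hp
  have hm := congrArg (Od.brm k n) h0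
  rw [map_mul, map_zero] at hm
  have hu : σ (ArSing.y k (2 * n + 1) + ArSing.x k (2 * n + 1) ^ (n + 1)) ≠ 0 := fun h =>
    u_ne_zero h2 (σ.injective (by rw [h, map_zero]))
  have hv : σ (ArSing.y k (2 * n + 1) - ArSing.x k (2 * n + 1) ^ (n + 1)) ≠ 0 := fun h =>
    v_ne_zero h2 (σ.injective (by rw [h, map_zero]))
  rcases mul_eq_zero.mp hp with hpu | hpv
  · right
    refine ⟨hpu, ?_⟩
    rcases mul_eq_zero.mp hm with hmu | hmv
    · exact absurd (Od.eq_zero_of_brp_brm h2 hpu hmu) hu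
    · exact hmv
  · left
    refine ⟨hpv, ?_⟩
    rcases mul_eq_zero.mp hm with hmu | hmv
    · exact hmu
    · exact absurd (Od.eq_zero_of_brp_brm h2 hpv hmv) hv

theorem factor_brp {B : Type*} [CommRing B] [Algebra k B] (τ : ArSing.ring k (2 * n + 1) →ₐ[k] B)
    (h : τ (ArSing.y k (2 * n + 1) - ArSing.x k (2 * n + 1) ^ (n + 1)) = 0)
    (z : ArSing.ring k (2 * n + 1)) :
    τ z = τ (ArSing.xMap k (2 * n + 1) (Od.brp k n z)) := by
  have hmem : z - ArSing.xMap k (2 * n + 1) (Od.brp k n z) ∈ RingHom.ker (Od.brp k n) := by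
    rw [RingHom.mem_ker, map_sub, Od.brp_xMap, sub_self]
  rw [Od.ker_brp] at hmem
  obtain ⟨c, hc⟩ := Ideal.mem_span_singleton'.mp hmem
  have hz : z = ArSing.xMap k (2 * n + 1) (Od.brp k n z) +
      c * (ArSing.y k (2 * n + 1) - ArSing.x k (2 * n + 1) ^ (n + 1)) := by
    rw [hc]; ring
  conv_lhs => rw [hz]
  rw [map_add, map_mul, h, mul_zero, add_zero]

theorem factor_brm {B : Type*} [CommRing B] [Algebra k B] (τ : ArSing.ring k (2 * n + 1) →ₐ[k] B)
    (h : τ (ArSing.y k (2 * n + 1) + ArSing.x k (2 * n + 1) ^ (n + 1)) = 0)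
    (z : ArSing.ring k (2 * n + 1)) :
    τ z = τ (ArSing.xMap k (2 * n + 1) (Od.brm k n z)) := by
  have hmem : z - ArSing.xMap k (2 * n + 1) (Od.brm k n z) ∈ RingHom.ker (Od.brm k n) := by
    rw [RingHom.mem_ker, map_sub, Od.brm_xMap, sub_self]
  rw [Od.ker_brm] at hmem
  obtain ⟨c, hc⟩ := Ideal.mem_span_singleton'.mp hmem
  have hz : z = ArSing.xMap k (2 * n + 1) (Od.brm k n z) +
      c * (ArSing.y k (2 * n + 1) + ArSing.x k (2 * n + 1) ^ (n + 1)) := by
    rw [hc]; ring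
  conv_lhs => rw [hz]
  rw [map_add, map_mul, h, mul_zero, add_zero]

/-- `brp ∘ σ ∘ (k[[x]] → A)` -/
noncomputable def sp (σ : ArSing.ring k (2 * n + 1) ≃ₐ[k] ArSing.ring k (2 * n + 1)) :
    PowerSeries k →ₐ[k] PowerSeries k :=
  (Od.brp k n).comp ((σ : ArSing.ring k (2 * n + 1) →ₐ[k] ArSing.ring k (2 * n + 1)).comp
    (ArSing.xMap k (2 * n + 1)))

/-- `brm ∘ σ ∘ (k[[x]] → A)` -/
noncomputable def sm (σ : ArSing.ring k (2 * n + 1) ≃ₐ[k] ArSing.ring k (2 * n + 1)) :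
    PowerSeries k →ₐ[k] PowerSeries k :=
  (Od.brm k n).comp ((σ : ArSing.ring k (2 * n + 1) →ₐ[k] ArSing.ring k (2 * n + 1)).comp
    (ArSing.xMap k (2 * n + 1)))

theorem sp_apply (σ : ArSing.ring k (2 * n + 1) ≃ₐ[k] ArSing.ring k (2 * n + 1)) (f : PowerSeries k) :
    sp σ f = Od.brp k n (σ (ArSing.xMap k (2 * n + 1) f)) := rfl

theorem sm_apply (σ : ArSing.ring k (2 * n + 1) ≃ₐ[k] ArSing.ring k (2 * n + 1)) (f : PowerSeries k) :
    sm σ f = Od.brm k n (σ (ArSing.xMap k (2 * n + 1) f)) := rfl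

/-- linear coefficients multiply under composition -/
theorem coeff_one_comp (α β : PowerSeries k →ₐ[k] PowerSeries k) :
    PowerSeries.coeff 1 (α (β PowerSeries.X)) =
      PowerSeries.coeff 1 (α PowerSeries.X) * PowerSeries.coeff 1 (β PowerSeries.X) := by
  obtain ⟨g, hg⟩ := PowerSeries.X_dvd_iff.mpr (constantCoeff_algHom_X β)
  obtain ⟨g', hg'⟩ := PowerSeries.X_dvd_iff.mpr (constantCoeff_algHom_X α)
  have e1 : PowerSeries.coeff 1 (β PowerSeries.X) = PowerSeries.constantCoeff g := by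
    rw [hg, show (1 : ℕ) = 0 + 1 from rfl, PowerSeries.coeff_succ_X_mul,
      PowerSeries.coeff_zero_eq_constantCoeff_apply]
  have e2 : PowerSeries.coeff 1 (α PowerSeries.X) = PowerSeries.constantCoeff g' := by
    rw [hg', show (1 : ℕ) = 0 + 1 from rfl, PowerSeries.coeff_succ_X_mul,
      PowerSeries.coeff_zero_eq_constantCoeff_apply]
  have e3 : α (β PowerSeries.X) = PowerSeries.X * (g' * α g) := by
    rw [hg, map_mul, hg']; ring
  rw [e3, show (1 : ℕ) = 0 + 1 from rfl, PowerSeries.coeff_succ_X_mul,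
    PowerSeries.coeff_zero_eq_constantCoeff_apply, map_mul, constantCoeff_algHom, e1, e2]

theorem coeff_one_eq_of_dvd {f g : PowerSeries k} {N : ℕ} (hN : 2 ≤ N)
    (h : (PowerSeries.X : PowerSeries k) ^ N ∣ f - g) :
    PowerSeries.coeff 1 f = PowerSeries.coeff 1 g := by
  have := PowerSeries.X_pow_dvd_iff.mp h 1 (by omega)
  rw [map_sub, sub_eq_zero] at this
  exact this

end S82a

section S82b
variable {k : Type u} [Field k] {n : ℕ} (h2 : (2 : k) ≠ 0) (hn : 1 ≤ n)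
variable (σ : ArSing.ring k (2 * n + 1) ≃ₐ[k] ArSing.ring k (2 * n + 1)) (hσ : ∀ a, σ (σ a) = a)

theorem rescale_neg_one_pow (N : ℕ) :
    PowerSeries.rescale (-1 : k) ((PowerSeries.X : PowerSeries k) ^ N) = (-PowerSeries.X) ^ N := by
  rw [map_pow, PowerSeries.rescale_neg_one_X]

include h2 hn hσ in
/-- the branch-preserving case -/
theorem case_pres (hne : σ ≠ AlgEquiv.refl)
    (hpr : Od.brp k n (σ (ArSing.y k (2 * n + 1) - ArSing.x k (2 * n + 1) ^ (n + 1))) = 0 ∧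
      Od.brm k n (σ (ArSing.y k (2 * n + 1) + ArSing.x k (2 * n + 1) ^ (n + 1))) = 0) :
    ∃ φ : ArSing.ring k (2 * n + 1) ≃ₐ[k] ArSing.ring k (2 * n + 1),
      (φ.symm (σ (φ (ArSing.x k (2 * n + 1)))) = -ArSing.x k (2 * n + 1) ∧
        φ.symm (σ (φ (ArSing.y k (2 * n + 1)))) = ArSing.y k (2 * n + 1)) ∨
      (φ.symm (σ (φ (ArSing.x k (2 * n + 1)))) = -ArSing.x k (2 * n + 1) ∧
        φ.symm (σ (φ (ArSing.y k (2 * n + 1)))) = -ArSing.y k (2 * n + 1)) := by
  obtain ⟨hpv, hmu⟩ := hpr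
  have hP : ∀ z, Od.brp k n (σ z) = sp σ (Od.brp k n z) := fun z =>
    factor_brp ((Od.brp k n).comp
      (σ : ArSing.ring k (2 * n + 1) →ₐ[k] ArSing.ring k (2 * n + 1))) hpv z
  have hM : ∀ z, Od.brm k n (σ z) = sm σ (Od.brm k n z) := fun z =>
    factor_brm ((Od.brm k n).comp
      (σ : ArSing.ring k (2 * n + 1) →ₐ[k] ArSing.ring k (2 * n + 1))) hmu z
  have h1 : ∀ f, sp σ (sp σ f) = f := by
    intro f
    have := hP (ArSing.xMap k (2 * n + 1) f)
    rw [Od.brp_xMap] at this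
    rw [← this, ← hP, hσ, Od.brp_xMap]
  have h3 : ∀ f, sm σ (sm σ f) = f := by
    intro f
    have := hM (ArSing.xMap k (2 * n + 1) f)
    rw [Od.brm_xMap] at this
    rw [← this, ← hM, hσ, Od.brm_xMap]
  have hdvd : (PowerSeries.X : PowerSeries k) ^ (n + 1) ∣ sp σ PowerSeries.X - sm σ PowerSeries.X := by
    have := Od.dvd_brp_sub_brm (σ (ArSing.x k (2 * n + 1)))
    rw [hP, hM, Od.brp_x, Od.brm_x] at this
    exact this
  have hξ : PowerSeries.coeff 1 (sm σ PowerSeries.X) = PowerSeries.coeff 1 (sp σ PowerSeries.X) :=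
    (coeff_one_eq_of_dvd (by omega) hdvd).symm
  let Sp : PowerSeries k ≃ₐ[k] PowerSeries k :=
    AlgEquiv.ofAlgHom (sp σ) (sp σ) (AlgHom.ext fun f => h1 f) (AlgHom.ext fun f => h1 f)
  let Sm : PowerSeries k ≃ₐ[k] PowerSeries k :=
    AlgEquiv.ofAlgHom (sm σ) (sm σ) (AlgHom.ext fun f => h3 f) (AlgHom.ext fun f => h3 f)
  obtain ⟨hξp, φp, hφpX, hφp⟩ := Groth.Agent.S14080.result k h2 Sp (fun f => h1 f)
  obtain ⟨-, φm, hφmX, hφm⟩ := Groth.Agent.S14080.result k h2 Sm (fun f => h3 f)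
  have hSpX : Sp PowerSeries.X = sp σ PowerSeries.X := rfl
  have hSmX : Sm PowerSeries.X = sm σ PowerSeries.X := rfl
  rw [hSpX] at hξp hφpX hφp
  rw [hSmX, hξ] at hφmX hφm
  generalize PowerSeries.coeff 1 (sp σ PowerSeries.X) = ξ at hξp hφpX hφp hφmX hφm
  have hab : (PowerSeries.X : PowerSeries k) ^ (n + 1) ∣ φp PowerSeries.X - φm PowerSeries.X := by
    rw [hφpX, hφmX]
    obtain ⟨d, hd⟩ := hdvd
    exact ⟨PowerSeries.C (2⁻¹ : k) * PowerSeries.C ξ * d, by
      linear_combination (PowerSeries.C (2⁻¹ : k) * PowerSeries.C ξ) * hd⟩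
  have keyp : ∀ z, Od.brp k n ((Od.pairEquiv h2 φp φm hab).symm (σ (Od.pairEquiv h2 φp φm hab z))) =
      PowerSeries.rescale ξ (Od.brp k n z) := by
    intro z
    rw [Od.brp_pairEquiv_symm, hP, Od.brp_pairEquiv]
    exact hφp (Od.brp k n z)
  have keym : ∀ z, Od.brm k n ((Od.pairEquiv h2 φp φm hab).symm (σ (Od.pairEquiv h2 φp φm hab z))) =
      PowerSeries.rescale ξ (Od.brm k n z) := by
    intro z
    rw [Od.brm_pairEquiv_symm, hM, Od.brm_pairEquiv]
    exact hφm (Od.brm k n z)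
  have hp : ξ = 1 ∨ ξ = -1 := by
    rw [pow_two] at hξp; exact mul_self_eq_one_iff.mp hξp
  rcases hp with hp | hp
  · exfalso
    apply hne
    have hid : ∀ z, (Od.pairEquiv h2 φp φm hab).symm (σ (Od.pairEquiv h2 φp φm hab z)) = z := by
      intro z
      apply Od.eq_of_brp_brm h2
      · rw [keyp, hp, PowerSeries.rescale_one, RingHom.id_apply]
      · rw [keym, hp, PowerSeries.rescale_one, RingHom.id_apply]
    ext w
    have h5 := hid ((Od.pairEquiv h2 φp φm hab).symm w)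
    rw [AlgEquiv.apply_symm_apply] at h5
    have h6 := congrArg (Od.pairEquiv h2 φp φm hab) h5
    rw [AlgEquiv.apply_symm_apply, AlgEquiv.apply_symm_apply] at h6
    rw [h6]; rfl
  · have hx' : (Od.pairEquiv h2 φp φm hab).symm (σ (Od.pairEquiv h2 φp φm hab (ArSing.x k (2 * n + 1)))) =
        -ArSing.x k (2 * n + 1) := by
      apply Od.eq_of_brp_brm h2
      · rw [keyp, hp, map_neg, Od.brp_x, PowerSeries.rescale_neg_one_X]
      · rw [keym, hp, map_neg, Od.brm_x, PowerSeries.rescale_neg_one_X]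
    rcases Nat.even_or_odd (n + 1) with hev | hod
    · refine ⟨Od.pairEquiv h2 φp φm hab, Or.inl ⟨hx', ?_⟩⟩
      apply Od.eq_of_brp_brm h2
      · rw [keyp, hp, Od.brp_y, rescale_neg_one_pow, hev.neg_pow]
      · rw [keym, hp, Od.brm_y, map_neg, rescale_neg_one_pow, hev.neg_pow]
    · refine ⟨Od.pairEquiv h2 φp φm hab, Or.inr ⟨hx', ?_⟩⟩
      apply Od.eq_of_brp_brm h2
      · rw [keyp, hp, map_neg, Od.brp_y, rescale_neg_one_pow, hod.neg_pow]
      · rw [keym, hp, map_neg, Od.brm_y, map_neg, rescale_neg_one_pow, hod.neg_pow]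

end S82b

section S82c
variable {k : Type u} [Field k] {n : ℕ} (h2 : (2 : k) ≠ 0) (hn : 1 ≤ n)
variable (σ : ArSing.ring k (2 * n + 1) ≃ₐ[k] ArSing.ring k (2 * n + 1)) (hσ : ∀ a, σ (σ a) = a)

theorem Resc_X (c : k) : Resc c PowerSeries.X = PowerSeries.C c * PowerSeries.X := by
  rw [Resc_apply, PowerSeries.rescale_X]

theorem Resc_neg_one_pow (N : ℕ) :
    Resc (-1 : k) ((PowerSeries.X : PowerSeries k) ^ N) = (-PowerSeries.X) ^ N := by
  rw [map_pow, Resc_neg_one_X]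

include h2 hn hσ in
/-- the branch-swapping case -/
theorem case_swap
    (hsw : Od.brp k n (σ (ArSing.y k (2 * n + 1) + ArSing.x k (2 * n + 1) ^ (n + 1))) = 0 ∧
      Od.brm k n (σ (ArSing.y k (2 * n + 1) - ArSing.x k (2 * n + 1) ^ (n + 1))) = 0) :
    ∃ φ : ArSing.ring k (2 * n + 1) ≃ₐ[k] ArSing.ring k (2 * n + 1),
      (φ.symm (σ (φ (ArSing.x k (2 * n + 1)))) = ArSing.x k (2 * n + 1) ∧
        φ.symm (σ (φ (ArSing.y k (2 * n + 1)))) = -ArSing.y k (2 * n + 1)) ∨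
      (φ.symm (σ (φ (ArSing.x k (2 * n + 1)))) = -ArSing.x k (2 * n + 1) ∧
        φ.symm (σ (φ (ArSing.y k (2 * n + 1)))) = ArSing.y k (2 * n + 1)) ∨
      (φ.symm (σ (φ (ArSing.x k (2 * n + 1)))) = -ArSing.x k (2 * n + 1) ∧
        φ.symm (σ (φ (ArSing.y k (2 * n + 1)))) = -ArSing.y k (2 * n + 1)) := by
  obtain ⟨hpu, hmv⟩ := hsw
  have hP : ∀ z, Od.brp k n (σ z) = sp σ (Od.brm k n z) := fun z =>
    factor_brm ((Od.brp k n).comp
      (σ : ArSing.ring k (2 * n + 1) →ₐ[k] ArSing.ring k (2 * n + 1))) hpu z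
  have hM : ∀ z, Od.brm k n (σ z) = sm σ (Od.brp k n z) := fun z =>
    factor_brp ((Od.brm k n).comp
      (σ : ArSing.ring k (2 * n + 1) →ₐ[k] ArSing.ring k (2 * n + 1))) hmv z
  have h1 : ∀ f, sp σ (sm σ f) = f := by
    intro f
    have := hM (ArSing.xMap k (2 * n + 1) f)
    rw [Od.brp_xMap] at this
    rw [← this, ← hP, hσ, Od.brp_xMap]
  have h3 : ∀ f, sm σ (sp σ f) = f := by
    intro f
    have := hP (ArSing.xMap k (2 * n + 1) f)
    rw [Od.brm_xMap] at this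
    rw [← this, ← hM, hσ, Od.brm_xMap]
  have hdvd : (PowerSeries.X : PowerSeries k) ^ (n + 1) ∣ sp σ PowerSeries.X - sm σ PowerSeries.X := by
    have := Od.dvd_brp_sub_brm (σ (ArSing.x k (2 * n + 1)))
    rw [hP, hM, Od.brp_x, Od.brm_x] at this
    exact this
  have ha' : PowerSeries.coeff 1 (sm σ PowerSeries.X) = PowerSeries.coeff 1 (sp σ PowerSeries.X) :=
    (coeff_one_eq_of_dvd (by omega) hdvd).symm
  have haa : PowerSeries.coeff 1 (sp σ PowerSeries.X) * PowerSeries.coeff 1 (sp σ PowerSeries.X) = 1 := by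
    have := coeff_one_comp (sp σ) (sm σ)
    rw [h1, ha', PowerSeries.coeff_one_X] at this
    exact this.symm
  obtain ⟨d, hd⟩ := Od.algHom_dvd (sp σ) hdvd
  rw [map_sub, h1] at hd
  have hccX : PowerSeries.constantCoeff (sp σ PowerSeries.X) = 0 := constantCoeff_algHom_X _
  generalize hadef : PowerSeries.coeff 1 (sp σ PowerSeries.X) = a at haa
  have hCa : (PowerSeries.C a : PowerSeries k) * PowerSeries.C a = 1 := by
    rw [← map_mul, haa, map_one]
  have hcc : PowerSeries.constantCoeff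
      (PowerSeries.C (2⁻¹ : k) * (PowerSeries.X + PowerSeries.C a * sp σ PowerSeries.X)) = 0 := by
    rw [map_mul, map_add, map_mul, hccX, PowerSeries.constantCoeff_X]; simp
  let c : PowerSeries k →ₐ[k] PowerSeries k :=
    PowerSeries.substAlgHom (PowerSeries.HasSubst.of_constantCoeff_zero' hcc)
  have hcX : c PowerSeries.X =
      PowerSeries.C (2⁻¹ : k) * (PowerSeries.X + PowerSeries.C a * sp σ PowerSeries.X) := by
    show PowerSeries.substAlgHom _ _ = _
    rw [PowerSeries.coe_substAlgHom,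
      PowerSeries.subst_X (PowerSeries.HasSubst.of_constantCoeff_zero' hcc)]
  obtain ⟨p', hp'⟩ := PowerSeries.X_dvd_iff.mpr hcc
  have hp'1 : PowerSeries.constantCoeff p' = 1 := by
    have e : PowerSeries.coeff 1 (PowerSeries.X * p') = PowerSeries.constantCoeff p' := by
      rw [show (1 : ℕ) = 0 + 1 from rfl, PowerSeries.coeff_succ_X_mul,
        PowerSeries.coeff_zero_eq_constantCoeff_apply]
    rw [← e, ← hp', PowerSeries.coeff_C_mul, map_add, PowerSeries.coeff_C_mul,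
      PowerSeries.coeff_one_X, hadef, haa]
    field_simp
    norm_num
  have hbij : Function.Bijective c := Groth.Agent.S14080.phi_bijective c (hcX.trans hp') hp'1
  let cE : PowerSeries k ≃ₐ[k] PowerSeries k := AlgEquiv.ofBijective c hbij
  let αE : PowerSeries k ≃ₐ[k] PowerSeries k :=
    AlgEquiv.ofAlgHom (sp σ) (sm σ) (AlgHom.ext fun f => h1 f) (AlgHom.ext fun f => h3 f)
  let ρE : PowerSeries k ≃ₐ[k] PowerSeries k :=
    AlgEquiv.ofAlgHom (Resc a) (Resc a) (AlgHom.ext fun f => Resc_Resc haa f)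
      (AlgHom.ext fun f => Resc_Resc haa f)
  let φp : PowerSeries k ≃ₐ[k] PowerSeries k := ρE.trans (cE.trans αE)
  have hφp : ∀ h, φp h = sp σ (c (Resc a h)) := fun h => rfl
  have hcE : ∀ h, cE h = c h := fun h => rfl
  have hab : (PowerSeries.X : PowerSeries k) ^ (n + 1) ∣ φp PowerSeries.X - cE PowerSeries.X := by
    rw [hφp, hcE, Resc_X, map_mul, algHom_C, map_mul, algHom_C, hcX, map_mul, algHom_C, map_add,
      map_mul, algHom_C]
    exact ⟨PowerSeries.C (2⁻¹ : k) * d, by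
      linear_combination (PowerSeries.C (2⁻¹ : k)) * hd +
        (PowerSeries.C (2⁻¹ : k) * sp σ (sp σ PowerSeries.X)) * hCa⟩
  have key1 : ∀ z, Od.brp k n ((Od.pairEquiv h2 φp cE hab).symm (σ (Od.pairEquiv h2 φp cE hab z))) =
      Resc a (Od.brm k n z) := by
    intro z
    rw [Od.brp_pairEquiv_symm, hP, Od.brm_pairEquiv, AlgEquiv.symm_apply_eq, hφp, Resc_Resc haa]
    rfl
  have key2 : ∀ z, Od.brm k n ((Od.pairEquiv h2 φp cE hab).symm (σ (Od.pairEquiv h2 φp cE hab z))) =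
      Resc a (Od.brp k n z) := by
    intro z
    rw [Od.brm_pairEquiv_symm, hM, Od.brp_pairEquiv, AlgEquiv.symm_apply_eq, hφp, h3]
    rfl
  refine ⟨Od.pairEquiv h2 φp cE hab, ?_⟩
  rcases mul_self_eq_one_iff.mp haa with h | h
  · left
    constructor
    · apply Od.eq_of_brp_brm h2
      · rw [key1, h, Resc_one, Od.brm_x, Od.brp_x]
      · rw [key2, h, Resc_one, Od.brm_x, Od.brp_x]
    · apply Od.eq_of_brp_brm h2
      · rw [key1, h, Resc_one, map_neg, Od.brm_y, Od.brp_y]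
      · rw [key2, h, Resc_one, map_neg, Od.brm_y, Od.brp_y, neg_neg]
  · right
    have hx' : (Od.pairEquiv h2 φp cE hab).symm (σ (Od.pairEquiv h2 φp cE hab (ArSing.x k (2 * n + 1)))) =
        -ArSing.x k (2 * n + 1) := by
      apply Od.eq_of_brp_brm h2
      · rw [key1, h, map_neg, Od.brm_x, Od.brp_x, Resc_neg_one_X]
      · rw [key2, h, map_neg, Od.brm_x, Od.brp_x, Resc_neg_one_X]
    rcases Nat.even_or_odd (n + 1) with hev | hod
    · right
      refine ⟨hx', ?_⟩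
      apply Od.eq_of_brp_brm h2
      · rw [key1, h, map_neg, Od.brm_y, Od.brp_y, map_neg, Resc_neg_one_pow, hev.neg_pow]
      · rw [key2, h, map_neg, Od.brm_y, Od.brp_y, Resc_neg_one_pow, hev.neg_pow, neg_neg]
    · left
      refine ⟨hx', ?_⟩
      apply Od.eq_of_brp_brm h2
      · rw [key1, h, Od.brm_y, Od.brp_y, map_neg, Resc_neg_one_pow, hod.neg_pow, neg_neg]
      · rw [key2, h, Od.brm_y, Od.brp_y, Resc_neg_one_pow, hod.neg_pow]

end S82c

/-- Over an algebraically closed field k of characteristic prime to 2 and to r+1, with r odd and r ≥ 3,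
every non-trivial k-algebra involution σ of A_r = k[[x,y]]/(y^2 - x^(r+1)) is conjugate, by a
k-algebra automorphism φ of A_r, to one of the three involutions (x, y) ↦ (x, -y), (x, y) ↦ (-x, y),
(x, y) ↦ (-x, -y). -/
theorem result (k : Type u) [Field k] [IsAlgClosed k] (r : ℕ)
    (h2 : (2 : k) ≠ 0) (hr : ((r + 1 : ℕ) : k) ≠ 0) (hodd : Odd r) (h3 : 3 ≤ r)
    (σ : ArSing.ring k r ≃ₐ[k] ArSing.ring k r) (hσ : ∀ a, σ (σ a) = a) (hne : σ ≠ AlgEquiv.refl) :
    ∃ φ : ArSing.ring k r ≃ₐ[k] ArSing.ring k r,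
      (φ.symm (σ (φ (ArSing.x k r))) = ArSing.x k r ∧ φ.symm (σ (φ (ArSing.y k r))) = -ArSing.y k r) ∨
      (φ.symm (σ (φ (ArSing.x k r))) = -ArSing.x k r ∧ φ.symm (σ (φ (ArSing.y k r))) = ArSing.y k r) ∨
      (φ.symm (σ (φ (ArSing.x k r))) = -ArSing.x k r ∧ φ.symm (σ (φ (ArSing.y k r))) = -ArSing.y k r) := by
  obtain ⟨n, rfl⟩ := hodd
  have hn : 1 ≤ n := by omega
  rcases dichotomy h2 σ with hpr | hsw
  · obtain ⟨φ, h | h⟩ := case_pres h2 hn σ hσ hne hpr
    · exact ⟨φ, Or.inr (Or.inl h)⟩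
    · exact ⟨φ, Or.inr (Or.inr h)⟩
  · exact case_swap h2 hn σ hσ hsw

end Groth.Agent.S14082
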