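import Groth.Statements.S14083
import Mathlib
import Groth.Agent.Lib.ArSing97d
import Groth.Agent.S14080
-- import your own Groth.Agent.* helpers here

set_option autoImplicit false
universe u
open ArSing

namespace Groth.Agent.S14083

open Groth.Agent.Lib.ArSing97 PowerSeries

section S83a
variable {k : Type u} [Field k]

theorem u_ne_zero (h2 : (2 : k) ≠ 0) : ArSing.x k 1 + ArSing.y k 1 ≠ 0 := by
  intro h
  have h1 := congrArg (brp k) h
  rw [map_add, brp_x, brp_y, map_zero] at h1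
  exact PowerSeries.X_ne_zero (two_smul_eq_zero k h2 _ h1)

theorem v_ne_zero (h2 : (2 : k) ≠ 0) : ArSing.y k 1 - ArSing.x k 1 ≠ 0 := by
  intro h
  have h1 := congrArg (brm k) h
  rw [map_sub, brm_x, brm_y, map_zero] at h1
  have h3 : (PowerSeries.X : PowerSeries k) + PowerSeries.X = 0 := by linear_combination -h1
  exact PowerSeries.X_ne_zero (two_smul_eq_zero k h2 _ h3)

theorem dichotomy (h2 : (2 : k) ≠ 0) (σ : ArSing.ring k 1 ≃ₐ[k] ArSing.ring k 1) :
    (brp k (σ (ArSing.y k 1 - ArSing.x k 1)) = 0 ∧ brm k (σ (ArSing.x k 1 + ArSing.y k 1)) = 0) ∨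
    (brp k (σ (ArSing.x k 1 + ArSing.y k 1)) = 0 ∧ brm k (σ (ArSing.y k 1 - ArSing.x k 1)) = 0) := by
  have h0 : σ (ArSing.x k 1 + ArSing.y k 1) * σ (ArSing.y k 1 - ArSing.x k 1) = 0 := by
    rw [← map_mul, node_mul, map_zero]
  have hp := congrArg (brp k) h0
  rw [map_mul, map_zero] at hp
  have hm := congrArg (brm k) h0
  rw [map_mul, map_zero] at hm
  have hu : σ (ArSing.x k 1 + ArSing.y k 1) ≠ 0 := fun h =>
    u_ne_zero h2 (σ.injective (by rw [h, map_zero]))
  have hv : σ (ArSing.y k 1 - ArSing.x k 1) ≠ 0 := fun h =>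
    v_ne_zero h2 (σ.injective (by rw [h, map_zero]))
  rcases mul_eq_zero.mp hp with hpu | hpv
  · right
    refine ⟨hpu, ?_⟩
    rcases mul_eq_zero.mp hm with hmu | hmv
    · exact absurd (eq_zero_of_brp_brm h2 hpu hmu) hu
    · exact hmv
  · left
    refine ⟨hpv, ?_⟩
    rcases mul_eq_zero.mp hm with hmu | hmv
    · exact hmu
    · exact absurd (eq_zero_of_brp_brm h2 hpv hmv) hv

theorem factor_brp {B : Type*} [CommRing B] [Algebra k B] (τ : ArSing.ring k 1 →ₐ[k] B)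
    (h : τ (ArSing.y k 1 - ArSing.x k 1) = 0) (z : ArSing.ring k 1) :
    τ z = τ (ArSing.xMap k 1 (brp k z)) := by
  have hmem : z - ArSing.xMap k 1 (brp k z) ∈ RingHom.ker (brp k) := by
    rw [RingHom.mem_ker, map_sub, brp_xMap, sub_self]
  rw [ker_brp] at hmem
  obtain ⟨c, hc⟩ := Ideal.mem_span_singleton'.mp hmem
  have hz : z = ArSing.xMap k 1 (brp k z) + c * (ArSing.y k 1 - ArSing.x k 1) := by
    rw [hc]; ring
  conv_lhs => rw [hz]
  rw [map_add, map_mul, h, mul_zero, add_zero]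

theorem factor_brm {B : Type*} [CommRing B] [Algebra k B] (τ : ArSing.ring k 1 →ₐ[k] B)
    (h : τ (ArSing.x k 1 + ArSing.y k 1) = 0) (z : ArSing.ring k 1) :
    τ z = τ (ArSing.xMap k 1 (brm k z)) := by
  have hmem : z - ArSing.xMap k 1 (brm k z) ∈ RingHom.ker (brm k) := by
    rw [RingHom.mem_ker, map_sub, brm_xMap, sub_self]
  rw [ker_brm] at hmem
  obtain ⟨c, hc⟩ := Ideal.mem_span_singleton'.mp hmem
  have hz : z = ArSing.xMap k 1 (brm k z) + c * (ArSing.x k 1 + ArSing.y k 1) := by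
    rw [add_comm (ArSing.x k 1), hc]; ring
  conv_lhs => rw [hz]
  rw [map_add, map_mul, h, mul_zero, add_zero]

/-- `brp ∘ σ ∘ (k[[x]] → A_1)` -/
noncomputable def sp (σ : ArSing.ring k 1 ≃ₐ[k] ArSing.ring k 1) : PowerSeries k →ₐ[k] PowerSeries k :=
  (brp k).comp ((σ : ArSing.ring k 1 →ₐ[k] ArSing.ring k 1).comp (ArSing.xMap k 1))

/-- `brm ∘ σ ∘ (k[[x]] → A_1)` -/
noncomputable def sm (σ : ArSing.ring k 1 ≃ₐ[k] ArSing.ring k 1) : PowerSeries k →ₐ[k] PowerSeries k :=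
  (brm k).comp ((σ : ArSing.ring k 1 →ₐ[k] ArSing.ring k 1).comp (ArSing.xMap k 1))

theorem sp_apply (σ : ArSing.ring k 1 ≃ₐ[k] ArSing.ring k 1) (f : PowerSeries k) :
    sp σ f = brp k (σ (ArSing.xMap k 1 f)) := rfl

theorem sm_apply (σ : ArSing.ring k 1 ≃ₐ[k] ArSing.ring k 1) (f : PowerSeries k) :
    sm σ f = brm k (σ (ArSing.xMap k 1 f)) := rfl

end S83a

section S83b
variable {k : Type u} [Field k] (h2 : (2 : k) ≠ 0)
variable (σ : ArSing.ring k 1 ≃ₐ[k] ArSing.ring k 1) (hσ : ∀ a, σ (σ a) = a)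

/-- the branch-swapping automorphism `x ↦ x`, `y ↦ -y` -/
noncomputable def swapE : ArSing.ring k 1 ≃ₐ[k] ArSing.ring k 1 :=
  AlgEquiv.ofAlgHom (swapHom h2 (AlgHom.id k _) (AlgHom.id k _))
    (swapHom h2 (AlgHom.id k _) (AlgHom.id k _))
    (by
      ext z
      apply eq_of_brp_brm h2
      · simp only [AlgHom.comp_apply, brp_swapHom, brm_swapHom, AlgHom.id_apply]
      · simp only [AlgHom.comp_apply, brp_swapHom, brm_swapHom, AlgHom.id_apply])
    (by
      ext z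
      apply eq_of_brp_brm h2
      · simp only [AlgHom.comp_apply, brp_swapHom, brm_swapHom, AlgHom.id_apply]
      · simp only [AlgHom.comp_apply, brp_swapHom, brm_swapHom, AlgHom.id_apply])

theorem brp_swapE (z : ArSing.ring k 1) : brp k (swapE h2 z) = brm k z :=
  brp_swapHom h2 _ _ z
theorem brm_swapE (z : ArSing.ring k 1) : brm k (swapE h2 z) = brp k z :=
  brm_swapHom h2 _ _ z
theorem brp_swapE_symm (z : ArSing.ring k 1) : brp k ((swapE h2).symm z) = brm k z :=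
  brp_swapHom h2 _ _ z
theorem brm_swapE_symm (z : ArSing.ring k 1) : brm k ((swapE h2).symm z) = brp k z :=
  brm_swapHom h2 _ _ z

include h2 hσ in
/-- the swapping case -/
theorem case_swap (hsw : brp k (σ (ArSing.x k 1 + ArSing.y k 1)) = 0 ∧
      brm k (σ (ArSing.y k 1 - ArSing.x k 1)) = 0) :
    ∃ φ : ArSing.ring k 1 ≃ₐ[k] ArSing.ring k 1,
      φ.symm (σ (φ (ArSing.x k 1))) = ArSing.x k 1 ∧
      φ.symm (σ (φ (ArSing.y k 1))) = -ArSing.y k 1 := by
  obtain ⟨hpu, hmv⟩ := hsw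
  have hP : ∀ z, brp k (σ z) = sp σ (brm k z) := fun z =>
    factor_brm ((brp k).comp (σ : ArSing.ring k 1 →ₐ[k] ArSing.ring k 1)) hpu z
  have hM : ∀ z, brm k (σ z) = sm σ (brp k z) := fun z =>
    factor_brp ((brm k).comp (σ : ArSing.ring k 1 →ₐ[k] ArSing.ring k 1)) hmv z
  have h1 : ∀ f, sp σ (sm σ f) = f := by
    intro f
    have := hM (ArSing.xMap k 1 f)
    rw [brp_xMap] at this
    rw [← this, ← hP, hσ, brp_xMap]
  have h3 : ∀ f, sm σ (sp σ f) = f := by
    intro f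
    have := hP (ArSing.xMap k 1 f)
    rw [brm_xMap] at this
    rw [← this, ← hM, hσ, brm_xMap]
  let φ : ArSing.ring k 1 ≃ₐ[k] ArSing.ring k 1 :=
    AlgEquiv.ofAlgHom (pairHom h2 (AlgHom.id k _) (sm σ)) (pairHom h2 (AlgHom.id k _) (sp σ))
      (by
        ext z
        apply eq_of_brp_brm h2
        · simp only [AlgHom.comp_apply, brp_pairHom, AlgHom.id_apply]
        · simp only [AlgHom.comp_apply, brm_pairHom, AlgHom.id_apply, h3])
      (by
        ext z
        apply eq_of_brp_brm h2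
        · simp only [AlgHom.comp_apply, brp_pairHom, AlgHom.id_apply]
        · simp only [AlgHom.comp_apply, brm_pairHom, AlgHom.id_apply, h1])
  have hφp : ∀ z, brp k (φ z) = brp k z := fun z => brp_pairHom h2 _ _ z
  have hφm : ∀ z, brm k (φ z) = sm σ (brm k z) := fun z => brm_pairHom h2 _ _ z
  have hφsp : ∀ z, brp k (φ.symm z) = brp k z := fun z => brp_pairHom h2 _ _ z
  have hφsm : ∀ z, brm k (φ.symm z) = sp σ (brm k z) := fun z => brm_pairHom h2 _ _ z
  have key1 : ∀ z, brp k (φ.symm (σ (φ z))) = brm k z := by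
    intro z
    rw [hφsp, hP, hφm, h1]
  have key2 : ∀ z, brm k (φ.symm (σ (φ z))) = brp k z := by
    intro z
    rw [hφsm, hM, hφp, h1]
  refine ⟨φ, ?_, ?_⟩
  · apply eq_of_brp_brm h2
    · rw [key1, brm_x, brp_x]
    · rw [key2, brm_x, brp_x]
  · apply eq_of_brp_brm h2
    · rw [key1, map_neg, brm_y, brp_y]
    · rw [key2, map_neg, brm_y, brp_y, neg_neg]

end S83b

section S83c
variable {k : Type u} [Field k] (h2 : (2 : k) ≠ 0)
variable (σ : ArSing.ring k 1 ≃ₐ[k] ArSing.ring k 1) (hσ : ∀ a, σ (σ a) = a)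

theorem rescale_one_apply (f : PowerSeries k) : PowerSeries.rescale (1 : k) f = f := by
  rw [PowerSeries.rescale_one, RingHom.id_apply]

theorem rescale_neg_one_neg_X :
    PowerSeries.rescale (-1 : k) (-(PowerSeries.X : PowerSeries k)) = PowerSeries.X := by
  rw [map_neg, PowerSeries.rescale_neg_one_X, neg_neg]

include h2 hσ in
/-- the branch-preserving case -/
theorem case_pres (hne : σ ≠ AlgEquiv.refl)
    (hpr : brp k (σ (ArSing.y k 1 - ArSing.x k 1)) = 0 ∧
      brm k (σ (ArSing.x k 1 + ArSing.y k 1)) = 0) :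
    ∃ φ : ArSing.ring k 1 ≃ₐ[k] ArSing.ring k 1,
      (φ.symm (σ (φ (ArSing.x k 1))) = -ArSing.x k 1 ∧
        φ.symm (σ (φ (ArSing.y k 1))) = -ArSing.y k 1) ∨
      (φ.symm (σ (φ (ArSing.x k 1))) = ArSing.y k 1 ∧
        φ.symm (σ (φ (ArSing.y k 1))) = ArSing.x k 1) := by
  obtain ⟨hpv, hmu⟩ := hpr
  have hP : ∀ z, brp k (σ z) = sp σ (brp k z) := fun z =>
    factor_brp ((brp k).comp (σ : ArSing.ring k 1 →ₐ[k] ArSing.ring k 1)) hpv z
  have hM : ∀ z, brm k (σ z) = sm σ (brm k z) := fun z =>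
    factor_brm ((brm k).comp (σ : ArSing.ring k 1 →ₐ[k] ArSing.ring k 1)) hmu z
  have h1 : ∀ f, sp σ (sp σ f) = f := by
    intro f
    have := hP (ArSing.xMap k 1 f)
    rw [brp_xMap] at this
    rw [← this, ← hP, hσ, brp_xMap]
  have h3 : ∀ f, sm σ (sm σ f) = f := by
    intro f
    have := hM (ArSing.xMap k 1 f)
    rw [brm_xMap] at this
    rw [← this, ← hM, hσ, brm_xMap]
  let Sp : PowerSeries k ≃ₐ[k] PowerSeries k :=
    AlgEquiv.ofAlgHom (sp σ) (sp σ) (AlgHom.ext fun f => h1 f) (AlgHom.ext fun f => h1 f)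
  let Sm : PowerSeries k ≃ₐ[k] PowerSeries k :=
    AlgEquiv.ofAlgHom (sm σ) (sm σ) (AlgHom.ext fun f => h3 f) (AlgHom.ext fun f => h3 f)
  obtain ⟨hξp, φp, -, hφp⟩ := Groth.Agent.S14080.result k h2 Sp (fun f => h1 f)
  obtain ⟨hξm, φm, -, hφm⟩ := Groth.Agent.S14080.result k h2 Sm (fun f => h3 f)
  generalize PowerSeries.coeff 1 (Sp PowerSeries.X) = ξp at hξp hφp
  generalize PowerSeries.coeff 1 (Sm PowerSeries.X) = ξm at hξm hφm
  have keyp : ∀ z, brp k ((pairEquiv h2 φp φm).symm (σ (pairEquiv h2 φp φm z))) =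
      PowerSeries.rescale ξp (brp k z) := by
    intro z
    rw [brp_pairEquiv_symm, hP, brp_pairEquiv]
    exact hφp (brp k z)
  have keym : ∀ z, brm k ((pairEquiv h2 φp φm).symm (σ (pairEquiv h2 φp φm z))) =
      PowerSeries.rescale ξm (brm k z) := by
    intro z
    rw [brm_pairEquiv_symm, hM, brm_pairEquiv]
    exact hφm (brm k z)
  have hp : ξp = 1 ∨ ξp = -1 := by
    rw [pow_two] at hξp; exact mul_self_eq_one_iff.mp hξp
  have hm : ξm = 1 ∨ ξm = -1 := by
    rw [pow_two] at hξm; exact mul_self_eq_one_iff.mp hξm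
  rcases hp with hp | hp <;> rcases hm with hm | hm
  · -- identity: excluded
    exfalso
    apply hne
    have hid : ∀ z, (pairEquiv h2 φp φm).symm (σ (pairEquiv h2 φp φm z)) = z := by
      intro z
      apply eq_of_brp_brm h2
      · rw [keyp, hp, rescale_one_apply]
      · rw [keym, hm, rescale_one_apply]
    ext w
    have h5 := hid ((pairEquiv h2 φp φm).symm w)
    rw [AlgEquiv.apply_symm_apply] at h5
    have h6 := congrArg (pairEquiv h2 φp φm) h5
    rw [AlgEquiv.apply_symm_apply, AlgEquiv.apply_symm_apply] at h6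
    rw [h6]; rfl
  · -- (1, -1): x ↔ y
    refine ⟨pairEquiv h2 φp φm, Or.inr ⟨?_, ?_⟩⟩
    · apply eq_of_brp_brm h2
      · rw [keyp, hp, rescale_one_apply, brp_x, brp_y]
      · rw [keym, hm, brm_x, brm_y, PowerSeries.rescale_neg_one_X]
    · apply eq_of_brp_brm h2
      · rw [keyp, hp, rescale_one_apply, brp_x, brp_y]
      · rw [keym, hm, brm_x, brm_y, rescale_neg_one_neg_X]
  · -- (-1, 1): conjugate further by the swap
    refine ⟨(swapE h2).trans (pairEquiv h2 φp φm), Or.inr ⟨?_, ?_⟩⟩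
    · show (swapE h2).symm ((pairEquiv h2 φp φm).symm (σ (pairEquiv h2 φp φm (swapE h2 _)))) = _
      apply eq_of_brp_brm h2
      · rw [brp_swapE_symm, keym, hm, rescale_one_apply, brm_swapE, brp_x, brp_y]
      · rw [brm_swapE_symm, keyp, hp, brp_swapE, brm_x, brm_y, PowerSeries.rescale_neg_one_X]
    · show (swapE h2).symm ((pairEquiv h2 φp φm).symm (σ (pairEquiv h2 φp φm (swapE h2 _)))) = _
      apply eq_of_brp_brm h2
      · rw [brp_swapE_symm, keym, hm, rescale_one_apply, brm_swapE, brp_x, brp_y]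
      · rw [brm_swapE_symm, keyp, hp, brp_swapE, brm_x, brm_y, rescale_neg_one_neg_X]
  · -- (-1, -1)
    refine ⟨pairEquiv h2 φp φm, Or.inl ⟨?_, ?_⟩⟩
    · apply eq_of_brp_brm h2
      · rw [keyp, hp, map_neg, brp_x, PowerSeries.rescale_neg_one_X]
      · rw [keym, hm, map_neg, brm_x, PowerSeries.rescale_neg_one_X]
    · apply eq_of_brp_brm h2
      · rw [keyp, hp, map_neg, brp_y, PowerSeries.rescale_neg_one_X]
      · rw [keym, hm, map_neg, brm_y, rescale_neg_one_neg_X, neg_neg]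

end S83c

/-- Over an algebraically closed field k of characteristic different from 2, every non-trivial k-algebra
involution σ of the node algebra A_1 = k[[x,y]]/(y^2 - x^2) is conjugate, by a k-algebra
automorphism φ of A_1, to one of the three involutions (x, y) ↦ (x, -y), (x, y) ↦ (-x, -y), (x, y) ↦
(y, x). -/
theorem result (k : Type u) [Field k] [IsAlgClosed k]
    (h2 : (2 : k) ≠ 0)
    (σ : ArSing.ring k 1 ≃ₐ[k] ArSing.ring k 1) (hσ : ∀ a, σ (σ a) = a) (hne : σ ≠ AlgEquiv.refl) :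
    ∃ φ : ArSing.ring k 1 ≃ₐ[k] ArSing.ring k 1,
      (φ.symm (σ (φ (ArSing.x k 1))) = ArSing.x k 1 ∧ φ.symm (σ (φ (ArSing.y k 1))) = -ArSing.y k 1) ∨
      (φ.symm (σ (φ (ArSing.x k 1))) = -ArSing.x k 1 ∧ φ.symm (σ (φ (ArSing.y k 1))) = -ArSing.y k 1) ∨
      (φ.symm (σ (φ (ArSing.x k 1))) = ArSing.y k 1 ∧ φ.symm (σ (φ (ArSing.y k 1))) = ArSing.x k 1) := by
  rcases dichotomy h2 σ with hpr | hsw
  · obtain ⟨φ, h | h⟩ := case_pres h2 σ hσ hne hpr
    · exact ⟨φ, Or.inr (Or.inl h)⟩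
    · exact ⟨φ, Or.inr (Or.inr h)⟩
  · obtain ⟨φ, h⟩ := case_swap h2 σ hσ hsw
    exact ⟨φ, Or.inl h⟩

end Groth.Agent.S14083
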