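import Groth.Statements.S14085
import Groth.Agent.Lib.RelCartier
import Mathlib.RingTheory.Flat.Stability

set_option autoImplicit false
universe u
open FlatMor

namespace Groth.Agent.S14085

/-- A product of two flat modules is flat. -/
theorem flat_prod (R M N : Type u) [CommRing R] [AddCommGroup M] [AddCommGroup N]
    [Module R M] [Module R N] [Module.Flat R M] [Module.Flat R N] : Module.Flat R (M × N) := by
  refine Groth.Agent.Lib.RelCartier.flat_of_exact_left_right (LinearMap.inl R M N)
    (LinearMap.snd R M N) LinearMap.inl_injective LinearMap.snd_surjective ?_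
  intro y
  constructor
  · intro hy
    refine ⟨y.1, ?_⟩
    ext
    · rfl
    · exact hy.symm
  · rintro ⟨m, rfl⟩
    rfl

/-- Let R be a ring, A and B flat R-algebras, I an ideal of A and B → A/I an injective finite flat map
of R-algebras. Then the fibre product ring B ×_{A/I} A, realised as the subalgebra of B × A of pairs
with equal image in A/I, is flat over R. (This is the affine statement behind flatness over the base
of the pushout of a closed immersion along a finite flat morphism.) -/
theorem result (R A B : Type u) [CommRing R] [CommRing A] [CommRing B]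
    [Algebra R A] [Algebra R B] [Module.Flat R A] [Module.Flat R B] (I : Ideal A)
    [Algebra B (A ⧸ I)] [IsScalarTower R B (A ⧸ I)] [Module.Finite B (A ⧸ I)] [Module.Flat B (A ⧸ I)]
    (hinj : Function.Injective (algebraMap B (A ⧸ I))) :
    Module.Flat R ↥(AlgHom.equalizer ((IsScalarTower.toAlgHom R B (A ⧸ I)).comp (AlgHom.fst R B A))
          ((Ideal.Quotient.mkₐ R I).comp (AlgHom.snd R B A))) := by
  set E := AlgHom.equalizer ((IsScalarTower.toAlgHom R B (A ⧸ I)).comp (AlgHom.fst R B A))
          ((Ideal.Quotient.mkₐ R I).comp (AlgHom.snd R B A)) with hE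
  have hflatQ : Module.Flat R (A ⧸ I) := Module.Flat.trans R B (A ⧸ I)
  have hflatP : Module.Flat R (B × A) := flat_prod R B A
  let i : E →ₗ[R] B × A := E.val.toLinearMap
  let p : B × A →ₗ[R] A ⧸ I :=
    ((IsScalarTower.toAlgHom R B (A ⧸ I)).comp (AlgHom.fst R B A)).toLinearMap -
      ((Ideal.Quotient.mkₐ R I).comp (AlgHom.snd R B A)).toLinearMap
  have hp_apply : ∀ y : B × A, p y = algebraMap B (A ⧸ I) y.1 - Ideal.Quotient.mk I y.2 :=
    fun y => rfl
  refine Groth.Agent.Lib.RelCartier.flat_of_exact_mid_right i p Subtype.val_injective ?_ ?_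
  · intro q
    obtain ⟨a, rfl⟩ := Ideal.Quotient.mk_surjective q
    refine ⟨(0, -a), ?_⟩
    rw [hp_apply]
    simp
  · intro y
    constructor
    · intro hy
      rw [hp_apply, sub_eq_zero] at hy
      exact ⟨⟨y, hy⟩, rfl⟩
    · rintro ⟨⟨y, hy⟩, rfl⟩
      rw [hp_apply, sub_eq_zero]
      exact hy

end Groth.Agent.S14085
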