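import Groth.Statements.S14086
import Mathlib
-- import your own Groth.Agent.* helpers here

set_option autoImplicit false
universe u
open FlatMor

namespace Groth.Agent.S14086

section aux
open TensorProduct

lemma ff_of_finite_injective_flat {B D : Type u} [CommRing B] [CommRing D] [Algebra B D]
    [Module.Finite B D] [Module.Flat B D] (hinj : Function.Injective (algebraMap B D)) :
    Module.FaithfullyFlat B D := by
  apply Module.FaithfullyFlat.of_comap_surjective
  intro p
  have : Algebra.IsIntegral B D := Algebra.IsIntegral.of_finite B D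
  obtain ⟨Q, -, hQ, hQp⟩ := Ideal.exists_ideal_over_prime_of_isIntegral p.asIdeal (⊥ : Ideal D) (by
    rw [← RingHom.ker_eq_comap_bot, (RingHom.injective_iff_ker_eq_bot _).mp hinj]
    exact bot_le)
  exact ⟨⟨Q, hQ⟩, PrimeSpectrum.ext hQp⟩

lemma lTensor_injective_of_ff {R B D R' : Type u} [CommRing R] [CommRing B] [CommRing D]
    [CommRing R'] [Algebra R B] [Algebra R D] [Algebra B D] [IsScalarTower R B D] [Algebra R R']
    [Module.FaithfullyFlat B D] :
    Function.Injective (LinearMap.lTensor R' (IsScalarTower.toAlgHom R B D).toLinearMap) := by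
  have h1 : Function.Injective (TensorProduct.mk B D (B ⊗[R] R') 1) :=
    Module.FaithfullyFlat.tensorProduct_mk_injective _
  let e := TensorProduct.AlgebraTensorModule.cancelBaseChange R B B D R'
  have h2 : ∀ z : B ⊗[R] R', e (TensorProduct.mk B D (B ⊗[R] R') 1 z) =
      LinearMap.rTensor R' (IsScalarTower.toAlgHom R B D).toLinearMap z := by
    intro z
    induction z using TensorProduct.induction_on with
    | zero => simp
    | add x y hx hy => rw [map_add, map_add, map_add, hx, hy]
    | tmul b r =>
      simp only [TensorProduct.mk_apply, e, TensorProduct.AlgebraTensorModule.cancelBaseChange_tmul,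
        LinearMap.rTensor_tmul, AlgHom.toLinearMap_apply, IsScalarTower.coe_toAlgHom']
      rw [Algebra.smul_def, mul_one]
  have h3 : Function.Injective
      (LinearMap.rTensor R' (IsScalarTower.toAlgHom R B D).toLinearMap) := by
    intro z z' h
    apply h1
    apply e.injective
    rw [h2, h2, h]
  have h4 : ∀ x : R' ⊗[R] B, LinearMap.lTensor R' (IsScalarTower.toAlgHom R B D).toLinearMap x =
      TensorProduct.comm R D R' (LinearMap.rTensor R' (IsScalarTower.toAlgHom R B D).toLinearMap
        (TensorProduct.comm R R' B x)) := by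
    intro x
    induction x using TensorProduct.induction_on with
    | zero => simp
    | add x y hx hy => simp only [map_add, hx, hy]
    | tmul r b => simp
  intro x x' h
  rw [h4, h4] at h
  exact (TensorProduct.comm R R' B).injective (h3 ((TensorProduct.comm R D R').injective h))

end aux


/-- Let R be a ring, A and B flat R-algebras, I an ideal of A, B → A/I an injective finite flat map of
R-algebras and P = B ×_{A/I} A the fibre product ring (pairs in B × A with equal image in A/I). For
any R-algebra R' the base change R' ⊗_R P maps injectively to R' ⊗_R A, and any b' in R' ⊗_R B and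
a' in R' ⊗_R A with the same image in R' ⊗_R (A/I) are the two components of some element of R' ⊗_R
P; that is, R' ⊗_R P is the fibre product of R' ⊗_R B and R' ⊗_R A over R' ⊗_R (A/I). -/
theorem result (R A B R' : Type u) [CommRing R] [CommRing A]
    [CommRing B] [CommRing R'] [Algebra R A] [Algebra R B] [Algebra R R'] [Module.Flat R A] [Module.Flat R B]
    (I : Ideal A) [Algebra B (A ⧸ I)] [IsScalarTower R B (A ⧸ I)] [Module.Finite B (A ⧸ I)] [Module.Flat B (A ⧸ I)]
    (hinj : Function.Injective (algebraMap B (A ⧸ I))) :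
    Function.Injective (Algebra.TensorProduct.map (AlgHom.id R' R')
        ((AlgHom.snd R B A).comp (AlgHom.equalizer ((IsScalarTower.toAlgHom R B (A ⧸ I)).comp (AlgHom.fst R B A))
          ((Ideal.Quotient.mkₐ R I).comp (AlgHom.snd R B A))).val)) ∧
    ∀ (b : TensorProduct R R' B) (a : TensorProduct R R' A),
      Algebra.TensorProduct.map (AlgHom.id R' R') (IsScalarTower.toAlgHom R B (A ⧸ I)) b =
        Algebra.TensorProduct.map (AlgHom.id R' R') (Ideal.Quotient.mkₐ R I) a →
      ∃ x : TensorProduct R R' ↥(AlgHom.equalizer ((IsScalarTower.toAlgHom R B (A ⧸ I)).comp (AlgHom.fst R B A))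
          ((Ideal.Quotient.mkₐ R I).comp (AlgHom.snd R B A))),
        Algebra.TensorProduct.map (AlgHom.id R' R') ((AlgHom.fst R B A).comp (AlgHom.equalizer ((IsScalarTower.toAlgHom R B (A ⧸ I)).comp (AlgHom.fst R B A))
          ((Ideal.Quotient.mkₐ R I).comp (AlgHom.snd R B A))).val) x = b ∧
        Algebra.TensorProduct.map (AlgHom.id R' R') ((AlgHom.snd R B A).comp (AlgHom.equalizer ((IsScalarTower.toAlgHom R B (A ⧸ I)).comp (AlgHom.fst R B A))
          ((Ideal.Quotient.mkₐ R I).comp (AlgHom.snd R B A))).val) x = a := by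
  classical
  have hff : Module.FaithfullyFlat B (A ⧸ I) := ff_of_finite_injective_flat hinj
  have hflatD : Module.Flat R (A ⧸ I) := Module.Flat.trans R B (A ⧸ I)
  set φ : B →ₐ[R] A ⧸ I := IsScalarTower.toAlgHom R B (A ⧸ I) with hφ
  set q : A →ₐ[R] A ⧸ I := Ideal.Quotient.mkₐ R I with hq
  set f1 : B × A →ₐ[R] A ⧸ I := φ.comp (AlgHom.fst R B A) with hf1
  set f2 : B × A →ₐ[R] A ⧸ I := q.comp (AlgHom.snd R B A) with hf2
  set P := AlgHom.equalizer f1 f2 with hP
  -- linear maps
  set g : P →ₗ[R] B × A := P.val.toLinearMap with hg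
  set f : B × A →ₗ[R] A ⧸ I := f1.toLinearMap - f2.toLinearMap with hf
  have hg_inj : Function.Injective g := Subtype.val_injective
  have hf_surj : Function.Surjective f := by
    intro d
    obtain ⟨a, rfl⟩ := Ideal.Quotient.mk_surjective d
    refine ⟨(0, -a), ?_⟩
    simp [hf, hf1, hf2, hq, hφ]
  have hexact : Function.Exact g f := by
    intro y
    constructor
    · intro hy
      have : f1 y = f2 y := by
        have : f1 y - f2 y = 0 := hy
        exact sub_eq_zero.mp this
      exact ⟨⟨y, this⟩, rfl⟩
    · rintro ⟨x, rfl⟩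
      have : f1 (x : B × A) = f2 (x : B × A) := x.2
      show f1 (x : B × A) - f2 (x : B × A) = 0
      rw [this, sub_self]
  have E1 : Function.Injective (g.lTensor R') :=
    LinearMap.lTensor_injective_of_exact_of_flat f hf_surj g hg_inj hexact R'
  have E2 : Function.Exact (g.lTensor R') (f.lTensor R') := lTensor_exact R' hexact hf_surj
  have hφinj : Function.Injective (LinearMap.lTensor R' φ.toLinearMap) := lTensor_injective_of_ff
  -- algebra maps as lTensor
  have hmap : ∀ {X Y : Type u} [CommRing X] [CommRing Y] [Algebra R X] [Algebra R Y] (h : X →ₐ[R] Y)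
      (x : TensorProduct R R' X),
      Algebra.TensorProduct.map (AlgHom.id R' R') h x = LinearMap.lTensor R' h.toLinearMap x := by
    intro X Y _ _ _ _ h x
    induction x using TensorProduct.induction_on with
    | zero => simp
    | add x y hx hy => rw [map_add, map_add, hx, hy]
    | tmul r x => simp
  -- compositions
  have hfst_g : ∀ x, LinearMap.lTensor R' ((AlgHom.fst R B A).comp P.val).toLinearMap x =
      LinearMap.lTensor R' (LinearMap.fst R B A) (g.lTensor R' x) := by
    intro x
    rw [← LinearMap.comp_apply, ← LinearMap.lTensor_comp]; rfl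
  have hsnd_g : ∀ x, LinearMap.lTensor R' ((AlgHom.snd R B A).comp P.val).toLinearMap x =
      LinearMap.lTensor R' (LinearMap.snd R B A) (g.lTensor R' x) := by
    intro x
    rw [← LinearMap.comp_apply, ← LinearMap.lTensor_comp]; rfl
  have hdecomp : ∀ y : TensorProduct R R' (B × A),
      y = LinearMap.lTensor R' (LinearMap.inl R B A) (LinearMap.lTensor R' (LinearMap.fst R B A) y) +
        LinearMap.lTensor R' (LinearMap.inr R B A) (LinearMap.lTensor R' (LinearMap.snd R B A) y) := by
    intro y
    rw [← LinearMap.comp_apply, ← LinearMap.comp_apply, ← LinearMap.lTensor_comp,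
      ← LinearMap.lTensor_comp, ← LinearMap.add_apply, ← LinearMap.lTensor_add]
    have : (LinearMap.inl R B A) ∘ₗ (LinearMap.fst R B A) +
        (LinearMap.inr R B A) ∘ₗ (LinearMap.snd R B A) = LinearMap.id := by
      ext x <;> simp
    rw [this, LinearMap.lTensor_id, LinearMap.id_apply]
  have hf_inl : f ∘ₗ (LinearMap.inl R B A) = φ.toLinearMap := by
    ext b
    simp [hf, hf1, hf2]
  have hf_inr : f ∘ₗ (LinearMap.inr R B A) = - q.toLinearMap := by
    ext a
    simp [hf, hf1, hf2]
  have hf_inl' : ∀ β, f.lTensor R' (LinearMap.lTensor R' (LinearMap.inl R B A) β) =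
      LinearMap.lTensor R' φ.toLinearMap β := by
    intro β
    rw [← LinearMap.comp_apply, ← LinearMap.lTensor_comp, hf_inl]
  have hf_inr' : ∀ α, f.lTensor R' (LinearMap.lTensor R' (LinearMap.inr R B A) α) =
      - LinearMap.lTensor R' q.toLinearMap α := by
    intro α
    rw [← LinearMap.comp_apply, ← LinearMap.lTensor_comp, hf_inr, LinearMap.lTensor_neg,
      LinearMap.neg_apply]
  constructor
  · -- injectivity
    rw [injective_iff_map_eq_zero]
    intro x hx
    rw [hmap, hsnd_g] at hx
    set y := g.lTensor R' x with hy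
    have hy0 : f.lTensor R' y = 0 := (E2 y).mpr ⟨x, rfl⟩
    have hyd := hdecomp y
    rw [hx, map_zero, add_zero] at hyd
    rw [hyd, hf_inl'] at hy0
    have hβ : LinearMap.lTensor R' (LinearMap.fst R B A) y = 0 := by
      apply hφinj
      rw [hy0, map_zero]
    rw [hβ, map_zero] at hyd
    apply E1
    rw [← hy, hyd, map_zero]
  · intro b a hba
    rw [hmap, hmap] at hba
    set y : TensorProduct R R' (B × A) := LinearMap.lTensor R' (LinearMap.inl R B A) b +
      LinearMap.lTensor R' (LinearMap.inr R B A) a with hy
    have hy0 : f.lTensor R' y = 0 := by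
      rw [hy, map_add, hf_inl', hf_inr', hba]
      exact add_neg_cancel _
    obtain ⟨x, hx⟩ := (E2 y).mp hy0
    refine ⟨x, ?_, ?_⟩
    · rw [hmap, hfst_g, hx, hy, map_add, ← LinearMap.comp_apply, ← LinearMap.comp_apply,
        ← LinearMap.lTensor_comp, ← LinearMap.lTensor_comp]
      have e1 : (LinearMap.fst R B A) ∘ₗ (LinearMap.inl R B A) = LinearMap.id := by ext; simp
      have e2 : (LinearMap.fst R B A) ∘ₗ (LinearMap.inr R B A) = 0 := by ext; simp
      rw [e1, e2, LinearMap.lTensor_id, LinearMap.lTensor_zero]
      simp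
    · rw [hmap, hsnd_g, hx, hy, map_add, ← LinearMap.comp_apply, ← LinearMap.comp_apply,
        ← LinearMap.lTensor_comp, ← LinearMap.lTensor_comp]
      have e1 : (LinearMap.snd R B A) ∘ₗ (LinearMap.inl R B A) = 0 := by ext; simp
      have e2 : (LinearMap.snd R B A) ∘ₗ (LinearMap.inr R B A) = LinearMap.id := by ext; simp
      rw [e1, e2, LinearMap.lTensor_id, LinearMap.lTensor_zero]
      simp

end Groth.Agent.S14086
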