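import Groth.Statements.S14091
import Mathlib

set_option autoImplicit false
universe u
open ArSing

namespace Groth.Agent.S14091
open Polynomial


open Polynomial in
/-- Over an algebraically closed field k, a finite local k-algebra B whose cotangent space m/m^2 has
dimension at most one over the residue field is isomorphic, as a k-algebra, to k[t]/(t^n) with n =
dim_k B (curvilinear pointed algebras of degree n have a single isomorphism class). -/
theorem result (k B : Type u) [Field k] [IsAlgClosed k]
    [CommRing B] [IsLocalRing B] [Algebra k B] [Module.Finite k B]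
    (hcurv : Module.finrank (IsLocalRing.ResidueField B) (IsLocalRing.CotangentSpace B) ≤ 1) :
    Nonempty (B ≃ₐ[k] (Polynomial k ⧸ Ideal.span {(X : Polynomial k) ^ Module.finrank k B})) := by
  haveI : IsArtinianRing B := IsArtinianRing.of_finite k B
  haveI : IsNoetherianRing B := inferInstance
  obtain ⟨t, ht⟩ := (IsLocalRing.finrank_cotangentSpace_le_one_iff.mp hcurv).principal
  have ht' : IsLocalRing.maximalIdeal B = Ideal.span {t} := ht
  -- residue field
  haveI : Module.Finite k (IsLocalRing.ResidueField B) :=
    Module.Finite.of_surjective (IsScalarTower.toAlgHom k B (IsLocalRing.ResidueField B)).toLinearMap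
      (IsLocalRing.residue_surjective)
  have hres : Function.Surjective (algebraMap k (IsLocalRing.ResidueField B)) :=
    IsAlgClosed.algebraMap_bijective_of_isIntegral.2
  -- nilpotency
  obtain ⟨N, hN⟩ := IsArtinianRing.isNilpotent_jacobson_bot (R := B)
  rw [IsLocalRing.jacobson_eq_maximalIdeal _ bot_ne_top] at hN
  have htm : t ∈ IsLocalRing.maximalIdeal B := by
    rw [ht']; exact Ideal.mem_span_singleton_self t
  have htN : t ^ N = 0 := by
    have : t ^ N ∈ IsLocalRing.maximalIdeal B ^ N := Ideal.pow_mem_pow htm N
    rw [hN] at this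
    simpa using this
  -- surjectivity
  have key : ∀ n : ℕ, ∀ b : B, ∃ p : k[X], b - aeval t p ∈ IsLocalRing.maximalIdeal B ^ n := by
    intro n
    induction n with
    | zero => intro b; exact ⟨0, by simp⟩
    | succ n ih =>
      intro b
      obtain ⟨c, hc⟩ := hres (IsLocalRing.residue B b)
      have h1 : b - algebraMap k B c ∈ IsLocalRing.maximalIdeal B := by
        rw [← IsLocalRing.residue_eq_zero_iff, map_sub, ← hc]
        rw [IsScalarTower.algebraMap_apply k B (IsLocalRing.ResidueField B)]
        simp [IsLocalRing.ResidueField.algebraMap_eq]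
      rw [ht', Ideal.mem_span_singleton'] at h1
      obtain ⟨b', hb'⟩ := h1
      obtain ⟨p, hp⟩ := ih b'
      refine ⟨C c + X * p, ?_⟩
      have : b - aeval t (C c + X * p) = t * (b' - aeval t p) := by
        simp only [map_add, aeval_C, map_mul, aeval_X]
        linear_combination (-1 : B) * hb'
      rw [this, pow_succ']
      exact Ideal.mul_mem_mul htm hp
  have hsurj : Function.Surjective (aeval (R := k) t) := by
    intro b
    obtain ⟨p, hp⟩ := key N b
    rw [hN] at hp
    exact ⟨p, by have := sub_eq_zero.mp (by simpa using hp); exact this.symm⟩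
  -- kernel
  set I : Ideal k[X] := RingHom.ker (aeval (R := k) t).toRingHom with hI
  have hXN : (X : k[X]) ^ N ∈ I := by
    rw [hI, RingHom.mem_ker]; simp [htN]
  have hgen : I = Ideal.span {Submodule.IsPrincipal.generator I} :=
    (Ideal.span_singleton_generator I).symm
  have hdvd : Submodule.IsPrincipal.generator I ∣ (X : k[X]) ^ N := by
    rw [← Ideal.mem_span_singleton, ← hgen]; exact hXN
  obtain ⟨i, -, hi⟩ := (dvd_prime_pow Polynomial.prime_X N).mp hdvd
  have hIi : I = Ideal.span {(X : k[X]) ^ i} := by
    rw [hgen]; exact Ideal.span_singleton_eq_span_singleton.mpr hi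
  let e : (k[X] ⧸ I) ≃ₐ[k] B := Ideal.quotientKerAlgEquivOfSurjective hsurj
  have hfr : Module.finrank k B = i := by
    rw [← e.toLinearEquiv.finrank_eq, hIi, finrank_quotient_span_eq_natDegree, natDegree_X_pow]
  rw [hfr, ← hIi]
  exact ⟨e.symm⟩

end Groth.Agent.S14091
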