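import Groth.Statements.S14087
import Mathlib
import Groth.Agent.S14091

set_option autoImplicit false
universe u
open ArSing

namespace Groth.Agent.S14087
open Polynomial

/-- units in an augmented algebra with nil augmentation ideal -/
theorem isUnit_iff {k R : Type*} [Field k] [CommRing R] [Algebra k R] (ε : R →ₐ[k] k)
    (hε : ∀ x, ε x = 0 → IsNilpotent x) (a : R) : IsUnit a ↔ ε a ≠ 0 := by
  constructor
  · intro h
    exact (h.map ε).ne_zero
  · intro h
    have h1 : IsNilpotent (a - algebraMap k R (ε a)) := hε _ (by simp)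
    have h2 : IsUnit (algebraMap k R (ε a)) := (IsUnit.mk0 _ h).map (algebraMap k R)
    have := h1.isUnit_add_left_of_commute h2 (Commute.all _ _)
    simpa using this

theorem isLocalRing {k R : Type*} [Field k] [CommRing R] [Algebra k R] (ε : R →ₐ[k] k)
    (hε : ∀ x, ε x = 0 → IsNilpotent x) : IsLocalRing R := by
  haveI : Nontrivial R := by
    refine ⟨⟨0, 1, fun h => ?_⟩⟩
    have := congrArg ε h
    simp at this
  refine IsLocalRing.of_nonunits_add fun a b ha hb => ?_
  rw [mem_nonunits_iff, isUnit_iff ε hε, not_not] at ha hb ⊢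
  rw [map_add, ha, hb, add_zero]

theorem ideal_eq {k : Type*} [Field k] (n : ℕ)
    (J : Ideal (k[X] ⧸ Ideal.span {(X : k[X]) ^ n})) :
    ∃ j : ℕ, J = Ideal.span {(Ideal.Quotient.mk (Ideal.span {(X : k[X]) ^ n}) X) ^ j} := by
  set mk := Ideal.Quotient.mk (Ideal.span {(X : k[X]) ^ n}) with hmk
  set I : Ideal k[X] := J.comap mk with hI
  have hXn : (X : k[X]) ^ n ∈ I := by
    rw [hI, Ideal.mem_comap]
    have : mk (X ^ n) = 0 := Ideal.Quotient.eq_zero_iff_mem.mpr (Ideal.mem_span_singleton_self _)
    rw [this]; exact J.zero_mem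
  have hgen : I = Ideal.span {Submodule.IsPrincipal.generator I} :=
    (Ideal.span_singleton_generator I).symm
  have hdvd : Submodule.IsPrincipal.generator I ∣ (X : k[X]) ^ n := by
    rw [← Ideal.mem_span_singleton, ← hgen]; exact hXn
  obtain ⟨i, -, hi⟩ := (dvd_prime_pow Polynomial.prime_X n).mp hdvd
  have hIi : I = Ideal.span {(X : k[X]) ^ i} := by
    rw [hgen]; exact Ideal.span_singleton_eq_span_singleton.mpr hi
  refine ⟨i, ?_⟩
  have : J = I.map mk := (Ideal.map_comap_of_surjective mk Ideal.Quotient.mk_surjective J).symm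
  rw [this, hIi, Ideal.map_span, Set.image_singleton, map_pow]

theorem ideal_total {k : Type*} [Field k] (n : ℕ)
    (J₁ J₂ : Ideal (k[X] ⧸ Ideal.span {(X : k[X]) ^ n})) : J₁ ≤ J₂ ∨ J₂ ≤ J₁ := by
  obtain ⟨i, rfl⟩ := ideal_eq n J₁
  obtain ⟨j, rfl⟩ := ideal_eq n J₂
  rcases le_total i j with h | h
  · right
    rw [Ideal.span_singleton_le_span_singleton]
    exact pow_dvd_pow _ h
  · left
    rw [Ideal.span_singleton_le_span_singleton]
    exact pow_dvd_pow _ h


open Polynomial in
/-- Over an algebraically closed field k, if B = k[t]/(t^n) with n ≥ 1 is flat over a k-subalgebra A ⊆ B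
(a finite flat extension of pointed finite algebras with curvilinear top), then A is curvilinear
too: A is isomorphic as a k-algebra to k[t]/(t^m) for some m. -/
theorem result (k : Type u) [Field k] [IsAlgClosed k]
    (n : ℕ) (hn : 0 < n)
    (A : Subalgebra k (Polynomial k ⧸ Ideal.span {(X : Polynomial k) ^ n}))
    [Module.Flat A (Polynomial k ⧸ Ideal.span {(X : Polynomial k) ^ n})] :
    ∃ m : ℕ, Nonempty (A ≃ₐ[k] (Polynomial k ⧸ Ideal.span {(X : Polynomial k) ^ m})) := by
  set B := Polynomial k ⧸ Ideal.span {(X : Polynomial k) ^ n} with hB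
  -- augmentation
  let ε : B →ₐ[k] k := Ideal.Quotient.liftₐ (Ideal.span {(X : Polynomial k) ^ n})
    (aeval (0 : k)) (by
      intro a ha
      rw [Ideal.mem_span_singleton] at ha
      obtain ⟨c, rfl⟩ := ha
      simp [hn.ne'])
  have hε : ∀ x : B, ε x = 0 → IsNilpotent x := by
    intro x hx
    obtain ⟨p, rfl⟩ := Ideal.Quotient.mk_surjective x
    have : X ∣ p := by
      rw [Polynomial.X_dvd_iff]
      have : ε (Ideal.Quotient.mk _ p) = aeval (0 : k) p := rfl
      rw [this] at hx
      simpa [Polynomial.coeff_zero_eq_aeval_zero] using hx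
    obtain ⟨q, rfl⟩ := this
    refine ⟨n, ?_⟩
    rw [← map_pow, Ideal.Quotient.eq_zero_iff_mem, Ideal.mem_span_singleton, mul_pow]
    exact Dvd.intro _ rfl
  haveI : IsLocalRing B := isLocalRing ε hε
  let εA : A →ₐ[k] k := ε.comp A.val
  have hεA : ∀ x : A, εA x = 0 → IsNilpotent x := by
    intro x hx
    obtain ⟨m, hm⟩ := hε (x : B) hx
    exact ⟨m, Subtype.ext (by simpa using hm)⟩
  haveI : IsLocalRing A := isLocalRing εA hεA
  haveI : IsLocalHom (algebraMap A B) := by
    refine ⟨fun a ha => ?_⟩
    rw [isUnit_iff εA hεA]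
    rw [isUnit_iff ε hε] at ha
    exact ha
  haveI hflat : @Module.Flat A B _ _ Algebra.toModule := ‹Module.Flat A B›
  haveI : @Module.FaithfullyFlat A B _ _ Algebra.toModule :=
    Module.FaithfullyFlat.of_flat_of_isLocalHom
  have htot : ∀ I₁ I₂ : Ideal A, I₁ ≤ I₂ ∨ I₂ ≤ I₁ := by
    intro I₁ I₂
    rcases ideal_total n (I₁.map (algebraMap A B)) (I₂.map (algebraMap A B)) with h | h
    · left
      rw [← Ideal.comap_map_eq_self_of_faithfullyFlat (B := B) I₁,
        ← Ideal.comap_map_eq_self_of_faithfullyFlat (B := B) I₂]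
      exact Ideal.comap_mono h
    · right
      rw [← Ideal.comap_map_eq_self_of_faithfullyFlat (B := B) I₁,
        ← Ideal.comap_map_eq_self_of_faithfullyFlat (B := B) I₂]
      exact Ideal.comap_mono h
  haveI : IsBezout A := by
    rw [IsBezout.iff_span_pair_isPrincipal]
    intro x y
    rcases htot (Ideal.span {x}) (Ideal.span {y}) with h | h
    · have : Ideal.span {x, y} = Ideal.span {y} := by
        rw [Ideal.span_insert]; exact sup_eq_right.mpr h
      rw [this]; exact ⟨⟨y, rfl⟩⟩
    · have : Ideal.span {x, y} = Ideal.span {x} := by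
        rw [Ideal.span_insert]; exact sup_eq_left.mpr h
      rw [this]; exact ⟨⟨x, rfl⟩⟩
  haveI : Module.Finite k B := by
    have h := finrank_quotient_span_eq_natDegree (f := (X : k[X]) ^ n)
    rw [natDegree_X_pow] at h
    exact Module.finite_of_finrank_pos (by rw [h]; exact hn)
  haveI : Module.Finite k A := Module.Finite.of_injective A.val.toLinearMap Subtype.val_injective
  haveI : IsNoetherianRing A := IsNoetherianRing.of_finite k A
  have hprin : (IsLocalRing.maximalIdeal A).IsPrincipal :=
    IsBezout.isPrincipal_of_FG _ (IsNoetherian.noetherian _)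
  have hcurv := IsLocalRing.finrank_cotangentSpace_le_one_iff.mpr hprin
  exact ⟨_, Groth.Agent.S14091.result k A hcurv⟩

end Groth.Agent.S14087
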