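import Groth.Statements.S14088
import Mathlib
-- import your own Groth.Agent.* helpers here

set_option autoImplicit false
universe u
open ArSing

namespace Groth.Agent.S14088

/-- The identity behind the torus-equivariant classes h_i = h_0 + i τ of the coordinate hyperplanes of a
projective space of binary forms, stated in an arbitrary commutative ring: for n ≤ m, (h_0 ⋯
h_(n-1))^2 · h_n ⋯ h_(m-1) equals the sum over s = 0, …, n of (-1)^s s! (n choose s) (m choose s)
τ^s h_0 ⋯ h_(m+n-s-1), where h_i = h + i τ. (The published statement is in the equivariant Chow ring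
of that projective space; only the relations h_i = h_j + (j - i) τ are used, so it holds in any
commutative ring.) -/
theorem result (A : Type u) [CommRing A] (h τ : A) (n m : ℕ) (hnm : n ≤ m) :
    (∏ i ∈ Finset.range n, (h + (i : A) * τ) ^ 2) * ∏ i ∈ Finset.Ico n m, (h + (i : A) * τ) =
      ∑ s ∈ Finset.range (n + 1), (-1 : A) ^ s * (Nat.factorial s : A) * (Nat.choose n s : A) *
        (Nat.choose m s : A) * τ ^ s * ∏ i ∈ Finset.range (m + n - s), (h + (i : A) * τ) := by
  classical
  set P : ℕ → A := fun k => ∏ i ∈ Finset.range k, (h + (i : A) * τ) with hP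
  have hPsucc : ∀ k, P (k + 1) = P k * (h + (k : A) * τ) := fun k => Finset.prod_range_succ _ _
  have hL : (∏ i ∈ Finset.range n, (h + (i : A) * τ) ^ 2) * ∏ i ∈ Finset.Ico n m, (h + (i : A) * τ)
      = P n * P m := by
    rw [Finset.prod_pow, sq, mul_assoc]
    congr 1
    simp only [hP]
    rw [Finset.range_eq_Ico, Finset.prod_Ico_consecutive _ (Nat.zero_le n) hnm, Finset.range_eq_Ico]
  rw [hL]
  have key : ∀ n, n ≤ m → P n * P m =
      ∑ s ∈ Finset.range (n + 1), (-1 : A) ^ s * (Nat.factorial s : A) * (Nat.choose n s : A) *
        (Nat.choose m s : A) * τ ^ s * P (m + n - s) := by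
    intro n
    induction n with
    | zero =>
      intro _
      have : P 0 = 1 := by simp [hP]
      simp [this]
    | succ n ih =>
      intro hn
      have ih' := ih (by omega)
      rw [hPsucc, mul_right_comm, ih', Finset.sum_mul]
      -- auxiliary families
      set A' : ℕ → A := fun s => (-1 : A) ^ s * (Nat.factorial s : A) * (Nat.choose n s : A) *
        (Nat.choose m s : A) * τ ^ s * P (m + n + 1 - s) with hA'
      set B' : ℕ → A := fun s => (-1 : A) ^ (s + 1) * (Nat.factorial (s + 1) : A) *
        (Nat.choose n s : A) * (Nat.choose m (s + 1) : A) * τ ^ (s + 1) * P (m + n - s) with hB'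
      have hR : ∑ s ∈ Finset.range (n + 1 + 1), (-1 : A) ^ s * (Nat.factorial s : A) *
          (Nat.choose (n + 1) s : A) * (Nat.choose m s : A) * τ ^ s * P (m + (n + 1) - s) =
          ∑ s ∈ Finset.range (n + 1), A' s + ∑ s ∈ Finset.range (n + 1), B' s := by
        rw [Finset.sum_range_succ']
        have h1 : ∀ s, (-1 : A) ^ (s + 1) * (Nat.factorial (s + 1) : A) *
            (Nat.choose (n + 1) (s + 1) : A) * (Nat.choose m (s + 1) : A) * τ ^ (s + 1) *
            P (m + (n + 1) - (s + 1)) = A' (s + 1) + B' s := by
          intro s
          simp only [hA', hB']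
          have e1 : m + (n + 1) - (s + 1) = m + n - s := by omega
          have e2 : m + n + 1 - (s + 1) = m + n - s := by omega
          rw [e1, e2, Nat.choose_succ_succ]
          push_cast
          ring
        rw [Finset.sum_congr rfl (fun s _ => h1 s), Finset.sum_add_distrib]
        have h0 : (-1 : A) ^ 0 * (Nat.factorial 0 : A) * (Nat.choose (n + 1) 0 : A) *
            (Nat.choose m 0 : A) * τ ^ 0 * P (m + (n + 1) - 0) = A' 0 := by
          simp only [hA']
          simp [add_assoc]
        rw [h0]
        have h3 : ∑ s ∈ Finset.range (n + 1), A' (s + 1) + A' 0 =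
            ∑ s ∈ Finset.range (n + 1), A' s := by
          rw [← Finset.sum_range_succ' A' (n + 1), Finset.sum_range_succ]
          have : A' (n + 1) = 0 := by
            simp only [hA']
            rw [Nat.choose_succ_self]
            simp
          rw [this, add_zero]
        rw [← h3]
        ring
      rw [hR, ← Finset.sum_add_distrib]
      apply Finset.sum_congr rfl
      intro s hs
      rw [Finset.mem_range] at hs
      have hsn : s ≤ n := by omega
      have hsm : s ≤ m := by omega
      simp only [hA', hB']
      have e1 : m + n + 1 - s = (m + n - s) + 1 := by omega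
      rw [e1, hPsucc]
      have hcast : ((m + n - s : ℕ) : A) = (m : A) + (n : A) - (s : A) := by
        rw [Nat.cast_sub (by omega)]; push_cast; ring
      rw [hcast]
      have hfac : (Nat.factorial (s + 1) : A) * (Nat.choose m (s + 1) : A) =
          (Nat.factorial s : A) * (Nat.choose m s : A) * ((m : A) - (s : A)) := by
        have hnat : Nat.factorial (s + 1) * Nat.choose m (s + 1) =
            Nat.factorial s * Nat.choose m s * (m - s) := by
          rw [Nat.factorial_succ, mul_comm (s + 1), mul_assoc, mul_assoc,
            ← Nat.choose_succ_right_eq]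
          ring
        have := congrArg (Nat.cast : ℕ → A) hnat
        push_cast [Nat.cast_sub hsm] at this
        exact this
      have hB : (-1 : A) ^ (s + 1) * (Nat.factorial (s + 1) : A) * (Nat.choose n s : A) *
          (Nat.choose m (s + 1) : A) * τ ^ (s + 1) * P (m + n - s) =
          (-1 : A) ^ (s + 1) * (Nat.choose n s : A) *
          ((Nat.factorial (s + 1) : A) * (Nat.choose m (s + 1) : A)) * τ ^ (s + 1) *
            P (m + n - s) := by ring
      rw [hB, hfac]
      push_cast
      ring
  exact key n hnm

end Groth.Agent.S14088
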