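import Groth.Statements.S14089
import Mathlib
import Groth.Agent.S2894
import Groth.Agent.S2896
import Groth.Agent.S1662
import Groth.Agent.Lib.BlowUpFlat50
import Groth.Agent.Lib.BlowUpChart50
import Groth.Agent.Lib.IdealComap
import Groth.Agent.Lib.RelCartier
import Groth.Agent.Lib.BlowUpProper68

set_option autoImplicit false
set_option linter.style.haveILetI false
universe u
open CategoryTheory AlgebraicGeometry
open BlowUp

namespace Groth.Agent.S14089

section helpers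

open Groth.Agent.Lib.AffineBlowupAlg

set_option maxHeartbeats 1600000 in
/-- the blowing up is flat over the base -/
theorem flat_blowUp {X X' S : Scheme.{u}} (g : X ⟶ S) [Flat g] (𝓘 : X.IdealSheafData)
    (hflat : ∀ n : ℕ, Flat ((𝓘 ^ (n + 1)).subschemeι ≫ g)) (b : X' ⟶ X)
    (hb : BlowUp.IsBlowUp b 𝓘) : Flat (b ≫ g) := by
  rw [HasRingHomProperty.iff_exists_appLE (P := @Flat)
    (RingHom.Flat.stableUnderComposition.stableUnderCompositionWithLocalizationAway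
      RingHom.Flat.holdsForLocalizationAway).1]
  intro x'
  obtain ⟨W, hW, hxW⟩ : ∃ W : S.Opens, IsAffineOpen W ∧ g (b x') ∈ W := by
    obtain ⟨_, ⟨W, hW, rfl⟩, hxW, -⟩ := S.isBasis_affineOpens.exists_subset_of_mem_open
      (Set.mem_univ (g (b x'))) isOpen_univ
    exact ⟨W, hW, hxW⟩
  obtain ⟨V, hV, hxV, hVW⟩ : ∃ V : X.Opens, IsAffineOpen V ∧ b x' ∈ V ∧ V ≤ g ⁻¹ᵁ W := by
    obtain ⟨_, ⟨V, hV, rfl⟩, hxV, hVW⟩ := X.isBasis_affineOpens.exists_subset_of_mem_open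
      (show b x' ∈ ((g ⁻¹ᵁ W : X.Opens) : Set X) from hxW) (g ⁻¹ᵁ W).2
    exact ⟨V, hV, hxV, hVW⟩
  obtain ⟨a, haJ, j, hj, ⟨w₀, hw₀⟩, hjb⟩ := Groth.Agent.Lib.BlowUpChart50.exists_chart b 𝓘 hb
    ⟨V, hV⟩ ((𝓘.ideal ⟨V, hV⟩ : Ideal Γ(X, V)) : Set Γ(X, V)) (Ideal.span_eq _) x' hxV
  have hO' : IsAffineOpen (j ''ᵁ ⊤) := by
    rw [Scheme.Hom.image_top_eq_opensRange]
    exact isAffineOpen_opensRange j
  have hle : j ''ᵁ ⊤ ≤ b ⁻¹ᵁ V := by
    rintro _ ⟨z, -, rfl⟩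
    show b (j z) ∈ V
    rw [← Scheme.Hom.comp_apply, hjb, Scheme.Hom.comp_apply]
    have h1 : hV.fromSpec (Spec.map (CommRingCat.ofHom (algebraMap Γ(X, V)
        (Bl (𝓘.ideal ⟨V, hV⟩) a))) z) ∈ hV.fromSpec.opensRange := ⟨_, rfl⟩
    rw [hV.opensRange_fromSpec] at h1
    exact h1
  have hle' : j ''ᵁ ⊤ ≤ (b ≫ g) ⁻¹ᵁ W := fun z hz => hVW (hle hz)
  obtain ⟨θ, hθ⟩ := Groth.Agent.S2894.chart_sections b hV (Bl (𝓘.ideal ⟨V, hV⟩) a) j hjb hle
  refine ⟨⟨W, hW⟩, ⟨j ''ᵁ ⊤, hO'⟩, ⟨w₀, trivial, hw₀⟩, hle', ?_⟩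
  letI algB : Algebra Γ(S, W) Γ(X', j ''ᵁ ⊤) := ((b ≫ g).appLE W (j ''ᵁ ⊤) hle').hom.toAlgebra
  letI algA : Algebra Γ(S, W) Γ(X, V) := (g.appLE W V hVW).hom.toAlgebra
  show Module.Flat Γ(S, W) Γ(X', j ''ᵁ ⊤)
  refine Groth.Agent.Lib.BlowUpFlat50.flat_of_chart' (𝓘.ideal ⟨V, hV⟩) a haJ ?_ (fun n => ?_)
    (b.appLE V (j ''ᵁ ⊤) hle).hom (fun r => ?_) θ hθ
  · exact Flat.flat_appLE g hW hV hVW
  · exact Groth.Agent.Lib.RelCartier.flat_quot_of_flat_subscheme g (𝓘 ^ (n + 1)) (hflat n)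
      ⟨W, hW⟩ ⟨V, hV⟩ hVW
  · show (b.appLE V (j ''ᵁ ⊤) hle).hom ((g.appLE W V hVW).hom r) =
      ((b ≫ g).appLE W (j ''ᵁ ⊤) hle').hom r
    rw [← Scheme.Hom.appLE_comp_appLE b g W V (j ''ᵁ ⊤) hVW hle]
    rfl

end helpers

/-- Let f : X → S be flat, proper and of finite presentation, 𝓘 a quasi-coherent ideal of finite type on
X with V(𝓘^m) flat over S for all m ≥ 1, and b : X' → X a blowing up of X in 𝓘. Then X' is flat and
proper over S, and blowing up commutes with every base change T → S: if X_T = X ×_S T and X'_T = X'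
×_X X_T, the projection X'_T → X_T is a blowing up of X_T in the inverse image of 𝓘. (The published
statement puts no finiteness condition on the ideal; for S = X the spectrum of an infinite product
of fields and 𝓘 the ideal of finitely supported sequences every V(𝓘^m) is flat, yet the blow-up is a
non-quasi-compact open subscheme, not proper — so the ideal is taken of finite type here, and finite
presentation of X' over S is not asserted.) -/
theorem result {X X' S T XT XT' : Scheme.{u}}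
    (f : X ⟶ S) [Flat f] [IsProper f] [LocallyOfFinitePresentation f]
    (𝓘 : X.IdealSheafData) (hft : BlowUp.IsFiniteTypeIdeal 𝓘)
    (hfl : ∀ m : ℕ, 1 ≤ m → Flat ((𝓘 ^ m).subschemeι ≫ f))
    (b : X' ⟶ X) (hb : BlowUp.IsBlowUp b 𝓘)
    (g : T ⟶ S) (pX : XT ⟶ X) (fT : XT ⟶ T) (hX : IsPullback pX fT f g)
    (pX' : XT' ⟶ X') (bT : XT' ⟶ XT) (hX' : IsPullback pX' bT b pX) :
    Flat (b ≫ f) ∧ IsProper (b ≫ f) ∧ BlowUp.IsBlowUp bT (𝓘.comap pX) := by
  have hflat : ∀ n : ℕ, Flat ((𝓘 ^ (n + 1)).subschemeι ≫ f) := fun n => hfl (n + 1) (Nat.succ_pos n)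
  have hFl : Flat (b ≫ f) := flat_blowUp f 𝓘 hflat b hb
  haveI hprop : IsProper b :=
    Groth.Agent.Lib.BlowUpProper68.isProper_of_isBlowUp_of_isFiniteTypeIdeal b 𝓘 hb hft
  refine ⟨hFl, inferInstance, ?_⟩
  -- the exceptional divisor is flat over the base
  have hE : Flat ((𝓘.comap b).subschemeι ≫ b ≫ f) := (Groth.Agent.S2896.result f 𝓘 hflat b hb).1
  have hpaste : IsPullback pX' (bT ≫ fT) (b ≫ f) g := hX'.paste_vert hX
  refine ⟨?_, ?_⟩
  · -- the inverse image ideal is effective Cartier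
    rw [← Scheme.IdealSheafData.comap_comp, ← hX'.w, Scheme.IdealSheafData.comap_comp]
    have h1 := Groth.Agent.S1662.result (b ≫ f) (𝓘.comap b) hb.1 g
    have h2 : pX' = hpaste.isoPullback.hom ≫ Limits.pullback.fst (b ≫ f) g :=
      (hpaste.isoPullback_hom_fst).symm
    rw [h2, Scheme.IdealSheafData.comap_comp]
    exact Groth.Agent.Lib.BlowUpUniv.isEffCartier_comap_of_flat _ _ h1
  · -- the universal property
    intro T' k hk
    rw [← Scheme.IdealSheafData.comap_comp] at hk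
    obtain ⟨h, hh, hhuniq⟩ := hb.2 T' (k ≫ pX) hk
    change h ≫ b = k ≫ pX at hh
    refine ⟨hX'.lift h k hh, hX'.lift_snd h k hh, ?_⟩
    intro m hm
    change m ≫ bT = k at hm
    apply hX'.hom_ext
    · rw [hX'.lift_fst]
      apply hhuniq
      change (m ≫ pX') ≫ b = k ≫ pX
      rw [Category.assoc, hX'.w, ← Category.assoc, hm]
    · rw [hX'.lift_snd, hm]

end Groth.Agent.S14089
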