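import Mathlib
import Groth.Statements.S1409

set_option autoImplicit false
universe u
open FlatMor

namespace Groth.Agent.S1409

section Helpers

lemma exists_mul_pow_eq_zero_of_mem_minimalPrimes {R : Type*} [CommRing R] {P : Ideal R}
    (hP : P ∈ minimalPrimes R) {x : R} (hx : x ∈ P) : ∃ s ∉ P, ∃ n : ℕ, s * x ^ n = 0 := by
  classical
  have hPprime : P.IsPrime := hP.1.1
  by_contra hcon
  push Not at hcon
  -- the multiplicative set generated by `R ∖ P` and `x`
  let T : Submonoid R := P.primeCompl ⊔ Submonoid.powers x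
  have hT : Disjoint ((⊥ : Ideal R) : Set R) (T : Set R) := by
    rw [Set.disjoint_left]
    intro y hy hyT
    have hy0 : y = 0 := hy
    obtain ⟨s, hs, z, ⟨n, rfl⟩, rfl⟩ := Submonoid.mem_sup.1 hyT
    exact hcon s hs n hy0
  obtain ⟨Q, hQprime, -, hQT⟩ := Ideal.exists_le_prime_disjoint (⊥ : Ideal R) T hT
  have hQP : Q ≤ P := by
    intro y hy
    by_contra hyP
    exact Set.disjoint_left.1 hQT hy (Submonoid.mem_sup_left (show y ∈ P.primeCompl from hyP))
  have hxQ : x ∉ Q := fun hxQ =>
    Set.disjoint_left.1 hQT hxQ (Submonoid.mem_sup_right (Submonoid.mem_powers x))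
  exact hxQ (hP.2 ⟨hQprime, bot_le⟩ hQP hx)

end Helpers

/-- Let (R_i) be a directed system of commutative rings whose transition maps are faithfully flat, with
colimit R. Then, counting in the extended natural numbers, the minimal primes of R are exactly as
numerous as the supremum over i of the count of minimal primes of R_i. -/
theorem result {ι : Type u} [Preorder ι] [IsDirected ι (· ≤ ·)] [Nonempty ι] (G : ι → Type u) [∀ i, CommRing (G i)]
    (f : ∀ i j, i ≤ j → G i →+* G j) [DirectedSystem G fun i j h => f i j h]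
    (hf : ∀ i j (h : i ≤ j), letI := (f i j h).toAlgebra
      Module.FaithfullyFlat (G i) (G j)) :
    (minimalPrimes (Ring.DirectLimit G fun i j h => ⇑(f i j h))).encard = ⨆ i, (minimalPrimes (G i)).encard := by
  classical
  let of := fun i => Ring.DirectLimit.of G (fun i j h => ⇑(f i j h)) i
  have hinj : ∀ i j (h : i ≤ j), Function.Injective (f i j h) := by
    intro i j h
    let _ := (f i j h).toAlgebra
    have := hf i j h
    exact FaithfulSMul.algebraMap_injective (G i) (G j)
  have hofinj : ∀ i, Function.Injective (of i) := Ring.DirectLimit.of_injective f hinj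
  have hof_f : ∀ i j (h : i ≤ j) x, of j (f i j h x) = of i x := fun i j h x =>
    Ring.DirectLimit.of_f h x
  -- going down along the transition maps
  have hgd : ∀ i j (h : i ≤ j) (q : Ideal (G i)) (_ : q.IsPrime) (Q : Ideal (G j)) (_ : Q.IsPrime),
      q ≤ Q.comap (f i j h) → ∃ Q' ≤ Q, Q'.IsPrime ∧ Q'.comap (f i j h) = q := by
    intro i j h q _ Q _ hle
    letI := (f i j h).toAlgebra
    haveI := hf i j h
    haveI : Q.LiesOver (Q.comap (f i j h)) := ⟨rfl⟩
    obtain ⟨Q', hQ', hp, hl⟩ :=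
      Ideal.exists_ideal_le_liesOver_of_le (p := q) (q := Q.comap (f i j h)) Q hle
    exact ⟨Q', hQ', hp, hl.over.symm⟩
  -- (1) contractions of minimal primes are minimal
  have hmin : ∀ (P : Ideal (Ring.DirectLimit G fun i j h => ⇑(f i j h))),
      P ∈ minimalPrimes _ → ∀ j, P.comap (of j) ∈ minimalPrimes (G j) := by
    intro P hP j
    have hPprime : P.IsPrime := hP.1.1
    refine ⟨⟨inferInstance, bot_le⟩, ?_⟩
    rintro q ⟨hqprime, -⟩ hqle x hx
    obtain ⟨s, hs, n, hsn⟩ := exists_mul_pow_eq_zero_of_mem_minimalPrimes hP (show of j x ∈ P from hx)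
    obtain ⟨j₁, s₁, rfl⟩ := Ring.DirectLimit.exists_of s
    obtain ⟨j₂, hj₂, hj₁₂⟩ := exists_ge_ge j j₁
    have h0 : of j₂ (f j₁ j₂ hj₁₂ s₁ * (f j j₂ hj₂ x) ^ n) = 0 := by
      rw [map_mul, map_pow, hof_f, hof_f]; exact hsn
    obtain ⟨j₃, hj₂₃, h3⟩ := Ring.DirectLimit.of.zero_exact h0
    have hj₃ : j ≤ j₃ := hj₂.trans hj₂₃
    have hcomp : ∀ y, f j₂ j₃ hj₂₃ (f j j₂ hj₂ y) = f j j₃ hj₃ y := fun y =>
      DirectedSystem.map_map (f := fun i j h => f i j h) hj₂ hj₂₃ y
    have hle3 : q ≤ (P.comap (of j₃)).comap (f j j₃ hj₃) := by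
      intro y hy
      have := hqle hy
      rw [Ideal.mem_comap] at this ⊢
      rw [Ideal.mem_comap, hof_f]; exact this
    obtain ⟨Q₃, hQ₃le, hQ₃prime, hQ₃⟩ := hgd j j₃ hj₃ q hqprime (P.comap (of j₃)) inferInstance hle3
    rw [map_mul, map_pow, hcomp] at h3
    have hmem : f j₂ j₃ hj₂₃ (f j₁ j₂ hj₁₂ s₁) * (f j j₃ hj₃ x) ^ n ∈ Q₃ := by
      rw [h3]; exact Q₃.zero_mem
    rcases hQ₃prime.mem_or_mem hmem with h | h
    · exfalso
      apply hs
      have := hQ₃le h
      rw [Ideal.mem_comap, hof_f, hof_f] at this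
      exact this
    · have := hQ₃prime.mem_of_pow_mem n h
      rw [← hQ₃]; exact this
  -- (2) every minimal prime of `G i` is a contraction of a minimal prime of the limit
  have hsurj : ∀ i, minimalPrimes (G i) ⊆
      (fun P => Ideal.comap (of i) P) '' minimalPrimes (Ring.DirectLimit G fun i j h => ⇑(f i j h)) := by
    intro i p hp
    have hp' : p ∈ ((⊥ : Ideal (Ring.DirectLimit G fun i j h => ⇑(f i j h))).comap (of i)).minimalPrimes := by
      rw [Ideal.comap_bot_of_injective _ (hofinj i)]; exact hp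
    obtain ⟨P, hP, hPp⟩ := Ideal.exists_minimalPrimes_comap_eq (of i) p hp'
    exact ⟨P, hP, hPp⟩
  apply le_antisymm
  · -- `≤`
    by_contra hlt
    rw [not_le] at hlt
    obtain ⟨N, hN⟩ := ENat.ne_top_iff_exists.1 (ne_top_of_lt hlt)
    have hN1 : ((N + 1 : ℕ) : ℕ∞) ≤
        (minimalPrimes (Ring.DirectLimit G fun i j h => ⇑(f i j h))).encard := by
      rw [← hN] at hlt
      exact Order.add_one_le_of_lt hlt
    obtain ⟨T, hTsub, hTcard⟩ := Set.exists_subset_encard_eq hN1
    have hTfin : T.Finite := Set.finite_of_encard_eq_coe hTcard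
    -- separating index for each pair
    have hsep : ∀ pp : Ideal (Ring.DirectLimit G fun i j h => ⇑(f i j h)) ×
        Ideal (Ring.DirectLimit G fun i j h => ⇑(f i j h)),
        ∃ j₀, pp.1 ≠ pp.2 → ∀ j, j₀ ≤ j → Ideal.comap (of j) pp.1 ≠ Ideal.comap (of j) pp.2 := by
      rintro ⟨P, P'⟩
      by_cases hne : P = P'
      · exact ⟨Classical.arbitrary ι, fun h => absurd hne h⟩
      · have : ∃ x, ¬ (x ∈ P ↔ x ∈ P') := by
          by_contra hall
          push Not at hall
          exact hne (Ideal.ext hall)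
        obtain ⟨x, hx⟩ := this
        obtain ⟨j₀, x₀, rfl⟩ := Ring.DirectLimit.exists_of x
        refine ⟨j₀, fun _ j hj heq => hx ?_⟩
        have h1 : f j₀ j hj x₀ ∈ Ideal.comap (of j) P ↔ f j₀ j hj x₀ ∈ Ideal.comap (of j) P' := by
          rw [heq]
        rw [Ideal.mem_comap, Ideal.mem_comap, hof_f] at h1
        exact h1
    choose J hJ using hsep
    obtain ⟨M, hM⟩ := Finset.exists_le ((hTfin.toFinset ×ˢ hTfin.toFinset).image J)
    have hinjOn : Set.InjOn (fun P => Ideal.comap (of M) P) T := by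
      intro P hP P' hP' heq
      by_contra hne
      refine hJ (P, P') hne M (hM _ ?_) heq
      exact Finset.mem_image_of_mem _ (Finset.mem_product.2
        ⟨hTfin.mem_toFinset.2 hP, hTfin.mem_toFinset.2 hP'⟩)
    have h1 : ((fun P => Ideal.comap (of M) P) '' T).encard = ((N + 1 : ℕ) : ℕ∞) := by
      rw [hinjOn.encard_image, hTcard]
    have h2 : (fun P => Ideal.comap (of M) P) '' T ⊆ minimalPrimes (G M) := by
      rintro _ ⟨P, hP, rfl⟩
      exact hmin P (hTsub hP) M
    have h3 := Set.encard_le_encard h2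
    rw [h1] at h3
    have h4 : (minimalPrimes (G M)).encard ≤ ⨆ i, (minimalPrimes (G i)).encard :=
      le_iSup (fun i => (minimalPrimes (G i)).encard) M
    rw [← hN] at h4
    have := h3.trans h4
    rw [Nat.cast_le] at this
    omega
  · -- `≥`
    refine iSup_le fun i => ?_
    exact (Set.encard_le_encard (hsurj i)).trans (Set.encard_image_le _ _)

end Groth.Agent.S1409
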