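import Groth.Statements.S14093
import Mathlib
import Groth.Agent.Lib.ArSing97
-- import your own Groth.Agent.* helpers here

set_option autoImplicit false
universe u
open ArSing

namespace Groth.Agent.S14093

open Groth.Agent.Lib.ArSing97 PowerSeries

section S93
variable {k : Type u} [Field k] {r : ℕ}
variable (σ : ArSing.ring k r ≃ₐ[k] ArSing.ring k r) (hx : σ (ArSing.x k r) = ArSing.x k r)
  (hy : σ (ArSing.y k r) = -ArSing.y k r)
include hx hy

theorem sigma_repr (a b : PowerSeries k) :
    σ (ArSing.xMap k r a + ArSing.xMap k r b * ArSing.y k r) =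
      ArSing.xMap k r a - ArSing.xMap k r b * ArSing.y k r := by
  have h := algHom_xMap_of_x k r (σ : ArSing.ring k r →ₐ[k] ArSing.ring k r) hx
  have ha := h a
  have hb := h b
  simp only [AlgEquiv.coe_toAlgHom] at ha hb
  rw [map_add, map_mul, ha, hb, hy]
  ring

theorem fixed_iff (h2 : (2 : k) ≠ 0) (z : ArSing.ring k r) :
    σ z = z ↔ z ∈ (ArSing.xMap k r).range := by
  constructor
  · intro h
    obtain ⟨a, b, rfl⟩ := exists_repr k r z
    rw [sigma_repr σ hx hy] at h
    have h1 : ArSing.xMap k r 0 + ArSing.xMap k r (b + b) * ArSing.y k r = 0 := by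
      rw [map_zero, map_add]
      linear_combination -h
    have hb := two_smul_eq_zero k h2 b (repr_eq_zero k r h1).2
    exact ⟨a, by rw [hb]; simp⟩
  · rintro ⟨a, rfl⟩
    have := sigma_repr σ hx hy a 0
    simpa using this

theorem span_fix_eq (h2 : (2 : k) ≠ 0) :
    Ideal.span (Set.range fun a : ArSing.ring k r => σ a - a) = Ideal.span {ArSing.y k r} := by
  apply le_antisymm
  · rw [Ideal.span_le]
    rintro _ ⟨z, rfl⟩
    obtain ⟨a, b, rfl⟩ := exists_repr k r z
    simp only [sigma_repr σ hx hy]
    rw [SetLike.mem_coe, Ideal.mem_span_singleton']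
    exact ⟨-(ArSing.xMap k r b + ArSing.xMap k r b), by ring⟩
  · rw [Ideal.span_le, Set.singleton_subset_iff, SetLike.mem_coe]
    have hmem : σ (ArSing.y k r) - ArSing.y k r ∈
        Ideal.span (Set.range fun a : ArSing.ring k r => σ a - a) :=
      Ideal.subset_span ⟨ArSing.y k r, rfl⟩
    have h3 : ArSing.y k r = algebraMap k (ArSing.ring k r) (-(2 : k)⁻¹) * (σ (ArSing.y k r) - ArSing.y k r) := by
      rw [hy]
      have : algebraMap k (ArSing.ring k r) (-(2 : k)⁻¹) * (2 : ArSing.ring k r) = -1 := by
        rw [← map_ofNat (algebraMap k (ArSing.ring k r)) 2, ← map_mul]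
        rw [neg_mul, inv_mul_cancel₀ h2]; simp
      linear_combination (ArSing.y k r) * this
    rw [h3]
    exact Ideal.mul_mem_left _ _ hmem

end S93

/-- For an algebraically closed field k of characteristic prime to 2 and to r+1 and the involution σ of
A_r = k[[x,y]]/(y^2 - x^(r+1)) with σ(x) = x, σ(y) = -y: the invariant subalgebra is k[[x]] (the
image of t ↦ x from k[[t]]), the inclusion k[[x]] → A_r is faithfully flat (flat, and the maximal
ideal of k[[t]] does not generate the unit ideal of A_r), and the fixed locus (the closed subscheme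
cut out by all σ(a) - a) is a Cartier divisor of length r + 1, i.e. its ideal is generated by one
nonzerodivisor and the quotient has length r + 1. -/
theorem result (k : Type u) [Field k] [IsAlgClosed k] (r : ℕ)
    (h2 : (2 : k) ≠ 0) (hr : ((r + 1 : ℕ) : k) ≠ 0)
    (σ : ArSing.ring k r ≃ₐ[k] ArSing.ring k r) (hx : σ (ArSing.x k r) = ArSing.x k r)
    (hy : σ (ArSing.y k r) = -ArSing.y k r) :
    (∀ a : ArSing.ring k r, σ a = a ↔ a ∈ (ArSing.xMap k r).range) ∧
    ((ArSing.xMap k r).toRingHom.Flat ∧
      Ideal.map (ArSing.xMap k r) (IsLocalRing.maximalIdeal (PowerSeries k)) ≠ ⊤) ∧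
    (∃ g : ArSing.ring k r, g ∈ nonZeroDivisors (ArSing.ring k r) ∧
      Ideal.span (Set.range fun a : ArSing.ring k r => σ a - a) = Ideal.span {g}) ∧
    Module.length (ArSing.ring k r)
      (ArSing.ring k r ⧸ Ideal.span (Set.range fun a : ArSing.ring k r => σ a - a)) = r + 1 := by
  have hspan := span_fix_eq σ hx hy h2
  refine ⟨fun a => fixed_iff σ hx hy h2 a, ⟨flat_xMap k r, map_maximalIdeal_ne_top k r⟩,
    ⟨ArSing.y k r, y_mem_nonZeroDivisors k r, hspan⟩, ?_⟩
  rw [hspan]
  have := length_quotient_of_surjective k r (Ideal.span {ArSing.y k r}) (r + 1) ?_ ?_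
  · rw [this]; norm_cast
  · intro z
    obtain ⟨a, b, rfl⟩ := exists_repr k r z
    refine ⟨a, ?_⟩
    rw [add_sub_cancel_left]
    exact Ideal.mul_mem_left _ _ (Ideal.mem_span_singleton_self _)
  · intro a
    rw [Ideal.mem_span_singleton']
    constructor
    · rintro ⟨w, hw⟩
      obtain ⟨c, d, rfl⟩ := exists_repr k r w
      have h1 : ArSing.xMap k r (d * PowerSeries.X ^ (r + 1)) + ArSing.xMap k r c * ArSing.y k r =
          ArSing.xMap k r a + ArSing.xMap k r 0 * ArSing.y k r := by
        have := y_sq k r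
        rw [map_zero, zero_mul, add_zero, ← hw]
        simp only [map_mul]
        rw [← this]
        ring
      exact ⟨d, by rw [← (repr_unique k r h1).1, mul_comm]⟩
    · rintro ⟨d, rfl⟩
      refine ⟨ArSing.xMap k r d * ArSing.y k r, ?_⟩
      rw [map_mul, ← y_sq k r]
      ring

end Groth.Agent.S14093
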