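import Groth.Statements.S14094
import Mathlib
import Groth.Agent.Lib.ArSing97b
-- import your own Groth.Agent.* helpers here

set_option autoImplicit false
universe u
open ArSing

namespace Groth.Agent.S14094

open Groth.Agent.Lib.ArSing97 PowerSeries

section S94
variable {k : Type u} [Field k] {r s : ℕ}

/-- an algebra map with `x ↦ -x` acts on `k[[x]]` by `t ↦ -t` -/
theorem algHom_xMap_of_neg_x (τ : ArSing.ring k r →ₐ[k] ArSing.ring k r)
    (hx : τ (ArSing.x k r) = -ArSing.x k r) (a : PowerSeries k) :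
    τ (ArSing.xMap k r a) = ArSing.xMap k r (Nneg k a) := by
  have : τ.comp (ArSing.xMap k r) = (ArSing.xMap k r).comp (Nneg k) := by
    apply algHom_ext_powerSeries k (-ArSing.x k r)
      (hausdorff_of_pow_mem k r _ 1 (by
        rw [pow_one]; exact (Ideal.neg_mem_iff _).mpr (Ideal.mem_span_singleton_self _)))
    · simp [xMap_X, hx]
    · simp [xMap_X, Nneg_X]
  exact DFunLike.congr_fun this a

/-- an algebra map `A_s → A_r` with `x ↦ x^2` acts on `k[[x]]` by `t ↦ t^2` -/
theorem algHom_xMap_of_sq_x (τ : ArSing.ring k s →ₐ[k] ArSing.ring k r)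
    (hx : τ (ArSing.x k s) = ArSing.x k r ^ 2) (a : PowerSeries k) :
    τ (ArSing.xMap k s a) = ArSing.xMap k r (Esq k a) := by
  have : τ.comp (ArSing.xMap k s) = (ArSing.xMap k r).comp (Esq k) := by
    apply algHom_ext_powerSeries k (ArSing.x k r ^ 2)
      (hausdorff_of_pow_mem k r _ 1 (by
        rw [pow_one, pow_two]; exact Ideal.mul_mem_left _ _ (Ideal.mem_span_singleton_self _)))
    · simp [xMap_X, hx]
    · simp [xMap_X, Esq_X]
  exact DFunLike.congr_fun this a

theorem aug_comp (τ : ArSing.ring k s →ₐ[k] ArSing.ring k r)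
    (hx : aug k r (τ (ArSing.x k s)) = 0) (hy : aug k r (τ (ArSing.y k s)) = 0) :
    (aug k r).comp τ = aug k s := by
  apply algHom_ext_ring' k s
  · simp [hx, aug_x]
  · simp [hy, aug_y]
  · intro z hz
    have := hz 1
    simpa [hx] using this

theorem map_ne_top_of_isMaximal (τ : ArSing.ring k s →ₐ[k] ArSing.ring k r)
    (hx : aug k r (τ (ArSing.x k s)) = 0) (hy : aug k r (τ (ArSing.y k s)) = 0)
    (I : Ideal (ArSing.ring k s)) (hI : I.IsMaximal) : Ideal.map τ I ≠ ⊤ := by
  have h1 : I ≤ RingHom.ker (aug k s) := le_ker_aug_of_ne_top k s hI.ne_top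
  have h2 : Ideal.map τ I ≤ RingHom.ker (aug k r) := by
    rw [Ideal.map_le_iff_le_comap]
    intro z hz
    have := h1 hz
    rw [RingHom.mem_ker] at this
    rw [Ideal.mem_comap, RingHom.mem_ker]
    have hc := DFunLike.congr_fun (aug_comp τ hx hy) z
    simp only [AlgHom.comp_apply] at hc
    rw [← this, ← hc]
  intro h
  rw [h] at h2
  have : (1 : ArSing.ring k r) ∈ RingHom.ker (aug k r) := h2 Submodule.mem_top
  rw [RingHom.mem_ker, map_one] at this
  exact one_ne_zero this

end S94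

section S94b
variable {k : Type u} [Field k] {r s : ℕ}
variable (σ : ArSing.ring k r ≃ₐ[k] ArSing.ring k r) (hx : σ (ArSing.x k r) = -ArSing.x k r)
  (hy : σ (ArSing.y k r) = ArSing.y k r)
  (φ : ArSing.ring k s →ₐ[k] ArSing.ring k r) (hφx : φ (ArSing.x k s) = ArSing.x k r ^ 2)
  (hφy : φ (ArSing.y k s) = ArSing.y k r)

include hx hy in
theorem sigma_repr (a b : PowerSeries k) :
    σ (ArSing.xMap k r a + ArSing.xMap k r b * ArSing.y k r) =
      ArSing.xMap k r (Nneg k a) + ArSing.xMap k r (Nneg k b) * ArSing.y k r := by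
  have h := algHom_xMap_of_neg_x (σ : ArSing.ring k r →ₐ[k] ArSing.ring k r) hx
  have ha := h a
  have hb := h b
  simp only [AlgEquiv.coe_toAlgHom] at ha hb
  rw [map_add, map_mul, ha, hb, hy]

include hφx hφy in
theorem phi_repr (a b : PowerSeries k) :
    φ (ArSing.xMap k s a + ArSing.xMap k s b * ArSing.y k s) =
      ArSing.xMap k r (Esq k a) + ArSing.xMap k r (Esq k b) * ArSing.y k r := by
  rw [map_add, map_mul, algHom_xMap_of_sq_x φ hφx, algHom_xMap_of_sq_x φ hφx, hφy]

include hx hy hφx hφy in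
theorem fixed_iff (h2 : (2 : k) ≠ 0) (z : ArSing.ring k r) :
    σ z = z ↔ z ∈ φ.range := by
  constructor
  · intro h
    obtain ⟨a, b, rfl⟩ := exists_repr k r z
    rw [sigma_repr σ hx hy] at h
    obtain ⟨ha, hb⟩ := repr_unique k r h
    rw [AlgHom.mem_range]
    refine ⟨ArSing.xMap k s (evenPart k a) + ArSing.xMap k s (evenPart k b) * ArSing.y k s, ?_⟩
    rw [phi_repr φ hφx hφy, ← Nneg_eq_self k h2 ha, ← Nneg_eq_self k h2 hb]
  · rw [AlgHom.mem_range]
    rintro ⟨w, rfl⟩
    obtain ⟨a, b, rfl⟩ := exists_repr k s w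
    rw [phi_repr φ hφx hφy, sigma_repr σ hx hy, Nneg_Esq, Nneg_Esq]

include hx hy in
theorem span_fix_eq (h2 : (2 : k) ≠ 0) :
    Ideal.span (Set.range fun a : ArSing.ring k r => σ a - a) = Ideal.span {ArSing.x k r} := by
  apply le_antisymm
  · rw [Ideal.span_le]
    rintro _ ⟨z, rfl⟩
    obtain ⟨a, b, rfl⟩ := exists_repr k r z
    simp only [sigma_repr σ hx hy]
    have h3 : ArSing.xMap k r (Nneg k a) + ArSing.xMap k r (Nneg k b) * ArSing.y k r -
        (ArSing.xMap k r a + ArSing.xMap k r b * ArSing.y k r) =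
        ArSing.xMap k r (Nneg k a - a) + ArSing.xMap k r (Nneg k b - b) * ArSing.y k r := by
      simp only [map_sub]; ring
    rw [SetLike.mem_coe, h3, mem_span_x_iff]
    exact ⟨PowerSeries.X_dvd_iff.mp (X_dvd_Nneg_sub k a), PowerSeries.X_dvd_iff.mp (X_dvd_Nneg_sub k b)⟩
  · rw [Ideal.span_le, Set.singleton_subset_iff, SetLike.mem_coe]
    have hmem : σ (ArSing.x k r) - ArSing.x k r ∈
        Ideal.span (Set.range fun a : ArSing.ring k r => σ a - a) :=
      Ideal.subset_span ⟨ArSing.x k r, rfl⟩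
    have h3 : ArSing.x k r = algebraMap k (ArSing.ring k r) (-(2 : k)⁻¹) * (σ (ArSing.x k r) - ArSing.x k r) := by
      rw [hx]
      have : algebraMap k (ArSing.ring k r) (-(2 : k)⁻¹) * (2 : ArSing.ring k r) = -1 := by
        rw [← map_ofNat (algebraMap k (ArSing.ring k r)) 2, ← map_mul]
        rw [neg_mul, inv_mul_cancel₀ h2]; simp
      linear_combination (ArSing.x k r) * this
    rw [h3]
    exact Ideal.mul_mem_left _ _ hmem

include hφx hφy in
theorem flat_phi : φ.toRingHom.Flat := by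
  letI : Algebra (ArSing.ring k s) (ArSing.ring k r) := φ.toRingHom.toAlgebra
  show Module.Flat (ArSing.ring k s) (ArSing.ring k r)
  have hsm : ∀ (b : ArSing.ring k s) (z : ArSing.ring k r), b • z = φ b * z := fun b z => rfl
  let f : (ArSing.ring k s × ArSing.ring k s) →ₗ[ArSing.ring k s] ArSing.ring k r :=
    LinearMap.coprod (Algebra.linearMap (ArSing.ring k s) (ArSing.ring k r))
      (LinearMap.toSpanSingleton (ArSing.ring k s) (ArSing.ring k r) (ArSing.x k r))
  have hf : ∀ p : ArSing.ring k s × ArSing.ring k s, f p = φ p.1 + φ p.2 * ArSing.x k r := by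
    intro p
    simp only [f, LinearMap.coprod_apply, Algebra.linearMap_apply, LinearMap.toSpanSingleton_apply, hsm]
    rfl
  have hcomb : ∀ a₀ b₀ a₁ b₁ : PowerSeries k,
      φ (ArSing.xMap k s a₀ + ArSing.xMap k s b₀ * ArSing.y k s) +
        φ (ArSing.xMap k s a₁ + ArSing.xMap k s b₁ * ArSing.y k s) * ArSing.x k r =
      ArSing.xMap k r (Esq k a₀ + PowerSeries.X * Esq k a₁) +
        ArSing.xMap k r (Esq k b₀ + PowerSeries.X * Esq k b₁) * ArSing.y k r := by
    intro a₀ b₀ a₁ b₁
    rw [phi_repr φ hφx hφy, phi_repr φ hφx hφy]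
    simp only [map_add, map_mul, xMap_X]
    ring
  have hbij : Function.Bijective f := by
    constructor
    · rw [← LinearMap.ker_eq_bot, LinearMap.ker_eq_bot']
      rintro ⟨w₀, w₁⟩ hp
      rw [hf] at hp
      obtain ⟨a₀, b₀, rfl⟩ := exists_repr k s w₀
      obtain ⟨a₁, b₁, rfl⟩ := exists_repr k s w₁
      simp only at hp
      rw [hcomb] at hp
      obtain ⟨h1, h2⟩ := repr_eq_zero k r hp
      obtain ⟨h3, h4⟩ := Esq_add_eq_zero k h1
      obtain ⟨h5, h6⟩ := Esq_add_eq_zero k h2
      subst h3 h4 h5 h6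
      simp
    · intro z
      obtain ⟨a, b, rfl⟩ := exists_repr k r z
      refine ⟨(ArSing.xMap k s (evenPart k a) + ArSing.xMap k s (evenPart k b) * ArSing.y k s,
        ArSing.xMap k s (oddPart k a) + ArSing.xMap k s (oddPart k b) * ArSing.y k s), ?_⟩
      rw [hf]
      simp only
      rw [hcomb, ← even_odd_decomp, ← even_odd_decomp]
  exact Module.Flat.of_linearEquiv (LinearEquiv.ofBijective f hbij).symm

end S94b

/-- K algebraically closed of characteristic prime to 2 and to r+1, r = 2m - 1 with m ≥ 2, σ the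
involution x ↦ -x, y ↦ y of A_r = k[[x,y]]/(y^2 - x^(r+1)), and φ : A_(m-1) → A_r the k-algebra map
x ↦ x^2, y ↦ y. Then the invariant subalgebra of σ is the image of φ (so A_r^σ ≅ A_(m-1)), φ is
faithfully flat (flat, and the maximal ideal of A_(m-1) does not generate the unit ideal), and the
fixed locus of σ is a Cartier divisor of length 2: its ideal, generated by the elements σ(a) - a, is
generated by one nonzerodivisor and has quotient of length 2. -/
theorem result (k : Type u) [Field k] [IsAlgClosed k] (m r : ℕ)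
    (hm : 2 ≤ m) (hr : r = 2 * m - 1) (h2 : (2 : k) ≠ 0) (hr1 : ((r + 1 : ℕ) : k) ≠ 0)
    (σ : ArSing.ring k r ≃ₐ[k] ArSing.ring k r) (hx : σ (ArSing.x k r) = -ArSing.x k r)
    (hy : σ (ArSing.y k r) = ArSing.y k r)
    (φ : ArSing.ring k (m - 1) →ₐ[k] ArSing.ring k r) (hφx : φ (ArSing.x k (m - 1)) = ArSing.x k r ^ 2)
    (hφy : φ (ArSing.y k (m - 1)) = ArSing.y k r) :
    (∀ a : ArSing.ring k r, σ a = a ↔ a ∈ φ.range) ∧
    (φ.toRingHom.Flat ∧ ∀ I : Ideal (ArSing.ring k (m - 1)), I.IsMaximal → Ideal.map φ I ≠ ⊤) ∧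
    (∃ g : ArSing.ring k r, g ∈ nonZeroDivisors (ArSing.ring k r) ∧ Ideal.span (Set.range fun a : ArSing.ring k r => σ a - a) = Ideal.span {g}) ∧
    Module.length (ArSing.ring k r) (ArSing.ring k r ⧸ Ideal.span (Set.range fun a : ArSing.ring k r => σ a - a)) = 2 := by
  have hspan := span_fix_eq σ hx hy h2
  refine ⟨fun a => fixed_iff σ hx hy φ hφx hφy h2 a,
    ⟨flat_phi φ hφx hφy, fun I hI => map_ne_top_of_isMaximal φ ?_ ?_ I hI⟩,
    ⟨ArSing.x k r, x_mem_nonZeroDivisors k r, hspan⟩, ?_⟩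
  · rw [hφx, map_pow, aug_x]; simp
  · rw [hφy, aug_y]
  · rw [hspan]
    exact length_quotient_span_x k r

end Groth.Agent.S14094
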