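import Groth.Statements.S14095
import Mathlib
import Groth.Agent.Lib.ArSing97b
import Groth.Agent.S14094
-- import your own Groth.Agent.* helpers here

set_option autoImplicit false
universe u
open ArSing

namespace Groth.Agent.S14095

open Groth.Agent.Lib.ArSing97 PowerSeries

section S95
variable {k : Type u} [Field k] {r s : ℕ}
variable (σ : ArSing.ring k r ≃ₐ[k] ArSing.ring k r) (hx : σ (ArSing.x k r) = -ArSing.x k r)
  (hy : σ (ArSing.y k r) = -ArSing.y k r)
  (φ : ArSing.ring k s →ₐ[k] ArSing.ring k r) (hφx : φ (ArSing.x k s) = ArSing.x k r ^ 2)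
  (hφy : φ (ArSing.y k s) = ArSing.x k r * ArSing.y k r)

include hx hy in
theorem sigma_repr (a b : PowerSeries k) :
    σ (ArSing.xMap k r a + ArSing.xMap k r b * ArSing.y k r) =
      ArSing.xMap k r (Nneg k a) + ArSing.xMap k r (-Nneg k b) * ArSing.y k r := by
  have h := Groth.Agent.S14094.algHom_xMap_of_neg_x (σ : ArSing.ring k r →ₐ[k] ArSing.ring k r) hx
  have ha := h a
  have hb := h b
  simp only [AlgEquiv.coe_toAlgHom] at ha hb
  rw [map_add, map_mul, ha, hb, hy, map_neg]
  ring

include hφx hφy in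
theorem phi_repr (a b : PowerSeries k) :
    φ (ArSing.xMap k s a + ArSing.xMap k s b * ArSing.y k s) =
      ArSing.xMap k r (Esq k a) + ArSing.xMap k r (PowerSeries.X * Esq k b) * ArSing.y k r := by
  rw [map_add, map_mul, Groth.Agent.S14094.algHom_xMap_of_sq_x φ hφx,
    Groth.Agent.S14094.algHom_xMap_of_sq_x φ hφx, hφy, map_mul, xMap_X]
  ring

/-- `-N b = b` forces `b = X * E (odd part)` -/
theorem neg_Nneg_eq_self (h2 : (2 : k) ≠ 0) {b : PowerSeries k} (h : -Nneg k b = b) :
    b = PowerSeries.X * Esq k (oddPart k b) := by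
  have hd := even_odd_decomp k b
  have h1 : Nneg k b = Esq k (evenPart k b) - PowerSeries.X * Esq k (oddPart k b) := by
    conv_lhs => rw [hd]
    rw [map_add, Nneg_Esq, Nneg_X_mul_Esq]; ring
  generalize Esq k (oddPart k b) = o at hd h1 ⊢
  have h3 : Esq k (evenPart k b + evenPart k b) + PowerSeries.X * Esq k 0 = 0 := by
    rw [map_zero, mul_zero, add_zero, map_add]
    have h6 : -(Esq k (evenPart k b) - PowerSeries.X * o) = Esq k (evenPart k b) + PowerSeries.X * o := by
      rw [← h1, ← hd, h]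
    linear_combination -h6
  have h4 := (Esq_add_eq_zero k h3).1
  have h5 : evenPart k b = 0 := two_smul_eq_zero k h2 _ h4
  rw [h5] at hd
  simpa using hd

include hx hy hφx hφy in
theorem fixed_iff (h2 : (2 : k) ≠ 0) (z : ArSing.ring k r) :
    σ z = z ↔ z ∈ φ.range := by
  constructor
  · intro h
    obtain ⟨a, b, rfl⟩ := exists_repr k r z
    rw [sigma_repr σ hx hy] at h
    obtain ⟨ha, hb⟩ := repr_unique k r h
    rw [AlgHom.mem_range]
    refine ⟨ArSing.xMap k s (evenPart k a) + ArSing.xMap k s (oddPart k b) * ArSing.y k s, ?_⟩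
    rw [phi_repr φ hφx hφy, ← Nneg_eq_self k h2 ha, ← neg_Nneg_eq_self h2 hb]
  · rw [AlgHom.mem_range]
    rintro ⟨w, rfl⟩
    obtain ⟨a, b, rfl⟩ := exists_repr k s w
    rw [phi_repr φ hφx hφy, sigma_repr σ hx hy, Nneg_Esq, Nneg_X_mul_Esq, neg_neg]

include hφx hφy in
theorem phi_injective : Function.Injective φ := by
  rw [injective_iff_map_eq_zero]
  intro w hw
  obtain ⟨a, b, rfl⟩ := exists_repr k s w
  rw [phi_repr φ hφx hφy] at hw
  obtain ⟨h1, h2⟩ := repr_eq_zero k r hw
  have ha : a = 0 := Esq_injective k (by rw [h1, map_zero])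
  have hb : b = 0 := by
    rcases mul_eq_zero.mp h2 with h | h
    · exact absurd h PowerSeries.X_ne_zero
    · exact Esq_injective k (by rw [h, map_zero])
  rw [ha, hb]; simp

include hx hy in
theorem span_fix_eq (h2 : (2 : k) ≠ 0) :
    Ideal.span (Set.range fun a : ArSing.ring k r => σ a - a) =
      Ideal.span {ArSing.x k r, ArSing.y k r} := by
  apply le_antisymm
  · rw [Ideal.span_le]
    rintro _ ⟨z, rfl⟩
    obtain ⟨a, b, rfl⟩ := exists_repr k r z
    simp only [sigma_repr σ hx hy]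
    obtain ⟨a', ha'⟩ := X_dvd_Nneg_sub k a
    have h3 : ArSing.xMap k r (Nneg k a) + ArSing.xMap k r (-Nneg k b) * ArSing.y k r -
        (ArSing.xMap k r a + ArSing.xMap k r b * ArSing.y k r) =
        ArSing.xMap k r a' * ArSing.x k r + ArSing.xMap k r (-Nneg k b - b) * ArSing.y k r := by
      have : ArSing.xMap k r (Nneg k a) - ArSing.xMap k r a = ArSing.xMap k r a' * ArSing.x k r := by
        rw [← map_sub, ha', map_mul, xMap_X, mul_comm]
      rw [map_sub]
      linear_combination this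
    rw [SetLike.mem_coe, h3, Ideal.mem_span_pair]
    exact ⟨_, _, rfl⟩
  · have hc : algebraMap k (ArSing.ring k r) (-(2 : k)⁻¹) * (2 : ArSing.ring k r) = -1 := by
      rw [← map_ofNat (algebraMap k (ArSing.ring k r)) 2, ← map_mul]
      rw [neg_mul, inv_mul_cancel₀ h2]; simp
    rw [Ideal.span_le]
    rintro z (rfl | rfl)
    · have hmem : σ (ArSing.x k r) - ArSing.x k r ∈
          Ideal.span (Set.range fun a : ArSing.ring k r => σ a - a) :=
        Ideal.subset_span ⟨ArSing.x k r, rfl⟩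
      have h3 : ArSing.x k r = algebraMap k (ArSing.ring k r) (-(2 : k)⁻¹) * (σ (ArSing.x k r) - ArSing.x k r) := by
        rw [hx]
        linear_combination (ArSing.x k r) * hc
      rw [SetLike.mem_coe, h3]
      exact Ideal.mul_mem_left _ _ hmem
    · have hmem : σ (ArSing.y k r) - ArSing.y k r ∈
          Ideal.span (Set.range fun a : ArSing.ring k r => σ a - a) :=
        Ideal.subset_span ⟨ArSing.y k r, rfl⟩
      have h3 : ArSing.y k r = algebraMap k (ArSing.ring k r) (-(2 : k)⁻¹) * (σ (ArSing.y k r) - ArSing.y k r) := by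
        rw [hy]
        linear_combination (ArSing.y k r) * hc
      rw [SetLike.mem_coe, h3]
      exact Ideal.mul_mem_left _ _ hmem

end S95

section S95b
variable (k : Type u) [Field k] (r : ℕ)

theorem mem_span_xy_of_aug (z : ArSing.ring k r) (hz : aug k r z = 0) :
    z ∈ Ideal.span {ArSing.x k r, ArSing.y k r} := by
  obtain ⟨a, b, rfl⟩ := exists_repr k r z
  rw [aug_repr] at hz
  obtain ⟨a', rfl⟩ := PowerSeries.X_dvd_iff.mpr hz
  rw [Ideal.mem_span_pair]
  exact ⟨ArSing.xMap k r a', ArSing.xMap k r b, by rw [map_mul, xMap_X]; ring⟩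

theorem aug_of_mem_span_xy (z : ArSing.ring k r)
    (hz : z ∈ Ideal.span {ArSing.x k r, ArSing.y k r}) : aug k r z = 0 := by
  obtain ⟨u, v, rfl⟩ := Ideal.mem_span_pair.mp hz
  simp [aug_x, aug_y]

theorem length_quotient_span_xy :
    Module.length (ArSing.ring k r) (ArSing.ring k r ⧸ Ideal.span {ArSing.x k r, ArSing.y k r}) = 1 := by
  have key := length_quotient_aux (ArSing.xMap k r).toRingHom
    (Ideal.span {ArSing.x k r, ArSing.y k r}) 1 ?_ ?_
  · rw [key]; norm_cast
  · intro z
    obtain ⟨a, b, rfl⟩ := exists_repr k r z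
    refine ⟨a, ?_⟩
    show _ - ArSing.xMap k r a ∈ _
    rw [add_sub_cancel_left]
    exact Ideal.mul_mem_left _ _ (Ideal.subset_span (by simp))
  · intro a
    show ArSing.xMap k r a ∈ _ ↔ _
    rw [pow_one, PowerSeries.maximalIdeal_eq_span_X, Ideal.mem_span_singleton, PowerSeries.X_dvd_iff]
    constructor
    · intro h
      have := aug_of_mem_span_xy k r _ h
      rwa [aug_xMap] at this
    · intro h
      apply mem_span_xy_of_aug
      rwa [aug_xMap]

theorem y_notMem_span_x : ArSing.y k r ∉ Ideal.span {ArSing.x k r} := by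
  intro h
  have h1 : ArSing.y k r = ArSing.xMap k r 0 + ArSing.xMap k r 1 * ArSing.y k r := by simp
  rw [h1, mem_span_x_iff] at h
  simp at h

theorem x_notMem_span_y (hr : 1 ≤ r) : ArSing.x k r ∉ Ideal.span {ArSing.y k r} := by
  intro h
  obtain ⟨w, hw⟩ := Ideal.mem_span_singleton'.mp h
  obtain ⟨c, d, rfl⟩ := exists_repr k r w
  have h1 : ArSing.xMap k r (d * PowerSeries.X ^ (r + 1)) + ArSing.xMap k r c * ArSing.y k r =
      ArSing.xMap k r PowerSeries.X + ArSing.xMap k r 0 * ArSing.y k r := by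
    have := y_sq k r
    rw [map_zero, zero_mul, add_zero, xMap_X, ← hw]
    simp only [map_mul]
    rw [← this]
    ring
  have h2 := (repr_unique k r h1).1
  have h3 := congrArg (PowerSeries.coeff 1) h2
  rw [PowerSeries.coeff_one_X, PowerSeries.coeff_mul_X_pow'] at h3
  have : ¬ (r + 1 ≤ 1) := by omega
  rw [if_neg this] at h3
  exact zero_ne_one h3

theorem not_principal (hr : 1 ≤ r) :
    ¬ ∃ g : ArSing.ring k r, g ∈ nonZeroDivisors (ArSing.ring k r) ∧
      Ideal.span {ArSing.x k r, ArSing.y k r} = Ideal.span {g} := by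
  rintro ⟨g, hg, hspan⟩
  have hxm : ArSing.x k r ∈ Ideal.span {g} := by rw [← hspan]; exact Ideal.subset_span (by simp)
  have hym : ArSing.y k r ∈ Ideal.span {g} := by rw [← hspan]; exact Ideal.subset_span (by simp)
  have hgm : g ∈ Ideal.span {ArSing.x k r, ArSing.y k r} := by
    rw [hspan]; exact Ideal.mem_span_singleton_self g
  obtain ⟨s, hs⟩ := Ideal.mem_span_singleton'.mp hxm
  obtain ⟨t, ht⟩ := Ideal.mem_span_singleton'.mp hym
  obtain ⟨p, q, hpq⟩ := Ideal.mem_span_pair.mp hgm
  have h1 : (p * s + q * t - 1) * g = 0 := by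
    rw [← hs, ← ht] at hpq
    linear_combination hpq
  have h2 : p * s + q * t - 1 = 0 := (mem_nonZeroDivisors_iff_right.mp hg) _ h1
  have h3 : aug k r p * aug k r s + aug k r q * aug k r t = 1 := by
    have := congrArg (aug k r) (sub_eq_zero.mp h2)
    simpa using this
  by_cases hs0 : aug k r s = 0
  · have ht0 : aug k r t ≠ 0 := by
      intro h; rw [hs0, h] at h3; simp at h3
    obtain ⟨t', ht'⟩ := (isUnit_of_aug_ne_zero k r ht0).exists_left_inv
    -- g = t' * y
    have hg2 : g = t' * ArSing.y k r := by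
      rw [← ht, ← mul_assoc, ht', one_mul]
    apply x_notMem_span_y k r hr
    rw [Ideal.mem_span_singleton']
    exact ⟨s * t', by rw [← hs, hg2]; ring⟩
  · obtain ⟨s', hs'⟩ := (isUnit_of_aug_ne_zero k r hs0).exists_left_inv
    have hg2 : g = s' * ArSing.x k r := by
      rw [← hs, ← mul_assoc, hs', one_mul]
    apply y_notMem_span_x k r
    rw [Ideal.mem_span_singleton']
    exact ⟨t * s', by rw [← ht, hg2]; ring⟩

end S95b

section S95c
theorem not_flat_of_syzygy {A B : Type*} [CommRing A] [CommRing B] (φ : A →+* B) (X Y : A) (u v : B)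
    (hrel : φ X * u + φ Y * v = 0) (J : Ideal B) (hu : u ∉ J)
    (hJ : ∀ c d : A, X * c + Y * d = 0 → φ c ∈ J) : ¬ φ.Flat := by
  intro hflat
  letI : Algebra A B := φ.toAlgebra
  have hflat' : Module.Flat A B := hflat
  have hsm : ∀ (b : A) (z : B), b • z = φ b * z := fun b z => rfl
  have hrel' : ∑ i : Fin 2, (![X, Y] i) • (![u, v] i) = 0 := by
    rw [Fin.sum_univ_two]
    show X • u + Y • v = 0
    rw [hsm, hsm, hrel]
  obtain ⟨K, a, yv, hxa, hfa⟩ := Module.Flat.iff_forall_isTrivialRelation.mp hflat' (l := 2) (f := ![X, Y]) (x := ![u, v]) hrel'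
  have h0 := hxa 0
  simp only [Matrix.cons_val_zero, hsm] at h0
  apply hu
  rw [h0]
  apply Ideal.sum_mem
  intro j _
  apply Ideal.mul_mem_right
  apply hJ (a 0 j) (a 1 j)
  have := hfa j
  rw [Fin.sum_univ_two] at this
  simpa using this

variable {k : Type u} [Field k] {r s : ℕ}

/-- a syzygy of `(x, y)` in `A_s` (`s ≥ 1`) has first coefficient in the maximal ideal -/
theorem aug_of_syzygy (hs : 1 ≤ s) (c d : ArSing.ring k s)
    (h : ArSing.x k s * c + ArSing.y k s * d = 0) : aug k s c = 0 := by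
  obtain ⟨c₀, c₁, rfl⟩ := exists_repr k s c
  obtain ⟨d₀, d₁, rfl⟩ := exists_repr k s d
  have h1 : ArSing.xMap k s (PowerSeries.X * c₀ + d₁ * PowerSeries.X ^ (s + 1)) +
      ArSing.xMap k s (PowerSeries.X * c₁ + d₀) * ArSing.y k s = 0 := by
    have := y_sq k s
    rw [← h]
    simp only [map_add, map_mul, xMap_X]
    rw [← this]
    ring
  have h2 := (repr_eq_zero k s h1).1
  rw [aug_repr]
  have h3 : PowerSeries.X * (c₀ + d₁ * PowerSeries.X ^ s) = 0 := by
    rw [← h2]; ring
  have h4 : c₀ + d₁ * PowerSeries.X ^ s = 0 := by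
    rcases mul_eq_zero.mp h3 with h | h
    · exact absurd h PowerSeries.X_ne_zero
    · exact h
  have h5 : c₀ = -(d₁ * PowerSeries.X ^ s) := eq_neg_of_add_eq_zero_left h4
  rw [h5, map_neg, map_mul, map_pow, PowerSeries.constantCoeff_X, zero_pow (by omega)]
  simp

theorem constantCoeff_Esq (a : PowerSeries k) :
    PowerSeries.constantCoeff (Esq k a) = PowerSeries.constantCoeff a := by
  rw [← PowerSeries.coeff_zero_eq_constantCoeff_apply, coeff_Esq]
  simp

variable (φ : ArSing.ring k s →ₐ[k] ArSing.ring k r) (hφx : φ (ArSing.x k s) = ArSing.x k r ^ 2)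
  (hφy : φ (ArSing.y k s) = ArSing.x k r * ArSing.y k r)

include hφx hφy in
theorem phi_mem_span_x (c : ArSing.ring k s) (hc : aug k s c = 0) :
    φ c ∈ Ideal.span {ArSing.x k r} := by
  obtain ⟨c₀, c₁, rfl⟩ := exists_repr k s c
  rw [aug_repr] at hc
  rw [phi_repr φ hφx hφy, mem_span_x_iff, constantCoeff_Esq, hc]
  simp

include hφx hφy in
theorem not_flat_phi (hs : 1 ≤ s) : ¬ φ.toRingHom.Flat := by
  apply not_flat_of_syzygy φ.toRingHom (ArSing.x k s) (ArSing.y k s) (ArSing.y k r) (-ArSing.x k r)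
    ?_ (Ideal.span {ArSing.x k r}) (y_notMem_span_x k r)
  · intro c d h
    exact phi_mem_span_x φ hφx hφy c (aug_of_syzygy hs c d h)
  · show φ (ArSing.x k s) * _ + φ (ArSing.y k s) * _ = 0
    rw [hφx, hφy]; ring

end S95c

/-- K algebraically closed of characteristic prime to 2 and to r+1, r = 2m - 1 with m ≥ 1, σ the
involution x ↦ -x, y ↦ -y of A_r = k[[x,y]]/(y^2 - x^(r+1)), and φ : A_m → A_r the k-algebra map x ↦
x^2, y ↦ xy. Then the invariant subalgebra of σ is the image of φ and φ is injective (so A_r^σ ≅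
A_m), φ is not flat, and the fixed locus of σ is the reduced closed point and is not a Cartier
divisor: the ideal generated by the elements σ(a) - a has quotient of length 1 and is not generated
by one nonzerodivisor. -/
theorem result (k : Type u) [Field k] [IsAlgClosed k] (m r : ℕ)
    (hm : 1 ≤ m) (hr : r = 2 * m - 1) (h2 : (2 : k) ≠ 0) (hr1 : ((r + 1 : ℕ) : k) ≠ 0)
    (σ : ArSing.ring k r ≃ₐ[k] ArSing.ring k r) (hx : σ (ArSing.x k r) = -ArSing.x k r)
    (hy : σ (ArSing.y k r) = -ArSing.y k r)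
    (φ : ArSing.ring k m →ₐ[k] ArSing.ring k r) (hφx : φ (ArSing.x k m) = ArSing.x k r ^ 2)
    (hφy : φ (ArSing.y k m) = ArSing.x k r * ArSing.y k r) :
    (∀ a : ArSing.ring k r, σ a = a ↔ a ∈ φ.range) ∧ Function.Injective φ ∧
    ¬ φ.toRingHom.Flat ∧
    Module.length (ArSing.ring k r) (ArSing.ring k r ⧸ Ideal.span (Set.range fun a : ArSing.ring k r => σ a - a)) = 1 ∧
    ¬ (∃ g : ArSing.ring k r, g ∈ nonZeroDivisors (ArSing.ring k r) ∧ Ideal.span (Set.range fun a : ArSing.ring k r => σ a - a) = Ideal.span {g}) := by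
  have hspan := span_fix_eq σ hx hy h2
  have hr1' : 1 ≤ r := by omega
  refine ⟨fun a => fixed_iff σ hx hy φ hφx hφy h2 a, phi_injective φ hφx hφy,
    not_flat_phi φ hφx hφy hm, ?_, ?_⟩
  · rw [hspan]
    exact length_quotient_span_xy k r
  · rw [hspan]
    exact not_principal k r hr1'

end Groth.Agent.S14095
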