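import Groth.Statements.S14096
import Mathlib
import Groth.Agent.Lib.ArSing97c
-- import your own Groth.Agent.* helpers here

set_option autoImplicit false
universe u
open ArSing

namespace Groth.Agent.S14096

open Groth.Agent.Lib.ArSing97 PowerSeries

section S96a
variable {k : Type u} [Field k]

/-- `t ↦ c t` -/
noncomputable def Resc (c : k) : PowerSeries k →ₐ[k] PowerSeries k := PowerSeries.rescaleAlgHom c

theorem Resc_apply (c : k) (a : PowerSeries k) : Resc c a = PowerSeries.rescale c a := by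
  unfold Resc
  rw [← PowerSeries.coe_rescaleAlgHom]; rfl

theorem coeff_Resc (c : k) (a : PowerSeries k) (n : ℕ) :
    PowerSeries.coeff n (Resc c a) = c ^ n * PowerSeries.coeff n a := by
  rw [Resc_apply, PowerSeries.coeff_rescale]

theorem Resc_injective {c : k} (hc : c ≠ 0) : Function.Injective (Resc c) := by
  intro a b h
  ext n
  have := congrArg (PowerSeries.coeff n) h
  rw [coeff_Resc, coeff_Resc] at this
  exact mul_left_cancel₀ (pow_ne_zero n hc) this

theorem Resc_surjective {c : k} (hc : c ≠ 0) (g : PowerSeries k) : ∃ g₁, Resc c g₁ = g ∧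
    PowerSeries.constantCoeff g₁ = PowerSeries.constantCoeff g := by
  refine ⟨Resc c⁻¹ g, ?_, ?_⟩
  · ext n
    rw [coeff_Resc, coeff_Resc, ← mul_assoc, ← mul_pow, mul_inv_cancel₀ hc, one_pow, one_mul]
  · have := coeff_Resc c⁻¹ g 0
    simpa using this

theorem Resc_X (c : k) : Resc c PowerSeries.X = PowerSeries.C c * PowerSeries.X := by
  rw [Resc_apply, PowerSeries.rescale_X]

/-- `t ↦ c t^2` -/
noncomputable def Ssq (c : k) : PowerSeries k →ₐ[k] PowerSeries k := (Esq k).comp (Resc c)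

theorem Ssq_apply (c : k) (a : PowerSeries k) : Ssq c a = Esq k (Resc c a) := rfl

theorem Ssq_X (c : k) : Ssq c PowerSeries.X = PowerSeries.C c * PowerSeries.X ^ 2 := by
  rw [Ssq_apply, Resc_X, map_mul, Esq_X]
  have hC : (PowerSeries.C c : PowerSeries k) = algebraMap k (PowerSeries k) c := rfl
  rw [hC, AlgHom.commutes]

theorem Ssq_injective {c : k} (hc : c ≠ 0) : Function.Injective (Ssq c) := by
  intro a b h
  exact Resc_injective hc (Esq_injective k h)

theorem Nneg_Ssq (c : k) (a : PowerSeries k) : Nneg k (Ssq c a) = Ssq c a := by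
  rw [Ssq_apply, Nneg_Esq]

theorem constantCoeff_Esq' (a : PowerSeries k) :
    PowerSeries.constantCoeff (Esq k a) = PowerSeries.constantCoeff a := by
  have := coeff_Esq k a 0
  simpa using this

end S96a

section S96b
variable {k : Type u} [Field k]
variable (σ : ArSing.ring k 1 ≃ₐ[k] ArSing.ring k 1) (hx : σ (ArSing.x k 1) = ArSing.y k 1)
  (hy : σ (ArSing.y k 1) = ArSing.x k 1)
  (φ : ArSing.ring k 1 →ₐ[k] ArSing.ring k 1)
  (hφu : φ (ArSing.x k 1 + ArSing.y k 1) = ArSing.x k 1 + ArSing.y k 1)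
  (hφv : φ (ArSing.y k 1 - ArSing.x k 1) = (ArSing.y k 1 - ArSing.x k 1) ^ 2)

include hx hy in
theorem brp_sigma (z : ArSing.ring k 1) : brp k (σ z) = brp k z := by
  have : (brp k).comp (σ : ArSing.ring k 1 →ₐ[k] ArSing.ring k 1) = brp k := by
    apply algHom_ext_ring' k 1
    · simp [hx, brp_x, brp_y]
    · simp [hy, brp_x, brp_y]
    · intro w hw
      apply hausdorff_ps k _ _ w hw
      simp [hx, brp_y]
  exact DFunLike.congr_fun this z

include hx hy in
theorem brm_sigma (z : ArSing.ring k 1) : brm k (σ z) = Nneg k (brm k z) := by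
  have : (brm k).comp (σ : ArSing.ring k 1 →ₐ[k] ArSing.ring k 1) = (Nneg k).comp (brm k) := by
    apply algHom_ext_ring' k 1
    · simp [hx, brm_x, brm_y, Nneg_X]
    · simp [hy, brm_x, brm_y, Nneg_X]
    · intro w hw
      apply hausdorff_ps k _ _ w hw
      simp [hx, brm_y]
  exact DFunLike.congr_fun this z

include hφu hφv in
theorem brp_phi_xy (h2 : (2 : k) ≠ 0) :
    brp k (φ (ArSing.x k 1)) = PowerSeries.X ∧ brp k (φ (ArSing.y k 1)) = PowerSeries.X := by
  have h1 := congrArg (brp k) hφu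
  have h3 := congrArg (brp k) hφv
  simp only [map_add, map_sub, map_pow, brp_x, brp_y] at h1 h3
  have hq : brp k (φ (ArSing.y k 1)) = brp k (φ (ArSing.x k 1)) := by
    linear_combination h3
  have hp : brp k (φ (ArSing.x k 1)) = PowerSeries.X := by
    apply sub_eq_zero.mp
    apply two_smul_eq_zero k h2
    rw [hq] at h1
    linear_combination h1
  exact ⟨hp, by rw [hq, hp]⟩

include hφu hφv in
theorem brp_phi (h2 : (2 : k) ≠ 0) (z : ArSing.ring k 1) : brp k (φ z) = brp k z := by
  obtain ⟨h1, h3⟩ := brp_phi_xy φ hφu hφv h2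
  have : (brp k).comp φ = brp k := by
    apply algHom_ext_ring' k 1
    · simp [h1, brp_x]
    · simp [h3, brp_y]
    · intro w hw
      apply hausdorff_ps k _ _ w hw
      simp [h1]
  exact DFunLike.congr_fun this z

theorem C_neg_two : (PowerSeries.C (-2 : k) : PowerSeries k) = -2 := by
  rw [map_neg, map_ofNat]

include hφu hφv in
theorem brm_phi_xy (h2 : (2 : k) ≠ 0) :
    brm k (φ (ArSing.x k 1)) = Ssq (-2 : k) PowerSeries.X ∧
      brm k (φ (ArSing.y k 1)) = -Ssq (-2 : k) PowerSeries.X := by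
  have h1 := congrArg (brm k) hφu
  have h3 := congrArg (brm k) hφv
  simp only [map_add, map_sub, map_pow, brm_x, brm_y] at h1 h3
  rw [Ssq_X, C_neg_two]
  have hq : brm k (φ (ArSing.y k 1)) = -brm k (φ (ArSing.x k 1)) := by
    linear_combination h1
  have hp : brm k (φ (ArSing.x k 1)) = -2 * PowerSeries.X ^ 2 := by
    apply sub_eq_zero.mp
    apply two_smul_eq_zero k h2
    rw [hq] at h3
    linear_combination -h3
  exact ⟨hp, by rw [hq, hp]⟩

include hφu hφv in
theorem brm_phi (h2 : (2 : k) ≠ 0) (z : ArSing.ring k 1) :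
    brm k (φ z) = Ssq (-2 : k) (brm k z) := by
  obtain ⟨h1, h3⟩ := brm_phi_xy φ hφu hφv h2
  have : (brm k).comp φ = (Ssq (-2 : k)).comp (brm k) := by
    apply algHom_ext_ring' k 1
    · simp [h1, brm_x]
    · simp [h3, brm_y]
    · intro w hw
      apply hausdorff_ps k _ _ w hw
      simp only [AlgHom.comp_apply, h1, Ssq_X]
      exact ⟨PowerSeries.C (-2 : k) * PowerSeries.X, by ring⟩
  exact DFunLike.congr_fun this z

include hφu hφv in
theorem phi_injective (h2 : (2 : k) ≠ 0) : Function.Injective φ := by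
  rw [injective_iff_map_eq_zero]
  intro z hz
  have hm2 : (-2 : k) ≠ 0 := neg_ne_zero.mpr h2
  apply eq_zero_of_brp_brm h2
  · rw [← brp_phi φ hφu hφv h2, hz, map_zero]
  · apply Ssq_injective hm2
    rw [← brm_phi φ hφu hφv h2, hz, map_zero, map_zero]

include hx hy hφu hφv in
theorem fixed_iff (h2 : (2 : k) ≠ 0) (a : ArSing.ring k 1) : σ a = a ↔ a ∈ φ.range := by
  have hm2 : (-2 : k) ≠ 0 := neg_ne_zero.mpr h2
  constructor
  · intro h
    have hm := brm_sigma σ hx hy a
    rw [h] at hm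
    have he := Nneg_eq_self k h2 hm.symm
    obtain ⟨g₁, hg₁, hcc⟩ := Resc_surjective hm2 (evenPart k (brm k a))
    have hcc2 : PowerSeries.constantCoeff (brp k a) = PowerSeries.constantCoeff g₁ := by
      rw [hcc, ← constantCoeff_Esq' (evenPart k (brm k a)), ← he]
      obtain ⟨p, q, rfl⟩ := exists_repr k 1 a
      rw [brp_repr, brm_repr]
      simp
    obtain ⟨w, hw1, hw2⟩ := exists_of_brp_brm h2 (brp k a) g₁ hcc2
    rw [AlgHom.mem_range]
    refine ⟨w, ?_⟩
    apply eq_of_brp_brm h2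
    · rw [brp_phi φ hφu hφv h2, hw1]
    · rw [brm_phi φ hφu hφv h2, hw2, Ssq_apply, hg₁, ← he]
  · rw [AlgHom.mem_range]
    rintro ⟨w, rfl⟩
    apply eq_of_brp_brm h2
    · rw [brp_sigma σ hx hy]
    · rw [brm_sigma σ hx hy, brm_phi φ hφu hφv h2, Nneg_Ssq]

include hx hy in
theorem span_fix_eq :
    Ideal.span (Set.range fun a : ArSing.ring k 1 => σ a - a) =
      Ideal.span {ArSing.y k 1 - ArSing.x k 1} := by
  apply le_antisymm
  · rw [Ideal.span_le]
    rintro _ ⟨z, rfl⟩
    rw [SetLike.mem_coe, ← ker_brp, RingHom.mem_ker, map_sub, brp_sigma σ hx hy, sub_self]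
  · rw [Ideal.span_le, Set.singleton_subset_iff, SetLike.mem_coe]
    have hmem : σ (ArSing.x k 1) - ArSing.x k 1 ∈
        Ideal.span (Set.range fun a : ArSing.ring k 1 => σ a - a) :=
      Ideal.subset_span ⟨ArSing.x k 1, rfl⟩
    rwa [hx] at hmem

theorem u_ne_zero (h2 : (2 : k) ≠ 0) : ArSing.x k 1 + ArSing.y k 1 ≠ 0 := by
  intro h
  have h1 := congrArg (brp k) h
  rw [map_add, brp_x, brp_y, map_zero] at h1
  exact PowerSeries.X_ne_zero (two_smul_eq_zero k h2 _ h1)

end S96b

section S96c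
variable {k : Type u} [Field k]

theorem v_notMem_nonZeroDivisors (h2 : (2 : k) ≠ 0) :
    ArSing.y k 1 - ArSing.x k 1 ∉ nonZeroDivisors (ArSing.ring k 1) := by
  intro h
  rw [mem_nonZeroDivisors_iff_right] at h
  exact u_ne_zero h2 (h _ node_mul)

theorem span_v_minimal (h2 : (2 : k) ≠ 0) :
    Ideal.span {ArSing.y k 1 - ArSing.x k 1} ∈ minimalPrimes (ArSing.ring k 1) := by
  rw [← ker_brp]
  have hprime : (RingHom.ker (brp k)).IsPrime := RingHom.ker_isPrime _
  refine ⟨⟨hprime, bot_le⟩, ?_⟩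
  rintro q ⟨hq, -⟩ hle
  rw [ker_brp, Ideal.span_singleton_le_iff_mem]
  have h0 : (ArSing.x k 1 + ArSing.y k 1) * (ArSing.y k 1 - ArSing.x k 1) ∈ q := by
    rw [node_mul]; exact q.zero_mem
  rcases hq.mem_or_mem h0 with h | h
  · exfalso
    have := hle h
    rw [RingHom.mem_ker, map_add, brp_x, brp_y] at this
    exact PowerSeries.X_ne_zero (two_smul_eq_zero k h2 _ this)
  · exact h

theorem v_notMem_span_sq (h2 : (2 : k) ≠ 0) :
    ArSing.y k 1 - ArSing.x k 1 ∉ Ideal.span {(ArSing.y k 1 - ArSing.x k 1) ^ 2} := by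
  intro hmem
  obtain ⟨w, hw⟩ := Ideal.mem_span_singleton'.mp hmem
  have h1 := congrArg (brm k) hw
  simp only [map_mul, map_pow, map_sub, brm_x, brm_y] at h1
  have h4 : (PowerSeries.X : PowerSeries k) * (brm k w * (4 * PowerSeries.X) + 2) = 0 := by
    linear_combination h1
  rcases mul_eq_zero.mp h4 with h | h
  · exact PowerSeries.X_ne_zero h
  · have h5 := congrArg (PowerSeries.constantCoeff (R := k)) h
    rw [map_add, map_mul, map_mul, PowerSeries.constantCoeff_X, mul_zero, mul_zero, zero_add,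
      map_zero] at h5
    have h6 : PowerSeries.constantCoeff (2 : PowerSeries k) = (2 : k) := by
      rw [← map_ofNat (PowerSeries.C (R := k)) 2, PowerSeries.constantCoeff_C]
    rw [h6] at h5
    exact h2 h5

theorem mem_span_v_of_u_mul (h2 : (2 : k) ≠ 0) (c : ArSing.ring k 1)
    (hc : (ArSing.x k 1 + ArSing.y k 1) * c = 0) :
    c ∈ Ideal.span {ArSing.y k 1 - ArSing.x k 1} := by
  have h1 := congrArg (brp k) hc
  rw [map_mul, map_add, brp_x, brp_y, map_zero] at h1
  have h3 : brp k c = 0 := by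
    rcases mul_eq_zero.mp h1 with h | h
    · exact absurd (two_smul_eq_zero k h2 _ h) PowerSeries.X_ne_zero
    · exact h
  rw [← ker_brp, RingHom.mem_ker]
  exact h3

theorem not_flat_phi (h2 : (2 : k) ≠ 0) (φ : ArSing.ring k 1 →ₐ[k] ArSing.ring k 1)
    (hφu : φ (ArSing.x k 1 + ArSing.y k 1) = ArSing.x k 1 + ArSing.y k 1)
    (hφv : φ (ArSing.y k 1 - ArSing.x k 1) = (ArSing.y k 1 - ArSing.x k 1) ^ 2) :
    ¬ φ.toRingHom.Flat := by
  apply not_flat_of_syzygy' φ.toRingHom (ArSing.x k 1 + ArSing.y k 1) 0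
    (ArSing.y k 1 - ArSing.x k 1) 0 ?_ (Ideal.span {(ArSing.y k 1 - ArSing.x k 1) ^ 2})
    (v_notMem_span_sq h2)
  · intro c d hcd
    have hc : (ArSing.x k 1 + ArSing.y k 1) * c = 0 := by simpa using hcd
    obtain ⟨c', rfl⟩ := Ideal.mem_span_singleton'.mp (mem_span_v_of_u_mul h2 c hc)
    show φ (c' * (ArSing.y k 1 - ArSing.x k 1)) ∈ _
    rw [map_mul, hφv]
    exact Ideal.mul_mem_left _ _ (Ideal.mem_span_singleton_self _)
  · show φ (ArSing.x k 1 + ArSing.y k 1) * _ + φ 0 * 0 = 0
    rw [hφu, node_mul]; simp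

end S96c

/-- K algebraically closed of characteristic ≠ 2, σ the involution of the node algebra A_1 =
k[[x,y]]/(y^2 - x^2) exchanging x and y, and φ : A_1 → A_1 the k-algebra map with φ(x + y) = x + y
and φ(y - x) = (y - x)^2 (in the branch coordinates u = x + y, v = y - x with uv = 0: u ↦ u, v ↦
v^2). Then the invariant subalgebra of σ is the image of φ and φ is injective (so A_1^σ ≅ A_1), and
the fixed locus of σ is the branch v = 0: the ideal generated by the elements σ(a) - a is the ideal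
(y - x), a minimal prime ideal generated by a zero-divisor (so not a Cartier divisor). Moreover φ is
not flat. (The published statement asserts that this extension is faithfully flat; it is not: as a
module over the invariant subalgebra B = k[[u,w]]/(uw), w = v^2, A_1 is B ⊕ (B/uB)·v, and B/uB is
not flat over B — equivalently the fibre length jumps from 1 on the branch w = 0 to 2 at the closed
point.) -/
theorem result (k : Type u) [Field k] [IsAlgClosed k]
    (h2 : (2 : k) ≠ 0)
    (σ : ArSing.ring k 1 ≃ₐ[k] ArSing.ring k 1) (hx : σ (ArSing.x k 1) = ArSing.y k 1)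
    (hy : σ (ArSing.y k 1) = ArSing.x k 1)
    (φ : ArSing.ring k 1 →ₐ[k] ArSing.ring k 1) (hφu : φ (ArSing.x k 1 + ArSing.y k 1) = ArSing.x k 1 + ArSing.y k 1)
    (hφv : φ (ArSing.y k 1 - ArSing.x k 1) = (ArSing.y k 1 - ArSing.x k 1) ^ 2) :
    (∀ a : ArSing.ring k 1, σ a = a ↔ a ∈ φ.range) ∧ Function.Injective φ ∧
    Ideal.span (Set.range fun a : ArSing.ring k 1 => σ a - a) = Ideal.span {ArSing.y k 1 - ArSing.x k 1} ∧
    (ArSing.y k 1 - ArSing.x k 1) ∉ nonZeroDivisors (ArSing.ring k 1) ∧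
    Ideal.span {ArSing.y k 1 - ArSing.x k 1} ∈ minimalPrimes (ArSing.ring k 1) ∧
    ¬ φ.toRingHom.Flat := by
  exact ⟨fun a => fixed_iff σ hx hy φ hφu hφv h2 a, phi_injective φ hφu hφv h2,
    span_fix_eq σ hx hy, v_notMem_nonZeroDivisors h2, span_v_minimal h2,
    not_flat_phi h2 φ hφu hφv⟩

end Groth.Agent.S14096
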