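import Groth.Statements.S14097
import Mathlib
-- import your own Groth.Agent.* helpers here

set_option autoImplicit false
universe u
open ArSing

namespace Groth.Agent.S14097

section aux
variable {A : Type u} [CommRing A]

lemma esymm_cons (a : A) (s : Multiset A) (j : ℕ) :
    (a ::ₘ s).esymm (j + 1) = s.esymm (j + 1) + a * s.esymm j := by
  unfold Multiset.esymm
  rw [Multiset.powersetCard_cons, Multiset.map_add, Multiset.sum_add, Multiset.map_map]
  congr 1
  have : (Multiset.prod ∘ Multiset.cons a) = fun t : Multiset A => a * t.prod := by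
    funext t; simp
  rw [this, Multiset.sum_map_mul_left]

lemma esymm_zero' (s : Multiset A) : s.esymm 0 = 1 := by
  simp [Multiset.esymm]

lemma esymm_eq_zero_of_lt (s : Multiset A) (j : ℕ) (hj : Multiset.card s < j) : s.esymm j = 0 := by
  unfold Multiset.esymm
  rw [Multiset.powersetCard_eq_empty j hj]
  simp

/-- `E h k j = e_j(h 0, …, h (k-1))`. -/
noncomputable def E (h : ℕ → A) (k j : ℕ) : A := ((Finset.range k).val.map h).esymm j

lemma E_zero (h : ℕ → A) (k : ℕ) : E h k 0 = 1 := esymm_zero' _

lemma E_succ (h : ℕ → A) (k j : ℕ) : E h (k + 1) (j + 1) = E h k (j + 1) + h k * E h k j := by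
  unfold E
  rw [Finset.range_val, Multiset.range_succ, Multiset.map_cons, esymm_cons, Finset.range_val]

lemma E_eq_zero (h : ℕ → A) (k j : ℕ) (hj : k < j) : E h k j = 0 := by
  apply esymm_eq_zero_of_lt
  simpa using hj

lemma E_self (h : ℕ → A) (k : ℕ) : E h k k = ∏ i ∈ Finset.range k, h i := by
  induction k with
  | zero => simp [E_zero]
  | succ k ih =>
    rw [E_succ, E_eq_zero h k (k + 1) (Nat.lt_succ_self k), ih, Finset.prod_range_succ]
    ring

lemma top_mul (τ : A) (h : ℕ → A) (k : ℕ) (hrel : ∀ i, i < k + 1 → h i ^ 2 + τ * h i = 0) :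
    h k * ∏ i ∈ Finset.range k, (h i + h (i + 1) + τ) = ∏ i ∈ Finset.range (k + 1), h i := by
  induction k with
  | zero => simp
  | succ k ih =>
    have ih' := ih (fun i hi => hrel i (by omega))
    have hr := hrel (k + 1) (by omega)
    rw [Finset.prod_range_succ, Finset.prod_range_succ _ (k + 1), ← ih']
    have : h (k + 1) * ((∏ i ∈ Finset.range k, (h i + h (i + 1) + τ)) * (h k + h (k + 1) + τ)) =
        (∏ i ∈ Finset.range k, (h i + h (i + 1) + τ)) * (h (k + 1) * h k) +
        (∏ i ∈ Finset.range k, (h i + h (i + 1) + τ)) * (h (k + 1) ^ 2 + τ * h (k + 1)) := by ring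
    rw [this, hr]
    ring

lemma main (τ : A) (h : ℕ → A) (k : ℕ) (hrel : ∀ i, i < k + 1 → h i ^ 2 + τ * h i = 0) :
    ∏ i ∈ Finset.range k, (h i + h (i + 1) + τ) =
      ∑ j ∈ Finset.range (k + 1), τ ^ (k - j) * E h (k + 1) j := by
  induction k with
  | zero => simp [E_zero]
  | succ k ih =>
    have ih' := ih (fun i hi => hrel i (by omega))
    have htop := top_mul τ h k (fun i hi => hrel i (by omega))
    set D := ∏ i ∈ Finset.range k, (h i + h (i + 1) + τ) with hD
    rw [Finset.prod_range_succ]
    -- expand RHS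
    rw [Finset.sum_range_succ']
    have h1 : ∀ j, τ ^ (k + 1 - (j + 1)) * E h (k + 1 + 1) (j + 1) =
        τ ^ (k - j) * E h (k + 1) (j + 1) + h (k + 1) * (τ ^ (k - j) * E h (k + 1) j) := by
      intro j
      rw [E_succ, Nat.add_sub_add_right]
      ring
    rw [Finset.sum_congr rfl (fun j _ => h1 j), Finset.sum_add_distrib, ← Finset.mul_sum, ← ih']
    rw [E_zero, Nat.sub_zero, mul_one]
    -- first sum plus τ^(k+1)
    have h2 : ∑ j ∈ Finset.range (k + 1), τ ^ (k - j) * E h (k + 1) (j + 1) + τ ^ (k + 1) =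
        τ * D + ∏ i ∈ Finset.range (k + 1), h i := by
      have e1 : ∑ j ∈ Finset.range (k + 1), τ ^ (k - j) * E h (k + 1) (j + 1) + τ ^ (k + 1) =
          ∑ j ∈ Finset.range (k + 1 + 1), τ ^ (k + 1 - j) * E h (k + 1) j := by
        rw [Finset.sum_range_succ' _ (k + 1)]
        rw [E_zero, Nat.sub_zero, mul_one]
        congr 1
        apply Finset.sum_congr rfl
        intro j _
        rw [Nat.add_sub_add_right]
      rw [e1, Finset.sum_range_succ, Nat.sub_self, pow_zero, one_mul, E_self, ih', Finset.mul_sum]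
      congr 1
      apply Finset.sum_congr rfl
      intro j hj
      rw [Finset.mem_range] at hj
      have : k + 1 - j = (k - j) + 1 := by omega
      rw [this, pow_succ]
      ring
    calc D * (h k + h (k + 1) + τ) = (τ * D + h k * D) + h (k + 1) * D := by ring
      _ = (τ * D + ∏ i ∈ Finset.range (k + 1), h i) + h (k + 1) * D := by rw [htop]
      _ = _ := by rw [← h2]; ring

end aux


/-- In any commutative ring, if h_0, …, h_(k-1) (k ≥ 2) and τ satisfy h_i^2 + τ h_i = 0, then ∏_(i ≤
k-2) (h_i + h_(i+1) + τ) = Σ_(j ≤ k-1) τ^(k-1-j) e_j(h), e_j the elementary symmetric functions.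
(The published statement is the resulting formula for the class of the small diagonal in the Chow
ring of (P^1)^k, where the h_i are the hyperplane classes of the factors and satisfy these
relations; only the ring identity is asserted here.) -/
theorem result (A : Type u) [CommRing A] (k : ℕ) (hk : 2 ≤ k) (τ : A)
    (h : ℕ → A) (hrel : ∀ i, i < k → h i ^ 2 + τ * h i = 0) :
    ∏ i ∈ Finset.range (k - 1), (h i + h (i + 1) + τ) =
      ∑ j ∈ Finset.range k, τ ^ (k - 1 - j) * (((Finset.range k).val.map h).esymm j) := by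
  obtain ⟨k', rfl⟩ : ∃ k', k = k' + 1 := ⟨k - 1, by omega⟩
  have := main τ h k' hrel
  simp only [Nat.add_sub_cancel]
  rw [this]
  rfl

end Groth.Agent.S14097
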