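import Groth.Statements.S14098
import Groth.Agent.Lib.Ferrand24m

set_option autoImplicit false
universe u
open CategoryTheory AlgebraicGeometry
open FlatMor

namespace Groth.Agent.S14098

open Groth.Agent.Lib.Ferrand24 Groth.Agent.Lib.RingFibreSq24 in
/-- Let S be a scheme, i : Y → X a closed immersion and h : Y → Y' a finite flat surjective morphism,
everything over S with X and Y' flat over S, and let the square (i, h, q : X → P, j : Y' → P) be a
pushout of schemes with q affine, P carrying the induced morphism to S. Then P is flat over S and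
the pushout commutes with base change: for T → S, with P_T, X_T, Y'_T, Y_T the fibre products and
i_T, h_T, q_T, j_T the induced morphisms, the square (i_T, h_T, q_T, j_T) is a pushout of schemes.
(The published statement assumes Y → Y' only finite flat and asserts that the pushout exists in the
category of schemes; its proof uses that Y → Y' is surjective and that X → P is affine, P being
built affine-locally as the spectrum of the fibre product of rings O(Y') ×_O(Y) O(X). This row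
assumes Y → Y' surjective, takes a pushout of schemes with X → P affine as given — then every fibre
of Y → Y' lies in an affine open of X and P is that affine-local pushout — and asserts neither
existence nor the properness and finite presentation of P for X, Y' proper and finitely presented,
which the published lemma also states.) -/
theorem result
    {S X Y Y' P T XT YT Y'T PT : Scheme.{u}}
    (i : Y ⟶ X) [IsClosedImmersion i] (h : Y ⟶ Y') [IsFinite h] [Flat h] [Surjective h]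
    (q : X ⟶ P) [IsAffineHom q] (j : Y' ⟶ P) (hP : IsPushout i h q j)
    (sP : P ⟶ S) [Flat (q ≫ sP)] [Flat (j ≫ sP)] (g : T ⟶ S)
    (pP : PT ⟶ P) (sPT : PT ⟶ T) (hPT : IsPullback pP sPT sP g)
    (pX : XT ⟶ X) (qT : XT ⟶ PT) (hXT : IsPullback pX qT q pP)
    (pY' : Y'T ⟶ Y') (jT : Y'T ⟶ PT) (hY'T : IsPullback pY' jT j pP)
    (pY : YT ⟶ Y) (iT : YT ⟶ XT) (hYT : IsPullback pY iT i pX)
    (hT : YT ⟶ Y'T) (hhT₁ : hT ≫ pY' = pY ≫ h) (hhT₂ : hT ≫ jT = iT ≫ qT) :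
    Flat sP ∧ IsPushout iT hT qT jT := by
  have hint : IsIntegralHom h := inferInstance
  have haff : ∀ y' : Y', ∃ U : X.Opens, IsAffineOpen U ∧ h ⁻¹' {y'} ⊆ i ⁻¹' (U : Set X) := by
    intro y'
    obtain ⟨_, ⟨W, hW, rfl⟩, hjW, -⟩ :=
      P.isBasis_affineOpens.exists_subset_of_mem_open (Set.mem_univ (j y')) isOpen_univ
    refine ⟨q ⁻¹ᵁ W, hW.preimage q, ?_⟩
    intro z hz
    have h1 : q (i z) = j (h z) := congr($(hP.w) z)
    show q (i z) ∈ W
    rw [h1, hz]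
    exact hjW
  obtain ⟨hX, hT'⟩ := exists_charts i h haff
  obtain ⟨-, hb, hjs, -, -⟩ := props_of_isPushout_of_charts hX hT' hP
  haveI : IsClosedImmersion j := hb
  haveI hcorner : Flat (i ≫ q ≫ sP) := by
    rw [reassoc_of% hP.w]
    infer_instance
  -- local data
  have key : ∀ x : P, ∃ (R₀ : S.Opens) (U : P.Opens), IsAffineOpen R₀ ∧ IsAffineOpen U ∧ x ∈ U ∧
      ∃ (hUR : U ≤ sP ⁻¹ᵁ R₀) (hh : i ⁻¹ᵁ q ⁻¹ᵁ U ≤ h ⁻¹ᵁ j ⁻¹ᵁ U),
        IsFibreSq (j.appLE U (j ⁻¹ᵁ U) le_rfl).hom (q.appLE U (q ⁻¹ᵁ U) le_rfl).hom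
          (h.appLE (j ⁻¹ᵁ U) (i ⁻¹ᵁ q ⁻¹ᵁ U) hh).hom (i.appLE (q ⁻¹ᵁ U) (i ⁻¹ᵁ q ⁻¹ᵁ U) le_rfl).hom ∧
        Function.Surjective (i.appLE (q ⁻¹ᵁ U) (i ⁻¹ᵁ q ⁻¹ᵁ U) le_rfl).hom ∧
        (sP.appLE R₀ U hUR ≫ j.appLE U (j ⁻¹ᵁ U) le_rfl).hom.Flat ∧
        (sP.appLE R₀ U hUR ≫ q.appLE U (q ⁻¹ᵁ U) le_rfl).hom.Flat ∧
        (sP.appLE R₀ U hUR ≫ q.appLE U (q ⁻¹ᵁ U) le_rfl ≫
          i.appLE (q ⁻¹ᵁ U) (i ⁻¹ᵁ q ⁻¹ᵁ U) le_rfl).hom.Flat := by
    intro x
    obtain ⟨_, ⟨R₀, hR₀, rfl⟩, hxR, -⟩ :=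
      S.isBasis_affineOpens.exists_subset_of_mem_open (Set.mem_univ (sP x)) isOpen_univ
    obtain ⟨_, ⟨U, hU, rfl⟩, hxU, hUR⟩ :=
      P.isBasis_affineOpens.exists_subset_of_mem_open (show x ∈ sP ⁻¹ᵁ R₀ from hxR) (sP ⁻¹ᵁ R₀).2
    have hh : i ⁻¹ᵁ q ⁻¹ᵁ U ≤ h ⁻¹ᵁ j ⁻¹ᵁ U := by
      rw [← Scheme.Hom.comp_preimage, ← Scheme.Hom.comp_preimage, hP.w]
    have sq := sections_isFibreSq hX hT' hP U hU (hU.preimage q) (hU.preimage j) hh
    have hp : Function.Surjective (i.app (q ⁻¹ᵁ U)).hom := i.app_surjective _ (hU.preimage q)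
    rw [Scheme.Hom.app_eq_appLE, Scheme.Hom.app_eq_appLE, Scheme.Hom.app_eq_appLE] at sq
    rw [Scheme.Hom.app_eq_appLE] at hp
    refine ⟨R₀, U, hR₀, hU, hxU, hUR, hh, sq, hp, ?_, ?_, ?_⟩
    · rw [Scheme.Hom.appLE_comp_appLE]
      exact HasRingHomProperty.appLE @Flat (j ≫ sP) inferInstance ⟨R₀, hR₀⟩
        ⟨j ⁻¹ᵁ U, hU.preimage j⟩ _
    · rw [Scheme.Hom.appLE_comp_appLE]
      exact HasRingHomProperty.appLE @Flat (q ≫ sP) inferInstance ⟨R₀, hR₀⟩
        ⟨q ⁻¹ᵁ U, hU.preimage q⟩ _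
    · rw [Scheme.Hom.appLE_comp_appLE, Scheme.Hom.appLE_comp_appLE]
      exact HasRingHomProperty.appLE @Flat (i ≫ q ≫ sP) hcorner ⟨R₀, hR₀⟩
        ⟨i ⁻¹ᵁ q ⁻¹ᵁ U, (hU.preimage q).preimage i⟩ _
  constructor
  · rw [HasRingHomProperty.iff_exists_appLE (P := @Flat)
      (RingHom.Flat.stableUnderComposition.stableUnderCompositionWithLocalizationAway
        RingHom.Flat.holdsForLocalizationAway).left]
    intro x
    obtain ⟨R₀, U, hR₀, hU, hxU, hUR, hh, sq, hp, h₂, h₁, h₀⟩ := key x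
    exact ⟨⟨R₀, hR₀⟩, ⟨U, hU⟩, hxU, hUR, flat_of_isFibreSq _ _ _ _ _ sq hp h₂ h₁ h₀⟩
  · refine isPushout_baseChange_base hX hT' hP sP g pP sPT hPT pX pY' pY qT jT iT hT hXT hY'T hYT
      hhT₁ hhT₂.symm ?_
    intro x
    obtain ⟨R₀, U, hR₀, hU, hxU, hUR, hh, sq, hp, h₂, h₁, h₀⟩ := key x
    refine ⟨R₀, U, hR₀, hU, hxU, hUR, ?_⟩
    intro V hV hVR
    exact tensorInjective_of_flat_corner _ _ _ _ _ _ sq hp h₀

end Groth.Agent.S14098
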