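import Groth.Statements.S14100
import Mathlib.Algebra.Homology.DerivedCategory.FullyFaithful
import Mathlib.CategoryTheory.Triangulated.TStructure.TruncLTGE

set_option autoImplicit false
universe w v u
open DCoh

namespace Groth.Agent.S14100

open CategoryTheory Category Limits Pretriangulated Triangulated DerivedCategory

section aux

variable {C : Type u} [Category.{v} C] [Abelian C] [HasDerivedCategory.{w} C]

/-- A map between objects concentrated in a single degree which is zero on homology is zero. -/
theorem eq_zero_of_single_degree {X Y : DerivedCategory C} (a : ℤ)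
    [X.IsGE a] [X.IsLE a] [Y.IsGE a] [Y.IsLE a]
    (f : X ⟶ Y) (hf : (homologyFunctor C a).map f = 0) : f = 0 := by
  obtain ⟨A, ⟨eX⟩⟩ := exists_iso_singleFunctor_obj_of_isGE_of_isLE X a
  obtain ⟨B, ⟨eY⟩⟩ := exists_iso_singleFunctor_obj_of_isGE_of_isLE Y a
  obtain ⟨ψ, hψ⟩ := (singleFunctor C a).map_surjective (eX.inv ≫ f ≫ eY.hom)
  have h1 : (homologyFunctor C a).map ((singleFunctor C a).map ψ) = 0 := by
    rw [hψ, Functor.map_comp, Functor.map_comp, hf, zero_comp, comp_zero]
  have h2 : ψ = 0 := by
    have eq₁ := NatIso.naturality_1 (singleFunctorCompHomologyFunctorIso C a) ψ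
    dsimp at eq₁
    rw [← eq₁, h1, zero_comp, comp_zero]
  rw [h2, Functor.map_zero] at hψ
  have h3 : f = eX.hom ≫ (eX.inv ≫ f ≫ eY.hom) ≫ eY.inv := by simp
  rw [h3, ← hψ, zero_comp, comp_zero]

/-- Truncation below preserves maps that are zero on homology. -/
theorem homology_truncLT_map_eq_zero (b : ℤ) {X Y : DerivedCategory C} (f : X ⟶ Y)
    (hf : ∀ q : ℤ, (homologyFunctor C q).map f = 0) (q : ℤ) :
    (homologyFunctor C q).map ((TStructure.t.truncLT b).map f) = 0 := by
  by_cases hq : q < b
  · let T := (TStructure.t.triangleLTGE b).obj Y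
    have hT : T ∈ distTriang _ := TStructure.t.triangleLTGE_distinguished b Y
    have hmono : Mono ((homologyFunctor C q).map ((TStructure.t.truncLTι b).app Y)) := by
      have hz : IsZero ((homologyFunctor C (q - 1)).obj T.obj₃) :=
        isZero_of_isGE T.obj₃ b (q - 1) (by omega)
      exact (HomologySequence.mono_homologyMap_mor₁_iff T hT (q - 1) q (by omega)).2
        (hz.eq_of_src _ _)
    have hnat : (TStructure.t.truncLT b).map f ≫ (TStructure.t.truncLTι b).app Y =
        (TStructure.t.truncLTι b).app X ≫ f := (TStructure.t.truncLTι b).naturality f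
    rw [← cancel_mono ((homologyFunctor C q).map ((TStructure.t.truncLTι b).app Y)), zero_comp,
      ← Functor.map_comp, hnat, Functor.map_comp, hf, comp_zero]
  · have hz : IsZero ((homologyFunctor C q).obj ((TStructure.t.truncLT b).obj X)) :=
      isZero_of_isLE ((TStructure.t.truncLT b).obj X) (b - 1) q (by omega)
    exact hz.eq_of_src _ _

/-- Truncation above: if `f` is zero on `H^b` then so is `τ≥b f`. -/
theorem homology_truncGE_map_eq_zero (b : ℤ) {X Y : DerivedCategory C} (f : X ⟶ Y)
    (hf : (homologyFunctor C b).map f = 0) :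
    (homologyFunctor C b).map ((TStructure.t.truncGE b).map f) = 0 := by
  let T := (TStructure.t.triangleLTGE b).obj X
  have hT : T ∈ distTriang _ := TStructure.t.triangleLTGE_distinguished b X
  have hepi : Epi ((homologyFunctor C b).map ((TStructure.t.truncGEπ b).app X)) := by
    have hz : IsZero ((homologyFunctor C (b + 1)).obj T.obj₁) :=
      isZero_of_isLE T.obj₁ (b - 1) (b + 1) (by omega)
    exact (HomologySequence.epi_homologyMap_mor₂_iff T hT b (b + 1) rfl).2 (hz.eq_of_tgt _ _)
  have hnat : (TStructure.t.truncGEπ b).app X ≫ (TStructure.t.truncGE b).map f =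
      f ≫ (TStructure.t.truncGEπ b).app Y := ((TStructure.t.truncGEπ b).naturality f).symm
  rw [← cancel_epi ((homologyFunctor C b).map ((TStructure.t.truncGEπ b).app X)), comp_zero,
    ← Functor.map_comp, hnat, Functor.map_comp, hf, zero_comp]

/-- The shift functor on `ℕ`. -/
def succFunctor : ℕ ⥤ ℕ := (show Monotone (fun i : ℕ => i + 1) from
  fun _ _ h => Nat.succ_le_succ h).functor

theorem main (n : ℕ) : ∀ (a : ℤ) (K : ℕ ⥤ DerivedCategory C)
    (_ : ∀ i : ℕ, i ≤ n + 1 → (K.obj i).IsGE a)
    (_ : ∀ i : ℕ, i ≤ n + 1 → (K.obj i).IsLE (a + n))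
    (_ : ∀ i : ℕ, i ≤ n → ∀ q : ℤ,
      (homologyFunctor C q).map (K.map (homOfLE (Nat.le_succ i))) = 0),
    K.map (homOfLE (Nat.zero_le (n + 1))) = 0 := by
  induction n with
  | zero =>
    intro a K hGE hLE hzero
    haveI := hGE 0 (by omega)
    haveI := hGE 1 (by omega)
    haveI : (K.obj 0).IsLE a := by simpa using hLE 0 (by omega)
    haveI : (K.obj 1).IsLE a := by simpa using hLE 1 (by omega)
    exact eq_zero_of_single_degree a _ (hzero 0 le_rfl a)
  | succ n ih =>
    intro a K hGE hLE hzero
    let b : ℤ := a + ((n + 1 : ℕ) : ℤ)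
    let K' : ℕ ⥤ DerivedCategory C := succFunctor ⋙ K ⋙ TStructure.t.truncLT b
    let f₀ : K.obj 0 ⟶ K.obj 1 := K.map (homOfLE (Nat.le_succ 0))
    -- the map on the top truncation is zero
    haveI : (K.obj 0).IsLE b := hLE 0 (by omega)
    haveI : (K.obj 1).IsLE b := hLE 1 (by omega)
    have htop : (TStructure.t.truncGE b).map f₀ = 0 :=
      eq_zero_of_single_degree b _ (homology_truncGE_map_eq_zero b f₀ (hzero 0 (by omega) b))
    let T := (TStructure.t.triangleLTGE b).obj (K.obj 1)
    have hT : T ∈ distTriang _ := TStructure.t.triangleLTGE_distinguished b (K.obj 1)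
    have hcomp : f₀ ≫ T.mor₂ = 0 := by
      have hnat : f₀ ≫ (TStructure.t.truncGEπ b).app (K.obj 1) =
          (TStructure.t.truncGEπ b).app (K.obj 0) ≫ (TStructure.t.truncGE b).map f₀ :=
        (TStructure.t.truncGEπ b).naturality f₀
      change f₀ ≫ (TStructure.t.truncGEπ b).app (K.obj 1) = 0
      rw [hnat, htop, comp_zero]
    obtain ⟨g, hg⟩ : ∃ g : K.obj 0 ⟶ (TStructure.t.truncLT b).obj (K.obj 1),
        f₀ = g ≫ (TStructure.t.truncLTι b).app (K.obj 1) :=
      Triangle.coyoneda_exact₂ T hT f₀ hcomp
    -- induction hypothesis for the truncated shifted chain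
    have hK' : K'.map (homOfLE (Nat.zero_le (n + 1))) = 0 := by
      apply ih a K'
      · intro i hi
        haveI := hGE (i + 1) (by omega)
        change TStructure.t.IsGE ((TStructure.t.truncLT b).obj (K.obj (i + 1))) a
        infer_instance
      · intro i hi
        change TStructure.t.IsLE ((TStructure.t.truncLT b).obj (K.obj (i + 1))) (a + n)
        exact TStructure.t.isLE_truncLT_obj (K.obj (i + 1)) b (a + n)
          (by simp only [b]; push_cast; omega)
      · intro i hi q
        have h1 : K'.map (homOfLE (Nat.le_succ i)) =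
            (TStructure.t.truncLT b).map (K.map (homOfLE (Nat.le_succ (i + 1)))) := rfl
        rw [h1]
        exact homology_truncLT_map_eq_zero b _ (hzero (i + 1) (by omega)) q
    have h2 : K.map (homOfLE (Nat.zero_le (n + 1 + 1))) =
        f₀ ≫ K.map (homOfLE (show 1 ≤ n + 1 + 1 by omega)) := by
      rw [← K.map_comp]
      rfl
    have h3 : (TStructure.t.truncLTι b).app (K.obj 1) ≫
        K.map (homOfLE (show 1 ≤ n + 1 + 1 by omega)) =
        K'.map (homOfLE (Nat.zero_le (n + 1))) ≫
          (TStructure.t.truncLTι b).app (K.obj (n + 1 + 1)) :=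
      ((TStructure.t.truncLTι b).naturality (K.map (homOfLE (show 1 ≤ n + 1 + 1 by omega)))).symm
    rw [h2, hg, assoc, h3, hK', zero_comp]
    exact comp_zero

end aux

open CategoryTheory in
/-- Let C be an abelian category, a an integer and n a natural number, and let K_0 → K_1 → ⋯ → K_{n+1}
be composable morphisms in the derived category of C such that each K_i has cohomology concentrated
in degrees a, …, a+n and each map K_i → K_{i+1} induces zero on every cohomology object. Then the
composite K_0 → K_{n+1} is zero. (The chain is given as a functor from the ordered set of natural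
numbers; only its values on 0, …, n+1 matter.) -/
theorem result
    (C : Type u) [Category.{v} C] [Abelian C] [HasDerivedCategory.{w} C]
    (a : ℤ) (n : ℕ) (K : ℕ ⥤ DerivedCategory C)
    (hGE : ∀ i : ℕ, i ≤ n + 1 → (K.obj i).IsGE a)
    (hLE : ∀ i : ℕ, i ≤ n + 1 → (K.obj i).IsLE (a + n))
    (hzero : ∀ i : ℕ, i ≤ n → ∀ q : ℤ,
      (DerivedCategory.homologyFunctor C q).map (K.map (homOfLE (Nat.le_succ i))) = 0) :
    K.map (homOfLE (Nat.zero_le (n + 1))) = 0 :=
  main n a K hGE hLE hzero

end Groth.Agent.S14100
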