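import Groth.Statements.S14101
import Mathlib
import Groth.Agent.Lib.H77GeomRedFibre
import Groth.Agent.Lib.MacLane5H44

set_option autoImplicit false
universe u
open CAlg

namespace Groth.Agent.S14101

open TensorProduct

attribute [local instance] ULift.algebra'

/-- Kernel computation: if `1 ⊗ x = 0` in `κ(q) ⊗ M` with `q` maximal then `x ∈ q • ⊤`. -/
theorem mem_smul_top_of_tmul_eq_zero {R : Type*} [CommRing R] (q : Ideal R) [q.IsMaximal]
    {M : Type*} [AddCommGroup M] [Module R M] (x : M)
    (h : (1 : q.ResidueField) ⊗ₜ[R] x = 0) : x ∈ q • (⊤ : Submodule R M) := by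
  let e : (R ⧸ q) ≃ₗ[R] q.ResidueField :=
    LinearEquiv.ofBijective ((Algebra.linearMap (R ⧸ q) q.ResidueField).restrictScalars R)
      q.bijective_algebraMap_quotient_residueField
  have h1 : (1 : R ⧸ q) ⊗ₜ[R] x = 0 := by
    apply (LinearEquiv.rTensor M e).injective
    rw [map_zero, LinearEquiv.rTensor_tmul]
    have : e 1 = 1 := by simp [e]
    rw [this]
    exact h
  have h2 := congrArg (TensorProduct.quotTensorEquivQuotSMul M q) h1
  rw [TensorProduct.quotTensorEquivQuotSMul_mk_one_tmul, map_zero] at h2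
  exact (Submodule.Quotient.mk_eq_zero _).mp h2


/-- Generic reducedness of fibres over a characteristic zero domain (closed points only). -/
theorem exists_ne_zero_forall_radical {R A : Type u} [CommRing R] [IsDomain R] [CharZero R]
    [CommRing A] [Algebra R A] [Algebra.FiniteType R A] [IsReduced A] :
    ∃ g : R, g ≠ 0 ∧ ∀ (q : Ideal R) [q.IsMaximal], g ∉ q →
      ∀ (x : A) (n : ℕ), x ^ n ∈ q • (⊤ : Submodule R A) →
        x ∈ q • (⊤ : Submodule R A) := by
  classical
  let K := FractionRing R
  haveI : IsReduced (K ⊗[R] A) := by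
    letI : Algebra A (K ⊗[R] A) := Algebra.TensorProduct.rightAlgebra
    haveI : IsLocalization (Algebra.algebraMapSubmonoid A (nonZeroDivisors R)) (K ⊗[R] A) :=
      IsLocalization.tensorRight K (nonZeroDivisors R)
    exact isReduced_localizationPreserves (Algebra.algebraMapSubmonoid A (nonZeroDivisors R))
      (K ⊗[R] A) inferInstance
  haveI : CharZero K := inferInstance
  have hgr : Algebra.IsGeometricallyReduced K (K ⊗[R] A) :=
    (Algebra.isGeometricallyReduced_field_iff K (K ⊗[R] A)).mpr
      (Groth.Agent.Lib.MacLane5H44.isReduced_tensor_of_perfect K (AlgebraicClosure K) (K ⊗[R] A))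
  obtain ⟨g, hg0, hg⟩ :=
    Groth.Agent.Lib.H77GeomRedFibre.exists_forall_isGeometricallyReduced_fiber (R := R) (A := A) hgr
  refine ⟨g, hg0, ?_⟩
  intro q hqmax hgq x n hx
  have hred : IsReduced (q.ResidueField ⊗[R] A) := by
    have h1 := hg ⟨q, hqmax.isPrime⟩ hgq
    exact Algebra.isReduced_of_isGeometricallyReduced q.ResidueField
  have hzero : (1 : q.ResidueField) ⊗ₜ[R] x = 0 := by
    apply IsNilpotent.eq_zero
    refine ⟨n, ?_⟩
    rw [Algebra.TensorProduct.tmul_pow, one_pow]
    refine Submodule.smul_induction_on hx ?_ ?_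
    · intro r hr a _
      rw [← TensorProduct.smul_tmul, Algebra.smul_def, mul_one,
        Ideal.algebraMap_residueField_eq_zero.mpr hr, TensorProduct.zero_tmul]
    · intro y z hy hz
      rw [TensorProduct.tmul_add, hy, hz, add_zero]
  exact mem_smul_top_of_tmul_eq_zero q x hzero

instance : IsDomain (ULift.{u} ℤ) :=
  (ULift.ringEquiv : ULift.{u} ℤ ≃+* ℤ).toMulEquiv.isDomain ℤ

instance : CharZero (ULift.{u} ℤ) := ⟨fun m n h => by
  have := congrArg ULift.down h
  exact_mod_cast this⟩


/-- Affine form — let A be a reduced commutative ring of finite type over ℤ. Then for all but finitely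
many prime numbers p the reduction A/pA is reduced. (The published statement is for a reduced scheme
of finite type over ℤ; such a scheme has a finite affine open cover, so the affine form carries the
same content.) -/
theorem result
    (A : Type u) [CommRing A] [Algebra.FiniteType ℤ A] [IsReduced A] :
    {p : ℕ | p.Prime ∧ ¬ IsReduced (A ⧸ Ideal.span {(p : A)})}.Finite := by
  classical
  haveI : IsScalarTower ℤ (ULift.{u} ℤ) A := IsScalarTower.of_algebraMap_eq (fun n => by
    rw [ULift.algebraMap_apply']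
    rfl)
  haveI : Algebra.FiniteType (ULift.{u} ℤ) A :=
    Algebra.FiniteType.of_restrictScalars_finiteType ℤ (ULift.{u} ℤ) A
  obtain ⟨g, hg0, hg⟩ := exists_ne_zero_forall_radical (R := ULift.{u} ℤ) (A := A)
  have hgd : g.down ≠ 0 := fun h => hg0 (ULift.ext _ _ h)
  apply Set.Finite.subset (s := {p : ℕ | p ≤ g.down.natAbs}) (Set.finite_le_nat _)
  rintro p ⟨hp, hnr⟩
  by_contra hle
  apply hnr
  haveI : Fact p.Prime := ⟨hp⟩
  have hmaxZ : (Ideal.span {(p : ℤ)}).IsMaximal := Int.ideal_span_isMaximal_of_prime p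
  let q : Ideal (ULift.{u} ℤ) :=
    Ideal.comap (ULift.ringEquiv : ULift.{u} ℤ ≃+* ℤ) (Ideal.span {(p : ℤ)})
  haveI hqmax : q.IsMaximal := Ideal.comap_isMaximal_of_equiv _
  have hmemq : ∀ r : ULift.{u} ℤ, r ∈ q ↔ (p : ℤ) ∣ r.down := by
    intro r
    change (ULift.ringEquiv : ULift.{u} ℤ ≃+* ℤ) r ∈ Ideal.span {(p : ℤ)} ↔ _
    rw [Ideal.mem_span_singleton]
    rfl
  have hgq : g ∉ q := by
    rw [hmemq]
    intro hdvd
    apply hle
    have := Int.natAbs_dvd_natAbs.mpr hdvd
    rw [Int.natAbs_natCast] at this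
    exact Nat.le_of_dvd (Int.natAbs_pos.mpr hgd) this
  have hsub : ∀ x : A, x ∈ q • (⊤ : Submodule (ULift.{u} ℤ) A) → x ∈ Ideal.span {(p : A)} := by
    intro x hx
    refine Submodule.smul_induction_on hx ?_ ?_
    · intro r hr a _
      obtain ⟨k, hk⟩ := (hmemq r).mp hr
      rw [Algebra.smul_def, ULift.algebraMap_apply', hk]
      rw [Ideal.mem_span_singleton]
      refine ⟨(k : A) * a, ?_⟩
      rw [eq_intCast, Int.cast_mul, Int.cast_natCast]
      ring
    · intro y z hy hz
      exact Ideal.add_mem _ hy hz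
  rw [← Ideal.isRadical_iff_quotient_reduced]
  rintro x ⟨n, hx⟩
  apply hsub x
  apply hg q hgq x n
  obtain ⟨a, ha⟩ := Ideal.mem_span_singleton'.mp hx
  have hpa : a * (p : A) = ((p : ℕ) : ULift.{u} ℤ) • a := by
    rw [Algebra.smul_def, ULift.algebraMap_apply']
    simp [mul_comm]
  rw [← ha, hpa]
  apply Submodule.smul_mem_smul _ Submodule.mem_top
  rw [hmemq]
  simp

end Groth.Agent.S14101
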