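import Groth.Statements.S4641
import Groth.Agent.Lib.MeroPullback
import Mathlib.RingTheory.Ideal.AssociatedPrime.Finiteness
import Mathlib.RingTheory.Flat.TorsionFree
-- import your own Groth.Agent.* helpers here

set_option autoImplicit false
open CategoryTheory AlgebraicGeometry
universe u
open AssSch

namespace Groth.Agent.S4641

open Groth.Agent.Lib.MeroPullback Groth.Agent.Lib.StructureModuleStalk

/-- If a module over a local ring `R` is flat over a Noetherian local ring `B` (through a local
homomorphism `B → R`) and has the maximal ideal of `R` as an associated prime, then the maximal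
ideal of `B` is an associated prime of `B`. -/
theorem algebra_key {B R : Type u} [CommRing B] [IsNoetherianRing B] [IsLocalRing B] [CommRing R]
    [IsLocalRing R] (φ : B →+* R) [IsLocalHom φ] (M : Type u) [AddCommGroup M] [Module R M]
    (hflat : letI := Module.compHom M φ; Module.Flat B M)
    (hass : IsAssociatedPrime (IsLocalRing.maximalIdeal R) M) :
    IsAssociatedPrime (IsLocalRing.maximalIdeal B) B := by
  letI := Module.compHom M φ
  by_contra hnot
  -- prime avoidance: a nonzerodivisor in the maximal ideal
  have hex : ∃ t ∈ IsLocalRing.maximalIdeal B, t ∈ nonZeroDivisors B := by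
    by_contra hno
    push Not at hno
    have fin := associatedPrimes.finite B B
    have hsub : ((IsLocalRing.maximalIdeal B : Ideal B) : Set B) ⊆
        ⋃ P ∈ associatedPrimes B B, (id P : Ideal B) := by
      simp_rw [id, biUnion_associatedPrimes_eq_compl_nonZeroDivisors]
      exact fun t ht h => hno t ht h
    obtain ⟨P, hP, hle⟩ := ((IsLocalRing.maximalIdeal B).subset_union_prime_finite fin (f := id)
      0 0 fun _ h _ _ ↦ h.isPrime).1 hsub
    have hPeq : IsLocalRing.maximalIdeal B = P :=
      (IsLocalRing.maximalIdeal.isMaximal B).eq_of_le hP.isPrime.ne_top hle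
    exact hnot (hPeq ▸ hP)
  obtain ⟨t, htm, htreg⟩ := hex
  have hreg : IsSMulRegular M t := Module.Flat.isSMulRegular_of_nonZeroDivisors htreg
  obtain ⟨ξ, hξ⟩ := hass.2
  have hφt : φ t ∈ IsLocalRing.maximalIdeal R := by
    rw [IsLocalRing.mem_maximalIdeal, mem_nonunits_iff] at htm ⊢
    exact fun h => htm (isUnit_of_map_unit φ t h)
  rw [hξ] at hφt
  obtain ⟨n, hn⟩ := hφt
  rw [Submodule.mem_colon_singleton, Submodule.mem_bot] at hn
  have hξ0 : ξ = 0 := by
    apply (hreg.pow n)
    change (t ^ n) • ξ = (t ^ n) • (0 : M)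
    rw [smul_zero]
    change φ (t ^ n) • ξ = 0
    rw [map_pow]
    exact hn
  subst hξ0
  have h1 : (1 : R) ∈ IsLocalRing.maximalIdeal R := by
    rw [hξ]
    apply Ideal.le_radical
    rw [Submodule.mem_colon_singleton, Submodule.mem_bot, smul_zero]
  exact (Ideal.ne_top_iff_one _).mp (IsLocalRing.maximalIdeal.isMaximal _).ne_top h1

/-- Every point has a generization without proper generizations. -/
theorem exists_maximal_generization {Y : Scheme.{u}} (y : Y) :
    ∃ y'' : Y, y'' ⤳ y ∧ ∀ z : Y, z ⤳ y'' → z = y'' := by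
  obtain ⟨q, hq, -⟩ := Ideal.exists_minimalPrimes_le
    (bot_le : (⊥ : Ideal (Y.presheaf.stalk y)) ≤ IsLocalRing.maximalIdeal (Y.presheaf.stalk y))
  haveI : q.IsPrime := hq.1.1
  set Q : PrimeSpectrum (Y.presheaf.stalk y) := ⟨q, inferInstance⟩ with hQ
  have hy'' : Y.fromSpecStalk y Q ⤳ y := by
    have : Y.fromSpecStalk y Q ∈ Set.range (Y.fromSpecStalk y) := ⟨Q, rfl⟩
    rw [Scheme.range_fromSpecStalk] at this
    exact this
  refine ⟨Y.fromSpecStalk y Q, hy'', fun z hz => ?_⟩
  have hzy : z ⤳ y := hz.trans hy''
  have : z ∈ Set.range (Y.fromSpecStalk y) := by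
    rw [Scheme.range_fromSpecStalk]
    exact hzy
  obtain ⟨P, rfl⟩ := this
  have hPQ : @Specializes (PrimeSpectrum (Y.presheaf.stalk y)) _ P Q :=
    ((Y.fromSpecStalk y).isEmbedding.isInducing.specializes_iff).mp hz
  rw [← PrimeSpectrum.le_iff_specializes] at hPQ
  have hQP : Q.asIdeal ≤ PrimeSpectrum.asIdeal P := hq.2 ⟨PrimeSpectrum.isPrime P, bot_le⟩ hPQ
  congr 1
  exact PrimeSpectrum.ext (le_antisymm hPQ hQP)

/-- A point without proper generizations is an associated point of the structure sheaf. -/
theorem isAssociatedPrime_of_maximal {Y : Scheme.{u}} (y : Y) (hy : ∀ z : Y, z ⤳ y → z = y) :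
    IsAssociatedPrime (IsLocalRing.maximalIdeal (Y.presheaf.stalk y)) (Y.presheaf.stalk y) := by
  refine ⟨inferInstance, 1, ?_⟩
  have h1 : Submodule.colon (⊥ : Submodule (Y.presheaf.stalk y) (Y.presheaf.stalk y)) {1} = ⊥ := by
    ext a
    rw [Submodule.mem_colon_singleton, Submodule.mem_bot, smul_eq_mul, mul_one]
    rfl
  rw [h1]
  change _ = nilradical _
  rw [nilradical_eq_sInf]
  apply le_antisymm
  · apply le_sInf
    intro J hJ
    have := prime_eq_closedPoint_of_maximal y hy ⟨J, hJ⟩
    have hJ' : J = IsLocalRing.maximalIdeal _ := congrArg PrimeSpectrum.asIdeal this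
    rw [hJ']
  · exact sInf_le (show (IsLocalRing.maximalIdeal (Y.presheaf.stalk y)).IsPrime from inferInstance)

/-- Let f : X → Y be a morphism of locally Noetherian schemes such that Y has no embedded associated
points, and let F be a quasi-coherent O_X-module which is flat over Y. Then for every associated
point x of F, f(x) is a maximal point of Y (every point of Y specialising to f(x) equals f(x)). (The
published statement assumes only Y locally Noetherian; X is taken locally Noetherian here so that
associated points are those whose maximal ideal is an annihilator.) -/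
theorem result {X Y : Scheme.{u}} (f : X ⟶ Y) [IsLocallyNoetherian X]
    [IsLocallyNoetherian Y] (hY : AssSch.NoEmbedded (Coh.structureModule Y)) (F : X.Modules) (hF : Coh.IsQCoh F)
    (hfl : FlatMod.IsFlatOver f F) (x : X) (hx : x ∈ AssSch.Ass F) (y : Y) (hy : y ⤳ f x) : y = f x := by
  have h1 : IsAssociatedPrime (IsLocalRing.maximalIdeal (Y.presheaf.stalk (f x)))
      (Y.presheaf.stalk (f x)) :=
    algebra_key (f.stalkMap x).hom (F.presheaf.stalk x) (hfl x) hx
  have hfx : f x ∈ AssSch.Ass (Coh.structureModule Y) :=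
    (isAssPoint_structureModule_iff (f x)).mpr h1
  obtain ⟨y'', hy''y, hmax⟩ := exists_maximal_generization y
  have hy''ass : y'' ∈ AssSch.Ass (Coh.structureModule Y) :=
    (isAssPoint_structureModule_iff y'').mpr (isAssociatedPrime_of_maximal y'' hmax)
  have heq : f x = y'' := hY (f x) hfx y'' hy''ass (hy''y.trans hy)
  have hfy : f x ⤳ y := heq ▸ hy''y
  exact (hy.antisymm hfy).eq

end Groth.Agent.S4641
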