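import Groth.Statements.S14106
import Groth.Agent.S14103
import Groth.Agent.S4641
import Groth.Agent.Lib.SmoothDim91
import Groth.Agent.Lib.FibreDimAtFormula
import Groth.Agent.Lib.FibreStalkCM33
import Groth.Agent.Lib.H30FlatDim
import Groth.Agent.Lib.H30IrrFib
import Groth.Agent.Lib.AlgSpGenericPt
import Groth.Agent.Lib.EquidimOpen

set_option autoImplicit false
universe u
open CategoryTheory CategoryTheory.Limits AlgebraicGeometry Opposite TopologicalSpace
open CInt

namespace Groth.Agent.S14106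

/-- Let S be a locally Noetherian scheme, f : X → S a smooth morphism and i : Y → X a closed immersion
whose composite with f is smooth. Then the codimension of the image of i relative to f (the infimum
over its points y of the Krull dimension of the local ring at y of the fibre of f through y) equals
its codimension in X (the infimum over the same points of the Krull dimension of O_{X,y}). -/
theorem result {X Y S : Scheme.{u}} [IsLocallyNoetherian X]
    [IsLocallyNoetherian S] (f : X ⟶ S) [Smooth f] (i : Y ⟶ X) [IsClosedImmersion i] [Smooth (i ≫ f)] :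
    (⨅ y : Set.range i.base, ringKrullDim ↑(CInt.fiberStalk f y.1)) =
      ⨅ y : Set.range i.base, ringKrullDim ↑(X.presheaf.stalk y.1) := by
  open Groth.Agent.Lib.H30DimRel in
  apply le_antisymm
  · exact Groth.Agent.S14103.result f (Set.range i.base) i.isClosedEmbedding.isClosed_range
  · refine le_iInf fun y => ?_
    obtain ⟨y', hy'⟩ := y.2
    obtain ⟨y₁, hy₁, hy₁max⟩ := Groth.Agent.S4641.exists_maximal_generization y'
    refine (iInf_le _ ⟨i.base y₁, ⟨y₁, rfl⟩⟩).trans ?_
    change ringKrullDim ↑(X.presheaf.stalk (i.base y₁)) ≤ ringKrullDim ↑(CInt.fiberStalk f y.1)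
    rw [← hy']
    haveI : LocallyOfFiniteType f := inferInstance
    haveI : LocallyOfFiniteType (i ≫ f) := inferInstance
    have hsp : i.base y₁ ⤳ i.base y' := hy₁.map i.continuous
    -- the image of `y₁` in `S` is a maximal point
    have hS0 : ringKrullDim (S.presheaf.stalk (f.base (i.base y₁))) = 0 := by
      rw [Groth.Agent.Lib.AlgSpGenericPt.ringKrullDim_stalk_eq_zero_iff]
      intro s hs
      obtain ⟨y₂, hy₂, hy₂s⟩ := Flat.generalizingMap (i ≫ f)
        (show s ⤳ (i ≫ f).base y₁ from hs)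
      rw [hy₁max y₂ hy₂] at hy₂s
      exact hy₂s.symm
    have h1 := Groth.Agent.Lib.FibreStalkCM33.ringKrullDim_stalk_eq_add f (i.base y₁)
      (Flat.stalkMap f (i.base y₁))
    rw [hS0, zero_add] at h1
    rw [h1]
    -- local constancy of the relative dimensions
    obtain ⟨W, n, hxW, hW⟩ := Groth.Agent.Lib.SmoothDim91.exists_opens_fibreDimAt_const f (i.base y')
    obtain ⟨W', m, hyW', hW'⟩ :=
      Groth.Agent.Lib.SmoothDim91.exists_opens_fibreDimAt_const (i ≫ f) y'
    have hn1 : FlatMor.fibreDimAt f (i.base y₁) = n := hW _ (hsp.mem_open W.2 hxW)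
    have hn0 : FlatMor.fibreDimAt f (i.base y') = n := hW _ hxW
    have hm1 : FlatMor.fibreDimAt (i ≫ f) y₁ = m := hW' _ (hy₁.mem_open W'.2 hyW')
    have hm0 : FlatMor.fibreDimAt (i ≫ f) y' = m := hW' _ hyW'
    -- the formulas `dim_x X_s = dim O_{X_s,x} + trdeg`
    have e1 := Groth.Agent.Lib.FibreDimAtFormula.fibreDimAt_eq_add f (i.base y₁) (rt f (i.base y₁))
      (trdeg_eq_rt f (i.base y₁))
    have e0 := Groth.Agent.Lib.FibreDimAtFormula.fibreDimAt_eq_add f (i.base y') (rt f (i.base y'))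
      (trdeg_eq_rt f (i.base y'))
    have g1 := Groth.Agent.Lib.FibreDimAtFormula.fibreDimAt_eq_add (i ≫ f) y₁ (rt (i ≫ f) y₁)
      (trdeg_eq_rt (i ≫ f) y₁)
    have g0 := Groth.Agent.Lib.FibreDimAtFormula.fibreDimAt_eq_add (i ≫ f) y' (rt (i ≫ f) y')
      (trdeg_eq_rt (i ≫ f) y')
    have hz1 : ringKrullDim (((i ≫ f).fiber ((i ≫ f).base y₁)).presheaf.stalk ((i ≫ f).asFiber y₁)) = 0 :=
      Groth.Agent.Lib.H30FlatDim.stalk_fiber_dim_zero (i ≫ f) y₁ (fun y₂ _ h => hy₁max y₂ h)
    rw [hz1, zero_add, hm1] at g1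
    rw [Groth.Agent.Lib.H30IrrFib.rt_comp_of_isPreimmersion f i y₁] at g1
    rw [Groth.Agent.Lib.H30IrrFib.rt_comp_of_isPreimmersion f i y', hm0] at g0
    rw [hn1] at e1
    rw [hn0] at e0
    have hm_eq : m = rt f (i.base y₁) := by exact_mod_cast g1
    obtain ⟨D₁, hD₁, hD₁n⟩ := Groth.Agent.Lib.EquidimOpen.exists_nat_of_add_eq _ _ _ e1.symm
    obtain ⟨D₀, hD₀, hD₀n⟩ := Groth.Agent.Lib.EquidimOpen.exists_nat_of_add_eq _ _ _ e0.symm
    obtain ⟨E₀, hE₀, hE₀m⟩ := Groth.Agent.Lib.EquidimOpen.exists_nat_of_add_eq _ _ _ g0.symm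
    change ringKrullDim ((f.fiber (f.base (i.base y₁))).presheaf.stalk (f.asFiber (i.base y₁))) ≤
      ringKrullDim ((f.fiber (f.base (i.base y'))).presheaf.stalk (f.asFiber (i.base y')))
    rw [hD₁, hD₀]
    have : D₁ ≤ D₀ := by omega
    exact_mod_cast this

end Groth.Agent.S14106
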