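import Groth.Statements.S14109
import Groth.Agent.Lib.FibreStalk33
import Groth.Agent.Lib.CMComp33
import Groth.Agent.Lib.DimFibre33
import Mathlib.AlgebraicGeometry.Properties

set_option autoImplicit false
universe u
open CategoryTheory CategoryTheory.Limits AlgebraicGeometry Opposite TopologicalSpace
open CInt

namespace Groth.Agent.S14109

section ring
open IsLocalRing Groth.Agent.Lib Groth.Agent.Lib.CMComp33

variable {A B C : Type u} [CommRing A] [CommRing B] [CommRing C]
  [IsLocalRing A] [IsLocalRing B] [IsLocalRing C]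
  (φ : A →+* B) (χ : B →+* C) [IsLocalHom φ] [IsLocalHom χ]

/-- `dim C/𝔪_A C ≤ dim B/𝔪_A B + dim C/𝔪_B C` for local homomorphisms `A → B → C`. -/
theorem ringKrullDim_comp_le [IsNoetherianRing B] [IsNoetherianRing C] :
    ringKrullDim (C ⧸ Ideal.map χ (Ideal.map φ (maximalIdeal A))) ≤
      ringKrullDim (B ⧸ Ideal.map φ (maximalIdeal A)) +
        ringKrullDim (C ⧸ Ideal.map χ (maximalIdeal B)) := by
  have hI : Ideal.map φ (maximalIdeal A) ≤ maximalIdeal B := map_le_maximalIdeal φ
  have hI' : Ideal.map φ (maximalIdeal A) ≠ ⊤ := (map_maximalIdeal_lt_top φ).ne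
  have hJ' : Ideal.map χ (Ideal.map φ (maximalIdeal A)) ≠ ⊤ := fun h =>
    map_maximalIdeal_ne_top χ (top_le_iff.mp (h ▸ map_map_le φ χ))
  have hlB : IsLocalRing (B ⧸ Ideal.map φ (maximalIdeal A)) := isLocalRing_quotient _ hI'
  have hlC : IsLocalRing (C ⧸ Ideal.map χ (Ideal.map φ (maximalIdeal A))) :=
    isLocalRing_quotient _ hJ'
  have hloc := isLocalHom_quotMap χ (Ideal.map φ (maximalIdeal A))
  have key := DimFibre33.ringKrullDim_le_add' (quotMap χ (Ideal.map φ (maximalIdeal A)))
  rwa [ringKrullDim_eq_of_ringEquiv (fibreEquiv χ _ hI)] at key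

end ring

/-- Every nonempty scheme has a maximal point for the specialization order (a generic point of an
irreducible component). -/
lemma exists_isMax (F : Scheme.{u}) [Nonempty F] : ∃ z : F, IsMax z := by
  obtain ⟨z0⟩ := ‹Nonempty F›
  obtain ⟨z, hz⟩ := QuasiSober.sober (isIrreducible_irreducibleComponent (x := z0))
    isClosed_irreducibleComponent
  refine ⟨z, fun w hzw => ?_⟩
  have h1 : w ⤳ z := hzw
  show z ⤳ w
  have h2 : closure {z} ⊆ closure {w} := specializes_iff_closure_subset.mp h1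
  have h3 : closure {z} = irreducibleComponent z0 := hz
  have h4 : IsIrreducible (closure ({w} : Set F)) := isIrreducible_singleton.closure
  have h5 : irreducibleComponent z0 ∈ irreducibleComponents F :=
    irreducibleComponent_mem_irreducibleComponents z0
  have h6 : closure {w} ⊆ irreducibleComponent z0 := h5.le_of_ge h4 (h3 ▸ h2)
  rw [specializes_iff_mem_closure, h3]
  exact h6 (subset_closure rfl)

/-- Transport of the fibre stalk along an equality of base points. -/
lemma ringKrullDim_fiberStalk_eq {X' X : Scheme.{u}} (g : X' ⟶ X) (s : X) (z : g.fiber s)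
    (hs : g (g.fiberι s z) = s) :
    ringKrullDim ↑(CInt.fiberStalk g (g.fiberι s z)) =
      ringKrullDim ↑((g.fiber s).presheaf.stalk z) := by
  generalize hy : g.fiberι s z = y' at hs
  subst hs
  have : g.asFiber y' = z :=
    (g.fiberι (g y')).isEmbedding.injective (by rw [g.fiberι_asFiber, hy])
  rw [← this]

/-- Over every point of the target of a surjective morphism there is a point whose fibre local ring
has dimension zero. -/
lemma exists_fiberStalk_dim_zero {X' X : Scheme.{u}} (g : X' ⟶ X) [Surjective g] (y : X) :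
    ∃ y' : X', g y' = y ∧ ringKrullDim ↑(CInt.fiberStalk g y') = 0 := by
  obtain ⟨x0, rfl⟩ := g.surjective y
  haveI : Nonempty (g.fiber (g x0)) := ⟨g.asFiber x0⟩
  obtain ⟨z, hz⟩ := exists_isMax (g.fiber (g x0))
  have hs : g (g.fiberι (g x0) z) = g x0 := by
    have : g.fiberι (g x0) z ∈ g ⁻¹' {g x0} := by
      rw [← g.range_fiberι]; exact Set.mem_range_self z
    exact this
  refine ⟨g.fiberι (g x0) z, hs, ?_⟩
  rw [ringKrullDim_fiberStalk_eq g (g x0) z hs, ringKrullDim_stalk_eq_coheight,
    (Order.coheight_eq_zero).mpr hz]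
  rfl

theorem result {X X' S : Scheme.{u}} [IsLocallyNoetherian X]
    [IsLocallyNoetherian X'] [IsLocallyNoetherian S] (f : X ⟶ S) (g : X' ⟶ X) [Surjective g]
    (Y : Set ↥X) (hY : IsClosed Y) :
    (⨅ y' : (fun x' => g x') ⁻¹' Y, ringKrullDim ↑(CInt.fiberStalk (g ≫ f) y'.1)) ≤
      ⨅ y : Y, ringKrullDim ↑(CInt.fiberStalk f y.1) := by
  refine le_iInf fun y => ?_
  obtain ⟨y0, hy0⟩ := y
  obtain ⟨y', rfl, hdim⟩ := exists_fiberStalk_dim_zero g y0
  refine (iInf_le _ (⟨y', hy0⟩ : (fun x' => g x') ⁻¹' Y)).trans ?_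
  show ringKrullDim ↑(CInt.fiberStalk (g ≫ f) y') ≤ ringKrullDim ↑(CInt.fiberStalk f (g y'))
  have hJ : Ideal.map ((g ≫ f).stalkMap y').hom
      (IsLocalRing.maximalIdeal (S.presheaf.stalk ((g ≫ f) y'))) =
      Ideal.map (g.stalkMap y').hom (Ideal.map (f.stalkMap (g y')).hom
        (IsLocalRing.maximalIdeal (S.presheaf.stalk (f (g y'))))) := by
    rw [Ideal.map_map, ← CommRingCat.hom_comp, ← Scheme.Hom.stalkMap_comp]
    rfl
  rw [← ringKrullDim_eq_of_ringEquiv (Groth.Agent.Lib.FibreStalk33.fibreStalkEquiv f (g y')),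
    ← ringKrullDim_eq_of_ringEquiv (Groth.Agent.Lib.FibreStalk33.fibreStalkEquiv (g ≫ f) y'),
    hJ]
  rw [← ringKrullDim_eq_of_ringEquiv (Groth.Agent.Lib.FibreStalk33.fibreStalkEquiv g y')] at hdim
  have key := ringKrullDim_comp_le (f.stalkMap (g y')).hom (g.stalkMap y').hom
  rw [hdim, add_zero] at key
  exact key

end Groth.Agent.S14109
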