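import Groth.Statements.S1411
import Groth.Agent.S1394
import Groth.Agent.Lib.IsolatedTrdeg46
import Groth.Agent.Lib.H73FibDim
import Groth.Agent.Lib.ResTrdeg91
import Groth.Agent.Lib.AlgSpQFAt

set_option autoImplicit false
universe u
open FlatMor

namespace Groth.Agent.S1411

section helpers

open AlgebraicGeometry CategoryTheory Limits IsLocalRing

/-- Points of `Spec 𝒪_{X,x}` whose image under `f` is `f x` are exactly the primes over the maximal ideal. -/
lemma comap_eq_maximalIdeal_iff {X S : Scheme.{u}} (f : X ⟶ S) (x : X)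
    (p : PrimeSpectrum (X.presheaf.stalk x)) :
    f (X.fromSpecStalk x p) = f x ↔
      p.asIdeal.comap (f.stalkMap x).hom = maximalIdeal (S.presheaf.stalk (f x)) := by
  have h1 : f (X.fromSpecStalk x p) =
      S.fromSpecStalk (f x) (Spec.map (f.stalkMap x) p) := by
    rw [← Scheme.Hom.comp_apply, ← Scheme.SpecMap_stalkMap_fromSpecStalk, Scheme.Hom.comp_apply]
  rw [h1]
  have h2 : f x = S.fromSpecStalk (f x) (closedPoint (S.presheaf.stalk (f x))) :=
    Scheme.fromSpecStalk_closedPoint.symm
  constructor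
  · intro h
    have h3 : Spec.map (f.stalkMap x) p = closedPoint (S.presheaf.stalk (f x)) :=
      (S.fromSpecStalk (f x)).isEmbedding.injective (h.trans h2)
    exact congrArg PrimeSpectrum.asIdeal h3
  · intro h
    have : Spec.map (f.stalkMap x) p = closedPoint (S.presheaf.stalk (f x)) :=
      PrimeSpectrum.ext h
    rw [this, Scheme.fromSpecStalk_closedPoint]

/-- If `B ⧸ q` is quasi-finite over `A`, a prime `p ⊇ q` of the local ring `B` lying over the maximal
ideal of `A` is the maximal ideal. -/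
lemma eq_maximalIdeal_of_quasiFinite {A B : Type u} [CommRing A] [CommRing B] [Algebra A B]
    [IsLocalRing A] [IsLocalRing B] [IsLocalHom (algebraMap A B)] (q p : Ideal B) [q.IsPrime]
    [p.IsPrime] (hqp : q ≤ p) [Algebra.QuasiFinite A (B ⧸ q)]
    (hpA : p.comap (algebraMap A B) = maximalIdeal A) : p = maximalIdeal B := by
  have hqm : q ≤ maximalIdeal B := le_maximalIdeal (Ideal.IsPrime.ne_top ‹_›)
  have hP : (p.map (Ideal.Quotient.mk q)).IsPrime :=
    Ideal.map_isPrime_of_surjective Ideal.Quotient.mk_surjective (by rwa [Ideal.mk_ker])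
  have hM : ((maximalIdeal B).map (Ideal.Quotient.mk q)).IsPrime :=
    Ideal.map_isPrime_of_surjective Ideal.Quotient.mk_surjective (by rwa [Ideal.mk_ker])
  have hle : p.map (Ideal.Quotient.mk q) ≤ (maximalIdeal B).map (Ideal.Quotient.mk q) :=
    Ideal.map_mono (le_maximalIdeal (Ideal.IsPrime.ne_top ‹_›))
  have hmA : (maximalIdeal B).comap (algebraMap A B) = maximalIdeal A :=
    ((local_hom_TFAE (algebraMap A B)).out 0 4 rfl rfl).mp inferInstance
  have hunder : (p.map (Ideal.Quotient.mk q)).under A =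
      ((maximalIdeal B).map (Ideal.Quotient.mk q)).under A := by
    ext a
    simp only [Ideal.under, Ideal.mem_comap]
    rw [IsScalarTower.algebraMap_apply A B (B ⧸ q), Ideal.Quotient.algebraMap_eq,
      Ideal.mem_quotient_iff_mem hqp, Ideal.mem_quotient_iff_mem hqm, ← Ideal.mem_comap,
      ← Ideal.mem_comap, hpA, hmA]
  have heq := Algebra.QuasiFinite.eq_of_le_of_under_eq (R := A) _ _ hle hunder
  ext b
  rw [← Ideal.mem_quotient_iff_mem hqp, ← Ideal.mem_quotient_iff_mem hqm, heq]

end helpers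

open AlgebraicGeometry CategoryTheory Limits in
/-- Let f : X → S be locally of finite type with S locally Noetherian, x a point closed in its fibre,
and U an open of X containing a point x' specializing to x with f x' ≠ f x. Then there is a closed
subscheme Z of X passing through x such that Z → S is quasi-finite at x and Z contains a point z ∈ U
with z ⤳ x and f z ≠ f x. -/
theorem result {X S : Scheme.{u}} (f : X ⟶ S) [LocallyOfFiniteType f] [IsLocallyNoetherian S] (x : X)
    (hcl : IsClosed (Subtype.val ⁻¹' {x} : Set ↑(f ⁻¹' {f x}))) (U : X.Opens) (hx' : ∃ x' : X, x' ∈ U ∧ x' ⤳ x ∧ f x' ≠ f x) :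
    ∃ (I : X.IdealSheafData) (z₀ x₀ : ↑I.subscheme), I.subschemeι x₀ = x ∧ (I.subschemeι ≫ f).QuasiFiniteAt x₀ ∧
      I.subschemeι z₀ ∈ U ∧ I.subschemeι z₀ ⤳ x ∧ f (I.subschemeι z₀) ≠ f x := by
  classical
  -- algebra set-up on the stalks
  letI : Algebra (S.presheaf.stalk (f x)) (X.presheaf.stalk x) := (f.stalkMap x).hom.toAlgebra
  have hloc : IsLocalHom (algebraMap (S.presheaf.stalk (f x)) (X.presheaf.stalk x)) :=
    inferInstanceAs (IsLocalHom (f.stalkMap x).hom)
  have hess : Algebra.EssFiniteType (S.presheaf.stalk (f x)) (X.presheaf.stalk x) :=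
    LocallyOfFiniteType.stalkMap f x
  have hc : IsClosed ({⟨x, rfl⟩} : Set (f ⁻¹' {f x})) := by
    convert hcl using 1
    ext ⟨w, hw⟩
    simp [Subtype.ext_iff]
  have hfinite : (f.residueFieldMap x).hom.Finite :=
    Groth.Agent.Lib.H73FibDim.finite_residueFieldMap_of_isClosed_fibre (f := f) (f x) ⟨x, rfl⟩ hc
  have hkey : algebraMap (IsLocalRing.ResidueField (S.presheaf.stalk (f x)))
      (IsLocalRing.ResidueField (X.presheaf.stalk x)) = (f.residueFieldMap x).hom := by
    apply Ideal.Quotient.ringHom_ext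
    ext a
    rfl
  have hfin : Module.Finite (IsLocalRing.ResidueField (S.presheaf.stalk (f x)))
      (IsLocalRing.ResidueField (X.presheaf.stalk x)) := by
    rw [← RingHom.finite_algebraMap, hkey]
    exact hfinite
  -- the open subset of `Spec 𝒪_{X,x}`
  have hVopen : IsOpen ((X.fromSpecStalk x) ⁻¹' (U : Set X) : Set (PrimeSpectrum (X.presheaf.stalk x))) :=
    U.isOpen.preimage (X.fromSpecStalk x).continuous
  have hne : ∃ q ∈ ((X.fromSpecStalk x) ⁻¹' (U : Set X) : Set (PrimeSpectrum (X.presheaf.stalk x))),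
      q.asIdeal.comap (algebraMap (S.presheaf.stalk (f x)) (X.presheaf.stalk x)) ≠
        IsLocalRing.maximalIdeal (S.presheaf.stalk (f x)) := by
    obtain ⟨x', hx'U, hx'x, hfx'⟩ := hx'
    obtain ⟨q', rfl⟩ : x' ∈ Set.range (X.fromSpecStalk x) := by
      rw [Scheme.range_fromSpecStalk]; exact hx'x
    exact ⟨q', hx'U, fun h => hfx' ((comap_eq_maximalIdeal_iff f x q').mpr h)⟩
  obtain ⟨q, hqV, hqA, hQF⟩ := Groth.Agent.S1394.result
    (A := S.presheaf.stalk (f x)) (B := X.presheaf.stalk x) _ hVopen hne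
  have hzU : X.fromSpecStalk x q ∈ U := hqV
  have hzx : X.fromSpecStalk x q ⤳ x := by
    have : X.fromSpecStalk x q ∈ Set.range (X.fromSpecStalk x) := ⟨q, rfl⟩
    rwa [Scheme.range_fromSpecStalk] at this
  have hfz : f (X.fromSpecStalk x q) ≠ f x := fun h =>
    hqA ((comap_eq_maximalIdeal_iff f x q).mp h)
  -- the closed subscheme
  obtain ⟨I, hrange⟩ : ∃ I : X.IdealSheafData,
      Set.range I.subschemeι = closure {X.fromSpecStalk x q} := by
    refine ⟨Scheme.IdealSheafData.vanishingIdeal
      ⟨closure {X.fromSpecStalk x q}, isClosed_closure⟩, ?_⟩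
    rw [Scheme.IdealSheafData.range_subschemeι]
    exact Scheme.IdealSheafData.coe_support_vanishingIdeal _
  obtain ⟨x₀, hx₀⟩ : x ∈ Set.range I.subschemeι := by
    rw [hrange]; exact specializes_iff_mem_closure.mp hzx
  obtain ⟨z₀, hz₀⟩ : X.fromSpecStalk x q ∈ Set.range I.subschemeι := by
    rw [hrange]; exact subset_closure rfl
  refine ⟨I, z₀, x₀, hx₀, ?_, by rw [hz₀]; exact hzU, by rw [hz₀]; exact hzx,
    by rw [hz₀]; exact hfz⟩
  rw [Groth.Agent.Lib.AlgSpQFAt.quasiFiniteAt_iff_isolatedInFibre]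
  refine Groth.Agent.Lib.IsolatedTrdeg46.isolatedInFibre_of_resTrdeg_eq_zero' _ x₀ ?_ ?_
  · intro u' hu' hfu'
    apply I.subschemeι.isEmbedding.injective
    rw [hx₀]
    have hwx : I.subschemeι u' ⤳ x := by
      rw [← hx₀]; exact hu'.map I.subschemeι.continuous
    have hzw : X.fromSpecStalk x q ⤳ I.subschemeι u' := by
      apply specializes_iff_mem_closure.mpr
      rw [← hrange]; exact ⟨u', rfl⟩
    have hfw : f (I.subschemeι u') = f x := by
      have := hfu'
      rwa [Scheme.Hom.comp_apply, Scheme.Hom.comp_apply, hx₀] at this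
    obtain ⟨p, hp⟩ : I.subschemeι u' ∈ Set.range (X.fromSpecStalk x) := by
      rw [Scheme.range_fromSpecStalk]; exact hwx
    rw [← hp] at hzw hfw ⊢
    have hqp : q.asIdeal ≤ p.asIdeal := by
      have : q ⤳ p := (X.fromSpecStalk x).isEmbedding.isInducing.specializes_iff.mp hzw
      exact (PrimeSpectrum.le_iff_specializes q p).mpr this
    have hpA := (comap_eq_maximalIdeal_iff f x p).mp hfw
    have hpm : p.asIdeal = IsLocalRing.maximalIdeal (X.presheaf.stalk x) :=
      eq_maximalIdeal_of_quasiFinite (A := S.presheaf.stalk (f x)) q.asIdeal p.asIdeal hqp hpA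
    have : p = IsLocalRing.closedPoint (X.presheaf.stalk x) := PrimeSpectrum.ext hpm
    rw [this, Scheme.fromSpecStalk_closedPoint]
  · rw [Groth.Agent.Lib.ResTrdeg91.resTrdeg_comp]
    have h1 : Dual3.resTrdeg I.subschemeι x₀ = 0 :=
      Groth.Agent.Lib.ResTrdeg91.resTrdeg_eq_zero_of_locallyQuasiFinite _ x₀
    have h2 : Dual3.resTrdeg f x = 0 := by
      unfold Dual3.resTrdeg
      letI := (f.residueFieldMap x).hom.toAlgebra
      have : Module.Finite (S.residueField (f x)) (X.residueField x) := hfinite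
      exact _root_.trdeg_eq_zero
    rw [h1, hx₀, h2, add_zero]

end Groth.Agent.S1411
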