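import Groth.Statements.S14110
import Groth.Agent.Lib.FibreStalkCM33
import Groth.Agent.Lib.CMComp33

set_option autoImplicit false
universe u
open CategoryTheory CategoryTheory.Limits AlgebraicGeometry Opposite TopologicalSpace
open CInt

namespace Groth.Agent.S14110

/-- Let f : X → S and g : X' → X be morphisms of locally Noetherian schemes with f a Cohen–Macaulay
morphism (flat, every local ring of every fibre a Cohen–Macaulay local ring) and g flat, Y a closed
subset of X and Y' its preimage under g. Then the codimension of Y relative to f (the infimum over y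
∈ Y of the Krull dimension of the local ring at y of the fibre of f through y) is at most the
codimension of Y' relative to the composite X' → S. -/
theorem result {X X' S : Scheme.{u}} [IsLocallyNoetherian X]
    [IsLocallyNoetherian X'] [IsLocallyNoetherian S] (f : X ⟶ S) [Flat f]
    (hCM : ∀ x : ↥X, LocCoh.IsCohenMacaulayLocalRing ↑(CInt.fiberStalk f x)) (g : X' ⟶ X) [Flat g]
    (Y : Set ↥X) (hY : IsClosed Y) :
    (⨅ y : Y, ringKrullDim ↑(CInt.fiberStalk f y.1)) ≤
      ⨅ y' : (fun x' => g x') ⁻¹' Y, ringKrullDim ↑(CInt.fiberStalk (g ≫ f) y'.1) := by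
  refine le_iInf fun y' => ?_
  have hy : g y'.1 ∈ Y := y'.2
  refine (iInf_le _ (⟨g y'.1, hy⟩ : Y)).trans ?_
  show ringKrullDim ↑(CInt.fiberStalk f (g y'.1)) ≤ ringKrullDim ↑(CInt.fiberStalk (g ≫ f) y'.1)
  have hJ : Ideal.map ((g ≫ f).stalkMap y'.1).hom
      (IsLocalRing.maximalIdeal (S.presheaf.stalk ((g ≫ f) y'.1))) =
      Ideal.map (g.stalkMap y'.1).hom (Ideal.map (f.stalkMap (g y'.1)).hom
        (IsLocalRing.maximalIdeal (S.presheaf.stalk (f (g y'.1))))) := by
    rw [Ideal.map_map, ← CommRingCat.hom_comp, ← Scheme.Hom.stalkMap_comp]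
    rfl
  rw [← ringKrullDim_eq_of_ringEquiv (Groth.Agent.Lib.FibreStalk33.fibreStalkEquiv f (g y'.1)),
    ← ringKrullDim_eq_of_ringEquiv (Groth.Agent.Lib.FibreStalk33.fibreStalkEquiv (g ≫ f) y'.1),
    hJ]
  exact Groth.Agent.Lib.CMComp33.ringKrullDim_quotient_le (f.stalkMap (g y'.1)).hom
    (g.stalkMap y'.1).hom (Flat.stalkMap g y'.1)

end Groth.Agent.S14110
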