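import Groth.Statements.S14115
import Mathlib.Algebra.BigOperators.Fin
import Mathlib.Tactic.NoncommRing
import Mathlib.Tactic.Abel

set_option autoImplicit false
universe u v
open SuperComm

namespace Groth.Agent.S14115

theorem aux {R : Type u} {S : Type v} [CommRing R] [Ring S]
    [Algebra R S] (x : S) : ∀ (n : ℕ) (y : Fin (n + 1) → S) (r : Fin (n + 1) → R)
    (_ : ∀ i : Fin (n + 1), x * y i + y i * x = algebraMap R S (r i)),
    x * (List.ofFn y).prod + (-1 : S) ^ n * ((List.ofFn y).prod * x) =
      ∑ p : Fin (n + 1), (-1 : S) ^ (p : ℕ) * (r p • (List.ofFn (fun q : Fin n => y (p.succAbove q))).prod) := by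
  intro n
  induction n with
  | zero =>
    intro y r h
    rw [Fin.sum_univ_one]
    simp only [List.ofFn_succ, List.ofFn_zero, List.prod_cons, List.prod_nil, mul_one, pow_zero,
      one_mul, Fin.val_zero]
    rw [h 0, Algebra.algebraMap_eq_smul_one]
  | succ n ih =>
    intro y r h
    have ih' := ih (fun i => y i.succ) (fun i => r i.succ) (fun i => h i.succ)
    rw [Fin.sum_univ_succ]
    rw [List.ofFn_succ, List.prod_cons]
    set Y' := (List.ofFn fun i : Fin (n + 1) => y i.succ).prod with hY'
    have h0 := h 0
    -- rewrite the tail terms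
    have htail : ∀ p : Fin (n + 1),
        (-1 : S) ^ ((p.succ : Fin (n + 2)) : ℕ) *
          (r p.succ • (List.ofFn (fun q : Fin (n + 1) => y (p.succ.succAbove q))).prod) =
        - (y 0 * ((-1 : S) ^ (p : ℕ) *
          (r p.succ • (List.ofFn (fun q : Fin n => y (p.succAbove q).succ)).prod))) := by
      intro p
      rw [List.ofFn_succ, List.prod_cons, Fin.succ_succAbove_zero]
      simp only [Fin.succ_succAbove_succ, Fin.val_succ, pow_succ]
      have hc : ∀ (k : ℕ) (z : S), (-1 : S) ^ k * z = z * (-1 : S) ^ k := by
        intro k z
        exact ((Commute.neg_one_left z).pow_left k).eq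
      set P := (List.ofFn fun i : Fin n => y (p.succAbove i).succ).prod
      simp only [mul_smul_comm]
      rw [← smul_neg]
      congr 1
      rw [mul_neg, mul_one, neg_mul, ← mul_assoc, hc (p : ℕ) (y 0), mul_assoc]
    simp only [htail, Finset.sum_neg_distrib, ← Finset.mul_sum]
    rw [← ih']
    simp only [Fin.val_zero, pow_zero, one_mul, Fin.zero_succAbove]
    rw [← hY']
    have e1 : x * (y 0 * Y') = algebraMap R S (r 0) * Y' - y 0 * (x * Y') := by
      rw [← h0]; noncomm_ring
    have hc : ∀ (z : S), (-1 : S) ^ n * z = z * (-1 : S) ^ n := by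
      intro z
      exact ((Commute.neg_one_left z).pow_left n).eq
    rw [e1, Algebra.smul_def, pow_succ, hc (Y' * x), mul_assoc ((-1 : S) ^ n), hc]
    noncomm_ring

/-- Let S be an associative unital algebra over a commutative ring R, x an element and y_0, …, y_n
elements such that the anticommutator x y_i + y_i x equals r_i · 1 for scalars r_i ∈ R. Then the
graded commutator of x with the ordered product y_0 ⋯ y_n, namely x (y_0 ⋯ y_n) + (-1)^n (y_0 ⋯ y_n)
x, equals the sum over p of (-1)^p r_p times the ordered product of the y_q with q ≠ p. (The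
published statement takes x homogeneous of degree 1 and the y_i homogeneous of degree -1 in a graded
algebra with unit in degree 0, the signs being those of the supercommutator; this row states the
identity for arbitrary elements satisfying the anticommutation relations, which is what the
computation proves.) -/
theorem result {R : Type u} {S : Type v} [CommRing R] [Ring S]
    [Algebra R S] (n : ℕ) (x : S) (y : Fin (n + 1) → S) (r : Fin (n + 1) → R)
    (h : ∀ i : Fin (n + 1), x * y i + y i * x = algebraMap R S (r i)) :
    x * (List.ofFn y).prod + (-1 : S) ^ n * ((List.ofFn y).prod * x) =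
      ∑ p : Fin (n + 1), (-1 : S) ^ (p : ℕ) * (r p • (List.ofFn (fun q : Fin n => y (p.succAbove q))).prod) :=
  aux x n y r h

end Groth.Agent.S14115
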