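import Groth.Statements.S6034
import Groth.Agent.Lib.AffineLocCoh9b
import Groth.Agent.Lib.AffineLocCoh9c
import Groth.Agent.S6026
import Groth.Agent.Lib.RestrictStalk
import Groth.Agent.Lib.H90CohRestrict
import Groth.Agent.Lib.H8LocTrans

set_option autoImplicit false
universe u
open CategoryTheory CategoryTheory.Limits TopologicalSpace AlgebraicGeometry
open LocCohZ

namespace Groth.Agent.S6034

open AlgebraicGeometry CategoryTheory CategoryTheory.Limits TopologicalSpace Opposite LocCohZ
open Groth.Agent.Lib Groth.Agent.Lib.AffineLocCoh9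

section loc

variable (X : Scheme.{u}) (M : X.Modules) (V U : X.Opens)

/-- depth of the stalk of a restriction to an open subscheme. -/
theorem depth_restrict (x' : (V : Scheme.{u})) :
    LocCoh.depth ((V : Scheme.{u}).presheaf.stalk x') ((M.restrict V.ι).presheaf.stalk x') =
      LocCoh.depth (X.presheaf.stalk (V.ι x')) (M.presheaf.stalk (V.ι x')) :=
  H8LocTrans.depth_eq_of_ringEquiv (RestrictStalk.stalkRingEquiv V.ι x').symm
    (RestrictStalk.restrictStalkAddEquiv V.ι M x')
    (fun a ν => RestrictStalk.restrictStalkAddEquiv_smul' V.ι M x' a ν)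

theorem local_iff [IsLocallyNoetherian X] (hM : Coh.IsCoh M) (hV : IsAffineOpen V) (n : ℕ) :
    (∀ i, i < n → Subsingleton
      (LocCohZ.HZ (X := X.carrier) (Coh.toAb M) i (inf_le_left : V ⊓ U ≤ V))) ↔
      ∀ x : X, x ∈ V → x ∉ U →
        (n : ℕ∞) ≤ LocCoh.depth (X.presheaf.stalk x) (M.presheaf.stalk x) := by
  haveI : IsAffine (V : Scheme.{u}) := hV
  haveI : IsNoetherianRing Γ((V : Scheme.{u}), ⊤) :=
    IsLocallyNoetherian.component_noetherian ⟨⊤, isAffineOpen_top (V : Scheme.{u})⟩
  have hM' : Coh.IsCoh (M.restrict V.ι) := H90CohRestrict.isCoh_restrict V.ι M hM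
  have h1 : (∀ i, i < n → Subsingleton
      (LocCohZ.HZ (X := X.carrier) (Coh.toAb M) i (inf_le_left : V ⊓ U ≤ V))) ↔
      (∀ i, i < n → Subsingleton (LocCohZ.HZM (V : Scheme.{u}) (M.restrict V.ι) i
        ((Opens.map (CohCx.incl V)).obj (V ⊓ U)))) := by
    constructor
    · intro h i hi
      obtain ⟨e, -⟩ := Groth.Agent.S6026.result (X := X.carrier) (inf_le_left : V ⊓ U ≤ V) i
      exact @Equiv.subsingleton _ _ (e (Coh.toAb M)).symm.toEquiv (h i hi)
    · intro h i hi
      obtain ⟨e, -⟩ := Groth.Agent.S6026.result (X := X.carrier) (inf_le_left : V ⊓ U ≤ V) i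
      exact @Equiv.subsingleton _ _ (e (Coh.toAb M)).toEquiv (h i hi)
  rw [h1, HZM_vanish_iff_depth (V : Scheme.{u}) (M.restrict V.ι) hM' _ n]
  constructor
  · intro h x hxV hxU
    have h2 := h ⟨x, hxV⟩ (fun hx => hxU hx.2)
    rw [depth_restrict] at h2
    exact h2
  · intro h x' hx'
    rw [depth_restrict]
    exact h (V.ι x') x'.2 (fun hx => hx' ⟨x'.2, hx⟩)

end loc


/-- Let X be a locally Noetherian scheme, Y a closed subset with open complement U, M a coherent
O_X-module with underlying abelian sheaf F and n a natural number. Then ℋ^i_Y(F) = 0 for all i < n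
if and only if depth M_x ≥ n for every x ∈ Y. -/
theorem result (X : Scheme.{u}) [IsLocallyNoetherian X] (U : X.Opens)
    (M : X.Modules) (hM : Coh.IsCoh M) (n : ℕ) :
    (∀ i : ℕ, i < n → IsZero ((LocCohZ.HZsh (X := X.carrier) U i).obj (Coh.toAb M))) ↔
      ∀ x : X, x ∉ (U : Set X) →
        (n : ℕ∞) ≤ LocCoh.depth (X.presheaf.stalk x) (M.presheaf.stalk x) := by
  constructor
  · intro h x hx
    obtain ⟨_, ⟨V, hV, rfl⟩, hxV, -⟩ :=
      X.isBasis_affineOpens.exists_subset_of_mem_open (Set.mem_univ x) isOpen_univ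
    have h1 := (Groth.Agent.S6022.result (X := X.carrier) (Coh.toAb M) U n).1 h
    exact (local_iff X M V U hM hV n).1 (fun i hi => h1 V i hi) x hxV hx
  · intro h i hi
    refine isZero_HZsh_of_basis (X := X.carrier) (Coh.toAb M) U i X.affineOpens
      X.isBasis_affineOpens (fun V hV => ?_)
    exact (local_iff X M V U hM hV n).2 (fun x _ hxU => h x hxU) i hi

end Groth.Agent.S6034
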