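import Groth.Statements.S14117
import Mathlib.LinearAlgebra.Trace

set_option autoImplicit false
universe u v w
open SuperComm

namespace Groth.Agent.S14117

/-- supertrace as a signed sum of block traces -/
theorem supertrace_eq {R : Type u} [CommRing R] {ι : Type v} [Fintype ι] [DecidableEq ι]
    (deg : ι → ℤ) (M : ι → Type w) [∀ i, AddCommGroup (M i)] [∀ i, Module R (M i)]
    [∀ i, Module.Free R (M i)] [∀ i, Module.Finite R (M i)]
    (φ : (Π k, M k) →ₗ[R] (Π k, M k)) :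
    LinearMap.trace R (Π k, M k) ((∑ i : ι, (LinearMap.single R M i) ∘ₗ (((-1 : R) ^ (deg i).natAbs) • (LinearMap.proj i : (Π k, M k) →ₗ[R] M i))) ∘ₗ φ) =
      ∑ i : ι, (-1 : R) ^ (deg i).natAbs *
        LinearMap.trace R (M i) ((LinearMap.proj i) ∘ₗ φ ∘ₗ (LinearMap.single R M i)) := by
  have hsum : (∑ i : ι, (LinearMap.single R M i) ∘ₗ (((-1 : R) ^ (deg i).natAbs) •
      (LinearMap.proj i : (Π k, M k) →ₗ[R] M i))) ∘ₗ φ =
      ∑ i : ι, ((LinearMap.single R M i) ∘ₗ (((-1 : R) ^ (deg i).natAbs) •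
      (LinearMap.proj i : (Π k, M k) →ₗ[R] M i))) ∘ₗ φ := by
    apply LinearMap.ext
    intro x
    simp only [LinearMap.comp_apply, LinearMap.sum_apply]
  rw [hsum, map_sum]
  refine Finset.sum_congr rfl (fun i _ => ?_)
  rw [LinearMap.comp_smul, LinearMap.smul_comp, map_smul, smul_eq_mul, LinearMap.comp_assoc,
    LinearMap.trace_comp_comm', LinearMap.comp_assoc]

theorem result {R : Type u} [CommRing R] {ι : Type v} [Fintype ι] [DecidableEq ι]
    (deg : ι → ℤ) (M : ι → Type w) [∀ i, AddCommGroup (M i)] [∀ i, Module R (M i)]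
    [∀ i, Module.Free R (M i)] [∀ i, Module.Finite R (M i)]
    (a : ℤ) (ha : a ≠ 0) (φ : (Π k, M k) →ₗ[R] (Π k, M k))
    (hφ : ∀ i j : ι, deg j ≠ deg i + a → (LinearMap.proj j) ∘ₗ φ ∘ₗ (LinearMap.single R M i) = 0) :
    LinearMap.trace R (Π k, M k) ((∑ i : ι, (LinearMap.single R M i) ∘ₗ (((-1 : R) ^ (deg i).natAbs) • (LinearMap.proj i : (Π k, M k) →ₗ[R] M i))) ∘ₗ φ) = 0 := by
  rw [supertrace_eq]
  refine Finset.sum_eq_zero (fun i _ => ?_)
  rw [hφ i i (by omega), map_zero, mul_zero]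

end Groth.Agent.S14117
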