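import Groth.Statements.S14118
import Groth.Agent.S14117
import Mathlib.LinearAlgebra.Trace
import Mathlib.Algebra.Ring.Int.Parity

set_option autoImplicit false
universe u v w
open SuperComm

namespace Groth.Agent.S14118

section
variable {R : Type u} [CommRing R] {ι : Type v} [Fintype ι] [DecidableEq ι]
  (M : ι → Type w) [∀ i, AddCommGroup (M i)] [∀ i, Module R (M i)]

theorem sum_single_comp_proj :
    ∑ j : ι, (LinearMap.single R M j) ∘ₗ (LinearMap.proj j : (Π k, M k) →ₗ[R] M j) =
      LinearMap.id := by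
  apply LinearMap.ext
  intro x
  simp only [LinearMap.sum_apply, LinearMap.comp_apply, LinearMap.proj_apply, LinearMap.id_apply,
    LinearMap.single_apply]
  exact Finset.univ_sum_single x

theorem block_comp (φ ψ : (Π k, M k) →ₗ[R] (Π k, M k)) (i : ι) :
    (LinearMap.proj i) ∘ₗ (φ ∘ₗ ψ) ∘ₗ (LinearMap.single R M i) =
      ∑ j : ι, ((LinearMap.proj i) ∘ₗ φ ∘ₗ (LinearMap.single R M j)) ∘ₗ
        ((LinearMap.proj j) ∘ₗ ψ ∘ₗ (LinearMap.single R M i)) := by
  have h : φ ∘ₗ ψ = φ ∘ₗ (∑ j : ι, (LinearMap.single R M j) ∘ₗ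
      (LinearMap.proj j : (Π k, M k) →ₗ[R] M j)) ∘ₗ ψ := by
    rw [sum_single_comp_proj, LinearMap.id_comp]
  rw [h]
  apply LinearMap.ext
  intro x
  simp only [LinearMap.comp_apply, LinearMap.sum_apply, map_sum]

theorem sgn_eq (n : ℤ) : (-1 : R) ^ n.natAbs = if Even n then 1 else -1 := by
  split_ifs with h
  · exact Even.neg_one_pow (Int.natAbs_even.mpr h)
  · exact Odd.neg_one_pow (Int.natAbs_odd.mpr (Int.not_even_iff_odd.mp h))

theorem sgn_rel (di dj a b : ℤ) (h1 : di = dj + a) (h2 : dj = di + b) :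
    (-1 : R) ^ di.natAbs = (-1 : R) ^ (a * b).natAbs * (-1 : R) ^ dj.natAbs := by
  have hb : b = -a := by omega
  subst hb
  subst h1
  simp only [sgn_eq]
  rcases Int.even_or_odd dj with hj | hj <;> rcases Int.even_or_odd a with ha | ha <;>
    simp [Int.even_add, Int.even_mul, hj, ha, Int.not_even_iff_odd.mpr, parity_simps]

end

/-- Let R be a commutative ring and M a finitely ℤ-graded R-module with finitely many nonzero graded
pieces, each finite free, presented as a finite family of finite free R-modules M_i with integer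
degrees deg i (the piece of degree n being the product of the M_i with deg i = n); an endomorphism φ
of the total module Π_i M_i has degree a when its (i, j) block vanishes unless deg j = deg i + a;
the supertrace of an endomorphism is the trace of its composite with the grading involution ε = Σ_i
(-1)^{deg i} pr_i. If φ and ψ have degrees a and b, the supertrace of the supercommutator φψ -
(-1)^{ab} ψφ vanishes. (The published statement allows the graded pieces to be finitely generated
projective; this row takes them finite free, where the trace is the ordinary trace of a free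
module.) -/
theorem result {R : Type u} [CommRing R] {ι : Type v} [Fintype ι] [DecidableEq ι]
    (deg : ι → ℤ) (M : ι → Type w) [∀ i, AddCommGroup (M i)] [∀ i, Module R (M i)]
    [∀ i, Module.Free R (M i)] [∀ i, Module.Finite R (M i)]
    (a b : ℤ) (φ ψ : (Π k, M k) →ₗ[R] (Π k, M k))
    (hφ : ∀ i j : ι, deg j ≠ deg i + a → (LinearMap.proj j) ∘ₗ φ ∘ₗ (LinearMap.single R M i) = 0)
    (hψ : ∀ i j : ι, deg j ≠ deg i + b → (LinearMap.proj j) ∘ₗ ψ ∘ₗ (LinearMap.single R M i) = 0) :
    LinearMap.trace R (Π k, M k)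
      ((∑ i : ι, (LinearMap.single R M i) ∘ₗ (((-1 : R) ^ (deg i).natAbs) • (LinearMap.proj i : (Π k, M k) →ₗ[R] M i))) ∘ₗ (φ ∘ₗ ψ - ((-1 : R) ^ (a * b).natAbs) • (ψ ∘ₗ φ))) = 0 := by
  rw [Groth.Agent.S14117.supertrace_eq]
  -- abbreviations
  set c : ι → R := fun i => (-1 : R) ^ (deg i).natAbs with hc
  set ε : R := (-1 : R) ^ (a * b).natAbs with hε
  let T : ι → ι → R := fun i j => LinearMap.trace R (M i)
    (((LinearMap.proj i) ∘ₗ φ ∘ₗ (LinearMap.single R M j)) ∘ₗ
      ((LinearMap.proj j) ∘ₗ ψ ∘ₗ (LinearMap.single R M i)))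
  have h1 : ∀ i : ι, LinearMap.trace R (M i)
      ((LinearMap.proj i) ∘ₗ (φ ∘ₗ ψ - ε • (ψ ∘ₗ φ)) ∘ₗ (LinearMap.single R M i)) =
      ∑ j : ι, T i j - ε * ∑ j : ι, T j i := by
    intro i
    have e : (LinearMap.proj i) ∘ₗ (φ ∘ₗ ψ - ε • (ψ ∘ₗ φ)) ∘ₗ (LinearMap.single R M i) =
        (LinearMap.proj i) ∘ₗ (φ ∘ₗ ψ) ∘ₗ (LinearMap.single R M i) -
          ε • ((LinearMap.proj i) ∘ₗ (ψ ∘ₗ φ) ∘ₗ (LinearMap.single R M i)) := by
      rw [LinearMap.sub_comp, LinearMap.comp_sub, LinearMap.smul_comp, LinearMap.comp_smul]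
    rw [e, map_sub, map_smul, block_comp, block_comp, map_sum, map_sum, smul_eq_mul]
    congr 2
    refine Finset.sum_congr rfl (fun j _ => ?_)
    exact LinearMap.trace_comp_comm' _ _
  simp only [h1]
  simp only [mul_sub, Finset.sum_sub_distrib, Finset.mul_sum]
  rw [sub_eq_zero]
  rw [Finset.sum_comm (f := fun i j => c i * (ε * T j i))]
  refine Finset.sum_congr rfl (fun i _ => Finset.sum_congr rfl (fun j _ => ?_))
  -- term (i, j)
  by_cases hij : deg i = deg j + a
  · by_cases hji : deg j = deg i + b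
    · have := sgn_rel (R := R) (deg i) (deg j) a b hij hji
      simp only [hc, hε]
      rw [this]
      ring
    · have hz : (LinearMap.proj j) ∘ₗ ψ ∘ₗ (LinearMap.single R M i) = 0 := hψ i j hji
      simp only [T, hz, LinearMap.comp_zero, map_zero, mul_zero]
  · have hz : (LinearMap.proj i) ∘ₗ φ ∘ₗ (LinearMap.single R M j) = 0 := hφ j i hij
    simp only [T, hz, LinearMap.zero_comp, map_zero, mul_zero]

end Groth.Agent.S14118
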