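import Groth.Statements.S14119
import Groth.Agent.Lib.EquidimCat33
import Groth.Agent.Lib.LocFact82
import Groth.Agent.Lib.DimIneqComponent
import Groth.Agent.Lib.GenFin45
import Groth.Prelude.Def_BlowUp2
import Groth.Prelude.Def_Found

set_option autoImplicit false
universe u
open CategoryTheory CategoryTheory.Limits AlgebraicGeometry Opposite TopologicalSpace
open BlowUp

namespace Groth.Agent.S14119

theorem isEquidim_of_nilradical_isPrime (A : Type u) [CommRing A] (h : (nilradical A).IsPrime) :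
    EGA4.IsEquidim A := by
  intro p hp
  haveI := hp.1.1
  have h1 : nilradical A ≤ p := nilradical_le_prime p
  have h2 : p ≤ nilradical A := hp.2 ⟨h, bot_le⟩ h1
  have h3 : p = nilradical A := le_antisymm h2 h1
  subst h3
  rw [ringKrullDim_quotient, PrimeSpectrum.zeroLocus_nilradical, ringKrullDim]
  exact Order.krullDim_eq_of_orderIso (OrderIso.Set.univ)

/-- the nilradical of a localization of a ring with prime nilradical is prime -/
theorem nilradical_isPrime_of_isLocalization {R : Type*} [CommRing R] (M : Submonoid R)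
    (S : Type*) [CommRing S] [Algebra R S] [IsLocalization M S] [Nontrivial S]
    (h : (nilradical R).IsPrime) : (nilradical S).IsPrime := by
  have h1 : nilradical S = Ideal.map (algebraMap R S) (nilradical R) := by
    rw [nilradical, nilradical, IsLocalization.map_radical M S]
    simp
  rw [h1]
  refine IsLocalization.isPrime_of_isPrime_disjoint M S _ h ?_
  rw [Set.disjoint_left]
  intro x hxM hxN
  obtain ⟨n, hn⟩ := hxN
  have : (0 : R) ∈ M := hn ▸ pow_mem hxM n
  have h0 : IsUnit (algebraMap R S 0) := IsLocalization.map_units S ⟨0, this⟩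
  rw [map_zero] at h0
  exact not_isUnit_zero h0

theorem stalk_isEquidim (X : Scheme.{u}) [IrreducibleSpace ↥X] (x : X) :
    EGA4.IsEquidim (X.presheaf.stalk x) := by
  obtain ⟨U, hU, hxU, -⟩ := exists_isAffineOpen_mem_and_subset (U := ⊤) (x := x) (by simp)
  haveI : Nonempty (Spec Γ(X, U)) := ⟨hU.primeIdealOf ⟨x, hxU⟩⟩
  haveI : IrreducibleSpace (Spec Γ(X, U)) := hU.fromSpec.isOpenEmbedding.irreducibleSpace
  have hnil : (nilradical Γ(X, U)).IsPrime :=
    PrimeSpectrum.irreducibleSpace_iff_isPrime_nilradical.mp ‹_›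
  letI := X.presheaf.algebra_section_stalk ⟨x, hxU⟩
  haveI := hU.isLocalization_stalk ⟨x, hxU⟩
  exact isEquidim_of_nilradical_isPrime _
    (nilradical_isPrime_of_isLocalization (hU.primeIdealOf ⟨x, hxU⟩).asIdeal.primeCompl
      (X.presheaf.stalk x) hnil)

theorem ker_stalkMap_eq_genPrime {X Z : Scheme.{u}} (i : Z ⟶ X) [IsIntegral Z] (z : Z)
    (h : i (genericPoint Z) ⤳ i z) :
    RingHom.ker (i.stalkMap z).hom = Groth.Agent.Lib.LocFact82.genPrime X h := by
  have hsp : genericPoint Z ⤳ z := genericPoint_specializes z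
  ext a
  rw [RingHom.mem_ker, Groth.Agent.Lib.LocFact82.genPrime, Ideal.mem_comap]
  have hnat := Scheme.Hom.stalkSpecializes_stalkMap_apply i (genericPoint Z) z hsp a
  have hinj : Function.Injective (Z.presheaf.stalkSpecializes hsp).hom :=
    IsFractionRing.injective (Z.presheaf.stalk z) Z.functionField
  have hfield : IsLocalRing.maximalIdeal (Z.presheaf.stalk (genericPoint Z)) = ⊥ :=
    IsLocalRing.maximalIdeal_eq_bot (R := Z.functionField)
  constructor
  · intro ha
    have h0 : (i.stalkMap (genericPoint Z)).hom ((X.presheaf.stalkSpecializes h).hom a) = 0 := by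
      have := hnat
      rw [show (i.stalkMap z) a = 0 from ha, map_zero] at this
      exact this
    by_contra hnot
    rw [IsLocalRing.mem_maximalIdeal, mem_nonunits_iff, not_not] at hnot
    have hu := hnot.map (i.stalkMap (genericPoint Z)).hom
    rw [h0] at hu
    exact not_isUnit_zero hu
  · intro ha
    have h1 : (i.stalkMap (genericPoint Z)).hom ((X.presheaf.stalkSpecializes h).hom a) ∈
        IsLocalRing.maximalIdeal (Z.presheaf.stalk (genericPoint Z)) := by
      rw [IsLocalRing.mem_maximalIdeal, mem_nonunits_iff] at ha ⊢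
      intro hu
      exact ha ((isUnit_map_iff (i.stalkMap (genericPoint Z)).hom _).mp hu)
    rw [hfield, Ideal.mem_bot] at h1
    apply hinj
    rw [map_zero]
    exact hnat.symm.trans h1

/-- membership in the support of an ideal sheaf, on an affine open where it is principal -/
theorem mem_support_iff_mem_primeIdealOf {Z : Scheme.{u}} (𝓙 : Z.IdealSheafData) (W : Z.affineOpens)
    (g : Γ(Z, W.1)) (hg : 𝓙.ideal W = Ideal.span {g}) (z : Z) (hz : z ∈ W.1) :
    z ∈ (𝓙.support : Set Z) ↔ g ∈ (W.2.primeIdealOf ⟨z, hz⟩).asIdeal := by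
  have key : z ∈ (𝓙.support : Set Z) ↔ z ∈ Z.zeroLocus (U := W.1) (𝓙.ideal W) :=
    Scheme.IdealSheafData.mem_support_iff_of_mem hz
  rw [key, Scheme.mem_zeroLocus_iff]
  constructor
  · intro h
    have h1 := h g (by rw [hg]; exact Ideal.subset_span rfl)
    rw [Groth.Agent.Lib.GenFin45.mem_basicOpen_iff W.2 g z hz, not_not] at h1
    exact h1
  · intro h f hf
    rw [hg] at hf
    obtain ⟨a, rfl⟩ := Ideal.mem_span_singleton'.mp hf
    rw [Groth.Agent.Lib.GenFin45.mem_basicOpen_iff W.2 _ z hz, not_not]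
    exact Ideal.mul_mem_left _ _ h

theorem dim_stalk_eq_one {Z : Scheme.{u}} [IsLocallyNoetherian Z] (𝓙 : Z.IdealSheafData)
    (hc : BlowUp.IsEffCartierIdeal 𝓙) (z : Z) (hz : z ∈ (𝓙.support : Set Z))
    (hmax : ∀ z' : Z, z' ∈ (𝓙.support : Set Z) → z' ⤳ z → z' = z) :
    ringKrullDim (Z.presheaf.stalk z) = 1 := by
  obtain ⟨W, hzW, g, hgnzd, hg⟩ := hc z
  haveI : IsNoetherianRing Γ(Z, W.1) := IsLocallyNoetherian.component_noetherian W
  rw [Groth.Agent.Lib.DimIneqComponent.ringKrullDim_stalk_eq_height W.2 z hzW]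
  have hgP : g ∈ (W.2.primeIdealOf ⟨z, hzW⟩).asIdeal :=
    (mem_support_iff_mem_primeIdealOf 𝓙 W g hg z hzW).mp hz
  have hmin : (W.2.primeIdealOf ⟨z, hzW⟩).asIdeal ∈ (Ideal.span {g}).minimalPrimes := by
    refine ⟨⟨(W.2.primeIdealOf ⟨z, hzW⟩).isPrime, ?_⟩, fun q hq hle => ?_⟩
    · rw [Ideal.span_singleton_le_iff_mem]; exact hgP
    · let Q : Spec Γ(Z, W.1) := ⟨q, hq.1⟩
      have h1 : Q ⤳ W.2.primeIdealOf ⟨z, hzW⟩ := (PrimeSpectrum.le_iff_specializes Q _).mp hle
      have h2 : W.2.fromSpec Q ⤳ z := by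
        have := h1.map W.2.fromSpec.continuous
        rwa [W.2.fromSpec_primeIdealOf ⟨z, hzW⟩] at this
      have hQW : W.2.fromSpec Q ∈ W.1 := h2.mem_open W.1.2 hzW
      have hQeq : W.2.primeIdealOf ⟨W.2.fromSpec Q, hQW⟩ = Q := by
        apply W.2.fromSpec.isOpenEmbedding.injective
        rw [W.2.fromSpec_primeIdealOf]
      have h3 : W.2.fromSpec Q ∈ (𝓙.support : Set Z) := by
        rw [mem_support_iff_mem_primeIdealOf 𝓙 W g hg _ hQW, hQeq]
        exact (Ideal.span_singleton_le_iff_mem _).mp hq.2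
      have h4 := hmax _ h3 h2
      have h5 : Q = W.2.primeIdealOf ⟨z, hzW⟩ := by
        rw [← hQeq]
        congr 1
        exact Subtype.ext h4
      rw [← h5]
  have hle : (W.2.primeIdealOf ⟨z, hzW⟩).asIdeal.height ≤ 1 :=
    Ideal.height_le_one_of_isPrincipal_of_mem_minimalPrimes (Ideal.span {g}) _ hmin
  have hne : (W.2.primeIdealOf ⟨z, hzW⟩).asIdeal.height ≠ 0 := by
    haveI := (W.2.primeIdealOf ⟨z, hzW⟩).isPrime
    rw [Ne, Ideal.height_eq_zero_iff]
    intro hmin0
    exact Set.disjoint_left.mp (Ideal.disjoint_nonZeroDivisors_of_mem_minimalPrimes hmin0) hgP hgnzd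
  have h1 : (W.2.primeIdealOf ⟨z, hzW⟩).asIdeal.height = 1 :=
    le_antisymm hle (Order.one_le_iff_ne_zero.mpr hne)
  rw [h1]
  rfl

theorem one_le_dim_stalk {X : Scheme.{u}} (𝓘 : X.IdealSheafData)
    (hY : BlowUp.IsEffCartierIdeal 𝓘) (y : X) (hy : y ∈ (𝓘.support : Set X)) :
    (1 : WithBot ℕ∞) ≤ ringKrullDim (X.presheaf.stalk y) := by
  obtain ⟨W, hyW, g, hgnzd, hg⟩ := hY y
  rw [Groth.Agent.Lib.DimIneqComponent.ringKrullDim_stalk_eq_height W.2 y hyW]
  have hgP : g ∈ (W.2.primeIdealOf ⟨y, hyW⟩).asIdeal :=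
    (mem_support_iff_mem_primeIdealOf 𝓘 W g hg y hyW).mp hy
  have hne : (W.2.primeIdealOf ⟨y, hyW⟩).asIdeal.height ≠ 0 := by
    haveI := (W.2.primeIdealOf ⟨y, hyW⟩).isPrime
    rw [Ne, Ideal.height_eq_zero_iff]
    intro hmin0
    exact Set.disjoint_left.mp (Ideal.disjoint_nonZeroDivisors_of_mem_minimalPrimes hmin0) hgP hgnzd
  have h1 : (1 : ℕ∞) ≤ (W.2.primeIdealOf ⟨y, hyW⟩).asIdeal.height :=
    Order.one_le_iff_ne_zero.mpr hne
  exact_mod_cast h1

theorem iInf_dim_support_eq_one {X : Scheme.{u}} [IsLocallyNoetherian X] (𝓘 : X.IdealSheafData)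
    (hY : BlowUp.IsEffCartierIdeal 𝓘) (ζ : X) (hζ : ζ ∈ (𝓘.support : Set X)) :
    (⨅ y : (𝓘.support : Set X), ringKrullDim (X.presheaf.stalk y.1)) = 1 := by
  apply le_antisymm
  · -- a minimal prime over the local equation
    obtain ⟨W, hζW, g, hgnzd, hg⟩ := hY ζ
    haveI : IsNoetherianRing Γ(X, W.1) := IsLocallyNoetherian.component_noetherian W
    have hgP : g ∈ (W.2.primeIdealOf ⟨ζ, hζW⟩).asIdeal :=
      (mem_support_iff_mem_primeIdealOf 𝓘 W g hg ζ hζW).mp hζ
    haveI := (W.2.primeIdealOf ⟨ζ, hζW⟩).isPrime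
    obtain ⟨P, hPmin, hPle⟩ := Ideal.exists_minimalPrimes_le
      (show Ideal.span {g} ≤ (W.2.primeIdealOf ⟨ζ, hζW⟩).asIdeal by
        rw [Ideal.span_singleton_le_iff_mem]; exact hgP)
    haveI hPprime : P.IsPrime := hPmin.1.1
    let Q : Spec Γ(X, W.1) := ⟨P, hPprime⟩
    have hQW : W.2.fromSpec Q ∈ W.1 := by
      have h1 : W.2.fromSpec Q ∈ W.2.fromSpec.opensRange := ⟨Q, rfl⟩
      rwa [W.2.opensRange_fromSpec] at h1
    have hQeq : W.2.primeIdealOf ⟨W.2.fromSpec Q, hQW⟩ = Q := by
      apply W.2.fromSpec.isOpenEmbedding.injective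
      rw [W.2.fromSpec_primeIdealOf]
    have hy : W.2.fromSpec Q ∈ (𝓘.support : Set X) := by
      rw [mem_support_iff_mem_primeIdealOf 𝓘 W g hg _ hQW, hQeq]
      exact (Ideal.span_singleton_le_iff_mem _).mp hPmin.1.2
    refine iInf_le_of_le ⟨W.2.fromSpec Q, hy⟩ ?_
    show ringKrullDim (X.presheaf.stalk (W.2.fromSpec Q)) ≤ 1
    rw [Groth.Agent.Lib.DimIneqComponent.ringKrullDim_stalk_eq_height W.2 _ hQW, hQeq]
    have hle : P.height ≤ 1 :=
      Ideal.height_le_one_of_isPrincipal_of_mem_minimalPrimes (Ideal.span {g}) _ hPmin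
    exact_mod_cast hle
  · exact le_iInf fun y => one_le_dim_stalk 𝓘 hY y.1 y.2


/-- Let X be a locally Noetherian scheme, Y an effective Cartier divisor on X (a quasi-coherent ideal
sheaf which, near every point, is generated on some affine open by one nonzerodivisor; Y is its
support) and Z a closed integral subscheme (a closed immersion i from an integral scheme with
generic point ξ). Assume X irreducible with all local rings catenary (the first of the two printed
sufficient conditions), and assume that the inverse image ideal sheaf of Y on Z is the ideal of an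
effective Cartier divisor on Z. Then Y and Z intersect properly: every point ζ of Y ∩ Z that is
maximal under generization inside Y ∩ Z satisfies dim O_{X,ζ} = codim(Y,X) + codim(Z,X), where
codim(Y,X) is the infimum over y ∈ Y of dim O_{X,y} and codim(Z,X) = dim O_{X,i(ξ)}. (The published
statement also has a second sufficient condition, X biequidimensional, and a fourth equivalent
condition, vanishing of the higher Tor sheaves of O_Y against O_Z; neither is included in this row.) -/
theorem result {X Z : Scheme.{u}}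
    [IsLocallyNoetherian X] [IrreducibleSpace ↥X] (hcat : ∀ x : ↥X, CAlg.IsCatenary ↑(X.presheaf.stalk x))
    (𝓘 : X.IdealSheafData) (hY : BlowUp.IsEffCartierIdeal 𝓘)
    (i : Z ⟶ X) [IsClosedImmersion i] [IsIntegral Z] (hc : BlowUp.IsEffCartierIdeal (𝓘.comap i)) :
    (∀ ζ : ↥X, ζ ∈ (𝓘.support : Set ↥X) ∩ Set.range i.base →
        (∀ ζ' : ↥X, ζ' ∈ (𝓘.support : Set ↥X) ∩ Set.range i.base → ζ' ⤳ ζ → ζ' = ζ) →
        ringKrullDim ↑(X.presheaf.stalk ζ) =
          (⨅ y : (𝓘.support : Set ↥X), ringKrullDim ↑(X.presheaf.stalk y.1)) +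
            ringKrullDim ↑(X.presheaf.stalk (i (genericPoint ↥Z)))) := by
  rintro ζ ⟨hζY, z, rfl⟩ hmax
  haveI : IsLocallyNoetherian Z := LocallyOfFiniteType.isLocallyNoetherian i
  rw [iInf_dim_support_eq_one 𝓘 hY _ hζY]
  have hsupp : ∀ z' : Z, z' ∈ ((𝓘.comap i).support : Set Z) ↔ i z' ∈ (𝓘.support : Set X) := by
    intro z'
    rw [Scheme.IdealSheafData.support_comap]
    rfl
  have hz : z ∈ ((𝓘.comap i).support : Set Z) := (hsupp z).mpr hζY
  have hmaxZ : ∀ z' : Z, z' ∈ ((𝓘.comap i).support : Set Z) → z' ⤳ z → z' = z := by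
    intro z' hz' hsp
    have h1 : i z' ∈ (𝓘.support : Set X) := (hsupp z').mp hz'
    have := hmax (i z') ⟨h1, z', rfl⟩ (hsp.map i.continuous)
    exact i.isClosedEmbedding.injective this
  have hB := dim_stalk_eq_one (𝓘.comap i) hc z hz hmaxZ
  have hsp : i (genericPoint Z) ⤳ i z := (genericPoint_specializes z).map i.continuous
  have hker := ker_stalkMap_eq_genPrime i z hsp
  have hsurj : Function.Surjective (i.stalkMap z).hom := i.stalkMap_surjective z
  have hdimq : ringKrullDim (X.presheaf.stalk (i z) ⧸ Groth.Agent.Lib.LocFact82.genPrime X hsp) = 1 := by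
    rw [← hker, ringKrullDim_eq_of_ringEquiv (RingHom.quotientKerEquivOfSurjective hsurj), hB]
  have hform := Groth.Agent.Lib.EquidimCat33.height_add_ringKrullDim_quotient
    (stalk_isEquidim X (i z)) (hcat (i z))
    ⟨Groth.Agent.Lib.LocFact82.genPrime X hsp, inferInstance⟩
  rw [← Groth.Agent.Lib.LocFact82.ringKrullDim_stalk_eq_height X hsp] at hform
  rw [← hform]
  change _ + ringKrullDim (X.presheaf.stalk (i z) ⧸ Groth.Agent.Lib.LocFact82.genPrime X hsp) = _
  rw [hdimq, add_comm]

end Groth.Agent.S14119
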