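import Groth.Statements.S5223
import Mathlib.AlgebraicGeometry.Morphisms.Flat
import Mathlib.AlgebraicGeometry.Stalk
import Mathlib.AlgebraicGeometry.PullbackCarrier
import Mathlib.RingTheory.Flat.FaithfullyFlat.Algebra
import Mathlib.RingTheory.RingHom.FaithfullyFlat

set_option autoImplicit false
open CategoryTheory CategoryTheory.Limits AlgebraicGeometry
universe u
open GrpQ

namespace Groth.Agent.S5223

open TensorProduct in
/-- Flatness descends along a faithfully flat map: if `A → B → C` with `C` faithfully flat over `B`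
and flat over `A`, then `B` is flat over `A`. -/
theorem flat_of_faithfullyFlat_of_flat (A B C : Type*) [CommRing A] [CommRing B] [CommRing C]
    [Algebra A B] [Algebra B C] [Algebra A C] [IsScalarTower A B C] [Module.FaithfullyFlat B C]
    [Module.Flat A C] : Module.Flat A B := by
  rw [Module.Flat.iff_lTensor_preserves_injective_linearMap]
  intro N P _ _ _ _ f hf
  let eN := AlgebraTensorModule.cancelBaseChange A B C C N
  let eP := AlgebraTensorModule.cancelBaseChange A B C C P
  have key : ∀ t, eP (LinearMap.lTensor C (f.baseChange B) t) = f.lTensor C (eN t) := by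
    intro t
    induction t using TensorProduct.induction_on with
    | zero => simp
    | tmul c y =>
      induction y using TensorProduct.induction_on with
      | zero => simp
      | tmul b n => simp [eP, eN]
      | add y z hy hz => simp only [tmul_add, map_add, hy, hz]
    | add s t hs ht => simp only [map_add, hs, ht]
  have hinj : Function.Injective (f.lTensor C) :=
    Module.Flat.lTensor_preserves_injective_linearMap f hf
  change Function.Injective (f.baseChange B)
  rw [← Module.FaithfullyFlat.lTensor_injective_iff_injective B C]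
  intro s t hst
  apply eN.injective
  apply hinj
  rw [← key, ← key, hst]

theorem ringHom_flat_of_comp {A B C : Type*} [CommRing A] [CommRing B] [CommRing C]
    [IsLocalRing B] [IsLocalRing C] (f : A →+* B) (g : B →+* C) [IsLocalHom g] (hg : g.Flat)
    (hgf : (g.comp f).Flat) : f.Flat := by
  algebraize [f, g, g.comp f]
  have : IsLocalHom (algebraMap B C) := ‹IsLocalHom g›
  have : Module.FaithfullyFlat B C := Module.FaithfullyFlat.of_flat_of_isLocalHom
  exact flat_of_faithfullyFlat_of_flat A B C

theorem flat_fromSpecStalk (X : Scheme.{u}) (x : X) : Flat (X.fromSpecStalk x) := by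
  obtain ⟨_, ⟨U, hU, rfl⟩, hxU, -⟩ := X.isBasis_affineOpens.exists_subset_of_mem_open
    (Set.mem_univ x) isOpen_univ
  rw [← hU.fromSpecStalk_eq_fromSpecStalk hxU, IsAffineOpen.fromSpecStalk]
  have h1 : Flat (Spec.map (X.presheaf.germ U x hxU)) := by
    rw [HasRingHomProperty.Spec_iff (P := @Flat)]
    let := X.presheaf.algebra_section_stalk ⟨x, hxU⟩
    have := hU.isLocalization_stalk ⟨x, hxU⟩
    exact IsLocalization.flat (X.presheaf.stalk x) (hU.primeIdealOf ⟨x, hxU⟩).asIdeal.primeCompl
  infer_instance

theorem flat_stalkMap_of_eq {X Y : Scheme.{u}} (f : X ⟶ Y) {x x' : X} (h : x = x')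
    (hf : (f.stalkMap x).hom.Flat) : (f.stalkMap x').hom.Flat := by
  subst h; exact hf

/-- If `a ≫ b = c` and `c` is flat, `a` is flat, then the stalk map of `b` at `a x` is flat. -/
theorem flat_stalkMap_of_comp {X Y Z : Scheme.{u}} (a : X ⟶ Y) (b : Y ⟶ Z) (c : X ⟶ Z)
    (hc : a ≫ b = c) (x : X) (ha : (a.stalkMap x).hom.Flat) (hcx : (c.stalkMap x).hom.Flat) :
    (b.stalkMap (a.base x)).hom.Flat := by
  subst hc
  refine ringHom_flat_of_comp (b.stalkMap (a.base x)).hom (a.stalkMap x).hom ha ?_
  have h1 := hcx
  rw [Scheme.Hom.stalkMap_comp] at h1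
  exact h1

/-- In a cartesian square of schemes `F₂ = F₁ ×_{X₀} X₁` whose bottom map `u : X₁ ⟶ X₀` is flat, the
base-changed map `d' : F₂ ⟶ X₁` is flat at a point `x` if and only if `d : F₁ ⟶ X₀` is flat at the
image of `x` in `F₁`. -/
theorem result {F₂ F₁ X₁ X₀ : Scheme.{u}}
    {v : F₂ ⟶ F₁} {d' : F₂ ⟶ X₁} {d : F₁ ⟶ X₀} {u : X₁ ⟶ X₀}
    (h : IsPullback v d' d u) [Flat u] (x : F₂) :
    (d'.stalkMap x).hom.Flat ↔ (d.stalkMap (v.base x)).hom.Flat := by
  constructor
  · intro hd'
    have hv : Flat v := MorphismProperty.of_isPullback (P := @Flat) h.flip inferInstance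
    refine flat_stalkMap_of_comp v d (d' ≫ u) h.w x (Flat.stalkMap v x) ?_
    rw [Scheme.Hom.stalkMap_comp]
    exact RingHom.Flat.comp (Flat.stalkMap u (d'.base x)) hd'
  · intro hd
    let j := F₁.fromSpecStalk (v.base x)
    have hj : Flat j := flat_fromSpecStalk F₁ (v.base x)
    have hjd : Flat (j ≫ d) := by
      rw [← Scheme.SpecMap_stalkMap_fromSpecStalk]
      have h1 : Flat (Spec.map (d.stalkMap (v.base x))) := by
        rw [HasRingHomProperty.Spec_iff (P := @Flat)]
        exact hd
      have h2 := flat_fromSpecStalk X₀ (d.base (v.base x))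
      infer_instance
    let w : pullback (j ≫ d) u ⟶ F₂ :=
      h.lift (pullback.fst (j ≫ d) u ≫ j) (pullback.snd (j ≫ d) u)
        (by rw [Category.assoc, pullback.condition])
    have hw1 : w ≫ v = pullback.fst (j ≫ d) u ≫ j := h.lift_fst _ _ _
    have hw2 : w ≫ d' = pullback.snd (j ≫ d) u := h.lift_snd _ _ _
    have hbig : IsPullback (w ≫ d') (pullback.fst (j ≫ d) u) u (j ≫ d) := by
      rw [hw2]
      exact (IsPullback.of_hasPullback (j ≫ d) u).flip
    have hsq : IsPullback w (pullback.fst (j ≫ d) u) v j :=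
      IsPullback.of_right hbig hw1 h.flip
    have hwf : Flat w := MorphismProperty.of_isPullback (P := @Flat) hsq.flip hj
    obtain ⟨x', hx', -⟩ := Scheme.exists_preimage_of_isPullback hsq x
      (IsLocalRing.closedPoint _) (by
        change v.base x = (F₁.fromSpecStalk (v.base x)).base _
        rw [Scheme.fromSpecStalk_closedPoint])
    refine flat_stalkMap_of_eq d' hx' ?_
    exact flat_stalkMap_of_comp w d' _ hw2 x' (Flat.stalkMap w x') (Flat.stalkMap _ x')

end Groth.Agent.S5223
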