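import Groth.Statements.S9679
import Groth.Agent.S9678
import Groth.Agent.Lib.QcSpecialize

set_option autoImplicit false
universe u
open CategoryTheory CategoryTheory.Limits AlgebraicGeometry
open Mor

namespace Groth.Agent.S9679

open Groth.Agent.S9678

section Top

variable {α : Type*} [TopologicalSpace α]

/-- A dense open subset contains the generic points of the irreducible components (when there are
finitely many of them). -/
theorem mem_of_dense_of_isOpen (hfin : (irreducibleComponents α).Finite) {U : Set α}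
    (hU : IsOpen U) (hd : Dense U) {y : α} (hy : closure {y} ∈ irreducibleComponents α) :
    y ∈ U := by
  obtain ⟨z, hz, hzU⟩ := hd.inter_open_nonempty _ (isOpen_otherCompl hfin y)
    ⟨y, self_mem_otherCompl hy⟩
  exact (specializes_of_mem_otherCompl hz).mem_open hU hzU

/-- Generic points of irreducible components are maximal for specialization. -/
theorem eq_of_specializes_generic [T0Space α] {w y : α}
    (hy : closure {y} ∈ irreducibleComponents α) (h : w ⤳ y) : w = y := by
  have hle : closure {y} ⊆ closure {w} :=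
    isClosed_closure.closure_subset_iff.2
      (Set.singleton_subset_iff.2 (specializes_iff_mem_closure.1 h))
  have heq : closure {y} = closure {w} := hy.eq_of_le isIrreducible_singleton.closure hle
  exact IsGenericPoint.eq (S := closure {w}) rfl heq

end Top

set_option backward.isDefEq.respectTransparency false in
/-- If `x ⤳ t`, `f t ⤳ f x` and the stalk map at `x` is an isomorphism then `x = t`. -/
theorem eq_of_specializes_of_isIso_stalkMap {X Y : Scheme.{u}} (f : X ⟶ Y) {x t : X}
    (h : x ⤳ t) (h' : f t ⤳ f x) [IsIso (f.stalkMap x)] : x = t := by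
  have hcomp := Scheme.Hom.stalkSpecializes_stalkMap f x t h
  have hiso1 : IsIso (Y.presheaf.stalkSpecializes (f.base.hom.map_specializes h)) := by
    refine ⟨Y.presheaf.stalkSpecializes h', ?_, ?_⟩ <;>
    · rw [TopCat.Presheaf.stalkSpecializes_comp]
      exact TopCat.Presheaf.stalkSpecializes_refl _ _
  have hiso2 : IsIso (f.stalkMap t ≫ X.presheaf.stalkSpecializes h) := by
    rw [← hcomp]
    infer_instance
  have hsurj : Function.Surjective (X.presheaf.stalkSpecializes h).hom := by
    have hb := (ConcreteCategory.isIso_iff_bijective _).1 hiso2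
    intro a
    obtain ⟨b, hb⟩ := hb.2 a
    exact ⟨f.stalkMap t b, hb⟩
  have hloc : IsLocalHom (X.presheaf.stalkSpecializes h).hom := IsLocalHom.of_surjective _ hsurj
  have h1 : (Spec.map (X.presheaf.stalkSpecializes h) ≫ X.fromSpecStalk t)
      (IsLocalRing.closedPoint (X.presheaf.stalk x)) = x := by
    rw [Scheme.SpecMap_stalkSpecializes_fromSpecStalk h, Scheme.fromSpecStalk_closedPoint]
  rw [Scheme.Hom.comp_apply, AlgebraicGeometry.Spec_closedPoint,
    Scheme.fromSpecStalk_closedPoint] at h1
  exact h1.symm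

/-- Closure of the image of a closed set under a quasi-compact morphism: every point is a
specialization of a point of the image. -/
theorem exists_specializes_of_mem_closure_image {X Y : Scheme.{u}} (f : X ⟶ Y) [QuasiCompact f]
    {Z : Set X} (hZ : IsClosed Z) {y : Y} (hy : y ∈ closure (f '' Z)) :
    ∃ z ∈ Z, f z ⤳ y := by
  let I := Scheme.IdealSheafData.vanishingIdeal ⟨Z, hZ⟩
  have hr : Set.range (I.subschemeι ≫ f).base = f '' Z := by
    rw [Scheme.Hom.comp_base, TopCat.coe_comp, Set.range_comp, I.range_subschemeι]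
    rfl
  rw [← hr] at hy
  obtain ⟨a, ha⟩ :=
    Groth.Agent.Lib.QcSpecialize.exists_specializes_of_mem_closure_range (I.subschemeι ≫ f) y hy
  refine ⟨I.subschemeι a, ?_, ha⟩
  have : I.subschemeι a ∈ Set.range I.subschemeι := ⟨a, rfl⟩
  rw [I.range_subschemeι] at this
  exact this

set_option backward.isDefEq.respectTransparency false in
/-- If `f` restricts to an isomorphism `U ⟶ V` and `V' ≤ V` satisfies `f ⁻¹ V' ≤ U` then
`f ⁻¹ V' ⟶ V'` is an isomorphism. -/
theorem isIso_morphismRestrict_of_resLE {X Y : Scheme.{u}} (f : X ⟶ Y) (U : X.Opens)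
    (V : Y.Opens) (hUV : U ≤ f ⁻¹ᵁ V) [IsIso (f.resLE V U hUV)] (V' : Y.Opens) (hV' : V' ≤ V)
    (hU' : f ⁻¹ᵁ V' ≤ U) : IsIso (f ∣_ V') := by
  have hoi : IsOpenImmersion (U.ι ≫ f) := by
    rw [← Scheme.Hom.resLE_comp_ι f hUV]
    infer_instance
  have h1 : IsOpenImmersion ((f ∣_ V') ≫ V'.ι) := by
    rw [morphismRestrict_ι, ← X.homOfLE_ι hU', Category.assoc]
    infer_instance
  have h2 : IsOpenImmersion (f ∣_ V') := IsOpenImmersion.of_comp _ V'.ι
  rw [isIso_iff_isOpenImmersion_and_surjective]
  refine ⟨h2, ⟨fun v => ?_⟩⟩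
  obtain ⟨u, hu⟩ := (ConcreteCategory.bijective_of_isIso (f.resLE V U hUV).base).2 ⟨v.1, hV' v.2⟩
  have hfu : f u.1 = v.1 := by
    have := congrArg (fun w : V => (w.1 : Y)) hu
    simpa using this
  refine ⟨⟨u.1, show f u.1 ∈ V' from hfu ▸ v.2⟩, ?_⟩
  apply Subtype.ext
  refine Eq.trans ?_ hfu
  exact congrArg (fun g : (f ⁻¹ᵁ V').toScheme ⟶ Y => g ⟨u.1, show f u.1 ∈ V' from hfu ▸ v.2⟩)
    (morphismRestrict_ι f V')

set_option backward.isDefEq.respectTransparency false in
theorem main {X Y : Scheme.{u}} (f : X ⟶ Y)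
    (hXfin : (irreducibleComponents ↥X).Finite) (hYfin : (irreducibleComponents ↥Y).Finite)
    (hbij : Set.BijOn (fun x : X => f.base x) {x : X | closure {x} ∈ irreducibleComponents ↥X}
      {y : Y | closure {y} ∈ irreducibleComponents ↥Y})
    (hiso : ∀ x : X, closure {x} ∈ irreducibleComponents ↥X → IsIso (f.stalkMap x))
    (hf₁ : QuasiCompact f ∨ IsSeparated f)
    (hf₂ : (LocallyOfFiniteType f ∧ IsReduced Y) ∨ LocallyOfFinitePresentation f) :
    ∃ V : Y.Opens, Dense (V : Set ↥Y) ∧ IsIso (f ∣_ V) := by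
  obtain ⟨U, V, hUV, hdU, hdV, hr⟩ := Groth.Agent.S9678.result f hXfin hYfin hbij hiso hf₂
  have hgenU : ∀ x : X, closure {x} ∈ irreducibleComponents ↥X → x ∈ U := fun x hx =>
    mem_of_dense_of_isOpen hXfin U.2 hdU hx
  have hgenV : ∀ y : Y, closure {y} ∈ irreducibleComponents ↥Y → y ∈ V := fun y hy =>
    mem_of_dense_of_isOpen hYfin V.2 hdV hy
  have hfib : ∀ t : X, closure {f t} ∈ irreducibleComponents ↥Y → t ∈ U := by
    intro t ht
    obtain ⟨x₁, hx₁, hsp⟩ := exists_generic_specializes t
    have h1 : f x₁ = f t := eq_of_specializes_generic ht (hsp.map f.continuous)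
    have := hiso x₁ hx₁
    have h2 : x₁ = t := eq_of_specializes_of_isIso_stalkMap f hsp (h1 ▸ specializes_rfl)
    exact h2 ▸ hgenU x₁ hx₁
  rcases hf₁ with hqc | hsep
  · have hZ : IsClosed ((U : Set X)ᶜ) := U.2.isClosed_compl
    let V' : Y.Opens := V ⊓ ⟨(closure (f '' ((U : Set X)ᶜ)))ᶜ, isClosed_closure.isOpen_compl⟩
    refine ⟨V', dense_of_genericPoints_subset fun y hy => ⟨hgenV y hy, ?_⟩, ?_⟩
    · intro hmem
      obtain ⟨z, hzZ, hzy⟩ := exists_specializes_of_mem_closure_image f hZ hmem
      have h3 : f z = y := eq_of_specializes_generic hy hzy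
      exact hzZ (hfib z (h3 ▸ hy))
    · refine isIso_morphismRestrict_of_resLE f U V hUV V' inf_le_left ?_
      intro a ha
      by_contra haU
      exact ha.2 (subset_closure ⟨a, haU, rfl⟩)
  · refine ⟨V, hdV, isIso_morphismRestrict_of_resLE f U V hUV V le_rfl ?_⟩
    let j : U.toScheme ⟶ (f ⁻¹ᵁ V).toScheme := X.homOfLE hUV
    let s : V.toScheme ⟶ (f ⁻¹ᵁ V).toScheme := inv (f.resLE V U hUV) ≫ j
    have hs : s ≫ (f ∣_ V) = 𝟙 _ := by
      change (inv (f.resLE V U hUV) ≫ j) ≫ (f ∣_ V) = 𝟙 _
      rw [Category.assoc]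
      exact IsIso.inv_hom_id (f.resLE V U hUV)
    have hci : IsClosedImmersion s := by
      have : IsClosedImmersion (s ≫ (f ∣_ V)) := by rw [hs]; infer_instance
      exact IsClosedImmersion.of_comp s (f ∣_ V)
    have hcl : IsClosed (Set.range s) := s.isClosedEmbedding.isClosed_range
    have hrange : Set.range s = (f ⁻¹ᵁ V).ι ⁻¹' (U : Set X) := by
      have hsurj : Function.Surjective (inv (f.resLE V U hUV)) :=
        (ConcreteCategory.bijective_of_isIso (inv (f.resLE V U hUV)).base).2
      have e1 : Set.range s = Set.range j := by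
        change Set.range (inv (f.resLE V U hUV) ≫ j) = _
        rw [Scheme.Hom.comp_base, TopCat.coe_comp, hsurj.range_comp]
      rw [e1]
      have e2 := congrArg (fun W : (f ⁻¹ᵁ V).toScheme.Opens => (W : Set (f ⁻¹ᵁ V).toScheme))
        (X.opensRange_homOfLE hUV)
      exact e2
    have hd : Dense ((f ⁻¹ᵁ V).ι ⁻¹' (U : Set X)) :=
      hdU.preimage (f ⁻¹ᵁ V).ι.isOpenEmbedding.isOpenMap
    have huniv : (f ⁻¹ᵁ V).ι ⁻¹' (U : Set X) = Set.univ := by
      rw [← hrange] at hd ⊢
      rw [← hcl.closure_eq]
      exact hd.closure_eq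
    intro a ha
    have hmem : (⟨a, ha⟩ : (f ⁻¹ᵁ V)) ∈ (f ⁻¹ᵁ V).ι ⁻¹' (U : Set X) := by
      rw [huniv]; trivial
    exact hmem


/-- Suppose X and Y have finitely many irreducible components and f : X ⟶ Y is birational, i.e. f
restricts to a bijection between the generic points of the irreducible components of X and those of
Y and induces an isomorphism of local rings at every generic point of an irreducible component of X.
Assume that f is quasi-compact or separated, and moreover that f is locally of finite presentation,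
or else Y is reduced and f is locally of finite type. Under these hypotheses, some dense open V ⊆ Y
has the property that the restriction f⁻¹(V) ⟶ V of f is an isomorphism. -/
theorem result {X Y : Scheme.{u}} (f : X ⟶ Y)
    (hXfin : (irreducibleComponents ↥X).Finite) (hYfin : (irreducibleComponents ↥Y).Finite)
    (hbij : Set.BijOn (fun x : X => f.base x) {x : X | closure {x} ∈ irreducibleComponents ↥X}
      {y : Y | closure {y} ∈ irreducibleComponents ↥Y})
    (hiso : ∀ x : X, closure {x} ∈ irreducibleComponents ↥X → IsIso (f.stalkMap x))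
    (hf₁ : QuasiCompact f ∨ IsSeparated f)
    (hf₂ : (LocallyOfFiniteType f ∧ IsReduced Y) ∨ LocallyOfFinitePresentation f) :
    ∃ V : Y.Opens, Dense (V : Set ↥Y) ∧ IsIso (f ∣_ V) :=
  main f hXfin hYfin hbij hiso hf₁ hf₂

end Groth.Agent.S9679
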