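import Groth.Statements.S9677
import Groth.Agent.S9679

set_option autoImplicit false
universe u
open CategoryTheory CategoryTheory.Limits AlgebraicGeometry
open Mor

namespace Groth.Agent.S9677

open Groth.Agent.S9678 Groth.Agent.S9679

/-- The stalk map of `Spec 𝒪_{X,x} ⟶ X` at the closed point is an isomorphism. -/
theorem isIso_stalkMap_fromSpecStalk_closedPoint {X : Scheme.{u}} (x : X) :
    IsIso ((X.fromSpecStalk x).stalkMap (IsLocalRing.closedPoint (X.presheaf.stalk x))) := by
  have h := Scheme.stalkClosedPointTo_fromSpecStalk x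
  rw [Scheme.stalkClosedPointTo] at h
  have h2 : (X.fromSpecStalk x).stalkMap (IsLocalRing.closedPoint (X.presheaf.stalk x)) =
      (X.presheaf.stalkCongr (by rw [Scheme.fromSpecStalk_closedPoint]; rfl)).hom ≫
        (stalkClosedPointIso (X.presheaf.stalk x)).inv := by
    rw [← h, Category.assoc, Iso.hom_inv_id, Category.comp_id]
  rw [h2]
  infer_instance

set_option backward.isDefEq.respectTransparency false in
theorem main {X Y : Scheme.{u}} (f : X ⟶ Y)
    (_hXfin : (irreducibleComponents ↥X).Finite) (_hYfin : (irreducibleComponents ↥Y).Finite)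
    (hbij : Set.BijOn (fun x : X => f.base x) {x : X | closure {x} ∈ irreducibleComponents ↥X}
      {y : Y | closure {y} ∈ irreducibleComponents ↥Y})
    (hiso : ∀ x : X, closure {x} ∈ irreducibleComponents ↥X → IsIso (f.stalkMap x))
    (y : Y) (hy : closure {y} ∈ irreducibleComponents ↥Y) :
    IsIso (pullback.snd f (Y.fromSpecStalk y)) := by
  obtain ⟨x, hx, hxy⟩ := hbij.surjOn hy
  have hxy' : f x = y := hxy
  subst hxy'
  have hφ := hiso x hx
  -- the fibre of `f` over `f x` is `{x}`
  have hfib : ∀ t : X, f t = f x → t = x := by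
    intro t ht
    obtain ⟨x₁, hx₁, hsp⟩ := exists_generic_specializes t
    have h1 : f x₁ = f t := eq_of_specializes_generic (ht ▸ hy) (hsp.map f.continuous)
    have := hiso x₁ hx₁
    have h2 : x₁ = t := eq_of_specializes_of_isIso_stalkMap f hsp (h1 ▸ specializes_rfl)
    rw [← h2]
    exact hbij.injOn hx₁ hx (h1.trans ht)
  -- the range of `Spec 𝒪_{Y, f x} ⟶ Y` is `{f x}`
  have hrange : Set.range (Y.fromSpecStalk (f x)) ⊆ {f x} := by
    rw [Scheme.range_fromSpecStalk]
    intro w hw
    exact eq_of_specializes_generic hy hw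
  let c' : Spec (Y.presheaf.stalk (f x)) ⟶ X := inv (Spec.map (f.stalkMap x)) ≫ X.fromSpecStalk x
  have hc' : c' ≫ f = 𝟙 _ ≫ Y.fromSpecStalk (f x) := by
    rw [Category.assoc, ← Scheme.SpecMap_stalkMap_fromSpecStalk, IsIso.inv_hom_id_assoc,
      Category.id_comp]
  have hσ : pullback.lift c' (𝟙 _) hc' ≫ pullback.snd f (Y.fromSpecStalk (f x)) = 𝟙 _ :=
    pullback.lift_snd _ _ _
  have hσfst : pullback.lift c' (𝟙 _) hc' ≫ pullback.fst f (Y.fromSpecStalk (f x)) = c' :=
    pullback.lift_fst _ _ _
  -- the pullback has at most one point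
  have hsub : Subsingleton ↥(pullback f (Y.fromSpecStalk (f x))) := by
    refine ⟨fun p₁ p₂ => (pullback.fst f (Y.fromSpecStalk (f x))).isEmbedding.injective ?_⟩
    have hp : ∀ p, pullback.fst f (Y.fromSpecStalk (f x)) p = x := by
      intro p
      apply hfib
      have hmem : pullback.fst f (Y.fromSpecStalk (f x)) p ∈
          Set.range (pullback.fst f (Y.fromSpecStalk (f x))) := ⟨p, rfl⟩
      rw [Scheme.Pullback.range_fst] at hmem
      exact hrange hmem
    rw [hp p₁, hp p₂]
  suffices hσiso : IsIso (pullback.lift c' (𝟙 _) hc') by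
    have e : pullback.snd f (Y.fromSpecStalk (f x)) = inv (pullback.lift c' (𝟙 _) hc') := by
      rw [← cancel_epi (pullback.lift c' (𝟙 _) hc'), hσ, IsIso.hom_inv_id]
    rw [e]
    infer_instance
  rw [isIso_iff_isOpenImmersion_and_surjective]
  have hinj : Function.Injective (pullback.lift c' (𝟙 _) hc') := by
    intro a b hab
    have := congrArg (pullback.snd f (Y.fromSpecStalk (f x))) hab
    rw [← Scheme.Hom.comp_apply, ← Scheme.Hom.comp_apply, hσ] at this
    exact this
  refine ⟨?_, ⟨fun p => ?_⟩⟩
  · rw [IsOpenImmersion.iff_isIso_stalkMap]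
    refine ⟨.of_continuous_injective_isOpenMap (Scheme.Hom.continuous _) hinj
      (fun s _ => isOpen_discrete _), fun t => ?_⟩
    -- stalk maps
    have hcomp := Scheme.Hom.stalkMap_comp (pullback.lift c' (𝟙 _) hc')
      (pullback.fst f (Y.fromSpecStalk (f x))) t
    have hiso1 : IsIso ((pullback.lift c' (𝟙 _) hc' ≫
        pullback.fst f (Y.fromSpecStalk (f x))).stalkMap t) := by
      rw [hσfst]
      change IsIso ((inv (Spec.map (f.stalkMap x)) ≫ X.fromSpecStalk x).stalkMap t)
      rw [Scheme.Hom.stalkMap_comp]
      have key : ∀ s : Spec (X.presheaf.stalk x),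
          s = IsLocalRing.closedPoint (X.presheaf.stalk x) →
            IsIso ((X.fromSpecStalk x).stalkMap s) := by
        rintro _ rfl
        exact isIso_stalkMap_fromSpecStalk_closedPoint x
      have hsub' : Subsingleton ↥(Spec (X.presheaf.stalk x)) := by
        refine ⟨fun s₁ s₂ => ?_⟩
        have hh : Function.Injective (Spec.map (f.stalkMap x)) :=
          (ConcreteCategory.bijective_of_isIso (Spec.map (f.stalkMap x)).base).1
        apply hh
        apply (Y.fromSpecStalk (f x)).isEmbedding.injective
        rw [hrange ⟨_, rfl⟩, hrange ⟨_, rfl⟩]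
      have := key (inv (Spec.map (f.stalkMap x)) t) (Subsingleton.elim _ _)
      infer_instance
    rw [hcomp] at hiso1
    have hbij' := (ConcreteCategory.isIso_iff_bijective _).1 hiso1
    have hsurj1 := (pullback.fst f (Y.fromSpecStalk (f x))).stalkMap_surjective
      (pullback.lift c' (𝟙 _) hc' t)
    have hinj1 : Function.Injective ((pullback.fst f (Y.fromSpecStalk (f x))).stalkMap
        (pullback.lift c' (𝟙 _) hc' t)) := by
      intro a b hab
      apply hbij'.1
      rw [CommRingCat.comp_apply, CommRingCat.comp_apply]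
      exact congrArg _ hab
    have hiso2 : IsIso ((pullback.fst f (Y.fromSpecStalk (f x))).stalkMap
        (pullback.lift c' (𝟙 _) hc' t)) :=
      (ConcreteCategory.isIso_iff_bijective _).2 ⟨hinj1, hsurj1⟩
    exact IsIso.of_isIso_comp_left ((pullback.fst f (Y.fromSpecStalk (f x))).stalkMap
        (pullback.lift c' (𝟙 _) hc' t)) _
  · have t : Spec (Y.presheaf.stalk (f x)) := IsLocalRing.closedPoint _
    exact ⟨t, Subsingleton.elim _ _⟩


/-- Suppose X and Y have finitely many irreducible components and f : X ⟶ Y is birational, i.e. f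
restricts to a bijection between the generic points of the irreducible components of X and those of
Y and induces an isomorphism of local rings at every generic point of an irreducible component of X.
Then for any generic point y of a component of Y, pulling f back along the canonical map Spec
O_{Y,y} ⟶ Y gives an isomorphism onto Spec O_{Y,y}. -/
theorem result {X Y : Scheme.{u}} (f : X ⟶ Y)
    (hXfin : (irreducibleComponents ↥X).Finite) (hYfin : (irreducibleComponents ↥Y).Finite)
    (hbij : Set.BijOn (fun x : X => f.base x) {x : X | closure {x} ∈ irreducibleComponents ↥X}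
      {y : Y | closure {y} ∈ irreducibleComponents ↥Y})
    (hiso : ∀ x : X, closure {x} ∈ irreducibleComponents ↥X → IsIso (f.stalkMap x))
    (y : Y) (hy : closure {y} ∈ irreducibleComponents ↥Y) :
    IsIso (pullback.snd f (Y.fromSpecStalk y)) :=
  main f hXfin hYfin hbij hiso y hy

end Groth.Agent.S9677
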