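import Groth.Statements.S1412
import Groth.Agent.S5223
import Groth.Agent.S9677
import Mathlib.AlgebraicGeometry.Morphisms.WeaklyEtale

set_option autoImplicit false
universe u
open FlatMor

namespace Groth.Agent.S1412

section helpers
open AlgebraicGeometry CategoryTheory Limits

lemma weaklyEtale_fromSpecStalk (X : Scheme.{u}) (x : X) : WeaklyEtale (X.fromSpecStalk x) :=
  have := Groth.Agent.S5223.flat_fromSpecStalk X x
  { flat := this, flat_diagonal := inferInstance }

/-- For an algebra `A → B`, flatness of the diagonal of `Spec B → Spec A` is flatness of the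
multiplication map. -/
lemma flat_diagonal_SpecMap_iff (R S : Type u) [CommRing R] [CommRing S] [Algebra R S] :
    Flat (pullback.diagonal (Spec.map (CommRingCat.ofHom (algebraMap R S)))) ↔
      (Algebra.TensorProduct.lmul' (S := S) R).toRingHom.Flat := by
  rw [diagonal_SpecMap]
  have key : Flat (Spec.map (CommRingCat.ofHom
      (Algebra.TensorProduct.lmul' (S := S) R).toRingHom)) ↔
      (Algebra.TensorProduct.lmul' (S := S) R).toRingHom.Flat :=
    HasRingHomProperty.Spec_iff (P := @Flat)
  rw [← key]
  constructor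
  · intro h
    have : Spec.map (CommRingCat.ofHom (Algebra.TensorProduct.lmul' (S := S) R).toRingHom) =
        (Spec.map (CommRingCat.ofHom (Algebra.TensorProduct.lmul' (S := S) R).toRingHom) ≫
          (pullbackSpecIso R S S).inv) ≫ (pullbackSpecIso R S S).hom := by
      rw [Category.assoc, Iso.inv_hom_id, Category.comp_id]
    rw [this]
    infer_instance
  · intro h
    infer_instance

lemma flat_diagonal_SpecMap_iff' {R S : CommRingCat.{u}} (φ : R ⟶ S) :
    Flat (pullback.diagonal (Spec.map φ)) ↔
      (letI := φ.hom.toAlgebra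
       (Algebra.TensorProduct.lmul' (S := ↑S) ↑R).toRingHom.Flat) := by
  let _ := φ.hom.toAlgebra
  exact flat_diagonal_SpecMap_iff R S

lemma ringHom_flat_of_isIso {R S : CommRingCat.{u}} (φ : R ⟶ S) [IsIso φ] : φ.hom.Flat :=
  RingHom.Flat.of_bijective (ConcreteCategory.bijective_of_isIso φ)

set_option backward.isDefEq.respectTransparency false in
lemma pullback_map_eq {C : Type*} [Category C] [HasPullbacks C] {X' Y' X Y : C}
    (f' : X' ⟶ Y') (f : X ⟶ Y) (j : X' ⟶ X) (i : Y' ⟶ Y) (e : f' ≫ i = j ≫ f) :
    pullback.map f' f' f f j j i e e = pullback.mapDesc f' f' i ≫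
      pullback.map (f' ≫ i) (f' ≫ i) f f j j (𝟙 _)
        ((Category.comp_id _).trans e) ((Category.comp_id _).trans e) := by
  ext <;> simp

/-- The map on fibre products induced by a flat map upstairs and a monomorphism downstairs
is flat. -/
lemma flat_pullback_map {X' Y' X Y : Scheme.{u}}
    (f' : X' ⟶ Y') (f : X ⟶ Y) (j : X' ⟶ X) (i : Y' ⟶ Y) (e : f' ≫ i = j ≫ f) [Flat j]
    [Mono i] : Flat (pullback.map f' f' f f j j i e e) := by
  have h1 : IsIso (pullback.mapDesc f' f' i) :=
    (pullback_map_diagonal_isPullback f' f' i).isIso_snd_of_isIso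
  have h2 : Flat (pullback.map (f' ≫ i) (f' ≫ i) f f j j (𝟙 _)
      ((Category.comp_id _).trans e) ((Category.comp_id _).trans e)) :=
    MorphismProperty.pullbackMap (P := @Flat) ‹Flat j› ‹Flat j› e e
  rw [pullback_map_eq]
  infer_instance

set_option backward.isDefEq.respectTransparency false in
lemma diagonal_comm {C : Type*} [Category C] [HasPullbacks C] {X' Y' X Y : C}
    (f' : X' ⟶ Y') (f : X ⟶ Y) (j : X' ⟶ X) (i : Y' ⟶ Y) (e : f' ≫ i = j ≫ f) :
    j ≫ pullback.diagonal f = pullback.diagonal f' ≫ pullback.map f' f' f f j j i e e := by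
  ext <;> simp

theorem main {X Y : Scheme.{u}} (f : X ⟶ Y) :
    WeaklyEtale f ↔ ∀ x : X, (f.stalkMap x).hom.Flat ∧
      (letI := (f.stalkMap x).hom.toAlgebra
       (Algebra.TensorProduct.lmul' (S := ↑(X.presheaf.stalk x))
        (↑(Y.presheaf.stalk (f x)))).toRingHom.Flat) := by
  constructor
  · intro hf x
    refine ⟨Flat.stalkMap f x, ?_⟩
    have e : Spec.map (f.stalkMap x) ≫ Y.fromSpecStalk (f x) = X.fromSpecStalk x ≫ f :=
      Scheme.SpecMap_stalkMap_fromSpecStalk f
    have := weaklyEtale_fromSpecStalk X x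
    have := weaklyEtale_fromSpecStalk Y (f x)
    have h1 : WeaklyEtale (Spec.map (f.stalkMap x) ≫ Y.fromSpecStalk (f x)) := by
      rw [e]; infer_instance
    have h2 : WeaklyEtale (Spec.map (f.stalkMap x)) :=
      WeaklyEtale.of_comp _ (Y.fromSpecStalk (f x))
    have h3 : Flat (pullback.diagonal (Spec.map (f.stalkMap x))) := h2.flat_diagonal
    exact (flat_diagonal_SpecMap_iff' (f.stalkMap x)).mp h3
  · intro H
    have hflat : Flat f := Flat.of_stalkMap f fun x => (H x).1
    refine { flat := hflat, flat_diagonal := ?_ }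
    refine Flat.of_stalkMap _ fun z => ?_
    have hd : Flat (pullback.diagonal (Spec.map (f.stalkMap z))) :=
      (flat_diagonal_SpecMap_iff' (f.stalkMap z)).mpr (H z).2
    have e : Spec.map (f.stalkMap z) ≫ Y.fromSpecStalk (f z) = X.fromSpecStalk z ≫ f :=
      Scheme.SpecMap_stalkMap_fromSpecStalk f
    have hj := Groth.Agent.S5223.flat_fromSpecStalk X z
    have hΓ := flat_pullback_map (Spec.map (f.stalkMap z)) f (X.fromSpecStalk z)
      (Y.fromSpecStalk (f z)) e
    have comm := diagonal_comm (Spec.map (f.stalkMap z)) f (X.fromSpecStalk z)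
      (Y.fromSpecStalk (f z)) e
    have hcomp : Flat (X.fromSpecStalk z ≫ pullback.diagonal f) := by
      rw [comm]; infer_instance
    have hs := Flat.stalkMap (X.fromSpecStalk z ≫ pullback.diagonal f)
      (IsLocalRing.closedPoint (X.presheaf.stalk z))
    have hsc := Scheme.Hom.stalkMap_comp (X.fromSpecStalk z) (pullback.diagonal f)
      (IsLocalRing.closedPoint (X.presheaf.stalk z))
    rw [hsc] at hs
    have hiso := Groth.Agent.S9677.isIso_stalkMap_fromSpecStalk_closedPoint z
    refine Groth.Agent.S5223.flat_stalkMap_of_eq (pullback.diagonal f)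
      (Scheme.fromSpecStalk_closedPoint (x := z)) ?_
    have h4 : (pullback.diagonal f).stalkMap
        (X.fromSpecStalk z (IsLocalRing.closedPoint (X.presheaf.stalk z))) =
        ((pullback.diagonal f).stalkMap
          (X.fromSpecStalk z (IsLocalRing.closedPoint (X.presheaf.stalk z))) ≫
          (X.fromSpecStalk z).stalkMap (IsLocalRing.closedPoint (X.presheaf.stalk z))) ≫
        inv ((X.fromSpecStalk z).stalkMap (IsLocalRing.closedPoint (X.presheaf.stalk z))) := by
      rw [Category.assoc, IsIso.hom_inv_id, Category.comp_id]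
    rw [h4, CommRingCat.hom_comp]
    exact RingHom.Flat.comp hs (ringHom_flat_of_isIso _)

end helpers


open AlgebraicGeometry CategoryTheory Limits in
/-- A morphism of schemes f : X → Y is weakly étale (flat with flat diagonal) if and only if for every
point x of X the local ring map O_{Y, f(x)} → O_{X, x} is weakly étale, that is, flat and with flat
multiplication map O_{X,x} ⊗_{O_{Y, f(x)}} O_{X,x} → O_{X,x}. -/
theorem result {X Y : Scheme.{u}} (f : X ⟶ Y) :
    WeaklyEtale f ↔ ∀ x : X, (f.stalkMap x).hom.Flat ∧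
      (letI := (f.stalkMap x).hom.toAlgebra
       (Algebra.TensorProduct.lmul' (S := ↑(X.presheaf.stalk x)) (↑(Y.presheaf.stalk (f x)))).toRingHom.Flat) :=
  main f

end Groth.Agent.S1412
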