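import Groth.Statements.S14122
import Mathlib.Algebra.Module.Lattice
import Mathlib.LinearAlgebra.Matrix.Basis
import Mathlib.LinearAlgebra.Matrix.ToLin
import Mathlib.LinearAlgebra.StdBasis
import Mathlib.RingTheory.DiscreteValuationRing.Basic

set_option autoImplicit false
set_option linter.style.haveILetI false
set_option linter.unusedSectionVars false
universe u
open ValCrit Module

namespace Groth.Agent.S14122

section Lattice

variable (R : Type u) [CommRing R] [IsDomain R] [IsPrincipalIdealRing R]
  (K : Type u) [Field K] [Algebra R K] [IsFractionRing R K] (N : ℕ)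

/-- the standard lattice `R^N ⊂ K^N` -/
def L₀ : Submodule R (Fin N → K) := Submodule.span R (Set.range (Pi.basisFun K (Fin N)))

instance : Submodule.IsLattice K (L₀ R K N) where
  fg := Submodule.fg_span (Set.finite_range _)
  span_eq_top := by
    rw [L₀, Submodule.span_span_of_tower]
    exact (Pi.basisFun K (Fin N)).span_eq

variable {K N}

/-- the lattice generated by the translates of the standard lattice under the powers `G^i`, `i<m` -/
def Lm (G : (Fin N → K) →ₗ[K] (Fin N → K)) (m : ℕ) : Submodule R (Fin N → K) :=
  (Finset.range m).sup (fun i => (L₀ R K N).map ((G ^ i).restrictScalars R))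

theorem Lm_fg (G : (Fin N → K) →ₗ[K] (Fin N → K)) (m : ℕ) : (Lm R G m).FG := by
  unfold Lm
  apply Submodule.fg_finset_sup
  intro i _
  exact Submodule.FG.map _ (Submodule.IsLattice.fg (A := K))

theorem L₀_le_Lm (G : (Fin N → K) →ₗ[K] (Fin N → K)) (m : ℕ) (hm : 0 < m) :
    L₀ R K N ≤ Lm R G m := by
  have h := Finset.le_sup (f := fun i => (L₀ R K N).map ((G ^ i).restrictScalars R))
    (Finset.mem_range.mpr hm)
  refine le_trans ?_ h
  intro v hv
  exact ⟨v, hv, by simp⟩

theorem isLattice_Lm (G : (Fin N → K) →ₗ[K] (Fin N → K)) (m : ℕ) (hm : 0 < m) :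
    Submodule.IsLattice K (Lm R G m) :=
  Submodule.IsLattice.of_le_of_isLattice_of_fg K (L₀_le_Lm R G m hm) (Lm_fg R G m)

/-- stability under any power of `G` when `G^m = 1` -/
theorem map_Lm_le (G : (Fin N → K) →ₗ[K] (Fin N → K)) (m : ℕ) (hm : 0 < m) (hG : G ^ m = 1) :
    (Lm R G m).map (G.restrictScalars R) ≤ Lm R G m := by
  rw [Submodule.map_le_iff_le_comap]
  unfold Lm
  apply Finset.sup_le
  intro i hi
  rw [← Submodule.map_le_iff_le_comap, ← Submodule.map_comp]
  have hcomp : (G.restrictScalars R).comp ((G ^ i).restrictScalars R) =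
      (G ^ (i + 1)).restrictScalars R := by
    apply LinearMap.ext
    intro v
    simp [pow_succ', Module.End.mul_apply]
  rw [hcomp]
  rcases Nat.lt_or_ge (i + 1) m with h | h
  · exact Finset.le_sup (f := fun i => (L₀ R K N).map ((G ^ i).restrictScalars R))
      (Finset.mem_range.mpr h)
  · have : i + 1 = m := le_antisymm (Finset.mem_range.mp hi) h
    rw [this, hG]
    have h0 := Finset.le_sup (f := fun i => (L₀ R K N).map ((G ^ i).restrictScalars R))
      (Finset.mem_range.mpr hm)
    refine le_trans ?_ h0
    intro v hv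
    obtain ⟨w, hw, rfl⟩ := hv
    exact ⟨w, hw, by simp⟩

end Lattice

section Key

variable {R : Type u} [CommRing R] [IsDomain R] [IsPrincipalIdealRing R]
  {K : Type u} [Field K] [Algebra R K] [IsFractionRing R K] {N : ℕ}

theorem repr_coe {κ : Type*} [Fintype κ] (L : Submodule R (Fin N → K)) [Submodule.IsLattice K L]
    (b : Basis κ R L) (v : L) (i : κ) :
    (b.extendOfIsLattice K).repr (v : Fin N → K) i = algebraMap R K (b.repr v i) := by
  have h1 : (v : Fin N → K) = ∑ j, algebraMap R K (b.repr v j) • (b.extendOfIsLattice K) j := by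
    conv_lhs => rw [← b.sum_repr v]
    rw [Submodule.coe_sum]
    apply Finset.sum_congr rfl
    intro j _
    rw [Submodule.coe_smul, Basis.extendOfIsLattice_apply, algebraMap_smul]
  conv_lhs => rw [h1]
  rw [Basis.repr_sum_self]

theorem key (L : Submodule R (Fin N → K)) [Submodule.IsLattice K L]
    (G H : (Fin N → K) →ₗ[K] (Fin N → K)) (hGH : G * H = 1) (hHG : H * G = 1)
    (hG : L.map (G.restrictScalars R) ≤ L) (hH : L.map (H.restrictScalars R) ≤ L) :
    ∃ (bK : Basis (Fin N) K (Fin N → K)) (A B : Matrix (Fin N) (Fin N) R), A * B = 1 ∧ B * A = 1 ∧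
      LinearMap.toMatrix bK bK G = A.map (algebraMap R K) := by
  haveI : Module.Free R L := inferInstance
  haveI : Module.Finite R L := inferInstance
  let b₀ := Module.Free.chooseBasis R L
  have hcard : Fintype.card (Module.Free.ChooseBasisIndex R L) = N := by
    rw [← Module.finrank_eq_card_chooseBasisIndex, Submodule.IsLattice.finrank_of_pi K L,
      Fintype.card_fin]
  let e : Module.Free.ChooseBasisIndex R L ≃ Fin N := Fintype.equivFinOfCardEq hcard
  let b : Basis (Fin N) R L := b₀.reindex e
  let bK : Basis (Fin N) K (Fin N → K) := b.extendOfIsLattice K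
  let GL' : L →ₗ[R] L := (G.restrictScalars R).restrict (fun v hv => hG ⟨v, hv, rfl⟩)
  let HL' : L →ₗ[R] L := (H.restrictScalars R).restrict (fun v hv => hH ⟨v, hv, rfl⟩)
  have h1 : GL' ∘ₗ HL' = LinearMap.id := by
    apply LinearMap.ext
    intro v
    apply Subtype.ext
    change G (H (v : Fin N → K)) = v
    rw [← Module.End.mul_apply, hGH]
    rfl
  have h2 : HL' ∘ₗ GL' = LinearMap.id := by
    apply LinearMap.ext
    intro v
    apply Subtype.ext
    change H (G (v : Fin N → K)) = v
    rw [← Module.End.mul_apply, hHG]
    rfl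
  refine ⟨bK, LinearMap.toMatrix b b GL', LinearMap.toMatrix b b HL', ?_, ?_, ?_⟩
  · rw [← LinearMap.toMatrix_comp, h1, LinearMap.toMatrix_id]
  · rw [← LinearMap.toMatrix_comp, h2, LinearMap.toMatrix_id]
  · ext i j
    rw [LinearMap.toMatrix_apply, Matrix.map_apply, LinearMap.toMatrix_apply]
    have : G (bK j) = ((GL' (b j) : L) : Fin N → K) := by
      change G (bK j) = G (b j : Fin N → K)
      rw [Basis.extendOfIsLattice_apply]
    rw [this]
    exact repr_coe L b _ i

end Key

theorem pow_stable {R : Type u} [CommRing R] {K : Type u} [Field K] [Algebra R K] {N : ℕ}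
    (L : Submodule R (Fin N → K)) (G : (Fin N → K) →ₗ[K] (Fin N → K))
    (hG : L.map (G.restrictScalars R) ≤ L) (j : ℕ) :
    L.map ((G ^ j).restrictScalars R) ≤ L := by
  induction j with
  | zero =>
    rintro v ⟨w, hw, rfl⟩
    simpa using hw
  | succ j ih =>
    rintro v ⟨w, hw, rfl⟩
    have h1 : ((G ^ j).restrictScalars R) w ∈ L := ih ⟨w, hw, rfl⟩
    have h2 := hG ⟨_, h1, rfl⟩
    simpa [pow_succ', Module.End.mul_apply] using h2

/-- Let `R` be a discrete valuation ring with fraction field `K` and `g ∈ GL_N(K)` an element of finite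
order. Then after passing to a finite extension `K'` of `K` and a discrete valuation ring `R'` of
`K'` dominating `R`, the element `g` becomes conjugate in `GL_N(K')` to an element of `GL_N(R')`.
(The published statement is that the classifying stack of `GL_N` over the integers satisfies a
valuative condition, for discrete valuation rings essentially of finite type over the integers, on
extending finite-order generic automorphisms along nearby modifications; since vector bundles over a
discrete valuation ring are trivial, that condition is this conjugacy statement for such rings, and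
this row states it for every discrete valuation ring, as the printed argument gives.) -/
theorem result
    (R : Type u) [CommRing R] [IsDomain R] [IsDiscreteValuationRing R]
    (K : Type u) [Field K] [Algebra R K] [IsFractionRing R K]
    (N : ℕ) (g : GL (Fin N) K) (hg : IsOfFinOrder g) :
    ∃ (R' : Type u) (_ : CommRing R') (_ : IsDomain R') (_ : IsDiscreteValuationRing R')
      (K' : Type u) (_ : Field K') (_ : Algebra R' K') (_ : IsFractionRing R' K')
      (_ : Algebra R R') (_ : Algebra K K') (_ : Algebra R K')
      (_ : IsScalarTower R R' K') (_ : IsScalarTower R K K')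
      (_ : Module.Finite K K') (_ : IsLocalHom (algebraMap R R'))
      (h : GL (Fin N) K') (g' : GL (Fin N) R'),
      h * Matrix.GeneralLinearGroup.map (algebraMap K K') g * h⁻¹ =
        Matrix.GeneralLinearGroup.map (algebraMap R' K') g' := by
  obtain ⟨m, hm, hgm⟩ := isOfFinOrder_iff_pow_eq_one.mp hg
  let G : (Fin N → K) →ₗ[K] (Fin N → K) := Matrix.toLin' g.1
  have hGm : G ^ m = 1 := by
    rw [← Matrix.toLin'_pow, ← Units.val_pow_eq_pow_val, hgm, Units.val_one, Matrix.toLin'_one]
    rfl
  let H := G ^ (m - 1)
  have hGH : G * H = 1 := by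
    rw [← pow_succ', Nat.sub_add_cancel hm, hGm]
  have hHG : H * G = 1 := by
    rw [← pow_succ, Nat.sub_add_cancel hm, hGm]
  haveI := isLattice_Lm R G m hm
  have hstab := map_Lm_le R G m hm hGm
  obtain ⟨bK, A, B, hAB, hBA, hmat⟩ := key (Lm R G m) G H hGH hHG hstab
    (pow_stable _ G hstab (m - 1))
  let e := Pi.basisFun K (Fin N)
  have hconj : bK.toMatrix e * g.1 * e.toMatrix bK = A.map (algebraMap R K) := by
    have h0 : LinearMap.toMatrix e e G = g.1 := by
      rw [LinearMap.toMatrix_eq_toMatrix', LinearMap.toMatrix'_toLin']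
    rw [← hmat, ← basis_toMatrix_mul_linearMap_toMatrix_mul_basis_toMatrix bK e bK e G, h0]
  let h : GL (Fin N) K := ⟨bK.toMatrix e, e.toMatrix bK, Basis.toMatrix_mul_toMatrix_flip _ _,
    Basis.toMatrix_mul_toMatrix_flip _ _⟩
  let g' : GL (Fin N) R := ⟨A, B, hAB, hBA⟩
  refine ⟨R, inferInstance, inferInstance, inferInstance, K, inferInstance, inferInstance,
    inferInstance, Algebra.id R, Algebra.id K, inferInstance, inferInstance, inferInstance,
    inferInstance, ?_, h, g', ?_⟩
  · exact inferInstanceAs (IsLocalHom (RingHom.id R))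
  · apply Units.ext
    change bK.toMatrix e * (g.1.map (algebraMap K K)) * e.toMatrix bK = A.map (algebraMap R K)
    rw [← hconj]
    congr 2

end Groth.Agent.S14122
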