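import Mathlib.Tactic
import Mathlib.Algebra.Homology.DerivedCategory.Ext.ExactSequences
import Mathlib.Algebra.Homology.ShortComplex.HomologicalComplex

set_option autoImplicit false
universe w v u
open CategoryTheory CategoryTheory.Limits

namespace Groth.Agent.S14128a

variable {C : Type u} [Category.{v} C] [Abelian C] [HasExt.{w} C]

open Abelian

omit [HasExt.{w} C] in
/-- the short exact sequence `0 → C^k → X^{k+1} → C^{k+1} → 0` (opcycles) when `K` is exact at `k`. -/
lemma opcycles_shortExact (K : CochainComplex C ℕ) (k : ℕ) (hk : IsZero (K.homology k)) :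
    (ShortComplex.mk (K.fromOpcycles k (k+1)) (K.pOpcycles (k+1)) (by
      rw [← cancel_epi (K.pOpcycles k), HomologicalComplex.p_fromOpcycles_assoc,
        HomologicalComplex.d_pOpcycles, comp_zero])).ShortExact := by
  have hmono : Mono (K.fromOpcycles k (k+1)) :=
    Preadditive.mono_of_isZero_kernel' _ (K.homologyIsKernel k (k+1) (by simp)) hk
  refine ShortComplex.ShortExact.mk' ?_ hmono inferInstance
  let S₁ : ShortComplex C := ShortComplex.mk (K.d k (k+1)) (K.pOpcycles (k+1)) (by simp)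
  have h₁ : S₁.Exact := S₁.exact_of_g_is_cokernel (K.opcyclesIsCokernel k (k+1) (by simp))
  let φ : S₁ ⟶ ShortComplex.mk (K.fromOpcycles k (k+1)) (K.pOpcycles (k+1)) (by
      rw [← cancel_epi (K.pOpcycles k), HomologicalComplex.p_fromOpcycles_assoc,
        HomologicalComplex.d_pOpcycles, comp_zero]) :=
    { τ₁ := K.pOpcycles k
      τ₂ := 𝟙 _
      τ₃ := 𝟙 _
      comm₁₂ := by simp [S₁]
      comm₂₃ := by simp [S₁] }
  have : Epi φ.τ₁ := by dsimp [φ]; infer_instance
  have : IsIso φ.τ₂ := by dsimp [φ]; infer_instance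
  have : Mono φ.τ₃ := by dsimp [φ]; infer_instance
  exact (ShortComplex.exact_iff_of_epi_of_isIso_of_mono φ).1 h₁

/-- vanishing of `Ext^j(N, C^i)` for `j + i < g`. -/
lemma ext_opcycles_eq_zero (K : CochainComplex C ℕ) (N : C) (g : ℕ)
    (hExt : ∀ k j, j < g → ∀ x : Ext N (K.X k) j, x = 0) (i : ℕ)
    (hK : ∀ k < i, IsZero (K.homology k)) :
    ∀ j, j + i < g → ∀ x : Ext N (K.opcycles i) j, x = 0 := by
  induction i with
  | zero =>
    intro j hj x
    have hiso : IsIso (K.pOpcycles 0) :=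
      K.isIso_pOpcycles 0 0 (by simp) (K.shape _ _ (by simp))
    have h1 : x = (x.comp (Ext.mk₀ (inv (K.pOpcycles 0))) (add_zero j)).comp
        (Ext.mk₀ (K.pOpcycles 0)) (add_zero j) := by
      rw [Ext.comp_assoc_of_third_deg_zero, Ext.mk₀_comp_mk₀, IsIso.inv_hom_id, Ext.comp_mk₀_id]
    rw [h1, hExt 0 j (by omega) (x.comp (Ext.mk₀ (inv (K.pOpcycles 0))) (add_zero j)), Ext.zero_comp]
  | succ k ih =>
    intro j hj x
    have hS := opcycles_shortExact K k (hK k (by omega))
    have ih' := ih (fun k' hk' => hK k' (by omega))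
    obtain ⟨x₂, hx₂⟩ := Ext.covariant_sequence_exact₃ N hS x rfl (ih' (j+1) (by omega) _)
    rw [← hx₂, hExt (k+1) j (by omega) x₂, Ext.zero_comp]

/-- Acyclicity lemma, `Ext`-form. -/
theorem acyclicity (K : CochainComplex C ℕ) (g i : ℕ) (hi : i < g)
    (hK : ∀ k < i, IsZero (K.homology k))
    (hExt : ∀ k j, j < g → ∀ x : Ext (K.homology i) (K.X k) j, x = 0) :
    IsZero (K.homology i) := by
  have h0 := ext_opcycles_eq_zero K (K.homology i) g hExt i hK 0 (by omega)
    (Ext.mk₀ (K.homologyι i))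
  have h1 : K.homologyι i = 0 := by
    apply (Ext.mk₀_bijective _ _).1
    rw [h0, Ext.mk₀_zero]
  exact IsZero.of_mono_eq_zero _ h1

end Groth.Agent.S14128a
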