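import Groth.Statements.S14128
import Groth.Agent.S14128a
import Groth.Agent.S5159
import Groth.Agent.Lib.H87AB
import Mathlib.Tactic

set_option autoImplicit false
universe u
open CategoryTheory CategoryTheory.Limits
open LocAlg

namespace Groth.Agent.S14128

section Helpers

open Abelian

/-- `Ext^j(N, F) = 0` for `j < g`, `N` of finite length, `F` finite free over a regular local ring
of dimension `g`. -/
lemma ext_eq_zero (R : Type u) [CommRing R] [IsRegularLocalRing R] (g : ℕ)
    (hg : ringKrullDim R = g) (N F : ModuleCat.{u} R) (hN : IsFiniteLength R N)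
    [Module.Free R F] [Module.Finite R F] (j : ℕ) (hj : j < g) (x : Ext N F j) : x = 0 := by
  have hQ := (Groth.Agent.S5159.Q_of_isFiniteLength R g hg N hN).1 j (by omega)
  have := Groth.Agent.Lib.H87AB.subsingleton_ext_free (X := ModuleCat.of R N) (F := F)
    (Module.finBasis R F) j hQ
  exact Subsingleton.elim (α := Ext (ModuleCat.of R N) (ModuleCat.of R F) j) x 0

end Helpers

/-- Let R be a regular local ring of Krull dimension g and M = (M^0 → M^1 → ⋯ → M^g) a perfect complex
over R, here a cochain complex of finitely generated free R-modules indexed by ℕ with M^i = 0 for i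
> g, such that every cohomology module H^i(M) has finite length. Then H^i(M) = 0 for all i < g, so
that M has cohomology at most in degree g. -/
theorem result (R : Type u) [CommRing R]
    [IsRegularLocalRing R] (g : ℕ) (hg : ringKrullDim R = g) (M : CochainComplex (ModuleCat.{u} R) ℕ)
    (hbd : ∀ i, g < i → IsZero (M.X i)) (hfree : ∀ i, Module.Free R (M.X i) ∧ Module.Finite R (M.X i))
    (hfl : ∀ i, IsFiniteLength R (M.homology i)) (i : ℕ) (hi : i < g) :
    IsZero (M.homology i) := by
  induction i using Nat.strong_induction_on with
  | _ i ih =>
    refine Groth.Agent.S14128a.acyclicity M g i hi (fun k hk => ih k hk (by omega)) ?_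
    intro k j hj x
    have h1 := (hfree k).1
    have h2 := (hfree k).2
    exact ext_eq_zero R g hg (M.homology i) (M.X k) (hfl i) j hj x


end Groth.Agent.S14128
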