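import Groth.Statements.S1413
import Mathlib.RingTheory.Flat.FaithfullyFlat.Algebra
import Mathlib.LinearAlgebra.TensorProduct.Tower
import Mathlib.AlgebraicGeometry.PullbackCarrier
-- import your own Groth.Agent.* helpers here

set_option autoImplicit false
universe u
open FlatMor

namespace Groth.Agent.S1413

open TensorProduct in
lemma flat_of_faithfullyFlat_comp (A B C : Type*) [CommRing A] [CommRing B] [CommRing C]
    [Algebra A B] [Algebra B C] [Algebra A C] [IsScalarTower A B C]
    [Module.FaithfullyFlat B C] [Module.Flat A C] : Module.Flat A B := by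
  rw [Module.Flat.iff_lTensor_preserves_injective_linearMap]
  intro N P _ _ _ _ f hf
  have h1 : Function.Injective (AlgebraTensorModule.lTensor B B f) := by
    rw [← Module.FaithfullyFlat.lTensor_injective_iff_injective B C]
    have h2 := AlgebraTensorModule.lTensor_comp_cancelBaseChange
      (R := A) (A := B) (B := C) (M := C) f
    have h3 : Function.Injective (AlgebraTensorModule.lTensor C C f) :=
      Module.Flat.lTensor_preserves_injective_linearMap (M := C) f hf
    have h4 : Function.Injective ((AlgebraTensorModule.cancelBaseChange A B C C P).toLinearMap ∘ₗ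
        AlgebraTensorModule.lTensor C C (AlgebraTensorModule.lTensor B B f)) := by
      rw [← h2]
      exact h3.comp (AlgebraTensorModule.cancelBaseChange A B C C N).injective
    rw [LinearMap.coe_comp] at h4
    exact Function.Injective.of_comp h4
  exact h1

lemma ringHom_flat_of_comp {A B C : Type*} [CommRing A] [CommRing B] [CommRing C]
    [IsLocalRing B] [IsLocalRing C]
    (f : A →+* B) (g : B →+* C) [IsLocalHom g] (hg : g.Flat) (hgf : (g.comp f).Flat) : f.Flat := by
  algebraize [f, g, g.comp f]
  have : IsLocalHom (algebraMap B C) := ‹IsLocalHom g›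
  have : Module.FaithfullyFlat B C := Module.FaithfullyFlat.of_flat_of_isLocalHom
  exact flat_of_faithfullyFlat_comp A B C

open AlgebraicGeometry CategoryTheory Limits in
lemma flat_of_comp_flat_surjective {X Y Z : Scheme.{u}} (f : X ⟶ Y) (h : Y ⟶ Z)
    [Flat f] [Surjective f] [Flat (f ≫ h)] : Flat h := by
  rw [Flat.iff_flat_stalkMap]
  intro y
  obtain ⟨x, rfl⟩ := f.surjective y
  have h1 := Flat.stalkMap (f ≫ h) x
  rw [Scheme.Hom.stalkMap_comp] at h1
  have h2 := Flat.stalkMap f x
  exact ringHom_flat_of_comp _ _ h2 h1

open AlgebraicGeometry CategoryTheory Limits in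
/-- Let X → Y → Z be morphisms with X → Y flat and surjective and with the diagonal of X over Z flat.
Then the diagonal of Y over Z is flat. -/
theorem result {X Y Z : Scheme.{u}} (f : X ⟶ Y) (g : Y ⟶ Z) [Flat f] [Surjective f] [Flat (pullback.diagonal (f ≫ g))] :
    Flat (pullback.diagonal g) := by
  let m : pullback (f ≫ g) (f ≫ g) ⟶ pullback g g :=
    pullback.map (f ≫ g) (f ≫ g) g g f f (𝟙 Z) ((Category.comp_id _).trans rfl)
      ((Category.comp_id _).trans rfl)
  have hm1 : Flat m :=
    MorphismProperty.pullbackMap (P := @Flat) (inferInstanceAs (Flat f)) (inferInstanceAs (Flat f))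
      rfl rfl
  have hm2 : Surjective m :=
    MorphismProperty.pullbackMap (P := @Surjective) (inferInstanceAs (Surjective f))
      (inferInstanceAs (Surjective f)) rfl rfl
  have hcomm : pullback.diagonal (f ≫ g) ≫ m = f ≫ pullback.diagonal g := by
    apply pullback.hom_ext
    · simp only [m, Category.assoc, pullback.lift_fst, pullback.diagonal_fst, Category.comp_id]
      rw [← Category.assoc, pullback.diagonal_fst, Category.id_comp]
    · simp only [m, Category.assoc, pullback.lift_snd, pullback.diagonal_snd, Category.comp_id]
      rw [← Category.assoc, pullback.diagonal_snd, Category.id_comp]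
  have : Flat (f ≫ pullback.diagonal g) := by
    rw [← hcomm]; infer_instance
  exact flat_of_comp_flat_surjective f _

end Groth.Agent.S1413
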