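import Groth.Statements.S14139
import Groth.Agent.Lib.CurveVB67H
import Groth.Agent.Lib.SmoothCurve67
import Groth.Agent.S0002
import Mathlib
-- import your own Groth.Agent.* helpers here

set_option autoImplicit false
universe u
open CategoryTheory CategoryTheory.Limits AlgebraicGeometry
open VBCurve

namespace Groth.Agent.S14139

open Groth.Agent.Lib.CurveVB67


/-- Let C be a smooth proper geometrically connected curve over a field k (proper, smooth and
geometrically connected over k, of dimension one), and 0 → E₁ → E → E₂ → 0 a short exact sequence of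
finite locally free O_C-modules of ranks r₁, r, r₂ ≥ 1 whose slopes are all equal: deg E₁ · r = deg
E · r₁ and deg E₂ · r = deg E · r₂, the degree of a rank-n locally free module being χ − n·χ(O_C).
Then E is semistable (deg G · r ≤ deg E · r' for every finite locally free submodule G of E of rank
r' ≥ 1) if and only if both E₁ and E₂ are semistable in the same sense. -/
theorem result (k : Type u) [Field k] (X : Scheme.{u}) [X.Over (Spec (CommRingCat.of k))]
    [IsProper (X ↘ Spec (CommRingCat.of k))] [Smooth (X ↘ Spec (CommRingCat.of k))]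
    [GeometricallyConnected (X ↘ Spec (CommRingCat.of k))] (hdim : topologicalKrullDim ↥X = 1)
    (T : ShortComplex X.Modules) (hT : T.ShortExact)
    (r₁ r r₂ : ℕ) (hr₁ : 0 < r₁) (hr : 0 < r) (hr₂ : 0 < r₂)
    (hE₁ : FlatMod.IsFinLocFreeOfRank r₁ T.X₁) (hE : FlatMod.IsFinLocFreeOfRank r T.X₂) (hE₂ : FlatMod.IsFinLocFreeOfRank r₂ T.X₃)
    (hμ₁ : Curv2.deg k X T.X₁ r₁ * (r : ℤ) = Curv2.deg k X T.X₂ r * (r₁ : ℤ))
    (hμ₂ : Curv2.deg k X T.X₃ r₂ * (r : ℤ) = Curv2.deg k X T.X₂ r * (r₂ : ℤ)) :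
    (∀ (G : X.Modules) (r' : ℕ) (i : G ⟶ T.X₂), Mono i → 0 < r' → FlatMod.IsFinLocFreeOfRank r' G →
      Curv2.deg k X G r' * (r : ℤ) ≤ Curv2.deg k X T.X₂ r * (r' : ℤ)) ↔
      ((∀ (G : X.Modules) (r' : ℕ) (i : G ⟶ T.X₁), Mono i → 0 < r' → FlatMod.IsFinLocFreeOfRank r' G →
      Curv2.deg k X G r' * (r₁ : ℤ) ≤ Curv2.deg k X T.X₁ r₁ * (r' : ℤ)) ∧
       (∀ (G : X.Modules) (r' : ℕ) (i : G ⟶ T.X₃), Mono i → 0 < r' → FlatMod.IsFinLocFreeOfRank r' G →
      Curv2.deg k X G r' * (r₂ : ℤ) ≤ Curv2.deg k X T.X₃ r₂ * (r' : ℤ))) := by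
  obtain ⟨hint, hnoeth, hpid⟩ := Groth.Agent.Lib.SmoothCurve67.curve_setup k X (le_of_eq hdim)
  have H : Groth.Agent.Lib.ProperFinHyp.Hyp.{u} :=
    fun A _ _ X _ _ M hM n => Groth.Agent.S0002.result A X M hM n
  have hr0 : (0 : ℤ) < r := by exact_mod_cast hr
  have hr₁0 : (0 : ℤ) < r₁ := by exact_mod_cast hr₁
  have hr₂0 : (0 : ℤ) < r₂ := by exact_mod_cast hr₂
  have hc₁ : Coh.IsCoh T.X₁ := isCoh_of_rank hE₁
  have hc₂ : Coh.IsCoh T.X₂ := isCoh_of_rank hE
  have hc₃ : Coh.IsCoh T.X₃ := isCoh_of_rank hE₂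
  have hmf : Mono T.f := hT.mono_f
  have hepig : Epi T.g := hT.epi_g
  -- degrees and ranks of the sequence
  have hrk := rk_add T hT hc₁ hc₃
  have hdeg := deg_rk_add H k X T hT hc₁ hc₂ hc₃
  rw [← eq_rk_of_isFinLocFreeOfRank hE₁, ← eq_rk_of_isFinLocFreeOfRank hE,
    ← eq_rk_of_isFinLocFreeOfRank hE₂] at hrk hdeg
  constructor
  · intro hss
    constructor
    · -- submodules of `T.X₁`
      intro G r' i hi hr' hG
      have hr'0 : (0 : ℤ) < r' := by exact_mod_cast hr'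
      have h1 := hss G r' (i ≫ T.f) (mono_comp i T.f) hr' hG
      have h2 := mul_le_mul_of_nonneg_right h1 hr₁0.le
      have h3 : Curv2.deg k X T.X₂ r * (r' : ℤ) * r₁ = Curv2.deg k X T.X₁ r₁ * (r' : ℤ) * r := by
        rw [mul_right_comm, ← hμ₁]; ring
      rw [h3] at h2
      have h4 : (Curv2.deg k X G r' * (r₁ : ℤ)) * r ≤ (Curv2.deg k X T.X₁ r₁ * (r' : ℤ)) * r := by
        calc (Curv2.deg k X G r' * (r₁ : ℤ)) * r = Curv2.deg k X G r' * (r : ℤ) * r₁ := by ring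
          _ ≤ _ := h2
      exact le_of_mul_le_mul_right h4 hr0
    · -- submodules of `T.X₃`: pull back to `T.X₂`
      intro G r' i hi hr' hG
      have hr'0 : (0 : ℤ) < r' := by exact_mod_cast hr'
      have hGc : Coh.IsCoh G := isCoh_of_rank hG
      have hr'G : r' = rk G := eq_rk_of_isFinLocFreeOfRank hG
      have : G.IsQuasicoherent := hGc.1
      have hQc : Coh.IsCoh (cokernel i) := Groth.Agent.Lib.H90OXModExact.isCoh_cokernel i hc₃
      have : (cokernel i).IsQuasicoherent := hQc.1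
      -- `0 → G → T.X₃ → Q → 0`
      have hS₁ : (ShortComplex.mk i (cokernel.π i) (cokernel.condition i)).ShortExact :=
        { exact := ShortComplex.exact_cokernel i }
      have rk₁ := rk_add _ hS₁ hGc hQc
      have dg₁ := deg_rk_add H k X _ hS₁ hGc hc₃ hQc
      simp only at rk₁ dg₁
      -- `0 → G' → T.X₂ → Q → 0`
      let p : T.X₂ ⟶ cokernel i := T.g ≫ cokernel.π i
      have hp : Epi p := epi_comp _ _
      have hG'c : Coh.IsCoh (kernel p) := Groth.Agent.Lib.H90OXModExact.isCoh_kernel p hc₂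
      have hS₂ : (ShortComplex.mk (kernel.ι p) p (kernel.condition p)).ShortExact :=
        { exact := ShortComplex.exact_kernel p }
      have rk₂ := rk_add _ hS₂ hG'c hQc
      have dg₂ := deg_rk_add H k X _ hS₂ hG'c hc₂ hQc
      simp only at rk₂ dg₂
      rw [← eq_rk_of_isFinLocFreeOfRank hE₂] at rk₁ dg₁
      rw [← eq_rk_of_isFinLocFreeOfRank hE] at rk₂ dg₂
      rw [← hr'G] at rk₁ dg₁
      have hrkG' : rk (kernel p) = r₁ + r' := by omega
      have hG'lf := locFree_of_mono k X hpid (kernel.ι p) hG'c hE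
      have h1 := hss (kernel p) _ (kernel.ι p) inferInstance (by omega) hG'lf
      rw [hrkG'] at h1 dg₂
      push_cast at h1
      -- arithmetic
      have e1 : Curv2.deg k X (kernel p) (r₁ + r') = Curv2.deg k X T.X₁ r₁ + Curv2.deg k X G r' := by
        linarith
      rw [e1] at h1
      have h2 : Curv2.deg k X G r' * (r : ℤ) ≤ Curv2.deg k X T.X₂ r * (r' : ℤ) := by
        nlinarith
      have h3 := mul_le_mul_of_nonneg_right h2 hr₂0.le
      have h4 : (Curv2.deg k X G r' * (r₂ : ℤ)) * r ≤ (Curv2.deg k X T.X₃ r₂ * (r' : ℤ)) * r := by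
        calc (Curv2.deg k X G r' * (r₂ : ℤ)) * r = Curv2.deg k X G r' * (r : ℤ) * r₂ := by ring
          _ ≤ Curv2.deg k X T.X₂ r * (r' : ℤ) * r₂ := h3
          _ = (Curv2.deg k X T.X₂ r * (r₂ : ℤ)) * r' := by ring
          _ = (Curv2.deg k X T.X₃ r₂ * (r : ℤ)) * r' := by rw [hμ₂]
          _ = _ := by ring
      exact le_of_mul_le_mul_right h4 hr0
  · rintro ⟨hss₁, hss₂⟩ G r' i hi hr' hG
    have hGc : Coh.IsCoh G := isCoh_of_rank hG
    have hr'G : r' = rk G := eq_rk_of_isFinLocFreeOfRank hG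
    obtain ⟨G₁, G₂, j₁, j₂, hj₁, hj₂, hG₁c, hG₂c, hrkG, hdegG⟩ := sub_ses_data H k X T hT hc₃ i hGc
    have h1 := ss_sub_le k X hpid hE₁ hss₁ j₁ hG₁c
    have h2 := ss_sub_le k X hpid hE₂ hss₂ j₂ hG₂c
    rw [← hr'G] at hrkG hdegG
    have hrkG' : (r' : ℤ) = rk G₁ + rk G₂ := by exact_mod_cast hrkG
    -- d₁ r ≤ dE a₁, d₂ r ≤ dE a₂
    have h3 : Curv2.deg k X G₁ (rk G₁) * (r : ℤ) ≤ Curv2.deg k X T.X₂ r * (rk G₁ : ℤ) := by
      have h5 := mul_le_mul_of_nonneg_right h1 hr0.le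
      have h6 : (Curv2.deg k X G₁ (rk G₁) * (r : ℤ)) * r₁ ≤ (Curv2.deg k X T.X₂ r * (rk G₁ : ℤ)) * r₁ := by
        calc (Curv2.deg k X G₁ (rk G₁) * (r : ℤ)) * r₁ = Curv2.deg k X G₁ (rk G₁) * (r₁ : ℤ) * r := by ring
          _ ≤ Curv2.deg k X T.X₁ r₁ * (rk G₁ : ℤ) * r := h5
          _ = (Curv2.deg k X T.X₁ r₁ * (r : ℤ)) * rk G₁ := by ring
          _ = (Curv2.deg k X T.X₂ r * (r₁ : ℤ)) * rk G₁ := by rw [hμ₁]
          _ = _ := by ring
      exact le_of_mul_le_mul_right h6 hr₁0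
    have h4 : Curv2.deg k X G₂ (rk G₂) * (r : ℤ) ≤ Curv2.deg k X T.X₂ r * (rk G₂ : ℤ) := by
      have h5 := mul_le_mul_of_nonneg_right h2 hr0.le
      have h6 : (Curv2.deg k X G₂ (rk G₂) * (r : ℤ)) * r₂ ≤ (Curv2.deg k X T.X₂ r * (rk G₂ : ℤ)) * r₂ := by
        calc (Curv2.deg k X G₂ (rk G₂) * (r : ℤ)) * r₂ = Curv2.deg k X G₂ (rk G₂) * (r₂ : ℤ) * r := by ring
          _ ≤ Curv2.deg k X T.X₃ r₂ * (rk G₂ : ℤ) * r := h5
          _ = (Curv2.deg k X T.X₃ r₂ * (r : ℤ)) * rk G₂ := by ring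
          _ = (Curv2.deg k X T.X₂ r * (r₂ : ℤ)) * rk G₂ := by rw [hμ₂]
          _ = _ := by ring
      exact le_of_mul_le_mul_right h6 hr₂0
    rw [hdegG, hrkG']
    linarith

end Groth.Agent.S14139
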