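import Groth.Statements.S14149
import Groth.Agent.Lib.CurveVB67I
import Groth.Agent.Lib.SmoothCurve67
import Groth.Agent.Lib.CurveVB54b
import Groth.Agent.S0002
import Mathlib
-- import your own Groth.Agent.* helpers here

set_option autoImplicit false
universe u
open CategoryTheory CategoryTheory.Limits AlgebraicGeometry
open VBCurve

namespace Groth.Agent.S14149

open Groth.Agent.Lib.CurveVB67


/-- Let C be a smooth proper geometrically connected curve over a field k (proper, smooth and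
geometrically connected over k, of dimension one) and E a finite locally free O_C-module of rank r ≥
1, the degree of a rank-n locally free module being χ − n·χ(O_C). Then there is a finite locally
free submodule E₁ of E, of some rank r₁ ≥ 1, such that: the slope of E₁ is maximal among finite
locally free submodules of E of positive rank (deg G · r₁ ≤ deg E₁ · r' for every such G of rank
r'); among submodules attaining that slope E₁ has the largest rank; and E₁ is semistable. (This is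
the first step of the Harder–Narasimhan filtration, whose existence and uniqueness is the published
statement; the full filtration is not restated.) -/
theorem result (k : Type u) [Field k] (X : Scheme.{u}) [X.Over (Spec (CommRingCat.of k))]
    [IsProper (X ↘ Spec (CommRingCat.of k))] [Smooth (X ↘ Spec (CommRingCat.of k))]
    [GeometricallyConnected (X ↘ Spec (CommRingCat.of k))] (hdim : topologicalKrullDim ↥X = 1)
    (r : ℕ) (hr : 0 < r) (E : X.Modules) (hE : FlatMod.IsFinLocFreeOfRank r E) :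
    ∃ (E₁ : X.Modules) (r₁ : ℕ) (i₁ : E₁ ⟶ E), Mono i₁ ∧ 0 < r₁ ∧ FlatMod.IsFinLocFreeOfRank r₁ E₁ ∧
      (∀ (G : X.Modules) (r' : ℕ) (j : G ⟶ E), Mono j → 0 < r' → FlatMod.IsFinLocFreeOfRank r' G →
        Curv2.deg k X G r' * (r₁ : ℤ) ≤ Curv2.deg k X E₁ r₁ * (r' : ℤ)) ∧
      (∀ (G : X.Modules) (r' : ℕ) (j : G ⟶ E), Mono j → 0 < r' → FlatMod.IsFinLocFreeOfRank r' G →
        Curv2.deg k X G r' * (r₁ : ℤ) = Curv2.deg k X E₁ r₁ * (r' : ℤ) → r' ≤ r₁) ∧
      (∀ (G : X.Modules) (r' : ℕ) (i : G ⟶ E₁), Mono i → 0 < r' → FlatMod.IsFinLocFreeOfRank r' G →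
      Curv2.deg k X G r' * (r₁ : ℤ) ≤ Curv2.deg k X E₁ r₁ * (r' : ℤ)) := by
  classical
  obtain ⟨hint, hnoeth, hpid⟩ := Groth.Agent.Lib.SmoothCurve67.curve_setup k X (le_of_eq hdim)
  have H : Groth.Agent.Lib.ProperFinHyp.Hyp.{u} :=
    fun A _ _ X _ _ M hM n => Groth.Agent.S0002.result A X M hM n
  have hEc : Coh.IsCoh E := isCoh_of_rank hE
  obtain ⟨N, hN⟩ := Groth.Agent.Lib.CurveVB54b.exists_deg_le H k X hdim.le hE
  -- the degrees realised in rank `r'`
  let P : ℕ → ℤ → Prop := fun r' d =>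
    ∃ (G : X.Modules) (j : G ⟶ E), Mono j ∧ FlatMod.IsFinLocFreeOfRank r' G ∧ Curv2.deg k X G r' = d
  have hrank : ∀ (G : X.Modules) (r' : ℕ) (j : G ⟶ E), Mono j → FlatMod.IsFinLocFreeOfRank r' G → r' ≤ r := by
    intro G r' j hj hG
    rw [eq_rk_of_isFinLocFreeOfRank hG, eq_rk_of_isFinLocFreeOfRank hE]
    exact rk_le_of_mono j hEc
  -- maximal degree in each rank
  have hmax : ∀ r', (∃ d, P r' d) → ∃ d, P r' d ∧ ∀ d', P r' d' → d' ≤ d := by
    intro r' hne
    refine Int.exists_greatest_of_bdd ⟨N, ?_⟩ hne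
    rintro d ⟨G, j, hj, hG, rfl⟩
    exact hN G r' j hj hG
  let R : Finset ℕ := (Finset.Icc 1 r).filter (fun r' => ∃ d, P r' d)
  have hrR : r ∈ R := by
    simp only [R, Finset.mem_filter, Finset.mem_Icc]
    exact ⟨⟨hr, le_refl _⟩, _, E, 𝟙 E, inferInstance, hE, rfl⟩
  let dmax : ℕ → ℤ := fun r' => if h : ∃ d, P r' d then (hmax r' h).choose else 0
  have hdmax : ∀ r', (h : ∃ d, P r' d) → P r' (dmax r') ∧ ∀ d', P r' d' → d' ≤ dmax r' := by
    intro r' h
    simp only [dmax, dif_pos h]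
    exact (hmax r' h).choose_spec
  let slope : ℕ → ℚ := fun r' => (dmax r' : ℚ) / r'
  obtain ⟨r₀, hr₀R, hr₀⟩ := Finset.exists_max_image R slope ⟨r, hrR⟩
  let R' : Finset ℕ := R.filter (fun r' => slope r' = slope r₀)
  have hR'ne : R'.Nonempty := ⟨r₀, by simp [R', hr₀R]⟩
  let r₁ := R'.max' hR'ne
  have hr₁R' : r₁ ∈ R' := Finset.max'_mem R' hR'ne
  have hr₁R : r₁ ∈ R := (Finset.mem_filter.mp hr₁R').1
  have hr₁s : slope r₁ = slope r₀ := (Finset.mem_filter.mp hr₁R').2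
  have hr₁P : ∃ d, P r₁ d := (Finset.mem_filter.mp hr₁R).2
  have hr₁pos : 0 < r₁ := (Finset.mem_Icc.mp (Finset.mem_filter.mp hr₁R).1).1
  obtain ⟨⟨E₁, i₁, hi₁, hE₁, hdE₁⟩, hE₁max⟩ := hdmax r₁ hr₁P
  have hr₁0 : (0 : ℚ) < r₁ := by exact_mod_cast hr₁pos
  -- the key comparison
  have key : ∀ (G : X.Modules) (r' : ℕ) (j : G ⟶ E), Mono j → 0 < r' → FlatMod.IsFinLocFreeOfRank r' G →
      r' ∈ R ∧ (Curv2.deg k X G r' : ℚ) / r' ≤ slope r' ∧ slope r' ≤ slope r₁ := by
    intro G r' j hj hr' hG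
    have hP : ∃ d, P r' d := ⟨_, G, j, hj, hG, rfl⟩
    have hmem : r' ∈ R := by
      simp only [R, Finset.mem_filter, Finset.mem_Icc]
      exact ⟨⟨hr', hrank G r' j hj hG⟩, hP⟩
    have hr'0 : (0 : ℚ) < r' := by exact_mod_cast hr'
    refine ⟨hmem, ?_, ?_⟩
    · have h1 := (hdmax r' hP).2 _ ⟨G, j, hj, hG, rfl⟩
      have h2 : (Curv2.deg k X G r' : ℚ) ≤ dmax r' := by exact_mod_cast h1
      exact div_le_div_of_nonneg_right h2 hr'0.le
    · rw [hr₁s]
      exact hr₀ r' hmem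
  have toInt : ∀ (d : ℤ) (r' : ℕ), 0 < r' → (d : ℚ) / r' ≤ slope r₁ →
      d * (r₁ : ℤ) ≤ Curv2.deg k X E₁ r₁ * (r' : ℤ) := by
    intro d r' hr' h
    have hr'0 : (0 : ℚ) < r' := by exact_mod_cast hr'
    have h1 : (d : ℚ) / r' ≤ (Curv2.deg k X E₁ r₁ : ℚ) / r₁ := by
      rw [hdE₁]; exact h
    rw [div_le_div_iff₀ hr'0 hr₁0] at h1
    exact_mod_cast h1
  have main : ∀ (G : X.Modules) (r' : ℕ) (j : G ⟶ E), Mono j → 0 < r' → FlatMod.IsFinLocFreeOfRank r' G →
      Curv2.deg k X G r' * (r₁ : ℤ) ≤ Curv2.deg k X E₁ r₁ * (r' : ℤ) := by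
    intro G r' j hj hr' hG
    obtain ⟨-, h1, h2⟩ := key G r' j hj hr' hG
    exact toInt _ r' hr' (h1.trans h2)
  refine ⟨E₁, r₁, i₁, hi₁, hr₁pos, hE₁, main, ?_, ?_⟩
  · intro G r' j hj hr' hG heq
    obtain ⟨hmem, h1, h2⟩ := key G r' j hj hr' hG
    have hr'0 : (0 : ℚ) < r' := by exact_mod_cast hr'
    have h3 : (Curv2.deg k X G r' : ℚ) / r' = slope r₁ := by
      change _ = (dmax r₁ : ℚ) / r₁
      rw [← hdE₁, div_eq_div_iff hr'0.ne' hr₁0.ne']
      exact_mod_cast heq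
    have h4 : slope r' = slope r₀ := by
      rw [← hr₁s]
      exact le_antisymm h2 (h3 ▸ h1)
    have h5 : r' ∈ R' := Finset.mem_filter.mpr ⟨hmem, h4⟩
    exact Finset.le_max' R' r' h5
  · intro G r' i hi hr' hG
    have := hi
    have := hi₁
    exact main G r' (i ≫ i₁) (mono_comp i i₁) hr' hG

end Groth.Agent.S14149
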