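import Groth.Statements.S1415
import Groth.Agent.S7441
import Groth.Agent.Lib.BddFibBase
-- import your own Groth.Agent.* helpers here

set_option autoImplicit false
set_option linter.style.haveILetI false
universe u
open FlatMor

namespace Groth.Agent.S1415

open AlgebraicGeometry CategoryTheory Limits

/-- A finite algebra over a field has at most `finrank` maximal ideals. -/
theorem card_maximalSpectrum_le_finrank (k A : Type*) [Field k] [CommRing A] [Algebra k A]
    [Module.Finite k A] : Nat.card (MaximalSpectrum A) ≤ Module.finrank k A := by
  classical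
  haveI : IsArtinianRing A := IsArtinianRing.of_finite k A
  haveI : Fintype (MaximalSpectrum A) := Fintype.ofFinite _
  have hcop : Pairwise (Function.onFun IsCoprime fun m : MaximalSpectrum A => m.asIdeal) :=
    fun I J h => MaximalSpectrum.isCoprime_of_ne h
  choose e he using fun m : MaximalSpectrum A =>
    Ideal.exists_forall_sub_mem_ideal hcop (fun m' => if m' = m then (1 : A) else 0)
  have hli : LinearIndependent k e := by
    rw [Fintype.linearIndependent_iff]
    intro c hc j
    by_contra hj
    have h1 : ∑ i, c i • e i ∈ j.asIdeal := by rw [hc]; exact zero_mem _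
    have h2 : ∀ i, i ≠ j → c i • e i ∈ j.asIdeal := by
      intro i hij
      have := he i j
      simp only [hij.symm, if_false, sub_zero] at this
      rw [Algebra.smul_def]
      exact Ideal.mul_mem_left _ _ this
    have h3 : c j • e j ∈ j.asIdeal := by
      have : c j • e j = ∑ i, c i • e i - ∑ i ∈ Finset.univ.erase j, c i • e i := by
        rw [← Finset.add_sum_erase _ _ (Finset.mem_univ j)]; ring
      rw [this]
      refine Ideal.sub_mem _ h1 (Ideal.sum_mem _ fun i hi => h2 i (Finset.ne_of_mem_erase hi))
    have h4 : e j - 1 ∈ j.asIdeal := by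
      have := he j j
      simpa using this
    have h5 : algebraMap k A (c j) ∈ j.asIdeal := by
      have : algebraMap k A (c j) = c j • e j - algebraMap k A (c j) * (e j - 1) := by
        rw [Algebra.smul_def]; ring
      rw [this]
      exact Ideal.sub_mem _ h3 (Ideal.mul_mem_left _ _ h4)
    have hu : IsUnit (algebraMap k A (c j)) := (IsUnit.mk0 _ hj).map _
    exact j.isMaximal.ne_top (Ideal.eq_top_of_isUnit_mem _ h5 hu)
  rw [Nat.card_eq_fintype_card]
  exact hli.fintype_card_le_finrank

/-- A finite algebra over a field has at most `finrank` prime ideals. -/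
theorem card_primeSpectrum_le_finrank (k A : Type*) [Field k] [CommRing A] [Algebra k A]
    [Module.Finite k A] : Nat.card (PrimeSpectrum A) ≤ Module.finrank k A := by
  haveI : IsArtinianRing A := IsArtinianRing.of_finite k A
  rw [Nat.card_congr (IsArtinianRing.primeSpectrumEquivMaximalSpectrum (R := A))]
  exact card_maximalSpectrum_le_finrank k A

/-- In a discrete space, the numbers of irreducible components and of connected components
both equal the number of points. -/
theorem encard_irreducibleComponents_of_discrete (Z : Type*) [TopologicalSpace Z]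
    [DiscreteTopology Z] : (irreducibleComponents Z).encard = ENat.card Z := by
  have h : irreducibleComponents Z = Set.range (fun z : Z => ({z} : Set Z)) := by
    ext S
    constructor
    · intro hS
      obtain ⟨x, rfl⟩ := isIrreducible_iff_singleton.mp hS.1
      exact ⟨x, rfl⟩
    · rintro ⟨x, rfl⟩
      refine ⟨isIrreducible_singleton, ?_⟩
      intro T hT hxT
      obtain ⟨y, rfl⟩ := isIrreducible_iff_singleton.mp hT
      have hxy : x = y := by simpa using hxT
      subst hxy
      exact le_refl _
  rw [h, ← Set.image_univ, Set.InjOn.encard_image, Set.encard_univ]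
  exact Set.singleton_injective.injOn

theorem card_connectedComponents_of_discrete (Z : Type*) [TopologicalSpace Z]
    [DiscreteTopology Z] : ENat.card (ConnectedComponents Z) = ENat.card Z := by
  symm
  apply ENat.card_congr
  refine Equiv.ofBijective (ConnectedComponents.mk : Z → ConnectedComponents Z) ⟨?_, ?_⟩
  · intro x y hxy
    rw [ConnectedComponents.coe_eq_coe, connectedComponent_eq_singleton,
      connectedComponent_eq_singleton] at hxy
    exact Set.singleton_injective hxy
  · exact ConnectedComponents.surjective_coe

/-- The structure morphism of the geometric fibre. -/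
noncomputable abbrev geomFiberTo {X Y : Scheme.{u}} (f : X ⟶ Y) (y : Y) :
    MoreMor.geomFiber f y ⟶
      Spec (CommRingCat.of (SeparableClosure (Y.residueField y))) :=
  pullback.snd _ _

instance {X Y : Scheme.{u}} (f : X ⟶ Y) [LocallyQuasiFinite f] (y : Y) :
    LocallyQuasiFinite (f.fiberToSpecResidueField y) := by
  delta Scheme.Hom.fiberToSpecResidueField
  exact MorphismProperty.pullback_snd (P := @LocallyQuasiFinite) f _ inferInstance

theorem discreteTopology_geomFiber {X Y : Scheme.{u}} (f : X ⟶ Y) [LocallyQuasiFinite f] (y : Y) :
    DiscreteTopology ↥(MoreMor.geomFiber f y) := by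
  have hq : LocallyQuasiFinite (geomFiberTo f y) := by
    delta geomFiberTo
    exact MorphismProperty.pullback_snd (P := @LocallyQuasiFinite) _ _ inferInstance
  rw [← isDiscrete_univ_iff]
  have hpt : ∀ a b : ↥(Spec (CommRingCat.of (SeparableClosure (Y.residueField y)))), a = b := by
    intro a b
    exact Subsingleton.elim (α := PrimeSpectrum (SeparableClosure (Y.residueField y))) a b
  by_cases hne : Nonempty ↥(MoreMor.geomFiber f y)
  · obtain ⟨z⟩ := hne
    have h1 := (geomFiberTo f y).isDiscrete_preimage_singleton ((geomFiberTo f y) z)
    convert h1 using 1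
    ext w
    simp only [Set.mem_univ, Set.mem_preimage, Set.mem_singleton_iff, true_iff]
    exact hpt _ _
  · rw [not_nonempty_iff] at hne
    exact (Set.subsingleton_of_subsingleton).isDiscrete

/-- Let f : X → Y be locally quasi-finite. Then (1) for every y the number of irreducible components and
the number of connected components of the geometric fibre over y agree, and (2) if X is
quasi-compact these numbers are bounded by some natural number. -/
theorem result {X Y : Scheme.{u}} (f : X ⟶ Y) [LocallyQuasiFinite f] [LocallyOfFiniteType f] :
    (∀ y : Y, MoreMor.nGeomIrredComp f y = MoreMor.nGeomConnComp f y) ∧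
      (CompactSpace ↑X → ∃ d : ℕ, ∀ y : Y, MoreMor.nGeomConnComp f y ≤ d) := by
  refine ⟨fun y => ?_, fun hX => ?_⟩
  · haveI := discreteTopology_geomFiber f y
    unfold MoreMor.nGeomIrredComp MoreMor.nGeomConnComp
    rw [encard_irreducibleComponents_of_discrete, card_connectedComponents_of_discrete]
  · obtain ⟨n, hn⟩ := Groth.Agent.S7441.result f
    refine ⟨n, fun y => ?_⟩
    haveI := discreteTopology_geomFiber f y
    unfold MoreMor.nGeomConnComp
    rw [card_connectedComponents_of_discrete]
    let k : CommRingCat.{u} := CommRingCat.of (SeparableClosure (Y.residueField y))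
    let ψ : Y.residueField y ⟶ k :=
      CommRingCat.ofHom (algebraMap (Y.residueField y) (SeparableClosure (Y.residueField y)))
    have hpb : IsPullback (pullback.fst (f.fiberToSpecResidueField y) (Spec.map ψ))
        (geomFiberTo f y) (f.fiberToSpecResidueField y) (Spec.map ψ) :=
      IsPullback.of_hasPullback _ _
    obtain ⟨haff, hfin, hrank⟩ :=
      Groth.Agent.Lib.BddFibBase.finiteOfDegLE_of_isPullback
        (Field.toIsField (Y.residueField y)) (Field.toIsField k)
        (f.fiberToSpecResidueField y) (geomFiberTo f y) ψ _ hpb n (hn y)
    letI : Algebra k Γ(MoreMor.geomFiber f y, ⊤) := BddFib.secAlgebra k (geomFiberTo f y)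
    haveI : Module.Finite k Γ(MoreMor.geomFiber f y, ⊤) := hfin
    haveI : IsArtinianRing Γ(MoreMor.geomFiber f y, ⊤) := IsArtinianRing.of_finite k _
    have e : ↥(MoreMor.geomFiber f y) ≃ PrimeSpectrum Γ(MoreMor.geomFiber f y, ⊤) :=
      (MoreMor.geomFiber f y).isoSpec.hom.homeomorph.toEquiv
    haveI : Finite ↥(MoreMor.geomFiber f y) := Finite.of_equiv _ e.symm
    haveI : Fintype ↥(MoreMor.geomFiber f y) := Fintype.ofFinite _
    rw [ENat.card_eq_coe_fintype_card, ← Nat.card_eq_fintype_card, Nat.card_congr e]
    exact_mod_cast (card_primeSpectrum_le_finrank k _).trans hrank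

end Groth.Agent.S1415
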