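import Groth.Statements.S14151
import Groth.Agent.Lib.CurveVB67H
import Groth.Agent.Lib.SmoothCurve67
import Groth.Agent.S0002
import Mathlib
-- import your own Groth.Agent.* helpers here

set_option autoImplicit false
universe u
open CategoryTheory CategoryTheory.Limits AlgebraicGeometry
open VBCurve

namespace Groth.Agent.S14151

open Groth.Agent.Lib.CurveVB67


/-- Let C be a smooth proper geometrically connected curve over a field k (proper, smooth and
geometrically connected over k, of dimension one) and E a finite locally free O_C-module of rank r ≥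
1; degrees of rank-n locally free modules are χ − n·χ(O_C) and slopes are compared by
cross-multiplication. Then: E is semistable in the sense of quotients (μ(E) ≤ μ(F) for every locally
free quotient E ↠ F of rank s ≥ 1) if and only if μ(G) ≤ μ(E) for every finite locally free
submodule G of E of rank r' ≥ 1; and E is stable in the sense of quotients (μ(E) < μ(F) for every
such quotient map which is not an isomorphism) if and only if μ(G) < μ(E) for every such submodule
whose inclusion is not an isomorphism. (The printed lemma says every nonzero subsheaf; for the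
strict inequalities the subsheaf and the quotient must be proper, as its proof uses.) -/
theorem result (k : Type u) [Field k] (X : Scheme.{u}) [X.Over (Spec (CommRingCat.of k))]
    [IsProper (X ↘ Spec (CommRingCat.of k))] [Smooth (X ↘ Spec (CommRingCat.of k))]
    [GeometricallyConnected (X ↘ Spec (CommRingCat.of k))] (hdim : topologicalKrullDim ↥X = 1)
    (r : ℕ) (hr : 0 < r) (E : X.Modules) (hE : FlatMod.IsFinLocFreeOfRank r E) :
    ((∀ (F : X.Modules) (s : ℕ) (p : E ⟶ F), Epi p → 0 < s → FlatMod.IsFinLocFreeOfRank s F →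
      Curv2.deg k X E r * (s : ℤ) ≤ Curv2.deg k X F s * (r : ℤ)) ↔
      (∀ (G : X.Modules) (r' : ℕ) (i : G ⟶ E), Mono i → 0 < r' → FlatMod.IsFinLocFreeOfRank r' G →
      Curv2.deg k X G r' * (r : ℤ) ≤ Curv2.deg k X E r * (r' : ℤ))) ∧
    ((∀ (F : X.Modules) (s : ℕ) (p : E ⟶ F), Epi p → 0 < s → FlatMod.IsFinLocFreeOfRank s F → (¬ IsIso p) →
      Curv2.deg k X E r * (s : ℤ) < Curv2.deg k X F s * (r : ℤ)) ↔
      (∀ (G : X.Modules) (r' : ℕ) (i : G ⟶ E), Mono i → 0 < r' → FlatMod.IsFinLocFreeOfRank r' G → (¬ IsIso i) →
      Curv2.deg k X G r' * (r : ℤ) < Curv2.deg k X E r * (r' : ℤ))) := by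
  obtain ⟨hint, hnoeth, hpid⟩ := Groth.Agent.Lib.SmoothCurve67.curve_setup k X (le_of_eq hdim)
  have H : Groth.Agent.Lib.ProperFinHyp.Hyp.{u} :=
    fun A _ _ X _ _ M hM n => Groth.Agent.S0002.result A X M hM n
  have hr0 : (0 : ℤ) < r := by exact_mod_cast hr
  have hEc : Coh.IsCoh E := isCoh_of_rank hE
  have hrE : r = rk E := eq_rk_of_isFinLocFreeOfRank hE
  -- common: data of a saturation of a submodule
  have sat : ∀ (G : X.Modules) (r' : ℕ) (i : G ⟶ E), Mono i → 0 < r' → FlatMod.IsFinLocFreeOfRank r' G →
      ∃ (G' : X.Modules) (g' : G' ⟶ E) (j : G ⟶ G'), Mono g' ∧ Mono j ∧ j ≫ g' = i ∧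
        FlatMod.IsFinLocFreeOfRank r' G' ∧ FlatMod.IsFinLocFreeOfRank (r - r') (cokernel g') ∧ r' ≤ r ∧
        Curv2.deg k X G r' ≤ Curv2.deg k X G' r' ∧
        Curv2.deg k X E r = Curv2.deg k X G' r' + Curv2.deg k X (cokernel g') (r - r') := by
    intro G r' i hi hr' hG
    have hGc : Coh.IsCoh G := isCoh_of_rank hG
    have hr'G : r' = rk G := eq_rk_of_isFinLocFreeOfRank hG
    obtain ⟨G', g', j, h1, h2, h3, -, h5, h6, h7, h8, h9⟩ := exists_sat H k X hpid hdim hE i hGc
    rw [← hr'G] at h5 h6 h7 h8 h9
    exact ⟨G', g', j, h1, h2, h3, h5, h6, h7, h8, h9⟩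
  constructor
  · constructor
    · -- quotient-semistable ⇒ sub-semistable
      intro hq G r' i hi hr' hG
      have hr'0 : (0 : ℤ) < r' := by exact_mod_cast hr'
      obtain ⟨G', g', j, hg', hj, hjg, hG'lf, hQlf, hle, hdG, hdE⟩ := sat G r' i hi hr' hG
      rcases Nat.eq_zero_or_pos (r - r') with h0 | hpos
      · -- same rank
        have hrr : r' = r := by omega
        subst hrr
        have hGc : Coh.IsCoh G := isCoh_of_rank hG
        have h1 := deg_le_of_mono H k X (le_of_eq hdim) i hGc hEc
          ((eq_rk_of_isFinLocFreeOfRank hG).symm.trans hrE) r'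
        exact mul_le_mul_of_nonneg_right h1 hr'0.le
      · have h1 := hq (cokernel g') (r - r') (cokernel.π g') inferInstance hpos hQlf
        have h2 : ((r - r' : ℕ) : ℤ) = (r : ℤ) - r' := by
          rw [Nat.cast_sub hle]
        rw [h2] at h1
        have h3 := mul_le_mul_of_nonneg_right hdG hr0.le
        nlinarith
    · -- sub-semistable ⇒ quotient-semistable
      intro hs F s p hp hs0 hF
      have hFc : Coh.IsCoh F := isCoh_of_rank hF
      have h1 := slope_le_of_epi H k X hpid hE hs p hFc
      rw [← eq_rk_of_isFinLocFreeOfRank hF] at h1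
      exact h1
  · constructor
    · -- quotient-stable ⇒ sub-stable
      intro hq G r' i hi hr' hG hni
      have hr'0 : (0 : ℤ) < r' := by exact_mod_cast hr'
      have hGc : Coh.IsCoh G := isCoh_of_rank hG
      obtain ⟨G', g', j, hg', hj, hjg, hG'lf, hQlf, hle, hdG, hdE⟩ := sat G r' i hi hr' hG
      rcases Nat.eq_zero_or_pos (r - r') with h0 | hpos
      · have hrr : r' = r := by omega
        subst hrr
        have h1 := deg_lt_of_not_isIso H k X (le_of_eq hdim) i hGc hEc
          ((eq_rk_of_isFinLocFreeOfRank hG).symm.trans hrE) r' hni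
        exact mul_lt_mul_of_pos_right h1 hr'0
      · have hnp : ¬ IsIso (cokernel.π g') := by
          intro hiso
          have h0 : g' = 0 := by
            rw [← cancel_mono (cokernel.π g'), cokernel.condition, zero_comp]
          have hz : IsZero G' := by
            rw [IsZero.iff_id_eq_zero, ← cancel_mono g', h0, comp_zero, comp_zero]
          exact not_isZero_of_rank_pos X hG'lf hr' hz
        have h1 := hq (cokernel g') (r - r') (cokernel.π g') inferInstance hpos hQlf hnp
        have h2 : ((r - r' : ℕ) : ℤ) = (r : ℤ) - r' := by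
          rw [Nat.cast_sub hle]
        rw [h2] at h1
        have h3 := mul_le_mul_of_nonneg_right hdG hr0.le
        nlinarith
    · -- sub-stable ⇒ quotient-stable
      intro hs F s p hp hs0 hF hnp
      have hFc : Coh.IsCoh F := isCoh_of_rank hF
      have hF0 : ¬ IsZero F := not_isZero_of_rank_pos X hF hs0
      have h1 := slope_lt_of_epi H k X hpid hE hs p hFc hF0 hnp
      rw [← eq_rk_of_isFinLocFreeOfRank hF] at h1
      exact h1

end Groth.Agent.S14151
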