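import Groth.Statements.S1416
import Groth.Agent.Lib.H79FlatSuppDim
import Groth.Agent.Lib.H56FibDimSup
import Groth.Agent.Lib.ModStalk

set_option autoImplicit false
universe u
open FlatMor

namespace Groth.Agent.S1416

set_option linter.style.haveILetI false

open CategoryTheory AlgebraicGeometry TopologicalSpace Topology

theorem isHomeomorph_preimage_inter_range {Z X : Type*} [TopologicalSpace Z] [TopologicalSpace X]
    (i : Z → X) (hi : IsEmbedding i) (A : Set X) :
    IsHomeomorph (fun z : ↥(i ⁻¹' A) => (⟨i z.1, z.2, z.1, rfl⟩ : ↥(A ∩ Set.range i))) := by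
  rw [isHomeomorph_iff_isEmbedding_surjective]
  constructor
  · have h1 : IsEmbedding (fun z : ↥(i ⁻¹' A) => i z.1) := hi.comp IsEmbedding.subtypeVal
    exact h1.codRestrict (A ∩ Set.range i) (fun z => ⟨z.2, z.1, rfl⟩)
  · rintro ⟨x, hxA, z, rfl⟩
    exact ⟨⟨z, hxA⟩, rfl⟩


open AlgebraicGeometry CategoryTheory Limits in
/-- Let f : X → S be locally of finite type with S irreducible with generic point η, and F a
quasi-coherent O_X-module of finite type which is flat over S. If the support of F in the fibre over
η has dimension ≤ r then the support of F in every fibre has dimension ≤ r (supports in fibres taken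
as subspaces of X: the points of the fibre where the stalk of F is nonzero). -/
theorem result {X S : Scheme.{u}} (f : X ⟶ S) [LocallyOfFiniteType f] [IrreducibleSpace ↑S]
    (F : X.Modules) (hF : Coh.IsCoh F) (hfl : FlatMod.IsFlatOver f F) (r : WithBot ℕ∞)
    (h : topologicalKrullDim ↑(f ⁻¹' {genericPoint ↑S} ∩ CohB1.support F) ≤ r) (s : S) :
    topologicalKrullDim ↑(f ⁻¹' {s} ∩ CohB1.support F) ≤ r := by
  haveI : F.IsQuasicoherent := hF.1
  haveI : F.IsFiniteType := hF.2
  have hcl : IsClosed (CohB1.support F) :=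
    Groth.Agent.Lib.ModStalk.isClosed_support_of_isFiniteType F
  let Z₀ : Closeds X := ⟨CohB1.support F, hcl⟩
  let I := Scheme.IdealSheafData.vanishingIdeal Z₀
  let i := I.subschemeι
  have hi : Set.range i = CohB1.support F := by
    rw [I.range_subschemeι, Scheme.IdealSheafData.coe_support_vanishingIdeal]
    rfl
  have key : ∀ y : S, topologicalKrullDim ↑(f ⁻¹' {y} ∩ CohB1.support F) =
      topologicalKrullDim ((i ≫ f).fiber y) := by
    intro y
    have h1 := ((i ≫ f).fiberHomeo y).isHomeomorph.topologicalKrullDim_eq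
    have h2 := (isHomeomorph_preimage_inter_range i i.isClosedEmbedding.isEmbedding
      (f ⁻¹' {y})).topologicalKrullDim_eq
    rw [hi] at h2
    rw [h1, ← h2]
    rfl
  rw [key s, Groth.Agent.Lib.H56LocDim.dim_fiber_le_iff]
  intro z hz
  obtain ⟨ξ, hξ1, hξ2⟩ := Groth.Agent.Lib.H79FlatSuppDim.exists_fibreDimAt_le_of_flat f F hfl i hi z
    (genericPoint S) (genericPoint_specializes _)
  refine hξ2.trans ?_
  rw [key] at h
  exact (Groth.Agent.Lib.H56LocDim.dim_fiber_le_iff (i ≫ f) (genericPoint S) r).1 h ξ
    (by rw [Scheme.Hom.comp_apply]; exact hξ1)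

end Groth.Agent.S1416
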