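import Groth.Statements.S14173
import Groth.Agent.Lib.TwistEquiv
import Groth.Agent.Lib.ProjSpaceFin
import Groth.Agent.Lib.CohLESExact
-- import your own Groth.Agent.* helpers here

set_option autoImplicit false
universe u
open CategoryTheory CategoryTheory.Limits AlgebraicGeometry
open Variety

namespace Groth.Agent.S14173


/-- `O(d) ⊗ O(-d) ≅ O` on `P^n_R`. -/
theorem nonempty_twist_inv (n : ℕ) (R : Type u) [CommRing R] (d : ℤ) :
    Nonempty (CohB1.tensorMod (Twist.twistProjSpace n R d) (Twist.twistProjSpace n R (-d)) ≅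
      Coh.structureModule (CohB1.ProjSpace n R)) := by
  obtain ⟨e0⟩ := Groth.Agent.Lib.H4Twist.nonempty_twistZeroIso (CohB1.polyGrading n R)
  exact ⟨Groth.Agent.Lib.H4Twist.twistMulIso_of_cover (CohB1.polyGrading n R)
    (Groth.Agent.Lib.ProjSpaceFin.hcov n R) d (-d) ≪≫
      CategoryTheory.eqToIso (congrArg (Twist.twist (CohB1.polyGrading n R)) (by ring)) ≪≫ e0⟩

/-- Let k be an algebraically closed field of characteristic zero (the published statement is over the
complex numbers; this row allows any algebraically closed field of characteristic zero) and 0 → F₁ →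
F₂ → F₃ → 0 a short exact sequence of coherent modules on P^n_k. If F₁ and F₃ are m-regular then so
is F₂; equivalently reg F₂ ≤ max(reg F₁, reg F₃). -/
theorem result (k : Type u) [Field k] [IsAlgClosed k] [CharZero k]
    (n : ℕ) (S : ShortComplex (CohB1.ProjSpace n k).Modules) (hS : S.ShortExact)
    (h₁ : Coh.IsCoh S.X₁) (h₂ : Coh.IsCoh S.X₂) (h₃ : Coh.IsCoh S.X₃) (m : ℤ)
    (hreg₁ : Curv2.IsMRegular k n S.X₁ m) (hreg₃ : Curv2.IsMRegular k n S.X₃ m) :
    Curv2.IsMRegular k n S.X₂ m := by

  intro i hi1 hin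
  obtain ⟨e⟩ := nonempty_twist_inv n k (m - i)
  have hT := Groth.Agent.Lib.TwistEquiv.shortExact_map_tensorRight e hS
  have h1 : Subsingleton (Coh.HH (CohB1.ProjSpace n k)
      (S.map (Groth.Agent.Lib.TwistEquiv.tensorRightFunctor (Twist.twistProjSpace n k (m - i)))).X₁ i) :=
    hreg₁ i hi1 hin
  have h3 : Subsingleton (Coh.HH (CohB1.ProjSpace n k)
      (S.map (Groth.Agent.Lib.TwistEquiv.tensorRightFunctor (Twist.twistProjSpace n k (m - i)))).X₃ i) :=
    hreg₃ i hi1 hin
  exact Groth.Agent.Lib.CohLES.subsingleton_mid hT i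

end Groth.Agent.S14173
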