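import Groth.Statements.S14175
import Mathlib.Algebra.Order.Ring.GeomSum
import Mathlib.Algebra.Ring.GeomSum
-- import your own Groth.Agent.* helpers here

set_option autoImplicit false
universe u v w
open GalCoh

namespace Groth.Agent.S14175

open Finset

section Geom

variable {E : Type*} [Ring E]

theorem geom_add (T : E) (a b : ℕ) :
    ∑ i ∈ range (a + b), T ^ i = ∑ i ∈ range a, T ^ i + T ^ a * ∑ i ∈ range b, T ^ i := by
  rw [Finset.sum_range_add, Finset.mul_sum]
  congr 1
  exact Finset.sum_congr rfl fun i _ => pow_add T a i

theorem geom_mul_of_pow_eq_one (T : E) (d : ℕ) (hT : T ^ d = 1) (q : ℕ) :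
    ∑ i ∈ range (d * q), T ^ i = q • ∑ i ∈ range d, T ^ i := by
  induction q with
  | zero => simp
  | succ q ih => rw [Nat.mul_succ, geom_add, ih, pow_mul, hT, one_pow, one_mul, succ_nsmul]

end Geom


/-- Let G be a finite cyclic group generated by t, let m be a natural number dividing the order of G,
and let ρ be a linear representation of G on a module V over a commutative ring k such that m·V = 0
and every element of G whose m-th power is the identity acts trivially on V. Then evaluating a
crossed homomorphism at t induces a bijection from the first cohomology of G with values in V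
(crossed homomorphisms f, i.e. f(gh) = ρ(g)f(h) + f(g), modulo the principal ones g ↦ ρ(g)x − x)
onto the coinvariants V_G (the quotient of V by the span of all ρ(g)v − v): the class of f(t) in V_G
vanishes exactly when f is principal, and every class of V_G is the class of f(t) for some crossed
homomorphism f. The bijection depends on the choice of the generator t. -/
theorem result
    {k : Type u} {G : Type v} {V : Type w} [CommRing k] [Group G] [Finite G]
    [AddCommGroup V] [Module k V] (ρ : Representation k G V)
    (t : G) (ht : ∀ g : G, g ∈ Subgroup.zpowers t)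
    (m : ℕ) (hm : m ∣ Nat.card G) (htors : ∀ v : V, m • v = 0)
    (htriv : ∀ g : G, g ^ m = 1 → ∀ v : V, ρ g v = v) :
    (∀ f : G → V, (∀ g h : G, f (g * h) = ρ g (f h) + f g) →
        (Representation.Coinvariants.mk ρ (f t) = 0 ↔ ∃ x : V, ∀ g : G, f g = ρ g x - x)) ∧
    (∀ v : V, ∃ f : G → V, (∀ g h : G, f (g * h) = ρ g (f h) + f g) ∧
        Representation.Coinvariants.mk ρ (f t) = Representation.Coinvariants.mk ρ v) := by
  classical
  set T : Module.End k V := ρ t with hT
  set S : ℕ → Module.End k V := fun j => ∑ i ∈ range j, T ^ i with hS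
  have hρpow : ∀ j : ℕ, ρ (t ^ j) = T ^ j := fun j => map_pow ρ t j
  have hN : orderOf t = Nat.card G := orderOf_eq_card_of_forall_mem_zpowers ht
  set N := orderOf t with hNdef
  have hTN : T ^ N = 1 := by rw [← hρpow, pow_orderOf_eq_one, map_one]
  obtain ⟨d, hd⟩ := hm
  have hNmd : N = m * d := by rw [hN, hd]
  have hTd : T ^ d = 1 := by
    apply LinearMap.ext
    intro v
    rw [← hρpow]
    exact htriv (t ^ d) (by rw [← pow_mul, mul_comm, ← hNmd, pow_orderOf_eq_one]) v
  have hSN : ∀ v : V, S N v = 0 := by
    intro v
    have : S N = m • S d := by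
      simp only [hS]
      rw [hNmd, mul_comm m d, geom_mul_of_pow_eq_one T d hTd m]
    rw [this, LinearMap.smul_apply]
    exact htors _
  have hSNq : ∀ q : ℕ, ∀ v : V, S (N * q) v = 0 := by
    intro q v
    have : S (N * q) = q • S N := geom_mul_of_pow_eq_one T N hTN q
    rw [this, LinearMap.smul_apply, hSN, smul_zero]
  have hSmod : ∀ (j : ℕ) (v : V), S j v = S (j % N) v := by
    intro j v
    conv_lhs => rw [← Nat.div_add_mod j N]
    have : S (N * (j / N) + j % N) = S (N * (j / N)) + T ^ (N * (j / N)) * S (j % N) :=
      geom_add T _ _
    rw [this, LinearMap.add_apply, hSNq, zero_add, pow_mul, hTN, one_pow, one_mul]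
  have hScongr : ∀ (a b : ℕ) (v : V), t ^ a = t ^ b → S a v = S b v := by
    intro a b v hab
    rw [hSmod a, hSmod b, (pow_eq_pow_iff_modEq.mp hab : a % N = b % N)]
  -- every element is a natural power of `t`
  have hex : ∀ g : G, ∃ n : ℕ, t ^ n = g := fun g =>
    (Submonoid.mem_powers_iff g t).mp (mem_powers_iff_mem_zpowers.mpr (ht g))
  -- crossed homomorphisms are determined by the value at `t`
  have hdet : ∀ f : G → V, (∀ g h : G, f (g * h) = ρ g (f h) + f g) →
      ∀ j : ℕ, f (t ^ j) = S j (f t) := by
    intro f hf j
    have hf1 : f 1 = 0 := by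
      have := hf 1 1
      rw [mul_one, map_one, Module.End.one_apply] at this
      exact left_eq_add.mp this
    induction j with
    | zero => simp [hS, hf1]
    | succ j ih =>
      rw [pow_succ, hf, ih, hρpow]
      simp only [hS]
      rw [Finset.sum_range_succ, LinearMap.add_apply, add_comm]
  constructor
  · intro f hf
    constructor
    · intro h0
      rw [Representation.Coinvariants.mk_eq_zero] at h0
      have hle : Representation.Coinvariants.ker ρ ≤ LinearMap.range (T - 1) := by
        refine Submodule.span_le.mpr ?_
        rintro _ ⟨⟨g, w⟩, rfl⟩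
        obtain ⟨j, rfl⟩ := hex g
        refine ⟨S j w, ?_⟩
        show (T - 1) (S j w) = ρ (t ^ j) w - w
        rw [hρpow, ← Module.End.mul_apply]
        simp only [hS]
        rw [mul_geom_sum, LinearMap.sub_apply, Module.End.one_apply]
      obtain ⟨x, hx⟩ := hle h0
      refine ⟨x, fun g => ?_⟩
      obtain ⟨j, rfl⟩ := hex g
      rw [hdet f hf j, ← hx, ← Module.End.mul_apply]
      simp only [hS]
      rw [geom_sum_mul, LinearMap.sub_apply, Module.End.one_apply, hρpow]
    · rintro ⟨x, hx⟩
      rw [Representation.Coinvariants.mk_eq_zero, hx t]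
      exact Representation.Coinvariants.sub_mem_ker t x
  · intro v
    refine ⟨fun g => S (hex g).choose v, ?_, ?_⟩
    · intro g h
      have hg := (hex g).choose_spec
      have hh := (hex h).choose_spec
      have hgh := (hex (g * h)).choose_spec
      set a := (hex g).choose
      set b := (hex h).choose
      set c := (hex (g * h)).choose
      have h1 : S c v = S (a + b) v := hScongr c (a + b) v (by rw [hgh, pow_add, hg, hh])
      show S c v = ρ g (S b v) + S a v
      rw [h1, ← hg, hρpow]
      have : S (a + b) = S a + T ^ a * S b := geom_add T a b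
      rw [this, LinearMap.add_apply, Module.End.mul_apply, add_comm]
    · have h1 : S (hex t).choose v = S 1 v :=
        hScongr _ 1 v (by rw [(hex t).choose_spec, pow_one])
      show Representation.Coinvariants.mk ρ (S (hex t).choose v) = _
      rw [h1]
      simp [hS]

end Groth.Agent.S14175
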