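import Groth.Statements.S14177
import Mathlib

set_option autoImplicit false
universe u v w
open scoped nonZeroDivisors
open EtAlg

namespace Groth.Agent.S14177

attribute [local instance] FractionRing.liftAlgebra FractionRing.isScalarTower_liftAlgebra

/-- Setup: finiteness and separability of `L/K`. -/
theorem finite_sep {K : Type v} {L : Type w} [Field K] [Field L] [Algebra K L]
    (n : ℕ) (hn : (n : K) ≠ 0) (f : K) (hf : f ≠ 0)
    (α : L) (hα : α ^ n = algebraMap K L f) (hgen : IntermediateField.adjoin K {α} = ⊤) :
    FiniteDimensional K L ∧ Algebra.IsSeparable K L := by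
  have hsep : (Polynomial.X ^ n - Polynomial.C f : Polynomial K).Separable :=
    Polynomial.separable_X_pow_sub_C f hn hf
  have hroot : Polynomial.aeval α (Polynomial.X ^ n - Polynomial.C f : Polynomial K) = 0 := by
    simp [hα]
  have hαsep : IsSeparable K α := hsep.of_dvd (minpoly.dvd K α hroot)
  have hint : IsIntegral K α := hαsep.isIntegral
  have h1 : FiniteDimensional K (IntermediateField.adjoin K {α}) :=
    IntermediateField.adjoin.finiteDimensional hint
  have h2 : Algebra.IsSeparable K (IntermediateField.adjoin K {α}) :=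
    (IntermediateField.isSeparable_adjoin_simple_iff_isSeparable K L).mpr hαsep
  rw [hgen] at h1 h2
  exact ⟨IntermediateField.topEquiv.toLinearEquiv.finiteDimensional,
    Algebra.IsSeparable.of_algHom K (⊤ : IntermediateField K L)
      (IntermediateField.topEquiv (F := K) (E := L)).symm.toAlgHom⟩


open FractionalIdeal in
theorem exists_scaling {A : Type u} {K : Type v} [CommRing A] [IsDedekindDomain A]
    [Field K] [Algebra A K] [IsFractionRing A K]
    (n : ℕ) (hn : n ≠ 0) (f : K) (hf : f ≠ 0)
    (I : FractionalIdeal A⁰ K) (hI : FractionalIdeal.spanSingleton A⁰ f = I ^ n)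
    (p : Ideal A) [hp : p.IsPrime] :
    ∃ (c : K) (a : A), c ≠ 0 ∧ a ∉ p ∧ f * c ^ n = algebraMap A K a := by
  have hI0 : I ≠ 0 := by
    rintro rfl
    rw [zero_pow hn, spanSingleton_eq_zero_iff] at hI
    exact hf hI
  have hIJ : I * I⁻¹ = 1 := mul_inv_cancel₀ hI0
  have hp1 : (p : FractionalIdeal A⁰ K) ≠ 1 := by
    rw [Ne, coeIdeal_eq_one, Ideal.one_eq_top]
    exact hp.ne_top
  have hnle : ¬ I⁻¹ ≤ (p : FractionalIdeal A⁰ K) * I⁻¹ := by
    intro hle
    have h1 : (p : FractionalIdeal A⁰ K) * I⁻¹ ≤ I⁻¹ := by
      calc (p : FractionalIdeal A⁰ K) * I⁻¹ ≤ 1 * I⁻¹ :=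
            mul_le_mul_left (coeIdeal_le_one) _
        _ = I⁻¹ := one_mul _
    have h2 : (p : FractionalIdeal A⁰ K) * I⁻¹ = I⁻¹ := le_antisymm h1 hle
    have h3 : (p : FractionalIdeal A⁰ K) = 1 := by
      have := congrArg (fun x => x * I) h2
      rwa [mul_assoc, inv_mul_cancel₀ hI0, mul_one] at this
    exact hp1 h3
  obtain ⟨c, hcJ, hcp⟩ := SetLike.not_le_iff_exists.mp hnle
  have hc0 : c ≠ 0 := by
    rintro rfl
    exact hcp (zero_mem _)
  have hcle : spanSingleton A⁰ c ≤ I⁻¹ := (spanSingleton_le_iff_mem).mpr hcJ
  have hle1 : I * spanSingleton A⁰ c ≤ 1 := by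
    calc I * spanSingleton A⁰ c ≤ I * I⁻¹ := mul_le_mul_right hcle _
      _ = 1 := hIJ
  have hspan : spanSingleton A⁰ (f * c ^ n) = (I * spanSingleton A⁰ c) ^ n := by
    rw [mul_pow, ← hI, spanSingleton_pow, spanSingleton_mul_spanSingleton]
  have hmem : f * c ^ n ∈ (1 : FractionalIdeal A⁰ K) := by
    rw [← spanSingleton_le_iff_mem, hspan]
    exact pow_le_one' hle1 n
  obtain ⟨a, ha⟩ := (mem_one_iff _).mp hmem
  refine ⟨c, a, hc0, ?_, ha.symm⟩
  intro hap
  obtain ⟨𝔞, h𝔞⟩ := (le_one_iff_exists_coeIdeal).mp hle1
  have h4 : ((𝔞 ^ n : Ideal A) : FractionalIdeal A⁰ K) = ((Ideal.span {a} : Ideal A) : FractionalIdeal A⁰ K) := by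
    rw [coeIdeal_pow, h𝔞, ← hspan, coeIdeal_span_singleton, ha]
  have h5 : 𝔞 ^ n = Ideal.span {a} := coeIdeal_injective h4
  have h6 : 𝔞 ^ n ≤ p := by
    rw [h5, Ideal.span_singleton_le_iff_mem]; exact hap
  have h7 : 𝔞 ≤ p := hp.le_of_pow_le h6
  have h8 : I * spanSingleton A⁰ c ≤ (p : FractionalIdeal A⁰ K) := by
    rw [← h𝔞]; exact coeIdeal_le_coeIdeal K |>.mpr h7
  have h9 : spanSingleton A⁰ c ≤ (p : FractionalIdeal A⁰ K) * I⁻¹ := by
    calc spanSingleton A⁰ c = (I * spanSingleton A⁰ c) * I⁻¹ := by
          rw [mul_comm I, mul_assoc, hIJ, mul_one]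
      _ ≤ (p : FractionalIdeal A⁰ K) * I⁻¹ := mul_le_mul_left h8 _
  exact hcp ((spanSingleton_le_iff_mem).mp h9)


open Polynomial in
theorem not_dvd_different {A : Type u} {K : Type v} {L : Type w} [CommRing A] [IsDedekindDomain A]
    [Field K] [Algebra A K] [IsFractionRing A K]
    [Field L] [Algebra K L] [Algebra A L] [IsScalarTower A K L]
    [FiniteDimensional K L] [Algebra.IsSeparable K L]
    [IsDedekindDomain (integralClosure A L)] [Module.IsTorsionFree A (integralClosure A L)]
    (n : ℕ) (hn : IsUnit (n : A)) (hn0 : n ≠ 0) (f : K) (hf : f ≠ 0)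
    (I : FractionalIdeal A⁰ K) (hI : FractionalIdeal.spanSingleton A⁰ f = I ^ n)
    (α : L) (hα : α ^ n = algebraMap K L f) (hgen : IntermediateField.adjoin K {α} = ⊤)
    (P : Ideal (integralClosure A L)) [hP : P.IsPrime] :
    ¬ differentIdeal A (integralClosure A L) ≤ P := by
  intro hle
  obtain ⟨c, a, hc0, hap, hca⟩ := exists_scaling n hn0 f hf I hI (P.under A)
  set x : L := algebraMap K L c * α with hx
  have hxn : x ^ n = algebraMap A L a := by
    rw [hx, mul_pow, hα, ← map_pow, ← map_mul, mul_comm, hca, ← IsScalarTower.algebraMap_apply]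
  have hmonic : (X ^ n - C a : A[X]).Monic := monic_X_pow_sub_C a hn0
  have hxint : IsIntegral A x := ⟨X ^ n - C a, hmonic, by simp [hxn]⟩
  let xB : integralClosure A L := ⟨x, hxint⟩
  have hxBn : xB ^ n = algebraMap A (integralClosure A L) a := by
    apply Subtype.ext
    simpa using hxn
  have hxBint : IsIntegral A xB := ⟨X ^ n - C a, hmonic, by simp [hxBn]⟩
  -- generation
  have hαalg : IsAlgebraic K α := (Algebra.IsIntegral.isIntegral (R := K) α).isAlgebraic
  have hadjα : Algebra.adjoin K {α} = ⊤ := by
    rw [← IntermediateField.adjoin_simple_toSubalgebra_of_isAlgebraic hαalg, hgen]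
    rfl
  have hadjx : Algebra.adjoin K {algebraMap (integralClosure A L) L xB} = ⊤ := by
    rw [eq_top_iff, ← hadjα]
    apply Algebra.adjoin_le
    intro y hy
    rw [Set.mem_singleton_iff] at hy
    rw [hy]
    have h1 : α = c⁻¹ • x := by
      rw [hx, Algebra.smul_def, ← mul_assoc, ← map_mul, inv_mul_cancel₀ hc0, map_one, one_mul]
    have hxmem : x ∈ Algebra.adjoin K {algebraMap (integralClosure A L) L xB} :=
      Algebra.subset_adjoin (by simp [xB])
    show α ∈ Algebra.adjoin K {algebraMap (integralClosure A L) L xB}
    rw [h1]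
    exact Subalgebra.smul_mem _ hxmem _
  have hmem := aeval_derivative_mem_differentIdeal A K L xB hadjx
  have hroot : aeval xB (X ^ n - C a : A[X]) = 0 := by simp [hxBn]
  obtain ⟨h, hh⟩ := minpoly.isIntegrallyClosed_dvd hxBint hroot
  have hder := congrArg (fun q => aeval xB (derivative q)) hh
  simp only [derivative_sub, derivative_X_pow, derivative_C, sub_zero, derivative_mul, map_add,
    map_mul, minpoly.aeval, zero_mul, add_zero, map_pow, aeval_X, map_natCast] at hder
  have h1 : (n : integralClosure A L) * xB ^ (n - 1) ∈ P := by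
    rw [hder]
    exact P.mul_mem_right _ (hle hmem)
  have hnB : IsUnit (n : integralClosure A L) := by
    have := hn.map (algebraMap A (integralClosure A L))
    simpa using this
  have h2 : xB ^ (n - 1) ∈ P := by
    rcases hP.mem_or_mem h1 with h | h
    · exact absurd (Ideal.eq_top_of_isUnit_mem _ h hnB) hP.ne_top
    · exact h
  have h3 : xB ∈ P := hP.mem_of_pow_mem _ h2
  have h4 : algebraMap A (integralClosure A L) a ∈ P := by
    rw [← hxBn]; exact P.pow_mem_of_mem h3 n (Nat.pos_of_ne_zero hn0)
  exact hap h4


/-- Let A be a Dedekind domain with fraction field K, let n be a natural number invertible in A, let f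
be a nonzero element of K whose principal fractional ideal is the n-th power of a fractional ideal I
(the divisor of f is n times a divisor), and let L = K(α) be a field extension of K generated by a
single element α with α^n = f. Then the integral closure of A in L is finite and étale over A. (The
published statement is for the normalisation of an integral smooth curve over a perfect field in
such an extension of its function field; this row states the same for any Dedekind domain, the case
the local argument covers.) -/
theorem result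
    {A : Type u} {K : Type v} {L : Type w} [CommRing A] [IsDedekindDomain A]
    [Field K] [Algebra A K] [IsFractionRing A K]
    [Field L] [Algebra K L] [Algebra A L] [IsScalarTower A K L]
    (n : ℕ) (hn : IsUnit (n : A)) (f : K) (hf : f ≠ 0)
    (I : FractionalIdeal A⁰ K) (hI : FractionalIdeal.spanSingleton A⁰ f = I ^ n)
    (α : L) (hα : α ^ n = algebraMap K L f) (hgen : IntermediateField.adjoin K {α} = ⊤) :
    Algebra.Etale A (integralClosure A L) ∧ Module.Finite A (integralClosure A L) := by
  have hn0 : n ≠ 0 := by
    rintro rfl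
    simp at hn
  have hnK : (n : K) ≠ 0 := by
    have := hn.map (algebraMap A K)
    simpa using this.ne_zero
  obtain ⟨hfd, hsep⟩ := finite_sep n hnK f hf α hα hgen
  have hfin : Module.Finite A (integralClosure A L) :=
    IsIntegralClosure.finite A K L (integralClosure A L)
  have hded : IsDedekindDomain (integralClosure A L) :=
    IsIntegralClosure.isDedekindDomain A K L (integralClosure A L)
  have hfr : IsFractionRing (integralClosure A L) L :=
    IsIntegralClosure.isFractionRing_of_finite_extension A K L (integralClosure A L)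
  have hinjAL : Function.Injective (algebraMap A L) := by
    rw [IsScalarTower.algebraMap_eq A K L]
    exact (algebraMap K L).injective.comp (IsFractionRing.injective A K)
  have htfL : Module.IsTorsionFree A L := Module.isTorsionFree_iff_algebraMap_injective.mpr hinjAL
  have htf : Module.IsTorsionFree A (integralClosure A L) := inferInstance
  have hflat : Module.Flat A (integralClosure A L) := inferInstance
  have hfp : Algebra.FinitePresentation A (integralClosure A L) :=
    Algebra.FinitePresentation.of_finiteType.mp inferInstance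
  have H : RingHom.comp (algebraMap (FractionRing A) (FractionRing (integralClosure A L)))
      ↑(FractionRing.algEquiv A K).symm.toRingEquiv =
        RingHom.comp ↑(FractionRing.algEquiv (integralClosure A L) L).symm.toRingEquiv
          (algebraMap K L) := by
    apply IsLocalization.ringHom_ext A⁰
    ext
    simp only [RingHom.coe_comp, RingHom.coe_coe,
      AlgEquiv.coe_ringEquiv, Function.comp_apply, AlgEquiv.commutes,
      ← IsScalarTower.algebraMap_apply]
    rw [IsScalarTower.algebraMap_apply A (integralClosure A L) L, AlgEquiv.commutes,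
      ← IsScalarTower.algebraMap_apply]
  have hsepFR : Algebra.IsSeparable (FractionRing A) (FractionRing (integralClosure A L)) :=
    Algebra.IsSeparable.of_equiv_equiv _ _ H
  have hunr : Algebra.FormallyUnramified A (integralClosure A L) := by
    rw [Algebra.formallyUnramified_iff_forall]
    intro q
    have := q.2
    rw [← not_dvd_differentIdeal_iff, Ideal.dvd_iff_le]
    exact not_dvd_different n hn hn0 f hf I hI α hα hgen q.asIdeal
  exact ⟨Algebra.Etale.of_formallyUnramified_of_flat, hfin⟩

end Groth.Agent.S14177
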