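import Groth.Statements.S14178
import Mathlib.FieldTheory.KummerExtension
import Mathlib.RingTheory.DedekindDomain.Factorization
-- import your own Groth.Agent.* helpers here

set_option autoImplicit false
universe u v w
open scoped nonZeroDivisors
open EtAlg

namespace Groth.Agent.S14178

open Polynomial IntermediateField

/-- The group of nonzero fractional ideals of a Dedekind domain has no torsion. -/
theorem fractionalIdeal_eq_of_pow_eq {A : Type u} {K : Type v} [CommRing A] [IsDedekindDomain A]
    [Field K] [Algebra A K] [IsFractionRing A K] (J₁ J₂ : FractionalIdeal A⁰ K)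
    (h₁ : J₁ ≠ 0) (h₂ : J₂ ≠ 0) (n : ℕ) (hn : n ≠ 0) (h : J₁ ^ n = J₂ ^ n) : J₁ = J₂ := by
  rw [← FractionalIdeal.finprod_heightOneSpectrum_factorization' K h₁,
    ← FractionalIdeal.finprod_heightOneSpectrum_factorization' K h₂]
  refine finprod_congr fun v => ?_
  have := congrArg (FractionalIdeal.count K v) h
  rw [FractionalIdeal.count_pow, FractionalIdeal.count_pow] at this
  have hn' : (n : ℤ) ≠ 0 := by exact_mod_cast hn
  rw [mul_right_inj' hn'] at this
  rw [this]

/-- If all roots of the minimal polynomial of `α` are of the form `α * c` with `c` in `K`,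
then `α ^ d` lies in `K` for `d` the degree of the minimal polynomial. -/
theorem pow_natDegree_minpoly_mem_bot {K : Type v} {L : Type w} [Field K] [Field L] [Algebra K L]
    (α : L) (hα0 : α ≠ 0) (hint : IsIntegral K α)
    (hsplit : ((minpoly K α).map (algebraMap K L)).Splits)
    (hroots : ∀ r ∈ ((minpoly K α).map (algebraMap K L)).roots, r / α ∈ (⊥ : IntermediateField K L)) :
    α ^ (minpoly K α).natDegree ∈ (⊥ : IntermediateField K L) := by
  set μ := (minpoly K α).map (algebraMap K L) with hμ
  have hmonic : μ.Monic := (minpoly.monic hint).map _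
  have hdeg : μ.natDegree = (minpoly K α).natDegree := natDegree_map _
  have hcard : μ.roots.card = μ.natDegree := hsplit.natDegree_eq_card_roots.symm
  have hprod : μ.coeff 0 = (-1) ^ μ.natDegree * μ.roots.prod :=
    hsplit.coeff_zero_eq_prod_roots_of_monic hmonic
  -- the product of the roots is `α ^ d` times an element of `K`
  have hfac : μ.roots.prod = α ^ μ.roots.card * (μ.roots.map (fun r => r / α)).prod := by
    have h1 : μ.roots = μ.roots.map (fun r => α * (r / α)) := by
      conv_lhs => rw [← Multiset.map_id μ.roots]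
      refine Multiset.map_congr rfl fun r _ => ?_
      rw [id, mul_div_cancel₀ _ hα0]
    conv_lhs => rw [h1]
    rw [Multiset.prod_map_mul, Multiset.map_const', Multiset.prod_replicate]
  have hc_mem : (μ.roots.map (fun r => r / α)).prod ∈ (⊥ : IntermediateField K L) := by
    refine multiset_prod_mem _ fun c hc => ?_
    obtain ⟨r, hr, rfl⟩ := Multiset.mem_map.mp hc
    exact hroots r hr
  have hc_ne : (μ.roots.map (fun r => r / α)).prod ≠ 0 := by
    rw [Ne, Multiset.prod_eq_zero_iff]
    intro h0
    obtain ⟨r, hr, hr0⟩ := Multiset.mem_map.mp h0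
    have hr0' : r = 0 := by
      rcases div_eq_zero_iff.mp hr0 with h | h
      · exact h
      · exact absurd h hα0
    have hroot : μ.IsRoot 0 := hr0' ▸ (mem_roots'.mp hr).2
    have hcoeff : μ.coeff 0 = 0 := by
      rw [coeff_zero_eq_eval_zero]; exact hroot
    rw [hμ, coeff_map] at hcoeff
    have hc0 : (minpoly K α).coeff 0 = 0 := (algebraMap K L).injective (by rw [hcoeff, map_zero])
    exact minpoly.coeff_zero_ne_zero hint hα0 hc0
  have hcoeff_mem : μ.coeff 0 ∈ (⊥ : IntermediateField K L) := by
    rw [hμ, coeff_map]; exact (⊥ : IntermediateField K L).algebraMap_mem _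
  have hα_eq : α ^ (minpoly K α).natDegree =
      (-1) ^ μ.natDegree * μ.coeff 0 * ((μ.roots.map (fun r => r / α)).prod)⁻¹ := by
    rw [hprod, hfac, hcard, hdeg]
    have : ((-1 : L) ^ (minpoly K α).natDegree) * ((-1) ^ (minpoly K α).natDegree) = 1 := by
      rw [← mul_pow, neg_one_mul, neg_neg, one_pow]
    rw [← mul_assoc ((-1 : L) ^ _), this, one_mul, mul_assoc, mul_inv_cancel₀ hc_ne, mul_one]
  rw [hα_eq]
  exact mul_mem (mul_mem (pow_mem (neg_mem (one_mem _)) _) hcoeff_mem) (inv_mem hc_mem)


/-- Let A be a Dedekind domain with fraction field K, let n be a natural number invertible in A such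
that K contains a primitive n-th root of unity, let f be a nonzero element of K and I an invertible
fractional ideal of A with (f) = I^n whose class in the ideal class group of A has order exactly n
(the divisor of f is n times a divisor whose class has order n), and let L = K(α) be a field
extension of K generated by a single element α with α^n = f. Then L is Galois over K of degree n
with cyclic Galois group. (The published statement is for an integral smooth curve over a perfect
field containing a primitive n-th root of unity, with the Picard group of the curve in place of the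
class group; this row states it for any Dedekind domain.) -/
theorem result
    {A : Type u} {K : Type v} {L : Type w} [CommRing A] [IsDedekindDomain A]
    [Field K] [Algebra A K] [IsFractionRing A K]
    [Field L] [Algebra K L]
    (n : ℕ) (hn : IsUnit (n : A)) (ζ : K) (hζ : IsPrimitiveRoot ζ n) (f : K) (hf : f ≠ 0)
    (I : (FractionalIdeal A⁰ K)ˣ) (hI : FractionalIdeal.spanSingleton A⁰ f = (I : FractionalIdeal A⁰ K) ^ n)
    (hord : orderOf (ClassGroup.mk K I) = n)
    (α : L) (hα : α ^ n = algebraMap K L f) (hgen : IntermediateField.adjoin K {α} = ⊤) :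
    IsGalois K L ∧ IsCyclic (L ≃ₐ[K] L) ∧ Module.finrank K L = n := by
  have hn0 : n ≠ 0 := by
    rintro rfl
    rw [Nat.cast_zero] at hn
    exact not_isUnit_zero hn
  have hnpos : 0 < n := Nat.pos_of_ne_zero hn0
  have : NeZero n := ⟨hn0⟩
  have hαpoly : aeval α (X ^ n - C f : K[X]) = 0 := by
    rw [map_sub, map_pow, aeval_X, aeval_C, hα, sub_self]
  have hpoly_ne : (X ^ n - C f : K[X]) ≠ 0 := X_pow_sub_C_ne_zero hnpos f
  have hint : IsIntegral K α := ⟨X ^ n - C f, monic_X_pow_sub_C f hn0, hαpoly⟩
  have hfL : algebraMap K L f ≠ 0 := (_root_.map_ne_zero _).mpr hf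
  have hα0 : α ≠ 0 := by
    rintro rfl
    rw [zero_pow hn0] at hα
    exact hfL hα.symm
  -- finite-dimensionality and the degree
  have hfd : FiniteDimensional K L := by
    have h1 : FiniteDimensional K K⟮α⟯ := adjoin.finiteDimensional hint
    rw [hgen] at h1
    exact (topEquiv : (⊤ : IntermediateField K L) ≃ₐ[K] L).toLinearEquiv.finiteDimensional
  have hfin : Module.finrank K L = (minpoly K α).natDegree := by
    rw [← adjoin.finrank hint, hgen, finrank_top']
  have hdvd : minpoly K α ∣ X ^ n - C f := minpoly.dvd K α hαpoly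
  have hdle : (minpoly K α).natDegree ≤ n := by
    have := natDegree_le_of_dvd hdvd hpoly_ne
    rwa [natDegree_X_pow_sub_C] at this
  -- splitting over `L`
  have hζL : IsPrimitiveRoot (algebraMap K L ζ) n :=
    hζ.map_of_injective (algebraMap K L).injective
  have hsplitXn : ((X ^ n - C f : K[X]).map (algebraMap K L)).Splits := by
    rw [Polynomial.map_sub, Polynomial.map_pow, map_X, map_C]
    exact X_pow_sub_C_splits_of_isPrimitiveRoot hζL hα
  have hsplit : ((minpoly K α).map (algebraMap K L)).Splits :=
    Splits.of_dvd hsplitXn (Polynomial.map_ne_zero hpoly_ne) (Polynomial.map_dvd _ hdvd)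
  have hroots : ∀ r ∈ ((minpoly K α).map (algebraMap K L)).roots,
      r / α ∈ (⊥ : IntermediateField K L) := by
    intro r hr
    have h1 : ((minpoly K α).map (algebraMap K L)).IsRoot r := (mem_roots'.mp hr).2
    have h2 : ((X ^ n - C f : K[X]).map (algebraMap K L)).IsRoot r :=
      h1.dvd (Polynomial.map_dvd _ hdvd)
    have hr' : r ^ n = algebraMap K L f := by
      rw [IsRoot.def, Polynomial.map_sub, Polynomial.map_pow, map_X, map_C, eval_sub, eval_pow,
        eval_X, eval_C, sub_eq_zero] at h2
      exact h2
    have h3 : (r / α) ^ n = 1 := by rw [div_pow, hr', hα, div_self hfL]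
    obtain ⟨i, -, hi⟩ := hζL.eq_pow_of_pow_eq_one h3
    rw [← hi, ← map_pow]
    exact (⊥ : IntermediateField K L).algebraMap_mem _
  have hmem := pow_natDegree_minpoly_mem_bot α hα0 hint hsplit hroots
  rw [← hfin] at hmem
  obtain ⟨g, hg⟩ := IntermediateField.mem_bot.mp hmem
  set d := Module.finrank K L with hd
  have hinj : Function.Injective (algebraMap K L) := (algebraMap K L).injective
  have hgn : g ^ n = f ^ d := by
    apply hinj
    rw [map_pow, map_pow, hg, ← hα, ← pow_mul, ← pow_mul, mul_comm]
  have hg0 : g ≠ 0 := by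
    rintro rfl
    rw [map_zero] at hg
    exact pow_ne_zero d hα0 hg.symm
  -- ideals
  have hIdeal : FractionalIdeal.spanSingleton A⁰ g ^ n = ((I : FractionalIdeal A⁰ K) ^ d) ^ n := by
    rw [FractionalIdeal.spanSingleton_pow, hgn, ← FractionalIdeal.spanSingleton_pow, hI, ← pow_mul,
      ← pow_mul, mul_comm]
  have hId0 : ((I : FractionalIdeal A⁰ K) ^ d) ≠ 0 := pow_ne_zero d (Units.ne_zero I)
  have hgI : FractionalIdeal.spanSingleton A⁰ g = (I : FractionalIdeal A⁰ K) ^ d :=
    fractionalIdeal_eq_of_pow_eq _ _ (FractionalIdeal.spanSingleton_ne_zero_iff.mpr hg0) hId0 n hn0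
      hIdeal
  have hcl : ClassGroup.mk K I ^ d = 1 := by
    rw [← map_pow, ClassGroup.mk_eq_one_iff]
    refine ⟨⟨g, ?_⟩⟩
    rw [Units.val_pow_eq_pow_val, ← hgI, FractionalIdeal.coe_spanSingleton]
  have hnd : n ∣ d := hord ▸ orderOf_dvd_of_pow_eq_one hcl
  have hdpos : 0 < d := Module.finrank_pos
  have hdn : d = n := Nat.dvd_antisymm (by
    have : d ≤ n := hfin ▸ hdle
    exact (Nat.le_of_dvd hdpos hnd).antisymm this ▸ dvd_rfl) hnd
  have hα' : α ^ Module.finrank K L = algebraMap K L f := by rw [← hd, hdn]; exact hα
  have H : Irreducible (X ^ n - C f : K[X]) := by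
    have := irreducible_X_pow_sub_C_of_root_adjoin_eq_top hα' hgen
    rwa [← hd, hdn] at this
  have hK : (primitiveRoots n K).Nonempty := ⟨ζ, (mem_primitiveRoots hnpos).mpr hζ⟩
  have hsf : IsSplittingField K L (X ^ n - C f) := by
    have hK' : (primitiveRoots (Module.finrank K L) K).Nonempty := by rw [← hd, hdn]; exact hK
    have := isSplittingField_X_pow_sub_C_of_root_adjoin_eq_top hK' hα' hgen
    rwa [← hd, hdn] at this
  exact ⟨isGalois_of_isSplittingField_X_pow_sub_C hK H L,
    isCyclic_of_isSplittingField_X_pow_sub_C hK H L, hdn⟩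

end Groth.Agent.S14178
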