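import Groth.Statements.S14181
-- import your own Groth.Agent.* helpers here

set_option autoImplicit false
universe u
open CategoryTheory
open GalCoh

namespace Groth.Agent.S14181

set_option linter.unusedSectionVars false

open groupCohomology

section
variable {k G : Type u} [CommRing k] [Group G] (A : Rep.{u} k G) (P : Subgroup G) [P.Normal]
  [Fintype P]
  (hP : Function.Bijective fun a : A => (Nat.card P : k) • a)

/-- division by |P| -/
noncomputable def divP : A ≃ₗ[k] A :=
  LinearEquiv.ofBijective (LinearMap.lsmul k A (Nat.card P : k)) hP

lemma smul_divP_symm (a : A) : (Nat.card P : k) • (divP A P hP).symm a = a :=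
  (divP A P hP).apply_symm_apply a

/-- the averaged element `a₀ = (1/|P|) ∑_p f(p)`. -/
noncomputable def avg : cocycles₁ A →ₗ[k] A where
  toFun f := (divP A P hP).symm (∑ p : P, f (p : G))
  map_add' f g := by
    rw [← map_add, ← Finset.sum_add_distrib]; rfl
  map_smul' c f := by
    rw [RingHom.id_apply, ← map_smul, Finset.smul_sum]; rfl

lemma smul_avg (f : cocycles₁ A) : (Nat.card P : k) • avg A P hP f = ∑ p : P, f (p : G) :=
  smul_divP_symm A P hP _

/-- the modified cocycle `f + d a₀` as a function. -/
noncomputable def modf : cocycles₁ A →ₗ[k] (G → A) where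
  toFun f := fun g => f g + A.ρ g (avg A P hP f) - avg A P hP f
  map_add' f g := by
    funext x
    simp only [map_add, Pi.add_apply]
    show (f x + g x) + _ - _ = _
    abel
  map_smul' c f := by
    funext x
    simp only [map_smul, Pi.smul_apply, RingHom.id_apply]
    show c • f x + _ - _ = _
    simp only [smul_sub, smul_add]

lemma modf_apply (f : cocycles₁ A) (g : G) :
    modf A P hP f g = f g + A.ρ g (avg A P hP f) - avg A P hP f := rfl

lemma modf_mul (f : cocycles₁ A) (g h : G) :
    modf A P hP f (g * h) = A.ρ g (modf A P hP f h) + modf A P hP f g := by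
  simp only [modf_apply, (mem_cocycles₁_iff f).1 f.2 g h, map_mul, Module.End.mul_apply,
    map_add, map_sub]
  abel

lemma card_smul_apply (f : cocycles₁ A) (q : G) (hq : q ∈ P) :
    (Nat.card P : k) • f q = (∑ p : P, f (p : G)) - A.ρ q (∑ p : P, f (p : G)) := by
  have h1 : ∑ p : P, f ((q * p : G)) = ∑ p : P, f (p : G) :=
    Fintype.sum_equiv (Equiv.mulLeft (⟨q, hq⟩ : P)) _ _ (fun p => rfl)
  have h2 : ∑ p : P, f ((q * p : G)) = A.ρ q (∑ p : P, f (p : G)) + (Nat.card P : k) • f q := by
    simp only [(mem_cocycles₁_iff f).1 f.2 q, Finset.sum_add_distrib, map_sum,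
      Finset.sum_const, Finset.card_univ, Nat.card_eq_fintype_card, Nat.cast_smul_eq_nsmul]
  exact eq_sub_of_add_eq' (h1.symm.trans h2).symm

lemma modf_mem (f : cocycles₁ A) (q : G) (hq : q ∈ P) : modf A P hP f q = 0 := by
  have h := card_smul_apply A P f q hq
  rw [← smul_avg A P hP f, map_smul, ← smul_sub] at h
  have := hP.1 h
  rw [modf_apply, this]; abel

lemma modf_mul_mem (f : cocycles₁ A) (g q : G) (hq : q ∈ P) :
    modf A P hP f (g * q) = modf A P hP f g := by
  rw [modf_mul, modf_mem A P hP f q hq, map_zero, zero_add]

lemma modf_invariant (f : cocycles₁ A) (g q : G) (hq : q ∈ P) :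
    A.ρ q (modf A P hP f g) = modf A P hP f g := by
  have h1 := modf_mul A P hP f q g
  rw [modf_mem A P hP f q hq, add_zero] at h1
  rw [← h1]
  have : q * g = g * (g⁻¹ * q * g) := by group
  rw [this]
  exact modf_mul_mem A P hP f g _ (Subgroup.Normal.conj_mem' ‹_› _ hq _)

/-- the descended function on `G ⧸ P` with values in `A^P`. -/
noncomputable def descFun (f : cocycles₁ A) : G ⧸ P → (A.quotientToInvariants P) :=
  fun x => Quotient.liftOn' x
    (fun g => ⟨modf A P hP f g, fun q => modf_invariant A P hP f g q.1 q.2⟩)
    (fun g h hgh => Subtype.ext (by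
      have := QuotientGroup.leftRel_apply.1 hgh
      have e := modf_mul_mem A P hP f g _ this
      rw [mul_inv_cancel_left] at e
      exact e.symm))

lemma descFun_mk (f : cocycles₁ A) (g : G) :
    (descFun A P hP f (g : G ⧸ P)).1 = modf A P hP f g := rfl

lemma descFun_mem (f : cocycles₁ A) :
    descFun A P hP f ∈ cocycles₁ (A.quotientToInvariants P) := by
  rw [mem_cocycles₁_iff]
  intro g h
  induction g using QuotientGroup.induction_on with | @H g =>
  induction h using QuotientGroup.induction_on with | @H h =>
  apply Subtype.ext
  exact modf_mul A P hP f g h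

/-- the retraction. -/
noncomputable def retr : cocycles₁ A →ₗ[k] cocycles₁ (A.quotientToInvariants P) where
  toFun f := ⟨descFun A P hP f, descFun_mem A P hP f⟩
  map_add' f g := by
    apply Subtype.ext; funext x
    induction x using QuotientGroup.induction_on with | @H x =>
    apply Subtype.ext
    simp [descFun_mk, map_add]
  map_smul' c f := by
    apply Subtype.ext; funext x
    induction x using QuotientGroup.induction_on with | @H x =>
    apply Subtype.ext
    simp [descFun_mk, map_smul]

end


/-- Let G be a group with a finite normal subgroup P, k a commutative ring and A a k-linear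
representation of G such that multiplication by the order of P is a bijection of A. Then the
inflation map on 1-cocycles (crossed homomorphisms) Z¹(G/P, A^P) → Z¹(G, A) has a k-linear left
inverse. (The published statement is for the inertia group of a Galois cover of smooth curves at a
point, its normal Sylow p-subgroup P and a module of n-torsion with n prime to p; the argument uses
only that the order of P acts invertibly, which is the hypothesis taken here.) -/
theorem result
    {k G : Type u} [CommRing k] [Group G] (A : Rep.{u} k G) (P : Subgroup G) [P.Normal] [Finite P]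
    (hP : Function.Bijective fun a : A => (Nat.card P : k) • a) :
    ∃ r : ModuleCat.of k (groupCohomology.cocycles₁ A) ⟶
        ModuleCat.of k (groupCohomology.cocycles₁ (A.quotientToInvariants P)),
      (groupCohomology.mapCocycles₁ (QuotientGroup.mk' P) (Rep.ofHom (A.ρ.quotientToInvariants_lift P)) :
          ModuleCat.of k (groupCohomology.cocycles₁ (A.quotientToInvariants P)) ⟶
            ModuleCat.of k (groupCohomology.cocycles₁ A)) ≫ r = 𝟙 _ := by
  classical
  have := Fintype.ofFinite P
  refine ⟨ModuleCat.ofHom (retr A P hP), ?_⟩
  refine ModuleCat.hom_ext (LinearMap.ext fun c => ?_)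
  set f := (groupCohomology.mapCocycles₁ (QuotientGroup.mk' P)
    (Rep.ofHom (A.ρ.quotientToInvariants_lift P))).hom c with hf
  have hfg : ∀ g : G, f g = (c (g : G ⧸ P)).1 := fun g => rfl
  have havg : avg A P hP f = 0 := by
    have : ∑ p : P, f (p : G) = 0 := by
      refine Finset.sum_eq_zero fun p _ => ?_
      rw [hfg, (QuotientGroup.eq_one_iff p.1).2 p.2, cocycles₁_map_one]; rfl
    show (divP A P hP).symm _ = 0
    rw [this, map_zero]
  show retr A P hP f = c
  apply Subtype.ext; funext x
  induction x using QuotientGroup.induction_on with | @H x =>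
  apply Subtype.ext
  show modf A P hP f x = _
  rw [modf_apply, havg, map_zero, add_zero, sub_zero, hfg]
  rfl

end Groth.Agent.S14181
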