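import Groth.Statements.S14188
import Mathlib

set_option autoImplicit false
universe u
open CategoryTheory CategoryTheory.Limits AlgebraicGeometry
open FlatMor

namespace Groth.Agent.S14188

/-- Let T be an integral scheme with generic point η, let Y and Z be schemes flat over T with Z
separated over T, and let ψ : Y_η → Z be a T-morphism from the generic fibre Y_η = Y ×_T Spec
O_{T,η} (equivalently, an η-morphism Y_η → Z_η). Let gr : Y_η → Y ×_T Z be the graph of ψ, the
morphism whose components are the projection Y_η → Y and ψ, and let Γ ⊆ Y ×_T Z be the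
scheme-theoretic image of gr (the schematic closure of the graph). Then ψ extends to a T-morphism φ
: Y → Z, meaning that the composite Y_η → Y → Z is ψ, if and only if the composite of the inclusion
Γ → Y ×_T Z with the first projection is an isomorphism Γ ≅ Y. -/
theorem result (T Y Z : Scheme.{u}) [IsIntegral T]
    (pY : Y ⟶ T) (pZ : Z ⟶ T) [Flat pY] [Flat pZ] [IsSeparated pZ]
    (ψ : pullback pY (T.fromSpecStalk (genericPoint T)) ⟶ Z)
    (hψ : ψ ≫ pZ = pullback.fst pY (T.fromSpecStalk (genericPoint T)) ≫ pY)
    (gr : pullback pY (T.fromSpecStalk (genericPoint T)) ⟶ pullback pY pZ)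
    (hgr₁ : gr ≫ pullback.fst pY pZ = pullback.fst pY (T.fromSpecStalk (genericPoint T)))
    (hgr₂ : gr ≫ pullback.snd pY pZ = ψ) :
    (∃ φ : Y ⟶ Z, φ ≫ pZ = pY ∧ pullback.fst pY (T.fromSpecStalk (genericPoint T)) ≫ φ = ψ) ↔
      IsIso (gr.imageι ≫ pullback.fst pY pZ) := by
  let j := pullback.fst pY (T.fromSpecStalk (genericPoint T))
  let pr₁ := pullback.fst pY pZ
  let pr₂ := pullback.snd pY pZ
  constructor
  · rintro ⟨φ, hφ₁, hφ₂⟩
    -- the graph of `φ`
    let Γφ : Y ⟶ pullback pY pZ := pullback.lift (𝟙 Y) φ (by rw [Category.id_comp, hφ₁])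
    have hΓ₁ : Γφ ≫ pr₁ = 𝟙 Y := pullback.lift_fst _ _ _
    have hΓ₂ : Γφ ≫ pr₂ = φ := pullback.lift_snd _ _ _
    have hsep : IsSeparated pr₁ := inferInstance
    have hid : IsClosedImmersion (Γφ ≫ pr₁) := by rw [hΓ₁]; infer_instance
    have hcl : IsClosedImmersion Γφ := IsClosedImmersion.of_comp Γφ pr₁
    have hgr : gr = j ≫ Γφ := by
      apply pullback.hom_ext
      · rw [hgr₁, Category.assoc, hΓ₁, Category.comp_id]
      · rw [hgr₂, Category.assoc, hΓ₂, hφ₂]
    -- `j` is scheme-theoretically dominant
    have hfield : IsField (T.presheaf.stalk (genericPoint T)) := Field.toIsField T.functionField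
    have hqc : QuasiCompact (T.fromSpecStalk (genericPoint T)) := by
      have hsub : Subsingleton (Spec (T.presheaf.stalk (genericPoint T))) := by
        let _ := hfield.toField
        exact inferInstanceAs (Subsingleton (PrimeSpectrum (T.presheaf.stalk (genericPoint T))))
      exact ⟨fun U _ _ => (Set.subsingleton_of_subsingleton).isCompact⟩
    have hdom : IsDominant (T.fromSpecStalk (genericPoint T)) := by
      constructor
      rw [DenseRange, Scheme.range_fromSpecStalk]
      refine Dense.mono ?_ (dense_iff_closure_eq.mpr (genericPoint_spec T).def)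
      intro y hy
      rw [Set.mem_singleton_iff] at hy
      subst hy
      exact specializes_rfl
    have hsd : IsSchemeTheoreticallyDominant (T.fromSpecStalk (genericPoint T)) :=
      IsSchemeTheoreticallyDominant.of_isDominant _
    have hj : IsSchemeTheoreticallyDominant j := inferInstance
    have hker : gr.ker = Γφ.ker := by
      rw [hgr, Scheme.Hom.ker_comp, j.ker_eq_bot, Scheme.IdealSheafData.map_bot]
    change IsIso (gr.ker.subschemeι ≫ pr₁)
    rw [hker]
    change IsIso (Γφ.imageι ≫ pr₁)
    have h1 : Γφ.toImage ≫ (Γφ.imageι ≫ pr₁) = 𝟙 Y := by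
      rw [← Category.assoc, Γφ.toImage_imageι, hΓ₁]
    have : IsIso (Γφ.toImage ≫ (Γφ.imageι ≫ pr₁)) := by rw [h1]; infer_instance
    exact IsIso.of_isIso_comp_left Γφ.toImage _
  · intro hiso
    let π := gr.imageι ≫ pr₁
    have hπ : gr.toImage ≫ π = j := by
      simp only [π]
      rw [← Category.assoc, gr.toImage_imageι, hgr₁]
    refine ⟨inv π ≫ gr.imageι ≫ pr₂, ?_, ?_⟩
    · rw [Category.assoc, Category.assoc, IsIso.inv_comp_eq]
      simp only [π, pr₂, pr₁]
      rw [Category.assoc, pullback.condition]
    · have h2 : j ≫ inv π = gr.toImage := by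
        rw [IsIso.comp_inv_eq, hπ]
      rw [← Category.assoc, h2, ← Category.assoc, gr.toImage_imageι, hgr₂]

end Groth.Agent.S14188
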