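import Groth.Statements.S14189
import Mathlib
import Groth.Agent.Lib.SchDense68

set_option autoImplicit false
universe u
open CategoryTheory CategoryTheory.Limits AlgebraicGeometry
open FlatMor

namespace Groth.Agent.S14189

open AlgebraicGeometry CategoryTheory Limits in
theorem quasiCompact_fromSpecStalk_genericPoint (T : Scheme.{u}) [IsIntegral T] :
    QuasiCompact (T.fromSpecStalk (genericPoint T)) := by
  have hfield : IsField (T.presheaf.stalk (genericPoint T)) := Field.toIsField T.functionField
  have hsub : Subsingleton (Spec (T.presheaf.stalk (genericPoint T))) := by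
    let _ := hfield.toField
    exact inferInstanceAs (Subsingleton (PrimeSpectrum (T.presheaf.stalk (genericPoint T))))
  exact ⟨fun U _ _ => (Set.subsingleton_of_subsingleton).isCompact⟩

open AlgebraicGeometry CategoryTheory Limits in
theorem isSchemeTheoreticallyDominant_fromSpecStalk_genericPoint (T : Scheme.{u}) [IsIntegral T] :
    IsSchemeTheoreticallyDominant (T.fromSpecStalk (genericPoint T)) := by
  have hdom : IsDominant (T.fromSpecStalk (genericPoint T)) := by
    constructor
    rw [DenseRange, Scheme.range_fromSpecStalk]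
    refine Dense.mono ?_ (dense_iff_closure_eq.mpr (genericPoint_spec T).def)
    intro y hy
    rw [Set.mem_singleton_iff] at hy
    subst hy
    exact specializes_rfl
  exact IsSchemeTheoreticallyDominant.of_isDominant _

/-- Let T be an integral scheme with generic point η, let Y and Z be schemes flat over T with Z
separated over T, and let ψ : Y_η → Z be a T-morphism from the generic fibre Y_η = Y ×_T Spec
O_{T,η}. Let g : T' → T be flat, surjective and quasi-compact, and let φ' : Y_{T'} → Z_{T'} be a
T'-morphism which agrees with ψ over T' ×_T η, in the sense that on Y_{T'} ×_Y Y_η = Y ×_T T' ×_T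
Spec O_{T,η} the composite of the first projection with φ' and with Z_{T'} → Z equals the composite
of the second projection with ψ. Then ψ extends to a T-morphism φ : Y → Z, one whose composite with
Y_η → Y is ψ. (The published statement is an equivalence and also records that an extension, when it
exists, is unique; the converse direction, that an extension over T base-changes to such a φ' over
any such T', is immediate, and this row states the existence direction only.) -/
theorem result (T Y Z T' : Scheme.{u}) [IsIntegral T]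
    (pY : Y ⟶ T) (pZ : Z ⟶ T) [Flat pY] [Flat pZ] [IsSeparated pZ]
    (ψ : pullback pY (T.fromSpecStalk (genericPoint T)) ⟶ Z)
    (hψ : ψ ≫ pZ = pullback.fst pY (T.fromSpecStalk (genericPoint T)) ≫ pY)
    (g : T' ⟶ T) [Flat g] [Surjective g] [QuasiCompact g]
    (φ' : pullback pY g ⟶ pullback pZ g) (hφ' : φ' ≫ pullback.snd pZ g = pullback.snd pY g)
    (hagree : pullback.fst (pullback.fst pY g) (pullback.fst pY (T.fromSpecStalk (genericPoint T))) ≫ φ' ≫ pullback.fst pZ g =
      pullback.snd (pullback.fst pY g) (pullback.fst pY (T.fromSpecStalk (genericPoint T))) ≫ ψ) :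
    ∃ φ : Y ⟶ Z, φ ≫ pZ = pY ∧ pullback.fst pY (T.fromSpecStalk (genericPoint T)) ≫ φ = ψ := by
  let e := T.fromSpecStalk (genericPoint T)
  have hqc : QuasiCompact e := quasiCompact_fromSpecStalk_genericPoint T
  have hsd : IsSchemeTheoreticallyDominant e := isSchemeTheoreticallyDominant_fromSpecStalk_genericPoint T
  let j := pullback.fst pY e
  let h := pullback.fst pY g
  let φ'' : pullback pY g ⟶ Z := φ' ≫ pullback.fst pZ g
  have hφ''Z : φ'' ≫ pZ = h ≫ pY := by
    simp only [φ'', h, Category.assoc]
    rw [pullback.condition, ← Category.assoc, hφ', pullback.condition]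
  have hag : pullback.fst h j ≫ φ'' = pullback.snd h j ≫ ψ := hagree
  -- kernel pair
  let p₁ := pullback.fst h h
  let p₂ := pullback.snd h h
  have hp : p₁ ≫ h = p₂ ≫ h := pullback.condition
  let q := p₁ ≫ h ≫ pY
  have hq : Flat q := inferInstance
  let d := pullback.fst q e
  have hd : IsSchemeTheoreticallyDominant d := inferInstance
  have hcondc : (d ≫ p₁ ≫ h) ≫ pY = pullback.snd q e ≫ e := by
    simp only [Category.assoc]
    exact pullback.condition
  let c : pullback q e ⟶ pullback pY e := pullback.lift (d ≫ p₁ ≫ h) (pullback.snd q e) hcondc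
  have hc : c ≫ j = d ≫ p₁ ≫ h := pullback.lift_fst _ _ _
  have key : ∀ (pi : pullback h h ⟶ pullback pY g), pi ≫ h = p₁ ≫ h → d ≫ pi ≫ φ'' = c ≫ ψ := by
    intro pi hpi
    have hcond : (d ≫ pi) ≫ h = c ≫ j := by
      rw [Category.assoc, hpi, hc]
    let m := pullback.lift (d ≫ pi) c hcond
    have hm1 : m ≫ pullback.fst h j = d ≫ pi := pullback.lift_fst _ _ _
    have hm2 : m ≫ pullback.snd h j = c := pullback.lift_snd _ _ _
    rw [← Category.assoc, ← hm1, Category.assoc, hag, ← Category.assoc, hm2]
  have heq : p₁ ≫ φ'' = p₂ ≫ φ'' := by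
    refine Groth.Agent.Lib.SchDense68.ext_of_isSchemeTheoreticallyDominant_of_isSeparated pZ ?_ d ?_
    · have e1 : (p₁ ≫ φ'') ≫ pZ = p₁ ≫ h ≫ pY := by
        rw [Category.assoc]; exact congrArg (p₁ ≫ ·) hφ''Z
      have e2 : (p₂ ≫ φ'') ≫ pZ = p₂ ≫ h ≫ pY := by
        rw [Category.assoc]; exact congrArg (p₂ ≫ ·) hφ''Z
      rw [e1, e2, ← Category.assoc, hp, Category.assoc]
    · rw [key p₁ rfl, key p₂ hp.symm]
  -- descend
  have hdesc : ∀ {W : Scheme.{u}} (g₁ g₂ : W ⟶ pullback pY g), g₁ ≫ h = g₂ ≫ h →
      g₁ ≫ φ'' = g₂ ≫ φ'' := by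
    intro W g₁ g₂ hg
    let l := pullback.lift g₁ g₂ hg
    have h1 : l ≫ p₁ = g₁ := pullback.lift_fst _ _ _
    have h2 : l ≫ p₂ = g₂ := pullback.lift_snd _ _ _
    rw [← h1, ← h2, Category.assoc, Category.assoc, heq]
  let φ : Y ⟶ Z := EffectiveEpi.desc h φ'' hdesc
  have hφ : h ≫ φ = φ'' := EffectiveEpi.fac h φ'' hdesc
  have hepi : Epi h := inferInstance
  refine ⟨φ, ?_, ?_⟩
  · rw [← cancel_epi h, ← Category.assoc, hφ, hφ''Z]
  · let k := pullback.snd h j
    have hk : Epi k := Flat.epi_of_flat_of_surjective k
    rw [← cancel_epi k]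
    have : k ≫ j = pullback.fst h j ≫ h := pullback.condition.symm
    rw [← Category.assoc, this, Category.assoc, hφ, hag]

end Groth.Agent.S14189
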