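import Groth.Statements.S14192
import Mathlib.RingTheory.PowerSeries.Derivative

set_option autoImplicit false
open PowerSeries
open StackCount

namespace Groth.Agent.S14192

/-- `exp(P)` for a power series `P` without constant term. -/
noncomputable abbrev E (P : ℚ⟦X⟧) : ℚ⟦X⟧ := (PowerSeries.exp ℚ).subst P

theorem hasSubst_of_cc {P : ℚ⟦X⟧} (hP : constantCoeff P = 0) : HasSubst P :=
  HasSubst.of_constantCoeff_zero' hP

theorem derivative_E {P : ℚ⟦X⟧} (hP : constantCoeff P = 0) :
    d⁄dX ℚ (E P) = E P * d⁄dX ℚ P := by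
  rw [E, derivative_subst (hasSubst_of_cc hP), derivative_exp]

theorem constantCoeff_E {P : ℚ⟦X⟧} (hP : constantCoeff P = 0) : constantCoeff (E P) = 1 := by
  rw [E, ← coeff_zero_eq_constantCoeff_apply, coeff_subst' (hasSubst_of_cc hP)]
  rw [finsum_eq_single _ 0]
  · simp
  · intro n hn
    rw [coeff_zero_eq_constantCoeff_apply, map_pow, hP, zero_pow hn, smul_zero]

theorem E_mul_E_neg {A : ℚ⟦X⟧} (hA : constantCoeff A = 0) : E A * E (-A) = 1 := by
  have hA' : constantCoeff (-A) = 0 := by rw [map_neg, hA, neg_zero]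
  apply derivative.ext
  · rw [Derivation.leibniz, derivative_E hA, derivative_E hA', map_neg, derivative_one]
    simp only [smul_eq_mul]
    ring
  · rw [map_mul, constantCoeff_E hA, constantCoeff_E hA', map_one, mul_one]

theorem E_add {A B : ℚ⟦X⟧} (hA : constantCoeff A = 0) (hB : constantCoeff B = 0) :
    E (A + B) = E A * E B := by
  have hA' : constantCoeff (-A) = 0 := by rw [map_neg, hA, neg_zero]
  have hB' : constantCoeff (-B) = 0 := by rw [map_neg, hB, neg_zero]
  have hAB : constantCoeff (A + B) = 0 := by rw [map_add, hA, hB, add_zero]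
  have key : E (A + B) * E (-A) * E (-B) = 1 := by
    apply derivative.ext
    · rw [Derivation.leibniz, Derivation.leibniz, derivative_E hAB, derivative_E hA',
        derivative_E hB', map_neg, map_neg, map_add, derivative_one]
      simp only [smul_eq_mul]
      ring
    · rw [map_mul, map_mul, constantCoeff_E hAB, constantCoeff_E hA', constantCoeff_E hB', map_one,
        mul_one, mul_one]
  calc E (A + B) = E (A + B) * (E A * E (-A)) * (E B * E (-B)) := by
        rw [E_mul_E_neg hA, E_mul_E_neg hB, mul_one, mul_one]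
    _ = (E (A + B) * E (-A) * E (-B)) * (E A * E B) := by ring
    _ = E A * E B := by rw [key, one_mul]

theorem E_zero : E 0 = 1 := by
  have := E_mul_E_neg (A := 0) (map_zero _)
  have h2 := E_add (A := 0) (B := 0) (map_zero _) (map_zero _)
  rw [add_zero] at h2
  rw [neg_zero] at this
  rw [this] at h2
  exact h2

/-- `L a = Σ_{v ≥ 1} a ^ v t ^ v / v = - log (1 - a t)`. -/
noncomputable def L (a : ℚ) : ℚ⟦X⟧ :=
  PowerSeries.mk fun v : ℕ => if v = 0 then (0 : ℚ) else a ^ v / (v : ℚ)

theorem constantCoeff_L (a : ℚ) : constantCoeff (L a) = 0 := by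
  rw [← coeff_zero_eq_constantCoeff_apply, L, coeff_mk, if_pos rfl]

theorem derivative_L (a : ℚ) : d⁄dX ℚ (L a) = PowerSeries.mk fun n : ℕ => a ^ (n + 1) := by
  ext n
  rw [coeff_derivative, L, coeff_mk, coeff_mk, if_neg (Nat.succ_ne_zero n)]
  have : ((n + 1 : ℕ) : ℚ) ≠ 0 := Nat.cast_ne_zero.mpr (Nat.succ_ne_zero n)
  push_cast at this ⊢
  field_simp

theorem derivative_L_mul (a : ℚ) : d⁄dX ℚ (L a) * (1 - C a * X) = C a := by
  rw [derivative_L]
  ext n
  rw [mul_sub, mul_one, map_sub, ← mul_assoc]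
  cases n with
  | zero =>
    rw [coeff_zero_mul_X, coeff_mk, coeff_zero_C]
    simp
  | succ m =>
    rw [coeff_succ_mul_X, coeff_mul_C, coeff_mk, coeff_mk, coeff_C, if_neg (Nat.succ_ne_zero m)]
    ring

theorem E_L_mul (a : ℚ) : E (L a) * (1 - C a * X) = 1 := by
  apply derivative.ext
  · rw [Derivation.leibniz, derivative_E (constantCoeff_L a), derivative_one, map_sub,
      derivative_one, Derivation.leibniz, derivative_C, derivative_X]
    simp only [smul_eq_mul]
    have h := derivative_L_mul a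
    have : E (L a) * ((1 - C a * X) * d⁄dX ℚ (L a) - C a) = 0 := by
      rw [mul_comm (1 - C a * X), h, sub_self, mul_zero]
    linear_combination this
  · rw [map_mul, constantCoeff_E (constantCoeff_L a)]
    simp

theorem E_nsmul {A : ℚ⟦X⟧} (hA : constantCoeff A = 0) (m : ℕ) : E (m • A) = E A ^ m := by
  induction m with
  | zero => rw [zero_smul, pow_zero, E_zero]
  | succ m ih =>
    have h1 : constantCoeff (m • A) = 0 := by rw [map_nsmul, hA, smul_zero]
    rw [succ_nsmul, E_add h1 hA, ih, pow_succ]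

theorem E_zsmul_mul (a : ℚ) (r : ℤ) :
    E (r • L a) * (1 - C a * X) ^ r.toNat = (1 - C a * X) ^ (-r).toNat := by
  have hL := constantCoeff_L a
  rcases le_or_gt 0 r with hr | hr
  · obtain ⟨m, rfl⟩ := Int.eq_ofNat_of_zero_le hr
    rw [natCast_zsmul, E_nsmul hL, Int.toNat_natCast, ← mul_pow, E_L_mul, one_pow]
    have : (-(m : ℤ)).toNat = 0 := by omega
    rw [this, pow_zero]
  · obtain ⟨m, hm⟩ : ∃ m : ℕ, r = -(m : ℤ) := ⟨(-r).toNat, by omega⟩
    subst hm
    have h1 : (-(m : ℤ)).toNat = 0 := by omega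
    have h2 : (- -(m : ℤ)).toNat = m := by omega
    rw [h1, h2, pow_zero, mul_one, neg_smul, natCast_zsmul]
    have hm : constantCoeff (m • L a) = 0 := by rw [map_nsmul, hL, smul_zero]
    have e1 := E_mul_E_neg hm
    have e2 : E (m • L a) * (1 - C a * X) ^ m = 1 := by
      rw [E_nsmul hL, ← mul_pow, E_L_mul, one_pow]
    calc E (-(m • L a)) = E (-(m • L a)) * (E (m • L a) * (1 - C a * X) ^ m) := by
          rw [e2, mul_one]
      _ = (E (m • L a) * E (-(m • L a))) * (1 - C a * X) ^ m := by ring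
      _ = (1 - C a * X) ^ m := by rw [e1, one_mul]

theorem E_sum {ι : Type*} (s : Finset ι) (c : ι → ℚ⟦X⟧) (hc : ∀ i ∈ s, constantCoeff (c i) = 0) :
    E (∑ i ∈ s, c i) = ∏ i ∈ s, E (c i) := by
  classical
  induction s using Finset.induction_on with
  | empty => rw [Finset.sum_empty, Finset.prod_empty, E_zero]
  | insert i s hi ih =>
    have h1 : constantCoeff (∑ j ∈ s, c j) = 0 := by
      rw [map_sum]
      exact Finset.sum_eq_zero fun j hj => hc j (Finset.mem_insert_of_mem hj)
    rw [Finset.sum_insert hi, Finset.prod_insert hi,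
      E_add (hc i (Finset.mem_insert_self i s)) h1,
      ih fun j hj => hc j (Finset.mem_insert_of_mem hj)]

/-- Let R = Σ_n r_n X^n be a Laurent polynomial with integer coefficients and q > 1 an integer. In the
ring of formal power series in t over ℚ, the exponential of Σ_{v ≥ 1} R(q^v) t^v / v equals the
finite product Π_n (1 - q^n t)^(-r_n). Stated here with denominators cleared: the exponential series
multiplied by Π_{n : r_n > 0} (1 - q^n t)^(r_n) equals Π_{n : r_n < 0} (1 - q^n t)^(-r_n) (each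
factor 1 - q^n t is a unit, so this is equivalent). -/
theorem result (R : LaurentPolynomial ℤ) (q : ℤ) (hq : 1 < q) :
    (PowerSeries.exp ℚ).subst
        (PowerSeries.mk fun v : ℕ => if v = 0 then (0 : ℚ)
          else (R.coeff.sum fun (n : ℤ) (r : ℤ) => (r : ℚ) * (q : ℚ) ^ (n * (v : ℤ))) / (v : ℚ))
      * ∏ n ∈ R.coeff.support, (1 - PowerSeries.C ((q : ℚ) ^ n) * PowerSeries.X) ^ (R.coeff n).toNat
    = ∏ n ∈ R.coeff.support, (1 - PowerSeries.C ((q : ℚ) ^ n) * PowerSeries.X) ^ (-(R.coeff n)).toNat := by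
  have hP : (PowerSeries.mk fun v : ℕ => if v = 0 then (0 : ℚ)
      else (R.coeff.sum fun (n : ℤ) (r : ℤ) => (r : ℚ) * (q : ℚ) ^ (n * (v : ℤ))) / (v : ℚ)) =
      ∑ n ∈ R.coeff.support, (R.coeff n) • L ((q : ℚ) ^ n) := by
    ext v
    rw [coeff_mk, map_sum]
    by_cases hv : v = 0
    · subst hv
      rw [if_pos rfl]
      symm
      apply Finset.sum_eq_zero
      intro n _
      rw [coeff_zero_eq_constantCoeff_apply, map_zsmul, constantCoeff_L, smul_zero]
    · rw [if_neg hv, Finsupp.sum, div_eq_mul_inv, Finset.sum_mul]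
      apply Finset.sum_congr rfl
      intro n _
      rw [map_zsmul, L, coeff_mk, if_neg hv, zsmul_eq_mul, zpow_mul, zpow_natCast, div_eq_mul_inv, mul_assoc]
  rw [hP]
  change E _ * _ = _
  rw [E_sum _ _ fun n _ => by rw [map_zsmul, constantCoeff_L, smul_zero], ← Finset.prod_mul_distrib]
  exact Finset.prod_congr rfl fun n _ => E_zsmul_mul _ _

end Groth.Agent.S14192
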