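import Groth.Statements.S14194
import Mathlib
-- import your own Groth.Agent.* helpers here

set_option autoImplicit false
universe u
open W4c1btstackcounts
open StackCount

namespace Groth.Agent.S14194

open W4c1btstackcounts
set_option linter.unusedSectionVars false

section chain

variable {k : Type u} [Field k] {V : ℕ → Type u} [∀ i, AddCommGroup (V i)] [∀ i, Module k (V i)]

/-- `iot i j : V i → V j` is the identity if `i = j` and zero otherwise. -/
noncomputable def iot (k : Type u) [Field k] (V : ℕ → Type u) [∀ i, AddCommGroup (V i)]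
    [∀ i, Module k (V i)] (i j : ℕ) : V i →ₗ[k] V j :=
  (LinearMap.proj j) ∘ₗ (LinearMap.single k V i)

theorem iot_self (i : ℕ) : iot k V i i = LinearMap.id := by
  ext x; simp [iot]

theorem iot_ne {i j : ℕ} (h : i ≠ j) : iot k V i j = 0 := by
  ext x; simp [iot, Pi.single_eq_of_ne h.symm]

/-- composite `V i → V j` of the chain (zero when `j < i`). -/
noncomputable def Cmp (f : ∀ i, V i →ₗ[k] V (i+1)) (i : ℕ) : ∀ j, V i →ₗ[k] V j
  | 0 => iot k V i 0
  | j+1 => iot k V i (j+1) + f j ∘ₗ Cmp f i j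

theorem Cmp_of_lt (f : ∀ i, V i →ₗ[k] V (i+1)) {i j : ℕ} (h : j < i) : Cmp f i j = 0 := by
  induction j with
  | zero => simp only [Cmp]; exact iot_ne (by omega)
  | succ j ih =>
    simp only [Cmp]
    rw [iot_ne (by omega), ih (by omega)]
    simp

theorem Cmp_self (f : ∀ i, V i →ₗ[k] V (i+1)) (i : ℕ) : Cmp f i i = LinearMap.id := by
  cases i with
  | zero => simp only [Cmp]; exact iot_self 0
  | succ i =>
    simp only [Cmp]
    rw [iot_self, Cmp_of_lt f (by omega)]
    simp

theorem Cmp_succ (f : ∀ i, V i →ₗ[k] V (i+1)) {i j : ℕ} (h : i ≤ j) :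
    Cmp f i (j+1) = f j ∘ₗ Cmp f i j := by
  simp only [Cmp]
  rw [iot_ne (by omega)]
  simp

theorem Cmp_comp (f : ∀ i, V i →ₗ[k] V (i+1)) {i j l : ℕ} (hij : i ≤ j) (hjl : j ≤ l) :
    Cmp f j l ∘ₗ Cmp f i j = Cmp f i l := by
  induction l, hjl using Nat.le_induction with
  | base => rw [Cmp_self]; simp
  | succ l hl ih =>
    rw [Cmp_succ f hl, Cmp_succ f (le_trans hij hl), LinearMap.comp_assoc, ih]

theorem Cmp_comp_apply (f : ∀ i, V i →ₗ[k] V (i+1)) {i j l : ℕ} (hij : i ≤ j) (hjl : j ≤ l)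
    (x : V i) : Cmp f j l (Cmp f i j x) = Cmp f i l x := by
  rw [← Cmp_comp f hij hjl]; rfl

theorem Cmp_one (f : ∀ i, V i →ₗ[k] V (i+1)) (i : ℕ) : Cmp f i (i+1) = f i := by
  rw [Cmp_succ f le_rfl, Cmp_self]; simp

variable {W : ℕ → Type u} [∀ i, AddCommGroup (W i)] [∀ i, Module k (W i)]

theorem Cmp_natural (f : ∀ i, V i →ₗ[k] V (i+1)) (f' : ∀ i, W i →ₗ[k] W (i+1))
    (φ : ∀ j, V j →ₗ[k] W j) (h : ∀ j, φ (j+1) ∘ₗ f j = f' j ∘ₗ φ j) {i j : ℕ} (hij : i ≤ j) :
    φ j ∘ₗ Cmp f i j = Cmp f' i j ∘ₗ φ i := by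
  induction j, hij using Nat.le_induction with
  | base => rw [Cmp_self, Cmp_self]; simp
  | succ j hj ih =>
    rw [Cmp_succ f hj, Cmp_succ f' hj, ← LinearMap.comp_assoc, h j, LinearMap.comp_assoc, ih,
      LinearMap.comp_assoc]

/-- the rank array of an abstract chain -/
noncomputable def rk (f : ∀ i, V i →ₗ[k] V (i+1)) (i j : ℕ) : ℕ :=
  Module.finrank k (LinearMap.range (Cmp f i j))

end chain


section chain2

variable {k : Type u} [Field k] {V : ℕ → Type u} [∀ i, AddCommGroup (V i)] [∀ i, Module k (V i)]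
  [∀ i, FiniteDimensional k (V i)]
  {W : ℕ → Type u} [∀ i, AddCommGroup (W i)] [∀ i, Module k (W i)]
  [∀ i, FiniteDimensional k (W i)]

theorem rk_conj (f : ∀ i, V i →ₗ[k] V (i+1)) (f' : ∀ i, W i →ₗ[k] W (i+1))
    (φ : ∀ j, V j ≃ₗ[k] W j)
    (h : ∀ j, (φ (j+1)).toLinearMap ∘ₗ f j = f' j ∘ₗ (φ j).toLinearMap) {i j : ℕ}
    (hij : i ≤ j) : rk f' i j = rk f i j := by
  unfold rk
  have h1 := Cmp_natural f f' (fun j => (φ j).toLinearMap) h hij
  have h2 : LinearMap.range (Cmp f' i j) =
      LinearMap.range (Cmp f' i j ∘ₗ (φ i).toLinearMap) := by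
    rw [LinearMap.range_comp_of_range_eq_top _ (LinearEquiv.range (φ i))]
  rw [h2, ← h1, LinearMap.range_comp]
  exact LinearEquiv.finrank_map_eq (φ j) _

theorem rk_self (f : ∀ i, V i →ₗ[k] V (i+1)) (j : ℕ) : rk f j j = Module.finrank k (V j) := by
  unfold rk; rw [Cmp_self, LinearMap.range_id, finrank_top]

theorem rk_le_succ_left (f : ∀ i, V i →ₗ[k] V (i+1)) {i j : ℕ} (h : i < j) :
    rk f i j ≤ rk f (i+1) j := by
  unfold rk
  rw [← Cmp_comp f (Nat.le_succ i) h]
  exact Submodule.finrank_mono (LinearMap.range_comp_le_range _ _)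

theorem rk_succ_le (f : ∀ i, V i →ₗ[k] V (i+1)) {i j : ℕ} (h : i ≤ j) :
    rk f i (j+1) ≤ rk f i j := by
  unfold rk
  rw [Cmp_succ f h, LinearMap.range_comp]
  exact Submodule.finrank_map_le _ _

theorem finrank_ker_domRestrict {M M' : Type u} [AddCommGroup M] [Module k M]
    [AddCommGroup M'] [Module k M'] (f : M →ₗ[k] M') (W : Submodule k M) :
    Module.finrank k (LinearMap.ker (f.domRestrict W)) =
      Module.finrank k (W ⊓ LinearMap.ker f : Submodule k M) := by
  rw [LinearMap.ker_domRestrict, ← Submodule.finrank_map_subtype_eq, Submodule.map_comap_subtype]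

theorem lemD {M M' : Type u} [AddCommGroup M] [Module k M] [FiniteDimensional k M]
    [AddCommGroup M'] [Module k M'] (f : M →ₗ[k] M') {U W : Submodule k M} (hUW : U ≤ W) :
    Module.finrank k (W.map f) + Module.finrank k U ≤
      Module.finrank k W + Module.finrank k (U.map f) := by
  have hW := LinearMap.finrank_range_add_finrank_ker (f.domRestrict W)
  have hU := LinearMap.finrank_range_add_finrank_ker (f.domRestrict U)
  rw [LinearMap.range_domRestrict, finrank_ker_domRestrict] at hW hU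
  have hker : Module.finrank k (U ⊓ LinearMap.ker f : Submodule k M) ≤
      Module.finrank k (W ⊓ LinearMap.ker f : Submodule k M) :=
    Submodule.finrank_mono (inf_le_inf_right _ hUW)
  omega

theorem rk_ineq (f : ∀ i, V i →ₗ[k] V (i+1)) {i j : ℕ} (h : i + 1 ≤ j) :
    rk f (i+1) (j+1) + rk f i j ≤ rk f (i+1) j + rk f i (j+1) := by
  unfold rk
  rw [Cmp_succ f h, Cmp_succ f (by omega : i ≤ j), LinearMap.range_comp, LinearMap.range_comp]
  apply lemD
  rw [← Cmp_comp f (Nat.le_succ i) h]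
  exact LinearMap.range_comp_le_range _ _

end chain2


section sep

variable {k : Type u} [Field k] {V : ℕ → Type u} [∀ i, AddCommGroup (V i)] [∀ i, Module k (V i)]
  [∀ i, FiniteDimensional k (V i)]

/-- data of an interval summand `[j0, e]` of a chain together with a retraction -/
structure Strand (f : ∀ i, V i →ₗ[k] V (i+1)) (j0 e r : ℕ) where
  vec : ∀ j, V j
  Λ : ∀ j, V j →ₗ[k] k
  hje : j0 ≤ e
  ha : ∀ i j, j0 ≤ i → i ≤ j → Cmp f i j (vec i) = vec j
  hb : ∀ i j, i ≤ j → j ≤ e → ∀ x, Λ j (Cmp f i j x) = Λ i x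
  hc : ∀ i, e < i → Λ i = 0
  hd : ∀ i, i < j0 → Λ i = 0
  he : ∀ i, j0 ≤ i → i ≤ e → Λ i (vec i) = 1
  hf : e + 1 < r → vec (e+1) = 0

theorem exists_strand (f : ∀ i, V i →ₗ[k] V (i+1)) {j0 e r : ℕ} (hje : j0 ≤ e)
    (h0 : ∀ i, i < j0 → Module.finrank k (V i) = 0) (hne : rk f j0 e ≠ 0)
    (hz : e + 1 < r → rk f j0 (e+1) = 0) : Nonempty (Strand f j0 e r) := by
  have hv : ∃ v, Cmp f j0 e v ≠ 0 := by
    by_contra hcon
    push Not at hcon
    apply hne
    unfold rk
    have : LinearMap.range (Cmp f j0 e) = ⊥ := by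
      rw [LinearMap.range_eq_bot]; ext x; simpa using hcon x
    rw [this, finrank_bot]
  obtain ⟨v, hv⟩ := hv
  obtain ⟨lam, hlam⟩ := Module.Projective.exists_dual_eq_one k hv
  refine ⟨{ vec := fun j => Cmp f j0 j v, Λ := fun j => lam ∘ₗ Cmp f j e, hje := hje, ha := ?_,
            hb := ?_, hc := ?_, hd := ?_, he := ?_, hf := ?_ }⟩
  · intro i j hi hij; exact Cmp_comp_apply f hi hij v
  · intro i j hij hj x
    simp only [LinearMap.comp_apply]
    rw [Cmp_comp_apply f hij hj]
  · intro i hi; rw [Cmp_of_lt f hi]; simp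
  · intro i hi
    have hs : Subsingleton (V i) := Module.finrank_zero_iff.mp (h0 i hi)
    ext x; rw [Subsingleton.elim x 0]; simp
  · intro i hi hie
    simp only [LinearMap.comp_apply]
    rw [Cmp_comp_apply f hi hie]; exact hlam
  · intro h
    have h1 := hz h
    unfold rk at h1
    rw [Submodule.finrank_eq_zero] at h1
    have : Cmp f j0 (e+1) v ∈ LinearMap.range (Cmp f j0 (e+1)) := LinearMap.mem_range_self _ _
    rw [h1] at this
    simpa using this

theorem finrank_inf_ker_add_one {M : Type u} [AddCommGroup M] [Module k M]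
    [FiniteDimensional k M] (R : Submodule k M) (L : M →ₗ[k] k) {w : M} (hw : w ∈ R)
    (hL : L w = 1) :
    Module.finrank k (R ⊓ LinearMap.ker L : Submodule k M) + 1 = Module.finrank k R := by
  have h := LinearMap.finrank_range_add_finrank_ker (L.domRestrict R)
  rw [finrank_ker_domRestrict] at h
  have hr : LinearMap.range (L.domRestrict R) = ⊤ := by
    rw [LinearMap.range_eq_top]
    intro c
    refine ⟨⟨c • w, R.smul_mem c hw⟩, ?_⟩
    simp [LinearMap.domRestrict_apply, hL]
  rw [hr, finrank_top, Module.finrank_self] at h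
  omega

namespace Strand

variable {f : ∀ i, V i →ₗ[k] V (i+1)} {j0 e r : ℕ} (S : Strand f j0 e r)

theorem alt (i : ℕ) :
    (j0 ≤ i ∧ i ≤ e ∧ S.Λ i (S.vec i) = 1) ∨ ((i < j0 ∨ e < i) ∧ S.Λ i = 0) := by
  by_cases h1 : i < j0
  · exact Or.inr ⟨Or.inl h1, S.hd i h1⟩
  by_cases h2 : e < i
  · exact Or.inr ⟨Or.inr h2, S.hc i h2⟩
  exact Or.inl ⟨by omega, by omega, S.he i (by omega) (by omega)⟩

theorem hb1 {i : ℕ} (hi : i < e) (x : V i) : S.Λ (i+1) (f i x) = S.Λ i x := by
  have := S.hb i (i+1) (Nat.le_succ i) hi x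
  rwa [Cmp_one] at this

theorem ha1 {i : ℕ} (hi : j0 ≤ i) : f i (S.vec i) = S.vec (i+1) := by
  have := S.ha i (i+1) hi (Nat.le_succ i)
  rwa [Cmp_one] at this

theorem vec_zero {j : ℕ} (hej : e < j) (hjr : j < r) : S.vec j = 0 := by
  have h1 : S.vec (e+1) = 0 := S.hf (by omega)
  have := S.ha (e+1) j (by have := S.hje; omega) hej
  rw [h1, map_zero] at this
  exact this.symm

theorem stab (i : ℕ) : ∀ x ∈ LinearMap.ker (S.Λ i), f i x ∈ LinearMap.ker (S.Λ (i+1)) := by
  intro x hx
  rw [LinearMap.mem_ker] at hx ⊢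
  by_cases h : i < e
  · rw [S.hb1 h, hx]
  · rw [S.hc (i+1) (by omega)]; rfl

/-- the chain restricted to the complement -/
noncomputable def fN (i : ℕ) : LinearMap.ker (S.Λ i) →ₗ[k] LinearMap.ker (S.Λ (i+1)) :=
  (f i).restrict (S.stab i)

theorem key {V' : ℕ → Type u} [∀ i, AddCommGroup (V' i)] [∀ i, Module k (V' i)]
    [∀ i, FiniteDimensional k (V' i)]
    {f' : ∀ i, V' i →ₗ[k] V' (i+1)} (S' : Strand f' j0 e r) {i : ℕ} (hi : i + 1 < r) (x : V i) :
    S.Λ i x • f' i (S'.vec i) = S.Λ (i+1) (f i x) • S'.vec (i+1) := by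
  by_cases h : i < e
  · rw [S.hb1 h]
    by_cases h2 : j0 ≤ i
    · rw [S'.ha1 h2]
    · rw [S.hd i (by omega)]; simp
  · rw [S.hc (i+1) (by omega)]
    by_cases h2 : e < i
    · rw [S.hc i h2]; simp
    · have hie : i = e := by omega
      subst hie
      rw [S'.ha1 S'.hje, S'.hf hi]; simp

theorem finrank_N (j : ℕ) :
    Module.finrank k (LinearMap.ker (S.Λ j)) + (if j0 ≤ j ∧ j ≤ e then 1 else 0) =
      Module.finrank k (V j) := by
  rcases S.alt j with ⟨h1, h2, h3⟩ | ⟨h1, h2⟩
  · rw [if_pos ⟨h1, h2⟩]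
    have := LinearMap.finrank_range_add_finrank_ker (S.Λ j)
    have hr : LinearMap.range (S.Λ j) = ⊤ := by
      rw [LinearMap.range_eq_top]
      intro c
      exact ⟨c • S.vec j, by rw [map_smul, h3, smul_eq_mul, mul_one]⟩
    rw [hr, finrank_top, Module.finrank_self] at this
    omega
  · rw [if_neg (by omega), h2, LinearMap.ker_zero, finrank_top]; rfl

theorem subtype_comm (l : ℕ) :
    (LinearMap.ker (S.Λ (l+1))).subtype ∘ₗ S.fN l = f l ∘ₗ (LinearMap.ker (S.Λ l)).subtype := by
  ext x; rfl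

theorem rkN_eq {i j : ℕ} (hij : i ≤ j) :
    rk (V := fun j => LinearMap.ker (S.Λ j)) S.fN i j =
      Module.finrank k ((LinearMap.ker (S.Λ i)).map (Cmp f i j)) := by
  unfold rk
  have h := Cmp_natural (V := fun j => LinearMap.ker (S.Λ j)) (W := V) S.fN f
    (fun j => (LinearMap.ker (S.Λ j)).subtype) S.subtype_comm hij
  rw [← Submodule.finrank_map_subtype_eq, ← LinearMap.range_comp, h, LinearMap.range_comp,
    Submodule.range_subtype]

theorem rk_sub {i j : ℕ} (hij : i ≤ j) (hjr : j < r) :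
    rk (V := fun j => LinearMap.ker (S.Λ j)) S.fN i j + (if j0 ≤ i ∧ j ≤ e then 1 else 0) =
      rk f i j := by
  rw [S.rkN_eq hij]
  rcases S.alt i with ⟨h1, h2, h3⟩ | ⟨h1, h2⟩
  · by_cases hje : j ≤ e
    · rw [if_pos ⟨h1, hje⟩]
      have hker : LinearMap.ker (S.Λ i) = (LinearMap.ker (S.Λ j)).comap (Cmp f i j) := by
        ext x
        rw [Submodule.mem_comap, LinearMap.mem_ker, LinearMap.mem_ker, S.hb i j hij hje]
      rw [hker, Submodule.map_comap_eq]
      unfold rk
      exact finrank_inf_ker_add_one _ (S.Λ j) (w := S.vec j) ⟨S.vec i, S.ha i j h1 hij⟩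
        (S.he j (by omega) hje)
    · rw [if_neg (by omega), add_zero]
      unfold rk
      have : (LinearMap.ker (S.Λ i)).map (Cmp f i j) = LinearMap.range (Cmp f i j) := by
        apply le_antisymm
        · rw [LinearMap.range_eq_map]
          exact Submodule.map_mono le_top
        · rintro _ ⟨x, rfl⟩
          refine ⟨x - S.Λ i x • S.vec i, ?_, ?_⟩
          · rw [SetLike.mem_coe, LinearMap.mem_ker, map_sub, map_smul, h3]; simp
          · rw [map_sub, map_smul, S.ha i j h1 hij, S.vec_zero (by omega) hjr]; simp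
      rw [this]
  · rw [if_neg (by omega), add_zero, h2, LinearMap.ker_zero, Submodule.map_top]
    rfl

/-- the projection onto the complement -/
noncomputable def proj (j : ℕ) : V j →ₗ[k] LinearMap.ker (S.Λ j) :=
  LinearMap.codRestrict _ (LinearMap.id - (S.Λ j).smulRight (S.vec j)) (by
    intro x
    rw [LinearMap.mem_ker]
    rcases S.alt j with ⟨h1, h2, h3⟩ | ⟨h1, h2⟩
    · simp [h3]
    · simp [h2])

theorem proj_coe (j : ℕ) (x : V j) : (S.proj j x : V j) = x - S.Λ j x • S.vec j := rfl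

theorem proj_comm {i : ℕ} (hi : i + 1 < r) (x : V i) :
    S.proj (i+1) (f i x) = S.fN i (S.proj i x) := by
  apply Subtype.ext
  show f i x - S.Λ (i+1) (f i x) • S.vec (i+1) = f i (x - S.Λ i x • S.vec i)
  rw [map_sub, map_smul, S.key S hi]

theorem glue {V' : ℕ → Type u} [∀ i, AddCommGroup (V' i)] [∀ i, Module k (V' i)]
    [∀ i, FiniteDimensional k (V' i)]
    {f' : ∀ i, V' i →ₗ[k] V' (i+1)} (S' : Strand f' j0 e r)
    (hdim : ∀ j, Module.finrank k (V j) = Module.finrank k (V' j))
    (gN : ∀ j, LinearMap.ker (S.Λ j) ≃ₗ[k] LinearMap.ker (S'.Λ j))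
    (hg : ∀ i, i + 1 < r → ∀ n, gN (i+1) (S.fN i n) = S'.fN i (gN i n)) :
    ∃ g : ∀ j, V j ≃ₗ[k] V' j, ∀ i, i + 1 < r → ∀ v, g (i+1) (f i v) = f' i (g i v) := by
  let G : ∀ j, V j →ₗ[k] V' j := fun j =>
    (LinearMap.ker (S'.Λ j)).subtype ∘ₗ (gN j).toLinearMap ∘ₗ S.proj j +
      (S.Λ j).smulRight (S'.vec j)
  have hG : ∀ j x, G j x = (gN j (S.proj j x) : V' j) + S.Λ j x • S'.vec j := fun j x => rfl
  have hinj : ∀ j, Function.Injective (G j) := by
    intro j
    rw [← LinearMap.ker_eq_bot, LinearMap.ker_eq_bot']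
    intro x hx
    rw [hG] at hx
    have h1 : S.Λ j x = 0 := by
      have h2 := congrArg (S'.Λ j) hx
      rw [map_add, map_smul, map_zero] at h2
      have h3 : S'.Λ j (gN j (S.proj j x) : V' j) = 0 := (gN j (S.proj j x)).2
      rw [h3, zero_add, smul_eq_mul] at h2
      rcases S.alt j with ⟨a1, a2, a3⟩ | ⟨a1, a2⟩
      · rw [S'.he j a1 a2, mul_one] at h2; exact h2
      · rw [a2]; rfl
    rw [h1, zero_smul, add_zero] at hx
    have h4 : gN j (S.proj j x) = 0 := Subtype.ext hx
    have h5 : S.proj j x = 0 := by simpa using h4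
    have h6 := congrArg Subtype.val h5
    rw [S.proj_coe, h1, zero_smul, sub_zero] at h6
    exact h6
  refine ⟨fun j => LinearMap.linearEquivOfInjective (G j) (hinj j) (hdim j), ?_⟩
  intro i hi v
  rw [LinearMap.linearEquivOfInjective_apply, LinearMap.linearEquivOfInjective_apply, hG, hG,
    map_add, map_smul, S.key S' hi, S.proj_comm hi, hg i hi]
  rfl

end Strand

theorem sep_aux (r : ℕ) : ∀ (n : ℕ) (V V' : ℕ → Type u) [∀ i, AddCommGroup (V i)]
    [∀ i, Module k (V i)] [∀ i, FiniteDimensional k (V i)] [∀ i, AddCommGroup (V' i)]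
    [∀ i, Module k (V' i)] [∀ i, FiniteDimensional k (V' i)]
    (f : ∀ i, V i →ₗ[k] V (i+1)) (f' : ∀ i, V' i →ₗ[k] V' (i+1)),
    (∑ j ∈ Finset.range r, Module.finrank k (V j) = n) →
    (∀ j, Module.finrank k (V j) = Module.finrank k (V' j)) →
    (∀ i j, i ≤ j → j < r → rk f i j = rk f' i j) →
    ∃ g : ∀ j, V j ≃ₗ[k] V' j, ∀ i, i + 1 < r → ∀ v, g (i+1) (f i v) = f' i (g i v) := by
  intro n
  induction n using Nat.strong_induction_on with
  | _ n ih =>
  intro V V' _ _ _ _ _ _ f f' hsum hdim hrk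
  by_cases hall : ∀ j, j < r → Module.finrank k (V j) = 0
  · refine ⟨fun j => LinearEquiv.ofFinrankEq _ _ (hdim j), ?_⟩
    intro i hi v
    have hs : Subsingleton (V i) := Module.finrank_zero_iff.mp (hall i (by omega))
    rw [Subsingleton.elim v 0]; simp
  · push Not at hall
    classical
    have hex : ∃ j, j < r ∧ Module.finrank k (V j) ≠ 0 := hall
    have hj0 : Nat.find hex < r ∧ Module.finrank k (V (Nat.find hex)) ≠ 0 := Nat.find_spec hex
    have hmin : ∀ i, i < Nat.find hex → Module.finrank k (V i) = 0 := by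
      intro i hi
      by_contra hne
      exact Nat.find_min hex hi ⟨by omega, hne⟩
    generalize Nat.find hex = j0 at hj0 hmin
    let P : ℕ → Prop := fun e => j0 ≤ e ∧ e < r ∧ rk f j0 e ≠ 0
    have hP0 : P j0 := ⟨le_rfl, hj0.1, by rw [rk_self]; exact hj0.2⟩
    have hPe : P (Nat.findGreatest P r) := Nat.findGreatest_spec (le_of_lt hj0.1) hP0
    have hmax : ∀ e', Nat.findGreatest P r < e' → e' < r → rk f j0 e' = 0 := by
      intro e' h1 h2
      by_contra hne
      exact Nat.findGreatest_is_greatest h1 (le_of_lt h2) ⟨by have := hPe.1; omega, h2, hne⟩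
    generalize Nat.findGreatest P r = e at hPe hmax
    obtain ⟨S⟩ := exists_strand f (r := r) hPe.1 hmin hPe.2.2
      (fun h => hmax _ (Nat.lt_succ_self e) h)
    obtain ⟨S'⟩ := exists_strand f' (r := r) hPe.1
      (fun i hi => by rw [← hdim i]; exact hmin i hi)
      (by rw [← hrk j0 e hPe.1 hPe.2.1]; exact hPe.2.2)
      (fun h => by
        rw [← hrk j0 (e+1) (by have := hPe.1; omega) h]; exact hmax _ (Nat.lt_succ_self e) h)
    have hlt : ∑ j ∈ Finset.range r, Module.finrank k (LinearMap.ker (S.Λ j)) < n := by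
      rw [← hsum]
      apply Finset.sum_lt_sum
      · intro j _
        have := S.finrank_N j
        omega
      · refine ⟨j0, Finset.mem_range.mpr hj0.1, ?_⟩
        have := S.finrank_N j0
        rw [if_pos ⟨le_rfl, hPe.1⟩] at this
        omega
    obtain ⟨gN, hgN⟩ := ih _ hlt (fun j => LinearMap.ker (S.Λ j))
      (fun j => LinearMap.ker (S'.Λ j)) S.fN S'.fN rfl
      (by
        intro j
        have h1 := S.finrank_N j
        have h2 := S'.finrank_N j
        have h3 := hdim j
        split_ifs at h1 h2 <;> omega)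
      (by
        intro i j hij hjr
        have h1 := S.rk_sub hij hjr
        have h2 := S'.rk_sub hij hjr
        have h3 := hrk i j hij hjr
        split_ifs at h1 h2 <;> omega)
    exact S.glue S' hdim gN hgN

end sep


section shift

variable {k : Type u} [Field k] {V : ℕ → Type u} [∀ i, AddCommGroup (V i)] [∀ i, Module k (V i)]

theorem iot_shift (i j : ℕ) : iot k (fun j => V (j+1)) i j = iot k V (i+1) (j+1) := by
  by_cases h : i = j
  · subst h; rw [iot_self, iot_self]
  · rw [iot_ne h, iot_ne (by omega)]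

theorem Cmp_shift (f : ∀ i, V i →ₗ[k] V (i+1)) (i j : ℕ) :
    Cmp (V := fun j => V (j+1)) (fun j => f (j+1)) i j = Cmp f (i+1) (j+1) := by
  induction j with
  | zero =>
    show iot k (fun j => V (j+1)) i 0 = iot k V (i+1) 1 + f 0 ∘ₗ Cmp f (i+1) 0
    rw [Cmp_of_lt f (by omega), iot_shift]; simp
  | succ j ih =>
    show iot k (fun j => V (j+1)) i (j+1) +
        f (j+1) ∘ₗ Cmp (V := fun j => V (j+1)) (fun j => f (j+1)) i j =
      iot k V (i+1) (j+2) + f (j+1) ∘ₗ Cmp f (i+1) (j+1)
    rw [ih, iot_shift]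

theorem rk_shift (f : ∀ i, V i →ₗ[k] V (i+1)) (i j : ℕ) :
    rk (V := fun j => V (j+1)) (fun j => f (j+1)) i j = rk f (i+1) (j+1) := by
  unfold rk; rw [Cmp_shift]

end shift

section realize

variable {k : Type u} [Field k] {d : ℕ → ℕ}

/-- vectors supported on the first `n` coordinates -/
def Std (k : Type u) [Field k] (m n : ℕ) : Submodule k (Fin m → k) where
  carrier := {w | ∀ y : Fin m, n ≤ y.val → w y = 0}
  add_mem' := by
    intro a b ha hb y hy
    have h1 := ha y hy
    have h2 := hb y hy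
    simp [h1, h2]
  zero_mem' := by intro y _; rfl
  smul_mem' := by
    intro c a ha y hy
    have h1 := ha y hy
    simp [h1]

theorem mem_Std {m n : ℕ} {w : Fin m → k} :
    w ∈ Std k m n ↔ ∀ y : Fin m, n ≤ y.val → w y = 0 := Iff.rfl

theorem Std_top (m : ℕ) : Std k m m = ⊤ := by
  rw [eq_top_iff]; intro w _ y hy; exact absurd y.2 (by omega)

theorem finrank_Std {m n : ℕ} (h : n ≤ m) : Module.finrank k (Std k m n) = n := by
  let ι : (Fin n → k) →ₗ[k] (Fin m → k) :=
    { toFun := fun w y => if h : y.val < n then w ⟨y.val, h⟩ else 0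
      map_add' := by intro a b; ext y; by_cases hy : y.val < n <;> simp [hy]
      map_smul' := by intro c a; ext y; by_cases hy : y.val < n <;> simp [hy] }
  have hι : ∀ w y, ι w y = if h : y.val < n then w ⟨y.val, h⟩ else 0 := fun w y => rfl
  have hinj : Function.Injective ι := by
    intro a b hab
    ext t
    have := congrFun hab ⟨t.val, lt_of_lt_of_le t.2 h⟩
    rw [hι, hι, dif_pos t.2, dif_pos t.2] at this
    exact this
  have hrange : LinearMap.range ι = Std k m n := by
    ext w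
    constructor
    · rintro ⟨a, rfl⟩ y hy
      rw [hι, dif_neg (not_lt.mpr hy)]
    · intro hw
      refine ⟨fun t => w ⟨t.val, lt_of_lt_of_le t.2 h⟩, ?_⟩
      ext y
      rw [hι]
      by_cases hy : y.val < n
      · rw [dif_pos hy]
      · rw [dif_neg hy]; exact (hw y (not_lt.mp hy)).symm
  rw [← hrange, LinearMap.finrank_range_of_inj hinj, Module.finrank_fin_fun]

/-- the array extended by `a 0 j = 0` -/
def AA (a : ℕ → ℕ → ℕ) (i j : ℕ) : ℕ := if i = 0 then 0 else a i j

theorem AA_succ (a : ℕ → ℕ → ℕ) (i j : ℕ) : AA a (i+1) j = a (i+1) j := by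
  unfold AA; rw [if_neg (by omega)]

theorem AA_zero (a : ℕ → ℕ → ℕ) (j : ℕ) : AA a 0 j = 0 := by
  unfold AA; rw [if_pos rfl]

/-- the relation "the `x`-th basis vector at level `j` goes to the `y`-th at level `j+1`" -/
def PP (a : ℕ → ℕ → ℕ) (j x y : ℕ) : Prop :=
  ∃ i, i + 1 ≤ j ∧ AA a i j ≤ x ∧ x < AA a (i+1) j ∧ y + AA a i j = AA a i (j+1) + x ∧
    y < AA a (i+1) (j+1)

open Classical in
/-- the standard chain with a given rank array -/
noncomputable def fmat (k : Type u) [Field k] (d : ℕ → ℕ) (a : ℕ → ℕ → ℕ) (j : ℕ) :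
    Matrix (Fin (d (j+1))) (Fin (d j)) k :=
  fun y x => if PP a j x.val y.val then 1 else 0

variable {a : ℕ → ℕ → ℕ} {r : ℕ}

theorem AA_mono (ha : IsRankArray d r a) {p q j : ℕ} (hpq : p ≤ q) (hqj : q ≤ j) (hjr : j ≤ r) :
    AA a p j ≤ AA a q j := by
  rcases Nat.eq_zero_or_pos p with rfl | hp
  · rw [AA_zero]; exact Nat.zero_le _
  induction q, hpq using Nat.le_induction with
  | base => exact le_rfl
  | succ q hq ih =>
    refine le_trans (ih (by omega)) ?_
    obtain ⟨q', rfl⟩ : ∃ q', q = q' + 1 := ⟨q - 1, by omega⟩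
    rw [AA_succ, AA_succ]
    exact ha.2.1 (q'+1) j (by omega) (by omega) hjr

theorem AA_ineq (ha : IsRankArray d r a) {i j : ℕ} (hij : i + 1 ≤ j) (hjr : j < r) :
    AA a (i+1) (j+1) + AA a i j ≤ AA a (i+1) j + AA a i (j+1) := by
  rcases Nat.eq_zero_or_pos i with rfl | hp
  · rw [AA_zero, AA_zero, AA_succ, AA_succ]
    have := ha.2.2.1 1 j le_rfl hij hjr
    omega
  · obtain ⟨i', rfl⟩ : ∃ i', i = i' + 1 := ⟨i - 1, by omega⟩
    rw [AA_succ, AA_succ, AA_succ, AA_succ]
    have := ha.2.2.2 (i'+1+1) j (by omega) hij hjr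
    rw [Nat.add_sub_cancel] at this
    exact this

theorem AA_le_d (ha : IsRankArray d r a) {i j : ℕ} (hij : i ≤ j) (hj : 1 ≤ j) (hjr : j ≤ r) :
    AA a i j ≤ d j := by
  have h1 := AA_mono ha hij le_rfl hjr
  have h2 : AA a j j = d j := by
    obtain ⟨j', rfl⟩ : ∃ j', j = j' + 1 := ⟨j - 1, by omega⟩
    rw [AA_succ]; exact ha.1 _ hj hjr
  omega

theorem blk_unique (ha : IsRankArray d r a) {i i' j x : ℕ} (hi : i + 1 ≤ j) (hi' : i' + 1 ≤ j)
    (hjr : j ≤ r) (h1 : AA a i j ≤ x) (h2 : x < AA a (i+1) j) (h1' : AA a i' j ≤ x)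
    (h2' : x < AA a (i'+1) j) : i = i' := by
  rcases lt_trichotomy i i' with h | h | h
  · have := AA_mono ha (p := i+1) (q := i') (by omega) (by omega) hjr
    omega
  · exact h
  · have := AA_mono ha (p := i'+1) (q := i) (by omega) (by omega) hjr
    omega

theorem exists_block (a : ℕ → ℕ → ℕ) (j y : ℕ) : ∀ i, y < AA a i j →
    ∃ i', i' + 1 ≤ i ∧ AA a i' j ≤ y ∧ y < AA a (i'+1) j := by
  intro i
  induction i with
  | zero => intro h; rw [AA_zero] at h; omega
  | succ i ih =>
    intro h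
    by_cases h' : AA a i j ≤ y
    · exact ⟨i, le_rfl, h', h⟩
    · obtain ⟨i', h1, h2, h3⟩ := ih (by omega)
      exact ⟨i', by omega, h2, h3⟩

theorem toLin_fmat_apply (j : ℕ) (w : Fin (d j) → k) (y : Fin (d (j+1))) :
    Matrix.toLin' (fmat k d a j) w y = ∑ x, fmat k d a j y x * w x := by
  rw [Matrix.toLin'_apply]; rfl

theorem map_Std (ha : IsRankArray d r a) {i j : ℕ} (hi : 1 ≤ i) (hij : i ≤ j) (hjr : j < r) :
    (Std k (d j) (a i j)).map (Matrix.toLin' (fmat k d a j)) = Std k (d (j+1)) (a i (j+1)) := by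
  obtain ⟨i0, rfl⟩ : ∃ i0, i = i0 + 1 := ⟨i - 1, by omega⟩
  apply le_antisymm
  · rintro _ ⟨w, hw, rfl⟩ y hy
    rw [toLin_fmat_apply]
    apply Finset.sum_eq_zero
    intro x _
    by_cases hx : a (i0+1) j ≤ x.val
    · rw [hw x hx, mul_zero]
    · have hP : ¬ PP a j x.val y.val := by
        rintro ⟨i', h1, h2, h3, h4, h5⟩
        have hlt : i' < i0 + 1 := by
          by_contra hcon
          have := AA_mono ha (p := i0+1) (q := i') (j := j) (by omega) (by omega) (by omega)
          rw [AA_succ] at this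
          omega
        have := AA_mono ha (p := i'+1) (q := i0+1) (j := j+1) (by omega) (by omega) (by omega)
        rw [AA_succ a i0] at this
        omega
      unfold fmat
      rw [if_neg hP, zero_mul]
  · intro w hw
    rw [pi_eq_sum_univ' w]
    apply Submodule.sum_mem
    intro y _
    by_cases hy : a (i0+1) (j+1) ≤ y.val
    · rw [hw y hy, zero_smul]; exact Submodule.zero_mem _
    · apply Submodule.smul_mem
      have hy' : y.val < AA a (i0+1) (j+1) := by rw [AA_succ]; omega
      obtain ⟨i', h1, h2, h3⟩ := exists_block a (j+1) y.val (i0+1) hy'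
      have hineq := AA_ineq ha (i := i') (j := j) (by omega) hjr
      have hmono := AA_mono ha (p := i'+1) (q := i0+1) (j := j) (by omega) (by omega) (by omega)
      have hle := AA_le_d ha (i := i0+1) (j := j) hij (by omega) (by omega)
      have hxlt : AA a i' j + (y.val - AA a i' (j+1)) < d j := by omega
      refine ⟨Pi.single (⟨AA a i' j + (y.val - AA a i' (j+1)), hxlt⟩ : Fin (d j)) 1, ?_, ?_⟩
      · intro y'' hy''
        have hmono' : AA a (i'+1) j ≤ a (i0+1) j := by rw [← AA_succ a i0 j]; exact hmono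
        apply Pi.single_eq_of_ne
        intro hcon
        rw [hcon] at hy''
        have hy3 : a (i0+1) j ≤ AA a i' j + (y.val - AA a i' (j+1)) := hy''
        omega
      · funext y'
        rw [toLin_fmat_apply]
        rw [Finset.sum_eq_single (⟨AA a i' j + (y.val - AA a i' (j+1)), hxlt⟩ : Fin (d j))]
        · rw [Pi.single_eq_same, mul_one]
          unfold fmat
          by_cases hyy : y' = y
          · subst hyy
            rw [Pi.single_eq_same, if_pos]
            exact ⟨i', by omega, by simp, by simp only; omega, by simp only; omega, h3⟩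
          · rw [Pi.single_eq_of_ne hyy, if_neg]
            rintro ⟨i'', g1, g2, g3, g4, g5⟩
            simp only at g2 g3 g4
            have hii : i'' = i' := blk_unique ha (j := j) g1 (by omega) (by omega) g2 g3
              (by omega) (by omega)
            subst hii
            apply hyy
            apply Fin.ext
            omega
        · intro x _ hx
          rw [Pi.single_eq_of_ne hx, mul_zero]
        · intro h; exact absurd (Finset.mem_univ _) h

theorem part4 (ha : IsRankArray d r a) :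
    ∃ f : (i : ℕ) → Matrix (Fin (d (i + 1))) (Fin (d i)) k,
      ∀ i j : ℕ, 1 ≤ i → i ≤ j → j ≤ r → rankArray f i j = a i j := by
  refine ⟨fmat k d a, ?_⟩
  intro i j hi hij hjr
  obtain ⟨n, rfl⟩ := Nat.exists_eq_add_of_le hij
  have key : ∀ n, i + n ≤ r → iterImage (fmat k d a) i n = Std k (d (i+n)) (a i (i+n)) := by
    intro n
    induction n with
    | zero =>
      intro h
      show (⊤ : Submodule k (Fin (d i) → k)) = Std k (d i) (a i i)
      rw [ha.1 i hi h, Std_top]
    | succ n ih =>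
      intro h
      show (iterImage (fmat k d a) i n).map (Matrix.toLin' (fmat k d a (i+n))) = _
      rw [ih (by omega)]
      exact map_Std ha hi (Nat.le_add_right i n) (by omega)
  unfold rankArray
  rw [if_pos hij, Nat.add_sub_cancel_left, key n hjr]
  apply finrank_Std
  have := AA_le_d ha (i := i) (j := i+n) hij (by omega) hjr
  obtain ⟨i0, rfl⟩ : ∃ i0, i = i0 + 1 := ⟨i - 1, by omega⟩
  rw [AA_succ] at this
  exact this

end realize

section link

variable {k : Type u} [Field k] {d : ℕ → ℕ}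

/-- the chain of linear maps attached to a chain of matrices -/
noncomputable def toL (F : (i : ℕ) → Matrix (Fin (d (i + 1))) (Fin (d i)) k) :
    ∀ i, (Fin (d i) → k) →ₗ[k] (Fin (d (i+1)) → k) := fun i => Matrix.toLin' (F i)

theorem iterImage_eq (F : (i : ℕ) → Matrix (Fin (d (i + 1))) (Fin (d i)) k) (i n : ℕ) :
    iterImage F i n = LinearMap.range (Cmp (V := fun j => Fin (d j) → k) (toL F) i (i+n)) := by
  induction n with
  | zero =>
    simp only [iterImage]
    rw [show i + 0 = i from rfl, Cmp_self]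
    simp
  | succ n ih =>
    simp only [iterImage]
    rw [ih]
    show _ = LinearMap.range (Cmp (V := fun j => Fin (d j) → k) (toL F) i ((i+n)+1))
    rw [Cmp_succ _ (Nat.le_add_right i n), LinearMap.range_comp]
    rfl

theorem rankArray_eq (F : (i : ℕ) → Matrix (Fin (d (i + 1))) (Fin (d i)) k) (i n : ℕ) :
    rankArray F i (i+n) = rk (V := fun j => Fin (d j) → k) (toL F) i (i+n) := by
  unfold rankArray rk
  rw [if_pos (Nat.le_add_right i n), Nat.add_sub_cancel_left, iterImage_eq]

theorem rankArray_eq' (F : (i : ℕ) → Matrix (Fin (d (i + 1))) (Fin (d i)) k) {i j : ℕ}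
    (h : i ≤ j) : rankArray F i j = rk (V := fun j => Fin (d j) → k) (toL F) i j := by
  obtain ⟨n, rfl⟩ := Nat.exists_eq_add_of_le h
  exact rankArray_eq F i n

/-- the linear automorphism attached to an invertible matrix -/
noncomputable def glEquiv {n : ℕ} (g : Matrix.GeneralLinearGroup (Fin n) k) :
    (Fin n → k) ≃ₗ[k] (Fin n → k) :=
  Matrix.toLin'OfInv (M := ((g⁻¹ : Matrix.GeneralLinearGroup (Fin n) k) : Matrix (Fin n) (Fin n) k))
    (M' := (g : Matrix (Fin n) (Fin n) k)) (Units.inv_mul g) (Units.mul_inv g)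

theorem glEquiv_coe {n : ℕ} (g : Matrix.GeneralLinearGroup (Fin n) k) :
    (glEquiv g).toLinearMap = Matrix.toLin' (g : Matrix (Fin n) (Fin n) k) := by
  ext x; rfl

theorem part1 (g : (j : ℕ) → Matrix.GeneralLinearGroup (Fin (d j)) k)
    (f : (i : ℕ) → Matrix (Fin (d (i + 1))) (Fin (d i)) k) {i j : ℕ} (hij : i ≤ j) :
    rankArray (conj g f) i j = rankArray f i j := by
  rw [rankArray_eq' _ hij, rankArray_eq' _ hij]
  refine rk_conj (V := fun j => Fin (d j) → k) (W := fun j => Fin (d j) → k) (toL f)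
    (toL (conj g f)) (fun j => glEquiv (g j)) ?_ hij
  intro j
  rw [glEquiv_coe, glEquiv_coe]
  unfold toL conj
  rw [← Matrix.toLin'_mul, ← Matrix.toLin'_mul]
  congr 1
  rw [Matrix.mul_assoc _ _ (Units.val (g j)), Units.inv_mul, Matrix.mul_one]

theorem part2 (r : ℕ) (f : (i : ℕ) → Matrix (Fin (d (i + 1))) (Fin (d i)) k) :
    IsRankArray d r (rankArray f) := by
  refine ⟨?_, ?_, ?_, ?_⟩
  · intro j _ _
    rw [rankArray_eq' f le_rfl, rk_self]
    exact Module.finrank_fin_fun k
  · intro i j _ hij _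
    rw [rankArray_eq' f (le_of_lt hij), rankArray_eq' f hij]
    exact rk_le_succ_left _ hij
  · intro i j _ hij _
    rw [rankArray_eq' f hij, rankArray_eq' f (Nat.le_succ_of_le hij)]
    exact rk_succ_le _ hij
  · intro i j hi hij _
    obtain ⟨i', rfl⟩ : ∃ i', i = i' + 1 := ⟨i - 1, by omega⟩
    rw [Nat.add_sub_cancel, rankArray_eq' f (Nat.le_succ_of_le hij), rankArray_eq' f hij,
      rankArray_eq' f (by omega : i' ≤ j), rankArray_eq' f (by omega : i' ≤ j + 1)]
    exact rk_ineq _ hij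

/-- the invertible matrix attached to a linear automorphism -/
noncomputable def toGL {n : ℕ} (φ : (Fin n → k) ≃ₗ[k] (Fin n → k)) :
    Matrix.GeneralLinearGroup (Fin n) k :=
  ⟨LinearMap.toMatrix' φ.toLinearMap, LinearMap.toMatrix' φ.symm.toLinearMap, by
    rw [← LinearMap.toMatrix'_comp, ← LinearMap.toMatrix'_id]
    congr 1
    exact LinearMap.ext fun x => by simp, by
    rw [← LinearMap.toMatrix'_comp, ← LinearMap.toMatrix'_id]
    congr 1
    exact LinearMap.ext fun x => by simp⟩

theorem part3 (r : ℕ) (f f' : (i : ℕ) → Matrix (Fin (d (i + 1))) (Fin (d i)) k)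
    (h : ∀ i j : ℕ, 1 ≤ i → i ≤ j → j ≤ r → rankArray f i j = rankArray f' i j) :
    ∃ g : (j : ℕ) → Matrix.GeneralLinearGroup (Fin (d j)) k,
      ∀ i : ℕ, 1 ≤ i → i + 1 ≤ r → conj g f i = f' i := by
  obtain ⟨g, hg⟩ := sep_aux (k := k) r _ (fun j => Fin (d (j+1)) → k)
    (fun j => Fin (d (j+1)) → k)
    (fun j => toL f (j+1)) (fun j => toL f' (j+1)) rfl (fun j => rfl) (by
      intro i j hij hjr
      rw [rk_shift (V := fun j => Fin (d j) → k) (toL f),
        rk_shift (V := fun j => Fin (d j) → k) (toL f'), ← rankArray_eq' f (by omega),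
        ← rankArray_eq' f' (by omega)]
      exact h (i+1) (j+1) (by omega) (by omega) (by omega))
  refine ⟨fun j => match j with
    | 0 => 1
    | s+1 => toGL (g s), ?_⟩
  intro i hi hir
  obtain ⟨s, rfl⟩ : ∃ s, i = s + 1 := ⟨i - 1, by omega⟩
  have hc := hg s (by omega)
  have hm : LinearMap.toMatrix' (g (s+1)).toLinearMap * f (s+1) =
      f' (s+1) * LinearMap.toMatrix' (g s).toLinearMap := by
    apply Matrix.toLin'.injective
    rw [Matrix.toLin'_mul, Matrix.toLin'_mul, Matrix.toLin'_toMatrix', Matrix.toLin'_toMatrix']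
    exact LinearMap.ext hc
  unfold conj
  show LinearMap.toMatrix' (g (s+1)).toLinearMap * f (s+1) *
    ((toGL (g s))⁻¹ : Matrix.GeneralLinearGroup (Fin (d (s+1))) k).val = f' (s+1)
  rw [hm, Matrix.mul_assoc]
  have : LinearMap.toMatrix' (g s).toLinearMap *
      ((toGL (g s))⁻¹ : Matrix.GeneralLinearGroup (Fin (d (s+1))) k).val = 1 :=
    Units.mul_inv (toGL (g s))
  rw [this, Matrix.mul_one]

end link

/-- Let k be a field and d_1, …, d_r sizes (given as a function d on the naturals; only d_1, …, d_r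
matter). The group Π_j GL_{d_j}(k) acts on chains of matrices f_i of size d_{i+1} × d_i (1 ≤ i < r)
by f_i ↦ g_{i+1} f_i g_i^(-1). Sending a chain to the array a_{i,j} = dim (f_{j-1} ⋯ f_i)(k^{d_i})
(1 ≤ i ≤ j ≤ r) is constant on orbits, takes values in the set of admissible arrays (a_{j,j} = d_j;
a_{i,j} ≤ a_{i+1,j} for i < j; a_{i,j+1} ≤ a_{i,j} for j < r; a_{i,j} - a_{i-1,j} ≥ a_{i,j+1} -
a_{i-1,j+1} for 1 < i ≤ j < r), separates orbits, and reaches every admissible array: it is a
bijection from the orbit set onto the admissible arrays. (The published statement also asserts that,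
when k is Galois over a subfield, the bijection is compatible with the Galois group acting entrywise
on matrices and trivially on arrays; this row omits that clause.) -/
theorem result (k : Type u) [Field k] (d : ℕ → ℕ) (r : ℕ) :
    (∀ (g : (j : ℕ) → Matrix.GeneralLinearGroup (Fin (d j)) k)
        (f : (i : ℕ) → Matrix (Fin (d (i + 1))) (Fin (d i)) k) (i j : ℕ),
        1 ≤ i → i ≤ j → j ≤ r → rankArray (conj g f) i j = rankArray f i j) ∧
    (∀ f : (i : ℕ) → Matrix (Fin (d (i + 1))) (Fin (d i)) k, IsRankArray d r (rankArray f)) ∧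
    (∀ f f' : (i : ℕ) → Matrix (Fin (d (i + 1))) (Fin (d i)) k,
        (∀ i j : ℕ, 1 ≤ i → i ≤ j → j ≤ r → rankArray f i j = rankArray f' i j) →
        ∃ g : (j : ℕ) → Matrix.GeneralLinearGroup (Fin (d j)) k,
          ∀ i : ℕ, 1 ≤ i → i + 1 ≤ r → conj g f i = f' i) ∧
    (∀ a : ℕ → ℕ → ℕ, IsRankArray d r a →
        ∃ f : (i : ℕ) → Matrix (Fin (d (i + 1))) (Fin (d i)) k,
          ∀ i j : ℕ, 1 ≤ i → i ≤ j → j ≤ r → rankArray f i j = a i j) := by
  refine ⟨?_, ?_, ?_, ?_⟩
  · intro g f i j _ hij _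
    exact part1 g f hij
  · intro f
    exact part2 r f
  · intro f f' h
    exact part3 r f f' h
  · intro a ha
    exact part4 ha

end Groth.Agent.S14194
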