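import Groth.Statements.S14195
import Mathlib.FieldTheory.Finite.Extension
import Mathlib.FieldTheory.Finite.GaloisField
import Mathlib.FieldTheory.Finite.Basic
import Mathlib.Topology.Algebra.OpenSubgroup
import Mathlib.GroupTheory.OrderOfElement

set_option autoImplicit false
universe u v
open StackCount

namespace Groth.Agent.S14195

section abstract

open GpH1

variable {Γ : Type u} {A : Type v} [Group Γ] [Group A] [MulDistribMulAction Γ A]

theorem cocycle_one (z : OneCocycle Γ A) : z 1 = 1 := by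
  have h := z.2 1 1
  rw [one_smul, mul_one] at h
  exact (mul_eq_left.mp h.symm)

theorem cocycle_pow_eq (z z' : OneCocycle Γ A) (π : Γ) (h : z π = z' π) (n : ℕ) :
    z (π ^ n) = z' (π ^ n) := by
  induction n with
  | zero => rw [pow_zero, cocycle_one, cocycle_one]
  | succ n ih => rw [pow_succ, z.2, z'.2, ih, h]

/-- The candidate values of a cocycle on the powers of `π`. -/
def zz (π : Γ) (a : A) : ℕ → A
  | 0 => 1
  | n + 1 => zz π a n * π ^ n • a

theorem zz_add (π : Γ) (a : A) (n l : ℕ) : zz π a (n + l) = zz π a n * π ^ n • zz π a l := by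
  induction l with
  | zero => simp [zz]
  | succ l ih =>
    rw [← add_assoc, zz, ih, zz, smul_mul', ← mul_smul, ← pow_add, mul_assoc]

theorem zz_mem (π : Γ) (a : A) (H : Subgroup A) (ha : a ∈ H)
    (hH : ∀ (σ : Γ) (x : A), x ∈ H → σ • x ∈ H) (n : ℕ) : zz π a n ∈ H := by
  induction n with
  | zero => exact H.one_mem
  | succ n ih => exact H.mul_mem ih (hH _ _ ha)

theorem zz_mul (π : Γ) (a : A) (H : Subgroup A) (ha : a ∈ H)
    (hH : ∀ (σ : Γ) (x : A), x ∈ H → σ • x ∈ H) (m : ℕ) (hm : ∀ x ∈ H, π ^ m • x = x) (j : ℕ) :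
    zz π a (m * j) = zz π a m ^ j := by
  induction j with
  | zero => simp [zz]
  | succ j ih =>
    have h1 : ∀ x ∈ H, π ^ (m * j) • x = x := by
      intro x hx
      rw [pow_mul]
      clear ih
      induction j with
      | zero => simp
      | succ j ih2 => rw [pow_succ, mul_smul, hm x hx, ih2]
    rw [mul_add, mul_one, zz_add, ih, h1 _ (zz_mem π a H ha hH m), pow_succ]

/-- The elements acting trivially on `H`. -/
def fixer (H : Subgroup A) : Subgroup Γ where
  carrier := {σ | ∀ h ∈ H, σ • h = h}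
  mul_mem' := fun {a b} ha hb h hh => by rw [mul_smul, hb h hh, ha h hh]
  one_mem' := fun h _ => one_smul _ _
  inv_mem' := fun {a} ha h hh => by rw [inv_smul_eq_iff, ha h hh]

theorem fixer_isOpen [TopologicalSpace Γ] (hcont : ∀ a : A, IsOpen {σ : Γ | σ • a = a})
    (H : Subgroup A) (hHfin : (H : Set A).Finite) : IsOpen (fixer (Γ := Γ) H : Set Γ) := by
  have h1 : (fixer (Γ := Γ) H : Set Γ) = ⋂ h ∈ (H : Set A), {σ : Γ | σ • h = h} := by
    ext σ
    simp only [Set.mem_iInter, Set.mem_ofPred_eq]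
    rfl
  rw [h1]
  exact hHfin.isOpen_biInter fun h _ => hcont h

section top

variable [TopologicalSpace Γ]

/-- Two locally constant cocycles agreeing at `π` agree everywhere, when the powers of `π` are
dense. -/
theorem lc_ext (π : Γ) (hD : ∀ U : Set Γ, IsOpen U → U.Nonempty → ∃ n : ℕ, π ^ n ∈ U)
    (z z' : OneCocycleLC Γ A) (h : z.1 π = z'.1 π) : z = z' := by
  refine Subtype.ext (OneCocycle.ext fun σ => ?_)
  obtain ⟨U, hU, hσU, hUc⟩ := (IsLocallyConstant.iff_exists_open _).mp z.2 σ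
  obtain ⟨U', hU', hσU', hUc'⟩ := (IsLocallyConstant.iff_exists_open _).mp z'.2 σ
  obtain ⟨n, hn⟩ := hD (U ∩ U') (hU.inter hU') ⟨σ, hσU, hσU'⟩
  rw [← hUc _ hn.1, ← hUc' _ hn.2]
  exact cocycle_pow_eq z.1 z'.1 π h n

variable [IsTopologicalGroup Γ]

/-- Existence of a locally constant cocycle with prescribed value at `π`. -/
theorem lc_exists (π : Γ) (hD : ∀ U : Set Γ, IsOpen U → U.Nonempty → ∃ n : ℕ, π ^ n ∈ U)
    (hE : ∀ M : ℕ, 0 < M → ∃ W : Subgroup Γ, IsOpen (W : Set Γ) ∧ (∀ n : ℕ, π ^ n ∈ W ↔ M ∣ n) ∧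
      ∀ w ∈ W, π⁻¹ * w * π ∈ W)
    (hcont : ∀ a : A, IsOpen {σ : Γ | σ • a = a})
    (hfin : ∀ a : A, ∃ H : Subgroup A, (H : Set A).Finite ∧ a ∈ H ∧
      ∀ (σ : Γ) (x : A), x ∈ H → σ • x ∈ H) (a : A) :
    ∃ z : OneCocycleLC Γ A, z.1 π = a := by
  obtain ⟨H, hHfin, haH, hH⟩ := hfin a
  have : Finite H := hHfin.to_subtype
  set V : Subgroup Γ := fixer H with hV
  have hVopen : IsOpen (V : Set Γ) := fixer_isOpen hcont H hHfin
  have hVmem : ∀ σ : Γ, σ ∈ V ↔ ∀ h ∈ H, σ • h = h := fun σ => Iff.rfl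
  -- some positive power of `π` acts trivially on `H`
  obtain ⟨m, hmpos, hmV⟩ : ∃ m : ℕ, 0 < m ∧ π ^ m ∈ V := by
    obtain ⟨n, hn⟩ := hD {τ | π * τ ∈ V} (hVopen.preimage (continuous_const_mul π))
      ⟨π⁻¹, by simp [V.one_mem]⟩
    exact ⟨n + 1, Nat.succ_pos n, by rw [pow_succ']; exact hn⟩
  set e := Nat.card H with he
  have hepos : 0 < e := Nat.card_pos
  set M := m * e with hM
  have hMpos : 0 < M := Nat.mul_pos hmpos hepos
  obtain ⟨W₀, hW₀open, hW₀pow, hW₀conj⟩ := hE M hMpos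
  set W : Subgroup Γ := W₀ ⊓ V with hW
  have hWopen : IsOpen (W : Set Γ) := by
    rw [hW, Subgroup.coe_inf]
    exact hW₀open.inter hVopen
  -- `π` normalises `V`
  have hVconj : ∀ w ∈ V, π⁻¹ * w * π ∈ V := by
    intro w hw h hh
    rw [mul_smul, mul_smul, hw _ (hH π h hh), inv_smul_smul]
  have hWconj : ∀ w ∈ W, π⁻¹ * w * π ∈ W := fun w hw =>
    ⟨hW₀conj w hw.1, hVconj w hw.2⟩
  have hWconjpow : ∀ (l : ℕ), ∀ w ∈ W, (π ^ l)⁻¹ * w * π ^ l ∈ W := by
    intro l
    induction l with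
    | zero => intro w hw; simpa using hw
    | succ l ih =>
      intro w hw
      have := hWconj _ (ih w hw)
      rw [pow_succ, mul_inv_rev]
      simpa [mul_assoc] using this
  have hVpow : ∀ j : ℕ, π ^ (m * j) ∈ V := fun j => by
    rw [pow_mul]; exact V.pow_mem hmV j
  have hWpow : ∀ n : ℕ, π ^ n ∈ W ↔ M ∣ n := by
    intro n
    constructor
    · intro h; exact (hW₀pow n).mp h.1
    · rintro ⟨j, rfl⟩
      refine ⟨(hW₀pow _).mpr ⟨j, rfl⟩, ?_⟩
      rw [hM, mul_assoc]
      exact hVpow _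
  -- periodicity of `zz`
  have hzm : zz π a m ^ e = 1 := by
    have h1 : (⟨zz π a m, zz_mem π a H haH hH m⟩ : H) ^ Nat.card H = 1 := pow_card_eq_one'
    have h2 := congrArg Subtype.val h1
    rw [Subgroup.coe_pow] at h2
    exact h2
  have hzM : zz π a M = 1 := by
    rw [hM, zz_mul π a H haH hH m (fun x hx => hmV x hx), hzm]
  have hMV : ∀ x ∈ H, π ^ M • x = x := fun x hx => by
    have := hVpow e
    exact this x hx
  have hper : ∀ n j : ℕ, zz π a (n + M * j) = zz π a n := by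
    intro n j
    rw [zz_add, zz_mul π a H haH hH M hMV, hzM, one_pow, smul_one, mul_one]
  have hper' : ∀ n n' : ℕ, (π ^ n)⁻¹ * π ^ n' ∈ W → zz π a n = zz π a n' := by
    intro n n' h
    rcases le_total n n' with hle | hle
    · obtain ⟨t, rfl⟩ := Nat.exists_eq_add_of_le hle
      rw [pow_add, inv_mul_cancel_left] at h
      obtain ⟨j, rfl⟩ := (hWpow t).mp h
      exact (hper n j).symm
    · obtain ⟨t, rfl⟩ := Nat.exists_eq_add_of_le hle
      have h2 : π ^ t ∈ W := by
        have := W.inv_mem h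
        rw [mul_inv_rev, inv_inv, pow_add, inv_mul_cancel_left] at this
        exact this
      obtain ⟨j, rfl⟩ := (hWpow t).mp h2
      exact hper n' j
  -- the index function
  have hν : ∀ σ : Γ, ∃ n : ℕ, σ⁻¹ * π ^ n ∈ W := fun σ =>
    hD {τ | σ⁻¹ * τ ∈ W} (hWopen.preimage (continuous_const_mul σ⁻¹)) ⟨σ, by simp [W.one_mem]⟩
  choose ν hνspec using hν
  have hkey : ∀ (σ : Γ) (n : ℕ), σ⁻¹ * π ^ n ∈ W → zz π a (ν σ) = zz π a n := by
    intro σ n hn
    apply hper'
    have := W.mul_mem (W.inv_mem (hνspec σ)) hn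
    rw [mul_inv_rev, inv_inv, mul_assoc, mul_inv_cancel_left] at this
    exact this
  have hcoc : IsOneCocycle (fun σ : Γ => zz π a (ν σ)) := by
    intro σ τ
    show zz π a (ν (σ * τ)) = zz π a (ν σ) * σ • zz π a (ν τ)
    have h1 : (σ * τ)⁻¹ * π ^ (ν σ + ν τ) ∈ W := by
      have e1 : (σ * τ)⁻¹ * π ^ (ν σ + ν τ) =
          (τ⁻¹ * π ^ ν τ) * ((π ^ ν τ)⁻¹ * (σ⁻¹ * π ^ ν σ) * π ^ ν τ) := by
        rw [pow_add]; group
      rw [e1]
      exact W.mul_mem (hνspec τ) (hWconjpow _ _ (hνspec σ))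
    rw [hkey _ _ h1, zz_add]
    congr 1
    -- `σ` and `π ^ ν σ` act in the same way on `H`
    have h2 : (σ⁻¹ * π ^ ν σ) • zz π a (ν τ) = zz π a (ν τ) :=
      (hνspec σ).2 _ (zz_mem π a H haH hH _)
    rw [mul_smul, inv_smul_eq_iff] at h2
    exact h2
  have hlc : IsLocallyConstant (fun σ : Γ => zz π a (ν σ)) := by
    rw [IsLocallyConstant.iff_exists_open]
    intro σ
    refine ⟨{τ | σ⁻¹ * τ ∈ W}, hWopen.preimage (continuous_const_mul σ⁻¹), by simp [W.one_mem], ?_⟩
    intro τ hτ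
    show zz π a (ν τ) = zz π a (ν σ)
    apply hkey
    have := W.mul_mem (W.inv_mem hτ) (hνspec σ)
    rw [mul_inv_rev, inv_inv, mul_assoc, mul_inv_cancel_left] at this
    exact this
  refine ⟨⟨⟨_, hcoc⟩, hlc⟩, ?_⟩
  show zz π a (ν π) = a
  rw [hkey π 1 (by simp [W.one_mem])]
  simp [zz]

/-- Twisting a locally constant cocycle by `g`. -/
theorem lc_twist (hcont : ∀ a : A, IsOpen {σ : Γ | σ • a = a}) (z : OneCocycleLC Γ A) (g : A) :
    ∃ z'' : OneCocycleLC Γ A, ∀ σ, z''.1 σ = g * z.1 σ * (σ • g)⁻¹ := by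
  have hcoc : IsOneCocycle (fun σ : Γ => g * z.1 σ * (σ • g)⁻¹) := by
    intro σ τ
    show g * z.1 (σ * τ) * ((σ * τ) • g)⁻¹ = g * z.1 σ * (σ • g)⁻¹ * σ • (g * z.1 τ * (τ • g)⁻¹)
    rw [z.1.2, smul_mul', smul_mul', smul_inv', mul_smul]
    group
  have hlc : IsLocallyConstant (fun σ : Γ => g * z.1 σ * (σ • g)⁻¹) := by
    rw [IsLocallyConstant.iff_exists_open]
    intro σ
    obtain ⟨U, hU, hσU, hUc⟩ := (IsLocallyConstant.iff_exists_open _).mp z.2 σ
    refine ⟨U ∩ {τ | (σ⁻¹ * τ) • g = g}, hU.inter ((hcont g).preimage (continuous_const_mul σ⁻¹)),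
      ⟨hσU, by simp⟩, ?_⟩
    rintro τ ⟨hτU, hτg⟩
    have h1 : τ • g = σ • g := by
      have h2 : (σ⁻¹ * τ) • g = g := hτg
      rw [mul_smul, inv_smul_eq_iff] at h2
      exact h2
    show g * z.1 τ * (τ • g)⁻¹ = g * z.1 σ * (σ • g)⁻¹
    rw [hUc τ hτU, h1]
  exact ⟨⟨⟨_, hcoc⟩, hlc⟩, fun σ => rfl⟩

/-- The abstract form of the theorem, for a topological group with a topological generator `π`
having quotients of every order. -/
theorem abstract_result (π : Γ) (hD : ∀ U : Set Γ, IsOpen U → U.Nonempty → ∃ n : ℕ, π ^ n ∈ U)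
    (hE : ∀ M : ℕ, 0 < M → ∃ W : Subgroup Γ, IsOpen (W : Set Γ) ∧ (∀ n : ℕ, π ^ n ∈ W ↔ M ∣ n) ∧
      ∀ w ∈ W, π⁻¹ * w * π ∈ W)
    (hcont : ∀ a : A, IsOpen {σ : Γ | σ • a = a})
    (hfin : ∀ a : A, ∃ H : Subgroup A, (H : Set A).Finite ∧ a ∈ H ∧
      ∀ (σ : Γ) (x : A), x ∈ H → σ • x ∈ H) :
    Function.Bijective (fun z : OneCocycleLC Γ A => z.1 π) ∧
      ∀ z z' : OneCocycleLC Γ A, z.cl = z'.cl ↔ ∃ g : A, z'.1 π = g * z.1 π * (π • g)⁻¹ := by
  refine ⟨⟨fun z z' h => lc_ext π hD z z' h, fun a => lc_exists π hD hE hcont hfin a⟩, ?_⟩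
  intro z z'
  rw [OneCocycleLC.cl_eq_cl_iff]
  constructor
  · rintro ⟨c, hc⟩
    refine ⟨c, ?_⟩
    rw [hc π]
    group
  · rintro ⟨g, hg⟩
    obtain ⟨z'', hz''⟩ := lc_twist hcont z g
    have h1 : z'' = z' := lc_ext π hD z'' z' (by rw [hz'', hg])
    subst h1
    refine ⟨g, fun σ => ?_⟩
    rw [hz'' σ]
    group

end top

end abstract

section field

variable (k : Type u) [Field k] [Finite k]

local notation "K" => AlgebraicClosure k
local notation "Γ" => (AlgebraicClosure k ≃ₐ[k] AlgebraicClosure k)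

theorem pow_apply (π : Γ) (hπ : ∀ x : K, π x = x ^ Nat.card k) (n : ℕ) (x : K) :
    (π ^ n) x = x ^ (Nat.card k ^ n) := by
  induction n generalizing x with
  | zero => simp
  | succ n ih => rw [pow_succ, AlgEquiv.mul_apply, ih, hπ, ← pow_mul, pow_succ, mul_comm]

/-- Every automorphism agrees with a power of Frobenius on a finite subextension. -/
theorem exists_pow_eq_on (π : Γ) (hπ : ∀ x : K, π x = x ^ Nat.card k)
    (E : IntermediateField k K) [FiniteDimensional k E] (σ : Γ) :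
    ∃ n : ℕ, ∀ x ∈ E, σ x = (π ^ n) x := by
  have : Fintype k := Fintype.ofFinite k
  have : Finite E := Module.finite_of_finite k
  obtain ⟨n, hn⟩ := (FiniteField.bijective_frobeniusAlgHom_pow k E).2
    ((σ.restrictNormal E : E ≃ₐ[k] E) : E →ₐ[k] E)
  refine ⟨n.1, fun x hx => ?_⟩
  have h1 := DFunLike.congr_fun hn ⟨x, hx⟩
  have h2 : algebraMap E K ((σ.restrictNormal E) ⟨x, hx⟩) = σ x :=
    AlgEquiv.restrictNormal_commutes σ E ⟨x, hx⟩
  rw [← h2, pow_apply k π hπ]
  have h3 : ((σ.restrictNormal E : E ≃ₐ[k] E) : E →ₐ[k] E) ⟨x, hx⟩ =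
      (σ.restrictNormal E) ⟨x, hx⟩ := rfl
  rw [← h3, ← h1, AlgHom.coe_pow, FiniteField.coe_frobeniusAlgHom, pow_iterate,
    Nat.card_eq_fintype_card]
  rfl

theorem dense_pow (π : Γ) (hπ : ∀ x : K, π x = x ^ Nat.card k) (U : Set Γ) (hU : IsOpen U)
    (hne : U.Nonempty) : ∃ n : ℕ, π ^ n ∈ U := by
  obtain ⟨σ, hσ⟩ := hne
  have h1 : {τ : Γ | σ * τ ∈ U} ∈ nhds (1 : Γ) :=
    (hU.preimage (continuous_const_mul σ)).mem_nhds (by simpa using hσ)
  obtain ⟨E, hE, hEU⟩ := (krullTopology_mem_nhds_one_iff k K _).mp h1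
  obtain ⟨n, hn⟩ := exists_pow_eq_on k π hπ E σ
  refine ⟨n, ?_⟩
  have h2 : σ⁻¹ * π ^ n ∈ E.fixingSubgroup := by
    rw [IntermediateField.mem_fixingSubgroup_iff]
    intro x hx
    rw [AlgEquiv.mul_apply, ← hn x hx]
    exact σ.symm_apply_apply x
  have := hEU h2
  simpa using this

/-- For every `M ≥ 1` there is an open subgroup containing exactly the `M`-divisible powers of
Frobenius, normalised by Frobenius. -/
theorem exists_open_subgroup (π : Γ) (hπ : ∀ x : K, π x = x ^ Nat.card k) (M : ℕ) (hM : 0 < M) :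
    ∃ W : Subgroup Γ, IsOpen (W : Set Γ) ∧ (∀ n : ℕ, π ^ n ∈ W ↔ M ∣ n) ∧
      ∀ w ∈ W, π⁻¹ * w * π ∈ W := by
  have : Fintype k := Fintype.ofFinite k
  obtain ⟨p, hp⟩ := CharP.exists k
  have : Fact p.Prime := ⟨CharP.char_is_prime k p⟩
  have : NeZero M := ⟨hM.ne'⟩
  let φ : FiniteField.Extension k p M →ₐ[k] K := IsAlgClosed.lift
  let E : IntermediateField k K := φ.fieldRange
  let e : FiniteField.Extension k p M ≃ₐ[k] E := AlgEquiv.ofInjectiveField φ
  have hfd : FiniteDimensional k E := Module.Finite.equiv e.toLinearEquiv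
  have hrank : Module.finrank k E = M := by
    rw [← e.toLinearEquiv.finrank_eq, FiniteField.finrank_extension]
  have : Finite E := Module.finite_of_finite k
  refine ⟨E.fixingSubgroup, E.fixingSubgroup_isOpen, ?_, ?_⟩
  · intro n
    rw [← hrank, ← FiniteField.orderOf_frobeniusAlgHom k E, orderOf_dvd_iff_pow_eq_one,
      IntermediateField.mem_fixingSubgroup_iff, DFunLike.ext_iff]
    constructor
    · intro h x
      rw [AlgHom.coe_pow, FiniteField.coe_frobeniusAlgHom, pow_iterate, AlgHom.one_apply]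
      apply Subtype.ext
      have := h x.1 x.2
      rw [pow_apply k π hπ, Nat.card_eq_fintype_card] at this
      rw [SubmonoidClass.coe_pow]
      exact this
    · intro h x hx
      have := h ⟨x, hx⟩
      rw [AlgHom.coe_pow, FiniteField.coe_frobeniusAlgHom, pow_iterate, AlgHom.one_apply] at this
      have h2 := congrArg Subtype.val this
      rw [SubmonoidClass.coe_pow] at h2
      rw [pow_apply k π hπ, Nat.card_eq_fintype_card]
      exact h2
  · intro w hw
    rw [IntermediateField.mem_fixingSubgroup_iff] at hw ⊢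
    intro x hx
    rw [AlgEquiv.mul_apply, AlgEquiv.mul_apply, hw (π x) (by rw [hπ]; exact pow_mem hx _)]
    exact π.symm_apply_apply x

end field

/-- Let k be a finite field, k̄ an algebraic closure, Γ = Aut(k̄/k) with the Krull topology and π ∈ Γ
the Frobenius x ↦ x^(#k). Let A be a group on which Γ acts by group automorphisms, with open
stabilisers, such that every element of A lies in a finite Γ-stable subgroup. Then z ↦ z(π) is a
bijection from the locally constant 1-cocycles Γ → A (the continuous cocycles for discrete A) onto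
A, and two such cocycles z, z' are cohomologous if and only if z'(π) = g · z(π) · (π g)^(-1) for
some g in A; hence it induces a bijection of the continuous first cohomology set with the quotient
of A by the twisted conjugation g · x = g x (π g)^(-1). (The published statement takes A to be the
group of k̄-points of a smooth algebraic group over k with its Galois action; this row assumes only
the two properties of that action which the proof uses.) -/
theorem result (k : Type u) [Field k] [Finite k]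
    (π : AlgebraicClosure k ≃ₐ[k] AlgebraicClosure k)
    (hπ : ∀ x : AlgebraicClosure k, π x = x ^ Nat.card k)
    (A : Type v) [Group A] [MulDistribMulAction (AlgebraicClosure k ≃ₐ[k] AlgebraicClosure k) A]
    (hcont : ∀ a : A, IsOpen {σ : AlgebraicClosure k ≃ₐ[k] AlgebraicClosure k | σ • a = a})
    (hfin : ∀ a : A, ∃ H : Subgroup A, (H : Set A).Finite ∧ a ∈ H ∧
      ∀ (σ : AlgebraicClosure k ≃ₐ[k] AlgebraicClosure k) (x : A), x ∈ H → σ • x ∈ H) :
    Function.Bijective
        (fun z : GpH1.OneCocycleLC (AlgebraicClosure k ≃ₐ[k] AlgebraicClosure k) A => z.1 π) ∧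
      ∀ z z' : GpH1.OneCocycleLC (AlgebraicClosure k ≃ₐ[k] AlgebraicClosure k) A,
        z.cl = z'.cl ↔ ∃ g : A, z'.1 π = g * z.1 π * (π • g)⁻¹ := by
  exact abstract_result π (dense_pow k π hπ) (exists_open_subgroup k π hπ) hcont hfin

end Groth.Agent.S14195
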