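import Groth.Statements.S14204
import Groth.Agent.Lib.PullTensor81D
import Groth.Agent.Lib.OXModTensorColim
import Groth.Agent.Lib.TwistEquiv
import Groth.Agent.Lib.H78TwistBCInt

set_option autoImplicit false
universe u
open CategoryTheory CategoryTheory.Limits AlgebraicGeometry
open ASBun

namespace Groth.Agent.S14204


section aux

open Groth.Agent.Lib.OXModTensor Groth.Agent.Lib.TwistEquiv

variable {Y : Scheme.{u}}

/-- `(∐_r A) ⊗ (∐_s B) ≅ ∐_{rs} A ⊗ B`. -/
theorem nonempty_tensor_pow_iso (A B C : Y.Modules) (eC : CohB1.tensorMod A B ≅ C) (r s : ℕ) :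
    Nonempty (CohB1.tensorMod (BrSev.pow A r) (BrSev.pow B s) ≅ BrSev.pow C (r * s)) := by
  -- right functor preserves the coproduct
  have e1 : CohB1.tensorMod (BrSev.pow A r) (BrSev.pow B s) ≅
      ∐ fun _ : Fin r => CohB1.tensorMod A (BrSev.pow B s) :=
    PreservesCoproduct.iso (tensorRightFunctor (BrSev.pow B s)) (fun _ : Fin r => A)
  have e2 : CohB1.tensorMod A (BrSev.pow B s) ≅ ∐ fun _ : Fin s => CohB1.tensorMod A B :=
    PreservesCoproduct.iso (tensorLeftFunctor A) (fun _ : Fin s => B)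
  have e3 : (∐ fun _ : Fin r => CohB1.tensorMod A (BrSev.pow B s)) ≅
      ∐ fun _ : Fin r => ∐ fun _ : Fin s => C :=
    Sigma.mapIso (fun _ => e2 ≪≫ Sigma.mapIso (fun _ => eC))
  have e4 : (∐ fun _ : Fin r => ∐ fun _ : Fin s => C) ≅ ∐ fun _ : (Σ _ : Fin r, Fin s) => C :=
    sigmaSigmaIso (fun _ : Fin r => Fin s) (fun _ _ => C)
  have e5 : (∐ fun _ : (Σ _ : Fin r, Fin s) => C) ≅ BrSev.pow C (r * s) :=
    Sigma.whiskerEquiv (f := fun _ : (Σ _ : Fin r, Fin s) => C) (g := fun _ : Fin (r * s) => C)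
      ((Equiv.sigmaEquivProd (Fin r) (Fin s)).trans finProdFinEquiv) (fun _ => Iso.refl _)
  exact ⟨e1 ≪≫ e3 ≪≫ e4 ≪≫ e5⟩

theorem main (k : Type u) [Field k] {X : Scheme.{u}}
    (f : X ⟶ Spec (CommRingCat.of k)) (n : ℕ)
    (K : Type u) [Field K] [Algebra k K] (e : BrSev.Splitting f K n) (j l : ℤ) (r s : ℕ)
    (W W' : X.Modules) (hWt : BrSev.IsTwPow e j r W) (hW't : BrSev.IsTwPow e l s W') :
    BrSev.IsTwPow e (j + l) (r * s) (CohB1.tensorMod W W') := by
  obtain ⟨a⟩ := hWt
  obtain ⟨b⟩ := hW't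
  have eC : CohB1.tensorMod (e.twist j) (e.twist l) ≅ e.twist (j + l) :=
    (Groth.Agent.Lib.PullTensor81.pullbackTensorIso e.iso.hom _ _).symm ≪≫
      (Scheme.Modules.pullback e.iso.hom).mapIso (Groth.Agent.Lib.H78TwistBCInt.twistMulIsoPn n K j l)
  obtain ⟨t⟩ := nonempty_tensor_pow_iso _ _ _ eC r s
  exact ⟨Groth.Agent.Lib.PullTensor81.pullbackTensorIso (BrSev.proj f K) W W' ≪≫
    (tensorRightFunctor _).mapIso a ≪≫ (tensorLeftFunctor _).mapIso b ≪≫ t⟩

end aux

/-- Let X be a scheme over a field k, K a field extension of k, e a K-isomorphism X_K ≅ P^n_K with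
O_e(j) the pullback of O(j) along e, and W, W' two O_X-modules with W_K ≅ O_e(j)^{⊕r} and W'_K ≅
O_e(l)^{⊕s} for integers j, l and natural numbers r, s. Then the tensor product W ⊗_{O_X} W'
satisfies (W ⊗ W')_K ≅ O_e(j + l)^{⊕rs}: the tensor product of absolutely rank-one-isotypical
modules of twisting types O(j) and O(l) is absolutely rank-one-isotypical of type O(j + l), in
particular absolutely split. (The published statement is for the indecomposable modules of types
O(j) and O(l) on a Severi–Brauer variety with K an algebraic closure; the argument uses only the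
displayed decompositions.) -/
theorem result (k : Type u) [Field k] {X : Scheme.{u}}
    (f : X ⟶ Spec (CommRingCat.of k)) (n : ℕ)
    (K : Type u) [Field K] [Algebra k K] (e : BrSev.Splitting f K n) (j l : ℤ) (r s : ℕ)
    (W W' : X.Modules) (hWt : BrSev.IsTwPow e j r W) (hW't : BrSev.IsTwPow e l s W') :
    BrSev.IsTwPow e (j + l) (r * s) (CohB1.tensorMod W W') := by
  exact main k f n K e j l r s W W' hWt hW't

end Groth.Agent.S14204
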