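import Groth.Statements.S14205
import Groth.Agent.Lib.CSABrArith
set_option autoImplicit false
universe u v
open scoped TensorProduct
open Brauer

namespace Groth.Agent.S14205

/-- Let A be a finite-dimensional central simple algebra over a field k with period p: p is the least
positive integer for which the p-fold tensor power of A over k is a full matrix algebra over k. Then
for every r ≥ 1 the r-fold tensor power of A has period p / gcd(p, r) (the order of the r-th
multiple of an element of order p). -/
theorem result (k : Type u) [Field k] (A : Type v) [Ring A] [Algebra k A]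
    [Algebra.IsCentral k A] [IsSimpleRing A] [FiniteDimensional k A] (p : ℕ)
    (hp : CSAGal.IsPeriod k A p) (r : ℕ) (hr : 0 < r) :
    CSAGal.IsPeriod k (CSAGal.tpow k A r) (p / Nat.gcd p r) := by
  have hp0 : 0 < p := hp.1
  obtain ⟨h1, h2, h3, -⟩ := Groth.Agent.Lib.CSATpow.tpow_csa k A r
  -- splitting of iterated powers
  have key : ∀ m : ℕ, Curves.Splits k (CSAGal.tpow k (CSAGal.tpow k A r) m) k ↔ p ∣ r * m := by
    intro m
    rw [← Groth.Agent.Lib.CSABrArith.splits_tpow_iff_dvd k A hp (r * m),
      Groth.Agent.Lib.CSABrArith.splits_tpow_iff_brEq k A (r * m),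
      Groth.Agent.Lib.CSABrArith.splits_tpow_iff_brEq k (CSAGal.tpow k A r) m]
    have hb := Groth.Agent.Lib.CSABrArith.brEq_tpow_tpow k A r m
    exact ⟨fun h => hb.symm.trans h, fun h => hb.trans h⟩
  set g := Nat.gcd p r with hg
  have hg0 : 0 < g := Nat.gcd_pos_of_pos_left r hp0
  obtain ⟨q, hq⟩ : g ∣ p := Nat.gcd_dvd_left p r
  obtain ⟨r', hr'⟩ : g ∣ r := Nat.gcd_dvd_right p r
  have hpq : p / g = q := by rw [hq, Nat.mul_div_cancel_left _ hg0]
  have hq0 : 0 < q := by
    rcases Nat.eq_zero_or_pos q with h | h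
    · rw [h, mul_zero] at hq; omega
    · exact h
  have hcop : Nat.Coprime q r' := by
    have := Nat.coprime_div_gcd_div_gcd (m := p) (n := r) hg0
    rw [← hg] at this
    rwa [hpq, show r / g = r' by rw [hr', Nat.mul_div_cancel_left _ hg0]] at this
  rw [hpq]
  refine ⟨hq0, ?_, ?_⟩
  · rw [key]
    refine ⟨r', ?_⟩
    rw [hq, hr']; ring
  · intro e' he' hlt hsplit
    rw [key] at hsplit
    have h4 : q ∣ r' * e' := by
      apply Nat.dvd_of_mul_dvd_mul_left hg0
      rw [← hq, ← mul_assoc, ← hr']
      exact hsplit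
    have h5 : q ∣ e' := hcop.dvd_of_dvd_mul_left h4
    exact absurd (Nat.le_of_dvd he' h5) (not_le.mpr hlt)

end Groth.Agent.S14205
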