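import Groth.Statements.S14211
import Groth.Agent.Lib.QuaternionRecog57
import Groth.Agent.Lib.CSAIndexArith
import Groth.Agent.Lib.CSA

set_option autoImplicit false
universe u v
open scoped TensorProduct
open Brauer

namespace Groth.Agent.S14211

open Groth.Agent.Lib.CSA Groth.Agent.Lib.CSABrArith Groth.Agent.Lib.CSAIndexArith
open Groth.Agent.Lib.QuaternionRecog57

section Gen

universe w

variable {k : Type u} [Field k]

/-- A central simple algebra with an anti-automorphism has `Q ⊗ Q` split. -/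
theorem brEq_tensor_self_of_op {Q : Type w} [Ring Q] [Algebra k Q] [Algebra.IsCentral k Q]
    [IsSimpleRing Q] [FiniteDimensional k Q] (σ : Q ≃ₐ[k] Qᵐᵒᵖ) : BrEq k (Q ⊗[k] Q) k := by
  classical
  have hsimple : IsSimpleRing (Q ⊗[k] Q) := isSimpleRing_tensor
  let f : Q ⊗[k] Q →ₐ[k] Module.End k Q :=
    (AlgHom.mulLeftRight k Q).comp (Algebra.TensorProduct.congr AlgEquiv.refl σ).toAlgHom
  have hinj : Function.Injective f := fun a b hab => RingHom.injective f.toRingHom hab
  have hfin : Module.finrank k (Q ⊗[k] Q) = Module.finrank k (Module.End k Q) := by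
    rw [Module.finrank_tensorProduct, Module.finrank_linearMap]
  have hbij : Function.Bijective f :=
    ⟨hinj, (LinearMap.injective_iff_surjective_of_finrank_eq_finrank hfin
      (f := f.toLinearMap)).1 hinj⟩
  have hn : Module.finrank k Q ≠ 0 := Module.finrank_pos.ne'
  exact (BrEq.of_algEquiv ((AlgEquiv.ofBijective f hbij).trans
    (algEquivMatrix (Module.finBasis k Q)))).trans (brEq_matrix _ hn)

/-- The converse direction, for a division algebra `Q` of dimension 4 with an anti-automorphism. -/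
theorem period_index_of_matrix {Q : Type w} [DivisionRing Q] [Algebra k Q]
    [FiniteDimensional k Q] (σ : Q ≃ₐ[k] Qᵐᵒᵖ) (hdim : Module.finrank k Q = 4)
    (A : Type v) [Ring A] [Algebra k A] [Algebra.IsCentral k A] [IsSimpleRing A]
    [FiniteDimensional k A] {m : ℕ} (hm : 0 < m) (e : A ≃ₐ[k] Matrix (Fin m) (Fin m) Q) :
    CSAGal.IsPeriod k A 2 ∧ CSAGal.IsIndex k A 2 := by
  have hcQ : Algebra.IsCentral k Q := isCentral_of_matrix_algEquiv hm.ne' e
  have hAQ : BrEq k A Q := (BrEq.of_algEquiv e).trans (brEq_matrix m hm.ne')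
  refine ⟨⟨two_pos, ?_, ?_⟩, ?_⟩
  · rw [splits_tpow_iff_brEq]
    have h1 : BrEq k (⨂[k] _ : Fin (1 + 1), A) ((⨂[k] _ : Fin 1, A) ⊗[k] (⨂[k] _ : Fin 1, A)) :=
      brEq_tpow_add k A 1 1
    have h2 : BrEq k ((⨂[k] _ : Fin 1, A) ⊗[k] (⨂[k] _ : Fin 1, A)) (A ⊗[k] A) :=
      (brEq_tpow_one k A).tensor (brEq_tpow_one k A)
    have h3 : BrEq k (A ⊗[k] A) (Q ⊗[k] Q) := hAQ.tensor hAQ
    exact h1.trans (h2.trans (h3.trans (brEq_tensor_self_of_op σ)))
  · intro e' he' he'2
    obtain rfl : e' = 1 := by omega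
    intro hs
    rw [splits_tpow_iff_brEq] at hs
    have hQk : BrEq k Q k := hAQ.symm.trans ((brEq_tpow_one k A).symm.trans hs)
    obtain ⟨n, p, hn, hp, ⟨φ⟩⟩ := hQk
    obtain ⟨ψ⟩ := divisionRing_algEquiv_of_matrix_algEquiv (k := k) hn hp φ
    have := ψ.toLinearEquiv.finrank_eq
    rw [hdim, Module.finrank_self] at this
    omega
  · obtain ⟨d, hd⟩ := exists_isIndex (k := k) A
    have hd' := hd
    obtain ⟨hd0, m', D', _, _, hm', hD', ⟨e'⟩⟩ := hd'
    have : FiniteDimensional k D' := Module.finite_of_finrank_pos (by rw [hD']; positivity)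
    obtain ⟨ψ⟩ := divisionRing_algEquiv_of_matrix_algEquiv (k := k) hm.ne' hm'.ne'
      (e.symm.trans e')
    have h4 := ψ.toLinearEquiv.finrank_eq
    rw [hdim, hD'] at h4
    have hd2 : d = 2 := by nlinarith
    rw [← hd2]
    exact hd

end Gen

theorem result (k : Type u) [Field k] (h2 : (2 : k) ≠ 0)
    (A : Type v) [Ring A] [Algebra k A] [Algebra.IsCentral k A] [IsSimpleRing A]
    [FiniteDimensional k A] :
    ((CSAGal.IsPeriod k A 2 ∧ CSAGal.IsIndex k A 2) ↔
      ∃ (a b : k) (m : ℕ), 0 < m ∧ (∀ x : QuaternionAlgebra k a 0 b, x ≠ 0 → IsUnit x) ∧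
        Nonempty (A ≃ₐ[k] Matrix (Fin m) (Fin m) (QuaternionAlgebra k a 0 b))) ∧
    (∀ (a b a' b' : k) (m m' : ℕ),
      (∀ x : QuaternionAlgebra k a 0 b, x ≠ 0 → IsUnit x) →
      (∀ x : QuaternionAlgebra k a' 0 b', x ≠ 0 → IsUnit x) →
      Nonempty (A ≃ₐ[k] Matrix (Fin m) (Fin m) (QuaternionAlgebra k a 0 b)) →
      Nonempty (A ≃ₐ[k] Matrix (Fin m') (Fin m') (QuaternionAlgebra k a' 0 b')) →
      Nonempty (QuaternionAlgebra k a 0 b ≃ₐ[k] QuaternionAlgebra k a' 0 b')) := by
  refine ⟨⟨?_, ?_⟩, ?_⟩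
  · rintro ⟨-, -, m, D, _, _, hm, hrank, ⟨e⟩⟩
    have hD4 : Module.finrank k D = 4 := by rw [hrank]; norm_num
    have : FiniteDimensional k D := Module.finite_of_finrank_pos (by rw [hD4]; norm_num)
    have : Algebra.IsCentral k D := isCentral_of_matrix_algEquiv hm.ne' e
    obtain ⟨a, b, ⟨ψ⟩⟩ := exists_quaternion_algEquiv (k := k) (D := D) h2 hD4
    refine ⟨a, b, m, hm, ?_, ⟨e.trans (AlgEquiv.mapMatrix ψ.symm)⟩⟩
    intro x hx
    have h1 : ψ x ≠ 0 := fun h => hx (by simpa using h)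
    exact (isUnit_map_iff ψ x).mp (isUnit_iff_ne_zero.mpr h1)
  · rintro ⟨a, b, m, hm, hunit, ⟨e⟩⟩
    letI : DivisionRing (QuaternionAlgebra k a 0 b) :=
      DivisionRing.ofIsUnitOrEqZero fun x => (em (x = 0)).symm.imp (hunit x) id
    exact period_index_of_matrix (Q := QuaternionAlgebra k a 0 b) QuaternionAlgebra.starAe
      (QuaternionAlgebra.finrank_eq_four a 0 b) A hm e
  · rintro a b a' b' m m' hunit hunit' ⟨e⟩ ⟨e'⟩
    letI : DivisionRing (QuaternionAlgebra k a 0 b) :=
      DivisionRing.ofIsUnitOrEqZero fun x => (em (x = 0)).symm.imp (hunit x) id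
    letI : DivisionRing (QuaternionAlgebra k a' 0 b') :=
      DivisionRing.ofIsUnitOrEqZero fun x => (em (x = 0)).symm.imp (hunit' x) id
    have hm : m ≠ 0 := by
      rintro rfl
      have : Subsingleton A := e.toEquiv.subsingleton
      exact not_subsingleton A this
    have hm' : m' ≠ 0 := by
      rintro rfl
      have : Subsingleton A := e'.toEquiv.subsingleton
      exact not_subsingleton A this
    exact divisionRing_algEquiv_of_matrix_algEquiv (k := k) hm hm' (e.symm.trans e')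

end Groth.Agent.S14211
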