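import Groth.Statements.S1425
import Groth.Agent.Lib.Weight34C

set_option autoImplicit false
universe u
open FlatMor

namespace Groth.Agent.S1425

open AlgebraicGeometry CategoryTheory Limits in
/-- A weighting of a locally quasi-finite morphism taking positive values is upper semicontinuous on X. -/
theorem result {X Y : Scheme.{u}} (f : X ⟶ Y) [LocallyQuasiFinite f] [LocallyOfFiniteType f] (w : ↑X → ℤ) (hw : MoreMor.IsWeighting f w) (hpos : ∀ x, 0 < w x) :
    UpperSemicontinuous w := by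
  intro x y hy
  suffices h : ∀ᶠ x' in nhds x, w x' ≤ w x from h.mono fun x' hx' => lt_of_le_of_lt hx' hy
  obtain ⟨V, g, v, hg, hgv, n, B, b, HB, -, hcov⟩ :=
    Groth.Agent.Lib.EtLocQF.exists_etaleNbhd_purelyInseparable f (f x) (fun _ : Unit => x)
      (fun _ => rfl) (fun _ => f.quasiFiniteAt x)
  obtain ⟨z, hz1, hz2⟩ := Scheme.Pullback.exists_preimage_pullback (f := f) (g := g) x v hgv.symm
  obtain ⟨m, hm⟩ := hcov z hz2 ⟨(), hz1⟩
  obtain ⟨hB1, hB2, hB3, hB4, hB5, hB6, -⟩ := HB m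
  have hG := hw V g (B m) hB2
  obtain ⟨F, hF⟩ : ∃ F, F = MoreMor.fibreIntegral ((B m).ι ≫ pullback.snd f g)
      (fun u => w (pullback.fst f g ((B m).ι u))) := ⟨_, rfl⟩
  rw [← hF] at hG
  have hFv : F v = w x := by
    rw [hF, Groth.Agent.Lib.Weight34.fibreIntegral_ι_comp_of_unique (B m) (pullback.snd f g)
      (fun z => w (pullback.fst f g z)) v (b m) hB1 hB3 hB4,
      Groth.Agent.Lib.Weight34.sepDeg_eq_one _ _ hB5, ← hm, hz1]
    simp
  have hNopen : IsOpen (F ⁻¹' {w x}) := hG.isOpen_fiber _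
  have hOopen : IsOpen ((B m : Set ↑(pullback f g)) ∩ pullback.snd f g ⁻¹' (F ⁻¹' {w x})) :=
    (B m).isOpen.inter (hNopen.preimage (pullback.snd f g).continuous)
  have hfstopen : IsOpenMap (pullback.fst f g) := (pullback.fst f g).isOpenMap
  have hmem : pullback.fst f g '' ((B m : Set ↑(pullback f g)) ∩
      pullback.snd f g ⁻¹' (F ⁻¹' {w x})) ∈ nhds x := by
    refine (hfstopen _ hOopen).mem_nhds ⟨z, ⟨hm ▸ hB1, ?_⟩, hz1⟩
    change F (pullback.snd f g z) = w x
    rw [hz2]; exact hFv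
  filter_upwards [hmem]
  rintro x' ⟨z', ⟨hz'B, hz'N⟩, rfl⟩
  have hz'N' : F (pullback.snd f g z') = w x := hz'N
  have h1 := Groth.Agent.Lib.Weight34.le_fibreIntegral_ι_comp (B m) (pullback.snd f g)
    (fun z => w (pullback.fst f g z)) (pullback.snd f g z') z' hz'B rfl
    (Groth.Agent.Lib.Weight34.finite_setOf_mem_of_isFinite _ _ hB2 _) (fun z _ _ => (hpos _).le)
  rw [← hF, hz'N'] at h1
  have h2 : 0 < Groth.Agent.Lib.Weight34.sepDeg (pullback.snd f g) z' :=
    Groth.Agent.Lib.Weight34.sepDeg_pos _ _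
      (Groth.Agent.Lib.EtLocQF.finite_residueFieldMap_of_quasiFiniteAt _ _
        ((pullback.snd f g).quasiFiniteAt z'))
  have h3 : (1 : ℤ) ≤ (Groth.Agent.Lib.Weight34.sepDeg (pullback.snd f g) z' : ℤ) := by
    exact_mod_cast h2
  have h4 := hpos (pullback.fst f g z')
  nlinarith

end Groth.Agent.S1425
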