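import Groth.Statements.S14253
-- import your own Groth.Agent.* helpers here
import Groth.Agent.Lib.UHPerfectH52

set_option autoImplicit false
universe u
open CategoryTheory AlgebraicGeometry
open PerfSch

namespace Groth.Agent.S14253

/-- A universal homeomorphism f : X ⟶ Y between perfect schemes of prime characteristic p (on every open
of X and of Y, p = 0 in the ring of sections and the p-th power map is bijective) is an isomorphism. -/
theorem result (p : ℕ) [Fact p.Prime] {X Y : Scheme.{u}} (f : X ⟶ Y)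
    (hX : PerfSch.IsPerfect p X) (hY : PerfSch.IsPerfect p Y) (hf : FlatMor.IsUnivHomeo f) : IsIso f := by
  have haff : IsAffineHom f := Groth.Agent.Lib.UnivHomeo.isAffineHom hf
  have key : targetAffineLocally (fun X _ f _ => IsAffine X ∧ IsIso f.appTop) f := by
    intro U
    have hg : FlatMor.IsUnivHomeo (f ∣_ U.1) :=
      MorphismProperty.of_isPullback (isPullback_morphismRestrict f U.1).flip hf
    have hUaff : IsAffine (U.1 : Scheme) := U.2
    have hVaff : IsAffine ((f ⁻¹ᵁ U.1 : X.Opens) : Scheme) := U.2.preimage f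
    refine ⟨hVaff, ?_⟩
    have hSpec : FlatMor.IsUnivHomeo (Spec.map (f ∣_ U.1).appTop) :=
      ((FlatMor.IsUnivHomeo : MorphismProperty Scheme).arrow_mk_iso_iff
        (arrowIsoSpecΓOfIsAffine (f ∣_ U.1))).mp hg
    have hUH : Groth.Agent.Lib.UHRingH52.IsUH (f ∣_ U.1).appTop.hom :=
      (Groth.Agent.Lib.UHRingH52.isUnivHomeo_iff _).mp hSpec
    have h1 := hY (U.1.ι ''ᵁ ⊤)
    have h2 := hX ((f ⁻¹ᵁ U.1).ι ''ᵁ ⊤)
    have hbij : Function.Bijective (f ∣_ U.1).appTop.hom :=
      Groth.Agent.Lib.UHPerfectH52.bijective_of_isUH_of_perfect p _ h1.1 h1.2 h2.1 h2.2 hUH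
    exact (ConcreteCategory.isIso_iff_bijective _).mpr hbij
  rw [← HasAffineProperty.eq_targetAffineLocally (MorphismProperty.isomorphisms Scheme)] at key
  exact key

end Groth.Agent.S14253
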