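import Groth.Statements.S14254
-- import your own Groth.Agent.* helpers here
import Groth.Agent.Lib.UHCharPH52

set_option autoImplicit false
universe u
open CategoryTheory AlgebraicGeometry
open FrobAlg

namespace Groth.Agent.S14254

/-- Let p be a prime, φ : A → B a map of commutative rings of characteristic p, i : A → A' and j : B →
B' perfect closures (A' and B' are perfect rings of characteristic p, every element of A' resp. B'
has a p^n-th power in the image of i resp. j, and the kernels of i and j consist of nilpotent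
elements), and φ' : A' → B' the induced map, φ' ∘ i = j ∘ φ. Then Spec φ : Spec B ⟶ Spec A is a
universal homeomorphism if and only if φ' is bijective. (The published statement is for an arbitrary
morphism of schemes over the prime field and its perfection; this row is the case of affine schemes,
the perfection of Spec A being Spec of the perfect closure of A.) -/
theorem result (p : ℕ) [Fact p.Prime]
    {A B A' B' : Type u} [CommRing A] [CommRing B] [CommRing A'] [CommRing B']
    [CharP A p] [CharP B p] [CharP A' p] [CharP B' p] [PerfectRing A' p] [PerfectRing B' p]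
    (φ : A →+* B) (i : A →+* A') (j : B →+* B') [IsPerfectClosure i p] [IsPerfectClosure j p]
    (φ' : A' →+* B') (hφ : φ'.comp i = j.comp φ) :
    FlatMor.IsUnivHomeo (Spec.map (CommRingCat.ofHom φ)) ↔ Function.Bijective φ' := by
  rw [Groth.Agent.Lib.UHRingH52.isUnivHomeo_iff, Groth.Agent.Lib.UHCharPH52.isUH_iff_isPRadical p φ]
  have hi : IsPRadical i p := inferInstance
  have hj : IsPRadical j p := inferInstance
  have hinjA : ∀ n : ℕ, ∀ x y : A', x ^ p ^ n = y ^ p ^ n → x = y := fun n x y h =>
    (bijective_iterateFrobenius A' p n).1 h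
  have hinjB : ∀ n : ℕ, ∀ x y : B', x ^ p ^ n = y ^ p ^ n → x = y := fun n x y h =>
    (bijective_iterateFrobenius B' p n).1 h
  have hφ' : ∀ a : A, φ' (i a) = j (φ a) := fun a => congrArg (fun f : A →+* B' => f a) hφ
  constructor
  · intro hrad
    constructor
    · rw [injective_iff_map_eq_zero]
      intro x hx
      obtain ⟨n, a, ha⟩ := hi.pow_mem' x
      have h1 : j (φ a) = 0 := by rw [← hφ', ha, map_pow, hx, zero_pow (pow_ne_zero _ (Fact.out : p.Prime).ne_zero)]
      obtain ⟨m, hm⟩ := mem_pNilradical.mp (hj.ker_le' (RingHom.mem_ker.mpr h1))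
      have h2 : φ (a ^ p ^ m) = 0 := by rw [map_pow, hm]
      obtain ⟨k, hk⟩ := mem_pNilradical.mp (hrad.ker_le' (RingHom.mem_ker.mpr h2))
      apply hinjA (n + m + k) x 0
      rw [zero_pow (pow_ne_zero _ (Fact.out : p.Prime).ne_zero), pow_add, pow_add, pow_mul, pow_mul, ← ha,
        ← map_pow, ← map_pow, hk, map_zero]
    · intro y
      obtain ⟨n, b, hb⟩ := hj.pow_mem' y
      obtain ⟨m, a, ha⟩ := hrad.pow_mem' b
      obtain ⟨x, hx⟩ := (bijective_iterateFrobenius A' p (n + m)).2 (i a)
      rw [iterateFrobenius_def] at hx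
      refine ⟨x, hinjB (n + m) _ _ ?_⟩
      rw [← map_pow, hx, hφ', ha, map_pow, hb, ← pow_mul, ← pow_add]
  · intro hbij
    refine ⟨?_, ?_⟩
    · intro b
      obtain ⟨x, hx⟩ := hbij.2 (j b)
      obtain ⟨n, a, ha⟩ := hi.pow_mem' x
      have h1 : j (b ^ p ^ n - φ a) = 0 := by
        rw [map_sub, map_pow, ← hx, ← map_pow, ← ha, hφ', sub_self]
      obtain ⟨m, hm⟩ := mem_pNilradical.mp (hj.ker_le' (RingHom.mem_ker.mpr h1))
      rw [sub_pow_char_pow, sub_eq_zero] at hm
      exact ⟨n + m, a ^ p ^ m, by rw [map_pow, ← hm, ← pow_mul, ← pow_add]⟩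
    · intro a ha
      have h1 : φ' (i a) = 0 := by rw [hφ', RingHom.mem_ker.mp ha, map_zero]
      have h2 : i a = 0 := hbij.1 (by rw [h1, map_zero])
      exact hi.ker_le' (RingHom.mem_ker.mpr h2)

end Groth.Agent.S14254
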