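import Groth.Statements.S14255
import Mathlib.RingTheory.Flat.EquationalCriterion
import Mathlib.RingTheory.RingHom.Flat
import Mathlib.FieldTheory.IsPerfectClosure

set_option autoImplicit false
universe u
open FrobAlg

namespace Groth.Agent.S14255

/-- Common exponent for finitely many elements in a `p`-radical extension. -/
lemma exists_common_pow {K L : Type*} [CommRing K] [CommRing L] (i : K →+* L) (p : ℕ)
    [IsPRadical i p] {l : ℕ} (f : Fin l → L) :
    ∃ N : ℕ, ∀ M : ℕ, N ≤ M → ∀ idx : Fin l, ∃ a : K, i a = f idx ^ p ^ M := by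
  choose n a ha using fun idx => IsPRadical.pow_mem i p (f idx)
  refine ⟨Finset.univ.sup n, fun M hM idx => ⟨a idx ^ p ^ (M - n idx), ?_⟩⟩
  have hn : n idx ≤ M := le_trans (Finset.le_sup (Finset.mem_univ idx)) hM
  rw [map_pow, ha, ← pow_mul, ← pow_add, Nat.add_sub_cancel' hn]

/-- Let p be a prime, φ : A → B a flat map of commutative rings of characteristic p, i : A → A' and j :
B → B' perfect closures (A', B' perfect rings of characteristic p, every element of A' resp. B' has
a p^n-th power in the image of i resp. j, the kernels of i and j consist of nilpotent elements), and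
φ' : A' → B' the induced map, φ' ∘ i = j ∘ φ. Then φ' is flat. (The published statement is that the
perfection of a flat morphism of schemes over the prime field is flat; this row is its affine case,
to which the published proof reduces.) -/
theorem result (p : ℕ) [Fact p.Prime]
    {A B A' B' : Type u} [CommRing A] [CommRing B] [CommRing A'] [CommRing B']
    [CharP A p] [CharP B p] [CharP A' p] [CharP B' p] [PerfectRing A' p] [PerfectRing B' p]
    (φ : A →+* B) (hflat : φ.Flat) (i : A →+* A') (j : B →+* B') [IsPerfectClosure i p] [IsPerfectClosure j p]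
    (φ' : A' →+* B') (hφ : φ'.comp i = j.comp φ) : φ'.Flat := by
  letI algA : Algebra A B := φ.toAlgebra
  letI algA' : Algebra A' B' := φ'.toAlgebra
  have hflat' : Module.Flat A B := hflat
  change Module.Flat A' B'
  have hφ' : ∀ a : A, φ' (i a) = j (φ a) := fun a => RingHom.congr_fun hφ a
  have smulB : ∀ (a : A) (b : B), a • b = φ a * b := fun a b => rfl
  have smulB' : ∀ (a : A') (b : B'), a • b = φ' a * b := fun a b => rfl
  apply Module.Flat.of_forall_isTrivialRelation
  intro l f x hrel
  -- common exponent
  obtain ⟨N₁, hN₁⟩ := exists_common_pow i p f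
  obtain ⟨N₂, hN₂⟩ := exists_common_pow j p x
  choose a₀ ha₀ using hN₁ (max N₁ N₂) (le_max_left _ _)
  choose b₀ hb₀ using hN₂ (max N₁ N₂) (le_max_right _ _)
  -- the relation holds in `B` up to a nilpotent
  have hc : j (∑ idx, φ (a₀ idx) * b₀ idx) = 0 := by
    rw [map_sum]
    have : ∀ idx, j (φ (a₀ idx) * b₀ idx) = (f idx • x idx) ^ p ^ (max N₁ N₂) := by
      intro idx
      rw [map_mul, ← hφ', ha₀, hb₀, smulB', mul_pow, map_pow]
    simp_rw [this]
    rw [← sum_pow_char_pow, hrel, zero_pow (pow_pos (Fact.out : p.Prime).pos _).ne']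
  have hc' : (∑ idx, φ (a₀ idx) * b₀ idx) ∈ pNilradical B p :=
    IsPRadical.ker_le j p ((RingHom.mem_ker).mpr hc)
  obtain ⟨m, hm⟩ := mem_pNilradical.mp hc'
  -- adjust
  have hrelB : ∑ idx, (a₀ idx ^ p ^ m) • (b₀ idx ^ p ^ m) = 0 := by
    simp_rw [smulB, map_pow, ← mul_pow]
    rw [← sum_pow_char_pow, hm]
  obtain ⟨k, α, y, hy, hα⟩ := Module.Flat.isTrivialRelation_of_sum_smul_eq_zero hrelB
  simp only at hy hα
  set N := max N₁ N₂ + m with hN
  have ha : ∀ idx, i (a₀ idx ^ p ^ m) = f idx ^ p ^ N := by
    intro idx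
    rw [map_pow, ha₀, ← pow_mul, ← pow_add]
  have hb : ∀ idx, j (b₀ idx ^ p ^ m) = x idx ^ p ^ N := by
    intro idx
    rw [map_pow, hb₀, ← pow_mul, ← pow_add]
  -- roots
  have hsurjA : Function.Surjective (iterateFrobenius A' p N) :=
    (bijective_iterateFrobenius A' p N).2
  have hsurjB : Function.Surjective (iterateFrobenius B' p N) :=
    (bijective_iterateFrobenius B' p N).2
  have hinjA : Function.Injective (iterateFrobenius A' p N) :=
    (bijective_iterateFrobenius A' p N).1
  have hinjB : Function.Injective (iterateFrobenius B' p N) :=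
    (bijective_iterateFrobenius B' p N).1
  choose α' hα' using fun idx κ => hsurjA (i (α idx κ))
  choose y' hy' using fun κ => hsurjB (j (y κ))
  simp only [iterateFrobenius_def] at hα' hy'
  refine ⟨k, α', y', ?_, ?_⟩
  · intro idx
    apply hinjB
    simp only [iterateFrobenius_def]
    rw [← hb, hy idx, map_sum, sum_pow_char_pow]
    apply Finset.sum_congr rfl
    intro κ _
    rw [smulB, smulB', map_mul, ← hφ', ← hα', ← hy', mul_pow, map_pow]
  · intro κ
    apply hinjA
    simp only [iterateFrobenius_def]
    rw [sum_pow_char_pow, zero_pow (pow_pos (Fact.out : p.Prime).pos _).ne']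
    have : ∀ idx, (f idx * α' idx κ) ^ p ^ N = i (a₀ idx ^ p ^ m * α idx κ) := by
      intro idx
      rw [mul_pow, hα', map_mul, ha]
    simp_rw [this]
    rw [← map_sum, hα κ, map_zero]

end Groth.Agent.S14255
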