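import Groth.Statements.S14257
import Groth.Agent.S3176

set_option autoImplicit false
universe u
open TensorProduct
open FrobAlg

namespace Groth.Agent.S14257

section helpers

open Groth.Agent.S3176

/-- An étale algebra over a perfect ring of characteristic `p` is perfect. -/
theorem perfectRing_of_etale (p : ℕ) [Fact p.Prime] (A T : Type u) [CommRing A] [CommRing T]
    [CharP A p] [CharP T p] [PerfectRing A p] [Algebra A T] [Algebra.Etale A T] :
    PerfectRing T p := by
  have hW := bijective_of_etale p A T
  have h0 : Function.Bijective (algebraMap A (Twist p A)) := by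
    have : (algebraMap A (Twist p A) : A → Twist p A) = toTwist p A ∘ (fun a : A => a ^ p) := by
      ext a; rfl
    rw [this]
    exact (toTwist p A).bijective.comp PerfectRing.bijective_frobenius
  let e₀ : A ≃ₐ[A] Twist p A := AlgEquiv.ofBijective (Algebra.ofId A (Twist p A)) h0
  let E : T ≃ₐ[A] T ⊗[A] Twist p A :=
    (Algebra.TensorProduct.rid A A T).symm.trans (Algebra.TensorProduct.congr AlgEquiv.refl e₀)
  have hE : ∀ t : T, E t = t ⊗ₜ 1 := by
    intro t
    simp [E, e₀]
  refine ⟨?_⟩
  have : (fun t : T => t ^ p) = relFrob p A T ∘ E := by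
    ext t
    rw [Function.comp_apply, hE, relFrob_includeLeft]
  rw [this]
  exact hW.comp E.bijective

theorem main (p : ℕ) [Fact p.Prime]
    (A B A' B' : Type u) [CommRing A] [CommRing B] [CommRing A'] [CommRing B']
    [CharP A p] [CharP B p] [CharP A' p] [CharP B' p] [PerfectRing A' p] [PerfectRing B' p]
    [Algebra A B] [Algebra.Etale A B] [Algebra A A'] [Algebra B B'] [Algebra A B'] [IsScalarTower A B B']
    [IsPerfectClosure (algebraMap A A') p] [IsPerfectClosure (algebraMap B B') p]
    (φ' : A' →ₐ[A] B') :
    Function.Bijective (Algebra.TensorProduct.lift φ' (IsScalarTower.toAlgHom A B B')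
      (fun a b => Commute.all (φ' a) (IsScalarTower.toAlgHom A B B' b))) := by
  set Φ : A' ⊗[A] B →ₐ[A] B' := Algebra.TensorProduct.lift φ' (IsScalarTower.toAlgHom A B B')
      (fun a b => Commute.all (φ' a) (IsScalarTower.toAlgHom A B B' b)) with hΦ
  have hB'nt : Nontrivial B' :=
    CharP.nontrivial_of_char_ne_one (R := B') (Fact.out : p.Prime).ne_one
  have hTnt : Nontrivial (A' ⊗[A] B) := Φ.toRingHom.domain_nontrivial
  have hTchar : CharP (A' ⊗[A] B) p := charP_of_algebra p A _
  have hTperf : PerfectRing (A' ⊗[A] B) p := perfectRing_of_etale p A' (A' ⊗[A] B)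
  let i : B →+* A' ⊗[A] B := (Algebra.TensorProduct.includeRight : B →ₐ[A] A' ⊗[A] B).toRingHom
  have hi_apply : ∀ b, i b = 1 ⊗ₜ b := fun b => rfl
  have hΦi : (Φ : A' ⊗[A] B →+* B').comp i = algebraMap B B' := by
    ext b
    show Φ (1 ⊗ₜ b) = _
    simp [hΦ]
  have hi : IsPRadical i p := by
    constructor
    · intro x
      induction x using TensorProduct.induction_on with
      | zero => exact ⟨0, 0, by simp⟩
      | tmul a' b =>
        obtain ⟨n, a, ha⟩ := IsPRadical.pow_mem (algebraMap A A') p a'
        refine ⟨n, a • b ^ p ^ n, ?_⟩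
        rw [hi_apply, Algebra.TensorProduct.tmul_pow, ← ha, ← TensorProduct.smul_tmul,
          Algebra.algebraMap_eq_smul_one]
      | add x y hx hy =>
        obtain ⟨n, b₁, h₁⟩ := hx
        obtain ⟨m, b₂, h₂⟩ := hy
        refine ⟨n + m, b₁ ^ p ^ m + b₂ ^ p ^ n, ?_⟩
        rw [add_pow_char_pow, map_add, map_pow, map_pow, h₁, h₂, ← pow_mul, ← pow_mul,
          ← pow_add, ← pow_add, add_comm m n]
    · intro b hb
      have h1 : algebraMap B B' b = 0 := by
        rw [← hΦi, RingHom.comp_apply, (RingHom.mem_ker).mp hb, map_zero]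
      exact IsPRadical.ker_le (algebraMap B B') p ((RingHom.mem_ker).mpr h1)
  have key : (Φ : A' ⊗[A] B →+* B') =
      ((IsPerfectClosure.equiv i (algebraMap B B') p : A' ⊗[A] B ≃+* B') : A' ⊗[A] B →+* B') := by
    apply IsPRadical.injective_comp_of_perfect i p (M := B')
    show (Φ : A' ⊗[A] B →+* B').comp i = _
    rw [hΦi]
    exact (IsPerfectClosure.equiv_comp i _ p).symm
  have : (Φ : A' ⊗[A] B → B') = (IsPerfectClosure.equiv i (algebraMap B B') p) := by
    ext x
    exact congr($key x)
  rw [this]
  exact (IsPerfectClosure.equiv i (algebraMap B B') p).bijective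

end helpers

/-- Let p be a prime, A a commutative ring of characteristic p, B an etale A-algebra of characteristic
p, A → A' and B → B' perfect closures (A', B' perfect rings of characteristic p, every element of A'
resp. B' has a p^n-th power in the image of A resp. B, and the structure maps have kernels
consisting of nilpotent elements), B' viewed as an A-algebra through B, and φ' : A' → B' a map of
A-algebras. Then the natural map A' ⊗_A B → B', a ⊗ b ↦ φ'(a) b, is bijective. (The published
statement is for an etale morphism X → Y of schemes over the prime field, where X_perf → X ×_Y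
Y_perf is an isomorphism; this row is the affine case.) -/
theorem result (p : ℕ) [Fact p.Prime]
    (A B A' B' : Type u) [CommRing A] [CommRing B] [CommRing A'] [CommRing B']
    [CharP A p] [CharP B p] [CharP A' p] [CharP B' p] [PerfectRing A' p] [PerfectRing B' p]
    [Algebra A B] [Algebra.Etale A B] [Algebra A A'] [Algebra B B'] [Algebra A B'] [IsScalarTower A B B']
    [IsPerfectClosure (algebraMap A A') p] [IsPerfectClosure (algebraMap B B') p]
    (φ' : A' →ₐ[A] B') :
    Function.Bijective (Algebra.TensorProduct.lift φ' (IsScalarTower.toAlgHom A B B')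
      (fun a b => Commute.all (φ' a) (IsScalarTower.toAlgHom A B B' b))) :=
  main p A B A' B' φ'

end Groth.Agent.S14257
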