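import Groth.Statements.S14258
-- import your own Groth.Agent.* helpers here
import Groth.Agent.Lib.HSheafH52
import Groth.Agent.S4599

set_option autoImplicit false
universe u
open HTop

namespace Groth.Agent.S14258


open CategoryTheory CategoryTheory.Limits AlgebraicGeometry Opposite in
/-- over the locus where `f` is an isomorphism, every point of `X ×_Y X` lies on the diagonal -/
theorem mem_range_diagonal {X Y : Scheme.{u}} (f : X ⟶ Y) (U : Y.Opens) [IsIso (f ∣_ U)]
    (ξ : ↥(pullback f f)) (hξ : f (pullback.fst f f ξ) ∈ U) :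
    ξ ∈ Set.range (pullback.diagonal f) := by
  let σ := (pullback f f).fromSpecResidueField ξ
  have hξ2 : f (pullback.snd f f ξ) ∈ U := by
    have := congrArg (fun g : pullback f f ⟶ Y => g ξ) (pullback.condition (f := f) (g := f))
    simp only [Scheme.Hom.comp_apply] at this
    rw [← this]; exact hξ
  have hr1 : Set.range (σ ≫ pullback.fst f f) ⊆ Set.range (f ⁻¹ᵁ U).ι := by
    rw [Scheme.Opens.range_ι]
    rintro _ ⟨x, rfl⟩
    rw [Scheme.Hom.comp_apply, Scheme.fromSpecResidueField_apply]
    exact hξ
  have hr2 : Set.range (σ ≫ pullback.snd f f) ⊆ Set.range (f ⁻¹ᵁ U).ι := by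
    rw [Scheme.Opens.range_ι]
    rintro _ ⟨x, rfl⟩
    rw [Scheme.Hom.comp_apply, Scheme.fromSpecResidueField_apply]
    exact hξ2
  let σ₁ := IsOpenImmersion.lift (f ⁻¹ᵁ U).ι (σ ≫ pullback.fst f f) hr1
  let σ₂ := IsOpenImmersion.lift (f ⁻¹ᵁ U).ι (σ ≫ pullback.snd f f) hr2
  have h1 : σ₁ ≫ (f ⁻¹ᵁ U).ι = σ ≫ pullback.fst f f := IsOpenImmersion.lift_fac _ _ _
  have h2 : σ₂ ≫ (f ⁻¹ᵁ U).ι = σ ≫ pullback.snd f f := IsOpenImmersion.lift_fac _ _ _
  have h12 : σ₁ = σ₂ := by
    rw [← cancel_mono (f ∣_ U), ← cancel_mono U.ι, Category.assoc, Category.assoc,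
      morphismRestrict_ι, ← Category.assoc, ← Category.assoc, h1, h2, Category.assoc,
      Category.assoc, pullback.condition]
  have h3 : σ ≫ pullback.fst f f = σ ≫ pullback.snd f f := by rw [← h1, ← h2, h12]
  have h4 : σ = (σ ≫ pullback.fst f f) ≫ pullback.diagonal f := by
    apply pullback.hom_ext
    · rw [Category.assoc, pullback.diagonal_fst, Category.comp_id]
    · rw [Category.assoc, pullback.diagonal_snd, Category.comp_id, h3]
  let pt : ↥(Spec ((pullback f f).residueField ξ)) :=
    IsLocalRing.closedPoint ((pullback f f).residueField ξ)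
  refine ⟨(σ ≫ pullback.fst f f) pt, ?_⟩
  rw [← Scheme.Hom.comp_apply, ← h4]
  exact Scheme.fromSpecResidueField_apply _ _

open CategoryTheory CategoryTheory.Limits AlgebraicGeometry Opposite in
/-- Let S be a scheme and F a sheaf of sets on the big h site of S. Let Y be an affine scheme over S, f
: X ⟶ Y a proper surjective morphism of finite presentation over S which is an isomorphism over the
open complement U of a closed subscheme i : Z ⟶ Y of finite presentation, and E = X ×_Y Z with its
projections e : E ⟶ X and π : E ⟶ Z. Then the square of sets of sections F(Y) → F(X), F(Z) → F(E) is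
cartesian: a section over Z and a section over X with the same restriction to E come from exactly
one section over Y. (The published statement is for quasi-compact quasi-separated schemes of finite
presentation over a quasi-compact quasi-separated S and sheaves on those; this row works on all
S-schemes; with Y affine and f proper the four schemes are quasi-compact and quasi-separated.) -/
theorem result (S : Scheme.{u}) (F : HTop.ShH S)
    {E Z X Y : Over S} (e : E ⟶ X) (π : E ⟶ Z) (f : X ⟶ Y) (i : Z ⟶ Y) [IsAffine Y.left]
    [IsProper f.left] [Surjective f.left] [LocallyOfFinitePresentation f.left]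
    [IsClosedImmersion i.left] [LocallyOfFinitePresentation i.left]
    (hsq : IsPullback e.left π.left f.left i.left)
    (U : Y.left.Opens) (hU : (U : Set Y.left) = (Set.range i.left.base)ᶜ) (hiso : IsIso (f.left ∣_ U))
    (t : F.obj.obj (op Z)) (s' : F.obj.obj (op X)) (hts : F.obj.map π.op t = F.obj.map e.op s') :
    ∃! s : F.obj.obj (op Y), F.obj.map i.op s = t ∧ F.obj.map f.op s = s' := by
  classical
  have hcomm : e ≫ f = π ≫ i := Over.OverMorphism.ext hsq.w
  haveI hπp : IsProper π.left := MorphismProperty.of_isPullback (P := @IsProper) hsq inferInstance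
  haveI hπs : Surjective π.left :=
    MorphismProperty.of_isPullback (P := @Surjective) hsq inferInstance
  haveI hπf : LocallyOfFinitePresentation π.left :=
    MorphismProperty.of_isPullback (P := @LocallyOfFinitePresentation) hsq inferInstance
  have hcov_f : Sieve.generate (Presieve.singleton f.left) ∈ hTopology Y.left :=
    Groth.Agent.Lib.HSheafH52.generate_singleton_mem_hTopology f.left
  have hcov_π : Sieve.generate (Presieve.singleton π.left) ∈ hTopology Z.left :=
    Groth.Agent.Lib.HSheafH52.generate_singleton_mem_hTopology π.left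
  -- the key compatibility
  have key : ∀ (T : Over S) (p₁ p₂ : T ⟶ X), p₁ ≫ f = p₂ ≫ f →
      F.obj.map p₁.op s' = F.obj.map p₂.op s' := by
    intro T p₁ p₂ hp
    have hpl : p₁.left ≫ f.left = p₂.left ≫ f.left := congrArg CommaMorphism.left hp
    let d : T.left ⟶ pullback f.left f.left := pullback.lift p₁.left p₂.left hpl
    let a₁ : pullback d (pullback.diagonal f.left) ⟶ T.left := pullback.fst _ _
    let a₂ : pullback (p₁.left ≫ f.left) i.left ⟶ T.left := pullback.fst _ _
    haveI : LocallyOfFinitePresentation (pullback.diagonal f.left) :=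
      Groth.Agent.S4599.result f.left
    haveI : IsClosedImmersion a₁ := inferInstanceAs (IsClosedImmersion (pullback.fst _ _))
    haveI : LocallyOfFinitePresentation a₁ :=
      inferInstanceAs (LocallyOfFinitePresentation (pullback.fst _ _))
    haveI : IsClosedImmersion a₂ := inferInstanceAs (IsClosedImmersion (pullback.fst _ _))
    haveI : LocallyOfFinitePresentation a₂ :=
      inferInstanceAs (LocallyOfFinitePresentation (pullback.fst _ _))
    have hs : ∀ τ : T.left, τ ∈ Set.range a₁ ∨ τ ∈ Set.range a₂ := by
      intro τ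
      by_cases hτ : (p₁.left ≫ f.left) τ ∈ Set.range i.left
      · right
        show τ ∈ Set.range (pullback.fst (p₁.left ≫ f.left) i.left)
        rw [Scheme.Pullback.range_fst]
        exact hτ
      · left
        show τ ∈ Set.range (pullback.fst d (pullback.diagonal f.left))
        rw [Scheme.Pullback.range_fst]
        show d τ ∈ Set.range (pullback.diagonal f.left)
        apply mem_range_diagonal f.left U (d τ)
        have h1 : pullback.fst f.left f.left (d τ) = p₁.left τ := by
          rw [← Scheme.Hom.comp_apply, pullback.lift_fst]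
        rw [h1]
        have : (p₁.left ≫ f.left) τ ∈ (U : Set Y.left) := by
          rw [hU]; exact hτ
        rw [Scheme.Hom.comp_apply] at this
        exact this
    refine Groth.Agent.Lib.HSheafH52.ext_of_pair F a₁ a₂ hs _ _ ?_ ?_
    · -- on the equalizer
      have h1 : (Over.homMk a₁ : Over.mk (a₁ ≫ T.hom) ⟶ T) ≫ p₁ =
          (Over.homMk a₁ : Over.mk (a₁ ≫ T.hom) ⟶ T) ≫ p₂ := by
        apply Over.OverMorphism.ext
        show a₁ ≫ p₁.left = a₁ ≫ p₂.left
        have hc : a₁ ≫ d = pullback.snd d (pullback.diagonal f.left) ≫ pullback.diagonal f.left :=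
          pullback.condition
        have e1 : a₁ ≫ p₁.left = pullback.snd d (pullback.diagonal f.left) := by
          have : d ≫ pullback.fst f.left f.left = p₁.left := pullback.lift_fst _ _ _
          rw [← this, ← Category.assoc, hc, Category.assoc, pullback.diagonal_fst,
            Category.comp_id]
        have e2 : a₁ ≫ p₂.left = pullback.snd d (pullback.diagonal f.left) := by
          have : d ≫ pullback.snd f.left f.left = p₂.left := pullback.lift_snd _ _ _
          rw [← this, ← Category.assoc, hc, Category.assoc, pullback.diagonal_snd,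
            Category.comp_id]
        rw [e1, e2]
      rw [← Functor.map_comp_apply, ← op_comp, h1, op_comp,
        Functor.map_comp_apply]
    · -- over Z
      let T₂ : Over S := Over.mk (a₂ ≫ T.hom)
      let α₂ : T₂ ⟶ T := Over.homMk a₂
      have hc : a₂ ≫ p₁.left ≫ f.left =
          pullback.snd (p₁.left ≫ f.left) i.left ≫ i.left := pullback.condition
      let z : T₂ ⟶ Z := Over.homMk (pullback.snd (p₁.left ≫ f.left) i.left) (by
        show pullback.snd (p₁.left ≫ f.left) i.left ≫ Z.hom = a₂ ≫ T.hom
        rw [← Over.w i, ← Category.assoc, ← hc, Category.assoc, Category.assoc, Over.w f,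
          Over.w p₁])
      have hE : E.hom = e.left ≫ X.hom := (Over.w e).symm
      let q₁ : T₂ ⟶ E := Over.homMk (hsq.lift (a₂ ≫ p₁.left)
        (pullback.snd (p₁.left ≫ f.left) i.left) (by rw [Category.assoc, hc])) (by
        show hsq.lift _ _ _ ≫ E.hom = a₂ ≫ T.hom
        rw [hE, ← Category.assoc, hsq.lift_fst, Category.assoc, Over.w p₁])
      let q₂ : T₂ ⟶ E := Over.homMk (hsq.lift (a₂ ≫ p₂.left)
        (pullback.snd (p₁.left ≫ f.left) i.left) (by rw [Category.assoc, ← hpl, hc])) (by
        show hsq.lift _ _ _ ≫ E.hom = a₂ ≫ T.hom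
        rw [hE, ← Category.assoc, hsq.lift_fst, Category.assoc, Over.w p₂])
      have hq₁e : q₁ ≫ e = α₂ ≫ p₁ := Over.OverMorphism.ext (hsq.lift_fst _ _ _)
      have hq₁π : q₁ ≫ π = z := Over.OverMorphism.ext (hsq.lift_snd _ _ _)
      have hq₂e : q₂ ≫ e = α₂ ≫ p₂ := Over.OverMorphism.ext (hsq.lift_fst _ _ _)
      have hq₂π : q₂ ≫ π = z := Over.OverMorphism.ext (hsq.lift_snd _ _ _)
      have r₁ : F.obj.map α₂.op (F.obj.map p₁.op s') = F.obj.map z.op t := by
        rw [← Functor.map_comp_apply, ← op_comp, ← hq₁e, op_comp,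
          Functor.map_comp_apply, ← hts, ← Functor.map_comp_apply, ← op_comp, hq₁π]
      have r₂ : F.obj.map α₂.op (F.obj.map p₂.op s') = F.obj.map z.op t := by
        rw [← Functor.map_comp_apply, ← op_comp, ← hq₂e, op_comp,
          Functor.map_comp_apply, ← hts, ← Functor.map_comp_apply, ← op_comp, hq₂π]
      exact r₁.trans r₂.symm
  obtain ⟨s, hs, hsu⟩ :=
    Groth.Agent.Lib.HSheafH52.existsUnique_of_singleton hTopology F f hcov_f s' key
  refine ⟨s, ⟨?_, hs⟩, fun s₂ hs₂ => hsu s₂ hs₂.2⟩
  have hinj := Groth.Agent.Lib.HSheafH52.existsUnique_of_singleton hTopology F π hcov_π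
    (F.obj.map π.op t) (fun T p₁ p₂ hp => by
      rw [← Functor.map_comp_apply, ← op_comp, hp, op_comp, Functor.map_comp_apply])
  refine hinj.unique ?_ rfl
  show F.obj.map π.op (F.obj.map i.op s) = F.obj.map π.op t
  rw [← Functor.map_comp_apply, ← op_comp, ← hcomm, op_comp,
    Functor.map_comp_apply, hs, hts]

end Groth.Agent.S14258
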