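import Groth.Statements.S14260
import Mathlib.RingTheory.Flat.EquationalCriterion
import Mathlib.Algebra.CharP.Lemmas

set_option autoImplicit false
universe u
open FrobAlg

namespace Groth.Agent.S14260


section roots
variable (p : ℕ) (L : Type*) [CommRing L] [PerfectRing L p]

lemma pow_pow_surjective (N : ℕ) : Function.Surjective fun x : L => x ^ p ^ N := by
  induction N with
  | zero => intro x; exact ⟨x, by simp⟩
  | succ N ih =>
    intro x
    obtain ⟨y, hy⟩ := (PerfectRing.bijective_frobenius (R := L) (p := p)).2 x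
    obtain ⟨z, hz⟩ := ih y
    refine ⟨z, ?_⟩
    simp only at hz hy ⊢
    rw [pow_succ, pow_mul, hz, hy]

lemma pow_pow_injective (N : ℕ) : Function.Injective fun x : L => x ^ p ^ N := by
  induction N with
  | zero => intro x y h; simpa using h
  | succ N ih =>
    intro x y h
    simp only [pow_succ, pow_mul] at h
    exact ih ((PerfectRing.bijective_frobenius (R := L) (p := p)).1 h)

end roots

section pradical
variable (p : ℕ) [hp : Fact p.Prime] {K L : Type*} [CommRing K] [CommRing L] [CharP K p] [CharP L p]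
  (i : K →+* L) [IsPRadical i p]

/-- common exponents for finite families -/
lemma exists_common_pow {l : ℕ} (x : Fin l → L) :
    ∃ N₀ : ℕ, ∀ N, N₀ ≤ N → ∀ k, ∃ y : K, i y = x k ^ p ^ N := by
  have h := fun k => IsPRadical.pow_mem i p (x k)
  choose n y hy using h
  refine ⟨Finset.univ.sup n, fun N hN k => ?_⟩
  have hle : n k ≤ N := (Finset.le_sup (Finset.mem_univ k)).trans hN
  obtain ⟨m, rfl⟩ := Nat.exists_eq_add_of_le hle
  exact ⟨y k ^ p ^ m, by rw [map_pow, hy k, ← pow_mul, ← pow_add]⟩

lemma exists_pow_eq_zero_of_map_eq_zero (y : K) (hy : i y = 0) : ∃ M : ℕ, y ^ p ^ M = 0 :=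
  mem_pNilradical.mp (IsPRadical.ker_le i p ((RingHom.mem_ker).mpr hy))

end pradical

section core

lemma flat_core (p : ℕ) [hp : Fact p.Prime] {A B A' B' : Type u} [CommRing A] [CommRing B]
    [CommRing A'] [CommRing B'] [CharP A p] [CharP B p] [CharP A' p] [CharP B' p]
    [PerfectRing A' p] [PerfectRing B' p] [Algebra A B] [Algebra A' B'] (i : A →+* A')
    (j : B →+* B') [IsPRadical i p] [IsPRadical j p]
    (hcomp : ∀ a, j (algebraMap A B a) = algebraMap A' B' (i a))
    [Module.Flat A B] : Module.Flat A' B' := by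
  rw [Module.Flat.iff_forall_isTrivialRelation]
  intro l a' x' hrel
  obtain ⟨N₁, h₁⟩ := exists_common_pow p i a'
  obtain ⟨N₂, h₂⟩ := exists_common_pow p j x'
  set N := max N₁ N₂ with hN
  choose a ha using h₁ N (le_max_left _ _)
  choose x hx using h₂ N (le_max_right _ _)
  have hj0 : j (∑ k, algebraMap A B (a k) * x k) = 0 := by
    rw [map_sum]
    have : ∀ k, j (algebraMap A B (a k) * x k) = (a' k • x' k) ^ p ^ N := by
      intro k
      rw [map_mul, hcomp, ha, hx, map_pow, Algebra.smul_def, mul_pow]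
    simp only [this]
    rw [← sum_pow_char_pow, hrel, zero_pow (pow_ne_zero _ hp.out.ne_zero)]
  obtain ⟨M, hM⟩ := exists_pow_eq_zero_of_map_eq_zero p j _ hj0
  rw [sum_pow_char_pow] at hM
  have hrelB : ∑ k, (a k ^ p ^ M) • (x k ^ p ^ M) = 0 := by
    rw [← hM]
    refine Finset.sum_congr rfl fun k _ => ?_
    rw [Algebra.smul_def, map_pow, mul_pow]
  obtain ⟨κ, b, y, hxy, hab⟩ := Module.Flat.isTrivialRelation_of_sum_smul_eq_zero hrelB
  replace hxy : ∀ k, x k ^ p ^ M = ∑ t, b k t • y t := hxy
  replace hab : ∀ t, ∑ k, a k ^ p ^ M * b k t = 0 := hab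
  have hb' : ∀ k t, ∃ b' : A', b' ^ p ^ (N + M) = i (b k t) :=
    fun k t => pow_pow_surjective p A' (N + M) _
  choose b' hb' using hb'
  have hy' : ∀ t, ∃ y' : B', y' ^ p ^ (N + M) = j (y t) :=
    fun t => pow_pow_surjective p B' (N + M) _
  choose y' hy' using hy'
  refine ⟨κ, b', y', ?_, ?_⟩
  · intro k
    apply pow_pow_injective p B' (N + M)
    simp only
    rw [sum_pow_char_pow]
    have hL : x' k ^ p ^ (N + M) = j (x k ^ p ^ M) := by
      rw [map_pow, hx, ← pow_mul, ← pow_add]
    rw [hL, hxy k, map_sum]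
    refine Finset.sum_congr rfl fun t _ => ?_
    rw [Algebra.smul_def, Algebra.smul_def, map_mul, hcomp, mul_pow, ← map_pow, hb', hy']
  · intro t
    apply pow_pow_injective p A' (N + M)
    simp only
    rw [sum_pow_char_pow, zero_pow (pow_ne_zero _ hp.out.ne_zero)]
    have : ∀ k, (a' k * b' k t) ^ p ^ (N + M) = i (a k ^ p ^ M * b k t) := by
      intro k
      rw [mul_pow, hb', map_mul, map_pow, ha, ← pow_mul, ← pow_add]
    simp only [this]
    rw [← map_sum, hab t, map_zero]

lemma faithfullyFlat_core (p : ℕ) [hp : Fact p.Prime] {A B A' B' : Type u} [CommRing A]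
    [CommRing B] [CommRing A'] [CommRing B'] [CharP A p] [CharP B p] [CharP A' p] [CharP B' p]
    [PerfectRing A' p] [PerfectRing B' p] [Algebra A B] [Algebra A' B'] (i : A →+* A')
    (j : B →+* B') [IsPRadical i p] [IsPRadical j p]
    (hcomp : ∀ a, j (algebraMap A B a) = algebraMap A' B' (i a))
    [Module.FaithfullyFlat A B] : Module.FaithfullyFlat A' B' := by
  have hflat : Module.Flat A' B' := flat_core p i j hcomp
  rw [Module.FaithfullyFlat.iff_flat_and_ideal_smul_eq_top]
  refine ⟨hflat, fun I' hI' => ?_⟩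
  have hAB := ((Module.FaithfullyFlat.iff_flat_and_ideal_smul_eq_top A B).mp inferInstance).2
  -- the ideal I = i⁻¹ I'
  set I : Ideal A := I'.comap i with hI
  -- every element of `I' B'` has a p-power in the image of `I B`
  have key : ∀ b' ∈ I'.map (algebraMap A' B'), ∃ (N : ℕ) (b : B),
      b ∈ I.map (algebraMap A B) ∧ j b = b' ^ p ^ N := by
    intro b' hb'
    rw [Ideal.map] at hb'
    induction hb' using Submodule.span_induction with
    | mem x hx =>
      obtain ⟨m, hm, rfl⟩ := hx
      obtain ⟨N₁, h₁⟩ := exists_common_pow p i (fun _ : Fin 1 => m)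
      obtain ⟨m₀, hm₀⟩ := h₁ N₁ le_rfl 0
      refine ⟨N₁, algebraMap A B m₀, Ideal.mem_map_of_mem _ ?_, ?_⟩
      · rw [hI, Ideal.mem_comap, hm₀]
        exact Ideal.pow_mem_of_mem _ hm _ (pow_pos hp.out.pos _)
      · rw [hcomp, hm₀, map_pow]
    | zero => exact ⟨0, 0, Ideal.zero_mem _, by simp⟩
    | add b₁ b₂ _ _ h₁ h₂ =>
      obtain ⟨N₁, c₁, hc₁, hj₁⟩ := h₁
      obtain ⟨N₂, c₂, hc₂, hj₂⟩ := h₂
      refine ⟨N₁ + N₂, c₁ ^ p ^ N₂ + c₂ ^ p ^ N₁, ?_, ?_⟩
      · exact Ideal.add_mem _ (Ideal.pow_mem_of_mem _ hc₁ _ (pow_pos hp.out.pos _))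
          (Ideal.pow_mem_of_mem _ hc₂ _ (pow_pos hp.out.pos _))
      · rw [map_add, map_pow, map_pow, hj₁, hj₂, add_pow_char_pow, ← pow_mul, ← pow_mul,
          ← pow_add, ← pow_add, add_comm N₂ N₁]
    | smul c x _ h₁ =>
      obtain ⟨N₁, c₁, hc₁, hj₁⟩ := h₁
      obtain ⟨N₂, h₂⟩ := exists_common_pow p j (fun _ : Fin 1 => c)
      obtain ⟨c₀, hc₀⟩ := h₂ N₂ le_rfl 0
      refine ⟨N₁ + N₂, c₀ ^ p ^ N₁ * c₁ ^ p ^ N₂, ?_, ?_⟩
      · exact Ideal.mul_mem_left _ _ (Ideal.pow_mem_of_mem _ hc₁ _ (pow_pos hp.out.pos _))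
      · rw [map_mul, map_pow, map_pow, hj₁, hc₀, smul_eq_mul, mul_pow, ← pow_mul, ← pow_mul,
          ← pow_add, ← pow_add, add_comm N₂ N₁]
  have h1' : (1 : B') ∈ I'.map (algebraMap A' B') := by
    have : (1 : B') ∈ (I' • ⊤ : Submodule A' B') := by rw [hI']; exact Submodule.mem_top
    rwa [Ideal.smul_top_eq_map] at this
  obtain ⟨N, b, hb, hjb⟩ := key 1 h1'
  rw [one_pow] at hjb
  have h0 : j (b - 1) = 0 := by rw [map_sub, hjb, map_one, sub_self]
  obtain ⟨M, hM⟩ := exists_pow_eq_zero_of_map_eq_zero p j _ h0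
  rw [sub_pow_char_pow, one_pow, sub_eq_zero] at hM
  have h1 : (1 : B) ∈ I.map (algebraMap A B) := by
    rw [← hM]
    exact Ideal.pow_mem_of_mem _ hb _ (pow_pos hp.out.pos _)
  have hItop : I = ⊤ := by
    apply hAB
    rw [Ideal.smul_top_eq_map, (Ideal.eq_top_iff_one _).mpr h1, Submodule.restrictScalars_top]
  have : (1 : A) ∈ I := hItop ▸ Submodule.mem_top
  rw [hI, Ideal.mem_comap, map_one] at this
  exact (Ideal.eq_top_iff_one _).mpr this

end core



/-- Let p be a prime, φ : A → B a faithfully flat map of commutative rings of characteristic p, i : A →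
A' and j : B → B' perfect closures (A', B' perfect rings of characteristic p, every element of A'
resp. B' has a p^n-th power in the image of i resp. j, the kernels of i and j consist of nilpotent
elements), and φ' : A' → B' the induced map, φ' ∘ i = j ∘ φ. Then φ' is faithfully flat. (The
published statement is that the perfection of a faithfully flat morphism of schemes over the prime
field is faithfully flat; this row is its affine case, to which the published proof reduces.) -/
theorem result (p : ℕ) [Fact p.Prime]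
    {A B A' B' : Type u} [CommRing A] [CommRing B] [CommRing A'] [CommRing B']
    [CharP A p] [CharP B p] [CharP A' p] [CharP B' p] [PerfectRing A' p] [PerfectRing B' p]
    (φ : A →+* B) (hflat : φ.FaithfullyFlat) (i : A →+* A') (j : B →+* B') [IsPerfectClosure i p]
    [IsPerfectClosure j p] (φ' : A' →+* B') (hφ : φ'.comp i = j.comp φ) : φ'.FaithfullyFlat := by
  letI : Algebra A B := φ.toAlgebra
  letI : Algebra A' B' := φ'.toAlgebra
  have hff : Module.FaithfullyFlat A B := hflat
  change Module.FaithfullyFlat A' B'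
  refine faithfullyFlat_core p i j ?_
  intro a
  have := congrArg (fun f => f a) hφ
  simp only [RingHom.comp_apply] at this
  exact this.symm

end Groth.Agent.S14260
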