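import Groth.Statements.S14262
import Mathlib.RingTheory.Flat.EquationalCriterion
import Mathlib.Algebra.CharP.Lemmas

set_option autoImplicit false
universe u
open FrobAlg

namespace Groth.Agent.S14262

section helpers
variable (p : ℕ) [Fact p.Prime] (A : Type u) [CommRing A] [CharP A p] [PerfectRing A p]

omit [Fact p.Prime] [CharP A p] in
lemma pow_pow_surjective (N : ℕ) : Function.Surjective fun x : A => x ^ p ^ N := by
  induction N with
  | zero => intro x; exact ⟨x, by simp⟩
  | succ N ih =>
    intro x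
    obtain ⟨y, hy⟩ := (PerfectRing.bijective_frobenius (R := A) (p := p)).2 x
    obtain ⟨z, hz⟩ := ih y
    refine ⟨z, ?_⟩
    simp only at hz hy ⊢
    rw [pow_succ, pow_mul, hz, hy]

omit [Fact p.Prime] [CharP A p] in
lemma pow_pow_injective (N : ℕ) : Function.Injective fun x : A => x ^ p ^ N := by
  induction N with
  | zero => intro x y h; simpa using h
  | succ N ih =>
    intro x y h
    simp only [pow_succ, pow_mul] at h
    exact ih ((PerfectRing.bijective_frobenius (R := A) (p := p)).1 h)

end helpers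

/-- Let p be a prime, A a perfect ring of characteristic p and f ∈ A. The radical of the principal ideal
(f) — equivalently the ideal generated by all p^n-th roots of f, n ≥ 0 — is a flat A-module. -/
theorem result (p : ℕ) [Fact p.Prime] (A : Type u) [CommRing A]
    [CharP A p] [PerfectRing A p] (f : A) :
    Module.Flat A ((Ideal.span {f}).radical) := by
  have hp : p.Prime := Fact.out
  rw [Module.Flat.iff_forall_isTrivialRelation]
  intro l a x hrel
  -- a common exponent
  have hex : ∀ i : Fin l, ∃ n : ℕ, (x i : A) ^ p ^ n ∈ Ideal.span {f} := by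
    intro i
    obtain ⟨n, hn⟩ := (x i).2
    refine ⟨n, ?_⟩
    have hle : n ≤ p ^ n := (Nat.lt_pow_self hp.one_lt).le
    obtain ⟨k, hk⟩ := Nat.exists_eq_add_of_le hle
    rw [hk, pow_add]
    exact Ideal.mul_mem_right _ _ hn
  choose n hn using hex
  set N := Finset.univ.sup n with hN
  have hN' : ∀ i, (x i : A) ^ p ^ N ∈ Ideal.span {f} := by
    intro i
    have hle : n i ≤ N := Finset.le_sup (Finset.mem_univ i)
    obtain ⟨k, hk⟩ := Nat.exists_eq_add_of_le hle
    rw [hk, pow_add, pow_mul]
    exact Ideal.pow_mem_of_mem _ (hn i) _ (pow_pos hp.pos _)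
  -- roots
  have hd : ∀ i, ∃ d : A, (x i : A) ^ p ^ N = d * f := fun i =>
    Ideal.mem_span_singleton'.mp (hN' i) |>.imp fun d hd => hd.symm
  choose d hd using hd
  obtain ⟨h, hh⟩ := pow_pow_surjective p A N f
  have hc : ∀ i, ∃ c : A, c ^ p ^ N = d i := fun i => pow_pow_surjective p A N (d i)
  choose c hc using hc
  obtain ⟨g, hg⟩ := pow_pow_surjective p A 1 h
  simp only [pow_one] at hg hh hc
  have hx : ∀ i, (x i : A) = c i * g ^ p := by
    intro i
    apply pow_pow_injective p A N
    simp only
    rw [hd i, mul_pow, hc i, hg, hh]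
  have hgmem : g ∈ (Ideal.span {f}).radical := by
    refine ⟨p ^ (N + 1), ?_⟩
    rw [pow_succ', pow_mul, hg, hh]
    exact Ideal.subset_span rfl
  -- the relation
  have hs : (∑ i, a i * c i) * g ^ p = 0 := by
    have h1 := congrArg (Subtype.val) hrel
    simp only [Submodule.coe_sum, Submodule.coe_smul, smul_eq_mul, ZeroMemClass.coe_zero] at h1
    rw [Finset.sum_mul]
    rw [← h1]
    refine Finset.sum_congr rfl fun i _ => ?_
    rw [hx i, mul_assoc]
  have hsg : (∑ i, a i * c i) * g = 0 := by
    apply (PerfectRing.bijective_frobenius (R := A) (p := p)).1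
    simp only
    obtain ⟨q, hq⟩ : ∃ q, p = q + 1 := ⟨p - 1, (Nat.succ_pred_eq_of_pos hp.pos).symm⟩
    rw [mul_pow, zero_pow hp.ne_zero]
    conv_lhs => rw [hq, pow_succ (∑ i, a i * c i), mul_assoc, ← hq, hs, mul_zero]
  obtain ⟨q, hq⟩ : ∃ q, p = q + 2 := ⟨p - 2, by have := hp.two_le; omega⟩
  have hsg' : (∑ i, a i * c i) * g ^ (p - 1) = 0 := by
    have : p - 1 = q + 1 := by omega
    rw [this, pow_succ', ← mul_assoc, hsg, zero_mul]
  refine ⟨1, fun i _ => c i * g ^ (p - 1), fun _ => ⟨g, hgmem⟩, ?_, ?_⟩
  · intro i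
    apply Subtype.ext
    simp only [Finset.univ_unique, Finset.sum_singleton, Submodule.coe_smul, smul_eq_mul]
    rw [hx i, mul_assoc, ← pow_succ]
    congr 2
    omega
  · intro j
    rw [← hsg', Finset.sum_mul]
    refine Finset.sum_congr rfl fun i _ => ?_
    rw [mul_assoc]

end Groth.Agent.S14262
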