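import Groth.Statements.S14271
import Mathlib.RingTheory.Ideal.MinimalPrime.Localization
import Mathlib.RingTheory.Localization.AtPrime.Basic
import Mathlib.RingTheory.Regular.RegularSequence
import Mathlib.AlgebraicGeometry.AffineScheme
import Mathlib.AlgebraicGeometry.Restrict
import Mathlib.AlgebraicGeometry.Morphisms.SchemeTheoreticallyDominant
import Mathlib.AlgebraicGeometry.Morphisms.Separated

set_option autoImplicit false
universe u
open FlatPur

namespace Groth.Agent.S14271


section ring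
variable {A : Type*} [CommRing A] (a : A) (p : Ideal A) [p.IsPrime]
  (S : Type*) [CommRing S] [Algebra A S] [IsLocalization.AtPrime S p]

lemma algebraMap_ne_zero_of_annihilator_le (hp : (Ideal.span {a}).annihilator ≤ p) :
    algebraMap A S a ≠ 0 := by
  intro h0
  obtain ⟨t, ht⟩ := (IsLocalization.map_eq_zero_iff p.primeCompl S a).mp h0
  have : (t : A) ∈ (Ideal.span {a}).annihilator := by
    rw [Submodule.mem_annihilator_span_singleton]
    exact ht
  exact t.2 (hp this)

lemma algebraMap_eq_zero_of_regular (hp : p ∈ ((Ideal.span {a}).annihilator).minimalPrimes)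
    [IsLocalRing S] (r : S) (hr : r ∈ IsLocalRing.maximalIdeal S) (hreg : IsSMulRegular S r) :
    algebraMap A S a = 0 := by
  have hrad := IsLocalization.AtPrime.radical_map_of_mem_minimalPrimes (A := S) p _ hp
  rw [IsLocalization.AtPrime.map_eq_maximalIdeal p S] at hrad
  have hr' : r ∈ (((Ideal.span {a}).annihilator).map (algebraMap A S)).radical := by
    rw [hrad]; exact hr
  obtain ⟨n, hn⟩ := hr'
  rw [IsLocalization.mem_map_algebraMap_iff p.primeCompl S] at hn
  obtain ⟨⟨x, t⟩, hxt⟩ := hn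
  have hxa : (x : A) * a = 0 := by
    have := x.2
    rw [Submodule.mem_annihilator_span_singleton] at this
    exact this
  -- r^n * t * a = x * a = 0
  have h1 : r ^ n * (algebraMap A S t * algebraMap A S a) = 0 := by
    rw [← mul_assoc, hxt, ← map_mul, hxa, map_zero]
  have hregn : IsSMulRegular S (r ^ n) := hreg.pow n
  have h2 : algebraMap A S t * algebraMap A S a = 0 := by
    apply hregn
    simp only [smul_eq_mul, mul_zero]
    exact h1
  have htu : IsUnit (algebraMap A S (t : A)) := IsLocalization.map_units S t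
  exact (htu.mul_right_eq_zero).mp h2

end ring

section helpers
open AlgebraicGeometry CategoryTheory CategoryTheory.Limits

lemma injective_app_ι (X : Scheme.{u}) (U : X.Opens)
    (hZ : ∀ z : X, z ∉ U → ∃ a ∈ IsLocalRing.maximalIdeal (X.presheaf.stalk z),
      IsSMulRegular (X.presheaf.stalk z) a)
    (V : X.Opens) (hV : IsAffineOpen V) : Function.Injective (U.ι.app V).hom := by
  rw [injective_iff_map_eq_zero]
  intro a ha
  by_contra hne
  have hI : (Ideal.span {a}).annihilator ≠ ⊤ := by
    intro h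
    have : (1 : Γ(X, V)) ∈ (Ideal.span {a}).annihilator := h ▸ Submodule.mem_top
    rw [Submodule.mem_annihilator_span_singleton, one_smul] at this
    exact hne this
  obtain ⟨p, hp⟩ := Ideal.nonempty_minimalPrimes hI
  have hpp : p.IsPrime := hp.1.1
  let y : PrimeSpectrum Γ(X, V) := ⟨p, hpp⟩
  have hmem : hV.fromSpec y ∈ V := (hV.isoSpec.inv y).2
  let _ : Algebra Γ(X, V) (X.presheaf.stalk (hV.fromSpec y)) :=
    TopCat.Presheaf.algebra_section_stalk X.presheaf ⟨hV.fromSpec y, hmem⟩
  have : IsLocalization.AtPrime (X.presheaf.stalk (hV.fromSpec y)) p :=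
    hV.isLocalization_stalk' y hmem
  have hne' : algebraMap Γ(X, V) (X.presheaf.stalk (hV.fromSpec y)) a ≠ 0 :=
    algebraMap_ne_zero_of_annihilator_le a p _ hp.1.2
  by_cases hzU : hV.fromSpec y ∈ U
  · apply hne'
    change X.presheaf.germ V (hV.fromSpec y) hmem a = 0
    have hz' : hV.fromSpec y ∈ U.ι ''ᵁ U.ι ⁻¹ᵁ V := by
      refine ⟨⟨hV.fromSpec y, hzU⟩, ?_, rfl⟩
      exact hmem
    have h1 := TopCat.Presheaf.germ_res_apply X.presheaf
      (homOfLE (x := U.ι ''ᵁ U.ι ⁻¹ᵁ V) (Set.image_preimage_subset _ _)) (hV.fromSpec y) hz' a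
    rw [← h1]
    have h2 : X.presheaf.map (homOfLE (x := U.ι ''ᵁ U.ι ⁻¹ᵁ V)
        (Set.image_preimage_subset _ _)).op a = 0 := ha
    rw [h2, map_zero]
  · obtain ⟨r, hr, hreg⟩ := hZ _ hzU
    exact hne' (algebraMap_eq_zero_of_regular a p _ hp r hr hreg)

lemma isSchemeTheoreticallyDominant_ι (X : Scheme.{u}) (U : X.Opens) [QuasiCompact U.ι]
    (hZ : ∀ z : X, z ∉ U → ∃ a ∈ IsLocalRing.maximalIdeal (X.presheaf.stalk z),
      IsSMulRegular (X.presheaf.stalk z) a) : IsSchemeTheoreticallyDominant U.ι := by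
  rw [isSchemeTheoreticallyDominant_iff]
  refine Scheme.IdealSheafData.ext ?_
  funext V
  rw [Scheme.Hom.ker_apply, Scheme.IdealSheafData.ideal_bot, Pi.bot_apply]
  exact (RingHom.injective_iff_ker_eq_bot _).mp (injective_app_ι X U hZ V.1 V.2)

/-- Two morphisms to a separated `X`-scheme which agree after precomposition with a
scheme-theoretically dominant morphism are equal. -/
lemma eq_of_comp_eq_of_isSchemeTheoreticallyDominant {A B Y P : Scheme.{u}} (b : B ⟶ Y)
    [IsSeparated b] (φ ψ : A ⟶ B) (hφψ : φ ≫ b = ψ ≫ b)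
    (p : P ⟶ A) [IsSchemeTheoreticallyDominant p]
    (h : p ≫ φ = p ≫ ψ) : φ = ψ := by
  let Δ := pullback.diagonal b
  let φψ : A ⟶ pullback b b := pullback.lift φ ψ hφψ
  let e : pullback Δ φψ ⟶ A := pullback.snd Δ φψ
  have he2 : IsClosedImmersion e := inferInstance
  let l : P ⟶ pullback Δ φψ := pullback.lift (p ≫ φ) p (by
    apply pullback.hom_ext
    · simp only [Category.assoc, Δ, φψ]
      erw [pullback.diagonal_fst, pullback.lift_fst]
      simp
    · simp only [Category.assoc, Δ, φψ]
      erw [pullback.diagonal_snd, pullback.lift_snd]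
      simp [h])
  have hl : l ≫ e = p := pullback.lift_snd _ _ _
  have hker : e.ker = ⊥ := by
    have h1 := Scheme.Hom.le_ker_comp l e
    rw [hl, IsSchemeTheoreticallyDominant.ker_eq_bot p] at h1
    exact le_bot_iff.mp h1
  have : IsIso e := IsClosedImmersion.isIso_iff_ker_eq_bot.mpr hker
  rw [← cancel_epi e]
  have hc := pullback.condition (f := Δ) (g := φψ)
  have h1 := congr($hc ≫ pullback.fst b b)
  have h2 := congr($hc ≫ pullback.snd b b)
  simp only [Category.assoc, Δ, φψ, pullback.diagonal_fst, pullback.diagonal_snd,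
    pullback.lift_fst, pullback.lift_snd, Category.comp_id] at h1 h2
  exact h1.symm.trans h2

theorem result' (X : Scheme.{u}) (U : X.Opens) [QuasiCompact U.ι]
    (hZ : ∀ z : X, z ∉ U → ∃ a ∈ IsLocalRing.maximalIdeal (X.presheaf.stalk z), IsSMulRegular (X.presheaf.stalk z) a)
    (Y : Scheme.{u}) (f : Y ⟶ X) [IsSeparated f] (s₁ s₂ : X ⟶ Y) (h₁ : s₁ ≫ f = 𝟙 X) (h₂ : s₂ ≫ f = 𝟙 X)
    (hU : U.ι ≫ s₁ = U.ι ≫ s₂) : s₁ = s₂ := by
  have := isSchemeTheoreticallyDominant_ι X U hZ
  exact eq_of_comp_eq_of_isSchemeTheoreticallyDominant f s₁ s₂ (h₁.trans h₂.symm) U.ι hU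

end helpers


open AlgebraicGeometry CategoryTheory CategoryTheory.Limits in
/-- Let X be a scheme and U an open subscheme whose inclusion is quasi-compact, such that for every
point z of X outside U the maximal ideal of O_{X,z} contains an element that is regular (a
nonzerodivisor) on that local ring. Then for every separated X-scheme Y the restriction map from
X-sections of Y to U-sections of Y is injective: two sections of Y -> X that agree on U are equal. -/
theorem result (X : Scheme.{u}) (U : X.Opens) [QuasiCompact U.ι]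
    (hZ : ∀ z : X, z ∉ U → ∃ a ∈ IsLocalRing.maximalIdeal (X.presheaf.stalk z), IsSMulRegular (X.presheaf.stalk z) a)
    (Y : Scheme.{u}) (f : Y ⟶ X) [IsSeparated f] (s₁ s₂ : X ⟶ Y) (h₁ : s₁ ≫ f = 𝟙 X) (h₂ : s₂ ≫ f = 𝟙 X)
    (hU : U.ι ≫ s₁ = U.ι ≫ s₂) : s₁ = s₂ :=
  result' X U hZ Y f s₁ s₂ h₁ h₂ hU

end Groth.Agent.S14271
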