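import Groth.Statements.S14275
import Mathlib

set_option autoImplicit false
universe u
open CAlg

namespace Groth.Agent.S14275


open RingTheory.Sequence

section Basic
variable {A : Type u} [CommRing A] (a : A) {M : Type*} [AddCommGroup M] [Module A M]

theorem mem_pow_smul_top (n : ℕ) (x : M) :
    x ∈ ((Ideal.span {a}) ^ n • ⊤ : Submodule A M) ↔ ∃ y : M, a ^ n • y = x := by
  rw [Ideal.span_singleton_pow, Submodule.ideal_span_singleton_smul,
    Submodule.mem_smul_pointwise_iff_exists]
  constructor
  · rintro ⟨y, -, h⟩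
    exact ⟨y, h⟩
  · rintro ⟨y, h⟩
    exact ⟨y, trivial, h⟩

/-- (L2) regularity passes to the completion under bounded torsion -/
theorem regular_completion (J : Ideal A) (r : A)
    (hreg : ∀ y : A, r * y ∈ J → y ∈ J)
    (hbd : ∃ N : ℕ, ∀ w : A, (∃ m : ℕ, a ^ m * w ∈ J ⊔ Ideal.span {r}) →
      a ^ N * w ∈ J ⊔ Ideal.span {r})
    (x : AdicCompletion (Ideal.span {a}) (A ⧸ J)) (hx : r • x = 0) : x = 0 := by
  obtain ⟨N, hN⟩ := hbd
  obtain ⟨f, rfl⟩ := AdicCompletion.mk_surjective _ _ x
  -- lifts
  choose g hg using fun m => Ideal.Quotient.mk_surjective (I := J) (f m)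
  have key : ∀ m, N ≤ m → ∃ v : A, f m = a ^ (m - N) • (Ideal.Quotient.mk J v) := by
    intro m hm
    have h1 : r • f m ∈ ((Ideal.span {a}) ^ m • ⊤ : Submodule A (A ⧸ J)) := by
      have := congrArg (fun y => y.val m) hx
      simp only [AdicCompletion.val_smul_apply, AdicCompletion.mk_apply_coe,
        AdicCompletion.val_zero_apply] at this
      rw [← map_smul, Submodule.mkQ_apply, Submodule.Quotient.mk_eq_zero] at this
      exact this
    rw [mem_pow_smul_top] at h1
    obtain ⟨u, hu⟩ := h1
    obtain ⟨u', rfl⟩ := Ideal.Quotient.mk_surjective u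
    rw [← hg m] at hu
    -- a^m u' - r g_m ∈ J
    have h2 : a ^ m * u' - r * g m ∈ J := by
      rw [← Ideal.Quotient.eq_zero_iff_mem, map_sub, map_mul, map_mul, sub_eq_zero]
      simpa [Algebra.smul_def] using hu
    have h3 : a ^ m * u' ∈ J ⊔ Ideal.span {r} := by
      have : a ^ m * u' = (a ^ m * u' - r * g m) + r * g m := by ring
      rw [this]
      exact add_mem (Ideal.mem_sup_left h2)
        (Ideal.mem_sup_right (Ideal.mul_mem_right _ _ (Ideal.mem_span_singleton_self r)))
    have h4 := hN u' ⟨m, h3⟩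
    rw [Submodule.mem_sup] at h4
    obtain ⟨j, hj, z, hz, hjz⟩ := h4
    obtain ⟨v, rfl⟩ := Ideal.mem_span_singleton'.1 hz
    refine ⟨v, ?_⟩
    have h5 : r * (g m - a ^ (m - N) * v) ∈ J := by
      have : r * (g m - a ^ (m - N) * v) =
          -(a ^ m * u' - r * g m) + a ^ (m - N) * j := by
        have hpow : a ^ m = a ^ (m - N) * a ^ N := by
          rw [← pow_add, Nat.sub_add_cancel hm]
        rw [hpow]
        have : a ^ N * u' = j + v * r := hjz.symm
        linear_combination (a ^ (m - N)) * this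
      rw [this]
      exact add_mem (neg_mem h2) (Ideal.mul_mem_left _ _ hj)
    have h6 := hreg _ h5
    rw [← hg m, Algebra.smul_def, Ideal.Quotient.algebraMap_eq, ← map_mul, ← sub_eq_zero,
      ← map_sub, Ideal.Quotient.eq_zero_iff_mem]
    exact h6
  ext n
  rw [AdicCompletion.mk_apply_coe, AdicCompletion.val_zero_apply, Submodule.mkQ_apply,
    ← AdicCompletion.AdicCauchySequence.mk_eq_mk (Nat.le_add_right n N),
    Submodule.Quotient.mk_eq_zero, mem_pow_smul_top]
  obtain ⟨v, hv⟩ := key (n + N) (Nat.le_add_left N n)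
  rw [Nat.add_sub_cancel] at hv
  exact ⟨_, hv.symm⟩

/-- (L1) kernel of completion of a quotient by a finitely generated ideal with bounded torsion -/
theorem ker_le {n : ℕ} (g : Fin n → A)
    (hbd : ∃ N : ℕ, ∀ w : A, (∃ m : ℕ, a ^ m * w ∈ Ideal.span (Set.range g)) →
      a ^ N * w ∈ Ideal.span (Set.range g))
    (x : AdicCompletion (Ideal.span {a}) A)
    (hx : AdicCompletion.map (Ideal.span {a}) (Ideal.span (Set.range g)).mkQ x = 0) :
    x ∈ (Ideal.span (Set.range g)).map (algebraMap A (AdicCompletion (Ideal.span {a}) A)) := by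
  obtain ⟨N, hN⟩ := hbd
  obtain ⟨f, rfl⟩ := AdicCompletion.mk_surjective _ _ x
  set J : Ideal A := Ideal.span (Set.range g) with hJ
  -- step 2
  have h2 : ∀ m, ∃ u : A, f m - a ^ m * u ∈ J := by
    intro m
    have := congrArg (fun y => y.val m) hx
    simp only [AdicCompletion.map_mk, AdicCompletion.mk_apply_coe,
      AdicCompletion.val_zero_apply] at this
    rw [Submodule.mkQ_apply, Submodule.Quotient.mk_eq_zero, mem_pow_smul_top] at this
    obtain ⟨u, hu⟩ := this
    obtain ⟨u', rfl⟩ := Ideal.Quotient.mk_surjective u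
    refine ⟨u', ?_⟩
    rw [← Ideal.Quotient.eq_zero_iff_mem, map_sub, map_mul, sub_eq_zero]
    have h3 : (AdicCompletion.AdicCauchySequence.map (Ideal.span {a}) J.mkQ f) m =
        Ideal.Quotient.mk J (f m) := rfl
    rw [h3] at hu
    rw [← hu, Algebra.smul_def]
    rfl
  choose u hu using h2
  -- Cauchy
  have h4 : ∀ m, ∃ e : A, a ^ m * e = f (m + 1) - f m := by
    intro m
    have := (f.2 (Nat.le_succ m)).symm
    rw [SModEq.sub_mem, mem_pow_smul_top] at this
    obtain ⟨e, he⟩ := this
    exact ⟨e, he⟩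
  choose e he using h4
  set y : ℕ → A := fun m => f m - a ^ m * u m with hy
  set d : ℕ → A := fun m => e m - a * u (m + 1) + u m with hd
  have hyd : ∀ m, y (m + 1) = y m + a ^ m * d m := by
    intro m
    simp only [hy, hd]
    have := he m
    rw [pow_succ]
    linear_combination -this
  have h6 : ∀ m, a ^ N * d m ∈ J := by
    intro m
    refine hN (d m) ⟨m, ?_⟩
    have : a ^ m * d m = y (m + 1) - y m := by rw [hyd m]; ring
    rw [this]
    exact sub_mem (hu (m + 1)) (hu m)
  have h7 : ∀ m, ∃ c : Fin n → A, ∑ i, c i * g i = a ^ N * d m := fun m =>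
    (Ideal.mem_span_range_iff_exists_fun).1 (h6 m)
  choose c hc using h7
  -- the Cauchy sequences
  let s : Fin n → AdicCompletion.AdicCauchySequence (Ideal.span {a}) A := fun i =>
    AdicCompletion.AdicCauchySequence.mk _ _
      (fun k => ∑ l ∈ Finset.range k, a ^ l * c (N + l) i) (by
        intro k
        refine SModEq.symm ?_
        rw [SModEq.sub_mem, Finset.sum_range_succ, add_sub_cancel_left,
          mem_pow_smul_top]
        exact ⟨_, rfl⟩)
  have hs : ∀ i k, s i k = ∑ l ∈ Finset.range k, a ^ l * c (N + l) i := fun i k => rfl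
  have h9 : ∀ k, y (N + k) = y N + ∑ i, g i * s i k := by
    intro k
    induction k with
    | zero => simp [hs]
    | succ k ih =>
      rw [← add_assoc, hyd, ih, add_assoc]
      congr 1
      simp only [hs, Finset.sum_range_succ, mul_add, Finset.sum_add_distrib]
      congr 1
      calc a ^ (N + k) * d (N + k) = a ^ k * (a ^ N * d (N + k)) := by ring
        _ = a ^ k * ∑ i, c (N + k) i * g i := by rw [hc]
        _ = _ := by
          rw [Finset.mul_sum]
          refine Finset.sum_congr rfl fun i _ => ?_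
          ring
  have h10 : AdicCompletion.mk (Ideal.span {a}) A f =
      algebraMap A _ (y N) + ∑ i, algebraMap A _ (g i) * AdicCompletion.mk _ _ (s i) := by
    refine AdicCompletion.ext fun k => ?_
    rw [AdicCompletion.val_add_apply, AdicCompletion.val_sum_apply]
    simp only [AdicCompletion.val_mul, AdicCompletion.algebraMap_apply,
      AdicCompletion.of_apply, AdicCompletion.mk_apply_coe, Algebra.algebraMap_self,
      RingHom.id_apply]
    simp only [Submodule.mkQ_apply]
    change Ideal.Quotient.mk _ (f k) = Ideal.Quotient.mk _ (y N) +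
      ∑ x, Ideal.Quotient.mk _ (g x) * Ideal.Quotient.mk _ (s x k)
    simp only [← map_mul, ← map_sum, ← map_add]
    rw [← h9 k, Ideal.Quotient.eq]
    have h11 : f k - y (N + k) = (f k - f (N + k)) + a ^ k * (a ^ N * u (N + k)) := by
      simp only [hy]
      ring
    rw [h11]
    refine add_mem ?_ ?_
    · have := f.2 (Nat.le_add_left k N)
      rw [SModEq.sub_mem] at this
      exact this
    · have := (mem_pow_smul_top (M := A) a k (a ^ k * (a ^ N * u (N + k)))).2 ⟨_, rfl⟩
      exact this
  rw [h10]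
  refine add_mem (Ideal.mem_map_of_mem _ (hu N)) (sum_mem fun i _ => ?_)
  exact Ideal.mul_mem_right _ _ (Ideal.mem_map_of_mem _ (Ideal.subset_span ⟨i, rfl⟩))

end Basic

section Main
variable {A : Type u} [CommRing A] (a : A)

theorem ker_le' {n : ℕ} (g : Fin n → A) (J : Ideal A) (hJ : J = Ideal.span (Set.range g))
    (hbd : ∃ N : ℕ, ∀ w : A, (∃ m : ℕ, a ^ m * w ∈ J) → a ^ N * w ∈ J)
    (x : AdicCompletion (Ideal.span {a}) A)
    (hx : AdicCompletion.map (Ideal.span {a}) J.mkQ x = 0) :
    x ∈ J.map (algebraMap A (AdicCompletion (Ideal.span {a}) A)) := by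
  subst hJ
  exact ker_le a g hbd x hx

/-- elementwise form of bounded torsion -/
theorem bdd_elem (J : Ideal A)
    (h : ∃ N : ℕ, ∀ x : A ⧸ J, (∃ m : ℕ, a ^ m • x = 0) → a ^ N • x = 0) :
    ∃ N : ℕ, ∀ w : A, (∃ m : ℕ, a ^ m * w ∈ J) → a ^ N * w ∈ J := by
  obtain ⟨N, hN⟩ := h
  refine ⟨N, fun w ⟨m, hm⟩ => ?_⟩
  have h1 : ∀ k : ℕ, a ^ k • (Ideal.Quotient.mk J w) = Ideal.Quotient.mk J (a ^ k * w) :=
    fun k => rfl
  have := hN (Ideal.Quotient.mk J w) ⟨m, by rw [h1, Ideal.Quotient.eq_zero_iff_mem]; exact hm⟩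
  rw [h1, Ideal.Quotient.eq_zero_iff_mem] at this
  exact this

theorem ker_iff (l : List A)
    (hbd : ∃ N : ℕ, ∀ x : A ⧸ Ideal.ofList l, (∃ m : ℕ, a ^ m • x = 0) → a ^ N • x = 0)
    (x : AdicCompletion (Ideal.span {a}) A) :
    AdicCompletion.map (Ideal.span {a}) (Ideal.ofList l).mkQ x = 0 ↔
      x ∈ (Ideal.ofList l).map (algebraMap A (AdicCompletion (Ideal.span {a}) A)) := by
  have hl : Ideal.ofList l = Ideal.span (Set.range l.get) := by
    rw [Set.range_list_get]
  constructor
  · intro hx
    exact ker_le' a l.get _ hl (bdd_elem a _ hbd) x hx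
  · intro hx
    refine Submodule.span_induction ?_ ?_ ?_ ?_ hx
    · rintro _ ⟨y, hy, rfl⟩
      rw [AdicCompletion.algebraMap_apply, AdicCompletion.map_of]
      have : (Ideal.ofList l).mkQ ((algebraMap A A) y) = 0 := by
        rw [Submodule.mkQ_apply, Submodule.Quotient.mk_eq_zero]
        exact hy
      rw [this, map_zero]
    · exact map_zero _
    · intro x y _ _ hx hy
      rw [map_add, hx, hy, add_zero]
    · intro c x _ hx
      rw [map_smul, hx, smul_zero]

theorem regular_step (J : Ideal A) (r : A)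
    (hker : ∀ x : AdicCompletion (Ideal.span {a}) A,
      AdicCompletion.map (Ideal.span {a}) J.mkQ x = 0 ↔
      x ∈ J.map (algebraMap A (AdicCompletion (Ideal.span {a}) A)))
    (hreg : ∀ y : A, r * y ∈ J → y ∈ J)
    (hbd : ∃ N : ℕ, ∀ w : A, (∃ m : ℕ, a ^ m * w ∈ J ⊔ Ideal.span {r}) →
      a ^ N * w ∈ J ⊔ Ideal.span {r})
    (x : AdicCompletion (Ideal.span {a}) A)
    (hx : algebraMap A (AdicCompletion (Ideal.span {a}) A) r * x ∈
      J.map (algebraMap A (AdicCompletion (Ideal.span {a}) A))) :
    x ∈ J.map (algebraMap A (AdicCompletion (Ideal.span {a}) A)) := by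
  rw [← hker] at hx ⊢
  apply regular_completion a J r hreg hbd
  rw [← smul_eq_mul, map_smul, algebraMap_smul] at hx
  exact hx

open RingTheory.Sequence in
theorem result' (A : Type u) [CommRing A] (a : A) (rs : List A)
    (hreg : IsWeaklyRegular A rs)
    (hbd : ∀ i ≤ rs.length, ∃ N : ℕ, ∀ x : A ⧸ Ideal.ofList (rs.take i), (∃ m : ℕ, a ^ m • x = 0) → a ^ N • x = 0) :
    IsWeaklyRegular (AdicCompletion (Ideal.span {a}) A)
        (rs.map (algebraMap A (AdicCompletion (Ideal.span {a}) A))) ∧
      Function.Surjective (AdicCompletion.map (Ideal.span {a}) (Ideal.ofList rs).mkQ) ∧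
      LinearMap.ker (AdicCompletion.map (Ideal.span {a}) (Ideal.ofList rs).mkQ) =
        (Ideal.ofList rs).map (algebraMap A (AdicCompletion (Ideal.span {a}) A)) := by
  refine ⟨?_, AdicCompletion.map_surjective _ (Submodule.mkQ_surjective _), ?_⟩
  · rw [isWeaklyRegular_iff]
    intro i hi
    have hi' : i < rs.length := by simpa using hi
    rw [isSMulRegular_quotient_iff_mem_of_smul_mem]
    intro x hx
    have hreg' := (isWeaklyRegular_iff A rs).1 hreg i hi'
    rw [isSMulRegular_quotient_iff_mem_of_smul_mem] at hreg'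
    rw [← List.map_take, ← Ideal.map_ofList, smul_eq_mul, Ideal.mul_top] at hx ⊢
    rw [List.getElem_map, smul_eq_mul] at hx
    rw [smul_eq_mul, Ideal.mul_top] at hreg'
    have hk := ker_iff a (rs.take i) (hbd i hi'.le)
    have hb := bdd_elem a _ (hbd (i + 1) hi')
    have htake : Ideal.ofList (rs.take (i + 1)) =
        Ideal.ofList (rs.take i) ⊔ Ideal.span {rs[i]} := by
      rw [List.take_succ_eq_append_getElem hi', Ideal.ofList_append, Ideal.ofList_singleton]
    rw [htake] at hb
    exact regular_step a _ rs[i] hk (fun y hy => hreg' y (by simpa using hy)) hb x hx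
  · have h := hbd rs.length le_rfl
    rw [List.take_length] at h
    ext x
    exact Iff.trans LinearMap.mem_ker (ker_iff a rs h x)

end Main


open RingTheory.Sequence in
/-- Let A be a commutative ring, a an element of A with a-adic completion A^, and a_1, ..., a_n a weakly
regular sequence on A such that for each i = 0, ..., n the quotient A/(a_1, ..., a_i) has bounded
a-power torsion (some fixed power of a kills every element killed by a power of a). Then the images
of a_1, ..., a_n form a weakly regular sequence on A^, and the canonical map from A^ to the a-adic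
completion of A/(a_1, ..., a_n) is surjective with kernel the ideal generated by the images of a_1,
..., a_n. -/
theorem result (A : Type u) [CommRing A] (a : A) (rs : List A)
    (hreg : IsWeaklyRegular A rs)
    (hbd : ∀ i ≤ rs.length, ∃ N : ℕ, ∀ x : A ⧸ Ideal.ofList (rs.take i), (∃ m : ℕ, a ^ m • x = 0) → a ^ N • x = 0) :
    IsWeaklyRegular (AdicCompletion (Ideal.span {a}) A)
        (rs.map (algebraMap A (AdicCompletion (Ideal.span {a}) A))) ∧
      Function.Surjective (AdicCompletion.map (Ideal.span {a}) (Ideal.ofList rs).mkQ) ∧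
      LinearMap.ker (AdicCompletion.map (Ideal.span {a}) (Ideal.ofList rs).mkQ) =
        (Ideal.ofList rs).map (algebraMap A (AdicCompletion (Ideal.span {a}) A)) := by
  exact result' A a rs hreg hbd

end Groth.Agent.S14275
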