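import Groth.Statements.S14284
import Mathlib
import Groth.Agent.S11703
import Groth.Agent.S14280

set_option autoImplicit false
universe u
open CategoryTheory CategoryTheory.Limits
open SpSeq

namespace Groth.Agent.S14284
set_option linter.style.haveILetI false
set_option linter.unusedSectionVars false
open Polynomial Module
namespace H47Eig
variable {V W : Type*} [AddCommGroup V] [Module ℂ V] [AddCommGroup W] [Module ℂ W]
/-- eigenvalues pass to a bigger space along an injective equivariant map -/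
theorem hasEigenvalue_of_injective (i : V →ₗ[ℂ] W) (hi : Function.Injective i)
    (f : V →ₗ[ℂ] V) (g : W →ₗ[ℂ] W) (h : i ∘ₗ f = g ∘ₗ i) (μ : ℂ)
    (hμ : Module.End.HasEigenvalue f μ) : Module.End.HasEigenvalue g μ := by
  obtain ⟨v, hv⟩ := hμ.exists_hasEigenvector
  refine Module.End.hasEigenvalue_of_hasEigenvector (x := i v) ⟨?_, ?_⟩
  · rw [Module.End.mem_eigenspace_iff]
    have := LinearMap.congr_fun h v
    simp only [LinearMap.comp_apply] at this
    rw [← this, hv.apply_eq_smul, map_smul]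
  · intro h0
    exact hv.2 (hi (by rw [h0, map_zero]))
/-- eigenvalues on a quotient come from eigenvalues upstairs (finite dimension) -/
theorem hasEigenvalue_of_surjective [FiniteDimensional ℂ V] (p : V →ₗ[ℂ] W)
    (hp : Function.Surjective p)
    (f : V →ₗ[ℂ] V) (g : W →ₗ[ℂ] W) (h : p ∘ₗ f = g ∘ₗ p) (μ : ℂ)
    (hμ : Module.End.HasEigenvalue g μ) : Module.End.HasEigenvalue f μ := by
  haveI : FiniteDimensional ℂ W := Module.Finite.of_surjective p hp
  by_contra hne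
  -- f - μ is injective hence surjective
  have hinj : Function.Injective (f - μ • (1 : Module.End ℂ V)) := by
    rw [← LinearMap.ker_eq_bot]
    by_contra hk
    exact hne (by rw [Module.End.hasEigenvalue_iff, Module.End.eigenspace_def]; exact hk)
  have hsurj : Function.Surjective (f - μ • (1 : Module.End ℂ V)) :=
    LinearMap.injective_iff_surjective.mp hinj
  have hcomm : p ∘ₗ (f - μ • (1 : Module.End ℂ V)) =
      (g - μ • (1 : Module.End ℂ W)) ∘ₗ p := by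
    ext v
    have := LinearMap.congr_fun h v
    simp only [LinearMap.comp_apply] at this
    simp [this]
  have hsurj' : Function.Surjective (g - μ • (1 : Module.End ℂ W)) := by
    intro w
    obtain ⟨v, rfl⟩ := hp w
    obtain ⟨v', rfl⟩ := hsurj v
    exact ⟨p v', (LinearMap.congr_fun hcomm v').symm⟩
  have hinj' : Function.Injective (g - μ • (1 : Module.End ℂ W)) :=
    LinearMap.injective_iff_surjective.mpr hsurj'
  rw [Module.End.hasEigenvalue_iff, Module.End.eigenspace_def] at hμ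
  exact hμ (LinearMap.ker_eq_bot.mpr hinj')
end H47Eig
namespace H47SS
open H47Eig Groth.Agent.S11703.H47Trace
/-- the sign `(-1)^(p+q)` for integer bidegrees -/
noncomputable def sgn (n : ℤ × ℤ) : ℂ := (((n.1 + n.2).negOnePow : ℤˣ) : ℤ)
theorem sgn_natCast (p q : ℕ) : sgn ((p : ℤ), (q : ℤ)) = (-1 : ℂ) ^ (p + q) := by
  unfold sgn
  show (((((p : ℤ) + (q : ℤ)).negOnePow : ℤˣ) : ℤ) : ℂ) = _
  rw [← Nat.cast_add]
  exact Int.cast_negOnePow_natCast ℂ (p + q)
theorem norm_sgn (n : ℤ × ℤ) : ‖sgn n‖ = 1 := by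
  unfold sgn
  rw [Int.coe_negOnePow ℂ, norm_pow, norm_neg, norm_one, one_pow]
/-- the embedding of the first quadrant -/
def ι₀ (pq : ℕ × ℕ) : ℤ × ℤ := ((pq.1 : ℤ), (pq.2 : ℤ))
theorem ι₀_injective : Function.Injective ι₀ := by
  rintro ⟨a, b⟩ ⟨c, d⟩ h
  simp only [ι₀, Prod.mk.injEq, Nat.cast_inj] at h
  exact Prod.ext h.1 h.2
theorem mem_range_ι₀ {n : ℤ × ℤ} (h1 : 0 ≤ n.1) (h2 : 0 ≤ n.2) : n ∈ Set.range ι₀ :=
  ⟨(n.1.toNat, n.2.toNat), by simp [ι₀, Int.toNat_of_nonneg h1, Int.toNat_of_nonneg h2]⟩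
section AL
variable (σ : ℤ × ℤ ≃ ℤ × ℤ) (hσ : ∀ n, (σ n).1 + (σ n).2 = n.1 + n.2 + 1)
  (X Z B H : ℤ × ℤ → Type u)
  [∀ n, AddCommGroup (X n)] [∀ n, Module ℂ (X n)]
  [∀ n, AddCommGroup (Z n)] [∀ n, Module ℂ (Z n)]
  [∀ n, AddCommGroup (B n)] [∀ n, Module ℂ (B n)]
  [∀ n, AddCommGroup (H n)] [∀ n, Module ℂ (H n)]
  (ΦX : ∀ n, X n →ₗ[ℂ] X n) (ΦZ : ∀ n, Z n →ₗ[ℂ] Z n) (ΦB : ∀ n, B n →ₗ[ℂ] B n)
  (ΦH : ∀ n, H n →ₗ[ℂ] H n)
  (i : ∀ n, Z n →ₗ[ℂ] X n) (p : ∀ n, X n →ₗ[ℂ] B (σ n)) (j : ∀ n, B n →ₗ[ℂ] Z n)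
  (q : ∀ n, Z n →ₗ[ℂ] H n)
  (hi : ∀ n, Function.Injective (i n)) (hp : ∀ n, Function.Surjective (p n))
  (hip : ∀ n, Function.Exact (i n) (p n))
  (hj : ∀ n, Function.Injective (j n)) (hq : ∀ n, Function.Surjective (q n))
  (hjq : ∀ n, Function.Exact (j n) (q n))
  (ci : ∀ n, i n ∘ₗ ΦZ n = ΦX n ∘ₗ i n) (cp : ∀ n, p n ∘ₗ ΦX n = ΦB (σ n) ∘ₗ p n)
  (cj : ∀ n, j n ∘ₗ ΦB n = ΦZ n ∘ₗ j n) (cq : ∀ n, q n ∘ₗ ΦZ n = ΦH n ∘ₗ q n)
include hi in
theorem subsingleton_Z (n : ℤ × ℤ) [Subsingleton (X n)] : Subsingleton (Z n) :=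
  (hi n).subsingleton
include hi hj in
theorem subsingleton_B (n : ℤ × ℤ) [Subsingleton (X n)] : Subsingleton (B n) :=
  haveI := subsingleton_Z X Z i hi n
  (hj n).subsingleton
include hi hq in
theorem subsingleton_H (n : ℤ × ℤ) [Subsingleton (X n)] : Subsingleton (H n) :=
  haveI := subsingleton_Z X Z i hi n
  (hq n).subsingleton
include hp in
theorem subsingleton_Bσ (n : ℤ × ℤ) [Subsingleton (X n)] : Subsingleton (B (σ n)) :=
  (hp n).subsingleton
include hi in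
theorem finite_Z (n : ℤ × ℤ) [Module.Finite ℂ (X n)] : Module.Finite ℂ (Z n) :=
  Module.Finite.of_injective (i n) (hi n)
include hi hj in
theorem finite_B (n : ℤ × ℤ) [Module.Finite ℂ (X n)] : Module.Finite ℂ (B n) :=
  haveI := finite_Z X Z i hi n
  Module.Finite.of_injective (j n) (hj n)
include hi hq in
theorem finite_H (n : ℤ × ℤ) [Module.Finite ℂ (X n)] : Module.Finite ℂ (H n) :=
  haveI := finite_Z X Z i hi n
  Module.Finite.of_surjective (q n) (hq n)
include hi in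
theorem finrank_Z_le (n : ℤ × ℤ) [Module.Finite ℂ (X n)] :
    Module.finrank ℂ (Z n) ≤ Module.finrank ℂ (X n) :=
  LinearMap.finrank_le_finrank_of_injective (hi n)
include hi hj in
theorem finrank_B_le (n : ℤ × ℤ) [Module.Finite ℂ (X n)] :
    Module.finrank ℂ (B n) ≤ Module.finrank ℂ (X n) :=
  haveI := finite_Z X Z i hi n
  (LinearMap.finrank_le_finrank_of_injective (hj n)).trans (finrank_Z_le X Z i hi n)
include hi hq in
theorem finrank_H_le (n : ℤ × ℤ) [Module.Finite ℂ (X n)] :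
    Module.finrank ℂ (H n) ≤ Module.finrank ℂ (X n) :=
  haveI := finite_Z X Z i hi n
  (LinearMap.finrank_le_finrank_of_surjective (hq n)).trans (finrank_Z_le X Z i hi n)
include hi ci in
theorem eig_Z (n : ℤ × ℤ) (μ : ℂ) (h : Module.End.HasEigenvalue (ΦZ n) μ) :
    Module.End.HasEigenvalue (ΦX n) μ :=
  hasEigenvalue_of_injective (i n) (hi n) _ _ (ci n) μ h
include hi ci hj cj in
theorem eig_B (n : ℤ × ℤ) (μ : ℂ) (h : Module.End.HasEigenvalue (ΦB n) μ) :
    Module.End.HasEigenvalue (ΦX n) μ :=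
  eig_Z X Z ΦX ΦZ i hi ci n μ (hasEigenvalue_of_injective (j n) (hj n) _ _ (cj n) μ h)
include hi ci hq cq in
theorem eig_H (n : ℤ × ℤ) [Module.Finite ℂ (X n)] (μ : ℂ)
    (h : Module.End.HasEigenvalue (ΦH n) μ) : Module.End.HasEigenvalue (ΦX n) μ :=
  haveI := finite_Z X Z i hi n
  eig_Z X Z ΦX ΦZ i hi ci n μ (hasEigenvalue_of_surjective (q n) (hq n) _ _ (cq n) μ h)
include hi hp hip hj hq hjq ci cp cj cq in
theorem trace_X (n : ℤ × ℤ) [Module.Finite ℂ (X n)] :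
    LinearMap.trace ℂ (X n) (ΦX n) =
      LinearMap.trace ℂ (B n) (ΦB n) + LinearMap.trace ℂ (H n) (ΦH n) +
        LinearMap.trace ℂ (B (σ n)) (ΦB (σ n)) := by
  haveI := finite_Z X Z i hi n
  haveI := finite_B X Z B i j hi hj n
  haveI := finite_H X Z H i q hi hq n
  haveI : Module.Finite ℂ (B (σ n)) := Module.Finite.of_surjective (p n) (hp n)
  rw [trace_eq_add_of_exact (i n) (p n) (hi n) (hp n) (hip n) (ΦZ n) (ΦX n) (ΦB (σ n))
      (ci n).symm (cp n),
    trace_eq_add_of_exact (j n) (q n) (hj n) (hq n) (hjq n) (ΦB n) (ΦZ n) (ΦH n)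
      (cj n).symm (cq n)]
include hσ in
theorem sgn_σ (n : ℤ × ℤ) : sgn (σ n) = - sgn n := by
  unfold sgn
  rw [hσ n, Int.negOnePow_succ]
  simp
include hσ hi hp hip hj hq hjq ci cp cj cq in
theorem tsum_eq (N : ℕ) (a c : ℕ → ℝ) (b d : ℕ → ℕ) (ha : ∀ q, 0 ≤ a q) (hc : ∀ p, 0 ≤ c p)
    (hsum : Summable fun p : ℕ => c p * (d p : ℝ))
    (h0 : ∀ n : ℤ × ℤ, n.1 < 0 ∨ n.2 < 0 → Subsingleton (X n))
    (hfd : ∀ n, Module.Finite ℂ (X n))
    (h1 : ∀ p q : ℕ, N < q → Subsingleton (X ((p : ℤ), (q : ℤ))))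
    (h2 : ∀ (p q : ℕ) (μ : ℂ), Module.End.HasEigenvalue (ΦX ((p : ℤ), (q : ℤ))) μ → ‖μ‖ ≤ a q * c p)
    (h3 : ∀ p q : ℕ, Module.finrank ℂ (X ((p : ℤ), (q : ℤ))) ≤ b q * d p) :
    ∑' pq : ℕ × ℕ, (-1 : ℂ) ^ (pq.1 + pq.2) *
        LinearMap.trace ℂ (H ((pq.1 : ℤ), (pq.2 : ℤ))) (ΦH ((pq.1 : ℤ), (pq.2 : ℤ))) =
      ∑' pq : ℕ × ℕ, (-1 : ℂ) ^ (pq.1 + pq.2) *
        LinearMap.trace ℂ (X ((pq.1 : ℤ), (pq.2 : ℤ))) (ΦX ((pq.1 : ℤ), (pq.2 : ℤ))) := by
  set tX : ℤ × ℤ → ℂ := fun n => LinearMap.trace ℂ (X n) (ΦX n) with htX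
  set tB : ℤ × ℤ → ℂ := fun n => LinearMap.trace ℂ (B n) (ΦB n) with htB
  set tH : ℤ × ℤ → ℂ := fun n => LinearMap.trace ℂ (H n) (ΦH n) with htH
  set u : ℤ × ℤ → ℂ := fun n => sgn n * tB n with hu
  have key0 : ∀ n, sgn n * tX n = sgn n * tH n + (u n - u (σ n)) := by
    intro n
    haveI := hfd n
    simp only [htX, htH, hu, htB]
    rw [trace_X σ X Z B H ΦX ΦZ ΦB ΦH i p j q hi hp hip hj hq hjq ci cp cj cq n, sgn_σ σ hσ]
    ring
  -- vanishing of u
  have hB0 : ∀ n : ℤ × ℤ, Subsingleton (B n) → tB n = 0 := by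
    intro n hn
    simp only [htB]
    have : ΦB n = 0 := Subsingleton.elim _ _
    rw [this, map_zero]
  have hu_supp : ∀ n ∉ Set.range ι₀, u n = 0 := by
    intro n hn
    have : n.1 < 0 ∨ n.2 < 0 := by
      by_contra hcon
      push Not at hcon
      exact hn (mem_range_ι₀ hcon.1 hcon.2)
    haveI := h0 n this
    simp only [hu]
    rw [hB0 n (subsingleton_B X Z B i j hi hj n), mul_zero]
  have huσ_supp : ∀ n ∉ Set.range ι₀, u (σ n) = 0 := by
    intro n hn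
    have : n.1 < 0 ∨ n.2 < 0 := by
      by_contra hcon
      push Not at hcon
      exact hn (mem_range_ι₀ hcon.1 hcon.2)
    haveI := h0 n this
    simp only [hu]
    rw [hB0 (σ n) (subsingleton_Bσ σ X B p hp n), mul_zero]
  -- summability
  have sumH : Summable fun pq : ℕ × ℕ => sgn (ι₀ pq) * tH (ι₀ pq) := by
    apply Summable.of_norm
    simp only [norm_mul, norm_sgn, one_mul]
    haveI : ∀ x y : ℕ, FiniteDimensional ℂ (H ((x : ℤ), (y : ℤ))) := fun x y =>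
      haveI := hfd ((x : ℤ), (y : ℤ)); finite_H X Z H i q hi hq _
    exact Groth.Agent.S14280.result (fun x y => H ((x : ℤ), (y : ℤ)))
      (fun x y => ΦH ((x : ℤ), (y : ℤ))) N a c b d ha hc
      (fun x y hq' => haveI := h1 x y hq'; subsingleton_H X Z H i q hi hq _)
      (fun x y μ hμ => haveI := hfd ((x : ℤ), (y : ℤ));
        h2 x y μ (eig_H X Z H ΦX ΦZ ΦH i q hi hq ci cq _ μ hμ))
      (fun x y => haveI := hfd ((x : ℤ), (y : ℤ));
        (finrank_H_le X Z H i q hi hq _).trans (h3 x y)) hsum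
  have sumB : Summable fun pq : ℕ × ℕ => u (ι₀ pq) := by
    apply Summable.of_norm
    simp only [hu, norm_mul, norm_sgn, one_mul]
    haveI : ∀ x y : ℕ, FiniteDimensional ℂ (B ((x : ℤ), (y : ℤ))) := fun x y =>
      haveI := hfd ((x : ℤ), (y : ℤ)); finite_B X Z B i j hi hj _
    exact Groth.Agent.S14280.result (fun x y => B ((x : ℤ), (y : ℤ)))
      (fun x y => ΦB ((x : ℤ), (y : ℤ))) N a c b d ha hc
      (fun x y hq' => haveI := h1 x y hq'; subsingleton_B X Z B i j hi hj _)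
      (fun x y μ hμ => h2 x y μ (eig_B X Z B ΦX ΦZ ΦB i j hi hj ci cj _ μ hμ))
      (fun x y => haveI := hfd ((x : ℤ), (y : ℤ));
        (finrank_B_le X Z B i j hi hj _).trans (h3 x y)) hsum
  have sumU : Summable u := (ι₀_injective.summable_iff hu_supp).mp sumB
  have sumUσ : Summable fun pq : ℕ × ℕ => u (σ (ι₀ pq)) :=
    ((Equiv.summable_iff σ).mpr sumU).comp_injective ι₀_injective
  have ts1 : ∑' pq : ℕ × ℕ, u (ι₀ pq) = ∑' n, u n :=
    ι₀_injective.tsum_eq (fun n hn => by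
      by_contra hcon
      exact hn (hu_supp n hcon))
  have ts2 : ∑' pq : ℕ × ℕ, u (σ (ι₀ pq)) = ∑' n, u n := by
    have e1 : ∑' pq : ℕ × ℕ, u (σ (ι₀ pq)) = ∑' n, u (σ n) :=
      ι₀_injective.tsum_eq (f := fun n => u (σ n)) (fun n hn => by
        by_contra hcon
        exact hn (huσ_supp n hcon))
    rw [e1]
    exact Equiv.tsum_eq σ u
  have final : ∑' pq : ℕ × ℕ, sgn (ι₀ pq) * tX (ι₀ pq) = ∑' pq : ℕ × ℕ, sgn (ι₀ pq) * tH (ι₀ pq) := by
    simp_rw [key0]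
    rw [sumH.tsum_add (sumB.sub sumUσ), sumB.tsum_sub sumUσ, ts1, ts2, sub_self, add_zero]
  have conv : ∀ (t : ℤ × ℤ → ℂ) (pq : ℕ × ℕ), sgn (ι₀ pq) * t (ι₀ pq) =
      (-1 : ℂ) ^ (pq.1 + pq.2) * t ((pq.1 : ℤ), (pq.2 : ℤ)) := fun t pq => by
    rw [← sgn_natCast]; rfl
  simp_rw [conv] at final
  exact final.symm
end AL
end H47SS
section Helpers
variable {A : Type*} [Ring A] {ι : Type*} {c : ComplexShape ι}
  (K : HomologicalComplex (ModuleCat.{u} A) c) (σ : ι ≃ ι) (hσ : ∀ x, c.Rel x (σ x))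

lemma iCycles_injective (n : ι) : Function.Injective (K.iCycles n).hom :=
  (ModuleCat.mono_iff_injective _).mp inferInstance

lemma homologyπ_surjective (n : ι) : Function.Surjective (K.homologyπ n).hom :=
  (ModuleCat.epi_iff_surjective _).mp inferInstance

include hσ in
lemma range_iCycles (n : ι) :
    LinearMap.range (K.iCycles n).hom = LinearMap.ker (K.d n (σ n)).hom := by
  have h := ShortComplex.exact_of_f_is_kernel
    (ShortComplex.mk (K.iCycles n) (K.d n (σ n)) (K.iCycles_d n (σ n)))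
    (K.cyclesIsKernel n (σ n) (c.next_eq' (hσ n)))
  exact h.moduleCat_range_eq_ker

include hσ in
lemma range_toCycles (i m : ι) (hi : σ i = m) :
    LinearMap.range (K.toCycles i m).hom = LinearMap.ker (K.homologyπ m).hom := by
  have h := ShortComplex.exact_of_g_is_cokernel
    (ShortComplex.mk (K.toCycles i m) (K.homologyπ m) (K.toCycles_comp_homologyπ i m))
    (K.homologyIsCokernel i m (by subst hi; exact c.prev_eq' (hσ i)))
  exact h.moduleCat_range_eq_ker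

lemma toCycles_i_apply (i j : ι) (x : K.X i) :
    (K.iCycles j).hom ((K.toCycles i j).hom x) = (K.d i j).hom x := by
  rw [← K.toCycles_i i j]; rfl

lemma ker_toCycles (i j : ι) :
    LinearMap.ker (K.toCycles i j).hom = LinearMap.ker (K.d i j).hom := by
  ext x
  simp only [LinearMap.mem_ker]
  rw [← toCycles_i_apply]
  constructor
  · intro h; rw [h, map_zero]
  · intro h; exact iCycles_injective K j (by rw [h, map_zero])

/-- boundaries, as a submodule of the cycles -/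
noncomputable def Bd (n : ι) : Submodule A (K.cycles n) := LinearMap.range (K.toCycles (σ.symm n) n).hom

lemma Bd_eq (i n : ι) (h : σ i = n) : Bd K σ n = LinearMap.range (K.toCycles i n).hom := by
  obtain rfl : i = σ.symm n := by rw [← h, σ.symm_apply_apply]
  rfl

include hσ in
lemma Bd_eq_ker (n : ι) : Bd K σ n = LinearMap.ker (K.homologyπ n).hom :=
  range_toCycles K σ hσ (σ.symm n) n (σ.apply_symm_apply n)

/-- the map `X n → B (σ n)` -/
noncomputable def pMap (n : ι) : K.X n →ₗ[A] Bd K σ (σ n) :=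
  LinearMap.codRestrict (Bd K σ (σ n)) (K.toCycles n (σ n)).hom
    (fun x => by rw [Bd_eq K σ n (σ n) rfl]; exact LinearMap.mem_range_self _ x)

lemma pMap_surjective (n : ι) : Function.Surjective (pMap K σ n) := by
  rintro ⟨y, hy⟩
  rw [Bd_eq K σ n (σ n) rfl] at hy
  obtain ⟨x, rfl⟩ := hy
  exact ⟨x, rfl⟩

include hσ in
lemma exact_i_p (n : ι) : Function.Exact (K.iCycles n).hom (pMap K σ n) := by
  rw [LinearMap.exact_iff]
  rw [range_iCycles K σ hσ, ← ker_toCycles]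
  ext x
  simp only [LinearMap.mem_ker, pMap]
  constructor
  · intro h; exact congrArg Subtype.val h
  · intro h; exact Subtype.ext h

include hσ in
lemma exact_j_q (n : ι) : Function.Exact (Bd K σ n).subtype (K.homologyπ n).hom := by
  rw [LinearMap.exact_iff, Submodule.range_subtype, Bd_eq_ker K σ hσ]

end Helpers

/-- underlying complex vector space -/
abbrev V (M : ModuleCat.{u} ℂ[X]) : Type u :=
  ↥((ModuleCat.restrictScalars (algebraMap ℂ ℂ[X])).obj M)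

/-- the endomorphism "multiplication by X" -/
noncomputable abbrev Φ (M : ModuleCat.{u} ℂ[X]) : V M →ₗ[ℂ] V M :=
  ((ModuleCat.restrictScalars (algebraMap ℂ ℂ[X])).map ((Polynomial.X : ℂ[X]) • 𝟙 M)).hom

noncomputable abbrev Vm {M N : ModuleCat.{u} ℂ[X]} (g : M ⟶ N) : V M →ₗ[ℂ] V N :=
  ((ModuleCat.restrictScalars (algebraMap ℂ ℂ[X])).map g).hom

theorem Vm_apply {M N : ModuleCat.{u} ℂ[X]} (g : M ⟶ N) (x : V M) : Vm g x = g.hom x := rfl

theorem Vm_Φ {M N : ModuleCat.{u} ℂ[X]} (g : M ⟶ N) : Vm g ∘ₗ Φ M = Φ N ∘ₗ Vm g := by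
  have h : ((Polynomial.X : ℂ[X]) • 𝟙 M) ≫ g = g ≫ ((Polynomial.X : ℂ[X]) • 𝟙 N) := by
    rw [Linear.smul_comp, Linear.comp_smul, Category.id_comp, Category.comp_id]
  have h2 := congrArg (fun m => ((ModuleCat.restrictScalars (algebraMap ℂ ℂ[X])).map m).hom) h
  simp only [Functor.map_comp, ModuleCat.hom_comp] at h2
  exact h2

theorem subsingleton_V {M : ModuleCat.{u} ℂ[X]} (h : IsZero M) : Subsingleton (V M) :=
  haveI : Subsingleton M := ModuleCat.subsingleton_of_isZero h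
  (inferInstance : Subsingleton M)

theorem isZero_of_subsingleton_V {M : ModuleCat.{u} ℂ[X]} (h : Subsingleton (V M)) : IsZero M :=
  haveI : Subsingleton M := h
  ModuleCat.isZero_of_subsingleton M


section Main
variable (E : E₂CohomologicalSpectralSequence (ModuleCat.{u} (Polynomial ℂ))) (r : ℤ) (hr : 2 ≤ r)

/-- the shift `(p,q) ↦ (p + r, q + 1 - r)` -/
def sh (r : ℤ) : ℤ × ℤ ≃ ℤ × ℤ := Equiv.addRight (r, 1 - r)

theorem sh_rel (n : ℤ × ℤ) : (ComplexShape.up' (r, 1 - r)).Rel n (sh r n) := rfl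

theorem sh_deg (n : ℤ × ℤ) : (sh r n).1 + (sh r n).2 = n.1 + n.2 + 1 := by
  simp only [sh, Equiv.coe_addRight, Prod.fst_add, Prod.snd_add]; omega

noncomputable abbrev K := E.page r hr

noncomputable abbrev BM (n : ℤ × ℤ) : ModuleCat.{u} ℂ[X] :=
  ModuleCat.of ℂ[X] (Bd (K E r hr) (sh r) n)

noncomputable abbrev eIso (n : ℤ × ℤ) :
    (K E r hr).homology n ≅ (E.page (r + 1) (Int.le_add_one hr)).X n :=
  E.iso r (r + 1) n rfl hr

theorem main :
    (∀ n : ℤ × ℤ, Function.Injective (Vm ((K E r hr).iCycles n))) ∧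
    (∀ n : ℤ × ℤ, Function.Surjective (Vm (ModuleCat.ofHom (pMap (K E r hr) (sh r) n)))) ∧
    (∀ n : ℤ × ℤ, Function.Exact (Vm ((K E r hr).iCycles n))
      (Vm (ModuleCat.ofHom (pMap (K E r hr) (sh r) n)))) ∧
    (∀ n : ℤ × ℤ, Function.Injective (Vm (ModuleCat.ofHom (Bd (K E r hr) (sh r) n).subtype))) ∧
    (∀ n : ℤ × ℤ, Function.Surjective (Vm ((K E r hr).homologyπ n ≫ (eIso E r hr n).hom))) ∧
    (∀ n : ℤ × ℤ, Function.Exact (Vm (ModuleCat.ofHom (Bd (K E r hr) (sh r) n).subtype))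
      (Vm ((K E r hr).homologyπ n ≫ (eIso E r hr n).hom))) := by
  refine ⟨fun n => iCycles_injective _ n, fun n => pMap_surjective _ _ n,
    fun n => exact_i_p _ _ (sh_rel r) n, fun n => Submodule.subtype_injective _, fun n => ?_,
    fun n => ?_⟩
  · have h1 := homologyπ_surjective (K E r hr) n
    have h2 : Function.Surjective (eIso E r hr n).hom.hom :=
      (ModuleCat.epi_iff_surjective _).mp inferInstance
    exact h2.comp h1
  · have h1 := exact_j_q (K E r hr) (sh r) (sh_rel r) n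
    have h2 : Function.Injective (eIso E r hr n).hom.hom :=
      (ModuleCat.mono_iff_injective _).mp inferInstance
    intro y
    refine Iff.trans ?_ (h1 y)
    constructor
    · intro h
      apply h2
      rw [map_zero]
      exact h
    · intro h
      show (eIso E r hr n).hom.hom (((K E r hr).homologyπ n).hom y) = 0
      rw [h, map_zero]
end Main

section Fam
variable (E : E₂CohomologicalSpectralSequence (ModuleCat.{u} (Polynomial ℂ))) (r : ℤ) (hr : 2 ≤ r)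

abbrev XF (n : ℤ × ℤ) : Type u := V ((K E r hr).X n)
abbrev ZF (n : ℤ × ℤ) : Type u := V ((K E r hr).cycles n)
abbrev BF (n : ℤ × ℤ) : Type u := V (BM E r hr n)
abbrev HF (n : ℤ × ℤ) : Type u := V ((E.page (r + 1) (Int.le_add_one hr)).X n)

noncomputable abbrev iF (n : ℤ × ℤ) : ZF E r hr n →ₗ[ℂ] XF E r hr n := Vm ((K E r hr).iCycles n)
noncomputable abbrev pF (n : ℤ × ℤ) : XF E r hr n →ₗ[ℂ] BF E r hr (sh r n) :=
  Vm (ModuleCat.ofHom (pMap (K E r hr) (sh r) n))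
noncomputable abbrev jF (n : ℤ × ℤ) : BF E r hr n →ₗ[ℂ] ZF E r hr n :=
  Vm (ModuleCat.ofHom (Bd (K E r hr) (sh r) n).subtype)
noncomputable abbrev qF (n : ℤ × ℤ) : ZF E r hr n →ₗ[ℂ] HF E r hr n :=
  Vm ((K E r hr).homologyπ n ≫ (eIso E r hr n).hom)
end Fam


/-- For an E_2 spectral sequence (E, Φ) of complex vector spaces carrying a compatible endomorphism Φ,
encoded as a cohomological spectral sequence of ℂ[X]-modules (X acting as Φ), and an integer r ≥ 2,
say that a page satisfies the boundedness condition for (N, a, b, c, d) when it is concentrated in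
the first quadrant, its terms are finite-dimensional over ℂ and vanish for q > N, every eigenvalue μ
of Φ on the (p, q) term has |μ| ≤ a(q)c(p), and the (p, q) term has dimension at most b(q)d(p). If
a, c ≥ 0, Σ_p c(p)d(p) converges and the page E_r satisfies the condition, then so does E_{r+1}, and
the alternating sums of traces agree: Σ_{p,q} (−1)^{p+q} tr(Φ | E_{r+1}^{p,q}) = Σ_{p,q} (−1)^{p+q}
tr(Φ | E_r^{p,q}) (both absolutely convergent). Traces, dimensions and eigenvalues refer to the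
underlying complex vector spaces and the endomorphism 'multiplication by X'. -/
theorem result
    (E : E₂CohomologicalSpectralSequence (ModuleCat.{u} (Polynomial ℂ))) (r : ℤ) (hr : 2 ≤ r)
    (N : ℕ) (a c : ℕ → ℝ) (b d : ℕ → ℕ) (ha : ∀ q, 0 ≤ a q) (hc : ∀ p, 0 ≤ c p)
    (hsum : Summable fun p : ℕ => c p * (d p : ℝ))
    (h : (∀ pq : ℤ × ℤ, pq.1 < 0 ∨ pq.2 < 0 → IsZero ((E.page r hr).X pq)) ∧
      (∀ pq : ℤ × ℤ, Module.Finite ℂ ((ModuleCat.restrictScalars (algebraMap ℂ (Polynomial ℂ))).obj ((E.page r hr).X pq))) ∧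
      (∀ p q : ℕ, N < q → IsZero ((E.page r hr).X ((p : ℤ), (q : ℤ)))) ∧
      (∀ (p q : ℕ) (μ : ℂ), Module.End.HasEigenvalue
          ((ModuleCat.restrictScalars (algebraMap ℂ (Polynomial ℂ))).map ((Polynomial.X : Polynomial ℂ) • 𝟙 ((E.page r hr).X ((p : ℤ), (q : ℤ))))).hom μ →
        ‖μ‖ ≤ a q * c p) ∧
      (∀ p q : ℕ, Module.finrank ℂ ((ModuleCat.restrictScalars (algebraMap ℂ (Polynomial ℂ))).obj ((E.page r hr).X ((p : ℤ), (q : ℤ)))) ≤ b q * d p)) :
    ((∀ pq : ℤ × ℤ, pq.1 < 0 ∨ pq.2 < 0 → IsZero ((E.page (r + 1) (Int.le_add_one hr)).X pq)) ∧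
      (∀ pq : ℤ × ℤ, Module.Finite ℂ ((ModuleCat.restrictScalars (algebraMap ℂ (Polynomial ℂ))).obj ((E.page (r + 1) (Int.le_add_one hr)).X pq))) ∧
      (∀ p q : ℕ, N < q → IsZero ((E.page (r + 1) (Int.le_add_one hr)).X ((p : ℤ), (q : ℤ)))) ∧
      (∀ (p q : ℕ) (μ : ℂ), Module.End.HasEigenvalue
          ((ModuleCat.restrictScalars (algebraMap ℂ (Polynomial ℂ))).map ((Polynomial.X : Polynomial ℂ) • 𝟙 ((E.page (r + 1) (Int.le_add_one hr)).X ((p : ℤ), (q : ℤ))))).hom μ →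
        ‖μ‖ ≤ a q * c p) ∧
      (∀ p q : ℕ, Module.finrank ℂ ((ModuleCat.restrictScalars (algebraMap ℂ (Polynomial ℂ))).obj ((E.page (r + 1) (Int.le_add_one hr)).X ((p : ℤ), (q : ℤ)))) ≤ b q * d p)) ∧
      ∑' pq : ℕ × ℕ, (-1 : ℂ) ^ (pq.1 + pq.2) * LinearMap.trace ℂ _
          ((ModuleCat.restrictScalars (algebraMap ℂ (Polynomial ℂ))).map ((Polynomial.X : Polynomial ℂ) • 𝟙 ((E.page (r + 1) (Int.le_add_one hr)).X ((pq.1 : ℤ), (pq.2 : ℤ))))).hom =
        ∑' pq : ℕ × ℕ, (-1 : ℂ) ^ (pq.1 + pq.2) * LinearMap.trace ℂ _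
          ((ModuleCat.restrictScalars (algebraMap ℂ (Polynomial ℂ))).map ((Polynomial.X : Polynomial ℂ) • 𝟙 ((E.page r hr).X ((pq.1 : ℤ), (pq.2 : ℤ))))).hom := by
  obtain ⟨h0, hfd, h1, h2, h3⟩ := h
  obtain ⟨mi, mp, mip, mj, mq, mjq⟩ := main E r hr
  have ci : ∀ n, iF E r hr n ∘ₗ Φ _ = Φ _ ∘ₗ iF E r hr n := fun n => Vm_Φ _
  have cp : ∀ n, pF E r hr n ∘ₗ Φ _ = Φ _ ∘ₗ pF E r hr n := fun n => Vm_Φ _
  have cj : ∀ n, jF E r hr n ∘ₗ Φ _ = Φ _ ∘ₗ jF E r hr n := fun n => Vm_Φ _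
  have cq : ∀ n, qF E r hr n ∘ₗ Φ _ = Φ _ ∘ₗ qF E r hr n := fun n => Vm_Φ _
  have h0' : ∀ n : ℤ × ℤ, n.1 < 0 ∨ n.2 < 0 → Subsingleton (XF E r hr n) :=
    fun n hn => subsingleton_V (h0 n hn)
  have h1' : ∀ p q : ℕ, N < q → Subsingleton (XF E r hr ((p : ℤ), (q : ℤ))) :=
    fun p q hq => subsingleton_V (h1 p q hq)
  refine ⟨⟨?_, ?_, ?_, ?_, ?_⟩, ?_⟩
  · intro n hn
    haveI := h0' n hn
    exact isZero_of_subsingleton_V
      (H47SS.subsingleton_H (XF E r hr) (ZF E r hr) (HF E r hr) (iF E r hr) (qF E r hr) mi mq n)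
  · intro n
    haveI := hfd n
    exact H47SS.finite_H (XF E r hr) (ZF E r hr) (HF E r hr) (iF E r hr) (qF E r hr) mi mq n
  · intro p q hq
    haveI := h1' p q hq
    exact isZero_of_subsingleton_V
      (H47SS.subsingleton_H (XF E r hr) (ZF E r hr) (HF E r hr) (iF E r hr) (qF E r hr) mi mq _)
  · intro p q μ hμ
    haveI := hfd ((p : ℤ), (q : ℤ))
    exact h2 p q μ (H47SS.eig_H (XF E r hr) (ZF E r hr) (HF E r hr) (fun n => Φ _) (fun n => Φ _)
      (fun n => Φ _) (iF E r hr) (qF E r hr) mi mq ci cq _ μ hμ)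
  · intro p q
    haveI := hfd ((p : ℤ), (q : ℤ))
    exact (H47SS.finrank_H_le (XF E r hr) (ZF E r hr) (HF E r hr) (iF E r hr) (qF E r hr)
      mi mq _).trans (h3 p q)
  · exact H47SS.tsum_eq (sh r) (sh_deg r) (XF E r hr) (ZF E r hr) (BF E r hr) (HF E r hr)
      (fun n => Φ _) (fun n => Φ _) (fun n => Φ _) (fun n => Φ _)
      (iF E r hr) (pF E r hr) (jF E r hr) (qF E r hr) mi mp mip mj mq mjq ci cp cj cq
      N a c b d ha hc hsum h0' hfd h1' h2 h3

end Groth.Agent.S14284
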