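import Groth.Statements.S14283
import Mathlib
import Groth.Agent.S14284

set_option autoImplicit false
universe u
open CategoryTheory CategoryTheory.Limits
open SpSeq

namespace Groth.Agent.S14283
set_option linter.style.haveILetI false
set_option linter.unusedSectionVars false
open Groth.Agent.S14284 Polynomial Module
open Groth.Agent.S11703.H47Trace

/-- trace of Φ -/
noncomputable abbrev tr (M : ModuleCat.{u} ℂ[X]) : ℂ := LinearMap.trace ℂ (V M) (Φ M)

theorem tr_of_isZero {M : ModuleCat.{u} ℂ[X]} (h : IsZero M) : tr M = 0 := by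
  haveI := subsingleton_V h
  have : Φ M = 0 := Subsingleton.elim _ _
  show LinearMap.trace ℂ (V M) (Φ M) = 0
  rw [this, map_zero]

theorem finite_of_isZero {M : ModuleCat.{u} ℂ[X]} (h : IsZero M) : Module.Finite ℂ (V M) :=
  haveI := subsingleton_V h
  inferInstance

/-- isomorphic modules have the same trace -/
theorem tr_of_iso {M N : ModuleCat.{u} ℂ[X]} (e : M ≅ N) : tr M = tr N := by
  have hbij : Function.Bijective (Vm e.hom) := by
    refine ⟨?_, ?_⟩
    · exact (ModuleCat.mono_iff_injective e.hom).mp inferInstance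
    · exact (ModuleCat.epi_iff_surjective e.hom).mp inferInstance
  let ε : V M ≃ₗ[ℂ] V N := LinearEquiv.ofBijective (Vm e.hom) hbij
  have h : Φ N = ε.conj (Φ M) := by
    apply LinearMap.ext
    intro y
    obtain ⟨x, rfl⟩ := ε.surjective y
    rw [LinearEquiv.conj_apply_apply, LinearEquiv.symm_apply_apply]
    exact (LinearMap.congr_fun (Vm_Φ e.hom) x).symm
  show LinearMap.trace ℂ (V M) (Φ M) = LinearMap.trace ℂ (V N) (Φ N)
  rw [h, LinearMap.trace_conj']

theorem finite_of_iso {M N : ModuleCat.{u} ℂ[X]} (e : M ≅ N) [Module.Finite ℂ (V M)] :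
    Module.Finite ℂ (V N) :=
  Module.Finite.of_surjective (Vm e.hom) ((ModuleCat.epi_iff_surjective e.hom).mp inferInstance)

/-- trace additivity for a mono and its cokernel -/
theorem ses_trace {A B : ModuleCat.{u} ℂ[X]} (f : A ⟶ B) [Mono f]
    [Module.Finite ℂ (V A)] [Module.Finite ℂ (V (cokernel f))] :
    Module.Finite ℂ (V B) ∧ tr B = tr A + tr (cokernel f) := by
  have hi : Function.Injective (Vm f) := (ModuleCat.mono_iff_injective f).mp inferInstance
  have hp : Function.Surjective (Vm (cokernel.π f)) :=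
    (ModuleCat.epi_iff_surjective (cokernel.π f)).mp inferInstance
  have hex : Function.Exact (Vm f) (Vm (cokernel.π f)) := by
    have h := ShortComplex.exact_of_g_is_cokernel
      (ShortComplex.mk f (cokernel.π f) (cokernel.condition f)) (cokernelIsCokernel f)
    have h2 : Function.Exact f.hom (cokernel.π f).hom := by
      rw [LinearMap.exact_iff]
      exact h.moduleCat_range_eq_ker.symm
    exact h2
  haveI : Module.Finite ℂ (V B) := Module.Finite.of_exact hex hp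
  refine ⟨inferInstance, ?_⟩
  exact trace_eq_add_of_exact (Vm f) (Vm (cokernel.π f)) hi hp hex (Φ A) (Φ B) (Φ _)
    (Vm_Φ f).symm (Vm_Φ _)

section Fil
variable {M : ModuleCat.{u} ℂ[X]} (F : ℤ → Subobject M) (hF : Antitone F)

theorem isZero_of_eq_bot (S : Subobject M) (h : S = ⊥) : IsZero (S : ModuleCat.{u} ℂ[X]) := by
  subst h
  exact IsZero.of_iso (isZero_zero _) Subobject.botCoeIsoZero

theorem fil_step (p : ℤ) [h1 : Module.Finite ℂ (V (F (p + 1) : ModuleCat.{u} ℂ[X]))]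
    [h2 : Module.Finite ℂ (V (grPiece F hF p))] :
    Module.Finite ℂ (V (F p : ModuleCat.{u} ℂ[X])) ∧
      tr (F p : ModuleCat.{u} ℂ[X]) = tr (F (p + 1) : ModuleCat.{u} ℂ[X]) + tr (grPiece F hF p) :=
  @ses_trace _ _ ((F (p + 1)).ofLE (F p) (hF (Int.le_add_one le_rfl))) _ h1 h2

theorem fil_down (hi : ℤ) (hhi : F hi = ⊥) (hgr : ∀ p, Module.Finite ℂ (V (grPiece F hF p))) :
    ∀ (k : ℕ) (p : ℤ), p + k = hi → Module.Finite ℂ (V (F p : ModuleCat.{u} ℂ[X])) ∧
      tr (F p : ModuleCat.{u} ℂ[X]) = ∑ i ∈ Finset.Ico p hi, tr (grPiece F hF i) := by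
  intro k
  induction k with
  | zero =>
    intro p hp
    obtain rfl : p = hi := by simpa using hp
    have hz := isZero_of_eq_bot _ hhi
    exact ⟨finite_of_isZero hz, by rw [tr_of_isZero hz, Finset.Ico_self, Finset.sum_empty]⟩
  | succ k ih =>
    intro p hp
    obtain ⟨ih1, ih2⟩ := ih (p + 1) (by push_cast at hp; omega)
    haveI := ih1
    haveI := hgr p
    obtain ⟨s1, s2⟩ := fil_step F hF p
    refine ⟨s1, ?_⟩
    rw [s2, ih2, ← Finset.insert_Ico_add_one_left_eq_Ico (by push_cast at hp; omega : p < hi),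
      Finset.sum_insert (by simp)]
    ring

include hF in
theorem fil_total (lo hi : ℤ) (hlo : F lo = ⊤) (hhi : F hi = ⊥)
    (hgr : ∀ p, Module.Finite ℂ (V (grPiece F hF p))) :
    Module.Finite ℂ (V M) ∧ tr M = ∑ i ∈ Finset.Ico lo hi, tr (grPiece F hF i) := by
  have key : ∀ hi' : ℤ, lo ≤ hi' → F hi' = ⊥ →
      Module.Finite ℂ (V M) ∧ tr M = ∑ i ∈ Finset.Ico lo hi', tr (grPiece F hF i) := by
    intro hi' hle hbot
    obtain ⟨f1, f2⟩ := fil_down F hF hi' hbot hgr (hi' - lo).toNat lo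
      (by rw [Int.toNat_of_nonneg (by omega)]; omega)
    haveI : IsIso (F lo).arrow := (Subobject.isIso_arrow_iff_eq_top _).mpr hlo
    haveI := f1
    exact ⟨finite_of_iso (asIso (F lo).arrow), by rw [← tr_of_iso (asIso (F lo).arrow), f2]⟩
  rcases le_or_gt lo hi with h | h
  · exact key hi h hhi
  · have hbot : F lo = ⊥ := le_bot_iff.mp (hhi ▸ hF h.le)
    obtain ⟨f1, f2⟩ := key lo le_rfl hbot
    refine ⟨f1, ?_⟩
    rw [f2, Finset.Ico_self, Finset.Ico_eq_empty (by omega)]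

include hF in
theorem fil_sum (hfinF : (∃ a, F a = ⊤) ∧ ∃ b, F b = ⊥)
    (hgr : ∀ p, Module.Finite ℂ (V (grPiece F hF p))) (s : Finset ℤ)
    (hs : ∀ p ∉ s, IsZero (grPiece F hF p)) :
    Module.Finite ℂ (V M) ∧ tr M = ∑ i ∈ s, tr (grPiece F hF i) := by
  obtain ⟨⟨a, ha⟩, ⟨b, hb⟩⟩ := hfinF
  obtain ⟨u, hu⟩ := s.bddAbove
  obtain ⟨l, hl⟩ := s.bddBelow
  have hlo : F (min a l) = ⊤ := top_le_iff.mp (ha ▸ hF (min_le_left a l))
  have hhi : F (max b (u + 1)) = ⊥ := le_bot_iff.mp (hb ▸ hF (le_max_left b (u + 1)))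
  obtain ⟨f1, f2⟩ := fil_total F hF _ _ hlo hhi hgr
  refine ⟨f1, ?_⟩
  rw [f2]
  symm
  apply Finset.sum_subset
  · intro x hx
    rw [Finset.mem_Ico]
    have h1 := hu hx
    have h2 := hl hx
    exact ⟨(min_le_right a l).trans h2, lt_of_lt_of_le (by omega) (le_max_right b (u + 1))⟩
  · intro x _ hx
    exact tr_of_isZero (hs x hx)
end Fil

section Pages
variable (E : E₂CohomologicalSpectralSequence (ModuleCat.{u} (Polynomial ℂ)))
  (N : ℕ) (a c : ℕ → ℝ) (b d : ℕ → ℕ)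

/-- the boundedness condition on page `r` -/
def Cond (r : ℤ) (hr : 2 ≤ r) : Prop :=
  (∀ pq : ℤ × ℤ, pq.1 < 0 ∨ pq.2 < 0 → IsZero ((E.page r hr).X pq)) ∧
  (∀ pq : ℤ × ℤ, Module.Finite ℂ (V ((E.page r hr).X pq))) ∧
  (∀ p q : ℕ, N < q → IsZero ((E.page r hr).X ((p : ℤ), (q : ℤ)))) ∧
  (∀ (p q : ℕ) (μ : ℂ), Module.End.HasEigenvalue (Φ ((E.page r hr).X ((p : ℤ), (q : ℤ)))) μ →
    ‖μ‖ ≤ a q * c p) ∧
  (∀ p q : ℕ, Module.finrank ℂ (V ((E.page r hr).X ((p : ℤ), (q : ℤ)))) ≤ b q * d p)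

/-- the alternating sum on page `r` -/
noncomputable def S (r : ℤ) (hr : 2 ≤ r) : ℂ :=
  ∑' pq : ℕ × ℕ, (-1 : ℂ) ^ (pq.1 + pq.2) * tr ((E.page r hr).X ((pq.1 : ℤ), (pq.2 : ℤ)))

theorem all_pages (ha : ∀ q, 0 ≤ a q) (hc : ∀ p, 0 ≤ c p)
    (hsum : Summable fun p : ℕ => c p * (d p : ℝ)) (h2 : Cond E N a c b d 2 le_rfl) :
    ∀ (r : ℤ) (hr : 2 ≤ r), Cond E N a c b d r hr ∧ S E r hr = S E 2 le_rfl := by
  intro r hr
  induction r, hr using Int.le_induction with
  | base => exact ⟨h2, rfl⟩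
  | succ r hr ih =>
    obtain ⟨ih1, ih2⟩ := ih
    have := Groth.Agent.S14284.result E r hr N a c b d ha hc hsum ih1
    exact ⟨this.1, this.2.trans ih2⟩

section Step
variable {A : Type*} [Ring A] {ι : Type*} {cs : ComplexShape ι}
  (K : HomologicalComplex (ModuleCat.{u} A) cs) (σ : ι ≃ ι)

theorem Bd_eq_bot (i n : ι) (h : σ i = n) (hd : K.d i n = 0) : Bd K σ n = ⊥ := by
  rw [Bd_eq K σ i n h]
  have : K.toCycles i n = 0 := by
    rw [← cancel_mono (K.iCycles n), K.toCycles_i, hd, Limits.zero_comp]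
  rw [this, ModuleCat.hom_zero, LinearMap.range_zero]
end Step

theorem T_step (r : ℤ) (hr : 2 ≤ r) (hfd : ∀ n, Module.Finite ℂ (V ((E.page r hr).X n)))
    (n : ℤ × ℤ) (hin : (E.page r hr).d (n - (r, 1 - r)) n = 0)
    (hout : (E.page r hr).d n (n + (r, 1 - r)) = 0) :
    tr ((E.page (r + 1) (Int.le_add_one hr)).X n) = tr ((E.page r hr).X n) := by
  obtain ⟨mi, mp, mip, mj, mq, mjq⟩ := main E r hr
  have ci : ∀ n, iF E r hr n ∘ₗ Φ _ = Φ _ ∘ₗ iF E r hr n := fun n => Vm_Φ _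
  have cp : ∀ n, pF E r hr n ∘ₗ Φ _ = Φ _ ∘ₗ pF E r hr n := fun n => Vm_Φ _
  have cj : ∀ n, jF E r hr n ∘ₗ Φ _ = Φ _ ∘ₗ jF E r hr n := fun n => Vm_Φ _
  have cq : ∀ n, qF E r hr n ∘ₗ Φ _ = Φ _ ∘ₗ qF E r hr n := fun n => Vm_Φ _
  haveI := hfd n
  have key := H47SS.trace_X (sh r) (XF E r hr) (ZF E r hr) (BF E r hr) (HF E r hr)
      (fun n => Φ _) (fun n => Φ _) (fun n => Φ _) (fun n => Φ _)
      (iF E r hr) (pF E r hr) (jF E r hr) (qF E r hr) mi mp mip mj mq mjq ci cp cj cq n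
  have hB1 : Bd (K E r hr) (sh r) n = ⊥ :=
    Bd_eq_bot _ _ (n - (r, 1 - r)) n (by simp [sh]) hin
  have hB2 : Bd (K E r hr) (sh r) (sh r n) = ⊥ :=
    Bd_eq_bot _ _ n (sh r n) rfl hout
  have s1 : Subsingleton (BF E r hr n) := by
    show Subsingleton (Bd (K E r hr) (sh r) n)
    rw [hB1]; infer_instance
  have s2 : Subsingleton (BF E r hr (sh r n)) := by
    show Subsingleton (Bd (K E r hr) (sh r) (sh r n))
    rw [hB2]; infer_instance
  have z1 : (Φ (BM E r hr n)) = 0 := Subsingleton.elim _ _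
  have z2 : (Φ (BM E r hr (sh r n))) = 0 := Subsingleton.elim _ _
  simp only [z1, z2, map_zero, zero_add, add_zero] at key
  exact key.symm

/-- stability of the trace at a position whose differentials vanish from page `r₁` on -/
theorem T_stable (hall : ∀ (r : ℤ) (hr : 2 ≤ r) n, Module.Finite ℂ (V ((E.page r hr).X n)))
    (n : ℤ × ℤ) (r₁ : ℤ) (h₁ : 2 ≤ r₁)
    (hst : ∀ (r' : ℤ) (h₀ : 2 ≤ r') (_ : r₁ ≤ r'),
      (E.page r' h₀).d (n - (r', 1 - r')) n = 0 ∧ (E.page r' h₀).d n (n + (r', 1 - r')) = 0) :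
    ∀ (r : ℤ) (h : r₁ ≤ r), tr ((E.page r (h₁.trans h)).X n) = tr ((E.page r₁ h₁).X n) := by
  intro r h
  induction r, h using Int.le_induction with
  | base => rfl
  | succ r h ih =>
    rw [← ih]
    exact T_step E r (h₁.trans h) (hall r _) n (hst r _ h).1 (hst r _ h).2

theorem zero_out (r : ℤ) (hr : 2 ≤ r) (h : Cond E N a c b d r hr) (m : ℤ × ℤ)
    (hm : m.1 < 0 ∨ m.2 < 0 ∨ (N : ℤ) < m.2) : IsZero ((E.page r hr).X m) := by
  by_cases h0 : m.1 < 0 ∨ m.2 < 0
  · exact h.1 m h0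
  · push Not at h0
    have hN : (N : ℤ) < m.2 := by omega
    have := h.2.2.1 m.1.toNat m.2.toNat (by omega)
    have e : ((m.1.toNat : ℤ), (m.2.toNat : ℤ)) = m := by
      ext <;> simp [Int.toNat_of_nonneg, h0.1, h0.2]
    rwa [e] at this

theorem degenerate (hcond : ∀ r hr, Cond E N a c b d r hr) (n : ℤ × ℤ) :
    ∀ (r' : ℤ) (h₀ : 2 ≤ r') (_ : (N : ℤ) + 2 ≤ r'),
      (E.page r' h₀).d (n - (r', 1 - r')) n = 0 ∧ (E.page r' h₀).d n (n + (r', 1 - r')) = 0 := by
  intro r' h₀ hr'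
  by_cases hn : n.1 < 0 ∨ n.2 < 0 ∨ (N : ℤ) < n.2
  · have hz := zero_out E N a c b d r' h₀ (hcond r' h₀) n hn
    exact ⟨hz.eq_of_tgt _ _, hz.eq_of_src _ _⟩
  · push Not at hn
    constructor
    · have hz := zero_out E N a c b d r' h₀ (hcond r' h₀) (n - (r', 1 - r'))
        (Or.inr (Or.inr (by simp only [Prod.snd_sub]; omega)))
      exact hz.eq_of_src _ _
    · have hz := zero_out E N a c b d r' h₀ (hcond r' h₀) (n + (r', 1 - r'))
        (Or.inr (Or.inl (by simp only [Prod.snd_add]; omega)))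
      exact hz.eq_of_tgt _ _

end Pages
theorem antidiag_sum {α : Type*} [NormedAddCommGroup α] [CompleteSpace α] (f : ℕ × ℕ → α)
    (hf : Summable f) :
    Summable (fun n => ∑ ij ∈ Finset.HasAntidiagonal.antidiagonal n, f ij) ∧
      ∑' n, ∑ ij ∈ Finset.HasAntidiagonal.antidiagonal n, f ij = ∑' pq, f pq := by
  have h : Summable fun x : Σ n : ℕ, Finset.HasAntidiagonal.antidiagonal n => f (x.2 : ℕ × ℕ) :=
    (Equiv.summable_iff Finset.HasAntidiagonal.sigmaAntidiagonalEquivProd (f := f)).mpr hf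
  constructor
  · conv => congr; ext; rw [← Finset.sum_finset_coe, ← tsum_fintype (L := .unconditional _)]
    exact h.sigma' fun n => (hasSum_fintype _).summable
  · conv_lhs => congr; ext; rw [← Finset.sum_finset_coe, ← tsum_fintype (L := .unconditional _)]
    rw [← Equiv.tsum_eq Finset.HasAntidiagonal.sigmaAntidiagonalEquivProd f]
    exact (h.tsum_sigma' fun n => (hasSum_fintype _).summable).symm


/-- For an E_2 spectral sequence (E, Φ) of complex vector spaces carrying an endomorphism Φ compatible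
with all its structure maps — here encoded as a cohomological spectral sequence in the category of
ℂ[X]-modules (X acting as Φ) — which is concentrated in the first quadrant (E_2^{p,q} = 0 if p < 0
or q < 0) and abuts to F^n (n ∈ ℤ) through abutment data whose filtrations are finite, assume that
the E_2^{p,q} are finite-dimensional over ℂ, vanish for q > N, that every eigenvalue μ of Φ on
E_2^{p,q} has |μ| ≤ a(q)c(p) and dim E_2^{p,q} ≤ b(q)d(p) for functions a, c ≥ 0 (real) and b, d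
(natural numbers), and that Σ_p c(p)d(p) converges. Then the series Σ_{n ≥ 0} (−1)^n tr(Φ | F^n)
converges absolutely and its sum equals Σ_{p,q ≥ 0} (−1)^{p+q} tr(Φ | E_2^{p,q}). Traces, dimensions
and eigenvalues are taken on the underlying complex vector spaces (restriction of scalars along ℂ →
ℂ[X]) for the endomorphism 'multiplication by X'. -/
theorem result
    (E : E₂CohomologicalSpectralSequence (ModuleCat.{u} (Polynomial ℂ)))
    (H : ℤ → ModuleCat.{u} (Polynomial ℂ)) (abut : SpSeq.Abutment E H) (hfin : ∀ n, abut.IsFinite n)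
    (hquad : ∀ pq : ℤ × ℤ, pq.1 < 0 ∨ pq.2 < 0 → IsZero ((E.page 2 le_rfl).X pq))
    (hfd : ∀ pq : ℤ × ℤ, Module.Finite ℂ ((ModuleCat.restrictScalars (algebraMap ℂ (Polynomial ℂ))).obj ((E.page 2 le_rfl).X pq)))
    (N : ℕ) (a c : ℕ → ℝ) (b d : ℕ → ℕ) (ha : ∀ q, 0 ≤ a q) (hc : ∀ p, 0 ≤ c p)
    (h1 : ∀ p q : ℕ, N < q → IsZero ((E.page 2 le_rfl).X ((p : ℤ), (q : ℤ))))
    (h2 : ∀ (p q : ℕ) (μ : ℂ), Module.End.HasEigenvalue
        ((ModuleCat.restrictScalars (algebraMap ℂ (Polynomial ℂ))).map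
          ((Polynomial.X : Polynomial ℂ) • 𝟙 ((E.page 2 le_rfl).X ((p : ℤ), (q : ℤ))))).hom μ → ‖μ‖ ≤ a q * c p)
    (h3 : ∀ p q : ℕ, Module.finrank ℂ
        ((ModuleCat.restrictScalars (algebraMap ℂ (Polynomial ℂ))).obj ((E.page 2 le_rfl).X ((p : ℤ), (q : ℤ)))) ≤ b q * d p)
    (hsum : Summable fun p : ℕ => c p * (d p : ℝ)) :
    Summable (fun n : ℕ => ‖LinearMap.trace ℂ _
        ((ModuleCat.restrictScalars (algebraMap ℂ (Polynomial ℂ))).map ((Polynomial.X : Polynomial ℂ) • 𝟙 (H n))).hom‖) ∧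
    ∑' n : ℕ, (-1 : ℂ) ^ n * LinearMap.trace ℂ _
        ((ModuleCat.restrictScalars (algebraMap ℂ (Polynomial ℂ))).map ((Polynomial.X : Polynomial ℂ) • 𝟙 (H n))).hom =
      ∑' pq : ℕ × ℕ, (-1 : ℂ) ^ (pq.1 + pq.2) * LinearMap.trace ℂ _
        ((ModuleCat.restrictScalars (algebraMap ℂ (Polynomial ℂ))).map
          ((Polynomial.X : Polynomial ℂ) • 𝟙 ((E.page 2 le_rfl).X ((pq.1 : ℤ), (pq.2 : ℤ))))).hom := by
  have h2c : Cond E N a c b d 2 le_rfl := ⟨hquad, hfd, h1, h2, h3⟩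
  have hall := all_pages E N a c b d ha hc hsum h2c
  have hcond : ∀ r hr, Cond E N a c b d r hr := fun r hr => (hall r hr).1
  have hfdall : ∀ (r : ℤ) (hr : 2 ≤ r) n, Module.Finite ℂ (V ((E.page r hr).X n)) :=
    fun r hr => (hcond r hr).2.1
  have hR : (2 : ℤ) ≤ (N : ℤ) + 2 := by omega
  obtain ⟨cR, SR⟩ := hall ((N : ℤ) + 2) hR
  -- the limit traces
  have hlim : ∀ pq : ℤ × ℤ, tr ((E.page (abut.rk pq) (abut.stat pq).1).X pq) =
      tr ((E.page ((N : ℤ) + 2) hR).X pq) := by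
    intro pq
    have e1 := T_stable E hfdall pq (abut.rk pq) (abut.stat pq).1 (abut.stat pq).2
      (max (abut.rk pq) ((N : ℤ) + 2)) (le_max_left _ _)
    have e2 := T_stable E hfdall pq ((N : ℤ) + 2) hR (degenerate E N a c b d hcond pq)
      (max (abut.rk pq) ((N : ℤ) + 2)) (le_max_right _ _)
    rw [← e1, ← e2]
  -- graded pieces
  have key : ∀ (pq : ℤ × ℤ) (m : ℤ), pq.1 + pq.2 = m →
      Nonempty ((E.page (abut.rk pq) (abut.stat pq).1).X pq ≅
        grPiece (abut.fil m) (abut.anti m) pq.1) := by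
    rintro pq m rfl
    exact ⟨abut.β pq⟩
  set g : ℕ × ℕ → ℂ := fun pq =>
    (-1 : ℂ) ^ (pq.1 + pq.2) * tr ((E.page ((N : ℤ) + 2) hR).X ((pq.1 : ℤ), (pq.2 : ℤ))) with hg
  have hgn : Summable fun pq : ℕ × ℕ => ‖g pq‖ := by
    simp only [hg, norm_mul, norm_pow, norm_neg, norm_one, one_pow, one_mul]
    haveI : ∀ x y : ℕ, FiniteDimensional ℂ (V ((E.page ((N : ℤ) + 2) hR).X ((x : ℤ), (y : ℤ)))) :=
      fun x y => cR.2.1 _
    exact Groth.Agent.S14280.result (fun x y => V ((E.page ((N : ℤ) + 2) hR).X ((x : ℤ), (y : ℤ))))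
      (fun x y => Φ _) N a c b d ha hc (fun x y hq => subsingleton_V (cR.2.2.1 x y hq))
      cR.2.2.2.1 cR.2.2.2.2 hsum
  have hgs : Summable g := Summable.of_norm hgn
  -- the trace of the abutment
  have hH : ∀ n : ℕ, (-1 : ℂ) ^ n * tr (H n) =
      ∑ ij ∈ Finset.HasAntidiagonal.antidiagonal n, g ij := by
    intro n
    have hgr : ∀ p : ℤ, Module.Finite ℂ (V (grPiece (abut.fil n) (abut.anti n) p)) := by
      intro p
      obtain ⟨e⟩ := key (p, (n : ℤ) - p) n (by simp)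
      haveI := hfdall _ (abut.stat (p, (n : ℤ) - p)).1 (p, (n : ℤ) - p)
      exact finite_of_iso e
    set s : Finset ℤ := (Finset.HasAntidiagonal.antidiagonal n).image (fun ij => (ij.1 : ℤ)) with hs
    have hzero : ∀ p ∉ s, IsZero (grPiece (abut.fil n) (abut.anti n) p) := by
      intro p hp
      obtain ⟨e⟩ := key (p, (n : ℤ) - p) n (by simp)
      refine IsZero.of_iso ?_ e.symm
      apply (hcond _ _).1
      by_contra hcon
      push Not at hcon
      simp only at hcon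
      apply hp
      rw [hs, Finset.mem_image]
      refine ⟨(p.toNat, n - p.toNat), ?_, ?_⟩
      · rw [Finset.HasAntidiagonal.mem_antidiagonal]
        omega
      · simp [Int.toNat_of_nonneg hcon.1]
    obtain ⟨-, f2⟩ := fil_sum (abut.fil n) (abut.anti n) (hfin n) hgr s hzero
    rw [f2, hs, Finset.sum_image, Finset.mul_sum]
    · apply Finset.sum_congr rfl
      intro ij hij
      rw [Finset.HasAntidiagonal.mem_antidiagonal] at hij
      obtain ⟨e⟩ := key ((ij.1 : ℤ), (ij.2 : ℤ)) n (by simp only; exact_mod_cast hij)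
      rw [← tr_of_iso e, hlim, hg]
      simp only [hij]
    · intro x hx y hy hxy
      rw [Finset.mem_coe, Finset.HasAntidiagonal.mem_antidiagonal] at hx hy
      have h' : (x.1 : ℤ) = (y.1 : ℤ) := hxy
      have : x.1 = y.1 := by exact_mod_cast h'
      exact Prod.ext this (by omega)
  obtain ⟨a1, a2⟩ := antidiag_sum g hgs
  obtain ⟨b1, -⟩ := antidiag_sum (fun pq => ‖g pq‖) hgn
  refine ⟨?_, ?_⟩
  · refine Summable.of_nonneg_of_le (fun n => norm_nonneg _) (fun n => ?_) b1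
    have : ‖tr (H n)‖ = ‖(-1 : ℂ) ^ n * tr (H n)‖ := by
      rw [norm_mul, norm_pow, norm_neg, norm_one, one_pow, one_mul]
    show ‖tr (H n)‖ ≤ _
    rw [this, hH n]
    exact norm_sum_le _ _
  · show ∑' n : ℕ, (-1 : ℂ) ^ n * tr (H n) = _
    simp_rw [hH]
    rw [a2]
    exact SR

end Groth.Agent.S14283
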