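import Groth.Statements.S14295
import Mathlib.Tactic

set_option autoImplicit false
universe u v
open PtDeg

namespace Groth.Agent.S14295

theorem two_mul_T (n : ℤ) : 2 * (n * (n + 1) / 2) = n * (n + 1) :=
  Int.mul_ediv_cancel' (Int.even_mul_succ_self n).two_dvd

theorem two_mul_T' (n : ℤ) : 2 * (n * (n - 1) / 2) = n * (n - 1) := by
  have := two_mul_T (n - 1)
  rw [show (n - 1) * (n - 1 + 1) = n * (n - 1) by ring] at this
  exact this

theorem formula {A : Type u} {G : Type v} [AddCommGroup A] [AddCommGroup G]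
    (f : A → G) (hf : ∀ x y z : A, f (x + y + z) + f x + f y + f z = f (x + y) + f (x + z) + f (y + z))
    (n : ℤ) (x : A) :
    f (n • x) = (n * (n + 1) / 2) • f x + (n * (n - 1) / 2) • f (-x) := by
  have h0 : f 0 = 0 := by
    have := hf 0 0 0
    simp only [add_zero] at this
    -- f0 + f0 + f0 + f0 = f0 + f0 + f0
    have h : f 0 + (f 0 + f 0 + f 0) = 0 + (f 0 + f 0 + f 0) := by
      rw [zero_add]; convert this using 1; abel
    exact add_right_cancel h
  -- recurrence
  have hrec : ∀ m : ℤ, f ((m + 1) • x) + f ((m - 1) • x) = f (m • x) + f (m • x) + f x + f (-x) := by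
    intro m
    have := hf (m • x) x (-x)
    have e1 : m • x + x + -x = m • x := by abel
    have e2 : m • x + x = (m + 1) • x := by rw [add_smul, one_smul]
    have e3 : m • x + -x = (m - 1) • x := by rw [sub_smul, one_smul, sub_eq_add_neg]
    have e4 : x + -x = 0 := by abel
    rw [e1, e2, e3, e4, h0, add_zero] at this
    exact this.symm
  set T : ℤ → ℤ := fun n => n * (n + 1) / 2 with hT
  have hT2 : ∀ n, 2 * T n = n * (n + 1) := two_mul_T
  have key : ∀ n : ℤ, f (n • x) = T n • f x + T (n - 1) • f (-x) ∧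
      f ((n + 1) • x) = T (n + 1) • f x + T (n + 1 - 1) • f (-x) := by
    intro n
    induction n using Int.induction_on with
    | zero =>
      constructor
      · simp [hT, h0]
      · simp [hT]
    | succ k ih =>
      obtain ⟨ih1, ih2⟩ := ih
      refine ⟨ih2, ?_⟩
      have hr := hrec (k + 1)
      rw [show ((k : ℤ) + 1 - 1) = k by ring] at hr
      have : f ((k + 1 + 1 : ℤ) • x) = f ((k + 1 : ℤ) • x) + f ((k + 1 : ℤ) • x) + f x + f (-x) - f ((k : ℤ) • x) :=
        eq_sub_of_add_eq hr
      rw [this, ih1, ih2]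
      have a1 := hT2 (k + 1 + 1); have a2 := hT2 (k + 1); have a3 := hT2 k
      have a4 := hT2 (k + 1 + 1 - 1); have a5 := hT2 (k + 1 - 1); have a6 := hT2 (k - 1)
      have b1 : T (k + 1 + 1) = 2 * T (k + 1) - T k + 1 := by
        ring_nf at a1 a2 a3 ⊢; linarith
      have b2 : T (k + 1 + 1 - 1) = 2 * T (k + 1 - 1) - T (k - 1) + 1 := by
        ring_nf at a4 a5 a6 ⊢; linarith
      rw [b1, b2]
      module
    | pred k ih =>
      obtain ⟨ih1, ih2⟩ := ih
      rw [show (-(k : ℤ) - 1 + 1) = -k by ring]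
      rw [show (-(k : ℤ) + 1 - 1) = -k by ring] at ih2
      refine ⟨?_, ih1⟩
      have hr := hrec (-k)
      have : f ((-(k : ℤ) - 1) • x) = f ((-(k : ℤ)) • x) + f ((-(k : ℤ)) • x) + f x + f (-x) - f ((-(k : ℤ) + 1) • x) :=
        eq_sub_of_add_eq' hr
      rw [this, ih1, ih2]
      have a1 := hT2 (-k - 1); have a2 := hT2 (-k); have a3 := hT2 (-k + 1)
      have a4 := hT2 (-k - 1 - 1); have a5 := hT2 (-k - 1)
      have b1 : T (-(k : ℤ) - 1) = 2 * T (-k) - T (-k + 1) + 1 := by
        ring_nf at a1 a2 a3 ⊢; linarith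
      have b2 : T (-(k : ℤ) - 1 - 1) = 2 * T (-k - 1) - T (-k) + 1 := by
        ring_nf at a4 a5 a2 ⊢; linarith
      rw [b2, b1]
      module
  have := (key n).1
  rw [this]
  simp only [hT]
  congr 2
  ring_nf


/-- Let A and G be abelian groups, written additively, and f : A → G a map which is pointed of degree 2,
that is f(x+y+z) + f(x) + f(y) + f(z) = f(x+y) + f(x+z) + f(y+z) for all x, y, z in A. Then for
every integer n and every x in A one has f(n·x) = (n(n+1)/2)·f(x) + (n(n−1)/2)·f(−x) (the two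
coefficients are the integers n(n+1)/2 and n(n−1)/2). -/
theorem result {A : Type u} {G : Type v} [AddCommGroup A] [AddCommGroup G]
    (f : A → G) (hf : ∀ x y z : A, f (x + y + z) + f x + f y + f z = f (x + y) + f (x + z) + f (y + z))
    (n : ℤ) (x : A) :
    f (n • x) = (n * (n + 1) / 2) • f x + (n * (n - 1) / 2) • f (-x) := by
  exact formula f hf n x

end Groth.Agent.S14295
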