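import Groth.Statements.S14294
import Mathlib.Tactic
import Groth.Agent.S14295

set_option autoImplicit false
universe u v
open PtDeg

namespace Groth.Agent.S14294

/-- Let A and G be abelian groups, written additively, and f : A → G a map which is pointed of degree 2,
that is f(x+y+z) + f(x) + f(y) + f(z) = f(x+y) + f(x+z) + f(y+z) for all x, y, z in A. If an integer
n satisfies n·x = 0 for every x in A, then 2n·f(x) = 0 for every x in A, and if moreover n is odd
then n·f(x) = 0 for every x in A. -/
theorem result {A : Type u} {G : Type v} [AddCommGroup A] [AddCommGroup G]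
    (f : A → G) (hf : ∀ x y z : A, f (x + y + z) + f x + f y + f z = f (x + y) + f (x + z) + f (y + z))
    (n : ℤ) (hn : ∀ x : A, n • x = 0) :
    (∀ x : A, (2 * n) • f x = 0) ∧ (Odd n → ∀ x : A, n • f x = 0) := by
  have h0 : f 0 = 0 := by
    have := Groth.Agent.S14295.formula f hf 0 0
    simpa using this
  have hT := Groth.Agent.S14295.two_mul_T n
  have hT1 := Groth.Agent.S14295.two_mul_T (n + 1)
  have hT' := Groth.Agent.S14295.two_mul_T' n
  have hT'' := Groth.Agent.S14295.two_mul_T' (n + 1)
  set T := n * (n + 1) / 2 with hTdef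
  have e1 : (n + 1) * (n + 1 + 1) / 2 = T + n + 1 := by
    ring_nf at hT hT1 ⊢; linarith
  have e2 : n * (n - 1) / 2 = T - n := by
    ring_nf at hT hT' ⊢; linarith
  have e3 : (n + 1) * (n + 1 - 1) / 2 = T := by
    ring_nf at hT hT'' ⊢; linarith
  have main : ∀ x : A, n • f x + n • f (-x) = 0 ∧ T • f x + n • f x + T • f (-x) = 0 := by
    intro x
    have F1 := Groth.Agent.S14295.formula f hf n x
    have F2 := Groth.Agent.S14295.formula f hf (n + 1) x
    rw [hn x, h0, ← hTdef, e2] at F1
    rw [add_smul, hn x, one_smul, zero_add, e1, e3] at F2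
    constructor
    · linear_combination (norm := skip) F1 - F2
      module
    · linear_combination (norm := skip) - F2
      module
  constructor
  · intro x
    obtain ⟨h3, h2⟩ := main x
    linear_combination (norm := skip) (2 : ℤ) • h2 - (n + 1) • h3 - hT • (f x + f (-x))
    module
  · rintro ⟨c, hc⟩ x
    obtain ⟨h3, h2⟩ := main x
    have hTc : T = n * (c + 1) := by
      have : 2 * T = 2 * (n * (c + 1)) := by rw [hT, hc]; ring
      linarith
    linear_combination (norm := skip) h2 - (c + 1) • h3 - hTc • (f x + f (-x))
    module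

end Groth.Agent.S14294
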