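import Groth.Statements.S14296
import Mathlib.Tactic
import Groth.Agent.S14295

set_option autoImplicit false
universe u v
open PtDeg

namespace Groth.Agent.S14296

/-- Let G and H be abelian groups, written additively, n an integer such that 2n²·x = 0 for every x in
G, and d : G → H a quadratic map, meaning that d is pointed of degree 2 (d(x+y+z) + d(x) + d(y) +
d(z) = d(x+y) + d(x+z) + d(y+z) for all x, y, z) and even (d(−x) = d(x) for all x). Then d(2n·x) = 0
for every x in G. -/
theorem result {G : Type u} {H : Type v} [AddCommGroup G] [AddCommGroup H]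
    (n : ℤ) (hn : ∀ x : G, (2 * n ^ 2) • x = 0)
    (d : G → H) (hd : ∀ x y z : G, d (x + y + z) + d x + d y + d z = d (x + y) + d (x + z) + d (y + z))
    (heven : ∀ x : G, d (-x) = d x) (x : G) :
    d ((2 * n) • x) = 0 := by
  have hT := Groth.Agent.S14295.two_mul_T (2 * n)
  have hT' := Groth.Agent.S14295.two_mul_T' (2 * n)
  have F := Groth.Agent.S14295.formula d hd (2 * n) x
  rw [heven] at F
  have hsum : 2 * n * (2 * n + 1) / 2 + 2 * n * (2 * n - 1) / 2 = 4 * n ^ 2 := by
    ring_nf at hT hT' ⊢; linarith
  have F2 := Groth.Agent.S14295.formula d hd 2 x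
  rw [heven] at F2
  norm_num at F2
  have hxx : (2 : ℤ) • x = x + x := two_zsmul x
  rw [hxx] at F2
  let B : G →+ H := AddMonoidHom.mk' (fun y => d (y + x) - d y - d x) (by
    intro y1 y2
    have := hd y1 y2 x
    have e : y1 + y2 + x = y1 + y2 + x := rfl
    linear_combination (norm := skip) this
    abel)
  have hB : (2 * n ^ 2) • (d (x + x) - d x - d x) = 0 := by
    have h1 : B ((2 * n ^ 2) • x) = (2 * n ^ 2) • B x := map_zsmul B _ _
    rw [hn x, map_zero] at h1
    exact h1.symm
  rw [F, ← add_smul, hsum]
  rw [F2] at hB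
  linear_combination (norm := skip) hB
  module

end Groth.Agent.S14296
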