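import Groth.Statements.S14305
import Mathlib.Tactic

set_option autoImplicit false
universe u v
open PtDeg

namespace Groth.Agent.S14305


section helpers

variable {A : Type u} {G : Type v} [AddCommGroup A] [AddCommGroup G]

/-- alternating sum over subsets of `S`, with an offset -/
def F {ι : Type*} [DecidableEq ι] (f : A → G) (S : Finset ι) (z : ι → A) (c : A) : G :=
  ∑ I ∈ S.powerset, ((-1 : ℤ) ^ I.card) • f (c + ∑ i ∈ I, z i)

theorem F_insert {ι : Type*} [DecidableEq ι] (f : A → G) (S : Finset ι) (z : ι → A) (c : A)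
    (j : ι) (hj : j ∉ S) : F f (insert j S) z c = F f S z c - F f S z (c + z j) := by
  unfold F
  rw [Finset.sum_powerset_insert hj, sub_eq_add_neg, ← Finset.sum_neg_distrib]
  congr 1
  refine Finset.sum_congr rfl fun I hI => ?_
  have hjI : j ∉ I := fun h => hj (Finset.mem_powerset.mp hI h)
  rw [Finset.card_insert_of_notMem hjI, Finset.sum_insert hjI, pow_succ, add_assoc]
  simp

theorem F_congr {ι : Type*} [DecidableEq ι] (f : A → G) (S : Finset ι) (z z' : ι → A) (c : A)
    (h : ∀ i ∈ S, z i = z' i) : F f S z c = F f S z' c := by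
  unfold F
  refine Finset.sum_congr rfl fun I hI => ?_
  rw [Finset.sum_congr rfl (fun i hi => h i (Finset.mem_powerset.mp hI hi))]

theorem F_map {ι κ : Type*} [DecidableEq ι] [DecidableEq κ] (f : A → G) (e : ι ↪ κ)
    (S : Finset ι) (x : κ → A) (c : A) : F f (S.map e) x c = F f S (x ∘ e) c := by
  induction S using Finset.induction_on generalizing c with
  | empty => simp [F]
  | insert j S hj ih =>
    rw [Finset.map_insert, F_insert f _ _ _ _ (by simpa using hj), F_insert f _ _ _ _ hj, ih, ih]
    rfl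

theorem dev_eq (f : A → G) (n : ℕ) (y : Fin n → A) :
    ∑ I ∈ ((Finset.univ : Finset (Fin n)).powerset.erase ∅),
      ((-1 : ℤ) ^ (n + I.card)) • f (∑ i ∈ I, y i) =
      ((-1 : ℤ) ^ n) • (F f Finset.univ y 0 - f 0) := by
  rw [Finset.sum_erase_eq_sub (Finset.mem_powerset.mpr (Finset.empty_subset _))]
  simp [F, pow_add, mul_smul, Finset.smul_sum, smul_sub]

theorem F_univ_update (f : A → G) (n : ℕ) (y : Fin n → A) (j : Fin n) (c d : A) :
    F f Finset.univ (Function.update y j c) d =
      F f (Finset.univ.erase j) y d - F f (Finset.univ.erase j) y (d + c) := by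
  have h1 : (Finset.univ : Finset (Fin n)) = insert j (Finset.univ.erase j) :=
    (Finset.insert_erase (Finset.mem_univ j)).symm
  conv_lhs => rw [h1]
  rw [F_insert f _ _ _ _ (Finset.notMem_erase j _), Function.update_self]
  have h2 : ∀ i ∈ (Finset.univ.erase j : Finset (Fin n)), Function.update y j c i = y i :=
    fun i hi => Function.update_of_ne (Finset.ne_of_mem_erase hi) _ _
  rw [F_congr f _ _ _ _ h2, F_congr f _ _ _ _ h2]

theorem key (f : A → G) (n : ℕ) (y : Fin n → A) (j : Fin n) (a b : A) :
    F f Finset.univ (Function.update y j a) b =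
      F f Finset.univ (Function.update y j (a + b)) 0 - F f Finset.univ (Function.update y j b) 0 := by
  rw [F_univ_update, F_univ_update, F_univ_update, zero_add, zero_add, add_comm b a]
  abel

theorem F_succ (f : A → G) (n : ℕ) (x : Fin (n + 1) → A) :
    F f Finset.univ x 0 = F f Finset.univ (fun i : Fin n => x i.castSucc) 0 -
      F f Finset.univ (fun i : Fin n => x i.castSucc) (x (Fin.last n)) := by
  have h1 : (Finset.univ : Finset (Fin (n + 1))) =
      insert (Fin.last n) ((Finset.univ : Finset (Fin n)).map Fin.castSuccEmb) := by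
    rw [Fin.univ_castSuccEmb, Finset.cons_eq_insert]
  have h2 : Fin.last n ∉ (Finset.univ : Finset (Fin n)).map Fin.castSuccEmb := by
    simp
  conv_lhs => rw [h1]
  rw [F_insert f _ _ _ _ h2, F_map, F_map, zero_add]
  rfl

theorem neg_one_pow_smul_eq_zero (n : ℕ) (g : G) : ((-1 : ℤ) ^ n) • g = 0 ↔ g = 0 := by
  rcases neg_one_pow_eq_or ℤ n with h | h <;> simp [h]

theorem neg_one_pow_smul_inj (n : ℕ) (g g' : G) :
    ((-1 : ℤ) ^ n) • g = ((-1 : ℤ) ^ n) • g' ↔ g = g' := by
  rw [← sub_eq_zero, ← smul_sub, neg_one_pow_smul_eq_zero, sub_eq_zero]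

end helpers


/-- Let A and G be abelian groups, written additively, f : A → G a map and n ≥ 1. For k ≥ 0 the k-th
deviation of f is the map A^k → G, (y_1, …, y_k) ↦ Σ_{∅ ≠ I ⊆ {1,…,k}} (−1)^{k+|I|} f(Σ_{i ∈ I}
y_i). Then f is pointed of degree n, meaning that its (n+1)-st deviation vanishes identically, if
and only if its n-th deviation is additive in each variable separately (with the other variables
fixed). -/
theorem result {A : Type u} {G : Type v} [AddCommGroup A] [AddCommGroup G]
    (f : A → G) (n : ℕ) (hn : 1 ≤ n) :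
    (∀ x : Fin (n + 1) → A, ∑ I ∈ ((Finset.univ : Finset (Fin (n + 1))).powerset.erase ∅), ((-1 : ℤ) ^ (n + 1 + I.card)) • f (∑ i ∈ I, x i) = 0) ↔
      (∀ (j : Fin n) (y : Fin n → A) (a b : A),
        ∑ I ∈ ((Finset.univ : Finset (Fin n)).powerset.erase ∅), ((-1 : ℤ) ^ (n + I.card)) • f (∑ i ∈ I, (Function.update y j (a + b)) i) =
          ∑ I ∈ ((Finset.univ : Finset (Fin n)).powerset.erase ∅), ((-1 : ℤ) ^ (n + I.card)) • f (∑ i ∈ I, (Function.update y j a) i) + ∑ I ∈ ((Finset.univ : Finset (Fin n)).powerset.erase ∅), ((-1 : ℤ) ^ (n + I.card)) • f (∑ i ∈ I, (Function.update y j b) i)) := by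
  simp only [dev_eq, neg_one_pow_smul_eq_zero, ← smul_add]
  constructor
  · intro h j y a b
    have h1 := h (Fin.snoc (Function.update y j a) b)
    rw [F_succ] at h1
    simp only [Fin.snoc_castSucc, Fin.snoc_last] at h1
    rw [key f n y j a b] at h1
    congr 1
    linear_combination (norm := skip) -h1
    abel
  · intro h x
    rw [F_succ]
    set y : Fin n → A := fun i => x i.castSucc with hy
    have h1 := h ⟨0, hn⟩ y (y ⟨0, hn⟩) (x (Fin.last n))
    rw [neg_one_pow_smul_inj, Function.update_eq_self] at h1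
    have h2 := key f n y ⟨0, hn⟩ (y ⟨0, hn⟩) (x (Fin.last n))
    rw [Function.update_eq_self] at h2
    rw [h2]
    linear_combination (norm := skip) -h1
    abel

end Groth.Agent.S14305
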