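import Groth.Statements.S14297
import Mathlib
import Groth.Agent.S14305
-- import your own Groth.Agent.* helpers here

set_option autoImplicit false
universe u
open MeasureTheory
open PtDeg

namespace Groth.Agent.S14297

open MeasureTheory Filter Topology

section
variable {G : Type u} [TopologicalSpace G] [CompactSpace G] [T2Space G]
  [MeasurableSpace G] [BorelSpace G]

/-- continuous functions on a finite power of a compact Hausdorff space are measurable for the
product sigma-algebra -/
theorem measurable_of_continuous_pi {ι : Type} [Fintype ι] (f : C(ι → G, ℝ)) :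
    Measurable (f : (ι → G) → ℝ) := by
  classical
  let S : Set C(ι → G, ℝ) :=
    {f | ∃ (i : ι) (a : C(G, ℝ)), f = a.comp ⟨fun x => x i, continuous_apply i⟩}
  let A : Subalgebra ℝ C(ι → G, ℝ) := Algebra.adjoin ℝ S
  have hsep : A.SeparatesPoints := by
    intro x y hxy
    obtain ⟨i, hi⟩ : ∃ i, x i ≠ y i := by
      by_contra hcon; push Not at hcon; exact hxy (funext hcon)
    obtain ⟨a, ha0, ha1, -⟩ := exists_continuous_zero_one_of_isClosed
      (isClosed_singleton (x := x i)) (isClosed_singleton (x := y i))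
      (Set.disjoint_singleton.mpr hi)
    refine ⟨_, ⟨a.comp ⟨fun x => x i, continuous_apply i⟩,
      Algebra.subset_adjoin ⟨i, a, rfl⟩, rfl⟩, ?_⟩
    have h0 : a (x i) = 0 := ha0 (Set.mem_singleton _)
    have h1 : a (y i) = 1 := ha1 (Set.mem_singleton _)
    simp [h0, h1]
  have hA : ∀ g ∈ A, Measurable (g : (ι → G) → ℝ) := by
    intro g hg
    induction hg using Algebra.adjoin_induction with
    | mem g hg =>
      obtain ⟨i, a, rfl⟩ := hg
      exact a.continuous.measurable.comp (measurable_pi_apply i)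
    | algebraMap r => exact measurable_const
    | add g₁ g₂ _ _ h₁ h₂ => exact h₁.add h₂
    | mul g₁ g₂ _ _ h₁ h₂ => exact h₁.mul h₂
  have hcl := ContinuousMap.subalgebra_topologicalClosure_eq_top_of_separatesPoints A hsep
  have hf : f ∈ A.topologicalClosure := by rw [hcl]; trivial
  rw [← SetLike.mem_coe, Subalgebra.topologicalClosure_coe, mem_closure_iff_seq_limit] at hf
  obtain ⟨s, hs, hlim⟩ := hf
  refine measurable_of_tendsto_metrizable (f := fun n => (s n : (ι → G) → ℝ))
    (fun n => hA _ (hs n)) ?_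
  rw [tendsto_pi_nhds]
  intro p
  exact ((continuous_eval_const p).tendsto f).comp hlim


theorem integrable_of_continuous_pi {ι : Type} [Fintype ι] (ν : Measure (ι → G)) [IsFiniteMeasure ν]
    (f : C(ι → G, ℝ)) : Integrable f ν :=
  Integrable.of_bound (measurable_of_continuous_pi f).aestronglyMeasurable ‖f‖
    (Filter.Eventually.of_forall fun x => f.norm_coe_le_norm x)

omit [T2Space G] in
theorem integrable_of_continuous (ν : Measure G) [IsFiniteMeasure ν]
    (f : C(G, ℝ)) : Integrable f ν :=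
  Integrable.of_bound f.continuous.measurable.aestronglyMeasurable ‖f‖
    (Filter.Eventually.of_forall fun x => f.norm_coe_le_norm x)

theorem continuous_param_integral {X K : Type*} [TopologicalSpace X] [TopologicalSpace K]
    [CompactSpace K] [MeasurableSpace K] (ν : Measure K) [IsFiniteMeasure ν]
    (hmeas : ∀ f : C(K, ℝ), AEStronglyMeasurable f ν) (F : C(X × K, ℝ)) :
    Continuous fun x => ∫ k, F (x, k) ∂ν := by
  have hint : ∀ f : C(K, ℝ), Integrable f ν := fun f =>
    Integrable.of_bound (hmeas f) ‖f‖ (Eventually.of_forall f.norm_coe_le_norm)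
  have hI : LipschitzWith (ν.real Set.univ).toNNReal (fun f : C(K, ℝ) => ∫ k, f k ∂ν) := by
    refine LipschitzWith.of_dist_le_mul fun f g => ?_
    rw [dist_eq_norm, dist_eq_norm, ← integral_sub (hint f) (hint g)]
    rw [Real.coe_toNNReal _ measureReal_nonneg, mul_comm]
    exact norm_integral_le_of_norm_le_const
      (Eventually.of_forall fun k => (f - g).norm_coe_le_norm k)
  exact hI.continuous.comp F.curry.continuous

variable (μ : Measure G) [IsProbabilityMeasure μ]

theorem integral_pi_insertNth (n : ℕ) (j : Fin (n + 1)) (F : C(Fin (n + 1) → G, ℝ)) :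
    ∫ x, F x ∂(Measure.pi fun _ : Fin (n + 1) => μ)
      = ∫ v, ∫ a, F (j.insertNth a v) ∂μ ∂(Measure.pi fun _ : Fin n => μ) := by
  have hmp := (measurePreserving_piFinSuccAbove (fun _ : Fin (n + 1) => μ) j).symm
  rw [← hmp.integral_comp']
  rw [integral_prod_symm]
  · rfl
  · exact (hmp.integrable_comp_emb (MeasurableEquiv.measurableEmbedding _)).mpr
      (integrable_of_continuous_pi _ F)


variable [AddCommGroup G] [IsTopologicalAddGroup G] [μ.IsAddHaarMeasure]

def Cocycle (n : ℕ) (ψ : (Fin (n + 1) → G) → ℝ) : Prop :=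
  ∀ (i j : Fin (n + 1)), i ≠ j → ∀ (x : Fin (n + 1) → G) (a b c : G),
    ψ (Function.update (Function.update x i (a + b)) j c) + ψ (Function.update (Function.update x i a) j b) =
      ψ (Function.update (Function.update x i a) j (b + c)) + ψ (Function.update (Function.update x i b) j c)

noncomputable def Phi (n : ℕ) (ψ : (Fin (n + 1) → G) → ℝ) (g : G) : ℝ :=
  (-1 : ℝ) ^ n * ∫ u, ψ (Fin.cons g u) ∂(Measure.pi fun _ : Fin n => μ)

def Dev (n : ℕ) (φ : G → ℝ) (x : Fin n → G) : ℝ :=
  ∑ I ∈ ((Finset.univ : Finset (Fin n)).powerset.erase ∅), (-1 : ℝ) ^ (n + I.card) * φ (∑ i ∈ I, x i)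

omit [TopologicalSpace G] [CompactSpace G] [T2Space G] [MeasurableSpace G] [BorelSpace G]
  [IsTopologicalAddGroup G] in
theorem Dev_eq (n : ℕ) (φ : G → ℝ) (x : Fin n → G) :
    Dev n φ x = (-1 : ℝ) ^ n * (Groth.Agent.S14305.F φ Finset.univ x 0 - φ 0) := by
  have := Groth.Agent.S14305.dev_eq φ n x
  unfold Dev
  simp only [zsmul_eq_mul, Int.cast_pow, Int.cast_neg, Int.cast_one] at this
  exact this

omit [TopologicalSpace G] [CompactSpace G] [T2Space G] [MeasurableSpace G] [BorelSpace G]
  [IsTopologicalAddGroup G] in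
theorem Dev_succ (n : ℕ) (φ : G → ℝ) (x : Fin (n + 2) → G) :
    Dev (n + 2) φ x =
      Dev (n + 1) φ (Function.update (Fin.init x) 0 (x 0 + x (Fin.last _)))
      - Dev (n + 1) φ (Fin.init x)
      - Dev (n + 1) φ (Function.update (Fin.init x) 0 (x (Fin.last _))) := by
  rw [Dev_eq, Dev_eq, Dev_eq, Dev_eq, Groth.Agent.S14305.F_succ]
  have hk := Groth.Agent.S14305.key φ (n + 1) (Fin.init x) 0 (Fin.init x 0) (x (Fin.last _))
  rw [Function.update_eq_self] at hk
  have hi : (fun i : Fin (n + 1) => x i.castSucc) = Fin.init x := rfl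
  rw [hi, hk]
  have h0 : Fin.init x 0 = x 0 := rfl
  rw [h0]
  ring


/-- continuity of snoc-composition -/
noncomputable def snocMap (n : ℕ) (ψ : C(Fin (n + 2) → G, ℝ)) : C((Fin (n + 1) → G) × G, ℝ) :=
  ψ.comp ⟨fun p => Fin.snoc (α := fun _ => G) p.1 p.2, Continuous.finSnoc continuous_fst continuous_snd⟩

noncomputable def consMap (n : ℕ) (ψ : C(Fin (n + 1) → G, ℝ)) : C(G × (Fin n → G), ℝ) :=
  ψ.comp ⟨fun p => Fin.cons (α := fun _ => G) p.1 p.2, Continuous.finCons continuous_fst continuous_snd⟩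

/-- integrate out the last variable (with a sign) -/
noncomputable def hLast (n : ℕ) (ψ : (Fin (n + 2) → G) → ℝ) (y : Fin (n + 1) → G) : ℝ :=
  - ∫ c, ψ (Fin.snoc (α := fun _ => G) y c) ∂μ

omit [T2Space G] [IsProbabilityMeasure μ] [AddCommGroup G] [IsTopologicalAddGroup G] [μ.IsAddHaarMeasure] in
theorem hLast_continuous [IsFiniteMeasure μ] (n : ℕ) (ψ : C(Fin (n + 2) → G, ℝ)) :
    Continuous (hLast μ n ψ) := by
  have := continuous_param_integral μ (fun f => f.continuous.measurable.aestronglyMeasurable)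
    (snocMap n ψ)
  exact this.neg

theorem integrable_snoc (n : ℕ) (ψ : C(Fin (n + 2) → G, ℝ)) (y : Fin (n + 1) → G) :
    Integrable (fun c => ψ (Fin.snoc (α := fun _ => G) y c)) μ :=
  integrable_of_continuous μ ((snocMap n ψ).comp ⟨fun c => (y, c), by fun_prop⟩)

theorem hLast_cocycle (n : ℕ) (ψ : C(Fin (n + 2) → G, ℝ)) (hψ : Cocycle (n + 1) ψ) :
    Cocycle n (hLast μ n ψ) := by
  intro i j hij x a b c
  unfold hLast
  rw [← neg_add, ← neg_add, neg_inj, ← integral_add (integrable_snoc μ n ψ _) (integrable_snoc μ n ψ _),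
    ← integral_add (integrable_snoc μ n ψ _) (integrable_snoc μ n ψ _)]
  congr 1
  funext t
  simp only [Fin.snoc_update]
  exact hψ i.castSucc j.castSucc (fun h => hij (Fin.castSucc_injective _ h)) (Fin.snoc x t) a b c

theorem psi_eq_hLast (n : ℕ) (ψ : C(Fin (n + 2) → G, ℝ)) (hψ : Cocycle (n + 1) ψ)
    (x : Fin (n + 2) → G) :
    ψ x = hLast μ n ψ (Function.update (Fin.init x) 0 (x 0 + x (Fin.last _)))
      - hLast μ n ψ (Fin.init x)
      - hLast μ n ψ (Function.update (Fin.init x) 0 (x (Fin.last _))) := by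
  obtain ⟨y, hy⟩ : ∃ y, y = Fin.init x := ⟨_, rfl⟩
  obtain ⟨b, hb⟩ : ∃ b, b = x (Fin.last _) := ⟨_, rfl⟩
  have hx : x = Fin.snoc (α := fun _ => G) y b := by rw [hy, hb, Fin.snoc_init_self]
  have h0 : x 0 = y 0 := by rw [hy]; rfl
  rw [← hy, ← hb, h0]
  have hne : (0 : Fin (n + 2)) ≠ Fin.last (n + 1) := by
    intro h; have := congrArg Fin.val h; simp at this
  have key : ∀ c : G, ψ (Fin.snoc (α := fun _ => G) (Function.update y 0 (y 0 + b)) c)
      + ψ (Fin.snoc (α := fun _ => G) y b)
      = ψ (Fin.snoc (α := fun _ => G) y (b + c))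
        + ψ (Fin.snoc (α := fun _ => G) (Function.update y 0 b) c) := by
    intro c
    have := hψ 0 (Fin.last _) hne (Fin.snoc (α := fun _ => G) y 0) (y 0) b c
    rw [← Fin.castSucc_zero, ← Fin.snoc_update, ← Fin.snoc_update, ← Fin.snoc_update,
      Fin.update_snoc_last, Fin.update_snoc_last, Fin.update_snoc_last, Fin.update_snoc_last,
      Function.update_eq_self] at this
    exact this
  have hint := congrArg (fun f : G → ℝ => ∫ c, f c ∂μ) (funext key)
  rw [integral_add (integrable_snoc μ n ψ _) (integrable_const _),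
    integral_add ((integrable_snoc μ n ψ y).comp_add_left b) (integrable_snoc μ n ψ _),
    integral_const, integral_add_left_eq_self (μ := μ) (fun c => ψ (Fin.snoc (α := fun _ => G) y c)) b] at hint
  simp only [probReal_univ, one_smul] at hint
  unfold hLast
  rw [hx]
  linarith


theorem Phi_hLast (n : ℕ) (ψ : C(Fin (n + 2) → G, ℝ)) (g : G) :
    Phi μ n (hLast μ n ψ) g = Phi μ (n + 1) ψ g := by
  unfold Phi hLast
  have := integral_pi_insertNth μ n (Fin.last n)
    ((consMap (n + 1) ψ).comp ⟨fun w => (g, w), by fun_prop⟩)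
  simp only [consMap, ContinuousMap.comp_apply, ContinuousMap.coe_mk] at this
  rw [this, integral_neg, pow_succ]
  simp only [Fin.insertNth_last', Fin.cons_snoc_eq_snoc_cons]
  ring

omit [TopologicalSpace G] [CompactSpace G] [T2Space G] [MeasurableSpace G] [BorelSpace G]
  [IsTopologicalAddGroup G] in
theorem Dev_one (φ : G → ℝ) (x : Fin 1 → G) : Dev 1 φ x = φ (x 0) := by
  unfold Dev
  have : (Finset.univ : Finset (Fin 1)).powerset.erase ∅ = {{0}} := by decide
  rw [this, Finset.sum_singleton]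
  simp

theorem Phi_zero (ψ : (Fin 1 → G) → ℝ) (x : Fin 1 → G) : Phi μ 0 ψ (x 0) = ψ x := by
  unfold Phi
  rw [integral_unique]
  simp only [pow_zero, one_mul, probReal_univ, one_smul]
  congr 1
  funext i
  have : i = 0 := Fin.ext (by have := i.isLt; simp only [Fin.val_zero]; omega)
  subst this
  simp

theorem main_id : ∀ (n : ℕ) (ψ : C(Fin (n + 1) → G, ℝ)), Cocycle n ψ →
    ∀ x, ψ x = Dev (n + 1) (Phi μ n ψ) x
  | 0 => fun ψ _ x => by rw [Dev_one, Phi_zero]
  | n + 1 => fun ψ hψ x => by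
    have IH := main_id n ⟨hLast μ n ψ, hLast_continuous μ n ψ⟩ (hLast_cocycle μ n ψ hψ)
    simp only [ContinuousMap.coe_mk] at IH
    have hPhi : Phi μ n (hLast μ n ψ) = Phi μ (n + 1) ψ := funext (Phi_hLast μ n ψ)
    rw [hPhi] at IH
    rw [psi_eq_hLast μ n ψ hψ x, Dev_succ, IH, IH, IH]

theorem Phi_continuous (n : ℕ) (ψ : C(Fin (n + 1) → G, ℝ)) : Continuous (Phi μ n ψ) := by
  have := continuous_param_integral (Measure.pi fun _ : Fin n => μ)
    (fun f => (measurable_of_continuous_pi f).aestronglyMeasurable) (consMap n ψ)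
  exact continuous_const.mul this


omit [TopologicalSpace G] [CompactSpace G] [T2Space G] [MeasurableSpace G] [BorelSpace G]
  [IsTopologicalAddGroup G] in
theorem cons_insertNth_indep (n : ℕ) (g : G) (j : Fin (n + 1)) (a a' : G) (v : Fin n → G)
    (i : Fin (n + 2)) (hi : i ≠ j.succ) :
    (Fin.cons g (j.insertNth a v : Fin (n + 1) → G) : Fin (n + 2) → G) i
      = (Fin.cons g (j.insertNth a' v : Fin (n + 1) → G) : Fin (n + 2) → G) i := by
  induction i using Fin.cases with
  | zero => simp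
  | succ i' =>
    have hne : i' ≠ j := fun h => hi (by rw [h])
    obtain ⟨l, rfl⟩ := Fin.exists_succAbove_eq hne
    simp [Fin.insertNth_apply_succAbove]

/-- the integral of `φ' (∑ i ∈ I, (cons g u) i)` when `I` contains a successor index -/
theorem integral_sum_succ (n : ℕ) (φ' : C(G, ℝ)) (g : G) (I : Finset (Fin (n + 1)))
    (j : Fin n) (hj : j.succ ∈ I) :
    ∫ u, φ' (∑ i ∈ I, (Fin.cons g u : Fin (n + 1) → G) i) ∂(Measure.pi fun _ : Fin n => μ)
      = ∫ a, φ' a ∂μ := by
  obtain ⟨n', rfl⟩ : ∃ n', n = n' + 1 := ⟨n - 1, by have := j.isLt; omega⟩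
  have hcont : Continuous fun u : Fin (n' + 1) → G =>
      φ' (∑ i ∈ I, (Fin.cons g u : Fin (n' + 2) → G) i) := by
    have hc : Continuous (fun u : Fin (n' + 1) → G => (Fin.cons g u : Fin (n' + 2) → G)) :=
      Continuous.finCons continuous_const continuous_id
    refine φ'.continuous.comp (continuous_finset_sum _ fun i _ => ?_)
    exact (continuous_apply i).comp hc
  have := integral_pi_insertNth μ n' j ⟨_, hcont⟩
  simp only [ContinuousMap.coe_mk] at this
  rw [this]
  have inner : ∀ v : Fin n' → G,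
      ∫ a, φ' (∑ i ∈ I, (Fin.cons g (j.insertNth a v : Fin (n' + 1) → G) : Fin (n' + 2) → G) i) ∂μ
        = ∫ a, φ' a ∂μ := by
    intro v
    have h1 : ∀ a : G, ∑ i ∈ I, (Fin.cons g (j.insertNth a v : Fin (n' + 1) → G) : Fin (n' + 2) → G) i
        = a + ∑ i ∈ I.erase j.succ,
          (Fin.cons g (j.insertNth (0 : G) v : Fin (n' + 1) → G) : Fin (n' + 2) → G) i := by
      intro a
      rw [← Finset.add_sum_erase _ _ hj]
      congr 1
      · simp
      · refine Finset.sum_congr rfl fun i hi => ?_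
        exact cons_insertNth_indep n' g j a 0 v i (Finset.ne_of_mem_erase hi)
    simp only [h1]
    exact integral_add_right_eq_self (μ := μ) (fun a => φ' a) _
  simp only [inner]
  rw [integral_const, probReal_univ, one_smul]


theorem uniq (n : ℕ) (ψ : C(Fin (n + 1) → G, ℝ)) (φ' : C(G, ℝ))
    (h : ∀ x, ψ x = Dev (n + 1) φ' x) (g : G) : Phi μ n ψ g = φ' g := by
  classical
  obtain ⟨c, hc⟩ : ∃ c, c = ∫ a, φ' a ∂μ := ⟨_, rfl⟩
  have hJ : ∀ I ∈ ((Finset.univ : Finset (Fin (n + 1))).powerset.erase ∅),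
      ∫ u, φ' (∑ i ∈ I, (Fin.cons g u : Fin (n + 1) → G) i) ∂(Measure.pi fun _ : Fin n => μ)
        = c + (if I = {0} then φ' g - c else 0) := by
    intro I hI
    have hI0 : I ≠ ∅ := (Finset.mem_erase.mp hI).1
    by_cases hI1 : I = {0}
    · rw [if_pos hI1, hI1]
      simp only [Finset.sum_singleton, Fin.cons_zero]
      rw [integral_const, probReal_univ, one_smul]; ring
    · rw [if_neg hI1, add_zero, hc]
      obtain ⟨j, hjI, hj0⟩ : ∃ j ∈ I, j ≠ 0 := by
        by_contra hcon
        push Not at hcon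
        apply hI1
        ext i
        simp only [Finset.mem_singleton]
        constructor
        · intro hi; exact hcon i hi
        · rintro rfl
          obtain ⟨i, hi⟩ := Finset.nonempty_iff_ne_empty.mpr hI0
          rw [← hcon i hi]; exact hi
      obtain ⟨j', rfl⟩ := Fin.exists_succ_eq.mpr hj0
      exact integral_sum_succ μ n φ' g I j' hjI
  have hint : ∀ I ∈ ((Finset.univ : Finset (Fin (n + 1))).powerset.erase ∅),
      Integrable (fun u : Fin n → G => (-1 : ℝ) ^ (n + 1 + I.card) *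
        φ' (∑ i ∈ I, (Fin.cons g u : Fin (n + 1) → G) i)) (Measure.pi fun _ : Fin n => μ) := by
    intro I _
    have hc' : Continuous (fun u : Fin n → G => (Fin.cons g u : Fin (n + 1) → G)) :=
      Continuous.finCons continuous_const continuous_id
    have hcont : Continuous fun u : Fin n → G => (-1 : ℝ) ^ (n + 1 + I.card) *
        φ' (∑ i ∈ I, (Fin.cons g u : Fin (n + 1) → G) i) :=
      continuous_const.mul (φ'.continuous.comp (continuous_finset_sum _ fun i _ =>
        (continuous_apply i).comp hc'))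
    exact integrable_of_continuous_pi _ ⟨_, hcont⟩
  unfold Phi
  simp only [h, Dev]
  rw [integral_finset_sum _ hint]
  simp only [integral_const_mul]
  rw [Finset.sum_congr rfl (fun I hI => by rw [hJ I hI])]
  simp only [mul_add, Finset.sum_add_distrib]
  have h0mem : ({0} : Finset (Fin (n + 1))) ∈ (Finset.univ : Finset (Fin (n + 1))).powerset.erase ∅ := by
    simp
  have hsumZ : (∑ I ∈ (Finset.univ : Finset (Fin (n + 1))).powerset, (-1 : ℤ) ^ I.card) = 0 :=
    Finset.sum_powerset_neg_one_pow_card_of_nonempty Finset.univ_nonempty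
  have hsumR : (∑ I ∈ (Finset.univ : Finset (Fin (n + 1))).powerset, (-1 : ℝ) ^ I.card) = 0 := by
    have := congrArg (Int.cast : ℤ → ℝ) hsumZ
    push_cast at this
    exact this
  have hsum' : (∑ I ∈ (Finset.univ : Finset (Fin (n + 1))).powerset.erase ∅,
      (-1 : ℝ) ^ (n + 1 + I.card)) = (-1 : ℝ) ^ (n + 1) * (0 - 1) := by
    simp only [pow_add _ (n + 1), ← Finset.mul_sum]
    rw [Finset.sum_erase_eq_sub (Finset.empty_mem_powerset _), hsumR]
    simp
  have hA : (∑ I ∈ (Finset.univ : Finset (Fin (n + 1))).powerset.erase ∅,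
      (-1 : ℝ) ^ (n + 1 + I.card) * c) = ((-1 : ℝ) ^ (n + 1) * (0 - 1)) * c := by
    rw [← Finset.sum_mul, hsum']
  have hB : (∑ I ∈ (Finset.univ : Finset (Fin (n + 1))).powerset.erase ∅,
      (-1 : ℝ) ^ (n + 1 + I.card) * (if I = {0} then φ' g - c else 0))
        = (-1 : ℝ) ^ (n + 1 + 1) * (φ' g - c) := by
    rw [Finset.sum_eq_single_of_mem {0} h0mem (fun I _ hI => by rw [if_neg hI, mul_zero]),
      if_pos rfl, Finset.card_singleton]
  rw [hA, hB]
  have hs : ((-1 : ℝ) ^ n) * ((-1 : ℝ) ^ n) = 1 := by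
    rw [← pow_add, ← two_mul, pow_mul]; simp
  simp only [pow_succ]
  linear_combination (φ' g) * hs


end

/-- Let G be a compact Hausdorff commutative topological group, written additively, μ its Haar measure
of total mass 1, m ≥ 1 an integer and ψ : G^{m+1} → ℝ a continuous function which is a 2-cocycle
with respect to every pair of variables: for all positions i ≠ j, every point x of G^{m+1} and all
a, b, c in G, writing x[i ↦ a, j ↦ c] for x with its i-th coordinate replaced by a and its j-th by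
c, one has ψ(x[i ↦ a+b, j ↦ c]) + ψ(x[i ↦ a, j ↦ b]) = ψ(x[i ↦ a, j ↦ b+c]) + ψ(x[i ↦ b, j ↦ c]).
Let φ : G → ℝ be φ(g) = (−1)^m ∫_{G^m} ψ(g, u_1, …, u_m) dμ^{⊗m}(u). Then ψ is the (m+1)-st
deviation of φ, namely ψ(x) = Σ_{∅ ≠ I ⊆ {0,…,m}} (−1)^{m+1+|I|} φ(Σ_{i ∈ I} x_i) for every x; φ is
continuous; and φ is the unique continuous function G → ℝ with this property. -/
theorem result {G : Type u} [AddCommGroup G] [TopologicalSpace G] [IsTopologicalAddGroup G] [CompactSpace G] [T2Space G]
    [MeasurableSpace G] [BorelSpace G] (μ : MeasureTheory.Measure G) [μ.IsAddHaarMeasure] [MeasureTheory.IsProbabilityMeasure μ]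
    (m : ℕ) (hm : 1 ≤ m) (ψ : (Fin (m + 1) → G) → ℝ) (hψc : Continuous ψ)
    (hψ : ∀ (i j : Fin (m + 1)), i ≠ j → ∀ (x : Fin (m + 1) → G) (a b c : G),
      ψ (Function.update (Function.update x i (a + b)) j c) + ψ (Function.update (Function.update x i a) j b) =
        ψ (Function.update (Function.update x i a) j (b + c)) + ψ (Function.update (Function.update x i b) j c)) :
    (∀ x : Fin (m + 1) → G,
      ψ x = ∑ I ∈ ((Finset.univ : Finset (Fin (m + 1))).powerset.erase ∅),
        (-1 : ℝ) ^ (m + 1 + I.card) * ((-1 : ℝ) ^ m *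
          ∫ u, ψ (Fin.cons (∑ i ∈ I, x i) u) ∂(MeasureTheory.Measure.pi (fun _ : Fin m => μ)))) ∧
    Continuous (fun g : G => (-1 : ℝ) ^ m * ∫ u, ψ (Fin.cons g u) ∂(MeasureTheory.Measure.pi (fun _ : Fin m => μ))) ∧
    (∀ φ : G → ℝ, Continuous φ → (∀ x : Fin (m + 1) → G,
      ψ x = ∑ I ∈ ((Finset.univ : Finset (Fin (m + 1))).powerset.erase ∅), (-1 : ℝ) ^ (m + 1 + I.card) * φ (∑ i ∈ I, x i)) →
      φ = fun g => (-1 : ℝ) ^ m * ∫ u, ψ (Fin.cons g u) ∂(MeasureTheory.Measure.pi (fun _ : Fin m => μ))) := by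
  have hcoc : Cocycle m (⟨ψ, hψc⟩ : C(Fin (m + 1) → G, ℝ)) := hψ
  refine ⟨?_, ?_, ?_⟩
  · intro x
    exact main_id μ m ⟨ψ, hψc⟩ hcoc x
  · exact Phi_continuous μ m ⟨ψ, hψc⟩
  · intro φ hφ hdev
    funext g
    exact (uniq μ m ⟨ψ, hψc⟩ ⟨φ, hφ⟩ hdev g).symm
  

end Groth.Agent.S14297
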