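import Groth.Statements.S14307
import Mathlib.Tactic
import Mathlib.Algebra.BigOperators.Group.Finset.Basic
import Mathlib.Order.SymmDiff
import Mathlib.Data.Finset.SymmDiff

set_option autoImplicit false
universe u v
open PtDeg

namespace Groth.Agent.S14307

theorem dev_zero {A : Type u} {G : Type v} [AddCommGroup A] [AddCommGroup G]
    (f : A → G) (n : ℕ) (x : Fin n → A) (i : Fin n) (hx : x i = 0) :
    ∑ I ∈ ((Finset.univ : Finset (Fin n)).powerset.erase ∅), ((-1 : ℤ) ^ (n + I.card)) • f (∑ j ∈ I, x j) =
      ((-1 : ℤ) ^ (n + 1)) • f 0 := by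
  classical
  have hall : ∑ I ∈ (Finset.univ : Finset (Fin n)).powerset, ((-1 : ℤ) ^ (n + I.card)) • f (∑ j ∈ I, x j) = 0 := by
    refine Finset.sum_involution (fun I _ => symmDiff I {i}) ?_ ?_ ?_ ?_
    · intro I _
      by_cases hi : i ∈ I
      · have h1 : symmDiff I {i} = I.erase i := by
          ext j; simp [Finset.mem_symmDiff]; constructor
          · rintro (⟨h1, h2⟩ | ⟨h1, h2⟩)
            · exact ⟨h2, h1⟩
            · subst h1; exact absurd hi h2
          · rintro ⟨h1, h2⟩; exact Or.inl ⟨h2, h1⟩
        rw [h1]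
        have hs : ∑ j ∈ I, x j = ∑ j ∈ I.erase i, x j := by
          rw [← Finset.add_sum_erase I x hi, hx, zero_add]
        have hc : I.card = (I.erase i).card + 1 := (Finset.card_erase_add_one hi).symm
        rw [hs, hc, ← add_assoc, pow_succ]
        simp
      · have h1 : symmDiff I {i} = insert i I := by
          ext j; simp [Finset.mem_symmDiff]; constructor
          · rintro (⟨h1, h2⟩ | ⟨h1, h2⟩)
            · exact Or.inr h1
            · exact Or.inl h1
          · rintro (h1 | h1)
            · subst h1; exact Or.inr ⟨rfl, hi⟩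
            · refine Or.inl ⟨h1, ?_⟩; rintro rfl; exact hi h1
        rw [h1]
        have hs : ∑ j ∈ insert i I, x j = ∑ j ∈ I, x j := by
          rw [Finset.sum_insert hi, hx, zero_add]
        have hc : (insert i I).card = I.card + 1 := Finset.card_insert_of_notMem hi
        rw [hs, hc, ← add_assoc, pow_succ]
        simp
    · intro I _ _
      intro h
      have : i ∈ symmDiff I {i} ↔ i ∈ I := by rw [h]
      simp [Finset.mem_symmDiff] at this
    · intro I _
      exact Finset.mem_powerset.mpr (Finset.subset_univ _)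
    · intro I _
      simp [symmDiff_symmDiff_cancel_right]
  rw [← Finset.sum_erase_add _ _ (Finset.mem_powerset.mpr (Finset.empty_subset _))] at hall
  simp only [Finset.card_empty, add_zero, Finset.sum_empty] at hall
  rw [pow_succ]
  rw [eq_neg_of_add_eq_zero_left hall]
  simp


/-- Let A and G be abelian groups, written additively, f : A → G a map and n ≥ 1. If a tuple x ∈ A^n has
some coordinate equal to 0, then the n-th deviation of f at x, namely Σ_{∅ ≠ I ⊆ {1,…,n}}
(−1)^{n+|I|} f(Σ_{i ∈ I} x_i), equals (−1)^{n+1} f(0). -/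
theorem result {A : Type u} {G : Type v} [AddCommGroup A] [AddCommGroup G]
    (f : A → G) (n : ℕ) (hn : 1 ≤ n) (x : Fin n → A) (i : Fin n) (hx : x i = 0) :
    ∑ I ∈ ((Finset.univ : Finset (Fin n)).powerset.erase ∅), ((-1 : ℤ) ^ (n + I.card)) • f (∑ j ∈ I, x j) =
      ((-1 : ℤ) ^ (n + 1)) • f 0 := by
  exact dev_zero f n x i hx

end Groth.Agent.S14307
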