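import Groth.Statements.S14309
-- import your own Groth.Agent.* helpers here

set_option autoImplicit false
universe u v w x y
open CAlg

namespace Groth.Agent.S14309

theorem exists_decomp {R : Type u} [CommRing R] {σ : Type y} (F : MvPolynomial (Option σ) R) :
    ∃ (F0 : MvPolynomial σ R) (F1 : MvPolynomial (Option σ) R),
      F = MvPolynomial.rename (Option.some : σ → Option σ) F0 + MvPolynomial.X none * F1 := by
  induction F using MvPolynomial.induction_on with
  | C a => exact ⟨MvPolynomial.C a, 0, by simp⟩
  | add p q hp hq =>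
    obtain ⟨p0, p1, rfl⟩ := hp
    obtain ⟨q0, q1, rfl⟩ := hq
    exact ⟨p0 + q0, p1 + q1, by rw [map_add]; ring⟩
  | mul_X p n hp =>
    obtain ⟨p0, p1, rfl⟩ := hp
    cases n with
    | none =>
      exact ⟨0, MvPolynomial.rename (Option.some : σ → Option σ) p0 + MvPolynomial.X none * p1,
        by rw [map_zero]; ring⟩
    | some s =>
      exact ⟨p0 * MvPolynomial.X s, p1 * MvPolynomial.X (some s),
        by rw [map_mul, MvPolynomial.rename_X]; ring⟩

/-- Let R be a commutative ring; A, B, C commutative R-algebras; i : A → B and j : A → C jointly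
injective R-algebra maps; c a non-zero-divisor of B; u : C → B/(c) a ring map with u ∘ j equal to i
followed by reduction modulo c; ζ in A with i ζ = c and j ζ = 0; η : R[X_σ, Z] → A an R-algebra map
with η(Z) = ζ; a : R[Y_τ] → B a surjective R-algebra map; η_Z : R[X_σ, Z] → R[Y_τ] a surjective
R-algebra map with a ∘ η_Z = i ∘ η. Fix c̃ in R[Y_τ] with a(c̃) = c, a family (p_h) generating the
kernel of the composite R[X_σ] → R[X_σ, Z] → A → C, a family (q'_h) generating the kernel of a
together with lifts q_h along η_Z, a family (v_h) generating the kernel of η_Z, and elements g'_h of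
R[Y_τ] with η_Z(p_h) + g'_h c̃ in the ideal (q'_h), together with lifts g_h along η_Z. Then the
kernel of η is the ideal generated by the elements Z q_h, Z v_h and p_h + Z g_h. (The published
statement is for the rings of cycle classes, with coefficients ℤ[1/6], of a smooth quotient stack, a
smooth closed substack whose normal bundle has top Chern class c a non-zero-divisor, and the open
complement; this row states the ring-theoretic content for any such square of commutative rings in
which A embeds in B × C.) -/
theorem result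
    {R : Type u} [CommRing R] {A : Type v} {B : Type w} {C : Type x}
    [CommRing A] [CommRing B] [CommRing C] [Algebra R A] [Algebra R B] [Algebra R C]
    (i : A →ₐ[R] B) (j : A →ₐ[R] C)
    (hinj : ∀ t : A, i t = 0 → j t = 0 → t = 0)
    (c : B) (hc : c ∈ nonZeroDivisors B) (u : C →+* B ⧸ Ideal.span ({c} : Set B))
    (hu : ∀ t : A, u (j t) = Ideal.Quotient.mk (Ideal.span ({c} : Set B)) (i t))
    (ζ : A) (hiζ : i ζ = c) (hjζ : j ζ = 0)
    {σ τ ιp ιq ιv : Type y}
    (η : MvPolynomial (Option σ) R →ₐ[R] A) (hη : η (MvPolynomial.X none) = ζ)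
    (a : MvPolynomial τ R →ₐ[R] B) (ha : Function.Surjective a)
    (ηZ : MvPolynomial (Option σ) R →ₐ[R] MvPolynomial τ R)
    (hcomm : ∀ t, a (ηZ t) = i (η t)) (hηZ : Function.Surjective ηZ)
    (cZ : MvPolynomial τ R) (hcZ : a cZ = c)
    (p : ιp → MvPolynomial σ R)
    (hp : Ideal.span (Set.range p) =
      RingHom.ker ((j.comp η).comp (MvPolynomial.rename (Option.some : σ → Option σ))))
    (q' : ιq → MvPolynomial τ R) (hq' : Ideal.span (Set.range q') = RingHom.ker a)
    (q : ιq → MvPolynomial (Option σ) R) (hq : ∀ h, ηZ (q h) = q' h)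
    (v : ιv → MvPolynomial (Option σ) R) (hv : Ideal.span (Set.range v) = RingHom.ker ηZ)
    (g' : ιp → MvPolynomial τ R)
    (hg' : ∀ h, ηZ (MvPolynomial.rename (Option.some : σ → Option σ) (p h)) + g' h * cZ ∈
      Ideal.span (Set.range q'))
    (g : ιp → MvPolynomial (Option σ) R) (hg : ∀ h, ηZ (g h) = g' h) :
    RingHom.ker η = Ideal.span
      (Set.range (fun h : ιq => MvPolynomial.X none * q h) ∪
        Set.range (fun h : ιv => MvPolynomial.X none * v h) ∪
        Set.range (fun h : ιp =>
          MvPolynomial.rename (Option.some : σ → Option σ) (p h) + MvPolynomial.X none * g h)) := by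
  classical
  set Z : MvPolynomial (Option σ) R := MvPolynomial.X none with hZ
  set K := Ideal.span
      (Set.range (fun h : ιq => Z * q h) ∪
        Set.range (fun h : ιv => Z * v h) ∪
        Set.range (fun h : ιp =>
          MvPolynomial.rename (Option.some : σ → Option σ) (p h) + Z * g h)) with hK
  have hi_Z : ∀ w, i (η (Z * w)) = c * a (ηZ w) := by
    intro w; rw [map_mul, map_mul, hη, hiζ, hcomm]
  have hj_Z : ∀ w, j (η (Z * w)) = 0 := by
    intro w; rw [map_mul, map_mul, hη, hjζ, zero_mul]
  have hq'a : ∀ h, a (q' h) = 0 := by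
    intro h
    have : q' h ∈ RingHom.ker a := by rw [← hq']; exact Ideal.subset_span ⟨h, rfl⟩
    exact this
  have hvZ : ∀ h, ηZ (v h) = 0 := by
    intro h
    have : v h ∈ RingHom.ker ηZ := by rw [← hv]; exact Ideal.subset_span ⟨h, rfl⟩
    exact this
  have hpj : ∀ h, j (η (MvPolynomial.rename (Option.some : σ → Option σ) (p h))) = 0 := by
    intro h
    have : p h ∈ RingHom.ker ((j.comp η).comp (MvPolynomial.rename (Option.some : σ → Option σ))) := by
      rw [← hp]; exact Ideal.subset_span ⟨h, rfl⟩
    exact this
  have hKle : K ≤ RingHom.ker η := by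
    rw [hK, Ideal.span_le]
    rintro x ((⟨h, rfl⟩ | ⟨h, rfl⟩) | ⟨h, rfl⟩)
    · apply hinj
      · rw [hi_Z, hq, hq'a, mul_zero]
      · exact hj_Z _
    · apply hinj
      · rw [hi_Z, hvZ, map_zero, mul_zero]
      · exact hj_Z _
    · apply hinj
      · rw [map_add, map_add, hi_Z, ← hcomm, hg, ← hcZ, ← map_mul, ← map_add, mul_comm]
        have := hg' h
        rw [hq'] at this
        exact this
      · rw [map_add, map_add, hj_Z, add_zero, hpj]
  apply le_antisymm
  · intro F hF
    rw [RingHom.mem_ker] at hF
    obtain ⟨F0, F1, rfl⟩ := exists_decomp F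
    have h1 : F0 ∈ Ideal.span (Set.range p) := by
      rw [hp, RingHom.mem_ker]
      have := congrArg j hF
      rw [map_add, map_add, hj_Z, add_zero, map_zero] at this
      exact this
    have h2 : ∀ x ∈ Ideal.span (Set.range p), ∃ G : MvPolynomial (Option σ) R,
        MvPolynomial.rename (Option.some : σ → Option σ) x + Z * G ∈ K := by
      intro x hx
      induction hx using Submodule.span_induction with
      | mem x hx =>
        obtain ⟨h, rfl⟩ := hx
        exact ⟨g h, Ideal.subset_span (Or.inr ⟨h, rfl⟩)⟩
      | zero => exact ⟨0, by simp⟩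
      | add x y _ _ hx hy =>
        obtain ⟨G1, hG1⟩ := hx
        obtain ⟨G2, hG2⟩ := hy
        refine ⟨G1 + G2, ?_⟩
        have := K.add_mem hG1 hG2
        convert this using 1
        rw [map_add]; ring
      | smul r x _ hx =>
        obtain ⟨G1, hG1⟩ := hx
        refine ⟨MvPolynomial.rename (Option.some : σ → Option σ) r * G1, ?_⟩
        have := K.mul_mem_left (MvPolynomial.rename (Option.some : σ → Option σ) r) hG1
        convert this using 1
        rw [smul_eq_mul, map_mul]; ring
    obtain ⟨G, hG⟩ := h2 F0 h1
    set F2 := F1 - G with hF2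
    have hηF2 : η (Z * F2) = 0 := by
      have e : Z * F2 = (MvPolynomial.rename (Option.some : σ → Option σ) F0 + Z * F1) -
          (MvPolynomial.rename (Option.some : σ → Option σ) F0 + Z * G) := by rw [hF2]; ring
      rw [e, map_sub, hF, (hKle hG : _), sub_zero]
    have h3 : a (ηZ F2) = 0 := by
      have h4 := congrArg i hηF2
      rw [hi_Z, map_zero, mul_comm] at h4
      exact (mem_nonZeroDivisors_iff_right.mp hc) _ h4
    have h5 : ∀ x ∈ Ideal.span (Set.range q'), ∃ S : MvPolynomial (Option σ) R,
        ηZ S = x ∧ Z * S ∈ K := by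
      intro x hx
      induction hx using Submodule.span_induction with
      | mem x hx =>
        obtain ⟨h, rfl⟩ := hx
        exact ⟨q h, hq h, Ideal.subset_span (Or.inl (Or.inl ⟨h, rfl⟩))⟩
      | zero => exact ⟨0, by simp⟩
      | add x y _ _ hx hy =>
        obtain ⟨S1, hS1, hS1'⟩ := hx
        obtain ⟨S2, hS2, hS2'⟩ := hy
        refine ⟨S1 + S2, by rw [map_add, hS1, hS2], ?_⟩
        rw [mul_add]
        exact K.add_mem hS1' hS2'
      | smul r x _ hx =>
        obtain ⟨S1, hS1, hS1'⟩ := hx
        obtain ⟨r', rfl⟩ := hηZ r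
        refine ⟨r' * S1, by rw [map_mul, hS1, smul_eq_mul], ?_⟩
        have := K.mul_mem_left r' hS1'
        convert this using 1
        ring
    obtain ⟨S, hS, hS'⟩ := h5 (ηZ F2) (by rw [hq']; exact h3)
    have h6 : F2 - S ∈ Ideal.span (Set.range v) := by
      rw [hv, RingHom.mem_ker, map_sub, hS, sub_self]
    have h7 : ∀ x ∈ Ideal.span (Set.range v), Z * x ∈ K := by
      intro x hx
      induction hx using Submodule.span_induction with
      | mem x hx =>
        obtain ⟨h, rfl⟩ := hx
        exact Ideal.subset_span (Or.inl (Or.inr ⟨h, rfl⟩))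
      | zero => simp
      | add x y _ _ hx hy => rw [mul_add]; exact K.add_mem hx hy
      | smul r x _ hx =>
        have := K.mul_mem_left r hx
        convert this using 1
        rw [smul_eq_mul]; ring
    have h8 : Z * F2 ∈ K := by
      have e : Z * F2 = Z * S + Z * (F2 - S) := by ring
      rw [e]
      exact K.add_mem hS' (h7 _ h6)
    have e : MvPolynomial.rename (Option.some : σ → Option σ) F0 + Z * F1 =
        (MvPolynomial.rename (Option.some : σ → Option σ) F0 + Z * G) + Z * F2 := by
      rw [hF2]; ring
    rw [e]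
    exact K.add_mem hG h8
  · exact hKle

end Groth.Agent.S14309
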