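import Groth.Statements.S14311
import Mathlib
import Groth.Agent.Lib.DblPt97d
-- import your own Groth.Agent.* helpers here

set_option autoImplicit false
universe u
open ArSing

namespace Groth.Agent.S14311

open Groth.Agent.Lib.DblPt97

section Taylor
variable {k : Type u} [Field k]

/-- recentering at `a` -/
noncomputable def shift (a : Fin 2 → k) : MvPolynomial (Fin 2) k →ₐ[k] MvPolynomial (Fin 2) k :=
  MvPolynomial.aeval (fun i : Fin 2 => MvPolynomial.X i + MvPolynomial.C (a i))

theorem shift_X (a : Fin 2 → k) (i : Fin 2) :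
    shift a (MvPolynomial.X i) = MvPolynomial.X i + MvPolynomial.C (a i) := by
  unfold shift; rw [MvPolynomial.aeval_X]

theorem pderiv_shift (a : Fin 2 → k) (i : Fin 2) (f : MvPolynomial (Fin 2) k) :
    MvPolynomial.pderiv i (shift a f) = shift a (MvPolynomial.pderiv i f) := by
  induction f using MvPolynomial.induction_on with
  | C c =>
    have : shift a (MvPolynomial.C c) = MvPolynomial.C c := by
      unfold shift; rw [MvPolynomial.aeval_C]; rfl
    rw [this, MvPolynomial.pderiv_C, map_zero]
  | add p q hp hq => rw [map_add, map_add, hp, hq, map_add, map_add]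
  | mul_X p j hp =>
    have hs : shift a (Pi.single (M := fun _ => MvPolynomial (Fin 2) k) i 1 j) =
        Pi.single (M := fun _ => MvPolynomial (Fin 2) k) i 1 j := by
      by_cases h : j = i
      · subst h; rw [Pi.single_eq_same, map_one]
      · rw [Pi.single_eq_of_ne h, map_zero]
    rw [map_mul, Derivation.leibniz, Derivation.leibniz, hp, shift_X, map_add,
      MvPolynomial.pderiv_C, add_zero, MvPolynomial.pderiv_X]
    simp only [smul_eq_mul, map_add, map_mul, shift_X, hs]

theorem eval_zero_shift (a : Fin 2 → k) (f : MvPolynomial (Fin 2) k) :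
    MvPolynomial.eval (0 : Fin 2 → k) (shift a f) = MvPolynomial.eval a f := by
  have h : (MvPolynomial.aeval (0 : Fin 2 → k)).comp (shift a) = MvPolynomial.aeval a := by
    apply MvPolynomial.algHom_ext
    intro i
    rw [AlgHom.comp_apply, shift_X, map_add, MvPolynomial.aeval_X, MvPolynomial.aeval_C,
      MvPolynomial.aeval_X]
    simp
  have := DFunLike.congr_fun h f
  rw [AlgHom.comp_apply, MvPolynomial.aeval_eq_eval, MvPolynomial.aeval_eq_eval] at this
  exact this

theorem coeff_zero_shift (a : Fin 2 → k) (f : MvPolynomial (Fin 2) k) :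
    MvPolynomial.coeff 0 (shift a f) = MvPolynomial.eval a f := by
  rw [← eval_zero_shift, ← MvPolynomial.constantCoeff_eq, MvPolynomial.eval_zero]

theorem coeff_single_shift (a : Fin 2 → k) (f : MvPolynomial (Fin 2) k) (i : Fin 2) :
    MvPolynomial.coeff (Finsupp.single i 1) (shift a f) =
      MvPolynomial.eval a (MvPolynomial.pderiv i f) := by
  rw [← coeff_zero_shift, ← pderiv_shift, MvPolynomial.coeff_pderiv, zero_add]
  simp

theorem coeff_single_add_shift (a : Fin 2 → k) (f : MvPolynomial (Fin 2) k) (i j : Fin 2) :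
    MvPolynomial.coeff (Finsupp.single j 1 + Finsupp.single i 1) (shift a f) *
        (((Finsupp.single j 1 : Fin 2 →₀ ℕ) i : k) + 1) =
      MvPolynomial.eval a (MvPolynomial.pderiv j (MvPolynomial.pderiv i f)) := by
  rw [← coeff_single_shift, ← pderiv_shift, MvPolynomial.coeff_pderiv]

theorem factor_ne_zero (h2 : (2 : k) ≠ 0) (i j : Fin 2) :
    (((Finsupp.single j 1 : Fin 2 →₀ ℕ) i : k) + 1) ≠ 0 := by
  by_cases h : j = i
  · subst h
    rw [Finsupp.single_eq_same]
    norm_num
    exact h2
  · rw [Finsupp.single_eq_of_ne (Ne.symm h)]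
    norm_num

/-- exponents of degree `< 3` -/
theorem degree_lt_three (e : Fin 2 →₀ ℕ) (he : e.degree < 3) :
    e = 0 ∨ (∃ i, e = Finsupp.single i 1) ∨ ∃ i j, e = Finsupp.single j 1 + Finsupp.single i 1 := by
  have hdeg : e.degree = e 0 + e 1 := by
    rw [Finsupp.degree_eq_sum, Fin.sum_univ_two]
  have hrepr : e = Finsupp.single 0 (e 0) + Finsupp.single 1 (e 1) := by
    apply Finsupp.ext
    rw [Fin.forall_fin_two]
    constructor
    · rw [Finsupp.add_apply, Finsupp.single_eq_same, Finsupp.single_eq_of_ne (by decide), add_zero]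
    · rw [Finsupp.add_apply, Finsupp.single_eq_same, Finsupp.single_eq_of_ne (by decide), zero_add]
  rw [hdeg] at he
  generalize e 0 = n0 at hrepr he
  generalize e 1 = n1 at hrepr he
  subst hrepr
  have h0 : n0 ≤ 2 := by omega
  have h1 : n1 ≤ 2 := by omega
  interval_cases n0 <;> interval_cases n1
  · left; simp
  · right; left; exact ⟨1, by simp⟩
  · right; right; exact ⟨1, 1, by rw [← Finsupp.single_add]; simp⟩
  · right; left; exact ⟨0, by simp⟩
  · right; right; exact ⟨1, 0, rfl⟩
  · omega
  · right; right; exact ⟨0, 0, by rw [← Finsupp.single_add]; simp⟩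
  · omega
  · omega

end Taylor

section Main
variable {k : Type u} [Field k]

open Groth.Agent.Lib.Node97 in
theorem not_mem_cube_of_py (G : MvPowerSeries (Fin 2) k)
    (h : py k G = PowerSeries.X ^ 2) :
    G ∉ IsLocalRing.maximalIdeal (MvPowerSeries (Fin 2) k) ^ 3 := by
  intro hG
  have := dvd_py_of_mem_pow 3 G hG
  rw [h, PowerSeries.X_pow_dvd_iff] at this
  have h2 := this 2 (by norm_num)
  rw [PowerSeries.coeff_X_pow_self] at h2
  exact one_ne_zero h2

open Groth.Agent.Lib.Node97 in
theorem eqn_not_mem (n : ℕ) :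
    ArSing.eqn k n ∉ IsLocalRing.maximalIdeal (MvPowerSeries (Fin 2) k) ^ 3 := by
  apply not_mem_cube_of_py
  unfold ArSing.eqn
  rw [map_sub, map_pow, map_pow, py_X1, py_X0, zero_pow (by omega), sub_zero]

open Groth.Agent.Lib.Node97 in
theorem ysq_not_mem :
    (MvPowerSeries.X 1 : MvPowerSeries (Fin 2) k) ^ 2 ∉
      IsLocalRing.maximalIdeal (MvPowerSeries (Fin 2) k) ^ 3 := by
  apply not_mem_cube_of_py
  rw [map_pow, py_X1]

theorem eqn_cc (n : ℕ) : MvPowerSeries.constantCoeff (ArSing.eqn k n) = 0 := by
  unfold ArSing.eqn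
  rw [map_sub, map_pow, map_pow, MvPowerSeries.constantCoeff_X, MvPowerSeries.constantCoeff_X,
    zero_pow (by norm_num), zero_pow (by omega), sub_zero]

/-- the coefficient criterion in terms of derivatives -/
theorem mem_cube_iff (h2 : (2 : k) ≠ 0) (f : MvPolynomial (Fin 2) k) (a : Fin 2 → k)
    (hfa : MvPolynomial.eval a f = 0) :
    ((shift a f : MvPolynomial (Fin 2) k) : MvPowerSeries (Fin 2) k) ∈
        IsLocalRing.maximalIdeal (MvPowerSeries (Fin 2) k) ^ 3 ↔
      ((∀ i : Fin 2, MvPolynomial.eval a (MvPolynomial.pderiv i f) = 0) ∧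
      ∀ i j : Fin 2, MvPolynomial.eval a (MvPolynomial.pderiv i (MvPolynomial.pderiv j f)) = 0) := by
  rw [mem_maximalIdeal_pow_iff]
  constructor
  · intro h
    refine ⟨fun i => ?_, fun i j => ?_⟩
    · rw [← coeff_single_shift, ← MvPolynomial.coeff_coe]
      exact h _ (by rw [Finsupp.degree_single]; norm_num)
    · rw [← coeff_single_add_shift, ← MvPolynomial.coeff_coe,
        h _ (by rw [map_add, Finsupp.degree_single, Finsupp.degree_single]; norm_num), zero_mul]
  · rintro ⟨hd1, hd2⟩ e he
    rw [MvPolynomial.coeff_coe]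
    rcases degree_lt_three e he with rfl | ⟨i, rfl⟩ | ⟨i, j, rfl⟩
    · rw [coeff_zero_shift, hfa]
    · rw [coeff_single_shift, hd1]
    · have := coeff_single_add_shift a f i j
      rw [hd2] at this
      rcases mul_eq_zero.mp this with h | h
      · exact h
      · exact absurd h (factor_ne_zero h2 i j)

end Main

/-- Let k be an algebraically closed field in which 2 ≠ 0, f a polynomial in x = X_0, y = X_1 over k and
a a zero of f in k². Then the gradient and all second partial derivatives of f vanish at a if and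
only if the completed local ring k[[x,y]]/(f recentred at a) of the plane curve f = 0 at a is
isomorphic as a k-algebra neither to k[[x,y]]/(y^2 - x^(n+1)) for any natural number n nor to
k[[x,y]]/(y^2). (Here n = 0, a smooth point, is allowed; with n ≥ 1 only, as in the published
definition of an A-singularity, the equivalence fails at smooth points of the curve. Only 2 ≠ 0 is
assumed of the characteristic; the published setting assumes a characteristic different from 2, 3, 5
and 7.) -/
theorem result
    {k : Type u} [Field k] [IsAlgClosed k] (h2 : (2 : k) ≠ 0) (f : MvPolynomial (Fin 2) k) (a : Fin 2 → k)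
    (hfa : MvPolynomial.eval a f = 0) :
    ((∀ i : Fin 2, MvPolynomial.eval a (MvPolynomial.pderiv i f) = 0) ∧
      ∀ i j : Fin 2, MvPolynomial.eval a (MvPolynomial.pderiv i (MvPolynomial.pderiv j f)) = 0) ↔
    ¬ ((∃ n : ℕ, Nonempty ((MvPowerSeries (Fin 2) k ⧸ Ideal.span
        ({(MvPolynomial.aeval (fun i : Fin 2 => MvPolynomial.X i + MvPolynomial.C (a i)) f).toMvPowerSeries} :
          Set (MvPowerSeries (Fin 2) k))) ≃ₐ[k] ArSing.ring k n)) ∨
        Nonempty ((MvPowerSeries (Fin 2) k ⧸ Ideal.span
        ({(MvPolynomial.aeval (fun i : Fin 2 => MvPolynomial.X i + MvPolynomial.C (a i)) f).toMvPowerSeries} :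
          Set (MvPowerSeries (Fin 2) k))) ≃ₐ[k]
          (MvPowerSeries (Fin 2) k ⧸ Ideal.span ({MvPowerSeries.X 1 ^ 2} : Set (MvPowerSeries (Fin 2) k))))) := by
  have hG : MvPolynomial.aeval (fun i : Fin 2 => MvPolynomial.X i + MvPolynomial.C (a i)) f =
      shift a f := rfl
  rw [hG, ← mem_cube_iff h2 f a hfa]
  have hcc : MvPowerSeries.constantCoeff
      ((shift a f : MvPolynomial (Fin 2) k) : MvPowerSeries (Fin 2) k) = 0 := by
    rw [← MvPowerSeries.coeff_zero_eq_constantCoeff_apply, MvPolynomial.coeff_coe, coeff_zero_shift,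
      hfa]
  constructor
  · intro hmem h
    rcases h with h | h
    · obtain ⟨n, hn⟩ := h
      obtain ⟨φ⟩ := hn
      exact (isEmpty_equiv _ (ArSing.eqn k n) hmem (eqn_cc n) (eqn_not_mem n)).false φ
    · obtain ⟨φ⟩ := h
      exact (isEmpty_equiv _ _ hmem (by
        rw [map_pow, MvPowerSeries.constantCoeff_X, zero_pow (by norm_num)]) ysq_not_mem).false φ
  · intro h
    by_contra hmem
    exact h (classify h2 _ hcc hmem)

end Groth.Agent.S14311
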