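import Groth.Statements.S1432
import Mathlib.AlgebraicGeometry.IdealSheaf.Functorial
import Mathlib.AlgebraicGeometry.Limits
-- import your own Groth.Agent.* helpers here

set_option autoImplicit false
universe u
open FlatMor

namespace Groth.Agent.S1432

open AlgebraicGeometry CategoryTheory Limits in
lemma forward {X Y : Scheme.{u}} (f : X ⟶ Y) [IsClosedImmersion f]
    (A B : Type u) [CommRing A] [CommRing B] (φ : A →+* B) (hφ : Function.Injective φ)
    (a : Spec (CommRingCat.of B) ⟶ X) (b : Spec (CommRingCat.of A) ⟶ Y)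
    (w : Spec.map (CommRingCat.ofHom φ) ≫ b = a ≫ f) :
    ∃ l : Spec (CommRingCat.of A) ⟶ X, Spec.map (CommRingCat.ofHom φ) ≫ l = a ∧ l ≫ f = b := by
  have h0 : (Spec.map (CommRingCat.ofHom φ)).ker = ⊥ := by
    rw [Scheme.ker_of_isAffine]
    have h2 : RingHom.ker (Spec.map (CommRingCat.ofHom φ)).appTop.hom = ⊥ := by
      rw [RingHom.ker_eq_bot_iff_eq_zero]
      intro x hx
      have h3 := Scheme.ΓSpecIso_naturality (CommRingCat.ofHom φ)
      have h4 : (Scheme.ΓSpecIso (CommRingCat.of B)).hom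
          ((Spec.map (CommRingCat.ofHom φ)).appTop x) =
          φ ((Scheme.ΓSpecIso (CommRingCat.of A)).hom x) := congr($(h3) x)
      have hx' : (Spec.map (CommRingCat.ofHom φ)).appTop x = 0 := hx
      rw [hx', map_zero] at h4
      have h5 : (Scheme.ΓSpecIso (CommRingCat.of A)).hom x = 0 := hφ (by rw [map_zero]; exact h4.symm)
      have h6 := (ConcreteCategory.bijective_of_isIso (Scheme.ΓSpecIso (CommRingCat.of A)).hom).1
      exact h6 (by rw [h5, map_zero])
    rw [h2]
    exact map_bot (Scheme.IdealSheafData.equivOfIsAffine (X := Spec (CommRingCat.of A))).symm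
  have h1 : f.ker ≤ b.ker := by
    calc f.ker ≤ (a ≫ f).ker := Scheme.Hom.le_ker_comp _ _
      _ = (Spec.map (CommRingCat.ofHom φ) ≫ b).ker := by rw [w]
      _ = (Spec.map (CommRingCat.ofHom φ)).ker.map b := Scheme.Hom.ker_comp _ _
      _ = b.ker := by rw [h0, Scheme.IdealSheafData.map_bot]
  refine ⟨IsClosedImmersion.lift f b h1, ?_, IsClosedImmersion.lift_fac _ _ _⟩
  rw [← cancel_mono f, Category.assoc, IsClosedImmersion.lift_fac, w]

open AlgebraicGeometry CategoryTheory Limits in
lemma backward_affine {X Y : Scheme.{u}} (f : X ⟶ Y) [QuasiCompact f] [IsAffine Y]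
    (H : ∀ (A B : Type u) [CommRing A] [CommRing B] (φ : A →+* B), Function.Injective φ →
      ∀ (a : Spec (CommRingCat.of B) ⟶ X) (b : Spec (CommRingCat.of A) ⟶ Y),
        Spec.map (CommRingCat.ofHom φ) ≫ b = a ≫ f →
        ∃ l : Spec (CommRingCat.of A) ⟶ X,
          Spec.map (CommRingCat.ofHom φ) ≫ l = a ∧ l ≫ f = b) :
    IsClosedImmersion f := by
  have : CompactSpace X := QuasiCompact.compactSpace_of_compactSpace f
  let 𝒰 := X.affineCover.finiteSubcover
  have : ∀ k, IsAffine (𝒰.X k) := fun k ↦ by dsimp [𝒰]; infer_instance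
  let W : Scheme.{u} := ∐ 𝒰.X
  let p : W ⟶ X := Sigma.desc 𝒰.f
  have hW : IsAffine W := inferInstance
  have hp_epi : Epi p := by
    constructor
    intro T g h hgh
    apply 𝒰.hom_ext
    intro k
    have := congr(Sigma.ι 𝒰.X k ≫ $(hgh))
    simpa [p] using this
  have hp_inj : Function.Injective p.appTop := by
    rw [injective_iff_map_eq_zero]
    intro s hs
    apply Scheme.zero_of_zero_cover s 𝒰
    intro k
    have h1 : Sigma.ι 𝒰.X k ≫ p = 𝒰.f k := by simp [p]
    have hs' : p.app ⊤ s = 0 := hs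
    have h2 : (Sigma.ι 𝒰.X k ≫ p).app ⊤ s = 0 := by
      rw [Scheme.Hom.comp_app]
      change (Sigma.ι 𝒰.X k).app (p ⁻¹ᵁ ⊤) (p.app ⊤ s) = 0
      rw [hs', map_zero]
    rw [h1] at h2
    exact h2
  -- the rings
  let φ₀ : Γ(Y, ⊤) →+* Γ(W, ⊤) := (p ≫ f).appTop.hom
  let A : Type u := φ₀.range
  let mk : Γ(Y, ⊤) →+* A := φ₀.rangeRestrict
  let φ : A →+* Γ(W, ⊤) := φ₀.range.subtype
  have hmk : Function.Surjective mk := φ₀.rangeRestrict_surjective
  have hφ : Function.Injective φ := Subtype.val_injective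
  have hcomp : φ.comp mk = φ₀ := rfl
  let b : Spec (CommRingCat.of A) ⟶ Y := Spec.map (CommRingCat.ofHom mk) ≫ Y.isoSpec.inv
  let a : Spec (CommRingCat.of Γ(W, ⊤)) ⟶ X := W.isoSpec.inv ≫ p
  have hb : IsClosedImmersion b := by
    have := IsClosedImmersion.spec_of_surjective (CommRingCat.ofHom mk) hmk
    infer_instance
  have w : Spec.map (CommRingCat.ofHom φ) ≫ b = a ≫ f := by
    have h1 : CommRingCat.ofHom mk ≫ CommRingCat.ofHom φ = (p ≫ f).appTop := rfl
    simp only [a, b]
    rw [← Category.assoc, ← Spec.map_comp, h1, Scheme.isoSpec_inv_naturality, Category.assoc]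
  obtain ⟨l, hl1, hl2⟩ := H A Γ(W, ⊤) φ hφ a b w
  have ha_epi : Epi a := epi_comp _ _
  have hker : b.ker ≤ f.ker := by
    rw [Scheme.ker_of_isAffine, Scheme.ker_of_isAffine]
    refine (map_le_map_iff (Scheme.IdealSheafData.equivOfIsAffine (X := Y)).symm).mpr ?_
    intro x hx
    rw [RingHom.mem_ker] at hx ⊢
    have hx' : b.appTop x = 0 := hx
    have h3 : (a ≫ f).appTop x = 0 := by
      rw [← w, Scheme.Hom.comp_appTop]
      change (Spec.map (CommRingCat.ofHom φ)).appTop (b.appTop x) = 0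
      rw [hx', map_zero]
    rw [Scheme.Hom.comp_appTop] at h3
    have h4 : a.appTop (f.appTop x) = 0 := h3
    have h5 : Function.Injective a.appTop := by
      simp only [a, Scheme.Hom.comp_appTop]
      have : IsIso (W.isoSpec.inv.appTop) :=
        inferInstanceAs (IsIso ((W.isoSpec.inv).app ⊤))
      exact (ConcreteCategory.bijective_of_isIso (W.isoSpec.inv.appTop)).1.comp hp_inj
    exact h5 (by rw [h4, map_zero])
  let j : X ⟶ Spec (CommRingCat.of A) := IsClosedImmersion.lift b f hker
  have hj : j ≫ b = f := IsClosedImmersion.lift_fac _ _ _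
  have h1 : l ≫ j = 𝟙 _ := by
    rw [← cancel_mono b, Category.assoc, hj, hl2, Category.id_comp]
  have h2 : a ≫ j = Spec.map (CommRingCat.ofHom φ) := by
    rw [← cancel_mono b, Category.assoc, hj, w]
  have h3 : j ≫ l = 𝟙 _ := by
    rw [← cancel_epi a, ← Category.assoc, h2, hl1, Category.comp_id]
  have : IsIso j := ⟨l, h3, h1⟩
  rw [← hj]
  infer_instance

open AlgebraicGeometry CategoryTheory Limits in
/-- For a quasi-compact morphism f : X → Y, being a closed immersion is equivalent to the following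
lifting property: for each injective ring map A → B and each commutative square with Spec B → X on
top and Spec A → Y at the bottom there is a lift Spec A → X making both triangles commute. -/
theorem result {X Y : Scheme.{u}} (f : X ⟶ Y) [QuasiCompact f] :
    IsClosedImmersion f ↔ ∀ (A B : Type u) [CommRing A] [CommRing B] (φ : A →+* B), Function.Injective φ →
      ∀ (a : Spec (CommRingCat.of B) ⟶ X) (b : Spec (CommRingCat.of A) ⟶ Y), Spec.map (CommRingCat.ofHom φ) ≫ b = a ≫ f →
        ∃ l : Spec (CommRingCat.of A) ⟶ X, Spec.map (CommRingCat.ofHom φ) ≫ l = a ∧ l ≫ f = b := by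
  constructor
  · intro hf A B _ _ φ hφ a b w
    exact forward f A B φ hφ a b w
  · intro H
    rw [IsZariskiLocalAtTarget.iff_of_iSup_eq_top (P := @IsClosedImmersion) _
      (iSup_affineOpens_eq_top Y)]
    intro V
    have : IsAffine V.1 := V.2
    apply backward_affine (f ∣_ V.1)
    intro A B _ _ φ hφ a b w
    obtain ⟨l, hl1, hl2⟩ := H A B φ hφ (a ≫ (f ⁻¹ᵁ V.1).ι) (b ≫ V.1.ι) (by
      rw [← Category.assoc, w, Category.assoc, Category.assoc, morphismRestrict_ι])
    have hrange : Set.range l ⊆ Set.range (f ⁻¹ᵁ V.1).ι := by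
      rw [Scheme.Opens.range_ι]
      rintro _ ⟨x, rfl⟩
      change f (l x) ∈ V.1
      have h1 : f (l x) = V.1.ι (b x) := by
        rw [← Scheme.Hom.comp_apply, hl2, Scheme.Hom.comp_apply]
      rw [h1]
      exact (b x).2
    refine ⟨IsOpenImmersion.lift (f ⁻¹ᵁ V.1).ι l hrange, ?_, ?_⟩
    · rw [← cancel_mono (f ⁻¹ᵁ V.1).ι, Category.assoc, IsOpenImmersion.lift_fac, hl1]
    · rw [← cancel_mono V.1.ι, Category.assoc, morphismRestrict_ι, ← Category.assoc,
        IsOpenImmersion.lift_fac, hl2]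

end Groth.Agent.S1432
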