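import Groth.Statements.S1433
-- import your own Groth.Agent.* helpers here

set_option autoImplicit false
universe u
open FlatMor

namespace Groth.Agent.S1433

open AlgebraicGeometry CategoryTheory Limits in
/-- If the canonical morphism X → Spec Γ(X, O_X) has a retraction, then X is affine. -/
theorem result (X : Scheme.{u}) (r : Spec Γ(X, ⊤) ⟶ X) (h : X.toSpecΓ ≫ r = 𝟙 X) : IsAffine X := by
  have h1 : r.appTop ≫ X.toSpecΓ.appTop = 𝟙 _ := by
    rw [← Scheme.Hom.comp_appTop, h]; rfl
  have hiso : IsIso X.toSpecΓ.appTop := by rw [Scheme.toSpecΓ_appTop]; infer_instance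
  have h2 : IsIso r.appTop := by
    have h3 : r.appTop = inv X.toSpecΓ.appTop := by
      exact IsIso.eq_inv_of_inv_hom_id h1
    rw [h3]; infer_instance
  have h4 : IsIso (r ≫ X.toSpecΓ) := by
    rw [Scheme.toSpecΓ_naturality]
    infer_instance
  have : IsSplitEpi X.toSpecΓ := IsSplitEpi.mk' ⟨inv (r ≫ X.toSpecΓ) ≫ r, by simp⟩
  have : IsSplitMono X.toSpecΓ := IsSplitMono.mk' ⟨r, h⟩
  exact ⟨isIso_of_mono_of_isSplitEpi _⟩

end Groth.Agent.S1433
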