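import Groth.Statements.S14338
import Groth.Agent.Lib.LocConstRank

set_option autoImplicit false
universe u
open CAlg

namespace Groth.Agent.S14338

open TensorProduct Groth.Agent.Lib.TFunRank in
/-- fibre rank of a cokernel. -/
theorem fibRank_coker_add {B : Type u} [CommRing B] (K K' : Type u) [AddCommGroup K] [Module B K]
    [AddCommGroup K'] [Module B K'] [Module.Finite B K'] (φ : K →ₗ[B] K') (y : PrimeSpectrum B) :
    fibRank (K' ⧸ LinearMap.range φ) y +
      Module.finrank y.asIdeal.ResidueField
        ↥(LinearMap.range (φ.baseChange y.asIdeal.ResidueField)) = fibRank K' y := by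
  set κ := y.asIdeal.ResidueField
  have hex : Function.Exact (φ.lTensor κ) ((LinearMap.range φ).mkQ.lTensor κ) :=
    lTensor_exact κ (LinearMap.exact_map_mkQ_range φ) (Submodule.mkQ_surjective _)
  have hsurj : Function.Surjective ((LinearMap.range φ).mkQ.baseChange κ) :=
    LinearMap.lTensor_surjective κ (Submodule.mkQ_surjective _)
  have hker : LinearMap.ker ((LinearMap.range φ).mkQ.baseChange κ) =
      LinearMap.range (φ.baseChange κ) := by
    ext x
    rw [LinearMap.mem_ker, LinearMap.mem_range]
    exact (hex x)
  have h1 := LinearMap.finrank_range_add_finrank_ker ((LinearMap.range φ).mkQ.baseChange κ)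
  rw [LinearMap.range_eq_top.mpr hsurj, finrank_top, hker] at h1
  exact h1

open Groth.Agent.Lib.TFunRank in

/-- Let B be a Noetherian ring, K and K' finitely generated flat B-modules and φ : K → K' a B-linear
map; for a prime y of B write κ(y) for its residue field and φ_y for the base change κ(y) ⊗ K → κ(y)
⊗ K'. Assume B is reduced and the number dim_{κ(y)} Im(φ_y) is the same for all primes y of B. Then
the cokernel K'/Im φ and the image Im φ are projective (locally free) B-modules. -/
theorem result (B : Type u) [CommRing B] [IsNoetherianRing B] (K K' : Type u) [AddCommGroup K] [Module B K] [Module.Finite B K] [Module.Flat B K] [AddCommGroup K'] [Module B K'] [Module.Finite B K'] [Module.Flat B K'] (φ : K →ₗ[B] K') [IsReduced B] (hconst : ∃ c : ℕ, ∀ y : PrimeSpectrum B, Module.finrank y.asIdeal.ResidueField ↥(LinearMap.range (φ.baseChange y.asIdeal.ResidueField)) = c) : Module.Projective B (K' ⧸ LinearMap.range φ) ∧ Module.Projective B ↥(LinearMap.range φ) := by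
  obtain ⟨c, hc⟩ := hconst
  have hfp : Module.FinitePresentation B K' := Module.finitePresentation_of_finite B K'
  have hK' : Module.Projective B K' := Module.Flat.projective_of_finitePresentation
  have hlcK' : IsLocallyConstant (fibRank (A := B) K') := isLocallyConstant_fibRank K'
  have hlcC : IsLocallyConstant (fibRank (A := B) (K' ⧸ LinearMap.range φ)) := by
    have heq : fibRank (A := B) (K' ⧸ LinearMap.range φ) = fun y => fibRank K' y - c := by
      funext y
      have := fibRank_coker_add K K' φ y
      rw [hc y] at this
      omega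
    rw [heq]
    exact hlcK'.comp (fun n => n - c)
  have hC : Module.Projective B (K' ⧸ LinearMap.range φ) :=
    Groth.Agent.Lib.LocConstRank.projective_of_isLocallyConstant_fibRank _ hlcC
  refine ⟨hC, ?_⟩
  obtain ⟨σ, hσ⟩ := Module.projective_lifting_property (LinearMap.range φ).mkQ LinearMap.id
    (Submodule.mkQ_surjective _)
  let t : K' →ₗ[B] K' := LinearMap.id - σ ∘ₗ (LinearMap.range φ).mkQ
  have ht : ∀ x, t x ∈ LinearMap.range φ := by
    intro x
    have hmem : t x ∈ LinearMap.ker (LinearMap.range φ).mkQ := by
      have := LinearMap.congr_fun hσ ((LinearMap.range φ).mkQ x)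
      rw [LinearMap.comp_apply, LinearMap.id_apply] at this
      rw [LinearMap.mem_ker]
      change (LinearMap.range φ).mkQ (x - σ ((LinearMap.range φ).mkQ x)) = 0
      rw [map_sub, this, sub_self]
    rwa [Submodule.ker_mkQ] at hmem
  let s : K' →ₗ[B] ↥(LinearMap.range φ) := t.codRestrict (LinearMap.range φ) ht
  refine Module.Projective.of_split (LinearMap.range φ).subtype s ?_
  refine LinearMap.ext fun x => Subtype.ext ?_
  change (x : K') - σ ((LinearMap.range φ).mkQ x) = x
  have h0 : (LinearMap.range φ).mkQ (x : K') = 0 := by
    rw [Submodule.mkQ_apply]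
    exact (Submodule.Quotient.mk_eq_zero _).mpr x.2
  rw [h0, map_zero, sub_zero]

end Groth.Agent.S14338
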