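import Groth.Statements.S1434
-- import your own Groth.Agent.* helpers here

set_option autoImplicit false
universe u
open FlatMor

namespace Groth.Agent.S1434

open AlgebraicGeometry CategoryTheory Limits TopologicalSpace in
lemma mul_eq_zero_of_mem_ker {T T' : Scheme.{u}} (t : T ⟶ T') [QuasiCompact t]
    (ht : t.ker * t.ker = ⊥) (V : T'.Opens) (s s' : Γ(T', V))
    (hs : t.app V s = 0) (hs' : t.app V s' = 0) : s * s' = 0 := by
  refine T'.sheaf.eq_of_locally_eq' (fun W : {W : T'.affineOpens // W.1 ≤ V} ↦ W.1.1) V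
    (fun W ↦ homOfLE W.2) ?_ _ _ ?_
  · intro x hx
    obtain ⟨W, hW, hxW, hWV⟩ := (Opens.isBasis_iff_nbhd.mp T'.isBasis_affineOpens) hx
    exact Opens.mem_iSup.mpr ⟨⟨⟨W, hW⟩, hWV⟩, hxW⟩
  · intro W
    have key : ∀ r : Γ(T', V), t.app V r = 0 →
        T'.presheaf.map (homOfLE W.2).op r ∈ t.ker.ideal W.1 := by
      intro r hr
      rw [Scheme.Hom.ker_apply, RingHom.mem_ker]
      have := t.naturality (homOfLE W.2).op
      have h2 := congr($(this) r)
      simp only [CommRingCat.comp_apply] at h2
      rw [hr, map_zero] at h2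
      exact h2
    have h1 : (T'.presheaf.map (homOfLE W.2).op) s * (T'.presheaf.map (homOfLE W.2).op) s' ∈
        (t.ker * t.ker).ideal W.1 := by
      rw [Scheme.IdealSheafData.ideal_mul]
      exact Ideal.mul_mem_mul (key s hs) (key s' hs')
    rw [ht, Scheme.IdealSheafData.ideal_bot] at h1
    have h3 : (T'.presheaf.map (homOfLE W.2).op) s * (T'.presheaf.map (homOfLE W.2).op) s' = 0 := by
      simpa using h1
    change (T'.presheaf.map (homOfLE W.2).op) (s * s') = (T'.presheaf.map (homOfLE W.2).op) 0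
    rw [map_mul, map_zero, h3]

open AlgebraicGeometry CategoryTheory Limits in
/-- Part (1), for a closed subscheme: let Z ⊂ X be the closed subscheme cut out by an ideal sheaf I and
Z' the one cut out by I², its first order infinitesimal neighbourhood. Given a first order
thickening T → T', a morphism a : T → Z and a morphism b : T' → X compatible with them, there is a
unique morphism T' → Z' through which b factors (compatibility with a is then automatic). -/
theorem result {X T T' : Scheme.{u}} (I : X.IdealSheafData) (t : T ⟶ T') (ht : MoreMor.IsFirstOrderThickening t)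
    (a : T ⟶ I.subscheme) (b : T' ⟶ X) (w : a ≫ I.subschemeι = t ≫ b) :
    ∃! a' : T' ⟶ (I ^ 2).subscheme, a' ≫ (I ^ 2).subschemeι = b := by
  obtain ⟨⟨hcl, _⟩, hsq⟩ := ht
  have hle : I ≤ (t ≫ b).ker := by
    rw [← w]
    calc I = I.subschemeι.ker := I.ker_subschemeι.symm
      _ ≤ (a ≫ I.subschemeι).ker := Scheme.Hom.le_ker_comp _ _
  have hker : ((I ^ 2).subschemeι).ker ≤ b.ker := by
    rw [Scheme.IdealSheafData.ker_subschemeι]
    refine Scheme.IdealSheafData.le_ofIdeals_iff.mpr fun U ↦ ?_
    rw [Scheme.IdealSheafData.ideal_pow, Pi.pow_apply, pow_two, Ideal.mul_le]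
    intro x hx y hy
    have hx' := (Scheme.Hom.ideal_ker_le _ U) (hle U hx)
    have hy' := (Scheme.Hom.ideal_ker_le _ U) (hle U hy)
    rw [RingHom.mem_ker] at hx' hy' ⊢
    rw [Scheme.Hom.comp_app] at hx' hy'
    rw [map_mul]
    exact mul_eq_zero_of_mem_ker t hsq _ _ _ hx' hy'
  refine ⟨IsClosedImmersion.lift (I ^ 2).subschemeι b hker, IsClosedImmersion.lift_fac _ _ _, ?_⟩
  intro a' ha'
  rw [← cancel_mono (I ^ 2).subschemeι, ha', IsClosedImmersion.lift_fac]

end Groth.Agent.S1434
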