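import Groth.Statements.S14345
import Groth.Agent.Lib.Fitting82G
import Mathlib.RingTheory.Localization.Free
import Mathlib.RingTheory.Spectrum.Prime.FreeLocus

set_option autoImplicit false
universe u v
open TensorProduct
open QuotLF

namespace Groth.Agent.S14345

/-- Let R be a commutative ring, M a finitely generated R-module and k ≥ 0. If for an R-algebra A the
module A ⊗_R M admits a quotient that is finite projective of constant rank k (an A-valued point of
the Quot scheme of rank-k locally free quotients of M), then every Fitting ideal Fit_j(M) with j < k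
extends to the zero ideal of A; that is, the structure map of the Quot scheme of rank-k locally free
quotients factors through the closed subscheme cut out by Fit_{k-1}(M). -/
theorem result (R : Type u) [CommRing R]
    (M : Type v) [AddCommGroup M] [Module R M] [Module.Finite R M] (k : ℕ)
    (A : Type u) [CommRing A] [Algebra R A] (N : Module.Grassmannian A (A ⊗[R] M) k)
    (j : ℕ) (hj : j < k) :
    (Fitt.ideal R M j).map (algebraMap R A) = ⊥ := by
  have hloc : ∀ (p : Ideal A) [p.IsPrime], ∃ f : A, f ∉ p ∧
      Module.Free (Localization.Away f)
        (LocalizedModule (Submonoid.powers f) ((A ⊗[R] M) ⧸ N.toSubmodule)) ∧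
      Module.finrank (Localization.Away f)
        (LocalizedModule (Submonoid.powers f) ((A ⊗[R] M) ⧸ N.toSubmodule)) = k := by
    intro p _
    haveI : Module.FinitePresentation A ((A ⊗[R] M) ⧸ N.toSubmodule) :=
      Module.finitePresentation_of_projective A _
    haveI : Module.Free (Localization.AtPrime p)
        (LocalizedModule p.primeCompl ((A ⊗[R] M) ⧸ N.toSubmodule)) :=
      Module.free_of_flat_of_isLocalRing
    obtain ⟨f, hf, hfree, hrank⟩ := Module.FinitePresentation.exists_free_localizedModule_powers
      p.primeCompl (LocalizedModule.mkLinearMap p.primeCompl ((A ⊗[R] M) ⧸ N.toSubmodule))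
      (Localization.AtPrime p)
    refine ⟨f, hf, hfree, ?_⟩
    rw [hrank]
    exact N.rankAtStalk_eq ⟨p, inferInstance⟩
  have hbot := ((Groth.Agent.Lib.Fitting82.locallyFree_rank_iff
    (R := A) (M := (A ⊗[R] M) ⧸ N.toSubmodule) k).mp hloc).1 j hj
  rw [← Groth.Agent.Lib.Fitting82.ideal_baseChange A j, eq_bot_iff, ← hbot]
  exact Groth.Agent.Lib.Fitting82.ideal_mono_of_surjective N.toSubmodule.mkQ
    (Submodule.mkQ_surjective _) j

end Groth.Agent.S14345
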