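import Groth.Statements.S14346
import Mathlib.Algebra.Exact.Basic
import Mathlib.RingTheory.Spectrum.Prime.FreeLocus
import Mathlib.Algebra.Module.Projective
-- import your own Groth.Agent.* helpers here

set_option autoImplicit false
universe u v
open TensorProduct
open QuotLF

namespace Groth.Agent.S14346

section Helpers

/-- A submodule of a finite projective module of constant rank `k` whose quotient is also
finite projective of constant rank `k` is zero. -/
theorem eq_bot_of_rank {A : Type u} [CommRing A] {P : Type v} [AddCommGroup P] [Module A P]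
    [Module.Finite A P] [Module.Projective A P] (k : ℕ)
    (hk : ∀ p : PrimeSpectrum A, Module.rankAtStalk (R := A) P p = k)
    (N : Submodule A P) [Module.Finite A (P ⧸ N)] [Module.Projective A (P ⧸ N)]
    (hN : ∀ p : PrimeSpectrum A, Module.rankAtStalk (R := A) (P ⧸ N) p = k) : N = ⊥ := by
  obtain ⟨s, hs⟩ := Module.projective_lifting_property N.mkQ (LinearMap.id : (P ⧸ N) →ₗ[A] (P ⧸ N)) N.mkQ_surjective
  have hex : Function.Exact N.subtype N.mkQ := by
    intro x
    simp only [Submodule.mkQ_apply, Submodule.Quotient.mk_eq_zero, Set.mem_range,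
      Submodule.subtype_apply, Subtype.exists, exists_prop, exists_eq_right]
  have E := hex.splitSurjectiveEquiv N.injective_subtype ⟨s, hs⟩
  let e : P ≃ₗ[A] ↥N × (P ⧸ N) := E.1
  have he₁ : N.subtype = e.symm.toLinearMap ∘ₗ LinearMap.inl A N (P ⧸ N) := E.2.1
  let π : P →ₗ[A] ↥N := (LinearMap.fst A ↥N (P ⧸ N)) ∘ₗ (e : P →ₗ[A] ↥N × (P ⧸ N))
  have hπ : Function.Surjective π := fun n => ⟨e.symm (n, 0), by simp [π]⟩
  have hfin : Module.Finite A N := Module.Finite.of_surjective π hπ
  have hproj : Module.Projective A N := by
    refine Module.Projective.of_split N.subtype π ?_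
    ext x
    have : e (N.subtype x) = (x, 0) := by
      rw [he₁]
      simp
    have h2 : (e (x : P)).1 = x := by
      have := congrArg Prod.fst this
      simpa using this
    simp only [LinearMap.coe_comp, Function.comp_apply, Submodule.subtype_apply,
      LinearMap.id_coe, id_eq, π, LinearMap.fst_apply, LinearEquiv.coe_coe]
    exact congrArg Subtype.val h2
  have hrank : Module.rankAtStalk (R := A) N = 0 := by
    ext p
    have h1 := congrFun (Module.rankAtStalk_eq_of_equiv (R := A) e) p
    rw [Module.rankAtStalk_prod] at h1
    simp only [Pi.add_apply, hk p, hN p] at h1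
    simpa using h1
  have hsub : Subsingleton N := Module.rankAtStalk_eq_zero_iff_subsingleton.mp hrank
  exact Submodule.eq_bot_of_subsingleton

end Helpers


/-- Let R be a commutative ring, M an R-module, k ≥ 0, and A an R-algebra for which A ⊗_R M is finite
projective of constant rank k, i.e. Spec A → Spec R factors through the locally closed stratum where
M is locally free of rank k. Then A ⊗_R M has exactly one rank-k locally free quotient: the zero
submodule has finite projective quotient of constant rank k, and every submodule with such a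
quotient is zero. In other words the Quot scheme of rank-k locally free quotients of M restricted to
that stratum maps isomorphically onto it. -/
theorem result (R : Type u) [CommRing R]
    (M : Type v) [AddCommGroup M] [Module R M] (k : ℕ)
    (A : Type u) [CommRing A] [Algebra R A] [Module.Finite A (A ⊗[R] M)] [Module.Projective A (A ⊗[R] M)]
    (hk : ∀ p : PrimeSpectrum A, Module.rankAtStalk (R := A) (A ⊗[R] M) p = k) :
    (∃ N : Module.Grassmannian A (A ⊗[R] M) k, N.toSubmodule = ⊥) ∧
      ∀ N : Module.Grassmannian A (A ⊗[R] M) k, N.toSubmodule = ⊥ := by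
  constructor
  · let e : ((A ⊗[R] M) ⧸ (⊥ : Submodule A (A ⊗[R] M))) ≃ₗ[A] (A ⊗[R] M) :=
      Submodule.quotEquivOfEqBot ⊥ rfl
    refine ⟨⟨⊥, Module.Finite.equiv e.symm, Module.Projective.of_equiv e.symm, fun p => ?_⟩, rfl⟩
    rw [← hk p]
    exact congrFun (Module.rankAtStalk_eq_of_equiv e) p
  · intro N
    exact eq_bot_of_rank k hk N.toSubmodule N.rankAtStalk_eq

end Groth.Agent.S14346
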