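import Groth.Statements.S1435
import Groth.Agent.Lib.H59AffStrat2

set_option autoImplicit false
universe u
open FlatMor

namespace Groth.Agent.S1435

open AlgebraicGeometry CategoryTheory Limits in
/-- A scheme has a finite affine stratification if and only if it is quasi-compact and quasi-separated. -/
theorem result (X : Scheme.{u}) :
    (∃ n : ℕ, MoreMor.HasAffineStratification X n) ↔ CompactSpace ↑X ∧ QuasiSeparatedSpace ↑X := by
  constructor
  · rintro ⟨n, s, hs, hZ⟩
    choose Z ι hι hZaff hιaff hrange using hZ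
    have hcov : (Set.univ : Set X) = ⋃ i, Set.range (ι i) := by
      ext x
      simp only [Set.mem_univ, Set.mem_iUnion, true_iff]
      exact ⟨s x, by rw [hrange]; rfl⟩
    constructor
    · refine ⟨?_⟩
      rw [hcov]
      refine isCompact_iUnion fun i => ?_
      haveI := hZaff i
      exact isCompact_range (ι i).continuous
    · rw [AlgebraicGeometry.quasiSeparatedSpace_iff_forall_affineOpens]
      intro U V
      have hUV : ((U : X.Opens) : Set X) ∩ ((V : X.Opens) : Set X) =
          ⋃ i, (ι i) '' (((ι i) ⁻¹ᵁ (U : X.Opens) : Set (Z i)) ∩ ((ι i) ⁻¹ᵁ (V : X.Opens) : Set (Z i))) := by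
        ext x
        simp only [Set.mem_inter_iff, SetLike.mem_coe, Set.mem_iUnion, Set.mem_image]
        constructor
        · rintro ⟨hxU, hxV⟩
          have hx : x ∈ Set.range (ι (s x)) := by rw [hrange]; rfl
          obtain ⟨z, hz⟩ := hx
          refine ⟨s x, z, ⟨?_, ?_⟩, hz⟩
          · change (ι (s x)) z ∈ (U : X.Opens)
            rw [hz]; exact hxU
          · change (ι (s x)) z ∈ (V : X.Opens)
            rw [hz]; exact hxV
        · rintro ⟨i, z, ⟨hzU, hzV⟩, rfl⟩
          exact ⟨hzU, hzV⟩
      rw [hUV]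
      refine isCompact_iUnion fun i => ?_
      haveI := hZaff i
      haveI := hιaff i
      refine IsCompact.image ?_ (ι i).continuous
      exact QuasiSeparatedSpace.inter_isCompact _ _ ((ι i) ⁻¹ᵁ (U : X.Opens)).2
        (U.2.preimage (ι i)).isCompact ((ι i) ⁻¹ᵁ (V : X.Opens)).2 (V.2.preimage (ι i)).isCompact
  · rintro ⟨h1, h2⟩
    exact Groth.Agent.Lib.H59AffStrat.exists_hasAffineStratification X

end Groth.Agent.S1435
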