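import Groth.Statements.S14351
import Mathlib.RingTheory.Flat.FaithfullyFlat.Algebra
import Mathlib.RingTheory.Flat.FaithfullyFlat.Basic
-- import your own Groth.Agent.* helpers here

set_option autoImplicit false
universe u
open CAlg

namespace Groth.Agent.S14351

section Helpers
open TensorProduct

theorem flat_of_comp (A B C : Type u) [CommRing A] [CommRing B]
    [CommRing C] [Algebra A B] [Algebra B C] [Algebra A C] [IsScalarTower A B C]
    [Module.FaithfullyFlat B C] [Module.Flat A C] : Module.Flat A B := by
  rw [Module.Flat.iff_lTensor_preserves_injective_linearMap]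
  intro N P _ _ _ _ f hf
  change Function.Injective (f.baseChange B)
  rw [← Module.FaithfullyFlat.lTensor_injective_iff_injective B C]
  have key : LinearMap.lTensor C (f.baseChange B) =
      ((TensorProduct.AlgebraTensorModule.cancelBaseChange A B C C P).symm.toLinearMap.restrictScalars B) ∘ₗ
      ((f.baseChange C).restrictScalars B) ∘ₗ
      ((TensorProduct.AlgebraTensorModule.cancelBaseChange A B C C N).toLinearMap.restrictScalars B) := by
    apply TensorProduct.ext'
    intro c x
    induction x using TensorProduct.induction_on with
    | zero => simp
    | tmul b n =>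
      simp only [LinearMap.lTensor_tmul, LinearMap.baseChange_tmul, LinearMap.coe_comp,
        LinearMap.coe_restrictScalars, LinearEquiv.coe_coe, Function.comp_apply,
        TensorProduct.AlgebraTensorModule.cancelBaseChange_tmul]
      rw [eq_comm, LinearEquiv.symm_apply_eq]
      simp only [TensorProduct.AlgebraTensorModule.cancelBaseChange_tmul]
    | add x y hx hy =>
      rw [TensorProduct.tmul_add, map_add, hx, hy, map_add]
  rw [key]
  have h2 : Function.Injective (f.baseChange C) :=
    Module.Flat.lTensor_preserves_injective_linearMap f hf
  simp only [LinearMap.coe_comp, LinearMap.coe_restrictScalars, LinearEquiv.coe_coe]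
  exact (LinearEquiv.injective _).comp (h2.comp (LinearEquiv.injective _))

end Helpers


/-- For ring maps A → B → C with C faithfully flat over B and C faithfully flat over A, the ring B is
faithfully flat over A. -/
theorem result (A B C : Type u) [CommRing A] [CommRing B]
    [CommRing C] [Algebra A B] [Algebra B C] [Algebra A C] [IsScalarTower A B C]
    [Module.FaithfullyFlat B C] [Module.FaithfullyFlat A C] : Module.FaithfullyFlat A B := by
  haveI : Module.Flat A B := flat_of_comp A B C
  rw [Module.FaithfullyFlat.iff_flat_and_proper_ideal]
  refine ⟨inferInstance, fun I hI htop => hI ?_⟩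
  rw [Ideal.smul_top_eq_map] at htop
  have h1 : I.map (algebraMap A B) = ⊤ := by
    have := congrArg (fun S : Submodule A B => (S : Set B)) htop
    exact SetLike.coe_injective (by simpa using this)
  have h2 : I.map (algebraMap A C) = ⊤ := by
    rw [IsScalarTower.algebraMap_eq A B C, ← Ideal.map_map, h1, Ideal.map_top]
  have h3 := Ideal.comap_map_eq_self_of_faithfullyFlat (A := A) (B := C) I
  rw [h2, Ideal.comap_top] at h3
  exact h3.symm

end Groth.Agent.S14351
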