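import Groth.Statements.S14550
import Groth.Agent.S13067

set_option autoImplicit false
universe u
open CategoryTheory AlgebraicGeometry Limits
open Zeta

namespace Groth.Agent.S14550

open Groth.Agent.S13067

theorem quasiFinite_of_formallyUnramified_of_finiteType {R S : Type u} [CommRing R] [CommRing S]
    {φ : R →+* S} (h1 : φ.FormallyUnramified) (h2 : φ.FiniteType) : φ.QuasiFinite := by
  algebraize [φ]
  have : Algebra.QuasiFinite R S := inferInstance
  exact this

theorem locallyQuasiFinite_of_formallyUnramified {Z Y : Scheme.{u}} (g : Z ⟶ Y)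
    [FormallyUnramified g] [LocallyOfFiniteType g] : LocallyQuasiFinite g := by
  rw [HasRingHomProperty.iff_appLE (P := @LocallyQuasiFinite)]
  intro U V e
  exact quasiFinite_of_formallyUnramified_of_finiteType
    (HasRingHomProperty.appLE (P := @FormallyUnramified) g inferInstance U V e)
    (HasRingHomProperty.appLE (P := @LocallyOfFiniteType) g inferInstance U V e)

/-- The fixed scheme of Frobenius on `X ×_k k̄`: the projection to `X̄` is an immersion and the
structure map to `Spec k̄` is formally unramified and locally of finite type. -/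
theorem fix_unramified {k : Type u} [Field k] [Finite k]
    {X : Scheme.{u}} (f : X ⟶ Spec (CommRingCat.of k)) [LocallyOfFiniteType f] (FX : X ⟶ X)
    (hle : ∀ U : X.Opens, U ≤ FX ⁻¹ᵁ U)
    (hFapp : ∀ (U : X.Opens) (s : Γ(X, U)), (FX.appLE U U (hle U)).hom s = s ^ Nat.card k)
    (F : FinFr.ext (AlgebraicClosure k) f ⟶ FinFr.ext (AlgebraicClosure k) f)
    (hF1 : F ≫ FinFr.extπ (AlgebraicClosure k) f = FinFr.extπ (AlgebraicClosure k) f ≫ FX)
    (hF2 : F ≫ FinFr.extStr (AlgebraicClosure k) f = FinFr.extStr (AlgebraicClosure k) f) :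
    ∃ (i : FinFr.fixScheme (FinFr.extStr (AlgebraicClosure k) f) F hF2 ⟶
        FinFr.ext (AlgebraicClosure k) f),
      IsImmersion i ∧ FormallyUnramified (i ≫ FinFr.extStr (AlgebraicClosure k) f) ∧
      LocallyOfFiniteType (i ≫ FinFr.extStr (AlgebraicClosure k) f) := by
  set K := AlgebraicClosure k
  set p := FinFr.extStr K f with hp
  set π := FinFr.extπ K f with hπ
  let Δ : FinFr.ext K f ⟶ pullback p p := pullback.lift (𝟙 _) (𝟙 _) rfl
  let Γ' : FinFr.ext K f ⟶ pullback p p := pullback.lift (𝟙 _) F (by rw [hF2, Category.id_comp])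
  let i : FinFr.fixScheme p F hF2 ⟶ FinFr.ext K f := pullback.fst Γ' Δ
  have hcond : i ≫ Γ' = pullback.snd Γ' Δ ≫ Δ := pullback.condition
  have eΓ1 : Γ' ≫ pullback.fst p p = 𝟙 _ := pullback.lift_fst _ _ _
  have eΓ2 : Γ' ≫ pullback.snd p p = F := pullback.lift_snd _ _ _
  have eΔ1 : Δ ≫ pullback.fst p p = 𝟙 _ := pullback.lift_fst _ _ _
  have eΔ2 : Δ ≫ pullback.snd p p = 𝟙 _ := pullback.lift_snd _ _ _
  have hfs : i = pullback.snd Γ' Δ := by
    have := congr($hcond ≫ pullback.fst p p)
    rwa [Category.assoc, Category.assoc, eΓ1, eΔ1, Category.comp_id, Category.comp_id] at this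
  have hiF : i ≫ F = i := by
    have := congr($hcond ≫ pullback.snd p p)
    rw [Category.assoc, Category.assoc, eΓ2, eΔ2, Category.comp_id] at this
    rw [this, ← hfs]
  have hΔmono : Mono Δ := mono_of_mono_fac (pullback.lift_fst _ _ _ : Δ ≫ pullback.fst p p = 𝟙 _)
  have himono : Mono i := inferInstanceAs (Mono (pullback.fst Γ' Δ))
  have hΔimm : IsImmersion Δ := inferInstanceAs (IsImmersion (pullback.diagonal p))
  have hiimm : IsImmersion i := MorphismProperty.pullback_fst _ _ hΔimm
  have hplft : LocallyOfFiniteType p := MorphismProperty.pullback_snd _ _ inferInstance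
  let g : FinFr.fixScheme p F hF2 ⟶ Spec (CommRingCat.of K) := i ≫ p
  have hglft : LocallyOfFiniteType g := inferInstance
  have hq0 : ((Nat.card k : ℕ) : k) = 0 := by
    have := Fintype.ofFinite k
    rw [Nat.card_eq_fintype_card]
    exact FiniteField.cast_card_eq_zero k
  have hgFU : FormallyUnramified g := by
    refine FormallyUnramified.of_hom_ext g fun R S φ hφ hker g₁ g₂ h12 hg ↦ ?_
    rw [← cancel_mono i]
    have hq : ((Nat.card k : ℕ) : R) = 0 := by
      let χ : CommRingCat.of k ⟶ R := Spec.preimage (g₁ ≫ g ≫ FinFr.specι k K)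
      have := congrArg χ.hom hq0
      rwa [map_natCast, map_zero] at this
    refine pullback.hom_ext ?_ ?_
    · have key := frob_hom_ext FX (Nat.card k) hle hFapp φ hφ hker hq
        (g₁ ≫ i ≫ π) (g₂ ≫ i ≫ π) (by rw [reassoc_of% h12]) ?_ ?_
      · simpa [Category.assoc] using key
      · rw [Category.assoc, Category.assoc, ← hF1, reassoc_of% hiF]
      · rw [Category.assoc, Category.assoc, ← hF1, reassoc_of% hiF]
    · simpa [g, Category.assoc] using hg
  exact ⟨i, hiimm, hgFU, hglft⟩

/-- Let X be a scheme of finite type over a finite field k with q elements (no smoothness assumption),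
k̄ an algebraic closure of k, and F = Frob_{X,q} × id the k̄-endomorphism of X̄ = X ×_k k̄ induced
by the q-Frobenius of X. Then the intersection Γ_F ∩ Δ of the graph of F with the diagonal in X̄
×_{k̄} X̄ is a reduced scheme with finitely many points. (The published statement adds that,
consequently, the intersection number of the graph of F with the diagonal equals the number of these
points; this row omits that consequence.) The q-Frobenius F_X is pinned as the endomorphism that is
the identity on points and raises sections to the q-th power, and F by F ≫ pr_1 = pr_1 ≫ F_X and F ≫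
pr_2 = pr_2. -/
theorem result {k : Type u} [Field k] [Finite k]
    {X : Scheme.{u}} (f : X ⟶ Spec (CommRingCat.of k)) [LocallyOfFiniteType f] [QuasiCompact f]
    (FX : X ⟶ X) (hFb : FX.base = 𝟙 _) (hle : ∀ U : X.Opens, U ≤ FX ⁻¹ᵁ U)
    (hFapp : ∀ (U : X.Opens) (s : Γ(X, U)), (FX.appLE U U (hle U)).hom s = s ^ Nat.card k)
    (F : FinFr.ext (AlgebraicClosure k) f ⟶ FinFr.ext (AlgebraicClosure k) f)
    (hF1 : F ≫ FinFr.extπ (AlgebraicClosure k) f = FinFr.extπ (AlgebraicClosure k) f ≫ FX)
    (hF2 : F ≫ FinFr.extStr (AlgebraicClosure k) f = FinFr.extStr (AlgebraicClosure k) f) :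
    IsReduced (FinFr.fixScheme (FinFr.extStr (AlgebraicClosure k) f) F hF2) ∧
      Finite ↥(FinFr.fixScheme (FinFr.extStr (AlgebraicClosure k) f) F hF2) := by
  obtain ⟨i, hi, hFU, hlft⟩ := fix_unramified f FX hle hFapp F hF1 hF2
  refine ⟨isReduced_of_formallyUnramified_field (i ≫ FinFr.extStr (AlgebraicClosure k) f), ?_⟩
  set K := AlgebraicClosure k
  set p := FinFr.extStr K f with hp
  set g := i ≫ p with hg
  have hlqf : LocallyQuasiFinite g := locallyQuasiFinite_of_formallyUnramified g
  -- `X̄` is a Noetherian scheme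
  have hplft : LocallyOfFiniteType p := MorphismProperty.pullback_snd _ _ inferInstance
  have hpqc : QuasiCompact p := MorphismProperty.pullback_snd _ _ inferInstance
  have h1 : IsLocallyNoetherian (FinFr.ext K f) := LocallyOfFiniteType.isLocallyNoetherian p
  have h2 : CompactSpace (FinFr.ext K f) := QuasiCompact.compactSpace_of_compactSpace p
  have h3 : IsNoetherian (FinFr.ext K f) := ⟨⟩
  have h4 : TopologicalSpace.NoetherianSpace (FinFr.ext K f) := inferInstance
  have h5 : TopologicalSpace.NoetherianSpace (FinFr.fixScheme p F hF2) :=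
    (i.isEmbedding.isInducing).noetherianSpace
  have hqc : QuasiCompact g := inferInstance
  let pt : (Spec (CommRingCat.of K) : Scheme.{u}) := (default : PrimeSpectrum K)
  have hfin := Scheme.Hom.finite_preimage_singleton g pt
  have huniv : g ⁻¹' {pt} = Set.univ := by
    ext z
    simp only [Set.mem_preimage, Set.mem_singleton_iff, Set.mem_univ, iff_true]
    exact Subsingleton.elim (α := PrimeSpectrum K) _ _
  rw [huniv] at hfin
  exact Set.finite_univ_iff.mp hfin

end Groth.Agent.S14550
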