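import Groth.Statements.S14352
import Mathlib
import Groth.Agent.S14550
import Groth.Agent.Lib.UnramifiedLocusBC

set_option autoImplicit false
universe u
open Mor

namespace Groth.Agent.S14352

open CategoryTheory CategoryTheory.Limits AlgebraicGeometry

/-- A reduced algebra of finite type over an algebraically closed field with at most one prime is
a quotient of the field. -/
theorem algebraMap_surjective_of_subsingleton_primeSpectrum {K B : Type u} [Field K]
    [IsAlgClosed K] [CommRing B] [Algebra K B] [Algebra.FiniteType K B] [_root_.IsReduced B]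
    [Nontrivial B] (h : Subsingleton (PrimeSpectrum B)) :
    Function.Surjective (algebraMap K B) := by
  have hfield : IsField B := by
    rw [Ring.isField_iff_maximal_bot]
    obtain ⟨m, hm⟩ := Ideal.exists_maximal B
    have h0 : m = ⊥ := by
      have h1 : nilradical B = m := by
        rw [nilradical_eq_sInf]
        apply le_antisymm
        · exact sInf_le hm.isPrime
        · apply le_sInf
          intro p hp
          have : (⟨p, hp⟩ : PrimeSpectrum B) = ⟨m, hm.isPrime⟩ := Subsingleton.elim _ _
          rw [show p = m from congrArg PrimeSpectrum.asIdeal this]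
      rw [← h1, nilradical_eq_zero]; rfl
    rwa [h0] at hm
  let := hfield.toField
  have : Module.Finite K B := finite_of_finite_type_of_isJacobsonRing K B
  have : Algebra.IsIntegral K B := inferInstance
  exact (IsAlgClosed.algebraMap_bijective_of_isIntegral (k := K) (K := B)).2

theorem formallyUnramified_of_isReduced_of_discrete {K : Type u} [Field K] [IsAlgClosed K]
    {Z : Scheme.{u}} (g : Z ⟶ Spec (CommRingCat.of K)) [LocallyOfFiniteType g]
    [IsReduced Z] [DiscreteTopology Z] : FormallyUnramified g := by
  rw [HasRingHomProperty.iff_exists_appLE (P := @FormallyUnramified)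
    (RingHom.FormallyUnramified.stableUnderComposition.stableUnderCompositionWithLocalizationAway
      RingHom.FormallyUnramified.holdsForLocalizationAway).1]
  intro z
  obtain ⟨_, ⟨V, hV, rfl⟩, hzV, hVz⟩ := Z.isBasis_affineOpens.exists_subset_of_mem_open
    (Set.mem_singleton z) (isOpen_discrete {z})
  refine ⟨⟨⊤, isAffineOpen_top _⟩, ⟨V, hV⟩, hzV, le_top, ?_⟩
  have hft : (g.appLE ⊤ V le_top).hom.FiniteType :=
    HasRingHomProperty.appLE (P := @LocallyOfFiniteType) g inferInstance
      ⟨⊤, isAffineOpen_top _⟩ ⟨V, hV⟩ le_top
  let ψ : K →+* Γ(Z, V) :=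
    ((Scheme.ΓSpecIso (CommRingCat.of K)).inv ≫ g.appLE ⊤ V le_top).hom
  have h4 : ψ.FiniteType := by
    have : ψ = (g.appLE ⊤ V le_top).hom.comp (Scheme.ΓSpecIso (CommRingCat.of K)).inv.hom := rfl
    rw [this]
    exact RingHom.FiniteType.comp hft (RingHom.FiniteType.of_surjective _
        (ConcreteCategory.bijective_of_isIso (Scheme.ΓSpecIso (CommRingCat.of K)).inv).2)
  have hsub : Subsingleton (PrimeSpectrum Γ(Z, V)) := by
    refine ⟨fun p q ↦ ?_⟩
    apply hV.fromSpec.isOpenEmbedding.injective
    have hp : hV.fromSpec p ∈ (V : Set Z) := by
      rw [← hV.range_fromSpec]; exact ⟨p, rfl⟩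
    have hq : hV.fromSpec q ∈ (V : Set Z) := by
      rw [← hV.range_fromSpec]; exact ⟨q, rfl⟩
    rw [Set.mem_singleton_iff.mp (hVz hp), Set.mem_singleton_iff.mp (hVz hq)]
  have hnt : Nontrivial Γ(Z, V) := by
    have hz' : z ∈ Set.range hV.fromSpec := by rw [hV.range_fromSpec]; exact hzV
    obtain ⟨p, -⟩ := hz'
    exact (PrimeSpectrum.nonempty_iff_nontrivial.mp ⟨p⟩)
  algebraize [ψ]
  have hsurj : Function.Surjective ψ := algebraMap_surjective_of_subsingleton_primeSpectrum hsub
  have : (g.appLE ⊤ V le_top).hom = ψ.comp (Scheme.ΓSpecIso (CommRingCat.of K)).hom.hom := by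
    ext a
    simp [ψ]
  rw [this]
  exact RingHom.FormallyUnramified.of_surjective (hsurj.comp
    (ConcreteCategory.bijective_of_isIso (Scheme.ΓSpecIso (CommRingCat.of K)).hom).2)

open CategoryTheory CategoryTheory.Limits AlgebraicGeometry in
/-- A morphism of schemes f : X → S which is locally of finite presentation is unramified (formally
unramified) if and only if all its geometric fibres are reduced with discrete underlying space: for
every algebraically closed field K and every S-point Spec K → S, the fibre product X ×_S Spec K is a
reduced scheme whose topological space is discrete. -/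
theorem result {X S : Scheme.{u}} (f : X ⟶ S)
    [LocallyOfFinitePresentation f] :
    FormallyUnramified f ↔
      ∀ (K : Type u) [Field K] [IsAlgClosed K] (s : Spec (CommRingCat.of K) ⟶ S),
        IsReduced (pullback f s) ∧ DiscreteTopology ↥(pullback f s) := by
  constructor
  · intro hf K _ _ s
    have : FormallyUnramified (pullback.snd f s) := MorphismProperty.pullback_snd _ _ inferInstance
    have : LocallyOfFiniteType (pullback.snd f s) := inferInstance
    refine ⟨Groth.Agent.S13067.isReduced_of_formallyUnramified_field (pullback.snd f s), ?_⟩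
    have := Groth.Agent.S14550.locallyQuasiFinite_of_formallyUnramified (pullback.snd f s)
    have h := Scheme.Hom.isDiscrete_preimage_singleton (pullback.snd f s)
      (default : Spec (CommRingCat.of K))
    have huniv : (pullback.snd f s) ⁻¹' {default} = Set.univ := by
      ext p
      simp only [Set.mem_preimage, Set.mem_singleton_iff, Set.mem_univ, iff_true]
      exact Subsingleton.elim _ _
    rw [huniv] at h
    exact isDiscrete_univ_iff.mp h
  · intro H
    apply Groth.Agent.Lib.UnramifiedLocusBC.formallyUnramified_of_forall_stalkMap
    intro x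
    let K := AlgebraicClosure (S.residueField (f x))
    let s : Spec (CommRingCat.of K) ⟶ S :=
      Spec.map (CommRingCat.ofHom (algebraMap (S.residueField (f x)) K)) ≫
        S.fromSpecResidueField (f x)
    obtain ⟨hred, hdisc⟩ := H K s
    have hpb := IsPullback.of_hasPullback f s
    have hs : s default = f x := by
      have : s default ∈ Set.range (S.fromSpecResidueField (f x)) := ⟨_, rfl⟩
      rw [Scheme.range_fromSpecResidueField] at this
      exact this
    obtain ⟨p, hp1, hp2⟩ := Scheme.Pullback.exists_preimage_pullback x default hs.symm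
    have : LocallyOfFiniteType (pullback.snd f s) := inferInstance
    have hFU : FormallyUnramified (pullback.snd f s) :=
      formallyUnramified_of_isReduced_of_discrete _
    have h1 := (Groth.Agent.Lib.UnramifiedLocusBC.formallyUnramified_stalkMap_iff_of_isPullback
      hpb p).mp (FormallyUnramified.stalkMap _ p)
    rw [hp1] at h1
    exact h1

end Groth.Agent.S14352
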