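import Groth.Statements.S14353
import Mathlib
import Groth.Agent.Lib.H2LimTensor

set_option autoImplicit false
universe u
open CategoryTheory CategoryTheory.Limits CategoryTheory.MonoidalCategory
open CAlg

namespace Groth.Agent.S14353

open Groth.Agent.Lib.H2LimTensor TensorProduct Opposite

variable {R : Type u} [CommRing R] (M : ℕᵒᵖ ⥤ ModuleCat.{u} R)

/-- the tower `M ⊗ X` -/
noncomputable abbrev T (X : Type u) [AddCommGroup X] [Module R X] : ℕᵒᵖ ⥤ ModuleCat.{u} R :=
  M ⋙ tensorRight (ModuleCat.of R X)

/-- map of towers induced by a linear map -/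
noncomputable def Tmap {X Y : Type u} [AddCommGroup X] [Module R X] [AddCommGroup Y] [Module R Y]
    (p : X →ₗ[R] Y) : T M X ⟶ T M Y where
  app j := (M.obj j) ◁ (ModuleCat.ofHom p)
  naturality i j f := (MonoidalCategory.whisker_exchange (M.map f) (ModuleCat.ofHom p)).symm

lemma Tmap_app_hom {X Y : Type u} [AddCommGroup X] [Module R X] [AddCommGroup Y] [Module R Y]
    (p : X →ₗ[R] Y) (j : ℕᵒᵖ) : ((Tmap M p).app j).hom = p.lTensor (M.obj j) := rfl

lemma T_map_hom (X : Type u) [AddCommGroup X] [Module R X] {i j : ℕᵒᵖ} (f : i ⟶ j) :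
    ((T M X).map f).hom = (M.map f).hom.rTensor X := rfl

lemma isArtinian_T (hM : ∀ n : ℕᵒᵖ, IsFiniteLength R (M.obj n)) (b : ℕ) (j : ℕᵒᵖ) :
    IsArtinian R ((T M (Fin b → R)).obj j) := by
  have h1 : IsArtinian R (M.obj j) := (isFiniteLength_iff_isNoetherian_isArtinian.mp (hM j)).2
  have h2 : IsArtinian R (Fin b → M.obj j) := inferInstance
  exact isArtinian_of_linearEquiv (TensorProduct.piScalarRight R R (M.obj j) (Fin b)).symm

/-- post followed by projection -/
lemma post_π_apply (X : Type u) [AddCommGroup X] [Module R X] (j : ℕᵒᵖ)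
    (x : (limit M : ModuleCat.{u} R) ⊗[R] X) :
    (limit.π (T M X) j).hom ((limit.post M (tensorRight (ModuleCat.of R X))).hom x) =
      (limit.π M j).hom.rTensor X x :=
  ConcreteCategory.congr_hom (limit.post_π M (tensorRight (ModuleCat.of R X)) j) x


/-- from a compatible family in `M_j ⊗ R^b` to an element of `(lim M) ⊗ R^b` -/
lemma exists_of_family (b : ℕ) (z : ∀ j, (T M (Fin b → R)).obj j)
    (hz : ∀ {i j : ℕᵒᵖ} (f : i ⟶ j), ((T M (Fin b → R)).map f).hom (z i) = z j) :
    ∃ x' : (limit M : ModuleCat.{u} R) ⊗[R] (Fin b → R),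
      ∀ j, (limit.π M j).hom.rTensor (Fin b → R) x' = z j := by
  have h1 : ∀ i : Fin b, ∃ ζ : ↑(limit M), ∀ j, (limit.π M j).hom ζ = coord i (z j) := by
    intro i
    apply exists_limit_elt M (fun j => coord i (z j))
    intro j j' f
    rw [← coord_rTensor, ← T_map_hom, hz]
  choose ζ hζ using h1
  refine ⟨∑ i, ζ i ⊗ₜ[R] (Pi.single i (1 : R) : Fin b → R), fun j => ?_⟩
  rw [map_sum]
  simp_rw [LinearMap.rTensor_tmul, hζ]
  exact sum_coord (z j)

lemma eq_of_forall_π (b : ℕ) (x' x'' : (limit M : ModuleCat.{u} R) ⊗[R] (Fin b → R))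
    (h : ∀ j, (limit.π M j).hom.rTensor (Fin b → R) x' =
      (limit.π M j).hom.rTensor (Fin b → R) x'') : x' = x'' := by
  apply ext_coord
  intro i
  apply limit_ext' M
  intro j
  rw [← coord_rTensor, ← coord_rTensor, h]

theorem result' (R : Type u) [CommRing R]
    (M : ℕᵒᵖ ⥤ ModuleCat.{u} R) (hM : ∀ n : ℕᵒᵖ, IsFiniteLength R (M.obj n))
    (N : Type u) [AddCommGroup N] [Module R N] [Module.FinitePresentation R N] :
    IsIso (limit.post M (tensorRight (ModuleCat.of R N))) := by
  obtain ⟨b, a, p, q, hp, hpq⟩ := Module.FinitePresentation.exists_fin' R N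
  rw [ConcreteCategory.isIso_iff_bijective]
  constructor
  · -- injectivity
    show Function.Injective (limit.post M (tensorRight (ModuleCat.of R N))).hom
    rw [injective_iff_map_eq_zero]
    intro x hx
    have hx' : ∀ j, (limit.π M j).hom.rTensor N x = 0 := by
      intro j
      rw [← post_π_apply, hx, map_zero]
    obtain ⟨x', rfl⟩ := LinearMap.lTensor_surjective (limit M : ModuleCat.{u} R) hp x
    -- the family z
    have hzc : ∀ {i j : ℕᵒᵖ} (f : i ⟶ j), ((T M (Fin b → R)).map f).hom
        ((limit.π M i).hom.rTensor (Fin b → R) x') = (limit.π M j).hom.rTensor (Fin b → R) x' := by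
      intro i j f
      rw [T_map_hom, ← LinearMap.comp_apply, ← LinearMap.rTensor_comp, ← ModuleCat.hom_comp,
        limit.w]
    have hne : ∀ j, ∃ w, ((Tmap M q).app j).hom w =
        (limit.π M j).hom.rTensor (Fin b → R) x' := by
      intro j
      rw [Tmap_app_hom]
      have hex := lTensor_exact (M.obj j) hpq hp
      apply (hex _).mp
      have := hx' j
      rw [← LinearMap.comp_apply, LinearMap.rTensor_comp_lTensor, ← LinearMap.lTensor_comp_rTensor,
        LinearMap.comp_apply] at this
      exact this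
    obtain ⟨w, hwc, hw⟩ := exists_lift (Tmap M q) (isArtinian_T M hM a) _ hzc hne
    obtain ⟨x'', hx''⟩ := exists_of_family M a w hwc
    have hxx : q.lTensor _ x'' = x' := by
      apply eq_of_forall_π M b
      intro j
      rw [← LinearMap.comp_apply, LinearMap.rTensor_comp_lTensor, ← LinearMap.lTensor_comp_rTensor,
        LinearMap.comp_apply, hx'', ← Tmap_app_hom, hw]
    rw [← hxx, ← LinearMap.comp_apply, ← LinearMap.lTensor_comp]
    have : p ∘ₗ q = 0 := by
      ext v
      exact hpq.apply_apply_eq_zero _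
    rw [this, LinearMap.lTensor_zero, LinearMap.zero_apply]
  · -- surjectivity
    show Function.Surjective (limit.post M (tensorRight (ModuleCat.of R N))).hom
    intro y
    have hcc : ∀ {i j : ℕᵒᵖ} (f : i ⟶ j), ((T M N).map f).hom
        ((limit.π (T M N) i).hom y) = (limit.π (T M N) j).hom y :=
      fun f => limit_w_apply (T M N) f y
    have hne : ∀ j, ∃ w, ((Tmap M p).app j).hom w = (limit.π (T M N) j).hom y := by
      intro j
      rw [Tmap_app_hom]
      exact LinearMap.lTensor_surjective _ hp _
    obtain ⟨z, hzc, hz⟩ := exists_lift (Tmap M p) (isArtinian_T M hM b) _ hcc hne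
    obtain ⟨x', hx'⟩ := exists_of_family M b z hzc
    refine ⟨p.lTensor _ x', ?_⟩
    apply limit_ext' (T M N)
    intro j
    rw [post_π_apply, ← LinearMap.comp_apply, LinearMap.rTensor_comp_lTensor,
      ← LinearMap.lTensor_comp_rTensor, LinearMap.comp_apply, hx', ← Tmap_app_hom, hz]


/-- For a commutative ring R, an inverse system (M_n)_{n ∈ ℕ} of R-modules of finite length and a
finitely presented R-module N, the canonical comparison map (lim_n M_n) ⊗_R N ⟶ lim_n (M_n ⊗_R N) is
an isomorphism. (The published statement takes N = R/I for a finitely generated ideal I; the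
argument covers every finitely presented N, which is the form stated here.) -/
theorem result (R : Type u) [CommRing R]
    (M : ℕᵒᵖ ⥤ ModuleCat.{u} R) (hM : ∀ n : ℕᵒᵖ, IsFiniteLength R (M.obj n))
    (N : Type u) [AddCommGroup N] [Module R N] [Module.FinitePresentation R N] :
    IsIso (limit.post M (tensorRight (ModuleCat.of R N))) := by
  exact result' R M hM N

end Groth.Agent.S14353
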