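import Groth.Statements.S14355
import Mathlib

set_option autoImplicit false
universe v u
open CategoryTheory CategoryTheory.Limits
open SpSeqMor

namespace Groth.Agent.S14355
set_option linter.style.haveILetI false
set_option linter.unusedSectionVars false

section Gen
variable {C : Type u} [Category.{v} C] [Abelian C]

theorem isZero_homology {ι : Type*} {c : ComplexShape ι} {K : HomologicalComplex C c} (j : ι)
    (h : IsZero (K.X j)) : IsZero (K.homology j) := by
  have h1 : IsZero (K.cycles j) := IsZero.of_mono (K.iCycles j) h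
  exact IsZero.of_epi (K.homologyπ j) h1

theorem homologyMap_eq_zero {ι : Type*} {c : ComplexShape ι} {K K' : HomologicalComplex C c}
    (ψ : K ⟶ K') (j : ι) (h : ψ.f j = 0) : HomologicalComplex.homologyMap ψ j = 0 := by
  have h1 : HomologicalComplex.cyclesMap ψ j = 0 := by
    rw [← cancel_mono (K'.iCycles j), HomologicalComplex.cyclesMap_i, h, comp_zero, zero_comp]
  rw [← cancel_epi (K.homologyπ j), HomologicalComplex.homologyπ_naturality, h1, zero_comp,
    comp_zero]

theorem isZero_of_eq_bot {X : C} (S : Subobject X) (h : S = ⊥) : IsZero (S : C) := by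
  subst h
  exact IsZero.of_iso (isZero_zero _) Subobject.botCoeIsoZero

theorem mono_cokernel_π_of_eq_zero {A B : C} (g : A ⟶ B) (h : g = 0) : Mono (cokernel.π g) := by
  subst h
  infer_instance

/-- if the graded piece is zero the two steps agree -/
theorem fil_eq_of_isZero_gr {X : C} (F : ℤ → Subobject X) (hF : Antitone F) (p : ℤ)
    (h : IsZero (SpSeq.grPiece F hF p)) : F (p + 1) = F p := by
  have hle : F (p + 1) ≤ F p := hF (Int.le_add_one le_rfl)
  haveI : Epi ((F (p + 1)).ofLE (F p) hle) := Preadditive.epi_of_isZero_cokernel _ h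
  haveI : IsIso ((F (p + 1)).ofLE (F p) hle) := isIso_of_mono_of_epi _
  apply le_antisymm hle
  exact Subobject.le_of_comm (inv ((F (p + 1)).ofLE (F p) hle))
    (by rw [IsIso.inv_comp_eq, Subobject.ofLE_arrow])

theorem fil_eq_top {X : C} (F : ℤ → Subobject X) (hF : Antitone F) (a₀ : ℤ)
    (hz : ∀ i < a₀, IsZero (SpSeq.grPiece F hF i)) (htop : ∃ a, F a = ⊤) : F a₀ = ⊤ := by
  have hk : ∀ k : ℕ, F (a₀ - k) = F a₀ := by
    intro k
    induction k with
    | zero => simp
    | succ k ih =>
      have := fil_eq_of_isZero_gr F hF (a₀ - ((k + 1 : ℕ) : ℤ)) (hz _ (by push_cast; omega))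
      rw [← this, ← ih]
      congr 1
      push_cast
      ring
  obtain ⟨a, ha⟩ := htop
  rcases le_or_gt a a₀ with h | h
  · have := hk (a₀ - a).toNat
    rw [Int.toNat_of_nonneg (by omega), sub_sub_cancel, ha] at this
    exact this.symm
  · exact top_le_iff.mp (ha ▸ hF h.le)

theorem fil_eq_bot {X : C} (F : ℤ → Subobject X) (hF : Antitone F) (a₀ : ℤ)
    (hz : ∀ i, a₀ < i → IsZero (SpSeq.grPiece F hF i)) (hbot : ∃ b, F b = ⊥) :
    F (a₀ + 1) = ⊥ := by
  have hk : ∀ k : ℕ, F (a₀ + 1 + k) = F (a₀ + 1) := by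
    intro k
    induction k with
    | zero => simp
    | succ k ih =>
      have := fil_eq_of_isZero_gr F hF (a₀ + 1 + k) (hz _ (by omega))
      rw [← ih, ← this]
      congr 1
      push_cast
      ring
  obtain ⟨b, hb⟩ := hbot
  rcases le_or_gt (a₀ + 1) b with h | h
  · have := hk (b - (a₀ + 1)).toNat
    rw [Int.toNat_of_nonneg (by omega), add_sub_cancel, hb] at this
    exact this.symm
  · exact le_bot_iff.mp (hb ▸ hF h.le)

end Gen


/-- Let φ : E ⟶ E' be a morphism of E_2-cohomological spectral sequences in an abelian category, with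
abutments H and H' whose filtrations are finite in each degree, and f a morphism of abutment data
over φ. Fix integers l and a₀. If E_2^{i, l-i} = 0 for i < a₀, E'_2^{i, l-i} = 0 for i > a₀ and
φ_2^{a₀, l-a₀} = 0, then f^l : H^l ⟶ H'^l is zero. (The published statement prints the two vanishing
hypotheses at positions (i, l); the argument works on the line of total degree l, at positions (i, l
- i), which is the form stated here.) -/
theorem result (C : Type u) [Category.{v} C] [Abelian C]
    (E E' : E₂CohomologicalSpectralSequence C) (φ : E ⟶ E') (H H' : ℤ → C)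
    (a : SpSeq.Abutment E H) (a' : SpSeq.Abutment E' H')
    (ha : ∀ n : ℤ, a.IsFinite n) (ha' : ∀ n : ℤ, a'.IsFinite n)
    (f : SpSeqMor.AbutHom φ a a') (l a₀ : ℤ)
    (hE : ∀ i : ℤ, i < a₀ → IsZero ((E.page 2 le_rfl).X (i, l - i)))
    (hE' : ∀ i : ℤ, a₀ < i → IsZero ((E'.page 2 le_rfl).X (i, l - i)))
    (hφ : (φ.hom 2 le_rfl).f (a₀, l - a₀) = 0) :
    f.hom l = 0 := by
  -- persistence of zero objects and zero maps along the pages
  have zeroE : ∀ (pq : ℤ × ℤ), IsZero ((E.page 2 le_rfl).X pq) →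
      ∀ (r : ℤ) (hr : 2 ≤ r), IsZero ((E.page r hr).X pq) := by
    intro pq h r hr
    induction r, hr using Int.le_induction with
    | base => exact h
    | succ r hr ih => exact IsZero.of_iso (isZero_homology pq ih) (E.iso r (r + 1) pq rfl hr).symm
  have zeroE' : ∀ (pq : ℤ × ℤ), IsZero ((E'.page 2 le_rfl).X pq) →
      ∀ (r : ℤ) (hr : 2 ≤ r), IsZero ((E'.page r hr).X pq) := by
    intro pq h r hr
    induction r, hr using Int.le_induction with
    | base => exact h
    | succ r hr ih => exact IsZero.of_iso (isZero_homology pq ih) (E'.iso r (r + 1) pq rfl hr).symm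
  have zeroφ : ∀ (r : ℤ) (hr : 2 ≤ r), (φ.hom r hr).f (a₀, l - a₀) = 0 := by
    intro r hr
    induction r, hr using Int.le_induction with
    | base => exact hφ
    | succ r hr ih =>
      have hc := φ.comm r (r + 1) (a₀, l - a₀) rfl hr
      rw [homologyMap_eq_zero _ _ ih, zero_comp] at hc
      rw [← cancel_epi (E.iso r (r + 1) (a₀, l - a₀) rfl hr).hom, ← hc, comp_zero]
  -- graded pieces
  have key : ∀ (pq : ℤ × ℤ) (m : ℤ), pq.1 + pq.2 = m →
      Nonempty ((E.page (a.rk pq) (a.stat pq).1).X pq ≅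
        SpSeq.grPiece (a.fil m) (a.anti m) pq.1) := by
    rintro pq m rfl
    exact ⟨a.β pq⟩
  have key' : ∀ (pq : ℤ × ℤ) (m : ℤ), pq.1 + pq.2 = m →
      Nonempty ((E'.page (a'.rk pq) (a'.stat pq).1).X pq ≅
        SpSeq.grPiece (a'.fil m) (a'.anti m) pq.1) := by
    rintro pq m rfl
    exact ⟨a'.β pq⟩
  have htop : a.fil l a₀ = ⊤ := by
    apply fil_eq_top (a.fil l) (a.anti l) a₀ _ (ha l).1
    intro i hi
    obtain ⟨e⟩ := key (i, l - i) l (by simp)
    exact IsZero.of_iso (zeroE _ (hE i hi) _ _) e.symm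
  have hbot : a'.fil l (a₀ + 1) = ⊥ := by
    apply fil_eq_bot (a'.fil l) (a'.anti l) a₀ _ (ha' l).2
    intro i hi
    obtain ⟨e⟩ := key' (i, l - i) l (by simp)
    exact IsZero.of_iso (zeroE' _ (hE' i hi) _ _) e.symm
  -- the graded map vanishes
  have hgr0 : ∀ m : ℤ, a₀ + (l - a₀) = m → (f.fil m).gr a₀ = 0 := by
    rintro m rfl
    have h1 := (a.stat (a₀, l - a₀)).1
    have h1' := (a'.stat (a₀, l - a₀)).1
    have hc := f.comm (a₀, l - a₀) (a'.rk (a₀, l - a₀) - 2).toNat (a.rk (a₀, l - a₀) - 2).toNat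
      (by rw [Int.toNat_of_nonneg (by omega), Int.toNat_of_nonneg (by omega)]; ring)
    rw [zeroφ, zero_comp, comp_zero, comp_zero] at hc
    have hc' : (a.β (a₀, l - a₀)).hom ≫
        (f.fil ((a₀, l - a₀).1 + (a₀, l - a₀).2)).gr (a₀, l - a₀).1 =
        (a.β (a₀, l - a₀)).hom ≫ 0 := by rw [hc]; exact comp_zero.symm
    exact (Iso.cancel_iso_hom_left (a.β (a₀, l - a₀)) _ _).mp hc'
  have hgr := hgr0 l (by ring)
  -- conclude
  have hπ : (f.fil l).lift a₀ ≫ cokernel.π ((a'.filObj l).stepLE (Int.le_add_one (le_refl a₀))) =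
      0 := by
    have : cokernel.π ((a.filObj l).stepLE (Int.le_add_one (le_refl a₀))) ≫ (f.fil l).gr a₀ =
        (f.fil l).lift a₀ ≫ cokernel.π ((a'.filObj l).stepLE (Int.le_add_one (le_refl a₀))) := by
      unfold SpSeqMor.FilLift.gr
      exact cokernel.π_desc _ _ _
    have h2 : cokernel.π ((a.filObj l).stepLE (Int.le_add_one (le_refl a₀))) ≫
        (f.fil l).gr a₀ = 0 := by rw [hgr]; exact comp_zero
    exact this.symm.trans h2
  have hz : IsZero ((a'.filObj l).step (a₀ + 1)) := isZero_of_eq_bot _ hbot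
  haveI := mono_cokernel_π_of_eq_zero ((a'.filObj l).stepLE (Int.le_add_one (le_refl a₀)))
    (hz.eq_of_src _ _)
  have hlift : (f.fil l).lift a₀ = 0 := by
    rw [← cancel_mono (cokernel.π ((a'.filObj l).stepLE (Int.le_add_one (le_refl a₀)))), hπ,
      zero_comp]
  have harrow := (f.fil l).lift_arrow a₀
  rw [hlift, zero_comp] at harrow
  haveI : IsIso ((a.filObj l).fil a₀).arrow := (Subobject.isIso_arrow_iff_eq_top _).mpr htop
  show (f.fil l).hom = 0
  rw [← cancel_epi ((a.filObj l).fil a₀).arrow, comp_zero]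
  exact harrow.symm

end Groth.Agent.S14355
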