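import Groth.Statements.S14357
import Groth.Agent.Lib.H4ProjSpaceTop
import Groth.Agent.S0007
-- import your own Groth.Agent.* helpers here

set_option autoImplicit false
universe u
open AlgebraicGeometry
open Proj

namespace Groth.Agent.S14357

/-- For a field k the projective line over k is not an affine scheme. (The projective line is taken here
as Proj of the polynomial ring in two variables over k with its standard grading; the book builds it
by gluing two affine lines and identifies the two constructions later.) -/
theorem result (k : Type u) [Field k] :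
    ¬ IsAffine (CohB1.ProjSpace 1 k) := by

  intro haff
  have hq := Groth.Agent.Lib.H4Twist.isQCoh_twistProjSpace 1 k (-(((1 : ℕ) : ℤ) + 1 + ((0 : ℕ) : ℤ)))
  have hsub := Groth.Agent.S0007.result (CohB1.ProjSpace 1 k)
    (Twist.twistProjSpace 1 k (-(((1 : ℕ) : ℤ) + 1 + ((0 : ℕ) : ℤ)))) 1 one_pos
  obtain ⟨e⟩ := Groth.Agent.Lib.H4Twist.nonempty_HH_top_equiv_homogeneous 1 k 0
  have h1 : (⟨1, MvPolynomial.isHomogeneous_one _ _⟩ :
      ↥(MvPolynomial.homogeneousSubmodule (Fin (1 + 1)) k 0)) = 0 := by
    have := e.symm.injective (Subsingleton.elim (e.symm ⟨1, MvPolynomial.isHomogeneous_one _ _⟩)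
      (e.symm 0))
    exact this
  have h2 : (1 : MvPolynomial (Fin (1 + 1)) k) = 0 := congrArg Subtype.val h1
  exact one_ne_zero h2

end Groth.Agent.S14357
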