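import Groth.Statements.S14358
-- import your own Groth.Agent.* helpers here

set_option autoImplicit false
universe u
open CAlg

namespace Groth.Agent.S14358

/-- Let A be a Noetherian integral domain with fraction field K and let r ∈ K. Then r belongs to A if
and only if, for every nonzero g ∈ A and every associated prime p of the A-module A/(g), the element
r belongs to the local ring A_p inside K, i.e. s r = a in K for some a ∈ A and some s ∈ A outside p. -/
theorem result (A K : Type u)
    [CommRing A] [IsDomain A] [IsNoetherianRing A] [Field K] [Algebra A K] [IsFractionRing A K]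
    (r : K) :
    r ∈ Set.range (algebraMap A K) ↔
      ∀ g : A, g ≠ 0 → ∀ p ∈ associatedPrimes A (A ⧸ Ideal.span {g}),
        ∃ a s : A, s ∉ p ∧ algebraMap A K s * r = algebraMap A K a := by
  constructor
  · rintro ⟨a, rfl⟩ g _ p hp
    refine ⟨a, 1, fun h1 => ?_, by simp⟩
    have hp' : p.IsPrime := hp.isPrime
    exact hp'.ne_top ((Ideal.eq_top_iff_one p).mpr h1)
  · intro h
    obtain ⟨a, g, hg, rfl⟩ := IsFractionRing.div_surjective (A := A) r
    have hg0 : g ≠ 0 := nonZeroDivisors.ne_zero hg
    have hgK : algebraMap A K g ≠ 0 := by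
      rw [Ne, map_eq_zero_iff _ (IsFractionRing.injective A K)]
      exact hg0
    by_cases hzero : (Ideal.Quotient.mk (Ideal.span {g}) a) = 0
    · rw [Ideal.Quotient.eq_zero_iff_mem, Ideal.mem_span_singleton'] at hzero
      obtain ⟨c, hc⟩ := hzero
      refine ⟨c, ?_⟩
      rw [← hc, map_mul, mul_div_assoc, div_self hgK, mul_one]
    · exfalso
      obtain ⟨P, hP, hle⟩ := exists_le_isAssociatedPrime_of_isNoetherianRing A
        (Ideal.Quotient.mk (Ideal.span {g}) a) hzero
      obtain ⟨a', s, hs, hsa⟩ := h g hg0 P hP
      have hmem : s ∈ (⊥ : Submodule A (A ⧸ Ideal.span {g})).colon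
          {Ideal.Quotient.mk (Ideal.span {g}) a} := by
        rw [Submodule.mem_colon_singleton, Submodule.mem_bot]
        have h1 : s * a = a' * g := by
          apply IsFractionRing.injective A K
          rw [map_mul, map_mul, ← hsa, mul_div_assoc', div_mul_cancel₀ _ hgK]
        have h2 : s • (Ideal.Quotient.mk (Ideal.span {g}) a) =
            Ideal.Quotient.mk (Ideal.span {g}) (s * a) := rfl
        rw [h2, h1, Ideal.Quotient.eq_zero_iff_mem]
        exact Ideal.mul_mem_left _ _ (Ideal.mem_span_singleton_self g)
      exact hs (hle hmem)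

end Groth.Agent.S14358
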