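import Groth.Statements.S14359
import Mathlib.RingTheory.Ideal.KrullsHeightTheorem
import Mathlib.RingTheory.IntegralClosure.Algebra.Basic
import Mathlib.RingTheory.Localization.FractionRing
import Mathlib.Tactic.LinearCombination
import Mathlib.Tactic.FieldSimp

set_option autoImplicit false
universe u
open CAlg

namespace Groth.Agent.S14359

/-- Let A be a Noetherian integrally closed integral domain and b a nonzero element of A. Then every
associated prime of the A-module A/(b) has height one, so that A/(b) has no embedded associated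
primes. -/
theorem result
    (A : Type u) [CommRing A] [IsDomain A] [IsNoetherianRing A] [IsIntegrallyClosed A]
    (b : A) (hb : b ≠ 0) (p : Ideal A) (hp : p ∈ associatedPrimes A (A ⧸ Ideal.span {b})) :
    p.height = 1 := by
  classical
  obtain ⟨hprime, xq, hxq⟩ := (isAssociatedPrime_iff.mp hp)
  obtain ⟨a, rfl⟩ := Ideal.Quotient.mk_surjective xq
  have hmem : ∀ r : A, r ∈ p ↔ b ∣ r * a := by
    intro r
    rw [hxq, Submodule.mem_colon_singleton, Submodule.mem_bot]
    have h1 : r • (Ideal.Quotient.mk (Ideal.span {b}) a) = Ideal.Quotient.mk (Ideal.span {b}) (r * a) := by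
      rw [map_mul]
      rfl
    rw [h1, Ideal.Quotient.eq_zero_iff_mem, Ideal.mem_span_singleton]
  have hbp : b ∈ p := (hmem b).mpr (dvd_mul_right b a)
  have ha : ¬ b ∣ a := by
    intro hba
    apply hprime.ne_top
    rw [Ideal.eq_top_iff_one, hmem, one_mul]
    exact hba
  have hpbot : (⊥ : Ideal A) < p := by
    rw [bot_lt_iff_ne_bot]
    intro h0
    rw [h0, Ideal.mem_bot] at hbp
    exact hb hbp
  have hge : (1 : ℕ∞) ≤ p.height := by
    have hbotprime : (⊥ : Ideal A).IsPrime := Ideal.isPrime_bot
    have := Ideal.height_add_one_le_of_lt_of_isPrime hpbot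
    exact le_trans le_add_self this
  refine le_antisymm ?_ hge
  by_cases hcase : ∀ c ∈ p, ∀ c', c * a = b * c' → c' ∈ p
  · -- integrality: contradiction
    exfalso
    let K := FractionRing A
    have hbK : algebraMap A K b ≠ 0 := by
      intro h0
      exact hb ((IsFractionRing.injective A K) (by rw [h0, map_zero]))
    set x : K := algebraMap A K a / algebraMap A K b with hx
    let N : Submodule A K := Submodule.map (Algebra.linearMap A K) p
    have hN : N ≠ ⊥ := by
      intro h0
      have : algebraMap A K b ∈ N := ⟨b, hbp, rfl⟩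
      rw [h0, Submodule.mem_bot] at this
      exact hbK this
    have hNfg : N.FG := (IsNoetherian.noetherian p).map _
    have hxN : ∀ n ∈ N, x • n ∈ N := by
      rintro _ ⟨c, hc, rfl⟩
      obtain ⟨c', hc'⟩ := (hmem c).mp hc
      refine ⟨c', hcase c hc c' hc', ?_⟩
      show algebraMap A K c' = x • algebraMap A K c
      rw [smul_eq_mul, hx, div_mul_eq_mul_div, eq_div_iff hbK, ← map_mul, ← map_mul, mul_comm c' b,
        ← hc', mul_comm]
    have hint : IsIntegral A x := isIntegral_of_smul_mem_submodule N hN hNfg x hxN
    obtain ⟨a', ha'⟩ := IsIntegrallyClosed.isIntegral_iff.mp hint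
    apply ha
    refine ⟨a', ?_⟩
    apply IsFractionRing.injective A K
    rw [map_mul, ha', hx, mul_div_cancel₀ _ hbK]
  · push Not at hcase
    obtain ⟨c, hc, u, hcu, hu⟩ := hcase
    have hmin : p ∈ (Ideal.span {c}).minimalPrimes := by
      refine ⟨⟨hprime, (Ideal.span_singleton_le_iff_mem _).mpr hc⟩, ?_⟩
      rintro q ⟨hq, hcq⟩ hqp y hy
      obtain ⟨y', hy'⟩ := (hmem y).mp hy
      have h1 : y * u = c * y' := by
        apply mul_left_cancel₀ hb
        linear_combination (-y) * hcu + c * hy'
      have h2 : y * u ∈ q := by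
        rw [h1]
        exact Ideal.mul_mem_right _ _ (hcq (Ideal.mem_span_singleton_self c))
      exact (hq.mem_or_mem h2).resolve_right (fun huq => hu (hqp huq))
    exact Ideal.height_le_one_of_isPrincipal_of_mem_minimalPrimes (Ideal.span {c}) p hmin

end Groth.Agent.S14359
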