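import Mathlib
import Groth.Statements.S14360

set_option autoImplicit false
universe u
open AlgebraicGeometry
open Variety

namespace Groth.Agent.S14360

section Helpers

open CategoryTheory CategoryTheory.Limits

/-- Data extracted from `(f.comp g).equiv (PartialMap.id X)`. -/
theorem exists_alpha {X Y : Scheme.{u}} [PreirreducibleSpace X] [Nonempty Y]
    (f : X.PartialMap Y) [IsDominant f.hom] (g : Y.PartialMap X)
    (h : (f.comp g).equiv (Scheme.PartialMap.id X)) :
    ∃ (W : X.Opens) (_ : Dense (W : Set X)) (hWf : W ≤ f.domain)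
      (α : W.toScheme ⟶ g.domain.toScheme),
      α ≫ g.domain.ι = X.homOfLE hWf ≫ f.hom ∧ α ≫ g.hom = W.ι := by
  obtain ⟨W, hW, hWl, hWr, e⟩ := h
  have hWl' : W ≤ f.domain.ι ''ᵁ f.hom ⁻¹ᵁ g.domain := hWl
  have hWf : W ≤ f.domain := hWl'.trans (Scheme.Opens.ι_image_le _ _)
  have e' : X.homOfLE hWl' ≫ (f.domain.ι.isoImage (f.hom ⁻¹ᵁ g.domain)).inv ≫
      f.hom ∣_ g.domain ≫ g.hom = W.ι := by
    refine Eq.trans ?_ (e.trans ?_)
    · rfl
    · simp only [Scheme.PartialMap.restrict_hom, Scheme.Hom.toPartialMap_hom, Scheme.topIso_hom,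
        Category.comp_id]
      exact X.homOfLE_ι _
  refine ⟨W, hW, hWf,
    X.homOfLE hWl' ≫ (f.domain.ι.isoImage (f.hom ⁻¹ᵁ g.domain)).inv ≫ f.hom ∣_ g.domain, ?_, ?_⟩
  · rw [Category.assoc, Category.assoc, morphismRestrict_ι]
    rw [← Category.assoc, ← Category.assoc]
    congr 1
    rw [← cancel_mono f.domain.ι]
    simp only [Category.assoc]
    rw [Scheme.Hom.isoImage_inv_ι]
    simp
  · simp only [Category.assoc]
    exact e'

/-- The core construction: from mutually inverse data on dense opens build a partial iso. -/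
theorem nonempty_partialIso_of {X Y : Scheme.{u}} [PreirreducibleSpace X] [PreirreducibleSpace Y]
    (U : X.Opens) (V : Y.Opens) (f : U.toScheme ⟶ Y) (g : V.toScheme ⟶ X)
    (W : X.Opens) (hWU : W ≤ U) (α : W.toScheme ⟶ V.toScheme)
    (fW : W.toScheme ⟶ Y) (hfW : fW = X.homOfLE hWU ≫ f)
    (hα1 : α ≫ V.ι = fW) (hα2 : α ≫ g = W.ι)
    (W' : Y.Opens) (hW'V : W' ≤ V) (β : W'.toScheme ⟶ U.toScheme)
    (gW' : W'.toScheme ⟶ X) (hgW' : gW' = Y.homOfLE hW'V ≫ g)
    (hβ1 : β ≫ U.ι = gW') (hβ2 : β ≫ f = W'.ι)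
    [IsDominant fW] [IsDominant gW']
    (hW : (W : Set X).Nonempty) (hW' : (W' : Set Y).Nonempty) :
    Nonempty (Scheme.PartialIso X Y) := by
  -- the two pullbacks
  have k1 : pullback.snd fW W'.ι ≫ Y.homOfLE hW'V = pullback.fst fW W'.ι ≫ α := by
    rw [← cancel_mono V.ι, Category.assoc, Category.assoc, Scheme.homOfLE_ι, hα1,
      ← pullback.condition]
  have k2 : pullback.snd gW' W.ι ≫ X.homOfLE hWU = pullback.fst gW' W.ι ≫ β := by
    rw [← cancel_mono U.ι, Category.assoc, Category.assoc, Scheme.homOfLE_ι, hβ1,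
      ← pullback.condition]
  have c1 : pullback.snd fW W'.ι ≫ gW' = pullback.fst fW W'.ι ≫ W.ι := by
    rw [hgW', ← Category.assoc, k1, Category.assoc, hα2]
  have c2 : pullback.snd gW' W.ι ≫ fW = pullback.fst gW' W.ι ≫ W'.ι := by
    rw [hfW, ← Category.assoc, k2, Category.assoc, hβ2]
  let e : pullback fW W'.ι ≅ pullback gW' W.ι :=
    { hom := pullback.lift (pullback.snd _ _) (pullback.fst _ _) c1
      inv := pullback.lift (pullback.snd _ _) (pullback.fst _ _) c2
      hom_inv_id := by
        apply pullback.hom_ext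
        · rw [Category.assoc, pullback.lift_fst, pullback.lift_snd, Category.id_comp]
        · rw [Category.assoc, pullback.lift_snd, pullback.lift_fst, Category.id_comp]
      inv_hom_id := by
        apply pullback.hom_ext
        · rw [Category.assoc, pullback.lift_fst, pullback.lift_snd, Category.id_comp]
        · rw [Category.assoc, pullback.lift_snd, pullback.lift_fst, Category.id_comp] }
  let jA : pullback fW W'.ι ⟶ X := pullback.fst fW W'.ι ≫ W.ι
  let jB : pullback gW' W.ι ⟶ Y := pullback.fst gW' W.ι ≫ W'.ι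
  have hA : Nonempty ↥(pullback fW W'.ι) := by
    obtain ⟨y, hy, ⟨w, rfl⟩⟩ := (fW.denseRange.inter_open_nonempty _ W'.2 hW')
    obtain ⟨z, -, -⟩ := Scheme.Pullback.exists_preimage_pullback (f := fW) (g := W'.ι) w ⟨_, hy⟩ rfl
    exact ⟨z⟩
  have hB : Nonempty ↥(pullback gW' W.ι) := by
    obtain ⟨y, hy, ⟨w, rfl⟩⟩ := (gW'.denseRange.inter_open_nonempty _ W.2 hW)
    obtain ⟨z, -, -⟩ := Scheme.Pullback.exists_preimage_pullback (f := gW') (g := W.ι) w ⟨_, hy⟩ rfl
    exact ⟨z⟩
  refine ⟨{ source := jA.opensRange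
            dense_source := jA.opensRange.2.dense ?_
            target := jB.opensRange
            dense_target := jB.opensRange.2.dense ?_
            iso := jA.isoOpensRange.symm ≪≫ e ≪≫ jB.isoOpensRange }⟩
  · obtain ⟨z⟩ := hA
    exact ⟨jA z, z, rfl⟩
  · obtain ⟨z⟩ := hB
    exact ⟨jB z, z, rfl⟩

theorem equiv_id_of {X : Scheme.{u}} (p : X.PartialMap X) (h : p.hom = p.domain.ι) :
    p.equiv (Scheme.PartialMap.id X) := by
  refine ⟨p.domain, p.dense_domain, le_rfl, le_top, ?_⟩
  show X.homOfLE (le_refl p.domain) ≫ p.hom =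
    X.homOfLE (le_top : p.domain ≤ ⊤) ≫ (X.topIso.hom ≫ 𝟙 X)
  rw [Category.comp_id, Scheme.topIso_hom, Scheme.homOfLE_ι, h, Scheme.homOfLE_ι]

theorem comp_hom_eq_ι {X Y : Scheme.{u}} [PreirreducibleSpace X] [Nonempty Y]
    (f : X.PartialMap Y) [IsDominant f.hom] (g : Y.PartialMap X)
    (h : f.hom ∣_ g.domain ≫ g.hom = (f.hom ⁻¹ᵁ g.domain).ι ≫ f.domain.ι) :
    (f.comp g).hom = (f.comp g).domain.ι := by
  rw [Scheme.PartialMap.comp_hom, h]
  exact Scheme.Hom.isoImage_inv_ι _ _

/-- A partial iso composed with its inverse is the identity rational map. -/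
theorem partialIso_comp_symm {X Y : Scheme.{u}} [PreirreducibleSpace X] [Nonempty Y]
    (e : Scheme.PartialIso X Y) [IsDominant e.toPartialMap.hom] :
    e.toRationalMap.comp e.symm.toRationalMap = Scheme.RationalMap.id X := by
  rw [Scheme.RationalMap.toRationalMap_comp, Scheme.PartialMap.toRationalMap_eq_iff]
  apply Groth.Agent.S14360.equiv_id_of
  apply Groth.Agent.S14360.comp_hom_eq_ι
  show (e.iso.hom ≫ e.target.ι) ∣_ e.target ≫ (e.iso.inv ≫ e.source.ι) =
    ((e.iso.hom ≫ e.target.ι) ⁻¹ᵁ e.target).ι ≫ e.source.ι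
  have h1 : (e.iso.hom ≫ e.target.ι) ∣_ e.target ≫ e.iso.inv =
      ((e.iso.hom ≫ e.target.ι) ⁻¹ᵁ e.target).ι := by
    rw [← cancel_mono (e.iso.hom ≫ e.target.ι)]
    simp only [Category.assoc, Iso.inv_hom_id_assoc]
    exact morphismRestrict_ι _ _
  rw [← Category.assoc, h1]

theorem isDominant_partialIso {X Y : Scheme.{u}} (e : Scheme.PartialIso X Y) :
    IsDominant e.toPartialMap.hom := by
  have := AlgebraicGeometry.Opens.isDominant_ι e.dense_target
  exact inferInstanceAs (IsDominant (e.iso.hom ≫ e.target.ι))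

theorem comp_eq_representative {X Y Z : Scheme.{u}} [PreirreducibleSpace X] [Nonempty Y]
    (f : X ⤏ Y) [f.IsDominant] (g : Y ⤏ Z) :
    f.comp g = (f.representative.comp g.representative).toRationalMap := by
  calc f.comp g = f.comp g.representative.toRationalMap := by
        rw [g.toRationalMap_representative]
    _ = _ := rfl

theorem birational_of_equiv {X Y : Scheme.{u}} [IrreducibleSpace X] [IrreducibleSpace Y]
    (f0 : X.PartialMap Y) (g0 : Y.PartialMap X) [IsDominant f0.hom] [IsDominant g0.hom]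
    (h1 : (f0.comp g0).equiv (Scheme.PartialMap.id X))
    (h2 : (g0.comp f0).equiv (Scheme.PartialMap.id Y)) :
    Nonempty (Scheme.PartialIso X Y) := by
  obtain ⟨W, hW, hWf, α, hα1, hα2⟩ := Groth.Agent.S14360.exists_alpha _ _ h1
  obtain ⟨W', hW', hW'g, β, hβ1, hβ2⟩ := Groth.Agent.S14360.exists_alpha _ _ h2
  have : IsDominant (X.homOfLE hWf ≫ f0.hom) :=
    Scheme.PartialMap.isDominant_restrict_hom f0 W hW hWf
  have : IsDominant (Y.homOfLE hW'g ≫ g0.hom) :=
    Scheme.PartialMap.isDominant_restrict_hom g0 W' hW' hW'g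
  exact Groth.Agent.S14360.nonempty_partialIso_of f0.domain g0.domain
    f0.hom g0.hom W hWf α _ rfl hα1 hα2 W' hW'g β _ rfl hβ1 hβ2
    hW.nonempty hW'.nonempty

end Helpers

/-- Let X and Y be integral schemes. Then X and Y have isomorphic dense open subschemes if and only if
they are birational in the sense of rational maps, i.e. there exist dominant rational maps f : X ⤏ Y
and g : Y ⤏ X such that the composites g ∘ f and f ∘ g are the identity rational maps of X and of Y. -/
theorem result (X Y : Scheme.{u})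
    [IsIntegral X] [IsIntegral Y] :
    Scheme.Birational X Y ↔
      ∃ (f : X ⤏ Y) (g : Y ⤏ X) (_ : f.IsDominant) (_ : g.IsDominant),
        f.comp g = Scheme.RationalMap.id X ∧ g.comp f = Scheme.RationalMap.id Y := by
  constructor
  · rintro ⟨e⟩
    have h1 := Groth.Agent.S14360.isDominant_partialIso e
    have h2 := Groth.Agent.S14360.isDominant_partialIso e.symm
    exact ⟨e.toRationalMap, e.symm.toRationalMap, inferInstance, inferInstance,
      Groth.Agent.S14360.partialIso_comp_symm e, Groth.Agent.S14360.partialIso_comp_symm e.symm⟩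
  · rintro ⟨f, g, hf, hg, h1, h2⟩
    rw [Groth.Agent.S14360.comp_eq_representative, Scheme.PartialMap.toRationalMap_eq_iff] at h1 h2
    exact Groth.Agent.S14360.birational_of_equiv _ _ h1 h2

end Groth.Agent.S14360
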