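import Groth.Statements.S14362
import Groth.Agent.S14361

set_option autoImplicit false
universe u
open AlgebraicGeometry
open SchImage

namespace Groth.Agent.S14362

/-- Let π : X → Y be a morphism of schemes with X reduced. Then the closed subset underlying the
scheme-theoretic image of π, i.e. the support of its kernel ideal sheaf, is the closure of the image
of π. (The published statement allows, as an alternative to X being reduced, that π be
quasi-compact; this row is the reduced case and assumes no quasi-compactness.) -/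
theorem result (X Y : Scheme.{u}) [IsReduced X]
    (π : X ⟶ Y) :
    (π.ker.support : Set Y) = closure (Set.range π) := by
  apply subset_antisymm
  · intro x hx
    rw [mem_closure_iff]
    intro o ho hxo
    obtain ⟨_, ⟨U, hU, rfl⟩, hxU, -⟩ :=
      Y.isBasis_affineOpens.exists_subset_of_mem_open (Set.mem_univ x) isOpen_univ
    have hz : x ∈ Y.zeroLocus (U := U) (π.ker.ideal ⟨U, hU⟩ : Set Γ(Y, U)) :=
      ((Scheme.IdealSheafData.coe_support_inter π.ker ⟨U, hU⟩).le ⟨hx, hxU⟩).1
    rw [Scheme.mem_zeroLocus_iff] at hz
    obtain ⟨s, hs1, hs2⟩ := hU.exists_basicOpen_le (V := ⟨o, ho⟩) ⟨x, hxo⟩ hxU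
    have hs3 : s ∉ π.ker.ideal ⟨U, hU⟩ := fun h => hz s h hs2
    rw [Groth.Agent.S14361.result X Y π ⟨U, hU⟩, RingHom.mem_ker] at hs3
    have hne : X.basicOpen ((π.app U).hom s) ≠ ⊥ := by
      rw [Ne, basicOpen_eq_bot_iff]
      exact hs3
    obtain ⟨z, hzmem⟩ : ∃ z, z ∈ X.basicOpen ((π.app U).hom s) := by
      by_contra hcon
      push Not at hcon
      exact hne (by ext z; simpa using hcon z)
    have hz2 : z ∈ π ⁻¹ᵁ Y.basicOpen s := by
      rw [Scheme.preimage_basicOpen]; exact hzmem
    exact ⟨π z, hs1 hz2, z, rfl⟩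
  · rw [(Scheme.IdealSheafData.support _).isClosed.closure_subset_iff]
    exact π.range_subset_ker_support

end Groth.Agent.S14362
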