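import Groth.Statements.S14363
-- import your own Groth.Agent.* helpers here

set_option autoImplicit false
universe u
open CAlg

namespace Groth.Agent.S14363

/-- Let A be a Noetherian ring and 0 → M' → M → M'' → 0 a short exact sequence of A-modules. If a prime
p of A is an associated prime of M'' and is not in the support of M', then p is an associated prime
of M. -/
theorem result (A : Type u) [CommRing A] [IsNoetherianRing A]
    (M' M M'' : Type u) [AddCommGroup M'] [Module A M'] [AddCommGroup M] [Module A M]
    [AddCommGroup M''] [Module A M'']
    (f : M' →ₗ[A] M) (g : M →ₗ[A] M'') (hf : Function.Injective f) (hg : Function.Surjective g)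
    (hfg : Function.Exact f g)
    (p : PrimeSpectrum A) (hp : p.asIdeal ∈ associatedPrimes A M'') (hsupp : p ∉ Module.support A M') :
    p.asIdeal ∈ associatedPrimes A M := by
  classical
  rw [AssociatedPrimes.mem_iff, isAssociatedPrime_iff] at hp ⊢
  obtain ⟨hprime, x'', hx''⟩ := hp
  refine ⟨hprime, ?_⟩
  obtain ⟨x, rfl⟩ := hg x''
  rw [Module.notMem_support_iff'] at hsupp
  -- finite generation of p
  obtain ⟨S, hS⟩ := (isNoetherianRing_iff_ideal_fg A).1 inferInstance p.asIdeal
  -- for each generator a, a • x lies in the range of f
  have hker : ∀ a ∈ p.asIdeal, ∃ y : M', f y = a • x := by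
    intro a ha
    have h0 : g (a • x) = 0 := by
      rw [map_smul]
      have : a ∈ Submodule.colon (⊥ : Submodule A M'') {g x} := hx'' ▸ ha
      simpa [Submodule.mem_colon_singleton] using this
    exact (hfg (a • x)).1 h0
  choose! y hy using hker
  choose s hs hsy using hsupp
  let t : A := ∏ a ∈ S, s (y a)
  have ht : t ∉ p.asIdeal := by
    intro h
    obtain ⟨a, -, ha⟩ := (hprime.prod_mem_iff).1 h
    exact hs _ ha
  refine ⟨t • x, ?_⟩
  ext b
  rw [Submodule.mem_colon_singleton, Submodule.mem_bot]
  constructor
  · intro hb
    -- b ∈ p : b is in the span of S; check on generators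
    have hle : p.asIdeal ≤ Submodule.colon (⊥ : Submodule A M) {t • x} := by
      rw [← hS, Ideal.span_le]
      intro a haS
      have hap : a ∈ p.asIdeal := hS ▸ Ideal.subset_span haS
      change a ∈ Submodule.colon (⊥ : Submodule A M) {t • x}
      rw [Submodule.mem_colon_singleton, Submodule.mem_bot]
      have h1 : t • y a = 0 := by
        have : t = (∏ c ∈ S.erase a, s (y c)) * s (y a) := by
          simp only [t]
          rw [Finset.prod_erase_mul S _ haS]
        rw [this, mul_smul, hsy, smul_zero]
      calc a • t • x = t • (a • x) := smul_comm _ _ _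
        _ = t • f (y a) := by rw [hy a hap]
        _ = f (t • y a) := (map_smul f t (y a)).symm
        _ = 0 := by rw [h1, map_zero]
    have := hle hb
    rwa [Submodule.mem_colon_singleton, Submodule.mem_bot] at this
  · intro hb
    have h1 : (b * t) • g x = 0 := by
      rw [mul_smul, ← map_smul, ← map_smul, hb, map_zero]
    have h2 : b * t ∈ p.asIdeal := by
      rw [hx'', Submodule.mem_colon_singleton, Submodule.mem_bot]
      exact h1
    exact (hprime.mem_or_mem h2).resolve_right ht

end Groth.Agent.S14363
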