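-- Statement S14370.
import Groth.Statements.S14370
import Groth.Agent.S14369
import Mathlib

set_option autoImplicit false
universe u
open CategoryTheory CategoryTheory.Limits AlgebraicGeometry
open Variety

namespace Groth.Agent.S14370

open Groth.Agent.Lib.H30DimField Groth.Agent.Lib.H30FlatDim Groth.Agent.Lib.H30IrrFib
  Groth.Agent.Lib.H30LocDimTop

theorem main (k : Type u) [Field k] [IsAlgClosed k]
    {X Y : Scheme.{u}} (qX : X ⟶ Spec (CommRingCat.of k)) (qY : Y ⟶ Spec (CommRingCat.of k))
    [LocallyOfFiniteType qX] [QuasiCompact qX] [LocallyOfFiniteType qY] [QuasiCompact qY]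
    (f : X ⟶ Y) (hf : f ≫ qY = qX) [IrreducibleSpace ↥Y]
    (hpure : ∀ Z ∈ irreducibleComponents (↥X), topologicalKrullDim ↥Z = topologicalKrullDim ↥X) (d : ℕ)
    (hirr : ∀ y : ↥Y, IsClosed ({y} : Set ↥Y) → IsIrreducible (f.base ⁻¹' {y}))
    (hdim : ∀ y : ↥Y, IsClosed ({y} : Set ↥Y) → topologicalKrullDim ↥(f.base ⁻¹' {y}) = d) :
    IrreducibleSpace ↥X ∧ topologicalKrullDim ↥X = d + topologicalKrullDim ↥Y := by
  apply Groth.Agent.S14369.conclusion_of_univ k qX qY f hf d hirr hdim
  haveI := Groth.Agent.S14378.isNoetherian_of_ft k qX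
  haveI := Groth.Agent.S14378.isNoetherian_of_ft k qY
  letI : X.Over (Spec (CommRingCat.of k)) := ⟨qX⟩
  letI : Y.Over (Spec (CommRingCat.of k)) := ⟨qY⟩
  haveI : LocallyOfFiniteType (X ↘ Spec (CommRingCat.of k)) := ‹LocallyOfFiniteType qX›
  haveI : LocallyOfFiniteType (Y ↘ Spec (CommRingCat.of k)) := ‹LocallyOfFiniteType qY›
  have hf' : f ≫ (Y ↘ Spec (CommRingCat.of k)) = X ↘ Spec (CommRingCat.of k) := hf
  haveI := jacobsonSpace k Y
  have hδY := isDimensionFunction_of_isDimFun (isDimFun k Y)
  obtain ⟨T₀, ⟨hT₀, hT₀d⟩, huniq⟩ := existsUnique_dominating k X Y f hf' d hirr hdim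
  have hdimT₀ := dim_component k X Y f hf' d hirr hdim T₀ hT₀
  rw [hT₀d.closure_eq,
    IsHomeomorph.topologicalKrullDim_eq _ (Homeomorph.Set.univ Y).isHomeomorph,
    krullDim_eq_td k Y] at hdimT₀
  have hall : ∀ x : X, x ∈ T₀ := by
    intro x
    have hT := irreducibleComponent_mem_irreducibleComponents x
    obtain ⟨η, hη⟩ : ∃ η, IsGenericPoint η (irreducibleComponent x) :=
      QuasiSober.sober hT.1 (isClosed_of_mem_irreducibleComponents _ hT)
    have hηeq : closure {η} = irreducibleComponent x := hη.def
    have hcl : closure (f.base '' irreducibleComponent x) = closure ({f.base η} : Set Y) := by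
      apply subset_antisymm
      · apply closure_minimal _ isClosed_closure
        rintro _ ⟨z, hz, rfl⟩
        have h1 : η ⤳ z := by rw [specializes_iff_mem_closure, hηeq]; exact hz
        exact (h1.map f.continuous).mem_closed isClosed_closure (subset_closure rfl)
      · exact closure_mono (Set.singleton_subset_iff.mpr ⟨η, hηeq ▸ subset_closure rfl, rfl⟩)
    have hdimT := dim_component k X Y f hf' d hirr hdim _ hT
    rw [hcl, krullDim_closure (td k Y) hδY (td_eq_zero_of_isClosed k Y) (f.base η),
      hpure _ hT, ← hpure _ hT₀, hdimT₀] at hdimT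
    have h1 : d + (td k Y (genericPoint Y)).toNat = d + (td k Y (f.base η)).toNat := by
      exact_mod_cast hdimT
    have h2 := td_nonneg k Y (genericPoint Y)
    have h3 := td_nonneg k Y (f.base η)
    have hξ : f.base η = genericPoint Y := by
      by_contra hne
      have := hδY.1 (genericPoint Y) (f.base η) (genericPoint_specializes _) (fun h => hne h.symm)
      omega
    have hdense : Dense (f.base '' irreducibleComponent x) := by
      rw [dense_iff_closure_eq, hcl, hξ]
      exact (genericPoint_spec Y).def
    rw [← huniq _ ⟨hT, hdense⟩]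
    exact mem_irreducibleComponent
  have hT₀u : T₀ = Set.univ := Set.eq_univ_of_forall hall
  exact hT₀u ▸ hT₀

/-- Let k be an algebraically closed field, X and Y schemes of finite type over k with Y irreducible,
and f : X → Y a k-morphism. Suppose that X is pure-dimensional (every irreducible component of X has
dimension dim X) and that for some natural number d the fibre of f over every closed point y of Y
(the subspace of points mapping to y) is irreducible of dimension d. Then X is irreducible and dim X
= d + dim Y. (The published statement is for varieties, i.e. reduced separated schemes; this row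
assumes neither.) -/
theorem result (k : Type u) [Field k] [IsAlgClosed k]
    {X Y : Scheme.{u}} (qX : X ⟶ Spec (CommRingCat.of k)) (qY : Y ⟶ Spec (CommRingCat.of k))
    [LocallyOfFiniteType qX] [QuasiCompact qX] [LocallyOfFiniteType qY] [QuasiCompact qY]
    (f : X ⟶ Y) (hf : f ≫ qY = qX) [IrreducibleSpace ↥Y]
    (hpure : ∀ Z ∈ irreducibleComponents (↥X), topologicalKrullDim ↥Z = topologicalKrullDim ↥X) (d : ℕ)
    (hirr : ∀ y : ↥Y, IsClosed ({y} : Set ↥Y) → IsIrreducible (f.base ⁻¹' {y}))
    (hdim : ∀ y : ↥Y, IsClosed ({y} : Set ↥Y) → topologicalKrullDim ↥(f.base ⁻¹' {y}) = d) :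
    IrreducibleSpace ↥X ∧ topologicalKrullDim ↥X = d + topologicalKrullDim ↥Y := by
  exact main k qX qY f hf hpure d hirr hdim

end Groth.Agent.S14370
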