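import Groth.Statements.S14371
import Groth.Agent.Lib.H94RegCount
import Groth.Agent.Lib.RegularLocal

set_option autoImplicit false
universe u
open CAlg

namespace Groth.Agent.S14371

open IsLocalRing Groth.Agent.Lib.H94RegCount Groth.Agent.Lib.RegularLocal

/-- If `R` is regular local of dimension `n` and `R/I` is regular local of dimension `a`, then
`μ(I) + a ≤ n`. -/
theorem spanFinrank_add_le {R : Type u} [CommRing R] [IsRegularLocalRing R] (I : Ideal R)
    [IsRegularLocalRing (R ⧸ I)] (n a : ℕ) (hn : ringKrullDim R = n)
    (ha : ringKrullDim (R ⧸ I) = a) : I.spanFinrank + a ≤ n := by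
  obtain ⟨x, c, hc, hx, hI⟩ := exists_generators R n hn I
  have h1 : I.spanFinrank ≤ c := by
    rw [hI]
    exact spanFinrank_span_range_le _
  have h2 := spanFinrank_maximalIdeal_quotient_le_sub hc x hx I hI
  have h3 : (maximalIdeal (R ⧸ I)).spanFinrank = a :=
    spanFinrank_maximalIdeal_eq_of_ringKrullDim_eq ha
  omega


/-- Let R be a regular local ring of dimension n with maximal ideal m and residue field κ, and I, J
ideals of R such that R/I and R/J are regular local rings of dimensions a and b (two subvarieties
smooth at the point). Suppose the quotient R/(I + J) is local with cotangent space m/(m² + I + J) of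
dimension a + b − n over κ (the tangent spaces of the two subvarieties meet in the expected
dimension, i.e. they intersect transversally at the point). Then R/(I + J) is a regular local ring
of dimension a + b − n; in particular I + J is a prime ideal. (The published statement is about the
local rings of a smooth variety over an algebraically closed field at a point where two smooth
closed subvarieties meet transversally, and also states the resulting equalities of tangent spaces
and of ideals; this row is the local-ring form, for an arbitrary regular local ring.) -/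
theorem result {R : Type u} [CommRing R] [IsRegularLocalRing R]
    (I J : Ideal R) [IsRegularLocalRing (R ⧸ I)] [IsRegularLocalRing (R ⧸ J)] [IsLocalRing (R ⧸ (I ⊔ J))]
    (n a b : ℕ) (hn : ringKrullDim R = n) (ha : ringKrullDim (R ⧸ I) = a) (hb : ringKrullDim (R ⧸ J) = b)
    (ht : Module.finrank (IsLocalRing.ResidueField (R ⧸ (I ⊔ J))) (IsLocalRing.CotangentSpace (R ⧸ (I ⊔ J))) + n = a + b) :
    IsRegularLocalRing (R ⧸ (I ⊔ J)) ∧ ringKrullDim (R ⧸ (I ⊔ J)) = ((a + b - n : ℕ) : WithBot ℕ∞) := by
  have hI := spanFinrank_add_le I n a hn ha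
  have hJ := spanFinrank_add_le J n b hn hb
  have hIJ := spanFinrank_sup_le I J (Ideal.fg_of_isNoetherianRing _) (Ideal.fg_of_isNoetherianRing _)
  have hne : I ⊔ J ≠ ⊤ := by
    intro h
    have : Subsingleton (R ⧸ (I ⊔ J)) := Ideal.Quotient.subsingleton_iff.mpr h
    exact not_subsingleton (R ⧸ (I ⊔ J)) this
  have hD1 := ringKrullDim_le_ringKrullDim_quotient_add_spanFinrank (I ⊔ J) (by
    rw [IsLocalRing.ringJacobson_eq_maximalIdeal]
    exact le_maximalIdeal hne)
  have he : (maximalIdeal (R ⧸ (I ⊔ J))).spanFinrank =
      Module.finrank (ResidueField (R ⧸ (I ⊔ J))) (CotangentSpace (R ⧸ (I ⊔ J))) :=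
    spanFinrank_maximalIdeal_eq_finrank_cotangentSpace _
  have hle := ringKrullDim_le_spanFinrank_maximalIdeal (R ⧸ (I ⊔ J))
  obtain ⟨D, hD, hDe⟩ := exists_nat_eq_of_nonneg_of_le ringKrullDim_nonneg_of_nontrivial hle
  rw [hn, hD] at hD1
  have hD1' : n ≤ D + (I ⊔ J).spanFinrank := by exact_mod_cast hD1
  have hDeq : D = a + b - n := by omega
  refine ⟨(isRegularLocalRing_iff _).mpr ?_, ?_⟩
  · rw [hD]
    have : (maximalIdeal (R ⧸ (I ⊔ J))).spanFinrank = D := by omega
    rw [this]
  · rw [hD, hDeq]

end Groth.Agent.S14371
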