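import Groth.Statements.S14375
import Mathlib
import Groth.Agent.Lib.AlgClosedGeom

set_option autoImplicit false
universe u
open CategoryTheory CategoryTheory.Limits AlgebraicGeometry
open Variety

namespace Groth.Agent.S14375

/-- Let k be an algebraically closed field, F an irreducible scheme of finite type over k, and f : X → Y
a k-morphism of schemes of finite type over k with Y irreducible which is locally trivial with fibre
F: every point of Y has an open neighbourhood V such that f⁻¹(V) is isomorphic over V to V ×_k F.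
Then X is irreducible. (The published statement is for varieties, i.e. reduced separated schemes;
this row assumes neither.) -/
theorem result (k : Type u) [Field k] [IsAlgClosed k]
    {X Y F : Scheme.{u}} (qX : X ⟶ Spec (CommRingCat.of k)) (qY : Y ⟶ Spec (CommRingCat.of k))
    (qF : F ⟶ Spec (CommRingCat.of k))
    [LocallyOfFiniteType qX] [QuasiCompact qX] [LocallyOfFiniteType qY] [QuasiCompact qY]
    [LocallyOfFiniteType qF] [QuasiCompact qF] [IrreducibleSpace ↥F] [IrreducibleSpace ↥Y]
    (f : X ⟶ Y) (hf : f ≫ qY = qX)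
    (htriv : ∀ y : ↥Y, ∃ V : Y.Opens, y ∈ V ∧
      ∃ e : (↑(f ⁻¹ᵁ V) : Scheme.{u}) ≅ pullback (V.ι ≫ qY) qF, e.hom ≫ pullback.fst (V.ι ≫ qY) qF = f ∣_ V) :
    IrreducibleSpace ↥X := by
  classical
  haveI hgi : GeometricallyIrreducible qF :=
    Groth.Agent.Lib.AlgClosedGeom.geometricallyIrreducible_of_irreducibleSpace qF
  choose V hyV e he using htriv
  -- each `f ⁻¹ᵁ V y` is irreducible, and `f` maps it onto `V y`
  have hirr : ∀ y : ↥Y, IrreducibleSpace ↥(f ⁻¹ᵁ V y) := by
    intro y
    haveI : Nonempty ↥(V y) := ⟨⟨y, hyV y⟩⟩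
    haveI : PreirreducibleSpace ↥(V y) := Subtype.preirreducibleSpace
      ((IrreducibleSpace.isIrreducible_univ ↥Y).isPreirreducible.open_subset (V y).isOpen
        (Set.subset_univ _))
    haveI h0 : IrreducibleSpace ↥(V y) := { toNonempty := inferInstance }
    haveI : IrreducibleSpace ↥((V y : Y.Opens) : Scheme.{u}) := h0
    have h1 : IrreducibleSpace ↥(pullback ((V y).ι ≫ qY) qF) := inferInstance
    exact (e y).hom.homeomorph.irreducibleSpace_iff.2 h1
  have hsurj : ∀ (y : ↥Y) (z : ↥Y), z ∈ V y → ∃ x : ↥X, f.base x = z := by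
    intro y z hz
    obtain ⟨p, hp⟩ := (pullback.fst ((V y).ι ≫ qY) qF).surjective ⟨z, hz⟩
    refine ⟨((e y).inv p).1, ?_⟩
    have h1 : ((f ∣_ V y) ((e y).inv p)).1 = f ((e y).inv p).1 :=
      morphismRestrict_base_coe f (V y) _
    rw [← he y] at h1
    have h2 : ((e y).hom ≫ pullback.fst ((V y).ι ≫ qY) qF) ((e y).inv p) =
        (pullback.fst ((V y).ι ≫ qY) qF) p := by
      rw [← Scheme.Hom.comp_apply, Iso.inv_hom_id_assoc]
    rw [h2, hp] at h1
    exact h1.symm
  obtain ⟨y₀⟩ : Nonempty ↥Y := inferInstance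
  obtain ⟨x₀, -⟩ := hsurj y₀ y₀ (hyV y₀)
  haveI : Nonempty ↥X := ⟨x₀⟩
  have hpre : PreirreducibleSpace ↥X := by
    refine PreirreducibleSpace.of_isOpenCover (U := fun y : ↥Y => f ⁻¹ᵁ V y) ?_ ?_ ?_
    · intro y y' _
      show ¬ Disjoint (f ⁻¹ᵁ V y) (f ⁻¹ᵁ V y')
      obtain ⟨z, hz, hz'⟩ := nonempty_preirreducible_inter (V y).isOpen (V y').isOpen
        ⟨y, hyV y⟩ ⟨y', hyV y'⟩
      obtain ⟨x, hx⟩ := hsurj y z hz
      rw [← TopologicalSpace.Opens.coe_disjoint, Set.not_disjoint_iff]
      refine ⟨x, ?_, ?_⟩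
      · show f.base x ∈ V y
        rw [hx]; exact hz
      · show f.base x ∈ V y'
        rw [hx]; exact hz'
    · rw [TopologicalSpace.IsOpenCover, eq_top_iff]
      intro x _
      rw [TopologicalSpace.Opens.mem_iSup]
      exact ⟨f.base x, hyV (f.base x)⟩
    · intro y
      haveI := hirr y
      infer_instance
  exact { toPreirreducibleSpace := hpre, toNonempty := inferInstance }

end Groth.Agent.S14375
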