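import Groth.Statements.S1438
import Mathlib.AlgebraicGeometry.IdealSheaf.Subscheme

set_option autoImplicit false
universe u
open FlatMor

namespace Groth.Agent.S1438

open AlgebraicGeometry CategoryTheory Limits

/-- Auxiliary: a closed subset of an affine open of a separated scheme is the range of an
affine immersion from an affine scheme. -/
theorem exists_affine_immersion (X : Scheme.{u}) [X.IsSeparated] (V : X.Opens)
    (hV : IsAffineOpen V) (T : TopologicalSpace.Closeds (V : Scheme.{u})) :
    ∃ (Z : Scheme.{u}) (ι : Z ⟶ X),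
      IsImmersion ι ∧ IsAffine Z ∧ IsAffineHom ι ∧ Set.range ι = V.ι '' (T : Set (V : Scheme.{u})) := by
  have : IsAffine (V : Scheme.{u}) := hV
  let I := Scheme.IdealSheafData.vanishingIdeal T
  refine ⟨I.subscheme, I.subschemeι ≫ V.ι, inferInstance, ?_, ?_, ?_⟩
  · exact isAffine_of_isAffineHom I.subschemeι
  · have : IsAffine I.subscheme := isAffine_of_isAffineHom I.subschemeι
    have : IsAffineHom ((I.subschemeι ≫ V.ι) ≫ terminal.from X) := inferInstance
    exact IsAffineHom.of_comp (I.subschemeι ≫ V.ι) (terminal.from X)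
  · rw [Scheme.Hom.comp_base, TopCat.coe_comp, Set.range_comp, Scheme.IdealSheafData.range_subschemeι]
    simp [I]

open AlgebraicGeometry CategoryTheory Limits in
/-- A separated scheme with an open covering by n + 1 affine opens has affine stratification number at
most n: it admits an affine stratification with index set {0, …, n}. -/
theorem result (X : Scheme.{u}) [X.IsSeparated] (n : ℕ) (U : Fin (n + 1) → X.Opens)
    (hU : ∀ i, IsAffineOpen (U i)) (hcov : ⨆ i, U i = ⊤) :
    MoreMor.HasAffineStratification X n := by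
  classical
  have hne : ∀ x : X, (Finset.univ.filter (fun i => x ∈ U i)).Nonempty := by
    intro x
    have hx : x ∈ (⨆ i, U i : X.Opens) := by rw [hcov]; trivial
    obtain ⟨i, hi⟩ := TopologicalSpace.Opens.mem_iSup.mp hx
    exact ⟨i, by simpa using hi⟩
  let s : X → Fin (n + 1) := fun x => (Finset.univ.filter (fun i => x ∈ U i)).max' (hne x)
  have hs_mem : ∀ x, x ∈ U (s x) := by
    intro x
    have := Finset.max'_mem _ (hne x)
    simpa using this
  have hs_le : ∀ x j, x ∈ U j → j ≤ s x := by
    intro x j hj
    exact Finset.le_max' _ j (by simpa using hj)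
  have hle : ∀ i : Fin (n + 1), {x : X | s x ≤ i} = ⋂ j ∈ {j : Fin (n + 1) | i < j}, ((U j : Set X))ᶜ := by
    intro i
    ext x
    simp only [Set.mem_ofPred_eq, Set.mem_iInter, Set.mem_compl_iff, SetLike.mem_coe]
    constructor
    · intro h j hij hxj
      exact absurd (lt_of_lt_of_le hij (hs_le x j hxj)) (not_lt.mpr h)
    · intro h
      by_contra hcon
      exact h (s x) (not_le.mp hcon) (hs_mem x)
  refine ⟨s, ?_, ?_⟩
  · intro i
    rw [hle]
    exact isClosed_biInter fun j _ => (U j).isOpen.isClosed_compl
  · intro i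
    let T : TopologicalSpace.Closeds (U i : Scheme.{u}) :=
      ⟨(U i).ι ⁻¹' {x : X | s x ≤ i}, by
        refine IsClosed.preimage (U i).ι.continuous ?_
        rw [hle]
        exact isClosed_biInter fun j _ => (U j).isOpen.isClosed_compl⟩
    obtain ⟨Z, ι, h1, h2, h3, h4⟩ := exists_affine_immersion X (U i) (hU i) T
    refine ⟨Z, ι, h1, h2, h3, ?_⟩
    rw [h4]
    ext x
    simp only [Set.mem_image, Set.mem_ofPred_eq]
    constructor
    · rintro ⟨y, hy, rfl⟩
      have h1 : s ((U i).ι y) ≤ i := hy
      have h2 : (U i).ι y ∈ U i := by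
        have : (U i).ι y = y.1 := rfl
        rw [this]; exact y.2
      exact le_antisymm h1 (hs_le _ _ h2)
    · intro hx
      have hxi : x ∈ U i := hx ▸ hs_mem x
      exact ⟨⟨x, hxi⟩, (show s x ≤ i from hx.le), rfl⟩

end Groth.Agent.S1438
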