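import Groth.Statements.S14388
import Groth.Agent.Lib.DLES

set_option autoImplicit false
open CategoryTheory CategoryTheory.Limits
universe w v u
open CohDer

namespace Groth.Agent.S14388

section Helpers

open DerivedCategory DerivedCategory.TStructure Groth.Agent.Lib.DLES Groth.Agent.Lib.DWayOut

variable {C : Type u} [Category.{v} C] [Abelian C] [HasDerivedCategory.{w} C]

/-- `H^j(τ_{<b} f)` vanishes when `H^j(f)` does (`j < b`). -/
lemma homologyMap_truncLT_map_eq_zero {K K' : DerivedCategory C} (f : K ⟶ K') (b j : ℤ)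
    (hb : j < b) (hf : (homologyFunctor C j).map f = 0) :
    (homologyFunctor C j).map ((t.truncLT b).map f) = 0 := by
  have := isIso_homologyMap_truncLTι K' b j hb
  rw [← cancel_mono ((homologyFunctor C j).map ((t.truncLTι b).app K')), zero_comp,
    ← Functor.map_comp]
  have nat : (t.truncLT b).map f ≫ (t.truncLTι b).app K' = (t.truncLTι b).app K ≫ f :=
    (t.truncLTι b).naturality f
  rw [nat, Functor.map_comp, hf, comp_zero]

/-- `H^j(τ_{≥a} f)` vanishes when `H^j(f)` does (`a ≤ j`). -/
lemma homologyMap_truncGE_map_eq_zero {K K' : DerivedCategory C} (f : K ⟶ K') (a j : ℤ)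
    (ha : a ≤ j) (hf : (homologyFunctor C j).map f = 0) :
    (homologyFunctor C j).map ((t.truncGE a).map f) = 0 := by
  have := isIso_homologyMap_truncGEπ K a j ha
  rw [← cancel_epi ((homologyFunctor C j).map ((t.truncGEπ a).app K)), comp_zero,
    ← Functor.map_comp]
  have nat : (t.truncGEπ a).app K ≫ (t.truncGE a).map f = f ≫ (t.truncGEπ a).app K' :=
    ((t.truncGEπ a).naturality f).symm
  rw [nat, Functor.map_comp, hf, zero_comp]

/-- `H^j(τ_{≥a} g)` is an isomorphism when `H^j(g)` is (`a ≤ j`). -/
lemma isIso_homologyMap_truncGE_map {K K' : DerivedCategory C} (g : K ⟶ K') (a j : ℤ)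
    (ha : a ≤ j) (hg : IsIso ((homologyFunctor C j).map g)) :
    IsIso ((homologyFunctor C j).map ((t.truncGE a).map g)) := by
  have h1 := isIso_homologyMap_truncGEπ K a j ha
  have h2 := isIso_homologyMap_truncGEπ K' a j ha
  have nat : (t.truncGEπ a).app K ≫ (t.truncGE a).map g = g ≫ (t.truncGEπ a).app K' :=
    ((t.truncGEπ a).naturality g).symm
  have e : (homologyFunctor C j).map ((t.truncGEπ a).app K) ≫
      (homologyFunctor C j).map ((t.truncGE a).map g) =
      (homologyFunctor C j).map g ≫ (homologyFunctor C j).map ((t.truncGEπ a).app K') := by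
    rw [← Functor.map_comp, ← Functor.map_comp, nat]
  have h3 : IsIso ((homologyFunctor C j).map ((t.truncGEπ a).app K) ≫
      (homologyFunctor C j).map ((t.truncGE a).map g)) := by
    rw [e]
    infer_instance
  exact IsIso.of_isIso_comp_left ((homologyFunctor C j).map ((t.truncGEπ a).app K)) _

end Helpers

/-- Let A be an abelian category, D(A) its derived category with the canonical t-structure and
truncation functors τ_{≥a}, τ_{<b}, and write τ_[a,b] = τ_{≥a} ∘ τ_{<b+1}, so that τ_[q,q] K is
H^q(K) placed in degree q. Let f : K → K' be a morphism in D(A) and q an integer such that the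
induced maps H^(q-1)(K) → H^(q-1)(K') and H^q(K) → H^q(K') are both zero. Then there is a unique
morphism L : τ_[q,q] K → τ_[q-1,q-1] K' such that τ_[q-1,q](f) : τ_[q-1,q] K → τ_[q-1,q] K' is the
composite of the canonical projection τ_[q-1,q] K → τ_[q,q] K, the morphism L, and the canonical
inclusion τ_[q-1,q-1] K' → τ_[q-1,q] K'. (Under τ_[n,n] ≅ H^n(−)[−n] the morphism L corresponds to a
morphism L_f[−q] : H^q(K)[−q] → H^(q-1)(K')[1−q].) -/
theorem result {C : Type u} [Category.{v} C] [Abelian C]
    [HasDerivedCategory.{w} C] {K K' : DerivedCategory C} (f : K ⟶ K') (q : ℤ)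
    (h₁ : (DerivedCategory.homologyFunctor C (q - 1)).map f = 0)
    (h₂ : (DerivedCategory.homologyFunctor C q).map f = 0) :
    ∃! L : ((DerivedCategory.TStructure.t (C := C)).truncGELT q (q + 1)).obj K ⟶
        ((DerivedCategory.TStructure.t (C := C)).truncGELT (q - 1) q).obj K',
      ((DerivedCategory.TStructure.t (C := C)).truncGELT (q - 1) (q + 1)).map f =
        ((DerivedCategory.TStructure.t (C := C)).natTransTruncGEOfLE (q - 1) q (sub_one_lt q).le).app
            (((DerivedCategory.TStructure.t (C := C)).truncLT (q + 1)).obj K) ≫ L ≫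
          ((DerivedCategory.TStructure.t (C := C)).truncGE (q - 1)).map
            (((DerivedCategory.TStructure.t (C := C)).natTransTruncLTOfLE q (q + 1) (lt_add_one q).le).app K') := by
  let t := DerivedCategory.TStructure.t (C := C)
  have hπ : IsIso ((DerivedCategory.homologyFunctor C q).map
      ((t.natTransTruncGEOfLE (q - 1) q (sub_one_lt q).le).app ((t.truncLT (q + 1)).obj K))) := by
    have h1 := Groth.Agent.Lib.DWayOut.isIso_homologyMap_truncGEπ
      ((t.truncLT (q + 1)).obj K) (q - 1) q (by lia)
    have h2 := Groth.Agent.Lib.DWayOut.isIso_homologyMap_truncGEπ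
      ((t.truncLT (q + 1)).obj K) q q le_rfl
    have e := t.π_natTransTruncGEOfLE_app (q - 1) q (sub_one_lt q).le ((t.truncLT (q + 1)).obj K)
    have h3 : IsIso ((DerivedCategory.homologyFunctor C q).map
        ((t.truncGEπ (q - 1)).app ((t.truncLT (q + 1)).obj K)) ≫
        (DerivedCategory.homologyFunctor C q).map
        ((t.natTransTruncGEOfLE (q - 1) q (sub_one_lt q).le).app
          ((t.truncLT (q + 1)).obj K))) := by
      rw [← Functor.map_comp, e]
      exact h2
    exact IsIso.of_isIso_comp_left ((DerivedCategory.homologyFunctor C q).map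
        ((t.truncGEπ (q - 1)).app ((t.truncLT (q + 1)).obj K))) _
  have hg : IsIso ((DerivedCategory.homologyFunctor C (q - 1)).map
      ((t.natTransTruncLTOfLE q (q + 1) (lt_add_one q).le).app K')) := by
    have h1 := Groth.Agent.Lib.DLES.isIso_homologyMap_truncLTι K' q (q - 1) (by lia)
    have h2 := Groth.Agent.Lib.DLES.isIso_homologyMap_truncLTι K' (q + 1) (q - 1) (by lia)
    have e := t.natTransTruncLTOfLE_ι_app q (q + 1) (lt_add_one q).le K'
    have h3 : IsIso ((DerivedCategory.homologyFunctor C (q - 1)).map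
        ((t.natTransTruncLTOfLE q (q + 1) (lt_add_one q).le).app K') ≫
        (DerivedCategory.homologyFunctor C (q - 1)).map ((t.truncLTι (q + 1)).app K')) := by
      rw [← Functor.map_comp, e]
      exact h1
    exact IsIso.of_isIso_comp_right _
      ((DerivedCategory.homologyFunctor C (q - 1)).map ((t.truncLTι (q + 1)).app K'))
  have hι' := isIso_homologyMap_truncGE_map
    ((t.natTransTruncLTOfLE q (q + 1) (lt_add_one q).le).app K') (q - 1) (q - 1) le_rfl hg
  have hφ₁ : (DerivedCategory.homologyFunctor C (q - 1)).map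
      ((t.truncGELT (q - 1) (q + 1)).map f) = 0 :=
    homologyMap_truncGE_map_eq_zero _ (q - 1) (q - 1) le_rfl
      (homologyMap_truncLT_map_eq_zero f (q + 1) (q - 1) (by lia) h₁)
  have hφ₂ : (DerivedCategory.homologyFunctor C q).map
      ((t.truncGELT (q - 1) (q + 1)).map f) = 0 :=
    homologyMap_truncGE_map_eq_zero _ (q - 1) q (by lia)
      (homologyMap_truncLT_map_eq_zero f (q + 1) q (by lia) h₂)
  exact Groth.Agent.Lib.DLES.existsUnique_factor (A := C) q
    ((t.natTransTruncGEOfLE (q - 1) q (sub_one_lt q).le).app ((t.truncLT (q + 1)).obj K))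
    ((t.truncGE (q - 1)).map ((t.natTransTruncLTOfLE q (q + 1) (lt_add_one q).le).app K'))
    ((t.truncGELT (q - 1) (q + 1)).map f) hπ hι' hφ₁ hφ₂

end Groth.Agent.S14388
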