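import Groth.Statements.S14397
import Mathlib.Tactic

set_option autoImplicit false
universe u
open DualGr

namespace Groth.Agent.S14397

/-- Let (V, E) with endpoint map E → V × V be a finite multigraph (loops and parallel edges allowed; the
order of the two endpoints is an auxiliary orientation), and let D_1, …, D_n be finite sets of edges
such that every edge lies outside at least one D_i. For each i let Γ_i be the multigraph obtained by
contracting the edges of D_i, and let H₁(Γ, ℤ) → H₁(Γ_i, ℤ) be the map of cycle lattices (integer
edge vectors with zero boundary) given by restriction to the surviving edges. Then the map H₁(Γ, ℤ)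
→ ⊕_i H₁(Γ_i, ℤ) has torsion-free cokernel. (The published statement is about the connected labelled
dual graph of the closed fibre of a nodal curve, smooth outside a normal crossing divisor with
components D_1, …, D_n, over a Noetherian regular strictly local base; Γ_i is the dual graph of the
fibre over the generic point of D_i, the lattices are identified with the character groups of the
toric parts of the Picard schemes of these fibres, and the map is the generization map of character
groups; this row states the assertion about cycle lattices, for any finite multigraph, which is what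
the argument establishes.) -/
theorem result
    {V E : Type u} [Fintype V] [Fintype E] [DecidableEq V] [DecidableEq E]
    (ends : E → V × V) {n : ℕ} (D : Fin n → Finset E) (hcover : ∀ e : E, ∃ i : Fin n, e ∉ D i) :
    IsAddTorsionFree (((i : Fin n) → ↥(DualGr.cycleLattice (DualGr.ctrEnds ends (D i)))) ⧸
      LinearMap.range (LinearMap.pi fun i : Fin n => DualGr.genMap ends (D i))) := by
  classical
  constructor
  intro m hm a b hab
  dsimp only at hab
  -- reduce to: `m • x ∈ range → x ∈ range`
  obtain ⟨x, rfl⟩ := Submodule.Quotient.mk_surjective _ a
  obtain ⟨y, rfl⟩ := Submodule.Quotient.mk_surjective _ b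
  rw [← Submodule.Quotient.mk_smul, ← Submodule.Quotient.mk_smul, Submodule.Quotient.eq,
    ← nsmul_sub] at hab
  rw [Submodule.Quotient.eq]
  set z := x - y with hz
  obtain ⟨γ, hγ⟩ := hab
  -- `γ e = m * z_i e` for every `i` and every edge `e ∉ D i`
  have hγe : ∀ (i : Fin n) (e : E) (he : e ∉ D i), γ.1 e = (m : ℤ) * (z i).1 ⟨e, he⟩ := by
    intro i e he
    have h1 := congrFun hγ i
    have h2 := congrArg (fun w : ↥(DualGr.cycleLattice (DualGr.ctrEnds ends (D i))) => w.1 ⟨e, he⟩) h1
    simp only [LinearMap.pi_apply, Pi.smul_apply] at h2
    exact h2
  -- define `γ'`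
  choose idx hidx using hcover
  let γ' : E → ℤ := fun e => (z (idx e)).1 ⟨e, hidx e⟩
  have hγγ' : γ.1 = (m : ℤ) • γ' := by
    funext e
    rw [Pi.smul_apply, smul_eq_mul]
    exact hγe (idx e) e (hidx e)
  have hmZ : (m : ℤ) ≠ 0 := by exact_mod_cast hm
  have hγ'cyc : γ' ∈ DualGr.cycleLattice ends := by
    change DualGr.boundaryHom ends γ' = 0
    have h0 : DualGr.boundaryHom ends γ.1 = 0 := γ.2
    rw [hγγ', map_smul] at h0
    exact (smul_eq_zero.mp h0).resolve_left hmZ
  refine ⟨⟨γ', hγ'cyc⟩, ?_⟩
  funext i
  apply Subtype.ext
  funext e
  have h3 : (m : ℤ) * γ' e.1 = (m : ℤ) * (z i).1 e := by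
    have := hγe i e.1 e.2
    rw [hγγ', Pi.smul_apply, smul_eq_mul] at this
    exact this
  exact mul_left_cancel₀ hmZ h3

end Groth.Agent.S14397
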