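import Groth.Statements.S14400
import Groth.Agent.Lib.GalDescSch18

set_option autoImplicit false
set_option maxHeartbeats 400000
universe u
open CategoryTheory CategoryTheory.Limits AlgebraicGeometry
open Desc

namespace Groth.Agent.S14400

/-- Let K/k be a finite Galois extension of fields, X and Y schemes over k with base changes X_K and
Y_K, and g : X_K ⟶ Y_K a morphism over Spec K. Then g is the base change of a k-morphism f : X ⟶ Y
(that is, g followed by the projection Y_K ⟶ Y is the projection X_K ⟶ X followed by f) if and only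
if g commutes with the action of every k-automorphism σ of K on X_K and on Y_K (the identity on X,
resp. Y, and Spec σ on the factor Spec K). In other words the image of the k-morphisms X ⟶ Y among
the K-morphisms X_K ⟶ Y_K is exactly the set of Galois-invariant ones. -/
theorem result (k : Type u) [Field k] (K : Type u) [Field K]
    [Algebra k K] [FiniteDimensional k K] [IsGalois k K]
    (X Y : Scheme.{u}) [X.Over (Spec (CommRingCat.of k))] [Y.Over (Spec (CommRingCat.of k))]
    (g : Curv2.bc k X K ⟶ Curv2.bc k Y K) (hg : g ≫ Curv2.bcSnd k Y K = Curv2.bcSnd k X K) :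
    (∃ f : X ⟶ Y, f ≫ (Y ↘ Spec (CommRingCat.of k)) = X ↘ Spec (CommRingCat.of k) ∧
        g ≫ Curv2.bcFst k Y K = Curv2.bcFst k X K ≫ f) ↔
      ∀ σ : K ≃ₐ[k] K, Curv2.galAct k X K σ ≫ g = g ≫ Curv2.galAct k Y K σ := by
  have hact : ∀ (Z : Scheme.{u}) [Z.Over (Spec (CommRingCat.of k))] (σ : K ≃ₐ[k] K),
      Curv2.galAct k Z K σ =
        Groth.Agent.Lib.GalAct13.act K (Z ↘ Spec (CommRingCat.of k)) σ := fun Z _ σ => rfl
  constructor
  · rintro ⟨f, hf1, hf2⟩ σ
    rw [hact X, hact Y]
    apply Limits.pullback.hom_ext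
    · rw [Category.assoc, Category.assoc, Groth.Agent.Lib.GalAct13.act_fst]
      change _ ≫ g ≫ Curv2.bcFst k Y K = g ≫ Curv2.bcFst k Y K
      rw [hf2]
      change _ ≫ Limits.pullback.fst _ _ ≫ f = Limits.pullback.fst _ _ ≫ f
      rw [Groth.Agent.Lib.GalAct13.act_fst_assoc]
    · rw [Category.assoc, Category.assoc, Groth.Agent.Lib.GalAct13.act_snd]
      change _ ≫ g ≫ Curv2.bcSnd k Y K = g ≫ Curv2.bcSnd k Y K ≫ _
      rw [hg, ← Category.assoc g, hg]
      exact Groth.Agent.Lib.GalAct13.act_snd K _ σ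
  · intro hσ
    have hinv : ∀ σ : K ≃ₐ[k] K,
        Groth.Agent.Lib.GalAct13.act K (X ↘ Spec (CommRingCat.of k)) σ ≫ (g ≫ Curv2.bcFst k Y K) =
          g ≫ Curv2.bcFst k Y K := by
      intro σ
      rw [← Category.assoc, ← hact X, hσ σ, hact Y, Category.assoc]
      congr 1
      exact Groth.Agent.Lib.GalAct13.act_fst K _ σ
    obtain ⟨f, hf⟩ := Groth.Agent.Lib.GalDescSch18.exists_desc_scheme K
      (X ↘ Spec (CommRingCat.of k)) (g ≫ Curv2.bcFst k Y K) hinv
    refine ⟨f, ?_, hf.symm⟩
    rw [← cancel_epi (Limits.pullback.fst (X ↘ Spec (CommRingCat.of k))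
      (Spec.map (CommRingCat.ofHom (algebraMap k K))))]
    rw [← Category.assoc, hf, Category.assoc]
    change g ≫ Limits.pullback.fst _ _ ≫ _ = _
    rw [Limits.pullback.condition, ← Category.assoc]
    change (g ≫ Curv2.bcSnd k Y K) ≫ _ = _
    rw [hg]
    exact Limits.pullback.condition.symm

end Groth.Agent.S14400
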