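import Groth.Statements.S14401
import Mathlib.AlgebraicGeometry.Stalk
import Mathlib.Topology.NoetherianSpace
import Mathlib.Topology.Sober

set_option autoImplicit false
universe u
open CategoryTheory AlgebraicGeometry

namespace Groth.Agent.S14401

/-- If the stalk at `x` is a domain, every irreducible component through `x` is the closure of
the image of the generic point of `Spec O_{X,x}`. -/
lemma eq_closure_of_mem {X : Scheme.{u}} (x : X) [IsDomain (X.presheaf.stalk x)]
    (Z : Set X) (hZ : Z ∈ irreducibleComponents (X : Type u)) (hx : x ∈ Z) :
    Z = closure {X.fromSpecStalk x (⟨⊥, Ideal.isPrime_bot⟩ : PrimeSpectrum (X.presheaf.stalk x))} := by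
  have hZirr : IsIrreducible Z := hZ.1
  have hZcl : IsClosed Z := isClosed_of_mem_irreducibleComponents Z hZ
  -- generic point of `Z`
  obtain ⟨η, hη⟩ := QuasiSober.sober hZirr hZcl
  have hηx : η ⤳ x := by
    rw [specializes_iff_mem_closure, hη.def]
    exact hx
  have hηrange : η ∈ Set.range (X.fromSpecStalk x) := by
    rw [Scheme.range_fromSpecStalk]
    exact hηx
  obtain ⟨p, hp⟩ := hηrange
  set ξ := X.fromSpecStalk x (⟨⊥, Ideal.isPrime_bot⟩ : PrimeSpectrum (X.presheaf.stalk x)) with hξ
  have hbot : (⟨⊥, Ideal.isPrime_bot⟩ : PrimeSpectrum (X.presheaf.stalk x)) ⤳ p := by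
    rw [← PrimeSpectrum.le_iff_specializes]
    exact bot_le
  have hξη : ξ ⤳ η := by
    rw [← hp]
    exact hbot.map (X.fromSpecStalk x).continuous
  have hsub : Z ⊆ closure {ξ} := by
    rw [← hη.def]
    exact closure_minimal (Set.singleton_subset_iff.mpr (specializes_iff_mem_closure.mp hξη))
      isClosed_closure
  exact le_antisymm hsub (hZ.2 isIrreducible_singleton.closure hsub)

/-- Let X be a Noetherian scheme all of whose local rings are integral domains. Then each irreducible
component of X is an open subset of X, and each point of X lies on exactly one irreducible component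
(so the irreducible components of X are pairwise disjoint, open and closed, and coincide with the
connected components). (The published statement assumes X regular and Noetherian; its argument uses
only that the local rings of X are domains, which is the hypothesis taken here.) -/
theorem result (X : Scheme.{u}) [AlgebraicGeometry.IsNoetherian X]
    (hX : ∀ x : X, IsDomain (X.presheaf.stalk x)) :
    (∀ Z ∈ irreducibleComponents (X : Type u), IsOpen Z) ∧
      ∀ x : X, ∃! Z, Z ∈ irreducibleComponents (X : Type u) ∧ x ∈ Z := by
  have huniq : ∀ x : X, ∃! Z, Z ∈ irreducibleComponents (X : Type u) ∧ x ∈ Z := by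
    intro x
    have := hX x
    refine ⟨irreducibleComponent x, ⟨irreducibleComponent_mem_irreducibleComponents x,
      mem_irreducibleComponent⟩, ?_⟩
    rintro Z ⟨hZ, hxZ⟩
    rw [eq_closure_of_mem x Z hZ hxZ, eq_closure_of_mem x (irreducibleComponent x)
      (irreducibleComponent_mem_irreducibleComponents x) mem_irreducibleComponent]
  refine ⟨?_, huniq⟩
  intro Z hZ
  have hfin : (irreducibleComponents (X : Type u)).Finite :=
    TopologicalSpace.NoetherianSpace.finite_irreducibleComponents
  -- `Z` is the complement of the union of the other components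
  have hcompl : Zᶜ = ⋃ W ∈ (irreducibleComponents (X : Type u) \ {Z}), W := by
    ext x
    simp only [Set.mem_compl_iff, Set.mem_iUnion, Set.mem_sdiff, Set.mem_singleton_iff,
      exists_prop]
    constructor
    · intro hxZ
      refine ⟨irreducibleComponent x, ⟨irreducibleComponent_mem_irreducibleComponents x, ?_⟩,
        mem_irreducibleComponent⟩
      rintro rfl
      exact hxZ mem_irreducibleComponent
    · rintro ⟨W, ⟨hW, hWZ⟩, hxW⟩ hxZ
      exact hWZ ((huniq x).unique ⟨hW, hxW⟩ ⟨hZ, hxZ⟩)
  rw [← isClosed_compl_iff, hcompl]
  exact (hfin.subset Set.sdiff_subset).isClosed_biUnion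
    (fun W hW => isClosed_of_mem_irreducibleComponents W hW.1)

end Groth.Agent.S14401
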