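-- Statement S14404.
import Groth.Statements.S14404
import Groth.Agent.Lib.H30FlatDim
import Groth.Agent.Lib.TopKrullDim
import Mathlib

set_option autoImplicit false
universe u
open CategoryTheory AlgebraicGeometry
open FlatMor

namespace Groth.Agent.S14404

open Groth.Agent.Lib.H30DimField Groth.Agent.Lib.H30FibRes Groth.Agent.Lib.H30DimRel
  Groth.Agent.Lib.H30FlatDim

theorem main (k : Type u) [Field k]
    {X Y : Scheme.{u}} (qX : X ⟶ Spec (CommRingCat.of k)) (qY : Y ⟶ Spec (CommRingCat.of k))
    [LocallyOfFiniteType qX] [QuasiCompact qX] [LocallyOfFiniteType qY] [QuasiCompact qY]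
    [IrreducibleSpace X] [IrreducibleSpace Y] (f : X ⟶ Y) (hf : f ≫ qY = qX) [Flat f] :
    topologicalKrullDim Y ≤ topologicalKrullDim X ∧
      ∀ (y : Y), ∀ Z ∈ irreducibleComponents (f.fiber y : Type u),
        topologicalKrullDim Z + topologicalKrullDim Y = topologicalKrullDim X := by
  letI : X.Over (Spec (CommRingCat.of k)) := ⟨qX⟩
  letI : Y.Over (Spec (CommRingCat.of k)) := ⟨qY⟩
  haveI : LocallyOfFiniteType (X ↘ Spec (CommRingCat.of k)) := ‹LocallyOfFiniteType qX›
  haveI : LocallyOfFiniteType (Y ↘ Spec (CommRingCat.of k)) := ‹LocallyOfFiniteType qY›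
  have hf' : f ≫ (Y ↘ Spec (CommRingCat.of k)) = X ↘ Spec (CommRingCat.of k) := hf
  haveI := lft_of_over k X Y f hf'
  haveI := isLocallyNoetherian k X
  haveI := isLocallyNoetherian k Y
  have key : ∀ (y : Y), ∀ Z ∈ irreducibleComponents (f.fiber y : Type u),
        topologicalKrullDim Z + topologicalKrullDim Y = topologicalKrullDim X := by
    intro y Z hZ
    obtain ⟨z, hz⟩ : ∃ z, IsGenericPoint z Z :=
      QuasiSober.sober hZ.1 (isClosed_of_mem_irreducibleComponents Z hZ)
    have hy : f (f.fiberι y z) = y := by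
      have : f.fiberι y z ∈ Set.range (f.fiberι y) := ⟨z, rfl⟩
      rw [f.range_fiberι y] at this
      exact this
    obtain ⟨hdimZ, hmax⟩ := dim_component_eq_rt f (f.fiberι y z) y hy z rfl Z hZ hz
    set x := f.fiberι y z with hx
    have hst := stalk_dim_eq_of_flat f x (Flat.stalkMap f x) hmax
    have hX := dim_eq_stalk_add k X x
    have hY := dim_eq_stalk_add k Y (f x)
    have hadd := td_eq_add k X Y f hf' x
    have h1 := td_nonneg k Y (f x)
    have h2 : (td k X x).toNat = (td k Y (f x)).toNat + rt f x := by omega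
    rw [hdimZ, hX, hY, hst, h2]
    push_cast
    rw [add_comm, add_assoc]
  refine ⟨?_, key⟩
  -- some fibre is nonempty
  obtain ⟨x⟩ : Nonempty X := inferInstance
  let z := f.asFiber x
  have hZ := irreducibleComponent_mem_irreducibleComponents z
  have h1 := key (f x) _ hZ
  rw [← h1]
  have h2 : (0 : WithBot ℕ∞) ≤ topologicalKrullDim ↥(irreducibleComponent z) := by
    haveI : Nonempty ↥(irreducibleComponent z) := ⟨⟨z, mem_irreducibleComponent⟩⟩
    exact Groth.Agent.Lib.TopKrullDim.dim_nonneg_of_nonempty
  calc topologicalKrullDim Y = 0 + topologicalKrullDim Y := (zero_add _).symm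
    _ ≤ _ := add_le_add_left h2 _

/-- Let k be a field, X and Y irreducible schemes of finite type over k and f : X ⟶ Y a flat k-morphism.
Then dim Y ≤ dim X, and for every point y of Y every irreducible component Z of the scheme-theoretic
fibre of f over y has dim Z + dim Y = dim X; that is, every non-empty fibre has all its irreducible
components of dimension dim X − dim Y. -/
theorem result (k : Type u) [Field k]
    {X Y : Scheme.{u}} (qX : X ⟶ Spec (CommRingCat.of k)) (qY : Y ⟶ Spec (CommRingCat.of k))
    [LocallyOfFiniteType qX] [QuasiCompact qX] [LocallyOfFiniteType qY] [QuasiCompact qY]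
    [IrreducibleSpace X] [IrreducibleSpace Y] (f : X ⟶ Y) (hf : f ≫ qY = qX) [Flat f] :
    topologicalKrullDim Y ≤ topologicalKrullDim X ∧
      ∀ (y : Y), ∀ Z ∈ irreducibleComponents (f.fiber y : Type u),
        topologicalKrullDim Z + topologicalKrullDim Y = topologicalKrullDim X := by
  exact main k qX qY f hf

end Groth.Agent.S14404
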