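import Groth.Statements.S14405
import Mathlib.Algebra.Polynomial.Degree.Lemmas
import Mathlib.Algebra.Polynomial.Eval.Degree
import Mathlib.Algebra.Polynomial.Degree.Operations
import Mathlib.Algebra.Polynomial.Eval.Coeff
import Mathlib.Algebra.Polynomial.Coeff
import Mathlib.Tactic

set_option autoImplicit false
open Polynomial

namespace Groth.Agent.S14405

/-- the backward difference operator on polynomials -/
noncomputable def bdiff (P : ℚ[X]) : ℚ[X] := P - P.comp (X - C 1)

lemma bdiff_add (P R : ℚ[X]) : bdiff (P + R) = bdiff P + bdiff R := by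
  simp only [bdiff, add_comp]; ring

lemma bdiff_sub (P R : ℚ[X]) : bdiff (P - R) = bdiff P - bdiff R := by
  simp only [bdiff, sub_comp]; ring

lemma bdiff_C_mul (a : ℚ) (P : ℚ[X]) : bdiff (C a * P) = C a * bdiff P := by
  simp only [bdiff, mul_comp, C_comp]; ring

lemma bdiff_C (a : ℚ) : bdiff (C a) = 0 := by
  simp [bdiff]

lemma eval_bdiff (P : ℚ[X]) (x : ℚ) : (bdiff P).eval x = P.eval x - P.eval (x - 1) := by
  simp [bdiff, eval_comp]

/-- `bdiff` lowers the degree of nonconstant polynomials. -/
lemma natDegree_bdiff_lt (P : ℚ[X]) (hP : 0 < P.natDegree) : (bdiff P).natDegree < P.natDegree := by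
  have hq : (X - C (1 : ℚ)).natDegree = 1 := natDegree_X_sub_C 1
  have hq' : (X - C (1 : ℚ)).leadingCoeff = 1 := leadingCoeff_X_sub_C 1
  have hP0 : P ≠ 0 := fun h => by rw [h, natDegree_zero] at hP; exact lt_irrefl _ hP
  have hnd : (P.comp (X - C 1)).natDegree = P.natDegree := by rw [natDegree_comp, hq, mul_one]
  have hc0 : P.comp (X - C 1) ≠ 0 := fun h => by
    rw [h, natDegree_zero] at hnd; omega
  have hdeg : P.degree = (P.comp (X - C 1)).degree := by
    rw [degree_eq_natDegree hP0, degree_eq_natDegree hc0, hnd]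
  have hlc : P.leadingCoeff = (P.comp (X - C 1)).leadingCoeff := by
    rw [leadingCoeff_comp (by rw [hq]; exact one_ne_zero), hq', one_pow, mul_one]
  have hlt := degree_sub_lt_left hdeg hP0 hlc
  by_cases hz : P - P.comp (X - C 1) = 0
  · rw [bdiff, hz, natDegree_zero]; exact hP
  · exact natDegree_lt_natDegree hz hlt

lemma bdiff_eq_zero_of_natDegree_eq_zero (P : ℚ[X]) (hP : P.natDegree = 0) : bdiff P = 0 := by
  rw [eq_C_of_natDegree_eq_zero hP, bdiff_C]

/-- `bdiff (X^(n+1))` has degree `≤ n` with `n`-th coefficient `n+1`. -/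
lemma natDegree_bdiff_X_pow (n : ℕ) : (bdiff (X ^ (n + 1) : ℚ[X])).natDegree ≤ n := by
  have h := natDegree_bdiff_lt (X ^ (n + 1) : ℚ[X]) (by rw [natDegree_X_pow]; exact Nat.succ_pos n)
  rw [natDegree_X_pow] at h
  exact Nat.lt_succ_iff.mp h

lemma coeff_bdiff_X_pow (n : ℕ) : (bdiff (X ^ (n + 1) : ℚ[X])).coeff n = (n : ℚ) + 1 := by
  have hX : (X - C (1 : ℚ)) = X + C (-1) := by rw [C_neg]; ring
  simp only [bdiff, X_pow_comp, coeff_sub, coeff_X_pow]
  rw [hX, coeff_X_add_C_pow]
  simp

/-- surjectivity of `bdiff` with degree control -/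
lemma exists_bdiff_eq (d : ℕ) : ∀ Q : ℚ[X], Q.natDegree ≤ d →
    ∃ P : ℚ[X], P.natDegree ≤ d + 1 ∧ bdiff P = Q := by
  induction d with
  | zero =>
    intro Q hQ
    refine ⟨C (Q.coeff 0) * X, ?_, ?_⟩
    · exact (natDegree_C_mul_le _ _).trans (by simp)
    · rw [bdiff_C_mul]
      have : bdiff (X : ℚ[X]) = C 1 := by simp [bdiff]
      rw [this, ← C_mul, mul_one]
      exact (eq_C_of_natDegree_le_zero hQ).symm
  | succ d ih =>
    intro Q hQ
    set a := Q.coeff (d + 1) with ha
    set R : ℚ[X] := C (a / ((d : ℚ) + 1 + 1)) * X ^ (d + 1 + 1) with hR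
    have hne : ((d : ℚ) + 1 + 1) ≠ 0 := by positivity
    have hdeg : (Q - bdiff R).natDegree ≤ d := by
      have h1 : (Q - bdiff R).natDegree ≤ d + 1 := by
        refine (natDegree_sub_le _ _).trans (max_le hQ ?_)
        rw [hR, bdiff_C_mul]
        exact (natDegree_C_mul_le _ _).trans (natDegree_bdiff_X_pow (d + 1))
      have h2 : (Q - bdiff R).coeff (d + 1) = 0 := by
        rw [coeff_sub, hR, bdiff_C_mul, coeff_C_mul, coeff_bdiff_X_pow]
        push_cast
        field_simp
        rw [← ha]; ring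
      by_contra hlt
      rw [not_le] at hlt
      have heq : (Q - bdiff R).natDegree = d + 1 := le_antisymm h1 hlt
      have hnz : Q - bdiff R ≠ 0 := by
        intro h0
        rw [h0, natDegree_zero] at heq
        omega
      have := leadingCoeff_ne_zero.mpr hnz
      rw [leadingCoeff, heq] at this
      exact this h2
    obtain ⟨P', hP', hP'eq⟩ := ih (Q - bdiff R) hdeg
    refine ⟨P' + R, ?_, ?_⟩
    · refine (natDegree_add_le _ _).trans (max_le (hP'.trans (Nat.le_succ _)) ?_)
      rw [hR]
      exact (natDegree_C_mul_le _ _).trans (by rw [natDegree_X_pow])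
    · rw [bdiff_add, hP'eq]; ring

/-- Let φ be a function from the integers to the rationals and Q a nonzero polynomial with rational
coefficients of degree d such that φ(m) - φ(m-1) = Q(m) for every integer m. Then there is a
polynomial P with rational coefficients, of degree d + 1, such that φ(m) = P(m) for every integer m.
(The explicit form of P in the binomial basis is not part of this statement.) -/
theorem result (φ : ℤ → ℚ) (d : ℕ) (Q : ℚ[X]) (hQ : Q ≠ 0)
    (hd : Q.natDegree = d) (h : ∀ m : ℤ, φ m - φ (m - 1) = Q.eval (m : ℚ)) :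
    ∃ P : ℚ[X], P.natDegree = d + 1 ∧ ∀ m : ℤ, φ m = P.eval (m : ℚ) := by
  obtain ⟨P, hPdeg, hPQ⟩ := exists_bdiff_eq d Q hd.le
  -- the degree of `P` is exactly `d + 1`
  have hPpos : 0 < P.natDegree := by
    by_contra h0
    have : bdiff P = 0 := bdiff_eq_zero_of_natDegree_eq_zero P (by omega)
    exact hQ (hPQ ▸ this)
  have hPdeg' : P.natDegree = d + 1 := by
    have := natDegree_bdiff_lt P hPpos
    rw [hPQ, hd] at this
    omega
  -- `φ - P` is constant
  set ψ : ℤ → ℚ := fun m => φ m - P.eval (m : ℚ) with hψ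
  have hψstep : ∀ m : ℤ, ψ m = ψ (m - 1) := by
    intro m
    have h1 := h m
    have h2 := eval_bdiff P (m : ℚ)
    rw [hPQ] at h2
    simp only [hψ]
    push_cast
    linarith
  have hψconst : ∀ m : ℤ, ψ m = ψ 0 := by
    intro m
    induction m using Int.induction_on with
    | zero => rfl
    | succ i ih =>
      have := hψstep (i + 1)
      rw [this, add_sub_cancel_right, ih]
    | pred i ih =>
      have := hψstep (-i)
      rw [← this, ih]
  refine ⟨P + C (ψ 0), ?_, ?_⟩
  · rw [natDegree_add_C, hPdeg']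
  · intro m
    rw [eval_add, eval_C, ← hψconst m]
    simp only [hψ]
    ring

end Groth.Agent.S14405
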