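import Groth.Statements.S14408
import Groth.Agent.S0002
import Groth.Agent.S0010
import Groth.Agent.Lib.HilbPos48c
import Groth.Agent.Lib.SerreVanPN
import Groth.Agent.Lib.ProjSpaceFin
import Groth.Agent.Lib.ProjSpaceProper
import Groth.Agent.Lib.ProjSpaceCover
import Groth.Agent.Lib.OXModTensor
import Groth.Agent.Lib.H4ProjSpaceCoh
import Groth.Agent.Lib.FinDimLft67
import Mathlib
-- import your own Groth.Agent.* helpers here

set_option autoImplicit false
universe u
open CategoryTheory CategoryTheory.Limits AlgebraicGeometry
open HilbNum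

namespace Groth.Agent.S14408

open Groth.Agent.Lib Polynomial


/-- Let k be an algebraically closed field, n a positive integer, F a nonzero coherent O-module on
projective n-space P over k (quasi-coherent of finite type), and P_F a polynomial with rational
coefficients such that P_F(m) = χ(F(m)) = Σ_{j ≤ n} (-1)^j dim_k H^j(P, F ⊗ O(m)) for every integer
m. Then the degree of P_F equals the dimension of the support of F (the closed set of points where
the stalk of F is nonzero, with the subspace topology). The existence of such a polynomial is not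
part of this statement; it enters through the hypothesis on P_F. -/
theorem result (k : Type u) [Field k] [IsAlgClosed k] (n : ℕ) (hn : 0 < n)
    (F : (CohB1.ProjSpace n k).Modules) (hF : Coh.IsCoh F) (hF0 : ¬ IsZero F) (P : Polynomial ℚ)
    (hP : ∀ m : ℤ,
      ((Finset.range (n + 1)).sum fun j => (-1 : ℚ) ^ j *
        (Module.finrank k (Coh.HH (CohB1.ProjSpace n k) (CohB1.tensorMod F (Twist.twistProjSpace n k m)) j) : ℚ)) =
      P.eval (m : ℚ)) :
    topologicalKrullDim ↥(CohB1.support F) = (P.natDegree : WithBot ℕ∞) := by
  have hprop : IsProper ((CohB1.ProjSpace n k) ↘ Spec (CommRingCat.of k)) :=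
    ProjSpaceProper.isProper_toSpec n k
  have hL : CohB1.IsAmple (Twist.twistProjSpace n k 1) := ProjSpaceFin.isAmple_twist_one n k
  have H : ProperFinHyp.Hyp.{u} := fun A _ _ X _ _ M hM n => Groth.Agent.S0002.result A X M hM n
  -- the polynomial `P` is the Hilbert polynomial of `F` with respect to `O(1)`
  have hHP : ShStab.IsHilbPoly k (CohB1.ProjSpace n k) (Twist.twistProjSpace n k 1) F P := by
    intro m
    obtain ⟨e⟩ := SerreVanPN.nonempty_powIso n k m
    have e' : ShStab.twist (CohB1.ProjSpace n k) (Twist.twistProjSpace n k 1) F m ≅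
        CohB1.tensorMod F (Twist.twistProjSpace n k (m : ℤ)) :=
      OXModTensor.tensorModIso (Iso.refl F) e
    have hcoh : Coh.IsCoh (CohB1.tensorMod F (Twist.twistProjSpace n k (m : ℤ))) :=
      CohFinAmple.isCoh_tensorMod hF
        (H90Invertible.isCoh_of_isInvertible (H4Twist.isInvertible_twistProjSpace n k (m : ℤ)))
    have : Coh.IsQCoh (CohB1.tensorMod F (Twist.twistProjSpace n k (m : ℤ))) := hcoh.1
    rw [ParHilb48.euler_congr k _ e', EulerChar54.euler_eq_sum_range k _ _ n (fun i hi =>
      Groth.Agent.S0010.result _ (n + 1) (ProjSpaceCover.stdOpen n k)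
        (ProjSpaceCover.isAffineOpen_stdOpen n k) (ProjSpaceCover.iSup_stdOpen n k)
        (ProjSpaceCover.isAffineOpen_inf n k) _ i hi)]
    have := hP (m : ℤ)
    rw [show ((m : ℤ) : ℚ) = (m : ℚ) by push_cast; rfl] at this
    rw [← this]
    push_cast
    refine Finset.sum_congr rfl fun j _ => ?_
    rw [EulerNat54.len_eq_finrank]
  -- the support has finite dimension `d`
  have hcompact : CompactSpace (CohB1.ProjSpace n k) := EulerChar54.compactSpace_of_isProper k _
  have hXfin : topologicalKrullDim (CohB1.ProjSpace n k) < ⊤ :=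
    FinDimLft67.topologicalKrullDim_lt_top k _ ((CohB1.ProjSpace n k) ↘ Spec (CommRingCat.of k))
  have hSfin : topologicalKrullDim ↥(CohB1.support F) < ⊤ :=
    lt_of_le_of_lt (topologicalKrullDim_subspace_le _ _) hXfin
  have hne : (CohB1.support F).Nonempty := by
    by_contra h
    rw [Set.not_nonempty_iff_eq_empty] at h
    apply hF0
    apply ModPullback.isZero_of_forall_subsingleton_stalk
    intro y
    by_contra hy
    have : y ∈ CohB1.support F := hy
    rw [h] at this
    exact this
  have hnon : Nonempty (TopologicalSpace.IrreducibleCloseds ↥(CohB1.support F)) := by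
    obtain ⟨x, hx⟩ := hne
    exact ⟨⟨closure {⟨x, hx⟩}, isIrreducible_singleton.closure, isClosed_closure⟩⟩
  have h0 : 0 ≤ topologicalKrullDim ↥(CohB1.support F) := Order.krullDim_nonneg
  obtain ⟨d, hd⟩ : ∃ d : ℕ, topologicalKrullDim ↥(CohB1.support F) = (d : WithBot ℕ∞) := by
    generalize topologicalKrullDim ↥(CohB1.support F) = x at hSfin h0
    induction x with
    | bot => simp at h0
    | coe y =>
      induction y with
      | top => exact absurd hSfin (lt_irrefl _)
      | coe d => exact ⟨d, rfl⟩
  rw [hd]
  have h1 := HilbPoly48.natDegree_le_of_isHilbPoly k _ H hL.1 hF d hd.le hHP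
  have h2 := HilbPoly48.coeff_pos H k _ hL hF d hd hHP
  have h3 : P.natDegree = d := le_antisymm h1 (le_natDegree_of_ne_zero h2.ne')
  rw [h3]

end Groth.Agent.S14408
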