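import Groth.Statements.S14410
import Mathlib.Algebra.Homology.ShortComplex.Ab
import Mathlib.CategoryTheory.Sites.Limits
import Mathlib.CategoryTheory.Sites.Abelian
import Mathlib.CategoryTheory.Preadditive.AdditiveFunctor

set_option autoImplicit false
universe u
open CategoryTheory TopologicalSpace
open CohTop

namespace Groth.Agent.S14410

/-- Let X be a topological space and 0 → F₁ → F₂ → F₃ → 0 a short exact sequence of sheaves of abelian
groups on X. If F₁ and F₃ are flasque (every restriction map is surjective), then F₂ is flasque.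
(The published statement is for O_X-modules on a ringed space and is an equivalence; this row states
the implication from the outer terms to the middle term, for the underlying abelian sheaves.) -/
theorem result (X : TopCat.{u})
    (S : ShortComplex (TopCat.Sheaf AddCommGrpCat.{u} X)) (hS : S.ShortExact)
    [S.X₁.IsFlasque] [S.X₃.IsFlasque] : S.X₂.IsFlasque := by
  constructor
  intro U V i
  rw [AddCommGrpCat.epi_iff_surjective]
  intro s
  -- sections functor over `V`
  let S' : ShortComplex (Sheaf (Opens.grothendieckTopology X) AddCommGrpCat.{u}) := S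
  have hS' : S'.ShortExact := hS
  have hmono : Mono S'.f := hS'.mono_f
  have hex : (S'.map (sheafToPresheaf (Opens.grothendieckTopology X) AddCommGrpCat.{u} ⋙
      (evaluation _ _).obj V)).Exact :=
    hS'.exact.map_of_mono_of_preservesKernel _ hmono inferInstance
  rw [ShortComplex.ab_exact_iff] at hex
  -- extend the image of `s` in `F₃`
  have e3 : Epi (S.X₃.obj.map i) := inferInstance
  rw [AddCommGrpCat.epi_iff_surjective] at e3
  obtain ⟨t, ht⟩ := e3 (S.g.hom.app V s)
  have eg : Epi (S.g.hom.app U) := TopCat.Sheaf.IsFlasque.epi_of_shortExact hS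
  rw [AddCommGrpCat.epi_iff_surjective] at eg
  obtain ⟨s', hs'⟩ := eg t
  have hnat : S.g.hom.app V (S.X₂.obj.map i s') = S.X₃.obj.map i (S.g.hom.app U s') :=
    ConcreteCategory.congr_hom (S.g.hom.naturality i) s'
  have hker : S.g.hom.app V (S.X₂.obj.map i s' - s) = 0 := by
    rw [map_sub, hnat, hs', ht, sub_self]
  obtain ⟨a, ha⟩ := hex (S.X₂.obj.map i s' - s) hker
  have e1 : Epi (S.X₁.obj.map i) := inferInstance
  rw [AddCommGrpCat.epi_iff_surjective] at e1
  obtain ⟨a', ha'⟩ := e1 a
  refine ⟨s' - S.f.hom.app U a', ?_⟩
  have hnat1 : S.f.hom.app V (S.X₁.obj.map i a') = S.X₂.obj.map i (S.f.hom.app U a') :=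
    ConcreteCategory.congr_hom (S.f.hom.naturality i) a'
  have ha2 : S.f.hom.app V a = S.X₂.obj.map i s' - s := ha
  rw [map_sub, ← hnat1, ha', ha2]
  abel

end Groth.Agent.S14410
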