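import Groth.Statements.S14415
import Groth.Agent.S10935
import Groth.Agent.Lib.LocFact82
import Groth.Agent.Lib.FinLocFreeMor

set_option autoImplicit false
universe u
open CategoryTheory AlgebraicGeometry
open FlatMor

namespace Groth.Agent.S14415

open Groth.Agent.Lib.LocFact82

/-- The specialization map out of a local ring which is a domain is injective. -/
theorem stalkSpecializes_injective_of_isDomain (Y : Scheme.{u}) {y' y : Y} (h : y' ⤳ y)
    [IsDomain (Y.presheaf.stalk y)] :
    Function.Injective (Y.presheaf.stalkSpecializes h).hom := by
  letI := (Y.presheaf.stalkSpecializes h).hom.toAlgebra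
  have := isLocalization_genPrime Y h
  exact IsLocalization.injective (Y.presheaf.stalk y')
    (Ideal.primeCompl_le_nonZeroDivisors (genPrime Y h))

/-- Flatness of a stalk map over a principal local domain, from associated points. -/
theorem flat_stalkMap_of_isAssPoint {X Y : Scheme.{u}} (f : X ⟶ Y) (x : X)
    [IsDomain (Y.presheaf.stalk (f.base x))] [IsPrincipalIdealRing (Y.presheaf.stalk (f.base x))]
    (hass : ∀ x' : X, x' ⤳ x → Curv2.IsAssPoint (Coh.structureModule X) x' →
      IsField (Y.presheaf.stalk (f.base x'))) :
    (f.stalkMap x).hom.Flat := by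
  letI : Algebra (Y.presheaf.stalk (f.base x)) (X.presheaf.stalk x) :=
    (f.stalkMap x).hom.toAlgebra
  have htf : Module.IsTorsionFree (Y.presheaf.stalk (f.base x)) (X.presheaf.stalk x) := by
    refine ⟨fun r hr s₁ s₂ h12 => ?_⟩
    have hr0 : r ≠ 0 := hr.ne_zero
    by_contra hne
    have hs : s₁ - s₂ ≠ 0 := sub_ne_zero.mpr hne
    have hrs : (f.stalkMap x).hom r * (s₁ - s₂) = 0 := by
      have h1 : r • s₁ = r • s₂ := h12
      rw [Algebra.smul_def, Algebra.smul_def] at h1
      rw [mul_sub]
      exact sub_eq_zero.mpr h1
    obtain ⟨x', hx'x, hx'ass, hne'⟩ :=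
      Groth.Agent.S10935.exists_isAssPoint_stalkSpecializes_ne_zero X x (s₁ - s₂) hs
    have hfld := hass x' hx'x hx'ass
    have hsp : f.base x' ⤳ f.base x := hx'x.map f.base.hom.continuous
    set r' := (Y.presheaf.stalkSpecializes hsp).hom r with hr'
    have hr'0 : r' ≠ 0 := by
      intro h0
      apply hr0
      apply stalkSpecializes_injective_of_isDomain Y hsp
      rw [map_zero]
      exact h0
    have hu : IsUnit r' := by
      obtain ⟨b, hb⟩ := hfld.mul_inv_cancel hr'0
      exact IsUnit.of_mul_eq_one b hb
    have hu' : IsUnit ((f.stalkMap x').hom r') := hu.map _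
    have hcomm : (f.stalkMap x').hom r' =
        (X.presheaf.stalkSpecializes hx'x).hom ((f.stalkMap x).hom r) :=
      Scheme.Hom.stalkSpecializes_stalkMap_apply f x' x hx'x r
    have h0 : (f.stalkMap x').hom r' * (X.presheaf.stalkSpecializes hx'x).hom (s₁ - s₂) = 0 := by
      rw [hcomm, ← map_mul, hrs, map_zero]
    exact hne' (hu'.mul_right_eq_zero.mp h0)
  exact (inferInstance : Module.Flat (Y.presheaf.stalk (f.base x)) (X.presheaf.stalk x))


/-- Let f : C → C' be a finite morphism of schemes, with C' locally Noetherian and all local rings of C'
regular of dimension at most one, such that every associated point x of C (a point whose maximal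
ideal is an associated prime of O_{C,x}) maps to a point of C' whose local ring is zero-dimensional,
that is, to a generic point of an irreducible component of C'. Then f_* O_C is finite locally free.
(The published statement takes C' regular Noetherian of pure dimension one and C Noetherian of pure
dimension one without embedded points; these hypotheses imply that every associated point of C maps
to a generic point of C'. This row assumes only that condition, allows C' locally Noetherian with
regular local rings of dimension at most one, and puts no condition on the dimension of C; the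
argument is local on C'.) -/
theorem result
    (C C' : Scheme.{u}) (f : C ⟶ C') [IsFinite f] [IsLocallyNoetherian C']
    (hreg : ∀ y : C', IsRegularLocalRing (C'.presheaf.stalk y))
    (hdim : ∀ y : C', ringKrullDim (C'.presheaf.stalk y) ≤ 1)
    (hass : ∀ x : C, Curv2.IsAssPoint (Coh.structureModule C) x →
      ringKrullDim (C'.presheaf.stalk (f.base x)) = 0) :
    FlatMod.IsFinLocFree ((Coh.push f).obj (Coh.structureModule C)) := by
  have hflat : Flat f := by
    rw [Flat.iff_flat_stalkMap]
    intro x
    have hR := hreg (f.base x)
    haveI hdom : IsDomain (C'.presheaf.stalk (f.base x)) :=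
      Groth.Agent.Lib.RegularLocal.isDomain _
    haveI hic : IsIntegrallyClosed (C'.presheaf.stalk (f.base x)) :=
      Groth.Agent.Lib.RegularNormal.isIntegrallyClosed _
    haveI hpir : IsPrincipalIdealRing (C'.presheaf.stalk (f.base x)) :=
      Groth.Agent.S10935.isPrincipalIdealRing_of_normal _ (hdim _)
    apply flat_stalkMap_of_isAssPoint
    intro x' _ hx'
    have h0 := hass x' hx'
    have hR' := hreg (f.base x')
    haveI : IsDomain (C'.presheaf.stalk (f.base x')) :=
      Groth.Agent.Lib.RegularLocal.isDomain _
    haveI : Ring.KrullDimLE 0 (C'.presheaf.stalk (f.base x')) :=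
      Ring.krullDimLE_iff.mpr h0.le
    exact Ring.KrullDimLE.isField_of_isDomain
  have hfp : LocallyOfFinitePresentation f := inferInstance
  exact ((Groth.Agent.Lib.FinLocFreeMor.isFinLocFree_mor_iff f).mpr ⟨inferInstance, hflat, hfp⟩).2

end Groth.Agent.S14415
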