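import Groth.Statements.S14416
import Mathlib.RingTheory.LocalRing.Module
import Mathlib.RingTheory.Support

set_option autoImplicit false
universe u
open scoped TensorProduct
open CAlg

namespace Groth.Agent.S14416

/-- Let B → A be a ring map with A a finitely generated B-module such that for every prime ideal p of B
the fibre κ(p) ⊗_B A has dimension at most one over the residue field κ(p). Then B → A is
surjective. In scheme language: a finite morphism whose degree at every point of the target is 0 or
1 is a closed immersion. (The published statement assumes the two schemes Noetherian; that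
hypothesis plays no role and is dropped here.) -/
theorem result
    (B A : Type u) [CommRing B] [CommRing A] [Algebra B A] [Module.Finite B A]
    (h : ∀ p : PrimeSpectrum B,
      Module.finrank p.asIdeal.ResidueField (p.asIdeal.ResidueField ⊗[B] A) ≤ 1) :
    Function.Surjective (algebraMap B A) := by
  let f : B →ₗ[B] A := Algebra.linearMap B A
  have hC : Subsingleton (A ⧸ LinearMap.range f) := by
    rw [← Module.support_eq_empty_iff (R := B), Set.eq_empty_iff_forall_notMem]
    intro p hp
    rw [Module.mem_support_iff_nontrivial_residueField_tensorProduct] at hp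
    refine not_subsingleton_iff_nontrivial.2 hp ?_
    -- every element of `κ(p) ⊗ A` is of the form `c ⊗ 1`
    have key : ∀ y : p.asIdeal.ResidueField ⊗[B] A, ∃ c : p.asIdeal.ResidueField, c ⊗ₜ[B] (1 : A) = y := by
      intro y
      rcases Nat.lt_or_ge (Module.finrank p.asIdeal.ResidueField (p.asIdeal.ResidueField ⊗[B] A)) 1 with h0 | h1
      · have h0' : Module.finrank p.asIdeal.ResidueField (p.asIdeal.ResidueField ⊗[B] A) = 0 := by omega
        have := Module.finrank_zero_iff.1 h0'
        exact ⟨0, Subsingleton.elim _ _⟩
      · have h1' : Module.finrank p.asIdeal.ResidueField (p.asIdeal.ResidueField ⊗[B] A) = 1 :=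
          le_antisymm (h p) h1
        have : Nontrivial (p.asIdeal.ResidueField ⊗[B] A) :=
          Module.nontrivial_of_finrank_pos (R := p.asIdeal.ResidueField) (by omega)
        have hx : ((1 : p.asIdeal.ResidueField) ⊗ₜ[B] (1 : A)) ≠ 0 := by
          rw [← Algebra.TensorProduct.one_def]
          exact one_ne_zero
        obtain ⟨c, hc⟩ := exists_smul_eq_of_finrank_eq_one h1' hx y
        refine ⟨c, ?_⟩
        rw [← hc, TensorProduct.smul_tmul', smul_eq_mul, mul_one]
    constructor
    intro z w
    have hsurj := LinearMap.lTensor_surjective p.asIdeal.ResidueField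
      (Submodule.mkQ_surjective (LinearMap.range f))
    have hzero : ∀ z : p.asIdeal.ResidueField ⊗[B] (A ⧸ LinearMap.range f), z = 0 := by
      intro z
      obtain ⟨y, rfl⟩ := hsurj z
      obtain ⟨c, rfl⟩ := key y
      rw [LinearMap.lTensor_tmul]
      have : (LinearMap.range f).mkQ (1 : A) = 0 := by
        rw [Submodule.mkQ_apply, Submodule.Quotient.mk_eq_zero]
        exact ⟨1, by simp [f]⟩
      rw [this, TensorProduct.tmul_zero]
    rw [hzero z, hzero w]
  rw [Submodule.Quotient.subsingleton_iff] at hC
  intro a
  have : a ∈ LinearMap.range f := by rw [hC]; trivial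
  obtain ⟨b, hb⟩ := this
  exact ⟨b, hb⟩

end Groth.Agent.S14416
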