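import Groth.Statements.S14417
import Groth.Agent.Lib.GenericSmooth45
import Groth.Agent.Lib.H87CurveDs

set_option autoImplicit false
universe u
open CategoryTheory AlgebraicGeometry
open Variety

namespace Groth.Agent.S14417

section Aux

open KaehlerDifferential

/-- the fraction field extension of a standard smooth map of relative dimension `m` between
domains has transcendence degree `m` -/
theorem toNat_trdeg_eq (A B K L : Type u) [CommRing A] [CommRing B] [IsDomain B] [Field K] [Field L]
    [Algebra A B] [Algebra A K] [Algebra B L] [Algebra K L] [Algebra A L]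
    [IsScalarTower A B L] [IsScalarTower A K L] [IsFractionRing A K] [IsFractionRing B L]
    (m : ℕ) [Algebra.IsStandardSmoothOfRelativeDimension m A B] :
    Cardinal.toNat (Algebra.trdeg K L) = m := by
  haveI : IsLocalization.AtPrime L (⊥ : Ideal B) := by
    change IsLocalization (⊥ : Ideal B).primeCompl L
    rw [Ideal.primeCompl_bot]
    infer_instance
  obtain ⟨-, -, hrank⟩ := Groth.Agent.Lib.H87CurveDs.free_kaehler_localization A A B L
    (fun x => ⟨x, rfl⟩) m (⊥ : Ideal B)
  haveI : Algebra.IsStandardSmooth A B :=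
    Algebra.IsStandardSmoothOfRelativeDimension.isStandardSmooth m
  haveI : Algebra.FormallySmooth A B := inferInstance
  haveI : Algebra.FormallyEtale B L := Algebra.FormallyEtale.of_isLocalization (nonZeroDivisors B)
  haveI : Algebra.FormallySmooth A L := Algebra.FormallySmooth.comp A B L
  haveI : Algebra.FormallySmooth K L := Algebra.FormallySmooth.localization_base (nonZeroDivisors A)
  haveI : Algebra.EssFiniteType B L := Algebra.EssFiniteType.of_isLocalization L (nonZeroDivisors B)
  haveI : Algebra.EssFiniteType A L := Algebra.EssFiniteType.comp A B L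
  haveI : Algebra.EssFiniteType K L := Algebra.EssFiniteType.of_comp A K L
  haveI : Algebra.FormallyUnramified A K :=
    Algebra.FormallyUnramified.of_isLocalization (nonZeroDivisors A)
  haveI : Subsingleton Ω[K⁄A] := inferInstance
  have hinj : Function.Injective (KaehlerDifferential.map A K L L) := by
    rw [injective_iff_map_eq_zero]
    intro x hx
    obtain ⟨y, rfl⟩ := (KaehlerDifferential.exact_mapBaseChange_map A K L x).mp hx
    rw [Subsingleton.elim y 0, map_zero]
  let e : Ω[L⁄A] ≃ₗ[L] Ω[L⁄K] :=
    LinearEquiv.ofBijective (KaehlerDifferential.map A K L L)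
      ⟨hinj, KaehlerDifferential.map_surjective A K L⟩
  rw [← Groth.Agent.Lib.SmoothOmega6.finrank_kaehler_eq_trdeg K L, ← e.finrank_eq, hrank]

/-- instance-free version of `toNat_trdeg_eq` -/
theorem toNat_trdeg_eq' {A B K L : Type u} [CommRing A] [CommRing B] [IsDomain B] [CommRing K]
    [CommRing L] (hK : IsField K) (hL : IsField L)
    (φ : A →+* B) (a : A →+* K) (b : B →+* L) (κ : K →+* L)
    (hcomm : κ.comp a = b.comp φ)
    (ha : @IsFractionRing A _ K _ a.toAlgebra) (hb : @IsFractionRing B _ L _ b.toAlgebra)
    (m : ℕ) (hφ : φ.IsStandardSmoothOfRelativeDimension m) :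
    Cardinal.toNat (@Algebra.trdeg K L _ _ κ.toAlgebra) = m := by
  letI : Field K := hK.toField
  letI : Field L := hL.toField
  letI := φ.toAlgebra
  letI := a.toAlgebra
  letI := b.toAlgebra
  letI := κ.toAlgebra
  letI : Algebra A L := (b.comp φ).toAlgebra
  haveI : IsScalarTower A B L := .of_algebraMap_eq fun _ => rfl
  haveI : IsScalarTower A K L := .of_algebraMap_eq fun x => by
    change (b.comp φ) x = (κ.comp a) x
    rw [hcomm]
  haveI : IsFractionRing A K := ha
  haveI : IsFractionRing B L := hb
  haveI : Algebra.IsStandardSmoothOfRelativeDimension m A B := hφ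
  exact toNat_trdeg_eq A B K L m

/-- transport of the fraction field property to the stalk at a point equal to the generic point -/
theorem isFractionRing_germ {Y : Scheme.{u}} [IsIntegral Y] {U : Y.Opens} (hU : IsAffineOpen U)
    (y : Y) (hy : y = genericPoint Y) (hyU : y ∈ U) :
    @IsFractionRing Γ(Y, U) _ (Y.presheaf.stalk y) _ (Y.presheaf.germ U y hyU).hom.toAlgebra := by
  subst hy
  haveI : Nonempty U := ⟨⟨_, hyU⟩⟩
  exact functionField_isFractionRing_of_isAffineOpen (X := Y) U hU

theorem isField_stalk {Y : Scheme.{u}} [IsIntegral Y] (y : Y) (hy : y = genericPoint Y) :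
    IsField (Y.presheaf.stalk y) := by
  subst hy
  exact Field.toIsField Y.functionField

end Aux

/-- Generic smoothness on the source: let π : X → Y be a dominant morphism of finite type between
integral Noetherian schemes, sending the generic point of X to that of Y, such that the function
field K(Y) (equivalently K(X)) has characteristic zero, and let n be the transcendence degree of
K(X) over K(Y). Then there is a nonempty (equivalently dense) open subscheme U of X on which π
restricts to a smooth morphism U → Y of relative dimension n. -/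
theorem result
    (X Y : Scheme.{u}) [IsIntegral X] [IsIntegral Y] [IsNoetherian X] [IsNoetherian Y]
    (π : X ⟶ Y) [LocallyOfFiniteType π] [QuasiCompact π]
    (hdom : π.base (genericPoint X) = genericPoint Y) [CharZero Y.functionField]
    (n : ℕ) (hn : @Algebra.trdeg (Y.presheaf.stalk (π.base (genericPoint X))) X.functionField _ _
      (π.stalkMap (genericPoint X)).hom.toAlgebra = n) :
    ∃ U : X.Opens, (U : Set X).Nonempty ∧ SmoothOfRelativeDimension n (U.ι ≫ π) := by
  haveI : LocallyOfFinitePresentation π :=
    LocallyOfFinitePresentation.iff_locallyOfFiniteType.mpr inferInstance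
  have hξ : genericPoint X ∈ π.smoothLocus :=
    Groth.Agent.Lib.GenericSmooth45.genericPoint_mem_smoothLocus_of_perfectField π hdom
  rw [Scheme.Hom.mem_smoothLocus] at hξ
  obtain ⟨U, hU, V, hV, hVU, hξV, hsm⟩ := exists_smooth_of_formallySmooth_stalk π _ hξ
  rw [RingHom.smooth_iff_locally_isStandardSmooth,
    RingHom.locally_iff_isLocalization RingHom.isStandardSmooth_respectsIso] at hsm
  obtain ⟨s, hs, hfs⟩ := hsm
  have hs' := iSup_basicOpen_of_span_eq_top V (s : Set Γ(X, V)) hs
  have hx' : genericPoint X ∈ (⨆ i ∈ s, X.basicOpen i) := hs'.symm ▸ hξV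
  obtain ⟨r, hr, hrs⟩ : ∃ r ∈ s, genericPoint X ∈ X.basicOpen r := by simpa using hx'
  haveI : IsLocalization.Away r Γ(X, X.basicOpen r) := hV.isLocalization_basicOpen r
  have e' : X.basicOpen r ≤ π ⁻¹ᵁ U := (X.basicOpen_le r).trans hVU
  have h2 : (π.appLE U (X.basicOpen r) e').hom.IsStandardSmooth := by
    rw [← π.appLE_map hVU (homOfLE (X.basicOpen_le r)).op]
    exact hfs r hr _
  obtain ⟨m, hm⟩ := Groth.Agent.Lib.H87SmoothRank.exists_relDim_of_isStandardSmooth _ h2
  have hV' : IsAffineOpen (X.basicOpen r) := hV.basicOpen r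
  haveI : Nonempty (X.basicOpen r) := ⟨⟨_, hrs⟩⟩
  -- m = n
  have hmn : m = n := by
    have hπξ : π (genericPoint X) ∈ U := e' hrs
    have h3 := toNat_trdeg_eq' (isField_stalk (π (genericPoint X)) hdom)
      (Field.toIsField X.functionField) (π.appLE U (X.basicOpen r) e').hom
      (Y.presheaf.germ U (π (genericPoint X)) hπξ).hom
      (X.presheaf.germ (X.basicOpen r) (genericPoint X) hrs).hom
      (π.stalkMap (genericPoint X)).hom ?_ (isFractionRing_germ hU _ hdom hπξ)
      (functionField_isFractionRing_of_isAffineOpen (X := X) (X.basicOpen r) hV') m hm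
    · rw [hn] at h3
      simpa using h3.symm
    · rw [← CommRingCat.hom_comp, ← CommRingCat.hom_comp, π.germ_stalkMap,
        ← X.presheaf.germ_res (homOfLE e') _ hrs, Scheme.Hom.app_eq_appLE,
        Scheme.Hom.appLE_map_assoc]
  subst hmn
  refine ⟨X.basicOpen r, ⟨_, hrs⟩, ⟨fun x => ?_⟩⟩
  have e'' : (⊤ : (X.basicOpen r).toScheme.Opens) ≤ ((X.basicOpen r).ι ≫ π) ⁻¹ᵁ U := by
    intro z _
    exact e' z.2
  haveI : IsAffine (X.basicOpen r).toScheme := hV'
  refine ⟨U, hU, ⊤, isAffineOpen_top _, trivial, e'', ?_⟩
  have hcomp : ((X.basicOpen r).ι ≫ π).appLE U ⊤ e'' =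
      π.appLE U (X.basicOpen r) e' ≫
        (X.basicOpen r).ι.appLE (X.basicOpen r) ⊤ (X.basicOpen r).ι_preimage_self.ge :=
    (Scheme.Hom.appLE_comp_appLE _ _ _ _ _ _ _).symm
  rw [hcomp]
  exact ((RingHom.isStandardSmoothOfRelativeDimension_respectsIso (n := m)).cancel_right_isIso _ _).mpr hm

end Groth.Agent.S14417
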