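import Groth.Statements.S14418
import Mathlib.RingTheory.Ideal.AssociatedPrime.Finiteness
import Mathlib.RingTheory.Nakayama
import Mathlib.Algebra.Homology.ShortComplex.ModuleCat
import Mathlib.CategoryTheory.Limits.Preserves.Shapes.Zero
import Mathlib.RingTheory.Jacobson.Ideal

set_option autoImplicit false
universe u
open CategoryTheory
open CAlg

namespace Groth.Agent.S14418

section
variable {B A : Type u} [CommRing B] [CommRing A] (T : ModuleCat.{u} B ⥤ ModuleCat.{u} A)

lemma isZero_of_equiv {N N' : Type u} [AddCommGroup N] [Module B N] [AddCommGroup N'] [Module B N']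
    (e : N ≃ₗ[B] N') (h : Limits.IsZero (T.obj (ModuleCat.of B N'))) :
    Limits.IsZero (T.obj (ModuleCat.of B N)) :=
  h.of_iso (T.mapIso e.toModuleIso)

lemma shortExact_of {N₁ N₂ N₃ : Type u} [AddCommGroup N₁] [Module B N₁] [AddCommGroup N₂]
    [Module B N₂] [AddCommGroup N₃] [Module B N₃] (f : N₁ →ₗ[B] N₂) (g : N₂ →ₗ[B] N₃)
    (hf : Function.Injective f) (hg : Function.Surjective g) (hfg : Function.Exact f g) :
    (ShortComplex.mk (ModuleCat.ofHom f) (ModuleCat.ofHom g)
      (by ext x; exact hfg.apply_apply_eq_zero x)).ShortExact := by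
  refine ShortComplex.ShortExact.mk' ?_ ?_ ?_
  · rw [ShortComplex.ShortExact.moduleCat_exact_iff_function_exact]
    exact hfg
  · exact (ModuleCat.mono_iff_injective _).2 hf
  · exact (ModuleCat.epi_iff_surjective _).2 hg

variable [T.Additive]
variable (hex : ∀ S : ShortComplex (ModuleCat.{u} B), S.ShortExact → Module.Finite B S.X₁ →
      Module.Finite B S.X₂ → Module.Finite B S.X₃ → (S.map T).Exact)

include hex in
lemma isZero_of_exact {N₁ N₂ N₃ : Type u} [AddCommGroup N₁] [Module B N₁] [AddCommGroup N₂]
    [Module B N₂] [AddCommGroup N₃] [Module B N₃] [Module.Finite B N₁] [Module.Finite B N₂]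
    [Module.Finite B N₃]
    (f : N₁ →ₗ[B] N₂) (g : N₂ →ₗ[B] N₃)
    (hf : Function.Injective f) (hg : Function.Surjective g) (hfg : Function.Exact f g)
    (h1 : Limits.IsZero (T.obj (ModuleCat.of B N₁))) (h3 : Limits.IsZero (T.obj (ModuleCat.of B N₃))) :
    Limits.IsZero (T.obj (ModuleCat.of B N₂)) := by
  have ex := hex _ (shortExact_of f g hf hg hfg) (inferInstanceAs (Module.Finite B N₁))
    (inferInstanceAs (Module.Finite B N₂)) (inferInstanceAs (Module.Finite B N₃))
  exact ex.isZero_of_both_zeros (h1.eq_of_src _ _) (h3.eq_of_tgt _ _)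

include hex in
lemma key [IsNoetherianRing B] (J : Ideal B)
    (hJ : ∀ q : PrimeSpectrum B, J ≤ q.asIdeal →
      Limits.IsZero (T.obj (ModuleCat.of B (B ⧸ q.asIdeal))))
    (N : Type u) [AddCommGroup N] [Module B N] (hN : Module.Finite B N) :
    (∀ a ∈ J, ∀ n : N, a • n = 0) → Limits.IsZero (T.obj (ModuleCat.of B N)) := by
  induction hN using IsNoetherianRing.induction_on_isQuotientEquivQuotientPrime B with
  | subsingleton N =>
    intro _
    exact T.map_isZero (ModuleCat.isZero_of_subsingleton _)
  | quotient N p f =>
    intro h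
    refine isZero_of_equiv T f (hJ p ?_)
    intro a ha
    have h1 : a • f.symm (1 : B ⧸ p.asIdeal) = 0 := h a ha _
    have h2 : a • (1 : B ⧸ p.asIdeal) = 0 := by
      have := congrArg f h1
      rwa [map_smul, LinearEquiv.apply_symm_apply, map_zero] at this
    rw [Algebra.smul_def, mul_one] at h2
    exact Ideal.Quotient.eq_zero_iff_mem.1 h2
  | exact N₁ N₂ N₃ f g hf hg hfg h₁ h₃ =>
    intro h
    refine isZero_of_exact T hex f g hf hg hfg (h₁ fun a ha n => hf ?_) (h₃ fun a ha n => ?_)
    · rw [map_smul, h a ha, map_zero]
    · obtain ⟨m, rfl⟩ := hg n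
      rw [← map_smul, h a ha, map_zero]

end

/-- Let B → A be a local homomorphism of Noetherian local rings, n the maximal ideal of B, and T an
additive functor from B-modules to A-modules which is B-linear (T applied to multiplication by b ∈ B
is multiplication by the image of b in A), carries finitely generated B-modules to finitely
generated A-modules, and is half-exact on finitely generated modules (every short exact sequence of
finitely generated B-modules goes to a sequence exact at its middle term). If T(B/n) = 0 then T(N) =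
0 for every finitely generated B-module N. (The published statement takes T defined on finitely
generated modules only; here T is defined on all B-modules while every hypothesis and the conclusion
concern finitely generated modules.) -/
theorem result {B A : Type u} [CommRing B] [CommRing A]
    [IsNoetherianRing B] [IsLocalRing B] [IsNoetherianRing A] [IsLocalRing A] [Algebra B A]
    [IsLocalHom (algebraMap B A)] (T : ModuleCat.{u} B ⥤ ModuleCat.{u} A) [T.Additive]
    (hlin : ∀ (N : ModuleCat.{u} B) (b : B),
      T.map (ModuleCat.ofHom (b • (LinearMap.id : N →ₗ[B] N))) =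
        ModuleCat.ofHom (algebraMap B A b • (LinearMap.id : T.obj N →ₗ[A] T.obj N)))
    (hfin : ∀ N : ModuleCat.{u} B, Module.Finite B N → Module.Finite A (T.obj N))
    (hex : ∀ S : ShortComplex (ModuleCat.{u} B), S.ShortExact → Module.Finite B S.X₁ →
      Module.Finite B S.X₂ → Module.Finite B S.X₃ → (S.map T).Exact)
    (h0 : Limits.IsZero (T.obj (ModuleCat.of B (B ⧸ IsLocalRing.maximalIdeal B))))
    (N : ModuleCat.{u} B) [Module.Finite B N] : Limits.IsZero (T.obj N) := by
  have primes : ∀ I : Ideal B, I.IsPrime → Limits.IsZero (T.obj (ModuleCat.of B (B ⧸ I))) := by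
    intro I
    induction I using WellFoundedGT.induction with
    | ind p ih =>
    intro hp
    by_cases hmax : p.IsMaximal
    · rw [IsLocalRing.eq_maximalIdeal hmax]
      exact h0
    let Mp : ModuleCat.{u} B := ModuleCat.of B (B ⧸ p)
    have hfinT : Module.Finite A (T.obj Mp) := hfin Mp (inferInstanceAs (Module.Finite B (B ⧸ p)))
    have hpm : p ≤ IsLocalRing.maximalIdeal B := IsLocalRing.le_maximalIdeal hp.ne_top
    obtain ⟨x, hxm, hxp⟩ : ∃ x ∈ IsLocalRing.maximalIdeal B, x ∉ p := by
      by_contra hcon
      push Not at hcon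
      have : p = IsLocalRing.maximalIdeal B := le_antisymm hpm hcon
      exact hmax (this ▸ IsLocalRing.maximalIdeal.isMaximal B)
    -- `x` acts surjectively on `T (B/p)`
    have hsurj : Function.Surjective (fun n : T.obj Mp => algebraMap B A x • n) := by
      let fx : (B ⧸ p) →ₗ[B] (B ⧸ p) := LinearMap.lsmul B (B ⧸ p) x
      have hinj : Function.Injective fx := by
        rw [← LinearMap.ker_eq_bot, LinearMap.ker_eq_bot']
        intro m hm
        change x • m = 0 at hm
        rw [Algebra.smul_def] at hm
        rcases mul_eq_zero.1 hm with h | h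
        · exact absurd (Ideal.Quotient.eq_zero_iff_mem.1 h) hxp
        · exact h
      let g := (LinearMap.range fx).mkQ
      have hQ : Limits.IsZero (T.obj (ModuleCat.of B ((B ⧸ p) ⧸ LinearMap.range fx))) := by
        refine key T hex (p ⊔ Ideal.span {x}) ?_ _ inferInstance ?_
        · intro q hq
          refine ih q.asIdeal (lt_of_le_of_ne (le_sup_left.trans hq) ?_) q.isPrime
          intro h
          apply hxp
          rw [h]
          exact hq (Ideal.mem_sup_right (Ideal.subset_span rfl))
        · intro a ha n
          obtain ⟨m, rfl⟩ := Submodule.mkQ_surjective _ n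
          rw [← map_smul, Submodule.mkQ_apply, Submodule.Quotient.mk_eq_zero]
          obtain ⟨a1, ha1, a2, ha2, rfl⟩ := Submodule.mem_sup.1 ha
          obtain ⟨b, rfl⟩ := Ideal.mem_span_singleton'.1 ha2
          have : a1 • m = 0 := by
            rw [Algebra.smul_def]
            change Ideal.Quotient.mk p a1 * _ = 0
            rw [Ideal.Quotient.eq_zero_iff_mem.2 ha1, zero_mul]
          rw [add_smul, this, zero_add]
          refine ⟨b • m, ?_⟩
          change x • b • m = (b * x) • m
          rw [smul_smul, mul_comm]
      have ex := hex _ (shortExact_of fx g hinj (Submodule.mkQ_surjective _)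
        (LinearMap.exact_map_mkQ_range fx)) (inferInstanceAs (Module.Finite B (B ⧸ p)))
        (inferInstanceAs (Module.Finite B (B ⧸ p)))
        (inferInstanceAs (Module.Finite B ((B ⧸ p) ⧸ LinearMap.range fx)))
      have hepi : Epi (T.map (ModuleCat.ofHom fx)) := ex.epi_f (hQ.eq_of_tgt _ _)
      have h1 : ModuleCat.ofHom fx = ModuleCat.ofHom (x • (LinearMap.id : Mp →ₗ[B] Mp)) := by
        apply ModuleCat.hom_ext
        apply LinearMap.ext
        intro m
        rfl
      rw [h1, hlin Mp x] at hepi
      have := (ModuleCat.epi_iff_surjective _).1 hepi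
      intro n
      obtain ⟨n', hn'⟩ := this n
      exact ⟨n', by simpa using hn'⟩
    -- Nakayama over the local ring `A`
    have hxA : algebraMap B A x ∈ IsLocalRing.maximalIdeal A := by
      rw [IsLocalRing.mem_maximalIdeal, mem_nonunits_iff]
      intro hu
      exact (IsLocalRing.mem_maximalIdeal x).1 hxm (isUnit_of_map_unit (algebraMap B A) x hu)
    have hle' : (⊤ : Submodule A (T.obj Mp)) ≤ IsLocalRing.maximalIdeal A • ⊤ := by
      intro n _
      obtain ⟨n', rfl⟩ := hsurj n
      exact Submodule.smul_mem_smul hxA Submodule.mem_top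
    have htop : (⊤ : Submodule A (T.obj Mp)) = ⊥ :=
      Submodule.eq_bot_of_le_smul_of_le_jacobson_bot (IsLocalRing.maximalIdeal A) ⊤
        (Module.finite_def.1 hfinT) hle'
        (by rw [IsLocalRing.jacobson_eq_maximalIdeal ⊥ bot_ne_top])
    refine @ModuleCat.isZero_of_subsingleton _ _ _ ?_
    exact (Submodule.subsingleton_iff A).1 (subsingleton_of_bot_eq_top htop.symm)
  exact key T hex ⊥ (fun q _ => primes q.asIdeal q.isPrime) N inferInstance (by
    intro a ha n
    rw [Ideal.mem_bot.1 ha, zero_smul])

end Groth.Agent.S14418
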