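import Groth.Statements.S14419
import Groth.Agent.Lib.InvRank21
import Groth.Agent.Lib.InvPush21
import Groth.Agent.Lib.H0Const13

set_option autoImplicit false
universe u
open CategoryTheory CategoryTheory.Limits AlgebraicGeometry
open PicF

namespace Groth.Agent.S14419

/-- Let π : X → Y be a proper flat morphism between locally Noetherian schemes, all of whose fibres are
nonempty, geometrically connected and geometrically reduced, with Y reduced, and let L be an
invertible O_X-module whose restriction to every fibre X_y (y any point of Y) is trivial. Then π_*L
is an invertible O_Y-module and the natural map π^*π_*L → L (the counit of the adjunction between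
pullback and pushforward) is an isomorphism. (The published statement allows empty fibres, where it
fails (X empty, Y a point: the direct image is zero); this row requires every fibre nonempty, i.e. π
surjective.) -/
theorem result {X Y : Scheme.{u}} (f : X ⟶ Y)
    [IsLocallyNoetherian X] [IsLocallyNoetherian Y] [IsReduced Y] [Flat f] [IsProper f]
    [GeometricallyConnected f] [GeometricallyReduced f]
    (L : X.Modules) (hL : PicF.IsInvertible L)
    (htriv : ∀ y : Y, Nonempty ((Scheme.Modules.pullback (f.fiberι y)).obj L ≅ Coh.structureModule (f.fiber y))) :
    PicF.IsInvertible ((Scheme.Modules.pushforward f).obj L) ∧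
      IsIso ((Scheme.Modules.pullbackPushforwardAdjunction f).counit.app L) := by
  have h0 : ∀ y : Y, Module.finrank (Y.residueField y) Γ(f.fiber y, ⊤) = 1 := fun y => by
    have : IsProper (f.fiberToSpecResidueField y) :=
      inferInstanceAs (IsProper (pullback.snd f (Y.fromSpecResidueField y)))
    exact Groth.Agent.Lib.H0Const13.finrank_appTop_eq_one (Y.residueField y)
      (f.fiberToSpecResidueField y)
  have key := Groth.Agent.Lib.InvRank21.exists_nhd_gen_of_rank f h0 L hL htriv
  exact ⟨Groth.Agent.Lib.InvPush21.isInvertible_pushforward f L key,
    Groth.Agent.Lib.InvPush21.isIso_counit f L key⟩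

end Groth.Agent.S14419
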