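import Groth.Statements.S1442
import Mathlib.RingTheory.QuasiFinite.Basic
import Mathlib.RingTheory.IntegralClosure.IsIntegralClosure.Basic

set_option autoImplicit false
universe u
open FlatMor

namespace Groth.Agent.S1442

open AlgebraicGeometry CategoryTheory Limits

/-- Prime avoidance over an integral fibre: if `φ : B₀ → C₀` is integral, `p` a prime of `B₀`,
`ρ : R → C₀` a ring map and `J` an ideal of `R` generating the unit ideal of `C₀`, then some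
element of `J` avoids every prime of `C₀` lying over `p`. -/
theorem exists_mem_forall_notMem_of_isIntegral {B₀ C₀ R : Type u} [CommRing B₀] [CommRing C₀]
    [CommRing R] (φ : B₀ →+* C₀) (hφ : φ.IsIntegral) (p : PrimeSpectrum B₀) (ρ : R →+* C₀)
    (J : Ideal R) (hJ : Ideal.map ρ J = ⊤) :
    ∃ a ∈ J, ∀ q : PrimeSpectrum C₀, PrimeSpectrum.comap φ q = p → ρ a ∉ q.asIdeal := by
  classical
  algebraize [φ]
  -- write `1` as a finite combination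
  have h1 : (1 : C₀) ∈ Ideal.span (ρ '' (J : Set R)) := by
    have : Ideal.map ρ J = Ideal.span (ρ '' (J : Set R)) := rfl
    rw [← this, hJ]; trivial
  obtain ⟨f, t, htJ, -, ht1⟩ := Submodule.mem_span_iff_exists_finset_subset.mp h1
  -- the finite subalgebra
  let gens : Set C₀ := (t : Set C₀) ∪ f '' (t : Set C₀)
  have hgens : gens.Finite := (Finset.finite_toSet t).union ((Finset.finite_toSet t).image f)
  let Cl : Subalgebra B₀ C₀ := Algebra.adjoin B₀ gens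
  have hint : Algebra.IsIntegral B₀ C₀ := ⟨hφ⟩
  have hfin : Module.Finite B₀ Cl :=
    Module.Finite.of_fg (fg_adjoin_of_finite hgens fun x _ => hint.isIntegral x)
  have htCl : ∀ c ∈ t, c ∈ Cl := fun c hc => Algebra.subset_adjoin (Or.inl hc)
  have hfCl : ∀ c ∈ t, f c ∈ Cl := fun c hc => Algebra.subset_adjoin (Or.inr ⟨c, hc, rfl⟩)
  -- the subring of `R` mapping into the finite subalgebra
  let S : Subring R := Cl.toSubring.comap ρ
  let ρS : S →+* Cl := ρ.restrict S Cl.toSubring (fun x hx => hx)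
  let JS : Ideal S := J.comap S.subtype
  have hFfin : (PrimeSpectrum.comap (algebraMap B₀ Cl) ⁻¹' {p}).Finite :=
    Algebra.QuasiFinite.finite_comap_preimage_singleton p
  let fI : PrimeSpectrum Cl → Ideal S := fun P => P.asIdeal.comap ρS
  have hprime : ∀ P : PrimeSpectrum Cl, (fI P).IsPrime := fun P => Ideal.comap_isPrime ρS P.asIdeal
  have hnot : ¬ ((JS : Set S) ⊆ ⋃ P ∈ (hFfin.toFinset : Set (PrimeSpectrum Cl)), fI P) := by
    intro hsub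
    have h0 : (0 : S) ∈ ⋃ P ∈ (hFfin.toFinset : Set (PrimeSpectrum Cl)), fI P := hsub JS.zero_mem
    simp only [Set.mem_iUnion] at h0
    obtain ⟨P₀, -, -⟩ := h0
    obtain ⟨P, -, hP⟩ := (Ideal.subset_union_prime (s := hFfin.toFinset) (f := fI) P₀ P₀
      (fun P _ _ _ => hprime P)).mp hsub
    -- every generator `c ∈ t` lies in `P`
    have hc : ∀ c (hc : c ∈ t), (⟨c, htCl c hc⟩ : Cl) ∈ P.asIdeal := by
      intro c hc
      obtain ⟨a, haJ, rfl⟩ := htJ hc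
      have haS : a ∈ S := htCl _ hc
      exact hP (show (⟨a, haS⟩ : S) ∈ JS from haJ)
    let g : C₀ → Cl := fun c => if h : c ∈ t then ⟨f c, hfCl c h⟩ * ⟨c, htCl c h⟩ else 0
    have hg : ∑ c ∈ t, g c ∈ P.asIdeal := by
      refine Ideal.sum_mem _ fun c hct => ?_
      simp only [g, dif_pos hct]
      exact Ideal.mul_mem_left _ _ (hc c hct)
    have hg1 : ∑ c ∈ t, g c = 1 := by
      apply Subtype.ext
      rw [AddSubmonoidClass.coe_finsetSum, OneMemClass.coe_one, ← ht1]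
      refine Finset.sum_congr rfl fun c hct => ?_
      simp only [g, dif_pos hct]
      rfl
    rw [hg1] at hg
    exact P.isPrime.ne_top ((Ideal.eq_top_iff_one _).mpr hg)
  obtain ⟨a, haJS, ha⟩ := Set.not_subset.mp hnot
  refine ⟨a.1, haJS, fun q hq hmem => ha ?_⟩
  let P : PrimeSpectrum Cl := PrimeSpectrum.comap Cl.val.toRingHom q
  have hPF : P ∈ (hFfin.toFinset : Set (PrimeSpectrum Cl)) := by
    simp only [Set.Finite.coe_toFinset, Set.mem_preimage, Set.mem_singleton_iff]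
    rw [← hq]
    rfl
  simp only [Set.mem_iUnion]
  exact ⟨P, hPF, hmem⟩

/-- A point of an affine open lies in a basic open iff the section is not in its prime ideal. -/
theorem mem_basicOpen_iff_notMem_primeIdealOf {X : Scheme.{u}} {U : X.Opens} (hU : IsAffineOpen U)
    (x : U) (f : Γ(X, U)) : (x : X) ∈ X.basicOpen f ↔ f ∉ (hU.primeIdealOf x).asIdeal := by
  rw [Scheme.mem_basicOpen _ _ _ x.2, hU.primeIdealOf_eq_map_closedPoint]
  change _ ↔ ¬ (X.presheaf.germ U x x.2 f ∈ IsLocalRing.maximalIdeal _)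
  rw [IsLocalRing.mem_maximalIdeal, mem_nonunits_iff, not_not]

/-- The ideal of sections on `W` whose basic open lies in a given open `W'`. -/
def idealLE {Z : Scheme.{u}} (W W' : Z.Opens) : Ideal Γ(Z, W) where
  carrier := {a | Z.basicOpen a ≤ W'}
  zero_mem' := by simp
  add_mem' {a b} ha hb := (Z.basicOpen_add_le a b).trans (sup_le ha hb)
  smul_mem' c a ha := by
    show Z.basicOpen (c * a) ≤ W'
    rw [Scheme.basicOpen_mul]
    exact inf_le_right.trans ha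

theorem exists_basicOpen_between {Z Y : Scheme.{u}} (j : Z ⟶ Y) [IsIntegralHom j]
    (V₀ : Y.Opens) (hV₀ : IsAffineOpen V₀) (y : Y) (hy : y ∈ V₀)
    (W : Z.Opens) (hW : IsAffineOpen W) (hle : j ⁻¹ᵁ V₀ ≤ W) :
    ∃ a : Γ(Z, W), j ⁻¹' {y} ⊆ (Z.basicOpen a : Set Z) ∧ Z.basicOpen a ≤ j ⁻¹ᵁ V₀ := by
  have hW' : IsAffineOpen (j ⁻¹ᵁ V₀) := hV₀.preimage j
  let ρ : Γ(Z, W) →+* Γ(Z, j ⁻¹ᵁ V₀) := (Z.presheaf.map (homOfLE hle).op).hom
  let φ : Γ(Y, V₀) →+* Γ(Z, j ⁻¹ᵁ V₀) := (j.app V₀).hom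
  have hφ : φ.IsIntegral := IsIntegralHom.isIntegral_app j V₀ hV₀
  let J : Ideal Γ(Z, W) := idealLE W (j ⁻¹ᵁ V₀)
  have hJ : Ideal.map ρ J = ⊤ := by
    have : Ideal.map ρ J = Ideal.span (ρ '' (J : Set Γ(Z, W))) := rfl
    rw [this, ← hW'.iSup_basicOpen_eq_self_iff]
    apply le_antisymm
    · exact iSup_le fun f => Z.basicOpen_le _
    · intro z hz
      obtain ⟨a, ha1, ha2⟩ := hW.exists_basicOpen_le ⟨z, hz⟩ (hle hz)
      have hmem : ρ a ∈ ρ '' (J : Set Γ(Z, W)) := ⟨a, ha1, rfl⟩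
      refine TopologicalSpace.Opens.mem_iSup.mpr ⟨⟨ρ a, hmem⟩, ?_⟩
      show z ∈ Z.basicOpen (Z.presheaf.map (homOfLE hle).op a)
      rw [Scheme.basicOpen_res]
      exact ⟨hz, ha2⟩
  obtain ⟨a, haJ, ha⟩ := exists_mem_forall_notMem_of_isIntegral φ hφ
    (hV₀.primeIdealOf ⟨y, hy⟩) ρ J hJ
  refine ⟨a, ?_, haJ⟩
  intro z hz
  have hzy : j z = y := hz
  have hzW' : z ∈ j ⁻¹ᵁ V₀ := by
    show j z ∈ V₀
    rw [hzy]; exact hy
  have hcomap := IsAffineOpen.comap_primeIdealOf_appLE (f := j) V₀ hV₀ (j ⁻¹ᵁ V₀) hW' le_rfl hzW'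
  have happ : j.appLE V₀ (j ⁻¹ᵁ V₀) le_rfl = j.app V₀ := by simp [Scheme.Hom.appLE]
  have h2 : ρ a ∉ (hW'.primeIdealOf ⟨z, hzW'⟩).asIdeal := by
    apply ha
    rw [happ] at hcomap
    rw [hcomap]
    congr 1
    exact Subtype.ext hzy
  have h3 := (mem_basicOpen_iff_notMem_primeIdealOf hW' ⟨z, hzW'⟩ (ρ a)).mpr h2
  have h4 : Z.basicOpen (ρ a) = j ⁻¹ᵁ V₀ ⊓ Z.basicOpen a := Scheme.basicOpen_res _ _ _
  rw [h4] at h3
  exact h3.2

theorem exists_open_preimage_le {Z Y : Scheme.{u}} (j : Z ⟶ Y) [IsIntegralHom j] (y : Y)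
    (W : Z.Opens) (hW : j ⁻¹' {y} ⊆ (W : Set Z)) :
    ∃ O : Y.Opens, y ∈ O ∧ j ⁻¹ᵁ O ≤ W := by
  have hcl : IsClosedMap j := j.isClosedMap
  refine ⟨⟨(j '' (W : Set Z)ᶜ)ᶜ, (hcl _ W.isOpen.isClosed_compl).isOpen_compl⟩, ?_, ?_⟩
  · rintro ⟨z, hz, hzy⟩
    exact hz (hW hzy)
  · intro z hz
    by_contra hzW
    exact hz ⟨z, hzW, rfl⟩

open AlgebraicGeometry CategoryTheory Limits in
/-- Let i : Z → X be a closed immersion and j : Z → Y an integral morphism such that for each point y of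
Y the fibre of j over y is contained in the preimage of some affine open of X. Then for each y there
are affine opens U of X and V of Y with y ∈ V and with the same preimage in Z. -/
theorem result {X Y Z : Scheme.{u}} (i : Z ⟶ X) [IsClosedImmersion i] (j : Z ⟶ Y) [IsIntegralHom j]
    (h : ∀ y : Y, ∃ U : X.Opens, IsAffineOpen U ∧ j ⁻¹' {y} ⊆ (i ⁻¹ᵁ U : Set ↑Z)) (y : Y) :
    ∃ (U : X.Opens) (V : Y.Opens), IsAffineOpen U ∧ IsAffineOpen V ∧ y ∈ V ∧ i ⁻¹ᵁ U = j ⁻¹ᵁ V := by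
  obtain ⟨U₀, hU₀, hfib⟩ := h y
  obtain ⟨O₁, hyO₁, hO₁⟩ := exists_open_preimage_le j y (i ⁻¹ᵁ U₀) hfib
  have key : ∃ V₀ : Y.Opens, IsAffineOpen V₀ ∧ y ∈ V₀ ∧ V₀ ≤ O₁ := by
    obtain ⟨_, ⟨V₀, hV₀, rfl⟩, hyV₀, hV₀O⟩ :=
      Y.isBasis_affineOpens.exists_subset_of_mem_open hyO₁ O₁.isOpen
    exact ⟨V₀, hV₀, hyV₀, hV₀O⟩
  obtain ⟨V₀, hV₀, hyV₀, hV₀O⟩ := key
  have hle₀ : j ⁻¹ᵁ V₀ ≤ i ⁻¹ᵁ U₀ := fun z hz => hO₁ (hV₀O hz)
  obtain ⟨a, ha1, ha2⟩ := exists_basicOpen_between j V₀ hV₀ y hyV₀ (i ⁻¹ᵁ U₀) (hU₀.preimage i) hle₀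
  obtain ⟨f, hf⟩ := i.app_surjective U₀ hU₀ a
  have hU₁ : IsAffineOpen (X.basicOpen f) := hU₀.basicOpen f
  have hpre₁ : i ⁻¹ᵁ (X.basicOpen f) = Z.basicOpen a := by
    rw [Scheme.preimage_basicOpen, hf]
  have hfib₁ : j ⁻¹' {y} ⊆ (i ⁻¹ᵁ (X.basicOpen f) : Set Z) := by rw [hpre₁]; exact ha1
  have e : i ⁻¹ᵁ (X.basicOpen f) ≤ j ⁻¹ᵁ V₀ := by rw [hpre₁]; exact ha2
  obtain ⟨O₂, hyO₂, hO₂⟩ := exists_open_preimage_le j y (i ⁻¹ᵁ (X.basicOpen f)) hfib₁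
  obtain ⟨g, hg1, hg2⟩ := hV₀.exists_basicOpen_le ⟨y, hyO₂⟩ hyV₀
  have hV₁ : IsAffineOpen (Y.basicOpen g) := hV₀.basicOpen g
  have hle₁ : j ⁻¹ᵁ (Y.basicOpen g) ≤ i ⁻¹ᵁ (X.basicOpen f) := fun z hz => hO₂ (hg1 hz)
  let g' : Γ(Z, i ⁻¹ᵁ (X.basicOpen f)) := j.appLE V₀ (i ⁻¹ᵁ (X.basicOpen f)) e g
  have hg' : Z.basicOpen g' = j ⁻¹ᵁ (Y.basicOpen g) := by
    rw [Scheme.basicOpen_appLE]
    exact inf_eq_right.mpr hle₁
  obtain ⟨f', hf'⟩ := i.app_surjective (X.basicOpen f) hU₁ g'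
  refine ⟨X.basicOpen f', Y.basicOpen g, hU₁.basicOpen f', hV₁, hg2, ?_⟩
  rw [Scheme.preimage_basicOpen, hf', hg']

end Groth.Agent.S1442
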