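import Groth.Statements.S14421
import Mathlib.CategoryTheory.Abelian.Refinements

set_option autoImplicit false
universe u v
open CategoryTheory
open HomAlg

namespace Groth.Agent.S14421

/-- Let φ : K → J be a morphism of cochain complexes of modules over a ring which is surjective in
degree p − 1. Then the map induced on cohomology in degree p is surjective if and only if the map
induced on cocycles in degree p is surjective. (Stated for cochain complexes indexed by the
integers; the published statement is for three-term complexes in degrees p − 1, p, p + 1, which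
embed as such complexes.) -/
theorem result {R : Type u} [Ring R]
    (K J : CochainComplex (ModuleCat.{v} R) ℤ) (φ : K ⟶ J) (p : ℤ) [Epi (φ.f (p - 1))] :
    Epi (HomologicalComplex.homologyMap φ p) ↔ Epi (HomologicalComplex.cyclesMap φ p) := by
  have hnat : K.toCycles (p - 1) p ≫ HomologicalComplex.cyclesMap φ p =
      φ.f (p - 1) ≫ J.toCycles (p - 1) p := by
    rw [← cancel_mono (J.iCycles p)]
    simp
  constructor
  · intro hH
    rw [epi_iff_surjective_up_to_refinements]
    intro A z
    obtain ⟨A₁, π₁, _, h, h₁⟩ :=
      surjective_up_to_refinements_of_epi (HomologicalComplex.homologyMap φ p) (z ≫ J.homologyπ p)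
    obtain ⟨A₂, π₂, _, w, h₂⟩ := surjective_up_to_refinements_of_epi (K.homologyπ p) h
    have hex : (ShortComplex.mk (J.toCycles (p - 1) p) (J.homologyπ p)
        (J.toCycles_comp_homologyπ (p - 1) p)).Exact :=
      ShortComplex.exact_of_g_is_cokernel _ (J.homologyIsCokernel (p - 1) p (by simp))
    have h₄ : (π₂ ≫ π₁ ≫ z - w ≫ HomologicalComplex.cyclesMap φ p) ≫ J.homologyπ p = 0 := by
      rw [Preadditive.sub_comp, Category.assoc, Category.assoc, Category.assoc, h₁,
        ← HomologicalComplex.homologyπ_naturality, ← Category.assoc w, ← h₂, Category.assoc,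
        sub_self]
    obtain ⟨A₃, π₃, _, b, h₅⟩ := hex.exact_up_to_refinements _ h₄
    dsimp at b h₅
    obtain ⟨A₄, π₄, _, b', h₆⟩ := surjective_up_to_refinements_of_epi (φ.f (p - 1)) b
    refine ⟨A₄, π₄ ≫ π₃ ≫ π₂ ≫ π₁, inferInstance, π₄ ≫ π₃ ≫ w + b' ≫ K.toCycles (p - 1) p, ?_⟩
    have e1 : (b' ≫ K.toCycles (p - 1) p) ≫ HomologicalComplex.cyclesMap φ p =
        π₄ ≫ π₃ ≫ (π₂ ≫ π₁ ≫ z - w ≫ HomologicalComplex.cyclesMap φ p) := by
      rw [Category.assoc, hnat, ← Category.assoc, ← h₆, Category.assoc, ← h₅]
    rw [Preadditive.add_comp, e1, Preadditive.comp_sub, Preadditive.comp_sub]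
    simp only [Category.assoc]
    abel
  · intro hZ
    have : Epi (K.homologyπ p ≫ HomologicalComplex.homologyMap φ p) := by
      rw [HomologicalComplex.homologyπ_naturality]
      infer_instance
    exact epi_of_epi (K.homologyπ p) _

end Groth.Agent.S14421
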