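import Groth.Statements.S14423
import Mathlib
import Groth.Agent.Lib.H2GrNak

set_option autoImplicit false
universe u
open CategoryTheory
open CAlg

namespace Groth.Agent.S14423

open Groth.Agent.Lib.H2GrNak MvPolynomial TensorProduct

theorem result' (k : Type u) [Field k] (n : ℕ)
    (M : Type u) [AddCommGroup M] [Module (MvPolynomial (Fin (n + 1)) k) M]
    [Module.Finite (MvPolynomial (Fin (n + 1)) k) M]
    (ℳ : ℕ → AddSubgroup M)
    [SetLike.GradedSMul (MvPolynomial.homogeneousSubmodule (Fin (n + 1)) k) ℳ]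
    [DirectSum.Decomposition ℳ]
    (h : Limits.IsZero (((Tor (ModuleCat.{u} (MvPolynomial (Fin (n + 1)) k)) 1).obj
      (ModuleCat.of (MvPolynomial (Fin (n + 1)) k) M)).obj
      (ModuleCat.of (MvPolynomial (Fin (n + 1)) k)
        (MvPolynomial (Fin (n + 1)) k ⧸
          RingHom.ker (MvPolynomial.constantCoeff : MvPolynomial (Fin (n + 1)) k →+* k))))) :
    ∃ (ι : Type u) (b : Module.Basis ι (MvPolynomial (Fin (n + 1)) k) M),
      ∀ i, SetLike.IsHomogeneousElem ℳ (b i) := by
  classical
  set I : Ideal (MvPolynomial (Fin (n + 1)) k) :=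
    RingHom.ker (MvPolynomial.constantCoeff : (MvPolynomial (Fin (n + 1)) k) →+* k) with hI
  have hex := exists_fin_homogeneous_span_eq_top (k := k) (σ := Fin (n + 1)) ℳ
  obtain ⟨s, ⟨m, hm, hspan⟩, hmin⟩ : ∃ s, (∃ m : Fin s → M,
      (∀ i, SetLike.IsHomogeneousElem ℳ (m i)) ∧
        Submodule.span (MvPolynomial (Fin (n + 1)) k) (Set.range m) = ⊤) ∧
      ∀ s' < s, ¬ ∃ m' : Fin s' → M,
      (∀ i, SetLike.IsHomogeneousElem ℳ (m' i)) ∧
        Submodule.span (MvPolynomial (Fin (n + 1)) k) (Set.range m') = ⊤ :=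
    ⟨Nat.find hex, Nat.find_spec hex, fun s' hs' => Nat.find_min hex hs'⟩
  let π : (Fin s → (MvPolynomial (Fin (n + 1)) k)) →ₗ[(MvPolynomial (Fin (n + 1)) k)] M :=
    Fintype.linearCombination (MvPolynomial (Fin (n + 1)) k) m
  have hπ : ∀ x, π x = ∑ i, x i • m i :=
    fun x => Fintype.linearCombination_apply (MvPolynomial (Fin (n + 1)) k) m x
  have hsurj : Function.Surjective π := by
    rw [← LinearMap.range_eq_top, Fintype.range_linearCombination, hspan]
  have hK : ∀ x ∈ LinearMap.ker π, ∀ i, x i ∈ I := by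
    intro x hx i
    rw [hI, RingHom.mem_ker]
    exact constantCoeff_eq_zero_of_min ℳ s m hm hspan hmin x (by rw [← hπ]; exact hx) i
  have hinj := rTensor_injective_of_tor_zero π hsurj ((MvPolynomial (Fin (n + 1)) k) ⧸ I) h
  -- Step E
  have hE : ∀ x : LinearMap.ker π,
      x ∈ (I • ⊤ : Submodule (MvPolynomial (Fin (n + 1)) k) (LinearMap.ker π)) := by
    intro x
    have h1 : (x : Fin s → (MvPolynomial (Fin (n + 1)) k)) ⊗ₜ[(MvPolynomial (Fin (n + 1)) k)]
        (1 : (MvPolynomial (Fin (n + 1)) k) ⧸ I) = 0 := by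
      have e1 : (x : Fin s → (MvPolynomial (Fin (n + 1)) k)) =
          ∑ i, (x : Fin s → (MvPolynomial (Fin (n + 1)) k)) i •
            (Pi.single i (1 : (MvPolynomial (Fin (n + 1)) k)) :
              Fin s → (MvPolynomial (Fin (n + 1)) k)) := by
        ext j; simp [Finset.sum_apply, Pi.single_apply]
      rw [e1, TensorProduct.sum_tmul]
      apply Finset.sum_eq_zero
      intro i _
      rw [TensorProduct.smul_tmul]
      have : ((x : Fin s → (MvPolynomial (Fin (n + 1)) k)) i •
          (1 : (MvPolynomial (Fin (n + 1)) k) ⧸ I)) = 0 := by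
        rw [Algebra.smul_def, mul_one]
        exact Ideal.Quotient.eq_zero_iff_mem.mpr (hK x x.2 i)
      rw [this, TensorProduct.tmul_zero]
    have h2 : x ⊗ₜ[(MvPolynomial (Fin (n + 1)) k)]
        (1 : (MvPolynomial (Fin (n + 1)) k) ⧸ I) = 0 := by
      apply hinj
      rw [map_zero, LinearMap.rTensor_tmul]
      exact h1
    have h3 := congrArg (TensorProduct.tensorQuotEquivQuotSMul (LinearMap.ker π) I) h2
    rw [map_zero, ← map_one (Ideal.Quotient.mk I), TensorProduct.tensorQuotEquivQuotSMul_tmul_mk,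
      one_smul, Submodule.Quotient.mk_eq_zero] at h3
    exact h3
  -- Step F
  have hF : ∀ j : ℕ, ∀ x ∈ LinearMap.ker π, ∀ i, x i ∈ I ^ j := by
    intro j
    induction j with
    | zero => intro x _ i; simp
    | succ j ih =>
      intro x hx i
      have key : ∀ y : LinearMap.ker π,
          y ∈ (I • ⊤ : Submodule (MvPolynomial (Fin (n + 1)) k) (LinearMap.ker π)) →
          ∀ i, (y : Fin s → (MvPolynomial (Fin (n + 1)) k)) i ∈ I ^ (j + 1) := by
        intro y hy
        refine Submodule.smul_induction_on hy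
          (p := fun (y : LinearMap.ker π) => ∀ i, (y : Fin s → (MvPolynomial (Fin (n + 1)) k)) i ∈ I ^ (j + 1)) ?_ ?_
        · intro r hr z _ i
          rw [Submodule.coe_smul, Pi.smul_apply, smul_eq_mul, pow_succ']
          exact Ideal.mul_mem_mul hr (ih z z.2 i)
        · intro y z hy hz i
          rw [Submodule.coe_add, Pi.add_apply]
          exact Ideal.add_mem _ (hy i) (hz i)
      exact key ⟨x, hx⟩ (hE _) i
  have hIne : I ≠ ⊤ := RingHom.ker_ne_top _
  have hbot : LinearMap.ker π = ⊥ := by
    rw [eq_bot_iff]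
    intro x hx
    rw [Submodule.mem_bot]
    funext i
    have : x i ∈ (⨅ j, I ^ j : Ideal (MvPolynomial (Fin (n + 1)) k)) := by
      rw [Ideal.mem_iInf]
      exact fun j => hF j x hx i
    rw [Ideal.iInf_pow_eq_bot_of_isDomain I hIne] at this
    exact this
  have hinjπ : Function.Injective π := LinearMap.ker_eq_bot.mp hbot
  let e : (Fin s → (MvPolynomial (Fin (n + 1)) k)) ≃ₗ[(MvPolynomial (Fin (n + 1)) k)] M :=
    LinearEquiv.ofBijective π ⟨hinjπ, hsurj⟩
  refine ⟨ULift (Fin s), ((Pi.basisFun (MvPolynomial (Fin (n + 1)) k) (Fin s)).map e).reindex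
    Equiv.ulift.symm, ?_⟩
  intro i
  have : (((Pi.basisFun (MvPolynomial (Fin (n + 1)) k) (Fin s)).map e).reindex
      Equiv.ulift.symm) i = m i.down := by
    rw [Module.Basis.reindex_apply, Module.Basis.map_apply, Pi.basisFun_apply]
    show π _ = _
    rw [hπ]
    simp [Pi.single_apply]
  rw [this]
  exact hm _


/-- Graded freeness criterion: let k be a field, S = k[x_0, …, x_n] with its standard grading by degree,
and M a finitely generated graded S-module. If Tor_1^S(M, k) = 0, where k = S/S_+ (S modulo the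
ideal of polynomials with zero constant term) and Tor_1^S(M, ·) is the first left derived functor of
M ⊗_S ·, then M is free with a basis of homogeneous elements, i.e. M is isomorphic as a graded
module to a finite direct sum of shifted copies S(−d_i). (Here the module is graded in non-negative
degrees; the published statement allows any integer degrees.) -/
theorem result (k : Type u) [Field k] (n : ℕ)
    (M : Type u) [AddCommGroup M] [Module (MvPolynomial (Fin (n + 1)) k) M]
    [Module.Finite (MvPolynomial (Fin (n + 1)) k) M]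
    (ℳ : ℕ → AddSubgroup M)
    [SetLike.GradedSMul (MvPolynomial.homogeneousSubmodule (Fin (n + 1)) k) ℳ]
    [DirectSum.Decomposition ℳ]
    (h : Limits.IsZero (((Tor (ModuleCat.{u} (MvPolynomial (Fin (n + 1)) k)) 1).obj
      (ModuleCat.of (MvPolynomial (Fin (n + 1)) k) M)).obj
      (ModuleCat.of (MvPolynomial (Fin (n + 1)) k)
        (MvPolynomial (Fin (n + 1)) k ⧸
          RingHom.ker (MvPolynomial.constantCoeff : MvPolynomial (Fin (n + 1)) k →+* k))))) :
    ∃ (ι : Type u) (b : Module.Basis ι (MvPolynomial (Fin (n + 1)) k) M),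
      ∀ i, SetLike.IsHomogeneousElem ℳ (b i) := by
  exact result' k n M ℳ h

end Groth.Agent.S14423
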