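import Groth.Statements.S14426
import Groth.Agent.Lib.KoszulDepth

set_option autoImplicit false
universe u
open Koszul3

namespace Groth.Agent.S14426

open CategoryTheory CategoryTheory.Limits in
/-- Let (R, m) be a Noetherian local ring, M a nonzero finitely generated R-module and x_1, …, x_n
elements of m generating the ideal a. Then depth(a, M) ≤ n; the Koszul cohomology H^p(x; M) vanishes
for every p < depth(a, M); and H^r(x; M) is nonzero for r = depth(a, M). (Cohomological indexing
with H^n(x; M) = M/(x)M; in homological indexing this reads H_i = 0 for i > n − r and H_{n−r} ≠ 0.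
Koszul complex realised by iterated mapping cones, as in the prelude.) -/
theorem result {R : Type u} [CommRing R] [IsNoetherianRing R] [IsLocalRing R]
    (M : Type u) [AddCommGroup M] [Module R M] [Module.Finite R M] [Nontrivial M]
    (xs : List R) (hxs : ∀ x ∈ xs, x ∈ IsLocalRing.maximalIdeal R) :
    LocCoh.idealDepth (Ideal.span {x | x ∈ xs}) M ≤ xs.length ∧
      (∀ p : ℕ, (p : ℕ∞) < LocCoh.idealDepth (Ideal.span {x | x ∈ xs}) M → IsZero (CohIII.koszulH xs (ModuleCat.of R M) p)) ∧
      (∀ r : ℕ, LocCoh.idealDepth (Ideal.span {x | x ∈ xs}) M = r → ¬ IsZero (CohIII.koszulH xs (ModuleCat.of R M) r)) := by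
  classical
  have ha : Ideal.span {x | x ∈ xs} ≤ IsLocalRing.maximalIdeal R := by
    rw [Ideal.span_le]; exact fun x hx => hxs x hx
  have hI := Groth.Agent.Lib.KoszulDepth.smul_top_ne_top M _ ha
  -- vanishing below the depth
  have hvan : ∀ p : ℕ, (p : ℕ∞) < LocCoh.idealDepth (Ideal.span {x | x ∈ xs}) M →
      CategoryTheory.Limits.IsZero (CohIII.koszulH xs (ModuleCat.of R M) p) := by
    intro p hp
    have h1 : ((p + 1 : ℕ) : ℕ∞) ≤ LocCoh.idealDepth (Ideal.span {x | x ∈ xs}) M := by
      rw [Nat.cast_add, Nat.cast_one]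
      exact Order.add_one_le_of_lt hp
    obtain ⟨rs, hlen, hmem, hreg⟩ :=
      (Groth.Agent.Lib.DepthRees.natCast_le_idealDepth_iff _ _ hI _).mp h1
    exact Groth.Agent.Lib.KoszulDepth.isZero_koszulH_of_isWeaklyRegular xs (p + 1) M rs hlen hmem
      hreg p (Nat.lt_succ_self p)
  have hle : LocCoh.idealDepth (Ideal.span {x | x ∈ xs}) M ≤ xs.length := by
    by_contra hcon
    push Not at hcon
    have hz := hvan xs.length hcon
    obtain ⟨e⟩ := Groth.Agent.Lib.KoszulElem.nonempty_homology_top_linearEquiv (ModuleCat.of R M) xs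
      ((xs.length : ℤ) - xs.length) (by ring)
    have hs : Subsingleton (M ⧸ (Ideal.ofList xs • (⊤ : Submodule R M))) :=
      e.symm.toEquiv.subsingleton_congr.mpr (ModuleCat.subsingleton_of_isZero hz)
    have hnt : Nontrivial (M ⧸ (Ideal.ofList xs • (⊤ : Submodule R M))) :=
      Submodule.Quotient.nontrivial_iff.mpr hI
    exact not_subsingleton _ hs
  refine ⟨hle, hvan, ?_⟩
  intro r hr
  exact Groth.Agent.Lib.KoszulDepth.not_isZero_koszulH_depth xs hxs r M hr

end Groth.Agent.S14426

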