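import Groth.Statements.S14425
import Groth.Agent.S14426
import Groth.Agent.Lib.KoszulAcyclic

set_option autoImplicit false
universe u
open LocCoh

namespace Groth.Agent.S14425

/-- Let (R, m) be a Noetherian local ring, M a nonzero finitely generated R-module and x_1, …, x_n
elements of m generating the ideal a. Then depth(a, M) = n if and only if x_1, …, x_n is an
M-regular sequence (each x_i a non-zero-divisor on M/(x_1, …, x_{i-1})M; the condition (x)M ≠ M is
automatic here). -/
theorem result {R : Type u} [CommRing R] [IsNoetherianRing R] [IsLocalRing R]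
    {M : Type u} [AddCommGroup M] [Module R M] [Module.Finite R M] [Nontrivial M]
    (xs : List R) (hxs : ∀ x ∈ xs, x ∈ IsLocalRing.maximalIdeal R) :
    LocCoh.idealDepth (Ideal.span {x | x ∈ xs}) M = xs.length ↔ RingTheory.Sequence.IsWeaklyRegular M xs := by
  have ha : Ideal.span {x | x ∈ xs} ≤ IsLocalRing.maximalIdeal R := by
    rw [Ideal.span_le]; exact fun x hx => hxs x hx
  have hI := Groth.Agent.Lib.KoszulDepth.smul_top_ne_top M _ ha
  obtain ⟨hle, hvan, -⟩ := Groth.Agent.S14426.result M xs hxs
  constructor
  · intro hd
    apply Groth.Agent.Lib.KoszulAcyclic.isWeaklyRegular_of_isZero_homology M xs hxs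
    intro j hj
    by_cases hlt : j < -(xs.length : ℤ)
    · exact Groth.Agent.Lib.KoszulDepth.isZero_homology_of_subsingleton _ _
        (Groth.Agent.Lib.KoszulElem.subsingleton_X _ xs j (Or.inl hlt))
    · have hp : ((j + xs.length).toNat : ℕ∞) < LocCoh.idealDepth (Ideal.span {x | x ∈ xs}) M := by
        rw [hd]
        exact_mod_cast (by omega : (j + xs.length).toNat < xs.length)
      have h1 := hvan _ hp
      refine Groth.Agent.Lib.KoszulDepth.isZero_homology_of_eq _ _ _ ?_ h1
      have : ((j + xs.length).toNat : ℤ) = j + xs.length := Int.toNat_of_nonneg (by omega)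
      rw [this]; ring
  · intro hreg
    apply le_antisymm hle
    rw [Groth.Agent.Lib.DepthRees.natCast_le_idealDepth_iff _ _ hI]
    exact ⟨xs, rfl, fun y hy => Ideal.subset_span hy, hreg⟩

end Groth.Agent.S14425

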