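import Groth.Statements.S14427
import Groth.Agent.Lib.H78PlanePoints
import Mathlib.LinearAlgebra.FiniteDimensional.Lemmas

set_option autoImplicit false
universe u
open CAlgX

namespace Groth.Agent.S14427

open MvPolynomial Groth.Agent.Lib.H78PlanePoints

/-- Let k be a field and Λ a set of n ≥ 3 nonzero vectors of k^3 which are pairwise linearly
independent, i.e. n distinct k-rational points of the projective plane. Then the space of
homogeneous forms of degree n − 1 in k[x_0, x_1, x_2] vanishing at every point of Λ — the global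
sections of I_Λ(n − 1) — has dimension C(n+1, 2) − n over k, the same for all such Λ. (The published
statement is over an algebraically closed field; this row allows any field and k-rational points,
which is all its argument uses.) -/
theorem result (k : Type u) [Field k] (n : ℕ) (hn : 3 ≤ n)
    (Λ : Finset (Fin 3 → k)) (hcard : Λ.card = n) (h0 : ∀ v ∈ Λ, v ≠ 0)
    (hdist : ∀ v ∈ Λ, ∀ w ∈ Λ, v ≠ w → LinearIndependent k ![v, w]) :
    Module.finrank k ↥(MvPolynomial.homogeneousSubmodule (Fin 3) k (n - 1) ⊓ ⨅ v ∈ Λ, LinearMap.ker (MvPolynomial.aeval v).toLinearMap) = Nat.choose (n + 1) 2 - n := by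
  classical
  set H := MvPolynomial.homogeneousSubmodule (Fin 3) k (n - 1) with hH
  have hfin : Module.Finite k H := Module.Finite.iff_fg.2 (homogeneousSubmodule_fg (Fin 3) k (n - 1))
  -- evaluation map
  let ev : H →ₗ[k] (Λ → k) := LinearMap.pi (fun v => (MvPolynomial.aeval (v : Fin 3 → k)).toLinearMap ∘ₗ H.subtype)
  have hW : (MvPolynomial.homogeneousSubmodule (Fin 3) k (n - 1) ⊓ ⨅ v ∈ Λ, LinearMap.ker (MvPolynomial.aeval v).toLinearMap)
      = (LinearMap.ker ev).map H.subtype := by
    ext p
    simp only [Submodule.mem_inf, Submodule.mem_iInf, LinearMap.mem_ker, Submodule.mem_map,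
      Submodule.subtype_apply, Subtype.exists, exists_and_right, exists_eq_right]
    constructor
    · rintro ⟨hp, hv⟩
      refine ⟨hp, ?_⟩
      ext v
      exact hv v.1 v.2
    · rintro ⟨hp, hv⟩
      refine ⟨hp, fun v hvΛ => ?_⟩
      exact congrFun hv ⟨v, hvΛ⟩
  rw [hW, Submodule.finrank_map_subtype_eq]
  -- the evaluation map is surjective
  have hsurj : LinearMap.range ev = ⊤ := by
    rw [eq_top_iff]
    intro f _
    rw [← Finset.univ_sum_single f]
    refine Submodule.sum_mem _ (fun v0 _ => ?_)
    obtain ⟨p, hp, hps, hpv⟩ := exists_form_of_finset (Λ.erase v0.1) v0.1 (by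
      intro w hw hmem
      obtain ⟨c, hc⟩ := Submodule.mem_span_singleton.1 hmem
      have hne : (v0 : Fin 3 → k) ≠ w := (Finset.ne_of_mem_erase hw).symm
      have hli := hdist v0.1 v0.2 w (Finset.mem_of_mem_erase hw) hne
      have := (LinearIndependent.pair_iff.1 hli) 1 (-c) (by rw [← hc]; simp)
      exact one_ne_zero this.1)
    have hcard' : (Λ.erase v0.1).card = n - 1 := by
      rw [Finset.card_erase_of_mem v0.2, hcard]
    rw [hcard'] at hp
    refine ⟨(f v0 / MvPolynomial.aeval v0.1 p) • ⟨p, hp⟩, ?_⟩
    ext v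
    have hev : ev ((f v0 / MvPolynomial.aeval v0.1 p) • ⟨p, hp⟩) v =
        (f v0 / MvPolynomial.aeval v0.1 p) * MvPolynomial.aeval v.1 p := by
      simp only [ev, map_smul, LinearMap.pi_apply, LinearMap.coe_comp, Function.comp_apply,
        Submodule.subtype_apply, AlgHom.toLinearMap_apply, Pi.smul_apply, smul_eq_mul]
    rw [hev]
    by_cases hv : v = v0
    · subst hv
      rw [Pi.single_eq_same, div_mul_cancel₀ _ hpv]
    · have hv' : (v : Fin 3 → k) ∈ Λ.erase v0.1 :=
        Finset.mem_erase.2 ⟨fun h => hv (Subtype.ext h), v.2⟩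
      rw [hps v.1 hv', mul_zero, Pi.single_eq_of_ne hv]
  have h1 := LinearMap.finrank_range_add_finrank_ker ev
  rw [hsurj, finrank_top, Module.finrank_fintype_fun_eq_card, Fintype.card_coe, hcard,
    finrank_homogeneousSubmodule k (Fin 3) (n - 1)] at h1
  have h2 : (Fintype.card (Fin 3) + (n - 1) - 1).choose (n - 1) = (n + 1).choose 2 := by
    rw [Fintype.card_fin]
    have : 3 + (n - 1) - 1 = n + 1 := by omega
    rw [this]
    have h3 : n - 1 = (n + 1) - 2 := by omega
    rw [h3, Nat.choose_symm (by omega)]
  rw [h2] at h1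
  omega

end Groth.Agent.S14427
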