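import Groth.Statements.S14428
import Groth.Agent.Lib.H78PlanePoints

set_option autoImplicit false
universe u
open CAlgX

namespace Groth.Agent.S14428

open MvPolynomial Groth.Agent.Lib.H78PlanePoints

/-- one direction: every point of `Λ` is proportional to a point of `Λ'` as soon as the forms of degree `n - 1` vanishing
on `Λ'` vanish on `Λ` and `Λ'` (of cardinality `n`) lies on no line -/
lemma aux (k : Type u) [Field k] (n : ℕ) (hn : 3 ≤ n)
    (Λ Λ' : Finset (Fin 3 → k)) (hcard' : Λ'.card = n)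
    (hline' : ¬ ∃ ℓ : (Fin 3 → k) →ₗ[k] k, ℓ ≠ 0 ∧ ∀ v ∈ Λ', ℓ v = 0)
    (hle : (MvPolynomial.homogeneousSubmodule (Fin 3) k (n - 1) ⊓ ⨅ v ∈ Λ', LinearMap.ker (MvPolynomial.aeval v).toLinearMap) ≤ (MvPolynomial.homogeneousSubmodule (Fin 3) k (n - 1) ⊓ ⨅ v ∈ Λ, LinearMap.ker (MvPolynomial.aeval v).toLinearMap)) :
    ∀ v ∈ Λ, ∃ w ∈ Λ', ∃ c : k, v = c • w := by
  classical
  intro v hv
  by_contra hcon
  push Not at hcon
  have hvs : ∀ w ∈ Λ', v ∉ Submodule.span k {w} := by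
    intro w hw hmem
    obtain ⟨c, hc⟩ := Submodule.mem_span_singleton.1 hmem
    exact hcon w hw c hc.symm
  obtain ⟨w₁, h₁, w₂, h₂, h₁₂, hv12⟩ := exists_pair_notMem_span Λ' (by omega) v hvs hline'
  obtain ⟨ℓ, hℓ, hℓP, hℓv⟩ := exists_linForm _ v hv12
  obtain ⟨p, hp, hps, hpv⟩ := exists_form_of_finset ((Λ'.erase w₁).erase w₂) v (fun w hw =>
    hvs w (Finset.mem_of_mem_erase (Finset.mem_of_mem_erase hw)))
  have hc2 : ((Λ'.erase w₁).erase w₂).card = n - 2 := by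
    rw [Finset.card_erase_of_mem (Finset.mem_erase.2 ⟨h₁₂.symm, h₂⟩), Finset.card_erase_of_mem h₁, hcard']
    omega
  rw [hc2] at hp
  have hq : (ℓ * p).IsHomogeneous (n - 1) := by
    have := hℓ.mul hp
    have e : 1 + (n - 2) = n - 1 := by omega
    rwa [e] at this
  have hmem : ℓ * p ∈ (MvPolynomial.homogeneousSubmodule (Fin 3) k (n - 1) ⊓ ⨅ v ∈ Λ', LinearMap.ker (MvPolynomial.aeval v).toLinearMap) := by
    refine Submodule.mem_inf.2 ⟨hq, ?_⟩
    simp only [Submodule.mem_iInf, LinearMap.mem_ker, AlgHom.toLinearMap_apply]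
    intro w hw
    rw [map_mul]
    by_cases e1 : w = w₁
    · subst e1
      rw [hℓP w (Submodule.subset_span (by simp)), zero_mul]
    by_cases e2 : w = w₂
    · subst e2
      rw [hℓP w (Submodule.subset_span (by simp)), zero_mul]
    rw [hps w (Finset.mem_erase.2 ⟨e2, Finset.mem_erase.2 ⟨e1, hw⟩⟩), mul_zero]
  have hmem2 := (Submodule.mem_inf.1 (hle hmem)).2
  simp only [Submodule.mem_iInf, LinearMap.mem_ker, AlgHom.toLinearMap_apply] at hmem2
  have h0 := hmem2 v hv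
  rw [map_mul] at h0
  exact mul_ne_zero hℓv hpv h0

/-- Let k be a field, n ≥ 3, and let Λ and Λ' be two sets of n nonzero, pairwise linearly independent
vectors of k^3 (n distinct k-rational points of the projective plane each), neither lying on a line
(no nonzero linear form vanishes on all of Λ, resp. Λ'). If the spaces of homogeneous forms of
degree n − 1 vanishing on Λ and on Λ' coincide, then Λ and Λ' define the same set of points of the
plane: the assignment Λ ↦ H^0(P^2, I_Λ(n − 1)), with values in a Grassmannian, is injective on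
non-collinear sets. (The published statement is over an algebraically closed field; this row allows
any field and k-rational points, which is all its argument uses.) -/
theorem result (k : Type u) [Field k] (n : ℕ) (hn : 3 ≤ n)
    (Λ Λ' : Finset (Fin 3 → k)) (hcard : Λ.card = n) (hcard' : Λ'.card = n)
    (h0 : ∀ v ∈ Λ, v ≠ 0) (h0' : ∀ v ∈ Λ', v ≠ 0)
    (hdist : ∀ v ∈ Λ, ∀ w ∈ Λ, v ≠ w → LinearIndependent k ![v, w])
    (hdist' : ∀ v ∈ Λ', ∀ w ∈ Λ', v ≠ w → LinearIndependent k ![v, w])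
    (hline : ¬ ∃ ℓ : (Fin 3 → k) →ₗ[k] k, ℓ ≠ 0 ∧ ∀ v ∈ Λ, ℓ v = 0)
    (hline' : ¬ ∃ ℓ : (Fin 3 → k) →ₗ[k] k, ℓ ≠ 0 ∧ ∀ v ∈ Λ', ℓ v = 0)
    (heq : (MvPolynomial.homogeneousSubmodule (Fin 3) k (n - 1) ⊓ ⨅ v ∈ Λ, LinearMap.ker (MvPolynomial.aeval v).toLinearMap) = (MvPolynomial.homogeneousSubmodule (Fin 3) k (n - 1) ⊓ ⨅ v ∈ Λ', LinearMap.ker (MvPolynomial.aeval v).toLinearMap)) :
    (∀ v ∈ Λ, ∃ w ∈ Λ', ∃ c : k, v = c • w) ∧ (∀ w ∈ Λ', ∃ v ∈ Λ, ∃ c : k, w = c • v) :=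
  ⟨aux k n hn Λ Λ' hcard' hline' heq.ge, aux k n hn Λ' Λ hcard hline heq.le⟩

end Groth.Agent.S14428
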