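import Groth.Statements.S14434
import Groth.Agent.Lib.H78ProjRes2
import Mathlib.Algebra.Homology.ShortComplex.ModuleCat

set_option autoImplicit false
universe u
open CAlg

namespace Groth.Agent.S14434

open CategoryTheory Limits MonoidalCategory

lemma shortExact_of {B : Type u} [CommRing B] {N₁ N₂ N₃ : Type u} [AddCommGroup N₁] [Module B N₁] [AddCommGroup N₂]
    [Module B N₂] [AddCommGroup N₃] [Module B N₃] (f : N₁ →ₗ[B] N₂) (g : N₂ →ₗ[B] N₃)
    (hf : Function.Injective f) (hg : Function.Surjective g) (hfg : Function.Exact f g) :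
    (ShortComplex.mk (ModuleCat.ofHom f) (ModuleCat.ofHom g)
      (by ext x; exact hfg.apply_apply_eq_zero x)).ShortExact := by
  refine ShortComplex.ShortExact.mk' ?_ ?_ ?_
  · rw [ShortComplex.ShortExact.moduleCat_exact_iff_function_exact]
    exact hfg
  · exact (ModuleCat.mono_iff_injective _).2 hf
  · exact (ModuleCat.epi_iff_surjective _).2 hg

/-- Let R be a commutative ring, M an R-module and x ∈ R a non-zero-divisor on R and on M. Then
Tor_i^R(M, R/(x)) = 0 for all i ≥ 1 (Tor computed as the left derived functors of the tensor product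
on R-modules). -/
theorem result {R : Type u} [CommRing R] (M : Type u) [AddCommGroup M] [Module R M]
    (x : R) (hxR : IsSMulRegular R x) (hxM : IsSMulRegular M x) (i : ℕ) (hi : 1 ≤ i) :
    Subsingleton (DRing.Tor R i M (R ⧸ Ideal.span {x})) := by
  obtain ⟨n, rfl⟩ : ∃ n, i = n + 1 := ⟨i - 1, by omega⟩
  -- the short exact sequence `0 → R --x--> R → R/(x) → 0`
  let f : R →ₗ[R] R := LinearMap.lsmul R R x
  let g : R →ₗ[R] (R ⧸ Ideal.span {x}) := Submodule.mkQ (Ideal.span {x})
  have hf : Function.Injective f := hxR
  have hg : Function.Surjective g := Submodule.mkQ_surjective _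
  have hfg : Function.Exact f g := by
    intro y
    constructor
    · intro hy
      have hy' : y ∈ Ideal.span {x} := (Submodule.Quotient.mk_eq_zero _).1 hy
      obtain ⟨a, rfl⟩ := Ideal.mem_span_singleton'.1 hy'
      exact ⟨a, mul_comm x a⟩
    · rintro ⟨a, rfl⟩
      refine (Submodule.Quotient.mk_eq_zero _).2 ?_
      exact Ideal.mem_span_singleton'.2 ⟨a, mul_comm a x⟩
  have hS := shortExact_of f g hf hg hfg
  have : Projective (ModuleCat.of R R) := ModuleCat.projective_of_free (Module.Free.chooseBasis R R)
  have hF : Mono (((tensoringLeft (ModuleCat.{u} R)).obj (ModuleCat.of R M)).map (ModuleCat.ofHom f)) := by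
    rw [ModuleCat.mono_iff_injective]
    change Function.Injective (LinearMap.lTensor M f)
    have hfx : f = x • (LinearMap.id : R →ₗ[R] R) := by
      ext
      simp [f]
    rw [hfx, LinearMap.lTensor_smul, LinearMap.lTensor_id]
    intro s t hst
    have h1 : x • s = x • t := hst
    have h2 := congrArg (TensorProduct.rid R M) h1
    rw [map_smul, map_smul] at h2
    exact (TensorProduct.rid R M).injective (hxM h2)
  have hz := Groth.Agent.Lib.H78ProjRes.isZero_leftDerived_succ_of_shortExact_projective _ _ _ hS
    ((tensoringLeft (ModuleCat.{u} R)).obj (ModuleCat.of R M)) hF n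
  exact ModuleCat.subsingleton_of_isZero hz

end Groth.Agent.S14434
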