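import Groth.Statements.S14436
import Mathlib.RingTheory.Etale.Kaehler
import Mathlib.RingTheory.Etale.Field
import Mathlib.RingTheory.Kaehler.Polynomial
import Mathlib.RingTheory.AlgebraicIndependent.Adjoin
import Mathlib.LinearAlgebra.Dimension.Constructions
-- import your own Groth.Agent.* helpers here

set_option autoImplicit false
universe u
open CAlg

namespace Groth.Agent.S14436

open TensorProduct MvPolynomial in
theorem aux (K L : Type u) [Field K] [Field L] [Algebra K L]
    (n : ℕ) (a : Fin n → L) (ha : IsTranscendenceBasis K a)
    (hsep : Algebra.IsSeparable ↥(IntermediateField.adjoin K (Set.range a)) L) :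
    Module.finrank L (Ω[L⁄K]) = n := by
  have hind : AlgebraicIndependent K a := ha.1
  let P := MvPolynomial (Fin n) K
  let F := ↥(IntermediateField.adjoin K (Set.range a))
  -- the `P`-algebra structure on `F`
  let b : Fin n → F := fun i => ⟨a i, IntermediateField.subset_adjoin K _ ⟨i, rfl⟩⟩
  let φ : P →ₐ[K] F := MvPolynomial.aeval b
  letI : Algebra P F := φ.toRingHom.toAlgebra
  haveI : IsScalarTower K P F := IsScalarTower.of_algebraMap_eq (fun x => (φ.commutes x).symm)
  have hφ : ∀ p : P, ((φ p : F) : L) = MvPolynomial.aeval a p := by
    intro p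
    have h1 : (IntermediateField.val (IntermediateField.adjoin K (Set.range a))).comp φ =
        MvPolynomial.aeval a := by
      apply MvPolynomial.algHom_ext
      intro i
      simp [φ, b]
    exact congrArg (fun f : P →ₐ[K] L => f p) h1
  -- `F` is the fraction field of `P`
  let e : FractionRing P ≃ₐ[K] F := hind.aevalEquivField
  have he : ∀ p : P, e (algebraMap P (FractionRing P) p) = algebraMap P F p := by
    intro p
    apply Subtype.ext
    rw [hind.aevalEquivField_algebraMap_apply_coe]
    exact (hφ p).symm
  let e' : FractionRing P ≃ₐ[P] F := AlgEquiv.ofRingEquiv (f := e.toRingEquiv) he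
  haveI : IsLocalization (nonZeroDivisors P) F :=
    IsLocalization.isLocalization_of_algEquiv (nonZeroDivisors P) e'
  haveI : Algebra.FormallyEtale P F := Algebra.FormallyEtale.of_isLocalization (nonZeroDivisors P)
  haveI : Algebra.FormallyEtale F L := Algebra.FormallyEtale.of_isSeparable F L
  -- the `P`-algebra structure on `L`
  letI : Algebra P L := ((algebraMap F L).comp (algebraMap P F)).toAlgebra
  haveI : IsScalarTower P F L := IsScalarTower.of_algebraMap_eq (fun _ => rfl)
  haveI : IsScalarTower K P L := IsScalarTower.of_algebraMap_eq (fun x => by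
    show algebraMap K L x = algebraMap F L (algebraMap P F (algebraMap K P x))
    rw [← IsScalarTower.algebraMap_apply K P F, ← IsScalarTower.algebraMap_apply K F L])
  haveI : Algebra.FormallyEtale P L := Algebra.FormallyEtale.comp P F L
  let E : L ⊗[P] Ω[P⁄K] ≃ₗ[L] Ω[L⁄K] := KaehlerDifferential.tensorKaehlerEquivOfFormallyEtale K P L
  rw [← E.finrank_eq, Module.finrank_baseChange,
    Module.finrank_eq_card_basis (KaehlerDifferential.mvPolynomialBasis K (Fin n))]
  simp


/-- Let L/K be a finitely generated field extension which is separable in the sense that it has a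
transcendence basis a_1, …, a_n over which L is a (finite) separable extension of K(a_1, …, a_n).
Then dim_L Ω_{L/K} = n, the transcendence degree of L over K. -/
theorem result (K L : Type u) [Field K] [Field L] [Algebra K L]
    (hfg : ∃ s : Finset L, IntermediateField.adjoin K (s : Set L) = ⊤)
    (n : ℕ) (a : Fin n → L) (ha : IsTranscendenceBasis K a)
    (hsep : Algebra.IsSeparable ↥(IntermediateField.adjoin K (Set.range a)) L) :
    Module.finrank L (Ω[L⁄K]) = n := by
  exact aux K L n a ha hsep

end Groth.Agent.S14436
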