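import Groth.Statements.S14440
import Mathlib
import Groth.Agent.Lib.HilbFilt7b
import Groth.Agent.Lib.FTDim
import Groth.Agent.Lib.H8CISat
import Groth.Agent.Lib.GrHilbSamuel3
import Groth.Agent.S10905

set_option autoImplicit false
universe u
open ProjDeg

namespace Groth.Agent.S14440

section helpers

open Groth.Agent.Lib.HilbFilt7

variable {k : Type u} [Field k] {n : ℕ}

theorem ht_of_add_eq {h : ℕ∞} {b N : ℕ}
    (e : (h : WithBot ℕ∞) + (b : WithBot ℕ∞) = ((N : ℕ) : WithBot ℕ∞)) :
    h = ((N - b : ℕ) : ℕ∞) ∧ b ≤ N := by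
  induction h using ENat.recTopCoe with
  | top =>
    exfalso
    have h' : (⊤ : ℕ∞) + (b : ℕ∞) = (N : ℕ∞) := by exact_mod_cast e
    simp at h'
  | coe h =>
    have h' : h + b = N := by exact_mod_cast e
    constructor
    · have : h = N - b := by omega
      rw [this]
    · omega

theorem exists_nat_dim (J : Ideal (MvPolynomial (Fin (n + 1)) k)) (hJ : J ≠ ⊤) :
    ∃ d : ℕ, ringKrullDim (MvPolynomial (Fin (n + 1)) k ⧸ J) = d := by
  haveI : Nontrivial (MvPolynomial (Fin (n + 1)) k ⧸ J) := Ideal.Quotient.nontrivial_iff.mpr hJ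
  have h1 : ringKrullDim (MvPolynomial (Fin (n + 1)) k ⧸ J) ≤ ((n + 1 : ℕ) : WithBot ℕ∞) := by
    refine (ringKrullDim_quotient_le J).trans ?_
    rw [MvPolynomial.ringKrullDim_of_isNoetherianRing, ringKrullDim_eq_zero_of_field]
    simp
  have h0 : 0 ≤ ringKrullDim (MvPolynomial (Fin (n + 1)) k ⧸ J) := ringKrullDim_nonneg_of_nontrivial
  have hne : ringKrullDim (MvPolynomial (Fin (n + 1)) k ⧸ J) ≠ ⊥ := by
    intro h
    rw [h] at h0
    simp at h0
  obtain ⟨y, hy⟩ := WithBot.ne_bot_iff_exists.mp hne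
  rw [← hy] at h1
  have h2 : y ≤ ((n + 1 : ℕ) : ℕ∞) := by exact_mod_cast h1
  obtain ⟨d, hd⟩ := ENat.ne_top_iff_exists.mp (ne_top_of_le_ne_top (ENat.natCast_ne_top _) h2)
  exact ⟨d, by rw [← hy, ← hd]; rfl⟩

/-- height of a prime of the polynomial ring in terms of the dimension of the quotient -/
theorem height_prime (Q : Ideal (MvPolynomial (Fin (n + 1)) k)) [hQ : Q.IsPrime] (b : ℕ)
    (hb : ringKrullDim (MvPolynomial (Fin (n + 1)) k ⧸ Q) = b) :
    Q.height = ((n + 1 - b : ℕ) : ℕ∞) ∧ b ≤ n + 1 := by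
  have h1 := Groth.Agent.Lib.FTDim.height_add_ringKrullDim_quotient k
    (MvPolynomial (Fin (n + 1)) k) Q
  rw [Groth.Agent.Lib.FTDim.ringKrullDim_mvPolynomial, hb] at h1
  exact ht_of_add_eq h1

/-- in the polynomial ring, adding a form of positive degree to a homogeneous ideal raises the
height by at most one -/
theorem height_sup_le (I : Ideal (MvPolynomial (Fin (n + 1)) k))
    (hIh : I.IsHomogeneous (CohB1.polyGrading n k)) (hI : I ≠ ⊤)
    (x : MvPolynomial (Fin (n + 1)) k) (a : ℕ) (ha : 0 < a) (hx : x.IsHomogeneous a) :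
    (I ⊔ Ideal.span {x}).height ≤ I.height + 1 := by
  have hfin : I.height ≠ ⊤ := Ideal.height_ne_top hI
  obtain ⟨h, hh⟩ := ENat.ne_top_iff_exists.mp hfin
  obtain ⟨Q, hQp, hIQ, hQh⟩ := Ideal.exists_isPrime_height_eq hh.symm
  have hQmin : Q ∈ I.minimalPrimes :=
    Ideal.mem_minimalPrimes_of_height_le hIQ (by rw [hQh, ← hh])
  have hQhom := Groth.Agent.S10915.isHomogeneous_of_mem_minimalPrimes hIh hQmin
  have hQm := Groth.Agent.S10915.le_irr_of_homog k n hQhom hQp.ne_top
  rw [← hh]
  by_cases hxQ : x ∈ Q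
  · have : I ⊔ Ideal.span {x} ≤ Q := sup_le hIQ (by rwa [Ideal.span_singleton_le_iff_mem])
    calc (I ⊔ Ideal.span {x}).height ≤ Q.height := Ideal.height_mono this
      _ = h := hQh
      _ ≤ h + 1 := le_self_add
  · have hxm := Groth.Agent.Lib.HilbDim7.mem_span_X_of_homog ha hx
    have hle : Q ⊔ Ideal.span {x} ≤
        Ideal.span (Set.range (MvPolynomial.X : Fin (n + 1) → MvPolynomial (Fin (n + 1)) k)) :=
      sup_le hQm (by rwa [Ideal.span_singleton_le_iff_mem])
    haveI := (Groth.Agent.S10915.irr_max k n).isPrime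
    obtain ⟨Q', hQ'min, hQ'le⟩ := Ideal.exists_minimalPrimes_le hle
    haveI hQ'p : Q'.IsPrime := hQ'min.1.1
    have hdrop := Groth.Agent.S10905.dim_drop_of_minimal Q x hxQ Q' hQ'min
    obtain ⟨b', hb'⟩ := exists_nat_dim Q' hQ'p.ne_top
    obtain ⟨b, hb⟩ := exists_nat_dim Q hQp.ne_top
    rw [hb', hb] at hdrop
    have hbb : b' + 1 = b := by exact_mod_cast hdrop
    obtain ⟨e1, e1'⟩ := height_prime Q b hb
    obtain ⟨e2, e2'⟩ := height_prime Q' b' hb'
    have hle2 : I ⊔ Ideal.span {x} ≤ Q' :=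
      le_trans (sup_le_sup_right hIQ _) hQ'min.1.2
    calc (I ⊔ Ideal.span {x}).height ≤ Q'.height := Ideal.height_mono hle2
      _ = ((n + 1 - b' : ℕ) : ℕ∞) := e2
      _ = ((n + 1 - b : ℕ) : ℕ∞) + 1 := by
        have : n + 1 - b' = (n + 1 - b) + 1 := by omega
        rw [this]
        push_cast
        rfl
      _ = h + 1 := by rw [← e1, hQh]

/-- the partial ideals `(f_0, …, f_{j-1})` -/
noncomputable def pI (f : Fin n → MvPolynomial (Fin (n + 1)) k) (j : ℕ) : Ideal (MvPolynomial (Fin (n + 1)) k) :=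
  Ideal.span (f '' {i : Fin n | (i : ℕ) < j})

theorem pI_zero (f : Fin n → MvPolynomial (Fin (n + 1)) k) : pI f 0 = ⊥ := by
  unfold pI
  have : {i : Fin n | (i : ℕ) < 0} = ∅ := by
    ext i
    simp
  rw [this, Set.image_empty, Ideal.span_empty]

theorem pI_succ (f : Fin n → MvPolynomial (Fin (n + 1)) k) (j : ℕ) (hj : j < n) :
    pI f (j + 1) = pI f j ⊔ Ideal.span {f ⟨j, hj⟩} := by
  unfold pI
  have : {i : Fin n | (i : ℕ) < j + 1} = {i : Fin n | (i : ℕ) < j} ∪ {⟨j, hj⟩} := by
    ext i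
    simp only [Set.mem_ofPred_eq, Set.union_singleton, Set.mem_insert_iff]
    constructor
    · intro h
      rcases Nat.lt_succ_iff_lt_or_eq.mp h with h | h
      · exact Or.inr h
      · exact Or.inl (Fin.ext h)
    · rintro (h | h)
      · rw [h]; exact Nat.lt_succ_self j
      · exact Nat.lt_succ_of_lt h
  rw [this, Set.image_union, Ideal.span_union, Set.image_singleton]

theorem pI_top (f : Fin n → MvPolynomial (Fin (n + 1)) k) :
    pI f n = Ideal.span (Set.range f) := by
  unfold pI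
  have : {i : Fin n | (i : ℕ) < n} = Set.univ := by
    ext i
    simp
  rw [this, Set.image_univ]

theorem pI_eq_range (f : Fin n → MvPolynomial (Fin (n + 1)) k) (j : ℕ) (hj : j ≤ n) :
    pI f j = Ideal.span (Set.range (fun i : Fin j => f (Fin.castLE hj i))) := by
  unfold pI
  congr 1
  ext y
  constructor
  · rintro ⟨i, hi, rfl⟩
    exact ⟨⟨i, hi⟩, rfl⟩
  · rintro ⟨i, rfl⟩
    exact ⟨Fin.castLE hj i, i.2, rfl⟩

variable (f : Fin n → MvPolynomial (Fin (n + 1)) k) (d : Fin n → ℕ) (hd : ∀ i, 1 ≤ d i)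
  (hf : ∀ i, (f i).IsHomogeneous (d i))

include hf in
theorem pI_homog (j : ℕ) : (pI f j).IsHomogeneous (CohB1.polyGrading n k) := by
  apply Ideal.homogeneous_span
  rintro _ ⟨i, -, rfl⟩
  exact ⟨d i, hf i⟩

include hd hf in
theorem pI_le_irr (j : ℕ) :
    pI f j ≤ Ideal.span (Set.range (MvPolynomial.X : Fin (n + 1) → MvPolynomial (Fin (n + 1)) k)) := by
  unfold pI
  rw [Ideal.span_le]
  rintro _ ⟨i, -, rfl⟩
  exact Groth.Agent.Lib.HilbDim7.mem_span_X_of_homog (hd i) (hf i)

include hd hf in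
theorem pI_ne_top (j : ℕ) : pI f j ≠ ⊤ := by
  intro h
  have := pI_le_irr f d hd hf j
  rw [h, top_le_iff] at this
  exact (Groth.Agent.S10915.irr_max k n).ne_top this

include hd hf in
/-- the heights of the partial ideals are as large as possible -/
theorem le_height_pI
    (hdim : ringKrullDim (MvPolynomial (Fin (n + 1)) k ⧸ Ideal.span (Set.range f)) = 1)
    (j : ℕ) (hj : j ≤ n) : (j : ℕ∞) ≤ (pI f j).height := by
  -- the full ideal has height `≥ n`
  have h0 : (n : ℕ∞) ≤ (pI f n).height := by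
    rw [Ideal.height_eq_inf_minimalPrimes]
    refine le_iInf₂ fun Q hQ => ?_
    haveI : Q.IsPrime := hQ.1.1
    obtain ⟨b, hb⟩ := exists_nat_dim Q hQ.1.1.ne_top
    obtain ⟨e1, -⟩ := height_prime Q b hb
    have hle := dim_mono hQ.1.2
    rw [pI_top, hdim, hb] at hle
    have hb1 : b ≤ 1 := by exact_mod_cast hle
    rw [e1]
    have : n ≤ n + 1 - b := by omega
    exact_mod_cast this
  -- downward induction
  have key : ∀ i : ℕ, i ≤ n → (n : ℕ∞) ≤ (pI f (n - i)).height + i := by
    intro i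
    induction i with
    | zero =>
      intro _
      simpa using h0
    | succ i ih =>
      intro hi
      have hlt : n - (i + 1) < n := by omega
      have hstep := height_sup_le (pI f (n - (i + 1))) (pI_homog f d hf _)
        (pI_ne_top f d hd hf _) (f ⟨n - (i + 1), hlt⟩) (d ⟨n - (i + 1), hlt⟩)
        (hd _) (hf _)
      rw [← pI_succ f (n - (i + 1)) hlt] at hstep
      have e : n - (i + 1) + 1 = n - i := by omega
      rw [e] at hstep
      calc (n : ℕ∞) ≤ (pI f (n - i)).height + i := ih (by omega)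
        _ ≤ ((pI f (n - (i + 1))).height + 1) + i := by gcongr
        _ = (pI f (n - (i + 1))).height + ((i + 1 : ℕ) : ℕ∞) := by
          push_cast
          ring
  have h1 := key (n - j) (by omega)
  have e : n - (n - j) = j := by omega
  rw [e] at h1
  -- cancel
  induction hh : (pI f j).height using ENat.recTopCoe with
  | top => exact le_top
  | coe h =>
    rw [hh] at h1
    have : n ≤ h + (n - j) := by exact_mod_cast h1
    have : j ≤ h := by omega
    exact_mod_cast this

include hd hf in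
/-- `f_j` is a nonzerodivisor modulo `(f_0, …, f_{j-1})` -/
theorem colon_pI
    (hdim : ringKrullDim (MvPolynomial (Fin (n + 1)) k ⧸ Ideal.span (Set.range f)) = 1)
    (j : ℕ) (hj : j < n) : (pI f j).colon {f ⟨j, hj⟩} = pI f j := by
  classical
  apply le_antisymm _ (le_colon _ _)
  intro r hr
  by_contra hrI
  have hle : (j : ℕ∞) ≤ (pI f j).height := le_height_pI f d hd hf hdim j hj.le
  have hrange := pI_eq_range f j hj.le
  set g : Fin j → MvPolynomial (Fin (n + 1)) k := fun i => f (Fin.castLE hj.le i) with hg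
  rw [hrange] at hle hr hrI
  set J := Ideal.span (Set.range g) with hJ
  haveI := Groth.Agent.Lib.H8CISat.isCMRing_quotient_of_le_height k (n + 1) j g hle
  have hx0 : (Ideal.Quotient.mk J r) ≠ 0 := by rwa [Ne, Ideal.Quotient.eq_zero_iff_mem]
  obtain ⟨Q, hQ, hleQ⟩ := exists_le_isAssociatedPrime_of_isNoetherianRing
    (MvPolynomial (Fin (n + 1)) k) (Ideal.Quotient.mk J r) hx0
  have hQmin := Groth.Agent.Lib.H8Liaison.mem_minimalPrimes_of_mem_associatedPrimes_quotient J hQ
  haveI hQp : Q.IsPrime := hQ.isPrime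
  have hfQ : f ⟨j, hj⟩ ∈ Q := by
    apply hleQ
    rw [Submodule.mem_colon_singleton, Submodule.mem_bot]
    change Ideal.Quotient.mk J (f ⟨j, hj⟩ * r) = 0
    rw [Ideal.Quotient.eq_zero_iff_mem, mul_comm]
    rw [Submodule.mem_colon_singleton, smul_eq_mul] at hr
    exact hr
  -- Krull's height theorem
  have hQh : Q.height ≤ j := by
    have hspan : J = Ideal.span ((Finset.univ.image g : Finset _) : Set _) := by
      rw [hJ]; congr 1; ext x; simp
    rw [hspan] at hQmin
    refine (Ideal.height_le_card_of_mem_minimalPrimes_span_finset hQmin).trans ?_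
    have : (Finset.univ.image g).card ≤ j := by
      simpa using Finset.card_image_le (s := (Finset.univ : Finset (Fin j))) (f := g)
    exact_mod_cast this
  have hle' : pI f (j + 1) ≤ Q := by
    rw [pI_succ f j hj, hrange]
    exact sup_le hQmin.1.2 (by rwa [Ideal.span_singleton_le_iff_mem])
  have h1 := le_height_pI f d hd hf hdim (j + 1) hj
  have h2 := (Ideal.height_mono hle').trans hQh
  have h3 := h1.trans h2
  have : j + 1 ≤ j := by exact_mod_cast h3
  omega

section Base

open Polynomial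

theorem finrank_piece (m : ℕ) :
    Module.finrank k ↥(CohB1.polyGrading n k m) = (m + n).choose n := by
  haveI := finite_piece (k := k) (n := n) m
  have h1 := Groth.Agent.Lib.GrHilbSamuel3.length_homogeneousSubmodule k (n + 1) m
  rw [Module.length_eq_finrank, Module.length_eq_finrank, Module.finrank_self, Nat.cast_one,
    mul_one, Nat.multichoose_eq] at h1
  have h2 : Module.finrank k ↥(CohB1.polyGrading n k m) = (n + 1 + m - 1).choose m := by
    exact_mod_cast h1
  rw [h2]
  have : n + 1 + m - 1 = m + n := by omega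
  rw [this, Nat.choose_symm_add]

/-- the Hilbert polynomial of the polynomial ring -/
noncomputable def P0 (n : ℕ) : ℚ[X] :=
  C (1 / (n.factorial : ℚ)) * (ascPochhammer ℚ n).comp (X + C 1)

theorem eval_P0 (m : ℕ) : (P0 n).eval (m : ℚ) = ((m + n).choose n : ℚ) := by
  unfold P0
  rw [eval_mul, eval_C, eval_comp, eval_add, eval_X, eval_C]
  have e : ((m : ℚ) + 1) = ((m + 1 : ℕ) : ℚ) := by push_cast; ring
  rw [e, ascPochhammer_nat_eq_natCast_ascFactorial, Nat.ascFactorial_eq_factorial_mul_choose]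
  have hn : (n.factorial : ℚ) ≠ 0 := by exact_mod_cast n.factorial_ne_zero
  push_cast
  field_simp

theorem natDegree_P0 : (P0 n).natDegree = n := by
  unfold P0
  have hn : (1 / (n.factorial : ℚ)) ≠ 0 := by
    have : (n.factorial : ℚ) ≠ 0 := by exact_mod_cast n.factorial_ne_zero
    positivity
  rw [natDegree_C_mul hn, natDegree_comp, ascPochhammer_natDegree, natDegree_X_add_C, mul_one]

theorem leadingCoeff_P0 : (n.factorial : ℚ) * (P0 n).leadingCoeff = 1 := by
  unfold P0
  have hn : (n.factorial : ℚ) ≠ 0 := by exact_mod_cast n.factorial_ne_zero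
  rw [leadingCoeff_mul, leadingCoeff_C, leadingCoeff_comp (by rw [natDegree_X_add_C]; exact one_ne_zero),
    (monic_ascPochhammer ℚ n).leadingCoeff, leadingCoeff_X_add_C, one_pow, mul_one]
  field_simp

theorem isHP_bot : IsHP (⊥ : Ideal (MvPolynomial (Fin (n + 1)) k)) (P0 n) := by
  refine ⟨0, fun m _ => ?_⟩
  rw [eval_P0]
  unfold hf
  have : Submodule.restrictScalars k (⊥ : Ideal (MvPolynomial (Fin (n + 1)) k)) ⊓
      CohB1.polyGrading n k m = ⊥ := by
    rw [Submodule.restrictScalars_bot, bot_inf_eq]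
  rw [this, finrank_bot, finrank_piece]
  simp

end Base

section Rec

open Polynomial

/-- product of the first `j` degrees -/
def pd (d : Fin n → ℕ) (j : ℕ) : ℕ := ∏ i : Fin n, if (i : ℕ) < j then d i else 1

theorem pd_zero : pd d 0 = 1 := by
  unfold pd
  apply Finset.prod_eq_one
  intro i _
  simp

theorem pd_succ (j : ℕ) (hj : j < n) : pd d (j + 1) = pd d j * d ⟨j, hj⟩ := by
  classical
  unfold pd
  have h1 : ∀ i : Fin n, (if (i : ℕ) < j + 1 then d i else 1) =
      (if (i : ℕ) < j then d i else 1) * (if i = ⟨j, hj⟩ then d i else 1) := by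
    intro i
    by_cases h : (i : ℕ) < j
    · have hne : i ≠ ⟨j, hj⟩ := fun h' => by rw [h'] at h; simp at h
      rw [if_pos h, if_pos (Nat.lt_succ_of_lt h), if_neg hne, mul_one]
    · by_cases h' : i = ⟨j, hj⟩
      · rw [if_neg h, if_pos h', one_mul, if_pos (by rw [h']; exact Nat.lt_succ_self j)]
      · have : ¬ (i : ℕ) < j + 1 := by
          intro h''
          apply h'
          apply Fin.ext
          show (i : ℕ) = j
          omega
        rw [if_neg h, if_neg h', if_neg this, one_mul]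
  rw [Finset.prod_congr rfl (fun i _ => h1 i), Finset.prod_mul_distrib]
  congr 1
  rw [Finset.prod_ite_eq' Finset.univ (⟨j, hj⟩ : Fin n) (fun i => d i)]
  simp

theorem pd_top : pd d n = ∏ i, d i := by
  unfold pd
  apply Finset.prod_congr rfl
  intro i _
  rw [if_pos i.2]

include hd hf in
theorem exists_hp
    (hdim : ringKrullDim (MvPolynomial (Fin (n + 1)) k ⧸ Ideal.span (Set.range f)) = 1) :
    ∀ j : ℕ, j ≤ n → ∃ P : ℚ[X], IsHP (pI f j) P ∧ P.natDegree = n - j ∧
      ((n - j).factorial : ℚ) * P.leadingCoeff = pd d j := by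
  intro j
  induction j with
  | zero =>
    intro _
    refine ⟨P0 n, ?_, natDegree_P0, ?_⟩
    · rw [pI_zero]
      exact isHP_bot
    · rw [pd_zero, Nat.sub_zero, leadingCoeff_P0]
      simp
  | succ j ih =>
    intro hj
    have hjn : j < n := hj
    obtain ⟨P, hP, hdeg, hlc⟩ := ih hjn.le
    have hcol := colon_pI f d hd hf hdim j hjn
    have hxI : f ⟨j, hjn⟩ ∉ pI f j := by
      intro h
      apply pI_ne_top f d hd hf j
      rw [← hcol, Ideal.eq_top_iff_one, Submodule.mem_colon_singleton, one_smul]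
      exact h
    have hdeg1 : 1 ≤ P.natDegree := by rw [hdeg]; omega
    obtain ⟨e1, e2⟩ := Groth.Agent.Lib.HilbDiff99.natDegree_sub_comp P (d ⟨j, hjn⟩) (hd _) hdeg1
    refine ⟨P - P.comp (X - C ((d ⟨j, hjn⟩ : ℕ) : ℚ)), ?_, ?_, ?_⟩
    · obtain ⟨m₀, hm₀⟩ := hP
      refine ⟨m₀ + d ⟨j, hjn⟩, fun m hm => ?_⟩
      have hdm : d ⟨j, hjn⟩ ≤ m := by omega
      have hstep := hf_step (pI f j) (pI_homog f d hf j) (f ⟨j, hjn⟩) (d ⟨j, hjn⟩) (hf _) hxI m hdm
      rw [hcol, ← pI_succ f j hjn] at hstep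
      rw [eval_sub, eval_comp, eval_sub, eval_X, eval_C, hm₀ m (by omega), ← Nat.cast_sub hdm,
        hm₀ (m - d ⟨j, hjn⟩) (by omega), hstep]
      push_cast
      ring
    · omega
    · rw [e2, hdeg, pd_succ d j hjn]
      have hfac : (n - j).factorial = (n - j) * (n - (j + 1)).factorial := by
        have : n - j = (n - (j + 1)) + 1 := by omega
        rw [this, Nat.factorial_succ]
      have hlc' : ((n - (j + 1)).factorial : ℚ) * ((n - j : ℕ) : ℚ) * P.leadingCoeff = pd d j := by
        rw [← hlc, hfac]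
        push_cast
        ring
      push_cast
      rw [← hlc']
      ring

end Rec

theorem main (k : Type u) [Field k] (n : ℕ)
    (f : Fin n → MvPolynomial (Fin (n + 1)) k) (d : Fin n → ℕ) (hd : ∀ i, 1 ≤ d i)
    (hf : ∀ i, (f i).IsHomogeneous (d i))
    (hdim : ringKrullDim (MvPolynomial (Fin (n + 1)) k ⧸ Ideal.span (Set.range f)) = 1) :
    ∃ m₀ : ℕ, ∀ m : ℕ, m₀ ≤ m →
      Module.finrank k ↥(MvPolynomial.homogeneousSubmodule (Fin (n + 1)) k m) -
        Module.finrank k ↥((Ideal.span (Set.range f)).restrictScalars k ⊓ MvPolynomial.homogeneousSubmodule (Fin (n + 1)) k m) =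
      ∏ i : Fin n, d i := by
  obtain ⟨P, hP, hdeg, hlc⟩ := exists_hp f d hd hf hdim n le_rfl
  rw [Nat.sub_self] at hdeg hlc
  rw [pd_top, Nat.factorial_zero, Nat.cast_one, one_mul] at hlc
  obtain ⟨m₀, hm₀⟩ := hP
  refine ⟨m₀, fun m hm => ?_⟩
  have h1 := hm₀ m hm
  rw [Polynomial.eq_C_of_natDegree_eq_zero hdeg, Polynomial.eval_C] at h1
  have h2 : P.coeff 0 = P.leadingCoeff := by rw [Polynomial.leadingCoeff, hdeg]
  rw [h2, hlc, pI_top] at h1
  have h3 : ((∏ i : Fin n, d i : ℕ) : ℤ) =
      Groth.Agent.Lib.HilbFilt7.hf (Ideal.span (Set.range f)) m := by exact_mod_cast h1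
  unfold Groth.Agent.Lib.HilbFilt7.hf at h3
  haveI := finite_piece (k := k) (n := n) m
  have h4 := Submodule.finrank_mono (inf_le_right :
    Submodule.restrictScalars k (Ideal.span (Set.range f)) ⊓ CohB1.polyGrading n k m ≤
      CohB1.polyGrading n k m)
  show Module.finrank k ↥(CohB1.polyGrading n k m) -
    Module.finrank k ↥(Submodule.restrictScalars k (Ideal.span (Set.range f)) ⊓
      CohB1.polyGrading n k m) = ∏ i : Fin n, d i
  omega

end helpers

/-- Let k be an algebraically closed field and H_1, …, H_n hypersurfaces in P^n given by homogeneous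
polynomials f_1, …, f_n of degrees d_1, …, d_n ≥ 1 in S = k[x_0, …, x_n], meeting in finitely many
points, i.e. S/(f_1, …, f_n) has Krull dimension one. Then the intersection multiplicities of the
H_i at the points of H_1 ∩ ⋯ ∩ H_n add up to d_1 ⋯ d_n; stated here in the form established in the
proof: the Hilbert function of S/(f_1, …, f_n) is eventually the constant Π d_i, i.e. for all large
m, dim_k S_m − dim_k ((f_1, …, f_n) ∩ S_m) = Π d_i (this constant is the degree of O_{H_1} ⊗ ⋯ ⊗
O_{H_n}, the sum of the lengths of its stalks). -/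
theorem result (k : Type u) [Field k] [IsAlgClosed k] (n : ℕ)
    (f : Fin n → MvPolynomial (Fin (n + 1)) k) (d : Fin n → ℕ) (hd : ∀ i, 1 ≤ d i)
    (hf : ∀ i, (f i).IsHomogeneous (d i))
    (hdim : ringKrullDim (MvPolynomial (Fin (n + 1)) k ⧸ Ideal.span (Set.range f)) = 1) :
    ∃ m₀ : ℕ, ∀ m : ℕ, m₀ ≤ m →
      Module.finrank k ↥(MvPolynomial.homogeneousSubmodule (Fin (n + 1)) k m) -
        Module.finrank k ↥((Ideal.span (Set.range f)).restrictScalars k ⊓ MvPolynomial.homogeneousSubmodule (Fin (n + 1)) k m) =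
      ∏ i : Fin n, d i := by
  exact main k n f d hd hf hdim

end Groth.Agent.S14440
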