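import Groth.Statements.S14441
import Mathlib.RingTheory.Smooth.Locus
import Mathlib.RingTheory.Etale.Field
import Mathlib.RingTheory.AlgebraicIndependent.Adjoin
import Mathlib.RingTheory.FinitePresentation
-- import your own Groth.Agent.* helpers here

set_option autoImplicit false
universe u
open Variety

namespace Groth.Agent.S14441

open MvPolynomial in
/-- A separably generated field extension is formally smooth. -/
theorem formallySmooth_of_separablyGenerated (K L : Type u) [Field K] [Field L] [Algebra K L]
    (n : ℕ) (a : Fin n → L) (ha : IsTranscendenceBasis K a)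
    (hsep : Algebra.IsSeparable ↥(IntermediateField.adjoin K (Set.range a)) L) :
    Algebra.FormallySmooth K L := by
  have hind : AlgebraicIndependent K a := ha.1
  let P := MvPolynomial (Fin n) K
  let F := ↥(IntermediateField.adjoin K (Set.range a))
  let b : Fin n → F := fun i => ⟨a i, IntermediateField.subset_adjoin K _ ⟨i, rfl⟩⟩
  let φ : P →ₐ[K] F := MvPolynomial.aeval b
  letI : Algebra P F := φ.toRingHom.toAlgebra
  haveI : IsScalarTower K P F := IsScalarTower.of_algebraMap_eq (fun x => (φ.commutes x).symm)
  have hφ : ∀ p : P, ((φ p : F) : L) = MvPolynomial.aeval a p := by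
    intro p
    have h1 : (IntermediateField.val (IntermediateField.adjoin K (Set.range a))).comp φ =
        MvPolynomial.aeval a := by
      apply MvPolynomial.algHom_ext
      intro i
      simp [φ, b]
    exact congrArg (fun f : P →ₐ[K] L => f p) h1
  let e : FractionRing P ≃ₐ[K] F := hind.aevalEquivField
  have he : ∀ p : P, e (algebraMap P (FractionRing P) p) = algebraMap P F p := by
    intro p
    apply Subtype.ext
    rw [hind.aevalEquivField_algebraMap_apply_coe]
    exact (hφ p).symm
  let e' : FractionRing P ≃ₐ[P] F := AlgEquiv.ofRingEquiv (f := e.toRingEquiv) he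
  haveI : IsLocalization (nonZeroDivisors P) F :=
    IsLocalization.isLocalization_of_algEquiv (nonZeroDivisors P) e'
  haveI : Algebra.FormallySmooth P F := Algebra.FormallySmooth.of_isLocalization (nonZeroDivisors P)
  haveI : Algebra.FormallySmooth K F := Algebra.FormallySmooth.comp K P F
  haveI : Algebra.FormallyEtale F L := Algebra.FormallyEtale.of_isSeparable F L
  haveI : Algebra.FormallySmooth F L := inferInstance
  exact Algebra.FormallySmooth.comp K F L


/-- Let k be an algebraically closed field and f : X → Y a dominant morphism of irreducible varieties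
over k such that the extension of function fields k(X)/k(Y) is separable (has a separating
transcendence basis); then f is smooth on some nonempty open subset of X. Affine form: A → B an
injective k-algebra homomorphism of integral domains of finite type over k, K = Frac A ⊆ L = Frac B,
a_1, …, a_n a transcendence basis of L over K with L separable over K(a_1, …, a_n); then there is g
≠ 0 in B such that every localization B[1/g] is a smooth A-algebra. -/
theorem result (k : Type u) [Field k] [IsAlgClosed k]
    (A B : Type u) [CommRing A] [CommRing B] [IsDomain A] [IsDomain B] [Algebra k A] [Algebra k B] [Algebra A B] [IsScalarTower k A B]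
    [Algebra.FiniteType k A] [Algebra.FiniteType k B] (hinj : Function.Injective (algebraMap A B))
    (K L : Type u) [Field K] [Field L] [Algebra A K] [IsFractionRing A K] [Algebra B L] [IsFractionRing B L]
    [Algebra K L] [Algebra A L] [IsScalarTower A B L] [IsScalarTower A K L]
    (n : ℕ) (a : Fin n → L) (ha : IsTranscendenceBasis K a)
    (hsep : Algebra.IsSeparable ↥(IntermediateField.adjoin K (Set.range a)) L) :
    ∃ g : B, g ≠ 0 ∧ ∀ (C : Type u) [CommRing C] [Algebra B C] [IsLocalization.Away g C] [Algebra A C] [IsScalarTower A B C],
      Algebra.Smooth A C := by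
  have hsm1 : Algebra.FormallySmooth K L := formallySmooth_of_separablyGenerated K L n a ha hsep
  have hsm2 : Algebra.FormallySmooth A K := Algebra.FormallySmooth.of_isLocalization (nonZeroDivisors A)
  have hsm3 : Algebra.FormallySmooth A L := Algebra.FormallySmooth.comp A K L
  have hnoeth : IsNoetherianRing A := Algebra.FiniteType.isNoetherianRing k A
  have hft : Algebra.FiniteType A B := Algebra.FiniteType.of_restrictScalars_finiteType k A B
  have hfp : Algebra.FinitePresentation A B := Algebra.FinitePresentation.of_finiteType.mp hft
  have hbot : (⊥ : Ideal B).IsPrime := Ideal.isPrime_bot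
  have hloc : IsLocalization.AtPrime L (⊥ : Ideal B) := by
    have h0 : (⊥ : Ideal B).primeCompl = nonZeroDivisors B := by
      ext x
      simp [Ideal.primeCompl, mem_nonZeroDivisors_iff_ne_zero]
    show IsLocalization (⊥ : Ideal B).primeCompl L
    rw [h0]
    infer_instance
  let eL : L ≃ₐ[B] Localization.AtPrime (⊥ : Ideal B) :=
    IsLocalization.algEquiv (⊥ : Ideal B).primeCompl L (Localization.AtPrime (⊥ : Ideal B))
  have hat : Algebra.IsSmoothAt A (⊥ : Ideal B) :=
    Algebra.FormallySmooth.of_equiv (eL.restrictScalars A)
  obtain ⟨g, hg, hsmooth⟩ := Algebra.IsSmoothAt.exists_notMem_smooth A (⊥ : Ideal B)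
  refine ⟨g, fun h0 => hg (by rw [h0]; exact Ideal.zero_mem _), ?_⟩
  intro C _ _ _ _ _
  let eC : Localization.Away g ≃ₐ[B] C :=
    IsLocalization.algEquiv (Submonoid.powers g) (Localization.Away g) C
  exact Algebra.Smooth.of_equiv (eC.restrictScalars A)

end Groth.Agent.S14441
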