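import Groth.Statements.S14442
-- import your own Groth.Agent.* helpers here

set_option autoImplicit false
universe u
open GrNak

namespace Groth.Agent.S14442

/-- Let R be a commutative ℕ-graded ring with irrelevant ideal R_+ = ⊕_{i>0} R_i, M an ℕ-graded R-module
and N a graded submodule of M (closed under taking homogeneous components). If M = R_+ M + N then N
= M. (The published statement is for finitely generated ℤ-graded modules over a graded quotient of a
polynomial ring, whose degrees are then bounded below; stated here for non-negatively graded modules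
over any ℕ-graded commutative ring, where the same lowest-degree argument applies without finite
generation.) -/
theorem result {R : Type u} [CommRing R] {σ : Type u} [SetLike σ R] [AddSubmonoidClass σ R]
    (𝒜 : ℕ → σ) [GradedRing 𝒜]
    {M : Type u} [AddCommGroup M] [Module R M] {τ : Type u} [SetLike τ M] [AddSubmonoidClass τ M]
    (ℳ : ℕ → τ) [DirectSum.Decomposition ℳ] [SetLike.GradedSMul 𝒜 ℳ]
    (N : Submodule R M) (hN : ∀ x ∈ N, ∀ i : ℕ, (DirectSum.decompose ℳ x i : M) ∈ N)
    (h : (HomogeneousIdeal.irrelevant 𝒜).toIdeal • (⊤ : Submodule R M) ⊔ N = ⊤) :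
    N = ⊤ := by
  classical
  have key : ∀ d : ℕ, ∀ x : M, x ∈ ℳ d → x ∈ N := by
    intro d
    induction d using Nat.strong_induction_on with
    | _ d IH =>
    intro x hx
    have hxtop : x ∈ (HomogeneousIdeal.irrelevant 𝒜).toIdeal • (⊤ : Submodule R M) ⊔ N := by
      rw [h]; trivial
    obtain ⟨y, hy, n, hn, rfl⟩ := Submodule.mem_sup.1 hxtop
    have h1 : ((DirectSum.decompose ℳ (y + n) d : ℳ d) : M) = y + n :=
      DirectSum.decompose_of_mem_same ℳ hx
    rw [← h1, DirectSum.decompose_add, DirectSum.add_apply, AddMemClass.coe_add]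
    refine N.add_mem ?_ (hN n hn d)
    refine Submodule.smul_induction_on (p := fun y => ((DirectSum.decompose ℳ y d : ℳ d) : M) ∈ N)
      hy ?_ ?_
    · intro r hr m _
      have hr0 : ((DirectSum.decompose 𝒜 r 0 : 𝒜 0) : R) = 0 := by
        have := (HomogeneousIdeal.mem_irrelevant_iff 𝒜 r).1 hr
        simpa [GradedRing.proj_apply] using this
      show ((DirectSum.decompose ℳ (r • m) d : ℳ d) : M) ∈ N
      conv => rw [← DirectSum.sum_support_decompose 𝒜 r]
      rw [Finset.sum_smul, DirectSum.decompose_sum, DFinsupp.finsetSum_apply,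
        AddSubmonoidClass.coe_finsetSum]
      refine N.sum_mem fun a _ => ?_
      by_cases ha : a = 0
      · subst ha
        rw [hr0, zero_smul, DirectSum.decompose_zero]
        simp
      · conv => rw [← DirectSum.sum_support_decompose ℳ m]
        rw [Finset.smul_sum, DirectSum.decompose_sum, DFinsupp.finsetSum_apply,
          AddSubmonoidClass.coe_finsetSum]
        refine N.sum_mem fun b _ => ?_
        have hmem : ((DirectSum.decompose 𝒜 r a : 𝒜 a) : R) •
            ((DirectSum.decompose ℳ m b : ℳ b) : M) ∈ ℳ (a + b) := by
          have := SetLike.GradedSMul.smul_mem (A := 𝒜) (B := ℳ)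
            (Subtype.prop (DirectSum.decompose 𝒜 r a)) (Subtype.prop (DirectSum.decompose ℳ m b))
          simpa [vadd_eq_add] using this
        by_cases hab : a + b = d
        · subst hab
          rw [DirectSum.decompose_of_mem_same ℳ hmem]
          exact N.smul_mem _ (IH b (by omega) _ (Subtype.prop _))
        · rw [DirectSum.decompose_of_mem_ne ℳ hmem hab]
          exact N.zero_mem
    · intro y₁ y₂ h1 h2
      show ((DirectSum.decompose ℳ (y₁ + y₂) d : ℳ d) : M) ∈ N
      rw [DirectSum.decompose_add, DirectSum.add_apply, AddMemClass.coe_add]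
      exact N.add_mem h1 h2
  rw [eq_top_iff]
  intro x _
  rw [← DirectSum.sum_support_decompose ℳ x]
  exact N.sum_mem fun i _ => key i _ (Subtype.prop _)

end Groth.Agent.S14442
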