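import Groth.Statements.S14443
import Groth.Agent.Lib.H87FibOmega
import Groth.Agent.Lib.H30IrrFib
import Groth.Agent.Lib.H14GeomRegAt2
import Groth.Agent.S6462

set_option autoImplicit false
universe u
open CategoryTheory CategoryTheory.Limits AlgebraicGeometry
attribute [local instance] FixPt.fiberModule
open Variety

namespace Groth.Agent.S14443

/-- Let k be an algebraically closed field, f : X → Y a morphism of k-schemes of finite type, x a closed
point of X and Z an irreducible closed subset of the fibre f⁻¹(f(x)) passing through x, of dimension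
r. Then dim_k (Ω_{X/Y})_(x) ≥ r, where (Ω_{X/Y})_(x) = Ω_{X/Y,x} ⊗ k(x) is the fibre of the sheaf of
relative differentials at x, a vector space over k(x) = k (x is closed and k algebraically closed),
regarded as a k-module through k → O_{X,x}. (The published statement is for varieties, i.e. X and Y
reduced and separated; this row assumes neither. Since X is locally of finite type over a field it
is locally Noetherian, so f is quasi-separated; the argument, T_x Z ⊆ ker(df_x) and dim T_x Z ≥ dim
Z, uses neither reducedness nor separatedness.) -/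
theorem result (k : Type u) [Field k] [IsAlgClosed k]
    {X Y : Scheme.{u}} [X.Over (Spec (CommRingCat.of k))] [Y.Over (Spec (CommRingCat.of k))]
    [LocallyOfFiniteType (X ↘ Spec (CommRingCat.of k))] [QuasiCompact (X ↘ Spec (CommRingCat.of k))]
    [LocallyOfFiniteType (Y ↘ Spec (CommRingCat.of k))] [QuasiCompact (Y ↘ Spec (CommRingCat.of k))]
    (f : X ⟶ Y) (hf : f ≫ (Y ↘ Spec (CommRingCat.of k)) = X ↘ Spec (CommRingCat.of k))
    (x : X) (hx : IsClosed ({x} : Set X)) (Z : Set X) (hZ : IsIrreducible Z) (hZc : IsClosed Z) (hxZ : x ∈ Z)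
    (hZf : Z ⊆ f.base ⁻¹' {f.base x}) (r : ℕ) (hr : topologicalKrullDim ↥Z = (r : WithBot ℕ∞)) :
    r ≤ Module.finrank k (FixPt.fiber (Omega.sheaf f) x) := by
  classical
  haveI := Groth.Agent.Lib.H30DimField.isLocallyNoetherian k X
  haveI := Groth.Agent.Lib.H30DimField.isLocallyNoetherian k Y
  haveI := Groth.Agent.Lib.H30DimField.jacobsonSpace k X
  haveI : LocallyOfFiniteType f := Groth.Agent.Lib.H30FlatDim.lft_of_over k X Y f hf
  -- the generic point of `Z`
  obtain ⟨ξ, hξ⟩ : ∃ ξ, IsGenericPoint ξ Z := QuasiSober.sober hZ hZc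
  obtain rfl : closure {ξ} = Z := hξ.def
  have hsp : ξ ⤳ x := specializes_iff_mem_closure.mpr hxZ
  have hfξ : f ξ = f x := hZf (subset_closure rfl)
  have hδ := Groth.Agent.Lib.H30DimField.isDimFun k X
  have h1 := Groth.Agent.S6462.part1 hδ (Groth.Agent.Lib.H30DimField.td_eq_zero_of_isClosed k X) ξ
  rw [hr] at h1
  have h2 := Groth.Agent.S6462.part2 hδ x ξ hsp
  rw [Groth.Agent.Lib.H30DimField.td_eq_zero_of_isClosed k X x hx, sub_zero, ← h1] at h2
  -- ring structures
  letI algkT : Algebra k (X.presheaf.stalk x) := (Curv2.stalkMap k X x).toAlgebra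
  letI algkR : Algebra k (Y.presheaf.stalk (f x)) := (Curv2.stalkMap k Y (f x)).toAlgebra
  letI algRT : Algebra (Y.presheaf.stalk (f x)) (X.presheaf.stalk x) := (f.stalkMap x).hom.toAlgebra
  haveI : IsScalarTower k (Y.presheaf.stalk (f x)) (X.presheaf.stalk x) :=
    .of_algebraMap_eq' (Groth.Agent.Lib.H14GeomRegAt.stalkMap_comp_stalkMap k X Y f hf x).symm
  haveI hprime : (RingHom.ker (Cyc.specMap x ξ hsp)).IsPrime := RingHom.ker_isPrime _
  haveI : IsLocalRing (Cyc.LocQuot x ξ hsp) :=
    .of_surjective' (Ideal.Quotient.mk _) Ideal.Quotient.mk_surjective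
  have hy : IsClosed ({f x} : Set Y) :=
    Groth.Agent.Lib.H30IrrFib.isClosed_map_point k X Y f hf x hx
  have hT := Groth.Agent.Lib.H87FibOmega.bijective_algebraMap_residueField_stalk k X x hx
  have hR := Groth.Agent.Lib.H87FibOmega.bijective_algebraMap_residueField_stalk k Y (f x) hy
  have hzero : ∀ a ∈ IsLocalRing.maximalIdeal (Y.presheaf.stalk (f x)),
      algebraMap (X.presheaf.stalk x) (Cyc.LocQuot x ξ hsp)
        (algebraMap (Y.presheaf.stalk (f x)) (X.presheaf.stalk x) a) = 0 := by
    intro a ha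
    change Ideal.Quotient.mk _ ((f.stalkMap x).hom a) = 0
    rw [Ideal.Quotient.eq_zero_iff_mem, RingHom.mem_ker]
    change (X.residue ξ).hom ((X.presheaf.stalkSpecializes hsp).hom ((f.stalkMap x).hom a)) = 0
    have h3 := Scheme.Hom.stalkSpecializes_stalkMap_apply f ξ x hsp a
    rw [← h3]
    change IsLocalRing.residue _ _ = 0
    rw [IsLocalRing.residue_eq_zero_iff]
    refine map_nonunit (f.stalkMap ξ).hom _ ?_
    -- `a` stays a non-unit in the stalk at `f ξ = f x`
    intro hu
    apply ha
    have hback : f x ⤳ f ξ := (Inseparable.of_eq hfξ.symm).specializes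
    have h4 := (Y.presheaf.stalkSpecializes hback).hom.isUnit_map hu
    rw [← CommRingCat.comp_apply, TopCat.Presheaf.stalkSpecializes_comp,
      TopCat.Presheaf.stalkSpecializes_refl] at h4
    exact h4
  have hPA := Groth.Agent.Lib.H87FibOmega.le_finrank_tensor_kaehler k (Y.presheaf.stalk (f x))
    (X.presheaf.stalk x) (Cyc.LocQuot x ξ hsp)
    (fun a ha => map_nonunit (f.stalkMap x).hom a ha) hR hT Ideal.Quotient.mk_surjective hzero r h2
  obtain ⟨hfin, Ψ, hΨ⟩ := Groth.Agent.Lib.H87FibOmega.exists_surjective_stalk_omega f x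
  have hfib := Groth.Agent.Lib.H87FibOmega.finrank_le_of_surjective_fiber Ψ hΨ k
    (Curv2.stalkMap k X x) hT
  exact hPA.trans hfib

end Groth.Agent.S14443
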