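import Groth.Statements.S14445
import Groth.Agent.Lib.TorsorFpqcIso
import Groth.Agent.Lib.PseudoTorsorPts

set_option autoImplicit false
universe u
open NonAbH1

namespace Groth.Agent.S14445

open CategoryTheory MonoidalCategory CartesianMonoidalCategory AlgebraicGeometry in
/-- Let S be a scheme, G a group scheme over S and X an S-scheme with an action of G. Then X is a
G-torsor for the fpqc topology — the morphism G ×_S X → X ×_S X, (g, x) ↦ (gx, x), is an isomorphism
and X → S acquires sections over the members of some fpqc covering family of S — if and only if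
there are an fpqc covering family of S and, for each member S' → S, an S-morphism s : S' → X for
which the G-equivariant S'-morphism G ×_S S' → X ×_S S', (g, t) ↦ (g·s(t), t), is an isomorphism; in
words, X becomes equivariantly isomorphic to the trivial torsor over each member of the covering.
(The published statement is set in any subcanonical site with fibre products, for an invariant arrow
X → Y; this row is its instance for schemes over S with the fpqc topology and Y = S.) -/
theorem result {S : Scheme.{u}} {G X : Over S} [GrpObj G]
    (a : AlgGrp.Action G X) :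
    NonAbH1.IsTorsorFor Scheme.fpqcPrecoverage a ↔
      ∃ R ∈ Scheme.fpqcPrecoverage S, ∀ ⦃S' : Scheme.{u}⦄ (f : S' ⟶ S), R f →
        ∃ s : Over.mk f ⟶ X, IsIso (lift ((G ◁ s) ≫ a.act) (snd G (Over.mk f))) := by
  open Groth.Agent.Lib.PseudoTorsorPts Groth.Agent.Lib.TorsorFpqcDescent in
  constructor
  · rintro ⟨hps, R, hR, hsec⟩
    refine ⟨R, hR, fun S' f hf => ?_⟩
    obtain ⟨s', hs'⟩ := hsec f hf
    refine ⟨Over.homMk s' hs', ?_⟩
    change IsIso (trivMap a _)
    rw [isIso_trivMap_iff]
    intro W t y
    exact (isPseudoTorsorSch_iff a).mp hps W _ y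
  · rintro ⟨R, hR, H⟩
    refine ⟨?_, R, hR, fun S' f hf => ?_⟩
    · refine isIso_of_whiskerRight_of_mem_fpqcPrecoverage _ hR fun T f hf => ?_
      obtain ⟨s, hs⟩ := H f hf
      change IsIso (trivMap a s) at hs
      rw [isIso_trivMap_iff] at hs
      exact isIso_shear_whiskerRight a (Over.mk f) fun W t x y =>
        simplyTrans_of_basePoint a (t ≫ s) (hs W t) x y
    · obtain ⟨s, -⟩ := H f hf
      exact ⟨s.left, Over.w s⟩

end Groth.Agent.S14445
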