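import Groth.Statements.S14447
import Mathlib
-- import your own Groth.Agent.* helpers here

set_option autoImplicit false
universe w v u
open AlgGrp

namespace Groth.Agent.S14447

open CategoryTheory CategoryTheory.Limits in
/-- Let C be a category with finite products and with all coproducts indexed by sets, and assume that
for every set I and every object U the canonical arrow ∐_{i∈I} U → (∐_{i∈I} pt) × U, whose i-th
component pairs U → pt → ∐_{i∈I} pt (i-th coprojection) with the identity of U, is an isomorphism.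
Then the discrete-object functor from sets to C, I ↦ ∐_{i∈I} pt, preserves finite products. (Sets
are the types of one fixed universe, the one indexing the coproducts. The published statement asks
only for the coproducts of copies of one object; this row assumes that C has all coproducts indexed
by sets, which Mathlib's discrete-object functor sigmaConst requires.) -/
theorem result {C : Type u} [Category.{v} C]
    [HasFiniteProducts C] [HasCoproducts.{w} C]
    (h : ∀ (I : Type w) (U : C), IsIso (Sigma.desc fun i : I =>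
      prod.lift (terminal.from U ≫ Sigma.ι (fun _ : I => ⊤_ C) i) (𝟙 U))) :
    PreservesFiniteProducts (sigmaConst.{w}.obj (⊤_ C)) := by
  classical
  let F : Type w ⥤ C := sigmaConst.{w}.obj (⊤_ C)
  -- terminal object
  have hterm : PreservesLimit (Functor.empty.{0} (Type w)) F := by
    refine preservesLimit_of_preserves_limit_cone Types.isTerminalPUnit ?_
    refine (isLimitMapConeEmptyConeEquiv F PUnit.{w + 1}).symm ?_
    exact IsTerminal.ofIso terminalIsTerminal
      (coproductUniqueIso (fun _ : PUnit.{w + 1} => ⊤_ C)).symm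
  have hterm' : PreservesLimitsOfShape (Discrete PEmpty.{1}) F :=
    preservesLimitsOfShape_pempty_of_preservesTerminal F
  -- binary products
  have hbin : ∀ I J : Type w, PreservesLimit (pair I J) F := by
    intro I J
    refine preservesLimit_of_preserves_limit_cone (Types.binaryProductLimit I J) ?_
    refine (isLimitMapConeBinaryFanEquiv F (↾(Prod.fst : I × J → I)) (↾(Prod.snd : I × J → J))).symm ?_
    let γ : (∐ fun _ : I => (∐ fun _ : J => ⊤_ C)) ⟶ (∐ fun _ : I => ⊤_ C) ⨯ (∐ fun _ : J => ⊤_ C) :=
      Sigma.desc fun i : I => prod.lift (terminal.from (∐ fun _ : J => ⊤_ C) ≫ Sigma.ι (fun _ : I => ⊤_ C) i) (𝟙 (∐ fun _ : J => ⊤_ C))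
    have hγ : IsIso γ := h I (∐ fun _ : J => ⊤_ C)
    let θ : (∐ fun _ : I => (∐ fun _ : J => ⊤_ C)) ⟶ ∐ fun _ : I × J => ⊤_ C :=
      Sigma.desc fun i => Sigma.desc fun j => Sigma.ι (fun _ : I × J => ⊤_ C) (i, j)
    let θinv : (∐ fun _ : I × J => ⊤_ C) ⟶ ∐ fun _ : I => (∐ fun _ : J => ⊤_ C) :=
      Sigma.desc fun p => Sigma.ι (fun _ : J => ⊤_ C) p.2 ≫ Sigma.ι (fun _ : I => (∐ fun _ : J => ⊤_ C)) p.1
    have h1 : θ ≫ θinv = 𝟙 _ := by
      refine Sigma.hom_ext _ _ fun i => Sigma.hom_ext _ _ fun j => ?_
      simp [θ, θinv]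
    have h2 : θinv ≫ θ = 𝟙 _ := by
      refine Sigma.hom_ext _ _ fun p => ?_
      simp [θ, θinv]
    let lft : (∐ fun _ : I × J => ⊤_ C) ⟶ (∐ fun _ : I => ⊤_ C) ⨯ (∐ fun _ : J => ⊤_ C) :=
      prod.lift (F.map (↾(Prod.fst : I × J → I))) (F.map (↾(Prod.snd : I × J → J)))
    have h3 : θ ≫ lft = γ := by
      refine Sigma.hom_ext _ _ fun i => Sigma.hom_ext _ _ fun j => ?_
      have e1 : Sigma.ι (fun _ : J => ⊤_ C) j ≫ terminal.from (∐ fun _ : J => ⊤_ C) = 𝟙 (⊤_ C) :=
        Subsingleton.elim _ _
      apply Limits.prod.hom_ext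
      · simp [θ, lft, γ, F, reassoc_of% e1]
      · simp [θ, lft, γ, F]
        exact (prod.lift_snd _ _).trans (prod.lift_snd _ _).symm
    have h4 : lft = θinv ≫ γ := by
      rw [← h3, ← Category.assoc, h2, Category.id_comp]
    have hiso : IsIso lft := by
      rw [h4]
      have : IsIso θinv := ⟨θ, h2, h1⟩
      infer_instance
    exact IsLimit.ofPointIso (limit.isLimit (pair (F.obj I) (F.obj J)))
      (t := BinaryFan.mk (F.map (↾(Prod.fst : I × J → I))) (F.map (↾(Prod.snd : I × J → J))))
      (i := hiso)
  have hbin' : PreservesLimitsOfShape (Discrete WalkingPair) F :=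
    ⟨fun {K} => preservesLimit_of_iso_diagram F (diagramIsoPair K).symm⟩
  exact Limits.PreservesFiniteProducts.of_preserves_binary_and_terminal F

end Groth.Agent.S14447
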