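import Mathlib
import Groth.Statements.S14448

set_option autoImplicit false
universe u
open Coherent

namespace Groth.Agent.S14448

section Helpers
open CategoryTheory

universe v₁ v₂ u₁ u₂
variable {C : Type u₁} [Category.{v₁} C] {D : Type u₂} [Category.{v₂} D]
  {L₁ L₂ : C ⥤ D} {R₁ R₂ : D ⥤ C}

lemma comp_homEquiv_symm (adj₁ : L₁ ⊣ R₁) (adj₂ : L₂ ⊣ R₂) (e : L₁ ≅ L₂) (r : R₁ ≅ R₂)
    (h : conjugateEquiv adj₁ adj₂ e.inv = r.hom) {A : C} {B : D} (u : A ⟶ R₂.obj B) :
    e.hom.app A ≫ (adj₂.homEquiv A B).symm u = (adj₁.homEquiv A B).symm (u ≫ r.inv.app B) := by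
  rw [Adjunction.homEquiv_counit, Adjunction.homEquiv_counit, Functor.map_comp, Category.assoc]
  have h1 := e.hom.naturality u
  rw [← Category.assoc, ← h1, Category.assoc]
  congr 1
  have h2 := conjugateEquiv_counit adj₁ adj₂ e.inv B
  rw [h] at h2
  have h3 := e.inv.naturality (r.inv.app B)
  -- `e.inv_{R₂ B} ≫ L₁ (r.inv_B) ≫ ε₁ = ε₂`
  have h4 : e.inv.app (R₂.obj B) ≫ L₁.map (r.inv.app B) ≫ adj₁.counit.app B =
      adj₂.counit.app B := by
    rw [← Category.assoc, ← h3, Category.assoc, ← h2, ← Functor.map_comp_assoc]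
    simp
  rw [← h4, ← Category.assoc, ← NatTrans.comp_app, e.hom_inv_id]
  simp

lemma unit_eq (adj₁ : L₁ ⊣ R₁) (adj₂ : L₂ ⊣ R₂) (e : L₁ ≅ L₂) (r : R₁ ≅ R₂)
    (h : conjugateEquiv adj₁ adj₂ e.inv = r.hom) (A : C) :
    adj₂.unit.app A = adj₁.unit.app A ≫ r.hom.app (L₁.obj A) ≫ R₂.map (e.hom.app A) := by
  have h2 := unit_conjugateEquiv adj₁ adj₂ e.inv A
  rw [h] at h2
  rw [← Category.assoc, h2, Category.assoc, ← Functor.map_comp, ← NatTrans.comp_app, e.inv_hom_id]
  simp

lemma comp_homEquiv_symm_comp {E : Type*} [Category E] {Lψ : C ⥤ D} {Rψ : D ⥤ C} {Lφ : D ⥤ E}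
    {Rφ : E ⥤ D} (adjψ : Lψ ⊣ Rψ) (adjφ : Lφ ⊣ Rφ) {A : C} {B₁ : D} {B₂ : E}
    (u : A ⟶ Rψ.obj B₁) (w : B₁ ⟶ Rφ.obj B₂) :
    ((adjψ.comp adjφ).homEquiv A B₂).symm (u ≫ Rψ.map w) =
      Lφ.map ((adjψ.homEquiv A B₁).symm u) ≫ (adjφ.homEquiv B₁ B₂).symm w := by
  simp only [Adjunction.homEquiv_counit, Adjunction.comp_counit_app, Functor.map_comp,
    Category.assoc, Functor.comp_map]
  congr 1
  rw [← Functor.map_comp_assoc, ← Functor.map_comp_assoc, Adjunction.counit_naturality]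

open AlgebraicGeometry Scheme.Modules in
lemma aux {X Y : Scheme.{u}} (f : X ⟶ Y) {N : Y.Modules} {P Q : X.Modules}
    (b : N ⟶ (pushforward f).obj P) (c : P ⟶ Q) (V₁ V₂ : Y.Opens) (hV : V₂ = V₁)
    (W₃ : X.Opens) (hW : W₃ = f ⁻¹ᵁ V₂) (h13 : W₃ = f ⁻¹ᵁ V₁) :
    b.app V₁ ≫ c.app (f ⁻¹ᵁ V₁) ≫ Q.presheaf.map (eqToHom h13).op =
      N.presheaf.map (eqToHom hV).op ≫ b.app V₂ ≫ P.presheaf.map (eqToHom hW).op ≫ c.app W₃ := by
  subst hV
  subst hW
  simp

end Helpers

open AlgebraicGeometry CategoryTheory Scheme.Modules in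
/-- Take two commutative squares of schemes side by side, f : X → Y over φ : U → V (vertical maps ξ : X
→ U and η : Y → V, f ≫ η = ξ ≫ φ) and g : Y → Z over ψ : V → W (vertical map ζ : Z → W, g ≫ ζ = η ≫
ψ), and an O_Z-module L. For a commutative square the base change map β_{f,φ}(M) : φ^* η_* M → ξ_*
f^* M is the adjoint of η_*(unit) : η_* M → η_* f_* f^* M = φ_* ξ_* f^* M, and α denotes the
composition isomorphisms of module pullbacks. Then the composite of α_{φ,ψ}(ζ_* L) : φ^* ψ^* ζ_* L →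
(φ ≫ ψ)^* ζ_* L with β_{f ≫ g, φ ≫ ψ}(L) equals the composite of φ^* β_{g,ψ}(L), β_{f,φ}(g^* L) and
ξ_* α_{f,g}(L), as maps φ^* ψ^* ζ_* L → ξ_* (f ≫ g)^* L. No cartesian or finiteness hypothesis is
made; the outer square is used through any proof hw of its commutativity. -/
theorem result {X Y Z U V W : Scheme.{u}} (f : X ⟶ Y) (g : Y ⟶ Z)
    (ξ : X ⟶ U) (η : Y ⟶ V) (ζ : Z ⟶ W) (φ : U ⟶ V) (ψ : V ⟶ W)
    (h₁ : f ≫ η = ξ ≫ φ) (h₂ : g ≫ ζ = η ≫ ψ) (hw : (f ≫ g) ≫ ζ = ξ ≫ (φ ≫ ψ)) (L : Z.Modules) :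
    (pullbackComp φ ψ).hom.app ((pushforward ζ).obj L) ≫
        (((pullbackPushforwardAdjunction (φ ≫ ψ)).homEquiv ((pushforward ζ).obj L)
            ((pushforward ξ).obj ((pullback (f ≫ g)).obj L))).symm
          ((pushforward ζ).map ((pullbackPushforwardAdjunction (f ≫ g)).unit.app L) ≫
            (pushforwardComp (f ≫ g) ζ).hom.app ((pullback (f ≫ g)).obj L) ≫
            (pushforwardCongr hw).hom.app ((pullback (f ≫ g)).obj L) ≫
            (pushforwardComp ξ (φ ≫ ψ)).inv.app ((pullback (f ≫ g)).obj L))) =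
      (pullback φ).map (((pullbackPushforwardAdjunction ψ).homEquiv ((pushforward ζ).obj L)
            ((pushforward η).obj ((pullback g).obj L))).symm
          ((pushforward ζ).map ((pullbackPushforwardAdjunction g).unit.app L) ≫
            (pushforwardComp g ζ).hom.app ((pullback g).obj L) ≫
            (pushforwardCongr h₂).hom.app ((pullback g).obj L) ≫
            (pushforwardComp η ψ).inv.app ((pullback g).obj L))) ≫
        (((pullbackPushforwardAdjunction φ).homEquiv ((pushforward η).obj ((pullback g).obj L))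
            ((pushforward ξ).obj ((pullback f).obj ((pullback g).obj L)))).symm
          ((pushforward η).map ((pullbackPushforwardAdjunction f).unit.app ((pullback g).obj L)) ≫
            (pushforwardComp f η).hom.app ((pullback f).obj ((pullback g).obj L)) ≫
            (pushforwardCongr h₁).hom.app ((pullback f).obj ((pullback g).obj L)) ≫
            (pushforwardComp ξ φ).inv.app ((pullback f).obj ((pullback g).obj L)))) ≫
        (pushforward ξ).map ((pullbackComp f g).hom.app L) := by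
  rw [Groth.Agent.S14448.comp_homEquiv_symm
    ((pullbackPushforwardAdjunction ψ).comp (pullbackPushforwardAdjunction φ))
    (pullbackPushforwardAdjunction (φ ≫ ψ)) (pullbackComp φ ψ) (pushforwardComp φ ψ)
    (conjugateEquiv_pullbackComp_inv φ ψ)]
  rw [← Adjunction.homEquiv_naturality_right_symm,
    ← Groth.Agent.S14448.comp_homEquiv_symm_comp]
  congr 1
  rw [Groth.Agent.S14448.unit_eq
    ((pullbackPushforwardAdjunction g).comp (pullbackPushforwardAdjunction f))
    (pullbackPushforwardAdjunction (f ≫ g)) (pullbackComp f g) (pushforwardComp f g)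
    (conjugateEquiv_pullbackComp_inv f g) L]
  rw [Adjunction.comp_unit_app]
  ext U : 1
  simp only [Hom.comp_app, pushforward_map_app, pushforwardComp_hom_app_app,
    pushforwardComp_inv_app_app, pushforwardCongr_hom_app_app, Category.assoc]
  erw [Category.id_comp, Category.id_comp, Category.id_comp, Category.comp_id, Category.id_comp,
    Category.id_comp, Category.id_comp, Category.id_comp]
  refine (Category.assoc _ _ _).trans ?_
  refine congrArg (fun t => Hom.app ((pullbackPushforwardAdjunction g).unit.app L) (ζ ⁻¹ᵁ U) ≫ t) ?_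
  refine (Category.assoc _ _ _).trans ?_
  exact Groth.Agent.S14448.aux f ((pullbackPushforwardAdjunction f).unit.app ((pullback g).obj L))
    ((pullbackComp f g).hom.app L) _ _ _ _ _ _

end Groth.Agent.S14448
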