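import Groth.Statements.S14452
import Groth.Agent.Lib.EtFlasque34

set_option autoImplicit false
universe u
open CategoryTheory CategoryTheory.Limits AlgebraicGeometry Opposite
open EtCore

namespace Groth.Agent.S14452

/-- Let X be a scheme and F an abelian sheaf on the small étale site of X such that H^q(W, F|_W) = 0 for
every étale X-scheme W and every q > 0 (F|_W the pullback of F along the structure morphism of W).
Then for every morphism g : V ⟶ U of étale X-schemes which is an open immersion, the restriction map
F(U) → F(V) is surjective. -/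
theorem result {X : Scheme.{u}}
    (F : EtCoh.Ab X)
    (hF : ∀ (W : X.Etale) (q : ℕ), 0 < q → Subsingleton (EtCoh.H W.left ((EtCoh.pull W.hom).obj F) q))
    {U V : X.Etale} (g : V ⟶ U) [IsOpenImmersion g.left] :
    Function.Surjective (F.obj.map g.op).hom := by
  classical
  open Groth.Agent.Lib.FlasqueInj34 Groth.Agent.Lib.EtFlasque34 in
  -- injective embedding `0 → F → I → Q → 0`
  let ι : F ⟶ Injective.under F := Injective.ι F
  let S : ShortComplex (EtCoh.Ab X) := ShortComplex.mk ι (cokernel.π ι) (cokernel.condition ι)
  have hS : S.ShortExact :=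
    { exact := ShortComplex.exact_cokernel ι
      mono_f := inferInstanceAs (Mono ι)
      epi_g := inferInstanceAs (Epi (cokernel.π ι)) }
  haveI : Mono g := (Scheme.Etale.forget X ⋙ Over.forget X).mono_of_mono_map
    (inferInstanceAs (Mono g.left))
  -- exactness on sections
  have hex : ∀ (T : X.Etale) (x : S.X₂.obj.obj (op T)), S.g.hom.app (op T) x = 0 →
      ∃ a : S.X₁.obj.obj (op T), S.f.hom.app (op T) a = x := by
    intro T x hx
    have h1 : (S.map (sheafToPresheaf X.smallEtaleTopology AddCommGrpCat.{u + 1} ⋙
        (evaluation _ _).obj (op T))).Exact :=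
      hS.exact.map_of_mono_of_preservesKernel _ hS.mono_f inferInstance
    rw [ShortComplex.ab_exact_iff] at h1
    exact h1 x hx
  have hinj : ∀ (T : X.Etale), Function.Injective (S.f.hom.app (op T)) := by
    intro T
    have h1 : Mono S.f := hS.mono_f
    have h2 : Mono S.f.hom := inferInstance
    have h3 : Mono (S.f.hom.app (op T)) := inferInstance
    exact (AddCommGrpCat.mono_iff_injective _).1 h3
  intro s
  -- extend `ι s` to a section `t` of `I` over `U`
  obtain ⟨t, ht⟩ := surjective_map_of_injective.{u + 1} X.smallEtaleTopology (Injective.under F) g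
    (S.f.hom.app (op V) s)
  -- the section of `Q` over the doubled scheme: `π t` on the first copy, `0` on the second
  have hq : S.X₃.obj.map g.op (S.g.hom.app (op U) t) = S.X₃.obj.map g.op 0 := by
    rw [map_zero]
    have n := ConcreteCategory.congr_hom (S.g.hom.naturality g.op) t
    simp only [ConcreteCategory.comp_apply] at n
    rw [← n, ht]
    have z := ConcreteCategory.congr_hom (congrArg (fun φ => φ.hom.app (op V)) S.zero) s
    exact z
  obtain ⟨q, hq1, hq2⟩ := dbl_glue g S.X₃ (S.g.hom.app (op U) t) 0 hq
  -- lift `q` to a section `r` of `I` over the doubled scheme, using `H¹(W, F|_W) = 0`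
  obtain ⟨r, hr⟩ : ∃ r : S.X₂.obj.obj (op (dbl g)), S.g.hom.app (op (dbl g)) r = q :=
    surjective_app_of_subsingleton_H_one_etale (dblHom g.left U.hom) hS
      (hF (dbl g) 1 one_pos) q
  obtain ⟨a, ha⟩ := hex U (S.X₂.obj.map (dblInl g).op r - t) (by
    rw [map_sub]
    have n := ConcreteCategory.congr_hom (S.g.hom.naturality (dblInl g).op) r
    simp only [ConcreteCategory.comp_apply] at n
    rw [n, hr, hq1, sub_self])
  obtain ⟨b, hb⟩ := hex U (S.X₂.obj.map (dblInr g).op r) (by
    have n := ConcreteCategory.congr_hom (S.g.hom.naturality (dblInr g).op) r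
    simp only [ConcreteCategory.comp_apply] at n
    rw [n, hr, hq2])
  refine ⟨b - a, ?_⟩
  apply hinj V
  have n := ConcreteCategory.congr_hom (S.f.hom.naturality g.op) (b - a)
  simp only [ConcreteCategory.comp_apply] at n
  refine n.trans ?_
  rw [map_sub, hb, ha, map_sub, map_sub, ht]
  have c : S.X₂.obj.map g.op (S.X₂.obj.map (dblInr g).op r) =
      S.X₂.obj.map g.op (S.X₂.obj.map (dblInl g).op r) := by
    have e1 := ConcreteCategory.congr_hom (S.X₂.obj.map_comp (dblInr g).op g.op) r
    have e2 := ConcreteCategory.congr_hom (S.X₂.obj.map_comp (dblInl g).op g.op) r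
    simp only [ConcreteCategory.comp_apply] at e1 e2
    rw [← e1, ← e2, ← op_comp, ← op_comp, dbl_condition]
  rw [c]
  abel

end Groth.Agent.S14452
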