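import Groth.Statements.S14456
import Mathlib.RingTheory.Flat.Tensor
import Mathlib.RingTheory.Filtration
import Mathlib.LinearAlgebra.TensorProduct.RightExactness
import Mathlib.RingTheory.TensorProduct.Finite

set_option autoImplicit false
universe u
open CAlg

namespace Groth.Agent.S14456


open TensorProduct LinearMap

lemma finite_tensor {A B M N : Type*} [CommRing A] [CommRing B] [Algebra A B]
    [AddCommGroup M] [Module B M] [Module A M] [IsScalarTower A B M] [Module.Finite B M]
    [AddCommGroup N] [Module A N] [Module.Finite A N] : Module.Finite B (M ⊗[A] N) :=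
  Module.Finite.equiv (TensorProduct.AlgebraTensorModule.cancelBaseChange A B B M N)

theorem result' {A B : Type u} [CommRing A] [CommRing B]
    [IsNoetherianRing A] [IsNoetherianRing B] [IsLocalRing B] [Algebra A B]
    (M : Type u) [AddCommGroup M] [Module B M] [Module A M]
    [IsScalarTower A B M] [Module.Finite B M] (f : B) (hf : f ∈ IsLocalRing.maximalIdeal B)
    (hflat : ∀ n : ℕ, Module.Flat A (M ⧸ (Ideal.span {f ^ (n + 1)} • (⊤ : Submodule B M)))) :
    Module.Flat A M := by
  rw [Module.Flat.iff_lTensor_injective]
  intro I hI
  rw [injective_iff_map_eq_zero]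
  intro x hx
  haveI : Module.Finite A I := Module.Finite.iff_fg.mpr hI
  haveI : Module.Finite B (M ⊗[A] I) := finite_tensor
  have hne : Ideal.span {f} ≠ ⊤ := by
    intro h
    have : IsLocalRing.maximalIdeal B = ⊤ :=
      top_le_iff.mp (h ▸ (Ideal.span_singleton_le_iff_mem _).mpr hf)
    exact (IsLocalRing.maximalIdeal.isMaximal B).ne_top this
  have hkrull := Ideal.iInf_pow_smul_eq_bot_of_isLocalRing (M := M ⊗[A] I) (Ideal.span {f}) hne
  have hmem : ∀ i : ℕ, x ∈ (Ideal.span {f} ^ i • ⊤ : Submodule B (M ⊗[A] I)) := by
    intro i
    cases i with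
    | zero => simp
    | succ n =>
      set N : Submodule B M := Ideal.span {f ^ (n + 1)} • (⊤ : Submodule B M) with hN
      let q : M →ₗ[A] (M ⧸ N) := N.mkQ.restrictScalars A
      let ι : N →ₗ[A] M := N.subtype.restrictScalars A
      have hex : Function.Exact ι q := by
        intro m
        simp only [q, ι, LinearMap.coe_restrictScalars, Submodule.mkQ_apply,
          Submodule.Quotient.mk_eq_zero, Set.mem_range, Submodule.subtype_apply, Subtype.exists,
          exists_prop, exists_eq_right]
      have hsurj : Function.Surjective q := N.mkQ_surjective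
      have hex' := rTensor_exact I hex hsurj
      haveI := hflat n
      have hinj : Function.Injective (lTensor (M ⧸ N) I.subtype) :=
        Module.Flat.lTensor_preserves_injective_linearMap _ Subtype.val_injective
      have h0 : rTensor I q x = 0 := by
        apply hinj
        rw [map_zero, ← LinearMap.comp_apply, lTensor_comp_rTensor, ← rTensor_comp_lTensor,
          LinearMap.comp_apply, hx, map_zero]
      have key : ∀ y : N ⊗[A] I, rTensor I ι y ∈
          (Ideal.span {f} ^ (n + 1) • ⊤ : Submodule B (M ⊗[A] I)) := by
        intro y
        induction y using TensorProduct.induction_on with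
        | zero => simp
        | add y z hy hz =>
          rw [map_add]
          exact Submodule.add_mem _ hy hz
        | tmul m a =>
          obtain ⟨m, hm⟩ := m
          rw [hN, Submodule.ideal_span_singleton_smul,
            Submodule.mem_smul_pointwise_iff_exists] at hm
          obtain ⟨m', -, rfl⟩ := hm
          rw [rTensor_tmul]
          change (f ^ (n + 1) • m') ⊗ₜ[A] a ∈ _
          rw [← TensorProduct.smul_tmul']
          exact Submodule.smul_mem_smul (Ideal.pow_mem_pow (Ideal.mem_span_singleton_self f) _)
            Submodule.mem_top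
      obtain ⟨y, hy⟩ := (hex' x).mp h0
      rw [← hy]
      exact key y
  have : x ∈ (⨅ i : ℕ, Ideal.span {f} ^ i • ⊤ : Submodule B (M ⊗[A] I)) :=
    (Submodule.mem_iInf _).mpr hmem
  rw [hkrull] at this
  exact (Submodule.mem_bot _).mp this


/-- Take a local homomorphism A → B between Noetherian local rings, M a finitely generated B-module and
f an element of the maximal ideal of B. If M/f^(n+1)M is flat over A for every n ≥ 0, then M is flat
over A. -/
theorem result {A B : Type u} [CommRing A] [CommRing B]
    [IsNoetherianRing A] [IsNoetherianRing B] [IsLocalRing A] [IsLocalRing B] [Algebra A B]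
    [IsLocalHom (algebraMap A B)] (M : Type u) [AddCommGroup M] [Module B M] [Module A M]
    [IsScalarTower A B M] [Module.Finite B M] (f : B) (hf : f ∈ IsLocalRing.maximalIdeal B)
    (hflat : ∀ n : ℕ, Module.Flat A (M ⧸ (Ideal.span {f ^ (n + 1)} • (⊤ : Submodule B M)))) :
    Module.Flat A M := by
  exact result' M f hf hflat

end Groth.Agent.S14456
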