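import Mathlib
import Groth.Statements.S14457

set_option autoImplicit false
universe u
open CAlg

namespace Groth.Agent.S14457

section Helpers

open Polynomial

variable {A : Type u} [CommRing A]

theorem aux_one_eq_zero (f : A[X]) [Algebra.FormallyUnramified A (AdjoinRoot f)]
    (Q : Type u) [CommRing Q] [Algebra A Q] (ρ : Q) (hfr : aeval ρ f = 0)
    (hfd : aeval ρ (derivative f) = 0) : (1 : Q) = 0 := by
  have e0 : ∀ p : A[X], aeval (TrivSqZeroExt.inl ρ : DualNumber Q) p
      = (TrivSqZeroExt.inlAlgHom A Q Q) (aeval ρ p) := fun p =>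
    aeval_algHom_apply (TrivSqZeroExt.inlAlgHom A Q Q) ρ p
  have h1 : aeval (TrivSqZeroExt.inl ρ : DualNumber Q) f = 0 := by
    rw [e0, hfr, map_zero]
  have h2 : aeval ((TrivSqZeroExt.inl ρ : DualNumber Q) + DualNumber.eps) f = 0 := by
    have he : (DualNumber.eps : DualNumber Q) ^ 2 = 0 := by
      rw [pow_two, DualNumber.eps_mul_eps]
    rw [aeval_add_of_sq_eq_zero _ _ _ he, e0, e0, hfr, hfd, map_zero, zero_mul, add_zero]
  let g1 : AdjoinRoot f →ₐ[A] DualNumber Q :=
    AdjoinRoot.liftAlgHom f (Algebra.ofId A (DualNumber Q)) _ h1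
  let g2 : AdjoinRoot f →ₐ[A] DualNumber Q :=
    AdjoinRoot.liftAlgHom f (Algebra.ofId A (DualNumber Q)) _ h2
  have e1 : g1 (AdjoinRoot.root f) = TrivSqZeroExt.inl ρ := AdjoinRoot.liftAlgHom_root _ _ _ _
  have e2 : g2 (AdjoinRoot.root f) = TrivSqZeroExt.inl ρ + DualNumber.eps :=
    AdjoinRoot.liftAlgHom_root _ _ _ _
  have hg : g1 = g2 := by
    apply Algebra.FormallyUnramified.lift_unique' (TrivSqZeroExt.fstHom A Q Q) ?_ g1 g2 ?_
    · refine ⟨2, ?_⟩
      exact TrivSqZeroExt.kerIdeal_sq Q Q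
    · apply AdjoinRoot.algHom_ext
      show TrivSqZeroExt.fstHom A Q Q (g1 _) = TrivSqZeroExt.fstHom A Q Q (g2 _)
      rw [e1, e2]
      simp
  have h3 : (TrivSqZeroExt.inl ρ : DualNumber Q) = TrivSqZeroExt.inl ρ + DualNumber.eps := by
    rw [← e2, ← hg, e1]
  have := congrArg TrivSqZeroExt.snd h3
  simpa using this.symm

/-- formally unramified `AdjoinRoot f` forces `f'(root)` to be a unit -/
theorem isUnit_deriv_of_unramified (f : A[X])
    [Algebra.FormallyUnramified A (AdjoinRoot f)] :
    IsUnit (aeval (AdjoinRoot.root f) (derivative f)) := by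
  set d : AdjoinRoot f := aeval (AdjoinRoot.root f) (derivative f)
  let q : AdjoinRoot f →ₐ[A] (AdjoinRoot f ⧸ Ideal.span {d}) := Ideal.Quotient.mkₐ A _
  have hd : q d = 0 := Ideal.Quotient.eq_zero_iff_mem.mpr (Ideal.subset_span rfl)
  have hfr : aeval (q (AdjoinRoot.root f)) f = 0 := by
    rw [aeval_algHom_apply, AdjoinRoot.aeval_eq, AdjoinRoot.mk_self, map_zero]
  have hfd : aeval (q (AdjoinRoot.root f)) (derivative f) = 0 := by
    rw [aeval_algHom_apply]; exact hd
  have h4 := aux_one_eq_zero f _ _ hfr hfd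
  have h5 : Ideal.span {d} = ⊤ := by
    rw [← Ideal.Quotient.subsingleton_iff]
    exact subsingleton_of_zero_eq_one h4.symm
  exact Ideal.span_singleton_eq_top.mp h5

theorem etale_of_bezout (f : A[X]) (hf : f.Monic) (p₁ p₂ : A[X])
    (h : derivative f * p₁ + f * p₂ = 1) : Algebra.Etale A (AdjoinRoot f) := by
  let P : StandardEtalePair A := ⟨f, hf, 1, ⟨p₁, p₂, 0, by simpa using h⟩⟩
  have hm : P.HasMap (AdjoinRoot.root f) := by
    refine ⟨?_, ?_⟩
    · show aeval (AdjoinRoot.root f) f = 0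
      rw [AdjoinRoot.aeval_eq, AdjoinRoot.mk_self]
    · show IsUnit (aeval (AdjoinRoot.root f) (1 : A[X]))
      simp
  let φ1 : P.Ring →ₐ[A] AdjoinRoot f := P.lift (AdjoinRoot.root f) hm
  let φ2 : AdjoinRoot f →ₐ[A] P.Ring :=
    AdjoinRoot.liftAlgHom f (Algebra.ofId A P.Ring) P.X P.hasMap_X.1
  have hφ1 : φ1 P.X = AdjoinRoot.root f := P.lift_X _ _
  have hφ2 : φ2 (AdjoinRoot.root f) = P.X := AdjoinRoot.liftAlgHom_root _ _ _ _
  let e : P.Ring ≃ₐ[A] AdjoinRoot f :=
    AlgEquiv.ofAlgHom φ1 φ2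
      (by
        apply AdjoinRoot.algHom_ext
        rw [AlgHom.comp_apply, hφ2, hφ1]; rfl)
      (by
        apply P.hom_ext
        rw [AlgHom.comp_apply, hφ1, hφ2]; rfl)
  exact Algebra.Etale.of_equiv e

theorem deriv_eq (a : A) (n : ℕ) :
    derivative ((X : A[X]) ^ n - C a) = C (n : A) * X ^ (n - 1) := by
  rw [derivative_sub, derivative_X_pow, derivative_C, sub_zero]

end Helpers

open Polynomial in
/-- Let A be a commutative ring, a an element of A and n ≥ 1 an integer. The A-algebra A[T]/(T^n − a) is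
etale exactly when either n = 1 or the product n·a is a unit of A. (The exponent n is a positive
integer here; for n = 0 the quotient is (A/(1 − a))[T] and the equivalence fails.) -/
theorem result (A : Type u) [CommRing A] (a : A) (n : ℕ) (hn : 1 ≤ n) :
    Algebra.Etale A (AdjoinRoot ((X : A[X]) ^ n - C a)) ↔ n = 1 ∨ IsUnit ((n : A) * a) := by
  have hn0 : n ≠ 0 := by omega
  have hmonic : ((X : A[X]) ^ n - C a).Monic := monic_X_pow_sub_C a hn0
  constructor
  · intro hE
    by_cases h1 : n = 1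
    · exact Or.inl h1
    right
    have hn2 : n - 1 ≠ 0 := by omega
    have hd := isUnit_deriv_of_unramified ((X : A[X]) ^ n - C a)
    rw [deriv_eq] at hd
    simp only [map_mul, aeval_C, map_pow, aeval_X] at hd
    rw [IsUnit.mul_iff, isUnit_pow_iff hn2] at hd
    obtain ⟨hnS, hr⟩ := hd
    -- a is a unit
    have ha : IsUnit a := by
      have h0 : eval₂ (Ideal.Quotient.mk (Ideal.span {a})) (0 : A ⧸ Ideal.span {a})
          ((X : A[X]) ^ n - C a) = 0 := by
        rw [eval₂_sub, eval₂_pow, eval₂_X, eval₂_C, zero_pow hn0, zero_sub, neg_eq_zero]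
        exact Ideal.Quotient.eq_zero_iff_mem.mpr (Ideal.subset_span rfl)
      let ψ := AdjoinRoot.lift (Ideal.Quotient.mk (Ideal.span {a})) 0 h0
      have h2 : IsUnit (ψ (AdjoinRoot.root _)) := hr.map ψ
      rw [AdjoinRoot.lift_root, isUnit_zero_iff] at h2
      have h5 : Ideal.span {a} = ⊤ := by
        rw [← Ideal.Quotient.subsingleton_iff]
        exact subsingleton_of_zero_eq_one h2
      exact Ideal.span_singleton_eq_top.mp h5
    -- n is a unit
    have hnA : IsUnit (n : A) := by
      nontriviality A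
      let pb := AdjoinRoot.powerBasis' hmonic
      have hdim : pb.dim = n := by
        show ((X : A[X]) ^ n - C a).natDegree = n
        exact natDegree_X_pow_sub_C
      have h0 : 0 < pb.dim := by omega
      let φ := pb.basis.coord ⟨0, h0⟩
      have hφ1 : φ 1 = 1 := by
        have : (1 : AdjoinRoot ((X : A[X]) ^ n - C a)) = pb.basis ⟨0, h0⟩ := by
          rw [pb.basis_eq_pow]; simp
        rw [this]
        show (pb.basis.repr (pb.basis ⟨0, h0⟩)) ⟨0, h0⟩ = 1
        rw [Module.Basis.repr_self, Finsupp.single_eq_same]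
      obtain ⟨s, hs⟩ := hnS.exists_right_inv
      rw [← Algebra.smul_def] at hs
      have h4 := congrArg φ hs
      rw [map_smul, hφ1, smul_eq_mul] at h4
      exact IsUnit.of_mul_eq_one _ h4
    exact hnA.mul ha
  · rintro (h1 | hu)
    · subst h1
      refine etale_of_bezout _ hmonic 1 0 ?_
      rw [deriv_eq]; simp
    · obtain ⟨u, hu'⟩ := hu.exists_right_inv
      refine etale_of_bezout _ hmonic (C u * X) (- C ((n : A) * u)) ?_
      rw [deriv_eq]
      have hX : (X : A[X]) ^ (n - 1) * X = X ^ n := by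
        rw [← pow_succ]; congr 1; omega
      have : C (n : A) * X ^ (n - 1) * (C u * X) + (X ^ n - C a) * -C ((n : A) * u)
          = C ((n : A) * a * u) := by
        rw [show C (n : A) * X ^ (n - 1) * (C u * X) = C (n : A) * C u * (X ^ (n - 1) * X) by ring,
          hX]
        simp only [map_mul]
        ring
      rw [this, hu', map_one]

end Groth.Agent.S14457
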