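import Groth.Statements.S14458
import Groth.Agent.Lib.NilNakayama
import Mathlib.LinearAlgebra.TensorProduct.Quotient
-- import your own Groth.Agent.* helpers here

set_option autoImplicit false
universe u
open CAlg

namespace Groth.Agent.S14458

open TensorProduct in
/-- Let R be an Artinian local ring with residue field k and M an R-module, not necessarily finitely
generated. If M ⊗_R k = 0 then M = 0. -/
theorem result {R : Type u} [CommRing R]
    [IsArtinianRing R] [IsLocalRing R] (M : Type u) [AddCommGroup M] [Module R M]
    (h : Subsingleton ((IsLocalRing.ResidueField R) ⊗[R] M)) : Subsingleton M := by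
  have hnil : IsNilpotent (IsLocalRing.maximalIdeal R) := by
    have h1 := IsArtinianRing.isNilpotent_jacobson_bot (R := R)
    rwa [IsLocalRing.jacobson_eq_maximalIdeal (⊥ : Ideal R) bot_ne_top] at h1
  let e : (IsLocalRing.ResidueField R) ⊗[R] M ≃ₗ[R]
      M ⧸ (IsLocalRing.maximalIdeal R • (⊤ : Submodule R M)) :=
    TensorProduct.quotTensorEquivQuotSMul M (IsLocalRing.maximalIdeal R)
  have h2 : Subsingleton (M ⧸ (IsLocalRing.maximalIdeal R • (⊤ : Submodule R M))) :=
    e.symm.toEquiv.subsingleton
  have h3 : IsLocalRing.maximalIdeal R • (⊤ : Submodule R M) = ⊤ :=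
    Submodule.Quotient.subsingleton_iff.1 h2
  have h4 : (⊥ : Submodule R M) = ⊤ :=
    Groth.Agent.Lib.NilNakayama.eq_top_of_top_le_sup_smul (IsLocalRing.maximalIdeal R) hnil ⊥
      (by rw [h3]; exact le_sup_right)
  exact (Submodule.subsingleton_iff R).1 (subsingleton_of_bot_eq_top h4)

end Groth.Agent.S14458
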