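import Mathlib
import Groth.Statements.S14478

set_option autoImplicit false
universe u
open CharCyc

namespace Groth.Agent.S14478

section Helpers

variable {k V : Type*} [Field k] [AddCommGroup V] [Module k V] [FiniteDimensional k V]

/-- Two subspaces of the same dimension avoid a common vector unless they are everything. -/
theorem exists_notMem_notMem (P Q : Submodule k V)
    (h : Module.finrank k P = Module.finrank k Q) (hP : P ≠ ⊤) :
    ∃ v : V, v ∉ P ∧ v ∉ Q := by
  by_cases hPQ : P = Q
  · subst hPQ
    obtain ⟨v, -, hv⟩ := SetLike.exists_of_lt (lt_top_iff_ne_top.mpr hP)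
    exact ⟨v, hv, hv⟩
  · have h1 : ¬ P ≤ Q := fun hle => hPQ (Submodule.eq_of_le_of_finrank_eq hle h)
    have h2 : ¬ Q ≤ P := fun hle => hPQ (Submodule.eq_of_le_of_finrank_eq hle h.symm).symm
    obtain ⟨p, hpP, hpQ⟩ := SetLike.not_le_iff_exists.mp h1
    obtain ⟨q, hqQ, hqP⟩ := SetLike.not_le_iff_exists.mp h2
    refine ⟨p + q, ?_, ?_⟩
    · intro hv; exact hqP (by simpa using P.sub_mem hv hpP)
    · intro hv; exact hpQ (by simpa using Q.sub_mem hv hqQ)

theorem finrank_sup_span_singleton (P : Submodule k V) (v : V) (hv : v ∉ P) :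
    Module.finrank k ↥(P ⊔ Submodule.span k {v}) = Module.finrank k P + 1 := by
  have hv0 : v ≠ 0 := fun h => hv (h ▸ P.zero_mem)
  have hdisj : P ⊓ Submodule.span k {v} = ⊥ := by
    rw [← disjoint_iff]
    exact (Submodule.disjoint_span_singleton' hv0).mpr hv
  have := Submodule.finrank_sup_add_finrank_inf_eq P (Submodule.span k {v})
  rw [hdisj, finrank_bot, add_zero, finrank_span_singleton hv0] at this
  exact this

omit [FiniteDimensional k V] in
theorem isCompl_sup_span_of_isCompl (P C' : Submodule k V) (v : V) (hv : v ∉ P)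
    (h : IsCompl (P ⊔ Submodule.span k {v}) C') : IsCompl P (C' ⊔ Submodule.span k {v}) := by
  constructor
  · rw [Submodule.disjoint_def]
    intro x hxP hxC
    obtain ⟨c, hc, w, hw, rfl⟩ := Submodule.mem_sup.mp hxC
    obtain ⟨a, rfl⟩ := Submodule.mem_span_singleton.mp hw
    have hc0 : c = 0 := by
      have h1 : c ∈ P ⊔ Submodule.span k {v} := by
        have : c = (c + a • v) - a • v := by abel
        rw [this]
        exact Submodule.sub_mem _ (Submodule.mem_sup_left hxP)
          (Submodule.mem_sup_right (Submodule.smul_mem _ _ (Submodule.mem_span_singleton_self v)))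
      exact (Submodule.disjoint_def.mp h.disjoint) c h1 hc
    rw [hc0, zero_add] at hxP ⊢
    by_cases ha : a = 0
    · rw [ha, zero_smul]
    · exfalso
      apply hv
      have := P.smul_mem a⁻¹ hxP
      rwa [smul_smul, inv_mul_cancel₀ ha, one_smul] at this
  · rw [codisjoint_iff, sup_comm C', ← sup_assoc]
    exact codisjoint_iff.mp h.codisjoint

/-- Two subspaces of the same dimension have a common complement. -/
theorem exists_common_isCompl (P Q : Submodule k V)
    (h : Module.finrank k P = Module.finrank k Q) :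
    ∃ C : Submodule k V, IsCompl P C ∧ IsCompl Q C := by
  obtain ⟨m, hm⟩ : ∃ m, m = Module.finrank k V - Module.finrank k P := ⟨_, rfl⟩
  induction m generalizing P Q with
  | zero =>
    have hPV : Module.finrank k P = Module.finrank k V :=
      le_antisymm (Submodule.finrank_le P) (by omega)
    have hP : P = ⊤ := Submodule.eq_top_of_finrank_eq hPV
    have hQ : Q = ⊤ := Submodule.eq_top_of_finrank_eq (by rw [← h, hPV])
    exact ⟨⊥, hP ▸ isCompl_top_bot, hQ ▸ isCompl_top_bot⟩
  | succ m ih =>
    have hP : P ≠ ⊤ := by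
      intro hP
      rw [hP, finrank_top] at hm
      omega
    obtain ⟨v, hvP, hvQ⟩ := exists_notMem_notMem P Q h hP
    have h1 := finrank_sup_span_singleton P v hvP
    have h2 := finrank_sup_span_singleton Q v hvQ
    obtain ⟨C', hPC, hQC⟩ := ih (P ⊔ Submodule.span k {v}) (Q ⊔ Submodule.span k {v})
      (by rw [h1, h2, h]) (by rw [h1]; omega)
    exact ⟨C' ⊔ Submodule.span k {v}, isCompl_sup_span_of_isCompl P C' v hvP hPC,
      isCompl_sup_span_of_isCompl Q C' v hvQ hQC⟩

end Helpers

/-- Let V be a finite-dimensional vector space over a field k, let W = V × V^∨ with V^∨ the dual space,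
and let T ⊆ W be a subspace with dim T = dim V; put V₁ = V ∩ T, where V sits in W as V × 0. Then
there is a complement V₂ of V₁ in V with the following property: for every injective linear map A₁ :
V₁ → V₁^∨, the map A : V → V^∨ extending A₁ by zero along the decompositions V = V₁ ⊕ V₂ and V^∨ =
V₁^∨ ⊕ V₂^∨ (so A v = A₁(p v) ∘ p, with p : V → V₁ the projection along V₂) has graph Γ ⊆ W with Γ ∩
T = 0. -/
theorem result (k V : Type u) [Field k] [AddCommGroup V] [Module k V]
    [FiniteDimensional k V] (T : Submodule k (V × Module.Dual k V))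
    (hT : Module.finrank k T = Module.finrank k V) :
    ∃ (V₂ : Submodule k V) (h : IsCompl (T.comap (LinearMap.inl k V (Module.Dual k V))) V₂),
      ∀ A₁ : T.comap (LinearMap.inl k V (Module.Dual k V)) →ₗ[k]
          Module.Dual k (T.comap (LinearMap.inl k V (Module.Dual k V))),
        Function.Injective A₁ →
          LinearMap.graph ((Submodule.projectionOnto _ V₂ h).dualMap ∘ₗ A₁ ∘ₗ
              Submodule.projectionOnto _ V₂ h) ⊓ T = ⊥ := by
  let f : T →ₗ[k] Module.Dual k V := (LinearMap.snd k V (Module.Dual k V)).domRestrict T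
  let Φ : Submodule k (Module.Dual k V) := LinearMap.range f
  have hrn := @LinearMap.finrank_range_add_finrank_ker k T _ _ _ (Module.Dual k V) _ _ _ f
  let g : T.comap (LinearMap.inl k V (Module.Dual k V)) →ₗ[k] LinearMap.ker f :=
    LinearMap.codRestrict _
      (LinearMap.codRestrict T ((LinearMap.inl k V (Module.Dual k V)).comp (Submodule.subtype _))
        (fun v => v.2))
      (fun v => by
        rw [LinearMap.mem_ker]
        rfl)
  have hg : Function.Bijective g := by
    constructor
    · intro v w hvw
      have := congrArg (fun x : LinearMap.ker f => (x : T).1.1) hvw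
      exact Subtype.ext this
    · rintro ⟨⟨⟨v, φ⟩, ht⟩, hk⟩
      have hφ : φ = 0 := by
        have := LinearMap.mem_ker.mp hk
        exact this
      subst hφ
      exact ⟨⟨v, ht⟩, rfl⟩
  have hker : Module.finrank k (LinearMap.ker f) =
      Module.finrank k (T.comap (LinearMap.inl k V (Module.Dual k V))) :=
    (LinearEquiv.ofBijective g hg).finrank_eq.symm
  have hΦ : Module.finrank k Φ.dualCoannihilator =
      Module.finrank k (T.comap (LinearMap.inl k V (Module.Dual k V))) := by
    have h1 := Subspace.finrank_add_finrank_dualCoannihilator_eq Φ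
    have h2 : Module.finrank k Φ + Module.finrank k (LinearMap.ker f) = Module.finrank k V := by
      rw [← hT]; exact hrn
    rw [hker] at h2
    omega
  obtain ⟨V₂, h1, h2⟩ := exists_common_isCompl _ Φ.dualCoannihilator hΦ.symm
  refine ⟨V₂, h1, ?_⟩
  intro A₁ hA₁
  rw [eq_bot_iff]
  rintro ⟨v, φ⟩ ⟨hgr, hT'⟩
  rw [SetLike.mem_coe, LinearMap.mem_graph_iff] at hgr
  simp only [LinearMap.coe_comp, Function.comp_apply] at hgr
  -- φ ∈ Φ
  have hφΦ : φ ∈ Φ := ⟨⟨(v, φ), hT'⟩, rfl⟩
  -- φ vanishes on V₂
  have hφV₂ : φ ∈ V₂.dualAnnihilator := by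
    rw [Submodule.mem_dualAnnihilator]
    intro w hw
    rw [hgr, LinearMap.dualMap_apply]
    have : Submodule.projectionOnto _ V₂ h1 w = 0 :=
      (Submodule.projectionOnto_apply_eq_zero_iff h1).mpr hw
    rw [this, map_zero]
  have hφ0 : φ = 0 := by
    have h3 : φ ∈ Φ.dualCoannihilator.dualAnnihilator := by
      rw [Subspace.dualCoannihilator_dualAnnihilator_eq]; exact hφΦ
    have h4 : φ ∈ (Φ.dualCoannihilator ⊔ V₂).dualAnnihilator := by
      rw [Submodule.dualAnnihilator_sup_eq]; exact ⟨h3, hφV₂⟩
    rw [codisjoint_iff.mp h2.codisjoint, Submodule.dualAnnihilator_top] at h4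
    exact (Submodule.mem_bot k).mp h4
  have hpv : Submodule.projectionOnto _ V₂ h1 v = 0 := by
    apply hA₁
    rw [map_zero]
    have hinj : Function.Injective (Submodule.projectionOnto _ V₂ h1).dualMap :=
      LinearMap.dualMap_injective_of_surjective (Submodule.projectionOnto_surjective h1)
    apply hinj
    rw [map_zero, ← hφ0, hgr]
  have hvV₂ : v ∈ V₂ := (Submodule.projectionOnto_apply_eq_zero_iff h1).mp hpv
  have hvV₁ : v ∈ T.comap (LinearMap.inl k V (Module.Dual k V)) := by
    rw [Submodule.mem_comap]
    rw [hφ0] at hT'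
    exact hT'
  have hv0 : v = 0 := (Submodule.disjoint_def.mp h1.disjoint) v hvV₁ hvV₂
  rw [Submodule.mem_bot, hv0, hφ0]
  rfl

end Groth.Agent.S14478
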