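import Groth.Statements.S14479
import Mathlib.LinearAlgebra.Matrix.BilinearForm
import Mathlib.LinearAlgebra.Matrix.Block
import Mathlib.Algebra.CharP.Two
-- import your own Groth.Agent.* helpers here

set_option autoImplicit false
universe u
open CharCyc

namespace Groth.Agent.S14479

open Matrix in
theorem toMatrix_add_flip {k V ι : Type*} [Field k] [AddCommGroup V] [Module k V] [Fintype ι] [DecidableEq ι]
    (b : Module.Basis ι k V) (M : Matrix ι ι k) :
    LinearMap.BilinForm.toMatrix b (Matrix.toBilin b M + (Matrix.toBilin b M).flip) = M + Mᵀ := by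
  rw [map_add]
  congr 1
  · exact LinearMap.BilinForm.toMatrix_toBilin b M
  · ext i j
    rw [LinearMap.BilinForm.toMatrix_apply]
    change (Matrix.toBilin b M) (b j) (b i) = M j i
    rw [← LinearMap.BilinForm.toMatrix_apply b, LinearMap.BilinForm.toMatrix_toBilin]


/-- Let V be a finite-dimensional vector space over a field k. If dim V is even or the characteristic of
k is different from 2, there is a bilinear form B on V such that the bilinear form (v, w) ↦ B(v, w)
+ B(w, v) (B plus its transpose, as a map V → V^∨) is nondegenerate. -/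
theorem result (k V : Type u) [Field k] [AddCommGroup V] [Module k V]
    [FiniteDimensional k V] (h : Even (Module.finrank k V) ∨ ringChar k ≠ 2) :
    ∃ B : LinearMap.BilinForm k V, (B + B.flip).Nondegenerate := by
  classical
  rcases h with h | h
  · obtain ⟨m, hm⟩ := h
    let e : Fin (Module.finrank k V) ≃ Fin m ⊕ Fin m := (finCongr hm).trans finSumFinEquiv.symm
    let b : Module.Basis (Fin m ⊕ Fin m) k V := (Module.finBasis k V).reindex e
    let M : Matrix (Fin m ⊕ Fin m) (Fin m ⊕ Fin m) k := Matrix.fromBlocks 0 1 0 0
    refine ⟨Matrix.toBilin b M, ?_⟩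
    refine (LinearMap.BilinForm.nondegenerate_iff_det_ne_zero b).mpr ?_
    rw [toMatrix_add_flip]
    have hP : M + M.transpose = Matrix.fromBlocks 0 1 1 0 := by
      simp only [M, Matrix.fromBlocks_transpose, Matrix.fromBlocks_add]
      simp
    rw [hP]
    have hsq : (Matrix.fromBlocks (0 : Matrix (Fin m) (Fin m) k) (1 : Matrix (Fin m) (Fin m) k) (1 : Matrix (Fin m) (Fin m) k) (0 : Matrix (Fin m) (Fin m) k)) * Matrix.fromBlocks 0 1 1 0 = 1 := by
      rw [Matrix.fromBlocks_multiply]
      simp [Matrix.fromBlocks_one]
    intro hdet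
    have := congrArg Matrix.det hsq
    rw [Matrix.det_mul, hdet, mul_zero, Matrix.det_one] at this
    exact zero_ne_one this
  · let b := Module.finBasis k V
    refine ⟨Matrix.toBilin b 1, ?_⟩
    refine (LinearMap.BilinForm.nondegenerate_iff_det_ne_zero b).mpr ?_
    rw [toMatrix_add_flip, Matrix.transpose_one]
    have h2 : (2 : k) ≠ 0 := Ring.two_ne_zero h
    have : (1 + 1 : Matrix (Fin (Module.finrank k V)) (Fin (Module.finrank k V)) k) = (2 : k) • 1 := by
      rw [two_smul]
    rw [this, Matrix.det_smul, Matrix.det_one, mul_one]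
    exact pow_ne_zero _ h2

end Groth.Agent.S14479
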