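import Groth.Statements.S14480
import Groth.Agent.Lib.FibreDimStrata

set_option autoImplicit false
universe u
open CategoryTheory AlgebraicGeometry
open CharCyc

namespace Groth.Agent.S14480

theorem topologicalKrullDim_eq_bot_of_isEmpty (T : Type*) [TopologicalSpace T] [IsEmpty T] :
    topologicalKrullDim T = ⊥ := by
  haveI : IsEmpty (TopologicalSpace.IrreducibleCloseds T) :=
    ⟨fun Z => by
      obtain ⟨t, -⟩ := Z.isIrreducible.nonempty
      exact isEmptyElim t⟩
  unfold topologicalKrullDim
  exact Order.krullDim_eq_bot

/-- Let k be a field, let π : C → X be a morphism between k-schemes of finite type, and let n be a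
natural number. For j ≥ 0 let B_j ⊆ X be the set of points x whose fibre π⁻¹(x) has dimension at
least j (so B_0 is the image of π). Then dim C ≤ n if and only if, for every j, the closure of B_j
in X has dimension at most n − j. Dimensions are topological Krull dimensions with the empty space
of dimension ⊥, and the inequality is written additively as dim cl(B_j) + j ≤ n. -/
theorem result (k : Type u) [Field k] (C X : Scheme.{u})
    (q : X ⟶ Spec (CommRingCat.of k)) (π : C ⟶ X)
    [LocallyOfFiniteType q] [CompactSpace X] [LocallyOfFiniteType π] [CompactSpace C] (n : ℕ) :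
    topologicalKrullDim C ≤ n ↔
      ∀ j : ℕ, topologicalKrullDim (closure {x : X | (j : WithBot ℕ∞) ≤ topologicalKrullDim (π.fiber x)}) +
        (j : WithBot ℕ∞) ≤ n := by
  letI iX : X.Over (Spec (CommRingCat.of k)) := ⟨q⟩
  letI iC : C.Over (Spec (CommRingCat.of k)) := ⟨π ≫ q⟩
  haveI hqX : LocallyOfFiniteType (X ↘ Spec (CommRingCat.of k)) := ‹LocallyOfFiniteType q›
  haveI hqC : LocallyOfFiniteType (C ↘ Spec (CommRingCat.of k)) := by
    show LocallyOfFiniteType (π ≫ q)
    infer_instance
  have hadd : ∀ c : C, Groth.Agent.Lib.H30DimField.td k C c =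
      Groth.Agent.Lib.H30DimField.td k X (π c) + (Groth.Agent.Lib.H30DimRel.rt π c : ℤ) :=
    fun c => Groth.Agent.Lib.H30FlatDim.td_eq_add k C X π rfl c
  haveI := Groth.Agent.Lib.H30DimField.jacobsonSpace k C
  -- the dimension of `C` via transcendence degrees
  have hC : topologicalKrullDim C ≤ n ↔ ∀ c : C, Groth.Agent.Lib.H30DimField.td k C c ≤ n := by
    constructor
    · intro h c
      have h1 := Groth.Agent.S6462.part1 (Groth.Agent.Lib.H30DimField.isDimFun k C)
        (Groth.Agent.Lib.H30DimField.td_eq_zero_of_isClosed k C) c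
      have h2 := (topologicalKrullDim_subspace_le C (closure {c})).trans h
      rw [h1] at h2
      have h3 : (Groth.Agent.Lib.H30DimField.td k C c).toNat ≤ n := by exact_mod_cast h2
      have := Groth.Agent.Lib.H30DimField.td_nonneg k C c
      omega
    · intro h
      exact Groth.Agent.Lib.H30DimField.krullDim_le _
        (Groth.Agent.Lib.H30DimField.isDimensionFunction_of_isDimFun
          (Groth.Agent.Lib.H30DimField.isDimFun k C))
        (fun c => Groth.Agent.Lib.H30DimField.td_nonneg k C c) n h
  constructor
  · intro h j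
    rw [hC] at h
    haveI : IsLocallyNoetherian C := Groth.Agent.Lib.H30DimField.isLocallyNoetherian k C
    haveI : IsNoetherian C := {}
    -- every point of the closure has small transcendence degree
    have hclaim : ∀ z ∈ closure {x : X | (j : WithBot ℕ∞) ≤ topologicalKrullDim (π.fiber x)},
        Groth.Agent.Lib.H30DimField.td k X z + j ≤ n := by
      intro z hz
      have hsub : {x : X | (j : WithBot ℕ∞) ≤ topologicalKrullDim (π.fiber x)} ⊆
          π '' {c : C | (j : WithBot ℕ∞) ≤ FlatMor.fibreDimAt π c} := by
        intro x hx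
        obtain ⟨c, hc, hjc⟩ :=
          Groth.Agent.Lib.FibreDimStrata.exists_rt_ge_of_le_dim_fiber π x j hx
        refine ⟨c, ?_, hc⟩
        refine le_trans ?_ (Groth.Agent.Lib.FibreDimStrata.rt_le_fibreDimAt π c)
        exact_mod_cast hjc
      obtain ⟨t, ht, htz⟩ := Groth.Agent.Lib.FibreDimStrata.exists_specializes_of_mem_closure_image
        π π.continuous _ (Groth.Agent.Lib.FibreDimStrata.isClosed_le_fibreDimAt π j) z
        (closure_mono hsub hz)
      have h1 : (j : WithBot ℕ∞) ≤ topologicalKrullDim (π.fiber (π t)) :=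
        le_trans ht (Groth.Agent.Lib.FibreDimStrata.fibreDimAt_le_dim_fiber π t)
      obtain ⟨c', hc', hjc'⟩ :=
        Groth.Agent.Lib.FibreDimStrata.exists_rt_ge_of_le_dim_fiber π (π t) j h1
      have h2 := hadd c'
      rw [hc'] at h2
      have h3 := h c'
      have h4 := Groth.Agent.S6462.delta_le_of_specializes
        (Groth.Agent.Lib.H30DimField.isDimFun k X) htz
      omega
    by_cases hemp : IsEmpty ↥(closure {x : X | (j : WithBot ℕ∞) ≤ topologicalKrullDim (π.fiber x)})
    · haveI := hemp
      rw [topologicalKrullDim_eq_bot_of_isEmpty, WithBot.bot_add]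
      exact bot_le
    · rw [not_isEmpty_iff] at hemp
      obtain ⟨⟨z₀, hz₀⟩⟩ := hemp
      have hjn : j ≤ n := by
        have := hclaim z₀ hz₀
        have := Groth.Agent.Lib.H30DimField.td_nonneg k X z₀
        omega
      have hle := Groth.Agent.Lib.FibreDimStrata.dim_closed_le k X _ isClosed_closure (n - j)
        (fun z hz => by
          have := hclaim z hz
          have h5 : ((n - j : ℕ) : ℤ) = (n : ℤ) - j := by omega
          rw [h5]
          omega)
      calc topologicalKrullDim
            ↥(closure {x : X | (j : WithBot ℕ∞) ≤ topologicalKrullDim (π.fiber x)}) + (j : WithBot ℕ∞)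
          ≤ ((n - j : ℕ) : WithBot ℕ∞) + (j : WithBot ℕ∞) := by gcongr
        _ = (n : WithBot ℕ∞) := by
          have : (n - j) + j = n := by omega
          exact_mod_cast this
  · intro h
    rw [hC]
    intro c
    have hx : π c ∈ closure {x : X | ((Groth.Agent.Lib.H30DimRel.rt π c : ℕ) : WithBot ℕ∞) ≤
        topologicalKrullDim (π.fiber x)} :=
      subset_closure (Groth.Agent.Lib.FibreDimStrata.rt_le_dim_fiber π c)
    have h1 := Groth.Agent.Lib.FibreDimStrata.td_le_dim_closed k X _ isClosed_closure (π c) hx
    have h2 := h (Groth.Agent.Lib.H30DimRel.rt π c)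
    have h3 : (((Groth.Agent.Lib.H30DimField.td k X (π c)).toNat : ℕ) : WithBot ℕ∞) +
        ((Groth.Agent.Lib.H30DimRel.rt π c : ℕ) : WithBot ℕ∞) ≤ n :=
      le_trans (by gcongr) h2
    have h4 : (Groth.Agent.Lib.H30DimField.td k X (π c)).toNat +
        Groth.Agent.Lib.H30DimRel.rt π c ≤ n := by exact_mod_cast h3
    have h5 := Groth.Agent.Lib.H30DimField.td_nonneg k X (π c)
    have h6 := hadd c
    omega

end Groth.Agent.S14480
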