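import Groth.Statements.S14481
import Groth.Agent.Lib.H8LocClosedDim
import Groth.Agent.Lib.H8RegImmDim2
import Groth.Agent.Lib.H30IrrFib

set_option autoImplicit false
universe u
open CategoryTheory AlgebraicGeometry
open CharCyc

namespace Groth.Agent.S14481

open Groth.Agent.Lib.H30DimField Groth.Agent.Lib.H30DimRel Groth.Agent.Lib.H30FlatDim
  Groth.Agent.Lib.H30IrrFib Groth.Agent.Lib.H8RegImmDim Groth.Agent.Lib.H8LocClosedDim

theorem dim_eq_bot_of_isEmpty (T : Type*) [TopologicalSpace T] [IsEmpty T] :
    topologicalKrullDim T = ⊥ := by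
  haveI : IsEmpty (TopologicalSpace.IrreducibleCloseds T) :=
    ⟨fun Z => by
      obtain ⟨t, -⟩ := Z.isIrreducible.nonempty
      exact isEmptyElim t⟩
  unfold topologicalKrullDim
  exact Order.krullDim_eq_bot

theorem quasiCompact_of_isImmersion {W X : Scheme.{u}} (ι : W ⟶ X) [IsImmersion ι]
    [IsLocallyNoetherian X] : QuasiCompact ι := by
  rw [← ι.liftCoborder_ι]
  infer_instance

/-- Krull's height theorem: lower bound for the dimension of components of the preimage of a
subscheme locally cut out by `c` equations. -/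
theorem lower_bound (k : Type u) [Field k] (C X W : Scheme.{u})
    (q : X ⟶ Spec (CommRingCat.of k)) (π : C ⟶ X) (ι : W ⟶ X)
    [LocallyOfFiniteType q] [CompactSpace X] [LocallyOfFiniteType π] [CompactSpace C]
    [IsImmersion ι] (c : ℕ)
    (hloc : ∀ w : W, ∃ U : X.affineOpens, ι w ∈ U.1 ∧ IsClosedImmersion (ι ∣_ U.1) ∧
      ∃ rs : List Γ(X, U.1), rs.length = c ∧ RingHom.ker (ι.app U.1).hom = Ideal.ofList rs)
    (P : Set C) (hP : P ∈ irreducibleComponents C) (s : C) (hsP : s ∈ P)
    (hsM : π s ∈ Set.range ι)
    (hmax : ∀ s' : C, s' ∈ P → π s' ∈ Set.range ι → s' ⤳ s → s' = s) :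
    letI : C.Over (Spec (CommRingCat.of k)) := ⟨π ≫ q⟩
    haveI : LocallyOfFiniteType (C ↘ Spec (CommRingCat.of k)) :=
      inferInstanceAs (LocallyOfFiniteType (π ≫ q))
    topologicalKrullDim ↥P ≤ (((td k C s).toNat : ℕ) : WithBot ℕ∞) + c := by
  letI iX : X.Over (Spec (CommRingCat.of k)) := ⟨q⟩
  haveI : LocallyOfFiniteType (X ↘ Spec (CommRingCat.of k)) := ‹LocallyOfFiniteType q›
  letI iC : C.Over (Spec (CommRingCat.of k)) := ⟨π ≫ q⟩
  haveI : LocallyOfFiniteType (C ↘ Spec (CommRingCat.of k)) :=
    inferInstanceAs (LocallyOfFiniteType (π ≫ q))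
  haveI := isLocallyNoetherian k C
  haveI := isLocallyNoetherian k X
  haveI : IsNoetherian C := {}
  haveI : QuasiCompact ι := quasiCompact_of_isImmersion ι
  let Z := C.irreducibleComponent P hP
  let j : Z ⟶ C := C.irreducibleComponentι P hP
  letI iZ : Z.Over (Spec (CommRingCat.of k)) := ⟨j ≫ π ≫ q⟩
  haveI : LocallyOfFiniteType (Z ↘ Spec (CommRingCat.of k)) :=
    inferInstanceAs (LocallyOfFiniteType (j ≫ π ≫ q))
  haveI := isLocallyNoetherian k Z
  let z : Z := ⟨s, hsP⟩
  have hjz : j z = s := rfl
  obtain ⟨w, hw⟩ := hsM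
  obtain ⟨U, hwU, hcl, rs, hlen, hker⟩ := hloc w
  have hgz : (j ≫ π) z = π s := by
    rw [Scheme.Hom.comp_apply, hjz]
  have hstalk : ringKrullDim (Z.presheaf.stalk z) ≤ (c : WithBot ℕ∞) := by
    rw [← hlen]
    apply stalk_dim_le' ι (j ≫ π) U hcl rs hker z
    · rw [hgz, ← hw]
      exact hwU
    · rw [hgz]
      exact ⟨w, hw⟩
    · intro z' hz' hz'r
      have h1 : j z' ⤳ s := by
        rw [← hjz]
        exact hz'.map j.continuous
      have h2 : π (j z') ∈ Set.range ι := by
        rw [← Scheme.Hom.comp_apply]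
        exact hz'r
      have h3 := hmax (j z') z'.2 h2 h1
      apply j.isClosedEmbedding.injective
      rw [h3, hjz]
  have hdim := dim_eq_stalk_add k Z z
  have htd := td_eq_add k Z C j rfl z
  rw [rt_of_isPreimmersion j z, hjz] at htd
  have hZP : topologicalKrullDim Z = topologicalKrullDim ↥P := rfl
  rw [← hZP, hdim]
  have h2 : (td k Z z).toNat = (td k C s).toNat := by
    rw [htd]
    simp
  rw [h2, add_comm]
  gcongr


/-- First equivalence: let k be a field, let π : C → X be a morphism between k-schemes of finite type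
such that every irreducible component of C has dimension n, and let ι : W → X be a regular immersion
of codimension c. The following are equivalent: (a) ι meets C properly, that is, whenever P is an
irreducible component of C and Q is an irreducible component of P ×_X W (the subspace P ∩ π⁻¹(ι(W))
of C), one has dim Q = dim P − c; (b) dim C ×_X W ≤ n − c (the subspace π⁻¹(ι(W)) of C). Dimensions
are written additively: dim Q + c = n and dim π⁻¹(ι(W)) + c ≤ n, the empty space having dimension ⊥.
(Stated for each of the four kinds of regular immersion of codimension c — regular, Koszul-regular,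
H₁-regular, quasi-regular; the published statement does not distinguish kinds.) -/
theorem result (k : Type u) [Field k] (C X W : Scheme.{u})
    (q : X ⟶ Spec (CommRingCat.of k)) (π : C ⟶ X) (ι : W ⟶ X)
    [LocallyOfFiniteType q] [CompactSpace X] [LocallyOfFiniteType π] [CompactSpace C]
    (κ : RegImm.Kind) (n c : ℕ) (hι : RegImm.IsRegularImmersionOfCodim κ c ι)
    (hC : ∀ P ∈ irreducibleComponents (C : Type u), topologicalKrullDim P = n) :
    (∀ P ∈ irreducibleComponents (C : Type u), ∀ Q ∈ irreducibleComponents (P ∩ π ⁻¹' Set.range ι : Set C),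
        topologicalKrullDim Q + (c : WithBot ℕ∞) = n) ↔
      topologicalKrullDim (π ⁻¹' Set.range ι : Set C) + (c : WithBot ℕ∞) ≤ n := by
  letI iX : X.Over (Spec (CommRingCat.of k)) := ⟨q⟩
  haveI : LocallyOfFiniteType (X ↘ Spec (CommRingCat.of k)) := ‹LocallyOfFiniteType q›
  letI iC : C.Over (Spec (CommRingCat.of k)) := ⟨π ≫ q⟩
  haveI : LocallyOfFiniteType (C ↘ Spec (CommRingCat.of k)) :=
    inferInstanceAs (LocallyOfFiniteType (π ≫ q))
  haveI : IsImmersion ι := hι.1
  have hloc : ∀ w : W, ∃ U : X.affineOpens, ι w ∈ U.1 ∧ IsClosedImmersion (ι ∣_ U.1) ∧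
      ∃ rs : List Γ(X, U.1), rs.length = c ∧ RingHom.ker (ι.app U.1).hom = Ideal.ofList rs := by
    intro w
    obtain ⟨U, hU, hcl, rs, hlen, -, hker⟩ := hι.2 w
    exact ⟨U, hU, hcl, rs, hlen, hker⟩
  have hM : IsLocallyClosed (π ⁻¹' Set.range ι : Set C) :=
    (IsImmersion.isLocallyClosed_range (f := ι)).preimage π.continuous
  have hSP : ∀ P ∈ irreducibleComponents (C : Type u),
      IsLocallyClosed (P ∩ π ⁻¹' Set.range ι : Set C) := fun P hP =>
    (isClosed_of_mem_irreducibleComponents P hP).isLocallyClosed.inter hM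
  constructor
  · intro ha
    have hclaim : ∀ x ∈ (π ⁻¹' Set.range ι : Set C), (td k C x).toNat + c ≤ n := by
      intro x hx
      have hP : irreducibleComponent x ∈ irreducibleComponents (C : Type u) :=
        irreducibleComponent_mem_irreducibleComponents x
      have hxP : x ∈ irreducibleComponent x := mem_irreducibleComponent
      haveI : QuasiSober ↥(irreducibleComponent x ∩ π ⁻¹' Set.range ι : Set C) :=
        quasiSober_of_isLocallyClosed (hSP _ hP)
      let s : ↥(irreducibleComponent x ∩ π ⁻¹' Set.range ι : Set C) := ⟨x, hxP, hx⟩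
      have hQ : irreducibleComponent s ∈
          irreducibleComponents ↥(irreducibleComponent x ∩ π ⁻¹' Set.range ι : Set C) :=
        irreducibleComponent_mem_irreducibleComponents s
      have hQc : IsClosed (irreducibleComponent s) := isClosed_of_mem_irreducibleComponents _ hQ
      obtain ⟨t, ht⟩ := QuasiSober.sober hQ.1 hQc
      have hdimQ := dim_closed_sub k C _ (hSP _ hP) _ hQc t ht
      have h1 := ha _ hP _ hQ
      rw [hdimQ] at h1
      have h2 : (td k C t.1).toNat + c = n := by exact_mod_cast h1
      have hts : t ⤳ s := by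
        rw [specializes_iff_mem_closure, ht.def]
        exact mem_irreducibleComponent
      have h3 : td k C x ≤ td k C t.1 :=
        Groth.Agent.S6462.delta_le_of_specializes (isDimFun k C)
          ((subtype_specializes_iff _ _).mp hts)
      omega
    by_cases hemp : IsEmpty ↥(π ⁻¹' Set.range ι : Set C)
    · rw [dim_eq_bot_of_isEmpty, WithBot.bot_add]
      exact bot_le
    · rw [not_isEmpty_iff] at hemp
      obtain ⟨⟨x₀, hx₀⟩⟩ := hemp
      have hcn : c ≤ n := by
        have := hclaim x₀ hx₀
        omega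
      have hle := dim_le k C _ hM (n - c) (fun x hx => by
        have := hclaim x hx
        have := td_nonneg k C x
        omega)
      calc topologicalKrullDim ↥(π ⁻¹' Set.range ι : Set C) + (c : WithBot ℕ∞)
          ≤ ((n - c : ℕ) : WithBot ℕ∞) + (c : WithBot ℕ∞) := by gcongr
        _ = (n : WithBot ℕ∞) := by
          have : (n - c) + c = n := by omega
          exact_mod_cast this
  · intro hb P hP Q hQ
    haveI : QuasiSober ↥(P ∩ π ⁻¹' Set.range ι : Set C) :=
      quasiSober_of_isLocallyClosed (hSP _ hP)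
    have hQc : IsClosed Q := isClosed_of_mem_irreducibleComponents _ hQ
    obtain ⟨t, ht⟩ := QuasiSober.sober hQ.1 hQc
    have hdimQ := dim_closed_sub k C _ (hSP _ hP) Q hQc t ht
    -- upper bound
    have hup : (td k C t.1).toNat + c ≤ n := by
      have h1 := td_le_dim k C _ hM t.1 t.2.2
      have h2 : (((td k C t.1).toNat : ℕ) : WithBot ℕ∞) + (c : WithBot ℕ∞) ≤ n :=
        le_trans (by gcongr) hb
      exact_mod_cast h2
    -- lower bound
    have hlow : n ≤ (td k C t.1).toNat + c := by
      have h1 := lower_bound k C X W q π ι c hloc P hP t.1 t.2.1 t.2.2 (by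
        intro s' hs'P hs'M hs't
        let s'' : ↥(P ∩ π ⁻¹' Set.range ι : Set C) := ⟨s', hs'P, hs'M⟩
        have h1 : s'' ⤳ t := (subtype_specializes_iff _ _).mpr hs't
        have h2 : Q ⊆ closure {s''} := by
          rw [← ht.def]
          exact specializes_iff_closure_subset.mp h1
        have h3 : closure {s''} ⊆ Q := hQ.2 isIrreducible_singleton.closure h2
        have h4 : t ⤳ s'' := by
          rw [specializes_iff_mem_closure, ht.def]
          exact h3 (subset_closure rfl)
        exact congrArg Subtype.val (h1.antisymm h4).eq)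
      rw [hC P hP] at h1
      exact_mod_cast h1
    rw [hdimQ]
    have : (td k C t.1).toNat + c = n := le_antisymm hup hlow
    exact_mod_cast this

end Groth.Agent.S14481
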