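import Groth.Statements.S14482
import Groth.Agent.Lib.H8LocClosedDim
import Groth.Agent.Lib.H30IrrFib
import Groth.Agent.Lib.FibreDimStrata

set_option autoImplicit false
universe u
open CategoryTheory AlgebraicGeometry
open CharCyc

namespace Groth.Agent.S14482

open Groth.Agent.Lib.H30DimField Groth.Agent.Lib.H30DimRel Groth.Agent.Lib.H30FlatDim
  Groth.Agent.Lib.H30IrrFib Groth.Agent.Lib.H8LocClosedDim

theorem dim_eq_bot_of_isEmpty (T : Type*) [TopologicalSpace T] [IsEmpty T] :
    topologicalKrullDim T = ⊥ := by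
  haveI : IsEmpty (TopologicalSpace.IrreducibleCloseds T) :=
    ⟨fun Z => by
      obtain ⟨t, -⟩ := Z.isIrreducible.nonempty
      exact isEmptyElim t⟩
  unfold topologicalKrullDim
  exact Order.krullDim_eq_bot


/-- Second assertion: let k be a field, let π : C → X be a morphism between k-schemes of finite type
such that every irreducible component of C has dimension n, let ι : W → X be a regular immersion of
codimension c, and for j ≥ 0 let B_j ⊆ X be the set of points whose fibre under π has dimension at
least j. Assume that every B_j is closed in X. Then dim B_j + j ≤ n for every j, and the condition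
dim π⁻¹(ι(W)) + c ≤ n (that is, dim C ×_X W ≤ n − c) holds if and only if dim ι⁻¹(B_j) + c + j ≤ n
for every j (that is, ι meets the sequence (B_j) n-semi-properly). Dimensions are topological Krull
dimensions of subspaces, the empty space having dimension ⊥. (Stated for each of the four kinds of
regular immersion of codimension c — regular, Koszul-regular, H₁-regular, quasi-regular; the
published statement does not distinguish kinds.) -/
theorem result (k : Type u) [Field k] (C X W : Scheme.{u})
    (q : X ⟶ Spec (CommRingCat.of k)) (π : C ⟶ X) (ι : W ⟶ X)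
    [LocallyOfFiniteType q] [CompactSpace X] [LocallyOfFiniteType π] [CompactSpace C]
    (κ : RegImm.Kind) (n c : ℕ) (hι : RegImm.IsRegularImmersionOfCodim κ c ι)
    (hC : ∀ P ∈ irreducibleComponents (C : Type u), topologicalKrullDim P = n)
    (hB : ∀ j : ℕ, IsClosed {x : X | (j : WithBot ℕ∞) ≤ topologicalKrullDim (π.fiber x)}) :
    (∀ j : ℕ, topologicalKrullDim {x : X | (j : WithBot ℕ∞) ≤ topologicalKrullDim (π.fiber x)} + (j : WithBot ℕ∞) ≤ n) ∧
      (topologicalKrullDim (π ⁻¹' Set.range ι : Set C) + (c : WithBot ℕ∞) ≤ n ↔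
        ∀ j : ℕ, topologicalKrullDim (ι ⁻¹' {x : X | (j : WithBot ℕ∞) ≤ topologicalKrullDim (π.fiber x)} : Set W) + (c : WithBot ℕ∞) + (j : WithBot ℕ∞) ≤ n) := by
  letI iX : X.Over (Spec (CommRingCat.of k)) := ⟨q⟩
  haveI : LocallyOfFiniteType (X ↘ Spec (CommRingCat.of k)) := ‹LocallyOfFiniteType q›
  letI iC : C.Over (Spec (CommRingCat.of k)) := ⟨π ≫ q⟩
  haveI : LocallyOfFiniteType (C ↘ Spec (CommRingCat.of k)) :=
    inferInstanceAs (LocallyOfFiniteType (π ≫ q))
  haveI : IsImmersion ι := hι.1
  letI iW : W.Over (Spec (CommRingCat.of k)) := ⟨ι ≫ q⟩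
  haveI : LocallyOfFiniteType (W ↘ Spec (CommRingCat.of k)) :=
    inferInstanceAs (LocallyOfFiniteType (ι ≫ q))
  have hM : IsLocallyClosed (π ⁻¹' Set.range ι : Set C) :=
    (IsImmersion.isLocallyClosed_range (f := ι)).preimage π.continuous
  have hadd : ∀ c' : C, td k C c' = td k X (π c') + (rt π c' : ℤ) :=
    fun c' => td_eq_add k C X π rfl c'
  have haddW : ∀ w : W, td k W w = td k X (ι w) := by
    intro w
    have h := td_eq_add k W X ι rfl w
    rw [rt_of_isPreimmersion ι w] at h
    simpa using h
  have htdC : ∀ c' : C, (td k C c').toNat ≤ n := by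
    intro c'
    have hP : irreducibleComponent c' ∈ irreducibleComponents (C : Type u) :=
      irreducibleComponent_mem_irreducibleComponents c'
    have h1 := Groth.Agent.Lib.FibreDimStrata.td_le_dim_closed k C _
      (isClosed_of_mem_irreducibleComponents _ hP) c' mem_irreducibleComponent
    rw [hC _ hP] at h1
    exact_mod_cast h1
  refine ⟨?_, ?_, ?_⟩
  · -- part 1
    intro j
    have hclaim : ∀ x ∈ {x : X | (j : WithBot ℕ∞) ≤ topologicalKrullDim (π.fiber x)},
        td k X x + j ≤ n := by
      intro x hx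
      obtain ⟨c', hc', hj⟩ :=
        Groth.Agent.Lib.FibreDimStrata.exists_rt_ge_of_le_dim_fiber π x j hx
      have h1 := hadd c'
      rw [hc'] at h1
      have h2 := htdC c'
      have h3 := td_nonneg k X x
      omega
    by_cases hemp : IsEmpty ↥{x : X | (j : WithBot ℕ∞) ≤ topologicalKrullDim (π.fiber x)}
    · rw [dim_eq_bot_of_isEmpty, WithBot.bot_add]
      exact bot_le
    · rw [not_isEmpty_iff] at hemp
      obtain ⟨⟨x₀, hx₀⟩⟩ := hemp
      have hjn : j ≤ n := by
        have := hclaim x₀ hx₀
        have := td_nonneg k X x₀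
        omega
      have hle := Groth.Agent.Lib.FibreDimStrata.dim_closed_le k X _ (hB j) (n - j)
        (fun x hx => by
          have := hclaim x hx
          omega)
      calc topologicalKrullDim ↥{x : X | (j : WithBot ℕ∞) ≤ topologicalKrullDim (π.fiber x)} +
            (j : WithBot ℕ∞)
          ≤ ((n - j : ℕ) : WithBot ℕ∞) + (j : WithBot ℕ∞) := by gcongr
        _ = (n : WithBot ℕ∞) := by
          have : (n - j) + j = n := by omega
          exact_mod_cast this
  · -- (⟹)
    intro h j
    have hBw : IsClosed (ι ⁻¹' {x : X | (j : WithBot ℕ∞) ≤ topologicalKrullDim (π.fiber x)} : Set W) :=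
      (hB j).preimage ι.continuous
    have hclaim : ∀ w ∈ (ι ⁻¹' {x : X | (j : WithBot ℕ∞) ≤ topologicalKrullDim (π.fiber x)} : Set W),
        td k W w + c + j ≤ n := by
      intro w hw
      obtain ⟨c', hc', hj⟩ :=
        Groth.Agent.Lib.FibreDimStrata.exists_rt_ge_of_le_dim_fiber π (ι w) j hw
      have hc'M : c' ∈ (π ⁻¹' Set.range ι : Set C) := ⟨w, hc'.symm⟩
      have h1 := td_le_dim k C _ hM c' hc'M
      have h2 : (((td k C c').toNat : ℕ) : WithBot ℕ∞) + (c : WithBot ℕ∞) ≤ n :=
        le_trans (by gcongr) h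
      have h3 : (td k C c').toNat + c ≤ n := by exact_mod_cast h2
      have h4 := hadd c'
      rw [hc', ← haddW w] at h4
      have h5 := td_nonneg k W w
      omega
    by_cases hemp : IsEmpty ↥(ι ⁻¹' {x : X | (j : WithBot ℕ∞) ≤ topologicalKrullDim (π.fiber x)} : Set W)
    · rw [dim_eq_bot_of_isEmpty, WithBot.bot_add, WithBot.bot_add]
      exact bot_le
    · rw [not_isEmpty_iff] at hemp
      obtain ⟨⟨w₀, hw₀⟩⟩ := hemp
      have hjn : c + j ≤ n := by
        have := hclaim w₀ hw₀
        have := td_nonneg k W w₀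
        omega
      have hle := Groth.Agent.Lib.FibreDimStrata.dim_closed_le k W _ hBw (n - c - j)
        (fun w hw => by
          have := hclaim w hw
          omega)
      calc topologicalKrullDim
              ↥(ι ⁻¹' {x : X | (j : WithBot ℕ∞) ≤ topologicalKrullDim (π.fiber x)} : Set W) +
            (c : WithBot ℕ∞) + (j : WithBot ℕ∞)
          ≤ ((n - c - j : ℕ) : WithBot ℕ∞) + (c : WithBot ℕ∞) + (j : WithBot ℕ∞) := by gcongr
        _ = (n : WithBot ℕ∞) := by
          have : (n - c - j) + c + j = n := by omega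
          exact_mod_cast this
  · -- (⟸)
    intro h
    have hclaim : ∀ x ∈ (π ⁻¹' Set.range ι : Set C), (td k C x).toNat + c ≤ n := by
      intro x hx
      obtain ⟨w, hw⟩ := hx
      have hwB : w ∈ (ι ⁻¹' {x' : X | ((rt π x : ℕ) : WithBot ℕ∞) ≤
          topologicalKrullDim (π.fiber x')} : Set W) := by
        show ((rt π x : ℕ) : WithBot ℕ∞) ≤ topologicalKrullDim (π.fiber (ι w))
        rw [hw]
        exact Groth.Agent.Lib.FibreDimStrata.rt_le_dim_fiber π x
      have hBw : IsClosed (ι ⁻¹' {x' : X | ((rt π x : ℕ) : WithBot ℕ∞) ≤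
          topologicalKrullDim (π.fiber x')} : Set W) :=
        (hB (rt π x)).preimage ι.continuous
      have h1 := Groth.Agent.Lib.FibreDimStrata.td_le_dim_closed k W _ hBw w hwB
      have h2 : (((td k W w).toNat : ℕ) : WithBot ℕ∞) + (c : WithBot ℕ∞) +
          ((rt π x : ℕ) : WithBot ℕ∞) ≤ n :=
        le_trans (by gcongr) (h (rt π x))
      have h3 : (td k W w).toNat + c + rt π x ≤ n := by exact_mod_cast h2
      have h4 := hadd x
      rw [← hw, ← haddW w] at h4
      have h5 := td_nonneg k W w
      omega
    by_cases hemp : IsEmpty ↥(π ⁻¹' Set.range ι : Set C)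
    · rw [dim_eq_bot_of_isEmpty, WithBot.bot_add]
      exact bot_le
    · rw [not_isEmpty_iff] at hemp
      obtain ⟨⟨x₀, hx₀⟩⟩ := hemp
      have hcn : c ≤ n := by
        have := hclaim x₀ hx₀
        omega
      have hle := dim_le k C _ hM (n - c) (fun x hx => by
        have := hclaim x hx
        have := td_nonneg k C x
        omega)
      calc topologicalKrullDim ↥(π ⁻¹' Set.range ι : Set C) + (c : WithBot ℕ∞)
          ≤ ((n - c : ℕ) : WithBot ℕ∞) + (c : WithBot ℕ∞) := by gcongr
        _ = (n : WithBot ℕ∞) := by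
          have : (n - c) + c = n := by omega
          exact_mod_cast this

end Groth.Agent.S14482
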