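import Groth.Statements.S14484
import Groth.Agent.Lib.H73FibDim2
import Groth.Agent.S4644

set_option autoImplicit false
universe u
open CategoryTheory CategoryTheory.Limits AlgebraicGeometry
open CharCyc

namespace Groth.Agent.S14484
open Groth.Agent.Lib.H30DimField Groth.Agent.Lib.H73FibDim

theorem nat_add_lt_nat_add (n : ℕ) (a b : WithBot ℕ∞) (h : a < b) :
    (n : WithBot ℕ∞) + a < (n : WithBot ℕ∞) + b := by
  induction b using WithBot.recBotCoe with
  | bot => exact absurd h (not_lt_bot)
  | coe b =>
    induction a using WithBot.recBotCoe with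
    | bot =>
      rw [WithBot.add_bot]
      exact WithBot.bot_lt_coe _
    | coe a =>
      have h' : a < b := by exact_mod_cast h
      have : (n : ℕ∞) + a < (n : ℕ∞) + b := (ENat.add_lt_add_iff_left (ENat.coe_ne_top n)).mpr h'
      exact_mod_cast this

/-- in a Noetherian sober space: if `t ∈ closure (g '' Z')` for a closed set `Z'` whose image lies in
`closure {t}`, then `t ∈ g '' Z'` -/
theorem mem_image_of_mem_closure {A B : Type*} [TopologicalSpace A] [TopologicalSpace B]
    [TopologicalSpace.NoetherianSpace A] [QuasiSober A] [T0Space B] (g : A → B) (hg : Continuous g)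
    (Z' : Set A) (hZ' : IsClosed Z') (t : B) (hsub : g '' Z' ⊆ closure {t})
    (ht : t ∈ closure (g '' Z')) : t ∈ g '' Z' := by
  obtain ⟨C, hCfin, hCcl, hCirr, hCeq⟩ := TopologicalSpace.NoetherianSpace.exists_finite_set_isClosed_irreducible hZ'
  have hcover : g '' Z' ⊆ ⋃ s ∈ C, closure (g '' s) := by
    rintro _ ⟨a, ha, rfl⟩
    rw [hCeq] at ha
    obtain ⟨s, hs, has⟩ := ha
    exact Set.mem_biUnion hs (subset_closure ⟨a, has, rfl⟩)
  have hclosed : IsClosed (⋃ s ∈ C, closure (g '' s)) :=
    hCfin.isClosed_biUnion fun s _ => isClosed_closure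
  have ht' := closure_minimal hcover hclosed ht
  obtain ⟨s, hs, hts⟩ := Set.mem_iUnion₂.mp ht'
  obtain ⟨c, hc⟩ := QuasiSober.sober (hCirr s hs) (hCcl s hs)
  have hcs : c ∈ Z' := by
    rw [hCeq]
    exact ⟨s, hs, hc.mem⟩
  have hsub2 : closure (g '' s) ⊆ closure {g c} := by
    apply closure_minimal _ isClosed_closure
    rw [← hc.def]
    refine (image_closure_subset_closure_image hg).trans ?_
    rw [Set.image_singleton]
  have h1 : g c ⤳ t := specializes_iff_mem_closure.mpr (hsub2 hts)
  have h2 : t ⤳ g c := specializes_iff_mem_closure.mpr (hsub ⟨c, hcs, rfl⟩)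
  exact ⟨c, hcs, (h1.antisymm h2).eq⟩

section Core

variable (k : Type u) [Field k] (X S : Scheme.{u})
    (q : S ⟶ Spec (CommRingCat.of k)) (f : X ⟶ S)
    [LocallyOfFiniteType q] [LocallyOfFiniteType f] [IsSeparated f]

include q in
theorem core (Y Z : Set X) (hZc : IsClosed Z) (hYc : IsClosed Y) (η : X) (hη : IsGenericPoint η Y)
    (z : X) (hz : z ∈ Z) (hfz : f z = f η) (hYZ : ¬ Y ⊆ Z) :
    topologicalKrullDim Y ≤ topologicalKrullDim {p : ↥(pullback f f) | pullback.fst f f p ∈ Y ∧
      pullback.snd f f p ∈ Z ∧ p ∉ Set.range (pullback.diagonal f)} := by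
  letI : S.Over (Spec (CommRingCat.of k)) := ⟨q⟩
  letI : X.Over (Spec (CommRingCat.of k)) := ⟨f ≫ q⟩
  letI : (pullback f f).Over (Spec (CommRingCat.of k)) := ⟨pullback.fst f f ≫ f ≫ q⟩
  haveI : LocallyOfFiniteType (X ↘ (Spec (CommRingCat.of k))) := by
    change LocallyOfFiniteType (f ≫ q); infer_instance
  haveI : LocallyOfFiniteType ((pullback f f) ↘ (Spec (CommRingCat.of k))) := by
    change LocallyOfFiniteType (pullback.fst f f ≫ f ≫ q); infer_instance
  haveI : (pullback.fst f f).IsOver (Spec (CommRingCat.of k)) := ⟨rfl⟩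
  obtain ⟨p, hp1, hp2⟩ := Scheme.Pullback.exists_preimage_pullback (f := f) (g := f) η z hfz.symm
  set W : Set ↥(pullback f f) := {p : ↥(pullback f f) | pullback.fst f f p ∈ Y ∧
      pullback.snd f f p ∈ Z ∧ p ∉ Set.range (pullback.diagonal f)} with hW
  have hpW : p ∈ W := by
    refine ⟨by rw [hp1]; exact hη.mem, by rw [hp2]; exact hz, ?_⟩
    rintro ⟨x, hx⟩
    have h1 : pullback.fst f f (pullback.diagonal f x) = x := by
      rw [← Scheme.Hom.comp_apply, pullback.diagonal_fst]; rfl
    have h2 : pullback.snd f f (pullback.diagonal f x) = x := by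
      rw [← Scheme.Hom.comp_apply, pullback.diagonal_snd]; rfl
    rw [hx, hp1] at h1
    rw [hx, hp2] at h2
    apply hYZ
    rw [← hη.def]
    apply closure_minimal _ hZc
    rw [Set.singleton_subset_iff, h1, ← h2]
    exact hz
  have hWlc : IsLocallyClosed W := by
    refine ⟨(Set.range (pullback.diagonal f))ᶜ,
      (pullback.fst f f) ⁻¹' Y ∩ (pullback.snd f f) ⁻¹' Z, ?_, ?_, ?_⟩
    · exact (pullback.diagonal f).isClosedEmbedding.isClosed_range.isOpen_compl
    · exact (hYc.preimage (pullback.fst f f).continuous).inter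
        (hZc.preimage (pullback.snd f f).continuous)
    · ext p
      simp only [hW, Set.mem_setOf_eq, Set.mem_inter_iff, Set.mem_compl_iff, Set.mem_preimage]
      tauto
  have h1 := Groth.Agent.S4644.le_dim (k := k) W hWlc p hpW
  have h2 := td_map_le k (pullback.fst f f) p
  rw [hp1] at h2
  have h3 := Groth.Agent.S4644.dim_closure_eq (k := k) η
  rw [hη.def] at h3
  rw [h3]
  refine le_trans ?_ h1
  have : (td k X η).toNat ≤ (td k (pullback f f) p).toNat := Int.toNat_le_toNat h2
  exact_mod_cast this

end Core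


/-- Let k be a field and let f : X → S be a morphism between separated k-schemes of finite type. Two
closed subsets Y, Z of X are said to well intersect with respect to f when dim(Y ×_S Z ∖ Y ×_X Z) ≤
dim Y + dim Z − dim S; here Y ×_S Z ∖ Y ×_X Z is taken as the subspace of X ×_S X of points whose
two projections lie in Y and in Z and which are not in the image of the diagonal, and the inequality
is written additively as dim(Y ×_S Z ∖ Y ×_X Z) + dim S ≤ dim Y + dim Z (topological Krull
dimensions, the empty space having dimension ⊥). Let Y, Z ⊆ X be closed irreducible subsets that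
well intersect with respect to f, with dim Y < dim S and dim Z < dim S, and assume Y ⊄ Z. Then f(Y)
is not contained in the closure of f(Y) ∩ f(Z); in particular f(Y) ⊄ f(Z). -/
theorem result (k : Type u) [Field k] (X S : Scheme.{u})
    (q : S ⟶ Spec (CommRingCat.of k)) (f : X ⟶ S)
    [LocallyOfFiniteType q] [CompactSpace S] [IsSeparated q] [LocallyOfFiniteType f] [CompactSpace X] [IsSeparated f]
    (Y Z : Set X) (hYc : IsClosed Y) (hYi : IsIrreducible Y) (hZc : IsClosed Z) (hZi : IsIrreducible Z)
    (hWI : topologicalKrullDim {p : ↥(pullback f f) | pullback.fst f f p ∈ Y ∧ pullback.snd f f p ∈ Z ∧ p ∉ Set.range (pullback.diagonal f)} + topologicalKrullDim S ≤ topologicalKrullDim Y + topologicalKrullDim Z)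
    (hYS : topologicalKrullDim Y < topologicalKrullDim S) (hZS : topologicalKrullDim Z < topologicalKrullDim S)
    (hYZ : ¬ Y ⊆ Z) :
    ¬ (f.base '' Y ⊆ closure (f.base '' Y ∩ f.base '' Z)) ∧ ¬ (f.base '' Y ⊆ f.base '' Z) := by
  letI : S.Over (Spec (CommRingCat.of k)) := ⟨q⟩
  letI : X.Over (Spec (CommRingCat.of k)) := ⟨f ≫ q⟩
  haveI : LocallyOfFiniteType (X ↘ (Spec (CommRingCat.of k))) := by
    change LocallyOfFiniteType (f ≫ q); infer_instance
  haveI : IsLocallyNoetherian X := isLocallyNoetherian k X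
  haveI : IsNoetherian X := {}
  obtain ⟨η, hη⟩ := QuasiSober.sober hYi hYc
  have hfirst : ¬ (f.base '' Y ⊆ closure (f.base '' Y ∩ f.base '' Z)) := by
    intro hsub
    -- the generic point of `f Y` is in `f Z`
    have hYT : f.base '' Y ⊆ closure {f η} := by
      rw [← hη.def]
      refine (image_closure_subset_closure_image f.continuous).trans ?_
      rw [Set.image_singleton]
    set Z' : Set X := Z ∩ f.base ⁻¹' closure {f η} with hZ'
    have hZ'c : IsClosed Z' := hZc.inter (isClosed_closure.preimage f.continuous)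
    have hA : f.base '' Y ∩ f.base '' Z ⊆ f.base '' Z' := by
      rintro _ ⟨hy, ⟨z, hz, rfl⟩⟩
      exact ⟨z, ⟨hz, hYT hy⟩, rfl⟩
    have ht : f η ∈ closure (f.base '' Z') :=
      closure_mono hA (hsub ⟨η, hη.mem, rfl⟩)
    have hsub' : f.base '' Z' ⊆ closure {f η} := by
      rintro _ ⟨z, hz, rfl⟩
      exact hz.2
    obtain ⟨z, hz, hfz⟩ := mem_image_of_mem_closure f.base f.continuous Z' hZ'c (f η) hsub' ht
    have hle := core k X S q f Y Z hZc hYc η hη z hz.1 hfz hYZ
    -- arithmetic
    have h3 := Groth.Agent.S4644.dim_closure_eq (k := k) η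
    rw [hη.def] at h3
    have h4 : topologicalKrullDim Y + topologicalKrullDim S ≤
        topologicalKrullDim Y + topologicalKrullDim Z :=
      (add_le_add_left hle _).trans hWI
    rw [h3] at h4
    exact absurd h4 (not_le.mpr (nat_add_lt_nat_add _ _ _ hZS))
  refine ⟨hfirst, fun h => hfirst ?_⟩
  intro s hs
  exact subset_closure ⟨hs, h hs⟩

end Groth.Agent.S14484
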