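import Groth.Statements.S14483
import Groth.Agent.Lib.H73FibDim2
import Groth.Agent.S4644
import Groth.Agent.S14484

set_option autoImplicit false
universe u
open CategoryTheory CategoryTheory.Limits AlgebraicGeometry
open CharCyc

namespace Groth.Agent.S14483
open Groth.Agent.Lib.H30DimField Groth.Agent.Lib.H73FibDim

set_option backward.isDefEq.respectTransparency.types false in
set_option backward.defeqAttrib.useBackward true in
/-- pointwise version of Mathlib's `tfae_universallyInjective` (4 → 3) -/
theorem isPurelyInseparable_of_diag {X S : Scheme.{u}} (f : X ⟶ S) (x : X)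
    (h : ∀ p : ↥(pullback f f), pullback.fst f f p = x → pullback.snd f f p = x →
      p ∈ Set.range (pullback.diagonal f)) :
    (f.residueFieldMap x).hom.IsPurelyInseparable := by
  algebraize [(f.residueFieldMap x).hom]
  rw [RingHom.IsPurelyInseparable, isPurelyInseparable_iff_subsingleton_emb, subsingleton_iff]
  intro σ₁ σ₂
  apply AlgHom.coe_ringHom_injective
  let g₁ := (X.SpecToEquivOfField _).symm ⟨_, CommRingCat.ofHom σ₁.toRingHom⟩
  let g₂ := (X.SpecToEquivOfField _).symm ⟨_, CommRingCat.ofHom σ₂.toRingHom⟩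
  suffices X.SpecToEquivOfField _ g₁ = X.SpecToEquivOfField _ g₂ by
    rw [Equiv.apply_symm_apply, Equiv.apply_symm_apply] at this
    exact congr($(this).2.hom)
  let q := pullback.lift (f := f) (g := f) g₁ g₂ <| by
    simp only [g₁, g₂, Scheme.SpecToEquivOfField_symm_apply, AlgHom.toRingHom_eq_coe,
      Category.assoc, ← f.SpecMap_residueFieldMap_fromSpecResidueField x, ← Spec.map_comp_assoc]
    congr 2
    ext a
    simp only [CommRingCat.hom_comp, RingHom.comp_apply]
    exact (AlgHom.commutes σ₁ a).trans (AlgHom.commutes σ₂ a).symm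
  have q_fst : q ≫ pullback.fst f f = g₁ := pullback.lift_fst _ _ _
  have q_snd : q ≫ pullback.snd f f = g₂ := pullback.lift_snd _ _ _
  rw [Scheme.SpecToEquivOfField_eq_iff, ← q_fst, ← q_snd]
  have hq1 : pullback.fst f f (q (IsLocalRing.closedPoint _)) = x := by
    rw [← Scheme.Hom.comp_apply, q_fst]
    simp [Scheme.SpecToEquivOfField_symm_apply, g₁]
  have hq2 : pullback.snd f f (q (IsLocalRing.closedPoint _)) = x := by
    rw [← Scheme.Hom.comp_apply, q_snd]
    simp [Scheme.SpecToEquivOfField_symm_apply, g₂]
  obtain ⟨u, hu⟩ := h (q (IsLocalRing.closedPoint _)) hq1 hq2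
  have hux : u = x := by
    have := congr(pullback.fst f f $(hu))
    rw [← Scheme.Hom.comp_apply, ← Scheme.Hom.comp_apply] at this
    simpa [Scheme.SpecToEquivOfField_symm_apply, q_fst, g₁] using this
  refine ⟨by simp [g₁, g₂, q_fst, q_snd], ?_⟩
  dsimp
  simp only [Scheme.descResidueField_stalkClosedPointTo_comp, ← Category.assoc]
  congr 1
  rw [← cancel_mono (Scheme.residueFieldCongr (hux ▸ hu).symm).hom]
  have : Mono (Scheme.Hom.residueFieldMap (pullback.diagonal f) x) :=
    ConcreteCategory.mono_of_injective _ (RingHom.injective _)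
  simp [← cancel_mono ((pullback.diagonal f).residueFieldMap x), ← Scheme.residueFieldMap_comp,
    (pullback.fst f f).residueFieldMap_congr', (pullback.snd f f).residueFieldMap_congr'_assoc,
    Scheme.Hom.residueFieldMap_congr (pullback.diagonal_snd f),
    Scheme.Hom.residueFieldMap_congr (pullback.diagonal_fst f)]

/-- in a Noetherian sober space: if `t ∈ closure (g '' W)` for a locally closed set `W` whose image
lies in `closure {t}`, then `t ∈ g '' W` -/
theorem mem_image_of_mem_closure' {A B : Type*} [TopologicalSpace A] [TopologicalSpace B]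
    [TopologicalSpace.NoetherianSpace A] [QuasiSober A] [T0Space B] (g : A → B) (hg : Continuous g)
    (W : Set A) (hW : IsLocallyClosed W) (t : B) (hsub : g '' W ⊆ closure {t})
    (ht : t ∈ closure (g '' W)) : t ∈ g '' W := by
  obtain ⟨U, F, hU, hF, rfl⟩ := hW
  obtain ⟨C, hCfin, hCcl, hCirr, hCeq⟩ :=
    TopologicalSpace.NoetherianSpace.exists_finite_set_isClosed_irreducible hF
  have hcover : g '' (U ∩ F) ⊆ ⋃ s ∈ C, closure (g '' (U ∩ s)) := by
    rintro _ ⟨a, ⟨haU, haF⟩, rfl⟩
    rw [hCeq] at haF
    obtain ⟨s, hs, has⟩ := haF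
    exact Set.mem_biUnion hs (subset_closure ⟨a, ⟨haU, has⟩, rfl⟩)
  have hclosed : IsClosed (⋃ s ∈ C, closure (g '' (U ∩ s))) :=
    hCfin.isClosed_biUnion fun s _ => isClosed_closure
  have ht' := closure_minimal hcover hclosed ht
  obtain ⟨s, hs, hts⟩ := Set.mem_iUnion₂.mp ht'
  obtain ⟨c, hc⟩ := QuasiSober.sober (hCirr s hs) (hCcl s hs)
  have hne : (U ∩ s).Nonempty := by
    by_contra hcon
    rw [Set.not_nonempty_iff_eq_empty] at hcon
    rw [hcon] at hts
    simp at hts
  have hcU : c ∈ U := by
    rw [hc.mem_open_set_iff hU]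
    rwa [Set.inter_comm]
  have hcF : c ∈ F := by
    rw [hCeq]
    exact ⟨s, hs, hc.mem⟩
  have hsub2 : closure (g '' (U ∩ s)) ⊆ closure {g c} := by
    apply closure_minimal _ isClosed_closure
    refine (Set.image_mono Set.inter_subset_right).trans ?_
    rw [← hc.def]
    refine (image_closure_subset_closure_image hg).trans ?_
    rw [Set.image_singleton]
  have h1 : g c ⤳ t := specializes_iff_mem_closure.mpr (hsub2 hts)
  have h2 : t ⤳ g c := specializes_iff_mem_closure.mpr (hsub ⟨c, ⟨hcU, hcF⟩, rfl⟩)
  exact ⟨c, ⟨hcU, hcF⟩, (h1.antisymm h2).eq⟩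


/-- Let k be a field and let f : X → S be a morphism between separated k-schemes of finite type. Two
closed subsets Y, Z of X are said to well intersect with respect to f when dim(Y ×_S Z ∖ Y ×_X Z) ≤
dim Y + dim Z − dim S; here Y ×_S Z ∖ Y ×_X Z is taken as the subspace of X ×_S X of points whose
two projections lie in Y and in Z and which are not in the image of the diagonal, and the inequality
is written additively as dim(Y ×_S Z ∖ Y ×_X Z) + dim S ≤ dim Y + dim Z (topological Krull
dimensions, the empty space having dimension ⊥). Let Y ⊆ X be closed and irreducible with dim Y <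
dim S, and suppose that the pair Y, Y well intersects with respect to f. Then Y → S is generically
radicial onto its image: there is an open subset V of X meeting Y such that f is injective on V ∩ Y
and, at every point of V ∩ Y, the residue field extension induced by f is purely inseparable. -/
theorem result (k : Type u) [Field k] (X S : Scheme.{u})
    (q : S ⟶ Spec (CommRingCat.of k)) (f : X ⟶ S)
    [LocallyOfFiniteType q] [CompactSpace S] [IsSeparated q] [LocallyOfFiniteType f] [CompactSpace X] [IsSeparated f]
    (Y : Set X) (hYc : IsClosed Y) (hYi : IsIrreducible Y)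
    (hWI : topologicalKrullDim {p : ↥(pullback f f) | pullback.fst f f p ∈ Y ∧ pullback.snd f f p ∈ Y ∧ p ∉ Set.range (pullback.diagonal f)} + topologicalKrullDim S ≤ topologicalKrullDim Y + topologicalKrullDim Y)
    (hYS : topologicalKrullDim Y < topologicalKrullDim S) :
    ∃ V : Set X, IsOpen V ∧ (V ∩ Y).Nonempty ∧ Set.InjOn f.base (V ∩ Y) ∧
      ∀ x ∈ V ∩ Y, (f.residueFieldMap x).hom.IsPurelyInseparable := by
  letI : S.Over (Spec (CommRingCat.of k)) := ⟨q⟩
  letI : X.Over (Spec (CommRingCat.of k)) := ⟨f ≫ q⟩
  letI : (pullback f f).Over (Spec (CommRingCat.of k)) := ⟨pullback.fst f f ≫ f ≫ q⟩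
  haveI : LocallyOfFiniteType (X ↘ (Spec (CommRingCat.of k))) := by
    change LocallyOfFiniteType (f ≫ q); infer_instance
  haveI : LocallyOfFiniteType ((pullback f f) ↘ (Spec (CommRingCat.of k))) := by
    change LocallyOfFiniteType (pullback.fst f f ≫ f ≫ q); infer_instance
  haveI : (pullback.fst f f).IsOver (Spec (CommRingCat.of k)) := ⟨rfl⟩
  haveI : IsLocallyNoetherian (pullback f f) := isLocallyNoetherian k (pullback f f)
  haveI : QuasiSeparatedSpace S := quasiSeparatedSpace_of_quasiSeparated q
  haveI : QuasiCompact f := inferInstance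
  haveI : CompactSpace ↥(pullback f f) := inferInstance
  haveI : IsNoetherian (pullback f f) := {}
  obtain ⟨η, hη⟩ := QuasiSober.sober hYi hYc
  set W : Set ↥(pullback f f) := {p : ↥(pullback f f) | pullback.fst f f p ∈ Y ∧
      pullback.snd f f p ∈ Y ∧ p ∉ Set.range (pullback.diagonal f)} with hW
  have hWlc : IsLocallyClosed W := by
    refine ⟨(Set.range (pullback.diagonal f))ᶜ,
      (pullback.fst f f) ⁻¹' Y ∩ (pullback.snd f f) ⁻¹' Y, ?_, ?_, ?_⟩
    · exact (pullback.diagonal f).isClosedEmbedding.isClosed_range.isOpen_compl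
    · exact (hYc.preimage (pullback.fst f f).continuous).inter
        (hYc.preimage (pullback.snd f f).continuous)
    · ext p
      simp only [hW, Set.mem_setOf_eq, Set.mem_inter_iff, Set.mem_compl_iff, Set.mem_preimage]
      tauto
  have hdimY := Groth.Agent.S4644.dim_closure_eq (k := k) η
  rw [hη.def] at hdimY
  -- the generic point is not in the closure of the first projection of `W`
  have hη_not : η ∉ closure ((pullback.fst f f).base '' W) := by
    intro hmem
    have hsub : (pullback.fst f f).base '' W ⊆ closure {η} := by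
      rw [hη.def]
      rintro _ ⟨p, hp, rfl⟩
      exact hp.1
    obtain ⟨p, hpW, hpη⟩ := mem_image_of_mem_closure' (pullback.fst f f).base
      (pullback.fst f f).continuous W hWlc η hsub hmem
    have h1 := Groth.Agent.S4644.le_dim (k := k) W hWlc p hpW
    have h2 := td_map_le k (pullback.fst f f) p
    rw [hpη] at h2
    have h3 : (td k X η).toNat ≤ (td k (pullback f f) p).toNat := Int.toNat_le_toNat h2
    have h4 : topologicalKrullDim Y ≤ topologicalKrullDim W := by
      rw [hdimY]
      exact le_trans (by exact_mod_cast h3) h1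
    have h5 : topologicalKrullDim Y + topologicalKrullDim S ≤
        topologicalKrullDim Y + topologicalKrullDim Y := (add_le_add_left h4 _).trans hWI
    rw [hdimY] at h5 hYS
    exact absurd h5 (not_le.mpr (Groth.Agent.S14484.nat_add_lt_nat_add _ _ _ hYS))
  refine ⟨(closure ((pullback.fst f f).base '' W))ᶜ, isClosed_closure.isOpen_compl,
    ⟨η, hη_not, hη.mem⟩, ?_, ?_⟩
  · rintro x ⟨hxV, hxY⟩ x' ⟨hx'V, hx'Y⟩ hfx
    obtain ⟨p, hp1, hp2⟩ := Scheme.Pullback.exists_preimage_pullback (f := f) (g := f) x x' hfx
    by_cases hpd : p ∈ Set.range (pullback.diagonal f)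
    · obtain ⟨u, rfl⟩ := hpd
      have h1 : pullback.fst f f (pullback.diagonal f u) = u := by
        rw [← Scheme.Hom.comp_apply, pullback.diagonal_fst]; rfl
      have h2 : pullback.snd f f (pullback.diagonal f u) = u := by
        rw [← Scheme.Hom.comp_apply, pullback.diagonal_snd]; rfl
      rw [← hp1, ← hp2, h1, h2]
    · exfalso
      apply hxV
      apply subset_closure
      exact ⟨p, ⟨by rw [hp1]; exact hxY, by rw [hp2]; exact hx'Y, hpd⟩, hp1⟩
  · rintro x ⟨hxV, hxY⟩
    apply isPurelyInseparable_of_diag
    intro p hp1 hp2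
    by_contra hpd
    apply hxV
    apply subset_closure
    exact ⟨p, ⟨by rw [hp1]; exact hxY, by rw [hp2]; exact hxY, hpd⟩, hp1⟩

end Groth.Agent.S14483
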