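-- S14492: A/p^n A representable for cofinite type ind-objects (core decomposition A = A[p^M] + p^n A)
import Groth.Statements.S14492
import Groth.Agent.Lib.IndCof

set_option autoImplicit false
universe v
open IndCof

namespace Groth.Agent.S14492

open CategoryTheory CategoryTheory.Limits in
/-- Let C be a small abelian category all of whose objects are Artinian and killed by some power of a
prime p, and let A be an ind-object of C of cofinite type, i.e. for every n the p^n-torsion
sub-object A[p^n] (the kernel of multiplication by p^n) is isomorphic to an object of C. Then A /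
p^n A (the cokernel of multiplication by p^n) is isomorphic to an object of C for every n. -/
theorem result {C : Type v} [SmallCategory C] [Abelian C]
    (hart : ∀ X : C, IsArtinianObject X) (p : ℕ) (hp : p.Prime)
    (htor : ∀ X : C, ∃ n : ℕ, (p ^ n) • 𝟙 X = 0)
    (A : Ind C) (hA : ∀ n : ℕ, (Ind.yoneda (C := C)).essImage (kernel ((p ^ n) • 𝟙 A))) (n : ℕ) :
    (Ind.yoneda (C := C)).essImage (cokernel ((p ^ n) • 𝟙 A)) := by
  obtain ⟨M₀, hM₀⟩ := Groth.Agent.Lib.IndCof.exists_stab A p hart hA
  exact Groth.Agent.Lib.IndCof.rep_cokernel_pow A p htor M₀ hM₀ hA n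

end Groth.Agent.S14492
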