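-- S14493: cofinite type ind-objects closed under kernels/cokernels (snake lemma + extension closure of representables)
import Groth.Statements.S14493
import Groth.Agent.Lib.IndCof2

set_option autoImplicit false
universe v
open IndCof

namespace Groth.Agent.S14493

open CategoryTheory CategoryTheory.Limits in
/-- Let C be a small abelian category all of whose objects are Artinian and killed by some power of a
prime p. The ind-objects of cofinite type (those A in Ind C with every p^n-torsion sub-object A[p^n]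
isomorphic to an object of C) form an abelian subcategory of Ind C: for a morphism f : A ⟶ B between
ind-objects of cofinite type, the kernel and the cokernel of f in Ind C are of cofinite type. -/
theorem result {C : Type v} [SmallCategory C] [Abelian C]
    (hart : ∀ X : C, IsArtinianObject X) (p : ℕ) (hp : p.Prime)
    (htor : ∀ X : C, ∃ n : ℕ, (p ^ n) • 𝟙 X = 0)
    (A B : Ind C) (hA : ∀ n : ℕ, (Ind.yoneda (C := C)).essImage (kernel ((p ^ n) • 𝟙 A))) (hB : ∀ n : ℕ, (Ind.yoneda (C := C)).essImage (kernel ((p ^ n) • 𝟙 B))) (f : A ⟶ B) :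
    (∀ n : ℕ, (Ind.yoneda (C := C)).essImage (kernel ((p ^ n) • 𝟙 (kernel f)))) ∧
      (∀ n : ℕ, (Ind.yoneda (C := C)).essImage (kernel ((p ^ n) • 𝟙 (cokernel f)))) := by
  have key := Groth.Agent.Lib.IndCof2.cof_kernel_cokernel (C := C) (fun ν => ∃ n : ℕ, ν = p ^ n)
    (by
      rintro X hX _ ⟨n, rfl⟩
      have hX' : ∀ m : ℕ, (Ind.yoneda (C := C)).essImage (kernel ((p ^ m) • 𝟙 X)) :=
        fun m => hX _ ⟨m, rfl⟩
      obtain ⟨M₀, hM₀⟩ := Groth.Agent.Lib.IndCof.exists_stab X p hart hX'
      exact Groth.Agent.Lib.IndCof.rep_cokernel_pow X p htor M₀ hM₀ hX' n)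
    f (by rintro _ ⟨n, rfl⟩; exact hA n) (by rintro _ ⟨n, rfl⟩; exact hB n)
  exact ⟨fun n => key.1 _ ⟨n, rfl⟩, fun n => key.2 _ ⟨n, rfl⟩⟩

end Groth.Agent.S14493
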