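-- S14496: divisible part p^N A: cofinite type, divisible, largest divisible, killed by maps to representables
import Groth.Statements.S14496
import Groth.Agent.Lib.IndCof4

set_option autoImplicit false
universe v
open IndCof

namespace Groth.Agent.S14496

open CategoryTheory CategoryTheory.Limits in
/-- Let C be a small abelian category all of whose objects are Artinian and killed by some power of a
prime p, and A an ind-object of C of cofinite type. Let N be such that p^n A = p^N A for all n ≥ N,
so that the divisible part A_div = ⋂ p^n A equals p^N A. Then A_div is of cofinite type and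
divisible (multiplication by p on it is an epimorphism; integers prime to p act invertibly on every
ind-object here, so this is divisibility by all positive integers); it is the largest divisible
sub-object of A; and A / A_div is the largest quotient of A lying in C: every epimorphism from A
onto an object isomorphic to an object of C vanishes on A_div. (The row takes the stabilization
index N as a hypothesis instead of forming the intersection; that A / A_div itself lies in C is the
statement about A / p^N A and is not repeated here.) -/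
theorem result {C : Type v} [SmallCategory C] [Abelian C]
    (hart : ∀ X : C, IsArtinianObject X) (p : ℕ) (hp : p.Prime)
    (htor : ∀ X : C, ∃ n : ℕ, (p ^ n) • 𝟙 X = 0)
    (A : Ind C) (hA : ∀ n : ℕ, (Ind.yoneda (C := C)).essImage (kernel ((p ^ n) • 𝟙 A))) (N : ℕ)
    (hN : ∀ n : ℕ, N ≤ n → imageSubobject ((p ^ n) • 𝟙 A) = imageSubobject ((p ^ N) • 𝟙 A)) :
    (∀ n : ℕ, (Ind.yoneda (C := C)).essImage
        (kernel ((p ^ n) • 𝟙 ((imageSubobject ((p ^ N) • 𝟙 A) : Subobject A) : Ind C)))) ∧
      Epi (p • 𝟙 ((imageSubobject ((p ^ N) • 𝟙 A) : Subobject A) : Ind C)) ∧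
      (∀ D : Subobject A, Epi (p • 𝟙 (D : Ind C)) → D ≤ imageSubobject ((p ^ N) • 𝟙 A)) ∧
      (∀ (Q : Ind C) (q : A ⟶ Q), Epi q → (Ind.yoneda (C := C)).essImage Q →
        (imageSubobject ((p ^ N) • 𝟙 A)).arrow ≫ q = 0) := by
  have hQ : (Ind.yoneda (C := C)).essImage (cokernel ((p ^ N) • 𝟙 A)) := by
    obtain ⟨M₀, hM₀⟩ := Groth.Agent.Lib.IndCof.exists_stab A p hart hA
    exact Groth.Agent.Lib.IndCof.rep_cokernel_pow A p htor M₀ hM₀ hA N
  refine ⟨fun n => Groth.Agent.Lib.IndCof4.rep_kernel_nsmul_image_pow A p N _ (hA n) hQ,
    Groth.Agent.Lib.IndCof4.epi_nsmul_image A p N (hN (N + 1) (Nat.le_succ N)),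
    fun D hD => Groth.Agent.Lib.IndCof4.le_image_of_epi A p D hD N, ?_⟩
  intro Q q _ hQ'
  obtain ⟨e, he⟩ := Groth.Agent.Lib.IndCof4.exists_pow_nsmul_eq_zero_of_rep p htor hQ'
  exact Groth.Agent.Lib.IndCof4.image_arrow_comp_eq_zero A p q e he N (hN (N + e) (Nat.le_add_right N e))

end Groth.Agent.S14496
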