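-- S14497: divisibly-ML iff divisible subobject with bounded quotient (pure abelian, elementwise with refinements)
import Groth.Statements.S14497
import Groth.Agent.Lib.IndCof

set_option autoImplicit false
universe v u
open IndCof

namespace Groth.Agent.S14497

open CategoryTheory CategoryTheory.Limits Groth.Agent.Lib.IndCof Groth.Agent.Lib.H86SubobjElem in
/-- If `M` kills `B / B'` then `M x ∈ B'` for every `x`. -/
theorem factors_nsmul_of_killed {V : Type u} [Category.{v} V] [Abelian V] {B : V}
    (B' : Subobject B) (M : ℕ) (hM : M • 𝟙 (cokernel B'.arrow) = 0) {W : V} (x : W ⟶ B) :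
    B'.Factors (x ≫ (M • 𝟙 B)) := by
  have hQ : imageSubobject B'.arrow = B' := by rw [imageSubobject_mono, Subobject.mk_arrow]
  rw [← hQ]
  apply imageSubobject_factors_of_comp_cokernel
  rw [Category.assoc, ← comp_nsmul_id, hM, comp_zero, comp_zero]

open CategoryTheory CategoryTheory.Limits Groth.Agent.Lib.IndCof Groth.Agent.Lib.H86SubobjElem in
/-- A divisible subobject lies in every `B'` with `B / B'` killed by a positive integer. -/
theorem le_of_divisible {V : Type u} [Category.{v} V] [Abelian V] {B : V}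
    (B' : Subobject B) (M : ℕ) (hM0 : 0 < M) (hM : M • 𝟙 (cokernel B'.arrow) = 0)
    (D : Subobject B) (hD : ∀ k : ℕ, 0 < k → Epi (k • 𝟙 (D : V))) : D ≤ B' := by
  rw [le_iff_forall_factors]
  intro W y hy
  have := hD M hM0
  obtain ⟨W', π, hπ, z, hz⟩ := surjective_up_to_refinements_of_epi (M • 𝟙 (D : V))
    (D.factorThru y hy)
  have e : π ≫ y = (z ≫ D.arrow) ≫ (M • 𝟙 B) := by
    rw [Category.assoc, comp_nsmul_id D.arrow, ← Category.assoc, ← hz, Category.assoc,
      Subobject.factorThru_arrow]
  apply factors_of_epi_comp B' π y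
  rw [e]
  exact factors_nsmul_of_killed B' M hM _

open CategoryTheory CategoryTheory.Limits Groth.Agent.Lib.IndCof Groth.Agent.Lib.H86SubobjElem in
/-- If `(m k) B = m B` then `m B` is `k`-divisible. -/
theorem epi_nsmul_image' {V : Type u} [Category.{v} V] [Abelian V] (B : V) (m k : ℕ)
    (h : imageSubobject ((m * k) • 𝟙 B) = imageSubobject (m • 𝟙 B)) :
    Epi (k • 𝟙 ((imageSubobject (m • 𝟙 B) : Subobject B) : V)) := by
  rw [epi_iff_surjective_up_to_refinements]
  intro W d
  have hf : (imageSubobject ((m * k) • 𝟙 B)).Factors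
      (d ≫ (imageSubobject (m • 𝟙 B)).arrow) := by
    rw [h]; exact Subobject.factors_comp_arrow _
  rw [imageSubobject_factors_iff] at hf
  obtain ⟨W', π, hπ, w, hw⟩ := hf
  refine ⟨W', π, hπ, w ≫ factorThruImageSubobject (m • 𝟙 B), ?_⟩
  rw [← cancel_mono (imageSubobject (m • 𝟙 B)).arrow, Category.assoc, hw, Category.assoc,
    Category.assoc, ← comp_nsmul_id, imageSubobject_arrow_comp_assoc, nsmul_id_comp]

open CategoryTheory CategoryTheory.Limits in
/-- Let B be an object of an abelian category and consider the inverse system, indexed by the positive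
integers ordered by divisibility, with every term equal to B and transition map from the m-th to the
n-th term (n ∣ m) given by multiplication by m/n. This system is Mittag-Leffler, i.e. for every n
the images in the n-th term of the transition maps are eventually constant, if and only if B has a
divisible sub-object B' (multiplication by every positive integer is an epimorphism of B') with B/B'
killed by some positive integer. Moreover such a B' is the largest divisible sub-object of B. -/
theorem result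
    {V : Type u} [Category.{v} V] [Abelian V] (B : V) :
    ((∀ n : ℕ, 0 < n → ∃ m : ℕ, 0 < m ∧ n ∣ m ∧ ∀ m' : ℕ, 0 < m' → m ∣ m' →
        imageSubobject ((m' / n) • 𝟙 B) = imageSubobject ((m / n) • 𝟙 B)) ↔
      ∃ B' : Subobject B, (∀ k : ℕ, 0 < k → Epi (k • 𝟙 (B' : V))) ∧
        ∃ M : ℕ, 0 < M ∧ M • 𝟙 (cokernel B'.arrow) = 0) ∧
    (∀ B' : Subobject B, (∀ k : ℕ, 0 < k → Epi (k • 𝟙 (B' : V))) →
      (∃ M : ℕ, 0 < M ∧ M • 𝟙 (cokernel B'.arrow) = 0) →
      ∀ D : Subobject B, (∀ k : ℕ, 0 < k → Epi (k • 𝟙 (D : V))) → D ≤ B') := by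
  refine ⟨⟨?_, ?_⟩, ?_⟩
  · -- Mittag-Leffler ⇒ divisible subobject with bounded quotient
    intro hML
    obtain ⟨m, hm0, -, hm⟩ := hML 1 Nat.one_pos
    simp only [Nat.div_one] at hm
    refine ⟨imageSubobject (m • 𝟙 B), fun k hk => ?_, m, hm0, ?_⟩
    · exact epi_nsmul_image' B m k (hm (m * k) (Nat.mul_pos hm0 hk) (Dvd.intro k rfl))
    · have e : (m • 𝟙 B) ≫ cokernel.π (imageSubobject (m • 𝟙 B)).arrow = 0 := by
        calc (m • 𝟙 B) ≫ cokernel.π (imageSubobject (m • 𝟙 B)).arrow
            = (factorThruImageSubobject (m • 𝟙 B) ≫ (imageSubobject (m • 𝟙 B)).arrow) ≫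
                cokernel.π (imageSubobject (m • 𝟙 B)).arrow := by
              rw [imageSubobject_arrow_comp]
          _ = 0 := by rw [Category.assoc, cokernel.condition, comp_zero]
      rw [← cancel_epi (cokernel.π (imageSubobject (m • 𝟙 B)).arrow), comp_zero,
        Groth.Agent.Lib.IndCof.comp_nsmul_id, e]
  · -- conversely
    rintro ⟨B', hdiv, M, hM0, hM⟩ n hn
    refine ⟨n * M, Nat.mul_pos hn hM0, Dvd.intro M rfl, ?_⟩
    intro m' hm'0 hm'
    obtain ⟨c, rfl⟩ := hm'
    have hc : 0 < c := Nat.pos_of_mul_pos_left hm'0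
    rw [Nat.mul_assoc, Nat.mul_div_cancel_left _ hn, Nat.mul_div_cancel_left _ hn]
    apply le_antisymm
    · rw [mul_comm, ← Groth.Agent.Lib.IndCof.nsmul_id_comp]
      exact imageSubobject_comp_le _ _
    · rw [Groth.Agent.Lib.H86SubobjElem.le_iff_forall_factors]
      intro W y hy
      rw [Groth.Agent.Lib.H86SubobjElem.imageSubobject_factors_iff] at hy ⊢
      obtain ⟨W', π, hπ, w, hw⟩ := hy
      have hf : B'.Factors (w ≫ (M • 𝟙 B)) := factors_nsmul_of_killed B' M hM w
      have := hdiv (M * c) (Nat.mul_pos hM0 hc)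
      obtain ⟨W'', π', hπ', b', hb'⟩ := surjective_up_to_refinements_of_epi
        ((M * c) • 𝟙 (B' : V)) (B'.factorThru _ hf)
      refine ⟨W'', π' ≫ π, epi_comp _ _, b' ≫ B'.arrow, ?_⟩
      rw [Category.assoc, hw, Category.assoc b', Groth.Agent.Lib.IndCof.comp_nsmul_id B'.arrow,
        ← Category.assoc b', ← hb', Category.assoc, Subobject.factorThru_arrow]
  · -- maximality
    rintro B' - ⟨M, hM0, hM⟩ D hD
    exact le_of_divisible B' M hM0 hM D hD

end Groth.Agent.S14497
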