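import Groth.Statements.S14498
import Mathlib
-- import your own Groth.Agent.* helpers here

set_option autoImplicit false
universe v u
open AbDiag

namespace Groth.Agent.S14498

open CategoryTheory CategoryTheory.Limits in
/-- In an abelian category, let 0 → F → W → E' → 0 (maps a, b) and 0 → E → W → F' → G → G' → 0 (maps c,
d, e, g) be exact sequences such that the composite F → W → F' is a monomorphism. Then the composite
E → W → E' is a monomorphism, and there is a short exact sequence 0 → Coker(E → E') → Coker(F → F')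
→ Ker(G → G') → 0 whose first map is induced by d (through the quotient map b) and whose second map
is induced by e. -/
theorem result
    {V : Type u} [Category.{v} V] [Abelian V] {F W E' E F' G G' : V}
    (a : F ⟶ W) (b : W ⟶ E') (c : E ⟶ W) (d : W ⟶ F') (e : F' ⟶ G) (g : G ⟶ G')
    [Mono a] [Epi b] (wab : a ≫ b = 0) (hab : (ShortComplex.mk a b wab).Exact)
    [Mono c] (wcd : c ≫ d = 0) (hcd : (ShortComplex.mk c d wcd).Exact)
    (wde : d ≫ e = 0) (hde : (ShortComplex.mk d e wde).Exact)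
    (weg : e ≫ g = 0) (heg : (ShortComplex.mk e g weg).Exact) [Epi g]
    (hmono : Mono (a ≫ d)) :
    Mono (c ≫ b) ∧
      ∃ (φ : cokernel (c ≫ b) ⟶ cokernel (a ≫ d)) (ψ : cokernel (a ≫ d) ⟶ kernel g)
        (w : φ ≫ ψ = 0),
        b ≫ cokernel.π (c ≫ b) ≫ φ = d ≫ cokernel.π (a ≫ d) ∧
        cokernel.π (a ≫ d) ≫ ψ ≫ kernel.ι g = e ∧
        (ShortComplex.mk φ ψ w).ShortExact := by
  classical
  -- (1) `c ≫ b` is a monomorphism
  have hmono1 : Mono (c ≫ b) := by
    rw [Preadditive.mono_iff_cancel_zero]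
    intro A x hx
    obtain ⟨A', π, hπ, y, hy⟩ := hab.exact_up_to_refinements (x ≫ c) (by simpa using hx)
    dsimp at y hy
    have hy0 : y = 0 := by
      rw [← cancel_mono (a ≫ d), zero_comp, ← Category.assoc, ← hy]
      simp [wcd]
    rw [hy0, zero_comp] at hy
    have : x ≫ c = 0 := by
      rw [← cancel_epi π, comp_zero]; simpa using hy
    rw [← cancel_mono c, zero_comp]; exact this
  refine ⟨hmono1, ?_⟩
  -- the maps
  have hβ : a ≫ d ≫ cokernel.π (a ≫ d) = 0 := by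
    rw [← Category.assoc, cokernel.condition]
  -- `b` is a cokernel of `a`
  have hbcok : IsColimit (CokernelCofork.ofπ b wab) := hab.gIsCokernel
  let β : E' ⟶ cokernel (a ≫ d) := hbcok.desc (CokernelCofork.ofπ (d ≫ cokernel.π (a ≫ d)) hβ)
  have hbβ : b ≫ β = d ≫ cokernel.π (a ≫ d) :=
    hbcok.fac (CokernelCofork.ofπ (d ≫ cokernel.π (a ≫ d)) hβ) WalkingParallelPair.one
  have hcbβ : (c ≫ b) ≫ β = 0 := by
    rw [Category.assoc, hbβ, ← Category.assoc, wcd, zero_comp]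
  let φ : cokernel (c ≫ b) ⟶ cokernel (a ≫ d) := cokernel.desc (c ≫ b) β hcbβ
  have hφ : cokernel.π (c ≫ b) ≫ φ = β := cokernel.π_desc _ _ _
  let e' : F' ⟶ kernel g := kernel.lift g e weg
  have he' : e' ≫ kernel.ι g = e := kernel.lift_ι _ _ _
  have hade' : (a ≫ d) ≫ e' = 0 := by
    rw [← cancel_mono (kernel.ι g), Category.assoc, he', Category.assoc, wde, comp_zero, zero_comp]
  let ψ : cokernel (a ≫ d) ⟶ kernel g := cokernel.desc (a ≫ d) e' hade'
  have hψ : cokernel.π (a ≫ d) ≫ ψ = e' := cokernel.π_desc _ _ _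
  have hb1 : b ≫ cokernel.π (c ≫ b) ≫ φ = d ≫ cokernel.π (a ≫ d) := by rw [hφ, hbβ]
  have hb2 : cokernel.π (a ≫ d) ≫ ψ ≫ kernel.ι g = e := by
    rw [← Category.assoc, hψ, he']
  have w : φ ≫ ψ = 0 := by
    rw [← cancel_epi (cokernel.π (c ≫ b)), ← cancel_epi b, ← cancel_mono (kernel.ι g)]
    simp only [Category.assoc, comp_zero, zero_comp]
    rw [reassoc_of% hb1, hb2, wde]
  refine ⟨φ, ψ, w, hb1, hb2, ?_⟩
  -- mono φ
  have hmonoφ : Mono φ := by
    rw [Preadditive.mono_iff_cancel_zero]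
    intro A x hx
    have : Epi (b ≫ cokernel.π (c ≫ b)) := epi_comp _ _
    obtain ⟨A₁, π₁, hπ₁, w₁, hw₁⟩ :=
      surjective_up_to_refinements_of_epi (b ≫ cokernel.π (c ≫ b)) x
    have h1 : (w₁ ≫ d) ≫ cokernel.π (a ≫ d) = 0 := by
      calc (w₁ ≫ d) ≫ cokernel.π (a ≫ d) = w₁ ≫ (b ≫ cokernel.π (c ≫ b) ≫ φ) := by
            rw [hb1, Category.assoc]
        _ = (w₁ ≫ b ≫ cokernel.π (c ≫ b)) ≫ φ := by simp only [Category.assoc]
        _ = (π₁ ≫ x) ≫ φ := by rw [hw₁]
        _ = 0 := by rw [Category.assoc, hx, comp_zero]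
    obtain ⟨A₂, π₂, hπ₂, f, hf⟩ :=
      (CokernelCofork.IsColimit.comp_π_eq_zero_iff_up_to_refinements
        (cokernelIsCokernel (a ≫ d)) (w₁ ≫ d)).1 h1
    have h2 : (π₂ ≫ w₁ - f ≫ a) ≫ d = 0 := by
      rw [Preadditive.sub_comp, Category.assoc, Category.assoc, sub_eq_zero]
      exact hf
    obtain ⟨A₃, π₃, hπ₃, ε, hε⟩ := hcd.exact_up_to_refinements (π₂ ≫ w₁ - f ≫ a) h2
    dsimp at ε hε
    have h3 : π₃ ≫ π₂ ≫ w₁ = ε ≫ c + π₃ ≫ f ≫ a := by
      rw [← hε, Preadditive.comp_sub]; abel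
    have h4 : (π₃ ≫ π₂ ≫ π₁) ≫ x = 0 := by
      rw [Category.assoc, Category.assoc, hw₁, ← Category.assoc π₂, ← Category.assoc π₃, h3,
        Preadditive.add_comp]
      simp only [Category.assoc]
      rw [reassoc_of% wab, zero_comp, comp_zero, comp_zero, add_zero, ← Category.assoc c,
        cokernel.condition, comp_zero]
    have : Epi (π₃ ≫ π₂ ≫ π₁) := epi_comp' hπ₃ (epi_comp' hπ₂ hπ₁)
    rwa [← cancel_epi (π₃ ≫ π₂ ≫ π₁), comp_zero]
  -- epi ψ
  have hepiψ : Epi ψ := by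
    have : Epi e' := (ShortComplex.exact_iff_epi_kernel_lift _).1 heg
    have : Epi (cokernel.π (a ≫ d) ≫ ψ) := by rw [hψ]; infer_instance
    exact epi_of_epi (cokernel.π (a ≫ d)) ψ
  -- exactness
  have hex : (ShortComplex.mk φ ψ w).Exact := by
    rw [ShortComplex.exact_iff_exact_up_to_refinements]
    intro A x hx
    dsimp at x hx
    obtain ⟨A₁, π₁, hπ₁, f', hf'⟩ := surjective_up_to_refinements_of_epi (cokernel.π (a ≫ d)) x
    have h1 : f' ≫ e = 0 := by
      rw [← hb2, ← Category.assoc, ← hf', Category.assoc, reassoc_of% hx, zero_comp, comp_zero]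
    obtain ⟨A₂, π₂, hπ₂, w₂, hw₂⟩ := hde.exact_up_to_refinements f' h1
    dsimp at w₂ hw₂
    refine ⟨A₂, π₂ ≫ π₁, epi_comp' hπ₂ hπ₁, w₂ ≫ b ≫ cokernel.π (c ≫ b), ?_⟩
    dsimp
    rw [Category.assoc, Category.assoc, Category.assoc, hb1, ← Category.assoc w₂, ← hw₂,
      Category.assoc, hf']
  exact ShortComplex.ShortExact.mk' hex hmonoφ hepiψ

end Groth.Agent.S14498
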