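import Groth.Statements.S14503
import Groth.Agent.S14502

set_option autoImplicit false
universe u
open IntTh

namespace Groth.Agent.S14503

/-- Let A ⊆ B be a module-finite extension of domains with A Noetherian local of Krull dimension one, K
⊆ L their fraction fields, and r ∈ B nonzero. Then B/rB has finite length as an A-module and
length_A(B/rB) equals the order at the closed point of A of the norm N_{L/K}(r), i.e.
length_A(A/(a)) − length_A(A/(b)) for N_{L/K}(r) = a/b. -/
theorem result (A : Type u) [CommRing A] [IsDomain A]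
    [IsNoetherianRing A] [IsLocalRing A] (hA : ringKrullDim A = 1) (B : Type u) [CommRing B]
    [IsDomain B] [Algebra A B] (hinj : Function.Injective (algebraMap A B)) [Module.Finite A B]
    (K L : Type u) [Field K] [Field L] [Algebra A K] [IsFractionRing A K] [Algebra B L]
    [IsFractionRing B L] [Algebra K L] [Algebra A L] [IsScalarTower A B L] [IsScalarTower A K L]
    [FiniteDimensional K L] (r : B) (hr : r ≠ 0) :
    Module.length A (B ⧸ Ideal.span {r}) < ⊤ ∧
      ((Module.length A (B ⧸ Ideal.span {r})).toNat : ℤ) =
        CycAlg.ordFrac A K (Algebra.norm K (algebraMap B L r)) := by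
  classical
  let ι : B →ₗ[A] L := (IsScalarTower.toAlgHom A B L).toLinearMap
  have hιapp : ∀ b, ι b = algebraMap B L b := fun _ => rfl
  have hιinj : Function.Injective ι := IsFractionRing.injective B L
  set M : Submodule A L := LinearMap.range ι with hM
  -- `M` is a lattice
  have hfg : M.FG := by
    rw [hM, LinearMap.range_eq_map]
    exact (Module.Finite.fg_top).map ι
  have hspan : Submodule.span K (M : Set L) = ⊤ := by
    rw [eq_top_iff]
    intro l _
    -- the `K`-subalgebra generated by the image of `B`
    set S : Subalgebra K L := Algebra.adjoin K (Set.range (algebraMap B L)) with hS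
    have hSspan : (Subalgebra.toSubmodule S) = Submodule.span K (M : Set L) := by
      rw [hS, Algebra.adjoin_eq_span]
      congr 1
      have : (Submonoid.closure (Set.range (algebraMap B L)) : Set L) =
          Set.range (algebraMap B L) := by
        have h1 : Set.range (algebraMap B L) = ((algebraMap B L).rangeS.toSubmonoid : Set L) := rfl
        rw [h1, Submonoid.closure_eq]
      rw [this]
      ext x
      simp only [Set.mem_range, hM, SetLike.mem_coe, LinearMap.mem_range, hιapp]
    have hBS : ∀ b : B, algebraMap B L b ∈ S := fun b => Algebra.subset_adjoin ⟨b, rfl⟩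
    obtain ⟨b, s, hs, rfl⟩ := IsFractionRing.div_surjective (A := B) l
    have hs0 : algebraMap B L s ≠ 0 := by
      intro h0
      exact nonZeroDivisors.ne_zero hs ((IsFractionRing.injective B L) (by rw [h0, map_zero]))
    have halg : IsAlgebraic K (algebraMap B L s) := by
      have : IsIntegral A s := Algebra.IsIntegral.isIntegral s
      have h2 : IsIntegral A (algebraMap B L s) := this.map (IsScalarTower.toAlgHom A B L)
      exact (h2.tower_top (A := K)).isAlgebraic
    have hinv : (algebraMap B L s)⁻¹ ∈ S :=
      S.inv_mem_of_algebraic (x := ⟨algebraMap B L s, hBS s⟩) halg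
    have : algebraMap B L b / algebraMap B L s ∈ S := by
      rw [div_eq_mul_inv]; exact S.mul_mem (hBS b) hinv
    have h3 : algebraMap B L b / algebraMap B L s ∈ Subalgebra.toSubmodule S := this
    rw [hSspan] at h3
    exact h3
  have : Submodule.IsLattice K M := ⟨hfg, hspan⟩
  -- multiplication by `r`
  set r' : L := algebraMap B L r with hr'def
  have hr' : r' ≠ 0 := by
    intro h0
    exact hr ((IsFractionRing.injective B L) (by rw [← hr'def, h0, map_zero]))
  let φ : L ≃ₗ[K] L := LinearEquiv.ofLinearMap (LinearMap.mulLeft K r') (LinearMap.mulLeft K r'⁻¹)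
    (by ext x; simp [hr']) (by ext x; simp [hr'])
  have hφapp : ∀ x, φ x = r' * x := fun _ => rfl
  obtain ⟨_, h1, h2, h3⟩ := Groth.Agent.S14502.result A hA K L M φ
  set φM : Submodule A L := M.map (φ.toLinearMap.restrictScalars A) with hφM
  have hφMle : φM ≤ M := by
    rintro _ ⟨x, ⟨b, rfl⟩, rfl⟩
    refine ⟨r * b, ?_⟩
    show ι (r * b) = φ (ι b)
    rw [hφapp, hιapp, hιapp, map_mul]
  have hinf : M ⊓ φM = φM := inf_eq_right.mpr hφMle
  -- second quotient is trivial
  have hsecond : Module.length A (↥φM ⧸ (M ⊓ φM).submoduleOf φM) = 0 := by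
    rw [Module.length_eq_zero_iff]
    rw [hinf]
    have : (φM.submoduleOf φM) = ⊤ := Submodule.submoduleOf_self φM
    rw [this]
    infer_instance
  -- first quotient is `B / rB`
  let e0 : B ≃ₗ[A] M := LinearEquiv.ofInjective ι hιinj
  have he0 : ∀ b, ((e0 b : M) : L) = algebraMap B L b := fun _ => rfl
  have hmap : ((Ideal.span {r} : Ideal B).restrictScalars A).map (e0 : B →ₗ[A] M) =
      (M ⊓ φM).submoduleOf M := by
    rw [hinf]
    ext ⟨y, hy⟩
    simp only [Submodule.mem_map, Submodule.restrictScalars_mem, Submodule.submoduleOf,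
      Submodule.mem_comap, Submodule.subtype_apply]
    constructor
    · rintro ⟨b, hb, hby⟩
      rw [Ideal.mem_span_singleton'] at hb
      obtain ⟨c, rfl⟩ := hb
      have hy' : y = algebraMap B L (c * r) := by
        have := congrArg (fun z : M => (z : L)) hby
        simpa [he0] using this.symm
      rw [hy']
      refine ⟨ι c, ⟨c, rfl⟩, ?_⟩
      show φ (ι c) = _
      rw [hφapp, hιapp, map_mul, mul_comm]
    · rintro ⟨x, ⟨c, rfl⟩, hx⟩
      refine ⟨c * r, Ideal.mem_span_singleton'.mpr ⟨c, rfl⟩, ?_⟩
      apply Subtype.ext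
      show algebraMap B L (c * r) = y
      rw [← hx]
      show _ = φ (ι c)
      rw [hφapp, hιapp, map_mul, mul_comm]
  let e1 : (B ⧸ (Ideal.span {r} : Ideal B).restrictScalars A) ≃ₗ[A]
      (↥M ⧸ (M ⊓ φM).submoduleOf M) :=
    Submodule.Quotient.equiv _ _ e0 hmap
  let e2 : (B ⧸ (Ideal.span {r} : Ideal B).restrictScalars A) ≃ₗ[A] (B ⧸ (Ideal.span {r} : Ideal B)) :=
    Submodule.Quotient.restrictScalarsEquiv A (Ideal.span {r} : Ideal B)
  have hlen : Module.length A (B ⧸ Ideal.span {r}) =
      Module.length A (↥M ⧸ (M ⊓ φM).submoduleOf M) :=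
    (e2.symm.trans e1).length_eq
  refine ⟨by rw [hlen]; exact h1, ?_⟩
  rw [hlen]
  rw [hsecond] at h3
  have hdet : LinearMap.det φ.toLinearMap = Algebra.norm K r' := by
    rw [Algebra.norm_apply]
    rfl
  rw [hdet] at h3
  simpa using h3

end Groth.Agent.S14503
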