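import Mathlib
import Groth.Statements.S14505

set_option autoImplicit false
universe u
open IntTh

namespace Groth.Agent.S14505

section Helpers

variable {R : Type u} [CommRing R]

theorem coeff_zero_one_add_mul (a : R) (F : PowerSeries R) :
    PowerSeries.coeff 0 ((1 + PowerSeries.C a * PowerSeries.X) * F) = PowerSeries.coeff 0 F := by
  rw [add_mul, one_mul, map_add, mul_assoc, PowerSeries.coeff_C_mul, PowerSeries.coeff_zero_X_mul,
    mul_zero, add_zero]

theorem coeff_succ_one_add_mul (a : R) (F : PowerSeries R) (n : ℕ) :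
    PowerSeries.coeff (n + 1) ((1 + PowerSeries.C a * PowerSeries.X) * F)
      = PowerSeries.coeff (n + 1) F + a * PowerSeries.coeff n F := by
  rw [add_mul, one_mul, map_add, mul_assoc, PowerSeries.coeff_C_mul, PowerSeries.coeff_succ_X_mul]

theorem one_add_mul_geom (a : R) :
    (1 + PowerSeries.C a * PowerSeries.X) * PowerSeries.mk (fun m => (-a) ^ m) = 1 := by
  ext m
  cases m with
  | zero => rw [coeff_zero_one_add_mul]; simp
  | succ n =>
    rw [coeff_succ_one_add_mul, PowerSeries.coeff_mk, PowerSeries.coeff_mk, PowerSeries.coeff_one]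
    simp only [Nat.succ_ne_zero, if_false, pow_succ]
    ring

theorem coeff_prod_mul_geom (e : ℕ) (β : Fin e → R) (s : R) (m : ℕ) (hm : e ≤ m) :
    PowerSeries.coeff m ((∏ j : Fin e, (1 + PowerSeries.C (β j) * PowerSeries.X)) *
        PowerSeries.mk (fun k => s ^ k)) = s ^ (m - e) * ∏ j, (β j + s) := by
  induction e generalizing m with
  | zero => simp
  | succ e ih =>
    rw [Fin.prod_univ_succ, Fin.prod_univ_succ, mul_assoc]
    obtain ⟨n, rfl⟩ : ∃ n, m = n + 1 := ⟨m - 1, by omega⟩
    rw [coeff_succ_one_add_mul, ih _ (n + 1) (by omega), ih _ n (by omega)]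
    have h1 : n + 1 - e = (n - e) + 1 := by omega
    have h2 : n + 1 - (e + 1) = n - e := by omega
    rw [h1, h2, pow_succ]
    ring

/-- the matrix of the statement -/
noncomputable def Mat (d e : ℕ) (α : Fin d → R) (β : Fin e → R) : Matrix (Fin d) (Fin d) R :=
  Matrix.of fun i j : Fin d =>
        if (i : ℕ) ≤ e + (j : ℕ) then
          PowerSeries.coeff (e + (j : ℕ) - (i : ℕ))
            ((∏ j : Fin e, (1 + PowerSeries.C (β j) * PowerSeries.X)) *
              ∏ l : Fin d, if l ≤ i then PowerSeries.mk (fun m => (-α l) ^ m) else 1)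
        else 0

theorem Mat_apply (d e : ℕ) (α : Fin d → R) (β : Fin e → R) (i j : Fin d) :
    Mat d e α β i j = if (i : ℕ) ≤ e + (j : ℕ) then
          PowerSeries.coeff (e + (j : ℕ) - (i : ℕ))
            ((∏ j : Fin e, (1 + PowerSeries.C (β j) * PowerSeries.X)) *
              ∏ l : Fin d, if l ≤ i then PowerSeries.mk (fun m => (-α l) ^ m) else 1)
        else 0 := rfl

theorem prod_zero_row (d : ℕ) (α : Fin (d + 1) → R) :
    (∏ l : Fin (d + 1), if l ≤ (0 : Fin (d + 1)) then PowerSeries.mk (fun m => (-α l) ^ m) else 1)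
      = PowerSeries.mk (fun m => (-α 0) ^ m) := by
  rw [Fin.prod_univ_succ]
  simp only [le_refl, if_true]
  rw [Finset.prod_eq_one, mul_one]
  intro l _
  rw [if_neg]
  exact not_le.mpr (Fin.succ_pos l)

theorem one_add_mul_prod_succ (d : ℕ) (α : Fin (d + 1) → R) (i' : Fin d) :
    (1 + PowerSeries.C (α 0) * PowerSeries.X) *
      (∏ l : Fin (d + 1), if l ≤ i'.succ then PowerSeries.mk (fun m => (-α l) ^ m) else 1)
    = ∏ l' : Fin d, if l' ≤ i' then PowerSeries.mk (fun m => (-α l'.succ) ^ m) else 1 := by
  rw [Fin.prod_univ_succ, if_pos (Fin.zero_le _), ← mul_assoc, one_add_mul_geom, one_mul]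
  apply Finset.prod_congr rfl
  intro l _
  simp only [Fin.succ_le_succ_iff]

theorem main (d e : ℕ) (α : Fin d → R) (β : Fin e → R) :
    ∏ i : Fin d, ∏ j : Fin e, (β j - α i) = (Mat d e α β).det := by
  induction d with
  | zero => simp
  | succ d ih =>
    set A := Mat (d + 1) e α β with hA
    let B : Matrix (Fin (d + 1)) (Fin (d + 1)) R :=
      Matrix.of fun i j => Fin.cases (A i 0) (fun j' => A i j'.succ + α 0 * A i j'.castSucc) j
    have hAB : A.det = B.det := by
      apply Matrix.det_eq_of_forall_col_eq_smul_add_pred (fun _ => - α 0)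
      · intro i; rfl
      · intro i j
        change A i j.succ = (A i j.succ + α 0 * A i j.castSucc) + -α 0 * A i j.castSucc
        ring
    -- first row of A
    have hA0 : ∀ j : Fin (d + 1), A 0 j = (-α 0) ^ (j : ℕ) * ∏ k, (β k - α 0) := by
      intro j
      rw [hA, Mat_apply, if_pos (by simp), prod_zero_row, coeff_prod_mul_geom e β (-α 0) _ (by simp)]
      simp [sub_eq_add_neg]
    have hB00 : B 0 0 = ∏ k, (β k - α 0) := by
      change A 0 0 = _
      rw [hA0]; simp
    have hB0 : ∀ j' : Fin d, B 0 j'.succ = 0 := by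
      intro j'
      change A 0 j'.succ + α 0 * A 0 j'.castSucc = 0
      rw [hA0, hA0]
      simp only [Fin.val_succ, Fin.val_castSucc, pow_succ]
      ring
    have hBsub : B.submatrix Fin.succ Fin.succ = Mat d e (fun i => α i.succ) β := by
      ext i' j'
      change A i'.succ j'.succ + α 0 * A i'.succ j'.castSucc = _
      rw [hA, Mat_apply, Mat_apply, Mat_apply, ← one_add_mul_prod_succ d α i', mul_left_comm]
      simp only [Fin.val_succ, Fin.val_castSucc]
      by_cases h1 : (i' : ℕ) ≤ e + (j' : ℕ)
      · rw [if_pos (by omega), if_pos h1]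
        by_cases h2 : (i' : ℕ) + 1 ≤ e + (j' : ℕ)
        · rw [if_pos h2]
          obtain ⟨n, hn⟩ : ∃ n, e + (j' : ℕ) - ((i' : ℕ) + 1) = n := ⟨_, rfl⟩
          have h3 : e + ((j' : ℕ) + 1) - ((i' : ℕ) + 1) = n + 1 := by omega
          have h4 : e + (j' : ℕ) - (i' : ℕ) = n + 1 := by omega
          rw [hn, h3, h4, coeff_succ_one_add_mul]
        · rw [if_neg h2, mul_zero, add_zero]
          have h3 : e + ((j' : ℕ) + 1) - ((i' : ℕ) + 1) = 0 := by omega
          have h4 : e + (j' : ℕ) - (i' : ℕ) = 0 := by omega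
          rw [h3, h4, coeff_zero_one_add_mul]
      · rw [if_neg (by omega), if_neg (by omega), if_neg h1, mul_zero, add_zero]
    rw [hAB, Matrix.det_succ_row_zero, Finset.sum_eq_single 0]
    · rw [Fin.prod_univ_succ, hB00, Fin.succAbove_zero, hBsub, ← ih]
      simp
    · intro j _ hj
      obtain ⟨j', rfl⟩ := Fin.exists_succ_eq.mpr hj
      rw [hB0]; simp
    · intro h; exact absurd (Finset.mem_univ _) h

end Helpers

/-- Let R be a commutative ring, α₁, …, α_d, β₁, …, β_e ∈ R, b(t) = ∏ (1 + β_j t), and for k = 1, …, d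
let P_k(t) = b(t)/∏_{i ≤ k} (1 + α_i t) ∈ R⟦t⟧, each factor 1 + α_i t being inverted by its
geometric series; write (P_k)_m for the coefficient of t^m, with (P_k)_m = 0 for m < 0. Then ∏_{i,j}
(β_j − α_i) = det((P_i)_{e+j−i})_{1 ≤ i,j ≤ d}, the d × d determinant whose i-th row is built from
the coefficients of the i-th partial quotient. (Rows and columns are 0-based in the formal
statement, which does not change j − i; the row of index i inverts the factors of index at most i.
The companion form with every row built from the full quotient b/a is stated separately.) -/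
theorem result (R : Type u) [CommRing R] (d e : ℕ)
    (α : Fin d → R) (β : Fin e → R) :
    ∏ i : Fin d, ∏ j : Fin e, (β j - α i) =
      (Matrix.of fun i j : Fin d =>
        if (i : ℕ) ≤ e + (j : ℕ) then
          PowerSeries.coeff (e + (j : ℕ) - (i : ℕ))
            ((∏ j : Fin e, (1 + PowerSeries.C (β j) * PowerSeries.X)) *
              ∏ l : Fin d, if l ≤ i then PowerSeries.mk (fun m => (-α l) ^ m) else 1)
        else 0).det := by
  exact main d e α β

end Groth.Agent.S14505
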