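import Groth.Statements.S14511
-- import your own Groth.Agent.* helpers here

set_option autoImplicit false
universe u
open CAlgX

namespace Groth.Agent.S14511

open Finset in
theorem key (R : Type u) [CommRing R] (r : ℕ) (α : Fin r →₀ ℕ)
    (hα : (α.sum fun _ n => n) ≤ r) :
    ∑ J : Finset (Fin r), (-1 : R) ^ J.card * ∏ i, (if i ∈ J then (-1 : R) else 0) ^ (α i) =
      if (∑ i : Fin r, Finsupp.single i 1) = α then 1 else 0 := by
  have h1 : ∀ J : Finset (Fin r), (-1 : R) ^ J.card * ∏ i, (if i ∈ J then (-1 : R) else 0) ^ (α i) =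
      (∏ i ∈ J, (-((-1 : R) ^ (α i)))) * ∏ i ∈ univ \ J, (0 : R) ^ (α i) := by
    intro J
    rw [← Finset.prod_sdiff (Finset.subset_univ J), mul_comm (∏ i ∈ univ \ J, _), ← mul_assoc]
    congr 1
    · rw [← Finset.prod_const, ← Finset.prod_mul_distrib]
      refine Finset.prod_congr rfl fun i hi => ?_
      rw [if_pos hi]; ring
    · refine Finset.prod_congr rfl fun i hi => ?_
      rw [if_neg (Finset.mem_sdiff.1 hi).2]
  simp_rw [h1]
  rw [← Finset.powerset_univ, ← Finset.prod_add]
  split_ifs with h
  · subst h
    apply Finset.prod_eq_one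
    intro i _
    simp [Finsupp.single_apply]
  · -- some α i = 0, else α = 1
    by_cases h0 : ∃ i, α i = 0
    · obtain ⟨i, hi⟩ := h0
      apply Finset.prod_eq_zero (Finset.mem_univ i)
      simp [hi]
    · exfalso
      push Not at h0
      apply h
      have hsum : (α.sum fun _ n => n) = ∑ i, α i := by
        rw [Finsupp.sum_fintype]; simp
      have hle : ∀ i, 1 ≤ α i := fun i => Nat.one_le_iff_ne_zero.2 (h0 i)
      have : ∀ i, α i = 1 := by
        by_contra hne
        push Not at hne
        obtain ⟨j, hj⟩ := hne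
        have hj2 : 2 ≤ α j := by have := hle j; omega
        have : ∑ i : Fin r, 1 < ∑ i, α i := by
          apply Finset.sum_lt_sum (fun i _ => hle i) ⟨j, Finset.mem_univ j, by omega⟩
        simp at this
        omega
      ext i
      simp [Finsupp.single_apply, this i]

/-- Let R be a commutative ring and P ∈ R[x_1, …, x_r] a polynomial of total degree at most r. Then the
coefficient of the monomial x_1 ⋯ x_r in P equals Σ_J (−1)^{|J|} P(δ_J), the sum over all subsets J
⊆ {1, …, r} (the empty one included), where δ_J is the point with coordinate −1 at the indices in J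
and 0 at the others. -/
theorem result (R : Type u) [CommRing R] (r : ℕ)
    (P : MvPolynomial (Fin r) R) (hP : P.totalDegree ≤ r) :
    MvPolynomial.coeff (∑ i : Fin r, Finsupp.single i 1) P =
      ∑ J : Finset (Fin r), (-1 : R) ^ J.card * MvPolynomial.eval (fun j => if j ∈ J then (-1 : R) else 0) P := by
  simp_rw [MvPolynomial.eval_eq', Finset.mul_sum]
  rw [Finset.sum_comm]
  have h2 : ∀ α ∈ P.support, ∑ J : Finset (Fin r), (-1 : R) ^ J.card *
      (MvPolynomial.coeff α P * ∏ i, (if i ∈ J then (-1 : R) else 0) ^ (α i)) =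
      MvPolynomial.coeff α P * (if (∑ i : Fin r, Finsupp.single i 1) = α then 1 else 0) := by
    intro α hα
    have hdeg : (α.sum fun _ n => n) ≤ r := (MvPolynomial.le_totalDegree hα).trans hP
    rw [← key R r α hdeg, Finset.mul_sum]
    refine Finset.sum_congr rfl fun J _ => ?_
    ring
  rw [Finset.sum_congr rfl h2]
  simp only [mul_ite, mul_one, mul_zero]
  rw [Finset.sum_ite_eq]
  split_ifs with h
  · rfl
  · exact MvPolynomial.notMem_support_iff.1 h

end Groth.Agent.S14511
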