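import Groth.Statements.S14514
import Groth.Agent.Lib.H30DimField
import Groth.Agent.Lib.H30DimRel
import Groth.Agent.Lib.QuasiSection

set_option autoImplicit false
universe u
open CategoryTheory CategoryTheory.Limits AlgebraicGeometry
open Variety

namespace Groth.Agent.S14514


open Groth.Agent.Lib.H30DimField Groth.Agent.Lib.H30DimRel

section Aux

variable (k : Type u) [Field k] (X : Scheme.{u}) [X.Over (Spec (CommRingCat.of k))]
  [LocallyOfFiniteType (X ↘ (Spec (CommRingCat.of k)))]

/-- `td` is the relative transcendence degree of the structure morphism. -/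
theorem td_eq_rt (x : X) : td k X x = (rt (X ↘ (Spec (CommRingCat.of k))) x : ℤ) := by
  apply td_eq_of_trdeg_eq
  rw [trdeg_eq k X x]
  exact trdeg_eq_rt (X ↘ (Spec (CommRingCat.of k))) x

/-- dimension of the closure of a point of a scheme locally of finite type over a field -/
theorem dim_closure_eq (z : X) :
    topologicalKrullDim ↥(closure ({z} : Set X)) = (((td k X z).toNat : ℕ) : WithBot ℕ∞) := by
  have hδ := isDimFun k X
  have hconv : PtTop.IsDimensionFunction (fun w : ↥(closure ({z} : Set X)) => td k X w.1) := by
    apply isDimFun_convex hδ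
    intro v hv w hw y hvy hyw
    exact (specializes_iff_mem_closure.mp
      ((specializes_iff_mem_closure.mpr hv).trans hvy))
  haveI : QuasiSober ↥(closure ({z} : Set X)) :=
    (isClosed_closure.isClosedEmbedding_subtypeVal).quasiSober
  obtain ⟨c, -, hzc, hc⟩ := exists_closed_point k X z Set.univ isOpen_univ trivial
  have hcmem : c ∈ closure ({z} : Set X) := specializes_iff_mem_closure.mp hzc
  exact Groth.Agent.S6462.krullDim_eq _ hconv (fun y => td_nonneg k X y.1)
    ⟨z, subset_closure rfl⟩
    (fun y => (subtype_specializes_iff _ _).mpr (specializes_iff_mem_closure.mpr y.2))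
    ⟨c, hcmem⟩ (td_eq_zero_of_isClosed k X c hc)

end Aux

/-- Let k be an algebraically closed field and f : X → Y a morphism of algebraic varieties over k (X, Y
reduced, separated and of finite type over k) such that Y is irreducible and the image f(X) is dense
in Y. Then X contains an irreducible closed subset Z with dim Z = dim Y such that f(Z) is dense in
Y. -/
theorem result (k : Type u) [Field k] [IsAlgClosed k]
    (X Y : Scheme.{u}) [X.Over (Spec (CommRingCat.of k))] [Y.Over (Spec (CommRingCat.of k))]
    [IsReduced X] [IsSeparated (X ↘ (Spec (CommRingCat.of k)))] [LocallyOfFiniteType (X ↘ (Spec (CommRingCat.of k)))] [QuasiCompact (X ↘ (Spec (CommRingCat.of k)))]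
    [IsReduced Y] [IsSeparated (Y ↘ (Spec (CommRingCat.of k)))] [LocallyOfFiniteType (Y ↘ (Spec (CommRingCat.of k)))] [QuasiCompact (Y ↘ (Spec (CommRingCat.of k)))] [IrreducibleSpace Y]
    (f : X ⟶ Y) (hf : f ≫ (Y ↘ (Spec (CommRingCat.of k))) = (X ↘ (Spec (CommRingCat.of k)))) [IsDominant f] :
    ∃ Z : Set X, IsClosed Z ∧ IsIrreducible Z ∧ topologicalKrullDim ↥Z = topologicalKrullDim Y ∧
      Dense (f '' Z) := by
  classical
  set pX := (X ↘ (Spec (CommRingCat.of k))) with hpX
  set pY := (Y ↘ (Spec (CommRingCat.of k))) with hpY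
  haveI : IsLocallyNoetherian X := isLocallyNoetherian k X
  haveI : LocallyOfFiniteType f := by
    have : LocallyOfFiniteType (f ≫ pY) := by rw [hf]; infer_instance
    exact locallyOfFiniteType_of_comp f pY
  -- a point over the generic point
  obtain ⟨x0, hx0⟩ : ∃ x0 : X, f x0 = genericPoint Y := by
    haveI : CompactSpace X := QuasiCompact.compactSpace_of_compactSpace pX
    haveI : IsNoetherian X := {}
    have hfin : (irreducibleComponents (X : Type u)).Finite :=
      TopologicalSpace.NoetherianSpace.finite_irreducibleComponents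
    have hcov : (Set.univ : Set Y) ⊆ ⋃₀ ↑(hfin.toFinset.image fun C => closure (f '' C)) := by
      intro y _
      have hy : y ∈ closure (Set.range f) := f.denseRange y
      have hr : Set.range f = ⋃ C ∈ hfin.toFinset, f '' C := by
        ext y'
        simp only [Set.mem_range, Set.Finite.mem_toFinset, Set.mem_iUnion, Set.mem_image,
          exists_prop]
        constructor
        · rintro ⟨x, rfl⟩
          have hx : x ∈ ⋃₀ irreducibleComponents (X : Type u) := by
            rw [sUnion_irreducibleComponents]; trivial
          obtain ⟨C, hC, hxC⟩ := hx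
          exact ⟨C, hC, x, hxC, rfl⟩
        · rintro ⟨C, -, x, -, rfl⟩
          exact ⟨x, rfl⟩
      rw [hr, Finset.closure_biUnion] at hy
      simp only [Set.mem_iUnion, exists_prop] at hy
      obtain ⟨C, hC, hyC⟩ := hy
      exact ⟨closure (f '' C), by
        simp only [Finset.coe_image, Set.mem_image, Finset.mem_coe]
        exact ⟨C, hC, rfl⟩, hyC⟩
    obtain ⟨W, hW, hWuniv⟩ := isIrreducible_iff_sUnion_isClosed.mp
      (IrreducibleSpace.isIrreducible_univ Y) _ (by
        intro W hW
        simp only [Finset.mem_image] at hW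
        obtain ⟨C, -, rfl⟩ := hW
        exact isClosed_closure) hcov
    simp only [Finset.mem_image, Set.Finite.mem_toFinset] at hW
    obtain ⟨C, hC, rfl⟩ := hW
    have hCirr : IsIrreducible C := hC.1
    have hCcl : IsClosed C := isClosed_of_mem_irreducibleComponents C hC
    obtain ⟨ξ, hξ⟩ := QuasiSober.sober hCirr hCcl
    refine ⟨ξ, ?_⟩
    have h1 : f '' C ⊆ closure {f ξ} := by
      rw [← hξ.def]
      refine (image_closure_subset_closure_image f.continuous).trans ?_
      rw [Set.image_singleton]
    have h2 : IsGenericPoint (f ξ) (Set.univ : Set Y) := by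
      apply Set.eq_univ_of_univ_subset
      exact hWuniv.trans (closure_minimal h1 isClosed_closure)
    exact h2.eq (genericPoint_spec Y)
  -- choose a point over the generic point with minimal `rt`
  have hne : {n : ℕ | ∃ x : X, f x = genericPoint Y ∧ rt f x = n}.Nonempty := ⟨_, x0, hx0, rfl⟩
  obtain ⟨z, hz, hzmin⟩ : ∃ z : X, f z = genericPoint Y ∧
      ∀ x : X, f x = genericPoint Y → rt f z ≤ rt f x := by
    obtain ⟨z, hz, hzn⟩ := Nat.find_spec hne
    refine ⟨z, hz, fun x hx => ?_⟩
    rw [hzn]
    exact Nat.find_min' hne ⟨x, hx, rfl⟩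
  have hrt : rt f z = 0 := by
    apply Groth.Agent.Lib.QuasiSection.rt_eq_zero_of_closed_in_fibre
    intro x' hx' hsp
    by_contra hne'
    have := Groth.Agent.Lib.QuasiSection.rt_lt_of_specializes_ne f z x' hsp hx'.symm
      (fun h => hne' h.symm)
    have h2 := hzmin x' (hx'.trans hz)
    omega
  refine ⟨closure {z}, isClosed_closure, isIrreducible_singleton.closure, ?_, ?_⟩
  · rw [dim_closure_eq k X z, krullDim_eq_td k Y, td_eq_rt, td_eq_rt]
    have h1 := rt_comp f pY z
    have h2 : rt (f ≫ pY) z = rt pX z := by rw [hf]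
    rw [← hz]
    simp only [Int.toNat_natCast]
    rw [← h2, h1, hrt, add_zero]
  · have : genericPoint Y ∈ f '' closure {z} := ⟨z, subset_closure rfl, hz⟩
    rw [dense_iff_closure_eq]
    apply Set.eq_univ_of_univ_subset
    rw [← (genericPoint_spec Y).def]
    exact closure_mono (Set.singleton_subset_iff.mpr this)

end Groth.Agent.S14514
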