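import Groth.Statements.S14519
import Groth.Agent.Lib.ZMTBir3
import Groth.Agent.Lib.H30NormalSmoothSch
import Groth.Agent.Lib.CDivDimOne45

set_option autoImplicit false
universe u
open CategoryTheory CategoryTheory.Limits AlgebraicGeometry
open Curves

namespace Groth.Agent.S14519

/-- Let k be an algebraically closed field and f : X → Y a birational morphism over k between smooth
curves (X, Y integral, separated, of finite type and smooth over k, of dimension one; f sends the
generic point of X to that of Y and the induced map of function fields K(Y) → K(X) is bijective).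
Then f is an open immersion. -/
theorem result (k : Type u) [Field k] [IsAlgClosed k]
    (X Y : Scheme.{u}) [X.Over (Spec (CommRingCat.of k))] [Y.Over (Spec (CommRingCat.of k))]
    [IsIntegral X] [IsSeparated (X ↘ (Spec (CommRingCat.of k)))] [LocallyOfFiniteType (X ↘ (Spec (CommRingCat.of k)))] [QuasiCompact (X ↘ (Spec (CommRingCat.of k)))] [Smooth (X ↘ (Spec (CommRingCat.of k)))] (hdimX : topologicalKrullDim X = 1)
    [IsIntegral Y] [IsSeparated (Y ↘ (Spec (CommRingCat.of k)))] [LocallyOfFiniteType (Y ↘ (Spec (CommRingCat.of k)))] [QuasiCompact (Y ↘ (Spec (CommRingCat.of k)))] [Smooth (Y ↘ (Spec (CommRingCat.of k)))] (hdimY : topologicalKrullDim Y = 1)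
    (f : X ⟶ Y) (hf : f ≫ (Y ↘ (Spec (CommRingCat.of k))) = (X ↘ (Spec (CommRingCat.of k))))
    (e : f (genericPoint X) = genericPoint Y)
    (hbir : Function.Bijective (Y.presheaf.stalkSpecializes (specializes_of_eq e) ≫ f.stalkMap (genericPoint X)).hom) :
    IsOpenImmersion f := by
  have hsep : IsSeparated f := by
    have : IsSeparated (f ≫ (Y ↘ (Spec (CommRingCat.of k)))) := hf ▸ inferInstance
    exact IsSeparated.of_comp f (Y ↘ (Spec (CommRingCat.of k)))
  have hlft : LocallyOfFiniteType f := by
    have : LocallyOfFiniteType (f ≫ (Y ↘ (Spec (CommRingCat.of k)))) := hf ▸ inferInstance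
    exact locallyOfFiniteType_of_comp f (Y ↘ (Spec (CommRingCat.of k)))
  have hqc : QuasiCompact f := by
    have : QuasiCompact (f ≫ (Y ↘ (Spec (CommRingCat.of k)))) := hf ▸ inferInstance
    exact QuasiCompact.of_comp f (Y ↘ (Spec (CommRingCat.of k)))
  have hsp : IsIso (Y.presheaf.stalkSpecializes (specializes_of_eq e)) :=
    (Y.presheaf.stalkCongr (.of_eq e)).isIso_inv
  have hbir' : IsIso (f.stalkMap (genericPoint X)) := by
    have h1 : IsIso (Y.presheaf.stalkSpecializes (specializes_of_eq e) ≫
        f.stalkMap (genericPoint X)) :=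
      (ConcreteCategory.isIso_iff_bijective _).mpr hbir
    exact IsIso.of_isIso_comp_left (Y.presheaf.stalkSpecializes (specializes_of_eq e)) _
  have hY : ∀ y : Y, IsIntegrallyClosed (Y.presheaf.stalk y) := by
    intro y
    have h := (Groth.Agent.Lib.H30NormalSmoothSch.stalk_iff_of_smooth
      (Y ↘ (Spec (CommRingCat.of k))) y).1
    refine (h.mpr ⟨inferInstance, ?_⟩).2
    generalize ((Y ↘ (Spec (CommRingCat.of k))).base y) = p
    have h1 : IsIntegrallyClosed (Localization.AtPrime p.asIdeal) :=
      isIntegrallyClosed_of_isLocalization _ p.asIdeal.primeCompl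
        p.asIdeal.primeCompl_le_nonZeroDivisors
    exact IsIntegrallyClosed.of_equiv
      (Spec.stalkIso (CommRingCat.of k) p).commRingCatIsoToRingEquiv.symm
  have hqfgen : f.QuasiFiniteAt (genericPoint X) :=
    RingHom.QuasiFinite.of_finite (RingHom.Finite.of_surjective _
      (ConcreteCategory.bijective_of_isIso (f.stalkMap (genericPoint X))).2)
  obtain ⟨V, hV, hiso⟩ := Groth.Agent.Lib.ZMTBir.exists_isIso_morphismRestrict_of_quasiFiniteAt f e
    hbir' (genericPoint X) (hY _) hqfgen
  have hcX : CompactSpace X :=
    QuasiCompact.compactSpace_of_compactSpace (X ↘ (Spec (CommRingCat.of k)))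
  have hlnX : IsLocallyNoetherian X :=
    LocallyOfFiniteType.isLocallyNoetherian (X ↘ (Spec (CommRingCat.of k)))
  have hNX : IsNoetherian X := {}
  have hfin : ∀ y : Y, (f ⁻¹' {y}).Finite := by
    intro y
    by_cases hy : y ∈ V
    · refine Set.Subsingleton.finite ?_
      intro a ha b hb
      have ha' : f a = y := ha
      have hb' : f b = y := hb
      have hinj := (ConcreteCategory.bijective_of_isIso (f ∣_ V).base).1
      have haV : a ∈ f ⁻¹ᵁ V := by show f a ∈ V; rw [ha']; exact hy
      have hbV : b ∈ f ⁻¹ᵁ V := by show f b ∈ V; rw [hb']; exact hy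
      have : (⟨a, haV⟩ : ↥(f ⁻¹ᵁ V)) = ⟨b, hbV⟩ := by
        apply hinj
        apply Subtype.ext
        have h1 := morphismRestrict_base_coe f V ⟨a, haV⟩
        have h2 := morphismRestrict_base_coe f V ⟨b, hbV⟩
        exact h1.trans ((ha'.trans hb'.symm).trans h2.symm)
      exact congrArg Subtype.val this
    · have hgenV : genericPoint X ∉ ((f ⁻¹ᵁ V : X.Opens) : Set X)ᶜ := by
        intro h
        apply h
        show f (genericPoint X) ∈ V
        exact hV
      have hcl : IsClosed (((f ⁻¹ᵁ V : X.Opens) : Set X)ᶜ) := (f ⁻¹ᵁ V).isOpen.isClosed_compl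
      have := Groth.Agent.Lib.CDivDimOne45.finite_inter_of_noetherian (T := X) hdimX.le _ hcl hgenV
        Set.univ
      refine this.subset ?_
      intro a ha
      have ha' : f a = y := ha
      refine ⟨?_, trivial⟩
      intro haV
      apply hy
      have : f a ∈ V := haV
      rwa [ha'] at this
  exact Groth.Agent.Lib.ZMTBir.isOpenImmersion_of_birational_of_finite_fibres hY f e hbir' hfin

end Groth.Agent.S14519
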