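import Groth.Statements.S1452
import Groth.Agent.Lib.UnramGeomUnibranchComp96
-- import your own Groth.Agent.* helpers here

set_option autoImplicit false
universe u
open FlatMor

namespace Groth.Agent.S1452

open AlgebraicGeometry CategoryTheory Limits in
/-- Let f : X → Y and g : Y → Z with Y integral and the local ring of Y at y = f x geometrically
unibranch; assume g ∘ f is étale on an open neighbourhood of x and some generization of x maps to
the generic point of Y. Then f is étale on an open neighbourhood of x and g is étale on an open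
neighbourhood of y. -/
theorem result {X Y Z : Scheme.{u}} (f : X ⟶ Y) (g : Y ⟶ Z) [IsIntegral Y] (x : X)
    (hY : CAlg2.IsGeomUnibranch (Y.presheaf.stalk (f x))) (het : ∃ U : X.Opens, x ∈ U ∧ Etale (U.ι ≫ f ≫ g))
    (hsp : ∃ x' : X, x' ⤳ x ∧ f x' = genericPoint ↑Y) :
    (∃ U : X.Opens, x ∈ U ∧ Etale (U.ι ≫ f)) ∧ ∃ V : Y.Opens, f x ∈ V ∧ Etale (V.ι ≫ g) := by
  have hf : ∃ U : X.Opens, x ∈ U ∧ Etale (U.ι ≫ f) := by
    obtain ⟨U, hxU, hU⟩ := het
    have h1 : Etale ((U.ι ≫ f) ≫ g) := by rw [Category.assoc]; exact hU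
    have hlft : LocallyOfFiniteType (U.ι ≫ f) := locallyOfFiniteType_of_comp (U.ι ≫ f) g
    have hfu : FormallyUnramified (U.ι ≫ f) := FormallyUnramified.of_comp (U.ι ≫ f) g
    exact Groth.Agent.Lib.UnramGeomUnibranchSch96.exists_etale_nhd_of_isIntegral f x hY hsp
      ⟨U, hxU, hlft, hfu⟩
  exact ⟨hf, Groth.Agent.Lib.UnramGeomUnibranchSch96.exists_etale_nhd_target_of_comp f g x hf het⟩

end Groth.Agent.S1452
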