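import Groth.Statements.S14541
import Groth.Agent.Lib.LocTrivGlue18

set_option autoImplicit false
set_option maxHeartbeats 400000
universe u
open CategoryTheory MonoidalCategory CartesianMonoidalCategory MonObj GrpObj AlgebraicGeometry
open PrincBund

namespace Groth.Agent.S14541

open Groth.Agent.Lib.LocTrivGlue18

/-- Let X be a scheme, J, J' and J'' group schemes affine over X, with no flatness or finiteness
condition, u : J → J' and v : J' → J'' homomorphisms, P a J-torsor, P' a J'-torsor and P'' a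
J''-torsor, all for the fpqc topology, q' : P → P' an X-morphism compatible with u and q'' : P → P''
an X-morphism compatible with the composite homomorphism J → J' → J''. Then there is exactly one
X-morphism r : P' → P'' compatible with v whose composite with q' is q''. Taking v to be the
identity, the push forward of a torsor along u is unique up to unique isomorphism. -/
theorem result {X : Scheme.{u}}
    {J J' J'' : Over X} [GrpObj J] [GrpObj J'] [GrpObj J''] [IsAffineHom J.hom] [IsAffineHom J'.hom]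
    [IsAffineHom J''.hom] (u : J ⟶ J') [IsMonHom u] (v : J' ⟶ J'') [IsMonHom v] {P P' P'' : Over X}
    (a : AlgGrp.Action J P) (a' : AlgGrp.Action J' P') (a'' : AlgGrp.Action J'' P'')
    (hP : NonAbH1.IsTorsorFor Scheme.fpqcPrecoverage a)
    (hP' : NonAbH1.IsTorsorFor Scheme.fpqcPrecoverage a')
    (hP'' : NonAbH1.IsTorsorFor Scheme.fpqcPrecoverage a'')
    (q' : P ⟶ P') (hq' : a.act ≫ q' = lift (fst J P ≫ u) (snd J P ≫ q') ≫ a'.act)
    (q'' : P ⟶ P'') (hq'' : a.act ≫ q'' = lift (fst J P ≫ u ≫ v) (snd J P ≫ q'') ≫ a''.act) :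
    ∃! r : P' ⟶ P'', a'.act ≫ r = lift (fst J' P' ≫ v) (snd J' P' ≫ r) ≫ a''.act ∧ q' ≫ r = q'' := by
  have hpt' : ∀ ⦃T : Over X⦄ (j : T ⟶ J) (p : T ⟶ P),
      (lift j p ≫ a.act) ≫ q' = lift (j ≫ u) (p ≫ q') ≫ a'.act := by
    intro T j p
    rw [Category.assoc, hq', ← Category.assoc, comp_lift, lift_fst_assoc, lift_snd_assoc]
  have hpt'' : ∀ ⦃T : Over X⦄ (j : T ⟶ J) (p : T ⟶ P),
      (lift j p ≫ a.act) ≫ q'' = lift ((j ≫ u) ≫ v) (p ≫ q'') ≫ a''.act := by
    intro T j p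
    rw [Category.assoc, hq'', ← Category.assoc, comp_lift, lift_fst_assoc, lift_snd_assoc,
      Category.assoc]
  have hPp := hP.1
  have hPp' := hP'.1
  -- the construction on points
  obtain ⟨r, hr, hruniq⟩ := existsUnique_glue (P := P) (A := P') (M := P'') hP.2
    (fun T g p => lift (dv hPp' g (p ≫ q') ≫ v) (p ≫ q'') ≫ a''.act)
    (by
      intro T' T h g p
      rw [← Category.assoc, comp_lift, ← Category.assoc h, comp_dv, Category.assoc, Category.assoc])
    (by
      intro T g p₁ p₂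
      -- p₁ = j • p₂
      have e1 : lift (dv hPp p₁ p₂) p₂ ≫ a.act = p₁ := dv_act hPp p₁ p₂
      obtain ⟨j, hj⟩ : ∃ j, j = dv hPp p₁ p₂ := ⟨_, rfl⟩
      rw [← hj] at e1
      have e2 : p₁ ≫ q' = lift (j ≫ u) (p₂ ≫ q') ≫ a'.act := by rw [← e1, hpt']
      have e3 : p₁ ≫ q'' = lift ((j ≫ u) ≫ v) (p₂ ≫ q'') ≫ a''.act := by rw [← e1, hpt'']
      have e4 : dv hPp' g (p₂ ≫ q') = dv hPp' g (p₁ ≫ q') * (j ≫ u) := by
        symm
        apply eq_dv
        rw [AlgGrp.Action.lift_mul_act, ← e2, dv_act]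
      rw [e4, MonObj.mul_comp, AlgGrp.Action.lift_mul_act, ← e3])
  have hr1 : q' ≫ r = q'' := by
    have := hr q' (𝟙 P)
    rw [this, Category.id_comp, Category.id_comp, dv_self, MonObj.one_comp,
      AlgGrp.Action.lift_one_act]
  have hr2 : a'.act ≫ r = lift (fst J' P' ≫ v) (snd J' P' ≫ r) ≫ a''.act := by
    apply hom_ext_of_pt hP.2
    intro T g p
    have hg : g = lift (g ≫ fst J' P') (g ≫ snd J' P') := by
      apply CartesianMonoidalCategory.hom_ext <;> simp
    obtain ⟨k, hk⟩ : ∃ k, k = g ≫ fst J' P' := ⟨_, rfl⟩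
    obtain ⟨x, hx⟩ : ∃ x, x = g ≫ snd J' P' := ⟨_, rfl⟩
    rw [← hk, ← hx] at hg
    rw [hg, ← Category.assoc, hr (lift k x ≫ a'.act) p, dv_act_left, MonObj.mul_comp,
      AlgGrp.Action.lift_mul_act, ← hr x p, ← Category.assoc, comp_lift, lift_fst_assoc,
      lift_snd_assoc]
  refine ⟨r, ⟨hr2, hr1⟩, ?_⟩
  rintro r' ⟨h1, h2⟩
  apply hruniq
  intro T g p
  have e1 : lift (dv hPp' g (p ≫ q')) (p ≫ q') ≫ a'.act = g := dv_act hPp' g (p ≫ q')
  obtain ⟨d, hd⟩ : ∃ d, d = dv hPp' g (p ≫ q') := ⟨_, rfl⟩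
  rw [← hd] at e1 ⊢
  have e2 : g ≫ r' = (lift d (p ≫ q') ≫ a'.act) ≫ r' := by rw [e1]
  rw [e2, Category.assoc, h1, ← Category.assoc, comp_lift, lift_fst_assoc, lift_snd_assoc,
    Category.assoc, h2]

end Groth.Agent.S14541
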