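import Groth.Statements.S1458
import Mathlib.RingTheory.Finiteness.ModuleFinitePresentation
import Mathlib.LinearAlgebra.TensorProduct.RightExactness
import Mathlib.LinearAlgebra.TensorProduct.Pi

set_option autoImplicit false
universe u
open FlatMor

namespace Groth.Agent.S1458

open TensorProduct

section Aux

variable {A B : Type u} [CommRing A] [CommRing B] [Algebra A B]
variable {n r : ℕ} (π : (Fin n → A) →ₗ[A] B) (κ : (Fin r → A) →ₗ[A] (Fin n → A))
variable (T : Type u) [CommRing T] [Algebra A T]

/-- The `i`-th standard generator. -/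
def gen (i : Fin n) : B := π (fun j => if i = j then 1 else 0)

/-- The `l`-th standard relation vector. -/
def relv (l : Fin r) : Fin n → A := κ (fun j => if l = j then 1 else 0)

/-- Evaluation of a coordinate vector with coefficients in `T` as an element of `B ⊗ T`. -/
noncomputable def evL : (Fin n → T) →ₗ[A] B ⊗[A] T :=
  ∑ i, (TensorProduct.mk A B T (gen π i)).comp (LinearMap.proj (R := A) (φ := fun _ => T) i)

lemma evL_apply (x : Fin n → T) : evL π T x = ∑ i, gen π i ⊗ₜ[A] x i := by
  simp [evL]

/-- The identification `(Fin m → A) ⊗ T ≃ (Fin m → T)`. -/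
noncomputable def jj (m : ℕ) : (Fin m → A) ⊗[A] T ≃ₗ[A] (Fin m → T) :=
  (TensorProduct.comm A (Fin m → A) T).trans (TensorProduct.piScalarRight A A T (Fin m))

lemma jj_tmul (m : ℕ) (v : Fin m → A) (t : T) : jj T m (v ⊗ₜ[A] t) = fun i => v i • t := by
  simp [jj]

lemma evL_comp_jj : (evL π T).comp (jj T n).toLinearMap = π.rTensor T := by
  apply TensorProduct.ext'
  intro v t
  simp only [LinearMap.coe_comp, LinearEquiv.coe_coe, Function.comp_apply, jj_tmul, evL_apply,
    LinearMap.rTensor_tmul]
  rw [LinearMap.pi_apply_eq_sum_univ π v, TensorProduct.sum_tmul]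
  refine Finset.sum_congr rfl fun i _ => ?_
  rw [TensorProduct.smul_tmul]
  rfl

/-- The matrix of relations acting on coefficient vectors. -/
noncomputable def KL : (Fin r → T) →ₗ[A] (Fin n → T) :=
  LinearMap.pi fun m => ∑ l, (relv κ l m) • (LinearMap.proj (R := A) (φ := fun _ => T) l)

lemma KL_apply (y : Fin r → T) (m : Fin n) : KL κ T y m = ∑ l, relv κ l m • y l := by
  simp [KL]

lemma KL_comp_jj : (KL κ T).comp (jj T r).toLinearMap = (jj T n).toLinearMap.comp (κ.rTensor T) := by
  apply TensorProduct.ext'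
  intro v t
  ext m
  simp only [LinearMap.coe_comp, LinearEquiv.coe_coe, Function.comp_apply, jj_tmul, KL_apply,
    LinearMap.rTensor_tmul]
  rw [LinearMap.pi_apply_eq_sum_univ κ v]
  simp only [Finset.sum_apply, Pi.smul_apply, smul_eq_mul, Finset.sum_smul]
  refine Finset.sum_congr rfl fun l _ => ?_
  rw [← mul_smul, mul_comm]
  rfl

variable (hπ : Function.Surjective π) (hex : Function.Exact κ π)

include hπ in
lemma evL_surjective : Function.Surjective (evL π T) := by
  have h1 : Function.Surjective (π.rTensor T) := LinearMap.rTensor_surjective T hπ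
  rw [← evL_comp_jj] at h1
  exact Function.Surjective.of_comp h1

include hπ hex in
lemma evL_eq_zero_iff (q : Fin n → T) :
    evL π T q = 0 ↔ ∃ y : Fin r → T, q = KL κ T y := by
  have hex' : Function.Exact (κ.rTensor T) (π.rTensor T) := rTensor_exact T hex hπ
  constructor
  · intro h
    have h1 : π.rTensor T ((jj T n).symm q) = 0 := by
      rw [← evL_comp_jj]
      simpa using h
    obtain ⟨w, hw⟩ := (hex' _).mp h1
    refine ⟨jj T r w, ?_⟩
    have h2 := congrArg (fun f => f w) (KL_comp_jj κ T)
    simp only [LinearMap.coe_comp, LinearEquiv.coe_coe, Function.comp_apply] at h2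
    rw [h2, hw]
    simp
  · rintro ⟨y, rfl⟩
    have h2 := congrArg (fun f => f ((jj T r).symm y)) (KL_comp_jj κ T)
    simp only [LinearMap.coe_comp, LinearEquiv.coe_coe, Function.comp_apply,
      LinearEquiv.apply_symm_apply] at h2
    rw [h2]
    have h3 := congrArg (fun f => f (κ.rTensor T ((jj T r).symm y))) (evL_comp_jj π T)
    simp only [LinearMap.coe_comp, LinearEquiv.coe_coe, Function.comp_apply] at h3
    rw [h3]
    exact (hex' _).mpr ⟨_, rfl⟩

/-- The quadratic map expressing the square in coordinates. -/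
def QQ (c : Fin n → Fin n → (Fin n → A)) (x : Fin n → T) (m : Fin n) : T :=
  ∑ i, ∑ j, c i j m • (x i * x j)

lemma evL_mul_self (c : Fin n → Fin n → (Fin n → A))
    (hc : ∀ i j, π (c i j) = gen π i * gen π j) (x : Fin n → T) :
    evL π T x * evL π T x = evL π T (QQ T c x) := by
  have hterm : ∀ (i j : Fin n) (t : T),
      (gen π i * gen π j) ⊗ₜ[A] t = ∑ m, gen π m ⊗ₜ[A] (c i j m • t) := by
    intro i j t
    rw [← hc i j, LinearMap.pi_apply_eq_sum_univ π (c i j), TensorProduct.sum_tmul]
    refine Finset.sum_congr rfl fun m _ => ?_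
    rw [TensorProduct.smul_tmul]
    rfl
  rw [evL_apply, evL_apply, Finset.sum_mul_sum]
  simp only [Algebra.TensorProduct.tmul_mul_tmul, QQ, TensorProduct.tmul_sum, hterm]
  symm
  rw [Finset.sum_comm]
  refine Finset.sum_congr rfl fun i _ => ?_
  exact Finset.sum_comm

variable {T} in
lemma map_evL {T' : Type u} [CommRing T'] [Algebra A T'] (ψ : T →ₐ[A] T') (x : Fin n → T) :
    Algebra.TensorProduct.map (AlgHom.id A B) ψ (evL π T x) = evL π T' (fun i => ψ (x i)) := by
  simp [evL_apply]

variable {T} in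
lemma map_QQ {T' : Type u} [CommRing T'] [Algebra A T'] (ψ : T →ₐ[A] T')
    (c : Fin n → Fin n → (Fin n → A)) (x : Fin n → T) (m : Fin n) :
    ψ (QQ T c x m) = QQ T' c (fun i => ψ (x i)) m := by
  simp [QQ, map_sum, map_smul, map_mul]

variable {T} in
lemma map_KL {T' : Type u} [CommRing T'] [Algebra A T'] (ψ : T →ₐ[A] T')
    (y : Fin r → T) (m : Fin n) :
    ψ (KL κ T y m) = KL κ T' (fun l => ψ (y l)) m := by
  simp [KL_apply, map_sum, map_smul]

end Aux

open TensorProduct in
/-- Let A → B be a finite ring map of finite presentation. Then there are a finitely presented A-algebra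
A_u and an idempotent e_u of B ⊗_A A_u such that for every A-algebra A' and every idempotent e of B
⊗_A A' there is an A-algebra map A_u → A' whose induced map B ⊗ A_u → B ⊗ A' sends e_u to e. -/
theorem result {A B : Type u} [CommRing A] [CommRing B] [Algebra A B] [Module.Finite A B] [Algebra.FinitePresentation A B] :
    ∃ (Au : Type u) (_ : CommRing Au) (_ : Algebra A Au) (eu : B ⊗[A] Au), Algebra.FinitePresentation A Au ∧ IsIdempotentElem eu ∧
      ∀ (A' : Type u) [CommRing A'] [Algebra A A'] (e : B ⊗[A] A'), IsIdempotentElem e →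
        ∃ φ : Au →ₐ[A] A', Algebra.TensorProduct.map (AlgHom.id A B) φ eu = e := by
  classical
  have hfp : Module.FinitePresentation A B := Module.FinitePresentation.of_finite_of_finitePresentation A B
  obtain ⟨n, r, π, κ, hπ, hex⟩ := Module.FinitePresentation.exists_fin' A B
  choose c hc using fun i j : Fin n => hπ (gen π i * gen π j)
  let P := MvPolynomial (Fin n ⊕ Fin r) A
  let xs : Fin n → P := fun i => MvPolynomial.X (Sum.inl i)
  let ys : Fin r → P := fun l => MvPolynomial.X (Sum.inr l)
  let rel : Fin n → P := fun m => QQ P c xs m - xs m - KL κ P ys m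
  let I : Ideal P := Ideal.span (Set.range rel)
  let mk : P →ₐ[A] (P ⧸ I) := Ideal.Quotient.mkₐ A I
  let xu : Fin n → P ⧸ I := fun i => mk (xs i)
  let yu : Fin r → P ⧸ I := fun l => mk (ys l)
  have hrel : ∀ m, QQ (P ⧸ I) c xu m = xu m + KL κ (P ⧸ I) yu m := by
    intro m
    have h0 : mk (rel m) = 0 := by
      apply Ideal.Quotient.eq_zero_iff_mem.mpr
      exact Ideal.subset_span ⟨m, rfl⟩
    have h1 : mk (rel m) = QQ (P ⧸ I) c xu m - xu m - KL κ (P ⧸ I) yu m := by
      simp only [rel, map_sub, map_QQ, map_KL]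
      rfl
    rw [h1] at h0
    linear_combination h0
  refine ⟨P ⧸ I, inferInstance, inferInstance, evL π (P ⧸ I) xu, ?_, ?_, ?_⟩
  · exact Algebra.FinitePresentation.quotient (Submodule.fg_span (Set.finite_range rel))
  · have h2 : QQ (P ⧸ I) c xu = xu + KL κ (P ⧸ I) yu := funext hrel
    unfold IsIdempotentElem
    rw [evL_mul_self π (P ⧸ I) c hc, h2, map_add]
    rw [(evL_eq_zero_iff π κ (P ⧸ I) hπ hex _).mpr ⟨yu, rfl⟩, add_zero]
  · intro A' _ _ e he
    obtain ⟨x', rfl⟩ := evL_surjective π A' hπ e
    have h3 : evL π A' (QQ A' c x' - x') = 0 := by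
      rw [map_sub, ← evL_mul_self π A' c hc, he.eq, sub_self]
    obtain ⟨y', hy'⟩ := (evL_eq_zero_iff π κ A' hπ hex _).mp h3
    let φ₀ : P →ₐ[A] A' := MvPolynomial.aeval (Sum.elim x' y')
    have hφ₀x : ∀ i, φ₀ (xs i) = x' i := fun i => by
      show MvPolynomial.aeval (Sum.elim x' y') (MvPolynomial.X (Sum.inl i)) = x' i
      rw [MvPolynomial.aeval_X]; rfl
    have hφ₀y : ∀ l, φ₀ (ys l) = y' l := fun l => by
      show MvPolynomial.aeval (Sum.elim x' y') (MvPolynomial.X (Sum.inr l)) = y' l
      rw [MvPolynomial.aeval_X]; rfl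
    have hker : ∀ a ∈ I, φ₀ a = 0 := by
      intro a ha
      have hle : I ≤ RingHom.ker φ₀.toRingHom := by
        rw [Ideal.span_le]
        rintro _ ⟨m, rfl⟩
        show φ₀ (rel m) = 0
        simp only [rel, map_sub, map_QQ, map_KL, hφ₀x, hφ₀y]
        have := congrFun hy' m
        simp only [Pi.sub_apply] at this
        rw [this, sub_self]
      exact hle ha
    refine ⟨Ideal.Quotient.liftₐ I φ₀ hker, ?_⟩
    rw [map_evL]
    congr 1
    funext i
    show Ideal.Quotient.liftₐ I φ₀ hker (Ideal.Quotient.mk I (xs i)) = x' i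
    rw [Ideal.Quotient.liftₐ_apply, Ideal.Quotient.lift_mk]
    exact hφ₀x i

end Groth.Agent.S1458
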