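import Groth.Statements.S1460
import Mathlib.RingTheory.Extension.Presentation.Core
import Mathlib.Algebra.Category.Ring.Constructions
import Mathlib.AlgebraicGeometry.Pullbacks

set_option autoImplicit false
universe u
open FlatMor

namespace Groth.Agent.S1460

open AlgebraicGeometry CategoryTheory Limits TensorProduct

/-- Ring-level noetherian approximation: a finitely presented algebra is a base change of a
finite type algebra over a finite type `ℤ`-algebra. -/
theorem exists_model (R B : Type u) [CommRing R] [CommRing B] [Algebra R B]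
    [Algebra.FinitePresentation R B] :
    ∃ (R₀ B₀ : Type u) (_ : CommRing R₀) (_ : CommRing B₀) (φ₀ : R₀ →+* B₀) (a : R₀ →+* R)
      (b : B₀ →+* B),
      IsPushout (CommRingCat.ofHom a) (CommRingCat.ofHom φ₀)
        (CommRingCat.ofHom (algebraMap R B)) (CommRingCat.ofHom b) ∧
      Algebra.FiniteType ℤ R₀ ∧ φ₀.FiniteType := by
  let P := Algebra.Presentation.ofFinitePresentation R B
  let R₀ := P.Core
  let B₀ := P.ModelOfHasCoeffs R₀
  let e : R ⊗[R₀] B₀ ≃ₐ[R] B := P.tensorModelOfHasCoeffsEquiv R₀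
  refine ⟨R₀, B₀, inferInstance, inferInstance, algebraMap R₀ B₀, algebraMap R₀ R,
    (e.toAlgHom.toRingHom).comp (Algebra.TensorProduct.includeRight (R := R₀) (A := R) (B := B₀)).toRingHom,
    ?_, inferInstance, ?_⟩
  · refine (CommRingCat.isPushout_tensorProduct R₀ R B₀).of_iso (Iso.refl _) (Iso.refl _) (Iso.refl _)
      e.toRingEquiv.toCommRingCatIso ?_ ?_ ?_ ?_
    · simp
    · simp
    · ext x
      change e (x ⊗ₜ[R₀] 1) = algebraMap R B x
      have h : (x ⊗ₜ[R₀] (1 : B₀) : R ⊗[R₀] B₀) = algebraMap R (R ⊗[R₀] B₀) x :=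
        (Algebra.TensorProduct.algebraMap_apply (R := R₀) (S := R) (A := R) (B := B₀) x).symm
      rw [h, e.commutes]
    · rfl
  · have : Algebra.FinitePresentation R₀ B₀ := inferInstance
    have : Algebra.FiniteType R₀ B₀ := inferInstance
    exact (RingHom.finiteType_algebraMap (A := R₀) (B := B₀)).mpr this

open AlgebraicGeometry CategoryTheory Limits in
/-- Let f : X → S be a morphism of finite presentation between affine schemes. Then f is the base change
of a morphism of finite type f₀ : X₀ → S₀ between affine schemes with S₀ of finite type over ℤ. -/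
theorem result {X S : Scheme.{u}} (f : X ⟶ S) [IsAffine X] [IsAffine S] [LocallyOfFinitePresentation f] :
    ∃ (X₀ S₀ : Scheme.{u}) (f₀ : X₀ ⟶ S₀) (g : S ⟶ S₀) (g' : X ⟶ X₀), IsAffine X₀ ∧ IsAffine S₀ ∧ IsPullback g' f f₀ g ∧
      Algebra.FiniteType ℤ Γ(S₀, ⊤) ∧ LocallyOfFiniteType f₀ := by
  have hfp : (f.appTop).hom.FinitePresentation :=
    (HasRingHomProperty.iff_of_isAffine (P := @LocallyOfFinitePresentation)).mp inferInstance
  algebraize [(f.appTop).hom]
  obtain ⟨R₀, B₀, _, _, φ₀, a, b, hpo, hft, hφ₀⟩ := exists_model Γ(S, ⊤) Γ(X, ⊤)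
  have hpb := isPullback_SpecMap_of_isPushout _ _ _ _ hpo
  have hsq : IsPullback X.isoSpec.hom f (Spec.map f.appTop) S.isoSpec.hom :=
    IsPullback.of_horiz_isIso ⟨Scheme.isoSpec_hom_naturality f⟩
  have hfa : CommRingCat.ofHom (algebraMap Γ(S, ⊤) Γ(X, ⊤)) = f.appTop := rfl
  rw [hfa] at hpb
  refine ⟨Spec (CommRingCat.of B₀), Spec (CommRingCat.of R₀), Spec.map (CommRingCat.ofHom φ₀),
    S.isoSpec.hom ≫ Spec.map (CommRingCat.ofHom a), X.isoSpec.hom ≫ Spec.map (CommRingCat.ofHom b),
    inferInstance, inferInstance, ?_, ?_, ?_⟩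
  · exact hsq.paste_horiz hpb.flip
  · exact Algebra.FiniteType.equiv hft
      (Scheme.ΓSpecIso (CommRingCat.of R₀)).symm.commRingCatIsoToRingEquiv.toIntAlgEquiv
  · exact (HasRingHomProperty.Spec_iff (P := @LocallyOfFiniteType)).mpr hφ₀

end Groth.Agent.S1460
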