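import Groth.Statements.S14606
import Mathlib

set_option autoImplicit false
universe u
open FrobAlg
open scoped TensorProduct

namespace Groth.Agent.S14606

/-- Let k be a field of characteristic p > 0 and R a finitely generated commutative k-algebra. The
scheme-theoretic image of the n-th relative Frobenius morphism of Spec R is the spectrum of the
k-subalgebra k[R^(p^n)] generated by all p^n-th powers; for n large enough this image is
geometrically reduced: there is an n such that k[R^(p^n)] is a geometrically reduced k-algebra.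
(Stated in affine, ring-theoretic form.) -/
theorem result (k : Type u) [Field k] (p : ℕ) [Fact p.Prime] [CharP k p]
    (R : Type u) [CommRing R] [Algebra k R] [Algebra.FiniteType k R] :
    ∃ n : ℕ, Algebra.IsGeometricallyReduced k ↥(Algebra.adjoin k (Set.range (fun x : R => x ^ (p ^ n)))) := by
  classical
  have hpP : p.Prime := Fact.out
  -- the geometric algebra
  have hNoeth : IsNoetherianRing (TensorProduct k (AlgebraicClosure k) R) :=
    Algebra.FiniteType.isNoetherianRing (AlgebraicClosure k) _
  obtain ⟨m, hm⟩ := IsNoetherianRing.isNilpotent_nilradical (TensorProduct k (AlgebraicClosure k) R)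
  have hnil : ∀ s : TensorProduct k (AlgebraicClosure k) R, IsNilpotent s → s ^ (p ^ m) = 0 := by
    intro s hs
    have h1 : s ^ m ∈ (nilradical (TensorProduct k (AlgebraicClosure k) R)) ^ m :=
      Ideal.pow_mem_pow ((mem_nilradical).2 hs) m
    rw [hm] at h1
    have h2 : s ^ m = 0 := h1
    exact pow_eq_zero_of_le (Nat.lt_pow_self hpP.one_lt).le h2
  refine ⟨m, ?_⟩
  rw [Algebra.isGeometricallyReduced_field_iff]
  set Rn : Subalgebra k R := Algebra.adjoin k (Set.range (fun x : R => x ^ (p ^ m))) with hRn
  let ι : TensorProduct k (AlgebraicClosure k) Rn →ₐ[k] TensorProduct k (AlgebraicClosure k) R :=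
    Algebra.TensorProduct.map (AlgHom.id k (AlgebraicClosure k)) Rn.val
  have hι : Function.Injective ι :=
    Module.Flat.lTensor_preserves_injective_linearMap (M := AlgebraicClosure k)
      Rn.val.toLinearMap Subtype.val_injective
  rcases subsingleton_or_nontrivial (TensorProduct k (AlgebraicClosure k) R) with hsub | hnt
  · -- degenerate case
    have : Subsingleton (TensorProduct k (AlgebraicClosure k) Rn) := hι.subsingleton
    infer_instance
  haveI : CharP (AlgebraicClosure k) p :=
    charP_of_injective_algebraMap (algebraMap k (AlgebraicClosure k)).injective p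
  haveI : CharP (TensorProduct k (AlgebraicClosure k) R) p :=
    charP_of_injective_algebraMap
      (algebraMap (AlgebraicClosure k) (TensorProduct k (AlgebraicClosure k) R)).injective p
  haveI : PerfectRing (AlgebraicClosure k) p := PerfectField.toPerfectRing p
  -- the subring of `p^m`-th powers
  let Fr : Subring (TensorProduct k (AlgebraicClosure k) R) :=
    (iterateFrobenius (TensorProduct k (AlgebraicClosure k) R) p m).range
  have hFr : ∀ s : TensorProduct k (AlgebraicClosure k) R, s ^ (p ^ m) ∈ Fr :=
    fun s => ⟨s, iterateFrobenius_def _ _ _⟩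
  have hFrK : ∀ c : AlgebraicClosure k,
      (c ⊗ₜ[k] (1 : R) : TensorProduct k (AlgebraicClosure k) R) ∈ Fr := by
    intro c
    obtain ⟨d, hd⟩ := (iterateFrobeniusEquiv (AlgebraicClosure k) p m).surjective c
    have : (c ⊗ₜ[k] (1 : R) : TensorProduct k (AlgebraicClosure k) R) =
        (d ⊗ₜ[k] (1 : R)) ^ (p ^ m) := by
      rw [Algebra.TensorProduct.tmul_pow, one_pow, ← hd, iterateFrobeniusEquiv_def]
    rw [this]
    exact hFr _
  have hFrR : ∀ y : R, y ∈ Rn →
      ((1 : AlgebraicClosure k) ⊗ₜ[k] y : TensorProduct k (AlgebraicClosure k) R) ∈ Fr := by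
    intro y hy
    induction hy using Algebra.adjoin_induction with
    | mem y hy =>
      obtain ⟨r, rfl⟩ := hy
      have : ((1 : AlgebraicClosure k) ⊗ₜ[k] (r ^ (p ^ m)) :
          TensorProduct k (AlgebraicClosure k) R) = ((1 : AlgebraicClosure k) ⊗ₜ[k] r) ^ (p ^ m) := by
        rw [Algebra.TensorProduct.tmul_pow, one_pow]
      rw [this]
      exact hFr _
    | algebraMap a =>
      have : ((1 : AlgebraicClosure k) ⊗ₜ[k] (algebraMap k R a) :
          TensorProduct k (AlgebraicClosure k) R) =
          (algebraMap k (AlgebraicClosure k) a) ⊗ₜ[k] (1 : R) := by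
        rw [Algebra.algebraMap_eq_smul_one, Algebra.algebraMap_eq_smul_one,
          TensorProduct.smul_tmul]
      rw [this]
      exact hFrK _
    | add y z _ _ hy hz =>
      rw [TensorProduct.tmul_add]
      exact Fr.add_mem hy hz
    | mul y z _ _ hy hz =>
      have : ((1 : AlgebraicClosure k) ⊗ₜ[k] (y * z) : TensorProduct k (AlgebraicClosure k) R) =
          ((1 : AlgebraicClosure k) ⊗ₜ[k] y) * ((1 : AlgebraicClosure k) ⊗ₜ[k] z) := by
        rw [Algebra.TensorProduct.tmul_mul_tmul, one_mul]
      rw [this]
      exact Fr.mul_mem hy hz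
  have hmem : ∀ t : TensorProduct k (AlgebraicClosure k) Rn, ι t ∈ Fr := by
    intro t
    induction t using TensorProduct.induction_on with
    | zero => rw [map_zero]; exact Fr.zero_mem
    | tmul c y =>
      have : ι (c ⊗ₜ[k] y) = (c ⊗ₜ[k] (1 : R)) * ((1 : AlgebraicClosure k) ⊗ₜ[k] (y : R)) := by
        rw [Algebra.TensorProduct.tmul_mul_tmul, mul_one, one_mul]
        rfl
      rw [this]
      exact Fr.mul_mem (hFrK c) (hFrR _ y.2)
    | add t t' ht ht' => rw [map_add]; exact Fr.add_mem ht ht'
  refine ⟨fun t ht => ?_⟩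
  obtain ⟨s, hs⟩ := hmem t
  rw [iterateFrobenius_def] at hs
  have h1 : IsNilpotent (ι t) := ht.map ι
  rw [← hs] at h1
  have h2 : IsNilpotent s := (IsNilpotent.pow_iff_pos (pow_ne_zero _ hpP.ne_zero)).1 h1
  have h3 : ι t = 0 := by rw [← hs]; exact hnil s h2
  exact hι (by rw [h3, map_zero])

end Groth.Agent.S14606
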