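import Groth.Statements.S14608
import Groth.Agent.Lib.ResidueBC

set_option autoImplicit false
universe u v
open CAlg

namespace Groth.Agent.S14608

open Groth.Agent.Lib.ResidueBC

open TensorProduct in
/-- Let A be a Noetherian ring, M a finitely generated A-module, F a finitely generated free A-module, δ
: M → F an A-linear map and p a prime of A with residue field κ(p). The following are equivalent:
(a) the natural map (ker δ) ⊗ κ(p) → ker(δ ⊗ κ(p)) is surjective (its image is the whole kernel);
(b) that map is bijective; (c) (F / im δ) localized at p is a free module over the local ring A_p.
Moreover, if these hold then (im δ) localized at p is free over A_p. (The published statement takes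
M to be the cokernel of a map of finitely generated free modules; over a Noetherian ring this is
every finitely generated M, which is what this row takes.) -/
theorem result (A : Type u) [CommRing A] [IsNoetherianRing A]
    (M : Type v) (F : Type v) [AddCommGroup M] [Module A M] [Module.Finite A M]
    [AddCommGroup F] [Module A F] [Module.Finite A F] [Module.Free A F]
    (δ : M →ₗ[A] F) (p : Ideal A) [p.IsPrime] :
    [ Function.Exact (LinearMap.lTensor p.ResidueField (LinearMap.ker δ).subtype)
        (LinearMap.lTensor p.ResidueField δ),
      Function.Exact (LinearMap.lTensor p.ResidueField (LinearMap.ker δ).subtype)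
        (LinearMap.lTensor p.ResidueField δ) ∧
        Function.Injective (LinearMap.lTensor p.ResidueField (LinearMap.ker δ).subtype),
      Module.Free (Localization.AtPrime p)
        (LocalizedModule p.primeCompl (F ⧸ LinearMap.range δ)) ].TFAE ∧
    (Function.Exact (LinearMap.lTensor p.ResidueField (LinearMap.ker δ).subtype)
        (LinearMap.lTensor p.ResidueField δ) →
      Module.Free (Localization.AtPrime p)
        (LocalizedModule p.primeCompl (LinearMap.range δ))) := by
  have hιL : Function.Injective ((LinearMap.range δ).subtype.baseChange (Localization.AtPrime p)) :=
    Module.Flat.lTensor_preserves_injective_linearMap (M := Localization.AtPrime p)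
      (LinearMap.range δ).subtype Subtype.val_injective
  have hqL : Function.Surjective ((LinearMap.range δ).mkQ.baseChange (Localization.AtPrime p)) :=
    LinearMap.lTensor_surjective (Localization.AtPrime p) (Submodule.mkQ_surjective _)
  have hexL : Function.Exact ((LinearMap.range δ).subtype.baseChange (Localization.AtPrime p))
      ((LinearMap.range δ).mkQ.baseChange (Localization.AtPrime p)) :=
    lTensor_exact (Localization.AtPrime p) (LinearMap.exact_subtype_mkQ (LinearMap.range δ))
      (Submodule.mkQ_surjective _)
  have ha : Function.Exact (LinearMap.lTensor p.ResidueField (LinearMap.ker δ).subtype)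
        (LinearMap.lTensor p.ResidueField δ) ↔
      Function.Injective (((LinearMap.range δ).subtype.baseChange
        (Localization.AtPrime p)).lTensor p.ResidueField) := by
    rw [exact_lTensor_ker_iff, lTensor_injective_iff_baseChange (Localization.AtPrime p)]
  have hc : Module.Free (Localization.AtPrime p)
        (LocalizedModule p.primeCompl (F ⧸ LinearMap.range δ)) ↔
      Function.Injective (((LinearMap.range δ).subtype.baseChange
        (Localization.AtPrime p)).lTensor p.ResidueField) := by
    rw [free_localizedModule_iff]
    exact free_iff_lTensor_residueField_injective _ _ hιL hqL hexL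
  have hI : Function.Injective (((LinearMap.range δ).subtype.baseChange
        (Localization.AtPrime p)).lTensor p.ResidueField) →
      Module.Free (Localization.AtPrime p) ((Localization.AtPrime p) ⊗[A] LinearMap.range δ) :=
    fun h => free_of_lTensor_residueField_injective' _ h
  have hb : Function.Injective (((LinearMap.range δ).subtype.baseChange
        (Localization.AtPrime p)).lTensor p.ResidueField) →
      Function.Injective (LinearMap.lTensor p.ResidueField (LinearMap.ker δ).subtype) := by
    intro h
    have hfreeI := hI h
    have hiK : Function.Injective ((LinearMap.ker δ).subtype.baseChange (Localization.AtPrime p)) :=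
      Module.Flat.lTensor_preserves_injective_linearMap (M := Localization.AtPrime p)
        (LinearMap.ker δ).subtype Subtype.val_injective
    have hdL : Function.Surjective (δ.rangeRestrict.baseChange (Localization.AtPrime p)) :=
      LinearMap.lTensor_surjective (Localization.AtPrime p) δ.surjective_rangeRestrict
    have hex0 : Function.Exact (LinearMap.ker δ).subtype δ.rangeRestrict := by
      rw [LinearMap.exact_iff, LinearMap.ker_rangeRestrict, Submodule.range_subtype]
    have hex2 : Function.Exact ((LinearMap.ker δ).subtype.baseChange (Localization.AtPrime p))
        (δ.rangeRestrict.baseChange (Localization.AtPrime p)) :=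
      lTensor_exact (Localization.AtPrime p) hex0 δ.surjective_rangeRestrict
    obtain ⟨l, hl⟩ := exists_retraction_of_projective _ _ hiK hdL hex2
    rw [lTensor_injective_iff_baseChange (Localization.AtPrime p)]
    exact lTensor_injective_of_retraction _ _ l hl
  refine ⟨?_, ?_⟩
  · tfae_have 1 → 3 := fun h => hc.mpr (ha.mp h)
    tfae_have 3 → 2 := fun h => ⟨ha.mpr (hc.mp h), hb (hc.mp h)⟩
    tfae_have 2 → 1 := fun h => h.1
    tfae_finish
  · intro h
    rw [free_localizedModule_iff]
    exact hI (ha.mp h)

end Groth.Agent.S14608
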