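import Groth.Statements.S14609
import Groth.Agent.Lib.FibRankUniv

set_option autoImplicit false
universe u v
open CAlg

namespace Groth.Agent.S14609

open TensorProduct

open TensorProduct in
/-- Let A be a Noetherian ring, M a finitely generated A-module, F a finitely generated free A-module
and δ : M → F an A-linear map. Then the function on Spec A sending a prime p with residue field κ(p)
to the κ(p)-dimension of the kernel of δ ⊗ κ(p) : M ⊗ κ(p) → F ⊗ κ(p) is upper semicontinuous. -/
theorem result (A : Type u) [CommRing A]
    [IsNoetherianRing A] (M : Type v) (F : Type v) [AddCommGroup M] [Module A M] [Module.Finite A M]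
    [AddCommGroup F] [Module A F] [Module.Finite A F] [Module.Free A F] (δ : M →ₗ[A] F) :
    UpperSemicontinuous (fun x : PrimeSpectrum A =>
      Module.finrank x.asIdeal.ResidueField
        (LinearMap.ker (δ.baseChange x.asIdeal.ResidueField))) := by
  have hF : ∀ x : PrimeSpectrum A,
      Module.finrank x.asIdeal.ResidueField (x.asIdeal.ResidueField ⊗[A] F) =
        Module.finrank A F := fun x => by
    have : Nontrivial A := RingHom.domain_nontrivial (algebraMap A x.asIdeal.ResidueField)
    exact Module.finrank_baseChange
  refine Groth.Agent.Lib.TFunRank.upperSemicontinuous_of_add_eq _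
    (fun x : PrimeSpectrum A =>
      Module.finrank x.asIdeal.ResidueField (x.asIdeal.ResidueField ⊗[A] M))
    (fun x : PrimeSpectrum A =>
      Module.finrank x.asIdeal.ResidueField
        (x.asIdeal.ResidueField ⊗[A] (F ⧸ LinearMap.range δ)))
    (fun _ => Module.finrank A F) ?_
    (Groth.Agent.Lib.FibRankUniv.upperSemicontinuous_finrank_tensor M)
    (Groth.Agent.Lib.FibRankUniv.upperSemicontinuous_finrank_tensor (F ⧸ LinearMap.range δ))
    (IsLocallyConstant.const _)
  intro x
  show _ + Module.finrank A F = _
  rw [← hF x]
  exact Groth.Agent.Lib.FibRankUniv.finrank_ker_baseChange_add _ δ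

end Groth.Agent.S14609
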