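import Groth.Statements.S14610
import Groth.Agent.Lib.LocConstRank2

set_option autoImplicit false
universe u v
open CAlg

namespace Groth.Agent.S14610

open TensorProduct in

open TensorProduct in
/-- Let A be a reduced Noetherian ring, M a finitely generated A-module, F a finitely generated free
A-module and δ : M → F an A-linear map such that the function p ↦ dim_{κ(p)} ker(δ ⊗ κ(p)) is
locally constant on Spec A. Then M, ker δ and coker δ = F / im δ are projective A-modules, and for
every A-module N the natural map (ker δ) ⊗ N → M ⊗ N is injective with image equal to the kernel of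
δ ⊗ N. -/
theorem result (A : Type u) [CommRing A]
    [IsNoetherianRing A] [IsReduced A] (M : Type v) (F : Type v) [AddCommGroup M] [Module A M]
    [Module.Finite A M] [AddCommGroup F] [Module A F] [Module.Finite A F] [Module.Free A F]
    (δ : M →ₗ[A] F)
    (h : IsLocallyConstant (fun x : PrimeSpectrum A =>
      Module.finrank x.asIdeal.ResidueField
        (LinearMap.ker (δ.baseChange x.asIdeal.ResidueField)))) :
    Module.Projective A M ∧ Module.Projective A (LinearMap.ker δ) ∧
      Module.Projective A (F ⧸ LinearMap.range δ) ∧
      ∀ (N : Type v) [AddCommGroup N] [Module A N],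
        Function.Injective (LinearMap.rTensor N (LinearMap.ker δ).subtype) ∧
        Function.Exact (LinearMap.rTensor N (LinearMap.ker δ).subtype) (LinearMap.rTensor N δ) := by
  classical
  have hlcF := Groth.Agent.Lib.LocConstRank.isLocallyConstant_fibRank'_of_projective (A := A) F
  have hid : ∀ x : PrimeSpectrum A,
      Groth.Agent.Lib.LocConstRank.fibRank' M x +
        Groth.Agent.Lib.LocConstRank.fibRank' (F ⧸ LinearMap.range δ) x =
      Module.finrank x.asIdeal.ResidueField
        (LinearMap.ker (δ.baseChange x.asIdeal.ResidueField)) +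
        Groth.Agent.Lib.LocConstRank.fibRank' F x := by
    intro x
    have h1 := Groth.Agent.Lib.LocConstRank.fibRank'_coker_add δ x
    have h2 := LinearMap.finrank_range_add_finrank_ker (δ.baseChange x.asIdeal.ResidueField)
    unfold Groth.Agent.Lib.LocConstRank.fibRank' at *
    omega
  have hsum : IsLocallyConstant (fun x : PrimeSpectrum A =>
      Groth.Agent.Lib.LocConstRank.fibRank' M x +
        Groth.Agent.Lib.LocConstRank.fibRank' (F ⧸ LinearMap.range δ) x) := by
    rw [funext hid]
    exact h.add hlcF
  have huM := Groth.Agent.Lib.LocConstRank.upperSemicontinuous_fibRank' (A := A) M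
  have huC := Groth.Agent.Lib.LocConstRank.upperSemicontinuous_fibRank' (A := A)
    (F ⧸ LinearMap.range δ)
  have hboth : ∀ z : PrimeSpectrum A,
      (∀ᶠ x in nhds z, Groth.Agent.Lib.LocConstRank.fibRank' M x =
        Groth.Agent.Lib.LocConstRank.fibRank' M z) ∧
      (∀ᶠ x in nhds z, Groth.Agent.Lib.LocConstRank.fibRank' (F ⧸ LinearMap.range δ) x =
        Groth.Agent.Lib.LocConstRank.fibRank' (F ⧸ LinearMap.range δ) z) := fun z =>
    Groth.Agent.Lib.TFunRank.eventually_const_of_add _ _ huM huC z
      ((IsLocallyConstant.iff_eventually_eq _).mp hsum z)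
  have hM : Module.Projective A M :=
    Groth.Agent.Lib.LocConstRank.projective_of_isLocallyConstant_fibRank' M
      ((IsLocallyConstant.iff_eventually_eq _).mpr fun z => (hboth z).1)
  have hC : Module.Projective A (F ⧸ LinearMap.range δ) :=
    Groth.Agent.Lib.LocConstRank.projective_of_isLocallyConstant_fibRank' _
      ((IsLocallyConstant.iff_eventually_eq _).mpr fun z => (hboth z).2)
  obtain ⟨sR, hsR⟩ := Groth.Agent.Lib.LocConstRank.exists_retraction_range δ
  have hR : Module.Projective A ↥(LinearMap.range δ) :=
    Module.Projective.of_split (LinearMap.range δ).subtype sR hsR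
  obtain ⟨sK, hsK⟩ := Groth.Agent.Lib.LocConstRank.exists_retraction_ker δ
  have hK : Module.Projective A ↥(LinearMap.ker δ) :=
    Module.Projective.of_split (LinearMap.ker δ).subtype sK hsK
  refine ⟨hM, hK, hC, fun N _ _ => ?_⟩
  have hinjK : Function.Injective (LinearMap.rTensor N (LinearMap.ker δ).subtype) := by
    apply Function.LeftInverse.injective (g := LinearMap.rTensor N sK)
    intro z
    rw [← LinearMap.comp_apply, ← LinearMap.rTensor_comp, hsK, LinearMap.rTensor_id,
      LinearMap.id_apply]
  have hinjR : Function.Injective (LinearMap.rTensor N (LinearMap.range δ).subtype) := by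
    apply Function.LeftInverse.injective (g := LinearMap.rTensor N sR)
    intro z
    rw [← LinearMap.comp_apply, ← LinearMap.rTensor_comp, hsR, LinearMap.rTensor_id,
      LinearMap.id_apply]
  refine ⟨hinjK, ?_⟩
  have hex0 : Function.Exact (LinearMap.ker δ).subtype δ.rangeRestrict := by
    intro y
    constructor
    · intro hy
      have : δ y = 0 := congrArg Subtype.val hy
      exact ⟨⟨y, this⟩, rfl⟩
    · rintro ⟨k, rfl⟩
      apply Subtype.ext
      exact k.2
  have hex1 : Function.Exact (LinearMap.rTensor N (LinearMap.ker δ).subtype)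
      (LinearMap.rTensor N δ.rangeRestrict) :=
    rTensor_exact N hex0 δ.surjective_rangeRestrict
  have hfac : LinearMap.rTensor N δ =
      LinearMap.rTensor N (LinearMap.range δ).subtype ∘ₗ LinearMap.rTensor N δ.rangeRestrict := by
    rw [← LinearMap.rTensor_comp]
    congr 1
  intro z
  rw [hfac, LinearMap.comp_apply, ← hex1 z]
  exact ⟨fun hz => hinjR (by rw [hz, map_zero]), fun hz => by rw [hz, map_zero]⟩

end Groth.Agent.S14610
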