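import Groth.Statements.S14611
import Groth.Agent.Lib.TFunBaseChange
import Groth.Agent.Lib.TFunBC
import Groth.Agent.Lib.TFunLocalVanish

set_option autoImplicit false
universe u
open FlatCx

namespace Groth.Agent.S14611

section Helpers
open CategoryTheory CategoryTheory.Limits CohIII TensorProduct Groth.Agent.Lib.TFun
  Groth.Agent.Lib.TFunCompare Groth.Agent.Lib.TFunBaseChange

section
variable {A : Type u} [CommRing A] (m : Ideal A) [m.IsMaximal]

/-- `A/m ≃ κ(A_m)` as `A`-modules. -/
noncomputable def residueEquiv :
    (A ⧸ m) ≃ₗ[A] (RB (A := A) (Localization.AtPrime m)).obj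
      (ModuleCat.of (Localization.AtPrime m) (IsLocalRing.ResidueField (Localization.AtPrime m))) :=
  AddEquiv.toLinearEquiv
    (IsLocalization.AtPrime.equivQuotMaximalIdeal m (Localization.AtPrime m)).toAddEquiv (by
    intro a x
    obtain ⟨y, rfl⟩ := Ideal.Quotient.mk_surjective x
    change (IsLocalization.AtPrime.equivQuotMaximalIdeal m (Localization.AtPrime m))
      (a • Ideal.Quotient.mk m y) = algebraMap A (Localization.AtPrime m) a •
        (IsLocalization.AtPrime.equivQuotMaximalIdeal m (Localization.AtPrime m))
          (Ideal.Quotient.mk m y)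
    have h1 : a • (Ideal.Quotient.mk m y) = Ideal.Quotient.mk m (a * y) := rfl
    rw [h1, IsLocalization.AtPrime.equivQuotMaximalIdeal_apply_mk,
      IsLocalization.AtPrime.equivQuotMaximalIdeal_apply_mk, map_mul, map_mul]
    rfl)

/-- `T^{A_m}_p(κ) = 0` when `T_p(A/m) = 0`. -/
theorem isZero_residue {ι : Type} {c : ComplexShape ι} (Q : HomologicalComplex (ModuleCat.{u} A) c)
    (p : ι) (h : IsZero ((TFun Q p).obj (ModuleCat.of A (A ⧸ m)))) :
    IsZero ((TFun (bcCx (algebraMap A (Localization.AtPrime m)) Q) p).obj
      (ModuleCat.of (Localization.AtPrime m)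
        (IsLocalRing.ResidueField (Localization.AtPrime m)))) := by
  have e1 := compareIso (Localization.AtPrime m) Q p (ModuleCat.of (Localization.AtPrime m)
        (IsLocalRing.ResidueField (Localization.AtPrime m)))
  have e2 := (TFun Q p).mapIso (residueEquiv m).toModuleIso
  have hz : IsZero ((RB (A := A) (Localization.AtPrime m)).obj
      ((TFun (bcCx (algebraMap A (Localization.AtPrime m)) Q) p).obj
      (ModuleCat.of (Localization.AtPrime m)
        (IsLocalRing.ResidueField (Localization.AtPrime m))))) :=
    (h.of_iso e2.symm).of_iso e1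
  have hs : Subsingleton ((RB (A := A) (Localization.AtPrime m)).obj
      ((TFun (bcCx (algebraMap A (Localization.AtPrime m)) Q) p).obj
      (ModuleCat.of (Localization.AtPrime m)
        (IsLocalRing.ResidueField (Localization.AtPrime m))))) :=
    ModuleCat.subsingleton_of_isZero hz
  have hs' : Subsingleton ((TFun (bcCx (algebraMap A (Localization.AtPrime m)) Q) p).obj
      (ModuleCat.of (Localization.AtPrime m)
        (IsLocalRing.ResidueField (Localization.AtPrime m)))) := hs
  exact ModuleCat.isZero_of_subsingleton _

end

theorem main (A : Type u) [CommRing A] [IsNoetherianRing A]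
    (Q : CochainComplex (ModuleCat.{u} A) ℤ)
    (hQ : ∀ i, Module.Finite A (Q.X i) ∧ Module.Projective A (Q.X i)) (d : ℤ)
    (h2 : ∀ (m : Ideal A) [m.IsMaximal],
      IsZero ((CohIII.tensorObj Q (ModuleCat.of A (A ⧸ m))).homology (d - 1))) :
    Module.Projective A (Q.opcycles d) := by
  have hflat : ∀ i, Module.Flat A (Q.X i) := fun i => by
    have := (hQ i).2
    infer_instance
  have hrel : (ComplexShape.up ℤ).Rel (d - 1) d := by
    show d - 1 + 1 = d
    ring
  have hloc : ∀ (m : Ideal A) [m.IsMaximal], Module.Flat (Localization.AtPrime m)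
      (Localization.AtPrime m ⊗[A] Copc Q d) := by
    intro m _
    have hflatB := Groth.Agent.Lib.TFunBC.flat_bcCx_X (Localization.AtPrime m) Q hflat
    have hfinB : ∀ i, Module.Finite (Localization.AtPrime m)
        ((bcCx (algebraMap A (Localization.AtPrime m)) Q).X i) := fun i => by
      have := (hQ i).1
      exact Module.Finite.equiv
        (Groth.Agent.Lib.TildePullback.extendScalarsEquiv A (Localization.AtPrime m) (Q.X i)).symm
    have hz := isZero_of_isZero_residue (bcCx (algebraMap A (Localization.AtPrime m)) Q) hflatB
      (d - 1) d hrel (hfinB _) (hfinB _) (isZero_residue m Q (d - 1) (h2 m))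
    have he : (TFun (bcCx (algebraMap A (Localization.AtPrime m)) Q)
        (d - 1)).PreservesEpimorphisms := preservesEpi_of_isZero_obj _ hz
    have hm := (preservesEpi_iff_preservesMono (bcCx (algebraMap A (Localization.AtPrime m)) Q)
      hflatB (d - 1) d hrel).mp he
    exact (Groth.Agent.Lib.TFunBC.preservesMono_bcCx_iff (Localization.AtPrime m) Q d hflat).mp hm
  have hC : Module.Flat A (Copc Q d) := by
    apply Module.flat_of_isLocalized_maximal A (Copc Q d)
      (fun P _ => Localization.AtPrime P ⊗[A] Copc Q d)
      (fun P _ => TensorProduct.mk A (Localization.AtPrime P) (Copc Q d) 1)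
    intro P _
    have := hloc P
    exact Module.Flat.trans A (Localization.AtPrime P) _
  have hfin : Module.Finite A (Copc Q d) := by
    have := (hQ d).1
    infer_instance
  have hfp : Module.FinitePresentation A (Copc Q d) := Module.finitePresentation_of_finite A _
  have hproj : Module.Projective A (Copc Q d) := Module.Flat.projective_of_finitePresentation
  have hproj' : Module.Projective A (ModuleCat.of A
      ((Q.sc d).X₂ ⧸ LinearMap.range (Q.sc d).f.hom)) := hproj
  exact Module.Projective.of_equiv ((Q.sc d).moduleCatOpcyclesIso.toLinearEquiv.symm)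

end Helpers


open CategoryTheory CategoryTheory.Limits in
/-- Let A be a Noetherian ring, Q a cochain complex whose terms are finitely generated projective
A-modules, and d an integer such that H^p(Q) = 0 for every p < d and H^p(Q ⊗_A A/m) = 0 for every p
< d and every maximal ideal m of A. Then Q^d / im(Q^{d-1} → Q^d), the degree-d term of the
truncation τ_{≥ d} Q, is a projective A-module, so that τ_{≥ d} Q is again a complex of projective
modules. (The published statement also asserts that Q → τ_{≥ d} Q is a quasi-isomorphism when H^p(Q)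
= 0 for p < d; this row omits that clause.) -/
theorem result (A : Type u) [CommRing A] [IsNoetherianRing A]
    (Q : CochainComplex (ModuleCat.{u} A) ℤ)
    (hQ : ∀ i, Module.Finite A (Q.X i) ∧ Module.Projective A (Q.X i)) (d : ℤ)
    (h1 : ∀ p < d, IsZero (Q.homology p))
    (h2 : ∀ (m : Ideal A) [m.IsMaximal], ∀ p < d,
      IsZero ((CohIII.tensorObj Q (ModuleCat.of A (A ⧸ m))).homology p)) :
    Module.Projective A (Q.opcycles d) := by
  exact main A Q hQ d (fun m _ => h2 m (d - 1) (by omega))

end Groth.Agent.S14611
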