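import Groth.Statements.S14612
import Groth.Agent.Lib.TFunAcyclic
import Groth.Agent.Lib.TFunOpcycles
import Groth.Agent.Lib.TFunLocalVanish
import Groth.Agent.Lib.FlatKer

set_option autoImplicit false
universe u
open FlatCx

namespace Groth.Agent.S14612

open CategoryTheory CategoryTheory.Limits CohIII Groth.Agent.Lib.TFun Groth.Agent.Lib.TFunAcyclic
  Groth.Agent.Lib.FlatKer

theorem flat_ker_of_flat_Copc {A : Type u} [CommRing A]
    (F : CochainComplex (ModuleCat.{u} A) ℤ) (i j : ℤ) (hi : Module.Flat A (F.X i))
    (hj : Module.Flat A (F.X j))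
    (hC : Module.Flat A (F.X j ⧸ LinearMap.range (F.d i j).hom)) :
    Module.Flat A (LinearMap.ker (F.d i j).hom) := by
  have hR : Module.Flat A (LinearMap.range (F.d i j).hom) := by
    have := flat_ker_of_surjective (LinearMap.range (F.d i j).hom).mkQ
      (Submodule.mkQ_surjective _)
    rwa [Submodule.ker_mkQ] at this
  have := flat_ker_of_surjective (LinearMap.rangeRestrict (F.d i j).hom)
    (LinearMap.surjective_rangeRestrict _)
  rwa [LinearMap.ker_rangeRestrict] at this

open CategoryTheory CategoryTheory.Limits in
/-- Let A be a commutative ring and F a cochain complex of flat A-modules which is bounded above (F^i =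
0 for all large i) and whose cohomology H^p(F) vanishes for every p > d. Then the module of
d-cocycles Z^d = ker(F^d → F^{d+1}) is flat over A; hence the truncation τ_{≤ d} F is again a
complex of flat modules (and τ_{≤ d} F → F is a quasi-isomorphism, which is not restated).
Boundedness cannot be dropped. -/
theorem result (A : Type u) [CommRing A]
    (F : CochainComplex (ModuleCat.{u} A) ℤ) (hF : ∀ i, Module.Flat A (F.X i))
    (hb : ∃ b : ℤ, ∀ i, b < i → IsZero (F.X i)) (d : ℤ) (hac : ∀ p, d < p → IsZero (F.homology p)) :
    Module.Flat A (F.cycles d) := by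
  have hT := isZero_TFun_obj_of_acyclic_above F hF hb d hac (d + 1) (by omega)
  have hm : (TFun F (d + 1)).PreservesMonomorphisms := preservesMono_of_isZero_obj _ hT
  have hC : Module.Flat A (Copc F (d + 1)) := flat_Copc_of_preservesMono F (d + 1) (hF _) hm
  have hprev : (ComplexShape.up ℤ).prev (d + 1) = d := by simp
  have hnext : (ComplexShape.up ℤ).next d = d + 1 := by simp
  have hK : ∀ i j : ℤ, i = d → j = (ComplexShape.up ℤ).next d →
      Module.Flat A (F.X j ⧸ LinearMap.range (F.d i j).hom) →
      Module.Flat A (LinearMap.ker (F.d d ((ComplexShape.up ℤ).next d)).hom) := by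
    rintro i j rfl rfl h
    exact flat_ker_of_flat_Copc F _ _ (hF _) (hF _) h
  have hK' := hK ((ComplexShape.up ℤ).prev (d + 1)) (d + 1) hprev hnext.symm hC
  have e : (F.cycles d) ≃ₗ[A] LinearMap.ker (F.d d ((ComplexShape.up ℤ).next d)).hom :=
    (F.sc d).moduleCatCyclesIso.toLinearEquiv
  exact Module.Flat.of_linearEquiv e

end Groth.Agent.S14612
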