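import Groth.Statements.S14613
import Groth.Agent.Lib.TFunAcyclic
import Groth.Agent.Lib.ConeQuasiIso

set_option autoImplicit false
universe u
open FlatCx

namespace Groth.Agent.S14613

open CategoryTheory CategoryTheory.Limits CohIII Groth.Agent.Lib.TFun Groth.Agent.Lib.TFunAcyclic
  Groth.Agent.Lib.ConeQuasiIso

open CategoryTheory CategoryTheory.Limits in
/-- Let A be a commutative ring (not necessarily Noetherian), C and D cochain complexes of flat
A-modules that are bounded above (zero in all large degrees), φ : C → D a quasi-isomorphism and M an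
arbitrary A-module. Then φ ⊗ id_M : C ⊗_A M → D ⊗_A M, the tensor product taken degreewise, is a
quasi-isomorphism. Boundedness cannot be dropped. -/
theorem result (A : Type u) [CommRing A]
    (C D : CochainComplex (ModuleCat.{u} A) ℤ)
    (hC : ∀ i, Module.Flat A (C.X i)) (hD : ∀ i, Module.Flat A (D.X i))
    (bC : ∃ b : ℤ, ∀ i, b < i → IsZero (C.X i)) (bD : ∃ b : ℤ, ∀ i, b < i → IsZero (D.X i))
    (φ : C ⟶ D) [QuasiIso φ] (M : ModuleCat.{u} A) :
    QuasiIso (((MonoidalCategory.tensorRight M).mapHomologicalComplex (ComplexShape.up ℤ)).map φ) := by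
  rw [quasiIso_iff_acyclic_mappingCone]
  have hK : (CochainComplex.mappingCone φ).Acyclic :=
    (quasiIso_iff_acyclic_mappingCone φ).mp inferInstance
  have hKflat := flat_mappingCone_X φ hC hD
  have hKb : ∃ b : ℤ, ∀ i, b < i → IsZero ((CochainComplex.mappingCone φ).X i) := by
    obtain ⟨b1, h1⟩ := bC
    obtain ⟨b2, h2⟩ := bD
    refine ⟨max b1 b2, fun i hi => ?_⟩
    rw [CochainComplex.mappingCone.isZero_X_iff]
    have := le_max_left b1 b2
    have := le_max_right b1 b2
    exact ⟨h1 _ (by omega), h2 _ (by omega)⟩
  intro n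
  have e := CochainComplex.mappingCone.mapHomologicalComplexIso φ (MonoidalCategory.tensorRight M)
  have hz : IsZero ((TFun (CochainComplex.mappingCone φ) n).obj M) :=
    isZero_TFun_obj_of_acyclic_above (CochainComplex.mappingCone φ) hKflat hKb (n - 1)
      (fun p _ => (HomologicalComplex.exactAt_iff_isZero_homology _ _).mp (hK p)) n (by omega) M
  rw [HomologicalComplex.exactAt_iff_isZero_homology]
  exact hz.of_iso ((HomologicalComplex.homologyFunctor _ _ n).mapIso e.symm)

end Groth.Agent.S14613
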