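import Groth.Statements.S14614
import Mathlib.AlgebraicGeometry.Morphisms.FlatMono
import Mathlib.AlgebraicGeometry.Noetherian
import Mathlib.RingTheory.Filtration
import Mathlib.RingTheory.KrullDimension.Zero
import Mathlib.RingTheory.Artinian.Ring
import Mathlib.RingTheory.HopkinsLevitzki
import Groth.Agent.Lib.MonoResidue45

set_option autoImplicit false
universe u
open Mor

namespace Groth.Agent.S14614

section Helpers

open IsLocalRing CategoryTheory AlgebraicGeometry

/-- `R ⧸ m^n` is an Artinian ring (copied from `Groth.Agent.S17754`). -/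
theorem artinian_quot {R : Type u} [CommRing R] [IsNoetherianRing R] [IsLocalRing R] (n : ℕ) :
    IsArtinianRing (R ⧸ maximalIdeal R ^ n) := by
  by_cases hI : maximalIdeal R ^ n = ⊤
  · have : Subsingleton (R ⧸ maximalIdeal R ^ n) := Ideal.Quotient.subsingleton_iff.2 hI
    have : Finite (R ⧸ maximalIdeal R ^ n) := Finite.of_subsingleton
    infer_instance
  have : Nontrivial (R ⧸ maximalIdeal R ^ n) := Ideal.Quotient.nontrivial_iff.mpr hI
  have := IsLocalRing.of_surjective' (Ideal.Quotient.mk (maximalIdeal R ^ n))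
    Ideal.Quotient.mk_surjective
  have := IsLocalHom.of_surjective (Ideal.Quotient.mk (maximalIdeal R ^ n))
    Ideal.Quotient.mk_surjective
  have hmax : (maximalIdeal R).map (Ideal.Quotient.mk (maximalIdeal R ^ n)) =
      maximalIdeal (R ⧸ maximalIdeal R ^ n) := by
    ext x
    obtain ⟨x, rfl⟩ := Ideal.Quotient.mk_surjective x
    simp [sup_eq_left.mpr (le_maximalIdeal hI)]
  rw [isArtinianRing_iff_isNilpotent_maximalIdeal]
  refine ⟨n, ?_⟩
  rw [← hmax, ← Ideal.map_pow, Ideal.zero_eq_bot, Ideal.map_eq_bot_iff_le_ker, Ideal.mk_ker]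

lemma appLE_congr {X Y : Scheme.{u}} {g₁ g₂ : X ⟶ Y} (hg : g₁ = g₂) (U : Y.Opens) (V : X.Opens)
    (e₁ : V ≤ g₁ ⁻¹ᵁ U) (e₂ : V ≤ g₂ ⁻¹ᵁ U) : g₁.appLE U V e₁ = g₂.appLE U V e₂ := by
  subst hg; rfl

set_option backward.isDefEq.respectTransparency false in
/-- The key step: the stalk maps of `i` are injective. -/
theorem stalkMap_injective (S : Scheme.{u}) [IsLocallyNoetherian S]
    {Z : Scheme.{u}} (i : Z ⟶ S) [IsClosedImmersion i]
    (h : ∀ (A : Type u) [CommRing A] [IsArtinianRing A] [IsLocalRing A]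
      (g : Spec (CommRingCat.of A) ⟶ S),
      (∃ t : Spec (CommRingCat.of (IsLocalRing.ResidueField A)) ⟶ Z,
          t ≫ i = Spec.map (CommRingCat.ofHom (IsLocalRing.residue A)) ≫ g) →
        ∃ g' : Spec (CommRingCat.of A) ⟶ Z, g' ≫ i = g) (z : Z) :
    Function.Injective (i.stalkMap z).hom := by
  rw [injective_iff_map_eq_zero]
  intro a ha
  let s := i z
  let O := S.presheaf.stalk s
  -- it suffices to show `a ∈ m^n` for all `n`
  have hkrull := Ideal.iInf_pow_eq_bot_of_isLocalRing (maximalIdeal O)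
    (Ideal.IsPrime.ne_top inferInstance)
  suffices hmem : ∀ n : ℕ, a ∈ maximalIdeal O ^ n by
    have : a ∈ (⨅ n : ℕ, maximalIdeal O ^ n : Ideal O) := by
      rw [Ideal.mem_iInf]; exact hmem
    rw [hkrull] at this
    exact this
  intro n
  by_cases hI : maximalIdeal O ^ n = ⊤
  · rw [hI]; trivial
  let A : Type u := O ⧸ maximalIdeal O ^ n
  haveI : Nontrivial A := Ideal.Quotient.nontrivial_iff.mpr hI
  haveI : IsLocalRing A := IsLocalRing.of_surjective' (Ideal.Quotient.mk (maximalIdeal O ^ n))
    Ideal.Quotient.mk_surjective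
  haveI hloc : IsLocalHom (Ideal.Quotient.mk (maximalIdeal O ^ n)) :=
    IsLocalHom.of_surjective (Ideal.Quotient.mk (maximalIdeal O ^ n))
      Ideal.Quotient.mk_surjective
  haveI : IsArtinianRing A := artinian_quot n
  let q : O ⟶ CommRingCat.of A := CommRingCat.ofHom (Ideal.Quotient.mk (maximalIdeal O ^ n))
  haveI : IsLocalHom q.hom := hloc
  let g : Spec (CommRingCat.of A) ⟶ S := Spec.map q ≫ S.fromSpecStalk s
  -- the residue field lifts
  have hφ₀ : IsIso (i.residueFieldMap z) :=
    Groth.Agent.Lib.MonoResidue45.isIso_residueFieldMap i z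
  let m : S.residueField s ⟶ CommRingCat.of (IsLocalRing.ResidueField A) :=
    CommRingCat.ofHom (IsLocalRing.ResidueField.map q.hom)
  have hm : S.residue s ≫ m = q ≫ CommRingCat.ofHom (IsLocalRing.residue A) := rfl
  let t : Spec (CommRingCat.of (IsLocalRing.ResidueField A)) ⟶ Z :=
    Spec.map (inv (i.residueFieldMap z) ≫ m) ≫ Z.fromSpecResidueField z
  have ht : t ≫ i = Spec.map (CommRingCat.ofHom (IsLocalRing.residue A)) ≫ g := by
    simp only [t, g, Category.assoc]
    rw [← Scheme.Hom.SpecMap_residueFieldMap_fromSpecResidueField, ← Spec.map_comp_assoc,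
      IsIso.hom_inv_id_assoc, Scheme.fromSpecResidueField, ← Spec.map_comp_assoc, hm,
      Spec.map_comp, Category.assoc]
  obtain ⟨g', hg'⟩ := h A g ⟨t, ht⟩
  -- the closed point goes to `z`
  have hgc : g (closedPoint A) = s := by
    show (Spec.map q ≫ S.fromSpecStalk s) (closedPoint A) = s
    rw [Scheme.Hom.comp_apply]
    have : Spec.map q (closedPoint A) = closedPoint O := comap_closedPoint q.hom
    rw [this, S.fromSpecStalk_closedPoint]
  have hg'c : g' (closedPoint A) = z := by
    apply i.isClosedEmbedding.injective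
    rw [← Scheme.Hom.comp_apply, hg', hgc]
  -- represent `a` by a section
  obtain ⟨U, hsU, b, rfl⟩ := S.presheaf.exists_germ_eq a
  -- `i^* b` vanishes near `z`
  have ha' : Z.presheaf.germ (i ⁻¹ᵁ U) z hsU (i.app U b) =
      Z.presheaf.germ (i ⁻¹ᵁ U) z hsU 0 := by
    rw [map_zero, ← Scheme.Hom.germ_stalkMap_apply]
    exact ha
  obtain ⟨V, hzV, iU, iV, hV⟩ := Z.presheaf.germ_eq z hsU hsU _ _ ha'
  have hVU : V ≤ i ⁻¹ᵁ U := iU.le
  have hbV : i.appLE U V hVU b = 0 := by
    have : i.appLE U V hVU b = Z.presheaf.map iU.op (i.app U b) := rfl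
    rw [this, hV, map_zero]
  -- hence `g^* b = 0`
  have hgU : g (closedPoint A) ∈ U := by rw [hgc]; exact hsU
  have hg'V : g' (closedPoint A) ∈ V := by rw [hg'c]; exact hzV
  have e₂ : (⊤ : (Spec (CommRingCat.of A)).Opens) ≤ g' ⁻¹ᵁ V :=
    (Scheme.preimage_eq_top_of_closedPoint_mem g' hg'V).ge
  have e₀ : (⊤ : (Spec (CommRingCat.of A)).Opens) ≤ g ⁻¹ᵁ U :=
    (Scheme.preimage_eq_top_of_closedPoint_mem g hgU).ge
  have hgb : g.appLE U ⊤ e₀ b = 0 := by
    have e₁ : (⊤ : (Spec (CommRingCat.of A)).Opens) ≤ (g' ≫ i) ⁻¹ᵁ U := by rw [hg']; exact e₀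
    rw [appLE_congr hg'.symm U ⊤ e₀ e₁, ← Scheme.Hom.appLE_comp_appLE g' i U V ⊤ hVU e₂]
    show g'.appLE V ⊤ e₂ (i.appLE U V hVU b) = 0
    rw [hbV, map_zero]
  -- compare with `q`
  have h1 := Scheme.germ_stalkClosedPointTo_Spec_fromSpecStalk (X := S) (x := i z) q U hgU
  have h2 := Scheme.germ_stalkClosedPointTo g U hgU
  have h3 : q.hom (S.presheaf.germ U (i z) hsU b) = 0 := by
    have h4 : (S.presheaf.germ U (i z) hsU ≫ q) b =
        (g.app U ≫ ((Spec (CommRingCat.of A)).presheaf.mapIso
          (eqToIso (Scheme.preimage_eq_top_of_closedPoint_mem g hgU).symm).op ≪≫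
            Scheme.ΓSpecIso (CommRingCat.of A)).hom) b := by
      rw [← h2]
      exact congrArg (fun φ => φ b) h1.symm
    have h5 : (g.app U ≫ ((Spec (CommRingCat.of A)).presheaf.mapIso
          (eqToIso (Scheme.preimage_eq_top_of_closedPoint_mem g hgU).symm).op ≪≫
            Scheme.ΓSpecIso (CommRingCat.of A)).hom) b =
        (Scheme.ΓSpecIso (CommRingCat.of A)).hom (g.appLE U ⊤ e₀ b) := rfl
    rw [h5, hgb, map_zero] at h4
    exact h4
  exact Ideal.Quotient.eq_zero_iff_mem.mp h3

end Helpers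

open CategoryTheory AlgebraicGeometry in
/-- Let S be a locally Noetherian scheme and i : Z → S a closed immersion with the following property:
for every Artinian local ring A with residue field k and every morphism g : Spec A → S, if the
restriction Spec k → Spec A → S of g factors through i then so does g. Then i is also an open
immersion, i.e. the closed subscheme Z is open in S as a subscheme. (The published hypothesis is an
equivalence; its other direction always holds, so this row assumes only the implication.) -/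
theorem result (S : Scheme.{u}) [IsLocallyNoetherian S]
    {Z : Scheme.{u}} (i : Z ⟶ S) [IsClosedImmersion i]
    (h : ∀ (A : Type u) [CommRing A] [IsArtinianRing A] [IsLocalRing A] (g : Spec (CommRingCat.of A) ⟶ S),
      (∃ t : Spec (CommRingCat.of (IsLocalRing.ResidueField A)) ⟶ Z,
          t ≫ i = Spec.map (CommRingCat.ofHom (IsLocalRing.residue A)) ≫ g) →
        ∃ g' : Spec (CommRingCat.of A) ⟶ Z, g' ≫ i = g) :
    IsOpenImmersion i := by
  open AlgebraicGeometry in
  haveI : LocallyOfFinitePresentation i :=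
    LocallyOfFinitePresentation.iff_locallyOfFiniteType.mpr inferInstance
  haveI : Flat i := by
    rw [Flat.iff_flat_stalkMap]
    intro z
    exact RingHom.Flat.of_bijective ⟨stalkMap_injective S i h z, i.stalkMap_surjective z⟩
  exact IsOpenImmersion.of_flat_of_mono i

end Groth.Agent.S14614
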