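import Groth.Statements.S14615
-- import your own Groth.Agent.* helpers here

set_option autoImplicit false
universe u
open Formal2

namespace Groth.Agent.S14615

section aux
variable (G : ℕ → Type u) [∀ n, AddCommGroup (G n)] (t : ∀ n, G (n + 1) →+ G n)

/-- The shift operator on sequences. -/
def sig : (∀ n, G n) →+ (∀ n, G n) where
  toFun x := fun n => t n (x (n + 1))
  map_zero' := by ext n; simp
  map_add' x y := by ext n; simp

lemma towerDiff_apply (x : ∀ n, G n) (n : ℕ) :
    towerDiff G t x n = x n - sig G t x n := rfl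

lemma vanish (i j : ℕ) (hij : i ≤ j)
    (h : ∀ x : ∀ n, G n, (∀ n, i ≤ n → n < j → x n = t n (x (n + 1))) → x i = 0)
    (y : ∀ n, G n) (k : ℕ) (hk : j - i ≤ k) : ((sig G t)^[k] y) i = 0 := by
  have := h (fun n => if n ≤ k + i then ((sig G t)^[k + i - n] y) n else 0) (by
    intro n hin hnj
    have h1 : n ≤ k + i := by omega
    have h2 : n + 1 ≤ k + i := by omega
    simp only [h1, h2, if_true]
    have h3 : k + i - n = (k + i - (n + 1)) + 1 := by omega
    rw [h3, Function.iterate_succ_apply']
    rfl)
  simpa using this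

end aux

/-- Let … → G_2 → G_1 → G_0 be an inverse system of abelian groups with transition maps t_n : G_{n+1} →
G_n, and suppose that for every i there is j ≥ i such that the composite transition map G_j → G_i is
zero; this is expressed by asking that every sequence (x_n) ∈ ∏ G_n satisfying x_n = t_n(x_{n+1})
for i ≤ n < j has x_i = 0. Then both lim G_n and lim¹ G_n vanish: the map (x_n) ↦ (x_n −
t_n(x_{n+1})) on ∏ G_n, whose kernel is lim and whose cokernel is lim¹, is injective and surjective. -/
theorem result (G : ℕ → Type u)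
    [∀ n, AddCommGroup (G n)] (t : ∀ n, G (n + 1) →+ G n)
    (h : ∀ i : ℕ, ∃ j : ℕ, i ≤ j ∧
      ∀ x : ∀ n, G n, (∀ n, i ≤ n → n < j → x n = t n (x (n + 1))) → x i = 0) :
    Formal2.limZero G t = ⊥ ∧ Function.Surjective (Formal2.towerDiff G t) := by
  constructor
  · rw [eq_bot_iff]
    intro x hx
    rw [AddMonoidHom.mem_ker] at hx
    rw [AddSubgroup.mem_bot]
    ext i
    obtain ⟨j, hij, hj⟩ := h i
    apply hj
    intro n _ _
    have := congrFun hx n
    rw [towerDiff_apply] at this
    exact sub_eq_zero.mp this
  · intro y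
    choose j hj using h
    have hv : ∀ (i k : ℕ), j i - i ≤ k → ((sig G t)^[k] y) i = 0 :=
      fun i k hk => vanish G t i (j i) (hj i).1 (hj i).2 y k hk
    refine ⟨fun n => ∑ k ∈ Finset.range (j n - n), ((sig G t)^[k] y) n, ?_⟩
    ext n
    rw [towerDiff_apply]
    set L := max (j n - n) (j (n + 1) - (n + 1) + 1) with hL
    have e1 : ∑ k ∈ Finset.range (j n - n), ((sig G t)^[k] y) n =
        ∑ k ∈ Finset.range L, ((sig G t)^[k] y) n := by
      apply Finset.sum_subset (Finset.range_mono (le_max_left _ _))
      intro k _ hk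
      exact hv n k (by simpa using hk)
    have e2 : sig G t (fun n => ∑ k ∈ Finset.range (j n - n), ((sig G t)^[k] y) n) n =
        ∑ k ∈ Finset.range (L - 1), ((sig G t)^[k + 1] y) n := by
      change t n (∑ k ∈ Finset.range (j (n + 1) - (n + 1)), ((sig G t)^[k] y) (n + 1)) = _
      rw [map_sum]
      have : ∀ k, t n (((sig G t)^[k] y) (n + 1)) = ((sig G t)^[k + 1] y) n := by
        intro k
        rw [Function.iterate_succ_apply']
        rfl
      simp_rw [this]
      apply Finset.sum_subset (Finset.range_mono (by omega))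
      intro k _ hk
      rw [← this, hv (n + 1) k (by simpa using hk), map_zero]
    have hL1 : L = (L - 1) + 1 := by omega
    rw [e1, e2]
    conv_lhs => rw [hL1, Finset.sum_range_succ']
    simp

end Groth.Agent.S14615
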