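import Groth.Statements.S14616
import Groth.Agent.S14615
import Mathlib.GroupTheory.QuotientGroup.Basic
import Mathlib.Tactic.Abel

set_option autoImplicit false
universe u
open Formal2

namespace Groth.Agent.S14616

open CategoryTheory

/-- Towers with surjective transition maps have vanishing `lim¹`. -/
theorem surj_tower (G : ℕ → Type u) [∀ n, AddCommGroup (G n)] (t : ∀ n, G (n + 1) →+ G n)
    (ht : ∀ n, Function.Surjective (t n)) : Function.Surjective (Formal2.towerDiff G t) := by
  intro y
  choose s hs using ht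
  let x : ∀ n, G n := fun n => Nat.rec (motive := fun n => G n) 0 (fun n xn => s n (xn - y n)) n
  refine ⟨x, ?_⟩
  ext n
  change x n - t n (x (n + 1)) = y n
  have : x (n + 1) = s n (x n - y n) := rfl
  rw [this, hs]
  abel

/-- The five-lemma-like step: if `lim¹` of sub and quotient towers vanish then so does that of the
middle tower. -/
theorem middle {A' A A'' : Type u} [AddCommGroup A'] [AddCommGroup A] [AddCommGroup A'']
    (U : A' →+ A) (V : A →+ A'') (d' : A' →+ A') (d : A →+ A) (d'' : A'' →+ A'')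
    (hV : Function.Surjective V) (hex : ∀ y, V y = 0 → ∃ a, U a = y)
    (hdU : ∀ x, d (U x) = U (d' x)) (hdV : ∀ x, d'' (V x) = V (d x))
    (h' : Function.Surjective d') (h'' : Function.Surjective d'') : Function.Surjective d := by
  intro y
  obtain ⟨x'', hx''⟩ := h'' (V y)
  obtain ⟨x, rfl⟩ := hV x''
  obtain ⟨w, hw⟩ := hex (y - d x) (by rw [map_sub, ← hdV, hx'', sub_self])
  obtain ⟨w', rfl⟩ := h' w
  refine ⟨x + U w', ?_⟩
  rw [map_add, hdU, hw]
  abel

open CategoryTheory in
/-- Let … → G_2 → G_1 → G_0 be an inverse system of abelian groups with transition maps t_n : G_{n+1} →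
G_n which satisfies the Mittag-Leffler condition: for every i there is j ≥ i such that for all k ≥ j
the images of G_k → G_i and G_j → G_i coincide. Then lim¹ G_n = 0, i.e. the map (x_n) ↦ (x_n −
t_n(x_{n+1})) on ∏ G_n is surjective. -/
theorem result (G : ℕ → Type u) [∀ n, AddCommGroup (G n)]
    (t : ∀ n, G (n + 1) →+ G n)
    (h : (Functor.ofOpSequence (X := fun n => AddCommGrpCat.of (G n))
      (fun n => AddCommGrpCat.ofHom (t n)) ⋙ forget AddCommGrpCat).IsMittagLeffler) :
    Function.Surjective (Formal2.towerDiff G t) := by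
  classical
  let F : ℕᵒᵖ ⥤ AddCommGrpCat.{u} := Functor.ofOpSequence (X := fun n => AddCommGrpCat.of (G n))
    (fun n => AddCommGrpCat.ofHom (t n))
  let T : ∀ {n m : ℕ}, n ≤ m → (G m →+ G n) := fun {n m} hnm => (F.map (homOfLE hnm).op).hom
  have hT_id : ∀ (n : ℕ) (x : G n), T (le_refl n) x = x := by
    intro n x
    have h1 : F.map (homOfLE (le_refl n)).op = 𝟙 _ := by
      rw [show (homOfLE (le_refl n)).op = 𝟙 (Opposite.op n) from Subsingleton.elim _ _]
      exact F.map_id _
    simp only [T, h1]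
    rfl
  have hT_comp : ∀ {n m l : ℕ} (h₁ : n ≤ m) (h₂ : m ≤ l) (x : G l),
      T h₁ (T h₂ x) = T (h₁.trans h₂) x := by
    intro n m l h₁ h₂ x
    have h1 : F.map (homOfLE (h₁.trans h₂)).op =
        F.map (homOfLE h₂).op ≫ F.map (homOfLE h₁).op := by
      rw [← F.map_comp]
      congr 1
    simp only [T, h1]
    rfl
  have hT_succ : ∀ (n : ℕ) (x : G (n + 1)), T (Nat.le_succ n) x = t n x := by
    intro n x
    have h1 := Functor.ofOpSequence_map_homOfLE_succ
      (X := fun n => AddCommGrpCat.of (G n)) (fun n => AddCommGrpCat.ofHom (t n)) n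
    simp only [T, F]
    rw [h1]
    rfl
  have hML : ∀ n : ℕ, ∃ m : ℕ, ∃ hnm : n ≤ m, ∀ (k : ℕ) (hnk : n ≤ k) (x : G m),
      ∃ y : G k, T hnk y = T hnm x := by
    intro n
    obtain ⟨i, f, hf⟩ := h (Opposite.op n)
    refine ⟨i.unop, leOfHom f.unop, fun k hnk x => ?_⟩
    have h1 := hf (homOfLE hnk).op
    have hfeq : f = (homOfLE (leOfHom f.unop)).op := Subsingleton.elim _ _
    have h2 : (T (leOfHom f.unop) x) ∈
        Set.range ((F ⋙ forget AddCommGrpCat).map f) := by
      refine ⟨x, ?_⟩
      rw [hfeq]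
      rfl
    obtain ⟨y, hy⟩ := h1 h2
    exact ⟨y, hy⟩
  choose m hm hstab using hML
  let G' : ∀ n, AddSubgroup (G n) := fun n => (T (hm n)).range
  have hG'le : ∀ (n k : ℕ) (hnk : n ≤ k), G' n ≤ (T hnk).range := by
    rintro n k hnk _ ⟨x, rfl⟩
    obtain ⟨y, hy⟩ := hstab n k hnk x
    exact ⟨y, hy⟩
  have hTmem : ∀ (n k : ℕ) (hnk : n ≤ k) (hmk : m n ≤ k) (z : G k), T hnk z ∈ G' n := by
    intro n k hnk hmk z
    have : T hnk z = T (hm n) (T hmk z) := by rw [hT_comp]
    rw [this]
    exact ⟨_, rfl⟩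
  have hmaps : ∀ (n : ℕ) (x : G (n + 1)), x ∈ G' (n + 1) → t n x ∈ G' n := by
    intro n x hx
    obtain ⟨z, rfl⟩ := hG'le (n + 1) (max (m n) (n + 1)) (le_max_right _ _) hx
    rw [← hT_succ, hT_comp]
    exact hTmem n _ _ (le_max_left _ _) z
  have hsurj' : ∀ (n : ℕ) (y : G n), y ∈ G' n → ∃ x ∈ G' (n + 1), t n x = y := by
    intro n y hy
    obtain ⟨z, rfl⟩ := hG'le n (max (m (n + 1)) (n + 1))
      ((Nat.le_succ n).trans (le_max_right _ _)) hy
    refine ⟨T (le_max_right (m (n + 1)) (n + 1)) z, hTmem (n + 1) _ _ (le_max_left _ _) z, ?_⟩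
    rw [← hT_succ, hT_comp]
  -- the sub and quotient towers
  let t' : ∀ n, G' (n + 1) →+ G' n := fun n =>
    AddMonoidHom.codRestrict ((t n).comp (G' (n + 1)).subtype) (G' n) (fun x => hmaps n x x.2)
  let t'' : ∀ n, (G (n + 1) ⧸ G' (n + 1)) →+ (G n ⧸ G' n) := fun n =>
    QuotientAddGroup.map (G' (n + 1)) (G' n) (t n) (fun x hx => hmaps n x hx)
  have h' : Function.Surjective (Formal2.towerDiff (fun n => G' n) t') := by
    apply surj_tower
    intro n y
    obtain ⟨x, hx, hxy⟩ := hsurj' n y y.2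
    exact ⟨⟨x, hx⟩, Subtype.ext hxy⟩
  have h'' : Function.Surjective (Formal2.towerDiff (fun n => G n ⧸ G' n) t'') := by
    refine (Groth.Agent.S14615.result (fun n => G n ⧸ G' n) t'' ?_).2
    intro i
    refine ⟨i + m i, Nat.le_add_right _ _, fun x hx => ?_⟩
    have claim : ∀ d : ℕ, i + d ≤ i + m i → ∀ z : G (i + d),
        x (i + d) = QuotientAddGroup.mk z →
        x i = QuotientAddGroup.mk (T (Nat.le_add_right i d) z) := by
      intro d
      induction d with
      | zero =>
        intro _ z hz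
        rw [hT_id]
        exact hz
      | succ d ih =>
        intro hd z hz
        have h1 : x (i + d) = t'' (i + d) (x (i + d + 1)) :=
          hx (i + d) (Nat.le_add_right _ _) (by omega)
        have h2 : x (i + d) = QuotientAddGroup.mk (t (i + d) z) := by
          rw [h1]
          change t'' (i + d) (x (i + (d + 1))) = _
          rw [hz]
          rfl
        have h3 := ih (by omega) (t (i + d) z) h2
        rw [h3, ← hT_succ, hT_comp]
    obtain ⟨z, hz⟩ := QuotientAddGroup.mk_surjective (x (i + m i))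
    rw [claim (m i) le_rfl z hz.symm, QuotientAddGroup.eq_zero_iff]
    exact hTmem i _ _ (Nat.le_add_left _ _) z
  -- assemble
  let U : (∀ n, G' n) →+ (∀ n, G n) :=
    { toFun := fun x n => (x n : G n)
      map_zero' := by ext n; simp
      map_add' := fun x y => by ext n; simp }
  let V : (∀ n, G n) →+ (∀ n, G n ⧸ G' n) :=
    { toFun := fun x n => QuotientAddGroup.mk (x n)
      map_zero' := by ext n; simp
      map_add' := fun x y => by ext n; simp }
  refine middle U V _ _ _ ?_ ?_ ?_ ?_ h' h''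
  · intro z
    choose y hy using fun n => QuotientAddGroup.mk_surjective (z n)
    exact ⟨y, funext hy⟩
  · intro y hy
    have hy' : ∀ n, y n ∈ G' n := by
      intro n
      rw [← QuotientAddGroup.eq_zero_iff]
      exact congrFun hy n
    exact ⟨fun n => ⟨y n, hy' n⟩, rfl⟩
  · intro x
    rfl
  · intro x
    rfl

end Groth.Agent.S14616
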