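import Groth.Statements.S14617
import Mathlib.GroupTheory.QuotientGroup.Basic
import Mathlib.Tactic.Abel

set_option autoImplicit false
universe u
open Formal2

namespace Groth.Agent.S14617

/-- A concrete snake lemma for abelian groups. -/
theorem snake {A' A A'' : Type u} [AddCommGroup A'] [AddCommGroup A] [AddCommGroup A'']
    (U : A' →+ A) (V : A →+ A'') (d' : A' →+ A') (d : A →+ A) (d'' : A'' →+ A'')
    (hU : Function.Injective U) (hV : Function.Surjective V) (hex : V.ker = U.range)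
    (hdU : ∀ x, d (U x) = U (d' x)) (hdV : ∀ x, d'' (V x) = V (d x)) :
    ∃ (α : d'.ker →+ d.ker) (β : d.ker →+ d''.ker) (δ : d''.ker →+ A' ⧸ d'.range)
      (ε : A' ⧸ d'.range →+ A ⧸ d.range) (ζ : A ⧸ d.range →+ A'' ⧸ d''.range),
      (∀ x, (α x : A) = U x) ∧ (∀ x, (β x : A'') = V x) ∧
      (∀ (z : d''.ker) (y : A) (w : A'), V y = z → U w = d y →
        δ z = (QuotientAddGroup.mk w : A' ⧸ d'.range)) ∧
      (∀ y : A', ε (QuotientAddGroup.mk y : A' ⧸ d'.range) =
        (QuotientAddGroup.mk (U y) : A ⧸ d.range)) ∧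
      (∀ y : A, ζ (QuotientAddGroup.mk y : A ⧸ d.range) =
        (QuotientAddGroup.mk (V y) : A'' ⧸ d''.range)) ∧
      Function.Injective α ∧ α.range = β.ker ∧ β.range = δ.ker ∧ δ.range = ε.ker ∧
      ε.range = ζ.ker ∧ Function.Surjective ζ := by
  classical
  have hVU : ∀ a, V (U a) = 0 := by
    intro a
    have : U a ∈ V.ker := by rw [hex]; exact ⟨a, rfl⟩
    exact this
  have hker : ∀ y, V y = 0 → ∃ a, U a = y := by
    intro y hy
    have : y ∈ U.range := by rw [← hex]; exact hy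
    exact this
  let α : d'.ker →+ d.ker := (U.comp d'.ker.subtype).codRestrict d.ker (fun x => by
    rw [AddMonoidHom.mem_ker]
    simp only [AddMonoidHom.coe_comp, AddSubgroup.coe_subtype, Function.comp_apply]
    rw [hdU, (AddMonoidHom.mem_ker).1 x.2, map_zero])
  let β : d.ker →+ d''.ker := (V.comp d.ker.subtype).codRestrict d''.ker (fun x => by
    rw [AddMonoidHom.mem_ker]
    simp only [AddMonoidHom.coe_comp, AddSubgroup.coe_subtype, Function.comp_apply]
    rw [hdV, (AddMonoidHom.mem_ker).1 x.2, map_zero])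
  let ε : A' ⧸ d'.range →+ A ⧸ d.range := QuotientAddGroup.map _ _ U (by
    rintro _ ⟨a, rfl⟩
    exact ⟨U a, hdU a⟩)
  let ζ : A ⧸ d.range →+ A'' ⧸ d''.range := QuotientAddGroup.map _ _ V (by
    rintro _ ⟨a, rfl⟩
    exact ⟨V a, hdV a⟩)
  have hw : ∀ z : d''.ker, ∃ q : A × A', V q.1 = z ∧ U q.2 = d q.1 := by
    intro z
    obtain ⟨y, hy⟩ := hV z
    obtain ⟨w, hw⟩ := hker (d y) (by rw [← hdV, hy]; exact z.2)
    exact ⟨(y, w), hy, hw⟩
  choose pw hpw using hw
  have key : ∀ (y₁ y₂ : A) (w₁ w₂ : A'), V y₁ = V y₂ → U w₁ = d y₁ → U w₂ = d y₂ →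
      (QuotientAddGroup.mk w₁ : A' ⧸ d'.range) = QuotientAddGroup.mk w₂ := by
    intro y₁ y₂ w₁ w₂ hV' h₁ h₂
    obtain ⟨a, ha⟩ := hker (y₁ - y₂) (by rw [map_sub, hV', sub_self])
    rw [QuotientAddGroup.eq]
    refine ⟨-a, ?_⟩
    apply hU
    rw [← hdU, map_neg, ha, map_add, map_neg, map_neg, h₁, h₂, map_sub]
    abel
  let δ : d''.ker →+ A' ⧸ d'.range :=
    AddMonoidHom.mk' (fun z => (QuotientAddGroup.mk (pw z).2 : A' ⧸ d'.range)) (by
      intro z₁ z₂
      change _ = (QuotientAddGroup.mk ((pw z₁).2 + (pw z₂).2) : A' ⧸ d'.range)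
      apply key (pw (z₁ + z₂)).1 ((pw z₁).1 + (pw z₂).1)
      · rw [(hpw _).1, map_add, (hpw z₁).1, (hpw z₂).1]; rfl
      · exact (hpw _).2
      · rw [map_add, map_add, (hpw z₁).2, (hpw z₂).2])
  have hδ : ∀ (z : d''.ker) (y : A) (w : A'), V y = z → U w = d y →
      δ z = (QuotientAddGroup.mk w : A' ⧸ d'.range) := by
    intro z y w hy hw
    exact key (pw z).1 y (pw z).2 w (by rw [(hpw z).1, hy]) (hpw z).2 hw
  have hε : ∀ y : A', ε (QuotientAddGroup.mk y : A' ⧸ d'.range) =
      (QuotientAddGroup.mk (U y) : A ⧸ d.range) := fun y => rfl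
  have hζ : ∀ y : A, ζ (QuotientAddGroup.mk y : A ⧸ d.range) =
      (QuotientAddGroup.mk (V y) : A'' ⧸ d''.range) := fun y => rfl
  refine ⟨α, β, δ, ε, ζ, fun x => rfl, fun x => rfl, hδ, hε, hζ, ?_, ?_, ?_, ?_, ?_, ?_⟩
  · -- α injective
    intro x y hxy
    apply Subtype.ext
    apply hU
    exact congrArg Subtype.val hxy
  · -- α.range = β.ker
    ext x
    constructor
    · rintro ⟨a, rfl⟩
      rw [AddMonoidHom.mem_ker]
      apply Subtype.ext
      exact hVU a
    · intro hx
      rw [AddMonoidHom.mem_ker] at hx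
      have hx' : V x = 0 := congrArg Subtype.val hx
      obtain ⟨a, ha⟩ := hker x hx'
      have ha' : a ∈ d'.ker := by
        rw [AddMonoidHom.mem_ker]
        apply hU
        rw [← hdU, ha, map_zero]
        exact x.2
      exact ⟨⟨a, ha'⟩, Subtype.ext ha⟩
  · -- β.range = δ.ker
    ext z
    constructor
    · rintro ⟨x, rfl⟩
      rw [AddMonoidHom.mem_ker]
      rw [hδ (β x) x 0 rfl (by rw [map_zero]; exact ((AddMonoidHom.mem_ker).1 x.2).symm)]
      rfl
    · intro hz
      rw [AddMonoidHom.mem_ker] at hz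
      have h1 : (QuotientAddGroup.mk (pw z).2 : A' ⧸ d'.range) = 0 := hz
      rw [QuotientAddGroup.eq_zero_iff] at h1
      obtain ⟨a, ha⟩ := h1
      have hx : (pw z).1 - U a ∈ d.ker := by
        rw [AddMonoidHom.mem_ker, map_sub, hdU, ha, (hpw z).2, sub_self]
      refine ⟨⟨(pw z).1 - U a, hx⟩, ?_⟩
      apply Subtype.ext
      change V ((pw z).1 - U a) = z
      rw [map_sub, hVU, sub_zero, (hpw z).1]
  · -- δ.range = ε.ker
    ext c
    constructor
    · rintro ⟨z, rfl⟩
      rw [AddMonoidHom.mem_ker]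
      change ε (QuotientAddGroup.mk (pw z).2 : A' ⧸ d'.range) = 0
      rw [hε, QuotientAddGroup.eq_zero_iff, (hpw z).2]
      exact ⟨_, rfl⟩
    · intro hc
      obtain ⟨w, rfl⟩ := QuotientAddGroup.mk_surjective c
      rw [AddMonoidHom.mem_ker, hε, QuotientAddGroup.eq_zero_iff] at hc
      obtain ⟨y, hy⟩ := hc
      have hz : V y ∈ d''.ker := by
        rw [AddMonoidHom.mem_ker, hdV, hy, hVU]
      exact ⟨⟨V y, hz⟩, hδ ⟨V y, hz⟩ y w rfl hy.symm⟩
  · -- ε.range = ζ.ker
    ext c
    constructor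
    · rintro ⟨c', rfl⟩
      obtain ⟨w, rfl⟩ := QuotientAddGroup.mk_surjective c'
      rw [AddMonoidHom.mem_ker, hε, hζ, hVU]
      rfl
    · intro hc
      obtain ⟨y, rfl⟩ := QuotientAddGroup.mk_surjective c
      rw [AddMonoidHom.mem_ker, hζ, QuotientAddGroup.eq_zero_iff] at hc
      obtain ⟨z, hz⟩ := hc
      obtain ⟨y₀, rfl⟩ := hV z
      obtain ⟨w, hw⟩ := hker (y - d y₀) (by rw [map_sub, ← hdV, hz, sub_self])
      refine ⟨QuotientAddGroup.mk w, ?_⟩
      rw [hε, hw, QuotientAddGroup.eq]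
      exact ⟨y₀, by abel⟩
  · -- ζ surjective
    intro c
    obtain ⟨z, rfl⟩ := QuotientAddGroup.mk_surjective c
    obtain ⟨y, rfl⟩ := hV z
    exact ⟨QuotientAddGroup.mk y, rfl⟩

/-- Let 0 → (G'_n) → (G_n) → (G''_n) → 0 be a short exact sequence of inverse systems of abelian groups
indexed by ℕ: maps u_n : G'_n → G_n and v_n : G_n → G''_n commuting with the transition maps, with
u_n injective, v_n surjective and ker v_n = im u_n for every n. Writing lim and lim¹ for the kernel
and cokernel of (x_n) ↦ (x_n − t_n(x_{n+1})) on the product, there is an exact sequence 0 → lim G' →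
lim G → lim G'' → lim¹ G' → lim¹ G → lim¹ G'' → 0 in which the four outer maps are the ones induced
by u and v on products and the connecting map δ sends a compatible sequence (z_n) to the class of
the unique (w_n) with u_n(w_n) = y_n − t_n(y_{n+1}), for any levelwise lift (y_n) of (z_n). -/
theorem result (G' G G'' : ℕ → Type u)
    [∀ n, AddCommGroup (G' n)] [∀ n, AddCommGroup (G n)] [∀ n, AddCommGroup (G'' n)]
    (t' : ∀ n, G' (n + 1) →+ G' n) (t : ∀ n, G (n + 1) →+ G n) (t'' : ∀ n, G'' (n + 1) →+ G'' n)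
    (u : ∀ n, G' n →+ G n) (v : ∀ n, G n →+ G'' n)
    (hu : ∀ n x, t n (u (n + 1) x) = u n (t' n x)) (hv : ∀ n x, t'' n (v (n + 1) x) = v n (t n x))
    (hinj : ∀ n, Function.Injective (u n)) (hsurj : ∀ n, Function.Surjective (v n))
    (hex : ∀ n, (v n).ker = (u n).range) :
    ∃ (α : Formal2.limZero G' t' →+ Formal2.limZero G t) (β : Formal2.limZero G t →+ Formal2.limZero G'' t'')
      (δ : Formal2.limZero G'' t'' →+ Formal2.limOne G' t')
      (ε : Formal2.limOne G' t' →+ Formal2.limOne G t) (ζ : Formal2.limOne G t →+ Formal2.limOne G'' t''),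
      (∀ (x : Formal2.limZero G' t') (n : ℕ), (α x : ∀ n, G n) n = u n ((x : ∀ n, G' n) n)) ∧
      (∀ (x : Formal2.limZero G t) (n : ℕ), (β x : ∀ n, G'' n) n = v n ((x : ∀ n, G n) n)) ∧
      (∀ (z : Formal2.limZero G'' t'') (y : ∀ n, G n) (w : ∀ n, G' n),
          (∀ n, v n (y n) = (z : ∀ n, G'' n) n) → (∀ n, u n (w n) = Formal2.towerDiff G t y n) →
            δ z = (QuotientAddGroup.mk w : Formal2.limOne G' t')) ∧
      (∀ y : ∀ n, G' n, ε (QuotientAddGroup.mk y : Formal2.limOne G' t') =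
          (QuotientAddGroup.mk (fun n => u n (y n)) : Formal2.limOne G t)) ∧
      (∀ y : ∀ n, G n, ζ (QuotientAddGroup.mk y : Formal2.limOne G t) =
          (QuotientAddGroup.mk (fun n => v n (y n)) : Formal2.limOne G'' t'')) ∧
      Function.Injective α ∧ α.range = β.ker ∧ β.range = δ.ker ∧ δ.range = ε.ker ∧ ε.range = ζ.ker ∧
      Function.Surjective ζ := by
  let U : (∀ n, G' n) →+ (∀ n, G n) :=
    { toFun := fun x n => u n (x n)
      map_zero' := by ext n; simp
      map_add' := fun x y => by ext n; simp }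
  let V : (∀ n, G n) →+ (∀ n, G'' n) :=
    { toFun := fun x n => v n (x n)
      map_zero' := by ext n; simp
      map_add' := fun x y => by ext n; simp }
  have hU : Function.Injective U := by
    intro x y hxy
    ext n
    exact hinj n (congrFun hxy n)
  have hV : Function.Surjective V := by
    intro z
    choose y hy using fun n => hsurj n (z n)
    exact ⟨y, funext hy⟩
  have hexUV : V.ker = U.range := by
    ext y
    constructor
    · intro hy
      have hy' : ∀ n, y n ∈ (u n).range := by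
        intro n
        rw [← hex n, AddMonoidHom.mem_ker]
        exact congrFun hy n
      choose w hw using hy'
      exact ⟨w, funext hw⟩
    · rintro ⟨w, rfl⟩
      rw [AddMonoidHom.mem_ker]
      ext n
      have : u n (w n) ∈ (v n).ker := by rw [hex n]; exact ⟨w n, rfl⟩
      exact this
  have hdU : ∀ x, Formal2.towerDiff G t (U x) = U (Formal2.towerDiff G' t' x) := by
    intro x
    ext n
    change u n (x n) - t n (u (n + 1) (x (n + 1))) = u n (x n - t' n (x (n + 1)))
    rw [hu, map_sub]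
  have hdV : ∀ x, Formal2.towerDiff G'' t'' (V x) = V (Formal2.towerDiff G t x) := by
    intro x
    ext n
    change v n (x n) - t'' n (v (n + 1) (x (n + 1))) = v n (x n - t n (x (n + 1)))
    rw [hv, map_sub]
  obtain ⟨α, β, δ, ε, ζ, hα, hβ, hδ, hε, hζ, h1, h2, h3, h4, h5, h6⟩ :=
    snake U V (Formal2.towerDiff G' t') (Formal2.towerDiff G t) (Formal2.towerDiff G'' t'')
      hU hV hexUV hdU hdV
  refine ⟨α, β, δ, ε, ζ, ?_, ?_, ?_, ?_, ?_, h1, h2, h3, h4, h5, h6⟩
  · intro x n
    rw [hα x]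
    rfl
  · intro x n
    rw [hβ x]
    rfl
  · intro z y w hy hw
    exact hδ z y w (funext hy) (funext hw)
  · intro y
    exact hε y
  · intro y
    exact hζ y

end Groth.Agent.S14617
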