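import Groth.Statements.S14619
import Groth.Agent.Lib.FibreDictAffH44
import Groth.Agent.Lib.FibreTruncH44
import Groth.Agent.Lib.TFunAcyclic
import Groth.Agent.Lib.TFunUnit

set_option autoImplicit false
universe u
open Coherent

namespace Groth.Agent.S14619

open CategoryTheory in
/-- a zero module is finite and projective -/
theorem finite_projective_of_isZero {A : Type u} [CommRing A] (M : ModuleCat.{u} A)
    (h : Limits.IsZero M) : Module.Finite A M ∧ Module.Projective A M := by
  have : Subsingleton M := ModuleCat.subsingleton_of_isZero h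
  have : Finite M := Finite.of_subsingleton
  exact ⟨Module.Finite.of_finite, Module.Projective.of_free⟩

/-- additive equivalence between two trivial groups -/
def addEquivOfSubsingleton {G H : Type*} [AddCommGroup G] [AddCommGroup H] [Subsingleton G]
    [Subsingleton H] : G ≃+ H where
  toFun _ := 0
  invFun _ := 0
  left_inv _ := Subsingleton.elim _ _
  right_inv _ := Subsingleton.elim _ _
  map_add' _ _ := Subsingleton.elim _ _

/-- the zero complex -/
noncomputable def zeroCx (A : Type u) [CommRing A] : CochainComplex (ModuleCat.{u} A) ℤ :=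
  HomologicalComplex.zero

open CategoryTheory in
theorem isZero_zeroCx_X (A : Type u) [CommRing A] (i : ℤ) : Limits.IsZero ((zeroCx A).X i) :=
  (HomologicalComplex.eval (ModuleCat.{u} A) (ComplexShape.up ℤ) i).map_isZero
    HomologicalComplex.isZero_zero

open CategoryTheory CategoryTheory.Limits AlgebraicGeometry in
/-- Let A be a Noetherian ring, X a proper scheme over Spec A and F a coherent O_X-module flat over Spec
A. Suppose H^p(X, F) = 0 for all p > d and H^p(X_y, F|X_y) = 0 for every point y of Spec A and every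
p < d'. Then there is a cochain complex L of finitely generated projective A-modules, with L^i = 0
unless d' ≤ i ≤ d and with L = 0 when all H^p(X, F) vanish, such that for every A-algebra B and
every p the cohomology H^p(X ×_A Spec B, ξ^*F) of the pulled-back module is isomorphic to H^p(L ⊗_A
B). Only the existence of these isomorphisms of abelian groups is asserted (no naturality in B). -/
theorem result (A : Type u) [CommRing A] [IsNoetherianRing A] (X : Scheme.{u}) [X.Over (Spec (CommRingCat.of A))]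
    [IsProper (X ↘ Spec (CommRingCat.of A))] (F : X.Modules) (hF : Coh.IsCoh F)
    (hfl : FlatMod.IsFlatOver (X ↘ Spec (CommRingCat.of A)) F) (d' d : ℕ)
    (hd : ∀ p : ℕ, d < p → Subsingleton (Coh.HH X F p))
    (hd' : ∀ (y : ↑(Spec (CommRingCat.of A))) (p : ℕ), p < d' →
      Subsingleton (CohIII.fiberH (X ↘ Spec (CommRingCat.of A)) F y p)) :
    ∃ L : CochainComplex (ModuleCat.{u} A) ℤ,
      (∀ i, Module.Finite A (L.X i) ∧ Module.Projective A (L.X i)) ∧
      (∀ i : ℤ, i < (d' : ℤ) ∨ (d : ℤ) < i → IsZero (L.X i)) ∧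
      ((∀ p : ℕ, Subsingleton (Coh.HH X F p)) → ∀ i, IsZero (L.X i)) ∧
      ∀ (B : Type u) [CommRing B] [Algebra A B] (p : ℕ),
        Nonempty (Coh.HH (pullback (X ↘ Spec (CommRingCat.of A)) (Spec.map (CommRingCat.ofHom (algebraMap A B))))
            ((Scheme.Modules.pullback (pullback.fst (X ↘ Spec (CommRingCat.of A))
              (Spec.map (CommRingCat.ofHom (algebraMap A B))))).obj F) p ≃+
          CohIII.T L (p : ℤ) (ModuleCat.of A B)) := by
  classical
  obtain ⟨L, h1, ⟨b, hb⟩, h3, h4, h5, -, h7⟩ :=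
    Groth.Agent.Lib.FibreDictAffH44.exists_model_fibre A X F hF hfl
  have hflat : ∀ i, Module.Flat A (L.X i) := fun i => haveI := (h1 i).2; inferInstance
  have hfin : ∀ i, Module.Finite A (L.X i) := fun i => (h1 i).1
  have hFF : ∀ i, Groth.Agent.Lib.DRingPCoh21.FF A (L.X i) := fun i => h1 i
  -- (α) vanishing of `H^p(X, F)` gives vanishing of `H^p(L)`
  have hα : ∀ p : ℕ, Subsingleton (Coh.HH X F p) → IsZero (L.homology (p : ℤ)) := by
    intro p hp
    obtain ⟨e, -⟩ := h3 p (ModuleCat.of A A)
    let σ := Groth.Agent.Lib.BaseChangeCohH44.HHlinEquiv A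
      (Groth.Agent.Lib.TensorAModel2H44.tensorASelfIso A F) p
    have hs : Subsingleton ((CohIII.TFun L (p : ℤ)).obj (ModuleCat.of A A)) :=
      (σ.symm.toAddEquiv.trans e).symm.toEquiv.subsingleton
    exact (ModuleCat.isZero_of_subsingleton _).of_iso
      (Groth.Agent.Lib.TFunUnit.TUnitIso L (p : ℤ)).symm
  have hβ : ∀ i : ℤ, i < 0 → IsZero (L.homology i) := fun i hi =>
    (h4 i hi (ModuleCat.of A A)).of_iso (Groth.Agent.Lib.TFunUnit.TUnitIso L i).symm
  -- (γ) acyclicity above `d`
  have hγ : ∀ i : ℤ, (d : ℤ) < i → IsZero (L.homology i) := by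
    intro i hi
    obtain ⟨n, rfl⟩ := Int.eq_ofNat_of_zero_le (by omega : (0 : ℤ) ≤ i)
    exact hα n (hd n (by exact_mod_cast hi))
  have hδ := Groth.Agent.Lib.TFunAcyclic.isZero_TFun_obj_of_acyclic_above L hflat ⟨b, hb⟩ (d : ℤ) hγ
  -- (ε) the fibres of `L` at maximal ideals are exact outside `[d', d]`
  have hex : ∀ (m : Ideal A) [m.IsMaximal], ∀ i : ℤ, i < (d' : ℤ) ∨ (d : ℤ) < i →
      (Groth.Agent.Lib.FibreNakD21.bc m L).ExactAt i := by
    intro m hm i hi
    rcases hi with hi | hi
    · by_cases h0 : i < 0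
      · exact Groth.Agent.Lib.FibreTruncH44.exactAt_bc_of_isZero_TFun m L i (h4 i h0 _)
      · obtain ⟨n, rfl⟩ := Int.eq_ofNat_of_zero_le (by omega : (0 : ℤ) ≤ i)
        have hn : n < d' := by exact_mod_cast hi
        obtain ⟨y, hy⟩ : ∃ y : ↑(Spec (CommRingCat.of A)), y = (⟨m, hm.isPrime⟩ : PrimeSpectrum A) :=
          ⟨_, rfl⟩
        have hsub := hd' y n hn
        have hr : CohIII.fiberRank (X ↘ Spec (CommRingCat.of A)) F n y = 0 := by
          unfold CohIII.fiberRank
          exact Module.finrank_zero_of_subsingleton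
        rw [h7 y n, hy] at hr
        exact Groth.Agent.Lib.FibreTruncH44.exactAt_bc_of_dRank_eq_zero m L hfin (n : ℤ) hr
    · exact Groth.Agent.Lib.FibreTruncH44.exactAt_bc_of_isZero_TFun m L i (hδ i hi _)
  -- the comparison of the cohomology of a base change with `T_L`
  have hbc : ∀ (B : Type u) [CommRing B] [Algebra A B] (p : ℕ),
      Nonempty (Coh.HH (pullback (X ↘ Spec (CommRingCat.of A))
          (Spec.map (CommRingCat.ofHom (algebraMap A B))))
          ((Scheme.Modules.pullback (pullback.fst (X ↘ Spec (CommRingCat.of A))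
            (Spec.map (CommRingCat.ofHom (algebraMap A B))))).obj F) p ≃+
        CohIII.T L (p : ℤ) (ModuleCat.of A B)) := by
    intro B _ _ p
    letI : (pullback (X ↘ Spec (CommRingCat.of A))
        (Spec.map (CommRingCat.ofHom (algebraMap A B)))).Over (Spec (CommRingCat.of B)) :=
      ⟨pullback.snd _ _⟩
    obtain ⟨e1⟩ := h5 B (pullback (X ↘ Spec (CommRingCat.of A))
        (Spec.map (CommRingCat.ofHom (algebraMap A B))))
      (pullback.fst _ _) (IsPullback.of_hasPullback _ _) p
    let e2 := (Groth.Agent.Lib.TFunCompare.homologyCompare B L (p : ℤ)).toLinearEquiv.toAddEquiv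
    exact ⟨e1.toAddEquiv.trans e2⟩
  by_cases hall : ∀ p : ℕ, Subsingleton (Coh.HH X F p)
  · -- everything vanishes: take the zero complex
    have hacy : ∀ i : ℤ, (-1 : ℤ) < i → IsZero (L.homology i) := by
      intro i hi
      obtain ⟨n, rfl⟩ := Int.eq_ofNat_of_zero_le (by omega : (0 : ℤ) ≤ i)
      exact hα n (hall n)
    have hT := Groth.Agent.Lib.TFunAcyclic.isZero_TFun_obj_of_acyclic_above L hflat ⟨b, hb⟩ (-1) hacy
    have hz : ∀ i, IsZero ((zeroCx A).X i) := isZero_zeroCx_X A
    refine ⟨zeroCx A, fun i => finite_projective_of_isZero _ (hz i), fun i _ => hz i, fun _ i => hz i,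
      fun B _ _ p => ?_⟩
    obtain ⟨e⟩ := hbc B p
    have hs1 : Subsingleton (CohIII.T L (p : ℤ) (ModuleCat.of A B)) :=
      ModuleCat.subsingleton_of_isZero (hT (p : ℤ) (by omega) (ModuleCat.of A B))
    have := e.toEquiv.subsingleton
    have : Subsingleton (CohIII.T (zeroCx A) (p : ℤ) (ModuleCat.of A B)) :=
      ModuleCat.subsingleton_of_isZero
        (Groth.Agent.Lib.TFunUnit.isZero_TFun_obj_of_isZero (zeroCx A)
          (p : ℤ) (hz _) (ModuleCat.of A B))
    exact ⟨addEquivOfSubsingleton⟩
  · obtain ⟨E, hE1, hE2, hE3⟩ :=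
      Groth.Agent.Lib.FibreTruncH44.exists_fp_model L hFF b hb (d' : ℤ) (d : ℤ) hex
    refine ⟨E, hE1, hE2, fun h => absurd h hall, fun B _ _ p => ?_⟩
    obtain ⟨e⟩ := hbc B p
    obtain ⟨θ⟩ := hE3 (p : ℤ)
    exact ⟨e.trans (θ.symm.app (ModuleCat.of A B)).toLinearEquiv.toAddEquiv⟩

end Groth.Agent.S14619
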