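import Groth.Statements.S14622
import Groth.Agent.Lib.EtStalkPullGerm

set_option autoImplicit false
open CategoryTheory AlgebraicGeometry
universe u
open EtBase

namespace Groth.Agent.S14622

open Groth.Agent.Lib.EtGerm Groth.Agent.Lib.EtStalkConservative Groth.Agent.Lib.EtStalkPullGerm

/-- Let g : Y' → Y be a morphism of schemes which is surjective on points. Then for every abelian sheaf
F on the small étale site of Y the unit F → g_* g⁻¹ F of the adjunction between inverse image and
direct image is a monomorphism. -/
theorem result {Y Y' : Scheme.{u}} (g : Y' ⟶ Y) [Surjective g]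
    (F : EtCoh.Ab Y) : Mono ((EtCoh.pullPushAdj g).unit.app F) := by
  have hinj : ∀ U : Y.Etaleᵒᵖ,
      Function.Injective (((EtCoh.pullPushAdj g).unit.app F).hom.app U) := by
    intro U
    rw [injective_iff_map_eq_zero]
    intro σ hσ
    apply section_eq_zero_of_forall_germ
    intro u
    obtain ⟨x', hx'⟩ := (inferInstance : Surjective g).surj (U.unop.hom u)
    have hpt : U.unop.hom u = (stdPt x' ≫ g) default := by
      rw [← hx']
      exact (congrArg g (stdPt_default x')).symm
    obtain ⟨y, hy⟩ := exists_nbhd_of_pt (stdPt x' ≫ g) U.unop u hpt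
    refine ⟨_, inferInstance, inferInstance, stdPt x' ≫ g, y, hy, ?_⟩
    refine (germ_unit_eq_zero_iff g (stdPt x') F y σ).1 ?_
    have : ((EtCoh.pullPushAdj g).unit.app F).hom.app (Opposite.op U.unop) σ = 0 := hσ
    exact (congrArg (germ (stdPt x') ((EtCoh.pull g).obj F) (pullNbhd g (stdPt x') y)) this).trans
      (map_zero _)
  have : Presheaf.IsLocallyInjective Y.smallEtaleTopology ((EtCoh.pullPushAdj g).unit.app F).hom :=
    Presheaf.isLocallyInjective_of_injective _ _ hinj
  exact Sheaf.mono_of_isLocallyInjective _

end Groth.Agent.S14622
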