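import Groth.Statements.S14624
import Mathlib
import Groth.Agent.Lib.UHFPSysH52

set_option autoImplicit false
open CategoryTheory CategoryTheory.Limits
universe u
open Hensel

namespace Groth.Agent.S14624

open Groth.Agent.Lib.UHFPSysH52

theorem result' (A : Type u) [CommRing A]
    (m : Ideal A) (hm : m ≠ ⊤)
    (hAP : ∀ (k l c : ℕ) (f : Fin l → MvPolynomial (Fin k) A) (â : Fin k → AdicCompletion m A),
      (∀ i, MvPolynomial.aeval â (f i) = 0) →
      ∃ a : Fin k → A, (∀ i, MvPolynomial.eval a (f i) = 0) ∧
        ∀ j, Ideal.Quotient.mk (m ^ c) (a j) = AdicCompletion.evalₐ m c (â j))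
    (F : Under (CommRingCat.of A) ⥤ Type u)
    (hF : ∀ (J : Type u) [SmallCategory J] [IsFiltered J], PreservesColimitsOfShape J F)
    (c : ℕ)
    (π : Under.mk (CommRingCat.ofHom (algebraMap A (AdicCompletion m A))) ⟶
      Under.mk (CommRingCat.ofHom (algebraMap A (A ⧸ m ^ c))))
    (hπ : π.right = CommRingCat.ofHom
      (AdicCompletion.evalₐ m c : AdicCompletion m A →ₐ[A] A ⧸ m ^ c).toRingHom)
    (ρ : Under.mk (𝟙 (CommRingCat.of A)) ⟶ Under.mk (CommRingCat.ofHom (algebraMap A (A ⧸ m ^ c))))
    (ξ : F.obj (Under.mk (CommRingCat.ofHom (algebraMap A (AdicCompletion m A))))) :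
    ∃ η : F.obj (Under.mk (𝟙 (CommRingCat.of A))), F.map ρ η = F.map π ξ := by
  classical
  let Q : ∀ (C : Type u) [CommRing C], (A →+* C) → Prop := fun _ _ _ => True
  have hQ : Cofinal (A := A) (B := AdicCompletion m A) Q := by
    intro S₀ I₀ hfg hle
    exact ⟨⟨S₀, I₀, hfg, hle, trivial⟩, Finset.Subset.refl _, fun f hf => by
      rw [Ideal.mem_comap, ren_refl]; exact hf⟩
  obtain ⟨hfilt, ⟨hcolim⟩⟩ := exists_isColimit hQ
  haveI := hfilt
  haveI := hF (Idx A (AdicCompletion m A) Q)
  have hcolimF := isColimitOfPreserves F hcolim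
  obtain ⟨i, ξi, hξi⟩ := Types.jointly_surjective_of_isColimit hcolimF ξ
  -- finite data
  let e : i.S ≃ Fin i.S.card := i.S.equivFin
  obtain ⟨T, hT⟩ := i.fg
  let eT : T ≃ Fin T.card := T.equivFin
  let g : Fin T.card → MvPolynomial i.S A := fun j => ((eT.symm j : T) : MvPolynomial i.S A)
  let f : Fin T.card → MvPolynomial (Fin i.S.card) A := fun j => MvPolynomial.rename e (g j)
  let â : Fin i.S.card → AdicCompletion m A := fun j => ((e.symm j : i.S) : AdicCompletion m A)
  have hzero : ∀ j, MvPolynomial.aeval â (f j) = 0 := by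
    intro j
    simp only [f]
    rw [MvPolynomial.aeval_rename]
    have h1 : (â ∘ e) = fun s : i.S => (s : AdicCompletion m A) := by
      funext s
      simp [â]
    rw [h1]
    have h2 : g j ∈ i.I := by
      rw [← hT]
      exact Ideal.subset_span (eT.symm j).2
    exact i.le h2
  obtain ⟨a, ha0, hac⟩ := hAP i.S.card T.card c f â hzero
  -- the section
  have hker : i.I ≤ RingHom.ker (MvPolynomial.aeval (fun s : i.S => a (e s)) : MvPolynomial i.S A →ₐ[A] A) := by
    rw [← hT, Ideal.span_le]
    intro t ht
    rw [SetLike.mem_coe, RingHom.mem_ker]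
    have h1 := ha0 (eT ⟨t, ht⟩)
    simp only [f, g, Equiv.symm_apply_apply] at h1
    rw [MvPolynomial.eval_rename] at h1
    rw [← h1]
    rfl
  let σ : Cring i →ₐ[A] A := Ideal.Quotient.liftₐ i.I (MvPolynomial.aeval (fun s : i.S => a (e s)))
    (fun p hp => hker hp)
  let σ' : (diagram (A := A) (B := AdicCompletion m A) (Q := Q)).obj i ⟶
      Under.mk (𝟙 (CommRingCat.of A)) :=
    Under.homMk (CommRingCat.ofHom σ.toRingHom) (by
      ext r
      exact σ.commutes r)
  have hρ : ρ.right = CommRingCat.ofHom (algebraMap A (A ⧸ m ^ c)) := by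
    have := Under.w ρ
    simpa using this
  have hmor : σ' ≫ ρ = (cocone (A := A) (B := AdicCompletion m A) (Q := Q)).ι.app i ≫ π := by
    apply Under.UnderMorphism.ext
    apply CommRingCat.hom_ext
    apply Ideal.Quotient.ringHom_ext
    apply MvPolynomial.ringHom_ext
    · intro r
      change (Under.Hom.right ρ).hom (σ (Ideal.Quotient.mk i.I (MvPolynomial.C r))) =
        (Under.Hom.right π).hom (toB i (Ideal.Quotient.mk i.I (MvPolynomial.C r)))
      rw [hρ, hπ, toB_mk]
      change algebraMap A (A ⧸ m ^ c) (MvPolynomial.aeval (fun s : i.S => a (e s)) (MvPolynomial.C r)) =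
        AdicCompletion.evalₐ m c (ev A i.S (MvPolynomial.C r))
      unfold ev
      rw [MvPolynomial.aeval_C, MvPolynomial.aeval_C, AlgHom.commutes]
      rfl
    · intro s
      change (Under.Hom.right ρ).hom (σ (Ideal.Quotient.mk i.I (MvPolynomial.X s))) =
        (Under.Hom.right π).hom (toB i (Ideal.Quotient.mk i.I (MvPolynomial.X s)))
      rw [hρ, hπ, toB_mk]
      change algebraMap A (A ⧸ m ^ c) (MvPolynomial.aeval (fun s : i.S => a (e s)) (MvPolynomial.X s)) =
        AdicCompletion.evalₐ m c (ev A i.S (MvPolynomial.X s))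
      unfold ev
      rw [MvPolynomial.aeval_X, MvPolynomial.aeval_X]
      have := hac (e s)
      simp only [â, Equiv.symm_apply_apply] at this
      rw [← this]
      rfl
  refine ⟨F.map σ' ξi, ?_⟩
  rw [← hξi]
  have h3 : F.map ((cocone (A := A) (B := AdicCompletion m A) (Q := Q)).ι.app i ≫ π) =
      F.map ((cocone (A := A) (B := AdicCompletion m A) (Q := Q)).ι.app i) ≫ F.map π :=
    F.map_comp _ _
  have h4 : F.map (σ' ≫ ρ) = F.map σ' ≫ F.map ρ := F.map_comp _ _
  calc F.map ρ (F.map σ' ξi) = (F.map σ' ≫ F.map ρ) ξi := rfl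
    _ = F.map (σ' ≫ ρ) ξi := by rw [h4]
    _ = F.map ((cocone (A := A) (B := AdicCompletion m A) (Q := Q)).ι.app i ≫ π) ξi := by
        rw [hmor]
    _ = (F.map ((cocone (A := A) (B := AdicCompletion m A) (Q := Q)).ι.app i) ≫ F.map π) ξi := by
        rw [h3]
    _ = _ := rfl


/-- Let A be a commutative ring, m a proper ideal of A and Â the m-adic completion. Assume the
approximation property for polynomial systems: whenever finitely many polynomials over A in finitely
many variables have a common zero â in Â, then for every c there is a common zero a in A which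
agrees with â in A/m^c. Let F be a functor from A-algebras (commutative rings under A) to sets which
preserves filtered colimits, c a natural number and ξ ∈ F(Â). Then there is η ∈ F(A) whose image in
F(A/m^c) equals the image of ξ; here π is the A-algebra map Â → A/m^c (pinned by its underlying ring
map) and ρ the A-algebra map A → A/m^c. (The published statement takes for A the henselization at a
prime ideal of an algebra of finite type over a field or over an excellent discrete valuation ring,
for which the approximation property of polynomial systems is quoted; this row carries that property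
as a hypothesis and draws the published conclusion for functors.) -/
theorem result (A : Type u) [CommRing A]
    (m : Ideal A) (hm : m ≠ ⊤)
    (hAP : ∀ (k l c : ℕ) (f : Fin l → MvPolynomial (Fin k) A) (â : Fin k → AdicCompletion m A),
      (∀ i, MvPolynomial.aeval â (f i) = 0) →
      ∃ a : Fin k → A, (∀ i, MvPolynomial.eval a (f i) = 0) ∧
        ∀ j, Ideal.Quotient.mk (m ^ c) (a j) = AdicCompletion.evalₐ m c (â j))
    (F : Under (CommRingCat.of A) ⥤ Type u)
    (hF : ∀ (J : Type u) [SmallCategory J] [IsFiltered J], PreservesColimitsOfShape J F)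
    (c : ℕ)
    (π : Under.mk (CommRingCat.ofHom (algebraMap A (AdicCompletion m A))) ⟶
      Under.mk (CommRingCat.ofHom (algebraMap A (A ⧸ m ^ c))))
    (hπ : π.right = CommRingCat.ofHom
      (AdicCompletion.evalₐ m c : AdicCompletion m A →ₐ[A] A ⧸ m ^ c).toRingHom)
    (ρ : Under.mk (𝟙 (CommRingCat.of A)) ⟶ Under.mk (CommRingCat.ofHom (algebraMap A (A ⧸ m ^ c))))
    (ξ : F.obj (Under.mk (CommRingCat.ofHom (algebraMap A (AdicCompletion m A))))) :
    ∃ η : F.obj (Under.mk (𝟙 (CommRingCat.of A))), F.map ρ η = F.map π ξ := by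
  exact result' A m hm hAP F hF c π hπ ρ ξ

end Groth.Agent.S14624
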