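import Groth.Statements.S14625
import Groth.Agent.Lib.EtMuConst

set_option autoImplicit false
open CategoryTheory AlgebraicGeometry
universe u
open EtBase

namespace Groth.Agent.S14625

open Polynomial in
/-- a strictly henselian local ring in which `n ≥ 1` is invertible contains a root of the `n`-th
cyclotomic polynomial -/
lemma exists_cyclotomic_root (A : Type u) [CommRing A] [HenselianLocalRing A]
    [IsSepClosed (IsLocalRing.ResidueField A)] (n : ℕ) (hn : 1 ≤ n) (hu : IsUnit (n : A)) :
    ∃ ζ : A, aeval ζ (cyclotomic n ℤ) = 0 := by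
  let k := IsLocalRing.ResidueField A
  have hnk : (n : k) ≠ 0 := by
    have := hu.map (IsLocalRing.residue A)
    rw [map_natCast] at this
    exact this.ne_zero
  have : NeZero (n : k) := ⟨hnk⟩
  have hsep : (cyclotomic n k).Separable := separable_cyclotomic n k
  have hdeg : (cyclotomic n k).degree ≠ 0 := (degree_cyclotomic_pos n k (by omega)).ne'
  obtain ⟨a₀bar, ha₀bar⟩ := IsSepClosed.exists_root (cyclotomic n k) hdeg hsep
  obtain ⟨a₀, rfl⟩ := IsLocalRing.residue_surjective a₀bar
  -- evaluation commutes with the residue map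
  have key : ∀ p : ℤ[X], IsLocalRing.residue A ((p.map (Int.castRingHom A)).eval a₀) =
      (p.map (Int.castRingHom k)).eval (IsLocalRing.residue A a₀) := by
    intro p
    rw [Polynomial.eval_map, Polynomial.eval_map, hom_eval₂]
    congr 1
  have hmonic : (cyclotomic n A).Monic := cyclotomic.monic n A
  have h1 : (cyclotomic n A).eval a₀ ∈ IsLocalRing.maximalIdeal A := by
    rw [← IsLocalRing.residue_eq_zero_iff, ← map_cyclotomic_int n A, key, map_cyclotomic_int]
    exact ha₀bar
  have h2 : IsUnit ((cyclotomic n A).derivative.eval a₀) := by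
    rw [← isUnit_map_iff (IsLocalRing.residue A), ← map_cyclotomic_int n A, derivative_map, key,
      ← derivative_map, map_cyclotomic_int]
    obtain ⟨a, b, hab⟩ := hsep
    have := congrArg (eval (IsLocalRing.residue A a₀)) hab
    rw [eval_add, eval_mul, eval_mul, IsRoot.def.1 ha₀bar, mul_zero, zero_add, eval_one] at this
    exact IsUnit.of_mul_eq_one _ (by rw [mul_comm]; exact this)
  obtain ⟨ζ, hζ, -⟩ := HenselianLocalRing.is_henselian _ hmonic a₀ h1 h2
  refine ⟨ζ, ?_⟩
  rw [aeval_def, ← Polynomial.eval_map]
  have : algebraMap ℤ A = Int.castRingHom A := Subsingleton.elim _ _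
  rw [this, map_cyclotomic_int]
  exact hζ

/-- Let A be a strictly henselian local ring, n ≥ 1 an integer invertible in A, and X a scheme over Spec
A. Then the étale sheaf μ_n of n-th roots of unity on X is isomorphic to the constant sheaf with
value ℤ/n. Only the existence of an isomorphism is asserted; it depends on the choice of a primitive
n-th root of unity in A. -/
theorem result (A : Type u) [CommRing A]
    (hA : EtCoh.IsStrictlyHenselianLocalRing A) (n : ℕ) (hn : 1 ≤ n) (hu : IsUnit (n : A))
    (X : Scheme.{u}) (f : X ⟶ Spec (CommRingCat.of A)) :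
    Nonempty (EtCoh.mu X n ≅ EtCoh.const X (ZMod n)) := by
  obtain ⟨hH, hS⟩ := hA
  obtain ⟨ζ, hζ⟩ := exists_cyclotomic_root A n hn hu
  let φ : A →+* Γ(X, ⊤) := f.appTop.hom.comp (Scheme.ΓSpecIso (CommRingCat.of A)).inv.hom
  have hunit : IsUnit (n : Γ(X, ⊤)) := by
    have := hu.map φ
    rwa [map_natCast] at this
  have hφζ : Polynomial.aeval (φ ζ) (Polynomial.cyclotomic n ℤ) = 0 := by
    have h := congrArg φ hζ
    rw [map_zero, Polynomial.aeval_def, Polynomial.hom_eval₂] at h
    rw [Polynomial.aeval_def]
    have h5 : algebraMap ℤ Γ(X, ⊤) = φ.comp (algebraMap ℤ A) := Subsingleton.elim _ _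
    rw [h5]
    exact h
  exact Groth.Agent.Lib.EtMuConst.nonempty_mu_iso_const X n hn hunit (φ ζ) hφζ

end Groth.Agent.S14625
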