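import Groth.Statements.S14631
import Mathlib.AlgebraicGeometry.Morphisms.QuasiSeparated
import Mathlib.AlgebraicGeometry.Morphisms.Etale

set_option autoImplicit false
open CategoryTheory AlgebraicGeometry
universe u
open EtBase

namespace Groth.Agent.S14631

/-- Let X be a quasi-separated scheme and U an étale X-scheme. Then there is a jointly surjective family
of étale U-schemes each of which is quasi-compact and quasi-separated, hence of finite presentation,
over X. (Sheaves on the small étale site are therefore determined by their values on étale X-schemes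
of finite presentation; that equivalence is not stated here.) -/
theorem result (X : Scheme.{u})
    [QuasiSeparatedSpace ↥X] (U : X.Etale) :
    ∃ (ι : Type u) (V : ι → Over U), (∀ i, QuasiCompact (V i).left.hom ∧ QuasiSeparated (V i).left.hom) ∧
      ∀ x : ↥(U.left), ∃ (i : ι) (y : ↥((V i).left.left)), (V i).hom.left.base y = x := by
  let 𝒰 := U.left.affineCover
  have hU : Etale U.hom := U.prop
  let W : 𝒰.I₀ → X.Etale := fun i => Scheme.Etale.mk (𝒰.f i ≫ U.hom)
  let φ : ∀ i, W i ⟶ U := fun i => MorphismProperty.Over.homMk (𝒰.f i) rfl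
  refine ⟨𝒰.I₀, fun i => Over.mk (φ i), fun i => ⟨?_, ?_⟩, fun x => ?_⟩
  · change QuasiCompact (𝒰.f i ≫ U.hom)
    have : CompactSpace ↥(𝒰.X i) := by dsimp [𝒰]; infer_instance
    exact @quasiCompact_of_compactSpace (𝒰.X i) X (𝒰.f i ≫ U.hom) inferInstance inferInstance
  · change QuasiSeparated (𝒰.f i ≫ U.hom)
    have : QuasiSeparatedSpace ↥(𝒰.X i) := by dsimp [𝒰]; infer_instance
    exact @QuasiSeparated.of_quasiSeparatedSpace (𝒰.X i) X (𝒰.f i ≫ U.hom) inferInstance
  · obtain ⟨i, y, hy⟩ := 𝒰.exists_eq x
    exact ⟨i, y, hy⟩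

end Groth.Agent.S14631
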