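import Groth.Statements.S14637
import Groth.Agent.Lib.GmLaw38b

set_option autoImplicit false
universe u
open CategoryTheory MonoidalCategory CartesianMonoidalCategory MonObj GrpObj AlgebraicGeometry CategoryTheory.Limits
open AlgGrp

namespace Groth.Agent.S14637

/-- Over a field k, the only structure of algebraic group on the punctured affine line Spec k[T, T⁻¹]
with unit element the point T = 1 is the multiplicative group. Precisely: let G be a k-group scheme
and e an isomorphism of k-schemes from the underlying scheme of G to Spec k[T, T⁻¹] under which the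
unit section has T-coordinate 1; then for every k-scheme S and all S-valued points g, h of G, the
T-coordinate of g · h (the pull-back of the global function T along the point composed with e) is
the product of the T-coordinates of g and of h. -/
theorem result (k : Type u) [Field k]
    (G : Over (Spec (CommRingCat.of k))) [GrpObj G]
    (e : G.left ≅ Spec (CommRingCat.of (LaurentPolynomial k)))
    (he : e.hom ≫ Spec.map (CommRingCat.ofHom (algebraMap k (LaurentPolynomial k))) = G.hom)
    (hunit : ((η[G]).left ≫ e.hom).appTop.hom ((Scheme.ΓSpecIso (CommRingCat.of (LaurentPolynomial k))).inv.hom (LaurentPolynomial.T 1)) = 1)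
    (S : Over (Spec (CommRingCat.of k))) (g h : S ⟶ G) :
    ((g * h).left ≫ e.hom).appTop.hom ((Scheme.ΓSpecIso (CommRingCat.of (LaurentPolynomial k))).inv.hom (LaurentPolynomial.T 1)) =
      (g.left ≫ e.hom).appTop.hom ((Scheme.ΓSpecIso (CommRingCat.of (LaurentPolynomial k))).inv.hom (LaurentPolynomial.T 1)) * (h.left ≫ e.hom).appTop.hom ((Scheme.ΓSpecIso (CommRingCat.of (LaurentPolynomial k))).inv.hom (LaurentPolynomial.T 1)) := by
  let E : G ≅ Groth.Agent.Lib.UnivPt38.specOver k (LaurentPolynomial k) := Over.isoMk e he
  have h0 := Groth.Agent.Lib.GmLaw38.laurent_law E g h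
  have h1 : (Groth.Agent.Lib.GmLaw38.laurentCoord E).fn (1 : S ⟶ G) = 1 := by
    have h2 : (1 : S ⟶ G) = toUnit S ≫ η[G] := rfl
    rw [h2, (Groth.Agent.Lib.GmLaw38.laurentCoord E).fn_comp]
    have h3 : (Groth.Agent.Lib.GmLaw38.laurentCoord E).fn η[G] = 1 := hunit
    rw [h3, map_one]
  rw [h1, _root_.mul_one] at h0
  exact h0

end Groth.Agent.S14637
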