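import Mathlib
import Groth.Statements.S14639

set_option autoImplicit false
universe u
open Polynomial
open AlgGrp

namespace Groth.Agent.S14639

section Helpers

theorem step {k R : Type*} [Field k] [CharZero k] [CommRing R] [Algebra k R]
    (u v : R) (ε : R →ₐ[k] k) (hεu : ε u = 0)
    (hdec : ∀ x : R, ∃ s, x = algebraMap k R (ε x) + u * s)
    (σ : R →ₐ[k] R) (hv : v * (1 + u) = 1) (hσu : σ u = u * v) (hεσ : ∀ x, ε (σ x) = ε x)
    (j : ℕ) (hj : 1 ≤ j) (g h : R) (hg : g = u ^ j * h) (hh : ε h ≠ 0) :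
    ∃ h', σ g - g = u ^ (j + 1) * h' ∧ ε h' ≠ 0 := by
  obtain ⟨s, hs⟩ := hdec h
  set c := ε h with hc
  have hεv : ε v = 1 := by
    have := congrArg ε hv
    simpa [hεu] using this
  have hv1 : v - 1 = - (u * v) := by
    have : v + v * u = 1 := by rw [← hv]; ring
    linear_combination this
  have hvj : v ^ j - 1 = (∑ i ∈ Finset.range j, v ^ i) * (- (u * v)) := by
    rw [← hv1, geom_sum_mul]
  have hε0 : ε (v ^ (j + 1) * σ s - s) = 0 := by
    simp [hεv, hεσ]
  obtain ⟨t, ht⟩ := hdec (v ^ (j + 1) * σ s - s)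
  rw [hε0, map_zero, zero_add] at ht
  refine ⟨- (algebraMap k R c * v * ∑ i ∈ Finset.range j, v ^ i) + u * t, ?_, ?_⟩
  · have hσg : σ g = (u * v) ^ j * (algebraMap k R c + u * v * σ s) := by
      rw [hg, hs]
      simp [hσu]
    rw [hσg]
    have e1 : (u * v) ^ j * (algebraMap k R c + u * v * σ s) - g
        = u ^ j * (algebraMap k R c * (v ^ j - 1) + u * (v ^ (j + 1) * σ s - s)) := by
      rw [hg, hs]; ring
    rw [e1, hvj, ht]
    ring
  · simp only [map_add, map_neg, map_mul, map_sum, map_pow, hεv, hεu, one_pow, AlgHom.commutes,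
      Algebra.algebraMap_self, RingHom.id_apply, Finset.sum_const, Finset.card_range, zero_mul,
      add_zero, mul_one, nsmul_eq_mul, ne_eq, neg_eq_zero, mul_eq_zero, not_or]
    refine ⟨hh, ?_⟩
    have : (j : k) ≠ 0 := by exact_mod_cast (by omega : j ≠ 0)
    simpa using this

theorem allOrders {k R : Type*} [Field k] [CharZero k] [CommRing R] [Algebra k R]
    (u v : R) (ε : R →ₐ[k] k) (hεu : ε u = 0)
    (hdec : ∀ x : R, ∃ s, x = algebraMap k R (ε x) + u * s)
    (σ : R →ₐ[k] R) (hv : v * (1 + u) = 1) (hσu : σ u = u * v) (hεσ : ∀ x, ε (σ x) = ε x)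
    (A : Subalgebra k R) (hA : ∀ x ∈ A, σ x ∈ A)
    (j : ℕ) (hj : 1 ≤ j) (g h : R) (hgA : g ∈ A) (hg : g = u ^ j * h) (hh : ε h ≠ 0) :
    ∀ i, j ≤ i → ∃ g' ∈ A, ∃ h', g' = u ^ i * h' ∧ ε h' ≠ 0 := by
  intro i hi
  induction i, hi using Nat.le_induction with
  | base => exact ⟨g, hgA, h, hg, hh⟩
  | succ i hi ih =>
    obtain ⟨g', hg'A, h', hg', hh'⟩ := ih
    obtain ⟨h'', e, hh''⟩ := step u v ε hεu hdec σ hv hσu hεσ i (by omega) g' h' hg' hh'
    exact ⟨σ g' - g', A.sub_mem (hA _ hg'A) hg'A, h'', e, hh''⟩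

theorem descent {k R : Type*} [Field k] [CommRing R] [Algebra k R]
    (N : ℕ) (u : R) (hu : u ^ (N + 1) = 0) (ε : R →ₐ[k] k)
    (hdec : ∀ x : R, ∃ s, x = algebraMap k R (ε x) + u * s)
    (A : Subalgebra k R) (m : ℕ)
    (H : ∀ i, m ≤ i → ∃ g' ∈ A, ∃ h', g' = u ^ i * h' ∧ ε h' ≠ 0) :
    ∀ d j, j + d = N + 1 → m ≤ j → ∀ r, u ^ j * r ∈ A := by
  intro d
  induction d with
  | zero =>
    intro j hj _ r
    have : j = N + 1 := by omega
    rw [this, hu, zero_mul]
    exact A.zero_mem
  | succ d ih =>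
    intro j hj hmj r
    have ih' := ih (j + 1) (by omega) (by omega)
    obtain ⟨g', hg'A, h', hg', hh'⟩ := H j hmj
    obtain ⟨s, hs⟩ := hdec h'
    obtain ⟨c, hc⟩ : ∃ c, ε h' = c := ⟨_, rfl⟩
    rw [hc] at hs hh'
    have huj : u ^ j ∈ A := by
      have e : u ^ j = c⁻¹ • (g' - u ^ (j + 1) * s) := by
        rw [hg', hs, Algebra.smul_def]
        have : algebraMap k R c⁻¹ * algebraMap k R c = 1 := by
          rw [← map_mul, inv_mul_cancel₀ hh', map_one]
        linear_combination (- u ^ j) * this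
      rw [e]
      exact A.smul_mem (A.sub_mem hg'A (ih' s)) _
    obtain ⟨s', hs'⟩ := hdec r
    have e : u ^ j * r = (ε r) • u ^ j + u ^ (j + 1) * s' := by
      rw [Algebra.smul_def]
      linear_combination (u ^ j) * hs'
    rw [e]
    exact A.add_mem (A.smul_mem huj _) (ih' s')

theorem core {k R : Type*} [Field k] [CharZero k] [CommRing R] [Algebra k R]
    (N : ℕ) (u v : R) (hu : u ^ (N + 1) = 0) (ε : R →ₐ[k] k) (hεu : ε u = 0)
    (hdec : ∀ x : R, ∃ s, x = algebraMap k R (ε x) + u * s)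
    (σ : R →ₐ[k] R) (hv : v * (1 + u) = 1) (hσu : σ u = u * v) (hεσ : ∀ x, ε (σ x) = ε x)
    (A : Subalgebra k R) (hA : ∀ x ∈ A, σ x ∈ A) :
    ∃ n : ℕ, 1 ≤ n ∧ n ≤ N + 1 ∧
      Subalgebra.toSubmodule A =
        Submodule.span k {1} ⊔ (Ideal.span {u ^ n}).restrictScalars k := by
  classical
  have hex : ∃ n : ℕ, 1 ≤ n ∧ ∀ r, u ^ n * r ∈ A :=
    ⟨N + 1, by omega, fun r => by rw [hu, zero_mul]; exact A.zero_mem⟩
  set n := Nat.find hex with hn
  obtain ⟨hn1, hnA⟩ : 1 ≤ n ∧ ∀ r, u ^ n * r ∈ A := Nat.find_spec hex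
  have hnN : n ≤ N + 1 := Nat.find_min' hex ⟨by omega, fun r => by rw [hu, zero_mul]; exact A.zero_mem⟩
  -- key: an element of A of exact order j ≥ 1 forces (u^j) ⊆ A, hence n ≤ j
  have key : ∀ j, 1 ≤ j → ∀ g h, g ∈ A → g = u ^ j * h → ε h ≠ 0 → n ≤ j := by
    intro j hj g h hgA hg hh
    have H := allOrders u v ε hεu hdec σ hv hσu hεσ A hA j hj g h hgA hg hh
    by_cases hjN : j ≤ N + 1
    · have D := descent N u hu ε hdec A j H (N + 1 - j) j (by omega) le_rfl
      exact Nat.find_min' hex ⟨hj, D⟩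
    · omega
  refine ⟨n, hn1, hnN, ?_⟩
  apply le_antisymm
  · intro f hf
    have hfA : f ∈ A := hf
    obtain ⟨s, hs⟩ := hdec f
    have hgA : u * s ∈ A := by
      have : u * s = f - algebraMap k R (ε f) := by linear_combination -hs
      rw [this]
      exact A.sub_mem hfA (A.algebraMap_mem _)
    -- g = u * s lies in (u^n)
    have P : ∀ j, 1 ≤ j → j ≤ n → ∃ h, u * s = u ^ j * h := by
      intro j hj
      induction j, hj using Nat.le_induction with
      | base => intro _; exact ⟨s, by rw [pow_one]⟩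
      | succ j hj ih =>
        intro hjn
        obtain ⟨h, hh⟩ := ih (by omega)
        have hεh : ε h = 0 := by
          by_contra hne
          have := key j hj (u * s) h hgA hh hne
          omega
        obtain ⟨t, ht⟩ := hdec h
        rw [hεh, map_zero, zero_add] at ht
        exact ⟨t, by rw [hh, ht]; ring⟩
    obtain ⟨h, hh⟩ := P n hn1 le_rfl
    rw [hs]
    apply Submodule.add_mem_sup
    · rw [Algebra.algebraMap_eq_smul_one]
      exact Submodule.smul_mem _ _ (Submodule.subset_span rfl)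
    · rw [hh]
      change u ^ n * h ∈ Ideal.span {u ^ n}
      exact Ideal.mul_mem_right _ _ (Ideal.subset_span rfl)
  · apply sup_le
    · rw [Submodule.span_le]
      rintro x rfl
      exact A.one_mem
    · intro x hx
      change x ∈ Ideal.span {u ^ n} at hx
      rw [Ideal.mem_span_singleton'] at hx
      obtain ⟨a, rfl⟩ := hx
      rw [mul_comm]
      exact hnA a

theorem mainAux (k : Type u) [Field k] [CharZero k]
    (N : ℕ) (f : Polynomial k) (hf : f = (Polynomial.X : Polynomial k) ^ (N + 1))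
    (A : Subalgebra k (AdjoinRoot f))
    (hA : ∀ (a : k) (σ : AdjoinRoot f →ₐ[k] AdjoinRoot f),
      σ (AdjoinRoot.root f) * (1 + algebraMap k (AdjoinRoot f) a * AdjoinRoot.root f) = AdjoinRoot.root f →
        A.map σ ≤ A) :
    ∃ n : ℕ, 1 ≤ n ∧ n ≤ N + 1 ∧
      Subalgebra.toSubmodule A =
        Submodule.span k {1} ⊔ (Ideal.span {AdjoinRoot.root f ^ n}).restrictScalars k := by
  have hu : (AdjoinRoot.root f) ^ (N + 1) = 0 := by
    rw [← AdjoinRoot.mk_X, ← map_pow, ← hf, AdjoinRoot.mk_self]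
  let ε : AdjoinRoot f →ₐ[k] k := AdjoinRoot.liftAlgHom f (Algebra.ofId k k) 0 (by simp [hf])
  have hεu : ε (AdjoinRoot.root f) = 0 := AdjoinRoot.liftAlgHom_root _ _ _ _
  have hdec0 : ∀ x : AdjoinRoot f, ∃ c s, x = algebraMap k (AdjoinRoot f) c + AdjoinRoot.root f * s := by
    intro x
    induction x using AdjoinRoot.induction_on with
    | ih p =>
      refine ⟨p.coeff 0, AdjoinRoot.mk f p.divX, ?_⟩
      conv_lhs => rw [← Polynomial.divX_mul_X_add p]
      rw [map_add, map_mul, AdjoinRoot.mk_X, AdjoinRoot.mk_C, AdjoinRoot.algebraMap_eq]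
      ring
  have hdec : ∀ x : AdjoinRoot f, ∃ s, x = algebraMap k (AdjoinRoot f) (ε x) + AdjoinRoot.root f * s := by
    intro x
    obtain ⟨c, s, hx⟩ := hdec0 x
    refine ⟨s, ?_⟩
    have : ε x = c := by
      rw [hx, map_add, map_mul, hεu, zero_mul, add_zero, AlgHom.commutes]
      rfl
    rw [this]; exact hx
  obtain ⟨v, hv_def⟩ : ∃ v : AdjoinRoot f, v = ∑ i ∈ Finset.range (N + 1), (-AdjoinRoot.root f) ^ i := ⟨_, rfl⟩
  have hv : v * (1 + AdjoinRoot.root f) = 1 := by
    have := geom_sum_mul_neg (-AdjoinRoot.root f) (N + 1)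
    rw [sub_neg_eq_add, neg_pow, hu, mul_zero, sub_zero] at this
    rw [hv_def]
    exact this
  let σ : AdjoinRoot f →ₐ[k] AdjoinRoot f :=
    AdjoinRoot.liftAlgHom f (Algebra.ofId k (AdjoinRoot f)) (AdjoinRoot.root f * v) (by
      have : ∀ g : Polynomial k, g = (Polynomial.X : Polynomial k) ^ (N + 1) →
          Polynomial.eval₂ (↑(Algebra.ofId k (AdjoinRoot f)) : k →+* AdjoinRoot f)
            (AdjoinRoot.root f * v) g = 0 := by
        rintro g rfl
        simp [mul_pow, hu]
      exact this f hf)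
  have hσu : σ (AdjoinRoot.root f) = AdjoinRoot.root f * v := AdjoinRoot.liftAlgHom_root _ _ _ _
  have hεσ : ∀ x, ε (σ x) = ε x := by
    have : ε.comp σ = ε := by
      apply AdjoinRoot.algHom_ext
      simp only [AlgHom.comp_apply]
      rw [hσu, map_mul, hεu, zero_mul]
    intro x
    exact AlgHom.congr_fun this x
  have hAσ : ∀ x ∈ A, σ x ∈ A := by
    intro x hx
    have h1 : σ (AdjoinRoot.root f) * (1 + algebraMap k (AdjoinRoot f) 1 * AdjoinRoot.root f) = AdjoinRoot.root f := by
      rw [hσu, map_one, one_mul, mul_assoc, hv, mul_one]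
    exact hA 1 σ h1 (Subalgebra.mem_map.mpr ⟨x, hx, rfl⟩)
  exact core N (AdjoinRoot.root f) v hu ε hεu hdec σ hv hσu hεσ A hAσ

end Helpers

/-- Classification of the subalgebras of a truncated polynomial ring that are stable under the unipotent
substitutions, which is the algebraic step behind the classification of curves almost homogeneous
under the additive group in characteristic zero. Let k be a field of characteristic zero, N ≥ 0 and
R = k[u]/(u^(N+1)). The additive group acts on R through the substitutions u ↦ u/(1 + a u), a in k.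
If A is a k-subalgebra of R stable under all these substitutions (stated for every k-algebra
endomorphism σ of R with σ(u)(1 + a u) = u for some a in k), then there is an integer n with 1 ≤ n ≤
N + 1 such that A = k ⊕ (u^n): as a k-subspace, A is the span of 1 plus the ideal generated by u^n.
(In positive characteristic p and for N ≥ p + 1, the subalgebra generated by u^p is stable and not
of this form.) -/
theorem result (k : Type u) [Field k] [CharZero k]
    (N : ℕ) (A : Subalgebra k (AdjoinRoot ((Polynomial.X : Polynomial k) ^ (N + 1))))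
    (hA : ∀ (a : k) (σ : AdjoinRoot ((Polynomial.X : Polynomial k) ^ (N + 1)) →ₐ[k] AdjoinRoot ((Polynomial.X : Polynomial k) ^ (N + 1))),
      σ (AdjoinRoot.root ((Polynomial.X : Polynomial k) ^ (N + 1))) * (1 + algebraMap k (AdjoinRoot ((Polynomial.X : Polynomial k) ^ (N + 1))) a * AdjoinRoot.root ((Polynomial.X : Polynomial k) ^ (N + 1))) = AdjoinRoot.root ((Polynomial.X : Polynomial k) ^ (N + 1)) →
        A.map σ ≤ A) :
    ∃ n : ℕ, 1 ≤ n ∧ n ≤ N + 1 ∧
      Subalgebra.toSubmodule A =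
        Submodule.span k {1} ⊔ (Ideal.span {AdjoinRoot.root ((Polynomial.X : Polynomial k) ^ (N + 1)) ^ n}).restrictScalars k := by
  exact mainAux k N _ rfl A hA

end Groth.Agent.S14639
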