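import Groth.Statements.S14641
import Groth.Agent.Lib.FpqcCovMore18
import Groth.Agent.Lib.QuotUniq18
import Groth.Agent.Lib.GrpAction

set_option autoImplicit false
set_option maxHeartbeats 400000
universe u
open CategoryTheory MonoidalCategory CartesianMonoidalCategory MonObj GrpObj AlgebraicGeometry CategoryTheory.Limits
open AlgGrp

namespace Groth.Agent.S14641

/-- Over a field k, let G be a k-group scheme of finite type, i : H → G a closed subgroup scheme, and
(Q, o) the quotient G/H: a k-scheme with a G-action and a rational point o exhibiting it as the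
quotient (orbit map flat and surjective, G × H ≅ G ×_Q G). Let n : N → G be a closed subgroup scheme
which is the kernel of the action of G on Q, i.e. for every k-scheme T, a T-point g of G factors
through N exactly when g acts as the identity on Q_T (on all points of Q over T-schemes). Then N is
normal in G and contained in H, and N is the largest such subgroup: every closed subgroup scheme N'
of G which is normal in G and factors through H factors through N. -/
theorem result (k : Type u) [Field k]
    (G H Q N : Over (Spec (CommRingCat.of k))) [GrpObj G] [LocallyOfFiniteType G.hom] [QuasiCompact G.hom]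
    [GrpObj H] (i : H ⟶ G) [IsMonHom i] [IsClosedImmersion i.left]
    (a : AlgGrp.Action G Q) (o : 𝟙_ (Over (Spec (CommRingCat.of k))) ⟶ Q) (hQ : AGF.IsQuotient i Q a o)
    [GrpObj N] (n : N ⟶ G) [IsMonHom n] [IsClosedImmersion n.left]
    (hN : ∀ (T : Over (Spec (CommRingCat.of k))) (g : T ⟶ G),
      (∃ m : T ⟶ N, m ≫ n = g) ↔
        ∀ (T' : Over (Spec (CommRingCat.of k))) (s : T' ⟶ T) (x : T' ⟶ Q),
          CartesianMonoidalCategory.lift (s ≫ g) x ≫ a.act = x) :
    AlgGrp.IsNormalHom n ∧ (∃ f : N ⟶ H, f ≫ i = n) ∧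
      ∀ (N' : Over (Spec (CommRingCat.of k))) [GrpObj N'] (n' : N' ⟶ G) [IsMonHom n'] [IsClosedImmersion n'.left],
        AlgGrp.IsNormalHom n' → (∃ f : N' ⟶ H, f ≫ i = n') → ∃ f' : N' ⟶ N, f' ≫ n = n' := by
  obtain ⟨lftQ, flatπ, surjπ, sqQ⟩ := hQ
  have qcπ : QuasiCompact (a.orbitMap o).left := by
    have : IsLocallyNoetherian Q.left := LocallyOfFiniteType.isLocallyNoetherian Q.hom
    have : QuasiSeparated Q.hom := inferInstance
    have : QuasiCompact ((a.orbitMap o).left ≫ Q.hom) := by rw [Over.w]; infer_instance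
    exact QuasiCompact.of_comp (a.orbitMap o).left Q.hom
  have covπ := Groth.Agent.Lib.FpqcCov18.isFpqcCov_of_fpqc (a.orbitMap o).left
  refine ⟨?_, ?_, ?_⟩
  · -- normality
    intro T g m
    obtain ⟨m', hm'⟩ := (hN T (g * (m ≫ n) * g⁻¹)).mpr (by
      intro T' s x
      rw [MonObj.comp_mul, MonObj.comp_mul, GrpObj.comp_inv, Groth.Agent.Lib.GrpAction.mul_act,
        Groth.Agent.Lib.GrpAction.mul_act, (hN T (m ≫ n)).mp ⟨m, rfl⟩ T' s,
        ← Groth.Agent.Lib.GrpAction.mul_act, mul_inv_cancel, Groth.Agent.Lib.GrpAction.one_act])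
    exact ⟨m', hm'.symm⟩
  · -- N ⊆ H
    have h1 : (1 : N ⟶ G) ≫ a.orbitMap o = n ≫ a.orbitMap o := by
      rw [Groth.Agent.Lib.GrpAction.comp_orbitMap, Groth.Agent.Lib.GrpAction.comp_orbitMap,
        Groth.Agent.Lib.GrpAction.one_act]
      have := (hN N n).mp ⟨𝟙 N, Category.id_comp n⟩ N (𝟙 N) (toUnit N ≫ o)
      rw [Category.id_comp] at this
      exact this.symm
    obtain ⟨t, ht⟩ := Groth.Agent.Lib.QuotUniq18.exists_eq_mul_of_comp_eq sqQ _ _ h1
    exact ⟨t, by rw [ht, _root_.one_mul]⟩
  · intro N' _ n' _ _ hnorm hfac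
    obtain ⟨f, hf⟩ := hfac
    apply (hN N' n').mpr
    intro T' s x
    have sqW : IsPullback (pullback.fst x (a.orbitMap o)) (pullback.snd x (a.orbitMap o)) x
        (a.orbitMap o) := IsPullback.of_hasPullback _ _
    have covp : Groth.Agent.Lib.FpqcCov18.IsFpqcCov (pullback.fst x (a.orbitMap o)).left :=
      covπ.of_isPullback ((sqW.map (Over.forget _)).flip)
    have := Groth.Agent.Lib.FpqcCov18.epi_over _ covp
    rw [← cancel_epi (pullback.fst x (a.orbitMap o)), Groth.Agent.Lib.GrpAction.comp_lift_act,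
      sqW.w, Groth.Agent.Lib.GrpAction.comp_orbitMap, ← Groth.Agent.Lib.GrpAction.mul_act]
    obtain ⟨n'', hn''⟩ := hnorm _ (pullback.snd x (a.orbitMap o))⁻¹ (pullback.fst x (a.orbitMap o) ≫ s)
    rw [_root_.inv_inv] at hn''
    have h2 : (pullback.fst x (a.orbitMap o) ≫ s ≫ n') * pullback.snd x (a.orbitMap o) =
        pullback.snd x (a.orbitMap o) * ((n'' ≫ f) ≫ i) := by
      rw [Category.assoc, hf, ← hn'', ← Category.assoc]
      group
    rw [h2, ← Groth.Agent.Lib.GrpAction.comp_orbitMap]
    exact (Groth.Agent.Lib.QuotUniq18.mul_comp_eq sqQ _ _).trans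
      (Groth.Agent.Lib.GrpAction.comp_orbitMap a o _)

end Groth.Agent.S14641
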