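import Groth.Statements.S14643
import Groth.Agent.Lib.FpqcCovMore18
import Groth.Agent.Lib.QuotUniq18
import Groth.Agent.Lib.GrpAction

set_option autoImplicit false
set_option maxHeartbeats 800000
universe u
open CategoryTheory MonoidalCategory CartesianMonoidalCategory MonObj GrpObj AlgebraicGeometry CategoryTheory.Limits
open AlgGrp

namespace Groth.Agent.S14643

/-- Over a field k, let G be a smooth k-group scheme of finite type acting on a variety X (a separated,
geometrically integral k-scheme of finite type). Let n : N → G be the kernel of the action: a closed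
subgroup scheme such that, for every k-scheme T, a T-point of G factors through N exactly when it
acts as the identity on all points of X over T-schemes. Let π : G → Q be a homomorphism onto a
k-group scheme of finite type which is flat and surjective with kernel N (the quotient G/N). Then
there is a unique action of Q on X inducing the given one along π; this action of Q is faithful (a
T-point of Q acting as the identity on all points of X over T-schemes is the unit); and X is
homogeneous under G (surjective graph morphism (g, x) ↦ (x, g·x)) if and only if it is homogeneous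
under Q, and almost homogeneous under G (dominant graph morphism) if and only if it is almost
homogeneous under Q. -/
theorem result (k : Type u) [Field k]
    (G N Q X : Over (Spec (CommRingCat.of k))) [GrpObj G] [Smooth G.hom] [QuasiCompact G.hom]
    [IsSeparated X.hom] [LocallyOfFiniteType X.hom] [QuasiCompact X.hom] [GeometricallyIntegral X.hom] (a : AlgGrp.Action G X)
    [GrpObj N] (n : N ⟶ G) [IsMonHom n] [IsClosedImmersion n.left]
    (hN : ∀ (T : Over (Spec (CommRingCat.of k))) (g : T ⟶ G),
      (∃ m : T ⟶ N, m ≫ n = g) ↔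
        ∀ (T' : Over (Spec (CommRingCat.of k))) (s : T' ⟶ T) (x : T' ⟶ X), CartesianMonoidalCategory.lift (s ≫ g) x ≫ a.act = x)
    [GrpObj Q] [LocallyOfFiniteType Q.hom] [QuasiCompact Q.hom] (π : G ⟶ Q) [IsMonHom π] [Flat π.left] [Surjective π.left]
    (hker : AlgGrp.IsKernel n π) :
    (∃! b : AlgGrp.Action Q X, (π ▷ X) ≫ b.act = a.act) ∧
    ∀ b : AlgGrp.Action Q X, (π ▷ X) ≫ b.act = a.act →
      (∀ (T : Over (Spec (CommRingCat.of k))) (q : T ⟶ Q),
        (∀ (T' : Over (Spec (CommRingCat.of k))) (s : T' ⟶ T) (x : T' ⟶ X), CartesianMonoidalCategory.lift (s ≫ q) x ≫ b.act = x) → q = 1) ∧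
      (Surjective (CartesianMonoidalCategory.lift (CartesianMonoidalCategory.snd G X) a.act).left ↔
        Surjective (CartesianMonoidalCategory.lift (CartesianMonoidalCategory.snd Q X) b.act).left) ∧
      (IsDominant (CartesianMonoidalCategory.lift (CartesianMonoidalCategory.snd G X) a.act).left ↔
        IsDominant (CartesianMonoidalCategory.lift (CartesianMonoidalCategory.snd Q X) b.act).left) := by
  have qcπ : QuasiCompact π.left := by
    have : IsLocallyNoetherian Q.left := LocallyOfFiniteType.isLocallyNoetherian Q.hom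
    have : QuasiSeparated Q.hom := inferInstance
    have : QuasiCompact (π.left ≫ Q.hom) := by rw [Over.w]; infer_instance
    exact QuasiCompact.of_comp π.left Q.hom
  have covπ := Groth.Agent.Lib.FpqcCov18.isFpqcCov_of_fpqc π.left
  have covπX := Groth.Agent.Lib.FpqcCov18.isFpqcCov_whiskerRight X π covπ
  have epiπX := Groth.Agent.Lib.FpqcCov18.epi_over _ covπX
  -- kernel facts
  have kn : ∀ {T : Over (Spec (CommRingCat.of k))} (m : T ⟶ N), (m ≫ n) ≫ π = 1 := by
    intro T m
    rw [Category.assoc, hker.w, ← Category.assoc, toUnit_unique (m ≫ toUnit N) (toUnit T),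
      Hom.one_def]
  have ln : ∀ {T : Over (Spec (CommRingCat.of k))} (g : T ⟶ G), g ≫ π = 1 → ∃ m : T ⟶ N, m ≫ n = g := by
    intro T g hg
    exact ⟨hker.lift g (toUnit T) (by rw [hg, Hom.one_def]), hker.lift_fst _ _ _⟩
  have triv : ∀ {T : Over (Spec (CommRingCat.of k))} (m : T ⟶ N) (x : T ⟶ X),
      lift (m ≫ n) x ≫ a.act = x := by
    intro T m x
    have := (hN T (m ≫ n)).mp ⟨m, rfl⟩ T (𝟙 T) x
    rwa [Category.id_comp] at this
  -- descent of the action
  have hdesc : ∀ (T : Over (Spec (CommRingCat.of k))) (t₁ t₂ : T ⟶ G ⊗ X),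
      t₁ ≫ (π ▷ X) = t₂ ≫ (π ▷ X) → t₁ ≫ a.act = t₂ ≫ a.act := by
    intro T t₁ t₂ h
    have h1 : (t₁ ≫ fst G X) ≫ π = (t₂ ≫ fst G X) ≫ π := by
      have := congrArg (· ≫ fst Q X) h
      simpa only [Category.assoc, whiskerRight_fst] using this
    have h2 : t₁ ≫ snd G X = t₂ ≫ snd G X := by
      have := congrArg (· ≫ snd Q X) h
      simpa only [Category.assoc, whiskerRight_snd] using this
    have h3 : ((t₁ ≫ fst G X)⁻¹ * (t₂ ≫ fst G X)) ≫ π = 1 := by
      rw [MonObj.mul_comp, GrpObj.inv_comp, h1, inv_mul_cancel]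
    obtain ⟨m, hm⟩ := ln _ h3
    have e1 : t₁ = lift (t₁ ≫ fst G X) (t₁ ≫ snd G X) := by
      apply CartesianMonoidalCategory.hom_ext <;> simp
    have e2 : t₂ = lift ((t₁ ≫ fst G X) * (m ≫ n)) (t₁ ≫ snd G X) := by
      apply CartesianMonoidalCategory.hom_ext
      · rw [lift_fst, hm, mul_inv_cancel_left]
      · rw [lift_snd, h2]
    rw [e2, Groth.Agent.Lib.GrpAction.mul_act, triv, ← e1]
  obtain ⟨ψ, hψ⟩ := Groth.Agent.Lib.FpqcCov18.exists_desc_over (π ▷ X) covπX a.act hdesc
  have ext_act : ∀ b b' : AlgGrp.Action Q X, b.act = b'.act → b = b' := by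
    intro b b' h
    cases b; cases b'
    simp only at h
    subst h
    rfl
  -- epi for associativity
  have epi1 := Groth.Agent.Lib.FpqcCov18.epi_over _
    (Groth.Agent.Lib.FpqcCov18.isFpqcCov_whiskerRight X (π ▷ G)
      (Groth.Agent.Lib.FpqcCov18.isFpqcCov_whiskerRight G π covπ))
  have epi2 := Groth.Agent.Lib.FpqcCov18.epi_over _
    (Groth.Agent.Lib.FpqcCov18.isFpqcCov_whiskerRight X (Q ◁ π)
      (Groth.Agent.Lib.FpqcCov18.isFpqcCov_whiskerLeft Q π covπ))
  have hone : (η[Q] ▷ X) ≫ ψ = (λ_ X).hom := by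
    have : η[Q] = η[G] ≫ π := (IsMonHom.one_hom π).symm
    rw [this, comp_whiskerRight, Category.assoc, hψ, a.one_act]
  have hmul : (μ[Q] ▷ X) ≫ ψ = (α_ Q Q X).hom ≫ (Q ◁ ψ) ≫ ψ := by
    rw [← cancel_epi ((Q ◁ π) ▷ X), ← cancel_epi ((π ▷ G) ▷ X)]
    have e1 : ((π ▷ G) ▷ X) ≫ ((Q ◁ π) ▷ X) ≫ (μ[Q] ▷ X) ≫ ψ =
        (α_ G G X).hom ≫ (G ◁ a.act) ≫ a.act := by
      rw [← a.mul_act, ← hψ, ← comp_whiskerRight_assoc, ← comp_whiskerRight_assoc,
        ← comp_whiskerRight_assoc]
      congr 2
      first
        | exact (IsMonHom.mul_hom π).symm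
        | (rw [← MonoidalCategory.tensorHom_def]; exact (IsMonHom.mul_hom π).symm)
    have e2 : ((π ▷ G) ▷ X) ≫ ((Q ◁ π) ▷ X) ≫ (α_ Q Q X).hom ≫ (Q ◁ ψ) ≫ ψ =
        (α_ G G X).hom ≫ (G ◁ a.act) ≫ a.act := by
      rw [associator_naturality_middle_assoc, associator_naturality_left_assoc,
        ← MonoidalCategory.whiskerLeft_comp_assoc, hψ, ← whisker_exchange_assoc, hψ]
    rw [e1, e2]
  constructor
  · refine ⟨⟨ψ, hone, hmul⟩, hψ, ?_⟩
    intro b' hb'
    apply ext_act
    show b'.act = ψ
    rw [← cancel_epi (π ▷ X), hb', hψ]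
  · intro b hb
    refine ⟨?_, ?_, ?_⟩
    · intro T q hq
      have sqW : IsPullback (pullback.fst q π) (pullback.snd q π) q π := IsPullback.of_hasPullback _ _
      have covp : Groth.Agent.Lib.FpqcCov18.IsFpqcCov (pullback.fst q π).left :=
        covπ.of_isPullback ((sqW.map (Over.forget _)).flip)
      have := Groth.Agent.Lib.FpqcCov18.epi_over _ covp
      have hg : ∃ m : pullback q π ⟶ N, m ≫ n = pullback.snd q π := by
        apply (hN _ _).mpr
        intro T' s x
        have e1 : lift (s ≫ pullback.snd q π) x ≫ a.act =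
            lift ((s ≫ pullback.fst q π) ≫ q) x ≫ b.act := by
          rw [← hb, ← Category.assoc, lift_whiskerRight, Category.assoc s, Category.assoc s, sqW.w]
        rw [e1]
        exact hq T' _ x
      obtain ⟨m, hm⟩ := hg
      rw [← cancel_epi (pullback.fst q π), sqW.w, ← hm, kn, MonObj.comp_one]
    · have e1 : (lift (snd G X) a.act).left = (π ▷ X).left ≫ (lift (snd Q X) b.act).left := by
        rw [← Over.comp_left, comp_lift, whiskerRight_snd, hb]
      have : Surjective (π ▷ X).left := covπX.surjective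
      rw [e1]
      exact Surjective.comp_iff _ _
    · have e1 : (lift (snd G X) a.act).left = (π ▷ X).left ≫ (lift (snd Q X) b.act).left := by
        rw [← Over.comp_left, comp_lift, whiskerRight_snd, hb]
      have : Surjective (π ▷ X).left := covπX.surjective
      rw [e1]
      exact IsDominant.comp_iff _ _

end Groth.Agent.S14643
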