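import Groth.Statements.S14645
import Groth.Agent.Lib.TransFlat45
import Groth.Agent.Lib.ConstrOpen45

set_option autoImplicit false
universe u
open CategoryTheory MonoidalCategory CartesianMonoidalCategory MonObj GrpObj AlgebraicGeometry CategoryTheory.Limits
open AlgGrp

namespace Groth.Agent.S14645

/-- Over a field k with algebraic closure K, let G be a smooth k-group scheme of finite type acting on a
variety X (a separated, geometrically integral k-scheme of finite type). Then X is homogeneous under
G, i.e. the graph morphism G × X → X × X, (g, x) ↦ (x, g·x), is surjective, if and only if the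
abstract group G(K) of K-points over k acts transitively on the set X(K): for all K-points x, y of X
there is a K-point g of G with g · x = y. -/
theorem result (k : Type u) [Field k]
    (G X : Over (Spec (CommRingCat.of k))) [GrpObj G] [Smooth G.hom] [QuasiCompact G.hom]
    [IsSeparated X.hom] [LocallyOfFiniteType X.hom] [QuasiCompact X.hom] [GeometricallyIntegral X.hom] (a : AlgGrp.Action G X)
    (K : Type u) [Field K] [Algebra k K] [IsAlgClosure k K] :
    Surjective (CartesianMonoidalCategory.lift (CartesianMonoidalCategory.snd G X) a.act).left ↔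
      ∀ x y : Over.mk (Spec.map (CommRingCat.ofHom (algebraMap k K))) ⟶ X, ∃ g : Over.mk (Spec.map (CommRingCat.ofHom (algebraMap k K))) ⟶ G, CartesianMonoidalCategory.lift g x ≫ a.act = y := by
  have hK : IsAlgClosed K := IsAlgClosure.isAlgClosed k
  have hGlft : LocallyOfFiniteType G.hom := inferInstance
  let pK := Groth.Agent.Lib.TransFlat45.ptK (k := k) K
  let Γ : G ⊗ X ⟶ X ⊗ X := lift (snd G X) a.act
  have hGXlft : LocallyOfFiniteType (G ⊗ X).hom := by
    have : (G ⊗ X).hom = Limits.pullback.fst G.hom X.hom ≫ G.hom := rfl
    rw [this]; infer_instance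
  have hGXqc : QuasiCompact (G ⊗ X).hom := by
    have : (G ⊗ X).hom = Limits.pullback.fst G.hom X.hom ≫ G.hom := rfl
    rw [this]; infer_instance
  have hXXlft : LocallyOfFiniteType (X ⊗ X).hom := by
    have : (X ⊗ X).hom = Limits.pullback.fst X.hom X.hom ≫ X.hom := rfl
    rw [this]; infer_instance
  have hXXqc : QuasiCompact (X ⊗ X).hom := by
    have : (X ⊗ X).hom = Limits.pullback.fst X.hom X.hom ≫ X.hom := rfl
    rw [this]; infer_instance
  have hΓlft : LocallyOfFiniteType Γ.left := by
    have h1 : LocallyOfFiniteType (Γ.left ≫ (X ⊗ X).hom) := by rw [Over.w]; infer_instance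
    exact locallyOfFiniteType_of_comp Γ.left (X ⊗ X).hom
  have hNoeth : IsLocallyNoetherian (X ⊗ X).left :=
    LocallyOfFiniteType.isLocallyNoetherian (X ⊗ X).hom
  have hcompXX : CompactSpace (X ⊗ X).left := QuasiCompact.compactSpace_of_compactSpace (X ⊗ X).hom
  have hcompGX : CompactSpace (G ⊗ X).left := QuasiCompact.compactSpace_of_compactSpace (G ⊗ X).hom
  have hΓqc : QuasiCompact Γ.left := inferInstance
  have hΓlfp : LocallyOfFinitePresentation Γ.left :=
    LocallyOfFinitePresentation.iff_locallyOfFiniteType.mpr hΓlft
  constructor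
  · intro hsurj x y
    have : Surjective Γ.left := hsurj
    obtain ⟨P, hP⟩ := Groth.Agent.Lib.KPoints45.exists_Kpoint_lift (K := K) Γ.left (lift x y).left
    let P' : pK ⟶ G ⊗ X := Over.homMk P (by
      rw [← Over.w Γ, ← Category.assoc, hP, Over.w (lift x y)])
    have hP' : P' ≫ Γ = lift x y := Over.OverMorphism.ext hP
    have h1 : P' ≫ snd G X = x := by
      have := congrArg (fun m => m ≫ fst X X) hP'
      simpa [Γ] using this
    have h2 : P' ≫ a.act = y := by
      have := congrArg (fun m => m ≫ snd X X) hP'
      simpa [Γ] using this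
    refine ⟨P' ≫ fst G X, ?_⟩
    rw [← h1, ← h2]
    congr 1
    apply CartesianMonoidalCategory.hom_ext <;> simp
  · intro htr
    change Surjective Γ.left
    constructor
    by_contra hns
    have hne : ((Set.range Γ.left)ᶜ).Nonempty := by
      rw [Set.nonempty_compl]
      intro h
      apply hns
      intro y
      have : y ∈ Set.range Γ.left := by rw [h]; trivial
      exact this
    have hcons : Topology.IsConstructible (Set.range Γ.left)ᶜ := by
      rw [Topology.isConstructible_compl, ← Set.image_univ]
      exact Γ.left.isConstructible_image Topology.IsConstructible.univ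
    have hN : IsNoetherian (X ⊗ X).left := {}
    have hNS : TopologicalSpace.NoetherianSpace (X ⊗ X).left := inferInstance
    obtain ⟨U, hU, hne', hsub⟩ :=
      Groth.Agent.Lib.ConstrOpen45.exists_open_inter_closure_subset hcons hne
    obtain ⟨P, hP⟩ := Groth.Agent.Lib.TransFlat45.exists_Kpt_mem K (X := X ⊗ X)
      (hU.isLocallyClosed.inter isClosed_closure.isLocallyClosed) hne'
    obtain ⟨g, hg⟩ := htr (P ≫ fst X X) (P ≫ snd X X)
    let t : pK.left := IsLocalRing.closedPoint K
    apply hsub (hP t)
    refine ⟨(lift g (P ≫ fst X X)).left t, ?_⟩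
    have h3 : lift g (P ≫ fst X X) ≫ Γ = P := by
      apply CartesianMonoidalCategory.hom_ext
      · simp [Γ]
      · simp only [Γ, Category.assoc, lift_snd]; exact hg
    rw [← Scheme.Hom.comp_apply, ← Over.comp_left, h3]

end Groth.Agent.S14645
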