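import Groth.Statements.S14650
import Groth.Agent.Lib.ExtRees12c
import Groth.Agent.Lib.GorQuotLoc12
import Groth.Agent.Lib.GrInjDimGlobal
import Groth.Agent.Lib.H14GorField

set_option autoImplicit false
universe u
open FiltBl

namespace Groth.Agent.S14650

/-- Let A be a Noetherian local ring that is a quotient of a Gorenstein ring, and F a filtration of
ideals on A (F^0 = A ⊇ F^1 ⊇ ⋯, F^i F^j ⊆ F^{i+j}) with every F^n nonzero and ⋂ F^n = 0, whose Rees
algebra ⊕_{n ≥ 0} F^n X^n is finitely generated over A and with F^1 of height at least 2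
(equivalently, every F^n with n ≥ 1 has height at least 2, all F^n having the same radical). Then
the extended Rees algebra R' = ⊕_{n ∈ ℤ} F^n T^n ⊆ A[T, T⁻¹] is a Gorenstein ring if and only if the
associated graded ring G = ⊕ F^n/F^{n+1}, realised as R'/uR' with u = T⁻¹, is a Gorenstein ring.
(The published statement is made under the further standing assumption that no nonzero element of
the Rees algebra ⊕_{n ≥ 0} F^n T^n is annihilated by a power of the ideal generated by its
homogeneous elements of positive degree; this row does not assume it, and the assertion holds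
without it.) -/
theorem result (A : Type u) [CommRing A] [IsNoetherianRing A] [IsLocalRing A]
    (S : Type u) [CommRing S] [LocCoh.IsGorensteinRing S] (π : S →+* A) (hπ : Function.Surjective π)
    (𝓕 : FiltBl.IdealFiltration A) (hne : ∀ n, 𝓕.F n ≠ ⊥) (hsep : ⨅ n, 𝓕.F n = ⊥)
    (hfg : Algebra.FiniteType A 𝓕.rees) (hht : 2 ≤ (𝓕.F 1).height) :
    LocCoh.IsGorensteinRing 𝓕.extRees ↔ LocCoh.IsGorensteinRing 𝓕.Gr := by
  have hF1 : 𝓕.F 1 ≤ IsLocalRing.maximalIdeal A := by
    apply IsLocalRing.le_maximalIdeal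
    intro h
    have hall : ∀ n, 𝓕.F n = ⊤ := by
      intro n
      induction n with
      | zero => exact 𝓕.zero_eq
      | succ n ih =>
        have := 𝓕.mul_le n 1
        rw [ih, h, Ideal.top_mul] at this
        exact top_le_iff.mp this
    have h1 : (⨅ n, 𝓕.F n) = ⊤ := by
      rw [iInf_eq_top]
      exact hall
    rw [h1] at hsep
    exact top_ne_bot hsep
  constructor
  · intro hR
    exact Groth.Agent.Lib.H14GorField.isGorensteinRing_quotient_span_singleton hR 𝓕.u
      (Groth.Agent.Lib.ExtRees12.isSMulRegular_u 𝓕)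
  · intro hG
    haveI := Groth.Agent.Lib.ExtRees12.isNoetherianRing_extRees 𝓕 hfg
    haveI hmax : (Groth.Agent.Lib.ExtRees12.Mh 𝓕 hF1).toIdeal.IsMaximal :=
      Groth.Agent.Lib.ExtRees12.M_isMaximal 𝓕 hF1
    haveI hloc : LocCoh.IsGorensteinLocalRing
        (Localization.AtPrime (Groth.Agent.Lib.ExtRees12.Mh 𝓕 hF1).toIdeal) :=
      Groth.Agent.Lib.GorQuotLoc12.isGorensteinLocalRing_atPrime_of_quotient 𝓕.u
        (Groth.Agent.Lib.ExtRees12.Mh 𝓕 hF1).toIdeal (Groth.Agent.Lib.ExtRees12.u_mem_M 𝓕 hF1)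
        (Groth.Agent.Lib.ExtRees12.isSMulRegular_u 𝓕) hG
    exact Groth.Agent.Lib.GrInjDimGlobal.isGorensteinRing_of_loc (Groth.Agent.Lib.ExtRees12.gr 𝓕)
      (Groth.Agent.Lib.ExtRees12.Mh 𝓕 hF1) (Groth.Agent.Lib.ExtRees12.isStarLocal_Mh 𝓕 hF1)

end Groth.Agent.S14650
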