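import Groth.Statements.S14651
import Groth.Agent.Lib.ExtRees12g

set_option autoImplicit false
universe u
open FiltBl

namespace Groth.Agent.S14651

/-- Let A be a Noetherian local ring that is a quotient of a Gorenstein ring, and F a filtration of
ideals on A (F^0 = A ⊇ F^1 ⊇ ⋯, F^i F^j ⊆ F^{i+j}) with every F^n nonzero and ⋂ F^n = 0, whose Rees
algebra ⊕_{n ≥ 0} F^n X^n is finitely generated over A and with F^1 of height at least 2
(equivalently, every F^n with n ≥ 1 has height at least 2, all F^n having the same radical). Then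
the extended Rees algebra R' = ⊕_{n ∈ ℤ} F^n T^n ⊆ A[T, T⁻¹] satisfies Serre's condition (S_2) if
and only if the associated graded ring G = ⊕ F^n/F^{n+1}, realised as R'/uR' with u = T⁻¹, satisfies
(S_1) and A satisfies (S_2). (The published statement is made under the further standing assumption
that no nonzero element of the Rees algebra ⊕_{n ≥ 0} F^n T^n is annihilated by a power of the ideal
generated by its homogeneous elements of positive degree; this row does not assume it, and the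
assertion holds without it.) -/
theorem result (A : Type u) [CommRing A] [IsNoetherianRing A] [IsLocalRing A]
    (S : Type u) [CommRing S] [LocCoh.IsGorensteinRing S] (π : S →+* A) (hπ : Function.Surjective π)
    (𝓕 : FiltBl.IdealFiltration A) (hne : ∀ n, 𝓕.F n ≠ ⊥) (hsep : ⨅ n, 𝓕.F n = ⊥)
    (hfg : Algebra.FiniteType A 𝓕.rees) (hht : 2 ≤ (𝓕.F 1).height) :
    LocCoh.HasSk 2 𝓕.extRees 𝓕.extRees ↔ (LocCoh.HasSk 1 𝓕.Gr 𝓕.Gr ∧ LocCoh.HasSk 2 A A) := by
  haveI := Groth.Agent.Lib.ExtRees12.isNoetherianRing_extRees 𝓕 hfg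
  have hreg := Groth.Agent.Lib.ExtRees12.isSMulRegular_u 𝓕
  have hφ : Function.Surjective (Ideal.Quotient.mk (Ideal.span {𝓕.u})) :=
    Ideal.Quotient.mk_surjective
  have hker : RingHom.ker (Ideal.Quotient.mk (Ideal.span {𝓕.u})) = Ideal.span {𝓕.u} :=
    Ideal.mk_ker
  rw [Groth.Agent.Lib.SkTools12.hasSk_self_iff, Groth.Agent.Lib.SkTools12.hasSk_self_iff,
    Groth.Agent.Lib.SkTools12.hasSk_self_iff]
  constructor
  · intro H
    refine ⟨fun p hp => ?_, fun q hq => ?_⟩
    · have h0 := H (p.comap (Ideal.Quotient.mk (Ideal.span {𝓕.u})))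
      have h1 := Groth.Agent.Lib.SkTools12.skAt_comap_iff (Ideal.Quotient.mk (Ideal.span {𝓕.u}))
        hφ 𝓕.u hker p hreg 1
      exact h1.1 h0
    · have h0 := H (Groth.Agent.Lib.ExtRees12.Qq 𝓕 q)
      exact (Groth.Agent.Lib.ExtRees12.skAt_Qq_iff 𝓕 q 2).1 h0
  · rintro ⟨Ha, Hb⟩ P hP
    haveI hc : (P.homogeneousCore (Groth.Agent.Lib.ExtRees12.gr 𝓕)).toIdeal.IsPrime :=
      Ideal.IsPrime.homogeneousCore hP
    apply Groth.Agent.Lib.SkTools12.skAt_of_core (Groth.Agent.Lib.ExtRees12.gr 𝓕) 2 P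
    generalize hP₀ : (P.homogeneousCore (Groth.Agent.Lib.ExtRees12.gr 𝓕)).toIdeal = P₀ at hc
    have hhom : P₀.IsHomogeneous (Groth.Agent.Lib.ExtRees12.gr 𝓕) := by
      rw [← hP₀]; exact (P.homogeneousCore _).isHomogeneous
    by_cases hu : 𝓕.u ∈ P₀
    · exact Groth.Agent.Lib.SkTools12.skAt_of_mem (Ideal.Quotient.mk (Ideal.span {𝓕.u}))
        hφ 𝓕.u hker hreg 1 Ha P₀ hu
    · haveI : (P₀.comap (algebraMap A 𝓕.extRees)).IsPrime := Ideal.comap_isPrime _ _
      have heq := Groth.Agent.Lib.ExtRees12.eq_Qq_of_isHomogeneous 𝓕 P₀ hu hhom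
      have h0 := Hb (P₀.comap (algebraMap A 𝓕.extRees))
      have h1 := (Groth.Agent.Lib.ExtRees12.skAt_Qq_iff 𝓕
        (P₀.comap (algebraMap A 𝓕.extRees)) 2).2 h0
      exact (Groth.Agent.Lib.SkTools12.skAt_congr heq).2 h1

end Groth.Agent.S14651
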