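import Groth.Statements.S14655
import Groth.Agent.Lib.PureCM33b
import Groth.Agent.Lib.CMRingEquiv96

set_option autoImplicit false
universe u
open FiltBl

namespace Groth.Agent.S14655

open AlgebraicGeometry in
/-- Let A be a Noetherian ℕ-graded commutative ring which is a Cohen–Macaulay ring. Then the scheme Proj
A is Cohen–Macaulay: every local ring of Proj A is a Cohen–Macaulay local ring. -/
theorem result (A : Type u) [CommRing A]
    (𝒜 : ℕ → AddSubgroup A) [GradedRing 𝒜] [LocCoh.IsCohenMacaulayRing A] (x : Proj 𝒜) :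
    LocCoh.IsCohenMacaulayLocalRing ((Proj 𝒜).presheaf.stalk x) := by
  classical
  have hprime : x.asHomogeneousIdeal.toIdeal.IsPrime := x.isPrime
  have hCM := LocCoh.IsCohenMacaulayRing.isCohenMacaulayLocalRing_localization (R := A)
    x.asHomogeneousIdeal.toIdeal
  obtain ⟨t, e, ht, he, htp⟩ : ∃ (t : A) (e : ℕ) (_ : t ∈ 𝒜 e) (_ : 0 < e),
      t ∉ x.asHomogeneousIdeal.toIdeal := by
    by_contra! hcon
    refine x.not_irrelevant_le fun z hz ↦ ?_
    change z ∈ x.asHomogeneousIdeal.toIdeal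
    rw [← DirectSum.sum_support_decompose 𝒜 z]
    refine x.asHomogeneousIdeal.toIdeal.sum_mem fun k hk ↦ ?_
    rcases Nat.eq_zero_or_pos k with rfl | hk0
    · have h1 : (DirectSum.decompose 𝒜 z 0 : A) = 0 := hz
      rw [h1]
      exact zero_mem _
    · exact hcon _ k (SetLike.coe_mem _) hk0
  have hR : LocCoh.IsCohenMacaulayLocalRing
      (HomogeneousLocalization.AtPrime 𝒜 x.asHomogeneousIdeal.toIdeal) :=
    Groth.Agent.Lib.PureCM33.isCohenMacaulayLocalRing_atPrime
      x.asHomogeneousIdeal.isHomogeneous he ht htp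
  let e' : (Proj 𝒜).presheaf.stalk x ≃+*
      HomogeneousLocalization.AtPrime 𝒜 x.asHomogeneousIdeal.toIdeal := Proj.stalkIso' 𝒜 x
  exact Groth.Agent.Lib.CMRingEquiv96.isCohenMacaulayLocalRing_of_ringEquiv e'.symm

end Groth.Agent.S14655
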