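import Groth.Statements.S14658
import Groth.Agent.Lib.GrCyc12c
import Groth.Agent.Lib.GrCyc12d
import Groth.Agent.Lib.H87Serre2
import Groth.Agent.Lib.H14GeomP2

set_option autoImplicit false
universe u
open FiltBl

namespace Groth.Agent.S14658

/-- Let R be a Noetherian ℤ-graded commutative ring which is regular (every localization at a prime is a
regular local ring) and whose degree-0 subring R_0 is a local ring with maximal ideal m. Let t ∈ R_N
be a homogeneous unit of R of positive degree N such that R_i · R_j ⊆ m · t for all positive i, j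
with i + j = N (every product a b with a ∈ R_i, b ∈ R_j is c t for some c ∈ m). Then the ring
R[U]/(U^N − t), U an indeterminate, is again regular: all its localizations at prime ideals are
regular local rings. -/
theorem result (R : Type u) [CommRing R]
    [IsNoetherianRing R] (𝒜 : ℤ → AddSubgroup R) [GradedRing 𝒜]
    (hreg : ∀ (p : Ideal R) [p.IsPrime], IsRegularLocalRing (Localization.AtPrime p))
    [IsLocalRing (GrLC.deg0 𝒜)] (N : ℕ) (hN : 0 < N) (t : R) (ht : t ∈ 𝒜 (N : ℤ))
    (htu : IsUnit t)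
    (hm : ∀ (i j : ℤ), 0 < i → 0 < j → i + j = (N : ℤ) → ∀ a ∈ 𝒜 i, ∀ b ∈ 𝒜 j,
      ∃ c : GrLC.deg0 𝒜, c ∈ IsLocalRing.maximalIdeal (GrLC.deg0 𝒜) ∧ a * b = (c : R) * t)
    (q : Ideal (AdjoinRoot (Polynomial.X ^ N - Polynomial.C t))) [q.IsPrime] :
    IsRegularLocalRing (Localization.AtPrime q) := by
  obtain ⟨u, rfl⟩ := htu
  have hmin : ∀ (n : ℤ), 0 < n → n < (N : ℤ) → ∀ s ∈ 𝒜 n, ¬ IsUnit s := by
    intro n hn0 hnN s hs hsu
    obtain ⟨su, rfl⟩ := hsu
    have hinv := Groth.Agent.Lib.GrCyc12.inv_mem 𝒜 su hs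
    have hb : ((su⁻¹ : Rˣ) : R) * (u : R) ∈ 𝒜 (-n + N) := SetLike.mul_mem_graded hinv ht
    obtain ⟨c, hc, hEq⟩ := hm n (-n + N) hn0 (by linarith) (by ring) _ hs _ hb
    have h1 : (c : R) = 1 := by
      have h2 : (u : R) = (c : R) * u := by rw [← hEq, ← mul_assoc, Units.mul_inv, one_mul]
      have h3 : (c : R) * u * ((u⁻¹ : Rˣ) : R) = u * ((u⁻¹ : Rˣ) : R) := by rw [← h2]
      rwa [mul_assoc, Units.mul_inv, mul_one] at h3
    have h4 : c = 1 := Subtype.ext h1
    rw [h4] at hc
    exact (Ideal.ne_top_iff_one _).1 (IsLocalRing.maximalIdeal.isMaximal _).ne_top hc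
  haveI hC := Groth.Agent.Lib.GrCyc12.isRegularLocalRing_quotient 𝒜 N hN u ht hmin hreg
  haveI h1 : IsRegularRing (R ⧸ Ideal.span {(u : R) - 1}) :=
    Groth.Agent.Lib.H87Serre2.isRegularRing_of_isRegularLocalRing
  haveI h2 : IsRegularRing (Polynomial (R ⧸ Ideal.span {(u : R) - 1})) := inferInstance
  haveI h3 : IsRegularRing (LaurentPolynomial (R ⧸ Ideal.span {(u : R) - 1})) :=
    Groth.Agent.Lib.H14GeomP.isRegularRing_of_isLocalization
      (Submonoid.powers (Polynomial.X : Polynomial (R ⧸ Ideal.span {(u : R) - 1}))) _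
  haveI h4 : IsRegularRing (AdjoinRoot (Polynomial.X ^ N - Polynomial.C (u : R))) :=
    IsRegularRing.of_ringEquiv (Groth.Agent.Lib.GrCyc12.adjoinRootEquiv 𝒜 N hN u ht).symm
  exact IsRegularRing.isRegularLocalRing_localization q

end Groth.Agent.S14658
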