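import Groth.Statements.S14665
import Groth.Agent.Lib.H8FibPowBC
import Groth.Agent.Lib.IsQuot45
import Groth.Agent.Lib.QuotAffine37
import Groth.Agent.Lib.IsQuotLocal37

set_option autoImplicit false
universe u
open CategoryTheory CategoryTheory.Limits AlgebraicGeometry
open SymProd

namespace Groth.Agent.S14665


/-- Let f : X ⟶ S be a flat morphism such that every finite set of points of X lying over a single point
of S is contained in an affine open of X, let n ≥ 0 and let (Y, q, g) be an n-th symmetric power of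
X over S (q : X ×_S ⋯ ×_S X ⟶ Y a quotient of the n-fold fibre power by the symmetric group
permuting the factors: affine, invariant, identifying sections of O_Y with invariant sections; q ≫ g
= the structure map). Then the formation of the symmetric power commutes with arbitrary base change:
for any b : S' ⟶ S, with X' = X ×_S S' and f' its projection to S', let c be the morphism from the
n-fold fibre power of X' over S' to that of X over S whose components are the first projections X' ⟶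
X and which lies over b, and let q' be the morphism from the fibre power of X' to Y ×_S S' with
components c ≫ q and the structure map to S'. Then q' together with the projection Y ×_S S' ⟶ S' is
an n-th symmetric power of X' over S'. -/
theorem result {X S S' Y : Scheme.{u}} (f : X ⟶ S) [Flat f]
    (hAF : SymProd.IsAF f) (n : ℕ) (q : SymProd.fibPow f n ⟶ Y) (g : Y ⟶ S) (hq : SymProd.IsSymProd f n q g)
    (b : S' ⟶ S)
    (c : SymProd.fibPow (pullback.snd f b) n ⟶ SymProd.fibPow f n)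
    (hcπ : ∀ i : Fin n, c ≫ WidePullback.π (fun _ => f) i = WidePullback.π (fun _ => pullback.snd f b) i ≫ pullback.fst f b)
    (hcb : c ≫ WidePullback.base (fun _ => f) = WidePullback.base (fun _ => pullback.snd f b) ≫ b)
    (q' : SymProd.fibPow (pullback.snd f b) n ⟶ pullback g b)
    (hq'₁ : q' ≫ pullback.fst g b = c ≫ q)
    (hq'₂ : q' ≫ pullback.snd g b = WidePullback.base (fun _ => pullback.snd f b)) :
    SymProd.IsSymProd (pullback.snd f b) n q' (pullback.snd g b) := by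

  classical
  have hQ := hq.isQuot
  have hqinv : ∀ σ : Equiv.Perm (Fin n), permHom f n σ ≫ q = q := fun σ => hQ.inv ⟨σ⟩
  have hinv : ∀ σ : ULift.{u} (Equiv.Perm (Fin n)),
      (permActU (pullback.snd f b) n σ).hom ≫ q' = q' := fun σ =>
    Groth.Agent.Lib.H8FibPowBC.quot_inv f n b c hcπ hcb q g q' hq'₁ hq'₂ hqinv σ.down
  have hsq := Groth.Agent.Lib.H8FibPowBC.isPullback_quot f n b c hcπ hcb q g hq.over q' hq'₁ hq'₂
  haveI : IsAffineHom q := hQ.affine
  haveI : IsAffineHom q' := MorphismProperty.of_isPullback hsq.flip hQ.affine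
  refine ⟨?_, hq'₂⟩
  let 𝓥 : Set (pullback g b).Opens := {Ω | ∃ (U : X.Opens) (V : S.Opens) (V₂ : S'.Opens)
    (W' : Y.Opens), IsAffineOpen U ∧ IsAffineOpen V ∧ IsAffineOpen V₂ ∧ IsAffineOpen W' ∧
      U ≤ f ⁻¹ᵁ V ∧ V₂ ≤ b ⁻¹ᵁ V ∧ W' ≤ g ⁻¹ᵁ V ∧
      q ⁻¹ᵁ W' = Groth.Agent.Lib.H8FibPow.fibPowOpen f n U V ∧ IsAffineOpen (q ⁻¹ᵁ W') ∧
      Ω = pullback.fst g b ⁻¹ᵁ W' ⊓ pullback.snd g b ⁻¹ᵁ V₂}
  refine Groth.Agent.Lib.IsQuotLocal37.isQuot_of_affine_cover (permActU (pullback.snd f b) n) q'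
    hinv 𝓥 ?_ ?_ ?_ ?_
  · rintro Ω ⟨U, V, V₂, W', hU, hV, hV₂, hW'a, hUV, hV₂V, hW'V, hpre, hWa, hΩ⟩
    exact Groth.Agent.Lib.H8PullbackGamma.isAffineOpen_inf (IsPullback.of_hasPullback g b)
      hV hW'a hV₂ hΩ hW'V hV₂V
  · intro y'
    obtain ⟨x, hx⟩ := Groth.Agent.Lib.IsQuot45.surjective hQ (pullback.fst g b y')
    have hgb : g (q x) = (WidePullback.base (fun _ : Fin n => f)) x := by
      rw [← Scheme.Hom.comp_apply, hq.over]
    have hbs : b (pullback.snd g b y') = (WidePullback.base (fun _ : Fin n => f)) x := by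
      rw [← hgb, hx, ← Scheme.Hom.comp_apply, ← Scheme.Hom.comp_apply, pullback.condition]
    obtain ⟨V, hV, hxV, -⟩ := exists_isAffineOpen_mem_and_subset
      (x := (WidePullback.base (fun _ : Fin n => f)) x) (U := ⊤) trivial
    obtain ⟨V₂, hV₂, hs'V₂, hV₂V⟩ := exists_isAffineOpen_mem_and_subset
      (x := pullback.snd g b y') (U := b ⁻¹ᵁ V) (by change b _ ∈ V; rw [hbs]; exact hxV)
    obtain ⟨U, hU, hUV, hxW, hW⟩ :=
      Groth.Agent.Lib.H8FibPow.exists_fibPowOpen_of_AF hAF x V hV hxV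
    set W := Groth.Agent.Lib.H8FibPow.fibPowOpen f n U V with hWdef
    have hsat : q ⁻¹' (q '' (W : Set _)) = (W : Set _) := by
      apply Set.Subset.antisymm
      · rintro z ⟨w, hw, hwz⟩
        obtain ⟨σ, hσ⟩ := (Groth.Agent.Lib.IsQuot45.eq_iff_exists_smul hQ w z).mp hwz
        rw [← hσ]
        exact Groth.Agent.Lib.H8FibPow.permHom_mem_fibPowOpen hw σ.down
      · exact Set.subset_preimage_image _ _
    have hopen : IsOpen (q '' (W : Set _)) := by
      rw [← (Groth.Agent.Lib.IsQuot45.isQuotientMap hQ).isOpen_preimage, hsat]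
      exact W.isOpen
    let W' : Y.Opens := ⟨q '' (W : Set _), hopen⟩
    have hpre : q ⁻¹ᵁ W' = W := by
      ext1
      exact hsat
    have hWa : IsAffineOpen (q ⁻¹ᵁ W') := by
      rw [hpre]
      exact hW
    have hW'a : IsAffineOpen W' :=
      Groth.Agent.Lib.QuotAffine37.isAffineOpen_of_isAffineOpen_preimage hQ W' hWa
    have hW'V : W' ≤ g ⁻¹ᵁ V := by
      rintro _ ⟨w, hw, rfl⟩
      change g (q w) ∈ V
      rw [← Scheme.Hom.comp_apply, hq.over]
      exact (Groth.Agent.Lib.H8FibPow.mem_fibPowOpen.mp hw).1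
    refine ⟨pullback.fst g b ⁻¹ᵁ W' ⊓ pullback.snd g b ⁻¹ᵁ V₂,
      ⟨U, V, V₂, W', hU, hV, hV₂, hW'a, hUV, hV₂V, hW'V, hpre, hWa, rfl⟩, ?_, hs'V₂⟩
    change pullback.fst g b y' ∈ W'
    rw [← hx]
    exact ⟨x, hxW, rfl⟩
  · rintro Ω ⟨U, V, V₂, W', hU, hV, hV₂, hW'a, hUV, hV₂V, hW'V, hpre, hWa, hΩ⟩
    exact (Groth.Agent.Lib.H8FibPowBC.local_symBC f n q g hq b c hcπ hcb q' hq'₁ hq'₂ hinv
      hU hV hV₂ hW'a hUV hV₂V hW'V hpre hWa hΩ).1
  · rintro Ω ⟨U, V, V₂, W', hU, hV, hV₂, hW'a, hUV, hV₂V, hW'V, hpre, hWa, hΩ⟩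
    exact (Groth.Agent.Lib.H8FibPowBC.local_symBC f n q g hq b c hcπ hcb q' hq'₁ hq'₂ hinv
      hU hV hV₂ hW'a hUV hV₂V hW'V hpre hWa hΩ).2

end Groth.Agent.S14665
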