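import Groth.Statements.S14670
import Groth.Agent.S2599
import Groth.Agent.Lib.RegularNormal
import Groth.Agent.Lib.H8CM5
import Groth.Agent.Lib.FlatDimFormula

set_option autoImplicit false
universe u
open CAlg

namespace Groth.Agent.S14670

/-- Let R be a regular local ring and S an integral domain containing R as a subring over which it is a
finitely generated module, such that the localization of S at each of its maximal ideals is a
Cohen–Macaulay local ring. Then S is a flat R-module. (The published statement does not require S to
be a domain; in that generality it fails — for a discrete valuation ring R with residue field κ the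
ring R × κ contains R diagonally, is finite over R with Cohen–Macaulay localizations, and is not
flat — and the printed argument needs every maximal ideal of S to have height dim R, which holds
when S is a domain by going down.) -/
theorem result (R S : Type u) [CommRing R] [CommRing S]
    [IsRegularLocalRing R] [IsDomain S] [Algebra R S] [Module.Finite R S]
    (hinj : Function.Injective (algebraMap R S))
    (hCM : ∀ (q : Ideal S) [q.IsMaximal], LocCoh.IsCohenMacaulayLocalRing (Localization.AtPrime q)) :
    Module.Flat R S := by
  have hdomR : IsDomain R := hinj.isDomain (algebraMap R S)
  have hfaith : FaithfulSMul R S := (faithfulSMul_iff_algebraMap_injective R S).mpr hinj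
  have hic : IsIntegrallyClosed R := Groth.Agent.Lib.RegularNormal.isIntegrallyClosed R
  have hint : Algebra.IsIntegral R S := inferInstance
  have hgd : Algebra.HasGoingDown R S := inferInstance
  have hnoeS : IsNoetherianRing S := IsNoetherianRing.of_finite R S
  refine Module.flat_of_isLocalized_maximal S S (fun P _ => Localization.AtPrime P)
    (fun P _ => Algebra.linearMap S (Localization.AtPrime P)) ?_
  intro q hq
  have hCMq := hCM q
  have hgdq : Algebra.HasGoingDown R (Localization.AtPrime q) :=
    Algebra.HasGoingDown.trans R S (Localization.AtPrime q)
  have hunder : q.under R = IsLocalRing.maximalIdeal R := by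
    have : (q.under R).IsMaximal := Ideal.isMaximal_comap_of_isIntegral_of_isMaximal q
    exact IsLocalRing.eq_maximalIdeal this
  have hloc : IsLocalHom (algebraMap R (Localization.AtPrime q)) := by
    constructor
    intro a ha
    by_contra hna
    have hmem : a ∈ IsLocalRing.maximalIdeal R := (IsLocalRing.mem_maximalIdeal a).mpr hna
    rw [← hunder, Ideal.mem_comap] at hmem
    rw [IsScalarTower.algebraMap_apply R S (Localization.AtPrime q)] at ha
    have := (IsLocalization.AtPrime.isUnit_to_map_iff (Localization.AtPrime q) q _).mp ha
    exact this hmem
  have hdim := Groth.Agent.Lib.FlatDimFormula.ringKrullDim_eq_add_of_hasGoingDown R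
    (Localization.AtPrime q)
  refine Groth.Agent.S2599.result R (Localization.AtPrime q) (Localization.AtPrime q)
    Groth.Agent.Lib.H8CM.isCM_self_of_isCMLocalRing ?_
  rw [Module.supportDim_self_eq_ringKrullDim, hdim]
  congr 1
  exact (Groth.Agent.Lib.H8CM.supportDim_quotient_smul_top_self _).symm

end Groth.Agent.S14670
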