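import Groth.Statements.S14677
import Mathlib.RingTheory.AdicCompletion.Exactness
import Mathlib.RingTheory.AdicCompletion.AsTensorProduct

set_option autoImplicit false
universe u
open CAlg

namespace Groth.Agent.S14677

section helpers

open TensorProduct

variable {A : Type u} [CommRing A] (I : Ideal A)

/-- For a finite module, the completion is spanned over the completed ring by the image of the
module: a property of submodules of the completion containing the image holds everywhere. -/
lemma mem_of_forall_of {N : Type u} [AddCommGroup N] [Module A N] [Module.Finite A N]
    (P : Submodule (AdicCompletion I A) (AdicCompletion I N))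
    (h : ∀ x : N, AdicCompletion.of I N x ∈ P) (y : AdicCompletion I N) : y ∈ P := by
  obtain ⟨t, rfl⟩ := AdicCompletion.ofTensorProduct_surjective_of_finite I N y
  induction t using TensorProduct.induction_on with
  | zero => simp
  | tmul r x =>
    rw [AdicCompletion.ofTensorProduct_tmul]
    exact P.smul_mem r (h x)
  | add a b ha hb =>
    rw [map_add]
    exact P.add_mem ha hb

end helpers

/-- Let A be a Noetherian commutative ring, I and J ideals of A and M a finitely generated A-module.
Then the map of I-adic completions induced by the inclusion of the submodule JM into M is injective
with image exactly J·M̂, where M̂ is the I-adic completion of M; that is, the completion of JM is J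
times the completion of M. (The published statement does not say that A is Noetherian; its proof
uses exactness of completion on finitely generated modules, which needs it, so this row assumes A
Noetherian.) -/
theorem result (A : Type u) [CommRing A] [IsNoetherianRing A] (I J : Ideal A)
    (M : Type u) [AddCommGroup M] [Module A M] [Module.Finite A M] :
    Function.Injective (AdicCompletion.map I (J • (⊤ : Submodule A M)).subtype) ∧
      LinearMap.range (AdicCompletion.map I (J • (⊤ : Submodule A M)).subtype) =
        (J.map (algebraMap A (AdicCompletion I A))) • (⊤ : Submodule (AdicCompletion I A) (AdicCompletion I M)) := by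
  refine ⟨AdicCompletion.map_injective I (J • (⊤ : Submodule A M)).injective_subtype, ?_⟩
  have hNoeth : IsNoetherian A M := isNoetherian_of_isNoetherianRing_of_finite A M
  apply le_antisymm
  · rintro _ ⟨z, rfl⟩
    -- the preimage of `J' • ⊤` is a submodule containing the image of `J • ⊤`
    refine mem_of_forall_of I (Submodule.comap (AdicCompletion.map I (J • (⊤ : Submodule A M)).subtype)
      ((J.map (algebraMap A (AdicCompletion I A))) • ⊤)) (fun n => ?_) z
    rw [Submodule.mem_comap, AdicCompletion.map_of]
    obtain ⟨n, hn⟩ := n
    show AdicCompletion.of I M n ∈ _
    refine Submodule.smul_induction_on hn (fun j hj x _ => ?_) (fun x y hx hy => ?_)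
    · rw [map_smul, ← algebraMap_smul (AdicCompletion I A) j (AdicCompletion.of I M x)]
      exact Submodule.smul_mem_smul (Ideal.mem_map_of_mem _ hj) Submodule.mem_top
    · rw [map_add]
      exact Submodule.add_mem _ hx hy
  · rw [Submodule.smul_le]
    intro r hr y _
    induction hr using Submodule.span_induction with
    | mem r hr =>
      obtain ⟨j, hj, rfl⟩ := hr
      -- `j • y` lies in the range for every `y`
      refine mem_of_forall_of I (Submodule.comap
        (LinearMap.lsmul (AdicCompletion I A) (AdicCompletion I M) (algebraMap A _ j))
        (LinearMap.range (AdicCompletion.map I (J • (⊤ : Submodule A M)).subtype))) (fun x => ?_) y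
      rw [Submodule.mem_comap]
      refine ⟨AdicCompletion.of I _ ⟨j • x, Submodule.smul_mem_smul hj Submodule.mem_top⟩, ?_⟩
      rw [AdicCompletion.map_of]
      simp only [Submodule.subtype_apply, LinearMap.lsmul_apply]
      rw [algebraMap_smul, map_smul]
    | zero => simp
    | add r s _ _ hr hs =>
      rw [add_smul]
      exact Submodule.add_mem _ hr hs
    | smul a r _ hr =>
      rw [smul_eq_mul, mul_smul]
      exact Submodule.smul_mem _ a hr

end Groth.Agent.S14677
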