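import Groth.Statements.S14678
import Mathlib
import Groth.Agent.Lib.MonicTower97
-- import your own Groth.Agent.* helpers here

set_option autoImplicit false
universe u
open CategoryTheory CategoryTheory.Limits AlgebraicGeometry
open EtBase

namespace Groth.Agent.S14678

open Polynomial

/-- Let S be a scheme, s a point of S and ℓ a finite field extension of the residue field κ(s). Then,
fppf-locally around s, ℓ occurs as a residue field: there are an affine scheme U', a flat morphism b
: U' ⟶ S locally of finite presentation (so with open image containing s) and a morphism t : Spec ℓ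
⟶ U' over the canonical morphism Spec ℓ ⟶ Spec κ(s) ⟶ S which is a preimmersion, i.e. the inclusion
of a point s' of U' above s together with an identification of κ(s') with ℓ over κ(s); such a point
is closed in its fibre over s. (The published statement gives an affine open neighbourhood U of s
and an fppf morphism U' ⟶ U; this row asks only for a flat, locally finitely presented U' ⟶ S, whose
open image then contains s.) -/
theorem result (S : Scheme.{u}) (s : ↥S)
    (ℓ : Type u) [Field ℓ] [Algebra (S.residueField s) ℓ] [Module.Finite (S.residueField s) ℓ] :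
    ∃ (U' : Scheme.{u}) (b : U' ⟶ S) (t : Spec (CommRingCat.of ℓ) ⟶ U'),
      IsAffine U' ∧ Flat b ∧ LocallyOfFinitePresentation b ∧ IsPreimmersion t ∧
        t ≫ b = Spec.map (CommRingCat.ofHom (algebraMap (S.residueField s) ℓ)) ≫ S.fromSpecResidueField s := by
  classical
  obtain ⟨U, hU, hsU, -⟩ := exists_isAffineOpen_mem_and_subset (x := s) (U := ⊤) trivial
  let R : Type u := Γ(S, U)
  let κ : Type u := S.residueField s
  let g : R →+* κ := (S.residue s).hom.comp (S.presheaf.germ U s hsU).hom
  let _ : Algebra R (S.presheaf.stalk s) :=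
    TopCat.Presheaf.algebra_section_stalk S.presheaf (⟨s, hsU⟩ : U)
  have hloc : IsLocalization.AtPrime (S.presheaf.stalk s) (hU.primeIdealOf ⟨s, hsU⟩).asIdeal :=
    hU.isLocalization_stalk ⟨s, hsU⟩
  have hfrac : ∀ c : κ, ∃ a b : R, g b ≠ 0 ∧ c = g a / g b := by
    intro c
    obtain ⟨σ, rfl⟩ := S.residue_surjective s c
    obtain ⟨a, b, rfl⟩ := IsLocalization.exists_mk'_eq (hU.primeIdealOf ⟨s, hsU⟩).asIdeal.primeCompl σ
    have hbu : IsUnit ((S.presheaf.germ U s hsU).hom (b : R)) :=
      IsLocalization.map_units (S.presheaf.stalk s) b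
    have hgb : g b ≠ 0 := by
      have : IsUnit (g b) := hbu.map (S.residue s).hom
      exact this.ne_zero
    refine ⟨a, b, hgb, ?_⟩
    rw [eq_div_iff hgb]
    show (S.residue s).hom _ * (S.residue s).hom ((S.presheaf.germ U s hsU).hom (b : R)) =
      (S.residue s).hom ((S.presheaf.germ U s hsU).hom a)
    rw [← map_mul]
    congr 1
    exact IsLocalization.mk'_spec _ a b
  obtain ⟨halg, hgen⟩ := Groth.Agent.Lib.MonicTower97.alg_gen_of_fractions (L := ℓ) g hfrac
  obtain ⟨S', instS, instAlg, h, hfin, hfree, hcomp, hker, hcl⟩ :=
    Groth.Agent.Lib.MonicTower97.tower _ R ℓ _ halg _ hgen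
  let φ : CommRingCat.of R ⟶ CommRingCat.of S' := CommRingCat.ofHom (algebraMap R S')
  refine ⟨Spec (CommRingCat.of S'), Spec.map φ ≫ hU.fromSpec, Spec.map (CommRingCat.ofHom h),
    inferInstance, ?_, ?_, ?_, ?_⟩
  · have : Flat (Spec.map φ) := by
      rw [HasRingHomProperty.Spec_iff (P := @Flat)]
      exact RingHom.flat_algebraMap_iff.mpr inferInstance
    infer_instance
  · have : LocallyOfFinitePresentation (Spec.map φ) := by
      rw [HasRingHomProperty.Spec_iff (P := @LocallyOfFinitePresentation)]
      have : Module.FinitePresentation R S' := Module.finitePresentation_of_projective R S'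
      have : Algebra.FinitePresentation R S' := inferInstance
      exact RingHom.finitePresentation_algebraMap.mpr this
    infer_instance
  · apply IsPreimmersion.mk_SpecMap
    · exact Topology.IsEmbedding.of_subsingleton _
    · apply RingHom.surjectiveOnStalks_of_exists_div
      intro z
      obtain ⟨r, s', hs', hz⟩ := Groth.Agent.Lib.MonicTower97.exists_div_of_closure_eq_top h hcl z
      exact ⟨r, s', isUnit_iff_ne_zero.mpr hs', hz⟩
  · rw [Scheme.fromSpecResidueField, ← hU.fromSpecStalk_eq_fromSpecStalk hsU,
      IsAffineOpen.fromSpecStalk, ← Spec.map_comp_assoc, ← Spec.map_comp_assoc,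
      ← Spec.map_comp_assoc]
    congr 2
    ext x
    exact RingHom.congr_fun hcomp x

end Groth.Agent.S14678
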