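import Groth.Statements.S14679
import Mathlib.AlgebraicGeometry.PullbackCarrier

set_option autoImplicit false
universe u
open CategoryTheory CategoryTheory.Limits AlgebraicGeometry
open EtBase

namespace Groth.Agent.S14679

open AlgebraicGeometry.Scheme.Pullback in
/-- If the residue field map at `T.x` is bijective, the tensor of the triplet has a
one-point spectrum. -/
theorem subsingleton_spec_tensor {X Y S : Scheme.{u}} {f : X ⟶ S} {g : Y ⟶ S} (T : Triplet f g)
    (hT : Function.Bijective (f.residueFieldMap T.x).hom) :
    Subsingleton ↥(Spec T.tensor) := by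
  have h1 : IsIso (f.residueFieldMap T.x) :=
    (ConcreteCategory.isIso_iff_bijective _).mpr hT
  have h2 : IsIso ((S.residueFieldCongr T.hx).inv ≫ f.residueFieldMap T.x) := inferInstance
  have h3 : IsIso (T.tensorInr) := by
    unfold Triplet.tensorInr
    exact pushout_inr_iso_of_left_iso _ _
  let e : ↑(Y.residueField T.y) ≃+* ↑T.tensor := (asIso T.tensorInr).commRingCatIsoToRingEquiv
  have : Subsingleton (PrimeSpectrum ↑T.tensor) :=
    (PrimeSpectrum.comapEquiv e).symm.toEquiv.subsingleton
  exact this

/-- Given a morphism of schemes f : X ⟶ Y and a point x ∈ X with image y = f(x), such that the residue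
field map κ(y) → κ(x) is bijective; let ℓ be an algebraic extension field of κ(y) and form the base
change X ×_Y Spec ℓ along Spec ℓ ⟶ Spec κ(y) ⟶ Y. Then there is exactly one point of X ×_Y Spec ℓ
mapping to x under the first projection. (The published statement takes ℓ to be an algebraic closure
of κ(y), noting that any algebraic extension works, and also identifies the local ring at the point
with O_{X,x} ⊗_{O_{Y,y}} ℓ; this row allows any algebraic extension ℓ and states only the first
assertion.) -/
theorem result {X Y : Scheme.{u}} (f : X ⟶ Y) (x : ↥X)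
    (hx : Function.Bijective (f.residueFieldMap x).hom)
    (ℓ : Type u) [Field ℓ] [Algebra (Y.residueField (f.base x)) ℓ] [Algebra.IsAlgebraic (Y.residueField (f.base x)) ℓ] :
    ∃! z : ↥(pullback f (Spec.map (CommRingCat.ofHom (algebraMap (Y.residueField (f.base x)) ℓ)) ≫ Y.fromSpecResidueField (f.base x))),
      (pullback.fst f (Spec.map (CommRingCat.ofHom (algebraMap (Y.residueField (f.base x)) ℓ)) ≫ Y.fromSpecResidueField (f.base x))).base z = x := by
  classical
  set g := Spec.map (CommRingCat.ofHom (algebraMap (Y.residueField (f.base x)) ℓ)) ≫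
    Y.fromSpecResidueField (f.base x) with hg
  have hpt : ∀ p : ↥(Spec (CommRingCat.of ℓ)), g.base p = f.base x := by
    intro p
    rw [hg, Scheme.Hom.comp_apply]
    exact Scheme.fromSpecResidueField_apply (X := Y) (f.base x) _
  have hsub : Subsingleton ↥(Spec (CommRingCat.of ℓ)) :=
    inferInstanceAs (Subsingleton (PrimeSpectrum ℓ))
  have hne : Nonempty ↥(Spec (CommRingCat.of ℓ)) :=
    inferInstanceAs (Nonempty (PrimeSpectrum ℓ))
  obtain ⟨pt⟩ := hne
  obtain ⟨z, hz1, hz2⟩ := Scheme.Pullback.exists_preimage_pullback (f := f) (g := g) x pt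
    (hpt pt).symm
  refine ⟨z, hz1, ?_⟩
  intro z' hz'
  apply Scheme.Pullback.carrierEquiv.injective
  rw [Scheme.Pullback.carrierEquiv_eq_iff]
  have hT : (Scheme.Pullback.carrierEquiv z').1 = (Scheme.Pullback.carrierEquiv z).1 := by
    apply Scheme.Pullback.Triplet.ext
    · change (pullback.fst f g).base z' = (pullback.fst f g).base z
      rw [hz', hz1]
    · exact Subsingleton.elim _ _
  refine ⟨hT, ?_⟩
  have hx' : Function.Bijective (f.residueFieldMap (Scheme.Pullback.carrierEquiv z).1.x).hom := by
    have : (Scheme.Pullback.carrierEquiv z).1.x = x := hz1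
    rw [this]
    exact hx
  have := subsingleton_spec_tensor _ hx'
  exact Subsingleton.elim _ _

end Groth.Agent.S14679
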