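-- Statement S1468.
import Groth.Statements.S1468
import Groth.Agent.Lib.SmoothRegular
import Mathlib

set_option autoImplicit false
universe u
open FlatMor

namespace Groth.Agent.S1468

open TensorProduct

/-- A smooth algebra over a field is geometrically regular. -/
theorem isGeometricallyRegular_of_smooth (k : Type u) [Field k] (S : Type u) [CommRing S] [Algebra k S]
    [Algebra.Smooth k S] : CAlg.IsGeometricallyRegular k S := by
  intro k' _ _ _
  haveI : Algebra.Smooth k' (k' ⊗[k] S) := inferInstance
  exact Groth.Agent.Lib.SmoothRegular.isRegularRing_of_smooth k' (k' ⊗[k] S)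

/-- A smooth ring map is a regular homomorphism. -/
theorem isRegularHom_of_smooth (A B : Type u) [CommRing A] [CommRing B] [Algebra A B]
    [Algebra.Smooth A B] : CAlg.IsRegularHom A B := by
  refine ⟨inferInstance, ?_⟩
  intro p _
  haveI : Algebra.Smooth p.ResidueField (p.Fiber B) := inferInstance
  haveI : Algebra.FiniteType p.ResidueField (p.Fiber B) := inferInstance
  exact ⟨Algebra.FiniteType.isNoetherianRing p.ResidueField (p.Fiber B),
    isGeometricallyRegular_of_smooth p.ResidueField (p.Fiber B)⟩

open AlgebraicGeometry CategoryTheory Limits in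
/-- A smooth morphism is regular; concretely, for affine opens U ⊆ f⁻¹(V) the ring map O_Y(V) → O_X(U)
is a regular ring map (flat, with Noetherian and geometrically regular fibre rings). -/
theorem result {X Y : Scheme.{u}} (f : X ⟶ Y) [Smooth f] (U : X.Opens) (V : Y.Opens) (hU : IsAffineOpen U) (hV : IsAffineOpen V) (hUV : U ≤ f ⁻¹ᵁ V) :
    letI := (f.appLE V U hUV).hom.toAlgebra
    CAlg.IsRegularHom Γ(Y, V) Γ(X, U) := by
  have hsm := Smooth.smooth_appLE f hV hU hUV
  algebraize [(f.appLE V U hUV).hom]
  exact isRegularHom_of_smooth Γ(Y, V) Γ(X, U)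

end Groth.Agent.S1468
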