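import Groth.Statements.S14680
import Mathlib.RingTheory.AdicCompletion.Exactness
import Mathlib.RingTheory.Finiteness.Nakayama

set_option autoImplicit false
universe u
open CAlg

namespace Groth.Agent.S14680

section helpers

variable {A : Type u} [CommRing A]

/-- A finite module all of whose completions at maximal ideals vanish is zero. -/
lemma subsingleton_of_completion {N : Type u} [AddCommGroup N] [Module A N] [Module.Finite A N]
    (h : ∀ (m : Ideal A) [m.IsMaximal], Subsingleton (AdicCompletion m N)) : Subsingleton N := by
  by_contra hN
  rw [not_subsingleton_iff_nontrivial] at hN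
  have hann : Module.annihilator A N ≠ ⊤ := by
    intro htop
    have h1 : (1 : A) ∈ Module.annihilator A N := htop ▸ Submodule.mem_top
    rw [Module.mem_annihilator] at h1
    obtain ⟨x, hx⟩ := exists_ne (0 : N)
    exact hx (by simpa using h1 x)
  obtain ⟨m, hm, hle⟩ := Ideal.exists_le_maximal _ hann
  have hsub := h m
  have htop : (⊤ : Submodule A N) ≤ m • ⊤ := by
    intro x _
    have hs : Subsingleton (N ⧸ (m ^ 1 • ⊤ : Submodule A N)) :=
      (AdicCompletion.eval_surjective m N 1).subsingleton
    have h0 : Submodule.Quotient.mk (p := (m ^ 1 • ⊤ : Submodule A N)) x = 0 :=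
      Subsingleton.elim _ _
    rw [Submodule.Quotient.mk_eq_zero, pow_one] at h0
    exact h0
  obtain ⟨r, hr1, hr⟩ := Submodule.exists_sub_one_mem_and_smul_eq_zero_of_fg_of_le_smul m ⊤
    Module.Finite.fg_top htop
  have hrann : r ∈ Module.annihilator A N :=
    Module.mem_annihilator.mpr fun n => hr n trivial
  have hrm : r ∈ m := hle hrann
  have h1 : (1 : A) ∈ m := by
    have := m.sub_mem hrm hr1
    simpa using this
  exact hm.ne_top ((Ideal.eq_top_iff_one _).mpr h1)

variable [IsNoetherianRing A]

variable {M' M M'' : Type u} [AddCommGroup M'] [Module A M'] [AddCommGroup M] [Module A M]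
  [AddCommGroup M''] [Module A M''] [Module.Finite A M'] [Module.Finite A M] [Module.Finite A M'']

lemma injective_of_completion (f : M' →ₗ[A] M)
    (h : ∀ (m : Ideal A) [m.IsMaximal], Function.Injective (AdicCompletion.map m f)) :
    Function.Injective f := by
  have : IsNoetherian A M' := isNoetherian_of_isNoetherianRing_of_finite A M'
  have hK : Subsingleton (LinearMap.ker f) := by
    apply subsingleton_of_completion (A := A)
    intro m _
    refine ⟨fun z w => ?_⟩
    have hinj := AdicCompletion.map_injective m (LinearMap.ker f).injective_subtype
    apply hinj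
    apply h m
    rw [AdicCompletion.map_comp_apply, AdicCompletion.map_comp_apply,
      LinearMap.comp_ker_subtype, AdicCompletion.map_zero]
    rfl
  rw [← LinearMap.ker_eq_bot]
  exact Submodule.eq_bot_of_subsingleton

lemma surjective_of_completion (g : M →ₗ[A] M'')
    (h : ∀ (m : Ideal A) [m.IsMaximal], Function.Surjective (AdicCompletion.map m g)) :
    Function.Surjective g := by
  have hC : Subsingleton (M'' ⧸ LinearMap.range g) := by
    apply subsingleton_of_completion (A := A)
    intro m _
    have hsurj := AdicCompletion.map_surjective m (LinearMap.range g).mkQ_surjective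
    have hzero : ∀ c : AdicCompletion m (M'' ⧸ LinearMap.range g), c = 0 := by
      intro c
      obtain ⟨y, rfl⟩ := hsurj c
      obtain ⟨x, rfl⟩ := h m y
      rw [AdicCompletion.map_comp_apply, LinearMap.range_mkQ_comp, AdicCompletion.map_zero]
      rfl
    exact ⟨fun z w => by rw [hzero z, hzero w]⟩
  rw [← LinearMap.range_eq_top]
  exact Submodule.Quotient.subsingleton_iff.mp hC

lemma eq_zero_of_completion (h : M' →ₗ[A] M'')
    (hz : ∀ (m : Ideal A) [m.IsMaximal], AdicCompletion.map m h = 0) : h = 0 := by
  have : IsNoetherian A M'' := isNoetherian_of_isNoetherianRing_of_finite A M''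
  have hN : Subsingleton (LinearMap.range h) := by
    apply subsingleton_of_completion (A := A)
    intro m _
    have hinj := AdicCompletion.map_injective m (LinearMap.range h).injective_subtype
    have hsurj := AdicCompletion.map_surjective m h.surjective_rangeRestrict
    have hzero : ∀ c : AdicCompletion m (LinearMap.range h), c = 0 := by
      intro c
      obtain ⟨x, rfl⟩ := hsurj c
      apply hinj
      have hcomp : (LinearMap.range h).subtype ∘ₗ h.rangeRestrict = h := by
        ext x; rfl
      rw [AdicCompletion.map_comp_apply, hcomp, hz m]
      simp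
    exact ⟨fun z w => by rw [hzero z, hzero w]⟩
  ext x
  have : (⟨h x, LinearMap.mem_range_self h x⟩ : LinearMap.range h) = 0 := Subsingleton.elim _ _
  exact congrArg Subtype.val this

end helpers

/-- Let A be a Noetherian commutative ring and f : M' → M, g : M → M'' linear maps between finitely
generated A-modules. Then the sequence 0 → M' → M → M'' → 0 is exact — f injective, the image of f
equal to the kernel of g, g surjective — if and only if for every maximal ideal m of A the sequence
of m-adic completions 0 → M'^ → M^ → M''^ → 0 (maps induced by f and g) is exact in the same sense. -/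
theorem result (A : Type u) [CommRing A] [IsNoetherianRing A]
    (M' M M'' : Type u) [AddCommGroup M'] [Module A M'] [AddCommGroup M] [Module A M] [AddCommGroup M''] [Module A M'']
    [Module.Finite A M'] [Module.Finite A M] [Module.Finite A M''] (f : M' →ₗ[A] M) (g : M →ₗ[A] M'') :
    (Function.Injective f ∧ Function.Exact f g ∧ Function.Surjective g) ↔
      ∀ (m : Ideal A) [m.IsMaximal],
        Function.Injective (AdicCompletion.map m f) ∧ Function.Exact (AdicCompletion.map m f) (AdicCompletion.map m g) ∧
          Function.Surjective (AdicCompletion.map m g) := by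
  constructor
  · rintro ⟨hf, hfg, hg⟩ m _
    exact ⟨AdicCompletion.map_injective m hf, AdicCompletion.map_exact hf hfg hg,
      AdicCompletion.map_surjective m hg⟩
  · intro h
    have hf : Function.Injective f := injective_of_completion f fun m _ => (h m).1
    have hg : Function.Surjective g := surjective_of_completion g fun m _ => (h m).2.2
    refine ⟨hf, ?_, hg⟩
    have hgf : g ∘ₗ f = 0 := by
      apply eq_zero_of_completion
      intro m _
      rw [← AdicCompletion.map_comp]
      apply LinearMap.ext
      intro x
      exact ((h m).2.1 (AdicCompletion.map m f x)).mpr ⟨x, rfl⟩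
    intro y
    constructor
    · intro hy
      have hNoeth : IsNoetherian A M := isNoetherian_of_isNoetherianRing_of_finite A M
      have hmem : ∀ x, f x ∈ LinearMap.ker g := fun x => LinearMap.congr_fun hgf x
      have hsurj : Function.Surjective (f.codRestrict (LinearMap.ker g) hmem) := by
        apply surjective_of_completion
        intro m _ z
        have hinj := AdicCompletion.map_injective m (LinearMap.ker g).injective_subtype
        have hz : AdicCompletion.map m g (AdicCompletion.map m (LinearMap.ker g).subtype z) = 0 := by
          rw [AdicCompletion.map_comp_apply, LinearMap.comp_ker_subtype, AdicCompletion.map_zero]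
          rfl
        obtain ⟨x, hx⟩ := ((h m).2.1 _).mp hz
        refine ⟨x, hinj ?_⟩
        rw [AdicCompletion.map_comp_apply, LinearMap.subtype_comp_codRestrict, hx]
      obtain ⟨x, hx⟩ := hsurj ⟨y, hy⟩
      exact ⟨x, congrArg Subtype.val hx⟩
    · rintro ⟨x, rfl⟩
      exact LinearMap.congr_fun hgf x

end Groth.Agent.S14680
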