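-- Statement S1469.
import Groth.Statements.S1469
import Groth.Agent.S1182
import Mathlib

set_option autoImplicit false
universe u
open FlatMor

namespace Groth.Agent.S1469

open TensorProduct

/-- An integrally closed domain is a normal ring. -/
theorem isNormalRing_of_isIntegrallyClosed (R : Type u) [CommRing R] [IsDomain R]
    [IsIntegrallyClosed R] : EGA4.IsNormalRing R := by
  intro p _
  refine ⟨inferInstance, ?_⟩
  exact isIntegrallyClosed_of_isLocalization (R := R) (S := Localization.AtPrime p) p.primeCompl
    p.primeCompl_le_nonZeroDivisors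

/-- A smooth algebra over a field is geometrically normal. -/
theorem isGeomNormal_of_smooth (k : Type u) [Field k] (S : Type u) [CommRing S] [Algebra k S]
    [Algebra.Smooth k S] : EGA4.IsGeomNormal k S := by
  intro k' _ _ _
  exact (Groth.Agent.S1182.result k' (k' ⊗[k] S)).1 (isNormalRing_of_isIntegrallyClosed k')

/-- A smooth ring map is a normal homomorphism. -/
theorem isNormalHom_of_smooth (A B : Type u) [CommRing A] [CommRing B] [Algebra A B]
    [Algebra.Smooth A B] : EGA4.IsNormalHom A B := by
  refine ⟨inferInstance, ?_⟩
  intro p _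
  exact isGeomNormal_of_smooth p.ResidueField (p.Fiber B)

open AlgebraicGeometry CategoryTheory Limits in

open AlgebraicGeometry CategoryTheory Limits in
/-- A smooth morphism is normal; concretely, for affine opens U ⊆ f⁻¹(V) the ring map O_Y(V) → O_X(U) is
flat with geometrically normal fibre rings. -/
theorem result {X Y : Scheme.{u}} (f : X ⟶ Y) [Smooth f] (U : X.Opens) (V : Y.Opens) (hU : IsAffineOpen U) (hV : IsAffineOpen V) (hUV : U ≤ f ⁻¹ᵁ V) :
    letI := (f.appLE V U hUV).hom.toAlgebra
    EGA4.IsNormalHom Γ(Y, V) Γ(X, U) := by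
  have hsm := Smooth.smooth_appLE f hV hU hUV
  algebraize [(f.appLE V U hUV).hom]
  exact isNormalHom_of_smooth Γ(Y, V) Γ(X, U)

end Groth.Agent.S1469
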