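import Groth.Statements.S1471
import Mathlib.RingTheory.LocalProperties.Reduced
import Mathlib.RingTheory.KrullDimension.Zero
import Mathlib.RingTheory.Ideal.Quotient.Nilpotent

set_option autoImplicit false
universe u
open FlatMor

namespace Groth.Agent.S1471

open AlgebraicGeometry CategoryTheory Limits

/-- The fibre ring of a reduced algebra over a minimal prime is reduced. -/
lemma isReduced_fiber_of_mem_minimalPrimes {R S : Type u} [CommRing R] [CommRing S] [Algebra R S]
    [IsReduced S] (p : Ideal R) [p.IsPrime] (hp : p ∈ minimalPrimes R) :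
    IsReduced (p.Fiber S) := by
  have : Ring.KrullDimLE 0 (Localization p.primeCompl) :=
    Ring.KrullDimLE.of_isLocalization p hp (Localization p.primeCompl)
  have hbot : (IsLocalRing.maximalIdeal (Localization p.primeCompl)).map
      (algebraMap (Localization p.primeCompl)
        (Localization (Algebra.algebraMapSubmonoid S p.primeCompl))) = ⊥ := by
    rw [eq_bot_iff, Ideal.map_le_iff_le_comap, ← Ring.KrullDimLE.nilradical_eq_maximalIdeal]
    intro x hx
    rw [Ideal.mem_comap, Ideal.mem_bot]
    exact IsReduced.eq_zero _ ((mem_nilradical.mp hx).map _)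
  have hred : IsReduced (Localization (Algebra.algebraMapSubmonoid S p.primeCompl) ⧸
      (IsLocalRing.maximalIdeal (Localization p.primeCompl)).map
      (algebraMap (Localization p.primeCompl)
        (Localization (Algebra.algebraMapSubmonoid S p.primeCompl)))) := by
    rw [← Ideal.isRadical_iff_quotient_reduced, hbot]
    exact Ideal.isRadical_bot
  let _ : Algebra S (p.Fiber S) := Algebra.TensorProduct.rightAlgebra
  exact isReduced_of_injective (Ideal.Fiber.algEquivQuotient (S := S) p)
    (Ideal.Fiber.algEquivQuotient (S := S) p).injective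

lemma isReduced_fiber_Spec {R S : CommRingCat.{u}} (φ : R ⟶ S) [_root_.IsReduced S] (η : Spec R)
    (hη : closure {η} ∈ irreducibleComponents (Spec R)) : IsReduced ((Spec.map φ).fiber η) := by
  algebraize [φ.hom]
  have hp : η.asIdeal ∈ minimalPrimes R := by
    rwa [← PrimeSpectrum.vanishingIdeal_singleton, PrimeSpectrum.vanishingIdeal_mem_minimalPrimes]
  have := isReduced_fiber_of_mem_minimalPrimes (S := S) η.asIdeal hp
  have e := Spec.fiberToSpecResidueFieldIso R S η
  have e' : (Spec.map φ).fiber η ≅ Spec (.of (η.asIdeal.Fiber S)) := Arrow.leftFunc.mapIso e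
  exact isReduced_of_isOpenImmersion e'.hom

lemma isReduced_fiber_of_isReduced {X Y : Scheme.{u}} (g : X ⟶ Y) [IsReduced X] (η : Y)
    (hη : closure {η} ∈ irreducibleComponents Y) : IsReduced (g.fiber η) := by
  wlog hY : ∃ R, Y = Spec R generalizing X Y with IH
  · obtain ⟨i, η', rfl⟩ := Y.affineCover.exists_eq η
    have : IsReduced (pullback g (Y.affineCover.f i)) :=
      isReduced_of_isOpenImmersion (pullback.fst g (Y.affineCover.f i))
    have hη' : closure {η'} ∈ irreducibleComponents (Y.affineCover.X i) := by
      rw [(Y.affineCover.f i).isOpenEmbedding.closure_eq_preimage_closure_image,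
        Set.image_singleton]
      exact preimage_mem_irreducibleComponents hη (Y.affineCover.f i).isOpenEmbedding
        ⟨Y.affineCover.f i η', subset_closure rfl, _, rfl⟩
    have H := IH (pullback.snd g (Y.affineCover.f i)) η' hη' ⟨_, rfl⟩
    have h₁ : g ≫ 𝟙 Y = 𝟙 X ≫ g := by simp
    have h₂ : ((Y.affineCover.X i).fromSpecResidueField η' ≫ Y.affineCover.f i) ≫ 𝟙 Y =
        Spec.map ((Y.affineCover.f i).residueFieldMap η') ≫
          Y.fromSpecResidueField (Y.affineCover.f i η') := by simp
    have hiso : IsIso (pullback.map g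
        ((Y.affineCover.X i).fromSpecResidueField η' ≫ Y.affineCover.f i) g
        (Y.fromSpecResidueField (Y.affineCover.f i η')) (𝟙 X)
        (Spec.map ((Y.affineCover.f i).residueFieldMap η')) (𝟙 Y) h₁ h₂) :=
      pullback.map_isIso _ _ _ _ _ _ _ _ _
    let e : (pullback.snd g (Y.affineCover.f i)).fiber η' ≅ g.fiber (Y.affineCover.f i η') :=
      pullbackLeftPullbackSndIso g (Y.affineCover.f i) ((Y.affineCover.X i).fromSpecResidueField η')
        ≪≫ @asIso _ _ _ _ (pullback.map g
        ((Y.affineCover.X i).fromSpecResidueField η' ≫ Y.affineCover.f i) g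
        (Y.fromSpecResidueField (Y.affineCover.f i η')) (𝟙 X)
        (Spec.map ((Y.affineCover.f i).residueFieldMap η')) (𝟙 Y) h₁ h₂) hiso
    exact isReduced_of_isOpenImmersion e.inv
  obtain ⟨R, rfl⟩ := hY
  wlog hX : ∃ S, X = Spec S generalizing X with IH
  · apply +allowSynthFailures @IsReduced.of_openCover
      (𝒰 := Scheme.Pullback.openCoverOfLeft X.affineCover g _)
    intro i
    have : IsReduced (X.affineCover.X i) := isReduced_of_isOpenImmersion (X.affineCover.f i)
    exact IH (X.affineCover.f i ≫ g) ⟨_, rfl⟩
  obtain ⟨S, rfl⟩ := hX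
  obtain ⟨φ, rfl⟩ := Spec.map_surjective g
  have : _root_.IsReduced S := (affine_isReduced_iff S).mp ‹_›
  exact isReduced_fiber_Spec φ η hη

lemma isReduced_nilradical_subscheme (X : Scheme.{u}) : IsReduced X.nilradical.subscheme := by
  apply +allowSynthFailures @IsReduced.of_openCover
    (𝒰 := X.nilradical.subschemeCover.openCover)
  intro U
  have hrad : (X.nilradical.ideal U).IsRadical := by
    rw [Scheme.nilradical, Scheme.IdealSheafData.radical_ideal]
    exact Ideal.radical_isRadical _
  have : _root_.IsReduced (Γ(X, U.1) ⧸ X.nilradical.ideal U) :=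
    (Ideal.isRadical_iff_quotient_reduced _).mp hrad
  change IsReduced (Spec (.of (Γ(X, U.1) ⧸ X.nilradical.ideal U)))
  infer_instance

theorem result {X Y : Scheme.{u}} (f : X ⟶ Y) (η : Y) (W : Set ↑Y) (hW : W ∈ irreducibleComponents ↑Y) (hη : IsGenericPoint η W) :
    IsReduced ((X.nilradical.subschemeι ≫ f).fiber η) := by
  have := isReduced_nilradical_subscheme X
  exact isReduced_fiber_of_isReduced _ η (hη.def.symm ▸ hW)

end Groth.Agent.S1471
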