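import Groth.Statements.S14727
import Mathlib.RingTheory.AdicCompletion.Functoriality
import Mathlib.RingTheory.Localization.AtPrime.Basic
import Mathlib.RingTheory.Localization.Ideal
import Mathlib.RingTheory.Ideal.Quotient.Operations
import Mathlib.RingTheory.Ideal.Maximal
import Mathlib.Tactic

set_option autoImplicit false
universe u
open ValPrufer

namespace Groth.Agent.S14727

section core

variable {R : Type u} [CommRing R] (I : Ideal R)
  (hI : ∀ (p : Ideal R), p.IsPrime → I ≤ p → p.IsMaximal)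

/-- the kernel of `R → R_m / I^n R_m`. -/
def qq (n : ℕ) (m : Ideal R) [m.IsPrime] : Ideal R :=
  Ideal.comap (algebraMap R (Localization.AtPrime m)) (Ideal.map (algebraMap R (Localization.AtPrime m)) (I ^ n))

lemma mem_qq (n : ℕ) (m : Ideal R) [m.IsPrime] (r : R) :
    r ∈ qq I n m ↔ ∃ t, t ∉ m ∧ t * r ∈ I ^ n := by
  unfold qq
  rw [Ideal.mem_comap, IsLocalization.algebraMap_mem_map_algebraMap_iff m.primeCompl]
  constructor
  · rintro ⟨t, ht, h⟩
    exact ⟨t, ht, h⟩
  · rintro ⟨t, ht, h⟩
    exact ⟨t, ht, h⟩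

lemma mem_smul_top_iff (n : ℕ) (m : Ideal R) [m.IsPrime] (x : Localization.AtPrime m) :
    x ∈ (I ^ n • ⊤ : Submodule R (Localization.AtPrime m)) ↔
      x ∈ Ideal.map (algebraMap R (Localization.AtPrime m)) (I ^ n) := by
  rw [Ideal.smul_top_eq_map]
  rfl

lemma pow_le_qq (n : ℕ) (m : Ideal R) [m.IsPrime] : I ^ n ≤ qq I n m := by
  intro r hr
  rw [mem_qq]
  exact ⟨1, fun h => (Ideal.ne_top_iff_one m).1 (Ideal.IsPrime.ne_top ‹_›) h, by simpa using hr⟩

include hI in
/-- a prime containing `q_m` is `m`. -/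
lemma eq_of_qq_le (n : ℕ) (m : Ideal R) [hm : m.IsMaximal] (p : Ideal R) [hp : p.IsPrime]
    (h : qq I n m ≤ p) : p = m := by
  have hIp : I ≤ p := Ideal.IsPrime.le_of_pow_le ((pow_le_qq I n m).trans h)
  have hpmax : p.IsMaximal := hI p hp hIp
  by_contra hne
  -- b ∈ p \ m
  have hnle : ¬ p ≤ m := fun hle => hne (hpmax.eq_of_le hm.ne_top hle)
  obtain ⟨b, hbp, hbm⟩ := Set.not_subset.1 hnle
  -- the multiplicative set S = {t b^N}
  let S : Submonoid R := p.primeCompl ⊔ Submonoid.powers b
  by_cases hdisj : Disjoint ((I ^ n : Ideal R) : Set R) (S : Set R)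
  · obtain ⟨p', hp', hle, hd⟩ := Ideal.exists_le_prime_disjoint (I ^ n) S hdisj
    have hIp' : I ≤ p' := Ideal.IsPrime.le_of_pow_le hle
    have hp'max : p'.IsMaximal := hI p' hp' hIp'
    have hp'p : p' ≤ p := by
      intro x hx
      by_contra hxp
      exact Set.disjoint_left.1 hd hx (Submonoid.mem_sup_left (show x ∈ p.primeCompl from hxp))
    have : p' = p := hp'max.eq_of_le hp.ne_top hp'p
    have hb' : b ∈ S := Submonoid.mem_sup_right (Submonoid.mem_powers b)
    exact Set.disjoint_left.1 hd (this ▸ hbp) hb'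
  · rw [Set.not_disjoint_iff] at hdisj
    obtain ⟨x, hxI, hxS⟩ := hdisj
    obtain ⟨t, ht, c, ⟨N, rfl⟩, rfl⟩ := Submonoid.mem_sup.1 hxS
    -- t ∈ q_m, t ∉ p
    have htq : t ∈ qq I n m := by
      rw [mem_qq]
      refine ⟨b ^ N, fun hb => hbm (hm.isPrime.mem_of_pow_mem N hb), ?_⟩
      rw [mul_comm]
      exact hxI
    exact ht (h htq)

include hI in
lemma isCoprime_qq (n : ℕ) (m m' : Ideal R) [hm : m.IsMaximal] [hm' : m'.IsMaximal] (hne : m ≠ m') :
    IsCoprime (qq I n m) (qq I n m') := by
  rw [Ideal.isCoprime_iff_sup_eq]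
  by_contra htop
  obtain ⟨M, hM, hle⟩ := Ideal.exists_le_maximal _ htop
  have h1 := eq_of_qq_le I hI n m M (le_sup_left.trans hle)
  have h2 := eq_of_qq_le I hI n m' M (le_sup_right.trans hle)
  exact hne (h1.symm.trans h2)

include hI in
lemma exists_inv_mod_qq (n : ℕ) (m : Ideal R) [hm : m.IsMaximal] (s : R) (hs : s ∉ m) :
    ∃ r', s * r' - 1 ∈ qq I n m := by
  have htop : Ideal.span {s} ⊔ qq I n m = ⊤ := by
    by_contra htop
    obtain ⟨M, hM, hle⟩ := Ideal.exists_le_maximal _ htop
    have h1 := eq_of_qq_le I hI n m M (le_sup_right.trans hle)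
    exact hs (h1 ▸ (le_sup_left.trans hle) (Ideal.mem_span_singleton_self s))
  have h1 : (1 : R) ∈ Ideal.span {s} ⊔ qq I n m := by rw [htop]; trivial
  obtain ⟨a, ha, q, hq, haq⟩ := Submodule.mem_sup.1 h1
  obtain ⟨r', rfl⟩ := Ideal.mem_span_singleton'.1 ha
  refine ⟨r', ?_⟩
  have : s * r' - 1 = -q := by rw [← haq]; ring
  rw [this]
  exact (qq I n m).neg_mem hq


/-- level-`n` injectivity. -/
lemma mem_pow_of_forall_mem_qq (n : ℕ) (r : R)
    (h : ∀ (m : Ideal R) [m.IsMaximal], I ≤ m → r ∈ qq I n m) : r ∈ I ^ n := by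
  -- colon ideal
  let a : Ideal R := (I ^ n).colon (Ideal.span {r})
  have mem_a : ∀ t, t ∈ a ↔ t * r ∈ I ^ n := by
    intro t
    simp only [a]
    rw [Submodule.mem_colon_span_singleton]
    rfl
  by_cases htop : a = ⊤
  · have : (1 : R) ∈ a := by rw [htop]; trivial
    simpa using (mem_a 1).1 this
  · exfalso
    obtain ⟨M, hM, hle⟩ := Ideal.exists_le_maximal _ htop
    have hpow : I ^ n ≤ M := by
      intro i hi
      apply hle
      rw [mem_a]
      exact Ideal.mul_mem_right _ _ hi
    have hIM : I ≤ M := Ideal.IsPrime.le_of_pow_le hpow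
    obtain ⟨t, ht, htr⟩ := (mem_qq I n M r).1 (h M hIM)
    exact ht (hle ((mem_a t).2 htr))


include hI in
/-- level-`n` surjectivity. -/
lemma exists_lift_level [Finite (MaximalSpectrum R)] (n : ℕ)
    (y : ∀ m : {m : MaximalSpectrum R // I ≤ m.asIdeal},
      Localization.AtPrime m.1.asIdeal ⧸
        (I ^ n • ⊤ : Submodule R (Localization.AtPrime m.1.asIdeal))) :
    ∃ x : R, ∀ m : {m : MaximalSpectrum R // I ≤ m.asIdeal},
      (Submodule.Quotient.mk (algebraMap R (Localization.AtPrime m.1.asIdeal) x) :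
        Localization.AtPrime m.1.asIdeal ⧸
          (I ^ n • ⊤ : Submodule R (Localization.AtPrime m.1.asIdeal))) = y m := by
  choose z hz using fun m => Submodule.Quotient.mk_surjective _ (y m)
  have hsurj : ∀ m : {m : MaximalSpectrum R // I ≤ m.asIdeal}, ∃ (a s : R), s ∉ m.1.asIdeal ∧
      z m * algebraMap R (Localization.AtPrime m.1.asIdeal) s =
        algebraMap R (Localization.AtPrime m.1.asIdeal) a := by
    intro m
    obtain ⟨⟨a, s⟩, h⟩ := IsLocalization.surj m.1.asIdeal.primeCompl (z m)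
    exact ⟨a, s.1, s.2, h⟩
  choose a s hs has using hsurj
  choose r' hr' using fun m : {m : MaximalSpectrum R // I ≤ m.asIdeal} =>
    exists_inv_mod_qq I hI n m.1.asIdeal (s m) (hs m)
  have hpair : Pairwise (Function.onFun IsCoprime fun m : {m : MaximalSpectrum R // I ≤ m.asIdeal} =>
      qq I n m.1.asIdeal) := by
    intro m m' hne
    apply isCoprime_qq I hI n
    intro h
    exact hne (Subtype.ext (MaximalSpectrum.ext h))
  obtain ⟨x, hx⟩ := Ideal.exists_forall_sub_mem_ideal hpair (fun m => a m * r' m)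
  refine ⟨x, fun m => ?_⟩
  rw [← hz m, Submodule.Quotient.eq, mem_smul_top_iff]
  have h1 : algebraMap R (Localization.AtPrime m.1.asIdeal) (x - a m * r' m) ∈
      Ideal.map (algebraMap R (Localization.AtPrime m.1.asIdeal)) (I ^ n) := hx m
  have h2 : algebraMap R (Localization.AtPrime m.1.asIdeal) (s m * r' m - 1) ∈
      Ideal.map (algebraMap R (Localization.AtPrime m.1.asIdeal)) (I ^ n) := hr' m
  have : algebraMap R (Localization.AtPrime m.1.asIdeal) x - z m =
      algebraMap R (Localization.AtPrime m.1.asIdeal) (x - a m * r' m) +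
        z m * algebraMap R (Localization.AtPrime m.1.asIdeal) (s m * r' m - 1) := by
    simp only [map_sub, map_mul, map_one]
    rw [← has m]
    ring
  rw [this]
  exact Ideal.add_mem _ h1 (Ideal.mul_mem_left _ _ h2)

end core


theorem result
    (R : Type u) [CommRing R] (hR : Finite (MaximalSpectrum R)) (I : Ideal R)
    (hI : ∀ (p : Ideal R), p.IsPrime → I ≤ p → p.IsMaximal) :
    Function.Bijective (LinearMap.pi (fun m : {m : MaximalSpectrum R // I ≤ m.asIdeal} =>
      AdicCompletion.map I (Algebra.linearMap R (Localization.AtPrime m.1.asIdeal)))) := by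
  constructor
  · rw [injective_iff_map_eq_zero]
    intro x hx
    apply AdicCompletion.ext
    intro n
    rw [AdicCompletion.val_zero_apply]
    obtain ⟨r, hr⟩ := Submodule.Quotient.mk_surjective _ (x.val n)
    rw [← hr, Submodule.Quotient.mk_eq_zero]
    have hrn : r ∈ I ^ n := by
      apply mem_pow_of_forall_mem_qq I n r
      intro m hm hIm
      have h1 := congrFun hx ⟨⟨m, hm⟩, hIm⟩
      have h2 : (AdicCompletion.map I (Algebra.linearMap R (Localization.AtPrime m)) x).val n = 0 := by
        have := congrArg (fun y => y.val n) h1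
        simpa using this
      rw [AdicCompletion.map_val_apply, ← hr, LinearMap.reduceModIdeal_apply,
        Submodule.Quotient.mk_eq_zero, mem_smul_top_iff] at h2
      exact h2
    simpa using hrn
  · intro y
    have hlev : ∀ n : ℕ, ∃ x : R, ∀ m : {m : MaximalSpectrum R // I ≤ m.asIdeal},
        (Submodule.Quotient.mk (algebraMap R (Localization.AtPrime m.1.asIdeal) x) :
          Localization.AtPrime m.1.asIdeal ⧸
            (I ^ n • ⊤ : Submodule R (Localization.AtPrime m.1.asIdeal))) = (y m).val n :=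
      fun n => exists_lift_level I hI n (fun m => (y m).val n)
    choose xs hxs using hlev
    have compat : ∀ {m n : ℕ} (hmn : m ≤ n), xs n - xs m ∈ I ^ m := by
      intro m n hmn
      apply mem_pow_of_forall_mem_qq I m
      intro M hM hIM
      have h1 := hxs n ⟨⟨M, hM⟩, hIM⟩
      have h2 := hxs m ⟨⟨M, hM⟩, hIM⟩
      have h3 := AdicCompletion.transitionMap_comp_eval_apply I _ hmn (y ⟨⟨M, hM⟩, hIM⟩)
      rw [← h1, ← h2] at h3
      unfold qq
      rw [Ideal.mem_comap, ← mem_smul_top_iff, map_sub, ← Submodule.Quotient.eq]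
      exact h3
    refine ⟨⟨fun n => Submodule.Quotient.mk (xs n), ?_⟩, ?_⟩
    · intro m n hmn
      change (Submodule.Quotient.mk (xs n) : R ⧸ (I ^ m • ⊤ : Submodule R R)) =
        Submodule.Quotient.mk (xs m)
      rw [Submodule.Quotient.eq]
      simpa using compat hmn
    · funext m
      apply AdicCompletion.ext
      intro n
      rw [LinearMap.pi_apply, AdicCompletion.map_val_apply]
      exact hxs n m

end Groth.Agent.S14727
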