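import Groth.Statements.S14728
import Mathlib.RingTheory.RingHom.Surjective
import Mathlib.RingTheory.Localization.LocalizationLocalization

set_option autoImplicit false
universe u
open ValPrufer

namespace Groth.Agent.S14728

/-- The valuation ring condition passes to surjective images which are domains. -/
theorem valuationRing_of_surjective {V W : Type u} [CommRing V] [IsDomain V] [ValuationRing V]
    [CommRing W] [IsDomain W] (φ : V →+* W) (hφ : Function.Surjective φ) : ValuationRing W := by
  refine { cond' := fun a' b' => ?_ }
  obtain ⟨a, rfl⟩ := hφ a'
  obtain ⟨b, rfl⟩ := hφ b'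
  obtain ⟨c, hc | hc⟩ := ValuationRing.cond a b
  · exact ⟨φ c, Or.inl (by rw [← map_mul, hc])⟩
  · exact ⟨φ c, Or.inr (by rw [← map_mul, hc])⟩

/-- Let R be a Prüfer domain, i.e. a domain all of whose local rings at primes are valuation rings. (a)
For a multiplicative subset S, any localisation B = S⁻¹R that is a domain (S not containing 0) is a
Prüfer domain. (b) For a prime ideal I, the quotient R/I is a Prüfer domain. -/
theorem result
    (R : Type u) [CommRing R] [IsDomain R]
    (hR : ∀ (p : Ideal R) [p.IsPrime], ValuationRing (Localization.AtPrime p))
    (S : Submonoid R) (B : Type u) [CommRing B] [IsDomain B] [Algebra R B] [IsLocalization S B]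
    (I : Ideal R) [I.IsPrime] :
    (∀ (q : Ideal B) [q.IsPrime], ValuationRing (Localization.AtPrime q)) ∧
      (∀ (q : Ideal (R ⧸ I)) [q.IsPrime], ValuationRing (Localization.AtPrime q)) := by
  refine ⟨?_, ?_⟩
  · intro q hq
    have hp : (q.comap (algebraMap R B)).IsPrime := Ideal.comap_isPrime _ _
    have hloc : IsLocalization.AtPrime (Localization.AtPrime q) (q.comap (algebraMap R B)) :=
      IsLocalization.isLocalization_isLocalization_atPrime_isLocalization S _ q
    let e : Localization.AtPrime (q.comap (algebraMap R B)) ≃ₐ[R] Localization.AtPrime q :=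
      IsLocalization.algEquiv (q.comap (algebraMap R B)).primeCompl _ _
    have := hR (q.comap (algebraMap R B))
    exact valuationRing_of_surjective e.toRingEquiv.toRingHom e.surjective
  · intro q hq
    have hp : (q.comap (Ideal.Quotient.mk I)).IsPrime := Ideal.comap_isPrime _ _
    have := hR (q.comap (Ideal.Quotient.mk I))
    exact valuationRing_of_surjective _
      (RingHom.surjective_localRingHom_of_surjective (Ideal.Quotient.mk I)
        Ideal.Quotient.mk_surjective q)

end Groth.Agent.S14728
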