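import Groth.Statements.S14729
import Mathlib

set_option autoImplicit false
universe u
open ValPrufer

namespace Groth.Agent.S14729

set_option linter.unusedSectionVars false

open Finset

section val
variable {L : Type*} [Field L] {Γ : Type*} [LinearOrderedCommGroupWithZero Γ] (v : Valuation L Γ)

/-- geometric sums: if `v x ≤ 1` and `v (y_d) < 1` then `v (y_{t d}) < 1`. -/
theorem geom_lt_one_mul {x : L} (hx : v x ≤ 1) {d : ℕ} (hd : v (∑ j ∈ range d, x ^ j) < 1) (t : ℕ) :
    v (∑ j ∈ range (t * d), x ^ j) < 1 := by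
  induction t with
  | zero => simp
  | succ t ih =>
    rw [Nat.succ_mul, Finset.sum_range_add]
    have h2 : ∑ j ∈ range d, x ^ (t * d + j) = x ^ (t * d) * ∑ j ∈ range d, x ^ j := by
      rw [Finset.mul_sum]
      exact Finset.sum_congr rfl fun j _ => pow_add x _ _
    rw [h2]
    refine lt_of_le_of_lt (v.map_add _ _) (max_lt ih ?_)
    rw [map_mul, map_pow]
    calc v x ^ (t * d) * v (∑ j ∈ range d, x ^ j) ≤ 1 * v (∑ j ∈ range d, x ^ j) := by
          gcongr
          exact pow_le_one' hx _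
      _ < 1 := by rw [one_mul]; exact hd

theorem geom_eq_one_of_succ_mul {x : L} (hx : v x ≤ 1) {d : ℕ}
    (hd : v (∑ j ∈ range d, x ^ j) < 1) (t : ℕ) :
    v (∑ j ∈ range (t * d + 1), x ^ j) = 1 := by
  rw [geom_sum_succ, add_comm]
  apply Valuation.map_one_add_of_lt
  rw [map_mul]
  calc v x * v (∑ j ∈ range (t * d), x ^ j) ≤ 1 * v (∑ j ∈ range (t * d), x ^ j) := by
        gcongr
    _ < 1 := by rw [one_mul]; exact geom_lt_one_mul v hx hd t

theorem geom_of_one_lt {x : L} (hx : 1 < v x) (s : ℕ) :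
    v (∑ j ∈ range (s + 1), x ^ j) = v x ^ s := by
  induction s with
  | zero => simp
  | succ s ih =>
    rw [geom_sum_succ', ← map_pow]
    apply Valuation.map_add_eq_of_lt_left
    rw [ih, map_pow]
    exact pow_lt_pow_right₀ hx (Nat.lt_succ_self s)

end val

theorem exists_denominator {L : Type*} [Field L] {ι : Type*} [Finite ι] [Nonempty ι]
    (V : ι → ValuationSubring L) (x : L) :
    ∃ y : L, y ≠ 0 ∧ (∀ K : Subfield L, x ∈ K → y ∈ K) ∧ (∀ i, y⁻¹ ∈ V i) ∧
      (∀ i, x * y⁻¹ ∈ V i) ∧ (∀ i, x ∈ V i → y ∈ V i) := by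
  classical
  have := Fintype.ofFinite ι
  let bad : ι → Prop := fun i => ∃ d, 1 ≤ d ∧ (V i).valuation (∑ j ∈ range d, x ^ j) < 1
  let d : ι → ℕ := fun i => if h : bad i then Nat.find h else 1
  have hd1 : ∀ i, 1 ≤ d i := by
    intro i
    simp only [d]
    split_ifs with h
    · exact (Nat.find_spec h).1
    · exact le_refl 1
  set s' : ℕ := ∏ i, d i with hs'
  have hs'1 : 1 ≤ s' := Nat.one_le_iff_ne_zero.mpr (Finset.prod_ne_zero_iff.mpr
    fun i _ => Nat.one_le_iff_ne_zero.mp (hd1 i))
  set y : L := ∑ j ∈ range (s' + 1), x ^ j with hy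
  -- valuation of y at each i
  have hval : ∀ i, (x ∈ V i → (V i).valuation y = 1) ∧
      (x ∉ V i → (V i).valuation y = (V i).valuation x ^ s') := by
    intro i
    constructor
    · intro hx
      have hx1 : (V i).valuation x ≤ 1 := ((V i).valuation_le_one_iff x).mpr hx
      by_cases h : bad i
      · have hdi : d i = Nat.find h := by simp only [d]; rw [dif_pos h]
        have hspec := (Nat.find_spec h).2
        rw [← hdi] at hspec
        obtain ⟨t, ht⟩ : d i ∣ s' := Finset.dvd_prod_of_mem d (Finset.mem_univ i)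
        rw [hy, ht, mul_comm]
        exact geom_eq_one_of_succ_mul _ hx1 hspec t
      · have hymem : y ∈ V i := by
          rw [hy]
          exact sum_mem fun j _ => pow_mem hx j
        have hle : (V i).valuation y ≤ 1 := ((V i).valuation_le_one_iff y).mpr hymem
        have hnlt : ¬ (V i).valuation y < 1 := by
          intro hlt
          exact h ⟨s' + 1, Nat.le_add_left 1 s', hlt⟩
        exact le_antisymm hle (not_lt.mp hnlt)
    · intro hx
      have hx1 : 1 < (V i).valuation x := by
        rw [← not_le, (V i).valuation_le_one_iff]; exact hx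
      exact geom_of_one_lt _ hx1 s'
  obtain ⟨i₀⟩ := ‹Nonempty ι›
  have hy0 : y ≠ 0 := by
    intro h0
    by_cases hx : x ∈ V i₀
    · have := (hval i₀).1 hx
      rw [h0, map_zero] at this
      exact zero_ne_one this
    · have h2 := (hval i₀).2 hx
      rw [h0, map_zero] at h2
      have hx1 : 1 < (V i₀).valuation x := by
        rw [← not_le, (V i₀).valuation_le_one_iff]; exact hx
      have h3 : (V i₀).valuation x ^ s' ≠ 0 := pow_ne_zero _ (ne_of_gt (lt_trans zero_lt_one hx1))
      exact h3 h2.symm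
  refine ⟨y, hy0, ?_, ?_, ?_, ?_⟩
  · intro K hxK
    rw [hy]
    exact sum_mem fun j _ => pow_mem hxK j
  · intro i
    rw [← (V i).valuation_le_one_iff, map_inv₀]
    by_cases hx : x ∈ V i
    · rw [(hval i).1 hx, inv_one]
    · rw [(hval i).2 hx]
      have hx1 : 1 < (V i).valuation x := by
        rw [← not_le, (V i).valuation_le_one_iff]; exact hx
      exact inv_le_one_of_one_le₀ (one_le_pow₀ hx1.le)
  · intro i
    rw [← (V i).valuation_le_one_iff, map_mul, map_inv₀]
    by_cases hx : x ∈ V i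
    · rw [(hval i).1 hx, inv_one, mul_one]
      exact ((V i).valuation_le_one_iff x).mpr hx
    · rw [(hval i).2 hx]
      have hx1 : 1 < (V i).valuation x := by
        rw [← not_le, (V i).valuation_le_one_iff]; exact hx
      have hne : (V i).valuation x ^ s' ≠ 0 := pow_ne_zero _ (ne_of_gt (lt_trans zero_lt_one hx1))
      rw [mul_inv_le_iff₀ (lt_of_le_of_ne zero_le hne.symm), one_mul]
      exact le_self_pow₀ hx1.le (Nat.one_le_iff_ne_zero.mp hs'1)
  · intro i hx
    rw [← (V i).valuation_le_one_iff, (hval i).1 hx]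

section abstract

variable {L : Type*} [Field L] {ι : Type*} [Finite ι] [Nonempty ι]
  (V : ι → ValuationSubring L) (K : Subfield L) (S : Subring L)
  (hS : ∀ x, x ∈ S ↔ (∀ i, x ∈ V i) ∧ x ∈ K)

include hS

theorem exists_frac (x : L) (hx : x ∈ K) :
    ∃ a b : L, a ∈ S ∧ b ∈ S ∧ b ≠ 0 ∧ x = a / b ∧ ∀ i, x ∈ V i → b⁻¹ ∈ V i := by
  obtain ⟨y, hy0, hyK, h1, h2, h3⟩ := exists_denominator V x
  refine ⟨x * y⁻¹, y⁻¹, (hS _).mpr ⟨h2, K.mul_mem hx (K.inv_mem (hyK K hx))⟩,
    (hS _).mpr ⟨h1, K.inv_mem (hyK K hx)⟩, inv_ne_zero hy0, ?_, ?_⟩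
  · field_simp
  · intro i hi
    rw [inv_inv]; exact h3 i hi

/-- The prime `P i` of `S`: elements that are nonunits of `V i`. -/
def P (i : ι) : Ideal S where
  carrier := {a | (V i).valuation (a : L) < 1}
  add_mem' := by
    intro a b ha hb
    exact lt_of_le_of_lt ((V i).valuation.map_add _ _) (max_lt ha hb)
  zero_mem' := by
    show (V i).valuation ((0 : S) : L) < 1
    simp
  smul_mem' := by
    intro c a ha
    show (V i).valuation ((c * a : S) : L) < 1
    rw [Subring.coe_mul, map_mul]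
    have hc : (V i).valuation (c : L) ≤ 1 :=
      ((V i).valuation_le_one_iff _).mpr (((hS _).mp c.2).1 i)
    calc (V i).valuation (c : L) * (V i).valuation (a : L) ≤ 1 * (V i).valuation (a : L) := by
          gcongr
      _ < 1 := by rw [one_mul]; exact ha

theorem mem_P (i : ι) (a : S) : a ∈ P V K S hS i ↔ (V i).valuation (a : L) < 1 := Iff.rfl

theorem val_le_one (i : ι) (a : S) : (V i).valuation (a : L) ≤ 1 :=
  ((V i).valuation_le_one_iff _).mpr (((hS _).mp a.2).1 i)

instance P_isPrime (i : ι) : (P V K S hS i).IsPrime := by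
  constructor
  · rw [Ne, Ideal.eq_top_iff_one, mem_P]
    simp
  · intro a b hab
    rw [mem_P, Subring.coe_mul, map_mul] at hab
    by_contra hcon
    push Not at hcon
    rw [mem_P, mem_P, not_lt, not_lt] at hcon
    have ha := le_antisymm (val_le_one V K S hS i a) hcon.1
    have hb := le_antisymm (val_le_one V K S hS i b) hcon.2
    rw [ha, hb, one_mul] at hab
    exact lt_irrefl _ hab

theorem exists_eq_P_of_isMaximal (M : Ideal S) [hM : M.IsMaximal] : ∃ i, M = P V K S hS i := by
  classical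
  have := Fintype.ofFinite ι
  by_contra hcon
  push Not at hcon
  have hnle : ∀ i, ¬ M ≤ P V K S hS i := by
    intro i hle
    exact hcon i (hM.eq_of_le (P_isPrime V K S hS i).ne_top hle)
  obtain ⟨i₀⟩ := ‹Nonempty ι›
  have hav := (Ideal.subset_union_prime (s := Finset.univ) (f := P V K S hS) i₀ i₀
    (fun i _ _ _ => P_isPrime V K S hS i) (I := M)).not.mpr (by
      push Not
      intro i _
      exact hnle i)
  rw [Set.not_subset] at hav
  obtain ⟨a, haM, hau⟩ := hav
  simp only [Finset.coe_univ, Set.mem_univ, Set.iUnion_true, Set.mem_iUnion, SetLike.mem_coe,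
    not_exists] at hau
  have hval : ∀ i, (V i).valuation (a : L) = 1 := fun i =>
    le_antisymm (val_le_one V K S hS i a) (not_lt.mp (hau i))
  have ha0 : (a : L) ≠ 0 := by
    intro h0
    have := hval i₀
    rw [h0, map_zero] at this
    exact zero_ne_one this
  have hinv : (a : L)⁻¹ ∈ S := by
    rw [hS]
    refine ⟨fun i => ?_, K.inv_mem ((hS _).mp a.2).2⟩
    rw [← (V i).valuation_le_one_iff, map_inv₀, hval i, inv_one]
  have h1 : (1 : S) ∈ M := by
    have : (1 : S) = a * ⟨(a : L)⁻¹, hinv⟩ := by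
      apply Subtype.ext
      simp [mul_inv_cancel₀ ha0]
    rw [this]
    exact M.mul_mem_right _ haM
  exact hM.ne_top ((Ideal.eq_top_iff_one M).mpr h1)

theorem finite_maximalSpectrum : Finite (MaximalSpectrum S) := by
  classical
  choose f hf using fun M : MaximalSpectrum S =>
    @exists_eq_P_of_isMaximal L _ ι _ _ V K S hS M.asIdeal M.isMaximal
  apply Finite.of_injective f
  intro M N h
  ext1
  rw [hf M, hf N, h]

theorem dvd_aux (p : Ideal S) [p.IsPrime] (i : ι) (hpi : p ≤ P V K S hS i) (a₁ b₁ : S)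
    (hb : b₁ ≠ 0) (hx : (a₁ : L) / b₁ ∈ V i) (s t : p.primeCompl) :
    ∃ c : Localization.AtPrime p,
      IsLocalization.mk' (Localization.AtPrime p) b₁ t * c =
        IsLocalization.mk' (Localization.AtPrime p) a₁ s := by
  have hb0 : (b₁ : L) ≠ 0 := fun h => hb (Subtype.ext h)
  have hxK : (a₁ : L) / b₁ ∈ K := K.div_mem ((hS _).mp a₁.2).2 ((hS _).mp b₁.2).2
  obtain ⟨c, d, hcS, hdS, hd0, hxeq, hdinv⟩ := exists_frac V K S hS _ hxK
  have hdi : d⁻¹ ∈ V i := hdinv i hx
  have hvd : (V i).valuation d = 1 := by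
    apply le_antisymm (val_le_one V K S hS i ⟨d, hdS⟩)
    have h1 : (V i).valuation d⁻¹ ≤ 1 := ((V i).valuation_le_one_iff _).mpr hdi
    rw [map_inv₀] at h1
    have hne : (V i).valuation d ≠ 0 := (Valuation.ne_zero_iff _).mpr hd0
    exact (inv_le_one₀ (lt_of_le_of_ne zero_le hne.symm)).mp h1
  have hDp : (⟨d, hdS⟩ : S) ∈ p.primeCompl := by
    intro hmem
    have := hpi hmem
    rw [mem_P] at this
    rw [hvd] at this
    exact lt_irrefl _ this
  have hcross : a₁ * (⟨d, hdS⟩ : S) = b₁ * ⟨c, hcS⟩ := by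
    apply Subtype.ext
    show (a₁ : L) * d = b₁ * c
    have h1 : (a₁ : L) = b₁ * (c / d) := by
      rw [← hxeq]; field_simp
    rw [h1]; field_simp
  refine ⟨IsLocalization.mk' (Localization.AtPrime p) ((t : S) * ⟨c, hcS⟩)
    (s * ⟨⟨d, hdS⟩, hDp⟩), ?_⟩
  rw [← IsLocalization.mk'_mul]
  apply IsLocalization.mk'_eq_of_eq
  show ((t : S) * ((s : S) * ⟨d, hdS⟩)) * a₁ = (s : S) * (b₁ * ((t : S) * ⟨c, hcS⟩))
  linear_combination ((t : S) * (s : S)) * hcross

theorem valuationRing_localization (p : Ideal S) [hp : p.IsPrime] :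
    ValuationRing (Localization.AtPrime p) := by
  obtain ⟨M, hM, hpM⟩ := Ideal.exists_le_maximal p hp.ne_top
  obtain ⟨i, rfl⟩ := exists_eq_P_of_isMaximal V K S hS M
  suffices PreValuationRing (Localization.AtPrime p) from ValuationRing.mk
  constructor
  intro a b
  obtain ⟨a₁, s, rfl⟩ := IsLocalization.exists_mk'_eq p.primeCompl a
  obtain ⟨b₁, t, rfl⟩ := IsLocalization.exists_mk'_eq p.primeCompl b
  by_cases ha : a₁ = 0
  · refine ⟨0, Or.inr ?_⟩
    rw [ha, IsLocalization.mk'_zero, mul_zero]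
  by_cases hb : b₁ = 0
  · refine ⟨0, Or.inl ?_⟩
    rw [hb, IsLocalization.mk'_zero, mul_zero]
  rcases (V i).mem_or_inv_mem ((a₁ : L) / b₁) with h | h
  · obtain ⟨c, hc⟩ := dvd_aux V K S hS p i hpM a₁ b₁ hb h s t
    exact ⟨c, Or.inr hc⟩
  · rw [inv_div] at h
    obtain ⟨c, hc⟩ := dvd_aux V K S hS p i hpM b₁ a₁ ha h t s
    exact ⟨c, Or.inl hc⟩

end abstract

section concrete

variable (R L : Type u) [CommRing R] [IsDomain R] [Field L] [Algebra R L] [IsFractionRing R L]

theorem mem_or_inv_mem_ofField (m : Ideal R) [m.IsPrime]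
    (hm : ValuationRing (Localization.AtPrime m)) (x : L) :
    x ∈ (Localization.subalgebra.ofField L m.primeCompl m.primeCompl_le_nonZeroDivisors) ∨
    x⁻¹ ∈ (Localization.subalgebra.ofField L m.primeCompl m.primeCompl_le_nonZeroDivisors) := by
  set W := Localization.subalgebra.ofField L m.primeCompl m.primeCompl_le_nonZeroDivisors with hW
  have hloc : IsLocalization m.primeCompl W := inferInstance
  let e : Localization.AtPrime m ≃ₐ[R] W := IsLocalization.algEquiv m.primeCompl _ _
  have hvr : ValuationRing W :=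
    Function.Surjective.valuationRing (e : Localization.AtPrime m →+* W) e.surjective
  rcases ValuationRing.isInteger_or_isInteger W x with ⟨w, hw⟩ | ⟨w, hw⟩
  · left; rw [← hw]; exact w.2
  · right; rw [← hw]; exact w.2

/-- The valuation subring `R_m ⊆ L`. -/
noncomputable def Vm (hR : ∀ (p : Ideal R) [p.IsPrime], ValuationRing (Localization.AtPrime p))
    (m : MaximalSpectrum R) : ValuationSubring L :=
  have := m.isMaximal.isPrime
  ValuationSubring.ofSubring
    (Localization.subalgebra.ofField L m.asIdeal.primeCompl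
      m.asIdeal.primeCompl_le_nonZeroDivisors).toSubring
    (fun x => mem_or_inv_mem_ofField R L m.asIdeal (hR m.asIdeal) x)

theorem mem_Vm (hR : ∀ (p : Ideal R) [p.IsPrime], ValuationRing (Localization.AtPrime p))
    (m : MaximalSpectrum R) (x : L) :
    x ∈ Vm R L hR m ↔ x ∈ (Localization.subalgebra.ofField L m.asIdeal.primeCompl
      m.asIdeal.primeCompl_le_nonZeroDivisors) := Iff.rfl

theorem mem_range_iff (hR : ∀ (p : Ideal R) [p.IsPrime], ValuationRing (Localization.AtPrime p))
    (x : L) : x ∈ (algebraMap R L).range ↔ ∀ m, x ∈ Vm R L hR m := by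
  have h := MaximalSpectrum.iInf_localization_eq_bot R L
  have h2 : x ∈ (⨅ v : MaximalSpectrum R, Localization.subalgebra.ofField L _
      v.asIdeal.primeCompl_le_nonZeroDivisors) ↔ x ∈ (⊥ : Subalgebra R L) := by rw [h]
  rw [Algebra.mem_iInf, Algebra.mem_bot] at h2
  constructor
  · rintro ⟨r, rfl⟩ m
    rw [mem_Vm]
    exact h2.mpr ⟨r, rfl⟩ m
  · intro hx
    obtain ⟨r, hr⟩ := h2.mp (fun m => (mem_Vm R L hR m x).mp (hx m))
    exact ⟨r, hr⟩

end concrete


/-- Let R be a semilocal Prüfer domain (an integral domain with finitely many maximal ideals whose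
localisations at primes are valuation rings) with fraction field L, and let K ⊆ L be a subfield.
Then R ∩ K is again a semilocal Prüfer domain and its fraction field is K, i.e. every element of K
is a quotient of two elements of R ∩ K. -/
theorem result
    (R L : Type u) [CommRing R] [IsDomain R] [Field L] [Algebra R L] [IsFractionRing R L]
    (hR : ∀ (p : Ideal R) [p.IsPrime], ValuationRing (Localization.AtPrime p))
    (hfin : Finite (MaximalSpectrum R)) (K : Subfield L) :
    (∀ (p : Ideal ↥((algebraMap R L).range ⊓ K.toSubring)) [p.IsPrime],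
        ValuationRing (Localization.AtPrime p)) ∧
      Finite (MaximalSpectrum ↥((algebraMap R L).range ⊓ K.toSubring)) ∧
      ∀ x : L, x ∈ K → ∃ a b : L, a ∈ (algebraMap R L).range ⊓ K.toSubring ∧
        b ∈ (algebraMap R L).range ⊓ K.toSubring ∧ b ≠ 0 ∧ x = a / b := by
  have hne : Nonempty (MaximalSpectrum R) := by
    obtain ⟨m, hm⟩ := Ideal.exists_maximal R
    exact ⟨⟨m, hm⟩⟩
  have hS : ∀ x, x ∈ (algebraMap R L).range ⊓ K.toSubring ↔
      (∀ m, x ∈ Vm R L hR m) ∧ x ∈ K := by
    intro x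
    rw [Subring.mem_inf, mem_range_iff R L hR]
    exact Iff.rfl
  refine ⟨fun p _ => valuationRing_localization (Vm R L hR) K _ hS p,
    finite_maximalSpectrum (Vm R L hR) K _ hS, ?_⟩
  intro x hx
  obtain ⟨a, b, ha, hb, hb0, hxeq, -⟩ := exists_frac (Vm R L hR) K _ hS x hx
  exact ⟨a, b, ha, hb, hb0, hxeq⟩

end Groth.Agent.S14729
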