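import Groth.Statements.S14730
import Mathlib
import Groth.Agent.S14729
import Groth.Agent.Lib.H47TrdegDim

set_option autoImplicit false
universe u
open ValPrufer

namespace Groth.Agent.S14730
set_option linter.style.haveILetI false

lemma prufer_of_ringEquiv {A B : Type*} [CommRing A] [CommRing B] [IsDomain A] [IsDomain B]
    (e : A ≃+* B)
    (hB : ∀ (p : Ideal B) [p.IsPrime], ValuationRing (Localization.AtPrime p)) :
    ∀ (p : Ideal A) [p.IsPrime], ValuationRing (Localization.AtPrime p) := by
  intro p hp
  let q : Ideal B := p.comap (e.symm : B →+* A)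
  haveI : q.IsPrime := Ideal.comap_isPrime _ _
  haveI := hB q
  let φ : Localization.AtPrime q ≃+* Localization.AtPrime p :=
    Localization.localRingEquiv q p e.symm rfl
  exact Function.Surjective.valuationRing (φ : Localization.AtPrime q →+* Localization.AtPrime p)
    φ.surjective

lemma finite_maxSpec_of_ringEquiv {A B : Type*} [CommRing A] [CommRing B] (e : A ≃+* B)
    (h : Finite (MaximalSpectrum B)) : Finite (MaximalSpectrum A) := by
  have hsurj : Function.Surjective (e.symm : B →+* A) := e.symm.surjective
  apply Finite.of_injective (fun m : MaximalSpectrum A =>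
    (⟨m.asIdeal.comap (e.symm : B →+* A),
      haveI := m.isMaximal
      Ideal.comap_isMaximal_of_surjective (e.symm : B →+* A) hsurj⟩ :
      MaximalSpectrum B))
  intro m m' hmm
  ext1
  have := congrArg MaximalSpectrum.asIdeal hmm
  exact Ideal.comap_injective_of_surjective _ hsurj this


/-- Let R be a semilocal Prüfer domain (an integral domain with finitely many maximal ideals whose
localisations at primes are valuation rings). Then R is the increasing union of subrings that are
semilocal Prüfer domains of finite Krull dimension; equivalently, every finite subset of R is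
contained in such a subring. -/
theorem result
    (R : Type u) [CommRing R] [IsDomain R]
    (hR : ∀ (p : Ideal R) [p.IsPrime], ValuationRing (Localization.AtPrime p))
    (hfin : Finite (MaximalSpectrum R)) (s : Finset R) :
    ∃ R' : Subring R, (↑s : Set R) ⊆ R' ∧
      (∀ (p : Ideal R') [p.IsPrime], ValuationRing (Localization.AtPrime p)) ∧
      Finite (MaximalSpectrum R') ∧ ringKrullDim R' < ⊤ := by
  classical
  let L := FractionRing R
  let K : Subfield L := Subfield.closure (algebraMap R L '' (s : Set R))
  obtain ⟨h1, h2, -⟩ := Groth.Agent.S14729.result R L hR hfin K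
  set S : Subring L := (algebraMap R L).range ⊓ K.toSubring with hS
  let R' : Subring R := K.toSubring.comap (algebraMap R L)
  have hsR' : (↑s : Set R) ⊆ R' := by
    intro x hx
    show algebraMap R L x ∈ K
    exact Subfield.subset_closure ⟨x, hx, rfl⟩
  let f : R' →+* S := ((algebraMap R L).comp R'.subtype).codRestrict S
    (fun x => ⟨⟨x.1, rfl⟩, x.2⟩)
  have hf : Function.Bijective f := by
    constructor
    · intro a b hab
      have := congrArg (Subtype.val : S → L) hab
      exact Subtype.ext (IsFractionRing.injective R L this)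
    · rintro ⟨y, ⟨r, rfl⟩, hy⟩
      exact ⟨⟨r, hy⟩, rfl⟩
  let e : R' ≃+* S := RingEquiv.ofBijective f hf
  refine ⟨R', hsR', prufer_of_ringEquiv e (fun p _ => h1 p), finite_maxSpec_of_ringEquiv e h2, ?_⟩
  rw [ringKrullDim_eq_of_ringEquiv e]
  let g : {x // x ∈ s} → S := fun x => ⟨algebraMap R L x.1, ⟨x.1, rfl⟩, hsR' x.2⟩
  let T : Finset S := s.attach.image g
  apply Groth.Agent.H47TrdegDim.ringKrullDim_lt_top_of_mem_closure S T
  intro x
  have hT : (Subtype.val '' (T : Set S) : Set L) = algebraMap R L '' (s : Set R) := by
    ext y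
    simp only [Set.mem_image, Finset.mem_coe, T, Finset.mem_image, Finset.mem_attach, true_and]
    constructor
    · rintro ⟨_, ⟨a, rfl⟩, rfl⟩
      exact ⟨a.1, a.2, rfl⟩
    · rintro ⟨a, ha, rfl⟩
      exact ⟨g ⟨a, ha⟩, ⟨⟨a, ha⟩, rfl⟩, rfl⟩
  rw [hT]
  exact x.2.2

end Groth.Agent.S14730
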