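import Groth.Statements.S14731
import Mathlib.RingTheory.Smooth.Locus
import Mathlib.RingTheory.Smooth.Field
import Mathlib.Algebra.Algebra.Rat

set_option autoImplicit false
universe u
open ValPrufer

namespace Groth.Agent.S14731

/-- In characteristic zero, every field K generated as a field by a finite set is the fraction field of
a subring A of K of finite type and smooth over the integers. -/
theorem result
    (K : Type u) [Field K] [CharZero K] (s : Finset K)
    (hs : Subfield.closure (↑s : Set K) = ⊤) :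
    ∃ A : Subring K, Algebra.FiniteType ℤ A ∧ Algebra.Smooth ℤ A ∧ IsFractionRing A K := by
  classical
  let A₀ : Subalgebra ℤ K := Algebra.adjoin ℤ (s : Set K)
  have hfg : A₀.FG := Subalgebra.fg_adjoin_finset s
  have hft : Algebra.FiniteType ℤ A₀ := (Subalgebra.fg_iff_finiteType A₀).mp hfg
  have hfp : Algebra.FinitePresentation ℤ A₀ :=
    Algebra.FinitePresentation.of_finiteType.mp hft
  have hfr : IsFractionRing A₀ (Localization.AtPrime (⊥ : Ideal A₀)) := by
    simpa [Ideal.primeCompl_bot] using Localization.isLocalization (M := (⊥ : Ideal A₀).primeCompl)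
  let _ : Field (Localization.AtPrime (⊥ : Ideal A₀)) := IsFractionRing.toField A₀
  have hinj : Function.Injective (algebraMap A₀ (Localization.AtPrime (⊥ : Ideal A₀))) :=
    IsFractionRing.injective A₀ _
  have hch : CharZero (Localization.AtPrime (⊥ : Ideal A₀)) :=
    charZero_of_injective_algebraMap hinj
  have htow : @IsScalarTower ℤ ℚ (Localization.AtPrime (⊥ : Ideal A₀))
      Algebra.toSMul Algebra.toSMul Algebra.toSMul :=
    IsScalarTower.of_algebraMap_eq' (RingHom.ext_int _ _)
  have hess : Algebra.EssFiniteType ℚ (Localization.AtPrime (⊥ : Ideal A₀)) :=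
    Algebra.EssFiniteType.of_comp ℤ ℚ _
  have h1 : Algebra.FormallySmooth ℤ ℚ := Algebra.FormallySmooth.of_isLocalization (nonZeroDivisors ℤ)
  have h2 : Algebra.FormallySmooth ℚ (Localization.AtPrime (⊥ : Ideal A₀)) :=
    Algebra.FormallySmooth.of_perfectField
  have hsm : Algebra.IsSmoothAt ℤ (⊥ : Ideal A₀) :=
    Algebra.FormallySmooth.comp ℤ ℚ _
  obtain ⟨f, hf, hfs⟩ := Algebra.IsSmoothAt.exists_notMem_smooth ℤ (⊥ : Ideal A₀)
  have hf0 : f ≠ 0 := by simpa using hf
  let φ : Localization.Away f →+* K :=
    IsLocalization.lift (M := Submonoid.powers f) (g := A₀.val.toRingHom) (by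
      rintro ⟨y, n, rfl⟩
      refine IsUnit.mk0 _ ?_
      change ((f ^ n : A₀) : K) ≠ 0
      rw [Subalgebra.coe_pow]
      exact pow_ne_zero n (by simpa using hf0))
  have hφ : Function.Injective φ := by
    have hle : Submonoid.powers f ≤ nonZeroDivisors A₀ :=
      Submonoid.powers_le.mpr (mem_nonZeroDivisors_of_ne_zero hf0)
    rw [IsLocalization.lift_injective_iff]
    intro x y
    rw [(IsLocalization.injective (Localization.Away f) hle).eq_iff]
    exact (Subtype.val_injective.eq_iff).symm
  have hA₀ : ∀ e ∈ A₀, e ∈ φ.range := by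
    intro e he
    exact ⟨algebraMap A₀ (Localization.Away f) ⟨e, he⟩, by simp [φ]⟩
  let e : Localization.Away f ≃+* φ.range := RingEquiv.ofBijective φ.rangeRestrict
    ⟨fun a b h => hφ (congrArg Subtype.val h), φ.rangeRestrict_surjective⟩
  have hsmA : Algebra.Smooth ℤ φ.range :=
    Algebra.Smooth.of_equiv (AlgEquiv.ofRingEquiv (f := e) (fun n => by simp))
  refine ⟨φ.range, inferInstance, hsmA, ?_⟩
  apply IsFractionRing.of_field
  intro z
  have hz : z ∈ Subfield.closure (s : Set K) := hs ▸ Subfield.mem_top z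
  obtain ⟨x, hx, y, hy, rfl⟩ := Subfield.mem_closure_iff.mp hz
  have hle : Subring.closure (s : Set K) ≤ A₀.toSubring :=
    Subring.closure_le.mpr Algebra.subset_adjoin
  exact ⟨⟨x, hA₀ x (hle hx)⟩, ⟨y, hA₀ y (hle hy)⟩, rfl⟩

end Groth.Agent.S14731
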