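import Groth.Statements.S14732
import Mathlib.RingTheory.Smooth.Locus
import Mathlib.RingTheory.Smooth.Field
import Mathlib.FieldTheory.Finite.Basic
import Mathlib.FieldTheory.IntermediateField.Adjoin.Algebra

set_option autoImplicit false
universe u
open ValPrufer

namespace Groth.Agent.S14732

/-- In characteristic p > 0, a field K that is finitely generated over its prime subfield F (a field
with p elements) is the fraction field of an integral scheme smooth over F; concretely, there is an
F-subalgebra A of K, of finite type and smooth over F, whose fraction field is K. -/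
theorem result
    (K : Type u) [Field K] (p : ℕ) [Fact p.Prime] [CharP K p] (s : Finset K)
    (hs : Subfield.closure (↑s : Set K) = ⊤) :
    ∃ A : Subalgebra (⊥ : Subfield K) K, Algebra.FiniteType (⊥ : Subfield K) A ∧
      Algebra.Smooth (⊥ : Subfield K) A ∧ IsFractionRing A K := by
  classical
  have : Fintype (⊥ : Subfield K) := Subfield.fintypeBot K p
  let A₀ : Subalgebra (⊥ : Subfield K) K := Algebra.adjoin (⊥ : Subfield K) (s : Set K)
  have hfg : A₀.FG := Subalgebra.fg_adjoin_finset s
  have hft : Algebra.FiniteType (⊥ : Subfield K) A₀ := (Subalgebra.fg_iff_finiteType A₀).mp hfg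
  have hfp : Algebra.FinitePresentation (⊥ : Subfield K) A₀ :=
    Algebra.FinitePresentation.of_finiteType.mp hft
  have hfr : IsFractionRing A₀ (Localization.AtPrime (⊥ : Ideal A₀)) := by
    simpa [Ideal.primeCompl_bot] using Localization.isLocalization (M := (⊥ : Ideal A₀).primeCompl)
  let _ : Field (Localization.AtPrime (⊥ : Ideal A₀)) := IsFractionRing.toField A₀
  have hsm : Algebra.IsSmoothAt (⊥ : Subfield K) (⊥ : Ideal A₀) :=
    Algebra.FormallySmooth.of_perfectField
  obtain ⟨f, hf, hfs⟩ := Algebra.IsSmoothAt.exists_notMem_smooth (⊥ : Subfield K) (⊥ : Ideal A₀)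
  have hf0 : f ≠ 0 := by simpa using hf
  let φ : Localization.Away f →ₐ[(⊥ : Subfield K)] K :=
    IsLocalization.liftAlgHom (M := Submonoid.powers f) (f := A₀.val) (by
      rintro ⟨y, n, rfl⟩
      refine IsUnit.mk0 _ ?_
      change ((f ^ n : A₀) : K) ≠ 0
      rw [Subalgebra.coe_pow]
      exact pow_ne_zero n (by simpa using hf0))
  have hφ : Function.Injective φ := by
    have hle : Submonoid.powers f ≤ nonZeroDivisors A₀ :=
      Submonoid.powers_le.mpr (mem_nonZeroDivisors_of_ne_zero hf0)
    change Function.Injective (IsLocalization.lift (M := Submonoid.powers f) _)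
    rw [IsLocalization.lift_injective_iff]
    intro x y
    rw [(IsLocalization.injective (Localization.Away f) hle).eq_iff]
    exact (Subtype.val_injective.eq_iff).symm
  have hA₀ : A₀ ≤ φ.range := by
    intro e he
    exact ⟨algebraMap A₀ (Localization.Away f) ⟨e, he⟩, by simp [φ]⟩
  have hsmA : Algebra.Smooth (⊥ : Subfield K) φ.range :=
    Algebra.Smooth.of_equiv (AlgEquiv.ofInjective φ hφ)
  refine ⟨φ.range, inferInstance, hsmA, ?_⟩
  apply IsFractionRing.of_field
  intro z
  have hz : z ∈ IntermediateField.adjoin (⊥ : Subfield K) (s : Set K) := by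
    have h1 : z ∈ Subfield.closure (s : Set K) := hs ▸ Subfield.mem_top z
    exact (Subfield.closure_le.mpr
      (IntermediateField.subset_adjoin (⊥ : Subfield K) (s : Set K)) :
        Subfield.closure (s : Set K) ≤
          (IntermediateField.adjoin (⊥ : Subfield K) (s : Set K)).toSubfield) h1
  obtain ⟨x, hx, y, hy, rfl⟩ := IntermediateField.mem_adjoin_iff_div.mp hz
  exact ⟨⟨x, hA₀ hx⟩, ⟨y, hA₀ hy⟩, rfl⟩

end Groth.Agent.S14732
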