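-- Statement S4972.
import Groth.Statements.S4972
import Groth.Agent.Lib.H56UnivOpenDim
import Groth.Agent.Lib.H77DimFieldExt
import Groth.Agent.Lib.FieldProdClosure
import Groth.Agent.Lib.H30IrrFib
import Mathlib

set_option autoImplicit false
open CategoryTheory AlgebraicGeometry
universe u v w
open EGA43

namespace Groth.Agent.S4972

open Limits TopologicalSpace Scheme.IdealSheafData Groth.Agent.Lib.H56OpenDim
  Groth.Agent.Lib.H56ValTrdeg

variable {X S : Scheme.{u}}

/-- G1: fibre of an embedded subscheme -/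
theorem dim_fiber_of_embedding (f : X ⟶ S) {Z : Scheme.{u}} (i : Z ⟶ X)
    (hi : Topology.IsEmbedding i.base) (t : S) :
    topologicalKrullDim ↥((i ≫ f).fiber t) =
      topologicalKrullDim ↥(f.base ⁻¹' {t} ∩ Set.range i.base) := by
  refine Groth.Agent.Lib.H77FibDim.dim_eq_of_range_eq
    (fun z : ↥((i ≫ f).fiber t) => i.base (((i ≫ f).fiberι t).base z))
    (Subtype.val : ↥(f.base ⁻¹' {t} ∩ Set.range i.base) → X) ?_ Topology.IsInducing.subtypeVal ?_
  · exact hi.isInducing.comp ((i ≫ f).fiberι t).isEmbedding.isInducing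
  · rw [Subtype.range_coe]
    ext x
    constructor
    · rintro ⟨z, rfl⟩
      refine ⟨?_, ⟨_, rfl⟩⟩
      have h1 : ((i ≫ f).fiberι t).base z ∈ (i ≫ f).base ⁻¹' {t} := by
        rw [← Scheme.Hom.range_fiberι]; exact ⟨z, rfl⟩
      exact h1
    · rintro ⟨hx1, ⟨a, rfl⟩⟩
      have h3 : a ∈ Set.range ((i ≫ f).fiberι t).base := by
        rw [Scheme.Hom.range_fiberι]; exact hx1
      obtain ⟨z, rfl⟩ := h3
      exact ⟨z, rfl⟩

/-- G2: dimension of fibres is invariant under base change -/
theorem dim_fiber_eq_of_isPullback {X' S' : Scheme.{u}} (f : X ⟶ S) [LocallyOfFiniteType f]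
    (g : S' ⟶ S) (p : X' ⟶ X) (f' : X' ⟶ S') (hsq : IsPullback p f' f g) (t' : S') :
    topologicalKrullDim ↥(f'.fiber t') = topologicalKrullDim ↥(f.fiber (g.base t')) := by
  have hP := isPullback_fiberToSpecResidueField_of_isPullback hsq t'
  haveI : LocallyOfFiniteType (f.fiberToSpecResidueField (g.base t')) :=
    inferInstanceAs (LocallyOfFiniteType (pullback.snd f (S.fromSpecResidueField (g.base t'))))
  exact Groth.Agent.Lib.H77DimFieldExt.dim_eq_of_isPullback_field
    (f.fiberToSpecResidueField (g.base t')) (f'.fiberToSpecResidueField t') _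
    (Spec.map (g.residueFieldMap t')) hP


/-- BC: base change of the dimension of the trace of a closed set on a fibre -/
theorem dim_inter_preimage_eq (f : X ⟶ S) [LocallyOfFiniteType f] {S' : Scheme.{u}} (g : S' ⟶ S)
    (T : Closeds X) (t' : S') :
    topologicalKrullDim ↥((pullback.snd f g).base ⁻¹' {t'} ∩ (pullback.fst f g).base ⁻¹' (T : Set X)) =
      topologicalKrullDim ↥(f.base ⁻¹' {g.base t'} ∩ (T : Set X)) := by
  set i := (vanishingIdeal T).subschemeι with hi
  have hr : Set.range i.base = (T : Set X) := by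
    rw [hi, range_subschemeι, coe_support_vanishingIdeal]
  have h1 := dim_fiber_of_embedding f i i.isEmbedding (g.base t')
  have h2 := dim_fiber_of_embedding (pullback.snd f g) (pullback.snd i (pullback.fst f g))
    (pullback.snd i (pullback.fst f g)).isEmbedding t'
  have hsq : IsPullback (pullback.fst i (pullback.fst f g))
      (pullback.snd i (pullback.fst f g) ≫ pullback.snd f g) (i ≫ f) g :=
    (IsPullback.of_hasPullback i (pullback.fst f g)).paste_vert (IsPullback.of_hasPullback f g)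
  have h3 := dim_fiber_eq_of_isPullback (i ≫ f) g _ _ hsq t'
  rw [Scheme.Pullback.range_snd, hr] at h2
  rw [hr] at h1
  rw [← h2, h3, h1]


theorem tdeg_comp_subschemeι (f : X ⟶ S) [LocallyOfFiniteType f] (T : Closeds X)
    (z : ↥(vanishingIdeal T).subscheme) :
    tdeg ((vanishingIdeal T).subschemeι ≫ f) z = tdeg f ((vanishingIdeal T).subschemeι.base z) :=
  Groth.Agent.Lib.H30IrrFib.rt_comp_of_isPreimmersion f (vanishingIdeal T).subschemeι z

/-- P1 -/
theorem exists_le_tdeg_of_le_dim_inter (f : X ⟶ S) [LocallyOfFiniteType f] (T : Closeds X) (t : S)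
    (n : ℕ) (h : (n : WithBot ℕ∞) ≤ topologicalKrullDim ↥(f.base ⁻¹' {t} ∩ (T : Set X))) :
    ∃ w : X, w ∈ (T : Set X) ∧ f.base w = t ∧ n ≤ tdeg f w := by
  set i := (vanishingIdeal T).subschemeι with hi
  have hr : Set.range i.base = (T : Set X) := by
    rw [hi, range_subschemeι, coe_support_vanishingIdeal]
  have h1 := dim_fiber_of_embedding f i i.isEmbedding t
  rw [hr] at h1
  rw [← h1] at h
  obtain ⟨z, hz, hnz⟩ := exists_le_tdeg_of_le_dim_fiber (i ≫ f) t n h
  refine ⟨i.base z, ?_, hz, ?_⟩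
  · rw [← hr]; exact ⟨z, rfl⟩
  · rw [← tdeg_comp_subschemeι f T z]; exact hnz

/-- P2 -/
theorem tdeg_le_dim_inter (f : X ⟶ S) [LocallyOfFiniteType f] (T : Closeds X) (t : S) (w : X)
    (hw : w ∈ (T : Set X)) (hfw : f.base w = t) :
    (tdeg f w : WithBot ℕ∞) ≤ topologicalKrullDim ↥(f.base ⁻¹' {t} ∩ (T : Set X)) := by
  set i := (vanishingIdeal T).subschemeι with hi
  have hr : Set.range i.base = (T : Set X) := by
    rw [hi, range_subschemeι, coe_support_vanishingIdeal]
  have h1 := dim_fiber_of_embedding f i i.isEmbedding t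
  rw [hr] at h1
  rw [← hr] at hw
  obtain ⟨z, rfl⟩ := hw
  rw [← h1, ← tdeg_comp_subschemeι f T z]
  exact tdeg_le_dim_fiber' (i ≫ f) z t hfw


/-- closures in fibres commute with base change (the fibre base change is open) -/
theorem mem_closure_preimage (f : X ⟶ S) {S' : Scheme.{u}} (g : S' ⟶ S) (t' : S') (A : Set X)
    (hA : A ⊆ f.base ⁻¹' {g.base t'}) (w' : ↥(pullback f g))
    (hw' : (pullback.snd f g).base w' = t') (hpw : (pullback.fst f g).base w' ∈ closure A) :
    w' ∈ closure ((pullback.fst f g).base ⁻¹' A ∩ (pullback.snd f g).base ⁻¹' {t'}) := by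
  set p := pullback.fst f g with hp
  set f' := pullback.snd f g with hf'
  have hsq : IsPullback p f' f g := IsPullback.of_hasPullback f g
  have hP := isPullback_fiberToSpecResidueField_of_isPullback hsq t'
  set π := pullback.map f' (S'.fromSpecResidueField t') f (S.fromSpecResidueField (g.base t'))
      p (Spec.map (g.residueFieldMap t')) g hsq.w.symm (by simp) with hπ
  have hπι : π ≫ f.fiberι (g.base t') = f'.fiberι t' ≫ p := pullback.lift_fst _ _ _
  obtain ⟨w'', hw''⟩ : w' ∈ Set.range (f'.fiberι t').base := by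
    rw [Scheme.Hom.range_fiberι]; exact hw'
  let A' : Set ↥(f.fiber (g.base t')) := (f.fiberι (g.base t')).base ⁻¹' A
  have hιπ : ∀ z : ↥(f'.fiber t'), (f.fiberι (g.base t')).base (π.base z) =
      p.base ((f'.fiberι t').base z) := fun z =>
    congrArg (fun φ : f'.fiber t' ⟶ X => φ.base z) hπι
  have hcl : π.base w'' ∈ closure A' := by
    rw [(f.fiberι (g.base t')).isEmbedding.isInducing.closure_eq_preimage_closure_image]
    have him : (f.fiberι (g.base t')).base '' A' = A := by
      rw [Set.image_preimage_eq_inter_range, Scheme.Hom.range_fiberι]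
      exact Set.inter_eq_left.mpr hA
    rw [him]
    change (f.fiberι (g.base t')).base (π.base w'') ∈ closure A
    rw [hιπ, hw'']
    exact hpw
  rw [mem_closure_iff]
  intro W₀ hW₀ hwW₀
  have hW : IsOpen ((f'.fiberι t').base ⁻¹' W₀) := hW₀.preimage (f'.fiberι t').continuous
  obtain ⟨q, hqW, -, hqA⟩ := Groth.Agent.Lib.FieldProdClosure.exists_mem_of_isPullback hP.flip A' w''
    ((f'.fiberι t').base ⁻¹' W₀) hW (by change (f'.fiberι t').base w'' ∈ W₀; rw [hw'']; exact hwW₀)
    hcl
  refine ⟨(f'.fiberι t').base q, hqW, ?_, ?_⟩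
  · have h5 := hιπ q
    have h6 : (f.fiberι (g.base t')).base (π.base q) ∈ A := hqA
    rw [h5] at h6
    exact h6
  · have : (f'.fiberι t').base q ∈ f'.base ⁻¹' {t'} := by
      rw [← Scheme.Hom.range_fiberι]; exact ⟨q, rfl⟩
    exact this


theorem exists_specializes_of_mem_closure_of_noetherian {X : Type*} [TopologicalSpace X]
    (F : Set X) [NoetherianSpace ↥F] [QuasiSober ↥F] (A : Set X) (hA : A ⊆ F) (w : X)
    (hw : w ∈ closure A) : ∃ ζ : X, ζ ∈ F ∧ ζ ∈ closure A ∧ ζ ⤳ w := by
  let C : Set ↥F := closure ((Subtype.val : ↥F → X) ⁻¹' A)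
  obtain ⟨Sset, hfin, hcl, hirr, hU⟩ :=
    NoetherianSpace.exists_finite_set_isClosed_irreducible (α := ↥F) (s := C) isClosed_closure
  have hAC : A ⊆ (Subtype.val : ↥F → X) '' C := by
    intro a ha
    exact ⟨⟨a, hA ha⟩, subset_closure (by exact ha), rfl⟩
  have hCA : ∀ c ∈ C, (c : X) ∈ closure A := by
    intro c hc
    have h1 : C = (Subtype.val : ↥F → X) ⁻¹' closure ((Subtype.val : ↥F → X) '' ((Subtype.val : ↥F → X) ⁻¹' A)) :=
      Topology.IsInducing.subtypeVal.closure_eq_preimage_closure_image _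
    rw [h1] at hc
    exact closure_mono (Set.image_preimage_subset _ _) hc
  have h2 : w ∈ closure (⋃ T ∈ Sset, (Subtype.val : ↥F → X) '' T) := by
    have : (Subtype.val : ↥F → X) '' C = ⋃ T ∈ Sset, (Subtype.val : ↥F → X) '' T := by
      rw [hU, Set.sUnion_eq_biUnion, Set.image_iUnion₂]
    rw [← this]
    exact closure_mono hAC hw
  rw [hfin.closure_biUnion] at h2
  obtain ⟨T, hT, hwT⟩ := Set.mem_iUnion₂.mp h2
  have hgen := (hirr T hT).isGenericPoint_genericPoint (hcl T hT)
  set g := (hirr T hT).genericPoint with hg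
  have hgT : g ∈ T := hgen.mem
  have hgC : g ∈ C := by rw [hU]; exact ⟨T, hT, hgT⟩
  refine ⟨g.1, g.2, hCA g hgC, ?_⟩
  rw [specializes_iff_mem_closure]
  have h3 : (Subtype.val : ↥F → X) '' T ⊆ closure {g.1} := by
    have h4 : T = closure {g} := hgen.def.symm
    rw [h4]
    refine (image_closure_subset_closure_image continuous_subtype_val).trans ?_
    rw [Set.image_singleton]
  exact closure_minimal h3 isClosed_closure hwT

theorem noetherianSpace_fibre (f : X ⟶ S) [LocallyOfFiniteType f] [QuasiCompact f] (t : S) :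
    NoetherianSpace ↥(f.base ⁻¹' {t}) := by
  haveI : LocallyOfFiniteType (f.fiberToSpecResidueField t) :=
    inferInstanceAs (LocallyOfFiniteType (pullback.snd f (S.fromSpecResidueField t)))
  haveI : IsLocallyNoetherian (f.fiber t) :=
    LocallyOfFiniteType.isLocallyNoetherian (f.fiberToSpecResidueField t)
  haveI : IsNoetherian (f.fiber t) := {}
  exact (noetherianSpace_iff_of_homeomorph (f.fiberHomeo t)).mp inferInstance


theorem main {X S : Scheme.{u}} (f : X ⟶ S) [LocallyOfFiniteType f]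
    [QuasiCompact f] {ι : Type u} (Y : ι → Scheme.{u}) (g : ∀ i, Y i ⟶ S) [∀ i, UniversallyOpen (g i)]
    (v : ∀ i, Y i ⟶ X) (hv : ∀ i, v i ≫ f = g i) (s s' : S) (hs : s' ⤳ s) :
    letI d : S → WithBot ℕ∞ := fun t =>
      topologicalKrullDim ↥(f.base ⁻¹' {t} ∩ closure ((⋃ i, Set.range (v i).base) ∩ f.base ⁻¹' {t}))
    d s ≤ d s' := by
  set E : Set X := ⋃ i, Set.range (v i).base with hE
  show topologicalKrullDim ↥(f.base ⁻¹' {s} ∩ closure (E ∩ f.base ⁻¹' {s})) ≤
    topologicalKrullDim ↥(f.base ⁻¹' {s'} ∩ closure (E ∩ f.base ⁻¹' {s'}))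
  let Tt : S → Closeds X := fun t => ⟨closure (E ∩ f.base ⁻¹' {t}), isClosed_closure⟩
  apply withBot_enat_le_of_forall_nat
  intro n hn
  obtain ⟨k, _, B, γ, q, hq, hγq⟩ :=
    Groth.Agent.Lib.ValChainH52.exists_valuationRing_of_chain 1 ![s', s] (by
      intro i j hij
      fin_cases i <;> fin_cases j
      · exact specializes_rfl
      · exact hs
      · exact absurd hij (by decide)
      · exact specializes_rfl)
  obtain ⟨q0, hq0⟩ : ∃ z : ↥(Spec (CommRingCat.of B)), z = q 0 := ⟨_, rfl⟩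
  obtain ⟨q1, hq1⟩ : ∃ z : ↥(Spec (CommRingCat.of B)), z = q 1 := ⟨_, rfl⟩
  have hγ0 : γ.base q0 = s' := by rw [hq0]; exact hγq 0
  have hγ1 : γ.base q1 = s := by rw [hq1]; exact hγq 1
  have hq01 : q0 ⤳ q1 := by
    rw [hq0, hq1]; exact (PrimeSpectrum.le_iff_specializes _ _).mp (hq 0 1 (by decide))
  haveI hlft : LocallyOfFiniteType (pullback.snd f γ) := inferInstance
  haveI hqc : QuasiCompact (pullback.snd f γ) := inferInstance
  set p := pullback.fst f γ with hp
  set fV := pullback.snd f γ with hfV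
  have hcond : ∀ z : ↥(pullback f γ), f.base (p.base z) = γ.base (fV.base z) := by
    intro z
    rw [← Scheme.Hom.comp_apply, ← Scheme.Hom.comp_apply, pullback.condition]
  -- the closed sets upstairs
  let T' : S → Closeds ↥(pullback f γ) := fun t =>
    ⟨p.base ⁻¹' (Tt t : Set X), (Tt t).isClosed.preimage p.continuous⟩
  have hbc1 := dim_inter_preimage_eq f γ (Tt s) q1
  have hbc0 := dim_inter_preimage_eq f γ (Tt s') q0
  rw [hγ1] at hbc1
  rw [hγ0] at hbc0
  obtain ⟨wV, hwT, hfw, hnw⟩ := exists_le_tdeg_of_le_dim_inter fV (T' s) q1 n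
    (by change _ ≤ topologicalKrullDim ↥(fV.base ⁻¹' {q1} ∩ p.base ⁻¹' (Tt s : Set X))
        rw [hbc1]; exact hn)
  -- step 2
  have h2 := mem_closure_preimage f γ q1 (E ∩ f.base ⁻¹' {s})
    (by rw [hγ1]; exact Set.inter_subset_right) wV hfw hwT
  set A0 : Set ↥(pullback f γ) := p.base ⁻¹' E ∩ fV.base ⁻¹' {q0} with hA0
  have h2b : p.base ⁻¹' (E ∩ f.base ⁻¹' {s}) ∩ fV.base ⁻¹' {q1} ⊆ closure A0 := by
    rintro e ⟨⟨heE, -⟩, hfe⟩
    have hfe' : fV.base e = q1 := hfe
    obtain ⟨i, y₀, hy₀⟩ : ∃ i, p.base e ∈ Set.range (v i).base := Set.mem_iUnion.mp heE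
    obtain ⟨y, hy1, hy2⟩ := Scheme.Pullback.exists_preimage_pullback (f := v i) (g := p) y₀ e hy₀
    have hsq : IsPullback (pullback.fst (v i) p) (pullback.snd (v i) p ≫ fV) (v i ≫ f) γ :=
      (IsPullback.of_hasPullback (v i) p).paste_vert (IsPullback.of_hasPullback f γ)
    have huo : UniversallyOpen (v i ≫ f) := by rw [hv i]; infer_instance
    have huo' : UniversallyOpen (pullback.snd (v i) p ≫ fV) :=
      MorphismProperty.of_isPullback hsq huo
    have hopen : IsOpenMap (pullback.snd (v i) p ≫ fV).base := Scheme.Hom.isOpenMap _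
    have hval : (pullback.snd (v i) p ≫ fV).base y = q1 := by
      rw [Scheme.Hom.comp_apply, hy2]; exact hfe'
    obtain ⟨y', hy'y, hy'q⟩ := Groth.Agent.Lib.OpenAt45.exists_generization_of_isOpenAt
      (pullback.snd (v i) p ≫ fV) y (fun U hU => hopen.image_mem_nhds hU) q0
      (by rw [hval]; exact hq01)
    have hmem : (pullback.snd (v i) p).base y' ∈ A0 := by
      refine ⟨?_, ?_⟩
      · refine Set.mem_iUnion.mpr ⟨i, (pullback.fst (v i) p).base y', ?_⟩
        rw [← Scheme.Hom.comp_apply, pullback.condition, Scheme.Hom.comp_apply]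
      · have := hy'q
        rw [Scheme.Hom.comp_apply] at this
        exact this
    have hsp : (pullback.snd (v i) p).base y' ⤳ e := by
      rw [← hy2]; exact hy'y.map (pullback.snd (v i) p).continuous
    exact hsp.mem_closed isClosed_closure (subset_closure hmem)
  have h2c : wV ∈ closure A0 := closure_minimal h2b isClosed_closure h2
  -- step 3
  haveI := noetherianSpace_fibre fV q0
  haveI : QuasiSober ↥(fV.base ⁻¹' {q0}) :=
    (fV.fiberHomeo q0).symm.isClosedEmbedding.quasiSober
  obtain ⟨ζ, hζF, hζcl, hζw⟩ := exists_specializes_of_mem_closure_of_noetherian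
    (fV.base ⁻¹' {q0}) A0 Set.inter_subset_right wV h2c
  -- step 4
  have h4 : tdeg fV wV ≤ tdeg fV ζ := tdeg_le_of_specializes_Spec B fV wV ζ hζw
  -- step 5
  have h5 : ζ ∈ (T' s' : Set ↥(pullback f γ)) := by
    change p.base ζ ∈ closure (E ∩ f.base ⁻¹' {s'})
    have h6 : p.base '' A0 ⊆ E ∩ f.base ⁻¹' {s'} := by
      rintro _ ⟨a, ⟨haE, haq⟩, rfl⟩
      refine ⟨haE, ?_⟩
      change f.base (p.base a) = s'
      rw [hcond, haq, hγ0]
    exact closure_mono h6 (image_closure_subset_closure_image p.continuous ⟨ζ, hζcl, rfl⟩)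
  have h7 := tdeg_le_dim_inter fV (T' s') q0 ζ h5 hζF
  have h8 : (n : WithBot ℕ∞) ≤ tdeg fV ζ := by exact_mod_cast hnw.trans h4
  refine (h8.trans h7).trans (le_of_eq ?_)
  change topologicalKrullDim ↥(fV.base ⁻¹' {q0} ∩ p.base ⁻¹' (Tt s' : Set X)) = _
  rw [hbc0]
  rfl

/-- Let f : X ⟶ S be a morphism of finite type, (g_i : Y_i ⟶ S) a family of universally open morphisms
and (u_i : Y_i ⟶ X) a family of S-morphisms. For s in S let Z(s) be the closure, in the fibre f⁻¹(s)
(with the topology induced from X), of the union of the sets u_i(Y_i) ∩ f⁻¹(s) (the images of the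
fibres of the Y_i over s), and let d(s) = dim Z(s). Then for every point s of S and every
generization s' of s one has d(s) ≤ d(s'). -/
theorem result {X S : Scheme.{u}} (f : X ⟶ S) [LocallyOfFiniteType f]
    [QuasiCompact f] {ι : Type u} (Y : ι → Scheme.{u}) (g : ∀ i, Y i ⟶ S) [∀ i, UniversallyOpen (g i)]
    (v : ∀ i, Y i ⟶ X) (hv : ∀ i, v i ≫ f = g i) (s s' : S) (hs : s' ⤳ s) :
    letI d : S → WithBot ℕ∞ := fun t =>
      topologicalKrullDim ↥(f.base ⁻¹' {t} ∩ closure ((⋃ i, Set.range (v i).base) ∩ f.base ⁻¹' {t}))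
    d s ≤ d s' := by
  exact main f Y g v hv s s' hs

end Groth.Agent.S4972
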