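import Groth.Statements.S14733
import Mathlib
import Groth.Agent.S4972
import Groth.Agent.Lib.H56ValFib

set_option autoImplicit false
open CategoryTheory AlgebraicGeometry
universe u
open ValPrufer

namespace Groth.Agent.S14733

open CategoryTheory CategoryTheory.Limits AlgebraicGeometry in
/-- Let R be a Prüfer domain (an integral domain whose localisations at primes are valuation rings), X
an irreducible scheme and f : X ⟶ Spec R a dominant morphism of finite type. If the fibre of f over
a point γ of Spec R is nonempty, then it has the same dimension as the fibre over the generic point. -/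
theorem result
    (R : Type u) [CommRing R] [IsDomain R]
    (hR : ∀ (p : Ideal R) [p.IsPrime], ValuationRing (Localization.AtPrime p))
    (X : Scheme.{u}) [IrreducibleSpace X] (f : X ⟶ Spec (CommRingCat.of R))
    [LocallyOfFiniteType f] [QuasiCompact f] [IsDominant f] (γ : Spec (CommRingCat.of R))
    (h0 : Nonempty ↥(f.fiber γ)) :
    topologicalKrullDim ↥(f.fiber γ) =
      topologicalKrullDim ↥(f.fiber (genericPoint (Spec (CommRingCat.of R)))) := by
  classical
  set p : Ideal R := γ.asIdeal with hp
  haveI : p.IsPrime := γ.isPrime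
  haveI hval : ValuationRing (Localization.AtPrime p) := hR p
  set Rγ := Localization.AtPrime p with hRγ
  let g : Spec (CommRingCat.of Rγ) ⟶ Spec (CommRingCat.of R) :=
    Spec.map (CommRingCat.ofHom (algebraMap R Rγ))
  haveI hg : IsPreimmersion g := IsPreimmersion.of_isLocalization p.primeCompl
  let f' := pullback.snd f g
  let p' := pullback.fst f g
  have hsq : IsPullback p' f' f g := IsPullback.of_hasPullback f g
  haveI : IsPreimmersion p' := inferInstance
  -- special points of Spec Rγ
  let s' : Spec (CommRingCat.of Rγ) := IsLocalRing.closedPoint Rγ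
  let η' : Spec (CommRingCat.of Rγ) := (⟨⊥, Ideal.isPrime_bot⟩ : PrimeSpectrum Rγ)
  have hgs : g s' = γ := by
    apply PrimeSpectrum.ext
    change Ideal.comap (algebraMap R Rγ) (IsLocalRing.maximalIdeal Rγ) = γ.asIdeal
    exact Localization.AtPrime.comap_maximalIdeal
  have hη : genericPoint (Spec (CommRingCat.of R)) = (⟨⊥, Ideal.isPrime_bot⟩ : PrimeSpectrum R) := by
    apply (genericPoint_spec (Spec (CommRingCat.of R))).eq
    rw [IsGenericPoint]
    change closure ({(⟨⊥, Ideal.isPrime_bot⟩ : PrimeSpectrum R)} : Set (PrimeSpectrum R)) = Set.univ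
    rw [PrimeSpectrum.closure_singleton]
    simp
  have hgη : g η' = genericPoint (Spec (CommRingCat.of R)) := by
    rw [hη]
    apply PrimeSpectrum.ext
    change Ideal.comap (algebraMap R Rγ) ⊥ = ⊥
    rw [← RingHom.ker_eq_comap_bot, RingHom.ker_eq_bot_iff_eq_zero]
    intro x hx
    exact (IsLocalization.to_map_eq_zero_iff Rγ p.primeCompl_le_nonZeroDivisors).1 hx
  -- the generic point of X lifts
  have hfξ : f (genericPoint X) = genericPoint (Spec (CommRingCat.of R)) :=
    Groth.Agent.Lib.H56ValTrdeg.map_genericPoint_of_isDominant f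
  obtain ⟨ξ', hξ'1, hξ'2⟩ := Scheme.Pullback.exists_preimage_pullback (genericPoint X) η'
    (hfξ.trans hgη.symm)
  obtain ⟨x₀, hx₀⟩ : ∃ x : X, f x = γ := by
    obtain ⟨z⟩ := h0
    refine ⟨(f.fiberι γ) z, ?_⟩
    have : (f.fiberι γ) z ∈ f ⁻¹' {γ} := by
      rw [← Scheme.Hom.range_fiberι]; exact ⟨z, rfl⟩
    exact this
  obtain ⟨x₀', hx₀'1, hx₀'2⟩ := Scheme.Pullback.exists_preimage_pullback x₀ s'
    (hx₀.trans hgs.symm)
  -- irreducibility of the pullback
  haveI : IrreducibleSpace ↥(pullback f g) := by
    have hcl : closure ({ξ'} : Set ↥(pullback f g)) = Set.univ := by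
      rw [Set.eq_univ_iff_forall]
      intro x'
      rw [← specializes_iff_mem_closure, ← p'.isEmbedding.isInducing.specializes_iff]
      change p' ξ' ⤳ p' x'
      rw [show p' ξ' = genericPoint X from hξ'1]
      exact (genericPoint_spec X).specializes (by simp)
    have hirr : IsIrreducible (Set.univ : Set ↥(pullback f g)) := by
      rw [← hcl]
      exact isIrreducible_singleton.closure
    exact (irreducibleSpace_def _).2 hirr
  have h1 := Groth.Agent.S4972.dim_fiber_eq_of_isPullback f g p' f' hsq s'
  have h2 := Groth.Agent.S4972.dim_fiber_eq_of_isPullback f g p' f' hsq η'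
  have h3 := Groth.Agent.Lib.H56ValTrdeg.dim_fiber_eq_of_irreducible_Spec Rγ f' s' η'
    ⟨x₀', hx₀'2⟩ ⟨ξ', hξ'2⟩
  change topologicalKrullDim ↥(f.fiber γ) = _
  rw [← hgs, ← h1, h3, h2, hgη]

end Groth.Agent.S14733
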