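import Groth.Statements.S14738
import Mathlib

set_option autoImplicit false
universe u
open ValPrufer

namespace Groth.Agent.S14738
set_option linter.style.haveILetI false

/-- primes below a prime `n` with `R_n` a valuation ring are comparable -/
lemma comparable {R : Type u} [CommRing R] [IsDomain R] (n : Ideal R) [n.IsPrime]
    [ValuationRing (Localization.AtPrime n)]
    (p q : Ideal R) [p.IsPrime] [q.IsPrime] (hp : p ≤ n) (hq : q ≤ n) : p ≤ q ∨ q ≤ p := by
  have hp' : Disjoint (n.primeCompl : Set R) p := by
    rw [Set.disjoint_left]; intro x hx hxp; exact hx (hp hxp)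
  have hq' : Disjoint (n.primeCompl : Set R) q := by
    rw [Set.disjoint_left]; intro x hx hxq; exact hx (hq hxq)
  have e1 := IsLocalization.comap_map_of_isPrime_disjoint n.primeCompl (Localization.AtPrime n) ‹p.IsPrime› hp'
  have e2 := IsLocalization.comap_map_of_isPrime_disjoint n.primeCompl (Localization.AtPrime n) ‹q.IsPrime› hq'
  rcases Std.Total.total (r := (· ≤ ·)) (p.map (algebraMap R (Localization.AtPrime n))) (q.map (algebraMap R (Localization.AtPrime n))) with h | h
  · left; rw [← e1, ← e2]; exact Ideal.comap_mono h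
  · right; rw [← e1, ← e2]; exact Ideal.comap_mono h

lemma exists_bound (R : Type u) [CommRing R] (hdim : ringKrullDim R < ⊤) :
    ∃ d : ℕ, ∀ p : Ideal R, p.IsPrime → p.height ≤ d := by
  induction h : ringKrullDim R using WithBot.recBotCoe with
  | bot =>
    refine ⟨0, fun p hp => ?_⟩
    have := Ideal.height_le_ringKrullDim_of_isPrime (I := p)
    rw [h] at this
    exact absurd this (by simp)
  | coe x =>
    rw [h] at hdim
    have hx : x ≠ ⊤ := by
      rintro rfl
      exact lt_irrefl _ hdim
    lift x to ℕ using hx
    refine ⟨x, fun p hp => ?_⟩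
    have := Ideal.height_le_ringKrullDim_of_isPrime (I := p)
    rw [h] at this
    exact_mod_cast this

lemma finite_primes (R : Type u) [CommRing R] [IsDomain R]
    (hR : ∀ (p : Ideal R) [p.IsPrime], ValuationRing (Localization.AtPrime p))
    (hfin : Finite (MaximalSpectrum R)) (hdim : ringKrullDim R < ⊤) :
    {p : Ideal R | p.IsPrime}.Finite := by
  classical
  obtain ⟨d, hd⟩ := exists_bound R hdim
  have hfh : ∀ (p : Ideal R), p.IsPrime → p.height ≠ ⊤ := by
    intro p hp h
    have := hd p hp
    rw [h] at this
    simp at this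
  have hch : ∀ p : {p : Ideal R | p.IsPrime}, ∃ n : MaximalSpectrum R, p.1 ≤ n.asIdeal := by
    rintro ⟨p, hp⟩
    obtain ⟨n, hn, hpn⟩ := Ideal.exists_le_maximal p (Ideal.IsPrime.ne_top hp)
    exact ⟨⟨n, hn⟩, hpn⟩
  choose g hg using hch
  rw [← Set.finite_coe_iff]
  let F : {p : Ideal R | p.IsPrime} → MaximalSpectrum R × Fin (d + 1) := fun p =>
    (g p, ⟨p.1.height.toNat, by
      have := hd p.1 p.2
      have h2 := ENat.toNat_le_toNat this (by simp)
      simp at h2; omega⟩)
  refine Finite.of_injective F ?_
  rintro ⟨p, hp⟩ ⟨q, hq⟩ hpq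
  simp only [F, Prod.mk.injEq, Fin.mk.injEq] at hpq
  obtain ⟨h1, h2⟩ := hpq
  have hpn := hg ⟨p, hp⟩
  have hqn := hg ⟨q, hq⟩
  rw [h1] at hpn
  haveI : p.IsPrime := hp
  haveI : q.IsPrime := hq
  haveI := hR (g ⟨q, hq⟩).asIdeal
  haveI : p.FiniteHeight := p.finiteHeight_iff.mpr (Or.inr (hfh p hp))
  haveI : q.FiniteHeight := q.finiteHeight_iff.mpr (Or.inr (hfh q hq))
  have key : ∀ (a b : Ideal R) [a.IsPrime] [b.IsPrime] [b.FiniteHeight], a ≤ b →
      a.height.toNat = b.height.toNat → a = b := by
    intro a b _ _ _ hab hh
    by_contra hne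
    have hlt : a < b := lt_of_le_of_ne hab hne
    have := Ideal.height_strict_mono_of_isPrime_of_isPrime hlt
    have ha := hfh a ‹_›
    have hb := hfh b ‹_›
    lift a.height to ℕ using ha with x hx
    lift b.height to ℕ using hb with y hy
    simp only [ENat.toNat_coe] at hh
    rw [Nat.cast_lt] at this
    omega
  ext1
  rcases comparable (g ⟨q, hq⟩).asIdeal p q hpn hqn with h | h
  · exact key p q h h2
  · exact (key q p h h2.symm).symm


/-- Let R be a semilocal Prüfer domain (an integral domain with finitely many maximal ideals whose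
localisations at primes are valuation rings) of finite Krull dimension, and m a maximal ideal of R.
Then there is a ∈ R with V(a) = {m}, i.e. m is the only prime ideal containing a, and there is b ∉ m
such that R[1/b] is the localisation R_m (every element outside m becomes invertible after inverting
b); consequently the spectra of the local rings R_m form a Zariski open covering of Spec R. (The
published remark assumes positive Krull dimension to construct a; for R a field the assertions hold
with a = 0 and b = 1. It also takes b to be the product of the elements a_n chosen in the same way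
for the other maximal ideals n; that choice fails as soon as a non-maximal prime lies in another
maximal ideal but not in m, e.g. for the intersection of two independent rank-two valuation rings of
a field, so this row asserts only that some such b exists.) -/
theorem result
    (R : Type u) [CommRing R] [IsDomain R]
    (hR : ∀ (p : Ideal R) [p.IsPrime], ValuationRing (Localization.AtPrime p))
    (hfin : Finite (MaximalSpectrum R)) (hdim : ringKrullDim R < ⊤)
    (m : Ideal R) [m.IsMaximal] :
    (∃ a : R, ∀ (p : Ideal R), p.IsPrime → (a ∈ p ↔ p = m)) ∧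
      ∃ b : R, b ∉ m ∧ IsLocalization.AtPrime (Localization.Away b) m := by
  classical
  have hF := finite_primes R hR hfin hdim
  constructor
  · -- prime avoidance
    let s : Finset (Ideal R) := hF.toFinset.erase m
    have hs : ∀ p, p ∈ s ↔ p.IsPrime ∧ p ≠ m := by
      intro p; simp [s, and_comm]
    have hnot : ¬ ((m : Set R) ⊆ ⋃ i ∈ (↑s : Set (Ideal R)), (i : Set R)) := by
      intro hsub
      obtain ⟨i, his, hmi⟩ := (Ideal.subset_union_prime (f := fun i : Ideal R => i) m m
        (fun i hi _ _ => ((hs i).mp hi).1)).mp hsub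
      obtain ⟨hip, hne⟩ := (hs i).mp his
      exact hne (Ideal.IsMaximal.eq_of_le ‹m.IsMaximal› hip.ne_top hmi).symm
    rw [Set.not_subset] at hnot
    obtain ⟨a, ham, hau⟩ := hnot
    refine ⟨a, fun p hp => ⟨fun hap => ?_, fun h => h ▸ ham⟩⟩
    by_contra hne
    apply hau
    simp only [Set.mem_iUnion]
    exact ⟨p, (hs p).mpr ⟨hp, hne⟩, hap⟩
  · let s : Finset (Ideal R) := hF.toFinset.filter (fun q => ¬ q ≤ m)
    have hs : ∀ p, p ∈ s ↔ p.IsPrime ∧ ¬ p ≤ m := by
      intro p; simp [s]
    have hex : ∀ q : Ideal R, ∃ b : R, q ∈ s → b ∈ q ∧ b ∉ m := by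
      intro q
      by_cases hq : q ∈ s
      · obtain ⟨b, hb, hbm⟩ := Set.not_subset.mp ((hs q).mp hq).2
        exact ⟨b, fun _ => ⟨hb, hbm⟩⟩
      · exact ⟨0, fun h => absurd h hq⟩
    choose c hc using hex
    refine ⟨∏ q ∈ s, c q, ?_, ?_⟩
    · intro hmem
      obtain ⟨q, hq, hcq⟩ := (Ideal.IsPrime.prod_mem_iff (p := m)).mp hmem
      exact (hc q hq).2 hcq
    · set b := ∏ q ∈ s, c q with hb
      have hbm : b ∉ m := by
        intro hmem
        obtain ⟨q, hq, hcq⟩ := (Ideal.IsPrime.prod_mem_iff (p := m)).mp hmem
        exact (hc q hq).2 hcq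
      show IsLocalization m.primeCompl (Localization.Away b)
      refine IsLocalization.of_le (M := Submonoid.powers b) m.primeCompl ?_ ?_
      · rintro _ ⟨k, rfl⟩
        show b ^ k ∉ m
        exact fun h => hbm (Ideal.IsPrime.mem_of_pow_mem inferInstance k h)
      · intro y hy
        -- b ∈ radical (span {y})
        have hrad : b ∈ (Ideal.span {y}).radical := by
          rw [Ideal.radical_eq_sInf, Ideal.mem_sInf]
          rintro q ⟨hyq, hq⟩
          have hqm : ¬ q ≤ m := fun hle => hy (hle (hyq (Ideal.subset_span rfl)))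
          have hqs : q ∈ s := (hs q).mpr ⟨hq, hqm⟩
          exact Ideal.IsPrime.prod_mem_iff.mpr ⟨q, hqs, (hc q hqs).1⟩ |> fun h => h
        obtain ⟨k, hk⟩ := hrad
        obtain ⟨z, hz⟩ := Ideal.mem_span_singleton.mp hk
        have hu : IsUnit (algebraMap R (Localization.Away b) (b ^ k)) :=
          IsLocalization.map_units (Localization.Away b) (⟨b ^ k, k, rfl⟩ : Submonoid.powers b)
        rw [hz, map_mul] at hu
        exact isUnit_of_mul_isUnit_left hu

end Groth.Agent.S14738
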