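import Groth.Statements.S1474
import Mathlib
import Groth.Agent.Lib.RegFib37

set_option autoImplicit false
universe u
open FlatMor

namespace Groth.Agent.S1474

open AlgebraicGeometry CategoryTheory Limits in
/-- (2) ⇔ (3): let f : X → Y have locally Noetherian fibres. Then the ring maps O_Y(V) → O_X(U) are
regular for all affine opens U ⊆ f⁻¹(V) if and only if f is flat and every fibre X_y is
geometrically regular over κ(y), i.e. every affine open of X_y has Noetherian, geometrically regular
coordinate ring over κ(y). -/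
theorem result {X Y : Scheme.{u}} (f : X ⟶ Y) (hN : ∀ y : Y, IsLocallyNoetherian (f.fiber y)) :
    (∀ (U : X.Opens) (V : Y.Opens) (hU : IsAffineOpen U) (hV : IsAffineOpen V) (hUV : U ≤ f ⁻¹ᵁ V),
        letI := (f.appLE V U hUV).hom.toAlgebra
        CAlg.IsRegularHom Γ(Y, V) Γ(X, U)) ↔
      Flat f ∧ ∀ (y : Y) (W : (f.fiber y).Opens), IsAffineOpen W →
        letI : Algebra ↑(Y.residueField y) ↑Γ(f.fiber y, W) := ((Scheme.ΓSpecIso (Y.residueField y)).inv ≫ (f.fiberToSpecResidueField y).appTop ≫
          (f.fiber y).presheaf.map (homOfLE le_top).op).hom.toAlgebra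
        IsNoetherianRing ↑Γ(f.fiber y, W) ∧ CAlg.IsGeometricallyRegular ↑(Y.residueField y) ↑Γ(f.fiber y, W) := by
  constructor
  · intro h
    have hflat : Flat f := by
      rw [HasRingHomProperty.iff_appLE (P := @Flat)]
      intro V U e
      exact (h U.1 V.1 U.2 V.2 e).1
    refine ⟨hflat, fun y W hW => ?_⟩
    haveI := hN y
    have hNoeth : IsNoetherianRing Γ(f.fiber y, W) :=
      IsLocallyNoetherian.component_noetherian ⟨W, hW⟩
    refine ⟨hNoeth, ?_⟩
    intro k' _ _ hfin
    -- all stalks of the base change of the fibre are regular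
    have hA : ∀ z' : ↥(pullback (f.fiberToSpecResidueField y)
        (Spec.map (CommRingCat.ofHom (algebraMap (Y.residueField y) k')))),
        IsRegularLocalRing ((pullback (f.fiberToSpecResidueField y)
          (Spec.map (CommRingCat.ofHom (algebraMap (Y.residueField y) k')))).presheaf.stalk z') := by
      intro z'
      have hx : f ((f.fiberι y) ((pullback.fst (f.fiberToSpecResidueField y)
          (Spec.map (CommRingCat.ofHom (algebraMap (Y.residueField y) k')))) z')) = y := by
        have hmem : (f.fiberι y) ((pullback.fst (f.fiberToSpecResidueField y)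
          (Spec.map (CommRingCat.ofHom (algebraMap (Y.residueField y) k')))) z') ∈
            Set.range (f.fiberι y) := ⟨_, rfl⟩
        rw [f.range_fiberι y] at hmem
        exact hmem
      obtain ⟨V, hV, hyV, -⟩ := exists_isAffineOpen_mem_and_subset (x := y) (U := ⊤) trivial
      obtain ⟨U, hU, hxU, hUV⟩ := exists_isAffineOpen_mem_and_subset
        (x := (f.fiberι y) ((pullback.fst (f.fiberToSpecResidueField y)
          (Spec.map (CommRingCat.ofHom (algebraMap (Y.residueField y) k')))) z'))
        (U := f ⁻¹ᵁ V) (by show f _ ∈ V; rw [hx]; exact hyV)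
      have hreg := h U V hU hV hUV
      obtain ⟨hW₁, hiff⟩ := RegFib37.gr_fiber_iff f hU hV hUV y hyV
        (hV.primeIdealOf ⟨y, hyV⟩).asIdeal rfl
      have hgr := hiff.mpr (hreg.2 _)
      obtain ⟨hW₁', ⟨Θ⟩⟩ := RegFib37.exists_baseChange_sections_equiv
        (f.fiberToSpecResidueField y) k' hW₁
      haveI := hgr.2 k' hfin
      haveI := IsRegularRing.of_ringEquiv Θ.symm
      exact RegFib37.isRegularLocalRing_stalk_of_isRegularRing hW₁' z' hxU
    obtain ⟨hW', ⟨Θ⟩⟩ := RegFib37.exists_baseChange_sections_equiv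
      (f.fiberToSpecResidueField y) k' hW
    letI := RegFib37.fibAlg f y W
    haveI : IsNoetherianRing (TensorProduct (Y.residueField y) Γ(f.fiber y, W) k') :=
      Algebra.FiniteType.isNoetherianRing Γ(f.fiber y, W) _
    haveI : IsNoetherianRing (TensorProduct (Y.residueField y) k' Γ(f.fiber y, W)) :=
      isNoetherianRing_of_ringEquiv _
        (Algebra.TensorProduct.comm (Y.residueField y) Γ(f.fiber y, W) k').toRingEquiv
    haveI := isNoetherianRing_of_ringEquiv _ Θ.symm
    haveI := RegFib37.isRegularRing_of_stalks hW' (fun z' _ => hA z')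
    exact IsRegularRing.of_ringEquiv Θ
  · rintro ⟨hflat, h⟩ U V hU hV hUV
    refine ⟨HasRingHomProperty.appLE (P := @Flat) f hflat ⟨V, hV⟩ ⟨U, hU⟩ hUV, fun p hp => ?_⟩
    have hmem : hV.fromSpec ⟨p, hp⟩ ∈ V := by
      have := Set.mem_range_self (f := hV.fromSpec) ⟨p, hp⟩
      rwa [hV.range_fromSpec] at this
    have hp' : (hV.primeIdealOf ⟨hV.fromSpec ⟨p, hp⟩, hmem⟩).asIdeal = p := by
      have h1 := hV.fromSpec_primeIdealOf ⟨hV.fromSpec ⟨p, hp⟩, hmem⟩
      have h2 := hV.fromSpec.isOpenEmbedding.injective h1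
      rw [h2]
    obtain ⟨hW₁, hiff⟩ := RegFib37.gr_fiber_iff f hU hV hUV (hV.fromSpec ⟨p, hp⟩) hmem p hp'
    exact hiff.mp (h _ _ hW₁)

end Groth.Agent.S1474
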