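import Groth.Statements.S14741
import Groth.Agent.S0010
import Groth.Agent.Lib.ProjSpaceCover
import Groth.Agent.Lib.H90OXModFP

set_option autoImplicit false
universe u
open CategoryTheory AlgebraicGeometry
open ValPrufer

namespace Groth.Agent.S14741

/-- Let R be a semilocal Prüfer domain (an integral domain with finitely many maximal ideals whose
localisations at primes are valuation rings) of finite Krull dimension, m ≥ 1, X a closed subscheme
of projective (m-1)-space over R which is flat over R, and F a finitely presented (equivalently,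
coherent) O_X-module. Then H^q(X, F) = 0 for all q > m. -/
theorem result
    (R : Type u) [CommRing R] [IsDomain R]
    (hR : ∀ (p : Ideal R) [p.IsPrime], ValuationRing (Localization.AtPrime p))
    (hfin : Finite (MaximalSpectrum R)) (hdim : ringKrullDim R < ⊤)
    (m : ℕ) (hm : 1 ≤ m) (X : Scheme.{u}) (ι : X ⟶ CohB1.ProjSpace (m - 1) R) [IsClosedImmersion ι]
    [Flat (ι ≫ CohB1.ProjSpace.toSpec (m - 1) R)]
    (F : X.Modules) (hF : CohB1.IsFP F) (q : ℕ) (hq : m < q) :
    Subsingleton (Coh.HH X F q) := by
  haveI hq' : F.IsQuasicoherent := ((Groth.Agent.Lib.H90OXModFP.isFP_iff_forall_affine F).mp hF).1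
  haveI : Coh.IsQCoh F := hq'
  haveI : IsSeparated (Limits.terminal.from X) := by
    rw [← Limits.terminal.comp_from ι]
    infer_instance
  haveI : X.IsSeparated := ⟨inferInstance⟩
  refine Groth.Agent.S0010.result X (m - 1 + 1)
    (fun i => ι ⁻¹ᵁ Groth.Agent.Lib.ProjSpaceCover.stdOpen (m - 1) R i)
    (fun i => (Groth.Agent.Lib.ProjSpaceCover.isAffineOpen_stdOpen (m - 1) R i).preimage ι)
    ?_ (fun V W hV hW => hV.inf hW) F q (by omega)
  rw [← Scheme.Hom.preimage_iSup, Groth.Agent.Lib.ProjSpaceCover.iSup_stdOpen]
  rfl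

end Groth.Agent.S14741
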