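import Groth.Statements.S14743
import Mathlib
-- import your own Groth.Agent.* helpers here

set_option autoImplicit false
universe u
open CategoryTheory MonoidalCategory CartesianMonoidalCategory MonObj GrpObj AlgebraicGeometry
open AlgGrp

namespace Groth.Agent.S14743

variable {Γ : Type u} [CommGroup Γ]
theorem cg1 (a b : Γ) : a * b * a⁻¹ * b⁻¹ = 1 := by
  rw [_root_.mul_right_comm a b a⁻¹, _root_.mul_inv_cancel, _root_.one_mul, _root_.mul_inv_cancel]
theorem cg2 (a b c : Γ) : a = a * b⁻¹ * c⁻¹ * b * c := by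
  rw [_root_.mul_right_comm (a * b⁻¹) c⁻¹ b, _root_.inv_mul_cancel_right, _root_.inv_mul_cancel_right]
theorem cg3 (g a b m : Γ) (h : m = g * a * b) : g * m = (g * a) * (g * b) := by
  rw [h, _root_.mul_mul_mul_comm, _root_.mul_assoc, _root_.mul_assoc]
theorem cg4 (x : Γ) (h : x = x * x) : x = 1 := _root_.mul_eq_left.mp h.symm

/-- Over an algebraically closed field k let L, G, B be commutative k-group schemes, i : L → G and π : G
→ B homomorphisms with i the kernel of π, and suppose that every k-morphism B × B → L is constant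
(factors through a k-point of L). If π admits a section which is a morphism of k-schemes, then it
admits a section which is a homomorphism, so the extension splits. (The published statement is for
algebraic groups, that is, of finite type over k; finiteness plays no role and is not assumed here.) -/
theorem result (k : Type u) [Field k] [IsAlgClosed k]
    (L G B : Over (Spec (CommRingCat.of k))) [GrpObj L] [GrpObj G] [GrpObj B]
    [IsCommMonObj L] [IsCommMonObj G] [IsCommMonObj B]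
    (i : L ⟶ G) [IsMonHom i] (π : G ⟶ B) [IsMonHom π] (hker : AlgGrp.IsKernel i π)
    (hconst : ∀ f : B ⊗ B ⟶ L, ∃ l : 𝟙_ (Over (Spec (CommRingCat.of k))) ⟶ L, f = toUnit (B ⊗ B) ≫ l)
    (s : B ⟶ G) (hs : s ≫ π = 𝟙 B) :
    ∃ s' : B ⟶ G, IsMonHom s' ∧ s' ≫ π = 𝟙 B := by
  let c : B ⊗ B ⟶ G := (μ[B] ≫ s) * (fst B B ≫ s)⁻¹ * (snd B B ≫ s)⁻¹
  have hcπ : c ≫ π = toUnit (B ⊗ B) ≫ η[B] := by
    rw [← Hom.one_def]
    simp only [c, MonObj.mul_comp, GrpObj.inv_comp, Category.assoc, hs, Category.comp_id]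
    rw [MonObj.mul_eq_mul]
    exact cg1 _ _
  obtain ⟨l, hl⟩ := hconst (hker.lift c (toUnit _) hcπ)
  have hc : c = toUnit (B ⊗ B) ≫ l ≫ i := by
    rw [← Category.assoc, ← hl, IsPullback.lift_fst]
  have hiπ : i ≫ π = toUnit L ≫ η[B] := hker.w
  let g : B ⟶ G := toUnit B ≫ l ≫ i
  let s' : B ⟶ G := g * s
  have hμs : μ[B] ≫ s = (toUnit (B ⊗ B) ≫ l ≫ i) * (fst B B ≫ s) * (snd B B ≫ s) := by
    rw [← hc]
    exact cg2 _ _ _
  have hmul : μ[B] ≫ s' = (s' ⊗ₘ s') ≫ μ[G] := by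
    have h1 : (s' ⊗ₘ s') ≫ μ[G] = (fst B B ≫ s') * (snd B B ≫ s') := by
      rw [Hom.mul_def, ← CartesianMonoidalCategory.lift_fst_comp_snd_comp]
    rw [h1]
    have e1 : μ[B] ≫ toUnit B ≫ l ≫ i = toUnit (B ⊗ B) ≫ l ≫ i := by
      rw [← Category.assoc]; congr 1; all_goals (exact Subsingleton.elim _ _)
    have e2 : fst B B ≫ toUnit B ≫ l ≫ i = toUnit (B ⊗ B) ≫ l ≫ i := by
      rw [← Category.assoc]; congr 1; all_goals (exact Subsingleton.elim _ _)
    have e3 : snd B B ≫ toUnit B ≫ l ≫ i = toUnit (B ⊗ B) ≫ l ≫ i := by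
      rw [← Category.assoc]; congr 1; all_goals (exact Subsingleton.elim _ _)
    show μ[B] ≫ (g * s) = fst B B ≫ (g * s) * snd B B ≫ (g * s)
    rw [MonObj.comp_mul, MonObj.comp_mul, MonObj.comp_mul]
    show μ[B] ≫ toUnit B ≫ l ≫ i * μ[B] ≫ s =
      fst B B ≫ toUnit B ≫ l ≫ i * fst B B ≫ s * (snd B B ≫ toUnit B ≫ l ≫ i * snd B B ≫ s)
    rw [e1, e2, e3]
    exact cg3 _ _ _ _ hμs
  have hone : η[B] ≫ s' = η[G] := by
    have h2 : lift η[B] η[B] ≫ μ[B] ≫ s' = lift η[B] η[B] ≫ (s' ⊗ₘ s') ≫ μ[G] := by rw [hmul]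
    have h3 : lift η[B] η[B] ≫ μ[B] = η[B] := by
      rw [← Hom.mul_def, MonObj.one_eq_one, _root_.mul_one]
    rw [← Category.assoc, h3] at h2
    have h4 : lift η[B] η[B] ≫ (s' ⊗ₘ s') ≫ μ[G] = (η[B] ≫ s') * (η[B] ≫ s') := by
      rw [← Category.assoc, CartesianMonoidalCategory.lift_map, Hom.mul_def]
    rw [h4] at h2
    rw [MonObj.one_eq_one]
    exact cg4 _ h2
  refine ⟨s', ⟨hone, hmul⟩, ?_⟩
  show (g * s) ≫ π = 𝟙 B
  rw [MonObj.mul_comp, hs]
  show (toUnit B ≫ l ≫ i) ≫ π * 𝟙 B = 𝟙 B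
  rw [Category.assoc, Category.assoc, hiπ]
  have : toUnit B ≫ l ≫ toUnit L ≫ η[B] = 1 := by
    rw [Hom.one_def, ← Category.assoc, ← Category.assoc]
    congr 1
    exact Subsingleton.elim _ _
  rw [this, _root_.one_mul]

end Groth.Agent.S14743
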