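import Groth.Statements.S14765
-- import your own Groth.Agent.* helpers here
import Groth.Agent.Lib.SubtrH52b

set_option autoImplicit false
universe u
open CategoryTheory CategoryTheory.Limits AlgebraicGeometry
open Subtr

namespace Groth.Agent.S14765

/-- Let V be a valuation ring and f : X ⟶ Spec V any morphism of schemes. The following are equivalent:
(a) after every base change, every ordered pair of points of the target (a point and a
specialization of it) lifts to an ordered pair of points of the source; (b) every ordered pair of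
points of Spec V lifts to an ordered pair of points of X; (c) every point of Spec V is the image of
a point of X lying in the closure of the generic fibre; (d) the pair formed by the closed point and
the generic point of Spec V lifts to points x, x' of X with x a specialization of x'; (e) there are
a valuation ring W and a morphism Spec W ⟶ X whose composite with f is surjective; (f) there is a
closed subscheme Z of X such that Z ⟶ Spec V is flat and surjective. (The published list also
contains subtrusiveness and universal subtrusiveness, which add submersiveness for the constructible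
topology, and the lifting of arbitrary chains of points; this row omits those items and keeps the
lifting property alone in (a).) -/
theorem result (V : Type u) [CommRing V] [IsDomain V] [ValuationRing V]
    {X : Scheme.{u}} (f : X ⟶ Spec (CommRingCat.of V)) :
    List.TFAE [
      Subtr.UnivSSubtrusive f,
      Subtr.IsSSubtrusive f,
      ∀ y : Spec (CommRingCat.of V), ∃ x : X,
        x ∈ closure (f ⁻¹' {(⟨⊥, Ideal.isPrime_bot⟩ : PrimeSpectrum V)}) ∧ f x = y,
      ∃ x x' : X, x' ⤳ x ∧ f x = IsLocalRing.closedPoint V ∧
        f x' = (⟨⊥, Ideal.isPrime_bot⟩ : PrimeSpectrum V),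
      ∃ (W : Type u) (_ : CommRing W) (_ : IsDomain W) (_ : ValuationRing W)
        (g : Spec (CommRingCat.of W) ⟶ X), Surjective (g ≫ f),
      ∃ (Z : Scheme.{u}) (i : Z ⟶ X), IsClosedImmersion i ∧ Flat (i ≫ f) ∧ Surjective (i ≫ f)] := by
  have hηs : ∀ y : PrimeSpectrum V, (⟨⊥, Ideal.isPrime_bot⟩ : PrimeSpectrum V) ⤳ y :=
    fun y => Groth.Agent.Lib.ValSpecialize.bot_specializes y
  tfae_have 1 → 2 := fun h => MorphismProperty.universally_le _ _ h
  tfae_have 2 → 3 := by
    intro hf y
    obtain ⟨x, x', hx, h1, h2⟩ := hf (hηs y)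
    have hsub : ({x'} : Set X) ⊆ f ⁻¹' {(⟨⊥, Ideal.isPrime_bot⟩ : PrimeSpectrum V)} :=
      Set.singleton_subset_iff.mpr h2
    exact ⟨x, closure_mono hsub (specializes_iff_mem_closure.mp hx), h1⟩
  tfae_have 3 → 4 := by
    intro H
    obtain ⟨x, hx, h1⟩ := H (IsLocalRing.closedPoint V)
    obtain ⟨x', hx', hx'x⟩ :=
      Groth.Agent.Lib.SubtrH52.exists_specializes_of_mem_closure_fibre f _ x hx
    exact ⟨x, x', hx'x, h1, hx'⟩
  tfae_have 4 → 6 := by
    rintro ⟨x, x', hx, h1, h2⟩
    exact Groth.Agent.Lib.SubtrH52.exists_flat_closed_of_specializes V f x x' hx h1 h2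
  tfae_have 6 → 1 := by
    rintro ⟨Z, i, _, _, _⟩
    exact Groth.Agent.Lib.SubtrH52.univSSubtrusive_of_comp i f
      (Groth.Agent.Lib.SubtrH52.univSSubtrusive_of_flat_of_surjective (i ≫ f))
  tfae_have 4 → 5 := by
    rintro ⟨x, x', hx, h1, h2⟩
    obtain ⟨A, l, hl1, hl2⟩ :=
      Groth.Agent.Lib.ValSpecialize.exists_valuationSubring_of_specializes' hx
    let φ : CommRingCat.of V ⟶ CommRingCat.of A := Spec.preimage (l ≫ f)
    have hφ : Spec.map φ = l ≫ f := Spec.map_preimage _
    have hext : HTop.IsExtVal (CommRingCat.of V) (CommRingCat.of A) φ := by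
      apply Groth.Agent.Lib.ValSpecialize.isExtVal_of_points
      · rw [hφ]
        exact (congrArg f hl1).trans h1
      · rw [hφ]
        exact (congrArg f hl2).trans h2
    refine ⟨A, inferInstance, inferInstance, inferInstance, l, ⟨?_⟩⟩
    rw [← hφ]
    exact Groth.Agent.Lib.SubtrH52.IsExtVal.surjective hext
  tfae_have 5 → 4 := by
    rintro ⟨W, _, _, _, g, hg⟩
    obtain ⟨w, hw⟩ := hg.surj (IsLocalRing.closedPoint V)
    obtain ⟨w', hw'⟩ := hg.surj (⟨⊥, Ideal.isPrime_bot⟩ : PrimeSpectrum V)
    let η' : ↥(Spec (CommRingCat.of W)) := (⟨⊥, Ideal.isPrime_bot⟩ : PrimeSpectrum W)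
    have hη' : (g ≫ f) η' = (⟨⊥, Ideal.isPrime_bot⟩ : PrimeSpectrum V) := by
      apply Groth.Agent.Lib.SubtrH52.eq_bot_of_specializes_bot
      rw [← hw']
      exact (Groth.Agent.Lib.ValSpecialize.bot_specializes w').map (g ≫ f).continuous
    exact ⟨g w, g η', (Groth.Agent.Lib.ValSpecialize.bot_specializes w).map g.continuous, hw, hη'⟩
  tfae_finish

end Groth.Agent.S14765
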