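import Groth.Statements.S14769
-- import your own Groth.Agent.* helpers here
import Groth.Agent.Lib.SubtrH52

set_option autoImplicit false
universe u
open CategoryTheory CategoryTheory.Limits AlgebraicGeometry
open Subtr

namespace Groth.Agent.S14769

/-- Let f : X ⟶ Y be any morphism of schemes. Then every base change of f has the lifting property for
ordered pairs of points if and only if, for every valuation ring V and morphism g : Spec V ⟶ Y,
there are a valuation ring V', a morphism a : Spec V' ⟶ X and a surjective morphism b : Spec V' ⟶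
Spec V with a ≫ f = b ≫ g. (The published statement assumes f universally submersive for the
constructible topologies and concludes universal subtrusiveness; for quasi-compact f the two agree.) -/
theorem result {X Y : Scheme.{u}} (f : X ⟶ Y) :
    Subtr.UnivSSubtrusive f ↔
      ∀ (V : Type u) [CommRing V] [IsDomain V] [ValuationRing V] (g : Spec (CommRingCat.of V) ⟶ Y),
        ∃ (V' : Type u) (_ : CommRing V') (_ : IsDomain V') (_ : ValuationRing V')
          (a : Spec (CommRingCat.of V') ⟶ X) (b : Spec (CommRingCat.of V') ⟶ Spec (CommRingCat.of V)),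
          Surjective b ∧ a ≫ f = b ≫ g := by
  constructor
  · intro hf V _ _ _ g
    exact Groth.Agent.Lib.SubtrH52.exists_lift_of_isSSubtrusive f V g
      (Groth.Agent.Lib.SubtrH52.isSSubtrusive_snd_of_univSSubtrusive f g hf)
  · intro H
    apply Groth.Agent.Lib.SubtrH52.univSSubtrusive_of_valuationRing
    intro V _ _ _ g p p' hp
    obtain ⟨A, l, hl1, hl2⟩ :=
      Groth.Agent.Lib.ValSpecialize.exists_valuationSubring_of_specializes' hp
    obtain ⟨V', _, _, _, a, b, hb, hab⟩ := H A (l ≫ g)
    obtain ⟨z, z', hz, hz1, hz2⟩ :=
      Groth.Agent.Lib.SubtrH52.exists_specializes_of_lift f A (l ≫ g) V' a b hb.surj hab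
    let m : pullback f (l ≫ g) ⟶ pullback f g :=
      pullback.lift (pullback.fst f (l ≫ g)) (pullback.snd f (l ≫ g) ≫ l)
        (by rw [Category.assoc, ← pullback.condition])
    have hm : m ≫ pullback.snd f g = pullback.snd f (l ≫ g) ≫ l := pullback.lift_snd _ _ _
    refine ⟨m z, m z', hz.map m.continuous, ?_, ?_⟩
    · rw [← Scheme.Hom.comp_apply, hm, Scheme.Hom.comp_apply, hz1, hl1]
    · rw [← Scheme.Hom.comp_apply, hm, Scheme.Hom.comp_apply, hz2, hl2]

end Groth.Agent.S14769
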