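import Groth.Statements.S1478
import Groth.Agent.Lib.H77OmegaSections
import Groth.Agent.Lib.ModPullback
-- import your own Groth.Agent.* helpers here

set_option autoImplicit false
universe u
open FlatMor

namespace Groth.Agent.S1478

open AlgebraicGeometry CategoryTheory Limits Opposite TopologicalSpace
open Groth.Agent.Lib.H77OmegaSections

/-- sections of a zero module vanish -/
lemma subsingleton_sections_of_isZero {X : Scheme.{u}} {M : X.Modules} (h : IsZero M)
    (V : X.Opens) : Subsingleton Γ(M, V) := by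
  refine ⟨fun s t => ?_⟩
  have h0 : 𝟙 M = 0 := (IsZero.iff_id_eq_zero M).mp h
  have hs : s = (𝟙 M : M ⟶ M).val.app (op V) s := rfl
  have ht : t = (𝟙 M : M ⟶ M).val.app (op V) t := rfl
  rw [hs, ht, h0]
  rfl

/-- A module whose sections vanish on a basis of opens is zero. -/
lemma isZero_of_subsingleton_sections_basis {X : Scheme.{u}} (M : X.Modules)
    (B : Set X.Opens) (hB : Opens.IsBasis B) (h : ∀ V ∈ B, Subsingleton Γ(M, V)) : IsZero M := by
  apply Groth.Agent.Lib.ModPullback.isZero_of_forall_subsingleton_stalk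
  intro x
  refine ⟨fun a b => ?_⟩
  suffices H : ∀ c : M.presheaf.stalk x, c = 0 by rw [H a, H b]
  intro c
  obtain ⟨W, hxW, s, rfl⟩ := TopCat.Presheaf.exists_germ_eq M.presheaf c
  obtain ⟨V, hVB, hxV, hVW⟩ := Opens.isBasis_iff_nbhd.mp hB hxW
  have := h V hVB
  rw [← TopCat.Presheaf.germ_res_apply M.presheaf (homOfLE hVW) x hxV s,
    Subsingleton.elim (M.presheaf.map (homOfLE hVW).op s) 0, map_zero]

open AlgebraicGeometry CategoryTheory Limits in
/-- For separated morphisms (where the sheaf of differentials is literally the conormal sheaf of the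
closed diagonal): a separated morphism f : X → S is formally unramified if and only if Ω_{X/S}, the
conormal sheaf of the diagonal, is the zero O_X-module. -/
theorem result {X S : Scheme.{u}} (f : X ⟶ S) [IsSeparated f] :
    FormallyUnramified f ↔ IsZero (Omega.sheaf f) := by
  constructor
  · intro hf
    refine isZero_of_subsingleton_sections_basis _
      {V | IsAffineOpen V ∧ ∃ U : S.Opens, IsAffineOpen U ∧ V ≤ f ⁻¹ᵁ U} ?_ ?_
    · rw [Opens.isBasis_iff_nbhd]
      intro W x hxW
      obtain ⟨U, hU, hxU⟩ : ∃ U : S.Opens, IsAffineOpen U ∧ f.base x ∈ U := by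
        obtain ⟨_, ⟨U, hU, rfl⟩, hxU, -⟩ := S.isBasis_affineOpens.exists_subset_of_mem_open
          (Set.mem_univ (f.base x)) isOpen_univ
        exact ⟨U, hU, hxU⟩
      obtain ⟨_, ⟨V, hV, rfl⟩, hxV, hVW⟩ := X.isBasis_affineOpens.exists_subset_of_mem_open
        (show x ∈ (W ⊓ f ⁻¹ᵁ U : X.Opens) from ⟨hxW, hxU⟩) (W ⊓ f ⁻¹ᵁ U).2
      exact ⟨V, ⟨hV, U, hU, fun y hy => (hVW hy).2⟩, hxV, fun y hy => (hVW hy).1⟩
    · rintro V ⟨hV, U, hU, e⟩
      obtain ⟨E⟩ := nonempty_sections_equiv_kaehler f hU hV e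
      have h1 : (f.appLE U V e).hom.FormallyUnramified := hf.formallyUnramified_appLE hU hV e
      letI := (f.appLE U V e).hom.toAlgebra
      have h2 : Algebra.FormallyUnramified Γ(S, U) Γ(X, V) := h1
      exact E.toEquiv.subsingleton
  · intro hz
    refine ⟨fun {U} hU {V} hV e => ?_⟩
    obtain ⟨E⟩ := nonempty_sections_equiv_kaehler f hU hV e
    have := subsingleton_sections_of_isZero hz V
    letI := (f.appLE U V e).hom.toAlgebra
    have h2 : Algebra.FormallyUnramified Γ(S, U) Γ(X, V) := ⟨E.symm.toEquiv.subsingleton⟩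
    exact h2

end Groth.Agent.S1478
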