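import Groth.Statements.S14783
-- import your own Groth.Agent.* helpers here
import Groth.Agent.Lib.SubtrLCH52

set_option autoImplicit false
universe u
open CategoryTheory CategoryTheory.Limits AlgebraicGeometry
open Subtr

namespace Groth.Agent.S14783

/-- Let f : S' ⟶ S be a quasi-compact morphism of schemes every base change of which has the lifting
property for ordered pairs of points, and E ⊆ S any subset. For E to be both locally closed and
retrocompact it is necessary and sufficient that f⁻¹(E) be both. -/
theorem result {S' S : Scheme.{u}} (f : S' ⟶ S)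
    [QuasiCompact f] (hf : Subtr.UnivSSubtrusive f) (E : Set S) :
    (IsLocallyClosed E ∧ IsRetrocompact E) ↔
      (IsLocallyClosed (f ⁻¹' E) ∧ IsRetrocompact (f ⁻¹' E)) := by
  have hS : IsSSubtrusive f :=
    MorphismProperty.universally_le (P := fun _ _ f => Subtr.IsSSubtrusive f) _ hf
  constructor
  · rintro ⟨h1, h2⟩
    exact ⟨h1.preimage f.continuous,
      Groth.Agent.Lib.SubtrLCH52.isRetrocompact_preimage_of_isLocallyClosed f E h1 h2⟩
  · rintro ⟨h1, h2⟩
    exact ⟨Groth.Agent.Lib.SubtrLCH52.isLocallyClosed_of_preimage f hf E h1 h2,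
      Groth.Agent.Lib.SubtrLCH52.isRetrocompact_of_preimage f
        (Groth.Agent.Lib.SubtrH52.IsSSubtrusive.surjective hS) E h2⟩

end Groth.Agent.S14783
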