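import Groth.Statements.S14788
import Groth.Agent.Lib.ConsTop4

set_option autoImplicit false
universe u
open CategoryTheory CategoryTheory.Limits AlgebraicGeometry
open Subtr

namespace Groth.Agent.S14788

open Groth.Agent.Lib.ConsTop in
/-- (i) ⇔ (iv): a morphism of schemes f : X ⟶ Y has the lifting property for ordered pairs of points if
and only if, for every pro-constructible subset Z ⊆ Y, the image under f of the closure of f⁻¹(Z) is
the closure of Z. (In the published item (iv) the right-hand side is printed as Z itself; the
closure is meant, as the case of a non-closed point shows and as the proof uses.) -/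
theorem result {X Y : Scheme.{u}} (f : X ⟶ Y) :
    Subtr.IsSSubtrusive f ↔
      ∀ Z : Set Y, ProCons.IsProConstructible Z → f '' closure (f ⁻¹' Z) = closure Z := by
  constructor
  · intro hf Z hZ
    apply Set.Subset.antisymm
    · refine (image_closure_subset_closure_image f.continuous).trans (closure_mono ?_)
      exact Set.image_preimage_subset _ _
    · intro y hy
      obtain ⟨z, hzZ, hzy⟩ := exists_specializes_of_mem_closure Y hZ hy
      obtain ⟨x, x', hxx', rfl, rfl⟩ := hf hzy
      exact ⟨x, hxx'.mem_closed isClosed_closure (subset_closure hzZ), rfl⟩
  · intro h y y' hyy'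
    have hy : y ∈ closure ({y'} : Set Y) := hyy'.mem_closed isClosed_closure (subset_closure rfl)
    rw [← h {y'} (isProConstructible_singleton Y y')] at hy
    obtain ⟨x, hx, rfl⟩ := hy
    obtain ⟨x', hx', hx'x⟩ := exists_specializes_of_mem_closure X
      (isProConstructible_preimage f (isProConstructible_singleton Y y')) hx
    exact ⟨x, x', hx'x, rfl, hx'⟩

end Groth.Agent.S14788
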