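import Groth.Statements.S14789
import Mathlib.Topology.Sober
import Mathlib.AlgebraicGeometry.Properties

set_option autoImplicit false
universe u
open CategoryTheory CategoryTheory.Limits AlgebraicGeometry
open Subtr

namespace Groth.Agent.S14789

/-- Let f : X ⟶ Y be a morphism of schemes with the lifting property for ordered pairs of points, and U
⊆ Y a subset containing every maximal point of Y (every point all of whose generizations are equal
to it). Then the closure of f⁻¹(U) maps onto Y. -/
theorem result {X Y : Scheme.{u}} (f : X ⟶ Y)
    (hf : Subtr.IsSSubtrusive f) (U : Set Y) (hU : ∀ y : Y, (∀ y' : Y, y' ⤳ y → y' = y) → y ∈ U) :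
    f '' closure (f ⁻¹' U) = Set.univ := by
  apply Set.eq_univ_of_forall
  intro y
  have hCirr : IsIrreducible (irreducibleComponent y) := isIrreducible_irreducibleComponent
  have hCcl : IsClosed (irreducibleComponent y) := isClosed_irreducibleComponent
  obtain ⟨η, hη⟩ := QuasiSober.sober hCirr hCcl
  have hηy : η ⤳ y := hη.specializes mem_irreducibleComponent
  have hηmax : ∀ y' : Y, y' ⤳ η → y' = η := by
    intro y' hy'
    have h1 : irreducibleComponent y ⊆ closure {y'} := by
      rw [← hη.def]
      exact closure_minimal (Set.singleton_subset_iff.mpr (specializes_iff_mem_closure.mp hy'))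
        isClosed_closure
    have h2 : closure {y'} = irreducibleComponent y :=
      eq_irreducibleComponent (isIrreducible_singleton.closure).isPreirreducible h1
    exact IsGenericPoint.eq (isGenericPoint_def.mpr h2) hη
  have hηU : η ∈ U := hU η hηmax
  obtain ⟨x, x', hxx', hx, hx'⟩ := hf hηy
  refine ⟨x, ?_, hx⟩
  exact hxx'.mem_closed isClosed_closure (subset_closure (by
    show f x' ∈ U
    rw [hx']
    exact hηU))

end Groth.Agent.S14789
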