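import Groth.Statements.S14791
-- import your own Groth.Agent.* helpers here
import Groth.Agent.Lib.SubtrLimH52

set_option autoImplicit false
universe u
open CategoryTheory CategoryTheory.Limits AlgebraicGeometry
open Subtr

namespace Groth.Agent.S14791

/-- Let S = lim S_i be a cofiltered limit of schemes with affine transition morphisms, Y₀ a scheme over
a stage S_{i₀}, f₀ : X₀ ⟶ Y₀ a quasi-compact morphism, and write f_i, f for the base changes of f₀
to the stages S_i and to S (realised as second projections of fibre products). If there is a stage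
S_{i₁} such that f_i has the lifting property for ordered pairs of points for every stage S_i over
S_{i₁}, then f has it. (The published statement is about subtrusive morphisms and assumes f a
quotient map for the constructible topologies; this row keeps only the lifting property and assumes
f₀ quasi-compact, which makes the fibres quasi-compact as the filtered-intersection step of the
argument requires.) -/
theorem result {I : Type u} [SmallCategory I] [IsCofiltered I]
    (D : I ⥤ Scheme.{u}) (c : Limits.Cone D) (hc : Limits.IsLimit c)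
    [∀ (i j : I) (a : i ⟶ j), IsAffineHom (D.map a)] (i₀ : I)
    {X₀ Y₀ : Scheme.{u}} (f₀ : X₀ ⟶ Y₀) (g₀ : Y₀ ⟶ D.obj i₀) [QuasiCompact f₀]
    (h : ∃ (i₁ : I) (ψ : i₁ ⟶ i₀), ∀ (i : I) (φ : i ⟶ i₁),
      Subtr.IsSSubtrusive (pullback.snd f₀ (pullback.fst g₀ (D.map (φ ≫ ψ))))) :
    Subtr.IsSSubtrusive (pullback.snd f₀ (pullback.fst g₀ (c.π.app i₀))) := by
  haveI : ∀ {i j : I} (f : i ⟶ j), IsAffineHom (D.map f) := fun f => inferInstance
  obtain ⟨i₁, ψ, h⟩ := h
  have key : ∀ {B' : Scheme.{u}} (b : B' ⟶ D.obj i₀),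
      ∃ e : pullback (f₀ ≫ g₀) b ≅ pullback f₀ (pullback.fst g₀ b),
        e.hom ≫ pullback.snd f₀ (pullback.fst g₀ b) =
          Groth.Agent.Lib.LimDescent.bcMap f₀ g₀ b := fun b =>
    ⟨(Groth.Agent.Lib.LimDescent.isPullback_bcMap f₀ g₀ b).isoPullback,
      (Groth.Agent.Lib.LimDescent.isPullback_bcMap f₀ g₀ b).isoPullback_hom_snd⟩
  have hlim : Subtr.IsSSubtrusive (Groth.Agent.Lib.LimDescent.bcMap f₀ g₀ (c.π.app i₀)) := by
    apply Groth.Agent.Lib.SubtrLimH52.isSSubtrusive_bcMap_of_forall D c hc i₀ f₀ g₀ (Over.mk ψ)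
    intro j
    obtain ⟨e, he⟩ := key (D.map j.left.hom)
    rw [← he]
    apply Groth.Agent.Lib.SubtrLimH52.isSSubtrusive_iso_comp
    have hw : j.hom.left ≫ ψ = j.left.hom := Over.w j.hom
    have := h j.left.left j.hom.left
    rw [hw] at this
    exact this
  obtain ⟨e, he⟩ := key (c.π.app i₀)
  rw [← he] at hlim
  exact Groth.Agent.Lib.SubtrH52.isSSubtrusive_of_comp _ _ hlim

end Groth.Agent.S14791
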