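import Groth.Statements.S14798
import Groth.Agent.Lib.HJContinuant

set_option autoImplicit false
open Finset
open HJFrac

namespace Groth.Agent.S14798

/-- Let 0 < r < n be coprime integers and n/r = b₁ - 1/(b₂ - 1/(⋯ - 1/b_λ)) the Hirzebruch–Jung
expansion (λ ≥ 1, every b_i ≥ 2); let m₁, m₂ be positive integers prime to n with r m₂ + m₁ ≡ 0 mod
n, and let μ₁, …, μ_λ be positive integers solving the tridiagonal system b_i μ_i - μ_{i-1} -
μ_{i+1} = 0 (1 ≤ i ≤ λ) with the conventions μ₀ = m₂ and μ_{λ+1} = m₁ (the multiplicity vector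
attached to (n, r, m₂, m₁)). Then n/(m₁ m₂) = 1/(m₂ μ₁) + 1/(μ₁ μ₂) + ⋯ + 1/(μ_{λ-1} μ_λ) + 1/(μ_λ
m₁). -/
theorem result (l : ℕ) (hl : 1 ≤ l) (b : ℕ → ℤ)
    (hb : ∀ i, 1 ≤ i → i ≤ l → 2 ≤ b i)
    (n r : ℕ) (hr : 0 < r) (hrn : r < n) (hcop : Nat.Coprime r n)
    (hhj : (n : ℚ) / r = HJFrac.hjVal ((List.range l).map fun i => b (i + 1)))
    (m₁ m₂ : ℕ) (hm₁ : 0 < m₁) (hm₂ : 0 < m₂) (h₁ : Nat.Coprime m₁ n) (h₂ : Nat.Coprime m₂ n)
    (hdvd : (n : ℤ) ∣ r * m₂ + m₁)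
    (μ : ℕ → ℤ) (hμ0 : μ 0 = m₂) (hμl : μ (l + 1) = m₁) (hμpos : ∀ i, i ≤ l + 1 → 0 < μ i)
    (hsys : ∀ i, 1 ≤ i → i ≤ l → b i * μ i = μ (i - 1) + μ (i + 1)) :
    (n : ℚ) / ((m₁ : ℚ) * m₂) = ∑ i ∈ Finset.range (l + 1), 1 / ((μ i : ℚ) * (μ (i + 1) : ℚ)) := by
  open Groth.Agent.Lib.HJContinuant in
  classical
  set L := (List.range l).map fun i => b (i + 1) with hLdef
  have hlen : L.length = l := by simp [L]
  have hL2 : ∀ x ∈ L, (2 : ℤ) ≤ x := by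
    intro x hx
    simp only [L, List.mem_map, List.mem_range] at hx
    obtain ⟨i, hi, rfl⟩ := hx
    exact hb (i + 1) (by omega) (by omega)
  have hLne : L ≠ [] := by
    intro h
    rw [h] at hlen
    simp at hlen
    omega
  have hA : hjA L = n := hjA_eq_of_hjVal L hL2 hLne n r hr hcop hhj
  have hrec : ∀ i (hi : i < L.length), L[i] * μ (i + 1) = μ i + μ (i + 2) := by
    intro i hi
    have h1 : L[i] = b (i + 1) := by simp [L]
    rw [h1]
    have := hsys (i + 1) (by omega) (by rw [hlen] at hi; omega)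
    simpa using this
  have hsum := sum_inv_mul L μ hrec (fun i hi => (hμpos i (by rw [hlen] at hi; exact hi)).ne')
  rw [hlen, hA, hμ0, hμl] at hsum
  rw [hsum]
  push_cast
  rw [mul_comm]

end Groth.Agent.S14798
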