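import Groth.Statements.S14799
import Groth.Agent.Lib.HJContinuant

set_option autoImplicit false
open HJFrac

namespace Groth.Agent.S14799

/-- Let 0 < r < n be coprime integers and n/r = b₁ - 1/(b₂ - 1/(⋯ - 1/b_λ)) the Hirzebruch–Jung
expansion (λ ≥ 1, every b_i ≥ 2); let m₁, m₂ be positive integers prime to n with r m₂ + m₁ ≡ 0 mod
n, and let μ₁, …, μ_λ be positive integers with b_i μ_i = μ_{i-1} + μ_{i+1} for 1 ≤ i ≤ λ, where μ₀
= m₂ and μ_{λ+1} = m₁. Then gcd(m₁, μ₁, …, μ_λ, m₂) = gcd(m₁, m₂); equivalently gcd(m₁, m₂) divides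
every μ_i. -/
theorem result (l : ℕ) (hl : 1 ≤ l) (b : ℕ → ℤ)
    (hb : ∀ i, 1 ≤ i → i ≤ l → 2 ≤ b i)
    (n r : ℕ) (hr : 0 < r) (hrn : r < n) (hcop : Nat.Coprime r n)
    (hhj : (n : ℚ) / r = HJFrac.hjVal ((List.range l).map fun i => b (i + 1)))
    (m₁ m₂ : ℕ) (hm₁ : 0 < m₁) (hm₂ : 0 < m₂) (h₁ : Nat.Coprime m₁ n) (h₂ : Nat.Coprime m₂ n)
    (hdvd : (n : ℤ) ∣ r * m₂ + m₁)
    (μ : ℕ → ℤ) (hμ0 : μ 0 = m₂) (hμl : μ (l + 1) = m₁) (hμpos : ∀ i, i ≤ l + 1 → 0 < μ i)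
    (hsys : ∀ i, 1 ≤ i → i ≤ l → b i * μ i = μ (i - 1) + μ (i + 1)) :
    ∀ i, i ≤ l + 1 → ((Nat.gcd m₁ m₂ : ℕ) : ℤ) ∣ μ i := by
  open Groth.Agent.Lib.HJContinuant in
  classical
  set L := (List.range l).map fun i => b (i + 1) with hLdef
  have hlen : L.length = l := by simp [L]
  have hL2 : ∀ x ∈ L, (2 : ℤ) ≤ x := by
    intro x hx
    simp only [L, List.mem_map, List.mem_range] at hx
    obtain ⟨i, hi, rfl⟩ := hx
    exact hb (i + 1) (by omega) (by omega)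
  have hLne : L ≠ [] := by
    intro h
    rw [h] at hlen
    simp at hlen
    omega
  have hA : hjA L = n := hjA_eq_of_hjVal L hL2 hLne n r hr hcop hhj
  have hrec : ∀ i (hi : i < L.length), L[i] * μ (i + 1) = μ i + μ (i + 2) := by
    intro i hi
    have h1 : L[i] = b (i + 1) := by simp [L]
    rw [h1]
    have := hsys (i + 1) (by omega) (by rw [hlen] at hi; omega)
    simpa using this
  obtain ⟨e1, -⟩ := transport L μ hrec
  rw [hlen, hA, hμ0, hμl] at e1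
  have hd1 : ((Nat.gcd m₁ m₂ : ℕ) : ℤ) ∣ (m₁ : ℤ) :=
    Int.natCast_dvd_natCast.mpr (Nat.gcd_dvd_left _ _)
  have hd2 : ((Nat.gcd m₁ m₂ : ℕ) : ℤ) ∣ (m₂ : ℤ) :=
    Int.natCast_dvd_natCast.mpr (Nat.gcd_dvd_right _ _)
  have hdn : IsCoprime ((Nat.gcd m₁ m₂ : ℕ) : ℤ) (n : ℤ) := by
    rw [Int.isCoprime_iff_gcd_eq_one, Int.gcd_natCast_natCast]
    exact Nat.Coprime.coprime_dvd_left (Nat.gcd_dvd_left _ _) h₁
  have hdl : ((Nat.gcd m₁ m₂ : ℕ) : ℤ) ∣ μ l := by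
    have h2 : ((Nat.gcd m₁ m₂ : ℕ) : ℤ) ∣ (n : ℤ) * μ l := by
      have : (n : ℤ) * μ l = m₂ - hjB L * m₁ := by linarith
      rw [this]
      exact dvd_sub hd2 (Dvd.dvd.mul_left hd1 _)
    exact hdn.dvd_of_dvd_mul_left h2
  have key : ∀ k, k ≤ l → ((Nat.gcd m₁ m₂ : ℕ) : ℤ) ∣ μ (l - k) ∧
      ((Nat.gcd m₁ m₂ : ℕ) : ℤ) ∣ μ (l + 1 - k) := by
    intro k
    induction k with
    | zero =>
      intro _
      exact ⟨hdl, by rw [Nat.sub_zero, hμl]; exact hd1⟩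
    | succ k ih =>
      intro hk
      obtain ⟨h1, h2⟩ := ih (by omega)
      have hs := hsys (l - k) (by omega) (by omega)
      have e : l - k - 1 = l - (k + 1) := by omega
      have e' : l - k + 1 = l + 1 - k := by omega
      rw [e, e'] at hs
      refine ⟨?_, ?_⟩
      · have : μ (l - (k + 1)) = b (l - k) * μ (l - k) - μ (l + 1 - k) := by linarith
        rw [this]
        exact dvd_sub (Dvd.dvd.mul_left h1 _) h2
      · have : l + 1 - (k + 1) = l - k := by omega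
        rw [this]
        exact h1
  intro i hi
  by_cases hil : i = l + 1
  · subst hil
    rw [hμl]
    exact hd1
  · have h3 := (key (l - i) (by omega)).1
    have e : l - (l - i) = i := by omega
    rwa [e] at h3

end Groth.Agent.S14799
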