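import Groth.Statements.S14801
import Groth.Agent.Lib.LabGraphCtr2

set_option autoImplicit false
universe u
open Finset
open LabGraph

namespace Groth.Agent.S14801

/-- Let (G, β) be a finite multigraph with a multiplicity function and α its matrix (α_{vw} = #edges(v,
w) for v ≠ w, diagonal entries defined by Σ_w β(w) α_{vw} = 0); let L be a connecting chain of
length m (vertices v₀, …, v_m, edges e₁, …, e_m, each connecting) with β(v_i) = m and α_{v_i v_i} =
-2 for all i; let (G', β') be the contraction of L and f : ℤ^{V(G')} → ℤ^{V(G)} the map extending a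
vector by zero along the section of V(G) → V(G') that sends the contracted vertex to v₀. Then f
carries ker β' into ker β, and there is a map h : ℤ^{V(G')} → ℤ^{V(G)} with f ∘ α' = α ∘ h, so that
f induces a homomorphism of component groups ker β'/im α' → ker β/im α; this homomorphism is
surjective. -/
theorem result {V E : Type u} [Fintype V] [Fintype E] [DecidableEq V] [DecidableEq E]
    (ends : E → V × V) (β : V → ℤ) (hβ : LabGraph.IsMultFn ends β)
    (m : ℕ) (f : Fin (m + 1) → V) (e : Fin m → E) (hC : LabGraph.IsChain ends f e)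
    (hconn : ∀ i, LabGraph.IsConnecting ends (e i)) (hβm : ∀ i, β (f i) = m)
    (hα : ∀ i, LabGraph.mfMatrix ends β (f i) (f i) = -2) :
    ∃ φ : LabGraph.CompGrp (DualGr.ctrEnds ends (univ.image e)) (LabGraph.ctrFn ends (univ.image e) β) →+
        LabGraph.CompGrp ends β,
      Function.Surjective φ ∧
      ∀ (x : LinearMap.ker (LabGraph.betaHom (LabGraph.ctrFn ends (univ.image e) β)))
        (y : LinearMap.ker (LabGraph.betaHom β)),
        (y : V → ℤ) = LabGraph.liftAt ends (univ.image e) (f 0) (x : DualGr.CtrVert ends (univ.image e) → ℤ) →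
        φ (Submodule.Quotient.mk x) = Submodule.Quotient.mk y := by
  classical
  have hm : 0 < m := by
    have h1 := (hβ (f 0)).1
    rw [hβm] at h1
    exact_mod_cast h1
  obtain ⟨S, h0, hS⟩ := Groth.Agent.Lib.LabGraphCtr.exists_cut ends f e hm (hconn ⟨0, hm⟩)
  have hO := Groth.Agent.Lib.LabGraphCtr.oneClass_of_isChain ends f e hC
  -- the linear map `liftAt`
  let F : (DualGr.CtrVert ends (univ.image e) → ℤ) →ₗ[ℤ] (V → ℤ) :=
    { toFun := LabGraph.liftAt ends (univ.image e) (f 0)
      map_add' := by
        intro a b
        funext v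
        simp only [LabGraph.liftAt, Pi.add_apply]
        split_ifs <;> simp
      map_smul' := by
        intro c a
        funext v
        simp only [LabGraph.liftAt, Pi.smul_apply, RingHom.id_apply]
        split_ifs <;> simp }
  have hFapp : ∀ x, F x = LabGraph.liftAt ends (univ.image e) (f 0) x := fun _ => rfl
  have hFker : ∀ x ∈ LinearMap.ker (LabGraph.betaHom (LabGraph.ctrFn ends (univ.image e) β)),
      F x ∈ LinearMap.ker (LabGraph.betaHom β) := by
    intro x hx
    rw [LinearMap.mem_ker, hFapp,
      Groth.Agent.Lib.LabGraphCtr.betaHom_liftAt ends β f e hC hβm x]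
    exact hx
  let F' := F.restrict hFker
  have hle : (LinearMap.range (Matrix.mulVecLin (LabGraph.mfMatrix (DualGr.ctrEnds ends (univ.image e))
        (LabGraph.ctrFn ends (univ.image e) β)))).comap
        (LinearMap.ker (LabGraph.betaHom (LabGraph.ctrFn ends (univ.image e) β))).subtype ≤
      ((LinearMap.range (Matrix.mulVecLin (LabGraph.mfMatrix ends β))).comap
        (LinearMap.ker (LabGraph.betaHom β)).subtype).comap F' := by
    intro x hx
    obtain ⟨z', hz'⟩ := hx
    obtain ⟨z, hz⟩ := Groth.Agent.Lib.LabGraphCtr.exists_mulVec_eq_liftAt_ctr ends β f e hβ hC hβm hα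
      hm S h0 hS z'
    refine ⟨z, ?_⟩
    rw [Matrix.mulVecLin_apply] at hz' ⊢
    rw [hz, hz']
    rfl
  refine ⟨(Submodule.mapQ _ _ F' hle).toAddMonoidHom, ?_, ?_⟩
  · intro q
    obtain ⟨y, rfl⟩ := Submodule.Quotient.mk_surjective _ q
    obtain ⟨z, hz⟩ := Groth.Agent.Lib.LabGraphCtr.exists_mulVec_eq_on_chain ends β f e hβ hC hβm hα
      hm S h0 hS (y : V → ℤ)
    set y₁ : V → ℤ := (y : V → ℤ) - Matrix.mulVec (LabGraph.mfMatrix ends β) z with hy₁
    let rep : DualGr.CtrVert ends (univ.image e) → V := fun c =>
      if c = DualGr.ctrMk ends (univ.image e) (f 0) then f 0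
      else Quotient.out (s := DualGr.ctrSetoid ends (univ.image e)) c
    let x : DualGr.CtrVert ends (univ.image e) → ℤ := fun c => y₁ (rep c)
    have hFx : F x = y₁ := by
      funext v
      rw [hFapp]
      by_cases hv : v ∈ univ.image f
      · obtain ⟨i, -, rfl⟩ := Finset.mem_image.mp hv
        rw [Groth.Agent.Lib.LabGraphCtr.liftAt_chain ends f e hC]
        by_cases hi : i = 0
        · subst hi
          simp only [if_true, x, rep]
        · rw [if_neg hi]
          simp only [hy₁, Pi.sub_apply, hz i hi, sub_self]
      · rw [Groth.Agent.Lib.LabGraphCtr.liftAt_not_chain ends f e hC x v hv]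
        have hne : DualGr.ctrMk ends (univ.image e) v ≠ DualGr.ctrMk ends (univ.image e) (f 0) := by
          intro h
          rcases (hO _ _).mp h with h | h
          · exact hv (h ▸ Finset.mem_image_of_mem _ (Finset.mem_univ _))
          · exact hv h.1
        have hout : Quotient.out (s := DualGr.ctrSetoid ends (univ.image e))
            (DualGr.ctrMk ends (univ.image e) v) = v := by
          have h : DualGr.ctrMk ends (univ.image e)
              (Quotient.out (s := DualGr.ctrSetoid ends (univ.image e))
                (DualGr.ctrMk ends (univ.image e) v)) = DualGr.ctrMk ends (univ.image e) v :=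
            Quotient.out_eq _
          rcases (hO _ _).mp h with h | h
          · exact h
          · exact absurd h.2 hv
        simp only [x, rep, if_neg hne, hout]
    have hxker : x ∈ LinearMap.ker (LabGraph.betaHom (LabGraph.ctrFn ends (univ.image e) β)) := by
      rw [LinearMap.mem_ker, ← Groth.Agent.Lib.LabGraphCtr.betaHom_liftAt ends β f e hC hβm x,
        ← hFapp, hFx, hy₁, map_sub, Groth.Agent.Lib.LabGraphCtr.betaHom_mulVec ends β hβ, sub_zero]
      exact y.2
    refine ⟨Submodule.Quotient.mk ⟨x, hxker⟩, ?_⟩
    show Submodule.mapQ _ _ F' hle (Submodule.Quotient.mk ⟨x, hxker⟩) = Submodule.Quotient.mk y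
    rw [Submodule.mapQ_apply, Submodule.Quotient.eq]
    refine ⟨-z, ?_⟩
    rw [Matrix.mulVecLin_apply, Matrix.mulVec_neg]
    show _ = F x - (y : V → ℤ)
    rw [hFx, hy₁]
    abel
  · intro x y hxy
    show Submodule.mapQ _ _ F' hle (Submodule.Quotient.mk x) = Submodule.Quotient.mk y
    rw [Submodule.mapQ_apply]
    congr 1
    exact Subtype.ext hxy.symm

end Groth.Agent.S14801
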