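import Groth.Statements.S14803
import Groth.Agent.Lib.LabGraphLap

set_option autoImplicit false
universe u
open Finset
open LabGraph

namespace Groth.Agent.S14803

open Classical in
/-- Let (G, β) be a connected finite multigraph with a multiplicity function, α its matrix (α_{vw} =
#edges(v, w) for v ≠ w, Σ_w β(w) α_{vw} = 0) and Φ(G) = ker β / im α its component group; let m be
the gcd of all the values β(v). Then Φ(G) is finite of order m² · Σ_T Π_v β(v)^{#N_T(v) - 2}, where
T runs over the spanning trees of G and N_T(v) is the set of neighbours of v in T. (The published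
statement gives this order for the Néron component group of a curve's Jacobian, G being the weighted
dual graph of a proper regular model and β its component multiplicities; this row states the
identity for every connected pair (G, β) with a positive multiplicity function.) -/
theorem result {V E : Type u} [Fintype V] [Fintype E] [DecidableEq V] [DecidableEq E]
    (ends : E → V × V) (β : V → ℤ) (hβ : LabGraph.IsMultFn ends β) (hG : LabGraph.Connected ends) :
    (Nat.card (LabGraph.CompGrp ends β) : ℚ) =
      ((univ.gcd β : ℤ) : ℚ) ^ 2 *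
        ∑ T ∈ univ.powerset.filter (fun T : Finset E => LabGraph.IsSpanningTree ends T),
          ∏ v : V, ((β v : ℚ) ^ ((LabGraph.nbrCount ends T v : ℤ) - 2)) := by
  obtain ⟨v₀⟩ := hG.1
  have key := Groth.Agent.Lib.LabGraphTree.card_compGrp_mul ends β hβ hG v₀
  rw [Groth.Agent.Lib.LabGraphTree.matrix_tree ends _ v₀] at key
  have hβpos : ∀ v, (0 : ℤ) < β v := fun v => (hβ v).1
  have hprod_pos : 0 < ∏ v, β v := Finset.prod_pos fun v _ => hβpos v
  have hsum_nonneg : 0 ≤ ∑ T ∈ univ.powerset.filter
      (fun T : Finset E => LabGraph.IsSpanningTree ends T),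
      ∏ e ∈ T, Groth.Agent.Lib.LabGraphTree.wβ ends β e :=
    Finset.sum_nonneg fun T _ => Finset.prod_nonneg fun e _ =>
      mul_nonneg (hβpos _).le (hβpos _).le
  have keyZ : (Nat.card (LabGraph.CompGrp ends β) : ℤ) * (∏ v, β v) * (∏ v, β v) =
      univ.gcd β * univ.gcd β * ∑ T ∈ univ.powerset.filter
        (fun T : Finset E => LabGraph.IsSpanningTree ends T),
        ∏ e ∈ T, Groth.Agent.Lib.LabGraphTree.wβ ends β e := by
    have h := congrArg (Nat.cast : ℕ → ℤ) key
    simp only [Nat.cast_mul, Int.natCast_natAbs] at h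
    rw [abs_of_pos hprod_pos, abs_of_nonneg hsum_nonneg, abs_mul_abs_self] at h
    exact h
  have hterm : ∀ T ∈ univ.powerset.filter (fun T : Finset E => LabGraph.IsSpanningTree ends T),
      ((∏ e ∈ T, Groth.Agent.Lib.LabGraphTree.wβ ends β e : ℤ) : ℚ) =
        (∏ v : V, ((β v : ℚ) ^ ((LabGraph.nbrCount ends T v : ℤ) - 2))) *
          (((∏ v, β v : ℤ) : ℚ) * ((∏ v, β v : ℤ) : ℚ)) := by
    intro T hT
    rw [Finset.mem_filter] at hT
    have hF : DualGr.IsForest (fun e : T => ends e.1) := hT.2.2
    have h1 : ∏ e ∈ T, Groth.Agent.Lib.LabGraphTree.wβ ends β e =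
        ∏ v, β v ^ LabGraph.nbrCount ends T v := by
      rw [show (∏ e ∈ T, Groth.Agent.Lib.LabGraphTree.wβ ends β e) =
        ∏ e ∈ T, (β (ends e).1 * β (ends e).2) from rfl,
        Groth.Agent.Lib.LabGraphTree.prod_mul_eq_prod_pow_endCount]
      refine Finset.prod_congr rfl fun v _ => ?_
      rw [Groth.Agent.Lib.LabGraphTree.endCount_eq_nbrCount ends T hF v]
    rw [h1]
    push_cast
    rw [← Finset.prod_mul_distrib, ← Finset.prod_mul_distrib]
    refine Finset.prod_congr rfl fun v _ => ?_
    have hv : (β v : ℚ) ≠ 0 := by exact_mod_cast (hβpos v).ne'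
    rw [zpow_sub₀ hv, zpow_natCast, zpow_ofNat]
    field_simp
  have keyQ := congrArg (Int.cast : ℤ → ℚ) keyZ
  push_cast at keyQ
  have hP : ((∏ v, β v : ℤ) : ℚ) ≠ 0 := by exact_mod_cast hprod_pos.ne'
  push_cast at hP hterm
  rw [Finset.sum_congr rfl hterm, ← Finset.sum_mul] at keyQ
  have hPP : (∏ v, (β v : ℚ)) * (∏ v, (β v : ℚ)) ≠ 0 := mul_ne_zero hP hP
  apply mul_right_cancel₀ hPP
  linear_combination keyQ

end Groth.Agent.S14803
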