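import Groth.Statements.S14804
import Groth.Agent.Lib.LabGraphTree2

set_option autoImplicit false
universe u
open Finset
open LabGraph

namespace Groth.Agent.S14804

/-- In a connected finite multigraph G, a vertex v belongs to some cycle of G (here: v is an endpoint of
an edge of some circuit, a circuit being a minimal nonempty edge set meeting every vertex in an even
number of edge-ends, which includes loops and pairs of parallel edges) if and only if G has a
spanning tree T such that some edge outside T has v as an endpoint. (The published statement is for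
an arbitrary multigraph; when G is disconnected it has no spanning tree while a vertex may lie on a
cycle, so G is taken connected here, the case of dual graphs for which it is used.) -/
theorem result
    {V E : Type u} [Fintype V] [Fintype E] [DecidableEq V] [DecidableEq E]
    (ends : E → V × V) (hG : LabGraph.Connected ends) (v : V) :
    (∃ C : Finset E, LabGraph.IsCircuit ends C ∧ LabGraph.endCount ends C v ≠ 0) ↔
      ∃ T : Finset E, LabGraph.IsSpanningTree ends T ∧
        ∃ e : E, e ∉ T ∧ ((ends e).1 = v ∨ (ends e).2 = v) := by
  open Groth.Agent.Lib.LabGraphTree in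
  constructor
  · rintro ⟨C, hC, hv⟩
    obtain ⟨e, heC, hev⟩ := Finset.exists_ne_zero_of_sum_ne_zero hv
    have hend : (ends e).1 = v ∨ (ends e).2 = v := by
      by_contra hcon
      simp only [not_or] at hcon
      apply hev
      simp [hcon.1, hcon.2]
    have hspan_univ : Spans ends univ := by
      intro x hx
      obtain ⟨γ, hγ⟩ := exists_mulVec_eq_of_sum_eq_zero (ZMod 2) ends hG x hx
      exact ⟨γ, fun e he => absurd (Finset.mem_univ e) he, hγ⟩
    have hspan : Spans ends (univ.erase e) :=
      spans_erase ends univ hspan_univ (ind C) (fun e he => absurd (Finset.mem_univ e) he)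
        ((mulVec_ind_eq_zero_iff ends C).2 hC.2.1) e (by rw [ind_apply, if_pos heC])
    obtain ⟨T, hTsub, hT⟩ := exists_isSpanningTree_subset ends hG.1 _ hspan
    exact ⟨T, hT, e, fun h => (Finset.mem_erase.1 (hTsub h)).1 rfl, hend⟩
  · rintro ⟨T, hT, e, heT, hend⟩
    obtain ⟨⟨_, hS⟩, hI⟩ := (isSpanningTree_iff ends T).1 hT
    obtain ⟨γ, hγ, hγx⟩ := hS (Matrix.mulVec (incR (ZMod 2) ends) (Pi.single e 1))
      (sum_incR_mulVec _ ends _)
    set δ : E → ZMod 2 := γ + Pi.single e 1 with hδ
    have hδ0 : Matrix.mulVec (incR (ZMod 2) ends) δ = 0 := by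
      rw [hδ, Matrix.mulVec_add, hγx]
      funext u
      exact CharTwo.add_self_eq_zero _
    have hδe : δ e = 1 := by
      rw [hδ, Pi.add_apply, hγ e heT, zero_add, Pi.single_eq_same]
    set C₀ : Finset E := univ.filter fun e' => δ e' ≠ 0 with hC₀
    have hδC : δ = ind C₀ := by
      funext e'
      have h01 : ∀ a : ZMod 2, a = 0 ∨ a = 1 := by decide
      simp only [ind, hC₀, mem_filter, mem_univ, true_and]
      rcases h01 (δ e') with h | h <;> simp [h]
    have hC₀ne : C₀.Nonempty := ⟨e, by
      simp only [hC₀, mem_filter, mem_univ, true_and, hδe]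
      exact one_ne_zero⟩
    have hC₀ev : ∀ u, Even (endCount ends C₀ u) := by
      rw [← mulVec_ind_eq_zero_iff, ← hδC]
      exact hδ0
    obtain ⟨C, hCsub, hC⟩ := exists_isCircuit_subset_of_even ends C₀ hC₀ne hC₀ev
    have heC : e ∈ C := by
      by_contra heC
      have hCT : ∀ e', e' ∉ T → ind C e' = 0 := by
        intro e' he'
        rw [ind_apply]
        by_cases h : e' ∈ C
        · exfalso
          have h1 := hCsub h
          simp only [hC₀, mem_filter, mem_univ, true_and] at h1
          have hne : e' ≠ e := fun h' => heC (h' ▸ h)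
          apply h1
          rw [hδ, Pi.add_apply, hγ e' he', zero_add, Pi.single_eq_of_ne hne]
        · rw [if_neg h]
      have h0 := hI (ind C) hCT ((mulVec_ind_eq_zero_iff ends C).2 hC.2.1)
      obtain ⟨e', he'⟩ := hC.1
      have := congrFun h0 e'
      rw [ind_apply, if_pos he'] at this
      exact one_ne_zero this
    refine ⟨C, hC, ?_⟩
    have hle : ((if (ends e).1 = v then 1 else 0) + (if (ends e).2 = v then 1 else 0)) ≤
        endCount ends C v :=
      Finset.single_le_sum (f := fun e => ((if (ends e).1 = v then 1 else 0) +
        (if (ends e).2 = v then 1 else 0))) (fun _ _ => Nat.zero_le _) heC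
    rcases hend with h | h
    · rw [if_pos h] at hle
      omega
    · rw [if_pos h] at hle
      omega

end Groth.Agent.S14804
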