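import Groth.Statements.S14807
import Mathlib.GroupTheory.OrderOfElement
import Mathlib.SetTheory.Cardinal.Finite

set_option autoImplicit false
universe u
open CAlg

namespace Groth.Agent.S14807

/-- Let G be a finite abelian group, written additively, and ℓ a prime number. Every sequence (g_n)_{n ≥
0} of elements of G with ℓ^n · g_n = 0 and ℓ · g_{n+1} = g_n for all n is identically zero; in other
words the inverse limit of the subgroups of ℓ^n-torsion elements, with transition maps
multiplication by ℓ, vanishes. -/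
theorem result (G : Type u) [AddCommGroup G] [Finite G]
    (ℓ : ℕ) (hℓ : ℓ.Prime) (g : ℕ → G) (htor : ∀ n : ℕ, ℓ ^ n • g n = 0)
    (hcomp : ∀ n : ℕ, ℓ • g (n + 1) = g n) (n : ℕ) : g n = 0 := by
  -- `ℓ ^ k • g (n + k) = g n`
  have hshift : ∀ k m : ℕ, ℓ ^ k • g (m + k) = g m := by
    intro k
    induction k with
    | zero => intro m; simp
    | succ k ih =>
      intro m
      rw [pow_succ, mul_smul, ← add_assoc, hcomp, ih]
  -- every `g m` is killed by `ℓ ^ N` with `N = card G`
  have hkill : ∀ m : ℕ, ℓ ^ (Nat.card G) • g m = 0 := by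
    intro m
    have h1 : addOrderOf (g m) ∣ ℓ ^ m := addOrderOf_dvd_of_nsmul_eq_zero (htor m)
    obtain ⟨j, -, hj⟩ := (Nat.dvd_prime_pow hℓ).mp h1
    have h2 : addOrderOf (g m) ∣ Nat.card G := addOrderOf_dvd_natCard (g m)
    have hpos : 0 < Nat.card G := Nat.card_pos
    have h3 : ℓ ^ j ≤ Nat.card G := Nat.le_of_dvd hpos (hj ▸ h2)
    have h4 : j ≤ Nat.card G := le_trans (Nat.lt_pow_self hℓ.one_lt).le h3
    rw [← addOrderOf_dvd_iff_nsmul_eq_zero, hj]
    exact pow_dvd_pow ℓ h4
  rw [← hshift (Nat.card G) n]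
  exact hkill _

end Groth.Agent.S14807
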