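import Groth.Statements.S14808
import Groth.Agent.Lib.H78SecCoord

set_option autoImplicit false
universe u
open CategoryTheory CategoryTheory.Limits AlgebraicGeometry
open PicF

namespace Groth.Agent.S14808

open TopologicalSpace Opposite
open AlgebraicGeometry.Scheme AlgebraicGeometry.Scheme.Modules
open Groth.Agent.Lib.H90Invertible Groth.Agent.Lib.StructureModule Groth.Agent.Lib.H78TensorGen
open Groth.Agent.Lib.H78SecCoord

variable {X : Scheme.{u}} {L : X.Modules}

/-- a section of the structure module as a function -/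
def unSec (V : X.Opens) (a : Γ(Coh.structureModule X, V)) : Γ(X, V) := a

/-- the map on sections `L(V) → O(V)` of a morphism `t : L ⟶ O`. -/
noncomputable def ev (t : L ⟶ Coh.structureModule X) (V : X.Opens) (l : Γ(L, V)) : Γ(X, V) :=
  unSec V (t.app V l)

lemma ev_smul (t : L ⟶ Coh.structureModule X) (V : X.Opens) (a : Γ(X, V)) (l : Γ(L, V)) :
    ev t V (a • l) = a * ev t V l := by
  unfold ev
  rw [Hom.app_smul]
  rfl

lemma ev_rs (t : L ⟶ Coh.structureModule X) {V W : X.Opens} (h : W ≤ V) (l : Γ(L, V)) :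
    ev t W (rs L h l) = X.presheaf.map (homOfLE h).op (ev t V l) := by
  unfold ev
  rw [app_rs]
  rfl

lemma ev_zero (t : L ⟶ Coh.structureModule X) (V : X.Opens) : ev t V 0 = 0 := by
  unfold ev
  rw [map_zero]
  rfl

/-- on an integral scheme, a section of an invertible module vanishing on a nonempty open is zero -/
theorem sec_eq_zero_of_rs_eq_zero [IsIntegral X] (hL : PicF.IsInvertible L) {V W : X.Opens}
    (hWV : W ≤ V) (hW : (W : Set X).Nonempty) (σ : Γ(L, V)) (h : rs L hWV σ = 0) : σ = 0 := by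
  refine sec_ext L σ 0 (fun z hz => ?_)
  obtain ⟨W₀, hzW₀, e, he⟩ := (isInvertible_iff_exists_isGen L).mp hL z
  have hle : W₀ ⊓ V ≤ V := inf_le_right
  have hle0 : W₀ ⊓ V ≤ W₀ := inf_le_left
  refine ⟨W₀ ⊓ V, hle, ⟨hzW₀, hz⟩, ?_⟩
  have h0 : rs L hle (0 : Γ(L, V)) = 0 := map_zero _
  rw [h0]
  apply coord_injective he hle0
  rw [coord_zero]
  -- restrict to `(W₀ ⊓ V) ⊓ W`
  have hne : (((W₀ ⊓ V) ⊓ W : X.Opens) : Set X).Nonempty := by
    have h1 : ((W₀ ⊓ V : X.Opens) : Set X).Nonempty := ⟨z, hzW₀, hz⟩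
    exact nonempty_preirreducible_inter (W₀ ⊓ V).2 W.2 h1 hW
  haveI : Nonempty ((W₀ ⊓ V) ⊓ W : X.Opens) := hne.to_subtype
  have hle2 : (W₀ ⊓ V) ⊓ W ≤ W₀ ⊓ V := inf_le_left
  apply map_injective_of_isIntegral X (homOfLE hle2)
  rw [map_zero, ← coord_rs he hle0 hle2, rs_rs]
  have h3 : rs L (hle2.trans hle) σ = rs L (inf_le_right : (W₀ ⊓ V) ⊓ W ≤ W) (rs L hWV σ) := by
    rw [rs_rs]
  have h4 : rs L (inf_le_right : (W₀ ⊓ V) ⊓ W ≤ W) (0 : Γ(L, W)) = 0 := map_zero _
  rw [h3, h, h4, coord_zero]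

/-- on an integral scheme, if `t : L ⟶ O` kills one local generator over a nonempty open, it kills
every local generator over a nonempty open. -/
theorem ev_gen_eq_zero [IsIntegral X] (t : L ⟶ Coh.structureModule X) {W W' : X.Opens}
    (hW : (W : Set X).Nonempty) (hW' : (W' : Set X).Nonempty) (e : Γ(L, W)) (he : IsGen L W e)
    (e' : Γ(L, W')) (h : ev t W e = 0) : ev t W' e' = 0 := by
  have hne : ((W' ⊓ W : X.Opens) : Set X).Nonempty :=
    nonempty_preirreducible_inter W'.2 W.2 hW' hW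
  haveI : Nonempty (W' ⊓ W : X.Opens) := hne.to_subtype
  have hl : W' ⊓ W ≤ W' := inf_le_left
  have hr : W' ⊓ W ≤ W := inf_le_right
  apply map_injective_of_isIntegral X (homOfLE hl)
  rw [map_zero, ← ev_rs, ← coord_spec he hr (rs L hl e'), ev_smul, ev_rs, h, map_zero, mul_zero]

theorem hom_eq_zero_of_ev_gen_eq_zero [IsIntegral X] (hL : PicF.IsInvertible L)
    (t : L ⟶ Coh.structureModule X) {W : X.Opens} (hW : (W : Set X).Nonempty) (e : Γ(L, W))
    (he : IsGen L W e) (h : ev t W e = 0) : t = 0 := by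
  apply Scheme.Modules.hom_ext
  intro V
  ext l
  rw [Hom.zero_app]
  change t.app V l = 0
  refine sec_ext (Coh.structureModule X) (t.app V l) 0 (fun z hz => ?_)
  obtain ⟨W₀, hzW₀, e₀, he₀⟩ := (isInvertible_iff_exists_isGen L).mp hL z
  have hle : W₀ ⊓ V ≤ V := inf_le_right
  have hle0 : W₀ ⊓ V ≤ W₀ := inf_le_left
  refine ⟨W₀ ⊓ V, hle, ⟨hzW₀, hz⟩, ?_⟩
  have h0 : rs (Coh.structureModule X) hle (0 : Γ(Coh.structureModule X, V)) = 0 := map_zero _
  rw [h0, ← app_rs, ← coord_spec he₀ hle0 (rs L hle l)]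
  change toSec _ (ev t (W₀ ⊓ V) _) = 0
  rw [ev_smul, ev_rs, ev_gen_eq_zero t hW ⟨z, hzW₀⟩ e he e₀ h, map_zero, mul_zero]
  rfl


/-- Let X be an integral scheme such that Γ(X, O_X) is a field and L an invertible O_X-module. If L has
a nonzero global section (a nonzero morphism O_X → L) and its dual has a nonzero global section (a
nonzero morphism L → O_X), then L is isomorphic to O_X. -/
theorem result (X : Scheme.{u}) [IsIntegral X]
    (hfield : IsField (Γ(X, ⊤) : Type u)) (L : X.Modules) (hL : PicF.IsInvertible L)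
    (s : Coh.structureModule X ⟶ L) (hs : s ≠ 0) (t : L ⟶ Coh.structureModule X) (ht : t ≠ 0) :
    Nonempty (L ≅ Coh.structureModule X) := by
  rw [nonempty_iso_structureModule_iff]
  by_cases hc0 : ev t ⊤ (sec s) = 0
  · exfalso
    obtain ⟨z₀⟩ : Nonempty X := inferInstance
    obtain ⟨W, hzW, e, he⟩ := (isInvertible_iff_exists_isGen L).mp hL z₀
    have hWne : (W : Set X).Nonempty := ⟨z₀, hzW⟩
    haveI : Nonempty W := hWne.to_subtype
    have hsp : coord he le_rfl (rs L le_top (sec s)) • e = rs L le_top (sec s) := by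
      have h1 := coord_spec he le_rfl (rs L le_top (sec s))
      rwa [rs_self] at h1
    have hab : coord he le_rfl (rs L le_top (sec s)) * ev t W e = 0 := by
      rw [← ev_smul, hsp, ev_rs, hc0, map_zero]
    rcases mul_eq_zero.mp hab with ha | hb
    · apply hs
      have hσW : rs L (le_top : W ≤ ⊤) (sec s) = 0 := by
        rw [← hsp, ha, zero_smul]
      have hσ0 : sec s = 0 := sec_eq_zero_of_rs_eq_zero hL le_top hWne (sec s) hσW
      rw [← ofSection_sec s, hσ0]
      apply Scheme.Modules.hom_ext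
      intro V
      ext a
      rw [Hom.zero_app]
      change (ofSection (0 : Γ(L, ⊤))).app V (toSec V a) = 0
      rw [ofSection_app, map_zero, smul_zero]
    · exact ht (hom_eq_zero_of_ev_gen_eq_zero hL t hWne e he hb)
  · obtain ⟨d, hd⟩ := hfield.mul_inv_cancel hc0
    have hcu : IsUnit (ev t ⊤ (sec s)) := IsUnit.of_mul_eq_one d hd
    refine ⟨sec s, ?_⟩
    choose W hzW e he using (isInvertible_iff_exists_isGen L).mp hL
    refine isGen_of_cover (sec s) W (fun z => le_top) (fun z _ => Opens.mem_iSup.2 ⟨z, hzW z⟩)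
      (fun z => ?_)
    have hsp : coord (he z) le_rfl (rs L le_top (sec s)) • e z = rs L le_top (sec s) := by
      have h1 := coord_spec (he z) le_rfl (rs L le_top (sec s))
      rwa [rs_self] at h1
    rw [← hsp, isGen_smul_iff (he z)]
    have hab : coord (he z) le_rfl (rs L le_top (sec s)) * ev t (W z) (e z) =
        X.presheaf.map (homOfLE (le_top : W z ≤ ⊤)).op (ev t ⊤ (sec s)) := by
      rw [← ev_smul, hsp, ev_rs]
    have hu : IsUnit (coord (he z) le_rfl (rs L le_top (sec s)) * ev t (W z) (e z)) := by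
      rw [hab]
      exact hcu.map _
    exact isUnit_of_mul_isUnit_left hu

end Groth.Agent.S14808
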