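import Groth.Statements.S14818
import Groth.Agent.Lib.NormDegH3
import Groth.Agent.Lib.NormAmpleH3
import Groth.Agent.Lib.H78PullSec

set_option autoImplicit false
universe u
open CategoryTheory CategoryTheory.Limits AlgebraicGeometry
open PicF
open Groth.Agent.Lib.H90Invertible Groth.Agent.Lib.StructureModule Groth.Agent.Lib.H78TensorGen
open Groth.Agent.Lib.H78SecCoord Groth.Agent.Lib.H78Atlas Groth.Agent.Lib.NormChartH3
open Groth.Agent.Lib.NormGlueH3 Groth.Agent.Lib.H78PullSec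

namespace Groth.Agent.S14818

/-- Let X be a connected locally Noetherian scheme, f : X' → X a finite locally free morphism of
constant degree d (a finite flat covering of X of degree d) and L an invertible O_X-module whose
pullback f^*L is isomorphic to O_{X'}. Then L^{⊗d} ≅ O_X; in particular L has finite order in Pic(X)
dividing the degree of f. -/
theorem result (X X' : Scheme.{u})
    [IsLocallyNoetherian X] [ConnectedSpace X] (f : X' ⟶ X) (d : ℕ) (hf : Mor2.IsFinLocFreeOfDeg d f)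
    (L : X.Modules) (hL : PicF.IsInvertible L)
    (htriv : Nonempty ((Scheme.Modules.pullback f).obj L ≅ Coh.structureModule X')) :
    Nonempty (CohB1.tensorPow L d ≅ Coh.structureModule X) := by
  obtain ⟨hE, happ⟩ := Groth.Agent.Lib.NormDegH3.exists_glueNorm_app f d hf
  set N := Groth.Agent.Lib.NormGlueH3.glueNorm hE with hN
  obtain ⟨V, hxV, -, ⟨A⟩⟩ := exists_atlas hL
  have hV : ⨆ x, V x = ⊤ := iSup_eq_top_of_mem hxV
  obtain ⟨φ⟩ := htriv
  obtain ⟨σ, hσ⟩ := nonempty_iso_structureModule_iff.1 ⟨φ⟩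
  set B := pullAtlas f A with hB
  -- the coordinates of the trivialising section are units
  have hglσ : CohB1.genLocus _ (ofSection σ) = ⊤ := by
    refine top_le_iff.1 (fun x _ => ?_)
    refine (mem_genLocus_iff (ofSection σ) x).2 ⟨⊤, trivial, ?_⟩
    rw [sec_ofSection]
    exact hσ.mono le_top
  have hu : ∀ i, IsUnit (B.co σ i) := by
    intro i
    apply Groth.Agent.Lib.NormAmpleH3.isUnit_of_basicOpen_eq
    rw [← B.genLocus_inf σ i, hglσ, top_inf_eq]
  have hucompat : ∀ i j,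
      rf (inf_le_left : f ⁻¹ᵁ V i ⊓ f ⁻¹ᵁ V j ≤ f ⁻¹ᵁ V i) (B.co σ i) =
        rf (inf_le_right : f ⁻¹ᵁ V i ⊓ f ⁻¹ᵁ V j ≤ f ⁻¹ᵁ V j) (B.co σ j) *
          (f.appLE (V i ⊓ V j) (f ⁻¹ᵁ V i ⊓ f ⁻¹ᵁ V j) le_rfl).hom (A.trans i j) := by
    intro i j
    have h1 := B.co_compat σ i j
    rw [hB, pullAtlas_trans] at h1
    exact h1
  -- the norms of the coordinates
  set ν : ∀ i, Γ(X, V i) := fun i => N.norm (V i) (B.co σ i) with hν
  have hνu : ∀ i, IsUnit (ν i) := fun i => (hu i).map (N.norm (V i))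
  have hνcompat : ∀ i j, rf (inf_le_left : V i ⊓ V j ≤ V i) (ν i) =
      rf (inf_le_right : V i ⊓ V j ≤ V j) (ν j) * (A.pow d).trans i j := by
    intro i j
    rw [Atlas.pow_trans]
    have h1 : rf (inf_le_left : V i ⊓ V j ≤ V i) (ν i) =
        N.norm (V i ⊓ V j) (rfU f (inf_le_left : V i ⊓ V j ≤ V i) (B.co σ i)) :=
      N.norm_res _ _
    have h2 : rf (inf_le_right : V i ⊓ V j ≤ V j) (ν j) =
        N.norm (V i ⊓ V j) (rfU f (inf_le_right : V i ⊓ V j ≤ V j) (B.co σ j)) :=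
      N.norm_res _ _
    have h4 : (f.appLE (V i ⊓ V j) (f ⁻¹ᵁ V i ⊓ f ⁻¹ᵁ V j) le_rfl).hom (A.trans i j) =
        (f.app (V i ⊓ V j)).hom (A.trans i j) := by
      rw [Scheme.Hom.app_eq_appLE]; rfl
    have h3 : rfU f (inf_le_left : V i ⊓ V j ≤ V i) (B.co σ i) =
        rfU f (inf_le_right : V i ⊓ V j ≤ V j) (B.co σ j) *
          (f.app (V i ⊓ V j)).hom (A.trans i j) := by
      rw [← h4]; exact hucompat i j
    rw [h1, h2, h3, map_mul]
    congr 1
    exact happ (V i ⊓ V j) (A.trans i j)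
  obtain ⟨τ, hτ⟩ := (A.pow d).exists_sec hV ν hνcompat
  have hglτ : CohB1.genLocus _ (ofSection τ) = ⊤ := by
    refine top_le_iff.1 (fun x _ => ?_)
    have hx : x ∈ CohB1.genLocus _ (ofSection τ) ⊓ V x := by
      rw [(A.pow d).genLocus_inf τ x, hτ x, X.basicOpen_of_isUnit (hνu x)]
      exact hxV x
    exact hx.1
  have hgen := isGen_genLocus (ofSection τ)
  rw [hglτ, sec_ofSection] at hgen
  have hgen' : IsGen (CohB1.tensorPow L d) ⊤ τ := by
    have h := rs_self (CohB1.tensorPow L d) τ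
    rw [h] at hgen
    exact hgen
  exact nonempty_iso_structureModule_iff.2 ⟨τ, hgen'⟩

end Groth.Agent.S14818
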