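import Groth.Statements.S1482
import Groth.Agent.Lib.EtLocPI2

set_option autoImplicit false
universe u
open FlatMor

namespace Groth.Agent.S1482

open AlgebraicGeometry CategoryTheory Limits in
/-- Let f : X → S be locally of finite type, s a point of S and x_1, …, x_n pairwise distinct points
over s at which f is quasi-finite. Then there are an étale morphism g : U → S with a point u over s
and, for each i, finitely many opens V_{i,j} of X_U = X ×_S U, each finite over U and containing
exactly one point v_{i,j} over u, with κ(v_{i,j}) finite purely inseparable over κ(u), the v_{i,j}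
pairwise distinct, v_{i,j} mapping to x_i, and every point of X_U over u mapping to some x_i equal
to one of the v_{i,j}. -/
theorem result {X S : Scheme.{u}} (f : X ⟶ S) [LocallyOfFiniteType f] (s : S) {ι : Type} [Finite ι]
    (x : ι → ↑X) (hinj : Function.Injective x) (hs : ∀ i, f (x i) = s) (hx : ∀ i, f.QuasiFiniteAt (x i)) :
    ∃ (U : Scheme.{u}) (g : U ⟶ S) (u : U), Etale g ∧ g u = s ∧
      ∃ (J : ι → Type) (_ : ∀ i, Finite (J i)) (V : ∀ i, J i → (pullback f g).Opens) (v : ∀ i, J i → ↑(pullback f g)),
        (∀ i j, v i j ∈ V i j ∧ IsFinite ((V i j).ι ≫ pullback.snd f g) ∧ pullback.snd f g (v i j) = u ∧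
          (∀ w : ↑(pullback f g), w ∈ V i j → pullback.snd f g w = u → w = v i j) ∧
          (letI := ((pullback.snd f g).residueFieldMap (v i j)).hom.toAlgebra
           Module.Finite ↑(U.residueField (pullback.snd f g (v i j))) ↑((pullback f g).residueField (v i j)) ∧
           IsPurelyInseparable ↑(U.residueField (pullback.snd f g (v i j))) ↑((pullback f g).residueField (v i j))) ∧
          pullback.fst f g (v i j) = x i) ∧
        (∀ i j i' j', v i j = v i' j' → i = i' ∧ HEq j j') ∧
        (∀ (w : ↑(pullback f g)) (i : ι), pullback.snd f g w = u → pullback.fst f g w = x i → ∃ j, w = v i j) := by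
  obtain ⟨U, g, u, hg, hgu, n, V, v, H, hvinj, hcov⟩ :=
    Groth.Agent.Lib.EtLocQF.exists_etaleNbhd_purelyInseparable f s x hs hx
  refine ⟨U, g, u, hg, hgu, fun i => {m : Fin n // pullback.fst f g (v m) = x i},
    fun i => inferInstance, fun i j => V j.1, fun i j => v j.1, ?_, ?_, ?_⟩
  · intro i j
    obtain ⟨h1, h2, h3, h4, h5, h6, -⟩ := H j.1
    exact ⟨h1, h2, h3, h4, ⟨h6, h5⟩, j.2⟩
  · intro i j i' j' h
    have hjj : j.1 = j'.1 := hvinj h
    have hii : i = i' := by
      apply hinj
      rw [← j.2, ← j'.2, hjj]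
    subst hii
    exact ⟨rfl, heq_of_eq (Subtype.ext hjj)⟩
  · intro w i hw1 hw2
    obtain ⟨m, hm⟩ := hcov w hw1 ⟨i, hw2⟩
    exact ⟨⟨m, by rw [← hm]; exact hw2⟩, hm⟩

end Groth.Agent.S1482
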