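import Groth.Statements.S14822
import Mathlib
import Groth.Agent.Lib.FibrationNormal5
import Groth.Agent.Lib.SteinProp5
import Groth.Agent.Lib.FinDimLft67
import Groth.Agent.Lib.H43GVDim
import Groth.Agent.Lib.DimLift

set_option autoImplicit false
universe u
open CategoryTheory CategoryTheory.Limits AlgebraicGeometry
open CohIII

namespace Groth.Agent.S14822

section Helpers

namespace G1
set_option linter.style.haveILetI false
open CategoryTheory CategoryTheory.Limits AlgebraicGeometry TopologicalSpace Opposite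

/-- If `f.app` is an isomorphism on a basis of opens, then on all opens. -/
theorem isIso_app_of_basis {X Y : Scheme.{u}} (f : X ⟶ Y) {ι : Type*} (B : ι → Y.Opens)
    (hB : Opens.IsBasis (Set.range B)) (h : ∀ i, IsIso (f.app (B i))) (V : Y.Opens) :
    IsIso (f.app V) := by
  let φ : Y.sheaf ⟶ (TopCat.Sheaf.pushforward CommRingCat f.base).obj X.sheaf := ⟨f.c⟩
  have hφ : IsIso φ := TopCat.Sheaf.isIso_iff_isIso_basis (B := B) hB (fun i => h i)
  have h1 : IsIso ((TopCat.Sheaf.forget CommRingCat (Y : TopCat)).map φ) := Functor.map_isIso _ _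
  have h2 : IsIso (((TopCat.Sheaf.forget CommRingCat (Y : TopCat)).map φ).app (op V)) :=
    inferInstance
  exact h2

/-- flat base change of a fibration, on small affine opens. -/
theorem isIso_app_of_isPullback {X Y X' Z : Scheme.{u}} {f : X ⟶ Y} {p : Z ⟶ Y} {g : X' ⟶ X}
    {f' : X' ⟶ Z} (H : IsPullback g f' f p) [Flat p] [QuasiCompact f] [QuasiSeparatedSpace X]
    (U : Y.Opens) (hU : IsAffineOpen U) (hfU : IsIso (f.app U))
    (V : Z.Opens) (hV : IsAffineOpen V) (hVU : V ≤ p ⁻¹ᵁ U) : IsIso (f'.app V) := by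
  have hUY : f' ⁻¹ᵁ V = g ⁻¹ᵁ (f ⁻¹ᵁ U) ⊓ f' ⁻¹ᵁ V := by
    refine le_antisymm (le_inf ?_ le_rfl) inf_le_right
    intro x hx
    change f (g x) ∈ U
    have : f (g x) = p (f' x) := by
      have := congr($(H.w) x)
      simpa using this
    rw [this]
    exact hVU hx
  have hcomp : IsCompact ((f ⁻¹ᵁ U : X.Opens) : Set X) :=
    QuasiCompact.isCompact_preimage (f := f) _ U.isOpen hU.isCompact
  have hqs : IsQuasiSeparated ((f ⁻¹ᵁ U : X.Opens) : Set X) :=
    IsQuasiSeparated.of_quasiSeparatedSpace _
  have hiso := isIso_pushoutSection_of_isQuasiSeparated_of_flat_right H hVU le_rfl hUY hU hV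
    hcomp hqs
  have hinr : IsIso (pushout.inr (f.appLE U (f ⁻¹ᵁ U) le_rfl) (p.appLE U V hVU)) := by
    haveI : IsIso (f.appLE U (f ⁻¹ᵁ U) le_rfl) := by
      rw [← Scheme.Hom.app_eq_appLE]; exact hfU
    infer_instance
  have hcomp' : pushout.inr (f.appLE U (f ⁻¹ᵁ U) le_rfl) (p.appLE U V hVU) ≫
      pushoutSection H hVU le_rfl hUY = f'.appLE V (f' ⁻¹ᵁ V) le_rfl := by
    exact pushout.inr_desc _ _ _
  have h3 : IsIso (f'.appLE V (f' ⁻¹ᵁ V) le_rfl) := by
    rw [← hcomp']
    exact IsIso.comp_isIso' hinr hiso
  rw [Scheme.Hom.app_eq_appLE]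
  exact h3

end G1

namespace K1
set_option linter.style.haveILetI false
open CategoryTheory CategoryTheory.Limits AlgebraicGeometry TopologicalSpace Opposite
open Groth.Agent.Lib.FibrationNormal5

variable {X Y : Scheme.{u}} [IsIntegral X] [IsIntegral Y]

/-- (⇐): birational + universally closed + target normal ⟹ fibration. -/
theorem isIso_app_of_surjective_stalkToFunctionField (hY : Pi1.IsNormalScheme Y)
    (f : X ⟶ Y) [UniversallyClosed f] (h : f.base (genericPoint X) ⤳ genericPoint Y)
    (hsurj : Function.Surjective (CohIII.stalkToFunctionField f (genericPoint Y) h))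
    (U : Y.Opens) : IsIso (f.app U) := by
  refine G1.isIso_app_of_basis f (fun V : Y.affineOpens => V.1) ?_ (fun V => ?_) U
  · have := Y.isBasis_affineOpens
    convert this using 1
    ext W
    simp
  · obtain ⟨V, hV⟩ := V
    by_cases hne : Nonempty V
    · have hηY : genericPoint Y ∈ V :=
        ((genericPoint_spec Y).mem_open_set_iff V.isOpen).mpr (by simpa using hne)
      have hfη : f.base (genericPoint X) = genericPoint Y :=
        Groth.Agent.Lib.SteinNormal5.map_genericPoint_eq f h
      have hfηV : f.base (genericPoint X) ∈ V := hfη ▸ hηY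
      have hηX : genericPoint X ∈ f ⁻¹ᵁ V := hfηV
      haveI : IsIntegrallyClosed Γ(Y, V) :=
        Groth.Agent.Lib.IntegralSection.isIntegrallyClosed_sections (fun y => (hY y).2) hV
      haveI : IsFractionRing Γ(Y, V) Y.functionField :=
        functionField_isFractionRing_of_isAffineOpen Y V hV
      have hint : (f.app V).hom.IsIntegral :=
        Groth.Agent.Lib.SteinProp5.isIntegral_app_of_universallyClosed f hV
      have hbij : Function.Bijective (f.app V).hom := by
        refine Groth.Agent.Lib.SteinNormal5.bijective_of_isIntegral_of_algClosed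
          (K := Y.functionField) (L := X.functionField)
          (f.app V).hom hint (X.presheaf.germ (f ⁻¹ᵁ V) (genericPoint X) hηX).hom
          (germ_injective_of_isIntegral X (genericPoint X) hηX)
          (CohIII.stalkToFunctionField f (genericPoint Y) h) ?_ (fun x _ => hsurj x)
        intro b
        have := stalkToFunctionField_germ f h V hηY (f ⁻¹ᵁ V) le_rfl hηX b
        rw [← Scheme.Hom.app_eq_appLE] at this
        exact this
      exact (ConcreteCategory.isIso_iff_bijective (f.app V)).mpr hbij
    · have hVbot : V = ⊥ := by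
        ext z
        simp only [Opens.coe_bot, Set.mem_empty_iff_false, iff_false]
        intro hz
        exact hne ⟨⟨z, hz⟩⟩
      subst hVbot
      have h1 : Subsingleton Γ(Y, ⊥) := inferInstance
      have h2 : Subsingleton Γ(X, f ⁻¹ᵁ ⊥) := by
        have : f ⁻¹ᵁ (⊥ : Y.Opens) = ⊥ := rfl
        rw [this]; infer_instance
      exact (ConcreteCategory.isIso_iff_bijective (f.app ⊥)).mpr
        ⟨fun a b _ => Subsingleton.elim a b, fun c => ⟨0, Subsingleton.elim _ _⟩⟩

/-- a proper closed subset of `X` cannot surject onto `Y` under a closed map if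
`dim X = dim Y < ∞`. -/
theorem image_ne_univ (f : X ⟶ Y) (hcl : IsClosedMap f.base)
    (hdim : topologicalKrullDim X = topologicalKrullDim Y)
    (hfin : topologicalKrullDim X < ⊤) (Z : Set X) (hZ : IsClosed Z) (hne : Z ≠ Set.univ) :
    f.base '' Z ≠ Set.univ := by
  intro himg
  have h1 : topologicalKrullDim Z + 1 ≤ topologicalKrullDim X :=
    Groth.Agent.Lib.H43GV.topologicalKrullDim_add_one_le_of_isClosed_ne_univ Z hZ hne
  -- the restriction `Z → Y` is a continuous closed surjection
  let φ : Z → Y := fun z => f.base z.1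
  have hφc : Continuous φ := f.continuous.comp continuous_subtype_val
  have hφs : Function.Surjective φ := by
    intro y
    have : y ∈ f.base '' Z := himg ▸ Set.mem_univ y
    obtain ⟨z, hz, rfl⟩ := this
    exact ⟨⟨z, hz⟩, rfl⟩
  have hφcl : IsClosedMap φ := hcl.comp hZ.isClosedMap_subtype_val
  haveI : QuasiSober Z := hZ.isClosedEmbedding_subtypeVal.quasiSober
  have h2 : topologicalKrullDim Y ≤ topologicalKrullDim Z :=
    Groth.Agent.Lib.DimLift.topDim_le_of_specializingMap φ hφc hφs hφcl.specializingMap
  rw [← hdim] at h2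
  have h3 : topologicalKrullDim Z + 1 ≤ topologicalKrullDim Z := h1.trans h2
  have hZfin : topologicalKrullDim Z < ⊤ :=
    lt_of_le_of_lt (topologicalKrullDim_subspace_le X Z) hfin
  have hZne : Nonempty Z := by
    obtain ⟨y⟩ := (inferInstance : Nonempty Y)
    obtain ⟨z, -⟩ := hφs y
    exact ⟨z⟩
  have hZnn : (0 : WithBot ℕ∞) ≤ topologicalKrullDim Z := by
    haveI : Nonempty (IrreducibleCloseds Z) := by
      obtain ⟨z⟩ := hZne
      exact ⟨⟨closure {z}, isIrreducible_singleton.closure, isClosed_closure⟩⟩
    exact Order.krullDim_nonneg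
  -- arithmetic in `WithBot ℕ∞`
  obtain ⟨n, hn⟩ : ∃ n : ℕ, topologicalKrullDim Z = (n : WithBot ℕ∞) := by
    generalize topologicalKrullDim Z = d at hZfin hZnn
    induction d using WithBot.recBotCoe with
    | bot => exact absurd hZnn (by simp)
    | coe d =>
      induction d using ENat.recTopCoe with
      | top => exact absurd hZfin (lt_irrefl _)
      | coe n => exact ⟨n, rfl⟩
  rw [hn] at h3
  have : ((n + 1 : ℕ) : WithBot ℕ∞) ≤ (n : WithBot ℕ∞) := by exact_mod_cast h3
  have : n + 1 ≤ n := by exact_mod_cast this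
  omega

end K1

namespace K2
set_option linter.style.haveILetI false
open CategoryTheory CategoryTheory.Limits AlgebraicGeometry TopologicalSpace Opposite
open Groth.Agent.Lib.FibrationNormal5

variable {X Y : Scheme.{u}} [IsIntegral X] [IsIntegral Y]

theorem surjective_stalkToFunctionField_of_fibration (f : X ⟶ Y) (hcl : IsClosedMap f.base)
    (hdim : topologicalKrullDim X = topologicalKrullDim Y)
    (hfin : topologicalKrullDim X < ⊤) (h : f.base (genericPoint X) ⤳ genericPoint Y)
    (hfib : ∀ U : Y.Opens, IsIso (f.app U)) :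
    Function.Surjective (CohIII.stalkToFunctionField f (genericPoint Y) h) := by
  intro x
  obtain ⟨W', hξW', t, rfl⟩ := TopCat.Presheaf.exists_germ_eq X.presheaf x
  let Z : Set X := (W' : Set X)ᶜ
  have hZ : IsClosed Z := W'.isOpen.isClosed_compl
  have hne : Z ≠ Set.univ := by
    intro hh
    have : genericPoint X ∈ Z := hh ▸ Set.mem_univ _
    exact this hξW'
  have himg := K1.image_ne_univ f hcl hdim hfin Z hZ hne
  let V : Y.Opens := ⟨(f.base '' Z)ᶜ, (hcl Z hZ).isOpen_compl⟩
  have hVne : (V : Set Y).Nonempty := Set.nonempty_compl.mpr himg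
  have hηV : genericPoint Y ∈ V := genericPoint_mem_of_nonempty V hVne
  have hle : f ⁻¹ᵁ V ≤ W' := by
    intro a ha
    by_contra hna
    exact ha ⟨a, hna, rfl⟩
  have hgen : f.base (genericPoint X) = genericPoint Y :=
    Groth.Agent.Lib.SteinNormal5.map_genericPoint_eq f h
  have hξ : genericPoint X ∈ f ⁻¹ᵁ V := by
    change f.base _ ∈ V
    rw [hgen]
    exact hηV
  haveI := hfib V
  obtain ⟨s, hs⟩ := (ConcreteCategory.bijective_of_isIso (f.app V)).2
    (X.presheaf.map (homOfLE hle).op t)
  refine ⟨Y.presheaf.germ V (genericPoint Y) hηV s, ?_⟩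
  rw [stalkToFunctionField_germ f h V hηV (f ⁻¹ᵁ V) le_rfl hξ s, ← Scheme.Hom.app_eq_appLE]
  erw [hs]
  exact TopCat.Presheaf.germ_res_apply X.presheaf (homOfLE hle) (genericPoint X) hξ t

theorem main (k : Type u) [Field k]
    (X Y : Scheme.{u}) [X.Over (Spec (CommRingCat.of k))] [Y.Over (Spec (CommRingCat.of k))]
    [IsProper (X ↘ Spec (CommRingCat.of k))] [IsProper (Y ↘ Spec (CommRingCat.of k))] [IsIntegral X] [IsIntegral Y]
    (hY : Pi1.IsNormalScheme Y) (f : X ⟶ Y) [Surjective f] (hf : f ≫ (Y ↘ Spec (CommRingCat.of k)) = X ↘ Spec (CommRingCat.of k))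
    (hdim : topologicalKrullDim ↥X = topologicalKrullDim ↥Y)
    (h : f.base (genericPoint ↥X) ⤳ genericPoint ↥Y) :
    (∀ U : Y.Opens, IsIso (f.app U)) ↔ Function.Bijective (CohIII.stalkToFunctionField f (genericPoint ↥Y) h) := by
  have h1 : IsProper (f ≫ (Y ↘ Spec (CommRingCat.of k))) := by rw [hf]; infer_instance
  haveI : IsProper f := IsProper.of_comp f (Y ↘ Spec (CommRingCat.of k))
  haveI : CompactSpace X :=
    QuasiCompact.compactSpace_of_compactSpace (X ↘ Spec (CommRingCat.of k))
  have hfin := Groth.Agent.Lib.FinDimLft67.topologicalKrullDim_lt_top k X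
    (X ↘ Spec (CommRingCat.of k))
  constructor
  · intro hfib
    exact ⟨RingHom.injective _,
      surjective_stalkToFunctionField_of_fibration f f.isClosedMap hdim hfin h hfib⟩
  · intro hb U
    exact K1.isIso_app_of_surjective_stalkToFunctionField hY f h hb.2 U

end K2

end Helpers

/-- Let k be a field and f : X → Y a surjective k-morphism between integral proper k-schemes of the same
dimension, with Y normal (all local rings integrally closed domains). Then f is a fibration (Γ(U,
O_Y) → Γ(f⁻¹U, O_X) bijective for every open U ⊆ Y) if and only if f is birational: the embedding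
K(Y) → K(X) of function fields given by the stalk map at the generic points is bijective. -/
theorem result (k : Type u) [Field k]
    (X Y : Scheme.{u}) [X.Over (Spec (CommRingCat.of k))] [Y.Over (Spec (CommRingCat.of k))]
    [IsProper (X ↘ Spec (CommRingCat.of k))] [IsProper (Y ↘ Spec (CommRingCat.of k))] [IsIntegral X] [IsIntegral Y]
    (hY : Pi1.IsNormalScheme Y) (f : X ⟶ Y) [Surjective f] (hf : f ≫ (Y ↘ Spec (CommRingCat.of k)) = X ↘ Spec (CommRingCat.of k))
    (hdim : topologicalKrullDim ↥X = topologicalKrullDim ↥Y)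
    (h : f.base (genericPoint ↥X) ⤳ genericPoint ↥Y) :
    (∀ U : Y.Opens, IsIso (f.app U)) ↔ Function.Bijective (CohIII.stalkToFunctionField f (genericPoint ↥Y) h) := by
  exact K2.main k X Y hY f hf hdim h

end Groth.Agent.S14822
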