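import Groth.Statements.S14825
import Groth.Agent.Lib.H4TwistGamma
-- import your own Groth.Agent.* helpers here

set_option autoImplicit false
universe u
open CategoryTheory MonoidalCategory CartesianMonoidalCategory MonObj GrpObj AlgebraicGeometry
open AbVar

namespace Groth.Agent.S14825


open Groth.Agent.Lib.H4Twist in
/-- If `H^0(X, O_X)` is one-dimensional over `k`, the ring map `k → Γ(X, O_X)` is bijective. -/
theorem toGlobal_bijective (k : Type u) [Field k] (X : Scheme.{u}) [X.Over (Spec (CommRingCat.of k))]
    (h0 : Module.finrank k (Coh.HH X (Coh.structureModule X) 0) = 1) :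
    Function.Bijective (Coh.toGlobal (X ↘ Spec (CommRingCat.of k))) := by
  have hnt : Nontrivial (Coh.HH X (Coh.structureModule X) 0) :=
    Module.nontrivial_of_finrank_pos (R := k) (by omega)
  let e : Coh.HH X (Coh.structureModule X) 0 ≃+ Coh.Γtop X := h0Equiv (Coh.structureModule X)
  have hntΓ : Nontrivial (Coh.Γtop X) := e.injective.nontrivial
  refine ⟨RingHom.injective _, ?_⟩
  intro ρ
  have hv : e.symm 1 ≠ 0 := by
    intro h
    have := congrArg e h
    rw [AddEquiv.apply_symm_apply, map_zero] at this
    exact one_ne_zero this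
  obtain ⟨c, hc⟩ := (finrank_eq_one_iff_of_nonzero' (e.symm 1) hv).mp h0 (e.symm ρ)
  refine ⟨c, ?_⟩
  have h1 := congrArg e hc
  rw [AddEquiv.apply_symm_apply] at h1
  rw [← h1]
  have h2 := h0Equiv_smul (Coh.structureModule X) (Coh.toGlobal (X ↘ Spec (CommRingCat.of k)) c) (e.symm 1)
  change e (c • e.symm 1) = _ at h2
  rw [h2]
  change _ = (Coh.toGlobal (X ↘ Spec (CommRingCat.of k)) c) * e (e.symm 1)
  rw [AddEquiv.apply_symm_apply, _root_.mul_one]


/-- In the pointed case, let k be a field and X a proper k-scheme with H^0(X, O_X) one-dimensional and a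
k-rational point x₀; let alb : X → A be the Albanese morphism (A an abelian variety over k — proper,
geometrically integral group scheme — with alb(x₀) = 0, universal among pointed k-morphisms from X
to abelian varieties, the latter being geometrically reduced, connected, proper group schemes). Then
X has Albanese dimension zero, i.e. the image of alb is a single point of A (X is connected, so this
says the image is zero-dimensional), if and only if A is the trivial abelian variety, i.e. A → Spec
k is an isomorphism. (The published statement does not assume a rational point (it works with the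
Albanese torsor); this row assumes one.) -/
theorem result (k : Type u) [Field k] (X : Scheme.{u}) [X.Over (Spec (CommRingCat.of k))]
    [IsProper (X ↘ Spec (CommRingCat.of k))] (h0 : Module.finrank k (Coh.HH X (Coh.structureModule X) 0) = 1)
    (x₀ : 𝟙_ (Over (Spec (CommRingCat.of k))) ⟶ Over.mk (X ↘ Spec (CommRingCat.of k)))
    (A : Over (Spec (CommRingCat.of k))) [GrpObj A] [IsProper A.hom] [GeometricallyIntegral A.hom]
    (alb : Over.mk (X ↘ Spec (CommRingCat.of k)) ⟶ A) (halb : x₀ ≫ alb = η[A])
    (huniv : ∀ (B : Over (Spec (CommRingCat.of k))) [GrpObj B] [IsProper B.hom] [GeometricallyReduced B.hom] [ConnectedSpace ↥B.left]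
      (g : Over.mk (X ↘ Spec (CommRingCat.of k)) ⟶ B), x₀ ≫ g = η[B] → ∃! h : A ⟶ B, IsMonHom h ∧ alb ≫ h = g) :
    (Set.range alb.left.base).Subsingleton ↔ IsIso A.hom := by
  constructor
  · intro hsub
    -- Step 1: the structure morphism induces an isomorphism on global sections
    have hbij := toGlobal_bijective k X h0
    have hs_iso : IsIso (X ↘ Spec (CommRingCat.of k)).appTop := by
      rw [ConcreteCategory.isIso_iff_bijective]
      have : ((X ↘ Spec (CommRingCat.of k)).appTop).hom =
          (Coh.toGlobal (X ↘ Spec (CommRingCat.of k))).comp (Scheme.ΓSpecIso (CommRingCat.of k)).hom.hom := by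
        ext r
        have h := congrArg (fun f => f.hom r) (Scheme.ΓSpecIso (CommRingCat.of k)).hom_inv_id
        change (Scheme.ΓSpecIso (CommRingCat.of k)).inv.hom
          ((Scheme.ΓSpecIso (CommRingCat.of k)).hom.hom r) = r at h
        change _ = (X ↘ Spec (CommRingCat.of k)).appTop.hom ((Scheme.ΓSpecIso (CommRingCat.of k)).inv.hom
          ((Scheme.ΓSpecIso (CommRingCat.of k)).hom.hom r))
        rw [h]
      change Function.Bijective ((X ↘ Spec (CommRingCat.of k)).appTop).hom
      rw [this]
      exact hbij.comp (ConcreteCategory.bijective_of_isIso (Scheme.ΓSpecIso (CommRingCat.of k)).hom)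
    have hx₀s : x₀.left ≫ (X ↘ Spec (CommRingCat.of k)) = 𝟙 _ := by
      have := Over.w x₀
      simpa using this
    have happ : x₀.left.appTop ≫ (X ↘ Spec (CommRingCat.of k)).appTop = 𝟙 _ := by
      have h1 : (X ↘ Spec (CommRingCat.of k)).appTop ≫ x₀.left.appTop = 𝟙 _ := by
        rw [← Scheme.Hom.comp_appTop, hx₀s]
        rfl
      rw [← cancel_epi (X ↘ Spec (CommRingCat.of k)).appTop, ← Category.assoc, h1, Category.id_comp]
      exact (Category.comp_id _).symm
    -- Step 2: `alb` factors through the point
    have hfac : alb.left = (X ↘ Spec (CommRingCat.of k)) ≫ x₀.left ≫ alb.left := by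
      -- a point of `X`
      let pt : ↥(𝟙_ (Over (Spec (CommRingCat.of k)))).left :=
        (⊥ : PrimeSpectrum k)
      let x : X := x₀.left.base pt
      let a₀ : A.left := alb.left.base x
      obtain ⟨U, hU, ha₀U, -⟩ := exists_isAffineOpen_mem_and_subset (x := a₀) (U := ⊤) trivial
      have hr₁ : Set.range alb.left.base ⊆ Set.range U.ι.base := by
        rintro y hy
        rw [Scheme.Opens.range_ι]
        have : y = a₀ := hsub hy ⟨x, rfl⟩
        rw [this]
        exact ha₀U
      have hr₂ : Set.range ((X ↘ Spec (CommRingCat.of k)) ≫ x₀.left ≫ alb.left).base ⊆ Set.range U.ι.base := by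
        rintro y ⟨z, rfl⟩
        apply hr₁
        exact ⟨x₀.left.base ((X ↘ Spec (CommRingCat.of k)).base z), by simp⟩
      let g₁ := IsOpenImmersion.lift U.ι alb.left hr₁
      let g₂ := IsOpenImmersion.lift U.ι ((X ↘ Spec (CommRingCat.of k)) ≫ x₀.left ≫ alb.left) hr₂
      have hg₁ : g₁ ≫ U.ι = alb.left := IsOpenImmersion.lift_fac _ _ _
      have hg₂ : g₂ ≫ U.ι = (X ↘ Spec (CommRingCat.of k)) ≫ x₀.left ≫ alb.left := IsOpenImmersion.lift_fac _ _ _
      have h21 : g₂ = (X ↘ Spec (CommRingCat.of k)) ≫ x₀.left ≫ g₁ := by
        rw [← cancel_mono U.ι, hg₂, Category.assoc, Category.assoc, hg₁]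
      have : IsAffine (U : Scheme) := hU
      have h12 : g₁ = g₂ := by
        apply ext_of_isAffine
        rw [h21, Scheme.Hom.comp_appTop, Scheme.Hom.comp_appTop, Category.assoc, happ]
        exact (Category.comp_id _).symm
      calc alb.left = g₁ ≫ U.ι := hg₁.symm
        _ = g₂ ≫ U.ι := by rw [h12]
        _ = _ := hg₂
    -- Step 3: `alb` is the constant map with value the unit
    have halb' : alb = toUnit _ ≫ η[A] := by
      ext
      rw [hfac]
      have : x₀.left ≫ alb.left = (η[A] : 𝟙_ (Over (Spec (CommRingCat.of k))) ⟶ A).left := by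
        rw [← halb]
        rfl
      rw [this]
      rfl
    -- Step 4: the identity and the trivial homomorphism both factor `alb`
    have : IrreducibleSpace ↥A.left := GeometricallyIrreducible.irreducibleSpace_of_subsingleton A.hom
    obtain ⟨h, -, huniq⟩ := huniv A alb halb
    have e1 : 𝟙 A = h := huniq (𝟙 A) ⟨inferInstance, Category.comp_id _⟩
    have e2 : toUnit A ≫ η[A] = h := by
      refine huniq _ ⟨inferInstance, ?_⟩
      rw [halb', Category.assoc, ← Category.assoc η[A], toUnit_unique (η[A] ≫ toUnit A) (𝟙 _), Category.id_comp]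
    have e3 : toUnit A ≫ η[A] = 𝟙 A := e2.trans e1.symm
    -- Step 5
    have hiso : IsIso (toUnit A) :=
      ⟨η[A], e3, toUnit_unique _ _⟩
    have : A.hom = (toUnit A).left := by simp
    rw [this]
    exact inferInstanceAs (IsIso ((Over.forget _).map (toUnit A)))
  · intro hiso
    have : Subsingleton ↥A.left :=
      (Scheme.homeoOfIso (asIso A.hom)).injective.subsingleton
    exact Set.subsingleton_of_subsingleton

end Groth.Agent.S14825
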