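import Groth.Statements.S14830
import Groth.Agent.Lib.H69AbVarHom

set_option autoImplicit false
universe u
open CategoryTheory MonoidalCategory CartesianMonoidalCategory MonObj GrpObj AlgebraicGeometry
open AbVar

namespace Groth.Agent.S14830

open Groth.Agent.Lib.H69AbVarHom in
theorem aux (k : Type u) [Field k] (XO YO : Over (Spec (CommRingCat.of k)))
    [IsProper XO.hom] [IsProper YO.hom]
    [GeometricallyIntegral XO.hom] [GeometricallyIntegral YO.hom]
    (x₀ : 𝟙_ (Over (Spec (CommRingCat.of k))) ⟶ XO) (y₀ : 𝟙_ (Over (Spec (CommRingCat.of k))) ⟶ YO)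
    (A : Over (Spec (CommRingCat.of k))) [GrpObj A] [IsProper A.hom] [GeometricallyIntegral A.hom]
    (albX : XO ⟶ A) (halbX : x₀ ≫ albX = η[A])
    (hunivA : ∀ (C : Over (Spec (CommRingCat.of k))) [GrpObj C] [IsProper C.hom] [GeometricallyReduced C.hom] [ConnectedSpace ↥C.left]
      (g : XO ⟶ C), x₀ ≫ g = η[C] → ∃! h : A ⟶ C, IsMonHom h ∧ albX ≫ h = g)
    (B : Over (Spec (CommRingCat.of k))) [GrpObj B] [IsProper B.hom] [GeometricallyIntegral B.hom]
    (albY : YO ⟶ B) (halbY : y₀ ≫ albY = η[B])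
    (hunivB : ∀ (C : Over (Spec (CommRingCat.of k))) [GrpObj C] [IsProper C.hom] [GeometricallyReduced C.hom] [ConnectedSpace ↥C.left]
      (g : YO ⟶ C), y₀ ≫ g = η[C] → ∃! h : B ⟶ C, IsMonHom h ∧ albY ≫ h = g)
    (C : Over (Spec (CommRingCat.of k))) [GrpObj C] [IsProper C.hom] [GeometricallyReduced C.hom] [ConnectedSpace ↥C.left]
    (g : XO ⊗ YO ⟶ C) (hg : lift x₀ y₀ ≫ g = η[C]) :
    ∃! h : A ⊗ B ⟶ C, IsMonHom h ∧ (albX ⊗ₘ albY) ≫ h = g := by
  have one_eq : ∀ Z : Over (Spec (CommRingCat.of k)), (1 : Z ⟶ C) = toUnit Z ≫ η[C] := fun Z => rfl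
  have hsplit := hom_prod_eq_mul XO YO C x₀ y₀ g hg
  have hx : x₀ ≫ lift (𝟙 XO) (toUnit XO ≫ y₀) ≫ g = η[C] := by
    have : x₀ ≫ lift (𝟙 XO) (toUnit XO ≫ y₀) = lift x₀ y₀ := by ext1 <;> simp
    rw [← Category.assoc, this, hg]
  have hy : y₀ ≫ lift (toUnit YO ≫ x₀) (𝟙 YO) ≫ g = η[C] := by
    have : y₀ ≫ lift (toUnit YO ≫ x₀) (𝟙 YO) = lift x₀ y₀ := by ext1 <;> simp
    rw [← Category.assoc, this, hg]
  obtain ⟨h₁, ⟨hh₁, e₁⟩, u₁⟩ := hunivA C _ hx
  obtain ⟨h₂, ⟨hh₂, e₂⟩, u₂⟩ := hunivB C _ hy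
  have hcomm : (fst A B ≫ h₁) * (snd A B ≫ h₂) = (snd A B ≫ h₂) * (fst A B ≫ h₁) :=
    mul_comm_of_pointed A B C η[A] η[B] h₁ h₂ (IsMonHom.one_hom h₁) (IsMonHom.one_hom h₂)
  have hcomm' : ∀ (T : Over (Spec (CommRingCat.of k))) (a : T ⟶ A) (b : T ⟶ B),
      (a ≫ h₁) * (b ≫ h₂) = (b ≫ h₂) * (a ≫ h₁) := by
    intro T a b
    have := congrArg (fun m => lift a b ≫ m) hcomm
    simpa only [MonObj.comp_mul, lift_fst_assoc, lift_snd_assoc] using this
  have hmon : IsMonHom ((fst A B ≫ h₁) * (snd A B ≫ h₂)) :=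
    { one_hom := by
        rw [MonObj.comp_mul, ← Category.assoc, ← Category.assoc, IsMonHom.one_hom (fst A B),
          IsMonHom.one_hom (snd A B), IsMonHom.one_hom h₁, IsMonHom.one_hom h₂,
          MonObj.one_eq_one, _root_.mul_one]
      mul_hom := by
        have e : (((fst A B ≫ h₁) * (snd A B ≫ h₂)) ⊗ₘ ((fst A B ≫ h₁) * (snd A B ≫ h₂))) ≫ μ[C] =
            (fst (A ⊗ B) (A ⊗ B) ≫ ((fst A B ≫ h₁) * (snd A B ≫ h₂))) *
              (snd (A ⊗ B) (A ⊗ B) ≫ ((fst A B ≫ h₁) * (snd A B ≫ h₂))) := by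
          rw [Hom.mul_def (fst (A ⊗ B) (A ⊗ B) ≫ _)]
          congr 1
        rw [e, MonObj.mul_eq_mul (A ⊗ B)]
        simp only [MonObj.comp_mul]
        rw [← Category.assoc _ (fst A B) h₁, ← Category.assoc _ (snd A B) h₂,
          MonObj.mul_comp _ _ (fst A B), MonObj.mul_comp _ _ (snd A B),
          MonObj.mul_comp _ _ h₁, MonObj.mul_comp _ _ h₂]
        have c := hcomm' _ (snd (A ⊗ B) (A ⊗ B) ≫ fst A B) (fst (A ⊗ B) (A ⊗ B) ≫ snd A B)
        simp only [Category.assoc] at c ⊢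
        rw [_root_.mul_assoc, ← _root_.mul_assoc (snd (A ⊗ B) (A ⊗ B) ≫ fst A B ≫ h₁), c,
          _root_.mul_assoc, ← _root_.mul_assoc] }
  refine ⟨(fst A B ≫ h₁) * (snd A B ≫ h₂), ⟨hmon, ?_⟩, ?_⟩
  · rw [MonObj.comp_mul, tensorHom_fst_assoc, tensorHom_snd_assoc, e₁, e₂]
    exact hsplit.symm
  · rintro h' ⟨hm', e'⟩
    have k₁ : lift (𝟙 A) (toUnit A ≫ η[B]) ≫ h' = h₁ := by
      refine u₁ _ ⟨inferInstance, ?_⟩
      rw [← e', ← Category.assoc, ← Category.assoc]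
      congr 1
      ext1 <;> simp [halbY]
    have k₂ : lift (toUnit B ≫ η[A]) (𝟙 B) ≫ h' = h₂ := by
      refine u₂ _ ⟨inferInstance, ?_⟩
      rw [← e', ← Category.assoc, ← Category.assoc]
      congr 1
      ext1 <;> simp [halbX]
    have hid : 𝟙 (A ⊗ B) = (fst A B ≫ lift (𝟙 A) (toUnit A ≫ η[B])) *
        (snd A B ≫ lift (toUnit B ≫ η[A]) (𝟙 B)) := by
      ext1
      · rw [MonObj.mul_comp _ _ (fst A B)]
        simp only [Category.assoc, lift_fst, Category.id_comp, Category.comp_id]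
        rw [← Category.assoc, toUnit_unique (snd A B ≫ toUnit B) (toUnit (A ⊗ B)), ← Hom.one_def,
          _root_.mul_one]
      · rw [MonObj.mul_comp _ _ (snd A B)]
        simp only [Category.assoc, lift_snd, Category.id_comp, Category.comp_id]
        rw [← Category.assoc, toUnit_unique (fst A B ≫ toUnit A) (toUnit (A ⊗ B)), ← Hom.one_def,
          _root_.one_mul]
    calc h' = 𝟙 _ ≫ h' := (Category.id_comp _).symm
      _ = _ := by rw [hid, MonObj.mul_comp _ _ h', Category.assoc, Category.assoc, k₁, k₂]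

/-- Let k be a field and X, Y proper, geometrically integral k-schemes with k-rational points x₀ and y₀.
Let albX : X → A and albY : Y → B be Albanese morphisms: A, B abelian varieties over k (proper,
geometrically integral group schemes), albX(x₀) = 0, albY(y₀) = 0, each universal among pointed
k-morphisms into abelian varieties (geometrically reduced, connected, proper group schemes). Then
the product morphism albX × albY : X ×_k Y → A ×_k B is the Albanese morphism of X ×_k Y pointed at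
(x₀, y₀): for every abelian variety C and every k-morphism g : X ×_k Y → C with g(x₀, y₀) = 0 there
is a unique homomorphism h : A ×_k B → C with (albX × albY) ≫ h = g. -/
theorem result (k : Type u) [Field k] (X Y : Scheme.{u}) [X.Over (Spec (CommRingCat.of k))] [Y.Over (Spec (CommRingCat.of k))]
    [IsProper (X ↘ Spec (CommRingCat.of k))] [IsProper (Y ↘ Spec (CommRingCat.of k))]
    [GeometricallyIntegral (X ↘ Spec (CommRingCat.of k))] [GeometricallyIntegral (Y ↘ Spec (CommRingCat.of k))]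
    (x₀ : 𝟙_ (Over (Spec (CommRingCat.of k))) ⟶ Over.mk (X ↘ Spec (CommRingCat.of k))) (y₀ : 𝟙_ (Over (Spec (CommRingCat.of k))) ⟶ Over.mk (Y ↘ Spec (CommRingCat.of k)))
    (A : Over (Spec (CommRingCat.of k))) [GrpObj A] [IsProper A.hom] [GeometricallyIntegral A.hom]
    (albX : Over.mk (X ↘ Spec (CommRingCat.of k)) ⟶ A) (halbX : x₀ ≫ albX = η[A])
    (hunivA : ∀ (C : Over (Spec (CommRingCat.of k))) [GrpObj C] [IsProper C.hom] [GeometricallyReduced C.hom] [ConnectedSpace ↥C.left]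
      (g : Over.mk (X ↘ Spec (CommRingCat.of k)) ⟶ C), x₀ ≫ g = η[C] → ∃! h : A ⟶ C, IsMonHom h ∧ albX ≫ h = g)
    (B : Over (Spec (CommRingCat.of k))) [GrpObj B] [IsProper B.hom] [GeometricallyIntegral B.hom]
    (albY : Over.mk (Y ↘ Spec (CommRingCat.of k)) ⟶ B) (halbY : y₀ ≫ albY = η[B])
    (hunivB : ∀ (C : Over (Spec (CommRingCat.of k))) [GrpObj C] [IsProper C.hom] [GeometricallyReduced C.hom] [ConnectedSpace ↥C.left]
      (g : Over.mk (Y ↘ Spec (CommRingCat.of k)) ⟶ C), y₀ ≫ g = η[C] → ∃! h : B ⟶ C, IsMonHom h ∧ albY ≫ h = g)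
    (C : Over (Spec (CommRingCat.of k))) [GrpObj C] [IsProper C.hom] [GeometricallyReduced C.hom] [ConnectedSpace ↥C.left]
    (g : Over.mk (X ↘ Spec (CommRingCat.of k)) ⊗ Over.mk (Y ↘ Spec (CommRingCat.of k)) ⟶ C) (hg : lift x₀ y₀ ≫ g = η[C]) :
    ∃! h : A ⊗ B ⟶ C, IsMonHom h ∧ (albX ⊗ₘ albY) ≫ h = g := by
  have : IsProper (Over.mk (X ↘ Spec (CommRingCat.of k))).hom :=
    ‹IsProper (X ↘ Spec (CommRingCat.of k))›
  have : IsProper (Over.mk (Y ↘ Spec (CommRingCat.of k))).hom :=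
    ‹IsProper (Y ↘ Spec (CommRingCat.of k))›
  have : GeometricallyIntegral (Over.mk (X ↘ Spec (CommRingCat.of k))).hom :=
    ‹GeometricallyIntegral (X ↘ Spec (CommRingCat.of k))›
  have : GeometricallyIntegral (Over.mk (Y ↘ Spec (CommRingCat.of k))).hom :=
    ‹GeometricallyIntegral (Y ↘ Spec (CommRingCat.of k))›
  exact aux k _ _ x₀ y₀ A albX halbX hunivA B albY halbY hunivB C g hg

end Groth.Agent.S14830
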