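import Groth.Statements.S14836
import Groth.Agent.Lib.PicDescent

set_option autoImplicit false
universe u
open CategoryTheory CategoryTheory.Limits AlgebraicGeometry
open Formal2

namespace Groth.Agent.S14836

/-- Let k be a field and f : X → Y a k-morphism between proper k-schemes which is a fibration, i.e. O_Y
→ f_*O_X is an isomorphism (Γ(V, O_Y) → Γ(f⁻¹V, O_X) bijective for every open V ⊆ Y). Then N ↦ f^*N
is injective on Picard groups: every invertible O_Y-module whose pullback to X is trivial is
trivial. -/
theorem result (k : Type u) [Field k] (X Y : Scheme.{u})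
    [X.Over (Spec (CommRingCat.of k))] [Y.Over (Spec (CommRingCat.of k))] [IsProper (X ↘ Spec (CommRingCat.of k))] [IsProper (Y ↘ Spec (CommRingCat.of k))]
    (f : X ⟶ Y) (hf : f ≫ (Y ↘ Spec (CommRingCat.of k)) = X ↘ Spec (CommRingCat.of k)) (hfib : ∀ V : Y.Opens, IsIso (f.app V)) :
    Formal2.PicPullbackInjective f := by
  intro N hN ⟨θ⟩
  have hbij : ∀ U : Y.Opens, Function.Bijective (f.app U) := fun U =>
    (ConcreteCategory.isIso_iff_bijective (f.app U)).1 (hfib U)
  haveI := Groth.Agent.Lib.UnitFinLocFree.isIso_unit_of_isFinLocFree f hbij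
    (Groth.Agent.Lib.H90Invertible.isFinLocFree_of_isInvertible hN)
  haveI := Groth.Agent.Lib.UnitFinLocFree.isIso_unit_structureModule f hbij
  exact ⟨asIso ((Scheme.Modules.pullbackPushforwardAdjunction f).unit.app N) ≪≫
    (Scheme.Modules.pushforward f).mapIso θ ≪≫
    (Scheme.Modules.pushforward f).mapIso (Groth.Agent.Lib.H78PullSec.unitIso f).symm ≪≫
    (asIso ((Scheme.Modules.pullbackPushforwardAdjunction f).unit.app (Coh.structureModule Y))).symm⟩

end Groth.Agent.S14836
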