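import Groth.Statements.S14839
import Groth.Agent.Lib.CoeffSpace

set_option autoImplicit false
universe u v
open HopfRep

namespace Groth.Agent.S14839

open TensorProduct in
/-- Over a field K, every simple coalgebra is finite-dimensional. Here a subcoalgebra of C is a subspace
B whose comultiplication lands in the image of B ⊗ B in C ⊗ C, and C is simple when it is nonzero
and its only subcoalgebras are 0 and C. -/
theorem result {K : Type u} {C : Type v} [Field K] [AddCommGroup C]
    [Module K C] [Coalgebra K C] [Nontrivial C]
    (hsimple : ∀ B : Submodule K C,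
      (∀ b ∈ B, CoalgebraStruct.comul (R := K) b ∈ LinearMap.range (TensorProduct.map B.subtype B.subtype)) →
        B = ⊥ ∨ B = ⊤) :
    Module.Finite K C := by
  classical
  obtain ⟨c, hc⟩ := exists_ne (0 : C)
  obtain ⟨X, hXfin, hcX, hX⟩ :=
    Groth.Agent.Lib.Comod.exists_finite_subcomod_mem (k := K) (C := C) (V := C) c
  let cX : HopfRep.Comod K C X := ComodSub.Comod.restr (HopfRep.Comod.regular K C) X hX
  have hXne : Nontrivial X := ⟨⟨⟨c, hcX⟩, 0, fun h => hc (congrArg Subtype.val h)⟩⟩
  have hfin : Module.Finite K (Groth.Agent.Lib.CoeffSpace.cf K C X) :=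
    Groth.Agent.Lib.CoeffSpace.finite_cf
  rcases hsimple _ (Groth.Agent.Lib.CoeffSpace.isSubcoalg_cf (k := K) (C := C) (V := X)) with h | h
  · exact absurd h Groth.Agent.Lib.CoeffSpace.cf_ne_bot
  · rw [h] at hfin
    exact Module.Finite.of_surjective (Submodule.topEquiv (R := K) (M := C)).toLinearMap
      (Submodule.topEquiv (R := K) (M := C)).surjective

end Groth.Agent.S14839
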