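import Groth.Statements.S1484
import Mathlib.RingTheory.Algebraic.Integral

set_option autoImplicit false
universe u
open FlatMor

namespace Groth.Agent.S1484

/-- If the residue field at a prime is not algebraic over a subfield, some element of the ring has
transcendental image. -/
lemma exists_transcendental_algebraMap {R : Type u} [CommRing R] (P : Ideal R) [P.IsPrime]
    (k : Subfield P.ResidueField) (hk : ¬ Algebra.IsAlgebraic ↥k P.ResidueField) :
    ∃ a : R, Transcendental ↥k (algebraMap R P.ResidueField a) := by
  by_contra hcon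
  push Not at hcon
  apply hk
  refine ⟨fun z => ?_⟩
  obtain ⟨x, y, -, rfl⟩ := IsFractionRing.div_surjective (A := R ⧸ P) z
  obtain ⟨x, rfl⟩ := Ideal.Quotient.mk_surjective x
  obtain ⟨y, rfl⟩ := Ideal.Quotient.mk_surjective y
  have hx : IsAlgebraic ↥k (algebraMap R P.ResidueField x) := by
    have := hcon x
    rwa [Transcendental, not_not] at this
  have hy : IsAlgebraic ↥k (algebraMap R P.ResidueField y) := by
    have := hcon y
    rwa [Transcendental, not_not] at this
  rw [div_eq_mul_inv]
  exact hx.mul hy.inv

theorem result {R : Type u} [CommRing R] {r : ℕ} (p : Fin r → Ideal R) [∀ i, (p i).IsPrime]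
    (hp : ∀ i j, i ≠ j → ¬ p i ≤ p j) (k : ∀ i, Subfield (p i).ResidueField)
    (hk : ∀ i, ¬ Algebra.IsAlgebraic ↥(k i) (p i).ResidueField) (J : Ideal R) (hJ : ∀ i, ¬ J ≤ p i) :
    ∃ x ∈ J, ∀ i, Transcendental ↥(k i) (algebraMap R (p i).ResidueField x) := by
  classical
  -- Step 1: elements with transcendental image
  choose a ha using fun i => exists_transcendental_algebraMap (p i) (k i) (hk i)
  -- Step 2: elements of `J` lying in all other primes but not in `p i`
  have hc : ∀ i, ∃ c ∈ J, (∀ j, j ≠ i → c ∈ p j) ∧ c ∉ p i := by
    intro i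
    have hnle : ¬ (J ⊓ (Finset.univ.erase i).inf p) ≤ p i := by
      intro hle
      rcases (Ideal.IsPrime.inf_le (inferInstance : (p i).IsPrime)).mp hle with h | h
      · exact hJ i h
      · obtain ⟨j, hj, hji⟩ := (Ideal.IsPrime.inf_le' (inferInstance : (p i).IsPrime)).mp h
        exact hp j i (Finset.ne_of_mem_erase hj) hji
    obtain ⟨c, hcI, hcp⟩ := SetLike.not_le_iff_exists.mp hnle
    refine ⟨c, hcI.1, fun j hj => ?_, hcp⟩
    have : (Finset.univ.erase i).inf p ≤ p j :=
      Finset.inf_le (Finset.mem_erase.mpr ⟨hj, Finset.mem_univ j⟩)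
    exact this hcI.2
  choose c hcJ hcp hcnp using hc
  -- Step 3: the correcting factors
  let b : Fin r → R := fun i =>
    if Transcendental ↥(k i) (algebraMap R (p i).ResidueField (c i)) then 1 else a i
  have hb : ∀ i, Transcendental ↥(k i) (algebraMap R (p i).ResidueField (c i * b i)) := by
    intro i
    by_cases h : Transcendental ↥(k i) (algebraMap R (p i).ResidueField (c i))
    · simp only [b, if_pos h, mul_one]
      exact h
    · simp only [b, if_neg h]
      rw [Transcendental, not_not] at h
      intro hprod
      apply ha i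
      have hne : algebraMap R (p i).ResidueField (c i) ≠ 0 := by
        rw [Ne, Ideal.algebraMap_residueField_eq_zero]
        exact hcnp i
      have : algebraMap R (p i).ResidueField (a i) =
          (algebraMap R (p i).ResidueField (c i))⁻¹ *
            algebraMap R (p i).ResidueField (c i * a i) := by
        rw [map_mul, ← mul_assoc, inv_mul_cancel₀ hne, one_mul]
      rw [this]
      exact h.inv.mul hprod
  -- Step 4: assemble
  refine ⟨∑ i, c i * b i, sum_mem fun i _ => J.mul_mem_right _ (hcJ i), fun i => ?_⟩
  have : algebraMap R (p i).ResidueField (∑ j, c j * b j) =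
      algebraMap R (p i).ResidueField (c i * b i) := by
    rw [map_sum]
    refine Finset.sum_eq_single i (fun j _ hji => ?_) (fun h => absurd (Finset.mem_univ i) h)
    rw [Ideal.algebraMap_residueField_eq_zero]
    exact (p i).mul_mem_right _ (hcp j i hji.symm)
  rw [this]
  exact hb i

end Groth.Agent.S1484
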