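import Mathlib
import Groth.Agent.Lib.ClosedCond27d
import Groth.Statements.S14840

set_option autoImplicit false
open CategoryTheory MonoidalCategory CartesianMonoidalCategory AlgebraicGeometry
universe u
open AlgGrp

namespace Groth.Agent.S14840

section Helpers

variable {C : Type*} [Category C] [CartesianMonoidalCategory C] {G X : C}

/-- fixedness of a point, in terms of the universal test point. -/
theorem fixed_iff (act : G ⊗ X ⟶ X) {T : C} (f : T ⟶ X) :
    (G ◁ f) ≫ act = (G ◁ f) ≫ snd G X ↔
      ∀ (T' : C) (t : T' ⟶ T) (g : T' ⟶ G), lift g (t ≫ f) ≫ act = t ≫ f := by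
  constructor
  · intro H T' t g
    have h1 := congrArg (fun k => lift g t ≫ k) H
    simp only [lift_whiskerLeft_assoc, lift_snd] at h1
    exact h1
  · intro H
    have h2 : (G ◁ f) = lift (fst G T) (snd G T ≫ f) := by
      apply CartesianMonoidalCategory.hom_ext
      · rw [whiskerLeft_fst, lift_fst]
      · rw [whiskerLeft_snd, lift_snd]
    rw [whiskerLeft_snd, h2]
    exact H (G ⊗ T) (snd G T) (fst G T)

end Helpers

/-- Let G be a group scheme over a scheme S, affine over S and with structure sheaf locally free over
O_S (each point of S has an affine open neighbourhood U such that the sections of O_G over the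
preimage of U form a free module over the sections of O_S over U), acting on an S-scheme Y which is
separated over S. Then the subfunctor of G-fixed points of Y is a closed subfunctor: there are an
S-scheme Z and a closed immersion i : Z → Y over S such that a T-valued point y of Y factors through
i exactly when it is fixed, i.e. g · y = y for every S-scheme T' over T and every T'-valued point g
of G. -/
theorem result
    {S : Scheme.{u}} (G Y : Over S) [GrpObj G] (a : AlgGrp.Action G Y)
    [IsAffineHom G.hom] [IsSeparated Y.hom]
    (hfree : ∀ s : S, ∃ U : S.affineOpens, s ∈ (U : S.Opens) ∧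
      @Module.Free Γ(S, U) Γ(G.left, G.hom ⁻¹ᵁ U) _ _ (G.hom.app U).hom.toAlgebra.toModule) :
    ∃ (Z : Over S) (i : Z ⟶ Y), IsClosedImmersion i.left ∧
      ∀ (T : Over S) (y : T ⟶ Y),
        (∀ (T' : Over S) (t : T' ⟶ T) (g : T' ⟶ G), lift g (t ≫ y) ≫ a.act = t ≫ y) ↔
          ∃ z : T ⟶ Z, z ≫ i = y := by
  obtain ⟨Z, i, hi, h⟩ :=
    Groth.Agent.Lib.ClosedCond27.exists_closedImmersion_of_eq_of_essFreeLoc G Y Y
      (Groth.Agent.Lib.ClosedCond27.essFreeLoc_of_isAffineHom G hfree) a.act (snd G Y)
  refine ⟨Z, i, hi, fun T f => ?_⟩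
  rw [h T f]
  exact (Groth.Agent.S14840.fixed_iff a.act f).symm

end Groth.Agent.S14840
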