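import Groth.Statements.S14845

set_option autoImplicit false
set_option maxHeartbeats 400000
set_option backward.isDefEq.respectTransparency false
set_option backward.isDefEq.respectTransparency.types false
open CategoryTheory CategoryTheory.Limits AlgebraicGeometry
universe u
open HilbD

namespace Groth.Agent.S14845

/-- The kernel of the base change of the closed subscheme cut out by the kernel of a closed
immersion `i` is the kernel of any base change of `i`. -/
lemma ker_snd_eq_of_isPullback {P Z Y X' : Scheme.{u}} (i : Z ⟶ Y) [IsClosedImmersion i]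
    (h : X' ⟶ Y) (a : P ⟶ Z) (b : P ⟶ X') (sq : IsPullback a b i h) :
    (pullback.snd i.ker.subschemeι h).ker = b.ker := by
  have sq' : IsPullback (a ≫ i.toImage) b i.ker.subschemeι h := by
    refine IsPullback.of_iso sq (Iso.refl _) (asIso i.toImage) (Iso.refl _) (Iso.refl _)
      ?_ ?_ ?_ ?_
    · simp
    · simp
    · simp
    · simp
  rw [← sq'.isoPullback_hom_snd, Scheme.Hom.ker_comp_of_isIso]

/-- The graph of a morphism is the base change of the diagonal. -/
lemma isPullback_graph {X S T : Scheme.{u}} (f : X ⟶ S) (t : T ⟶ S) (x : T ⟶ X)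
    (hx : x ≫ f = t) :
    IsPullback x (pullback.lift x (𝟙 T) (by simpa using hx)) (pullback.diagonal f)
      (pullback.map f t f f (𝟙 X) x (𝟙 S) (by simp) (by simp [hx])) := by
  refine ⟨⟨?_⟩, ⟨PullbackCone.IsLimit.mk _ (fun s => s.snd ≫ pullback.snd _ _) ?_ ?_ ?_⟩⟩
  · apply pullback.hom_ext
    · simp
    · simp only [Category.assoc, pullback.diagonal_snd, Category.comp_id, pullback.lift_snd,
        pullback.lift_snd_assoc, Category.id_comp]
  · intro s
    have h1 := congrArg (· ≫ pullback.snd f f) s.condition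
    simp only [Category.assoc, pullback.diagonal_snd, Category.comp_id, pullback.lift_snd] at h1
    simpa using h1.symm
  · intro s
    have h1 := congrArg (· ≫ pullback.snd f f) s.condition
    have h2 := congrArg (· ≫ pullback.fst f f) s.condition
    simp only [Category.assoc, pullback.diagonal_snd, pullback.diagonal_fst, Category.comp_id,
      pullback.lift_snd, pullback.lift_fst] at h1 h2
    apply pullback.hom_ext
    · simp only [Category.assoc, pullback.lift_fst]
      rw [← h1, h2]
    · simp
  · intro s m hm1 hm2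
    have := congrArg (· ≫ pullback.snd f t) hm2
    simpa using this

lemma isFinLocFreeOfDeg_one_of_isIso {X Y : Scheme.{u}} (p : X ⟶ Y) [IsIso p] :
    Mor2.IsFinLocFreeOfDeg 1 p :=
  ⟨⟨inferInstance, inferInstance, inferInstance⟩, fun y => by
    rw [Scheme.Hom.finrank_eq_one_of_isIso]; rfl⟩

lemma isIso_of_isFinLocFreeOfDeg_one {X Y : Scheme.{u}} (p : X ⟶ Y)
    (h : Mor2.IsFinLocFreeOfDeg 1 p) : IsIso p := by
  obtain ⟨⟨h1, h2, h3⟩, h4⟩ := h
  exact (Scheme.Hom.isIso_iff_finrank_eq (f := p)).mpr (funext h4)

/-- Pulling the diagonal back along `g` gives the graph of `g`. -/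
lemma pull_diagonal {X S : Scheme.{u}} (f : X ⟶ S) [IsSeparated f] (T : Over S)
    (g : T ⟶ Over.mk f) :
    HilbD.pull f g (HilbD.secGraph f (Over.mk f) (𝟙 X) (Category.id_comp f)) =
      HilbD.secGraph f T g.left (Over.w g) := by
  have := ker_snd_eq_of_isPullback (pullback.diagonal f)
    (pullback.map f T.hom f f (𝟙 X) g.left (𝟙 S) (by simp)
      (by rw [Category.comp_id]; exact (Over.w g).symm))
    g.left (pullback.lift g.left (𝟙 T.left) (by simpa using Over.w g))
    (isPullback_graph f T.hom g.left (Over.w g))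
  exact this

lemma isClosedImmersion_graph {X S T : Scheme.{u}} (f : X ⟶ S) [IsSeparated f] (t : T ⟶ S)
    (x : T ⟶ X) (hx : x ≫ f = t) :
    IsClosedImmersion (pullback.lift x (𝟙 T) (by simpa using hx) : T ⟶ pullback f t) :=
  MorphismProperty.of_isPullback (P := @IsClosedImmersion) (isPullback_graph f t x hx)
    inferInstance

lemma secGraph_eq_ker {X S : Scheme.{u}} (f : X ⟶ S) (T : Over S) (x : T.left ⟶ X)
    (hx : x ≫ f = T.hom) :
    HilbD.secGraph f T x hx =
      Scheme.Hom.ker (pullback.lift x (𝟙 T.left) (by simpa using hx) : T.left ⟶ pullback f T.hom) :=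
  rfl

/-- A closed subscheme of `X_T` mapping isomorphically to `T` is the graph of a unique section. -/
lemma key {X S : Scheme.{u}} (f : X ⟶ S) [IsSeparated f] (T : Over S)
    (J : (PicF.XT f T).IdealSheafData) (q : T.left ⟶ J.subscheme) [IsIso q]
    (hq : q ≫ J.subschemeι ≫ pullback.snd f T.hom = 𝟙 _) :
    ∃ (x : T.left ⟶ X) (hx : x ≫ f = T.hom), HilbD.secGraph f T x hx = J ∧
      ∀ (x' : T.left ⟶ X) (hx' : x' ≫ f = T.hom), HilbD.secGraph f T x' hx' = J → x' = x := by
  have hx : (q ≫ J.subschemeι ≫ pullback.fst f T.hom) ≫ f = T.hom := by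
    simp only [Category.assoc, pullback.condition]
    rw [reassoc_of% hq]
  have hgraph : pullback.lift (q ≫ J.subschemeι ≫ pullback.fst f T.hom) (𝟙 T.left)
      (by simpa using hx) = q ≫ J.subschemeι := by
    apply pullback.hom_ext
    · simp
    · simp only [pullback.lift_snd, Category.assoc]
      exact hq.symm
  have hJ : HilbD.secGraph f T _ hx = J := by
    rw [secGraph_eq_ker, hgraph, Scheme.Hom.ker_comp_of_isIso,
      Scheme.IdealSheafData.ker_subschemeι]
  refine ⟨_, hx, hJ, ?_⟩
  intro x' hx' h'
  have hc1 := isClosedImmersion_graph f T.hom x' hx'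
  have hc2 := isClosedImmersion_graph f T.hom _ hx
  have hker : Scheme.Hom.ker (pullback.lift (q ≫ J.subschemeι ≫ pullback.fst f T.hom) (𝟙 T.left)
      (by simpa using hx) : T.left ⟶ pullback f T.hom) =
      Scheme.Hom.ker (pullback.lift x' (𝟙 T.left) (by simpa using hx') :
        T.left ⟶ pullback f T.hom) := by
    rw [← secGraph_eq_ker f T _ hx, ← secGraph_eq_ker f T x' hx', hJ, h']
  have hfac := IsClosedImmersion.lift_fac _ _ hker.le
  have h1 := congrArg (· ≫ pullback.snd f T.hom) hfac
  have h2 := congrArg (· ≫ pullback.fst f T.hom) hfac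
  simp only [Category.assoc, pullback.lift_snd, pullback.lift_fst, Category.comp_id] at h1 h2
  rw [h1, Category.id_comp] at h2
  exact h2.symm

theorem result {X S : Scheme.{u}} (f : X ⟶ S) [IsSeparated f] :
    ∃ Δ : HilbD.Obj f 1 (Over.mk f),
      Δ.1 = HilbD.secGraph f (Over.mk f) (𝟙 X) (Category.id_comp f) ∧
      HilbD.IsUniversal f 1 (Over.mk f) Δ := by
  have hiso : IsIso ((pullback.diagonal f).ker.subschemeι ≫ pullback.snd f f) := by
    have h : (pullback.diagonal f).toImage ≫
        ((pullback.diagonal f).ker.subschemeι ≫ pullback.snd f f) = 𝟙 X := by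
      have := (pullback.diagonal f).toImage_imageι
      rw [← Category.assoc]
      erw [this]
      simp
    have h2 : (pullback.diagonal f).ker.subschemeι ≫ pullback.snd f f =
        inv (pullback.diagonal f).toImage := by
      rw [← cancel_epi (pullback.diagonal f).toImage, h, IsIso.hom_inv_id]
    rw [h2]; infer_instance
  refine ⟨⟨HilbD.secGraph f (Over.mk f) (𝟙 X) (Category.id_comp f), ?_⟩, rfl, ?_⟩
  · exact @isFinLocFreeOfDeg_one_of_isIso _ _ _ hiso
  · intro T Z'
    obtain ⟨J, hJ⟩ := Z'
    have hp : IsIso (J.subschemeι ≫ PicF.XTproj f T) := isIso_of_isFinLocFreeOfDeg_one _ hJ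
    obtain ⟨x, hx, hxJ, huniq⟩ := key f T J (inv (J.subschemeι ≫ PicF.XTproj f T))
      (by rw [← Category.assoc]; exact IsIso.inv_hom_id (J.subschemeι ≫ PicF.XTproj f T))
    refine ⟨Over.homMk x hx, ?_, ?_⟩
    · show HilbD.pull f _ _ = J
      rw [pull_diagonal]
      exact hxJ
    · intro g' hg'
      have hg'' : HilbD.pull f g' _ = J := hg'
      rw [pull_diagonal] at hg''
      ext
      exact huniq g'.left (Over.w g') hg''

end Groth.Agent.S14845
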