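import Groth.Statements.S14846
import Mathlib.RingTheory.Flat.Basic
import Groth.Agent.Lib.GaloisTensorFixed
import Groth.Agent.Lib.SemisimpleIdeal
import Groth.Agent.Lib.InvolutionSplit

set_option autoImplicit false
universe u v w
open Brauer

namespace Groth.Agent.S14846

open TensorProduct Groth.Agent.Lib.GaloisTensorFixed in
/-- The ideal of the `x` with `γ x * y = 0` for all `γ` and all `y ∈ J`. -/
def killIdeal {K : Type u} {L : Type v} [Field K] [Field L] [Algebra K L]
    {A : Type w} [Ring A] [Algebra K A] (J : TwoSidedIdeal (L ⊗[K] A)) : Ideal (L ⊗[K] A) where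
  carrier := {x | ∀ γ : L ≃ₐ[K] L, ∀ y ∈ J, act γ x * y = 0}
  add_mem' := by
    intro a b ha hb γ y hy
    rw [map_add, add_mul, ha γ y hy, hb γ y hy, add_zero]
  zero_mem' := by intro γ y hy; rw [map_zero, zero_mul]
  smul_mem' := by
    intro c x hx γ y hy
    rw [smul_eq_mul, map_mul, mul_assoc, hx γ y hy, mul_zero]

open TensorProduct Groth.Agent.Lib.GaloisTensorFixed in
lemma mem_killIdeal {K : Type u} {L : Type v} [Field K] [Field L] [Algebra K L]
    {A : Type w} [Ring A] [Algebra K A] {J : TwoSidedIdeal (L ⊗[K] A)} {x : L ⊗[K] A} :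
    x ∈ killIdeal J ↔ ∀ γ : L ≃ₐ[K] L, ∀ y ∈ J, act γ x * y = 0 := Iff.rfl

open TensorProduct Groth.Agent.Lib.GaloisTensorFixed in
instance {K : Type u} {L : Type v} [Field K] [Field L] [Algebra K L]
    {A : Type w} [Ring A] [Algebra K A] (J : TwoSidedIdeal (L ⊗[K] A)) :
    (killIdeal J).IsTwoSided :=
  ⟨fun b ha γ y hy => by
    rw [map_mul, mul_assoc]; exact ha γ _ (J.mul_mem_left _ _ hy)⟩

/-- A central idempotent of a simple ring is `0` or `1`. -/
lemma central_idem_simple {A : Type w} [Ring A] [IsSimpleRing A] (a : A) (ha : a * a = a)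
    (hc : ∀ r : A, a * r = r * a) : a = 0 ∨ a = 1 := by
  open Groth.Agent.Lib.InvolutionSplit in
  rcases eq_bot_or_eq_top (annIdeal a hc).toTwoSided with h | h
  · right
    have h1 : (1 - a) ∈ (annIdeal a hc).toTwoSided := by
      rw [Ideal.mem_toTwoSided, mem_annIdeal, mul_sub, mul_one, ha, sub_self]
    rw [h, TwoSidedIdeal.mem_bot] at h1
    exact (sub_eq_zero.mp h1).symm
  · left
    have h1 : (1 : A) ∈ (annIdeal a hc).toTwoSided := by rw [h]; trivial
    rw [Ideal.mem_toTwoSided, mem_annIdeal, mul_one] at h1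
    exact h1

open TensorProduct in
/-- Let L/K be a Galois extension with group Γ = Aut_K(L), and A a K-algebra which is a simple ring. If
L ⊗_K A is semisimple, then Γ, acting on L ⊗_K A through the first tensor factor, permutes its
simple components, i.e. its minimal nonzero two-sided ideals, transitively: any minimal two-sided
ideal is carried onto any other by some γ ⊗ id. -/
theorem result
    {K : Type u} {L : Type v} [Field K] [Field L] [Algebra K L] [IsGalois K L]
    {A : Type w} [Ring A] [Algebra K A] [IsSimpleRing A]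
    [IsSemisimpleRing (L ⊗[K] A)]
    (I J : TwoSidedIdeal (L ⊗[K] A)) (hI : IsAtom I) (hJ : IsAtom J) :
    ∃ γ : L ≃ₐ[K] L, (J : Set (L ⊗[K] A)) =
      Algebra.TensorProduct.map (γ : L →ₐ[K] L) (AlgHom.id K A) '' (I : Set (L ⊗[K] A)) := by
  classical
  open Groth.Agent.Lib.GaloisTensorFixed Groth.Agent.Lib.SemisimpleIdeal in
  by_contra hcon
  rw [not_exists] at hcon
  have hdisj : ∀ γ : L ≃ₐ[K] L, ∀ x ∈ I, ∀ y ∈ J, act γ x * y = 0 := by
    intro γ x hx y hy
    obtain ⟨I', hI'def⟩ : ∃ I' : TwoSidedIdeal (L ⊗[K] A),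
        I' = (act γ).toRingEquiv.mapTwoSidedIdeal I := ⟨_, rfl⟩
    have hmemI' : ∀ z, z ∈ I' ↔ act γ.symm z ∈ I := by
      intro z
      rw [hI'def, RingEquiv.mapTwoSidedIdeal_apply, TwoSidedIdeal.mem_comap]
      rfl
    have hI' : IsAtom I' := by
      rw [hI'def]
      exact ((act γ).toRingEquiv.mapTwoSidedIdeal.isAtom_iff I).mpr hI
    have hne : I' ≠ J := by
      intro h
      apply hcon γ
      ext z
      rw [← h]
      constructor
      · intro hz
        exact ⟨act γ.symm z, (hmemI' z).mp hz, act_act_symm γ z⟩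
      · rintro ⟨w, hw, rfl⟩
        change act γ w ∈ I'
        rw [hmemI', act_symm_act]
        exact hw
    have hbot : I' ⊓ J = ⊥ := (hI'.disjoint_of_ne hJ hne).eq_bot
    have hmem : act γ x * y ∈ I' ⊓ J := by
      rw [TwoSidedIdeal.mem_inf]
      refine ⟨I'.mul_mem_right _ _ ?_, J.mul_mem_left _ _ hy⟩
      rw [hmemI', act_symm_act]
      exact hx
    rw [hbot, TwoSidedIdeal.mem_bot] at hmem
    exact hmem
  have hIT : ∀ x ∈ I, x ∈ killIdeal J := fun x hx γ y hy => hdisj γ x hx y hy
  obtain ⟨f, hf, hfc, hT⟩ := exists_central_idempotent (killIdeal J)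
  have hstab : ∀ γ : L ≃ₐ[K] L, ∀ x ∈ killIdeal J, act γ x ∈ killIdeal J := by
    intro γ x hx γ' y hy
    rw [act_act]
    exact hx _ y hy
  have hmemf : ∀ x ∈ killIdeal J, x * f = x := by
    intro x hx
    rw [hT] at hx
    obtain ⟨r, rfl⟩ := Ideal.mem_span_singleton'.mp hx
    rw [mul_assoc, hf.eq]
  have hfT : f ∈ killIdeal J := by
    rw [hT]; exact Ideal.subset_span rfl
  have hfix : ∀ γ : L ≃ₐ[K] L, act γ f = f := by
    intro γ
    have h1 : act γ f * f = act γ f := hmemf _ (hstab γ f hfT)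
    have h2 : act γ.symm f * f = act γ.symm f := hmemf _ (hstab γ.symm f hfT)
    have h3 := congrArg (act γ) h2
    rw [map_mul, act_act_symm] at h3
    rw [← h1, ← hfc, h3]
  obtain ⟨a, ha⟩ := exists_eq_one_tmul_of_fixed f hfix
  have hinj : Function.Injective (Algebra.TensorProduct.includeRight : A →ₐ[K] L ⊗[K] A) :=
    Algebra.TensorProduct.includeRight_injective (algebraMap K L).injective
  have haa : a * a = a := by
    apply hinj
    change (1 : L) ⊗ₜ[K] (a * a) = (1 : L) ⊗ₜ[K] a
    have := hf.eq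
    rw [ha, Algebra.TensorProduct.tmul_mul_tmul, one_mul] at this
    exact this
  have hac : ∀ r : A, a * r = r * a := by
    intro r
    apply hinj
    change (1 : L) ⊗ₜ[K] (a * r) = (1 : L) ⊗ₜ[K] (r * a)
    have := hfc ((1 : L) ⊗ₜ[K] r)
    rw [ha, Algebra.TensorProduct.tmul_mul_tmul, Algebra.TensorProduct.tmul_mul_tmul, one_mul]
      at this
    exact this
  rcases central_idem_simple a haa hac with h0 | h1
  · -- `f = 0`
    apply hI.1
    rw [eq_bot_iff]
    intro x hx
    have := hmemf x (hIT x hx)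
    rw [ha, h0, TensorProduct.tmul_zero, mul_zero] at this
    rw [TwoSidedIdeal.mem_bot]
    exact this.symm
  · -- `f = 1`
    apply hJ.1
    rw [eq_bot_iff]
    intro y hy
    have h2 : (1 : L ⊗[K] A) ∈ killIdeal J := by
      rw [Algebra.TensorProduct.one_def, ← h1, ← ha]
      exact hfT
    have := h2 AlgEquiv.refl y hy
    rw [map_one, one_mul] at this
    rw [TwoSidedIdeal.mem_bot]
    exact this

end Groth.Agent.S14846
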