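import Groth.Statements.S14848
import Groth.Agent.Lib.SL2Companion

set_option autoImplicit false
universe u v
open McKay

namespace Groth.Agent.S14848

/-- Let K be a field of characteristic zero, L an extension field of K and ξ ∈ L a primitive n-th root
of unity (n ≥ 1) with ξ + ξ⁻¹ ∈ K, say ξ + ξ⁻¹ = 2c with c ∈ K (the character of the natural
two-dimensional representation of the cyclic group of order n takes values in K). Then the cyclic
group of order n is realisable over K as a subgroup of SL(2, K): there is an element of SL(2, K) of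
order n. -/
theorem result {K : Type u} {L : Type v} [Field K] [Field L]
    [CharZero K] [Algebra K L] (n : ℕ) (hn : 1 ≤ n) (ξ : L) (hξ : IsPrimitiveRoot ξ n) (c : K)
    (hc : algebraMap K L (2 * c) = ξ + ξ⁻¹) :
    ∃ M : Matrix.SpecialLinearGroup (Fin 2) K, orderOf M = n := by
  rcases Nat.lt_or_ge n 3 with h3 | h3
  · have hcases : n = 1 ∨ n = 2 := by omega
    rcases hcases with rfl | rfl
    · exact ⟨1, orderOf_one⟩
    · -- the matrix -1
      have hdet : (!![(-1 : K), 0; 0, -1] : Matrix (Fin 2) (Fin 2) K).det = 1 := by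
        simp [Matrix.det_fin_two_of]
      refine ⟨⟨!![(-1 : K), 0; 0, -1], hdet⟩, ?_⟩
      have hp : Nat.Prime 2 := Nat.prime_two
      have : Fact (Nat.Prime 2) := ⟨hp⟩
      apply orderOf_eq_prime
      · apply Subtype.ext
        rw [Matrix.SpecialLinearGroup.coe_pow]
        ext i j
        fin_cases i <;> fin_cases j <;> simp [sq, Matrix.mul_apply, Fin.sum_univ_two]
      · intro h
        have h' := congrArg (fun A : Matrix.SpecialLinearGroup (Fin 2) K =>
          (A : Matrix (Fin 2) (Fin 2) K) 0 0) h
        simp at h'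
        have h2 : (1 : K) + 1 = 0 := by
          nth_rewrite 1 [← h']
          exact neg_add_cancel 1
        rw [one_add_one_eq_two] at h2
        exact two_ne_zero h2
  · have hn0 : n ≠ 0 := by omega
    have hξ0 : ξ ≠ 0 := hξ.ne_zero hn0
    have hξ2 : ξ ^ 2 ≠ 1 := by
      intro h
      have := Nat.le_of_dvd (by norm_num) (hξ.dvd_of_pow_eq_one 2 h)
      omega
    refine ⟨Groth.Agent.Lib.SL2Companion.compSL (2 * c), ?_⟩
    rw [Groth.Agent.Lib.SL2Companion.orderOf_compSL ξ hξ0 hξ2 (2 * c) hc]
    exact hξ.eq_orderOf.symm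

end Groth.Agent.S14848
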