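import Groth.Statements.S14849
import Groth.Agent.Lib.SL2Companion
import Groth.Agent.Lib.QuaternionHom
import Mathlib.Tactic.Ring
import Mathlib.Tactic.LinearCombination

set_option autoImplicit false
universe u v
open McKay

namespace Groth.Agent.S14849

open Groth.Agent.Lib.SL2Companion Groth.Agent.Lib.QuaternionHom

/-- the matrix `τ` -/
def tauMat {K : Type u} [Field K] (c x y : K) : Matrix (Fin 2) (Fin 2) K :=
  !![y, x + y * c; x - y * c, -y]

lemma det_tauMat {K : Type u} [Field K] (c x y : K) (h : x ^ 2 - (c ^ 2 - 1) * y ^ 2 = -1) :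
    (tauMat c x y).det = 1 := by
  simp only [tauMat, Matrix.det_fin_two_of]
  linear_combination -h

lemma tauMat_mul_self {K : Type u} [Field K] (c x y : K) (h : x ^ 2 - (c ^ 2 - 1) * y ^ 2 = -1) :
    tauMat c x y * tauMat c x y = (-1 : K) • (1 : Matrix (Fin 2) (Fin 2) K) := by
  ext i j
  fin_cases i <;> fin_cases j <;>
    simp [tauMat, Matrix.mul_apply, Fin.sum_univ_two]
  · linear_combination h
  · ring
  · ring
  · linear_combination h

lemma comp_mul_tauMat_mul_comp {K : Type u} [Field K] (c x y : K) :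
    comp (2 * c) * tauMat c x y * comp (2 * c) = tauMat c x y := by
  ext i j
  fin_cases i <;> fin_cases j <;>
    simp [tauMat, comp, Matrix.mul_apply, Fin.sum_univ_two] <;> ring


/-- Let K be a field of characteristic zero, L an extension field of K, n ≥ 2, and ξ ∈ L a primitive
2n-th root of unity with ξ + ξ⁻¹ = 2c for some c ∈ K. If the Hilbert symbol of -1 and c² - 1 over K
equals 1, i.e. x² - (c² - 1) y² = -1 has a solution in K, then the binary dihedral group of order 4n
(generators σ, τ with τ² = σⁿ = (τσ)²) is isomorphic to a subgroup of SL(2, K). (The published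
statement is an equivalence; this row is the direction realising the group from a solution of the
conic.) -/
theorem result {K : Type u} {L : Type v}
    [Field K] [Field L] [CharZero K] [Algebra K L] (n : ℕ) (hn : 2 ≤ n) (ξ : L)
    (hξ : IsPrimitiveRoot ξ (2 * n)) (c : K) (hc : algebraMap K L (2 * c) = ξ + ξ⁻¹)
    (hsol : ∃ x y : K, x ^ 2 - (c ^ 2 - 1) * y ^ 2 = -1) :
    ∃ f : QuaternionGroup n →* Matrix.SpecialLinearGroup (Fin 2) K, Function.Injective f := by
  obtain ⟨x, y, hxy⟩ := hsol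
  have : NeZero n := ⟨by omega⟩
  have hn0 : 2 * n ≠ 0 := by omega
  have hξ0 : ξ ≠ 0 := hξ.ne_zero hn0
  have hξ2 : ξ ^ 2 ≠ 1 := by
    intro h
    have := Nat.le_of_dvd (by norm_num) (hξ.dvd_of_pow_eq_one 2 h)
    omega
  -- ξ^n = -1
  have hξn : ξ ^ n = -1 := by
    have h1 : (ξ ^ n) ^ 2 = 1 := by rw [← pow_mul, mul_comm]; exact hξ.pow_eq_one
    rcases sq_eq_one_iff.mp h1 with h | h
    · exfalso
      have := Nat.le_of_dvd (by omega) (hξ.dvd_of_pow_eq_one n h)
      omega
    · exact h
  have hξn' : ξ⁻¹ ^ n = -1 := by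
    rw [inv_pow, hξn, inv_neg, inv_one]
  -- the two generators
  let σ : Matrix.SpecialLinearGroup (Fin 2) K := compSL (2 * c)
  let τ : Matrix.SpecialLinearGroup (Fin 2) K := ⟨tauMat c x y, det_tauMat c x y hxy⟩
  have h1 : σ ^ (2 * n) = 1 :=
    (compSL_pow_eq_one_iff ξ hξ0 hξ2 (2 * c) hc (2 * n)).mpr hξ.pow_eq_one
  have hord : orderOf σ = 2 * n := by
    rw [orderOf_compSL ξ hξ0 hξ2 (2 * c) hc]
    exact hξ.eq_orderOf.symm
  have h2 : σ * τ * σ = τ := by
    apply Subtype.ext
    exact comp_mul_tauMat_mul_comp c x y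
  have h3 : τ * τ = σ ^ n := by
    apply Subtype.ext
    rw [Matrix.SpecialLinearGroup.coe_pow]
    show tauMat c x y * tauMat c x y = comp (2 * c) ^ n
    rw [tauMat_mul_self c x y hxy]
    symm
    rw [comp_pow_eq_smul_iff_of_algebraMap ξ hξ0 hξ2 (2 * c) hc n (-1)]
    rw [map_neg, map_one]
    exact ⟨hξn, hξn'⟩
  exact ⟨quatHom σ τ h1 h2 h3, quatHom_injective σ τ h1 h2 h3 hord hn⟩

end Groth.Agent.S14849
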