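import Groth.Statements.S14850
import Groth.Agent.Lib.CoeffSpace

set_option autoImplicit false
universe u v
open HopfRep

namespace Groth.Agent.S14850

open TensorProduct in
/-- Over a field K, a nonzero coalgebra C is simple if and only if C is isotypic as a right comodule
over itself, i.e. C is the internal direct sum of the images of a family of injective comodule maps
from one simple right C-comodule E. Here a subcoalgebra of C is a subspace B whose comultiplication
lands in the image of B ⊗ B, and C is simple when its only subcoalgebras are 0 and C. (Stated for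
the right regular comodule; the published statement allows left or right.) -/
theorem result {K : Type u} {C : Type v} [Field K] [AddCommGroup C]
    [Module K C] [Coalgebra K C] [Nontrivial C] :
    (∀ B : Submodule K C, (∀ b ∈ B, CoalgebraStruct.comul (R := K) b ∈ LinearMap.range (TensorProduct.map B.subtype B.subtype)) → B = ⊥ ∨ B = ⊤) ↔
    ∃ (E : Type v) (_ : AddCommGroup E) (_ : Module K E) (_ : HopfRep.Comod K C E),
      HopfRep.IsSimpleComod K C E ∧
      ∃ (ι : Type v) (f : ι → (E →ₗ[K] C)),
        (∀ i, Hoch.IsComodHom C (f i) ∧ Function.Injective (f i)) ∧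
        iSupIndep (fun i => LinearMap.range (f i)) ∧ (⨆ i, LinearMap.range (f i)) = ⊤ := by
  classical
  constructor
  · intro hsimple
    obtain ⟨E, -, hE⟩ := Groth.Agent.Lib.ComodSimple18.exists_simpleSub_le
      (HopfRep.Comod.regular K C) ⊤ Groth.Agent.Lib.Comod.isSubcomod_top top_ne_bot
    let cE : HopfRep.Comod K C E := ComodSub.Comod.restr (HopfRep.Comod.regular K C) E hE.1
    have hEsimple : HopfRep.IsSimpleComod K C E :=
      Groth.Agent.Lib.Comod.isSimpleComod_restr_of_minimal (HopfRep.Comod.regular K C) E hE.1
        hE.2.1 hE.2.2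
    have := hEsimple.1
    have htop : Groth.Agent.Lib.CoeffSpace.cf K C E = ⊤ := by
      rcases hsimple _ (Groth.Agent.Lib.CoeffSpace.isSubcoalg_cf (k := K) (C := C) (V := E))
        with h | h
      · exact absurd h Groth.Agent.Lib.CoeffSpace.cf_ne_bot
      · exact h
    obtain ⟨ι, f, hf⟩ := Groth.Agent.Lib.CoeffSpace.exists_indep_family_of_cf_eq_top hEsimple htop
    exact ⟨E, inferInstance, inferInstance, cE, hEsimple, ι, f, hf⟩
  · rintro ⟨E, _, _, _, hE, ι, f, hf, -, hsum⟩ B hB
    have htop : Groth.Agent.Lib.CoeffSpace.cf K C E = ⊤ := by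
      rw [eq_top_iff, ← hsum]
      exact iSup_le fun i => Groth.Agent.Lib.CoeffSpace.range_le_cf (hf i).1
    have := (Groth.Agent.Lib.CoeffSpace.isSimpleSubcoalg_cf hE).2.2 B
      (by rw [htop]; exact le_top) hB
    rwa [htop] at this

end Groth.Agent.S14850
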