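import Mathlib
import Groth.Agent.Lib.GrassIdeal27
import Groth.Agent.Lib.GrassClosed27
import Groth.Agent.Lib.ClosedCond27f
import Groth.Statements.S14853

set_option autoImplicit false
universe u
open scoped TensorProduct
open HilbD

namespace Groth.Agent.S14853

section Helpers
open AlgebraicGeometry CategoryTheory Groth.Agent.Lib.GrassIdeal27 Groth.Agent.Lib.GrassClosed27

variable {R : Type u} [CommRing R] {B : Type u} [CommRing B] [Algebra R B] {e : ℕ}
  {X : Over (Spec (CommRingCat.of R))}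
  (eX : ∀ A : CommAlgCat.{u} R,
    ((SA R A) ⟶ X) ≃ (Module.Grassmannian.functor (R := R) (M := B) e).obj A)
  (heX : ∀ (A C : CommAlgCat.{u} R) (φ : A ⟶ C) (g : SA R A ⟶ X) (g' : SA R C ⟶ X),
      g'.left = Spec.map (CommRingCat.ofHom φ.hom.toRingHom) ≫ g.left →
        eX C g' = (Module.Grassmannian.functor (R := R) (M := B) e).map φ (eX A g))

include heX in
theorem key_L (A₀ : CommAlgCat.{u} R) (g₀ : SA R A₀ ⟶ X) :
    ∃ 𝓙₀ : (Spec (CommRingCat.of A₀)).IdealSheafData,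
      ∀ (C : CommAlgCat.{u} R) (c : SA R C ⟶ SA R A₀) (gC : SA R C ⟶ X),
        gC.left = c.left ≫ g₀.left → (Cond B (eX C gC).toSubmodule ↔ 𝓙₀ ≤ c.left.ker) := by
  obtain ⟨I₀, hI₀⟩ := exists_ideal (eX A₀ g₀)
  refine ⟨idealSheaf A₀ I₀, fun C c gC h => ?_⟩
  obtain ⟨φ, hφ⟩ := exists_algHom_of_hom c
  rw [hφ] at h ⊢
  rw [heX A₀ C φ g₀ gC h, idealSheaf_le_ker_iff]
  exact hI₀ C φ.hom

/-- the condition on arbitrary morphisms into `X`. -/
def Psi (Z : Scheme.{u}) (z : Z ⟶ X.left) : Prop :=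
  ∀ (A : CommAlgCat.{u} R) (g : SA R A ⟶ X) (a : Spec (CommRingCat.of A) ⟶ Z),
    a ≫ z = g.left → Cond B (eX A g).toSubmodule

include heX in
theorem Psi_iff (A : CommAlgCat.{u} R) (g : SA R A ⟶ X) :
    Psi eX (Spec (CommRingCat.of A)) g.left ↔ Cond B (eX A g).toSubmodule := by
  constructor
  · intro h
    exact h A g (𝟙 _) (Category.id_comp _)
  · intro h A' g' a ha
    obtain ⟨𝓙₀, h𝓙₀⟩ := key_L eX heX A g
    have h1 : 𝓙₀ ≤ (Over.Hom.left (𝟙 (SA R A))).ker := (h𝓙₀ A (𝟙 _) g (by simp)).mp h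
    let c : SA R A' ⟶ SA R A := Over.homMk a (by
      have h2 := Over.w g
      have h3 := Over.w g'
      rw [← h2, ← Category.assoc, ha, h3])
    rw [h𝓙₀ A' c g' ha.symm]
    have h4 : 𝓙₀ ≤ (a ≫ Over.Hom.left (𝟙 (SA R A))).ker :=
      h1.trans (Scheme.Hom.le_ker_comp _ _)
    have h5 : a ≫ Over.Hom.left (𝟙 (SA R A)) = c.left := by
      rw [Over.id_left]
      exact Category.comp_id a
    rwa [h5] at h4

theorem Psi_comp (Z Z' : Scheme.{u}) (y : Z' ⟶ Z) (z : Z ⟶ X.left) (h : Psi eX Z z) :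
    Psi eX Z' (y ≫ z) := by
  intro A g a ha
  exact h A g (a ≫ y) (by rw [Category.assoc, ha])

/-- affine open neighbourhoods inside an open, as `SA`-points. -/
theorem exists_affine_nbhd {W : Scheme.{u}} (w : W ⟶ Spec (CommRingCat.of R)) (O : W.Opens) (x : W)
    (hx : x ∈ O) :
    ∃ (C : CommAlgCat.{u} R) (c : Spec (CommRingCat.of C) ⟶ W), IsOpenImmersion c ∧
      x ∈ Set.range c ∧ Set.range c ⊆ O ∧
      c ≫ w = Spec.map (CommRingCat.ofHom (algebraMap R C)) := by
  obtain ⟨_, ⟨V₀, hV, rfl⟩, hxV, hVO⟩ := W.isBasis_affineOpens.exists_subset_of_mem_open hx O.2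
  obtain ⟨V, rfl⟩ : ∃ V : W.Opens, V = V₀ := ⟨V₀, rfl⟩
  have : IsAffine (Over.mk (V.ι ≫ w)).left := hV
  obtain ⟨C, ⟨eC⟩⟩ := exists_iso_SA R (Over.mk (V.ι ≫ w))
  let ε : Spec (CommRingCat.of C) ≅ (V : Scheme) := (Over.forget _).mapIso eC
  have hε : ε.hom ≫ V.ι ≫ w = Spec.map (CommRingCat.ofHom (algebraMap R C)) := Over.w eC.hom
  have hr : Set.range (ε.hom ≫ V.ι) = V := by
    rw [Scheme.Hom.comp_base, TopCat.coe_comp, Set.range_comp,
      Set.range_eq_univ.mpr (ConcreteCategory.bijective_of_isIso ε.hom.base).2, Set.image_univ,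
      Scheme.Opens.range_ι]
  refine ⟨C, ε.hom ≫ V.ι, inferInstance, ?_, ?_, ?_⟩
  · rw [hr]; exact hxV
  · rw [hr]; exact hVO
  · rw [Category.assoc, hε]

include heX in
theorem Psi_local (Z : Scheme.{u}) (z : Z ⟶ X.left)
    (h : ∀ x : Z, ∃ (U : Scheme.{u}) (j : U ⟶ Z), IsOpenImmersion j ∧ x ∈ Set.range j ∧
      Psi eX U (j ≫ z)) : Psi eX Z z := by
  intro A g a ha
  obtain ⟨𝓙₀, h𝓙₀⟩ := key_L eX heX A g
  have hid : Over.Hom.left (𝟙 (SA R A)) = 𝟙 _ := Over.id_left _
  rw [h𝓙₀ A (𝟙 _) g (by simp), hid]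
  apply Groth.Agent.Lib.ClosedCond27.le_ker_of_cover
  intro p
  obtain ⟨U, j, hj, hpj, hΨ⟩ := h (a p)
  obtain ⟨C, c, hc, hpc, hcO, hcw⟩ := exists_affine_nbhd
    (Spec.map (CommRingCat.ofHom (algebraMap R A))) (a ⁻¹ᵁ j.opensRange) p hpj
  refine ⟨_, c, hc, hpc, ?_⟩
  let cO : SA R C ⟶ SA R A := Over.homMk c hcw
  let gC : SA R C ⟶ X := Over.homMk (c ≫ g.left) (by
    rw [Category.assoc, Over.w g]; exact hcw)
  have hrange : Set.range (c ≫ a) ⊆ Set.range j := by
    rintro _ ⟨q, rfl⟩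
    exact hcO ⟨q, rfl⟩
  have hlift : IsOpenImmersion.lift j (c ≫ a) hrange ≫ j = c ≫ a :=
    IsOpenImmersion.lift_fac _ _ _
  have hcond : Cond B (eX C gC).toSubmodule :=
    hΨ C gC (IsOpenImmersion.lift j (c ≫ a) hrange) (by
      rw [reassoc_of% hlift, ha]; rfl)
  have := (h𝓙₀ C cO gC rfl).mp hcond
  rw [Category.comp_id]
  exact this

include heX in
/-- local representability at an `SA`-chart. -/
theorem Psi_chart (A₀ : CommAlgCat.{u} R) (g₀ : SA R A₀ ⟶ X) :
    ∃ 𝓙₀ : (Spec (CommRingCat.of A₀)).IdealSheafData,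
      ∀ (Z : Scheme.{u}) (ζ : Z ⟶ Spec (CommRingCat.of A₀)),
        𝓙₀ ≤ ζ.ker ↔ Psi eX Z (ζ ≫ g₀.left) := by
  obtain ⟨𝓙₀, h𝓙₀⟩ := key_L eX heX A₀ g₀
  refine ⟨𝓙₀, fun Z ζ => ⟨fun hle => ?_, fun hΨ => ?_⟩⟩
  · intro A g a ha
    let c : SA R A ⟶ SA R A₀ := Over.homMk (a ≫ ζ) (by
      have h2 := Over.w g₀
      have h3 := Over.w g
      rw [← h2, Category.assoc, reassoc_of% ha, h3])
    rw [h𝓙₀ A c g (by rw [← ha]; exact (Category.assoc _ _ _).symm)]
    exact hle.trans (Scheme.Hom.le_ker_comp _ _)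
  · apply Groth.Agent.Lib.ClosedCond27.le_ker_of_cover
    intro x
    obtain ⟨C, c, hc, hxc, -, hcw⟩ := exists_affine_nbhd
      (ζ ≫ Spec.map (CommRingCat.ofHom (algebraMap R A₀))) ⊤ x trivial
    refine ⟨_, c, hc, hxc, ?_⟩
    let cO : SA R C ⟶ SA R A₀ := Over.homMk (c ≫ ζ) (by rw [Category.assoc]; exact hcw)
    let gC : SA R C ⟶ X := Over.homMk (c ≫ ζ ≫ g₀.left) (by
      rw [Category.assoc, Category.assoc, Over.w g₀]; exact hcw)
    have hcond : Cond B (eX C gC).toSubmodule := hΨ C gC c rfl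
    exact (h𝓙₀ C cO gC (Category.assoc _ _ _).symm).mp hcond

end Helpers

open AlgebraicGeometry CategoryTheory in
/-- Let R be a commutative ring, B a commutative R-algebra, e a natural number, and X an R-scheme
representing the Grassmannian functor Grass^e(B) on affine R-schemes — bijections, natural in the
commutative R-algebra A, between R-morphisms Spec A → X and A-submodules U of A ⊗_R B whose quotient
is finite projective of constant rank e. Then the Hilbert functor of e points of Spec B over Spec R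
is a closed subfunctor: there is a closed immersion ι : Z → X such that an R-morphism g : Spec A → X
factors through ι if and only if the submodule U attached to g is an ideal of A ⊗_R B, i.e. is
stable under multiplication by every 1 ⊗ b. (The published statement is for a quasi-coherent algebra
over an arbitrary base scheme and for the equivariant functors; this row is the case of an affine
base and trivial group.) -/
theorem result (R : Type u) [CommRing R]
    (B : Type u) [CommRing B] [Algebra R B]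
    (e : ℕ) (X : Over (Spec (CommRingCat.of R)))
    (eX : ∀ A : CommAlgCat.{u} R,
      ((Over.mk (Spec.map (CommRingCat.ofHom (algebraMap R A)))) ⟶ X) ≃ (Module.Grassmannian.functor (R := R) (M := B) e).obj A)
    (heX : ∀ (A C : CommAlgCat.{u} R) (φ : A ⟶ C)
      (g : Over.mk (Spec.map (CommRingCat.ofHom (algebraMap R A))) ⟶ X) (g' : Over.mk (Spec.map (CommRingCat.ofHom (algebraMap R C))) ⟶ X),
      g'.left = Spec.map (CommRingCat.ofHom φ.hom.toRingHom) ≫ g.left →
        eX C g' = (Module.Grassmannian.functor (R := R) (M := B) e).map φ (eX A g)) :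
    ∃ (Z : Scheme.{u}) (ι : Z ⟶ X.left), IsClosedImmersion ι ∧
      ∀ (A : CommAlgCat.{u} R) (g : Over.mk (Spec.map (CommRingCat.ofHom (algebraMap R A))) ⟶ X),
        (∃ h : (Over.mk (Spec.map (CommRingCat.ofHom (algebraMap R A)))).left ⟶ Z, h ≫ ι = g.left) ↔
          ∀ (b : B) (x : ↑A ⊗[R] B), x ∈ (eX A g).toSubmodule →
            ((1 : ↑A) ⊗ₜ[R] b) * x ∈ (eX A g).toSubmodule := by
  classical
  -- affine charts of `X`
  have hch : ∀ V : X.left.affineOpens, ∃ (A : CommAlgCat.{u} R),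
      Nonempty (Groth.Agent.Lib.GrassClosed27.SA R A ≅ Over.mk (V.1.ι ≫ X.hom)) := fun V => by
    have : IsAffine (Over.mk (V.1.ι ≫ X.hom)).left := V.2
    exact Groth.Agent.Lib.GrassClosed27.exists_iso_SA R _
  choose AV eV using hch
  let ε : ∀ V : X.left.affineOpens, Spec (CommRingCat.of (AV V)) ≅ (V.1 : Scheme) :=
    fun V => (Over.forget _).mapIso (eV V).some
  have hε : ∀ V, (ε V).hom ≫ V.1.ι ≫ X.hom =
      Spec.map (CommRingCat.ofHom (algebraMap R (AV V))) := fun V => Over.w (eV V).some.hom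
  let gV : ∀ V : X.left.affineOpens, Groth.Agent.Lib.GrassClosed27.SA R (AV V) ⟶ X :=
    fun V => Over.homMk ((ε V).hom ≫ V.1.ι) (by rw [Category.assoc]; exact hε V)
  obtain ⟨𝓙, h𝓙⟩ := Groth.Agent.Lib.ClosedCond27.exists_idealSheaf_glue
    (Groth.Agent.S14853.Psi eX) (Groth.Agent.S14853.Psi_comp eX)
    (Groth.Agent.S14853.Psi_local eX heX)
    (fun V : X.left.affineOpens => Spec (CommRingCat.of (AV V)))
    (fun V => (ε V).hom ≫ V.1.ι)
    (fun x => by
      obtain ⟨_, ⟨V, hV, rfl⟩, hxV, -⟩ :=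
        X.left.isBasis_affineOpens.exists_subset_of_mem_open (Set.mem_univ x) isOpen_univ
      refine ⟨⟨V, hV⟩, ?_⟩
      have hr : Set.range ((ε ⟨V, hV⟩).hom ≫ Scheme.Opens.ι V) = V := by
        rw [Scheme.Hom.comp_base, TopCat.coe_comp, Set.range_comp,
          Set.range_eq_univ.mpr (ConcreteCategory.bijective_of_isIso (ε ⟨V, hV⟩).hom.base).2,
          Set.image_univ, Scheme.Opens.range_ι]
      rw [hr]
      exact hxV)
    (fun V => Groth.Agent.S14853.Psi_chart eX heX (AV V) (gV V))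
  refine ⟨𝓙.subscheme, 𝓙.subschemeι, inferInstance, fun A g => ?_⟩
  refine Iff.trans ?_ (Groth.Agent.S14853.Psi_iff eX heX A g)
  rw [← h𝓙]
  constructor
  · rintro ⟨h, hh⟩
    rw [← hh]
    calc 𝓙 = 𝓙.subschemeι.ker := (Scheme.IdealSheafData.ker_subschemeι _).symm
      _ ≤ (h ≫ 𝓙.subschemeι).ker := Scheme.Hom.le_ker_comp _ _
  · intro hle
    have hle' : 𝓙.subschemeι.ker ≤ g.left.ker := by
      rwa [Scheme.IdealSheafData.ker_subschemeι]
    exact ⟨IsClosedImmersion.lift 𝓙.subschemeι g.left hle', IsClosedImmersion.lift_fac _ _ _⟩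

end Groth.Agent.S14853
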