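import Groth.Statements.S14856

set_option autoImplicit false
universe u
open CAlg

namespace Groth.Agent.S14856

open Finset in
lemma ghost_eq (p : ℕ) [Fact p.Prime] {S : Type u} [CommRing S] (n : ℕ) (x : WittVector p S) :
    WittVector.ghostComponent n x = ∑ i ∈ Finset.range (n + 1), (p : S) ^ i * x.coeff i ^ p ^ (n - i) := by
  rw [WittVector.ghostComponent_apply, wittPolynomial_eq_sum_C_mul_X_pow, map_sum]
  refine Finset.sum_congr rfl fun i _ => ?_
  simp [map_mul, map_pow]

lemma term_dvd (p : ℕ) [Fact p.Prime] {S : Type u} [CommRing S] (s : ℕ) (hs : 1 ≤ s) (n i : ℕ)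
    (hi : i ≤ n) (a : S) (ha : (p : S) ^ s ∣ a) :
    (p : S) ^ (n + s) ∣ (p : S) ^ i * a ^ p ^ (n - i) := by
  have h1 : ((p : S) ^ s) ^ p ^ (n - i) ∣ a ^ p ^ (n - i) := pow_dvd_pow_of_dvd ha _
  have h2 : (p : S) ^ i * ((p : S) ^ s) ^ p ^ (n - i) ∣ (p : S) ^ i * a ^ p ^ (n - i) :=
    mul_dvd_mul_left _ h1
  refine dvd_trans ?_ h2
  rw [← pow_mul, ← pow_add]
  apply pow_dvd_pow
  have h3 : (n - i) + 1 ≤ p ^ (n - i) :=
    ((n - i).lt_two_pow_self).succ_le.trans (Nat.pow_le_pow_left (Nat.Prime.two_le Fact.out) _)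
  have h4 : s * ((n - i) + 1) ≤ s * p ^ (n - i) := Nat.mul_le_mul_left _ h3
  have h5 : (n - i) + s ≤ s * ((n - i) + 1) := by
    rw [mul_add, mul_one]
    have : (n - i) ≤ s * (n - i) := Nat.le_mul_of_pos_left _ hs
    omega
  omega


/-- Let p be a prime and S a commutative ring in which p is a non-zero-divisor. For a p-typical Witt
vector x over S, a natural number m and an integer s ≥ 1, the power p^s divides each of the Witt
components x_0, …, x_m if and only if p^(n+s) divides the n-th ghost component w_n(x) = x_0^(p^n) +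
p x_1^(p^(n-1)) + ⋯ + p^n x_n for every n ≤ m. -/
theorem result (p : ℕ) [Fact p.Prime] (S : Type u) [CommRing S]
    (hS : ∀ y : S, (p : S) * y = 0 → y = 0) (x : WittVector p S) (m s : ℕ) (hs : 1 ≤ s) :
    (∀ i ≤ m, (p : S) ^ s ∣ x.coeff i) ↔
      (∀ n ≤ m, (p : S) ^ (n + s) ∣ WittVector.ghostComponent n x) := by
  have hreg : IsLeftRegular (p : S) := by
    intro a b hab
    have : (p : S) * (a - b) = 0 := by
      rw [mul_sub]; exact sub_eq_zero.mpr hab
    exact sub_eq_zero.mp (hS _ this)
  constructor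
  · intro h n hn
    rw [ghost_eq]
    refine Finset.dvd_sum fun i hi => ?_
    have hin : i ≤ n := Nat.le_of_lt_succ (Finset.mem_range.mp hi)
    exact term_dvd p s hs n i hin _ (h i (hin.trans hn))
  · intro h i
    induction i using Nat.strong_induction_on with
    | _ i ih =>
      intro him
      have h1 := h i him
      rw [ghost_eq, Finset.sum_range_succ] at h1
      have h2 : (p : S) ^ (i + s) ∣ ∑ j ∈ Finset.range i, (p : S) ^ j * x.coeff j ^ p ^ (i - j) := by
        refine Finset.dvd_sum fun j hj => ?_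
        have hji : j < i := Finset.mem_range.mp hj
        exact term_dvd p s hs i j hji.le _ (ih j hji (hji.le.trans him))
      have h3 : (p : S) ^ (i + s) ∣ (p : S) ^ i * x.coeff i ^ p ^ (i - i) :=
        (dvd_add_right h2).mp h1
      rw [Nat.sub_self, pow_zero, pow_one, pow_add] at h3
      obtain ⟨t, ht⟩ := h3
      refine ⟨t, (hreg.pow i) ?_⟩
      simpa [mul_assoc] using ht

end Groth.Agent.S14856
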