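import Groth.Statements.S14857
import Mathlib.RingTheory.WittVector.Domain
import Mathlib.RingTheory.WittVector.Identities

set_option autoImplicit false
open CAlg

namespace Groth.Agent.S14857

/-- In the Witt vectors of any commutative ring, `p` divides `[p·1]^p`. -/
lemma p_dvd_teichmuller_pow (p : ℕ) [Fact p.Prime] (R : Type*) [CommRing R] :
    (p : WittVector p R) ∣ (WittVector.teichmuller p (p : R)) ^ p := by
  set x : WittVector p R := (p : WittVector p R) - WittVector.teichmuller p (p : R) with hxdef
  have hx0 : x.coeff 0 = 0 := by
    have h : WittVector.constantCoeff x = 0 := by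
      rw [hxdef, map_sub, map_natCast]
      show (p : R) - (WittVector.teichmuller p (p : R)).coeff 0 = 0
      rw [WittVector.teichmuller_coeff_zero, sub_self]
    exact h
  have hx : x = WittVector.verschiebung (x.shift 1) := by
    have h := WittVector.eq_iterate_verschiebung (x := x) (n := 1)
      (by intro i hi; interval_cases i; exact hx0)
    simpa using h
  have hsq : x * x = (p : WittVector p R) * WittVector.verschiebung (x.shift 1 * x.shift 1) := by
    generalize x.shift 1 = y at hx
    rw [hx, ← WittVector.verschiebung_mul_frobenius, WittVector.frobenius_verschiebung,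
      ← mul_assoc, ← nsmul_eq_mul', map_nsmul, nsmul_eq_mul]
  have hT : WittVector.teichmuller p (p : R) = (p : WittVector p R) - x := by
    rw [hxdef]; ring
  rw [hT]
  have h1 : (p : WittVector p R) ∣ ((p : WittVector p R) - x) ^ p - (-x) ^ p := by
    have h := sub_dvd_pow_sub_pow ((p : WittVector p R) - x) (-x) p
    have h' : (p : WittVector p R) - x - -x = (p : WittVector p R) := by ring
    rwa [h'] at h
  have h2 : (p : WittVector p R) ∣ (-x) ^ p := by
    have hp2 : 2 ≤ p := (Fact.out : p.Prime).two_le
    have h3 : (-x) ^ p = (x * x) * (-x) ^ (p - 2) := by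
      have : (-x) ^ p = (-x) ^ 2 * (-x) ^ (p - 2) := by
        rw [← pow_add]; congr 1; omega
      rw [this, neg_sq, sq]
    rw [h3, hsq, mul_assoc]
    exact dvd_mul_right _ _
  exact (dvd_sub_left h2).mp h1


/-- For a prime p, the Teichmüller representative [p^p] of the element p^p of the p-adic integers is
divisible by p in the ring of p-typical Witt vectors W(ℤ_p). -/
theorem result (p : ℕ) [Fact p.Prime] :
    (p : WittVector p ℤ_[p]) ∣ WittVector.teichmuller p ((p : ℤ_[p]) ^ p) := by
  rw [map_pow]
  exact p_dvd_teichmuller_pow p ℤ_[p]

end Groth.Agent.S14857
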