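import Groth.Statements.S14859
import Mathlib.LinearAlgebra.Basis.Prod
import Mathlib.LinearAlgebra.Projection
import Mathlib.RingTheory.FiniteType
import Mathlib.RingTheory.OrzechProperty

set_option autoImplicit false
universe u v w
open Disp

namespace Groth.Agent.S14859

open W4c1extbt610

/-- Every element of the ideal generated by the image of Verschiebung is itself a Verschiebung. -/
lemma exists_verschiebung_eq (p : ℕ) [Fact p.Prime] (R : Type u) [CommRing R]
    {a : WittVector p R} (ha : a ∈ IV p R) : ∃ w : WittVector p R, WittVector.verschiebung w = a := by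
  unfold IV at ha
  refine Submodule.span_induction (p := fun a _ => ∃ w : WittVector p R,
    WittVector.verschiebung w = a) ?_ ⟨0, map_zero _⟩ ?_ ?_ ha
  · rintro _ ⟨w, rfl⟩
    exact ⟨w, rfl⟩
  · rintro x y _ _ ⟨w, rfl⟩ ⟨w', rfl⟩
    exact ⟨w + w', map_add _ _ _⟩
  · rintro c x _ ⟨w, rfl⟩
    refine ⟨w * WittVector.frobenius c, ?_⟩
    rw [WittVector.verschiebung_mul_frobenius, smul_eq_mul, mul_comm]


/-- Let p be a prime, R a commutative ring with p-typical Witt vectors W = W(R), and (P, Q, F, V⁻¹) a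
3n-display over R with a normal decomposition P = L ⊕ T, Q = L + I_R·T. Then V⁻¹ ⊕ F : L ⊕ T → P is
a Frobenius-linear isomorphism; stated here in the case where L and T are free with bases (l_i) and
(t_j): the family consisting of the V⁻¹(l_i) and the F(t_j) is a basis of the W-module P, i.e. it is
linearly independent over W and spans P. -/
theorem result (p : ℕ) [Fact p.Prime] (R : Type u) [CommRing R]
    (P : Type v) [AddCommGroup P] [Module (WittVector p R) P] (D : W4c1extbt610.Display3n p R P)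
    (L T : Submodule (WittVector p R) P) (hLT : IsCompl L T)
    (hQ : D.Q = L ⊔ W4c1extbt610.IV p R • T) (hLQ : L ≤ D.Q)
    (ιL ιT : Type w) (bL : Module.Basis ιL (WittVector p R) L) (bT : Module.Basis ιT (WittVector p R) T) :
    LinearIndependent (WittVector p R)
        (Sum.elim (fun i : ιL => D.Vinv ⟨(bL i : P), hLQ (bL i).2⟩) (fun j : ιT => D.F (bT j : P))) ∧
      Submodule.span (WittVector p R)
        (Set.range (Sum.elim (fun i : ιL => D.Vinv ⟨(bL i : P), hLQ (bL i).2⟩) (fun j : ιT => D.F (bT j : P)))) = ⊤ := by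
  classical
  have := D.finite
  set fam : ιL ⊕ ιT → P :=
    Sum.elim (fun i : ιL => D.Vinv ⟨(bL i : P), hLQ (bL i).2⟩) (fun j : ιT => D.F (bT j : P)) with hfam
  set S : Submodule (WittVector p R) P := Submodule.span (WittVector p R) (Set.range fam) with hS
  -- Step A: F maps T into S
  have hA : ∀ t : T, D.F (t : P) ∈ S := by
    intro t
    have ht : t ∈ Submodule.span (WittVector p R) (Set.range bT) := bT.mem_span t
    refine Submodule.span_induction (p := fun (y : T) _ => D.F (y : P) ∈ S) ?_ ?_ ?_ ?_ ht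
    · rintro _ ⟨j, rfl⟩
      exact Submodule.subset_span ⟨Sum.inr j, rfl⟩
    · simp
    · intro x y _ _ hx hy
      rw [Submodule.coe_add, map_add]
      exact S.add_mem hx hy
    · intro c x _ hx
      rw [Submodule.coe_smul, LinearMap.map_smulₛₗ]
      exact S.smul_mem _ hx
  -- Step B: Vinv maps L into S
  have hB : ∀ l : L, D.Vinv ⟨(l : P), hLQ l.2⟩ ∈ S := by
    intro l
    have hl : l ∈ Submodule.span (WittVector p R) (Set.range bL) := bL.mem_span l
    refine Submodule.span_induction (p := fun (y : L) _ => D.Vinv ⟨(y : P), hLQ y.2⟩ ∈ S) ?_ ?_ ?_ ?_ hl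
    · rintro _ ⟨i, rfl⟩
      exact Submodule.subset_span ⟨Sum.inl i, rfl⟩
    · have h0 : (⟨((0 : L) : P), hLQ (0 : L).2⟩ : D.Q) = 0 := rfl
      rw [h0, map_zero]
      exact S.zero_mem
    · intro x y _ _ hx hy
      have h1 : (⟨((x + y : L) : P), hLQ (x + y).2⟩ : D.Q) =
          ⟨(x : P), hLQ x.2⟩ + ⟨(y : P), hLQ y.2⟩ := rfl
      rw [h1, map_add]
      exact S.add_mem hx hy
    · intro c x _ hx
      have h1 : (⟨((c • x : L) : P), hLQ (c • x).2⟩ : D.Q) = c • ⟨(x : P), hLQ x.2⟩ := rfl
      rw [h1, LinearMap.map_smulₛₗ]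
      exact S.smul_mem _ hx
  -- Step C: Vinv maps IV • T into S
  have hC : ∀ x ∈ IV p R • T, ∃ hx : x ∈ D.Q, D.Vinv ⟨x, hx⟩ ∈ S := by
    intro x hx
    refine Submodule.smul_induction_on hx ?_ ?_
    · intro a ha t ht
      obtain ⟨w, rfl⟩ := exists_verschiebung_eq p R ha
      refine ⟨D.IV_smul_le (Submodule.smul_mem_smul (verschiebung_mem_IV p R w)
        Submodule.mem_top), ?_⟩
      rw [D.Vinv_verschiebung_smul]
      exact S.smul_mem _ (hA ⟨t, ht⟩)
    · rintro x y ⟨hx, hx'⟩ ⟨hy, hy'⟩
      refine ⟨D.Q.add_mem hx hy, ?_⟩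
      have h1 : (⟨x + y, D.Q.add_mem hx hy⟩ : D.Q) = ⟨x, hx⟩ + ⟨y, hy⟩ := rfl
      rw [h1, map_add]
      exact S.add_mem hx' hy'
  have hspan : S = ⊤ := by
    rw [eq_top_iff, ← D.span_range_Vinv, Submodule.span_le]
    rintro _ ⟨q, rfl⟩
    have hq : (q : P) ∈ L ⊔ IV p R • T := hQ ▸ q.2
    obtain ⟨l, hl, y, hy, hly⟩ := Submodule.mem_sup.mp hq
    obtain ⟨hyQ, hy'⟩ := hC y hy
    have h1 : q = ⟨l, hLQ hl⟩ + ⟨y, hyQ⟩ := Subtype.ext hly.symm
    rw [h1, map_add]
    exact S.add_mem (hB ⟨l, hl⟩) hy'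
  refine ⟨?_, hspan⟩
  -- linear independence via Orzech
  let b : Module.Basis (ιL ⊕ ιT) (WittVector p R) P :=
    (bL.prod bT).map (Submodule.prodEquivOfIsCompl L T hLT)
  let g : P →ₗ[WittVector p R] P := b.constr (WittVector p R) fam
  have hg : Function.Surjective g := by
    rw [← LinearMap.range_eq_top, Module.Basis.constr_range]
    exact hspan
  have hinj : Function.Injective g := OrzechProperty.injective_of_surjective_endomorphism g hg
  have hli := b.linearIndependent.map' g (LinearMap.ker_eq_bot.mpr hinj)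
  have hgb : g ∘ b = fam := by
    funext i
    exact b.constr_basis (WittVector p R) fam i
  rwa [hgb] at hli

end Groth.Agent.S14859
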