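import Groth.Statements.S14861
import Groth.Agent.Lib.WittClosed58

set_option autoImplicit false
universe u
open CAlg

namespace Groth.Agent.S14861

/-- Let p be a prime and R a commutative ring without p-torsion which is complete and separated for the
p-adic topology. Let a be a p-typical Witt vector over R and m, u natural numbers. Suppose that for
every s the equation p^u·x = a has a solution in the truncated Witt ring W_m(R/p^s R), i.e. there is
z ∈ W(R) such that the first m Witt components of p^u·z − a lie in p^s R. Then the equation has a
solution in W_m(R): there is x ∈ W(R) such that the first m Witt components of p^u·x − a vanish.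
(The published statement asks only that R have no p-torsion; R is moreover taken p-adically complete
and separated here, which is the standing situation of the surrounding argument and is what the
published proof uses when it passes to the limit over s.) -/
theorem result (p : ℕ) [Fact p.Prime] (R : Type u) [CommRing R]
    (hR : ∀ y : R, (p : R) * y = 0 → y = 0) [IsAdicComplete (Ideal.span {(p : R)}) R]
    (a : WittVector p R) (m u : ℕ)
    (h : ∀ s : ℕ, ∃ z : WittVector p R, ∀ i < m, ((p : WittVector p R) ^ u * z - a).coeff i ∈ Ideal.span {(p : R) ^ s}) :
    ∃ x : WittVector p R, ∀ i < m, ((p : WittVector p R) ^ u * x - a).coeff i = 0 := by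
  have h' : ∀ s : ℕ, ∃ z : WittVector p R, (p : WittVector p R) ^ u * z - a ∈
      Groth.Agent.Lib.WittComplete58.J p R m s := by
    intro s
    obtain ⟨z, hz⟩ := h s
    exact ⟨z, Groth.Agent.Lib.WittComplete58.mem_J.mpr hz⟩
  obtain ⟨x, hx⟩ := Groth.Agent.Lib.WittComplete58.exists_solution hR a m u h'
  exact ⟨x, (WittVector.mem_ker_truncate _ _).mp hx⟩

end Groth.Agent.S14861
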