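import Groth.Statements.S14863
import Groth.Agent.Lib.DieudonneFiber58
import Groth.Agent.Lib.NormalDecomp58

set_option autoImplicit false
universe u v
open Disp

namespace Groth.Agent.S14863

/-- Let p be a prime and k a perfect commutative ring of characteristic p, so that the Frobenius σ of W
= W(k) is an automorphism. Let M be a Dieudonné module over k, that is, a projective W-module of
finite type with a σ-semilinear operator F and a σ⁻¹-semilinear operator V such that FV = VF = p.
Then (M, VM, F, V⁻¹) is a 3n-display over k: there exists a 3n-display structure on the W-module M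
whose distinguished submodule is exactly the image of V, whose Frobenius operator is F, and whose
operator V⁻¹ sends V m to m for every m. (The published statement is the equivalence of the category
of 3n-displays over k with that of Dieudonné modules, displays corresponding to topologically
nilpotent V; this row is the passage from a Dieudonné module to a 3n-display.) -/
theorem result (p : ℕ) [Fact p.Prime] (k : Type u) [CommRing k]
    [CharP k p] [PerfectRing k p]
    (M : Type v) [AddCommGroup M] [Module (WittVector p k) M]
    [Module.Finite (WittVector p k) M] [Module.Projective (WittVector p k) M]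
    (F : M →ₛₗ[(WittVector.frobenius : WittVector p k →+* WittVector p k)] M)
    (V : M →ₛₗ[((WittVector.frobeniusEquiv p k).symm : WittVector p k →+* WittVector p k)] M)
    (hFV : ∀ m : M, F (V m) = (p : WittVector p k) • m) (hVF : ∀ m : M, V (F m) = (p : WittVector p k) • m) :
    ∃ D : W4c1extbt610.Display3n p k M,
      D.F = F ∧ (∀ x : M, x ∈ D.Q ↔ x ∈ Set.range V) ∧
        ∀ (m : M) (h : V m ∈ D.Q), D.Vinv ⟨V m, h⟩ = m := by
  classical
  -- abbreviations
  have hσp : (WittVector.frobenius : WittVector p k →+* WittVector p k) (p : WittVector p k) =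
      (p : WittVector p k) := map_natCast _ _
  have hτσ : ∀ w : WittVector p k,
      ((WittVector.frobeniusEquiv p k).symm : WittVector p k →+* WittVector p k)
        (WittVector.frobenius w) = w := fun w => (WittVector.frobeniusEquiv p k).symm_apply_apply w
  have hστ : ∀ w : WittVector p k, WittVector.frobenius
      (((WittVector.frobeniusEquiv p k).symm : WittVector p k →+* WittVector p k) w) = w :=
    fun w => (WittVector.frobeniusEquiv p k).apply_symm_apply w
  -- `IV = (p)`
  have hIV : W4c1extbt610.IV p k = Ideal.span {(p : WittVector p k)} := by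
    apply le_antisymm
    · rw [W4c1extbt610.IV, Ideal.span_le]
      rintro _ ⟨y, rfl⟩
      have : WittVector.verschiebung y =
          ((WittVector.frobeniusEquiv p k).symm : WittVector p k →+* WittVector p k) y *
            (p : WittVector p k) := by
        rw [← WittVector.verschiebung_frobenius, hστ]
      rw [this]
      exact Ideal.mul_mem_left _ _ (Ideal.mem_span_singleton_self _)
    · rw [Ideal.span_le, Set.singleton_subset_iff]
      have : (p : WittVector p k) = WittVector.verschiebung (WittVector.frobenius 1) := by
        rw [WittVector.verschiebung_frobenius, one_mul]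
      rw [this]
      exact W4c1extbt610.verschiebung_mem_IV p k _
  have hver : ∀ w : WittVector p k, WittVector.verschiebung w =
      ((WittVector.frobeniusEquiv p k).symm : WittVector p k →+* WittVector p k) w *
        (p : WittVector p k) := by
    intro w
    rw [← WittVector.verschiebung_frobenius, hστ]
  -- `M` has no `p`-torsion
  have htors : ∀ u : M, (p : WittVector p k) • u = 0 → u = 0 := by
    intro u hu
    have h1 : (p : WittVector p k) • u ∈
        (⊥ : Ideal (WittVector p k)) • (⊤ : Submodule (WittVector p k) M) := by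
      rw [hu]; exact Submodule.zero_mem _
    have h2 := Groth.Agent.Lib.DieudonneFiber58.mem_smul_of_smul_mem
      (S := WittVector p k) Function.surjective_id ⊥ ⊥ (p : WittVector p k)
      (fun w h => Groth.Agent.Lib.DieudonneFiber58.H_full ⊥
        Groth.Agent.Lib.DieudonneFiber58.of_p_mul_mem_bot w h) u h1
    rw [sup_bot_eq, Submodule.bot_smul] at h2
    exact (Submodule.mem_bot _).mp h2
  have hVinj : Function.Injective V := by
    rw [injective_iff_map_eq_zero]
    intro m hm
    apply htors
    rw [← hFV, hm, map_zero]
  -- the submodule `Q = V M`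
  let Q : Submodule (WittVector p k) M :=
    { carrier := Set.range V
      add_mem' := by
        rintro _ _ ⟨a, rfl⟩ ⟨b, rfl⟩
        exact ⟨a + b, map_add V a b⟩
      zero_mem' := ⟨0, map_zero V⟩
      smul_mem' := by
        rintro w _ ⟨a, rfl⟩
        exact ⟨WittVector.frobenius w • a, by rw [V.map_smulₛₗ, hτσ]⟩ }
  have hQmem : ∀ x, x ∈ Q ↔ x ∈ Set.range V := fun x => Iff.rfl
  have hpQ : ∀ m : M, (p : WittVector p k) • m ∈ Q := fun m => ⟨F m, hVF m⟩
  have hIVQ : W4c1extbt610.IV p k • (⊤ : Submodule (WittVector p k) M) ≤ Q := by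
    rw [hIV, Submodule.smul_le]
    intro r hr n _
    obtain ⟨a, rfl⟩ := Ideal.mem_span_singleton'.mp hr
    rw [mul_smul]
    exact Q.smul_mem a (hpQ n)
  -- `V⁻¹`
  let vinv : Q → M := fun x => Classical.choose x.2
  have hvinv : ∀ x : Q, V (vinv x) = x := fun x => Classical.choose_spec x.2
  let Vinv : Q →ₛₗ[(WittVector.frobenius : WittVector p k →+* WittVector p k)] M :=
    { toFun := vinv
      map_add' := by
        intro x y
        apply hVinj
        rw [map_add, hvinv, hvinv, hvinv]; rfl
      map_smul' := by
        intro w x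
        apply hVinj
        rw [V.map_smulₛₗ, hτσ, hvinv, hvinv]; rfl }
  have hVinvV : ∀ (m : M) (h : V m ∈ Q), Vinv ⟨V m, h⟩ = m := by
    intro m h
    apply hVinj
    exact hvinv ⟨V m, h⟩
  -- the complement modulo `p`
  set P : Ideal (WittVector p k) := Ideal.span {(p : WittVector p k)} with hP
  set I : Submodule (WittVector p k ⧸ P) (M ⧸ (P • ⊤ : Submodule (WittVector p k) M)) :=
    Submodule.span (WittVector p k ⧸ P)
      (Set.range fun m : M => (P • (⊤ : Submodule (WittVector p k) M)).mkQ (V m)) with hI
  have hprojC : Module.Projective (WittVector p k ⧸ P)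
      ((M ⧸ (P • ⊤ : Submodule (WittVector p k) M)) ⧸ I) := by
    have hker : RingHom.ker (algebraMap (WittVector p k) (WittVector p k)) ≤ P := by
      intro x hx
      rw [RingHom.mem_ker, Algebra.algebraMap_self, RingHom.id_apply] at hx
      rw [hx]; exact Ideal.zero_mem _
    exact Groth.Agent.Lib.DieudonneFiber58.projective_quotient_range_V (S := WittVector p k)
      Function.surjective_id hker ⊥ bot_le
      (fun 𝔞 h𝔞 w h => Groth.Agent.Lib.DieudonneFiber58.H_full 𝔞 h𝔞 w h) F V hFV hVF
  have hIrange : ∀ x ∈ I, ∃ y : M,
      (Submodule.Quotient.mk (V y) : M ⧸ (P • ⊤ : Submodule (WittVector p k) M)) = x := by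
    intro x hx
    induction hx using Submodule.span_induction with
    | mem x hx => obtain ⟨m, rfl⟩ := hx; exact ⟨m, rfl⟩
    | zero => exact ⟨0, by rw [map_zero]; rfl⟩
    | add x y _ _ hx hy =>
      obtain ⟨y₁, rfl⟩ := hx
      obtain ⟨y₂, rfl⟩ := hy
      exact ⟨y₁ + y₂, by rw [map_add]; rfl⟩
    | smul a x _ hx =>
      obtain ⟨y, rfl⟩ := hx
      obtain ⟨w, rfl⟩ := Ideal.Quotient.mk_surjective a
      refine ⟨WittVector.frobenius w • y, ?_⟩
      rw [V.map_smulₛₗ, hτσ]
      rfl
  obtain ⟨s, hs⟩ := Module.projective_lifting_property I.mkQ LinearMap.id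
    (Submodule.mkQ_surjective I)
  have hs' : ∀ c, I.mkQ (s c) = c := fun c => LinearMap.congr_fun hs c
  let C : Submodule (WittVector p k) M :=
    Submodule.comap (P • (⊤ : Submodule (WittVector p k) M)).mkQ
      ((LinearMap.range s).restrictScalars (WittVector p k))
  have hCmem : ∀ m, m ∈ C ↔
      (Submodule.Quotient.mk m : M ⧸ (P • ⊤ : Submodule (WittVector p k) M)) ∈
        LinearMap.range s := fun m => Iff.rfl
  have hsup : Q ⊔ C = ⊤ := by
    rw [eq_top_iff]
    intro m _
    set n : M ⧸ (P • ⊤ : Submodule (WittVector p k) M) := Submodule.Quotient.mk m with hn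
    have h1 : n - s (I.mkQ n) ∈ I := by
      have h0 : I.mkQ (n - s (I.mkQ n)) = 0 := by rw [map_sub, hs', sub_self]
      exact (Submodule.Quotient.mk_eq_zero I).mp h0
    obtain ⟨y, hy⟩ := hIrange _ h1
    have h2 : m - V y ∈ C := by
      rw [hCmem, Submodule.Quotient.mk_sub, hy, ← hn]
      exact ⟨I.mkQ n, by abel⟩
    have : m = V y + (m - V y) := by abel
    rw [this]
    exact Submodule.add_mem_sup ⟨y, rfl⟩ h2
  have hinf : Q ⊓ C = W4c1extbt610.IV p k • (⊤ : Submodule (WittVector p k) M) := by
    rw [hIV]
    apply le_antisymm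
    · rintro x ⟨⟨y, rfl⟩, hxC⟩
      rw [SetLike.mem_coe, hCmem] at hxC
      obtain ⟨c, hc⟩ := hxC
      have h1 : (Submodule.Quotient.mk (V y) : M ⧸ (P • ⊤ : Submodule (WittVector p k) M)) ∈ I :=
        Submodule.subset_span ⟨y, rfl⟩
      have h2 : c = 0 := by
        rw [← hs' c, hc, Submodule.mkQ_apply, Submodule.Quotient.mk_eq_zero]
        exact h1
      rw [h2, map_zero] at hc
      exact (Submodule.Quotient.mk_eq_zero _).mp hc.symm
    · refine le_inf (hIV ▸ hIVQ) ?_
      intro x hx
      rw [hCmem, (Submodule.Quotient.mk_eq_zero _).mpr hx]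
      exact Submodule.zero_mem _
  have hcompl : IsAdicComplete (W4c1extbt610.IV p k) (WittVector p k) := by
    rw [hIV]; infer_instance
  obtain ⟨L, T, hLT, hQLT⟩ := Groth.Agent.Lib.NormalDecomp58.exists_normal_of_complement
    (W4c1extbt610.IV p k) Q C hsup hinf
  refine ⟨{ Q := Q
            F := F
            Vinv := Vinv
            finite := inferInstance
            projective := inferInstance
            IV_smul_le := hIVQ
            exists_normal := ⟨L, T, hLT, hQLT⟩
            span_range_Vinv := ?_
            Vinv_verschiebung_smul := ?_ }, rfl, hQmem, hVinvV⟩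
  · rw [eq_top_iff]
    intro m _
    exact Submodule.subset_span ⟨⟨V m, ⟨m, rfl⟩⟩, hVinvV m ⟨m, rfl⟩⟩
  · intro w x
    have h1 : WittVector.verschiebung w • x = V (w • F x) := by
      rw [V.map_smulₛₗ, hVF, hver, mul_smul]
    apply hVinj
    rw [← h1]
    exact hvinv _

end Groth.Agent.S14863
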