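import Groth.Statements.S14864
import Mathlib.RingTheory.WittVector.Domain
import Mathlib.RingTheory.WittVector.Truncated

set_option autoImplicit false
universe u
open CAlg

namespace Groth.Agent.S14864

/-- Let p be a prime and R a commutative ring in which p is nilpotent; write W = W(R) for the p-typical
Witt vectors, I ⊆ W for the kernel of the projection onto the zeroth component, and I_n ⊆ W for the
kernel of the truncation W → W_n(R). The p-adic topology on W equals its I-adic topology — every
power of the ideal pW contains some power of I and every power of I contains some power of pW — and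
this common topology is finer than the V-adic one: every I_n contains some power of pW. -/
theorem result (p : ℕ) [Fact p.Prime] (R : Type u) [CommRing R]
    (hp : IsNilpotent (p : R)) :
    (∀ n : ℕ, ∃ m : ℕ, (RingHom.ker (WittVector.constantCoeff : WittVector p R →+* R)) ^ m ≤ Ideal.span {(p : WittVector p R)} ^ n) ∧
      (∀ n : ℕ, ∃ m : ℕ, Ideal.span {(p : WittVector p R)} ^ m ≤ (RingHom.ker (WittVector.constantCoeff : WittVector p R →+* R)) ^ n) ∧
        ∀ n : ℕ, ∃ m : ℕ, Ideal.span {(p : WittVector p R)} ^ m ≤ RingHom.ker (WittVector.truncate (p := p) (R := R) n) := by
  obtain ⟨N, hN⟩ := hp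
  have hcc : ∀ x : WittVector p R, WittVector.constantCoeff x = x.coeff 0 := fun x => rfl
  -- `V` commutes with multiplication by natural numbers
  have hVnat : ∀ (c : ℕ) (w : WittVector p R),
      WittVector.verschiebung ((c : WittVector p R) * w) =
        (c : WittVector p R) * WittVector.verschiebung w := by
    intro c w
    rw [← nsmul_eq_mul, ← nsmul_eq_mul, map_nsmul]
  have hVnat_iter : ∀ (j c : ℕ) (w : WittVector p R),
      (WittVector.verschiebung)^[j] ((c : WittVector p R) * w) =
        (c : WittVector p R) * (WittVector.verschiebung)^[j] w := by
    intro j
    induction j with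
    | zero => intro c w; rfl
    | succ j ih =>
      intro c w
      rw [Function.iterate_succ_apply', Function.iterate_succ_apply', ih, hVnat]
  -- elements of `I` are in the image of `V`
  have hmem : ∀ a ∈ RingHom.ker (WittVector.constantCoeff : WittVector p R →+* R),
      ∃ x : WittVector p R, a = WittVector.verschiebung x := by
    intro a ha
    rw [RingHom.mem_ker, hcc] at ha
    refine ⟨a.shift 1, ?_⟩
    have := WittVector.eq_iterate_verschiebung (p := p) (x := a) (n := 1)
      (fun i hi => by obtain rfl : i = 0 := by omega
                      exact ha)
    simpa using this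
  have hVmem : ∀ w : WittVector p R, WittVector.verschiebung w ∈
      RingHom.ker (WittVector.constantCoeff : WittVector p R →+* R) := by
    intro w
    rw [RingHom.mem_ker, hcc, WittVector.verschiebung_coeff_zero]
  have hpN : (WittVector.constantCoeff : WittVector p R →+* R) ((p : WittVector p R) ^ N) = 0 := by
    rw [map_pow, map_natCast, hN]
  refine ⟨?_, ?_, ?_⟩
  · -- I^(n+1) ≤ (p)^n
    have hII : RingHom.ker (WittVector.constantCoeff : WittVector p R →+* R) *
        RingHom.ker (WittVector.constantCoeff : WittVector p R →+* R) ≤
        Ideal.span {(p : WittVector p R)} *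
          RingHom.ker (WittVector.constantCoeff : WittVector p R →+* R) := by
      rw [Ideal.mul_le]
      intro a ha b hb
      obtain ⟨x, rfl⟩ := hmem a ha
      obtain ⟨y, rfl⟩ := hmem b hb
      have : WittVector.verschiebung x * WittVector.verschiebung y =
          (p : WittVector p R) * WittVector.verschiebung (x * y) := by
        rw [← WittVector.verschiebung_mul_frobenius, WittVector.frobenius_verschiebung,
          ← mul_assoc, mul_comm (x * y) (p : WittVector p R), hVnat]
      rw [this]
      exact Ideal.mul_mem_mul (Ideal.mem_span_singleton_self _) (hVmem _)
    have hpow : ∀ k : ℕ, RingHom.ker (WittVector.constantCoeff : WittVector p R →+* R) ^ (k + 1) ≤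
        Ideal.span {(p : WittVector p R)} ^ k *
          RingHom.ker (WittVector.constantCoeff : WittVector p R →+* R) := by
      intro k
      induction k with
      | zero => simp
      | succ k ih =>
        calc RingHom.ker (WittVector.constantCoeff : WittVector p R →+* R) ^ (k + 1 + 1)
            = RingHom.ker (WittVector.constantCoeff : WittVector p R →+* R) ^ (k + 1) *
              RingHom.ker (WittVector.constantCoeff : WittVector p R →+* R) := pow_succ _ _
          _ ≤ (Ideal.span {(p : WittVector p R)} ^ k *
                RingHom.ker (WittVector.constantCoeff : WittVector p R →+* R)) *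
              RingHom.ker (WittVector.constantCoeff : WittVector p R →+* R) :=
              Ideal.mul_mono_left ih
          _ = Ideal.span {(p : WittVector p R)} ^ k *
                (RingHom.ker (WittVector.constantCoeff : WittVector p R →+* R) *
              RingHom.ker (WittVector.constantCoeff : WittVector p R →+* R)) := mul_assoc _ _ _
          _ ≤ Ideal.span {(p : WittVector p R)} ^ k * (Ideal.span {(p : WittVector p R)} *
                RingHom.ker (WittVector.constantCoeff : WittVector p R →+* R)) :=
              Ideal.mul_mono_right hII
          _ = Ideal.span {(p : WittVector p R)} ^ (k + 1) *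
                RingHom.ker (WittVector.constantCoeff : WittVector p R →+* R) := by
              rw [← mul_assoc, ← pow_succ]
    intro n
    exact ⟨n + 1, (hpow n).trans Ideal.mul_le_left⟩
  · intro n
    refine ⟨N * n, ?_⟩
    rw [pow_mul]
    apply Ideal.pow_right_mono
    rw [Ideal.span_singleton_pow, Ideal.span_singleton_le_iff_mem, RingHom.mem_ker]
    exact hpN
  · intro n
    refine ⟨N * n, ?_⟩
    have hq : (WittVector.constantCoeff : WittVector p R →+* R) ((p ^ N : ℕ) : WittVector p R) = 0 := by
      rw [map_natCast, Nat.cast_pow, hN]
    have hB : ∀ (q : ℕ), (WittVector.constantCoeff : WittVector p R →+* R) (q : WittVector p R) = 0 →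
        ∀ (j : ℕ) (x : WittVector p R), ∀ i < j,
        ((q : WittVector p R) ^ j * x).coeff i = 0 := by
      intro q hq j
      induction j with
      | zero => intro x i hi; omega
      | succ j ih =>
        intro x i hi
        have hy := ih x
        have hy' := WittVector.eq_iterate_verschiebung (p := p) hy
        rw [pow_succ', mul_assoc, hy', ← hVnat_iter]
        rcases Nat.lt_succ_iff_lt_or_eq.mp hi with h | rfl
        · exact WittVector.iterate_verschiebung_coeff_eq_zero _ h
        · have := WittVector.iterate_verschiebung_coeff (p := p)
            ((q : WittVector p R) * ((q : WittVector p R) ^ i * x).shift i) i 0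
          rw [zero_add] at this
          rw [this, ← hcc, map_mul, hq, zero_mul]
    rw [Ideal.span_singleton_pow, Ideal.span_singleton_le_iff_mem, WittVector.mem_ker_truncate]
    intro i hi
    have := hB (p ^ N) hq n 1 i hi
    rwa [mul_one, Nat.cast_pow, ← pow_mul] at this

end Groth.Agent.S14864
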