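import Groth.Statements.S14867
import Groth.Agent.Lib.WittLift58b

set_option autoImplicit false
universe u
open CAlg

namespace Groth.Agent.S14867

/-- Let p be a prime and S → R a surjective homomorphism of commutative rings such that every element of
its kernel 𝔞 is nilpotent and p is nilpotent in S; write J = W(𝔞) for the kernel of the induced
surjection W(S) → W(R) of rings of p-typical Witt vectors. Then finitely generated projective
modules lift along W(S) → W(R), uniquely up to isomorphism: for every finitely generated projective
W(R)-module P there is a finitely generated projective W(S)-module P̃ together with a surjection P̃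
→ P, semilinear over W(S) → W(R), whose kernel is J·P̃ (that is, an isomorphism W(R) ⊗_{W(S)} P̃ ≅
P); and for any two such pairs (P̃_1, π_1), (P̃_2, π_2) there is a W(S)-linear isomorphism P̃_1 ≅
P̃_2 compatible with π_1 and π_2. -/
theorem result (p : ℕ) [Fact p.Prime] (S R : Type u)
    [CommRing S] [CommRing R] (φ : S →+* R) (hφ : Function.Surjective φ)
    (hnil : ∀ a : S, φ a = 0 → IsNilpotent a) (hp : IsNilpotent (p : S))
    (P : Type u) [AddCommGroup P] [Module (WittVector p R) P]
    [Module.Finite (WittVector p R) P] [Module.Projective (WittVector p R) P] :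
    (∃ (P' : Type u) (_ : AddCommGroup P') (_ : Module (WittVector p S) P'),
        Module.Finite (WittVector p S) P' ∧ Module.Projective (WittVector p S) P' ∧
          ∃ π : P' →ₛₗ[WittVector.map (p := p) φ] P, Function.Surjective π ∧
            LinearMap.ker π = RingHom.ker (WittVector.map (p := p) φ) • (⊤ : Submodule (WittVector p S) P')) ∧
      ∀ (P₁ : Type u) [AddCommGroup P₁] [Module (WittVector p S) P₁]
        [Module.Finite (WittVector p S) P₁] [Module.Projective (WittVector p S) P₁]
        (P₂ : Type u) [AddCommGroup P₂] [Module (WittVector p S) P₂]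
        [Module.Finite (WittVector p S) P₂] [Module.Projective (WittVector p S) P₂]
        (π₁ : P₁ →ₛₗ[WittVector.map (p := p) φ] P) (π₂ : P₂ →ₛₗ[WittVector.map (p := p) φ] P),
        Function.Surjective π₁ →
          LinearMap.ker π₁ = RingHom.ker (WittVector.map (p := p) φ) • (⊤ : Submodule (WittVector p S) P₁) →
        Function.Surjective π₂ →
          LinearMap.ker π₂ = RingHom.ker (WittVector.map (p := p) φ) • (⊤ : Submodule (WittVector p S) P₂) →
        ∃ e : P₁ ≃ₗ[WittVector p S] P₂, ∀ x : P₁, π₂ (e x) = π₁ x := by
  have hjac := Groth.Agent.Lib.WittLift58.ker_map_le_jacobson (p := p) φ hnil hp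
  refine ⟨?_, ?_⟩
  · obtain ⟨k, g, hg⟩ := Module.Finite.exists_fin' (WittVector p R) P
    obtain ⟨i, hi⟩ := Module.projective_lifting_property g LinearMap.id hg
    have hgi : ∀ y, g (i y) = y := fun y => LinearMap.congr_fun hi y
    obtain ⟨e, he1, he2⟩ := Groth.Agent.Lib.WittLift58.exists_idempotent_lift_witt (p := p) φ hφ
      hnil k (i ∘ₗ g) (fun y => by
        show i (g (i (g y))) = i (g y)
        rw [hgi])
    exact Groth.Agent.Lib.WittLift58.exists_lift_of_idempotent (WittVector.map (p := p) φ)
      (WittVector.map_surjective φ hφ) k g i hgi e he1 he2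
  · intro P₁ _ _ _ _ P₂ _ _ _ _ π₁ π₂ h₁ hk₁ h₂ hk₂
    exact Groth.Agent.Lib.WittLift58.exists_equiv_of_le_jacobson (WittVector.map (p := p) φ)
      hjac π₁ π₂ h₁ hk₁ h₂ hk₂

end Groth.Agent.S14867
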