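import Groth.Statements.S14869
-- import your own Groth.Agent.* helpers here

set_option autoImplicit false
universe u v w
open CAlg

namespace Groth.Agent.S14869

open TensorProduct in
/-- Let S → R be a surjective homomorphism of commutative rings, let π : P_1 → P_2 be a surjective
homomorphism of S-modules with P_2 projective, and let π̄ : R ⊗_S P_1 → R ⊗_S P_2 be its base
change. Then every R-linear section σ̄ of π̄ lifts to a section of π: there is an S-linear map σ :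
P_2 → P_1 with π ∘ σ = id whose base change R ⊗_S σ is σ̄. -/
theorem result (S R : Type u) [CommRing S] [CommRing R] [Algebra S R]
    (hSR : Function.Surjective (algebraMap S R))
    (P₁ : Type v) [AddCommGroup P₁] [Module S P₁]
    (P₂ : Type w) [AddCommGroup P₂] [Module S P₂] [Module.Projective S P₂]
    (π : P₁ →ₗ[S] P₂) (hπ : Function.Surjective π)
    (σ' : R ⊗[S] P₂ →ₗ[R] R ⊗[S] P₁) (hσ' : (π.baseChange R).comp σ' = LinearMap.id) :
    ∃ σ : P₂ →ₗ[S] P₁, π.comp σ = LinearMap.id ∧ σ.baseChange R = σ' := by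
  classical
  obtain ⟨σ₀, hσ₀⟩ := Module.projective_lifting_property π LinearMap.id hπ
  have hπσ₀ : ∀ y, π (σ₀ y) = y := fun y => LinearMap.congr_fun hσ₀ y
  let ι : P₁ →ₗ[S] R ⊗[S] P₁ := TensorProduct.mk S R P₁ 1
  have hι : Function.Surjective ι := by
    intro z
    induction z using TensorProduct.induction_on with
    | zero => exact ⟨0, map_zero _⟩
    | tmul r x =>
      obtain ⟨s, rfl⟩ := hSR r
      refine ⟨s • x, ?_⟩
      simp only [ι, TensorProduct.mk_apply]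
      rw [TensorProduct.tmul_smul, TensorProduct.smul_tmul', Algebra.smul_def, mul_one]
    | add a b ha hb =>
      obtain ⟨a', rfl⟩ := ha
      obtain ⟨b', rfl⟩ := hb
      exact ⟨a' + b', map_add _ _ _⟩
  let δ : R ⊗[S] P₂ →ₗ[R] R ⊗[S] P₁ := σ' - σ₀.baseChange R
  let g : P₂ →ₗ[S] R ⊗[S] P₁ := (δ.restrictScalars S).comp (TensorProduct.mk S R P₂ 1)
  obtain ⟨τ₀, hτ₀⟩ := Module.projective_lifting_property ι g hι
  let q : P₁ →ₗ[S] P₁ := LinearMap.id - σ₀.comp π
  refine ⟨σ₀ + q.comp τ₀, ?_, ?_⟩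
  · ext y
    simp only [LinearMap.comp_apply, LinearMap.add_apply, q, LinearMap.sub_apply,
      LinearMap.id_apply, map_add, map_sub, hπσ₀, sub_self, add_zero]
  · apply TensorProduct.AlgebraTensorModule.ext
    intro r y
    have e1 : (1 : R) ⊗ₜ[S] τ₀ y = σ' (1 ⊗ₜ y) - (1 : R) ⊗ₜ[S] σ₀ y := by
      have := LinearMap.congr_fun hτ₀ y
      simpa [ι, g, δ] using this
    have e2 : (1 : R) ⊗ₜ[S] π (τ₀ y) = 0 := by
      have h2 : (π.baseChange R) ((1 : R) ⊗ₜ[S] τ₀ y) = (1 : R) ⊗ₜ[S] π (τ₀ y) :=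
        LinearMap.baseChange_tmul _ _ _
      rw [← h2, e1, map_sub, LinearMap.baseChange_tmul]
      have h3 : (π.baseChange R) (σ' (1 ⊗ₜ y)) = 1 ⊗ₜ y := LinearMap.congr_fun hσ' _
      rw [h3, hπσ₀, sub_self]
    have e3 : (1 : R) ⊗ₜ[S] σ₀ (π (τ₀ y)) = 0 := by
      have h4 : (σ₀.baseChange R) ((1 : R) ⊗ₜ[S] π (τ₀ y)) = (1 : R) ⊗ₜ[S] σ₀ (π (τ₀ y)) :=
        LinearMap.baseChange_tmul _ _ _
      rw [← h4, e2, map_zero]
    have hr₁ : ∀ (z : P₁), r ⊗ₜ[S] z = r • ((1 : R) ⊗ₜ[S] z) := by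
      intro z
      rw [TensorProduct.smul_tmul', smul_eq_mul, mul_one]
    have hr₂ : ∀ (z : P₂), r ⊗ₜ[S] z = r • ((1 : R) ⊗ₜ[S] z) := by
      intro z
      rw [TensorProduct.smul_tmul', smul_eq_mul, mul_one]
    have e5 : σ' (1 ⊗ₜ y) = (1 : R) ⊗ₜ[S] τ₀ y + (1 : R) ⊗ₜ[S] σ₀ y := by rw [e1]; abel
    rw [LinearMap.baseChange_tmul, hr₂ y, map_smul, e5, hr₁]
    congr 1
    simp only [LinearMap.add_apply, LinearMap.comp_apply, q, LinearMap.sub_apply,
      LinearMap.id_apply]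
    rw [TensorProduct.tmul_add, TensorProduct.tmul_sub, e3, sub_zero, add_comm]

end Groth.Agent.S14869
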