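import Groth.Statements.S14871
import Mathlib.Algebra.Lie.Solvable

set_option autoImplicit false
universe u v
open PLie

namespace Groth.Agent.S14871

/-- Let `L` be a finite-dimensional Lie algebra over a field of characteristic `p` equipped with a
`p`-mapping `φ`. Then the solvable radical of `L` is stable under `φ` (it is a `p`-subalgebra). -/
theorem result
    (k : Type u) [Field k] (p : ℕ) [Fact p.Prime] [CharP k p]
    (L : Type v) [LieRing L] [LieAlgebra k L] [Module.Finite k L]
    (φ : PLie.PMap k p L) (x : L) (hx : x ∈ LieAlgebra.radical k L) :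
    φ x ∈ LieAlgebra.radical k L := by
  set Rad := LieAlgebra.radical k L with hRad
  have hnoeth : IsNoetherian k L := inferInstance
  -- the ideal of elements that are central modulo the radical
  let I' : LieIdeal k L :=
    { carrier := {z | ∀ y : L, ⁅y, z⁆ ∈ Rad}
      add_mem' := by
        intro a b ha hb y
        rw [lie_add]
        exact add_mem (ha y) (hb y)
      zero_mem' := by
        intro y
        rw [lie_zero]
        exact zero_mem _
      smul_mem' := by
        intro c a ha y
        rw [lie_smul]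
        exact Rad.smul_mem c (ha y)
      lie_mem := by
        intro w z hz y
        exact Rad.lie_mem (hz w) }
  have hmemI' : ∀ z : L, z ∈ I' ↔ ∀ y : L, ⁅y, z⁆ ∈ Rad := fun z => Iff.rfl
  -- φ x lies in I'
  have hφ : φ x ∈ I' := by
    rw [hmemI']
    intro y
    have h1 : ⁅φ x, y⁆ = (LieAlgebra.ad k L x ^ p) y := by
      rw [← φ.ad_map, LieAlgebra.ad_apply]
    have h3 : ⁅x, y⁆ ∈ Rad := by
      rw [← lie_skew]
      exact neg_mem (Rad.lie_mem hx)
    have h4 : ∀ m : ℕ, (LieAlgebra.ad k L x ^ m) ⁅x, y⁆ ∈ Rad := by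
      intro m
      induction m with
      | zero => simpa using h3
      | succ m ih =>
        rw [pow_succ', Module.End.mul_apply, LieAlgebra.ad_apply]
        exact Rad.lie_mem ih
    have h2 : ∀ n : ℕ, 0 < n → (LieAlgebra.ad k L x ^ n) y ∈ Rad := by
      intro n hn
      obtain ⟨m, rfl⟩ := Nat.exists_eq_succ_of_ne_zero hn.ne'
      rw [pow_succ, Module.End.mul_apply, LieAlgebra.ad_apply]
      exact h4 m
    rw [← lie_skew, h1]
    exact neg_mem (h2 p (Fact.out : p.Prime).pos)
  -- I' is solvable
  have hD1 : LieAlgebra.derivedSeriesOfIdeal k L 1 I' ≤ Rad := by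
    rw [LieAlgebra.derivedSeriesOfIdeal_succ, LieAlgebra.derivedSeriesOfIdeal_zero,
      LieSubmodule.lie_le_iff]
    intro a _ b hb
    exact hb a
  have hsolv : LieAlgebra.IsSolvable I' := by
    obtain ⟨n, hn⟩ := LieAlgebra.IsSolvable.solvable k Rad
    rw [LieIdeal.derivedSeries_eq_bot_iff] at hn
    apply LieAlgebra.IsSolvable.mk (R := k) (L := I') (k := n + 1)
    rw [LieIdeal.derivedSeries_eq_bot_iff, LieAlgebra.derivedSeriesOfIdeal_add, eq_bot_iff, ← hn]
    exact LieAlgebra.derivedSeriesOfIdeal_mono hD1 n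
  exact (le_sSup hsolv : I' ≤ Rad) hφ

end Groth.Agent.S14871
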