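import Groth.Statements.S14872
import Mathlib.Algebra.Lie.Engel

set_option autoImplicit false
universe u v
open PLie

namespace Groth.Agent.S14872

/-- Let `L` be a finite-dimensional Lie algebra over a field of characteristic `p` equipped with a
`p`-mapping `φ`, and let `N` be its nilradical, i.e. the ideal of `L` that is nilpotent as a Lie
ring and contains every ideal of `L` nilpotent as a Lie ring. Then `N` is stable under `φ` (it is a
`p`-subalgebra). (The nilradical is given here through its characterising property; it is not the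
largest submodule on which `L` acts nilpotently.) -/
theorem result
    (k : Type u) [Field k] (p : ℕ) [Fact p.Prime] [CharP k p]
    (L : Type v) [LieRing L] [LieAlgebra k L] [Module.Finite k L]
    (φ : PLie.PMap k p L) (N : LieIdeal k L) (hN : LieRing.IsNilpotent N)
    (hmax : ∀ I : LieIdeal k L, LieRing.IsNilpotent I → I ≤ N)
    (x : L) (hx : x ∈ N) : φ x ∈ N := by
  classical
  have : LieRing.IsNilpotent ↥N := hN
  obtain ⟨c, hc⟩ := LieModule.IsNilpotent.nilpotent k ↥N ↥N
  have had : ∀ y, ⁅φ x, y⁆ = (LieAlgebra.ad k L x ^ p) y := fun y => by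
    rw [← φ.ad_map, LieAlgebra.ad_apply]
  -- filtration predicate
  let P : ℕ → L → Prop := fun j m =>
    ∃ h : m ∈ N, (⟨m, h⟩ : ↥N) ∈ LieModule.lowerCentralSeries k ↥N ↥N j
  have P0 : ∀ m, m ∈ N → P 0 m := by
    intro m hm
    exact ⟨hm, by simp⟩
  have PN : ∀ j m, P j m → m ∈ N := fun j m h => h.1
  have Pc : ∀ m, P c m → m = 0 := by
    rintro m ⟨h, hm⟩
    rw [hc, LieSubmodule.mem_bot] at hm
    exact congrArg Subtype.val hm
  have Padd : ∀ j a b, P j a → P j b → P j (a + b) := by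
    rintro j a b ⟨ha, ha'⟩ ⟨hb, hb'⟩
    exact ⟨add_mem ha hb, add_mem ha' hb'⟩
  have Psmul : ∀ j (t : k) a, P j a → P j (t • a) := by
    rintro j t a ⟨ha, ha'⟩
    exact ⟨N.smul_mem t ha, (LieModule.lowerCentralSeries k ↥N ↥N j).smul_mem t ha'⟩
  have Psucc : ∀ j y m, y ∈ N → P j m → P (j + 1) ⁅y, m⁆ := by
    rintro j y m hy ⟨hm, hm'⟩
    refine ⟨N.lie_mem hm, ?_⟩
    rw [LieModule.lowerCentralSeries_succ]
    exact LieSubmodule.lie_mem_lie (LieSubmodule.mem_top (⟨y, hy⟩ : ↥N)) hm'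
  have Panti : ∀ j i m, j ≤ i → P i m → P j m := by
    rintro j i m hji ⟨h, hm⟩
    exact ⟨h, LieModule.antitone_lowerCentralSeries k ↥N ↥N hji hm⟩
  have Ppow : ∀ q j m, P j m → P (j + q) ((LieAlgebra.ad k L x ^ q) m) := by
    intro q
    induction q with
    | zero => intro j m h; simpa using h
    | succ q ih =>
      intro j m h
      rw [pow_succ', Module.End.mul_apply, LieAlgebra.ad_apply, ← add_assoc]
      exact Psucc _ _ _ hx (ih j m h)
  have hLN : ∀ w : L, (LieAlgebra.ad k L x ^ p) w ∈ N := by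
    intro w
    obtain ⟨q, hq⟩ : ∃ q, p = q + 1 := Nat.exists_eq_succ_of_ne_zero (Fact.out : p.Prime).ne_zero
    rw [hq, pow_succ, Module.End.mul_apply, LieAlgebra.ad_apply]
    have h1 : ⁅x, w⁆ ∈ N := by
      rw [← lie_skew]
      exact neg_mem (N.lie_mem hx)
    exact PN _ _ (Ppow q 0 _ (P0 _ h1))
  let I : LieIdeal k L :=
    { carrier := {m | ∃ n ∈ N, ∃ t : k, m = n + t • φ x}
      add_mem' := by
        rintro a b ⟨n₁, hn₁, t₁, rfl⟩ ⟨n₂, hn₂, t₂, rfl⟩
        exact ⟨n₁ + n₂, add_mem hn₁ hn₂, t₁ + t₂, by rw [add_smul]; abel⟩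
      zero_mem' := ⟨0, zero_mem _, 0, by simp⟩
      smul_mem' := by
        rintro s a ⟨n, hn, t, rfl⟩
        exact ⟨s • n, N.smul_mem s hn, s * t, by rw [smul_add, smul_smul]⟩
      lie_mem := by
        rintro y m ⟨n, hn, t, rfl⟩
        refine ⟨⁅y, n + t • φ x⁆, ?_, 0, by simp⟩
        rw [lie_add, lie_smul]
        refine add_mem (N.lie_mem hn) (N.smul_mem t ?_)
        rw [← lie_skew, had]
        exact neg_mem (hLN y) }
  have hmemI : ∀ m, m ∈ I ↔ ∃ n ∈ N, ∃ t : k, m = n + t • φ x := fun m => Iff.rfl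
  have hzN : ∀ z ∈ I, ∀ w : L, ⁅z, w⁆ ∈ N := by
    intro z hz w
    obtain ⟨n, hn, t, rfl⟩ := (hmemI z).mp hz
    rw [add_lie, smul_lie, had]
    refine add_mem ?_ (N.smul_mem t (hLN w))
    rw [← lie_skew]
    exact neg_mem (N.lie_mem hn)
  have hzP : ∀ z ∈ I, ∀ j m, P j m → P (j + 1) ⁅z, m⁆ := by
    intro z hz j m hm
    obtain ⟨n, hn, t, rfl⟩ := (hmemI z).mp hz
    rw [add_lie, smul_lie, had]
    refine Padd _ _ _ (Psucc j n m hn hm) (Psmul _ t _ ?_)
    have hp1 : 1 ≤ p := (Fact.out : p.Prime).one_le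
    exact Panti (j + 1) (j + p) _ (by omega) (Ppow p j m hm)
  have hzpow : ∀ z ∈ I, ∀ j (w : L), P j ((LieAlgebra.ad k L z ^ (j + 1)) w) := by
    intro z hz j
    induction j with
    | zero =>
      intro w
      have := P0 _ (hzN z hz w)
      simpa using this
    | succ j ih =>
      intro w
      rw [pow_succ', Module.End.mul_apply, LieAlgebra.ad_apply]
      exact hzP z hz j _ (ih w)
  have hznil : ∀ z ∈ I, LieAlgebra.ad k L z ^ (c + 1) = 0 := by
    intro z hz
    ext w
    exact Pc _ (hzpow z hz c w)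
  have hnoeth : IsNoetherian k I := inferInstance
  have hInil : LieRing.IsNilpotent I := by
    rw [LieAlgebra.isNilpotent_iff_forall (R := k)]
    rintro ⟨z, hz⟩
    have hcoe : ∀ (m : ℕ) (y : I),
        (((LieAlgebra.ad k I ⟨z, hz⟩ ^ m) y : I) : L) = (LieAlgebra.ad k L z ^ m) (y : L) := by
      intro m
      induction m with
      | zero => intro y; simp
      | succ m ih =>
        intro y
        rw [pow_succ', pow_succ', Module.End.mul_apply, Module.End.mul_apply, LieAlgebra.ad_apply,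
          LieAlgebra.ad_apply, ← ih]
        rfl
    refine ⟨c + 1, ?_⟩
    ext y
    rw [hcoe, hznil z hz]
    simp
  have hIN : I ≤ N := hmax I hInil
  exact hIN ((hmemI _).mpr ⟨0, zero_mem _, 1, by simp⟩)

end Groth.Agent.S14872
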