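import Groth.Statements.S14874
import Groth.Agent.S14872
import Groth.Agent.S14873
import Mathlib.Algebra.Lie.Engel

set_option autoImplicit false
universe u v
open PLie

namespace Groth.Agent.S14874

/-- Let `L` be a finite-dimensional Lie algebra over a field of characteristic `p` equipped with a
`p`-mapping `φ`. Let `N` be the nilradical of `L` (the ideal nilpotent as a Lie ring that contains
every such ideal) and `P` its `p`-radical (the largest ideal stable under `φ` all of whose elements
are `p`-nilpotent). Then `N = P` if and only if the centre of `L` is contained in `P`. -/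
theorem result
    (k : Type u) [Field k] (p : ℕ) [Fact p.Prime] [CharP k p]
    (L : Type v) [LieRing L] [LieAlgebra k L] [Module.Finite k L]
    (φ : PLie.PMap k p L)
    (N : LieIdeal k L) (hN : LieRing.IsNilpotent N)
    (hNmax : ∀ I : LieIdeal k L, LieRing.IsNilpotent I → I ≤ N)
    (P : LieIdeal k L) (hPsub : ∀ x ∈ P, φ x ∈ P) (hPnil : ∀ x ∈ P, PLie.IsPNilpotent φ x)
    (hPmax : ∀ J : LieIdeal k L, (∀ x ∈ J, φ x ∈ J) → (∀ x ∈ J, PLie.IsPNilpotent φ x) → J ≤ P) :
    N = P ↔ LieAlgebra.center k L ≤ P := by
  constructor
  · intro h
    rw [← h]
    apply hNmax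
    infer_instance
  · intro hZ
    apply le_antisymm
    · apply hPmax N
      · intro x hx
        exact Groth.Agent.S14872.result k p L φ N hN hNmax x hx
      · intro x hx
        have hiter : ∀ (n : ℕ) (y : L),
            LieAlgebra.ad k L (φ.toFun^[n] y) = LieAlgebra.ad k L y ^ (p ^ n) := by
          intro n
          induction n with
          | zero => intro y; simp
          | succ n ih =>
            intro y
            rw [Function.iterate_succ_apply', φ.ad_map, ih, ← pow_mul, ← pow_succ]
        have : LieRing.IsNilpotent ↥N := hN
        obtain ⟨c, hc⟩ := LieAlgebra.nilpotent_ad_of_nilpotent_algebra (R := k) (L := ↥N)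
        have hcoe : ∀ (m : ℕ) (y : N),
            (((LieAlgebra.ad k N ⟨x, hx⟩ ^ m) y : N) : L) = (LieAlgebra.ad k L x ^ m) (y : L) := by
          intro m
          induction m with
          | zero => intro y; simp
          | succ m ih =>
            intro y
            rw [pow_succ', pow_succ', Module.End.mul_apply, Module.End.mul_apply,
              LieAlgebra.ad_apply, LieAlgebra.ad_apply, ← ih]
            rfl
        have hadx : LieAlgebra.ad k L x ^ (c + 1) = 0 := by
          ext w
          rw [pow_succ, Module.End.mul_apply, LieAlgebra.ad_apply]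
          have hw : ⁅x, w⁆ ∈ N := by
            rw [← lie_skew]
            exact neg_mem (N.lie_mem hx)
          have := hcoe c ⟨⁅x, w⁆, hw⟩
          rw [hc] at this
          simpa using this.symm
        have hle : c + 1 ≤ p ^ (c + 1) := (Nat.lt_pow_self (Fact.out : p.Prime).one_lt).le
        have had0 : LieAlgebra.ad k L (φ.toFun^[c + 1] x) = 0 := by
          rw [hiter]
          exact pow_eq_zero_of_le hle hadx
        have hcen : φ.toFun^[c + 1] x ∈ LieAlgebra.center k L := by
          rw [LieModule.mem_maxTrivSubmodule]
          intro y
          rw [← lie_skew, ← LieAlgebra.ad_apply (R := k), had0]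
          simp
        obtain ⟨m, hm⟩ := hPnil _ (hZ hcen)
        exact ⟨m + (c + 1), by rw [Function.iterate_add_apply]; exact hm⟩
    · apply hNmax
      exact Groth.Agent.S14873.result k p L φ P hPsub hPnil

end Groth.Agent.S14874
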