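import Groth.Statements.S14875
import Mathlib.Algebra.Lie.Engel
import Mathlib.Algebra.Lie.TraceForm
import Mathlib.LinearAlgebra.BilinearForm.Orthogonal

set_option autoImplicit false
universe u v
open PLie

namespace Groth.Agent.S14875

/-- Let `L` be a finite-dimensional Lie algebra over a field of characteristic `p` equipped with a
`p`-mapping `φ`, whose Killing form is non-degenerate. Let `U` and `H` be Lie subalgebras of `L`
such that `H` is the normaliser of `U`, `U` is the set of elements of `H` that lie in the solvable
radical of `H` and are `p`-nilpotent, and the orthogonal of `U` for the Killing form is closed under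
the bracket. Then `U` is the orthogonal of `H` for the Killing form. (The published statement is for
the Lie algebra of a reductive group over a field of characteristic `p` with its canonical
`p`-structure; this row states it for any finite-dimensional Lie algebra with a `p`-mapping.) -/
theorem result
    (k : Type u) [Field k] (p : ℕ) [Fact p.Prime] [CharP k p]
    (L : Type v) [LieRing L] [LieAlgebra k L] [Module.Finite k L]
    (φ : PLie.PMap k p L) (hκ : (killingForm k L).Nondegenerate)
    (U H : LieSubalgebra k L) (hH : H = U.normalizer)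
    (hU : ∀ x : L, x ∈ U ↔ ∃ hx : x ∈ H, (⟨x, hx⟩ : ↥H) ∈ LieAlgebra.radical k ↥H ∧ PLie.IsPNilpotent φ x)
    (hperp : ∀ a b : L, (∀ y ∈ U, killingForm k L a y = 0) → (∀ y ∈ U, killingForm k L b y = 0) →
      ∀ y ∈ U, killingForm k L ⁅a, b⁆ y = 0) :
    ∀ x : L, x ∈ U ↔ ∀ h ∈ H, killingForm k L h x = 0 := by
  classical
  have hsymm : ∀ a b, killingForm k L a b = killingForm k L b a :=
    fun a b => LieModule.traceForm_comm k L L a b
  have hinv : ∀ a b c, killingForm k L ⁅a, b⁆ c = killingForm k L a ⁅b, c⁆ :=
    fun a b c => LieModule.traceForm_apply_lie_apply k L L a b c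
  have hrefl : (killingForm k L).IsRefl := (LieModule.traceForm_isSymm k L L).isRefl
  have hiter : ∀ (n : ℕ) (y : L),
      LieAlgebra.ad k L (φ.toFun^[n] y) = LieAlgebra.ad k L y ^ (p ^ n) := by
    intro n
    induction n with
    | zero => intro y; simp
    | succ n ih =>
      intro y
      rw [Function.iterate_succ_apply', φ.ad_map, ih, ← pow_mul, ← pow_succ]
  have hUnil : ∀ u ∈ U, IsNilpotent (LieAlgebra.ad k L u) := by
    intro u hu
    obtain ⟨hx, -, n, hn⟩ := (hU u).mp hu
    refine ⟨p ^ n, ?_⟩
    rw [← hiter, hn, map_zero]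
  -- Step 1: `H ⊆ U^⊥`
  have hstep1 : ∀ h ∈ H, ∀ u ∈ U, killingForm k L h u = 0 := by
    intro h hh u hu
    have hnilp : LieModule.IsNilpotent ↥U L := by
      rw [LieModule.isNilpotent_iff_forall' (R := k)]
      rintro ⟨y, hy⟩
      have := hUnil y hy
      rwa [LieSubalgebra.toEnd_eq]
    obtain ⟨c, hc⟩ := LieModule.IsNilpotent.nilpotent k ↥U L
    have hHnorm : ∀ y ∈ U, ⁅h, y⁆ ∈ U := by
      have h1 : h ∈ U.normalizer := hH ▸ hh
      exact (LieSubalgebra.mem_normalizer_iff U h).mp h1
    have hb : ∀ j, ∀ m ∈ LieModule.lowerCentralSeries k ↥U L j,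
        ⁅h, m⁆ ∈ LieModule.lowerCentralSeries k ↥U L j := by
      intro j
      induction j with
      | zero => intro m _; simp
      | succ j ih =>
        intro m hm
        rw [LieModule.lowerCentralSeries_succ] at hm ⊢
        have e := LieSubmodule.lieIdeal_oper_eq_linear_span' (R := k) (L := ↥U) (M := L)
          (I := ⊤) (N := LieModule.lowerCentralSeries k ↥U L j)
        have hm' : m ∈ (⁅(⊤ : LieIdeal k ↥U), LieModule.lowerCentralSeries k ↥U L j⁆ :
            LieSubmodule k ↥U L).toSubmodule := hm
        rw [e] at hm'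
        show ⁅h, m⁆ ∈ (⁅(⊤ : LieIdeal k ↥U), LieModule.lowerCentralSeries k ↥U L j⁆ :
            LieSubmodule k ↥U L).toSubmodule
        rw [e]
        clear hm
        induction hm' using Submodule.span_induction with
        | mem m₀ hm₀ =>
          obtain ⟨x, -, n, hn, rfl⟩ := hm₀
          rw [LieSubalgebra.coe_bracket_of_module, leibniz_lie]
          refine add_mem ?_ ?_
          · apply Submodule.subset_span
            exact ⟨⟨⁅h, (x : L)⁆, hHnorm x x.2⟩, LieSubmodule.mem_top _, n, hn, rfl⟩
          · apply Submodule.subset_span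
            exact ⟨x, LieSubmodule.mem_top _, ⁅h, n⁆, ih n hn, rfl⟩
        | zero => simp
        | add a b _ _ ha hb => rw [lie_add]; exact add_mem ha hb
        | smul t a _ ha => rw [lie_smul]; exact Submodule.smul_mem _ t ha
    have ha : ∀ j, ∀ m ∈ LieModule.lowerCentralSeries k ↥U L j,
        ⁅u, m⁆ ∈ LieModule.lowerCentralSeries k ↥U L (j + 1) := by
      intro j m hm
      rw [LieModule.lowerCentralSeries_succ]
      exact LieSubmodule.lie_mem_lie (LieSubmodule.mem_top (⟨u, hu⟩ : ↥U)) hm
    have hT : ∀ j (m : L), ((LieAlgebra.ad k L h ∘ₗ LieAlgebra.ad k L u) ^ j) m ∈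
        LieModule.lowerCentralSeries k ↥U L j := by
      intro j
      induction j with
      | zero => intro m; simp
      | succ j ih =>
        intro m
        rw [pow_succ', Module.End.mul_apply]
        exact hb (j + 1) _ (ha j _ (ih m))
    have hTnil : IsNilpotent (LieAlgebra.ad k L h ∘ₗ LieAlgebra.ad k L u) := by
      refine ⟨c, ?_⟩
      ext m
      have := hT c m
      rw [hc, LieSubmodule.mem_bot] at this
      simpa using this
    have htr : LinearMap.trace k L (LieAlgebra.ad k L h ∘ₗ LieAlgebra.ad k L u) = 0 :=
      (LinearMap.isNilpotent_trace_of_isNilpotent hTnil).eq_zero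
    rw [killingForm_apply_apply]
    exact htr
  -- Step 2: `U^⊥ ⊆ H`
  have hdd := LinearMap.BilinForm.orthogonal_orthogonal hκ hrefl U.toSubmodule
  have hstep2 : ∀ a : L, (∀ y ∈ U, killingForm k L a y = 0) → a ∈ H := by
    intro a ha
    rw [hH, LieSubalgebra.mem_normalizer_iff]
    intro u hu
    have h1 : ⁅a, u⁆ ∈ (killingForm k L).orthogonal ((killingForm k L).orthogonal U.toSubmodule) := by
      rw [LinearMap.BilinForm.mem_orthogonal_iff]
      intro b hb
      rw [LinearMap.BilinForm.mem_orthogonal_iff] at hb
      have hb' : ∀ y ∈ U, killingForm k L b y = 0 := fun y hy => by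
        rw [hsymm]
        exact hb y hy
      rw [← hinv]
      exact hperp b a hb' ha u hu
    rw [hdd] at h1
    exact h1
  -- Step 3
  have hHeq : H.toSubmodule = (killingForm k L).orthogonal U.toSubmodule := by
    apply le_antisymm
    · intro h hh
      rw [LinearMap.BilinForm.mem_orthogonal_iff]
      intro u hu
      rw [hsymm]
      exact hstep1 h hh u hu
    · intro a ha
      rw [LinearMap.BilinForm.mem_orthogonal_iff] at ha
      exact hstep2 a (fun y hy => by rw [hsymm]; exact ha y hy)
  rw [← hHeq] at hdd
  intro x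
  constructor
  · intro hx
    have h1 : x ∈ (killingForm k L).orthogonal H.toSubmodule := by
      rw [hdd]
      exact hx
    exact fun h hh => (LinearMap.BilinForm.mem_orthogonal_iff.mp h1) h hh
  · intro hx
    have h1 : x ∈ (killingForm k L).orthogonal H.toSubmodule :=
      LinearMap.BilinForm.mem_orthogonal_iff.mpr hx
    rw [hdd] at h1
    exact h1

end Groth.Agent.S14875
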