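import Groth.Statements.S14877
import Groth.Prelude.Def_ChGrp
import Groth.Agent.Lib.FpqcSieve18
import Groth.Agent.Lib.FpqcCov18
import Groth.Agent.Lib.PtsPullback18

set_option autoImplicit false
set_option maxHeartbeats 800000
universe u
open CategoryTheory MonoidalCategory CartesianMonoidalCategory MonObj GrpObj AlgebraicGeometry CategoryTheory.Limits
open AlgGrp

namespace Groth.Agent.S14877


section helpers

variable {S : Scheme.{u}} {G P X U' : Over S} [GrpObj G] (a : AlgGrp.Action G P) (π : P ⟶ X)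
  (ξ : U' ⟶ X) (s : U' ⟶ P)
  (hcart : IsPullback (fst U' G).left (lift (snd U' G) (fst U' G ≫ s) ≫ a.act).left ξ.left π.left)

include hcart in
lemma local_exists (hs : s ≫ π = ξ) {T' : Over S} (u : T' ⟶ U') (p : T' ⟶ P)
    (hp : p ≫ π = u ≫ ξ) : ∃ cg : T' ⟶ G, lift cg (u ≫ s) ≫ a.act = p := by
  have w : fst U' G ≫ ξ = (lift (snd U' G) (fst U' G ≫ s) ≫ a.act) ≫ π := by
    apply Over.OverMorphism.ext
    exact hcart.w
  have sq : IsPullback (fst U' G) (lift (snd U' G) (fst U' G ≫ s) ≫ a.act) ξ π :=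
    IsPullback.of_map (Over.forget S) w hcart
  obtain ⟨w', hw1, hw2⟩ : ∃ w' : T' ⟶ U' ⊗ G, w' ≫ fst U' G = u ∧
      w' ≫ (lift (snd U' G) (fst U' G ≫ s) ≫ a.act) = p :=
    ⟨sq.lift u p hp.symm, sq.lift_fst _ _ _, sq.lift_snd _ _ _⟩
  refine ⟨w' ≫ snd U' G, ?_⟩
  rw [← hw2, ← Category.assoc, comp_lift, ← Category.assoc, hw1]

include hcart in
lemma local_inj {T' : Over S} (u : T' ⟶ U') (cg cg' : T' ⟶ G)
    (h : lift cg (u ≫ s) ≫ a.act = lift cg' (u ≫ s) ≫ a.act) : cg = cg' := by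
  have w : fst U' G ≫ ξ = (lift (snd U' G) (fst U' G ≫ s) ≫ a.act) ≫ π := by
    apply Over.OverMorphism.ext
    exact hcart.w
  have sq : IsPullback (fst U' G) (lift (snd U' G) (fst U' G ≫ s) ≫ a.act) ξ π :=
    IsPullback.of_map (Over.forget S) w hcart
  have e : ∀ c : T' ⟶ G, lift u c ≫ (lift (snd U' G) (fst U' G ≫ s) ≫ a.act) =
      lift c (u ≫ s) ≫ a.act := by
    intro c
    rw [← Category.assoc, comp_lift, lift_snd, lift_fst_assoc]
  have h2 : lift u cg = lift u cg' := by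
    apply sq.hom_ext
    · rw [lift_fst, lift_fst]
    · rw [e, e, h]
  have := congrArg (· ≫ snd U' G) h2
  simpa using this

end helpers

/-- Over an algebraically closed field k of characteristic zero, let G be an algebraic group (a smooth
k-group scheme of finite type) acting on a variety P (reduced, separated, of finite type over k),
and let π : P → X be a geometric quotient by this action onto a variety X: π is invariant,
surjective and open, the map (g, p) ↦ (g·p, p) from G × P to P ×_X P is surjective on points, and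
for every open U of X the sections of O_X over U are exactly the invariant sections of O_P over
π⁻¹U. Suppose the bundle is locally isotrivial: every point of X has an open neighbourhood U with a
finite étale surjective morphism U' → U and a morphism s : U' → P lifting U' → U → X such that (u,
g) ↦ g·s(u) exhibits U' × G as the fibre product U' ×_X P. Then the bundle is principal: (g, p) ↦
(g·p, p) is an isomorphism of G × P onto P ×_X P, and π is flat. (The published definition of an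
étale covering asks only for a finite étale morphism; this row also requires it to be surjective,
since an empty cover would make every bundle isotrivial.) -/
theorem result (k : Type u) [Field k] [IsAlgClosed k] [CharZero k]
    (G P X : Over (Spec (CommRingCat.of k))) [GrpObj G] [Smooth G.hom] [QuasiCompact G.hom]
    [LocallyOfFiniteType P.hom] [QuasiCompact P.hom] [IsSeparated P.hom] [IsReduced P.left]
    [LocallyOfFiniteType X.hom] [QuasiCompact X.hom] [IsSeparated X.hom] [IsReduced X.left]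
    (a : AlgGrp.Action G P) (π : P ⟶ X) (hinv : GIT.IsInvariant a π)
    (hq : Function.Surjective π.left.base ∧ IsOpenMap π.left.base ∧
      Function.Surjective (GIT.PsiY a π hinv).base ∧
      ∀ U : X.left.Opens, Function.Injective (π.left.app U) ∧
        Set.range (π.left.app U) = {f | GIT.IsInvSection a π U f})
    (hli : ∀ x : ↥X.left, ∃ (U : X.left.Opens) (_ : x ∈ U) (U' : Scheme.{u}) (φ : U' ⟶ ↑U)
      (_ : IsFinite φ) (_ : Etale φ) (_ : Surjective φ) (s : Over.mk (φ ≫ U.ι ≫ X.hom) ⟶ P),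
      s.left ≫ π.left = φ ≫ U.ι ∧
      IsPullback (fst (Over.mk (φ ≫ U.ι ≫ X.hom)) G).left (lift (snd (Over.mk (φ ≫ U.ι ≫ X.hom)) G) (fst (Over.mk (φ ≫ U.ι ≫ X.hom)) G ≫ s) ≫ a.act).left
        (φ ≫ U.ι) π.left) :
    IsIso (GIT.PsiY a π hinv) ∧ Flat π.left := by
  classical
  obtain ⟨-, -, -, -⟩ := hq
  -- the sieve of arrows into `X` factoring through an isotrivialising cover
  let SvX : Sieve X.left :=
    { arrows := fun T f => ∃ (U : X.left.Opens) (U' : Scheme.{u}) (φ : U' ⟶ ↑U)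
        (s : Over.mk (φ ≫ U.ι ≫ X.hom) ⟶ P), s.left ≫ π.left = φ ≫ U.ι ∧
        IsPullback (fst (Over.mk (φ ≫ U.ι ≫ X.hom)) G).left
          (lift (snd (Over.mk (φ ≫ U.ι ≫ X.hom)) G) (fst (Over.mk (φ ≫ U.ι ≫ X.hom)) G ≫ s) ≫
            a.act).left (φ ≫ U.ι) π.left ∧ ∃ u : T ⟶ U', u ≫ φ ≫ U.ι = f
      downward_closed := by
        rintro T T' f ⟨U, U', φ, s, hs, hc, u, hu⟩ g
        exact ⟨U, U', φ, s, hs, hc, g ≫ u, by rw [Category.assoc, hu]⟩ }
  have hSvX : SvX ∈ Scheme.fpqcTopology X.left := by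
    apply Groth.Agent.Lib.FpqcSieve18.mem_fpqcTopology_of_local
    intro y
    obtain ⟨U, hyU, U', φ, hfin, het, hsurj, s, hs, hc⟩ := hli y
    exact ⟨U, U', φ, hyU, hsurj, inferInstance, inferInstance,
      ⟨U, U', φ, s, hs, hc, 𝟙 _, by rw [Category.id_comp]⟩⟩
  have hinvpt : ∀ ⦃T : Over (Spec (CommRingCat.of k))⦄ (g : T ⟶ G) (p : T ⟶ P),
      (lift g p ≫ a.act) ≫ π = p ≫ π := by
    intro T g p
    rw [Category.assoc, hinv, lift_snd_assoc]
  -- local analysis of a member of the sieve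
  have hdatum : ∀ ⦃T T' : Over (Spec (CommRingCat.of k))⦄ (x₀ : T ⟶ X) (t : T' ⟶ T),
      (SvX.pullback x₀.left) t.left →
      (∀ p : T' ⟶ P, p ≫ π = t ≫ x₀ → ∃ (o : T' ⟶ P), (∃ cg : T' ⟶ G, lift cg o ≫ a.act = p)) ∧
      ∃ (o : T' ⟶ P), (∀ p : T' ⟶ P, p ≫ π = t ≫ x₀ → ∃ cg : T' ⟶ G, lift cg o ≫ a.act = p) ∧
        ∀ cg cg' : T' ⟶ G, lift cg o ≫ a.act = lift cg' o ≫ a.act → cg = cg' := by
    intro T T' x₀ t ht
    obtain ⟨U, U', φ, s, hs, hc, u, hu⟩ := ht
    have hu' : u ≫ φ ≫ U.ι = t.left ≫ x₀.left := hu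
    let uo : T' ⟶ Over.mk (φ ≫ U.ι ≫ X.hom) := Over.homMk u (by
      show u ≫ φ ≫ U.ι ≫ X.hom = T'.hom
      rw [← Category.assoc φ, ← Category.assoc u, hu', Category.assoc, Over.w x₀, Over.w t])
    let ξ : Over.mk (φ ≫ U.ι ≫ X.hom) ⟶ X := Over.homMk (φ ≫ U.ι) (by simp)
    have hsξ : s ≫ π = ξ := Over.OverMorphism.ext hs
    have huξ : uo ≫ ξ = t ≫ x₀ := Over.OverMorphism.ext hu'
    refine ⟨fun p hp => ⟨uo ≫ s, local_exists a π ξ s hc hsξ uo p (by rw [hp, huξ])⟩,
      uo ≫ s, fun p hp => local_exists a π ξ s hc hsξ uo p (by rw [hp, huξ]),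
      fun cg cg' h => local_inj a π ξ s hc uo cg cg' h⟩
  -- freeness
  have hfree : ∀ ⦃T : Over (Spec (CommRingCat.of k))⦄ (g₁ g₂ : T ⟶ G) (p : T ⟶ P),
      lift g₁ p ≫ a.act = lift g₂ p ≫ a.act → g₁ = g₂ := by
    intro T g₁ g₂ p h
    apply Groth.Agent.Lib.FpqcSieve18.hom_ext_of_sieve (SvX.pullback (p ≫ π).left)
      (Scheme.fpqcTopology.pullback_stable _ hSvX)
    intro T' t ht
    obtain ⟨-, o, hoex, hoinj⟩ := hdatum (p ≫ π) t ht
    obtain ⟨cg, hcg⟩ := hoex (t ≫ p) (by rw [Category.assoc])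
    have e : ∀ g : T ⟶ G, lift ((t ≫ g) * cg) o ≫ a.act = t ≫ lift g p ≫ a.act := by
      intro g
      rw [AlgGrp.Action.lift_mul_act, hcg, ← Category.assoc, comp_lift]
    have e2 := hoinj _ _ ((e g₁).trans ((congrArg (t ≫ ·) h).trans (e g₂).symm))
    exact mul_right_cancel e2
  -- transitivity on fibres
  have hex : ∀ ⦃T : Over (Spec (CommRingCat.of k))⦄ (p₁ p₂ : T ⟶ P), p₁ ≫ π = p₂ ≫ π →
      ∃ g : T ⟶ G, lift g p₂ ≫ a.act = p₁ := by
    intro T p₁ p₂ h12
    have hloc : ∀ ⦃T' : Over (Spec (CommRingCat.of k))⦄ (t : T' ⟶ T),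
        (SvX.pullback (p₂ ≫ π).left) t.left →
        ∃ g' : T' ⟶ G, lift g' (t ≫ p₂) ≫ a.act = t ≫ p₁ := by
      intro T' t ht
      obtain ⟨-, o, hoex, -⟩ := hdatum (p₂ ≫ π) t ht
      obtain ⟨cg₁, hcg₁⟩ := hoex (t ≫ p₁) (by rw [Category.assoc, h12])
      obtain ⟨cg₂, hcg₂⟩ := hoex (t ≫ p₂) (by rw [Category.assoc])
      refine ⟨cg₁ * cg₂⁻¹, ?_⟩
      rw [← hcg₂, ← AlgGrp.Action.lift_mul_act, inv_mul_cancel_right, hcg₁]
    obtain ⟨g, hg, -⟩ := Groth.Agent.Lib.FpqcSieve18.existsUnique_glue_of_sieve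
      (SvX.pullback (p₂ ≫ π).left) (Scheme.fpqcTopology.pullback_stable _ hSvX)
      (fun T' t ht => (hloc t ht).choose)
      (by
        intro T'' T' h t ht ht'
        apply hfree _ _ ((h ≫ t) ≫ p₂)
        have := (hloc t ht).choose_spec
        have e3 : lift (h ≫ (hloc t ht).choose) ((h ≫ t) ≫ p₂) ≫ a.act = (h ≫ t) ≫ p₁ := by
          rw [Category.assoc h t p₂, ← comp_lift, Category.assoc, this, Category.assoc]
        rw [(hloc (h ≫ t) ht').choose_spec, e3])
    refine ⟨g, ?_⟩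
    apply Groth.Agent.Lib.FpqcSieve18.hom_ext_of_sieve (SvX.pullback (p₂ ≫ π).left)
      (Scheme.fpqcTopology.pullback_stable _ hSvX)
    intro T' t ht
    rw [← Category.assoc, comp_lift, hg t ht, (hloc t ht).choose_spec]
  have key : IsPullback a.act (snd G P) π π := by
    refine Groth.Agent.Lib.PtsPullback18.isPullback_of_points hinv ?_ ?_
    · intro T x y hxy
      obtain ⟨g, hg⟩ := hex x y hxy
      exact ⟨lift g y, hg, lift_snd _ _⟩
    · intro T w₁ w₂ h1 h2
      have d1 : w₁ = lift (w₁ ≫ fst G P) (w₁ ≫ snd G P) := by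
        apply CartesianMonoidalCategory.hom_ext <;> simp
      have d2 : w₂ = lift (w₂ ≫ fst G P) (w₂ ≫ snd G P) := by
        apply CartesianMonoidalCategory.hom_ext <;> simp
      have e : w₁ ≫ fst G P = w₂ ≫ fst G P := by
        apply hfree _ _ (w₁ ≫ snd G P)
        rw [← d1, h2, ← d2, h1]
      rw [d1, d2, e, h2]
  have sq : IsPullback a.act.left (snd G P).left π.left π.left := key.map (Over.forget _)
  refine ⟨?_, ?_⟩
  · have : GIT.PsiY a π hinv = sq.isoPullback.hom := by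
      apply Limits.pullback.hom_ext
      · rw [sq.isoPullback_hom_fst]; exact Limits.pullback.lift_fst _ _ _
      · rw [sq.isoPullback_hom_snd]; exact Limits.pullback.lift_snd _ _ _
    rw [this]; infer_instance
  · have hcov : Groth.Agent.Lib.FpqcCov18.IsFpqcCov π.left := by
      intro y
      obtain ⟨U, hyU, U', φ, hfin, het, hsurj, s, hs, hc⟩ := hli y
      exact ⟨U, U', φ, s.left, hyU, hsurj, inferInstance, inferInstance, hs⟩
    have hsnd : Flat (snd G P).left := by
      show Flat (Limits.pullback.snd G.hom P.hom)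
      infer_instance
    exact Groth.Agent.Lib.FpqcCov18.IsFpqcCov.descends @Flat sq.flip hcov hsnd

end Groth.Agent.S14877
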