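import Groth.Statements.S14886
import Groth.Agent.S14883
import Groth.Agent.Lib.CartPull18

set_option autoImplicit false
set_option maxHeartbeats 800000
universe u
open CategoryTheory MonoidalCategory CartesianMonoidalCategory MonObj GrpObj AlgebraicGeometry CategoryTheory.Limits
open AlgGrp

namespace Groth.Agent.S14886

/-- Over an algebraically closed field k of characteristic zero, let G be a connected algebraic group (a
smooth connected k-group scheme of finite type) and H an algebraic subgroup (a smooth closed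
subgroup scheme, j : H → G). Let π : G → B be the quotient of G by H (a geometric quotient for the
action h·g = g·h⁻¹ which is a principal H-bundle: (h, g) ↦ (g·h⁻¹, g) is an isomorphism H × G ≅ G
×_B G and π is flat). Let X and Y be varieties (reduced, separated, of finite type over k) with
H-actions, in each of which every finite set of points lies in an affine open subset, and let qX : G
× X → QX, qY : G × Y → QY and qXY : G × (X × Y) → QXY be the associated bundles G_H(X), G_H(Y) and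
G_H(X × Y): geometric quotients (invariant, surjective, open, fibre-pair map surjective on points,
sections = invariant sections) which are principal H-bundles, for the actions h·(g, x) = (g·h⁻¹,
h·x), h·(g, y) = (g·h⁻¹, h·y) and h·(g, x, y) = (g·h⁻¹, h·x, h·y), with QX, QY, QXY varieties over B
= G/H through pX, pY, pXY satisfying p ∘ q = π ∘ pr₁. Let fX : QXY → QX and fY : QXY → QY be the
morphisms over B induced by the projections, fX ∘ qXY = qX ∘ (id × pr₁) and fY ∘ qXY = qY ∘ (id ×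
pr₂). Then the square formed by fX, fY, pX, pY is cartesian: G_H(X × Y) is the fibre product of
G_H(X) and G_H(Y) over G/H. -/
theorem result (k : Type u) [Field k] [IsAlgClosed k] [CharZero k]
    (G H : Over (Spec (CommRingCat.of k))) [GrpObj G] [Smooth G.hom] [QuasiCompact G.hom]
    [ConnectedSpace ↥G.left] [GrpObj H] (j : H ⟶ G) [IsMonHom j] [IsClosedImmersion j.left] [Smooth H.hom]
    (B : Over (Spec (CommRingCat.of k))) [LocallyOfFiniteType B.hom] [QuasiCompact B.hom] [IsSeparated B.hom] [IsReduced B.left]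
    (r : AlgGrp.Action H G) (hr : ∀ (T : Over (Spec (CommRingCat.of k))) (h : T ⟶ H) (g : T ⟶ G),
      lift h g ≫ r.act = g * (h ≫ j)⁻¹)
    (π : G ⟶ B) (hπinv : GIT.IsInvariant r π)
    (hπ : (Function.Surjective π.left.base ∧ IsOpenMap π.left.base ∧
      Function.Surjective (GIT.PsiY r π hπinv).base ∧
      (∀ U : B.left.Opens, Function.Injective (π.left.app U) ∧
        Set.range (π.left.app U) = {f | GIT.IsInvSection r π U f}) ∧
      IsIso (GIT.PsiY r π hπinv) ∧ Flat π.left))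
    (X Y : Over (Spec (CommRingCat.of k))) [LocallyOfFiniteType X.hom] [QuasiCompact X.hom] [IsSeparated X.hom] [IsReduced X.left] [LocallyOfFiniteType Y.hom] [QuasiCompact Y.hom] [IsSeparated Y.hom] [IsReduced Y.left]
    (hFX : ∀ F : Finset ↥X.left, ∃ U : X.left.Opens, IsAffineOpen U ∧ (↑F : Set ↥X.left) ⊆ (U : Set ↥X.left))
    (hFY : ∀ F : Finset ↥Y.left, ∃ U : Y.left.Opens, IsAffineOpen U ∧ (↑F : Set ↥Y.left) ⊆ (U : Set ↥Y.left))
    (aX : AlgGrp.Action H X) (aY : AlgGrp.Action H Y)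
    (b : AlgGrp.Action H (G ⊗ X))
    (hb : ∀ (T : Over (Spec (CommRingCat.of k))) (h : T ⟶ H) (g : T ⟶ G) (x : T ⟶ X),
      lift h (lift g x) ≫ b.act = lift (g * (h ≫ j)⁻¹) (lift h x ≫ aX.act))
    (c : AlgGrp.Action H (G ⊗ Y))
    (hc : ∀ (T : Over (Spec (CommRingCat.of k))) (h : T ⟶ H) (g : T ⟶ G) (x : T ⟶ Y),
      lift h (lift g x) ≫ c.act = lift (g * (h ≫ j)⁻¹) (lift h x ≫ aY.act))
    (d : AlgGrp.Action H (G ⊗ (X ⊗ Y)))
    (hd : ∀ (T : Over (Spec (CommRingCat.of k))) (h : T ⟶ H) (g : T ⟶ G) (x : T ⟶ X) (y : T ⟶ Y),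
      lift h (lift g (lift x y)) ≫ d.act = lift (g * (h ≫ j)⁻¹) (lift (lift h x ≫ aX.act) (lift h y ≫ aY.act)))
    (QX QY QXY : Over (Spec (CommRingCat.of k))) [LocallyOfFiniteType QX.hom] [QuasiCompact QX.hom] [IsSeparated QX.hom] [IsReduced QX.left] [LocallyOfFiniteType QY.hom] [QuasiCompact QY.hom] [IsSeparated QY.hom] [IsReduced QY.left] [LocallyOfFiniteType QXY.hom] [QuasiCompact QXY.hom] [IsSeparated QXY.hom] [IsReduced QXY.left]
    (qX : G ⊗ X ⟶ QX) (hqXinv : GIT.IsInvariant b qX) (hqX : (Function.Surjective qX.left.base ∧ IsOpenMap qX.left.base ∧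
      Function.Surjective (GIT.PsiY b qX hqXinv).base ∧
      (∀ U : QX.left.Opens, Function.Injective (qX.left.app U) ∧
        Set.range (qX.left.app U) = {f | GIT.IsInvSection b qX U f}) ∧
      IsIso (GIT.PsiY b qX hqXinv) ∧ Flat qX.left))
    (qY : G ⊗ Y ⟶ QY) (hqYinv : GIT.IsInvariant c qY) (hqY : (Function.Surjective qY.left.base ∧ IsOpenMap qY.left.base ∧
      Function.Surjective (GIT.PsiY c qY hqYinv).base ∧
      (∀ U : QY.left.Opens, Function.Injective (qY.left.app U) ∧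
        Set.range (qY.left.app U) = {f | GIT.IsInvSection c qY U f}) ∧
      IsIso (GIT.PsiY c qY hqYinv) ∧ Flat qY.left))
    (qXY : G ⊗ (X ⊗ Y) ⟶ QXY) (hqXYinv : GIT.IsInvariant d qXY) (hqXY : (Function.Surjective qXY.left.base ∧ IsOpenMap qXY.left.base ∧
      Function.Surjective (GIT.PsiY d qXY hqXYinv).base ∧
      (∀ U : QXY.left.Opens, Function.Injective (qXY.left.app U) ∧
        Set.range (qXY.left.app U) = {f | GIT.IsInvSection d qXY U f}) ∧
      IsIso (GIT.PsiY d qXY hqXYinv) ∧ Flat qXY.left))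
    (pX : QX ⟶ B) (hpX : qX ≫ pX = fst G X ≫ π) (pY : QY ⟶ B) (hpY : qY ≫ pY = fst G Y ≫ π)
    (pXY : QXY ⟶ B) (hpXY : qXY ≫ pXY = fst G (X ⊗ Y) ≫ π)
    (fX : QXY ⟶ QX) (hfX : qXY ≫ fX = (G ◁ fst X Y) ≫ qX) (hfXp : fX ≫ pX = pXY)
    (fY : QXY ⟶ QY) (hfY : qXY ≫ fY = (G ◁ snd X Y) ≫ qY) (hfYp : fY ≫ pY = pXY) :
    IsPullback fX.left fY.left pX.left pY.left := by
  obtain ⟨hπs, -, -, -, hπiso, hπflat⟩ := hπ
  obtain ⟨hXs, -, -, -, hXiso, hXflat⟩ := hqX
  obtain ⟨hYs, -, -, -, hYiso, hYflat⟩ := hqY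
  obtain ⟨hXYs, -, -, -, hXYiso, hXYflat⟩ := hqXY
  have hsqπ := Groth.Agent.S14883.isPullback_of_isIso_psiY r π hπinv hπiso
  have hsqX := Groth.Agent.S14883.isPullback_of_isIso_psiY b qX hqXinv hXiso
  have hsqY := Groth.Agent.S14883.isPullback_of_isIso_psiY c qY hqYinv hYiso
  have hsqXY := Groth.Agent.S14883.isPullback_of_isIso_psiY d qXY hqXYinv hXYiso
  -- equivariance of the first projections
  have heqX : b.act ≫ fst G X = (H ◁ fst G X) ≫ r.act := by
    apply AlgGrp.Action.hom_ext_lift₂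
    intro T h p
    have hp' : p = lift (p ≫ fst G X) (p ≫ snd G X) := by
      apply CartesianMonoidalCategory.hom_ext <;> simp
    rw [lift_whiskerLeft_assoc, hr, hp', ← Category.assoc, hb, lift_fst, lift_fst]
  have heqY : c.act ≫ fst G Y = (H ◁ fst G Y) ≫ r.act := by
    apply AlgGrp.Action.hom_ext_lift₂
    intro T h p
    have hp' : p = lift (p ≫ fst G Y) (p ≫ snd G Y) := by
      apply CartesianMonoidalCategory.hom_ext <;> simp
    rw [lift_whiskerLeft_assoc, hr, hp', ← Category.assoc, hc, lift_fst, lift_fst]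
  have heqXY : d.act ≫ fst G (X ⊗ Y) = (H ◁ fst G (X ⊗ Y)) ≫ r.act := by
    apply AlgGrp.Action.hom_ext_lift₂
    intro T h p
    have hp' : p = lift (p ≫ fst G (X ⊗ Y))
        (lift (p ≫ snd G (X ⊗ Y) ≫ fst X Y) (p ≫ snd G (X ⊗ Y) ≫ snd X Y)) := by
      apply CartesianMonoidalCategory.hom_ext
      · simp
      · apply CartesianMonoidalCategory.hom_ext <;> simp
    rw [lift_whiskerLeft_assoc, hr, hp', ← Category.assoc, hd, lift_fst, lift_fst]
  -- fpqc coverings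
  have : Surjective π.left := ⟨hπs⟩
  have : Surjective qX.left := ⟨hXs⟩
  have : Surjective qY.left := ⟨hYs⟩
  have : Surjective qXY.left := ⟨hXYs⟩
  have : Flat π.left := hπflat
  have : Flat qX.left := hXflat
  have : Flat qY.left := hYflat
  have : Flat qXY.left := hXYflat
  have hqc : ∀ (Z : Over (Spec (CommRingCat.of k))) [QuasiCompact Z.hom], QuasiCompact (G ⊗ Z).hom := by
    intro Z _
    have e : (G ⊗ Z).hom = (fst G Z).left ≫ G.hom := (Over.w (fst G Z)).symm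
    have : QuasiCompact (fst G Z).left := by
      show QuasiCompact (pullback.fst G.hom Z.hom)
      infer_instance
    rw [e]; infer_instance
  have hXYqc : QuasiCompact (X ⊗ Y).hom := by
    have e : (X ⊗ Y).hom = (fst X Y).left ≫ X.hom := (Over.w (fst X Y)).symm
    have : QuasiCompact (fst X Y).left := by
      show QuasiCompact (pullback.fst X.hom Y.hom)
      infer_instance
    rw [e]; infer_instance
  have : QuasiCompact (π.left ≫ B.hom) := by rw [Over.w π]; infer_instance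
  have : QuasiCompact π.left := QuasiCompact.of_comp π.left B.hom
  have : QuasiCompact (qX.left ≫ QX.hom) := by rw [Over.w qX]; exact hqc X
  have : QuasiCompact qX.left := QuasiCompact.of_comp qX.left QX.hom
  have : QuasiCompact (qY.left ≫ QY.hom) := by rw [Over.w qY]; exact hqc Y
  have : QuasiCompact qY.left := QuasiCompact.of_comp qY.left QY.hom
  have : QuasiCompact (qXY.left ≫ QXY.hom) := by rw [Over.w qXY]; exact hqc (X ⊗ Y)
  have : QuasiCompact qXY.left := QuasiCompact.of_comp qXY.left QXY.hom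
  have hcovπ : Groth.Agent.Lib.FpqcCov18.IsFpqcCov π.left :=
    Groth.Agent.Lib.FpqcCov18.isFpqcCov_of_fpqc π.left
  have hcovX : Groth.Agent.Lib.FpqcCov18.IsFpqcCov qX.left :=
    Groth.Agent.Lib.FpqcCov18.isFpqcCov_of_fpqc qX.left
  have hcovY : Groth.Agent.Lib.FpqcCov18.IsFpqcCov qY.left :=
    Groth.Agent.Lib.FpqcCov18.isFpqcCov_of_fpqc qY.left
  have hcovXY : Groth.Agent.Lib.FpqcCov18.IsFpqcCov qXY.left :=
    Groth.Agent.Lib.FpqcCov18.isFpqcCov_of_fpqc qXY.left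
  have sqX : IsPullback qX (fst G X) pX π :=
    Groth.Agent.Lib.TorsorMapCart18.isPullback_of_torsor_map b r hsqX hsqπ heqX hpX hcovX
  have sqY : IsPullback qY (fst G Y) pY π :=
    Groth.Agent.Lib.TorsorMapCart18.isPullback_of_torsor_map c r hsqY hsqπ heqY hpY hcovY
  have sqXY : IsPullback qXY (fst G (X ⊗ Y)) pXY π :=
    Groth.Agent.Lib.TorsorMapCart18.isPullback_of_torsor_map d r hsqXY hsqπ heqXY hpXY hcovXY
  -- points of the three bundles
  have ptX : ∀ ⦃T : Over (Spec (CommRingCat.of k))⦄ (g : T ⟶ G) (x : T ⟶ X) (y : T ⟶ Y),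
      (lift g (lift x y) ≫ qXY) ≫ fX = lift g x ≫ qX := by
    intro T g x y
    rw [Category.assoc, hfX, lift_whiskerLeft_assoc, lift_fst]
  have ptY : ∀ ⦃T : Over (Spec (CommRingCat.of k))⦄ (g : T ⟶ G) (x : T ⟶ X) (y : T ⟶ Y),
      (lift g (lift x y) ≫ qXY) ≫ fY = lift g y ≫ qY := by
    intro T g x y
    rw [Category.assoc, hfY, lift_whiskerLeft_assoc, lift_snd]
  have w : fX ≫ pX = fY ≫ pY := by rw [hfXp, hfYp]
  -- uniqueness
  have huniq : ∀ (T : Over (Spec (CommRingCat.of k))) (z₁ z₂ : T ⟶ QXY),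
      z₁ ≫ fX = z₂ ≫ fX → z₁ ≫ fY = z₂ ≫ fY → z₁ = z₂ := by
    intro T z₁ z₂ h1 h2
    have hβ : z₁ ≫ pXY = z₂ ≫ pXY := by
      rw [← hfXp, ← Category.assoc, h1, Category.assoc]
    obtain ⟨T', cc, g, hcc, hg⟩ := Groth.Agent.Lib.TorsorMapCart18.exists_local_lift hcovπ (z₁ ≫ pXY)
    have hepi := Groth.Agent.Lib.FpqcCov18.epi_over cc hcc
    rw [← cancel_epi cc]
    have e1 : (cc ≫ z₁) ≫ pXY = g ≫ π := by rw [Category.assoc, hg]
    have e2 : (cc ≫ z₂) ≫ pXY = g ≫ π := by rw [Category.assoc, ← hβ, hg]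
    obtain ⟨p₁, hp₁q, hp₁g⟩ : ∃ p₁ : T' ⟶ G ⊗ (X ⊗ Y), p₁ ≫ qXY = cc ≫ z₁ ∧ p₁ ≫ fst _ _ = g :=
      ⟨sqXY.lift _ _ e1, sqXY.lift_fst _ _ e1, sqXY.lift_snd _ _ e1⟩
    obtain ⟨p₂, hp₂q, hp₂g⟩ : ∃ p₂ : T' ⟶ G ⊗ (X ⊗ Y), p₂ ≫ qXY = cc ≫ z₂ ∧ p₂ ≫ fst _ _ = g :=
      ⟨sqXY.lift _ _ e2, sqXY.lift_fst _ _ e2, sqXY.lift_snd _ _ e2⟩
    have dec : ∀ p : T' ⟶ G ⊗ (X ⊗ Y), p = lift (p ≫ fst G (X ⊗ Y))
        (lift (p ≫ snd G (X ⊗ Y) ≫ fst X Y) (p ≫ snd G (X ⊗ Y) ≫ snd X Y)) := by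
      intro p
      apply CartesianMonoidalCategory.hom_ext
      · simp
      · apply CartesianMonoidalCategory.hom_ext <;> simp
    obtain ⟨x₁, hx₁⟩ : ∃ x₁, x₁ = p₁ ≫ snd G (X ⊗ Y) ≫ fst X Y := ⟨_, rfl⟩
    obtain ⟨y₁, hy₁⟩ : ∃ y₁, y₁ = p₁ ≫ snd G (X ⊗ Y) ≫ snd X Y := ⟨_, rfl⟩
    obtain ⟨x₂, hx₂⟩ : ∃ x₂, x₂ = p₂ ≫ snd G (X ⊗ Y) ≫ fst X Y := ⟨_, rfl⟩
    obtain ⟨y₂, hy₂⟩ : ∃ y₂, y₂ = p₂ ≫ snd G (X ⊗ Y) ≫ snd X Y := ⟨_, rfl⟩
    have d1 : p₁ = lift g (lift x₁ y₁) := by rw [dec p₁, hp₁g, ← hx₁, ← hy₁]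
    have d2 : p₂ = lift g (lift x₂ y₂) := by rw [dec p₂, hp₂g, ← hx₂, ← hy₂]
    have eX : lift g x₁ ≫ qX = lift g x₂ ≫ qX := by
      rw [← ptX g x₁ y₁, ← ptX g x₂ y₂, ← d1, ← d2, hp₁q, hp₂q, Category.assoc, Category.assoc, h1]
    have eY : lift g y₁ ≫ qY = lift g y₂ ≫ qY := by
      rw [← ptY g x₁ y₁, ← ptY g x₂ y₂, ← d1, ← d2, hp₁q, hp₂q, Category.assoc, Category.assoc, h2]
    have eX' : lift g x₁ = lift g x₂ := sqX.hom_ext eX (by rw [lift_fst, lift_fst])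
    have eY' : lift g y₁ = lift g y₂ := sqY.hom_ext eY (by rw [lift_fst, lift_fst])
    have ex : x₁ = x₂ := by
      have := congrArg (· ≫ snd G X) eX'
      simpa using this
    have ey : y₁ = y₂ := by
      have := congrArg (· ≫ snd G Y) eY'
      simpa using this
    rw [← hp₁q, ← hp₂q, d1, d2, ex, ey]
  have key : IsPullback fX fY pX pY := by
    refine Groth.Agent.Lib.PtsPullback18.isPullback_of_points w ?_ huniq
    intro T zX zY hz
    obtain ⟨T', cc, g, hcc, hg⟩ := Groth.Agent.Lib.TorsorMapCart18.exists_local_lift hcovπ (zX ≫ pX)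
    have hepi := Groth.Agent.Lib.FpqcCov18.epi_over cc hcc
    have e1 : (cc ≫ zX) ≫ pX = g ≫ π := by rw [Category.assoc, hg]
    have e2 : (cc ≫ zY) ≫ pY = g ≫ π := by rw [Category.assoc, ← hz, hg]
    obtain ⟨p₁, hp₁q, hp₁g⟩ : ∃ p₁ : T' ⟶ G ⊗ X, p₁ ≫ qX = cc ≫ zX ∧ p₁ ≫ fst _ _ = g :=
      ⟨sqX.lift _ _ e1, sqX.lift_fst _ _ e1, sqX.lift_snd _ _ e1⟩
    obtain ⟨p₂, hp₂q, hp₂g⟩ : ∃ p₂ : T' ⟶ G ⊗ Y, p₂ ≫ qY = cc ≫ zY ∧ p₂ ≫ fst _ _ = g :=
      ⟨sqY.lift _ _ e2, sqY.lift_fst _ _ e2, sqY.lift_snd _ _ e2⟩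
    obtain ⟨x, hx⟩ : ∃ x, x = p₁ ≫ snd G X := ⟨_, rfl⟩
    obtain ⟨y, hy⟩ : ∃ y, y = p₂ ≫ snd G Y := ⟨_, rfl⟩
    have d1 : p₁ = lift g x := by
      apply CartesianMonoidalCategory.hom_ext
      · rw [lift_fst, hp₁g]
      · rw [lift_snd, hx]
    have d2 : p₂ = lift g y := by
      apply CartesianMonoidalCategory.hom_ext
      · rw [lift_fst, hp₂g]
      · rw [lift_snd, hy]
    obtain ⟨z', hz'⟩ : ∃ z' : T' ⟶ QXY, z' = lift g (lift x y) ≫ qXY := ⟨_, rfl⟩
    have hz'X : z' ≫ fX = cc ≫ zX := by rw [hz', ptX, ← d1, hp₁q]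
    have hz'Y : z' ≫ fY = cc ≫ zY := by rw [hz', ptY, ← d2, hp₂q]
    obtain ⟨z, hzz⟩ := Groth.Agent.Lib.FpqcCov18.exists_desc_over cc hcc z' (by
      intro T'' t₁ t₂ ht
      apply huniq
      · rw [Category.assoc, Category.assoc, hz'X, ← Category.assoc, ← Category.assoc, ht]
      · rw [Category.assoc, Category.assoc, hz'Y, ← Category.assoc, ← Category.assoc, ht])
    refine ⟨z, ?_, ?_⟩
    · rw [← cancel_epi cc, ← Category.assoc, hzz, hz'X]
    · rw [← cancel_epi cc, ← Category.assoc, hzz, hz'Y]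
  exact key.map (Over.forget _)

end Groth.Agent.S14886
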