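import Groth.Statements.S14888
import Mathlib

set_option autoImplicit false
universe u
open CategoryTheory AlgebraicGeometry
open CAlg

namespace Groth.Agent.S14888
open AlgebraicGeometry CategoryTheory

theorem away_of_atPrime {B S : Type u} [CommRing B] [CommRing S] [Algebra B S]
    [Finite (PrimeSpectrum B)] (P : Ideal B) [P.IsPrime] [IsLocalization.AtPrime S P] :
    ∃ g : B, IsLocalization.Away g S := by
  classical
  haveI : Fintype (PrimeSpectrum B) := Fintype.ofFinite _
  have hex : ∀ q : PrimeSpectrum B, ∃ g : B, g ∉ P ∧ (¬ q.asIdeal ≤ P → g ∈ q.asIdeal) := by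
    intro q
    by_cases h : q.asIdeal ≤ P
    · exact ⟨1, (Ideal.ne_top_iff_one P).mp (Ideal.IsPrime.ne_top ‹_›), fun h' => absurd h h'⟩
    · obtain ⟨g, hgq, hgP⟩ := Set.not_subset.mp h
      exact ⟨g, hgP, fun _ => hgq⟩
  choose gq hgP hgq using hex
  set g : B := ∏ q, gq q with hg
  have hgnP : g ∉ P := by
    rw [hg]
    intro h
    obtain ⟨q, -, hq⟩ := (Ideal.IsPrime.prod_mem_iff (p := P)).mp h
    exact hgP q hq
  have hgen : ∀ q : PrimeSpectrum B, g ∉ q.asIdeal → q.asIdeal ≤ P := by
    intro q hq
    by_contra h
    apply hq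
    rw [hg]
    exact Ideal.prod_mem _ (Finset.mem_univ q) (hgq q h)
  let S' := Localization.Away g
  have hunit : ∀ s ∈ P.primeCompl, IsUnit (algebraMap B S' s) := by
    intro s hs
    by_contra hnu
    obtain ⟨m, hm, hsm⟩ := exists_max_ideal_of_mem_nonunits (mem_nonunits_iff.mpr hnu)
    let q : PrimeSpectrum B := ⟨m.comap (algebraMap B S'), inferInstance⟩
    have hgq' : g ∉ q.asIdeal := by
      intro h
      have : algebraMap B S' g ∈ m := h
      exact hm.ne_top (Ideal.eq_top_of_isUnit_mem _ this (IsLocalization.Away.algebraMap_isUnit g))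
    have := hgen q hgq'
    exact hs (this hsm)
  haveI : IsLocalization P.primeCompl S' :=
    IsLocalization.of_le (Submonoid.powers g) P.primeCompl
      (by rw [Submonoid.powers_le]; exact hgnP) hunit
  let e : S' ≃ₐ[B] S := IsLocalization.algEquiv P.primeCompl S' S
  exact ⟨g, IsLocalization.isLocalization_of_algEquiv (Submonoid.powers g) e⟩


/-- Let R be a valuation ring whose spectrum is finite (finite height) and let f : X → Spec R be locally
of finite type with locally quasi-finite fibres. For every x ∈ X the canonical morphism Spec O_{X,x}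
→ X is an open immersion, and the composite Spec O_{X,x} → Spec R is locally of finite type; in
particular O_{X,x} is finitely generated as an R-algebra. (The published statement takes X
quasi-finite over Spec R; the assertions are local at x, so this row assumes only that X is locally
of finite type with discrete fibres.) -/
theorem result
    (R : Type u) [CommRing R] [IsDomain R] [ValuationRing R] [Finite (PrimeSpectrum R)]
    {X : Scheme.{u}} (f : X ⟶ Spec (CommRingCat.of R)) [LocallyOfFiniteType f] [LocallyQuasiFinite f]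
    (x : X) :
    IsOpenImmersion (X.fromSpecStalk x) ∧ LocallyOfFiniteType (X.fromSpecStalk x ≫ f) := by
  have h1 : IsOpenImmersion (X.fromSpecStalk x) := by
    obtain ⟨V, hV, hxV⟩ : ∃ V : X.Opens, IsAffineOpen V ∧ x ∈ V := by
      obtain ⟨_, ⟨V, hV, rfl⟩, hxV, -⟩ :=
        (X.isBasis_affineOpens).exists_subset_of_mem_open (Set.mem_univ x) isOpen_univ
      exact ⟨V, hV, hxV⟩
    rw [← hV.fromSpecStalk_eq_fromSpecStalk hxV]
    unfold IsAffineOpen.fromSpecStalk
    have : IsOpenImmersion (Spec.map (X.presheaf.germ V x hxV)) := by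
      have hqf : RingHom.QuasiFinite (f.appLE ⊤ V le_top).hom :=
        HasRingHomProperty.appLE @LocallyQuasiFinite f inferInstance
          ⟨⊤, isAffineOpen_top _⟩ ⟨V, hV⟩ _
      letI : Algebra Γ(Spec (CommRingCat.of R), ⊤) Γ(X, V) := (f.appLE ⊤ V le_top).hom.toAlgebra
      haveI : Algebra.QuasiFinite Γ(Spec (CommRingCat.of R), ⊤) Γ(X, V) := hqf
      haveI : Finite (PrimeSpectrum Γ(Spec (CommRingCat.of R), ⊤)) :=
        (PrimeSpectrum.comapEquiv
          (Scheme.ΓSpecIso (CommRingCat.of R)).commRingCatIsoToRingEquiv).finite_iff.mpr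
          ‹Finite (PrimeSpectrum R)›
      haveI : Finite (PrimeSpectrum Γ(X, V)) := by
        have := Algebra.QuasiFinite.finite_comap_preimage
          (R := Γ(Spec (CommRingCat.of R), ⊤)) (S := Γ(X, V))
          (s := Set.univ) Set.finite_univ
        rw [Set.preimage_univ] at this
        exact Set.finite_univ_iff.mp this
      letI : Algebra Γ(X, V) (X.presheaf.stalk x) := (X.presheaf.germ V x hxV).hom.toAlgebra
      haveI := hV.isLocalization_stalk ⟨x, hxV⟩
      obtain ⟨g, hg⟩ := away_of_atPrime (hV.primeIdealOf ⟨x, hxV⟩).asIdeal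
        (S := X.presheaf.stalk x)
      have key := IsOpenImmersion.of_isLocalization (R := Γ(X, V)) (S := X.presheaf.stalk x) g
      have heq : CommRingCat.ofHom (algebraMap Γ(X, V) (X.presheaf.stalk x)) =
          X.presheaf.germ V x hxV := by
        ext a; rfl
      rw [heq] at key
      exact key
    infer_instance
  exact ⟨h1, inferInstance⟩

end Groth.Agent.S14888
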