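import Groth.Statements.S14891
import Mathlib

set_option autoImplicit false
universe u
open CAlg

namespace Groth.Agent.S14891


open IsLocalRing MvPolynomial Valuation

section
variable {K L Γ₀ Γ₁ : Type u} [Field K] [Field L] [Algebra K L]
    [LinearOrderedCommGroupWithZero Γ₀] [LinearOrderedCommGroupWithZero Γ₁]
    (vK : Valuation K Γ₀) (vL : Valuation L Γ₁) [vK.HasExtension vL]


/-- a finite sum of nonzero terms with pairwise distinct valuations is nonzero -/
theorem sum_ne_zero {ι : Type*} (s : Finset ι) (hs : s.Nonempty) (a : ι → L)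
    (ha : ∀ i ∈ s, a i ≠ 0)
    (hinj : ∀ i ∈ s, ∀ j ∈ s, vL (a i) = vL (a j) → i = j) : ∑ i ∈ s, a i ≠ 0 := by
  classical
  obtain ⟨i₀, hi₀, hmax⟩ := Finset.exists_max_image s (fun i => vL (a i)) hs
  have hne : vL (a i₀) ≠ 0 := (Valuation.ne_zero_iff vL).mpr (ha i₀ hi₀)
  have hlt : vL (∑ i ∈ s.erase i₀, a i) < vL (a i₀) := by
    refine Valuation.map_sum_lt vL hne ?_
    intro j hj
    have hj' := Finset.mem_erase.mp hj
    refine lt_of_le_of_ne (hmax j hj'.2) ?_
    intro h
    exact hj'.1 (hinj j hj'.2 i₀ hi₀ h)
  rw [← Finset.add_sum_erase s a hi₀]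
  intro h
  have := Valuation.map_add_eq_of_lt_left vL hlt
  rw [h, map_zero] at this
  exact hne this.symm


/-- Gauss lemma: residue-independent elements. -/
theorem gauss {J : Type*} (y : J → vL.valuationSubring)
    (hy : AlgebraicIndependent (ResidueField vK.valuationSubring)
      (fun j => residue vL.valuationSubring (y j)))
    (F : MvPolynomial J K) (hF : F ≠ 0) :
    ∃ c : K, c ≠ 0 ∧ vL (aeval (fun j => ((y j : vL.valuationSubring) : L)) F) = vL (algebraMap K L c) := by
  classical
  have hsupp : F.support.Nonempty := by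
    rwa [Finset.nonempty_iff_ne_empty, ne_eq, MvPolynomial.support_eq_empty]
  obtain ⟨β₀, hβ₀, hmax⟩ := Finset.exists_max_image F.support (fun β => vK (coeff β F)) hsupp
  set c := coeff β₀ F with hc
  have hc0 : c ≠ 0 := MvPolynomial.mem_support_iff.mp hβ₀
  refine ⟨c, hc0, ?_⟩
  set F' := C c⁻¹ * F with hF'
  have hcoeff : ∀ β, coeff β F' = c⁻¹ * coeff β F := fun β => by
    rw [hF', MvPolynomial.coeff_C_mul]
  have hint : ∀ β, coeff β F' ∈ vK.valuationSubring := by
    intro β
    rw [hcoeff, Valuation.mem_valuationSubring_iff, map_mul, map_inv₀]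
    by_cases hβ : β ∈ F.support
    · have := hmax β hβ
      have hvc : vK c ≠ 0 := (Valuation.ne_zero_iff vK).mpr hc0
      rw [inv_mul_le_iff₀ (zero_lt_iff.mpr hvc), mul_one]
      exact this
    · rw [MvPolynomial.notMem_support_iff.mp hβ, map_zero, mul_zero]
      exact zero_le_one
  have hrange : F' ∈ Set.range (MvPolynomial.map (algebraMap vK.valuationSubring K)) := by
    rw [MvPolynomial.mem_range_map_iff_coeffs_subset]
    intro a ha
    obtain ⟨β, -, rfl⟩ := MvPolynomial.mem_coeffs_iff.mp ha
    exact ⟨⟨_, hint β⟩, rfl⟩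
  obtain ⟨F'', hF''⟩ := hrange
  -- evaluate
  have h1 : aeval (fun j => ((y j : vL.valuationSubring) : L)) F' =
      ((aeval y F'' : vL.valuationSubring) : L) := by
    rw [← hF'']
    have := MvPolynomial.aeval_map_algebraMap (R := vK.valuationSubring) K
      (fun j => ((y j : vL.valuationSubring) : L)) F''
    rw [this]
    exact MvPolynomial.aeval_algebraMap_apply (A := vL.valuationSubring) (B := L) y F''
  -- residue
  have h2 : residue vL.valuationSubring (aeval y F'') =
      aeval (fun j => residue vL.valuationSubring (y j))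
        (MvPolynomial.map (residue vK.valuationSubring) F'') := by
    rw [MvPolynomial.aeval_def, MvPolynomial.aeval_def, MvPolynomial.eval₂_map,
      MvPolynomial.eval₂_comp_left]
    rfl
  have h3 : MvPolynomial.map (residue vK.valuationSubring) F'' ≠ 0 := by
    intro h
    have h4 : coeff β₀ (MvPolynomial.map (residue vK.valuationSubring) F'') = 0 := by
      rw [h, coeff_zero]
    rw [MvPolynomial.coeff_map] at h4
    have h5 : ((coeff β₀ F'' : vK.valuationSubring) : K) = 1 := by
      have : coeff β₀ F' = 1 := by rw [hcoeff, ← hc, inv_mul_cancel₀ hc0]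
      rw [← this, ← hF'', MvPolynomial.coeff_map]
      rfl
    have h6 : coeff β₀ F'' = 1 := Subtype.ext h5
    rw [h6, map_one] at h4
    exact one_ne_zero h4
  have h7 : residue vL.valuationSubring (aeval y F'') ≠ 0 := by
    rw [h2]
    intro h
    exact h3 ((algebraicIndependent_iff.mp hy) _ h)
  have h8 : IsUnit (aeval y F'' : vL.valuationSubring) := by
    by_contra hnu
    exact h7 ((IsLocalRing.residue_eq_zero_iff _).mpr ((IsLocalRing.mem_maximalIdeal _).mpr hnu))
  have h9 : vL ((aeval y F'' : vL.valuationSubring) : L) = 1 :=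
    (Valuation.valuationSubring.integers vL).one_of_isUnit h8
  have h10 : F = C c * F' := by
    rw [hF', ← mul_assoc, ← C_mul, mul_inv_cancel₀ hc0, C_1, one_mul]
  rw [h10, map_mul, MvPolynomial.aeval_C, map_mul, h1, h9, mul_one]


/-- the subgroup by which we divide -/
noncomputable abbrev HH : AddSubgroup (Additive Lˣ) := Subgroup.toAddSubgroup
  (vL.valuationSubring.unitGroup ⊔ (Units.map (algebraMap K L).toMonoidHom).range)

abbrev GG : Type u := Additive Lˣ ⧸ HH (K := K) vL

theorem mk_prod {I : Type*} (x : I → Lˣ) (α : I →₀ ℕ) :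
    (QuotientAddGroup.mk (Additive.ofMul (α.prod (fun i k => x i ^ k))) : GG (K := K) vL) =
      Finsupp.linearCombination ℤ
        (fun i => (QuotientAddGroup.mk (Additive.ofMul (x i)) : GG (K := K) vL))
        (Finsupp.mapRange (Nat.cast : ℕ → ℤ) Nat.cast_zero α) := by
  rw [Finsupp.linearCombination_apply, Finsupp.sum_mapRange_index (by intro i; simp)]
  rw [Finsupp.prod, ofMul_prod, QuotientAddGroup.mk_sum, Finsupp.sum]
  refine Finset.sum_congr rfl (fun i _ => ?_)
  rw [ofMul_pow, QuotientAddGroup.mk_nsmul, natCast_zsmul]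

theorem distinct {I : Type*} (x : I → Lˣ)
    (hx : LinearIndependent ℤ
      (fun i => (QuotientAddGroup.mk (Additive.ofMul (x i)) : GG (K := K) vL)))
    (α α' : I →₀ ℕ) (a a' : L) (c c' : K) (hc : c ≠ 0) (hc' : c' ≠ 0)
    (ha : vL a = vL (algebraMap K L c)) (ha' : vL a' = vL (algebraMap K L c'))
    (h : vL (a * α.prod (fun i k => (x i : L) ^ k)) =
      vL (a' * α'.prod (fun i k => (x i : L) ^ k))) : α = α' := by
  set P : Lˣ := α.prod (fun i k => x i ^ k) with hP
  set P' : Lˣ := α'.prod (fun i k => x i ^ k) with hP'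
  have hPc : ((P : Lˣ) : L) = α.prod (fun i k => (x i : L) ^ k) := by
    rw [hP, Finsupp.prod, Units.coe_prod]
    simp [Finsupp.prod]
  have hP'c : ((P' : Lˣ) : L) = α'.prod (fun i k => (x i : L) ^ k) := by
    rw [hP', Finsupp.prod, Units.coe_prod]
    simp [Finsupp.prod]
  rw [← hPc, ← hP'c, map_mul, map_mul, ha, ha'] at h
  set k : Kˣ := Units.mk0 c hc with hk
  set k' : Kˣ := Units.mk0 c' hc' with hk'
  set kk : Lˣ := Units.map (algebraMap K L).toMonoidHom (k / k') with hkk
  have hkkc : ((kk : Lˣ) : L) = algebraMap K L c / algebraMap K L c' := by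
    rw [hkk, Units.coe_map]
    simp [hk, hk']
  set z : Lˣ := P / P' with hz
  have hval : vL (((z * kk : Lˣ)) : L) = 1 := by
    rw [Units.val_mul, hkkc, hz, Units.val_div_eq_div_val, map_mul, map_div₀, map_div₀]
    have h1 : vL (algebraMap K L c') ≠ 0 :=
      (Valuation.ne_zero_iff vL).mpr (by simpa using hc')
    have h2 : vL ((P' : Lˣ) : L) ≠ 0 := (Valuation.ne_zero_iff vL).mpr (Units.ne_zero _)
    field_simp
    rw [mul_comm (vL ↑P), h, mul_comm]
  have hmem : z * kk ∈ vL.valuationSubring.unitGroup := by
    rw [ValuationSubring.mem_unitGroup_iff]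
    exact ((Valuation.isEquiv_valuation_valuationSubring vL).eq_one_iff_eq_one).mp hval
  have hzmem : z ∈ vL.valuationSubring.unitGroup ⊔ (Units.map (algebraMap K L).toMonoidHom).range := by
    have : z = (z * kk) * kk⁻¹ := by rw [mul_inv_cancel_right]
    rw [this]
    refine Subgroup.mul_mem_sup hmem (Subgroup.inv_mem _ ⟨_, rfl⟩)
  have hzero : (QuotientAddGroup.mk (Additive.ofMul z) : GG (K := K) vL) = 0 :=
    (QuotientAddGroup.eq_zero_iff _).mpr hzmem
  rw [hz, ofMul_div, QuotientAddGroup.mk_sub, hP, hP', mk_prod, mk_prod] at hzero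
  rw [← LinearMap.map_sub] at hzero
  have := (linearIndependent_iff.mp hx) _ hzero
  rw [sub_eq_zero] at this
  exact Finsupp.mapRange_injective _ Nat.cast_zero Nat.cast_injective this


theorem main {I J : Type u} (x : I → Lˣ)
    (hx : LinearIndependent ℤ
      (fun i => (QuotientAddGroup.mk (Additive.ofMul (x i)) : GG (K := K) vL)))
    (y : J → vL.valuationSubring)
    (hy : AlgebraicIndependent (ResidueField vK.valuationSubring)
      (fun j => residue vL.valuationSubring (y j))) :
    AlgebraicIndependent K
      (Sum.elim (fun i => ((x i : Lˣ) : L)) (fun j => ((y j : vL.valuationSubring) : L))) := by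
  classical
  rw [AlgebraicIndependent.sumElim_iff]
  constructor
  · rw [algebraicIndependent_iff]
    intro F hF
    by_contra hF0
    obtain ⟨c, hc, hval⟩ := gauss vK vL y hy F hF0
    rw [hF, map_zero] at hval
    exact ((Valuation.ne_zero_iff vL).mpr (by simpa using hc)) hval.symm
  · rw [algebraicIndependent_iff]
    intro Q hQ
    by_contra hQ0
    have hsupp : Q.support.Nonempty := by
      rwa [Finset.nonempty_iff_ne_empty, ne_eq, MvPolynomial.support_eq_empty]
    rw [MvPolynomial.aeval_def, MvPolynomial.eval₂_eq] at hQ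
    -- data for each coefficient
    have hdata : ∀ α ∈ Q.support, ∃ c : K, c ≠ 0 ∧
        vL (algebraMap _ L (coeff α Q)) = vL (algebraMap K L c) := by
      intro α hα
      have hne : coeff α Q ≠ 0 := MvPolynomial.mem_support_iff.mp hα
      have hmem : ((coeff α Q : Algebra.adjoin K (Set.range fun j => ((y j : vL.valuationSubring) : L))) : L) ∈
          (aeval (R := K) fun j => ((y j : vL.valuationSubring) : L)).range := by
        rw [← Algebra.adjoin_range_eq_range_aeval]
        exact (coeff α Q).2
      obtain ⟨F, hF⟩ := hmem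
      have hF0 : F ≠ 0 := by
        rintro rfl
        rw [map_zero] at hF
        exact hne (Subtype.ext hF.symm)
      obtain ⟨c, hc, hval⟩ := gauss vK vL y hy F hF0
      refine ⟨c, hc, ?_⟩
      rw [← hval]
      congr 1
      exact hF.symm
    refine sum_ne_zero vL Q.support hsupp _ ?_ ?_ hQ
    · intro α hα
      have hne : coeff α Q ≠ 0 := MvPolynomial.mem_support_iff.mp hα
      refine mul_ne_zero ?_ ?_
      · intro h
        exact hne (Subtype.ext h)
      · exact Finset.prod_ne_zero_iff.mpr (fun i _ => pow_ne_zero _ (Units.ne_zero _))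
    · intro α hα α' hα' h
      obtain ⟨c, hc, hv⟩ := hdata α hα
      obtain ⟨c', hc', hv'⟩ := hdata α' hα'
      exact distinct vL x hx α α' _ _ c c' hc hc' hv hv' h

end

theorem main' 
    {K L Γ₀ Γ₁ : Type u} [Field K] [Field L] [Algebra K L]
    [LinearOrderedCommGroupWithZero Γ₀] [LinearOrderedCommGroupWithZero Γ₁]
    (vK : Valuation K Γ₀) (vL : Valuation L Γ₁) [vK.HasExtension vL] :
    Module.rank ℤ (Additive Lˣ ⧸ Subgroup.toAddSubgroup
        (vL.valuationSubring.unitGroup ⊔ (Units.map (algebraMap K L).toMonoidHom).range)) +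
      Algebra.trdeg (IsLocalRing.ResidueField vK.valuationSubring)
        (IsLocalRing.ResidueField vL.valuationSubring) ≤ Algebra.trdeg K L := by
  obtain ⟨s, hs, hli⟩ := exists_set_linearIndependent ℤ (GG (K := K) vL)
  obtain ⟨t, b, ht⟩ := exists_isTranscendenceBasis' (ResidueField vK.valuationSubring)
    (ResidueField vL.valuationSubring)
  -- lifts
  have hxl : ∀ i : s, ∃ u : Lˣ, (QuotientAddGroup.mk (Additive.ofMul u) : GG (K := K) vL) = i.1 := by
    intro i
    obtain ⟨a, ha⟩ := QuotientAddGroup.mk_surjective i.1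
    exact ⟨Additive.toMul a, ha⟩
  choose x hx using hxl
  have hyl : ∀ j : t, ∃ w : vL.valuationSubring, residue vL.valuationSubring w = b j :=
    fun j => IsLocalRing.residue_surjective (b j)
  choose y hy using hyl
  have h1 : LinearIndependent ℤ
      (fun i => (QuotientAddGroup.mk (Additive.ofMul (x i)) : GG (K := K) vL)) := by
    have : (fun i => (QuotientAddGroup.mk (Additive.ofMul (x i)) : GG (K := K) vL)) =
        fun i : s => (i : GG (K := K) vL) := funext hx
    rw [this]
    exact hli
  have h2 : AlgebraicIndependent (ResidueField vK.valuationSubring)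
      (fun j => residue vL.valuationSubring (y j)) := by
    have : (fun j => residue vL.valuationSubring (y j)) = b := funext hy
    rw [this]
    exact ht.1
  have h3 := (main vK vL x h1 y h2).cardinalMk_le_trdeg
  rw [Cardinal.mk_sum, Cardinal.lift_id, Cardinal.lift_id, hs, ht.cardinalMk_eq_trdeg] at h3
  exact h3


/-- Let L/K be an extension of valued fields, i.e. v_L is a valuation on L whose restriction to K is
equivalent to v_K. Write E for the rational rank of the quotient of value groups |L^×|/|K^×| — here
the rank of the abelian group L^× modulo the subgroup generated by the units of the valuation ring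
of v_L and the image of K^× — and F for the transcendence degree of the residue field of v_L over
that of v_K. Then E + F ≤ tr.deg(L/K) (an inequality of cardinals). -/
theorem result
    {K L Γ₀ Γ₁ : Type u} [Field K] [Field L] [Algebra K L]
    [LinearOrderedCommGroupWithZero Γ₀] [LinearOrderedCommGroupWithZero Γ₁]
    (vK : Valuation K Γ₀) (vL : Valuation L Γ₁) [vK.HasExtension vL] :
    Module.rank ℤ (Additive Lˣ ⧸ Subgroup.toAddSubgroup
        (vL.valuationSubring.unitGroup ⊔ (Units.map (algebraMap K L).toMonoidHom).range)) +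
      Algebra.trdeg (IsLocalRing.ResidueField vK.valuationSubring)
        (IsLocalRing.ResidueField vL.valuationSubring) ≤ Algebra.trdeg K L := by
  exact main' vK vL

end Groth.Agent.S14891
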