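import Groth.Statements.S14892
import Mathlib
import Groth.Agent.Lib.H47TrdegDim2

set_option autoImplicit false
universe u
open CAlg

namespace Groth.Agent.S14892
set_option linter.style.haveILetI false
open Cardinal

lemma natCast_le_succ (d : ℕ) : ((d : ℕ) : WithBot ℕ∞) ≤ ((d + 1 : ℕ) : WithBot ℕ∞) := by
  exact_mod_cast Nat.le_succ d


/-- If the field K has finite transcendence degree d over its prime subfield, then every valuation
subring of K has height (Krull dimension) at most d + 1. -/
theorem result
    (K : Type u) [Field K] (A : ValuationSubring K) (d : ℕ)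
    (hd : Algebra.trdeg (⊥ : Subfield K) K = d) :
    ringKrullDim A ≤ ((d + 1 : ℕ) : WithBot ℕ∞) := by
  obtain ⟨p, hp⟩ := CharP.exists K
  rcases CharP.char_is_prime_or_zero K p with hprime | h0
  · -- characteristic p: A contains the prime field
    haveI : Fact p.Prime := ⟨hprime⟩
    letI : Algebra (ZMod p) K := ZMod.algebra K p
    have hbot : (⊥ : Subfield K).toSubring ≤ A.toSubring := by
      intro x hx
      have hx' : x ∈ (⊥ : Subfield K) := hx
      rw [Subfield.bot_eq_of_zMod_algebra p] at hx'
      obtain ⟨c, rfl⟩ := hx'
      have : algebraMap (ZMod p) K c = ((c.val : ℕ) : K) := by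
        conv_lhs => rw [← ZMod.natCast_zmod_val c]
        rw [map_natCast]
      rw [this]
      exact natCast_mem _ _
    letI : Algebra (⊥ : Subfield K) A := (Subring.inclusion hbot).toAlgebra
    haveI : IsScalarTower (⊥ : Subfield K) A K := IsScalarTower.of_algebraMap_eq (fun x => rfl)
    have h1 : Algebra.trdeg (⊥ : Subfield K) A ≤ d := by
      rw [← hd]
      exact trdeg_le_of_injective (IsScalarTower.toAlgHom (⊥ : Subfield K) A K)
        Subtype.val_injective
    exact (Groth.Agent.H47TrdegDim.ringKrullDim_le_of_trdeg_le (⊥ : Subfield K) A d h1).trans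
      (natCast_le_succ d)
  · subst h0
    haveI : CharZero K := CharP.charP_to_charZero K
    haveI : CharZero A := ⟨fun a b hab => by
      have := congrArg (Subtype.val : A → K) hab
      exact_mod_cast this⟩
    haveI : Algebra.IsAlgebraic ℤ (⊥ : Subfield K) := by
      constructor
      intro x
      have hx : ∀ y : K, y ∈ (⊥ : Subfield K) → y ∈ (algebraMap ℚ K).fieldRange := by
        intro y hy
        rw [Subfield.bot_eq_of_charZero] at hy
        exact hy
      obtain ⟨q, hq⟩ := hx x.1 x.2
      refine ⟨Polynomial.C (q.den : ℤ) * Polynomial.X - Polynomial.C q.num, ?_, ?_⟩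
      · intro h0
        have := congrArg (fun p => Polynomial.coeff p 1) h0
        simp only [Polynomial.coeff_sub, Polynomial.coeff_C_mul, Polynomial.coeff_X_one,
          Polynomial.coeff_C, Polynomial.coeff_zero, one_ne_zero, if_false, mul_one, sub_zero] at this
        have h2 := q.den_ne_zero
        exact h2 (by exact_mod_cast this)
      · simp only [map_sub, map_mul, Polynomial.aeval_C, Polynomial.aeval_X]
        apply Subtype.ext
        have hden : ((q.den : ℤ) : K) ≠ 0 := by
          have := q.den_ne_zero
          exact_mod_cast this
        have hq' : (x : K) = (q.num : K) / (q.den : K) := by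
          rw [← hq]
          simp [Rat.cast_def]
        push_cast
        rw [hq']
        field_simp
        simp
    have h1 : Algebra.trdeg ℤ A ≤ d := by
      rw [Algebra.trdeg]
      apply ciSup_le'
      rintro ⟨s, hs⟩
      have h2 : AlgebraicIndependent ℤ (fun i : s => ((i : A) : K)) := by
        have := hs.map' (f := (A.subtype : A →+* K).toIntAlgHom) Subtype.val_injective
        exact this
      have h3 := h2.extendScalars (⊥ : Subfield K)
      have h4 := h3.cardinalMk_le_trdeg
      rw [hd] at h4
      exact h4
    exact Groth.Agent.H47TrdegDim.ringKrullDim_le_of_trdeg_int_le' (S := A) d h1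

end Groth.Agent.S14892
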