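import Groth.Statements.S14893
import Mathlib
import Groth.Agent.S14738
import Groth.Agent.Lib.H47TrdegDim

set_option autoImplicit false
universe u
open CAlg

namespace Groth.Agent.S14893
set_option linter.style.haveILetI false

lemma finite_primeSpectrum (R : Type u) [CommRing R] [IsDomain R] [ValuationRing R]
    (hdim : ringKrullDim R < ⊤) : Finite (PrimeSpectrum R) := by
  classical
  obtain ⟨d, hd⟩ := Groth.Agent.S14738.exists_bound R hdim
  have hfh : ∀ (p : Ideal R), p.IsPrime → p.height ≠ ⊤ := by
    intro p hp h
    have := hd p hp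
    rw [h] at this
    simp at this
  let f : PrimeSpectrum R → Fin (d + 1) := fun p =>
    ⟨p.asIdeal.height.toNat, by
      have h1 := hd p.asIdeal p.2
      have h2 := hfh p.asIdeal p.2
      have : p.asIdeal.height.toNat ≤ d := by
        rw [← ENat.natCast_le_natCast, ENat.natCast_toNat h2]; exact h1
      omega⟩
  have key : ∀ p q : PrimeSpectrum R, p.asIdeal < q.asIdeal → f p ≠ f q := by
    intro p q hlt h
    haveI := p.2
    haveI := q.2
    haveI : q.asIdeal.FiniteHeight := ⟨Or.inr (hfh _ q.2)⟩
    have h1 := Ideal.height_strict_mono_of_isPrime_of_isPrime hlt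
    have h2 : p.asIdeal.height.toNat = q.asIdeal.height.toNat := by
      simpa [f] using congrArg Fin.val h
    have h3 : p.asIdeal.height = q.asIdeal.height := by
      rw [← ENat.natCast_toNat (hfh _ p.2), ← ENat.natCast_toNat (hfh _ q.2), h2]
    exact absurd h3 h1.ne
  have hinj : Function.Injective f := by
    intro p q h
    by_contra hne
    have hne' : p.asIdeal ≠ q.asIdeal := fun h' => hne (PrimeSpectrum.ext h')
    rcases Std.Total.total (r := (· ≤ ·)) p.asIdeal q.asIdeal with hle | hle
    · exact key p q (lt_of_le_of_ne hle hne') h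
    · exact key q p (lt_of_le_of_ne hle (Ne.symm hne')) h.symm
  exact Finite.of_injective f hinj



/-- Every valuation ring R is a filtered union of subrings which are valuation rings with finite
spectrum (finite height): there is a nonempty directed index type and a monotone family of such
subrings of R whose supremum is R. -/
theorem result
    (R : Type u) [CommRing R] [IsDomain R] [ValuationRing R] :
    ∃ (ι : Type u) (_ : Preorder ι) (_ : IsDirected ι (fun a b ↦ a ≤ b)) (_ : Nonempty ι)
      (F : ι → Subring R), Monotone F ∧ (⨆ i, F i) = ⊤ ∧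
        ∀ i, ValuationRing (F i) ∧ Finite (PrimeSpectrum (F i)) := by
  classical
  let L := FractionRing R
  let f : R →+* L := algebraMap R L
  have hf : Function.Injective f := IsFractionRing.injective R L
  let K : Finset R → Subfield L := fun s => Subfield.closure (f '' (s : Set R))
  let F : Finset R → Subring R := fun s => (K s).toSubring.comap f
  have hmemF : ∀ (s : Finset R) (x : R), x ∈ F s ↔ f x ∈ K s := fun s x => Iff.rfl
  refine ⟨Finset R, inferInstance, inferInstance, inferInstance, F, ?_, ?_, ?_⟩
  · intro s t hst x hx
    rw [hmemF] at hx ⊢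
    exact Subfield.closure_mono (Set.image_mono (by exact_mod_cast hst)) hx
  · rw [eq_top_iff]
    intro x _
    have hx : x ∈ F {x} := by
      rw [hmemF]
      exact Subfield.subset_closure ⟨x, by simp, rfl⟩
    exact (le_iSup F {x}) hx
  · intro s
    have hval : ValuationRing (F s) := by
      rw [ValuationRing.iff_dvd_total]
      refine ⟨fun a b => ?_⟩
      have aux : ∀ a b : F s, (a : R) ∣ (b : R) → a ∣ b := by
        intro a b ⟨c, hc⟩
        by_cases ha : (a : R) = 0
        · refine ⟨0, ?_⟩
          apply Subtype.ext
          simp [hc, ha]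
        · have hfa : f (a : R) ≠ 0 := fun h => ha (hf (by rw [h, map_zero]))
          have hc' : f c = f (b : R) / f (a : R) := by
            rw [eq_div_iff hfa, mul_comm, ← map_mul, ← hc]
          have hcF : c ∈ F s := by
            rw [hmemF, hc']
            exact (K s).div_mem ((hmemF s _).1 b.2) ((hmemF s _).1 a.2)
          exact ⟨⟨c, hcF⟩, Subtype.ext hc⟩
      rcases ValuationRing.dvd_total (a : R) (b : R) with h | h
      · exact Or.inl (aux a b h)
      · exact Or.inr (aux b a h)
    refine ⟨hval, ?_⟩
    let S' : Subring L := (F s).map f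
    let e : F s ≃+* S' := (F s).equivMapOfInjective f hf
    have hsF : ∀ x ∈ s, x ∈ F s := fun x hx => by
      rw [hmemF]; exact Subfield.subset_closure ⟨x, by exact_mod_cast hx, rfl⟩
    let T : Finset S' := s.attach.image (fun x => e ⟨x.1, hsF x.1 x.2⟩)
    have hT : ∀ x : S', (x : L) ∈ Subfield.closure (Subtype.val '' (T : Set S')) := by
      intro x
      obtain ⟨r, hr, hrx⟩ := x.2
      have h1 : f r ∈ K s := (hmemF s r).1 hr
      rw [← hrx]
      refine Subfield.closure_mono ?_ h1
      rintro _ ⟨y, hy, rfl⟩
      refine ⟨e ⟨y, hsF y (by exact_mod_cast hy)⟩, ?_, rfl⟩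
      simp only [T, Finset.coe_image, Set.mem_image, Finset.mem_coe]
      exact ⟨⟨y, by exact_mod_cast hy⟩, Finset.mem_attach _ _, rfl⟩
    have hdim := Groth.Agent.H47TrdegDim.ringKrullDim_lt_top_of_mem_closure S' T hT
    have hdim' : ringKrullDim (F s) < ⊤ := by
      rw [ringKrullDim_eq_of_ringEquiv e]; exact hdim
    exact finite_primeSpectrum (F s) hdim'

end Groth.Agent.S14893
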