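import Groth.Statements.S14896
import Mathlib

set_option autoImplicit false
universe u
open CAlg

namespace Groth.Agent.S14896

theorem etale_of_atPrime {R B S : Type u} [CommRing R] [CommRing B] [CommRing S] [Algebra R B]
    [Algebra B S] [Algebra R S] [IsScalarTower R B S] [Finite (PrimeSpectrum R)]
    [Algebra.Etale R B] (P : Ideal B) [P.IsPrime] [IsLocalization.AtPrime S P] :
    Algebra.Etale R S := by
  classical
  -- Spec B finite
  haveI : Algebra.QuasiFinite R B := inferInstance
  haveI : Finite (PrimeSpectrum B) := by
    have := Algebra.QuasiFinite.finite_comap_preimage (R := R) (S := B)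
      (s := Set.univ) Set.finite_univ
    rw [Set.preimage_univ] at this
    exact Set.finite_univ_iff.mp this
  haveI : Fintype (PrimeSpectrum B) := Fintype.ofFinite _
  -- choose g
  have hex : ∀ q : PrimeSpectrum B, ∃ g : B, g ∉ P ∧ (¬ q.asIdeal ≤ P → g ∈ q.asIdeal) := by
    intro q
    by_cases h : q.asIdeal ≤ P
    · exact ⟨1, (Ideal.ne_top_iff_one P).mp (Ideal.IsPrime.ne_top ‹_›), fun h' => absurd h h'⟩
    · obtain ⟨g, hgq, hgP⟩ := Set.not_subset.mp h
      exact ⟨g, hgP, fun _ => hgq⟩
  choose gq hgP hgq using hex
  set g : B := ∏ q, gq q with hg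
  have hgnP : g ∉ P := by
    rw [hg]
    intro h
    obtain ⟨q, -, hq⟩ := (Ideal.IsPrime.prod_mem_iff (p := P)).mp h
    exact hgP q hq
  have hgen : ∀ q : PrimeSpectrum B, g ∉ q.asIdeal → q.asIdeal ≤ P := by
    intro q hq
    by_contra h
    apply hq
    rw [hg]
    exact Ideal.prod_mem _ (Finset.mem_univ q) (hgq q h)
  -- S' = B_g is also the localization at P
  let S' := Localization.Away g
  have hunit : ∀ s ∈ P.primeCompl, IsUnit (algebraMap B S' s) := by
    intro s hs
    by_contra hnu
    obtain ⟨m, hm, hsm⟩ := exists_max_ideal_of_mem_nonunits (mem_nonunits_iff.mpr hnu)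
    let q : PrimeSpectrum B := ⟨m.comap (algebraMap B S'), inferInstance⟩
    have hgq' : g ∉ q.asIdeal := by
      intro h
      have : algebraMap B S' g ∈ m := h
      exact hm.ne_top (Ideal.eq_top_of_isUnit_mem _ this (IsLocalization.Away.algebraMap_isUnit g))
    have := hgen q hgq'
    exact hs (this hsm)
  haveI : IsLocalization P.primeCompl S' :=
    IsLocalization.of_le (Submonoid.powers g) P.primeCompl
      (by rw [Submonoid.powers_le]; exact hgnP) hunit
  let e : S' ≃ₐ[B] S := IsLocalization.algEquiv P.primeCompl S' S
  haveI : Algebra.Etale B S' := Algebra.Etale.of_isLocalizationAway g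
  haveI : Algebra.Etale R S' := Algebra.Etale.comp R B S'
  exact Algebra.Etale.of_equiv (e.restrictScalars R)


/-- Let L/K be a finite extension of valued fields, v_L extending v_K, with K° = the valuation ring of
v_K having finite spectrum (finite height), and L° the valuation ring of v_L. If L° is local-étale
over K°, i.e. L° is the localization at a prime ideal of some étale K°-algebra B compatibly with the
K°-algebra structures, then L° is étale over K°. (For valued fields of finite height 'unramified' in
the local-étale sense is thus the same as K° → L° étale; the published lemma phrases the hypothesis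
as 'L/K unramified'.) -/
theorem result
    {K L Γ₀ Γ₁ : Type u} [Field K] [Field L] [Algebra K L] [FiniteDimensional K L]
    [LinearOrderedCommGroupWithZero Γ₀] [LinearOrderedCommGroupWithZero Γ₁]
    (vK : Valuation K Γ₀) (vL : Valuation L Γ₁) [vK.HasExtension vL]
    [Finite (PrimeSpectrum vK.valuationSubring)]
    (B : Type u) [CommRing B] [Algebra vK.valuationSubring B] [Algebra.Etale vK.valuationSubring B]
    [Algebra B vL.valuationSubring] [IsScalarTower vK.valuationSubring B vL.valuationSubring]
    (P : Ideal B) [P.IsPrime] [IsLocalization.AtPrime vL.valuationSubring P] :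
    Algebra.Etale vK.valuationSubring vL.valuationSubring := by
  exact etale_of_atPrime P

end Groth.Agent.S14896
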