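import Groth.Statements.S14901
import Groth.Agent.Lib.H30IrrFib

set_option autoImplicit false
universe u
open MovLem

namespace Groth.Agent.S14901

open AlgebraicGeometry CategoryTheory
open Groth.Agent.Lib.H30DimField Groth.Agent.Lib.H30DimRel Groth.Agent.Lib.H30FlatDim
  Groth.Agent.Lib.H30IrrFib

section Core

variable (k : Type u) [Field k] (S X : Scheme.{u}) [S.Over (Spec (CommRingCat.of k))]
  [X.Over (Spec (CommRingCat.of k))] [LocallyOfFiniteType (S ↘ (Spec (CommRingCat.of k)))]
  [LocallyOfFiniteType (X ↘ (Spec (CommRingCat.of k)))]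
  (f : S ⟶ X) (hf : f ≫ (X ↘ (Spec (CommRingCat.of k))) = S ↘ (Spec (CommRingCat.of k)))

include hf in
omit [LocallyOfFiniteType (X ↘ (Spec (CommRingCat.of k)))] in
/-- relative transcendence degree does not drop at a point maximal in its fibre -/
theorem rt_le_of_fibre_maximal [IsNoetherian S] (ξ s : S) (hξmax : ∀ ξ' : S, ξ' ⤳ ξ → ξ' = ξ) (hξs : ξ ⤳ s)
    (hmax : ∀ s' : S, f s' = f s → s' ⤳ s → s' = s) :
    haveI := lft_of_over k S X f hf
    rt f ξ ≤ rt f s := by
  haveI := lft_of_over k S X f hf
  have hT : closure ({ξ} : Set S) ∈ irreducibleComponents S :=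
    (closure_mem_irreducibleComponents_iff ξ).mpr hξmax
  set T : Set S := closure ({ξ} : Set S) with hTdef
  let ι := S.irreducibleComponentι T hT
  set η' := genericPoint (S.irreducibleComponent T hT) with hη'
  have hιη : ι η' = ξ := by
    have h1 : IsGenericPoint (ι η') T := by
      have h2 := (genericPoint_spec (S.irreducibleComponent T hT)).image ι.continuous
      rw [Set.image_univ] at h2
      have h3 : Set.range ι = T := by
        ext x
        constructor
        · rintro ⟨z, rfl⟩
          exact z.2
        · intro hx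
          exact ⟨⟨x, hx⟩, rfl⟩
      rw [h3, (isClosed_of_mem_irreducibleComponents T hT).closure_eq] at h2
      exact h2
    exact h1.eq (isGenericPoint_closure)
  let t : S.irreducibleComponent T hT := ⟨s, specializes_iff_mem_closure.mp hξs⟩
  have ht : ι t = s := rfl
  have h1 := rt_le_fibreDimAt (ι ≫ f) t
  obtain ⟨w', hw'y, hw't, -, hw'⟩ := exists_rt_eq_fibreDimAt (ι ≫ f) t
  rw [← hw', rt_comp_of_isPreimmersion f ι, rt_comp_of_isPreimmersion f ι, hιη] at h1
  have h2 : rt f ξ ≤ rt f (ι w') := by exact_mod_cast h1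
  have h3 : ι w' = s := by
    apply hmax
    · exact hw'y
    · have := hw't.map ι.continuous
      rwa [ht] at this
  rwa [h3] at h2

include hf in
omit [LocallyOfFiniteType (S ↘ (Spec (CommRingCat.of k)))] in
/-- the transcendence degree of the image of a point is at most the dimension of the image -/
theorem td_le_dim_range [LocallyOfFiniteType (S ↘ (Spec (CommRingCat.of k)))] [QuasiCompact f]
    [IsNoetherian X]
    (ξ : S) :
    (((td k X (f ξ)).toNat : ℕ) : WithBot ℕ∞) ≤ topologicalKrullDim (Set.range f.base) := by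
  haveI := lft_of_over k S X f hf
  haveI : LocallyOfFinitePresentation f :=
    LocallyOfFinitePresentation.iff_locallyOfFiniteType.mpr inferInstance
  have hc : Topology.IsConstructible (Set.range f.base) := by
    rw [← Set.image_univ]
    exact f.isConstructible_image Topology.IsConstructible.univ
  set η := f ξ with hη
  obtain ⟨U, hU, hηU, hUs⟩ := (Groth.Agent.S2433.constructible_generic hc
    (isGenericPoint_closure : IsGenericPoint η (closure {η}))).1 ⟨ξ, rfl⟩
  obtain ⟨c, hcU, hηc, hcc⟩ := exists_closed_point k X η U hU hηU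
  haveI : QuasiSober U := hU.isOpenEmbedding_subtypeVal.quasiSober
  haveI : QuasiSober (U ∩ closure {η} : Set X) :=
    QuasiSober.inter_of_isClosed_of_quasiSober_left U isClosed_closure
  have hδV := isDimFun_convex (isDimFun k X) (U ∩ closure {η}) (by
    intro v hv w hw z hvz hzw
    exact ⟨hzw.mem_open hU hw.1, hvz.mem_closed isClosed_closure hv.2⟩)
  have h0 := le_krullDim _ hδV ⟨η, hηU, subset_closure rfl⟩
    ⟨c, hcU, specializes_iff_mem_closure.mp hηc⟩ ((subtype_specializes_iff _ _).mpr hηc)
  have h1 : topologicalKrullDim ↥(U ∩ closure {η}) ≤ topologicalKrullDim (Set.range f.base) :=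
    (Topology.IsEmbedding.inclusion hUs).isInducing.topologicalKrullDim_le
  refine le_trans ?_ (h0.trans h1)
  simp only [td_eq_zero_of_isClosed k X c hcc, sub_zero]
  exact le_rfl

end Core

open AlgebraicGeometry CategoryTheory in
/-- Let k be a field, let S and X be separated k-schemes of finite type that are locally equidimensional
(all irreducible components passing through a given point have the same dimension), let f : S → X be
a k-morphism and Z ⊆ X a closed subset. Let d be the dimension of the image f(S), as a subspace of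
X. If every point s of S with f(s) ∈ Z satisfies dim O_{S,s} ≥ d + 1 (equivalently: the closed
subset f⁻¹(Z) of S has local codimension at least d + 1 at each of its points), then f⁻¹(Z) is
empty. -/
theorem result (k : Type u) [Field k] (S X : Scheme.{u})
    (pS : S ⟶ Spec (CommRingCat.of k)) (pX : X ⟶ Spec (CommRingCat.of k))
    [IsSeparated pS] [LocallyOfFiniteType pS] [QuasiCompact pS]
    [IsSeparated pX] [LocallyOfFiniteType pX] [QuasiCompact pX]
    (hS : ∀ (s : S) (A B : Set S), A ∈ irreducibleComponents (S : Type u) → B ∈ irreducibleComponents (S : Type u) →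
      s ∈ A → s ∈ B → topologicalKrullDim A = topologicalKrullDim B)
    (hX : ∀ (x : X) (A B : Set X), A ∈ irreducibleComponents (X : Type u) → B ∈ irreducibleComponents (X : Type u) →
      x ∈ A → x ∈ B → topologicalKrullDim A = topologicalKrullDim B)
    (f : S ⟶ X) (hf : f ≫ pX = pS) (Z : Set X) (hZ : IsClosed Z)
    (h : ∀ s : S, f.base s ∈ Z →
      topologicalKrullDim (Set.range f.base) + 1 ≤ ringKrullDim (S.presheaf.stalk s)) :
    f.base ⁻¹' Z = ∅ := by
  letI : S.Over (Spec (CommRingCat.of k)) := ⟨pS⟩
  letI : X.Over (Spec (CommRingCat.of k)) := ⟨pX⟩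
  haveI : LocallyOfFiniteType (S ↘ (Spec (CommRingCat.of k))) := ‹LocallyOfFiniteType pS›
  haveI : LocallyOfFiniteType (X ↘ (Spec (CommRingCat.of k))) := ‹LocallyOfFiniteType pX›
  haveI : IsLocallyNoetherian S := isLocallyNoetherian k S
  haveI : IsLocallyNoetherian X := isLocallyNoetherian k X
  haveI : CompactSpace S := QuasiCompact.compactSpace_of_compactSpace pS
  haveI : CompactSpace X := QuasiCompact.compactSpace_of_compactSpace pX
  haveI : IsNoetherian S := {}
  haveI : IsNoetherian X := {}
  haveI : QuasiCompact f := by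
    haveI : QuasiCompact (f ≫ pX) := by rw [hf]; infer_instance
    exact QuasiCompact.of_comp f pX
  by_contra hne
  obtain ⟨s₀, hs₀⟩ := Set.nonempty_iff_ne_empty.mpr hne
  obtain ⟨s, hsZ, hmin⟩ : ∃ s : S, f.base s ∈ Z ∧
      ∀ s' : S, f.base s' ∈ Z → Order.coheight s ≤ Order.coheight s' := by
    have hwf : WellFounded (fun a b : S => Order.coheight a < Order.coheight b) :=
      InvImage.wf _ wellFounded_lt
    refine ⟨hwf.min {s | f.base s ∈ Z} ⟨s₀, hs₀⟩, hwf.min_mem {s | f.base s ∈ Z} ⟨s₀, hs₀⟩,
      fun s' hs' => ?_⟩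
    exact not_lt.mp (hwf.not_lt_min {s | f.base s ∈ Z} hs')
  have hsmax : ∀ s' : S, f.base s' ∈ Z → s' ⤳ s → s' = s := by
    intro s' hs'Z hs's
    by_contra hne'
    have hlt : s < s' :=
      lt_iff_le_not_ge.mpr ⟨hs's, fun hge => hne' ((Specializes.antisymm hs's hge).eq)⟩
    have h1 := Order.coheight_add_one_le hlt
    have h2 := hmin s' hs'Z
    have hfin : ringKrullDim (S.presheaf.stalk s') < ⊤ := ringKrullDim_lt_top
    rw [ringKrullDim_stalk_eq_coheight s'] at hfin
    have h3 : Order.coheight s' ≠ ⊤ := by
      intro h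
      rw [h] at hfin
      exact lt_irrefl _ hfin
    obtain ⟨n, hn⟩ := ENat.ne_top_iff_exists.mp h3
    rw [← hn] at h1 h2
    have h4 := h1.trans h2
    have h5 : n + 1 ≤ n := by exact_mod_cast h4
    omega
  have hfib : ∀ s' : S, f s' = f s → s' ⤳ s → s' = s := fun s' h1 h2 =>
    hsmax s' (by
      have : f.base s' = f.base s := h1
      rw [this]; exact hsZ) h2
  obtain ⟨ξ, hξmax, hξs, hdim⟩ := stalk_dim_exists (isDimFun k S) s
  have h1 := rt_le_of_fibre_maximal k S X f hf ξ s hξmax hξs hfib
  have h2 := td_eq_add k S X f hf ξ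
  have h3 := td_eq_add k S X f hf s
  have h4 := td_le_dim_range k S X f hf ξ
  have h5 := h s hsZ
  rw [hdim] at h5
  have h6 : (td k S ξ - td k S s).toNat ≤ (td k X (f ξ)).toNat := by
    have := td_nonneg k X (f s)
    omega
  generalize topologicalKrullDim (Set.range f.base) = D at h4 h5
  induction D using WithBot.recBotCoe with
  | bot => simp at h4
  | coe e =>
    induction e using ENat.recTopCoe with
    | top =>
      have : ((⊤ : ℕ∞) : WithBot ℕ∞) + 1 = ((⊤ : ℕ∞) : WithBot ℕ∞) := rfl
      rw [this] at h5
      exact absurd h5 (by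
        rw [not_le]
        exact_mod_cast ENat.natCast_lt_top _)
    | coe m =>
      have h7 : (td k X (f ξ)).toNat ≤ m := by exact_mod_cast h4
      have h8 : m + 1 ≤ (td k S ξ - td k S s).toNat := by exact_mod_cast h5
      omega

end Groth.Agent.S14901
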