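import Groth.Statements.S14909
import Mathlib
-- import your own Groth.Agent.* helpers here

set_option autoImplicit false
universe u
open Neron

namespace Groth.Agent.S14909

section
open MvPowerSeries QuadraticAlgebra
/-- `p ∈ M^n`, `q ∈ I ⊔ M^k` gives `p*q ∈ I ⊔ M^(n+k)`. -/
theorem mul_mem_aux {S : Type*} [CommRing S] (I M : Ideal S) {p q : S} {n k : ℕ}
    (hp : p ∈ M ^ n) (hq : q ∈ I ⊔ M ^ k) : p * q ∈ I ⊔ M ^ (n + k) := by
  obtain ⟨i, hi, m, hm, rfl⟩ := Submodule.mem_sup.mp hq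
  rw [mul_add]
  refine Submodule.add_mem_sup (I.mul_mem_left _ hi) ?_
  rw [pow_add]
  exact Ideal.mul_mem_mul hp hm

theorem part1 (R : Type u) [CommRing R] [IsDomain R] [IsDiscreteValuationRing R]
    (ϖ a₁ a₆ : R) (hϖ : Irreducible ϖ) (v : ℕ) (hv : 1 ≤ v) (u₁ u₆ : Rˣ)
    (ha₁ : a₁ = u₁ * ϖ ^ v) (ha₆ : a₆ = u₆ * ϖ)
    (h2 : (2 : R) ∈ IsLocalRing.maximalIdeal R)
    (I M : Ideal (MvPowerSeries (Fin 2) R))
    (hI : I = Ideal.span {(X 1 : MvPowerSeries (Fin 2) R) ^ 2 + a₁ • (X 0 * X 1) - X 0 ^ 3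
        - algebraMap R (MvPowerSeries (Fin 2) R) a₆,
      2 * X 1 + a₁ • X 0, 3 * X 0 ^ 2 - a₁ • X 1})
    (hM : M = Ideal.span {algebraMap R (MvPowerSeries (Fin 2) R) ϖ, X 0, X 1}) (j : ℕ) :
    M ^ (j + 1) ⊔ I = Ideal.span {(X 1 : MvPowerSeries (Fin 2) R) ^ (j + 1), X 0 * X 1 ^ j} ⊔ I := by
  set x : MvPowerSeries (Fin 2) R := X 0 with hx
  set y : MvPowerSeries (Fin 2) R := X 1 with hy
  have hxM : x ∈ M := hM ▸ Ideal.subset_span (by simp)
  have hyM : y ∈ M := hM ▸ Ideal.subset_span (by simp)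
  have hpM : C ϖ ∈ M := hM ▸ Ideal.subset_span (by simp [MvPowerSeries.algebraMap_apply])
  have hf : y ^ 2 + a₁ • (x * y) - x ^ 3 - C a₆ ∈ I :=
    hI ▸ Ideal.subset_span (by simp [MvPowerSeries.algebraMap_apply])
  have hfx : 3 * x ^ 2 - a₁ • y ∈ I := hI ▸ Ideal.subset_span (by simp)
  -- ϖ ∈ I ⊔ M^2
  have hϖI : C ϖ ∈ I ⊔ M ^ 2 := by
    have e : (C ϖ : MvPowerSeries (Fin 2) R) =
        -(C (↑u₆⁻¹ : R) * (y ^ 2 + a₁ • (x * y) - x ^ 3 - C a₆))
          + C (↑u₆⁻¹ : R) * (y ^ 2 + a₁ • (x * y) - x ^ 3) := by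
      have : (C ϖ : MvPowerSeries (Fin 2) R) = C (↑u₆⁻¹ : R) * C a₆ := by
        rw [← map_mul, ha₆, ← mul_assoc, Units.inv_mul, one_mul]
      rw [this]; ring
    rw [e]
    refine Submodule.add_mem_sup (I.neg_mem (I.mul_mem_left _ hf)) ((M ^ 2).mul_mem_left _ ?_)
    have h1 : y ^ 2 ∈ M ^ 2 := Ideal.pow_mem_pow hyM 2
    have h2 : a₁ • (x * y) ∈ M ^ 2 := by
      rw [MvPowerSeries.smul_eq_C_mul, sq]
      exact (M * M).mul_mem_left _ (Ideal.mul_mem_mul hxM hyM)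
    have h3 : x ^ 3 ∈ M ^ 2 := by
      rw [pow_succ]
      exact (M ^ 2).mul_mem_right _ (Ideal.pow_mem_pow hxM 2)
    exact (M ^ 2).sub_mem ((M ^ 2).add_mem h1 h2) h3
  -- 3 is a unit
  have h3u : IsUnit (3 : R) := by
    rw [← IsLocalRing.notMem_maximalIdeal]
    intro h3
    have : (1 : R) ∈ IsLocalRing.maximalIdeal R := by
      have := (IsLocalRing.maximalIdeal R).sub_mem h3 h2
      norm_num at this
    exact (Ideal.ne_top_iff_one _).mp (IsLocalRing.maximalIdeal.isMaximal R).ne_top this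
  obtain ⟨u3, hu3⟩ := h3u
  obtain ⟨w, rfl⟩ : ∃ w, v = w + 1 := ⟨v - 1, by omega⟩
  -- x^2 ∈ I ⊔ M^3
  have hx2 : x ^ 2 ∈ I ⊔ M ^ 3 := by
    have hay : a₁ • y ∈ I ⊔ M ^ 3 := by
      have e : a₁ • y = (C (↑u₁ : R) * C ϖ ^ w) * (y * C ϖ) := by
        rw [MvPowerSeries.smul_eq_C_mul, ha₁, map_mul, map_pow, pow_succ]; ring
      rw [e]
      refine (I ⊔ M ^ 3).mul_mem_left _ ?_
      have := mul_mem_aux I M (n := 1) (k := 2) (by simpa using hyM) hϖI
      simpa using this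
    have e : x ^ 2 = C (↑u3⁻¹ : R) * ((3 * x ^ 2 - a₁ • y) + a₁ • y) := by
      have : (3 : MvPowerSeries (Fin 2) R) = C (↑u3 : R) := by
        rw [hu3]; exact (map_ofNat C 3).symm
      rw [sub_add_cancel, this, ← mul_assoc, ← map_mul, Units.inv_mul, map_one, one_mul]
    rw [e]
    refine (I ⊔ M ^ 3).mul_mem_left _ ((I ⊔ M ^ 3).add_mem ?_ hay)
    exact Ideal.mem_sup_left hfx
  have key : ∀ j : ℕ, M ^ (j + 1) ≤
      Ideal.span {y ^ (j + 1), x * y ^ j} ⊔ (I ⊔ M ^ (j + 2)) := by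
    intro j
    induction j with
    | zero =>
      rw [zero_add, pow_one]
      conv_lhs => rw [hM]
      rw [Ideal.span_le]
      intro z hz
      simp only [Set.mem_insert_iff, Set.mem_singleton_iff] at hz
      rcases hz with rfl | rfl | rfl
      · rw [MvPowerSeries.algebraMap_apply, Algebra.algebraMap_self, RingHom.id_apply]
        exact Ideal.mem_sup_right hϖI
      · exact Ideal.mem_sup_left (Ideal.subset_span (by simp))
      · exact Ideal.mem_sup_left (Ideal.subset_span (by simp))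
    | succ j ih =>
      have hyj : y ^ j ∈ M ^ j := Ideal.pow_mem_pow hyM j
      have hyj1 : y ^ (j + 1) ∈ M ^ (j + 1) := Ideal.pow_mem_pow hyM _
      have hxyj : x * y ^ j ∈ M ^ (j + 1) := by
        rw [pow_succ']
        exact Ideal.mul_mem_mul hxM hyj
      have c1 : y ^ (j + 1) * C ϖ ∈
          Ideal.span {y ^ (j + 1 + 1), x * y ^ (j + 1)} ⊔ (I ⊔ M ^ (j + 1 + 2)) :=
        Ideal.mem_sup_right (mul_mem_aux I M hyj1 hϖI)
      have c2 : y ^ (j + 1) * x ∈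
          Ideal.span {y ^ (j + 1 + 1), x * y ^ (j + 1)} ⊔ (I ⊔ M ^ (j + 1 + 2)) := by
        refine Ideal.mem_sup_left (Ideal.subset_span ?_)
        rw [mul_comm]; simp
      have c3 : y ^ (j + 1) * y ∈
          Ideal.span {y ^ (j + 1 + 1), x * y ^ (j + 1)} ⊔ (I ⊔ M ^ (j + 1 + 2)) := by
        refine Ideal.mem_sup_left (Ideal.subset_span ?_)
        rw [← pow_succ]; simp
      have c4 : x * y ^ j * C ϖ ∈
          Ideal.span {y ^ (j + 1 + 1), x * y ^ (j + 1)} ⊔ (I ⊔ M ^ (j + 1 + 2)) :=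
        Ideal.mem_sup_right (mul_mem_aux I M hxyj hϖI)
      have c5 : x * y ^ j * x ∈
          Ideal.span {y ^ (j + 1 + 1), x * y ^ (j + 1)} ⊔ (I ⊔ M ^ (j + 1 + 2)) := by
        have e : x * y ^ j * x = y ^ j * x ^ 2 := by ring
        rw [e]
        have := mul_mem_aux I M (n := j) (k := 3) hyj hx2
        rw [show j + 3 = j + 1 + 2 by omega] at this
        exact Ideal.mem_sup_right this
      have c6 : x * y ^ j * y ∈
          Ideal.span {y ^ (j + 1 + 1), x * y ^ (j + 1)} ⊔ (I ⊔ M ^ (j + 1 + 2)) := by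
        refine Ideal.mem_sup_left (Ideal.subset_span ?_)
        rw [mul_assoc, ← pow_succ]; simp
      have hG : Ideal.span {y ^ (j + 1), x * y ^ j} * M ≤
          Ideal.span {y ^ (j + 1 + 1), x * y ^ (j + 1)} ⊔ (I ⊔ M ^ (j + 1 + 2)) := by
        conv_lhs => rw [hM]
        rw [Ideal.span_mul_span', Ideal.span_le]
        intro z hz
        obtain ⟨s, hs, t, ht, rfl⟩ := Set.mem_mul.mp hz
        simp only [Set.mem_insert_iff, Set.mem_singleton_iff] at hs ht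
        rw [MvPowerSeries.algebraMap_apply, Algebra.algebraMap_self, RingHom.id_apply] at ht
        rcases hs with rfl | rfl <;> rcases ht with rfl | rfl | rfl
        · exact c1
        · exact c2
        · exact c3
        · exact c4
        · exact c5
        · exact c6
      have hI' : I * M ≤
          Ideal.span {y ^ (j + 1 + 1), x * y ^ (j + 1)} ⊔ (I ⊔ M ^ (j + 1 + 2)) :=
        le_trans Ideal.mul_le_left (le_trans le_sup_left le_sup_right)
      have hM' : M ^ (j + 2) * M ≤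
          Ideal.span {y ^ (j + 1 + 1), x * y ^ (j + 1)} ⊔ (I ⊔ M ^ (j + 1 + 2)) := by
        rw [← pow_succ]
        exact le_trans le_sup_right le_sup_right
      calc M ^ (j + 1 + 1) = M ^ (j + 1) * M := pow_succ _ _
        _ ≤ (Ideal.span {y ^ (j + 1), x * y ^ j} ⊔ (I ⊔ M ^ (j + 2))) * M :=
          Ideal.mul_mono_left ih
        _ = Ideal.span {y ^ (j + 1), x * y ^ j} * M ⊔ (I * M ⊔ M ^ (j + 2) * M) := by
          rw [Ideal.sup_mul, Ideal.sup_mul]
        _ ≤ _ := sup_le hG (sup_le hI' hM')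
  have hMjac : M ≤ Ideal.jacobson ⊥ := by
    rw [IsLocalRing.jacobson_eq_maximalIdeal ⊥ bot_ne_top, hM, Ideal.span_le]
    intro z hz
    simp only [Set.mem_insert_iff, Set.mem_singleton_iff] at hz
    rw [SetLike.mem_coe, IsLocalRing.mem_maximalIdeal, mem_nonunits_iff,
      MvPowerSeries.isUnit_iff_constantCoeff]
    rcases hz with rfl | rfl | rfl
    · rw [MvPowerSeries.algebraMap_apply, Algebra.algebraMap_self, RingHom.id_apply,
        MvPowerSeries.constantCoeff_C]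
      exact hϖ.not_isUnit
    · rw [hx, MvPowerSeries.constantCoeff_X]
      exact not_isUnit_zero
    · rw [hy, MvPowerSeries.constantCoeff_X]
      exact not_isUnit_zero
  have hMfg : M.FG := by
    rw [hM]; exact Submodule.fg_span (Set.toFinite _)
  have hIfg : I.FG := by
    rw [hI]; exact Submodule.fg_span (Set.toFinite _)
  refine le_antisymm ?_ ?_
  · refine Submodule.le_of_le_smul_of_le_jacobson_bot (I := M)
      (Submodule.FG.sup (Ideal.FG.pow hMfg) hIfg) hMjac ?_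
    refine sup_le ?_ (le_trans le_sup_right le_sup_left)
    refine le_trans (key j) (sup_le (le_trans le_sup_left le_sup_left) (sup_le
      (le_trans le_sup_right le_sup_left) ?_))
    refine le_trans ?_ le_sup_right
    rw [smul_eq_mul, show j + 2 = (j + 1) + 1 by ring, pow_succ']
    exact Ideal.mul_mono_right le_sup_left
  · refine sup_le ?_ le_sup_right
    refine le_trans ?_ le_sup_left
    rw [Ideal.span_le]
    intro z hz
    simp only [Set.mem_insert_iff, Set.mem_singleton_iff] at hz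
    rcases hz with rfl | rfl
    · exact Ideal.pow_mem_pow hyM _
    · rw [pow_succ']
      exact Ideal.mul_mem_mul hxM (Ideal.pow_mem_pow hyM j)
set_option linter.style.haveILetI false in
theorem exists_evalHom_of_isNilpotent {σ R T : Type*} [Finite σ] [CommRing R] [CommRing T]
    (φ : R →+* T) (a : σ → T) (ha : ∀ s, IsNilpotent (a s)) :
    ∃ Φ : MvPowerSeries σ R →+* T, (∀ r, Φ (C r) = φ r) ∧ ∀ s, Φ (X s) = a s := by
  letI : UniformSpace R := ⊥
  letI : UniformSpace T := ⊥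
  haveI : DiscreteTopology R := ⟨rfl⟩
  haveI : DiscreteTopology T := ⟨rfl⟩
  have hφ : Continuous φ := continuous_of_discreteTopology
  have hev : HasEval a := by
    refine ⟨fun s => ?_, ?_⟩
    · obtain ⟨n, hn⟩ := ha s
      refine tendsto_const_nhds.congr' ?_
      filter_upwards [Filter.eventually_ge_atTop n] with m hm
      exact (pow_eq_zero_of_le hm hn).symm
    · rw [Filter.cofinite_eq_bot]
      exact Filter.tendsto_bot
  refine ⟨eval₂Hom hφ hev, fun r => ?_, fun s => ?_⟩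
  · rw [coe_eval₂Hom, eval₂_C]
  · rw [coe_eval₂Hom, eval₂_X]

/-- the weight ideal -/
def JJ (R : Type u) [CommRing R] (c ϖ : R) (v : ℕ) (hc : ϖ ∣ c) :
    Ideal (QuadraticAlgebra (QuadraticAlgebra R c 0) 0 0) where
  carrier := {z | ϖ ^ (v + 1) ∣ z.re.re ∧ ϖ ^ v ∣ z.re.im ∧ ϖ ^ v ∣ z.im.re ∧ ϖ ^ v ∣ z.im.im}
  add_mem' := by
    rintro a b ⟨h1, h2, h3, h4⟩ ⟨g1, g2, g3, g4⟩
    exact ⟨by simpa using dvd_add h1 g1, by simpa using dvd_add h2 g2,
      by simpa using dvd_add h3 g3, by simpa using dvd_add h4 g4⟩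
  zero_mem' := by
    simp
  smul_mem' := by
    rintro a z ⟨h1, h2, h3, h4⟩
    have h1' : ϖ ^ v ∣ z.re.re := dvd_trans (pow_dvd_pow ϖ (Nat.le_succ v)) h1
    have hc2 : ∀ t : R, ϖ ^ v ∣ t → ϖ ^ (v + 1) ∣ c * t := by
      intro t ht
      rw [pow_succ, mul_comm c t]
      exact mul_dvd_mul ht hc
    simp only [smul_eq_mul, Set.mem_ofPred_eq, re_mul, im_mul, re_add, im_add, zero_mul, add_zero]
    refine ⟨?_, ?_, ?_, ?_⟩
    · refine dvd_add (Dvd.dvd.mul_left h1 _) ?_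
      rw [mul_assoc, mul_left_comm]
      exact Dvd.dvd.mul_left (hc2 _ h2) _
    · exact dvd_add (Dvd.dvd.mul_left h2 _) (Dvd.dvd.mul_left h1' _)
    · exact dvd_add (dvd_add (Dvd.dvd.mul_left h3 _) (Dvd.dvd.mul_left h4 _))
        (dvd_add (Dvd.dvd.mul_left h1' _) (Dvd.dvd.mul_left h2 _))
    · exact dvd_add (dvd_add (Dvd.dvd.mul_left h4 _) (Dvd.dvd.mul_left h3 _))
        (dvd_add (Dvd.dvd.mul_left h2 _) (Dvd.dvd.mul_left h1' _))

theorem mem_JJ (R : Type u) [CommRing R] (c ϖ : R) (v : ℕ) (hc : ϖ ∣ c)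
    (z : QuadraticAlgebra (QuadraticAlgebra R c 0) 0 0) :
    z ∈ JJ R c ϖ v hc ↔
      ϖ ^ (v + 1) ∣ z.re.re ∧ ϖ ^ v ∣ z.re.im ∧ ϖ ^ v ∣ z.im.re ∧ ϖ ^ v ∣ z.im.im := Iff.rfl

section
variable (R : Type u) [CommRing R] (c : R)

/-- image of `y` -/
def WW : QuadraticAlgebra (QuadraticAlgebra R c 0) 0 0 := ⟨⟨0, 1⟩, 0⟩
/-- image of `x` -/
def EE : QuadraticAlgebra (QuadraticAlgebra R c 0) 0 0 := ⟨0, 1⟩
/-- image of scalars -/
def AA : R →+* QuadraticAlgebra (QuadraticAlgebra R c 0) 0 0 :=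
  (algebraMap (QuadraticAlgebra R c 0) (QuadraticAlgebra (QuadraticAlgebra R c 0) 0 0)).comp
    (algebraMap R (QuadraticAlgebra R c 0))

theorem AA_apply (r : R) : AA R c r = ⟨⟨r, 0⟩, 0⟩ := rfl

theorem WW_mul_WW : WW R c * WW R c = AA R c c := by
  ext <;> simp [WW, AA_apply]

theorem EE_mul_EE : EE R c * EE R c = 0 := by
  ext <;> simp [EE]

theorem WW_pow_even (k : ℕ) : WW R c ^ (2 * k) = AA R c (c ^ k) := by
  rw [pow_mul, sq, WW_mul_WW, map_pow]

theorem WW_pow_odd (k : ℕ) : WW R c ^ (2 * k + 1) = AA R c (c ^ k) * WW R c := by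
  rw [pow_succ, WW_pow_even]

end

theorem part2 (R : Type u) [CommRing R] [IsDomain R] [IsDiscreteValuationRing R]
    (ϖ a₁ a₆ : R) (hϖ : Irreducible ϖ) (w : ℕ) (u₁ u₆ : Rˣ)
    (ha₁ : a₁ = u₁ * ϖ ^ (w + 1)) (ha₆ : a₆ = u₆ * ϖ)
    (h2 : ϖ ^ (w + 1) ∣ (2 : R))
    (I : Ideal (MvPowerSeries (Fin 2) R))
    (hI : I = Ideal.span {(X 1 : MvPowerSeries (Fin 2) R) ^ 2 + a₁ • (X 0 * X 1) - X 0 ^ 3
        - algebraMap R (MvPowerSeries (Fin 2) R) a₆,
      2 * X 1 + a₁ • X 0, 3 * X 0 ^ 2 - a₁ • X 1}) (a b : R)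
    (h : a • (X 1 : MvPowerSeries (Fin 2) R) ^ (2 * (w + 1)) + b • (X 0 * X 1 ^ (2 * w + 1)) ∈
      Ideal.span {(X 1 : MvPowerSeries (Fin 2) R) ^ (2 * (w + 1) + 1), X 0 * X 1 ^ (2 * (w + 1))} ⊔ I) :
    ϖ ∣ a ∧ ϖ ∣ b := by
  have hc : ϖ ∣ (u₆ : R) * ϖ := Dvd.intro_left _ rfl
  set c : R := (u₆ : R) * ϖ with hcdef
  set J := JJ R c ϖ (w + 1) hc with hJ
  have hnil : ∀ s : Fin 2, IsNilpotent
      ((![Ideal.Quotient.mk J (EE R c), Ideal.Quotient.mk J (WW R c)] : Fin 2 → _) s) := by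
    intro s
    fin_cases s
    · refine ⟨2, ?_⟩
      simp only [Fin.zero_eta, Fin.isValue, Matrix.cons_val_zero]
      rw [← map_pow, sq, EE_mul_EE, map_zero]
    · refine ⟨2 * (w + 1) + 1, ?_⟩
      simp only [Fin.mk_one, Fin.isValue, Matrix.cons_val_one, Matrix.cons_val_zero]
      rw [← map_pow, Ideal.Quotient.eq_zero_iff_mem, WW_pow_odd, hJ, mem_JJ]
      simp only [AA_apply, WW, re_mul, im_mul, re_zero, im_zero, mul_zero, zero_mul, add_zero,
        mul_one, zero_add, dvd_zero, true_and, and_true]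
      exact pow_dvd_pow_of_dvd hc _
  obtain ⟨Φ, hΦC, hΦX⟩ := exists_evalHom_of_isNilpotent
    ((Ideal.Quotient.mk J).comp (AA R c)) _ hnil
  have hΦx : Φ (X 0) = Ideal.Quotient.mk J (EE R c) := by
    rw [hΦX]; simp
  have hΦy : Φ (X 1) = Ideal.Quotient.mk J (WW R c) := by
    rw [hΦX]; simp
  have hΦs : ∀ (r : R) (p : MvPowerSeries (Fin 2) R),
      Φ (r • p) = Ideal.Quotient.mk J (AA R c r) * Φ p := by
    intro r p
    rw [MvPowerSeries.smul_eq_C_mul, map_mul, hΦC]; rfl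
  obtain ⟨d, hd⟩ := h2
  -- generators of I are killed
  have hf : Φ ((X 1 : MvPowerSeries (Fin 2) R) ^ 2 + a₁ • (X 0 * X 1) - X 0 ^ 3
        - algebraMap R (MvPowerSeries (Fin 2) R) a₆) = 0 := by
    have e : Φ ((X 1 : MvPowerSeries (Fin 2) R) ^ 2 + a₁ • (X 0 * X 1) - X 0 ^ 3
        - algebraMap R (MvPowerSeries (Fin 2) R) a₆) = Ideal.Quotient.mk J
          (WW R c ^ 2 + AA R c a₁ * (EE R c * WW R c) - EE R c ^ 3 - AA R c a₆) := by
      rw [MvPowerSeries.algebraMap_apply, Algebra.algebraMap_self, RingHom.id_apply]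
      simp only [map_sub, map_add, map_mul, map_pow, hΦx, hΦy, hΦs, hΦC, RingHom.comp_apply]
    rw [e, Ideal.Quotient.eq_zero_iff_mem, hJ, mem_JJ]
    simp only [AA_apply, WW, EE, sq, pow_succ, pow_zero, one_mul, re_mul, im_mul, re_sub, im_sub,
      re_add, im_add, re_zero, im_zero, re_one, im_one,
      mul_zero, zero_mul, add_zero, mul_one, zero_add, sub_zero, dvd_zero, true_and, and_true]
    refine ⟨?_, ?_⟩
    · rw [ha₆, sub_self]; exact dvd_zero _
    · rw [ha₁, pow_succ]; exact Dvd.intro_left _ rfl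
  have hfy : Φ (2 * (X 1 : MvPowerSeries (Fin 2) R) + a₁ • X 0) = 0 := by
    have e : Φ (2 * (X 1 : MvPowerSeries (Fin 2) R) + a₁ • X 0) = Ideal.Quotient.mk J
          (2 * WW R c + AA R c a₁ * EE R c) := by
      simp only [map_add, map_mul, hΦx, hΦy, hΦs, map_ofNat]
    rw [e, Ideal.Quotient.eq_zero_iff_mem, hJ, mem_JJ]
    simp only [AA_apply, WW, EE, re_mul, im_mul, re_add, im_add, re_zero, im_zero, re_one, im_one,
      re_ofNat, im_ofNat,
      mul_zero, zero_mul, add_zero, mul_one, zero_add, dvd_zero, true_and, and_true]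
    exact ⟨⟨d, hd⟩, by rw [ha₁]; exact Dvd.intro_left _ rfl⟩
  have hfx : Φ (3 * (X 0 : MvPowerSeries (Fin 2) R) ^ 2 - a₁ • X 1) = 0 := by
    have e : Φ (3 * (X 0 : MvPowerSeries (Fin 2) R) ^ 2 - a₁ • X 1) = Ideal.Quotient.mk J
          (3 * EE R c ^ 2 - AA R c a₁ * WW R c) := by
      simp only [map_sub, map_mul, map_pow, hΦx, hΦy, hΦs, map_ofNat]
    rw [e, sq (EE R c), EE_mul_EE, Ideal.Quotient.eq_zero_iff_mem, hJ, mem_JJ]
    simp only [AA_apply, WW, re_mul, im_mul, re_sub, im_sub, re_zero, im_zero, re_neg, im_neg,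
      mul_zero, zero_mul, add_zero, mul_one, zero_add, sub_zero, zero_sub, dvd_zero, true_and,
      and_true, sub_self, dvd_neg, neg_zero]
    rw [ha₁]; exact Dvd.intro_left _ rfl
  have hg1 : Φ ((X 1 : MvPowerSeries (Fin 2) R) ^ (2 * (w + 1) + 1)) = 0 := by
    rw [map_pow, hΦy, ← map_pow, Ideal.Quotient.eq_zero_iff_mem, WW_pow_odd, hJ, mem_JJ]
    simp only [AA_apply, WW, re_mul, im_mul, re_zero, im_zero, mul_zero, zero_mul, add_zero,
      mul_one, dvd_zero, true_and, and_true]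
    exact pow_dvd_pow_of_dvd hc _
  have hg2 : Φ ((X 0 : MvPowerSeries (Fin 2) R) * X 1 ^ (2 * (w + 1))) = 0 := by
    rw [map_mul, map_pow, hΦx, hΦy, ← map_pow, ← map_mul, Ideal.Quotient.eq_zero_iff_mem,
      WW_pow_even, hJ, mem_JJ]
    simp only [AA_apply, EE, re_mul, im_mul, re_zero, im_zero, re_one, im_one, mul_zero, zero_mul,
      add_zero, mul_one, one_mul, zero_add, dvd_zero, true_and, and_true]
    exact pow_dvd_pow_of_dvd hc _
  have hker : Ideal.span {(X 1 : MvPowerSeries (Fin 2) R) ^ (2 * (w + 1) + 1),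
      X 0 * X 1 ^ (2 * (w + 1))} ⊔ I ≤ RingHom.ker Φ := by
    refine sup_le ?_ ?_
    · rw [Ideal.span_le]
      intro z hz
      simp only [Set.mem_insert_iff, Set.mem_singleton_iff] at hz
      rcases hz with rfl | rfl
      · exact hg1
      · exact hg2
    · rw [hI, Ideal.span_le]
      intro z hz
      simp only [Set.mem_insert_iff, Set.mem_singleton_iff] at hz
      rcases hz with rfl | rfl | rfl
      · exact hf
      · exact hfy
      · exact hfx
  have h0 := hker h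
  rw [RingHom.mem_ker] at h0
  have e : Φ (a • (X 1 : MvPowerSeries (Fin 2) R) ^ (2 * (w + 1)) + b • (X 0 * X 1 ^ (2 * w + 1)))
      = Ideal.Quotient.mk J (AA R c a * AA R c (c ^ (w + 1)) +
          AA R c b * (EE R c * (AA R c (c ^ w) * WW R c))) := by
    rw [← WW_pow_even, ← WW_pow_odd]
    simp only [map_add, map_mul, map_pow, hΦx, hΦy, hΦs]
  rw [e, Ideal.Quotient.eq_zero_iff_mem, hJ, mem_JJ] at h0
  simp only [AA_apply, WW, EE, re_mul, im_mul, re_add, im_add, re_zero, im_zero, re_one, im_one,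
    mul_zero, zero_mul, add_zero, mul_one, one_mul, zero_add, dvd_zero, true_and, and_true] at h0
  have hϖ0 : ϖ ≠ 0 := hϖ.ne_zero
  obtain ⟨ha, hb⟩ := h0
  constructor
  · have e1 : a * c ^ (w + 1) = ϖ ^ (w + 1) * (a * (u₆ : R) ^ (w + 1)) := by
      rw [hcdef, mul_pow]; ring
    rw [e1, pow_succ ϖ (w + 1), mul_dvd_mul_iff_left (pow_ne_zero _ hϖ0)] at ha
    exact (IsUnit.dvd_mul_right (u₆.isUnit.pow _)).mp ha
  · have e1 : b * c ^ w = ϖ ^ w * (b * (u₆ : R) ^ w) := by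
      rw [hcdef, mul_pow]; ring
    rw [e1, pow_succ ϖ w, mul_dvd_mul_iff_left (pow_ne_zero _ hϖ0)] at hb
    exact (IsUnit.dvd_mul_right (u₆.isUnit.pow _)).mp hb

end

/-- Let R be a discrete valuation ring with uniformizer ϖ, let a₁, a₆ ∈ R with a₁ of valuation v ≥ 1, a₆
of valuation 1, and 2 of valuation at least v (so the residue characteristic is 2; 2 = 0 is
allowed). In the power series ring S = R[[x, y]] let M = (ϖ, x, y) be the maximal ideal and I the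
ideal generated by y² + a₁xy − x³ − a₆, 2y + a₁x and 3x² − a₁y, so that S/I is a local ring with
maximal ideal m = M/I. Then the classes of y^(2v) and x·y^(2v−1) form a basis of the vector space
m^(2v)/m^(2v+1) over the residue field: M^(2v) + I = (y^(2v), x·y^(2v−1)) + I, and whenever a·y^(2v)
+ b·x·y^(2v−1) ∈ M^(2v+1) + I with a, b ∈ R, both a and b lie in the maximal ideal of R. (Generation
holds with any exponent i ≥ 1 in place of 2v: M^i + I = (y^i, x·y^(i−1)) + I.) -/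
theorem result (R : Type u) [CommRing R] [IsDomain R] [IsDiscreteValuationRing R]
    (ϖ a₁ a₆ : R) (hϖ : Irreducible ϖ) (v : ℕ) (hv : 1 ≤ v) (u₁ u₆ : Rˣ) (ha₁ : a₁ = u₁ * ϖ ^ v) (ha₆ : a₆ = u₆ * ϖ)
    (h2 : (2 : R) ∈ IsLocalRing.maximalIdeal R ^ v)
    (x y : MvPowerSeries (Fin 2) R) (hx : x = MvPowerSeries.X 0) (hy : y = MvPowerSeries.X 1)
    (I M : Ideal (MvPowerSeries (Fin 2) R))
    (hI : I = Ideal.span {y ^ 2 + a₁ • (x * y) - x ^ 3 - algebraMap R (MvPowerSeries (Fin 2) R) a₆,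
      2 * y + a₁ • x, 3 * x ^ 2 - a₁ • y})
    (hM : M = Ideal.span {algebraMap R (MvPowerSeries (Fin 2) R) ϖ, x, y}) :
    M ^ (2 * v) ⊔ I = Ideal.span {y ^ (2 * v), x * y ^ (2 * v - 1)} ⊔ I ∧
      ∀ a b : R, a • y ^ (2 * v) + b • (x * y ^ (2 * v - 1)) ∈ M ^ (2 * v + 1) ⊔ I →
        a ∈ IsLocalRing.maximalIdeal R ∧ b ∈ IsLocalRing.maximalIdeal R := by
  subst hx hy
  obtain ⟨w, rfl⟩ : ∃ w, v = w + 1 := ⟨v - 1, by omega⟩
  have hmax : IsLocalRing.maximalIdeal R = Ideal.span {ϖ} := hϖ.maximalIdeal_eq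
  have h2' : ϖ ^ (w + 1) ∣ (2 : R) := by
    rw [hmax, Ideal.span_singleton_pow, Ideal.mem_span_singleton] at h2
    exact h2
  have h2'' : (2 : R) ∈ IsLocalRing.maximalIdeal R :=
    Ideal.pow_le_self (Nat.succ_ne_zero w) h2
  have e1 : 2 * (w + 1) = (2 * w + 1) + 1 := by ring
  have e2 : 2 * (w + 1) - 1 = 2 * w + 1 := by omega
  refine ⟨?_, ?_⟩
  · rw [e2, e1]
    exact part1 R ϖ a₁ a₆ hϖ (w + 1) (Nat.succ_pos w) u₁ u₆ ha₁ ha₆ h2'' I M hI hM (2 * w + 1)
  · intro a b h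
    rw [part1 R ϖ a₁ a₆ hϖ (w + 1) (Nat.succ_pos w) u₁ u₆ ha₁ ha₆ h2'' I M hI hM (2 * (w + 1)),
      e2] at h
    have := part2 R ϖ a₁ a₆ hϖ w u₁ u₆ ha₁ ha₆ h2' I hI a b h
    rw [hmax, Ideal.mem_span_singleton, Ideal.mem_span_singleton]
    exact this

end Groth.Agent.S14909
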