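import Groth.Statements.S1491
import Groth.Agent.Lib.LCIHom
import Mathlib.AlgebraicGeometry.AffineScheme

set_option autoImplicit false
universe u
attribute [local instance] HasDerivedCategory.standard
open FlatMor

namespace Groth.Agent.S1491

open AlgebraicGeometry CategoryTheory Limits in
/-- Let f : X → Y and g : Y → Z be local complete intersection morphisms, in the affine-local sense that
all ring maps between affine opens are local complete intersection homomorphisms. Then f ≫ g is a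
local complete intersection morphism. -/
theorem result {X Y Z : Scheme.{u}} (f : X ⟶ Y) (g : Y ⟶ Z)
    (hf : (∀ (U : X.Opens) (V : Y.Opens) (hU : IsAffineOpen U) (hV : IsAffineOpen V) (hUV : U ≤ f ⁻¹ᵁ V),
        letI := (f.appLE V U hUV).hom.toAlgebra
        LCI.IsLCI Γ(Y, V) Γ(X, U)))
    (hg : (∀ (U : Y.Opens) (V : Z.Opens) (hU : IsAffineOpen U) (hV : IsAffineOpen V) (hUV : U ≤ g ⁻¹ᵁ V),
        letI := (g.appLE V U hUV).hom.toAlgebra
        LCI.IsLCI Γ(Z, V) Γ(Y, U))) :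
    (∀ (U : X.Opens) (V : Z.Opens) (hU : IsAffineOpen U) (hV : IsAffineOpen V) (hUV : U ≤ (f ≫ g) ⁻¹ᵁ V),
        letI := ((f ≫ g).appLE V U hUV).hom.toAlgebra
        LCI.IsLCI Γ(Z, V) Γ(X, U)) := by
  intro U V hU hV hUV
  show Groth.Agent.Lib.LCIMaps.LCIHom ((f ≫ g).appLE V U hUV).hom
  have key : ∀ x : X, x ∈ U → ∃ h : Γ(X, U), x ∈ X.basicOpen h ∧
      Groth.Agent.Lib.LCIMaps.LCIHom
        ((X.presheaf.map (homOfLE (X.basicOpen_le h)).op).hom.comp
          ((f ≫ g).appLE V U hUV).hom) := by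
    intro x hx
    have hfx : f x ∈ g ⁻¹ᵁ V := by
      have := hUV hx
      simpa using this
    obtain ⟨_, ⟨W, hW, rfl⟩, hxW, hWV⟩ :=
      Y.isBasis_affineOpens.exists_subset_of_mem_open hfx (g ⁻¹ᵁ V).isOpen
    have hWV' : W ≤ g ⁻¹ᵁ V := hWV
    obtain ⟨h, hhle, hxh⟩ := hU.exists_basicOpen_le (V := U ⊓ f ⁻¹ᵁ W) ⟨x, ⟨hx, hxW⟩⟩ hx
    refine ⟨h, hxh, ?_⟩
    have hD : IsAffineOpen (X.basicOpen h) := hU.basicOpen h
    have hDW : X.basicOpen h ≤ f ⁻¹ᵁ W := hhle.trans inf_le_right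
    have h1 : Groth.Agent.Lib.LCIMaps.LCIHom (f.appLE W (X.basicOpen h) hDW).hom :=
      hf _ _ hD hW hDW
    have h2 : Groth.Agent.Lib.LCIMaps.LCIHom (g.appLE V W hWV').hom := hg _ _ hW hV hWV'
    have h3 := h2.comp h1
    have h4 : (f.appLE W (X.basicOpen h) hDW).hom.comp (g.appLE V W hWV').hom =
        (X.presheaf.map (homOfLE (X.basicOpen_le h)).op).hom.comp
          ((f ≫ g).appLE V U hUV).hom := by
      rw [← CommRingCat.hom_comp, ← CommRingCat.hom_comp, Scheme.Hom.appLE_comp_appLE,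
        Scheme.Hom.appLE_map]
    rwa [h4] at h3
  choose! hh hxh hL using key
  let s : Set Γ(X, U) := {h | ∃ x, x ∈ U ∧ h = hh x}
  have hs : Ideal.span s = ⊤ := by
    rw [← hU.self_le_iSup_basicOpen_iff]
    intro x hx
    rw [TopologicalSpace.Opens.mem_iSup]
    exact ⟨⟨hh x, x, hx, rfl⟩, hxh x hx⟩
  obtain ⟨s', hs's, hs'⟩ := (Ideal.span_eq_top_iff_finite s).mp hs
  let gfun : Fin s'.card → Γ(X, U) := fun i => (s'.equivFin.symm i : Γ(X, U))
  have hrange : Set.range gfun = ↑s' := by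
    ext y
    constructor
    · rintro ⟨i, rfl⟩
      exact (s'.equivFin.symm i).2
    · intro hy
      exact ⟨s'.equivFin ⟨y, hy⟩, by simp [gfun]⟩
  refine Groth.Agent.Lib.LCIMaps.LCIHom.of_span_eq_top _ s'.card gfun (by rw [hrange]; exact hs')
    (fun j => Γ(X, X.basicOpen (gfun j)))
    (fun j => (X.presheaf.map (homOfLE (X.basicOpen_le (gfun j))).op).hom)
    (fun j => hU.isLocalization_basicOpen (gfun j)) (fun j => ?_)
  obtain ⟨x, hx, hgx⟩ := hs's (s'.equivFin.symm j).2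
  have hgx' : gfun j = hh x := hgx
  rw [hgx']
  exact hL x hx

end Groth.Agent.S1491

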