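import Groth.Statements.S14914
import Groth.Agent.Lib.H80Perfection

set_option autoImplicit false
universe u
open CategoryTheory AlgebraicGeometry
open PerfSch

namespace Groth.Agent.S14914

/-- Let p be a prime and let X, Y, X', Y' be schemes of characteristic p (p = 0 in the structure sheaf).
Let π_X : X' ⟶ X and π_Y : Y' ⟶ Y be perfections: X' is perfect (its absolute Frobenius is an
isomorphism) and every morphism from a perfect scheme of characteristic p to X factors uniquely
through π_X, and likewise for π_Y. Let f : X ⟶ Y be a morphism and f' : X' ⟶ Y' the induced morphism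
of perfections, the one with f' ≫ π_Y = π_X ≫ f. Then f is quasi-separated if and only if f' is
quasi-separated. -/
theorem result (p : ℕ) [Fact p.Prime] {X Y XP YP : Scheme.{u}}
    [FrobSch.IsCharP X p] [FrobSch.IsCharP Y p] [FrobSch.IsCharP XP p] [FrobSch.IsCharP YP p]
    (πX : XP ⟶ X) (πY : YP ⟶ Y) (hX : FrobSch.IsPerfection πX p) (hY : FrobSch.IsPerfection πY p)
    (f : X ⟶ Y) (fP : XP ⟶ YP) (w : fP ≫ πY = πX ≫ f) :
    AlgebraicGeometry.QuasiSeparated f ↔ AlgebraicGeometry.QuasiSeparated fP := by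
  have hπX := Groth.Agent.Lib.H80Perfection.isAffineHom_of_isPerfection hX
  have hπY := Groth.Agent.Lib.H80Perfection.isAffineHom_of_isPerfection hY
  have hhX := Groth.Agent.Lib.H80Perfection.isHomeomorph_of_isPerfection hX
  constructor
  · intro hf
    have h1 : QuasiSeparated (fP ≫ πY) := by
      rw [w]; infer_instance
    exact QuasiSeparated.of_comp fP πY
  · intro hfP
    have h1 : QuasiSeparated (πX ≫ f) := by
      rw [← w]; infer_instance
    rw [HasAffineProperty.iff_of_iSup_eq_top (P := @QuasiSeparated) (fun U : Y.affineOpens => U) (iSup_affineOpens_eq_top Y)] at h1 ⊢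
    intro U
    have h2 := h1 U
    -- `(πX ≫ f) ⁻¹ᵁ U` is a quasi-separated space, homeomorphic to `f ⁻¹ᵁ U`
    change QuasiSeparatedSpace ((πX ≫ f) ⁻¹ᵁ U.1 : XP.Opens) at h2
    change QuasiSeparatedSpace (f ⁻¹ᵁ U.1 : X.Opens)
    have h2' : IsQuasiSeparated (((πX ≫ f) ⁻¹ᵁ U.1 : XP.Opens) : Set XP) :=
      (isQuasiSeparated_iff_quasiSeparatedSpace _ ((πX ≫ f) ⁻¹ᵁ U.1).2).mpr h2
    refine (isQuasiSeparated_iff_quasiSeparatedSpace _ (f ⁻¹ᵁ U.1).2).mp ?_
    have h3 : ((f ⁻¹ᵁ U.1 : X.Opens) : Set X) = πX '' ((πX ≫ f) ⁻¹ᵁ U.1 : XP.Opens) := by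
      ext x
      constructor
      · intro hx
        obtain ⟨x', rfl⟩ := hhX.surjective x
        exact ⟨x', by simpa using hx, rfl⟩
      · rintro ⟨x', hx', rfl⟩
        simpa using hx'
    change IsQuasiSeparated ((f ⁻¹ᵁ U.1 : X.Opens) : Set X)
    rw [h3]
    exact h2'.image_of_isEmbedding hhX.isEmbedding

end Groth.Agent.S14914
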