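import Groth.Statements.S1492
import Groth.Agent.Lib.LCIDescent

set_option autoImplicit false
universe u
attribute [local instance] HasDerivedCategory.standard
open FlatMor

namespace Groth.Agent.S1492

open AlgebraicGeometry CategoryTheory Limits in
/-- Let S' → S be flat, surjective and quasi-compact and f' : X' → S' the base change of f : X → S. If
f' is a local complete intersection morphism (affine-locally: local complete intersection ring maps)
then so is f. -/
theorem result {X S X' S' : Scheme.{u}} (f : X ⟶ S) (f' : X' ⟶ S') (g' : X' ⟶ X) (g : S' ⟶ S)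
    [Flat g] [Surjective g] [QuasiCompact g] (hc : IsPullback g' f' f g)
    (hf' : (∀ (U : X'.Opens) (V : S'.Opens) (hU : IsAffineOpen U) (hV : IsAffineOpen V) (hUV : U ≤ f' ⁻¹ᵁ V),
        letI := (f'.appLE V U hUV).hom.toAlgebra
        LCI.IsLCI Γ(S', V) Γ(X', U))) :
    (∀ (U : X.Opens) (V : S.Opens) (hU : IsAffineOpen U) (hV : IsAffineOpen V) (hUV : U ≤ f ⁻¹ᵁ V),
        letI := (f.appLE V U hUV).hom.toAlgebra
        LCI.IsLCI Γ(S, V) Γ(X, U)) := by
  intro U V hU hV hUV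
  show Groth.Agent.Lib.LCIMaps.LCIHom (f.appLE V U hUV).hom
  -- a finite affine cover of `g⁻¹ V`
  have hK : IsCompact (X := S') (g ⁻¹ᵁ V) :=
    QuasiCompact.isCompact_preimage (f := g) V.1 V.2 hV.isCompact
  obtain ⟨s, hsfin, hsK⟩ := isCompact_iff_finite_and_eq_biUnion_affineOpens.mp hK
  have := hsfin.to_subtype
  let e : Fin (Nat.card s) ≃ s := (Finite.equivFin s).symm
  let W : Fin (Nat.card s) → S'.Opens := fun i => ((e i).1 : S'.Opens)
  have hW : ∀ i, IsAffineOpen (W i) := fun i => (e i).1.2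
  have hle : ∀ i, W i ≤ g ⁻¹ᵁ V := fun i => by
    rw [hsK]
    exact le_iSup₂ (f := fun (j : S'.affineOpens) (_ : j ∈ s) => (j : S'.Opens)) (e i).1 (e i).2
  let U' : Fin (Nat.card s) → X'.Opens := fun i => g' ⁻¹ᵁ U ⊓ f' ⁻¹ᵁ (W i)
  have hU' : ∀ i, IsAffineOpen (U' i) := fun i => by
    have : IsAffine (V : Scheme.{u}) := hV
    have : IsAffine (W i : Scheme.{u}) := hW i
    have : IsAffine (U : Scheme.{u}) := hU
    exact .of_isIso (Scheme.Hom.isPullback_resLE hc (hle i) hUV rfl).isoPullback.hom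
  have hpo : ∀ i, IsPushout (f.appLE V U hUV) (g.appLE V (W i) (hle i))
      (g'.appLE U (U' i) inf_le_left) (f'.appLE (W i) (U' i) inf_le_right) := fun i =>
    (isIso_pushoutSection_iff hc (hle i) hUV rfl).mp
      (isIso_pushoutSection_of_isAffineOpen hc (hle i) hUV rfl hV (hW i) hU)
  refine Groth.Agent.Lib.LCIDescent.lciHom_of_family (f.appLE V U hUV).hom
    (fun i => Γ(S', W i)) (fun i => Γ(X', U' i))
    (fun i => (g.appLE V (W i) (hle i)).hom) (fun i => (g'.appLE U (U' i) inf_le_left).hom)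
    (fun i => (f'.appLE (W i) (U' i) inf_le_right).hom) (fun i => hpo i)
    (fun i => g.flat_appLE hV (hW i) (hle i)) ?_
    (fun i => hf' (U' i) (W i) (hU' i) (hW i) inf_le_right)
  intro 𝔭
  obtain ⟨y, hy⟩ : ∃ y : V, hV.primeIdealOf y = 𝔭 :=
    ⟨hV.isoSpec.inv 𝔭, by
      show hV.isoSpec.hom (hV.isoSpec.inv 𝔭) = 𝔭
      rw [← Scheme.Hom.comp_apply, Iso.inv_hom_id]
      rfl⟩
  obtain ⟨y', hy'⟩ := g.surjective y.1
  have hy'K : y' ∈ g ⁻¹ᵁ V := by
    show g y' ∈ V
    rw [hy']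
    exact y.2
  rw [hsK] at hy'K
  simp only [TopologicalSpace.Opens.mem_iSup] at hy'K
  obtain ⟨j, hj, hy'j⟩ := hy'K
  have hmem : y' ∈ W (e.symm ⟨j, hj⟩) := by
    show y' ∈ ((e (e.symm ⟨j, hj⟩)).1 : S'.Opens)
    rw [Equiv.apply_symm_apply]
    exact hy'j
  refine ⟨e.symm ⟨j, hj⟩, (hW _).primeIdealOf ⟨y', hmem⟩, ?_⟩
  rw [IsAffineOpen.comap_primeIdealOf_appLE V hV _ (hW _) (hle _), ← hy]
  congr 1
  exact Subtype.ext hy'

end Groth.Agent.S1492
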