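import Groth.Statements.S14932
import Groth.Agent.Lib.H73FrobSch

set_option autoImplicit false
universe u
open CategoryTheory CategoryTheory.Limits AlgebraicGeometry
open Variety

namespace Groth.Agent.S14932

/-- the twist-then-relative-Frobenius composite is the absolute Frobenius of the twist -/
theorem fst_relFrob {X S : Scheme.{u}} (f : X ⟶ S) (p : ℕ) [Fact p.Prime] [FrobSch.IsCharP S p] :
    pullback.fst f (FrobSch.frob S p) ≫ FrobSch.relFrob f p =
      FrobSch.frob (FrobSch.frobTwist f p) p := by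
  haveI : FrobSch.IsCharP X p := FrobSch.IsCharP.of_hom f p
  apply pullback.hom_ext
  · rw [Category.assoc, FrobSch.relFrob_fst, FrobSch.frob_comp]
  · rw [Category.assoc, FrobSch.relFrob_snd, pullback.condition, FrobSch.frob_comp]

theorem relFrob_surjective {X S : Scheme.{u}} (f : X ⟶ S) (p : ℕ) [Fact p.Prime]
    [FrobSch.IsCharP S p] : Function.Surjective (FrobSch.relFrob f p) := by
  intro y
  refine ⟨pullback.fst f (FrobSch.frob S p) y, ?_⟩
  rw [← Scheme.Hom.comp_apply, fst_relFrob]
  rfl

theorem fst_relFrob_apply {X S : Scheme.{u}} (f : X ⟶ S) (p : ℕ) [Fact p.Prime]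
    [FrobSch.IsCharP S p] (x : X) :
    pullback.fst f (FrobSch.frob S p) (FrobSch.relFrob f p x) = x := by
  haveI : FrobSch.IsCharP X p := FrobSch.IsCharP.of_hom f p
  rw [← Scheme.Hom.comp_apply, FrobSch.relFrob_fst]
  rfl

theorem irreducibleSpace_frobTwist {X S : Scheme.{u}} (f : X ⟶ S) (p : ℕ) [Fact p.Prime]
    [FrobSch.IsCharP S p] [IrreducibleSpace X] : IrreducibleSpace (FrobSch.frobTwist f p) := by
  have h1 : IsIrreducible (Set.univ : Set X) := (irreducibleSpace_def X).mp inferInstance
  have h2 := h1.image (FrobSch.relFrob f p) (FrobSch.relFrob f p).continuous.continuousOn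
  rw [Set.image_univ, (relFrob_surjective f p).range_eq] at h2
  exact (irreducibleSpace_def _).mpr h2

theorem isIntegral_frobTwist (k : Type u) [Field k]
    (p : ℕ) [Fact p.Prime] [CharP k p] (X : Scheme.{u}) [X.Over (Spec (CommRingCat.of k))]
    [IsIntegral X] [GeometricallyReduced (X ↘ (Spec (CommRingCat.of k)))] :
    IsIntegral (FrobSch.frobTwist (X ↘ (Spec (CommRingCat.of k))) p) := by
  haveI : IsReduced (FrobSch.frobTwist (X ↘ (Spec (CommRingCat.of k))) p) :=
    pullback_of_geometrically
      (GeometricallyReduced.geometrically_isReduced (f := X ↘ (Spec (CommRingCat.of k)))) k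
      (FrobSch.frob (Spec (CommRingCat.of k)) p)
  haveI := irreducibleSpace_frobTwist (X ↘ (Spec (CommRingCat.of k))) p
  exact isIntegral_of_irreducibleSpace_of_isReduced _


/-- a copy of the field `k`, to carry the algebra structure given by the Frobenius -/
def FK (k : Type u) : Type u := k

noncomputable instance (k : Type u) [Field k] : Field (FK k) := inferInstanceAs (Field k)

open MvPolynomial in
attribute [local instance] MvPolynomial.algebraMvPolynomial in
theorem finrank_relFrob (k K' A0 A : Type u) [Field k] [Field K'] [Algebra k K'] (p : ℕ) [NeZero p]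
    (ι : K' ≃+* k)
    [CommRing A0] [IsDomain A0] [Algebra k A0] [Algebra.FiniteType k A0]
    [CommRing A] [IsDomain A] [Algebra K' A] [Algebra k A] [Algebra A0 A]
    [IsScalarTower k K' A] [IsScalarTower k A0 A] [Algebra.IsPushout k K' A0 A]
    (ψ : A →+* A0) (hψ1 : ∀ a : A0, ψ (algebraMap A0 A a) = a ^ p)
    (hψ2 : ∀ c : K', ψ (algebraMap K' A c) = algebraMap k A0 (ι c)) :
    Function.Injective ψ ∧ ∃ s : ℕ, ringKrullDim A0 = s ∧
      (letI := ψ.toAlgebra; Module.finrank A A0 = p ^ s) := by
  obtain ⟨s, g, hginj, hgfin⟩ := exists_finite_inj_algHom_of_fg k A0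
  let P0 := MvPolynomial (Fin s) k
  let P := MvPolynomial (Fin s) K'
  let t : Fin s → A := fun i => algebraMap A0 A (g (X i))
  let j : P →ₐ[K'] A := aeval t
  have hj : ∀ p0 : P0, j (map (algebraMap k K') p0) = algebraMap A0 A (g p0) := by
    intro p0
    induction p0 using MvPolynomial.induction_on with
    | C c =>
      rw [map_C, ← algebraMap_eq, ← algebraMap_eq, AlgHom.commutes, AlgHom.commutes,
        ← IsScalarTower.algebraMap_apply, ← IsScalarTower.algebraMap_apply]
    | add x y hx hy => rw [map_add, map_add, hx, hy, map_add, map_add]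
    | mul_X x i hx =>
      rw [map_mul, map_mul, hx, map_X, aeval_X, map_mul, map_mul]
  -- the map θ
  let θ : P →+* P0 := ((expand p : P0 →ₐ[k] P0) : P0 →+* P0).comp (map (ι : K' →+* k))
  have hθinj : Function.Injective θ := by
    intro x y hxy
    have h1 : map (ι : K' →+* k) x = map (ι : K' →+* k) y := expand_injective (NeZero.pos p) hxy
    exact map_injective _ ι.injective h1
  have hcomm : ∀ x : P, ψ (j x) = g (θ x) := by
    intro x
    have h1 : (ψ.comp (j : P →+* A)) = (g : P0 →+* A0).comp θ := by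
      apply MvPolynomial.ringHom_ext
      · intro c
        show ψ (j (C c)) = g (expand p (map (ι : K' →+* k) (C c)))
        rw [map_C, ← algebraMap_eq, ← algebraMap_eq, AlgHom.commutes, hψ2]
        have e1 : (expand p : P0 →ₐ[k] P0) (algebraMap k P0 (ι c)) = algebraMap k P0 (ι c) :=
          AlgHom.commutes _ _
        rw [RingHom.coe_coe, e1, AlgHom.commutes]
      · intro i
        show ψ (j (X i)) = g (expand p (map (ι : K' →+* k) (X i)))
        rw [map_X, expand_X, map_pow, show j (X i) = t i from aeval_X t i]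
        exact hψ1 _
    exact congrArg (fun f => f x) h1
  have hjinj : Function.Injective j := by
    intro x y hxy
    apply hθinj
    apply hginj
    rw [← hcomm, ← hcomm, hxy]
  -- algebra structures
  letI aP0A0 : Algebra P0 A0 := RingHom.toAlgebra (g : P0 →+* A0)
  letI aPA : Algebra P A := RingHom.toAlgebra (j : P →+* A)
  letI aP0A : Algebra P0 A := RingHom.toAlgebra ((algebraMap A0 A).comp (g : P0 →+* A0))
  haveI t1 : IsScalarTower P0 A0 A := .of_algebraMap_eq' rfl
  haveI t2 : IsScalarTower P0 P A := .of_algebraMap_eq (fun x => (hj x).symm)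
  haveI t3 : IsScalarTower k P0 A0 := .of_algebraMap_eq (fun x => (g.commutes x).symm)
  haveI t4 : IsScalarTower K' P A := .of_algebraMap_eq (fun x => (j.commutes x).symm)
  haveI t5 : IsScalarTower k P A := .of_algebraMap_eq (fun x => by
    rw [IsScalarTower.algebraMap_apply k K' A, IsScalarTower.algebraMap_apply k K' P,
      ← IsScalarTower.algebraMap_apply K' P A])
  have po1 : Algebra.IsPushout k A0 K' A := Algebra.IsPushout.symm inferInstance
  have po2 : Algebra.IsPushout P0 A0 P A :=
    (Algebra.IsPushout.comp_iff k P0 K' (S' := P) (T := A0) (T' := A)).mp po1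
  have po3 : Algebra.IsPushout P0 P A0 A := po2.symm
  have hbc : IsBaseChange P (IsScalarTower.toAlgHom P0 A0 A).toLinearMap := po3.out
  have hrank : Module.finrank P A = Module.finrank P0 A0 := hbc.finrank_eq
  have hfin0 : Module.Finite P0 A0 := hgfin
  have hinjP0A0 : Function.Injective (algebraMap P0 A0) := hginj
  haveI : FaithfulSMul P0 A0 := (faithfulSMul_iff_algebraMap_injective _ _).mpr hinjP0A0
  haveI : FaithfulSMul P A := (faithfulSMul_iff_algebraMap_injective _ _).mpr hjinj
  haveI : Algebra.IsIntegral P0 A0 := Algebra.IsIntegral.of_finite _ _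
  have hfin : Module.Finite P A := Module.Finite.equiv hbc.equiv
  haveI : Algebra.IsIntegral P A := Algebra.IsIntegral.of_finite _ _
  -- dimension
  have hdim : ringKrullDim A0 = s := by
    rw [← Groth.Agent.Lib.H73FrobDeg.ringKrullDim_eq_of_isIntegral_of_injective hinjP0A0,
      MvPolynomial.ringKrullDim_of_isNoetherianRing, ringKrullDim_eq_zero_of_field]
    simp
  -- injectivity of ψ
  have hψinj : Function.Injective ψ := by
    rw [injective_iff_map_eq_zero]
    intro a ha
    by_contra hne
    have hI : RingHom.ker ψ ≠ ⊥ := by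
      intro h
      have : a ∈ RingHom.ker ψ := ha
      rw [h] at this
      exact hne this
    apply hI
    apply Ideal.eq_bot_of_comap_eq_bot (R := P)
    rw [eq_bot_iff]
    intro x hx
    rw [Ideal.mem_comap, RingHom.mem_ker] at hx
    have h2 : g (θ x) = 0 := by rw [← hcomm]; exact hx
    have h3 : θ x = 0 := hginj (by rw [h2, map_zero])
    exact hθinj (by rw [h3, map_zero])
  refine ⟨hψinj, s, hdim, ?_⟩
  letI aAA0 : Algebra A A0 := ψ.toAlgebra
  letI aPP0 : Algebra P P0 := θ.toAlgebra
  letI aPA0 : Algebra P A0 := RingHom.toAlgebra (ψ.comp (j : P →+* A))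
  haveI : IsScalarTower P P0 A0 := IsScalarTower.of_algebraMap_eq (fun x => hcomm x)
  haveI : IsScalarTower P A A0 := IsScalarTower.of_algebraMap_eq (fun x => rfl)
  haveI : FaithfulSMul A A0 := (faithfulSMul_iff_algebraMap_injective _ _).mpr hψinj
  have h0 : Module.finrank P A ≠ 0 := (Module.finrank_pos).ne'
  have hsq := Groth.Agent.Lib.H73FrobDeg.finrank_eq_of_square P P0 A A0 hrank h0
  rw [← hsq]
  letI := Groth.Agent.Lib.H73FrobDeg.expandAlgebra s p k
  rw [← Groth.Agent.Lib.H73FrobDeg.finrank_expand s p k]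
  refine Algebra.finrank_eq_of_equiv_equiv (MvPolynomial.mapEquiv (Fin s) ι)
    (RingEquiv.refl P0 : P0 ≃+* Groth.Agent.Lib.H73FrobDeg.Copy P0) ?_
  rfl



theorem relFrob_generic {X S : Scheme.{u}} (f : X ⟶ S) (p : ℕ) [Fact p.Prime]
    [FrobSch.IsCharP S p] [IsIntegral X] [IsIntegral (FrobSch.frobTwist f p)] :
    FrobSch.relFrob f p (genericPoint X) = genericPoint (FrobSch.frobTwist f p) := by
  have h : IsGenericPoint (FrobSch.relFrob f p (genericPoint X))
      (Set.univ : Set (FrobSch.frobTwist f p)) := by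
    have h1 := (genericPoint_spec X).image (FrobSch.relFrob f p).continuous
    rw [Set.image_univ, (relFrob_surjective f p).range_eq, closure_univ] at h1
    exact h1
  exact h.eq (genericPoint_spec _)


theorem degree_general (k : Type u) [Field k] (p : ℕ) [NeZero p] {X Y : Scheme.{u}}
    [IsIntegral X] [IsIntegral Y]
    (f : X ⟶ Spec (CommRingCat.of k)) [LocallyOfFiniteType f]
    (FS : Spec (CommRingCat.of k) ⟶ Spec (CommRingCat.of k)) (W : Y ⟶ X)
    (q : Y ⟶ Spec (CommRingCat.of k)) (hπ : IsPullback W q f FS) (R : X ⟶ Y) (hRq : R ≫ q = f)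
    (hle : ∀ U : X.Opens, U ≤ (R ≫ W) ⁻¹ᵁ U)
    (hRW : ∀ (U : X.Opens) (s : Γ(X, U)), ((R ≫ W).appLE U U (hle U)).hom s = s ^ p)
    (hRgen : R (genericPoint X) = genericPoint Y)
    (d : ℕ) (hd : topologicalKrullDim X = d) : R.residueDegree (genericPoint X) = p ^ d := by
  obtain ⟨U, hU, hηU, -⟩ :=
    (TopologicalSpace.Opens.isBasis_iff_nbhd.mp X.isBasis_affineOpens)
      (TopologicalSpace.Opens.mem_top (genericPoint X))
  have hWaff : IsAffineHom W := MorphismProperty.of_isPullback hπ.flip inferInstance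
  have hV : IsAffineOpen (W ⁻¹ᵁ U) := hU.preimage W
  have hUR : U ≤ R ⁻¹ᵁ (W ⁻¹ᵁ U) := hle U
  have hηV : R (genericPoint X) ∈ W ⁻¹ᵁ U := hUR hηU
  haveI hneU : Nonempty U := ⟨⟨_, hηU⟩⟩
  haveI hneV : Nonempty (W ⁻¹ᵁ U : Y.Opens) := ⟨⟨_, hηV⟩⟩
  have e0 : U ≤ f ⁻¹ᵁ ⊤ := le_top
  have P := Groth.Agent.Lib.ThickeningBC.isPushout_appLE hπ (isAffineOpen_top _) hU e0
  have e1 : W ⁻¹ᵁ U ≤ q ⁻¹ᵁ (FS ⁻¹ᵁ ⊤) := le_top
  let A0 := Γ(X, U)
  let A := Γ(Y, W ⁻¹ᵁ U)
  letI akA0 : Algebra k A0 := ((Scheme.ΓSpecIso (.of k)).inv ≫ f.appLE ⊤ U e0).hom.toAlgebra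
  let φK : k →+* FK k :=
    ((Scheme.ΓSpecIso (.of k)).inv ≫ FS.app ⊤ ≫ (Scheme.ΓSpecIso (.of k)).hom).hom
  letI akK' : Algebra k (FK k) := φK.toAlgebra
  letI aA0A : Algebra A0 A := (W.app U).hom.toAlgebra
  let φA : FK k →+* A := ((Scheme.ΓSpecIso (.of k)).inv ≫ q.appLE _ (W ⁻¹ᵁ U) e1).hom
  letI aK'A : Algebra (FK k) A := φA.toAlgebra
  letI akA : Algebra k A :=
    ((Scheme.ΓSpecIso (.of k)).inv ≫ f.appLE ⊤ U e0 ≫ W.app U).hom.toAlgebra
  have t1 : IsScalarTower k A0 A := .of_algebraMap_eq' rfl
  have P' : IsPushout (CommRingCat.ofHom (algebraMap k (FK k)))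
      (CommRingCat.ofHom (algebraMap k A0))
      (CommRingCat.ofHom (algebraMap (FK k) A)) (CommRingCat.ofHom (algebraMap A0 A)) := by
    have hinv : ∀ x : Γ(Spec (CommRingCat.of k), ⊤),
        (Scheme.ΓSpecIso (CommRingCat.of k)).inv.hom
          ((Scheme.ΓSpecIso (CommRingCat.of k)).hom.hom x) = x := fun x => by simp
    refine P.flip.of_iso (Scheme.ΓSpecIso (.of k))
      (show Γ(Spec (CommRingCat.of k), FS ⁻¹ᵁ ⊤) ≅ CommRingCat.of (FK k) from
        Scheme.ΓSpecIso (.of k)) (Iso.refl _) (Iso.refl _) ?_ ?_ ?_ ?_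
    · ext x
      simp only [RingHom.algebraMap_toAlgebra, CommRingCat.hom_comp, CommRingCat.hom_ofHom,
        RingHom.comp_apply]
      exact congrArg _ (congrArg _ (hinv x).symm)
    · ext x
      simp [RingHom.algebraMap_toAlgebra]
    · ext x
      simp only [RingHom.algebraMap_toAlgebra, CommRingCat.hom_comp, CommRingCat.hom_ofHom,
        RingHom.comp_apply, Iso.refl_hom, Category.comp_id]
      exact congrArg _ (hinv x).symm
    · ext x
      simp [RingHom.algebraMap_toAlgebra]
  have t2 : IsScalarTower k (FK k) A := .of_algebraMap_eq' (by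
    have h := congr(($P'.w).hom)
    exact h.symm)
  have po : Algebra.IsPushout k (FK k) A0 A := CommRingCat.isPushout_iff_isPushout.mp P'
  have ft : Algebra.FiniteType k A0 := by
    have h1 : (f.appLE ⊤ U e0).hom.FiniteType := f.finiteType_appLE (isAffineOpen_top _) hU e0
    have h2 : ((Scheme.ΓSpecIso (.of k)).inv).hom.FiniteType :=
      RingHom.FiniteType.of_surjective _
        (Scheme.ΓSpecIso (.of k)).symm.commRingCatIsoToRingEquiv.surjective
    exact h1.comp h2
  have hc1 : q.appLE _ (W ⁻¹ᵁ U) e1 ≫ R.appLE (W ⁻¹ᵁ U) U hUR = f.appLE ⊤ U e0 := by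
    rw [Scheme.Hom.appLE_comp_appLE, Groth.Agent.Lib.H73FrobSch.appLE_congr_hom hRq]
    rfl
  have hc2 : W.app U ≫ R.appLE (W ⁻¹ᵁ U) U hUR = (R ≫ W).appLE U U (hle U) := by
    rw [Scheme.Hom.app_eq_appLE, Scheme.Hom.appLE_comp_appLE]
  let ψ : A →+* A0 := (R.appLE (W ⁻¹ᵁ U) U hUR).hom
  have hψ1 : ∀ a : A0, ψ (algebraMap A0 A a) = a ^ p := by
    intro a
    have := congr(($hc2).hom a)
    simp only [CommRingCat.hom_comp, RingHom.comp_apply] at this
    rw [hRW] at this
    exact this
  let ι : FK k ≃+* k := RingEquiv.refl k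
  have hψ2 : ∀ c : FK k, ψ (algebraMap (FK k) A c) = algebraMap k A0 (ι c) := by
    intro c
    have := congr(($hc1).hom ((Scheme.ΓSpecIso (.of k)).inv.hom c))
    exact this
  obtain ⟨hψinj, s, hs, hfin⟩ := finrank_relFrob k (FK k) A0 A p ι ψ hψ1 hψ2
  -- dimension
  have hsd : s = d := by
    letI : X.Over (Spec (CommRingCat.of k)) := ⟨f⟩
    haveI : LocallyOfFiniteType (X ↘ Spec (CommRingCat.of k)) := ‹LocallyOfFiniteType f›
    have hdense : Dense ((U : X.Opens) : Set X) := U.2.dense ⟨_, hηU⟩
    have h1 : topologicalKrullDim X = s := by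
      rw [← Groth.Agent.Lib.H8DenseDim.dim_dense_open k X _ U.2 hdense]
      exact (Groth.Agent.Lib.DimDominant97.topologicalKrullDim_affineOpen _ hU).trans hs
    rw [hd] at h1
    exact_mod_cast h1.symm
  subst hsd
  rw [← hfin]
  unfold Scheme.Hom.residueDegree
  have hev : ∀ r, (X.evaluation U (genericPoint X) hηU).hom ((R.appLE (W ⁻¹ᵁ U) U hUR).hom r) =
      (R.residueFieldMap (genericPoint X)).hom
        ((Y.evaluation (W ⁻¹ᵁ U) (R (genericPoint X)) hηV).hom r) :=
    Groth.Agent.Lib.DimIneqScheme.evaluation_appLE R hUR _ hηU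
  letI aAB : Algebra A A0 := ψ.toAlgebra
  letI aKL : Algebra (Y.residueField (R (genericPoint X))) (X.residueField (genericPoint X)) :=
    (R.residueFieldMap (genericPoint X)).hom.toAlgebra
  letI aAK : Algebra A (Y.residueField (R (genericPoint X))) :=
    (Y.evaluation (W ⁻¹ᵁ U) (R (genericPoint X)) hηV).hom.toAlgebra
  letI aBL : Algebra A0 (X.residueField (genericPoint X)) :=
    RingHom.toAlgebra (X.evaluation U (genericPoint X) hηU).hom
  letI aAL : Algebra A (X.residueField (genericPoint X)) :=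
    RingHom.toAlgebra ((X.evaluation U (genericPoint X) hηU).hom.comp ψ)
  haveI t1 : IsScalarTower A A0 (X.residueField (genericPoint X)) := .of_algebraMap_eq' rfl
  haveI t2 : IsScalarTower A (Y.residueField (R (genericPoint X)))
      (X.residueField (genericPoint X)) := .of_algebraMap_eq' (RingHom.ext hev)
  haveI f1 : IsFractionRing A (Y.residueField (R (genericPoint X))) :=
    Groth.Agent.Lib.H73FrobSch.isFractionRing_evaluation (W ⁻¹ᵁ U) hV _ hηV hRgen
  haveI f2 : IsFractionRing A0 (X.residueField (genericPoint X)) :=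
    Groth.Agent.Lib.H73FrobSch.isFractionRing_evaluation U hU _ hηU rfl
  exact IsFractionRing.finrank_eq A (Y.residueField (R (genericPoint X))) A0
    (X.residueField (genericPoint X))

theorem frob_appLE {X : Scheme.{u}} (p : ℕ) [Fact p.Prime] [FrobSch.IsCharP X p] (U : X.Opens)
    (e : U ≤ (FrobSch.frob X p) ⁻¹ᵁ U) (s : Γ(X, U)) :
    ((FrobSch.frob X p).appLE U U e).hom s = s ^ p := by
  have h1 : (FrobSch.frob X p).appLE U U e = (FrobSch.frob X p).app U := by
    rw [Scheme.Hom.app_eq_appLE]
    rfl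
  rw [h1]
  rfl


/-- Let k be a field of characteristic p > 0 and X a variety over k (an integral scheme, separated and
of finite type over k) which is geometrically reduced over k, of dimension d. Then the Frobenius
twist X^(p) = X ×_{Spec k, F_k} Spec k, the base change of X along the absolute Frobenius of Spec k,
is an integral scheme, and the relative Frobenius F_{X/k} : X → X^(p) has degree p^d: the residue
field of the generic point of X is an extension of degree p^d of the residue field of its image in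
X^(p). (The published item also says that X^(p) is separated and of finite type over k and that
F_{X/k} is finite and dominant; these hold for every base change of a separated morphism of finite
type, respectively for the relative Frobenius of every scheme locally of finite type over a base of
characteristic p, and are not restated. It also states the equivalence of: X^(p) reduced, X
geometrically reduced, X has a nonempty open smooth over k; that equivalence is not part of this
row.) -/
theorem result (k : Type u) [Field k]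
    (p : ℕ) [Fact p.Prime] [CharP k p] (X : Scheme.{u}) [X.Over (Spec (CommRingCat.of k))] [IsIntegral X]
    [IsSeparated (X ↘ (Spec (CommRingCat.of k)))] [LocallyOfFiniteType (X ↘ (Spec (CommRingCat.of k)))] [QuasiCompact (X ↘ (Spec (CommRingCat.of k)))]
    [GeometricallyReduced (X ↘ (Spec (CommRingCat.of k)))] (d : ℕ) (hd : topologicalKrullDim X = d) :
    IsIntegral (FrobSch.frobTwist (X ↘ (Spec (CommRingCat.of k))) p) ∧
      (FrobSch.relFrob (X ↘ (Spec (CommRingCat.of k))) p).residueDegree (genericPoint X) = p ^ d := by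
  haveI hint := isIntegral_frobTwist k p X
  refine ⟨hint, ?_⟩
  haveI : FrobSch.IsCharP X p := FrobSch.IsCharP.of_hom (X ↘ (Spec (CommRingCat.of k))) p
  haveI : NeZero p := ⟨(Fact.out : p.Prime).ne_zero⟩
  have hle : ∀ U : X.Opens, U ≤ (FrobSch.relFrob (X ↘ (Spec (CommRingCat.of k))) p ≫
      pullback.fst (X ↘ (Spec (CommRingCat.of k))) (FrobSch.frob (Spec (CommRingCat.of k)) p)) ⁻¹ᵁ U := by
    intro U x hx
    show (FrobSch.relFrob (X ↘ (Spec (CommRingCat.of k))) p ≫
      pullback.fst (X ↘ (Spec (CommRingCat.of k))) (FrobSch.frob (Spec (CommRingCat.of k)) p)) x ∈ U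
    rw [Scheme.Hom.comp_apply, fst_relFrob_apply]
    exact hx
  refine degree_general k p (X ↘ (Spec (CommRingCat.of k)))
    (FrobSch.frob (Spec (CommRingCat.of k)) p)
    (pullback.fst (X ↘ (Spec (CommRingCat.of k))) (FrobSch.frob (Spec (CommRingCat.of k)) p))
    (pullback.snd (X ↘ (Spec (CommRingCat.of k))) (FrobSch.frob (Spec (CommRingCat.of k)) p))
    (IsPullback.of_hasPullback _ _) (FrobSch.relFrob (X ↘ (Spec (CommRingCat.of k))) p)
    (FrobSch.relFrob_snd _ p) hle ?_ (relFrob_generic _ p) d hd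
  intro U s
  rw [Groth.Agent.Lib.H73FrobSch.appLE_congr_hom
    (FrobSch.relFrob_fst (X ↘ (Spec (CommRingCat.of k))) p)]
  exact frob_appLE p U _ s

end Groth.Agent.S14932
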