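import Groth.Statements.S14933
import Groth.Agent.Lib.OmegaDer81G
import Groth.Agent.Lib.OmegaDer81H

set_option autoImplicit false
universe u
open CategoryTheory CategoryTheory.Limits AlgebraicGeometry
open Variety

namespace Groth.Agent.S14933

open Groth.Agent.Lib.OmegaDer81 Groth.Agent.Lib.QCohStalk FrobSch

section
variable (p : ℕ) [Fact p.Prime] {X S : Scheme.{u}} [FrobSch.IsCharP S p] (f : X ⟶ S)

/-- every `S`-derivation kills the functions pulled back along the relative Frobenius -/
theorem der_kills_relFrob {F : X.Modules} (D : OmegaSh.Der f F)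
    (V' : (frobTwist f p).Opens) (c' : Γ(frobTwist f p, V')) :
    D.app (relFrob f p ⁻¹ᵁ V') ((relFrob f p).app V' c') = 0 := by
  haveI : IsCharP X p := IsCharP.of_hom f p
  let D₀ : OmegaSh.Der (relFrob f p ≫ pullback.snd f (frob S p)) F :=
    (sameDer_of_eq (relFrob_snd f p).symm).der D
  let E : OmegaSh.Der (pullback.snd f (frob S p)) ((Scheme.Modules.pushforward (relFrob f p)).obj F) :=
    pushDer (relFrob f p) D₀
  change E.app V' c' = 0
  apply der_eq_zero_of_charts E
  intro y
  -- choose charts
  obtain ⟨_, ⟨V, hV, rfl⟩, hyV, -⟩ :=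
    S.isBasis_affineOpens.exists_subset_of_mem_open
      (Set.mem_univ (pullback.snd f (frob S p) y)) isOpen_univ
  have hw : f (pullback.fst f (frob S p) y) = pullback.snd f (frob S p) y := by
    have := congrArg (fun g : frobTwist f p ⟶ S => g y) (pullback.condition (f := f) (g := frob S p))
    simp only [Scheme.Hom.comp_apply] at this
    rw [this]
    rfl
  obtain ⟨_, ⟨U, hU, rfl⟩, hyU, hUV⟩ :=
    X.isBasis_affineOpens.exists_subset_of_mem_open
      (show pullback.fst f (frob S p) y ∈ f ⁻¹ᵁ V from by
        change f (pullback.fst f (frob S p) y) ∈ V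
        rw [hw]; exact hyV) (f ⁻¹ᵁ V).isOpen
  have hsq : IsPullback (pullback.fst f (frob S p)) (pullback.snd f (frob S p)) f (frob S p) :=
    IsPullback.of_hasPullback f (frob S p)
  have hVV : V ≤ frob S p ⁻¹ᵁ V := le_refl _
  refine ⟨pullback.fst f (frob S p) ⁻¹ᵁ U ⊓ pullback.snd f (frob S p) ⁻¹ᵁ V, ⟨hyU, hyV⟩,
    isAffineOpen_pullbackChart f (frob S p) _ _ hsq hV hV hU hVV hUV, ?_⟩
  have hpo := isPushout_pullbackChart f (frob S p) _ _ hsq hV hV hU hVV hUV
  have hcl := CommRingCat.closure_range_union_range_eq_top_of_isPushout hpo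
  set W' := pullback.fst f (frob S p) ⁻¹ᵁ U ⊓ pullback.snd f (frob S p) ⁻¹ᵁ V with hW'
  -- the subring killed by `E`
  let K : Subring Γ(frobTwist f p, W') :=
    { carrier := {x | E.app W' x = 0}
      mul_mem' := by
        intro a b ha hb
        change E.app W' (a * b) = 0
        rw [der_app_mul, show E.app W' a = 0 from ha, show E.app W' b = 0 from hb, smul_zero,
          smul_zero, add_zero]
      one_mem' := der_app_one E W'
      add_mem' := by
        intro a b ha hb
        change E.app W' (a + b) = 0
        rw [map_add, show E.app W' a = 0 from ha, show E.app W' b = 0 from hb, add_zero]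
      zero_mem' := map_zero _
      neg_mem' := by
        intro a ha
        change E.app W' (-a) = 0
        rw [map_neg, show E.app W' a = 0 from ha, neg_zero] }
  have hK : (⊤ : Subring Γ(frobTwist f p, W')) ≤ K := by
    rw [← hcl, Subring.closure_le]
    rintro x (⟨a, rfl⟩ | ⟨c, rfl⟩)
    · -- image of `fst`
      change E.app W' ((pullback.fst f (frob S p)).appLE U W' inf_le_left a) = 0
      change D.app (relFrob f p ⁻¹ᵁ W')
        ((relFrob f p).app W' ((pullback.fst f (frob S p)).appLE U W' inf_le_left a)) = 0
      have h1 : (relFrob f p).app W' ((pullback.fst f (frob S p)).appLE U W' inf_le_left a) =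
          ((pullback.fst f (frob S p)).appLE U W' inf_le_left ≫
            (relFrob f p).appLE W' (relFrob f p ⁻¹ᵁ W') le_rfl) a := by
        rw [Scheme.Hom.appLE_eq_app]; rfl
      rw [h1, Scheme.Hom.appLE_comp_appLE]
      have e' : relFrob f p ⁻¹ᵁ W' ≤ U := by
        intro x hx
        have h3 : pullback.fst f (frob S p) (relFrob f p x) ∈ U := hx.1
        rw [← Scheme.Hom.comp_apply, relFrob_fst] at h3
        exact h3
      have h2 : ∀ (g : X ⟶ X) (hg : g = frob X p) (e : relFrob f p ⁻¹ᵁ W' ≤ g ⁻¹ᵁ U),
          g.appLE U (relFrob f p ⁻¹ᵁ W') e a = (resO X e' a) ^ p := by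
        intro g hg e
        subst hg
        change resO X e' (a ^ p) = _
        exact resO_pow X e' a p
      rw [h2 _ (relFrob_fst f p)]
      exact der_app_pow_of_natCast_eq_zero D _ _ p (natCast_eq_zero_app X p _)
    · -- image of `snd`
      change E.app W' ((pullback.snd f (frob S p)).appLE V W' inf_le_right c) = 0
      have h1 : (pullback.snd f (frob S p)).appLE V W' inf_le_right c =
          resO (frobTwist f p) (inf_le_right : W' ≤ pullback.snd f (frob S p) ⁻¹ᵁ V)
            ((pullback.snd f (frob S p)).app V c) := rfl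
      rw [h1, der_app_map, der_app_app]
      exact res_zero _ _
  intro s
  exact hK (Subring.mem_top s)

theorem sameDer_relFrob : SameDer f (relFrob f p) := by
  constructor
  · intro F D V' c'
    exact der_kills_relFrob p f D V' c'
  · intro F D V c
    exact der_app_app
      ((sameDer_of_eq (relFrob_snd f p)).der (derComp (pullback.snd f (frob S p)) D)) V c

end

/-- Let p be a prime, S a scheme of characteristic p (p is zero in the structure sheaf) and f : X → S a
morphism of schemes, with relative Frobenius F_{X/S} : X → X^(p) = X ×_{S,F_S} S over S. Then the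
sheaf of differentials of X over S is also the sheaf of differentials of X over X^(p): if Ω is an
O_X-module and d : O_X → Ω a universal S-derivation, then d kills every section coming from X^(p),
i.e. there is a derivation O_X → Ω relative to F_{X/S} with the same values as d, and that
derivation is universal among derivations relative to F_{X/S}. -/
theorem result (p : ℕ) [Fact p.Prime]
    {X S : Scheme.{u}} [FrobSch.IsCharP S p] (f : X ⟶ S)
    (Ω : X.Modules) (d : OmegaSh.Der f Ω) (hd : OmegaSh.IsUniversal d) :
    ∃ d' : OmegaSh.Der (FrobSch.relFrob f p) Ω,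
      (∀ (U : X.Opens) (s : Γ(X, U)), d'.app U s = d.app U s) ∧ OmegaSh.IsUniversal d' := by
  have hs := sameDer_relFrob p f
  exact ⟨hs.der d, fun U s => rfl, hs.isUniversal d hd⟩

end Groth.Agent.S14933
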