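import Groth.Statements.S14955
import Groth.Agent.S14950

set_option autoImplicit false
universe u
open TensorProduct
open EtAlg

namespace Groth.Agent.S14955


/-- Let B' = B ×_A A' be a fibre product of commutative rings with A' → A surjective. Then the square is
also a pushout of commutative rings: the canonical map B ⊗_{B'} A' → A is an isomorphism. -/
theorem result (B' B A' A : Type u) [CommRing B'] [CommRing B] [CommRing A'] [CommRing A]
    [Algebra B' B] [Algebra B' A'] [Algebra B A] [Algebra A' A] [Algebra B' A] [IsScalarTower B' B A] [IsScalarTower B' A' A]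
    (hsq : EtMil.IsFibreSquare B' B A' A) : Algebra.IsPushout B' B A' A := by
  constructor
  have hsurj := Groth.Agent.S14950.surjective_algebraMap hsq
  have hone : ∀ t : B ⊗[B'] A', ∃ a' : A', t = (1 : B) ⊗ₜ[B'] a' := by
    intro t
    induction t using TensorProduct.induction_on with
    | zero => exact ⟨0, by simp⟩
    | tmul b a' =>
      obtain ⟨b', rfl⟩ := hsurj b
      refine ⟨b' • a', ?_⟩
      rw [← TensorProduct.smul_tmul, Algebra.smul_def, mul_one]
    | add x y hx hy =>
      obtain ⟨a₁, rfl⟩ := hx
      obtain ⟨a₂, rfl⟩ := hy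
      exact ⟨a₁ + a₂, by rw [TensorProduct.tmul_add]⟩
  unfold IsBaseChange IsTensorProduct
  constructor
  · rw [injective_iff_map_eq_zero]
    intro t ht
    obtain ⟨a', rfl⟩ := hone t
    rw [TensorProduct.lift.tmul] at ht
    have ha' : algebraMap A' A a' = 0 := by
      simpa using ht
    obtain ⟨j, ⟨hj1, hj2⟩, _⟩ := hsq.2 0 a' (by rw [map_zero, ha'])
    rw [← hj2, Algebra.algebraMap_eq_smul_one, ← TensorProduct.smul_tmul, Algebra.smul_def, hj1, zero_mul,
      TensorProduct.zero_tmul]
  · intro a
    obtain ⟨a', rfl⟩ := hsq.1 a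
    refine ⟨(1 : B) ⊗ₜ[B'] a', ?_⟩
    rw [TensorProduct.lift.tmul]
    simp

end Groth.Agent.S14955
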