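import Groth.Statements.S14956
import Groth.Agent.S14949
import Groth.Agent.S14952
import Groth.Agent.S14954
import Groth.Agent.Lib.Azumaya16Descent

set_option autoImplicit false
universe u
open TensorProduct
open Brauer

namespace Groth.Agent.S14956

open Groth.Agent.Lib.Azumaya16

/-- Fibre data over a field `K` which is an algebra over `S`, for an algebra `D` over `R` whose base change
to `S` is Azumaya. -/
theorem fibre_data {R : Type u} [CommRing R] (S : Type u) [CommRing S] [Algebra R S]
    (D : Type u) [Ring D] [Algebra R D] [Module.Finite R D] [Module.Projective R D]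
    [IsAzumaya S (S ⊗[R] D)]
    (K : Type u) [Field K] [Algebra R K] [Algebra S K] [IsScalarTower R S K] :
    Nontrivial (K ⊗[R] D) ∧ Function.Bijective ((lr R D).baseChange K) := by
  constructor
  · have hAz : IsAzumaya K (K ⊗[S] (S ⊗[R] D)) := isAzumaya_baseChange S K (S ⊗[R] D)
    have hnt := nontrivial_of_isAzumaya_field K (K ⊗[S] (S ⊗[R] D))
    exact (AlgebraTensorModule.cancelBaseChange R S K K D).symm.toEquiv.nontrivial
  · have h1 : Function.Bijective (lr S (S ⊗[R] D)) :=
      ((isAzumaya_iff S (S ⊗[R] D)).1 inferInstance).2.2.2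
    rw [bijective_lr_baseChange_iff R S D (tensorProduct_bijective_of_finite_projective R S D D)] at h1
    have h2 := baseChange_bijective K ((lr R D).baseChange S) h1
    rw [LinearMap.baseChange_baseChange] at h2
    simpa using h2

/-- A field over `X` and `R`, with kernel `m`, when `X ⊗ R/m` is nontrivial. -/
theorem exists_field {R : Type u} [CommRing R] (X : Type u) [CommRing X] [Algebra R X]
    (m : Ideal R) [hm : m.IsMaximal] (hnt : Nontrivial (X ⊗[R] (R ⧸ m))) :
    ∃ (K : Type u) (_ : Field K) (_ : Algebra R K) (_ : Algebra X K) (_ : IsScalarTower R X K),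
      RingHom.ker (algebraMap R K) = m := by
  obtain ⟨M, hM⟩ := Ideal.exists_maximal (X ⊗[R] (R ⧸ m))
  let K := (X ⊗[R] (R ⧸ m)) ⧸ M
  letI : Field K := Ideal.Quotient.field M
  letI : Algebra X K := inferInstance
  letI : Algebra R K := inferInstance
  have : IsScalarTower R X K := IsScalarTower.of_algebraMap_eq (fun r => by
    rw [IsScalarTower.algebraMap_apply R (X ⊗[R] (R ⧸ m)) K, IsScalarTower.algebraMap_apply X (X ⊗[R] (R ⧸ m)) K,
      ← IsScalarTower.algebraMap_apply R X (X ⊗[R] (R ⧸ m))])
  refine ⟨K, inferInstance, inferInstance, inferInstance, inferInstance, ?_⟩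
  symm
  apply hm.eq_of_le (RingHom.ker_ne_top _)
  intro x hx
  rw [RingHom.mem_ker]
  have h0 : algebraMap R (X ⊗[R] (R ⧸ m)) x = 0 := by
    have h1 : x • (1 : R ⧸ m) = 0 := by
      rw [← Algebra.algebraMap_eq_smul_one, Ideal.Quotient.algebraMap_eq]
      exact Ideal.Quotient.eq_zero_iff_mem.mpr hx
    rw [Algebra.algebraMap_eq_smul_one, Algebra.TensorProduct.one_def, ← TensorProduct.tmul_smul, h1,
      TensorProduct.tmul_zero]
  rw [IsScalarTower.algebraMap_apply R (X ⊗[R] (R ⧸ m)) K, h0, map_zero]


/-- Let B' = B ×_A A' be a fibre product of commutative rings with A' → A surjective and D' a B'-algebra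
(associative, unital, not necessarily commutative). Then D' is an Azumaya algebra over B' if and
only if B ⊗_{B'} D' is an Azumaya algebra over B and A' ⊗_{B'} D' is an Azumaya algebra over A'.
(The published statement is for a quasi-coherent algebra on the pushout scheme Y of a closed
immersion and an affine morphism; this row is the case of an affine Y. Azumaya is taken in the
finite-projective-faithful sense.) -/
theorem result (B' B A' A : Type u) [CommRing B'] [CommRing B] [CommRing A'] [CommRing A]
    [Algebra B' B] [Algebra B' A'] [Algebra B A] [Algebra A' A] [Algebra B' A] [IsScalarTower B' B A] [IsScalarTower B' A' A]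
    (hsq : EtMil.IsFibreSquare B' B A' A)
    (D' : Type u) [Ring D'] [Algebra B' D'] :
    IsAzumaya B' D' ↔ IsAzumaya B (B ⊗[B'] D') ∧ IsAzumaya A' (A' ⊗[B'] D') := by
  constructor
  · intro h
    exact ⟨isAzumaya_baseChange B' B D', isAzumaya_baseChange B' A' D'⟩
  · rintro ⟨hB, hA'⟩
    have hB1 := (isAzumaya_iff B (B ⊗[B'] D')).1 hB
    have hA1 := (isAzumaya_iff A' (A' ⊗[B'] D')).1 hA'
    obtain ⟨hBf, -, hBp, -⟩ := hB1
    obtain ⟨hAf, -, hAp, -⟩ := hA1
    haveI : Module.FinitePresentation B (B ⊗[B'] D') := Module.finitePresentation_of_projective B _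
    haveI : Module.FinitePresentation A' (A' ⊗[B'] D') := Module.finitePresentation_of_projective A' _
    haveI : Module.Flat B' D' := Groth.Agent.S14952.result B' B A' A hsq D'
    haveI : Module.FinitePresentation B' D' := Groth.Agent.S14954.result B' B A' A hsq D'
    haveI : Module.Projective B' D' := Module.Flat.projective_of_finitePresentation
    apply isAzumaya_of_fibres_lr
    intro m hm
    have hnt : Nontrivial (B' ⧸ m) := Ideal.Quotient.nontrivial_iff.mpr hm.ne_top
    have hcase : Nontrivial (B ⊗[B'] (B' ⧸ m)) ∨ Nontrivial (A' ⊗[B'] (B' ⧸ m)) := by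
      by_contra hcon
      rw [not_or, not_nontrivial_iff_subsingleton, not_nontrivial_iff_subsingleton] at hcon
      obtain ⟨h1, h2⟩ := hcon
      have := Groth.Agent.S14949.result B' B A' A hsq (B' ⧸ m)
      exact not_subsingleton _ this
    rcases hcase with h | h
    · obtain ⟨K, i1, i2, i3, i4, hK⟩ := exists_field B m h
      obtain ⟨h1, h2⟩ := fibre_data (R := B') B D' K
      exact ⟨K, i1, i2, hK, h1, h2⟩
    · obtain ⟨K, i1, i2, i3, i4, hK⟩ := exists_field A' m h
      obtain ⟨h1, h2⟩ := fibre_data (R := B') A' D' K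
      exact ⟨K, i1, i2, hK, h1, h2⟩

end Groth.Agent.S14956
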