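import Groth.Statements.S14958
import Groth.Agent.Lib.TorNat
import Mathlib.LinearAlgebra.TensorProduct.Prod

set_option autoImplicit false
universe u
open TensorProduct CategoryTheory CategoryTheory.Limits
open EtAlg

namespace Groth.Agent.S14958

open Groth.Agent.Lib.TorLES Groth.Agent.Lib.TorNat MonoidalCategory

section helpers

variable (B' B A' A : Type u) [CommRing B'] [CommRing B] [CommRing A']
    [CommRing A] [Algebra B' B] [Algebra B' A'] [Algebra B A] [Algebra A' A] [Algebra B' A]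
    [IsScalarTower B' B A] [IsScalarTower B' A' A]

/-- `b' ↦ (b', b')`. -/
noncomputable def fl : B' →ₗ[B'] B × A' := (Algebra.linearMap B' B).prod (Algebra.linearMap B' A')

/-- `B → A` as a `B'`-linear map. -/
noncomputable def g₁ : B →ₗ[B'] A := (IsScalarTower.toAlgHom B' B A).toLinearMap

/-- `A' → A` as a `B'`-linear map. -/
noncomputable def g₂ : A' →ₗ[B'] A := (IsScalarTower.toAlgHom B' A' A).toLinearMap

/-- `(b, a') ↦ b - a'`. -/
noncomputable def gl : B × A' →ₗ[B'] A :=
  (g₁ B' B A).comp (LinearMap.fst B' B A') - (g₂ B' A' A).comp (LinearMap.snd B' B A')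

lemma gl_comp_fl : (gl B' B A' A).comp (fl B' B A') = 0 := by
  ext
  simp [fl, gl, g₁, g₂]

/-- The module-level short complex `B' → B × A' → A` of a fibre square. -/
noncomputable def T : ShortComplex (ModuleCat.{u} B') :=
  ShortComplex.mk (ModuleCat.ofHom (fl B' B A')) (ModuleCat.ofHom (gl B' B A' A)) (by
    rw [← ModuleCat.ofHom_comp, gl_comp_fl]
    rfl)

variable {B' B A' A}

lemma T_shortExact (hsq : EtMil.IsFibreSquare B' B A' A) : (T B' B A' A).ShortExact := by
  have hinj : Function.Injective (fl B' B A') := by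
    rw [injective_iff_map_eq_zero]
    intro x hx
    have h1 : algebraMap B' B x = 0 := congrArg Prod.fst hx
    have h2 : algebraMap B' A' x = 0 := congrArg Prod.snd hx
    obtain ⟨y, _, hy⟩ := hsq.2 0 0 (by simp)
    rw [hy x ⟨h1, h2⟩, ← hy 0 ⟨by simp, by simp⟩]
  have hsurj : Function.Surjective (gl B' B A' A) := by
    intro a
    obtain ⟨a', ha'⟩ := hsq.1 (-a)
    refine ⟨(0, a'), ?_⟩
    simp [gl, g₁, g₂, ha']
  have hex : Function.Exact (fl B' B A') (gl B' B A' A) := by
    intro x
    constructor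
    · intro hx
      have h : algebraMap B A x.1 = algebraMap A' A x.2 := by
        have : algebraMap B A x.1 - algebraMap A' A x.2 = 0 := by simpa [gl, g₁, g₂] using hx
        exact sub_eq_zero.mp this
      obtain ⟨y, ⟨hy1, hy2⟩, _⟩ := hsq.2 x.1 x.2 h
      exact ⟨y, Prod.ext hy1 hy2⟩
    · rintro ⟨y, rfl⟩
      exact LinearMap.congr_fun (gl_comp_fl B' B A' A) y
  have h1 : (T B' B A' A).Exact := by
    rw [ShortComplex.ShortExact.moduleCat_exact_iff_function_exact]
    exact hex
  have h2 : Mono (T B' B A' A).f := (ModuleCat.mono_iff_injective _).mpr hinj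
  have h3 : Epi (T B' B A' A).g := (ModuleCat.epi_iff_surjective _).mpr hsurj
  exact ⟨h1⟩

end helpers

section helpers2

variable {R : Type u} [CommRing R]

lemma mono_tor_zero_map_iff (M : ModuleCat.{u} R) {X Y : ModuleCat.{u} R} (f : X ⟶ Y) :
    Mono (((Tor (ModuleCat.{u} R) 0).obj M).map f) ↔
      Function.Injective (LinearMap.lTensor M f.hom) := by
  have hnat := (torZeroNatIso M).hom.naturality f
  have hw : (M ◁ f).hom = LinearMap.lTensor M f.hom := rfl
  rw [← hw, ← ModuleCat.mono_iff_injective]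
  constructor
  · intro h
    have h1 : M ◁ f = (torZeroNatIso M).inv.app X ≫
        ((Tor (ModuleCat.{u} R) 0).obj M).map f ≫ (torZeroNatIso M).hom.app Y := by
      rw [hnat, Iso.inv_hom_id_app_assoc]
      rfl
    rw [h1]
    infer_instance
  · intro h
    have h1 : ((Tor (ModuleCat.{u} R) 0).obj M).map f = (torZeroNatIso M).hom.app X ≫
        (M ◁ f) ≫ (torZeroNatIso M).inv.app Y := by
      rw [← Category.assoc]
      erw [← hnat]
      rw [Category.assoc, Iso.hom_inv_id_app, Category.comp_id]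
    rw [h1]
    infer_instance

lemma epi_map_iff_epi_biprod_desc (F : ModuleCat.{u} R ⥤ ModuleCat.{u} R) [F.Additive]
    {X₁ X₂ X A : ModuleCat.{u} R} (i₁ : X₁ ⟶ X) (i₂ : X₂ ⟶ X) (p₁ : X ⟶ X₁) (p₂ : X ⟶ X₂)
    (a₁ : X₁ ⟶ A) (a₂ : X₂ ⟶ A) (g : X ⟶ A)
    (hg : g = p₁ ≫ a₁ - p₂ ≫ a₂) (h₁ : i₁ ≫ g = a₁) (h₂ : i₂ ≫ g = - a₂) :
    Epi (F.map g) ↔ Epi (biprod.desc (F.map a₁) (F.map a₂)) := by
  constructor
  · intro hepi
    refine Preadditive.epi_of_cancel_zero _ (fun {Z} h hh => ?_)
    have e1 : F.map a₁ ≫ h = 0 := by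
      have := congrArg (biprod.inl ≫ ·) hh
      simpa using this
    have e2 : F.map a₂ ≫ h = 0 := by
      have := congrArg (biprod.inr ≫ ·) hh
      simpa using this
    have e3 : F.map g ≫ h = 0 := by
      rw [hg, Functor.map_sub, Functor.map_comp, Functor.map_comp, Preadditive.sub_comp,
        Category.assoc, Category.assoc, e1, e2, comp_zero, comp_zero, sub_zero]
    exact zero_of_epi_comp _ e3
  · intro hepi
    refine Preadditive.epi_of_cancel_zero _ (fun {Z} h hh => ?_)
    have e1 : F.map a₁ ≫ h = 0 := by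
      rw [← h₁, Functor.map_comp, Category.assoc, hh, comp_zero]
    have e2 : F.map a₂ ≫ h = 0 := by
      have : F.map (-a₂) ≫ h = 0 := by
        rw [← h₂, Functor.map_comp, Category.assoc, hh, comp_zero]
      rw [Functor.map_neg, Preadditive.neg_comp, neg_eq_zero] at this
      exact this
    have e3 : biprod.desc (F.map a₁) (F.map a₂) ≫ h = 0 := by
      apply biprod.hom_ext' <;> simp [e1, e2]
    exact zero_of_epi_comp _ e3

end helpers2

section helpers3

variable {B' B A' A : Type u} [CommRing B'] [CommRing B] [CommRing A']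
    [CommRing A] [Algebra B' B] [Algebra B' A'] [Algebra B A] [Algebra A' A] [Algebra B' A]
    [IsScalarTower B' B A] [IsScalarTower B' A' A]
    (L' : Type u) [AddCommGroup L'] [Module B' L']

lemma injective_lTensor_fl_iff :
    Function.Injective (LinearMap.lTensor L' (fl B' B A')) ↔
      ∀ l : L', ((1 : B) ⊗ₜ[B'] l : B ⊗[B'] L') = 0 → ((1 : A') ⊗ₜ[B'] l : A' ⊗[B'] L') = 0 →
        l = 0 := by
  have key : ∀ l : L', LinearMap.lTensor L' (fl B' B A') (l ⊗ₜ[B'] (1 : B')) = 0 ↔
      (((1 : B) ⊗ₜ[B'] l : B ⊗[B'] L') = 0 ∧ ((1 : A') ⊗ₜ[B'] l : A' ⊗[B'] L') = 0) := by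
    intro l
    rw [LinearMap.lTensor_tmul,
      ← (TensorProduct.prodRight B' B' L' B A').map_eq_zero_iff, TensorProduct.prodRight_tmul,
      Prod.mk_eq_zero,
      ← (TensorProduct.comm B' L' B).map_eq_zero_iff,
      ← (TensorProduct.comm B' L' A').map_eq_zero_iff]
    simp [fl]
  rw [injective_iff_map_eq_zero]
  constructor
  · intro h l h1 h2
    have h3 := h _ ((key l).mpr ⟨h1, h2⟩)
    have := congrArg (TensorProduct.rid B' L') h3
    simpa using this
  · intro h x hx
    obtain ⟨l, rfl⟩ := (TensorProduct.rid B' L').symm.surjective x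
    rw [TensorProduct.rid_symm_apply] at hx ⊢
    obtain ⟨h1, h2⟩ := (key l).mp hx
    rw [h l h1 h2, TensorProduct.zero_tmul]

end helpers3

/-- Let B' = B ×_A A' be a fibre product of commutative rings with A' → A surjective and L' a B'-module.
Then L' is a fixed point of the glueing adjunction, i.e. the canonical map from L' to the compatible
pairs in (B ⊗_{B'} L') × (A' ⊗_{B'} L') is injective (it is always surjective), if and only if the
map Tor_1(L', B) ⊕ Tor_1(L', A') → Tor_1(L', A) over B' induced by B → A and A' → A is surjective.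
Here Tor_1(L', –) is the first left derived functor of L' ⊗_{B'} – on B'-modules. -/
theorem result (B' B A' A : Type u) [CommRing B'] [CommRing B] [CommRing A'] [CommRing A]
    [Algebra B' B] [Algebra B' A'] [Algebra B A] [Algebra A' A] [Algebra B' A] [IsScalarTower B' B A] [IsScalarTower B' A' A]
    (hsq : EtMil.IsFibreSquare B' B A' A)
    (L' : Type u) [AddCommGroup L'] [Module B' L'] :
    (∀ l : L', ((1 : B) ⊗ₜ[B'] l : B ⊗[B'] L') = 0 → ((1 : A') ⊗ₜ[B'] l : A' ⊗[B'] L') = 0 → l = 0) ↔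
    Epi (biprod.desc
      (((Tor (ModuleCat.{u} B') 1).obj (ModuleCat.of B' L')).map
        (ModuleCat.ofHom (IsScalarTower.toAlgHom B' B A).toLinearMap))
      (((Tor (ModuleCat.{u} B') 1).obj (ModuleCat.of B' L')).map
        (ModuleCat.ofHom (IsScalarTower.toAlgHom B' A' A).toLinearMap))) := by
  have hT := T_shortExact hsq
  let M : ModuleCat.{u} B' := ModuleCat.of B' L'
  obtain ⟨δ, w₁, w₂, hex₃, hex₁⟩ := exists_δ_right hT M 0
  -- left hand side ⟺ `Tor_0(L', f)` mono
  have hA : (∀ l : L', ((1 : B) ⊗ₜ[B'] l : B ⊗[B'] L') = 0 →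
      ((1 : A') ⊗ₜ[B'] l : A' ⊗[B'] L') = 0 → l = 0) ↔
      Mono (((Tor (ModuleCat.{u} B') 0).obj M).map (T B' B A' A).f) := by
    rw [mono_tor_zero_map_iff, ← injective_lTensor_fl_iff]
    rfl
  -- right hand side ⟺ `Tor_1(L', g)` epi
  have hB : Epi (((Tor (ModuleCat.{u} B') (0 + 1)).obj M).map (T B' B A' A).g) ↔
      Epi (biprod.desc
        (((Tor (ModuleCat.{u} B') 1).obj M).map (ModuleCat.ofHom (g₁ B' B A)))
        (((Tor (ModuleCat.{u} B') 1).obj M).map (ModuleCat.ofHom (g₂ B' A' A)))) := by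
    refine epi_map_iff_epi_biprod_desc ((Tor (ModuleCat.{u} B') 1).obj M)
      (ModuleCat.ofHom (LinearMap.inl B' B A')) (ModuleCat.ofHom (LinearMap.inr B' B A'))
      (ModuleCat.ofHom (LinearMap.fst B' B A')) (ModuleCat.ofHom (LinearMap.snd B' B A'))
      (ModuleCat.ofHom (g₁ B' B A)) (ModuleCat.ofHom (g₂ B' A' A)) (T B' B A' A).g ?_ ?_ ?_
    · rfl
    · ext x
      simp [T, gl]
    · ext x
      simp [T, gl]
  rw [hA]
  change _ ↔ Epi (biprod.desc
        (((Tor (ModuleCat.{u} B') 1).obj M).map (ModuleCat.ofHom (g₁ B' B A)))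
        (((Tor (ModuleCat.{u} B') 1).obj M).map (ModuleCat.ofHom (g₂ B' A' A))))
  rw [← hB]
  constructor
  · intro hmono
    have hδ : δ = 0 := by
      rw [← cancel_mono (((Tor (ModuleCat.{u} B') 0).obj M).map (T B' B A' A).f), w₂, zero_comp]
    exact hex₃.epi_f hδ
  · intro hepi
    have hδ : δ = 0 := by
      rw [← cancel_epi (((Tor (ModuleCat.{u} B') (0 + 1)).obj M).map (T B' B A' A).g), w₁,
        comp_zero]
    exact hex₁.mono_g hδ

end Groth.Agent.S14958
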