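import Groth.Statements.S1496
import Groth.Agent.Lib.H78ProjSpaceAmple
import Groth.Agent.Lib.VeryAmpleBase2H3
import Groth.Agent.Lib.H78Restrict

set_option autoImplicit false
universe u
attribute [local instance] HasDerivedCategory.standard
open FlatMor

namespace Groth.Agent.S1496

open AlgebraicGeometry CategoryTheory Limits in
/-- Let S be a scheme carrying an ample invertible sheaf and f : X → S a morphism. Then f is a closed
immersion into some projective space over S (f factors as a closed immersion X → Pⁿ_S followed by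
the projection Pⁿ_S → S, for some n) if and only if f is proper and X carries an ample invertible
sheaf; and the latter holds if and only if f is proper and some O_X-module is ample relative to f. -/
theorem result {X S : Scheme.{u}} (hS : ∃ N : S.Modules, CohB1.IsAmple N) (f : X ⟶ S) :
    ((∃ (n : ℕ) (i : X ⟶ CohB1.ProjSpaceOver n S), IsClosedImmersion i ∧ i ≫ pullback.snd (CohB1.ProjSpace.toSpec n (ULift.{u} ℤ)) (specULiftZIsTerminal.from S) = f) ↔
      (IsProper f ∧ ∃ L : X.Modules, CohB1.IsAmple L)) ∧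
    ((IsProper f ∧ ∃ L : X.Modules, CohB1.IsAmple L) ↔ (IsProper f ∧ ∃ L : X.Modules, RelAmple.IsRelAmple f L)) := by
  obtain ⟨N, hN⟩ := hS
  have hP : ∀ n : ℕ, IsProper (Groth.Agent.Lib.VeryAmpleH3.sndP n S) := fun n =>
    Groth.Agent.Lib.ProjSpaceProper.isProper_toBase n S
  refine ⟨⟨?_, ?_⟩, ⟨?_, ?_⟩⟩
  · rintro ⟨n, i, hi, hcomp⟩
    haveI := hP n
    have hcomp' : i ≫ Groth.Agent.Lib.VeryAmpleH3.sndP n S = f := hcomp
    refine ⟨hcomp' ▸ inferInstance, ?_⟩
    obtain ⟨M, hM⟩ := Groth.Agent.Lib.H78ProjSpaceAmple.exists_isAmple n hN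
    exact ⟨_, Groth.Agent.Lib.H78PullAmple.isAmple_pullback_of_isAffineHom i hM⟩
  · rintro ⟨hf, L, hL⟩
    obtain ⟨n₀, hn₀⟩ := Groth.Agent.Lib.VeryAmpleBase2H3.exists_forall_isRelVeryAmplePn_tensorPow f hL
    obtain ⟨n, i, hi, hcomp, -⟩ := hn₀ n₀ le_rfl
    refine ⟨n, i, ?_, hcomp⟩
    haveI := hP n
    have hcomp' : i ≫ Groth.Agent.Lib.VeryAmpleH3.sndP n S = f := hcomp
    haveI : IsProper (i ≫ Groth.Agent.Lib.VeryAmpleH3.sndP n S) := by rw [hcomp']; exact hf
    haveI : IsProper i := IsProper.of_comp i (Groth.Agent.Lib.VeryAmpleH3.sndP n S)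
    exact IsClosedImmersion.of_isPreimmersion i i.isClosedMap.isClosed_range
  · rintro ⟨hf, L, hL⟩
    refine ⟨hf, L, inferInstance, fun V => ?_⟩
    haveI : CompactSpace ↥((f ⁻¹ᵁ V.1 : X.Opens) : Scheme.{u}) :=
      isCompact_iff_compactSpace.1 (QuasiCompact.isCompact_preimage (f := f) _ V.1.2 V.2.isCompact)
    exact Groth.Agent.Lib.H78Restrict.isAmple_restrict (f ⁻¹ᵁ V.1).ι hL
  · rintro ⟨hf, L, hL⟩
    obtain ⟨n₀, -, hn₀⟩ := Groth.Agent.Lib.H78RelAmpleComp.isAmple_tensor_pullback_pow f hN hL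
    exact ⟨hf, _, hn₀ n₀ le_rfl⟩

end Groth.Agent.S1496
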