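import Groth.Statements.S14965
import Groth.Agent.S2019
import Groth.Agent.S14956
import Mathlib.Algebra.Azumaya.Basic

set_option autoImplicit false
universe u
open TensorProduct
open Brauer

namespace Groth.Agent.S14965


/-- Let B' = B ×_A A' be a fibre product of commutative rings with A' → A surjective, N an Azumaya
B-algebra, M' an Azumaya A'-algebra and φ : A ⊗_B N ≅ A ⊗_{A'} M' an isomorphism of A-algebras. If a
B'-algebra D' with B'-algebra homomorphisms π₁ : D' → N and π₂ : D' → M' is the glued algebra N ×_φ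
M', in the sense that (π₁, π₂) is injective with image the pairs (n, m') satisfying φ(1 ⊗ n) = 1 ⊗
m', then D' is an Azumaya B'-algebra. (The published statement is for Azumaya algebras on the
pushout scheme of a closed immersion and an affine morphism, glued as u_*B' ×_{h_*} f_*A; this row
is the case of an affine pushout.) -/
theorem result (B' B A' A : Type u) [CommRing B'] [CommRing B] [CommRing A'] [CommRing A]
    [Algebra B' B] [Algebra B' A'] [Algebra B A] [Algebra A' A] [Algebra B' A] [IsScalarTower B' B A] [IsScalarTower B' A' A]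
    (hsq : EtMil.IsFibreSquare B' B A' A)
    (N : Type u) [Ring N] [Algebra B N] [Algebra B' N] [IsScalarTower B' B N] [IsAzumaya B N]
    (M' : Type u) [Ring M'] [Algebra A' M'] [Algebra B' M'] [IsScalarTower B' A' M'] [IsAzumaya A' M']
    (φ : A ⊗[B] N ≃ₐ[A] A ⊗[A'] M')
    (D' : Type u) [Ring D'] [Algebra B' D'] (π₁ : D' →ₐ[B'] N) (π₂ : D' →ₐ[B'] M')
    (hinj : ∀ d : D', π₁ d = 0 → π₂ d = 0 → d = 0)
    (himg : ∀ (n : N) (m' : M'), φ ((1 : A) ⊗ₜ[B] n) = (1 : A) ⊗ₜ[A'] m' ↔ ∃ d : D', π₁ d = n ∧ π₂ d = m') :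
    IsAzumaya B' D' := by
  rw [Groth.Agent.S14956.result B' B A' A hsq D']
  set φl : A ⊗[B] N ≃ₗ[A] A ⊗[A'] M' := φ.toLinearEquiv with hφl
  obtain ⟨h1, h2⟩ := Groth.Agent.S2019.result B' B A' A hsq N M' φl
  -- D' is the glued module
  let eD₀ : D' →ₗ[B'] ↥(EtMil.glue B' φl) :=
    { toFun := fun d => ⟨(π₁ d, π₂ d), (himg _ _).mpr ⟨d, rfl, rfl⟩⟩
      map_add' := fun x y => Subtype.ext (by simp)
      map_smul' := fun b x => Subtype.ext (by simp [Prod.smul_def]) }
  have heD_inj : Function.Injective eD₀ := by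
    rw [injective_iff_map_eq_zero]
    intro d hd
    have hd' : (π₁ d, π₂ d) = ((0 : N), (0 : M')) := congrArg Subtype.val hd
    exact hinj d (congrArg Prod.fst hd') (congrArg Prod.snd hd')
  have heD_surj : Function.Surjective eD₀ := by
    rintro ⟨⟨n, m'⟩, hnm⟩
    obtain ⟨d, rfl, rfl⟩ := (himg n m').mp hnm
    exact ⟨d, rfl⟩
  let eD : D' ≃ₗ[B'] ↥(EtMil.glue B' φl) := LinearEquiv.ofBijective eD₀ ⟨heD_inj, heD_surj⟩
  constructor
  · let χ : B ⊗[B'] D' →ₐ[B] N :=
      Algebra.TensorProduct.lift (Algebra.ofId B N) π₁ (fun b d => Algebra.commutes b (π₁ d))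
    let e1 : B ⊗[B'] D' ≃ₗ[B] N :=
      (LinearEquiv.baseChange B' B D' _ eD).trans (LinearEquiv.ofBijective _ h1)
    have hχ : ∀ t, χ t = e1 t := by
      intro t
      induction t using TensorProduct.induction_on with
      | zero => simp
      | tmul b d =>
        simp only [χ, e1, Algebra.TensorProduct.lift_tmul, LinearEquiv.trans_apply, LinearEquiv.baseChange_tmul,
          LinearEquiv.ofBijective_apply, LinearMap.liftBaseChange_tmul]
        rw [Algebra.ofId_apply, ← Algebra.smul_def]
        rfl
      | add x y hx hy => rw [map_add, map_add, hx, hy]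
    have hbij : Function.Bijective χ := by
      have : (χ : B ⊗[B'] D' → N) = e1 := funext hχ
      rw [this]; exact e1.bijective
    exact IsAzumaya.of_AlgEquiv B N _ (AlgEquiv.ofBijective χ hbij).symm
  · let χ : A' ⊗[B'] D' →ₐ[A'] M' :=
      Algebra.TensorProduct.lift (Algebra.ofId A' M') π₂ (fun b d => Algebra.commutes b (π₂ d))
    let e1 : A' ⊗[B'] D' ≃ₗ[A'] M' :=
      (LinearEquiv.baseChange B' A' D' _ eD).trans (LinearEquiv.ofBijective _ h2)
    have hχ : ∀ t, χ t = e1 t := by
      intro t
      induction t using TensorProduct.induction_on with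
      | zero => simp
      | tmul b d =>
        simp only [χ, e1, Algebra.TensorProduct.lift_tmul, LinearEquiv.trans_apply, LinearEquiv.baseChange_tmul,
          LinearEquiv.ofBijective_apply, LinearMap.liftBaseChange_tmul]
        rw [Algebra.ofId_apply, ← Algebra.smul_def]
        rfl
      | add x y hx hy => rw [map_add, map_add, hx, hy]
    have hbij : Function.Bijective χ := by
      have : (χ : A' ⊗[B'] D' → M') = e1 := funext hχ
      rw [this]; exact e1.bijective
    exact IsAzumaya.of_AlgEquiv A' M' _ (AlgEquiv.ofBijective χ hbij).symm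

end Groth.Agent.S14965
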