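import Groth.Statements.S14966
set_option autoImplicit false
universe u
open EtAlg

namespace Groth.Agent.S14966

/-- Let A → A' be an injective homomorphism of commutative rings and let I ⊆ A be the conductor, i.e.
the annihilator of the A-module A'/A. Then the conductor square formed by A → A/I, A → A', A/I →
A'/IA' and A' → A'/IA' is a fibre product square of rings with A' → A'/IA' surjective: A = A/I
×_{A'/IA'} A'. (The published Lemma is for the conductor square of a finite modification of schemes;
this row is the underlying statement for one injective ring map, which needs no finiteness.) -/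
theorem result (A A' : Type u) [CommRing A] [CommRing A'] [Algebra A A']
    (hinj : Function.Injective (algebraMap A A')) :
    EtMil.IsFibreSquare A (A ⧸ Module.annihilator A (A' ⧸ LinearMap.range (Algebra.linearMap A A'))) A'
      (A' ⧸ Ideal.map (algebraMap A A') (Module.annihilator A (A' ⧸ LinearMap.range (Algebra.linearMap A A')))) := by
  set I := Module.annihilator A (A' ⧸ LinearMap.range (Algebra.linearMap A A')) with hIdef
  have hI : ∀ i ∈ I, ∀ a' : A', ∃ j ∈ I, algebraMap A A' j = algebraMap A A' i * a' := by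
    intro i hi a'
    have h1 : ∀ a'' : A', ∃ y : A, algebraMap A A' y = algebraMap A A' i * a'' := by
      intro a''
      have := Module.mem_annihilator.mp hi (Submodule.Quotient.mk a'')
      rw [← Submodule.Quotient.mk_smul, Submodule.Quotient.mk_eq_zero] at this
      obtain ⟨y, hy⟩ := this
      exact ⟨y, by rw [← Algebra.smul_def]; exact hy⟩
    obtain ⟨j, hj⟩ := h1 a'
    refine ⟨j, ?_, hj⟩
    rw [hIdef, Module.mem_annihilator]
    intro m
    obtain ⟨a'', rfl⟩ := Submodule.Quotient.mk_surjective _ m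
    rw [← Submodule.Quotient.mk_smul, Submodule.Quotient.mk_eq_zero]
    obtain ⟨y, hy⟩ := h1 (a' * a'')
    refine ⟨y, ?_⟩
    show algebraMap A A' y = j • a''
    rw [Algebra.smul_def, hj, hy, mul_assoc]
  have hmap : ∀ x ∈ Ideal.map (algebraMap A A') I, ∃ j ∈ I, algebraMap A A' j = x := by
    intro x hx
    refine Submodule.span_induction (p := fun x _ => ∃ j ∈ I, algebraMap A A' j = x)
      ?_ ?_ ?_ ?_ hx
    · rintro _ ⟨i, hi, rfl⟩
      exact ⟨i, hi, rfl⟩
    · exact ⟨0, I.zero_mem, map_zero _⟩
    · rintro x y _ _ ⟨j, hj, rfl⟩ ⟨j', hj', rfl⟩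
      exact ⟨j + j', I.add_mem hj hj', map_add _ _ _⟩
    · rintro a' x _ ⟨j, hj, rfl⟩
      obtain ⟨j', hj', h⟩ := hI j hj a'
      exact ⟨j', hj', by rw [h, smul_eq_mul, mul_comm]⟩
  refine ⟨Ideal.Quotient.mk_surjective, fun b a' hba => ?_⟩
  obtain ⟨a₀, rfl⟩ := Ideal.Quotient.mk_surjective b
  have h1 : algebraMap (A ⧸ I) (A' ⧸ Ideal.map (algebraMap A A') I) (Ideal.Quotient.mk I a₀)
      = Ideal.Quotient.mk _ (algebraMap A A' a₀) := rfl
  have h2 : algebraMap A' (A' ⧸ Ideal.map (algebraMap A A') I) a' = Ideal.Quotient.mk _ a' := rfl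
  rw [h1, h2, Ideal.Quotient.eq] at hba
  obtain ⟨j, hj, hja⟩ := hmap _ hba
  refine ⟨a₀ - j, ⟨?_, ?_⟩, ?_⟩
  · show Ideal.Quotient.mk I (a₀ - j) = Ideal.Quotient.mk I a₀
    rw [Ideal.Quotient.eq]
    simpa using I.neg_mem hj
  · rw [map_sub, hja]; ring
  · rintro y ⟨_, hy⟩
    apply hinj
    rw [hy, map_sub, hja]; ring

end Groth.Agent.S14966
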