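import Groth.Statements.S14973
import Mathlib.Tactic.NoncommRing
import Mathlib.Algebra.Ring.Subring.Basic

set_option autoImplicit false
universe u v
open Diff16

namespace Groth.Agent.S14973

section

variable {B : Type u} [CommRing B] {L : Type v} [Ring L] (f : B →+* L) (F : ℕ → AddSubgroup L)

lemma f_comm (a b : B) : f a * f b = f b * f a := by
  rw [← map_mul, ← map_mul, mul_comm]

lemma partA (h0 : ∀ x ∈ F 0, ∀ b : B, f b * x = x * f b)
    (hS : ∀ (i : ℕ), ∀ x ∈ F (i + 1), ∀ b : B, f b * x - x * f b ∈ F i)
    (M : Submonoid B) (i : ℕ) :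
    ∀ x ∈ F i, ∀ m u : B, m ∈ M → u ∈ M → f u * x * f m = 0 → ∃ u' ∈ M, f u' * x = 0 := by
  induction i with
  | zero =>
    intro x hx m u hm hu h
    refine ⟨u * m, M.mul_mem hu hm, ?_⟩
    rw [map_mul, mul_assoc, h0 x hx m, ← mul_assoc, h]
  | succ i ih =>
    intro x hx m u hm hu h
    have hx' := hS i x hx m
    have h' : f u * (f m * x - x * f m) * f m = 0 := by
      have e : f u * (f m * x - x * f m) * f m = f m * (f u * x * f m) - (f u * x * f m) * f m := by
        have := f_comm f u m
        calc f u * (f m * x - x * f m) * f m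
            = (f u * f m) * x * f m - f u * x * f m * f m := by noncomm_ring
          _ = (f m * f u) * x * f m - f u * x * f m * f m := by rw [this]
          _ = f m * (f u * x * f m) - (f u * x * f m) * f m := by noncomm_ring
      rw [e, h, mul_zero, zero_mul, sub_zero]
    obtain ⟨u'', hu'', hk⟩ := ih _ hx' m u hm hu h'
    refine ⟨u * u'' * m, M.mul_mem (M.mul_mem hu hu'') hm, ?_⟩
    have hk' : f u'' * f m * x = f u'' * x * f m := by
      have : f u'' * (f m * x - x * f m) = f u'' * f m * x - f u'' * x * f m := by noncomm_ring
      rw [this, sub_eq_zero] at hk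
      exact hk
    calc f (u * u'' * m) * x = f u * (f u'' * f m * x) := by
          rw [map_mul, map_mul]; noncomm_ring
      _ = f u * (f u'' * x * f m) := by rw [hk']
      _ = (f u * f u'') * x * f m := by noncomm_ring
      _ = (f u'' * f u) * x * f m := by rw [f_comm f u u'']
      _ = f u'' * (f u * x * f m) := by noncomm_ring
      _ = 0 := by rw [h, mul_zero]

lemma partB (h0 : ∀ x ∈ F 0, ∀ b : B, f b * x = x * f b)
    (hS : ∀ (i : ℕ), ∀ x ∈ F (i + 1), ∀ b : B, f b * x - x * f b ∈ F i)
    (M : Submonoid B) (i : ℕ) :
    ∀ x ∈ F i, ∀ m : B, m ∈ M → ∃ e ∈ M, ∃ y : L, f e * x = y * f m := by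
  induction i with
  | zero =>
    intro x hx m hm
    exact ⟨m, hm, x, h0 x hx m⟩
  | succ i ih =>
    intro x hx m hm
    obtain ⟨e', he', y', hy'⟩ := ih _ (hS i x hx m) m hm
    refine ⟨e' * m, M.mul_mem he' hm, f e' * x + y', ?_⟩
    have : f e' * (f m * x - x * f m) = f e' * f m * x - f e' * x * f m := by noncomm_ring
    rw [this] at hy'
    rw [map_mul, add_mul, ← hy']
    noncomm_ring

end

/-- In ring form. Let B be a commutative ring, L a ring with a ring homomorphism f from B, and L_0, L_1,
L_2, … additive subgroups of L exhausting L such that for every b in B, f(b) commutes with every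
element of L_0 and, for each i, the commutator f(b) x - x f(b) of f(b) with an element x of L_(i+1)
lies in L_i. Let M be a multiplicative subset of B. Then M acts invertibly on the right of the left
localisation of L at M (L viewed as a B-module through left multiplication): in elementwise terms,
(a) if x is in L and m, u are in M with f(u) x f(m) = 0, then f(u') x = 0 for some u' in M; (b) for
every x in L and m in M there are e in M and y in L with f(e) x = y f(m). (The published statement
assumes a filtration satisfying all the axioms of a filtered ring of differential operators on an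
affine scheme; this row assumes only an exhaustive family of additive subgroups on which commutators
with the image of B lower the index.) -/
theorem result
    {B : Type u} [CommRing B] {L : Type v} [Ring L] (f : B →+* L) (F : ℕ → AddSubgroup L)
    (hex : ∀ x : L, ∃ i : ℕ, x ∈ F i)
    (h0 : ∀ x ∈ F 0, ∀ b : B, f b * x = x * f b)
    (hS : ∀ (i : ℕ), ∀ x ∈ F (i + 1), ∀ b : B, f b * x - x * f b ∈ F i)
    (M : Submonoid B) :
    (∀ (x : L) (m u : B), m ∈ M → u ∈ M → f u * x * f m = 0 → ∃ u' ∈ M, f u' * x = 0) ∧
    (∀ (x : L) (m : B), m ∈ M → ∃ e ∈ M, ∃ y : L, f e * x = y * f m) := by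
  constructor
  · intro x m u hm hu h
    obtain ⟨i, hi⟩ := hex x
    exact partA f F h0 hS M i x hi m u hm hu h
  · intro x m hm
    obtain ⟨i, hi⟩ := hex x
    exact partB f F h0 hS M i x hi m hm

end Groth.Agent.S14973
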