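import Groth.Statements.S14979
import Groth.Agent.Lib.CoactFree55

set_option autoImplicit false
universe u
open CategoryTheory MonoidalCategory CartesianMonoidalCategory MonObj AlgebraicGeometry
open CoactBr

namespace Groth.Agent.S14979

/-- Let `R` be a local commutative ring, `A` a commutative Hopf algebra over `R` which is finite and
flat as an `R`-module (so `G = Spec A` is a finite flat group scheme over `S = Spec R`), and `B` a
commutative `R`-algebra with a coaction of `A` that is an algebra map (an action of `G` on `X = Spec
B`) whose ring of invariants is `R` itself: the structure map `R → B^A` is bijective, so that `S` is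
the quotient `Y = Spec B^A`. Let `K` be a field over `R` in which exactly the maximal ideal of `R`
vanishes and `x : B → K` an `R`-algebra map, a point of `X` over the closed point of `Y`. Then the
action is free — for every scheme `T` over `S`, every `T`-point of `G` fixing a `T`-point of `X` is
the unit — if and only if the inertia group scheme at `x` is trivial: for every `T` over `Spec K`,
every `T`-point of `G` fixing the point of `X` induced by `x` is the unit. (The published statement
does not say that `G` is finite over `S`; its proof uses it, and it is assumed here.) -/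
theorem result
    (R A B K : Type u) [CommRing R] [IsLocalRing R] [CommRing A] [HopfAlgebra R A]
    [Module.Flat R A] [Module.Finite R A]
    [CommRing B] [Algebra R B] [HopfRep.Comod R A B] [GLin.IsCoactAlg R A B]
    (hC : Function.Bijective (algebraMap R (GLin.invariants R A B)))
    [Field K] [Algebra R K] (hK : RingHom.ker (algebraMap R K) = IsLocalRing.maximalIdeal R)
    (x : B →ₐ[R] K) :
    (∀ (T : Over (Spec (CommRingCat.of R))) (ζ : T ⟶ CoactBr.sp R B) (g : T ⟶ CoactBr.sp R A),
        lift g ζ ≫ (CoactBr.action R A B).act = ζ → g = 1) ↔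
      ∀ (T : Over (Spec (CommRingCat.of R))) (h : T ⟶ CoactBr.sp R K) (g : T ⟶ CoactBr.sp R A),
        lift g (h ≫ CoactBr.pt x) ≫ (CoactBr.action R A B).act = h ≫ CoactBr.pt x → g = 1 := by
  open Groth.Agent.Lib.CoactFree55 Groth.Agent.Lib.CoactInertia55 Groth.Agent.Lib.FinInv55 in
  classical
  constructor
  · intro H T h g hg
    exact H T (h ≫ CoactBr.pt x) g hg
  · intro H₁
    -- `A` is free, hence projective; `B` is integral over `R`
    haveI : Module.Free R A := Module.free_of_flat_of_isLocalRing
    have hint0 : ∀ b : B, IsIntegral (GLin.invariants R A B) b := fun b =>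
      isIntegral_invariants (Module.Free.chooseBasis R A) b
    haveI : Algebra.IsIntegral R (GLin.invariants R A B) := ⟨fun c => by
      obtain ⟨r, rfl⟩ := hC.2 c
      exact isIntegral_algebraMap⟩
    haveI : Algebra.IsIntegral R B := ⟨fun b => isIntegral_trans b (hint0 b)⟩
    -- trivial inertia at every closed point of `Spec B`
    have ht : ∀ (𝔫 : Ideal B), 𝔫.IsMaximal → ∀ (Γ : Type u) [CommRing Γ] [Algebra R Γ]
        (et : (B ⧸ 𝔫) →ₐ[R] Γ) (gm : A →ₐ[R] Γ),
        Groth.Agent.Lib.CoactTrans55.trans (et.comp (Ideal.Quotient.mkₐ R 𝔫)) gm =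
          et.comp (Ideal.Quotient.mkₐ R 𝔫) → gm = unitPt R A Γ := by
      intro 𝔫 h𝔫
      letI : Field (B ⧸ 𝔫) := Ideal.Quotient.field 𝔫
      have hcomap : 𝔫.comap (algebraMap R B) = IsLocalRing.maximalIdeal R :=
        IsLocalRing.eq_maximalIdeal (Ideal.isMaximal_comap_of_isIntegral_of_isMaximal 𝔫)
      have hq : RingHom.ker (x.toRingHom.comp (GLin.invariants R A B).val.toRingHom) =
          RingHom.ker ((Ideal.Quotient.mkₐ R 𝔫).toRingHom.comp
            (GLin.invariants R A B).val.toRingHom) := by
        ext c
        obtain ⟨r, hr⟩ := hC.2 c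
        have hr' : algebraMap R B r = (c : B) := congrArg Subtype.val hr
        have e1 : (x.toRingHom.comp (GLin.invariants R A B).val.toRingHom) c =
            algebraMap R K r := by
          change x (c : B) = _
          rw [← hr', AlgHom.commutes]
        have e2 : ((Ideal.Quotient.mkₐ R 𝔫).toRingHom.comp
            (GLin.invariants R A B).val.toRingHom) c = Ideal.Quotient.mk 𝔫 (algebraMap R B r) := by
          change Ideal.Quotient.mk 𝔫 (c : B) = _
          rw [← hr']
        rw [RingHom.mem_ker, RingHom.mem_ker, e1, e2, ← RingHom.mem_ker, hK,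
          Ideal.Quotient.eq_zero_iff_mem, ← Ideal.mem_comap, hcomap]
      intro Γ _ _ et gm hgm
      exact fix_affine_of (Ideal.Quotient.mkₐ R 𝔫)
        (fun T h g hg => inertia_trivial_transfer x (Ideal.Quotient.mkₐ R 𝔫) hq H₁ T h g hg)
        Γ et gm hgm
    have hd : ∀ a : A, dEl B a ∈ Jfix R A B :=
      dEl_mem_of_forall_maximal (fun 𝔫 h𝔫 a => dEl_mem_sup_of_triv 𝔫 (ht 𝔫 h𝔫) a)
    intro T ζ g hg
    refine fix_affinize (AlgHom.id R B) ?_ T ζ g ?_
    · intro Γ _ _ et gm hgm
      rw [AlgHom.comp_id] at hgm
      exact free_of_dEl_mem hd Γ et gm hgm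
    · rw [CoactBr.pt_id, Category.comp_id]
      exact hg

end Groth.Agent.S14979
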