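import Groth.Statements.S14988
import Mathlib
import Groth.Agent.Lib.ResProp97
-- import your own Groth.Agent.* helpers here

set_option autoImplicit false
universe u
open CategoryTheory CategoryTheory.Limits AlgebraicGeometry
open ResProp

namespace Groth.Agent.S14988

/-- In the case of schemes, let f : X ⟶ Y be a morphism of quasi-compact quasi-separated schemes. If
every quasi-coherent module on Y is a quotient of a direct sum of finite locally free modules (Y has
the resolution property) and some family (W_i) of finite locally free modules on X is f-generating,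
i.e. every quasi-coherent module on X is a quotient of a direct sum of modules W_i ⊗ f^*N with N
quasi-coherent on Y, then every quasi-coherent module on X is a quotient of a direct sum of finite
locally free modules (X has the resolution property). (The published statement is for quasi-compact
quasi-separated morphisms of algebraic stacks and assumes the family universally f-generating; this
row is the case of schemes and assumes the family only f-generating, which is what the argument
uses.) -/
theorem result {X Y : Scheme.{u}}
    [CompactSpace X] [QuasiSeparatedSpace X] [CompactSpace Y] [QuasiSeparatedSpace Y] (f : X ⟶ Y)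
    (hY : ∀ N : Y.Modules, Coh.IsQCoh N →
      ∃ (κ : Type u) (V : κ → Y.Modules) (π : (∐ V) ⟶ N), (∀ k, FlatMod.IsFinLocFree (V k)) ∧ Epi π)
    {ι : Type u} (W : ι → X.Modules) (hW : ∀ i, FlatMod.IsFinLocFree (W i))
    (hf : ∀ M : X.Modules, Coh.IsQCoh M →
      ∃ (κ : Type u) (j : κ → ι) (N : κ → Y.Modules)
        (π : (∐ fun k => CohB1.tensorMod (W (j k)) ((Scheme.Modules.pullback f).obj (N k))) ⟶ M),
        (∀ k, Coh.IsQCoh (N k)) ∧ Epi π) :
    ∀ M : X.Modules, Coh.IsQCoh M →
      ∃ (κ : Type u) (E : κ → X.Modules) (π : (∐ E) ⟶ M), (∀ k, FlatMod.IsFinLocFree (E k)) ∧ Epi π := by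
  intro M hM
  obtain ⟨κ, j, N, π, hN, hπ⟩ := hf M hM
  choose κ' V π' hV hπ' using fun k => hY (N k) (hN k)
  haveI : PreservesColimitsOfSize.{u, u} (Scheme.Modules.pullback f) :=
    (Scheme.Modules.pullbackPushforwardAdjunction f).leftAdjoint_preservesColimits
  let T : ι → X.Modules ⥤ X.Modules := fun i => Groth.Agent.Lib.OXModTensor.tensorLeftFunctor (W i)
  let E : (Σ k, κ' k) → X.Modules := fun p =>
    CohB1.tensorMod (W (j p.1)) ((Scheme.Modules.pullback f).obj (V p.1 p.2))
  let comp : ∀ p : (Σ k, κ' k), E p ⟶ M := fun p =>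
    (T (j p.1)).map ((Scheme.Modules.pullback f).map (Sigma.ι (V p.1) p.2 ≫ π' p.1)) ≫
      Sigma.ι (fun k => CohB1.tensorMod (W (j k)) ((Scheme.Modules.pullback f).obj (N k))) p.1 ≫ π
  refine ⟨Σ k, κ' k, E, Sigma.desc comp, fun p =>
    Groth.Agent.Lib.ResProp97.isFinLocFree_tensorMod (hW _)
      (Groth.Agent.Lib.FinLocFree2.isFinLocFree_pullback f (hV _ _)), ?_⟩
  constructor
  intro Z a b hab
  haveI := hπ
  rw [← cancel_epi π]
  apply Sigma.hom_ext
  intro k
  haveI := hπ' k
  haveI : PreservesFiniteColimits (Scheme.Modules.pullback f) :=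
    PreservesColimitsOfSize.preservesFiniteColimits _
  haveI : PreservesFiniteColimits (T (j k)) :=
    PreservesColimitsOfSize.preservesFiniteColimits _
  haveI : Epi ((T (j k)).map ((Scheme.Modules.pullback f).map (π' k))) := inferInstance
  apply (cancel_epi ((T (j k)).map ((Scheme.Modules.pullback f).map (π' k)))).1
  have hcol : IsColimit ((Scheme.Modules.pullback f ⋙ T (j k)).mapCocone
      (Cofan.mk _ (Sigma.ι (V k)))) :=
    isColimitOfPreserves (Scheme.Modules.pullback f ⋙ T (j k)) (coproductIsCoproduct (V k))
  apply hcol.hom_ext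
  rintro ⟨l⟩
  have h1 := congrArg (fun t => Sigma.ι E ⟨k, l⟩ ≫ t) hab
  simp only [Sigma.ι_desc_assoc] at h1
  simp only [comp, Functor.map_comp, Category.assoc] at h1
  exact ((Category.assoc _ _ _).symm.trans h1).trans (Category.assoc _ _ _)

end Groth.Agent.S14988
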