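import Groth.Statements.S6867
import Mathlib.RingTheory.Localization.Finiteness
import Mathlib.RingTheory.Localization.FractionRing
import Mathlib.RingTheory.Localization.Integer
import Mathlib.LinearAlgebra.Dimension.Free
import Mathlib.LinearAlgebra.FreeModule.Finite.Basic
import Mathlib.Algebra.Module.Torsion.Pi
import Mathlib.LinearAlgebra.Basis.VectorSpace
import Mathlib.Algebra.Module.LocalizedModule.Basic

set_option autoImplicit false
universe u
open CAlg

namespace Groth.Agent.S6867

/-- A finite torsion free module over a domain embeds into a finite free module. -/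
theorem exists_injective_of_isTorsionFree (R : Type u) [CommRing R] [IsDomain R] (M : Type u)
    [AddCommGroup M] [Module R M] [Module.Finite R M] [Module.IsTorsionFree R M] :
    ∃ (n : ℕ) (f : M →ₗ[R] (Fin n → R)), Function.Injective f := by
  classical
  let K := FractionRing R
  let V := LocalizedModule (nonZeroDivisors R) M
  let f : M →ₗ[R] V := LocalizedModule.mkLinearMap (nonZeroDivisors R) M
  have hf : Function.Injective f := by
    rw [← LinearMap.ker_eq_bot, LinearMap.ker_eq_bot']
    intro m hm
    rw [IsLocalizedModule.eq_zero_iff (nonZeroDivisors R) f] at hm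
    obtain ⟨s, hs⟩ := hm
    have hs0 : (s : R) ≠ 0 := nonZeroDivisors.ne_zero s.2
    exact (smul_eq_zero_iff_right hs0).mp hs
  have : Module.Finite K V := Module.Finite.of_isLocalizedModule (nonZeroDivisors R) f
  let n := Module.finrank K V
  let b : Module.Basis (Fin n) K V := Module.finBasis K V
  -- coordinates
  let c : M →ₗ[R] (Fin n → K) := (b.equivFun.toLinearMap.restrictScalars R) ∘ₗ f
  have hc : Function.Injective c := by
    intro x y hxy
    apply hf
    exact b.equivFun.injective hxy
  obtain ⟨G, hG⟩ := (Module.Finite.fg_top : (⊤ : Submodule R M).FG)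
  obtain ⟨d, hd⟩ := IsLocalization.exist_integer_multiples_of_finset (nonZeroDivisors R)
    ((G ×ˢ (Finset.univ : Finset (Fin n))).image (fun p => c p.1 p.2))
  have hd0 : algebraMap R K (d : R) ≠ 0 := by
    rw [Ne, map_eq_zero_iff _ (IsFractionRing.injective R K)]
    exact nonZeroDivisors.ne_zero d.2
  -- the map `m ↦ d • c m`
  let h : M →ₗ[R] (Fin n → K) := (d : R) • c
  have hh : Function.Injective h := by
    intro x y hxy
    apply hc
    have h1 : (d : R) • c x = (d : R) • c y := hxy
    funext j
    have h2 := congrFun h1 j
    simp only [Pi.smul_apply, Algebra.smul_def] at h2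
    exact mul_left_cancel₀ hd0 h2
  let ι : (Fin n → R) →ₗ[R] (Fin n → K) := (Algebra.linearMap R K).compLeft (Fin n)
  have hι : Function.Injective ι := by
    intro x y hxy
    funext j
    exact IsFractionRing.injective R K (congrFun hxy j)
  have hrange : LinearMap.range h ≤ LinearMap.range ι := by
    rw [LinearMap.range_eq_map, ← hG, Submodule.map_span, Submodule.span_le]
    rintro _ ⟨g, hg, rfl⟩
    have : ∀ j : Fin n, ∃ r : R, algebraMap R K r = (d : R) • c g j := by
      intro j
      exact hd (c g j) (Finset.mem_image.mpr ⟨(g, j), Finset.mem_product.mpr ⟨hg, Finset.mem_univ j⟩, rfl⟩)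
    choose r hr using this
    refine ⟨r, ?_⟩
    funext j
    exact hr j
  let e := LinearEquiv.ofInjective ι hι
  let h' : M →ₗ[R] LinearMap.range ι := h.codRestrict (LinearMap.range ι)
    (fun m => hrange (LinearMap.mem_range_self h m))
  refine ⟨n, e.symm.toLinearMap ∘ₗ h', ?_⟩
  intro x y hxy
  apply hh
  have h1 : h' x = h' y := e.symm.injective hxy
  exact congrArg Subtype.val h1

/-- For a domain `R`, a finite `R`-module `M` is torsion free exactly when it admits an injective
`R`-linear map into `Rⁿ` for some `n`. -/
theorem result (R : Type u) [CommRing R] [IsDomain R] (M : Type u)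
    [AddCommGroup M] [Module R M] [Module.Finite R M] :
    Module.IsTorsionFree R M ↔ ∃ (n : ℕ) (f : M →ₗ[R] (Fin n → R)), Function.Injective f := by
  constructor
  · intro h
    exact exists_injective_of_isTorsionFree R M
  · rintro ⟨n, f, hf⟩
    exact Function.Injective.moduleIsTorsionFree f hf (fun r m => map_smul f r m)

end Groth.Agent.S6867
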