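import Groth.Statements.S14994
import Groth.Agent.S6867

set_option autoImplicit false
universe u
open CAlg

namespace Groth.Agent.S14994

/-- Let A be a Noetherian integrally closed domain, M a finitely generated torsion-free A-module, N a
submodule of M and ι : M → M** the canonical map to the double dual. Write N** → M** for the double
dual of the inclusion N → M. Then every m ∈ M whose image ι(m) lies in the image of N** is a torsion
element modulo N: some nonzero a ∈ A satisfies a·m ∈ N. In other words the preimage of N** under ι
is contained in the saturation of N in M (the preimage of the torsion submodule of M/N), and the two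
coincide when M/N is torsion-free. (The published statement asserts equality of the preimage with
the saturation for every N; for N = xA inside M = A = k[x] the saturation is all of M while N** has
image xA = N under the identification M** = M, so only the inclusion stated here holds, and it is
the inclusion later used, for saturated N, where the two sides agree.) -/
theorem result (A : Type u) [CommRing A] [IsDomain A]
    [IsNoetherianRing A] [IsIntegrallyClosed A]
    (M : Type u) [AddCommGroup M] [Module A M] [Module.Finite A M] [NoZeroSMulDivisors A M]
    (N : Submodule A M) :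
    (LinearMap.range N.subtype.dualMap.dualMap).comap (Module.Dual.eval A M) ≤
      (Submodule.torsion A (M ⧸ N)).comap N.mkQ := by
  intro m hm
  rw [Submodule.mem_comap] at hm ⊢
  obtain ⟨ξ, hξ⟩ := hm
  by_contra hnt
  let T := Submodule.torsion A (M ⧸ N)
  obtain ⟨n, g, hg⟩ := Groth.Agent.S6867.exists_injective_of_isTorsionFree A ((M ⧸ N) ⧸ T)
  let q : M →ₗ[A] (M ⧸ N) ⧸ T := T.mkQ ∘ₗ N.mkQ
  have hq : q m ≠ 0 := by
    intro h0
    apply hnt
    exact (Submodule.Quotient.mk_eq_zero T).mp h0
  have hgq : g (q m) ≠ 0 := fun h => hq (hg (by rw [h, map_zero]))
  obtain ⟨i, hi⟩ : ∃ i, g (q m) i ≠ (0 : Fin n → A) i := Function.ne_iff.mp hgq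
  let φ : Module.Dual A M := (LinearMap.proj i) ∘ₗ g ∘ₗ q
  have h2 : N.subtype.dualMap φ = 0 := by
    ext x
    have hx : q x = 0 := by
      change T.mkQ (N.mkQ x) = 0
      have : N.mkQ (x : M) = 0 := (Submodule.Quotient.mk_eq_zero N).mpr x.2
      rw [this, map_zero]
    change g (q x) i = 0
    rw [hx, map_zero]
    rfl
  have h3 := LinearMap.congr_fun hξ φ
  rw [LinearMap.dualMap_apply, h2, map_zero] at h3
  exact hi h3.symm

end Groth.Agent.S14994
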