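import Groth.Statements.S14997
import Mathlib
-- import your own Groth.Agent.* helpers here

set_option autoImplicit false
open HilbPol

namespace Groth.Agent.S14997

section aux
open Polynomial

/-- `α_i(R) = i! · coeff_i R`. -/
noncomputable def al (R : ℚ[X]) (i : ℕ) : ℚ := R.coeff i * (Nat.factorial i : ℚ)

lemma coeff_comp_sub (R : ℚ[X]) (a : ℚ) (n : ℕ) :
    (R.comp (X - C a)).coeff n =
      ∑ i ∈ Finset.range (R.natDegree + 1), (i.choose n : ℚ) * R.coeff i * (-a) ^ (i - n) := by
  have : R.comp (X - C a) = taylor (-a) R := by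
    rw [taylor_apply, map_neg, sub_eq_add_neg]
  rw [this, taylor_coeff, hasseDeriv_apply, sum_over_range]
  · rw [eval_finsetSum]
    apply Finset.sum_congr rfl
    intro i _
    rw [eval_monomial]
  · intro n; simp

lemma al_delta (R : ℚ[X]) (a : ℚ) (d n : ℕ) (hd : R.natDegree = d) (hn : n < d) :
    al (R - R.comp (X - C a)) n =
      - ∑ i ∈ Finset.Ico (n + 1) (d + 1),
        ((-a) ^ (i - n) / ((i - n).factorial : ℚ)) * al R i := by
  unfold al
  rw [coeff_sub, coeff_comp_sub, hd, Finset.range_eq_Ico,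
    ← Finset.sum_Ico_consecutive _ (Nat.zero_le (n + 1)) (by omega : n + 1 ≤ d + 1)]
  have h1 : ∑ i ∈ Finset.Ico 0 (n + 1), (i.choose n : ℚ) * R.coeff i * (-a) ^ (i - n) =
      R.coeff n := by
    rw [Finset.sum_eq_single n]
    · simp
    · intro i hi hne
      have : i < n := by
        rw [Finset.mem_Ico] at hi; omega
      rw [Nat.choose_eq_zero_of_lt this]; simp
    · intro h
      exact (h (by simp)).elim
  rw [h1, sub_add_cancel_left, neg_mul, Finset.sum_mul]
  congr 1
  apply Finset.sum_congr rfl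
  intro i hi
  rw [Finset.mem_Ico] at hi
  have hni : n ≤ i := by omega
  have hfac := Nat.choose_mul_factorial_mul_factorial hni
  have hfac' : (i.choose n : ℚ) * (n.factorial : ℚ) * ((i - n).factorial : ℚ) =
      (i.factorial : ℚ) := by exact_mod_cast hfac
  have hpos : ((i - n).factorial : ℚ) ≠ 0 := by positivity
  rw [← hfac']
  field_simp

lemma lex_fwd {ℓ : ℕ} (u v u' v' : Fin ℓ → ℚ)
    (h : ∀ j : Fin ℓ, (∀ i, i < j → u i = v i) → u' j - v' j = u j - v j) :
    (toLex u < toLex v → toLex u' < toLex v') ∧ (u = v → u' = v') := by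
  constructor
  · rintro ⟨j, hj, hlt⟩
    refine ⟨j, ?_, ?_⟩
    · intro i hi
      have := h i (fun i' hi' => hj i' (lt_trans hi' hi))
      have h0 := hj i hi
      change u i = v i at h0
      show u' i = v' i
      rw [h0, sub_self] at this
      linarith
    · have := h j hj
      change u j < v j at hlt
      show u' j < v' j
      linarith
  · intro huv
    funext j
    have := h j (fun i _ => by rw [huv])
    rw [huv, sub_self] at this
    linarith

lemma lex_le_iff {ℓ : ℕ} (u v u' v' : Fin ℓ → ℚ)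
    (h : ∀ j : Fin ℓ, (∀ i, i < j → u i = v i) → u' j - v' j = u j - v j) :
    toLex u ≤ toLex v ↔ toLex u' ≤ toLex v' := by
  have h' : ∀ j : Fin ℓ, (∀ i, i < j → v i = u i) → v' j - u' j = v j - u j := by
    intro j hj
    have := h j (fun i hi => (hj i hi).symm)
    linarith
  obtain ⟨f1, f2⟩ := lex_fwd u v u' v' h
  obtain ⟨g1, -⟩ := lex_fwd v u v' u' h'
  constructor
  · intro hle
    rcases lt_or_eq_of_le hle with hlt | heq
    · exact (f1 hlt).le
    · have : u = v := toLex.injective heq
      rw [f2 this]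
  · intro hle
    by_contra hcon
    rw [not_le] at hcon
    exact absurd (g1 hcon) (not_lt.mpr hle)

end aux


open Polynomial in
/-- Let d and ℓ be natural numbers with ℓ + 1 ≤ d, let a be a nonzero rational number and let P, Q be
polynomials with rational coefficients, both of degree exactly d. For a polynomial R of degree e
write R(m) = Σ_i α_i(R) m^i / i! (so α_i(R) = i! · coeff_i(R)) and let r_ℓ(R) ∈ ℚ^ℓ be the vector
(α_{e−1}(R)/α_e(R), …, α_{e−ℓ}(R)/α_e(R)) of the ℓ coefficients after the leading one of the reduced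
polynomial R/α_e(R), ordered lexicographically. The polynomials P(m) − P(m − a) and Q(m) − Q(m − a)
have degree d − 1, and r_ℓ(P) ≤ r_ℓ(Q) lexicographically if and only if r_ℓ(P(m) − P(m − a)) ≤
r_ℓ(Q(m) − Q(m − a)) lexicographically (hence the same with strict inequalities, by exchanging P and
Q). When P and Q are the Hilbert polynomials of pure d-dimensional coherent sheaves E → F on a
polarized projective scheme and D is a hypersurface section of degree a containing no associated
point of E or F, the Hilbert polynomials of E|_D and F|_D are P(m) − P(m − a) and Q(m) − Q(m − a),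
and the two sides are the comparisons of the ℓ-truncated reduced Hilbert polynomials p_ℓ(E) ≥ p_ℓ(F)
and p_ℓ(E|_D) ≥ p_ℓ(F|_D). (The published statement is phrased for the sheaves; this row is the
statement about their Hilbert polynomials that the displayed coefficient formula yields.) -/
theorem result (d ℓ : ℕ) (hℓ : ℓ + 1 ≤ d) (a : ℚ) (ha : a ≠ 0)
    (P Q : ℚ[X]) (hP : P.natDegree = d) (hQ : Q.natDegree = d) (hP0 : P ≠ 0) (hQ0 : Q ≠ 0) :
    toLex (fun j : Fin ℓ => ((P).coeff (d - 1 - (j : ℕ)) * (Nat.factorial (d - 1 - (j : ℕ)) : ℚ)) / ((P).coeff (d) * (Nat.factorial (d) : ℚ))) ≤ toLex (fun j : Fin ℓ => ((Q).coeff (d - 1 - (j : ℕ)) * (Nat.factorial (d - 1 - (j : ℕ)) : ℚ)) / ((Q).coeff (d) * (Nat.factorial (d) : ℚ))) ↔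
      toLex (fun j : Fin ℓ => ((P - P.comp (X - C a)).coeff ((d - 1) - 1 - (j : ℕ)) * (Nat.factorial ((d - 1) - 1 - (j : ℕ)) : ℚ)) / ((P - P.comp (X - C a)).coeff ((d - 1)) * (Nat.factorial ((d - 1)) : ℚ))) ≤
        toLex (fun j : Fin ℓ => ((Q - Q.comp (X - C a)).coeff ((d - 1) - 1 - (j : ℕ)) * (Nat.factorial ((d - 1) - 1 - (j : ℕ)) : ℚ)) / ((Q - Q.comp (X - C a)).coeff ((d - 1)) * (Nat.factorial ((d - 1)) : ℚ))) := by
  have hd1 : 1 ≤ d := by omega
  have alP : al P d ≠ 0 := by
    unfold al
    have : P.coeff d ≠ 0 := by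
      rw [← hP]; exact leadingCoeff_ne_zero.mpr hP0
    have hf : (Nat.factorial d : ℚ) ≠ 0 := by positivity
    exact mul_ne_zero this hf
  have alQ : al Q d ≠ 0 := by
    unfold al
    have : Q.coeff d ≠ 0 := by
      rw [← hQ]; exact leadingCoeff_ne_zero.mpr hQ0
    have hf : (Nat.factorial d : ℚ) ≠ 0 := by positivity
    exact mul_ne_zero this hf
  have htop : ∀ R : ℚ[X], R.natDegree = d → al (R - R.comp (X - C a)) (d - 1) = a * al R d := by
    intro R hR
    rw [al_delta R a d (d - 1) hR (by omega)]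
    have e : d - 1 + 1 = d := by omega
    rw [e, Nat.Ico_succ_singleton, Finset.sum_singleton]
    have e2 : d - (d - 1) = 1 := by omega
    rw [e2]
    simp
  show toLex (fun j : Fin ℓ => al P (d - 1 - (j : ℕ)) / al P d) ≤
      toLex (fun j : Fin ℓ => al Q (d - 1 - (j : ℕ)) / al Q d) ↔
    toLex (fun j : Fin ℓ => al (P - P.comp (X - C a)) ((d - 1) - 1 - (j : ℕ)) /
        al (P - P.comp (X - C a)) (d - 1)) ≤
      toLex (fun j : Fin ℓ => al (Q - Q.comp (X - C a)) ((d - 1) - 1 - (j : ℕ)) /
        al (Q - Q.comp (X - C a)) (d - 1))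
  apply lex_le_iff
  intro j hj
  have hjl : (j : ℕ) < ℓ := j.2
  set n := d - 1 - 1 - (j : ℕ) with hn
  have hnd : n + 1 = d - 1 - (j : ℕ) := by omega
  have hn_lt : n < d := by omega
  show al (P - P.comp (X - C a)) n / al (P - P.comp (X - C a)) (d - 1) -
      al (Q - Q.comp (X - C a)) n / al (Q - Q.comp (X - C a)) (d - 1) =
    al P (d - 1 - (j : ℕ)) / al P d - al Q (d - 1 - (j : ℕ)) / al Q d
  rw [htop P hP, htop Q hQ, al_delta P a d n hP hn_lt, al_delta Q a d n hQ hn_lt]
  -- combine
  have hcomb : (-∑ i ∈ Finset.Ico (n + 1) (d + 1),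
        (-a) ^ (i - n) / ((i - n).factorial : ℚ) * al P i) / (a * al P d) -
      (-∑ i ∈ Finset.Ico (n + 1) (d + 1),
        (-a) ^ (i - n) / ((i - n).factorial : ℚ) * al Q i) / (a * al Q d) =
      -(1 / a) * ∑ i ∈ Finset.Ico (n + 1) (d + 1), (-a) ^ (i - n) / ((i - n).factorial : ℚ) *
        (al P i / al P d - al Q i / al Q d) := by
    rw [Finset.mul_sum, neg_div, neg_div, Finset.sum_div, Finset.sum_div, ← Finset.sum_neg_distrib,
      ← Finset.sum_neg_distrib, ← Finset.sum_sub_distrib]
    apply Finset.sum_congr rfl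
    intro i _
    field_simp
    ring
  rw [hcomb, Finset.sum_eq_single (n + 1)]
  · have e : n + 1 - n = 1 := by omega
    rw [e, hnd]
    simp only [pow_one, Nat.factorial_one, Nat.cast_one, div_one]
    field_simp
  · intro i hi hne
    rw [Finset.mem_Ico] at hi
    have hzero : al P i / al P d - al Q i / al Q d = 0 := by
      by_cases hid : i = d
      · rw [hid, div_self alP, div_self alQ, sub_self]
      · have hjj : d - 1 - i < (j : ℕ) := by omega
        have hlt : (⟨d - 1 - i, by omega⟩ : Fin ℓ) < j := by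
          rw [Fin.lt_def]; exact hjj
        have := hj ⟨d - 1 - i, by omega⟩ hlt
        simp only [] at this
        have e : d - 1 - (d - 1 - i) = i := by omega
        rw [e] at this
        rw [this, sub_self]
    rw [hzero, mul_zero]
  · intro h
    exact (h (by rw [Finset.mem_Ico]; omega)).elim

end Groth.Agent.S14997
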