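import Groth.Statements.S1500
import Groth.Agent.Lib.H78CartierSec
import Groth.Agent.Lib.H78AmpleFamily

set_option autoImplicit false
universe u
open FlatMor

namespace Groth.Agent.S1500

open AlgebraicGeometry CategoryTheory Limits in
/-- Let D_1, …, D_m be effective Cartier divisors on X (ideal sheaves locally generated by a
nonzerodivisor) with empty common support, and L_1, …, L_m invertible O_X-modules with L_i ample on
the open complement of D_i. Then X has an ample family of invertible modules. -/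
theorem result {X : Scheme.{u}} {m : ℕ} (D : Fin m → X.IdealSheafData)
    (hD : ∀ i, BlowUp.IsEffCartierIdeal (D i)) (hcap : ⋂ i, ((D i).support : Set ↑X) = ∅)
    (L : Fin m → X.Modules) (hL : ∀ i, PicF.IsInvertible (L i)) (hamp : ∀ i, CohB1.IsAmple ((L i).restrict (Scheme.Opens.ι (D i).support.compl))) :
    MoreMor.HasAmpleFamily X := by
  open Groth.Agent.Lib.H90Invertible Groth.Agent.Lib.H78TensorGen Groth.Agent.Lib.H78Atlas
    Groth.Agent.Lib.H78CartierSec TopologicalSpace in
  have hU : ∀ x : X, ∃ i, x ∈ (D i).support.compl := by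
    intro x
    by_contra hcon
    push Not at hcon
    have : x ∈ ⋂ i, ((D i).support : Set ↑X) := Set.mem_iInter.2 (fun i => by
      have := hcon i
      by_contra h'
      exact this h')
    rw [hcap] at this
    exact this
  have hcomp : ∀ i, IsCompact (((D i).support.compl : X.Opens) : Set X) := fun i =>
    isCompact_iff_compactSpace.2 (hamp i).2.1
  haveI : CompactSpace X := by
    refine ⟨?_⟩
    have h1 : (Set.univ : Set X) = ⋃ i, (((D i).support.compl : X.Opens) : Set X) := by
      ext x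
      simp only [Set.mem_univ, Set.mem_iUnion, true_iff]
      exact hU x
    rw [h1]
    exact isCompact_iUnion hcomp
  have hQ : ∀ i, PicF.IsInvertible (RefHull.dual (ClSub.idealMod (D i))) := fun i =>
    isInvertible_dual_idealMod (hD i)
  have hgl : ∀ i, CohB1.genLocus _ (canSec (D i)) = (D i).support.compl := fun i =>
    genLocus_canSec (hD i)
  have hqsU : ∀ i, IsQuasiSeparated (((D i).support.compl : X.Opens) : Set X) := by
    intro i
    refine (isQuasiSeparated_iff_quasiSeparatedSpace _ ((D i).support.compl : X.Opens).2).2 ?_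
    exact Groth.Agent.Lib.H78AmpleBasis.quasiSeparatedSpace_of_isAmple (hamp i)
  haveI : QuasiSeparatedSpace X := by
    rw [quasiSeparatedSpace_iff_forall_affineOpens]
    intro A B
    have hA : ∀ i, IsAffineOpen (CohB1.genLocus _ (canSec (D i)) ⊓ A.1) := fun i =>
      isAffineOpen_genLocus_inf (hQ i) _ A.2
    have hB : ∀ i, IsAffineOpen (CohB1.genLocus _ (canSec (D i)) ⊓ B.1) := fun i =>
      isAffineOpen_genLocus_inf (hQ i) _ B.2
    have h1 : ((A : Set X) ∩ B) = ⋃ i, ((CohB1.genLocus _ (canSec (D i)) ⊓ A.1 : X.Opens) : Set X) ∩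
        ((CohB1.genLocus _ (canSec (D i)) ⊓ B.1 : X.Opens) : Set X) := by
      ext x
      simp only [Set.mem_inter_iff, Set.mem_iUnion, SetLike.mem_coe, Opens.coe_inf]
      constructor
      · rintro ⟨hxA, hxB⟩
        obtain ⟨i, hi⟩ := hU x
        rw [← hgl i] at hi
        exact ⟨i, ⟨hi, hxA⟩, ⟨hi, hxB⟩⟩
      · rintro ⟨i, ⟨-, hxA⟩, ⟨-, hxB⟩⟩
        exact ⟨hxA, hxB⟩
    rw [h1]
    refine isCompact_iUnion (fun i => ?_)
    refine hqsU i _ _ ?_ (Opens.isOpen _) (hA i).isCompact ?_ (Opens.isOpen _) (hB i).isCompact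
    · rw [← hgl i]; exact fun y hy => hy.1
    · rw [← hgl i]; exact fun y hy => hy.1
  refine ⟨inferInstance, fun x => ?_⟩
  obtain ⟨i, hi⟩ := hU x
  obtain ⟨a, k, ζ, hxζ, haffζ, -⟩ := Groth.Agent.Lib.H78LocalAmple.exists_global_sec (hL i) (hQ i)
    (canSec (D i)) _ (hgl i) (hamp i) x hi
  have hR : PicF.IsInvertible (CohB1.tensorMod (CohB1.tensorMod (CohB1.tensorPow (L i) (a + 1))
      (CohB1.tensorPow (RefHull.dual (ClSub.idealMod (D i))) k))
      (RefHull.dual (ClSub.idealMod (D i)))) :=
    isInvertible_tensorMod (isInvertible_tensorMod (isInvertible_tensorPow (hL i) _)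
      (isInvertible_tensorPow (hQ i) k)) (hQ i)
  obtain ⟨V, hxV, -, ⟨B⟩⟩ := exists_atlas hR
  have hV := iSup_eq_top_of_mem hxV
  obtain ⟨s, hs⟩ := Groth.Agent.S2327.transfer hV B (B.pow 1) 1 one_pos (by
    intro i j
    rw [Atlas.pow_trans]) (ofSection ζ)
  exact ⟨_, 1, s, hR, le_refl 1, hs ▸ hxζ, hs ▸ haffζ⟩

end Groth.Agent.S1500
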