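import Groth.Statements.S15002
import Mathlib
import Groth.Agent.Lib.EllStab97
import Groth.Agent.S0002
-- import your own Groth.Agent.* helpers here

set_option autoImplicit false
universe u
open CategoryTheory CategoryTheory.Limits AlgebraicGeometry
open Coherent

namespace Groth.Agent.S15002

open Polynomial in
/-- Let k be an algebraically closed field and X an integral scheme, smooth and proper over k, with a
closed immersion ι into projective N-space over k compatible with the structure maps; write E(m) = E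
⊗ ι^*O(m). Let 1 ≤ ℓ ≤ d and let E be a coherent O_X-module whose Hilbert polynomial P (χ(E(m)) =
P(m) for all integers m) is nonzero of degree d, which is pure of dimension d (every nonzero
coherent subsheaf of E has support of Krull dimension d) and ℓ-stable: writing R(m) = Σ_i α_i(R)
m^i/i! for a polynomial R, for every coherent subsheaf F of E with Hilbert polynomial Q such that 0
< α_d(Q) < α_d(P), the vector (α_{d−1}(Q)/α_d(Q), …, α_{d−ℓ}(Q)/α_d(Q)) is strictly smaller than
(α_{d−1}(P)/α_d(P), …, α_{d−ℓ}(P)/α_d(P)) in the lexicographic order. Then E is simple: every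
endomorphism φ of E is multiplication by a scalar, i.e. there is c ∈ k with φ(s) = c·s for every
local section s of E. (The published statement gives more generally, for such E, that the
endomorphisms of the restriction of E to the complement of any closed subset meeting the support of
E in codimension at least ℓ + 1 are the scalars; this row is the case of the empty closed subset.) -/
theorem result (k : Type u) [Field k] [IsAlgClosed k]
    (X : Scheme.{u}) [X.Over (Spec (CommRingCat.of k))] [IsIntegral X]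
    [Smooth (X ↘ Spec (CommRingCat.of k))] [IsProper (X ↘ Spec (CommRingCat.of k))]
    (N : ℕ) (ι : X ⟶ CohB1.ProjSpace N k) [IsClosedImmersion ι] (hι : ι ≫ CohB1.ProjSpace.toSpec N k = X ↘ Spec (CommRingCat.of k))
    (d ℓ : ℕ) (hℓ : 1 ≤ ℓ) (hℓd : ℓ ≤ d)
    (E : X.Modules) (hE : Coh.IsCoh E) (P : ℚ[X]) (hPd : P.natDegree = d) (hP0 : P ≠ 0)
    (hP : ∀ m : ℤ, (Curv2.euler k X (Pic13.twistOn k ι E m) : ℚ) = P.eval (m : ℚ))
    (hpure : ∀ (F : X.Modules) (j : F ⟶ E), Mono j → Coh.IsCoh F → ¬ IsZero F →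
      topologicalKrullDim (CohB1.support F) = (d : WithBot ℕ∞))
    (hst : ∀ (F : X.Modules) (j : F ⟶ E), Mono j → Coh.IsCoh F → ∀ Q : ℚ[X],
      (∀ m : ℤ, (Curv2.euler k X (Pic13.twistOn k ι F m) : ℚ) = Q.eval (m : ℚ)) →
        0 < Q.coeff d → Q.coeff d < P.coeff d →
          toLex (fun j : Fin ℓ => ((Q).coeff (d - 1 - (j : ℕ)) * (Nat.factorial (d - 1 - (j : ℕ)) : ℚ)) / ((Q).coeff d * (Nat.factorial d : ℚ))) < toLex (fun j : Fin ℓ => ((P).coeff (d - 1 - (j : ℕ)) * (Nat.factorial (d - 1 - (j : ℕ)) : ℚ)) / ((P).coeff d * (Nat.factorial d : ℚ))))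
    (φ : E ⟶ E) :
    ∃ c : k, ∀ (V : X.Opens) (s : E.val.obj (Opposite.op V)),
      (φ.val.app (Opposite.op V)) s = (X.ringCatSheaf.obj.map (homOfLE (le_top : V ≤ ⊤)).op (Coh.toGlobal (X ↘ Spec (CommRingCat.of k)) c : X.ringCatSheaf.obj.obj (Opposite.op ⊤))) • s := by
  have H : Groth.Agent.Lib.ProperFinHyp.Hyp.{u} :=
    fun A _ _ X _ _ M hM n => Groth.Agent.S0002.result A X M hM n
  have hL : CohB1.IsAmple (Groth.Agent.Lib.HilbBinom13.OX k ι 1) :=
    Groth.Agent.Lib.EllStab97.isAmple_OX k ι
  -- `P` is the Hilbert polynomial of `E`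
  have hPE : ShStab.IsHilbPoly k X (Groth.Agent.Lib.HilbBinom13.OX k ι 1) E P := by
    intro m
    obtain ⟨e⟩ := Groth.Agent.Lib.EllStab97.nonempty_twist_iso k ι E m
    rw [Groth.Agent.Lib.DegTensor13.euler_congr k e]
    exact_mod_cast hP (m : ℤ)
  have hE0 : ¬ IsZero E := by
    intro hz
    exact hP0 (Groth.Agent.Lib.HilbPoly48.isHilbPoly_unique hPE
      (Groth.Agent.Lib.HilbPoly48.isHilbPoly_zero k X _ hz))
  have hstab : ShStab.IsStable k X (Groth.Agent.Lib.HilbBinom13.OX k ι 1) E d := by
    rw [Groth.Agent.Lib.StabGeom48.isStable_iff_isEllStable H k X hL d]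
    refine ⟨hE, hE0, hpure, ?_⟩
    intro F j hj hF pF pE hpF hpE h1 h2
    haveI := hj
    have hdim := Groth.Agent.Lib.StabGeom48.dim_of_isPure (X := X) hpure hE hE0
    have hdF := Groth.Agent.Lib.StabGeom48.natDegree_le_of_mono H k X hL hdim.le j hF hpF
    have hdE := Groth.Agent.Lib.HilbPoly48.natDegree_le_of_isHilbPoly k X H hL.1 hE d hdim.le hpE
    rw [Groth.Agent.Lib.TopPart48.redLT_topPart_self_iff le_rfl hdF hdE]
    have hpEP : pE = P := Groth.Agent.Lib.HilbPoly48.isHilbPoly_unique hpE hPE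
    subst hpEP
    have hfd : (0 : ℚ) < (Nat.factorial d : ℚ) := by exact_mod_cast Nat.factorial_pos d
    have h1' : 0 < pF.coeff d := by
      unfold StabCat.alpha at h1
      exact (pos_iff_pos_of_mul_pos h1).1 hfd
    have h2' : pF.coeff d < pE.coeff d := by
      unfold StabCat.alpha at h2
      exact lt_of_mul_lt_mul_left h2 hfd.le
    exact Groth.Agent.Lib.EllStab97.redLT_of_lex hℓd hdF hdE h1' (h1'.trans h2')
      (hst F j hj hF pF (fun m => Groth.Agent.Lib.EllStab97.euler_twistOn_eq k ι H hF hpF m) h1' h2')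
  obtain ⟨c, hc⟩ := Groth.Agent.Lib.EndScalar.exists_eq_smulMod H k hL hE hE0
    (fun ψ hψ => Groth.Agent.Lib.StabGeom48.isIso_endo_of_isStable H k X hL d hstab ψ hψ) φ
  refine ⟨c, fun V s => ?_⟩
  rw [hc]
  rfl

end Groth.Agent.S15002
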