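import Groth.Statements.S15004
import Mathlib.Tactic

set_option autoImplicit false
universe u v
open Harb

namespace Groth.Agent.S15004

/-- Let C be a finite family of d curves, recorded as an incidence relation between a type of points and
a finite index type, such that any two distinct curves of the family meet in exactly h points; for a
point p write r_p for the number of curves of the family through p. Then for every curve C_i of the
family, Σ_{p ∈ C_i} (r_p − 1) = h (d − 1), the sum being finitely supported. (The published
statement is for a transversal arrangement of curves on a geometrically ruled surface with invariant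
e, all numerically equivalent to a C₀ + b f, where any two of the curves meet transversally in h =
2ab − a²e points; only this common pairwise intersection count enters the proof, and this row states
the identity for an abstract incidence relation.) -/
theorem result (P : Type u) (ι : Type v) [Fintype ι]
    (inc : P → ι → Prop) (h : ℕ)
    (hfin : ∀ i j : ι, i ≠ j → {p : P | inc p i ∧ inc p j}.Finite)
    (hcount : ∀ i j : ι, i ≠ j → {p : P | inc p i ∧ inc p j}.ncard = h) (i : ι) :
    ∑ᶠ p ∈ {p : P | inc p i}, (Nat.card {j : ι // inc p j} - 1) = h * (Fintype.card ι - 1) := by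
  classical
  set d := Fintype.card ι with hd
  let J : P → Finset ι := fun p => Finset.univ.filter (fun j => inc p j)
  let r : P → ℕ := fun p => Nat.card {j : ι // inc p j}
  have hr : ∀ p, r p = (J p).card := by
    intro p
    simp only [r, J]
    rw [Nat.card_eq_fintype_card, Fintype.card_subtype]
  -- the other curves
  let D : Finset ι := Finset.univ.erase i
  have hDcard : D.card = d - 1 := by
    simp only [D]
    rw [Finset.card_erase_of_mem (Finset.mem_univ i), Finset.card_univ]
  have hDmem : ∀ j : ι, j ∈ D ↔ j ≠ i := by
    intro j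
    simp [D]
  let I : ι → Finset P := fun j =>
    if hj : i ≠ j then (hfin i j hj).toFinset else ∅
  have hImem : ∀ j ∈ D, ∀ p, p ∈ I j ↔ inc p i ∧ inc p j := by
    intro j hj p
    have hj' : i ≠ j := ((hDmem j).mp hj).symm
    simp only [I, dif_pos hj', Set.Finite.mem_toFinset, Set.mem_ofPred_eq]
  have hIcard : ∀ j ∈ D, (I j).card = h := by
    intro j hj
    have hj' : i ≠ j := ((hDmem j).mp hj).symm
    simp only [I, dif_pos hj']
    rw [← Set.ncard_eq_toFinset_card _ (hfin i j hj'), hcount i j hj']
  let S : Finset P := D.biUnion I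
  have hSi : ∀ p ∈ S, inc p i := by
    intro p hp
    obtain ⟨j, hj, hpj⟩ := Finset.mem_biUnion.mp hp
    exact ((hImem j hj p).mp hpj).1
  -- r p - 1 counts the other curves through p
  have hrp : ∀ p, inc p i → r p - 1 = (D.filter (fun j => p ∈ I j)).card := by
    intro p hp
    have : D.filter (fun j => p ∈ I j) = (J p).erase i := by
      ext j
      constructor
      · intro hjf
        obtain ⟨hj, hpj⟩ := Finset.mem_filter.mp hjf
        exact Finset.mem_erase.mpr ⟨(hDmem j).mp hj,
          Finset.mem_filter.mpr ⟨Finset.mem_univ _, ((hImem j hj p).mp hpj).2⟩⟩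
      · intro hje
        obtain ⟨hne, hjJ⟩ := Finset.mem_erase.mp hje
        have hj : j ∈ D := (hDmem j).mpr hne
        exact Finset.mem_filter.mpr ⟨hj, (hImem j hj p).mpr ⟨hp, (Finset.mem_filter.mp hjJ).2⟩⟩
    rw [this, Finset.card_erase_of_mem (Finset.mem_filter.mpr ⟨Finset.mem_univ _, hp⟩), hr]
  -- the finsum is a finite sum over S
  have hfs : ∑ᶠ p ∈ {p : P | inc p i}, (Nat.card {j : ι // inc p j} - 1) = ∑ p ∈ S, (r p - 1) := by
    apply finsum_mem_eq_sum_of_inter_support_eq
    ext p
    simp only [Set.mem_inter_iff, Set.mem_ofPred_eq, Function.mem_support, Finset.mem_coe]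
    constructor
    · rintro ⟨hp, hne⟩
      refine ⟨?_, hne⟩
      have h1 : r p - 1 ≠ 0 := hne
      rw [hrp p hp] at h1
      obtain ⟨j, hj⟩ := Finset.card_pos.mp (Nat.pos_of_ne_zero h1)
      obtain ⟨hjD, hpj⟩ := Finset.mem_filter.mp hj
      exact Finset.mem_biUnion.mpr ⟨j, hjD, hpj⟩
    · rintro ⟨hp, hne⟩
      exact ⟨hSi p hp, hne⟩
  rw [hfs]
  have h1 : ∀ j ∈ D, (I j).card = ∑ p ∈ S, if p ∈ I j then 1 else 0 := by
    intro j hj
    rw [Finset.sum_ite_mem, Finset.sum_const, smul_eq_mul, mul_one]
    congr 1
    rw [Finset.inter_eq_right.mpr]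
    exact Finset.subset_biUnion_of_mem I hj
  have h2 : ∑ p ∈ S, (r p - 1) = ∑ j ∈ D, (I j).card := by
    rw [Finset.sum_congr rfl h1, Finset.sum_comm]
    apply Finset.sum_congr rfl
    intro p hp
    rw [← Finset.card_filter]
    exact hrp p (hSi p hp)
  rw [h2, Finset.sum_congr rfl hIcard, Finset.sum_const, hDcard, smul_eq_mul, mul_comm]

end Groth.Agent.S15004
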