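import Groth.Statements.S15005
import Mathlib.Tactic

set_option autoImplicit false
universe u v
open Harb

namespace Groth.Agent.S15005

/-- Let C be a finite family of d curves, recorded as an incidence relation between a type of points and
a finite index type, such that any two distinct curves of the family meet in exactly h points; let
t_k be the number of k-fold points (points lying on exactly k curves of the family). Then f₂ − f₁ =
Σ_{k ≥ 2} k(k − 1) t_k equals h d(d − 1), where f_i = Σ_{k ≥ 2} k^i t_k. (The published statement is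
for a transversal arrangement of curves on a geometrically ruled surface with invariant e, all
numerically equivalent to a C₀ + b f, where any two of the curves meet transversally in h = 2ab −
a²e points; only this common pairwise intersection count enters the proof, and this row states the
identity for an abstract incidence relation.) -/
theorem result (P : Type u) (ι : Type v) [Fintype ι]
    (inc : P → ι → Prop) (h : ℕ)
    (hfin : ∀ i j : ι, i ≠ j → {p : P | inc p i ∧ inc p j}.Finite)
    (hcount : ∀ i j : ι, i ≠ j → {p : P | inc p i ∧ inc p j}.ncard = h) :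
    ∑ k ∈ Finset.Icc 2 (Fintype.card ι), k * (k - 1) * Nat.card {p : P // Nat.card {j : ι // inc p j} = k} =
      h * (Fintype.card ι * (Fintype.card ι - 1)) := by
  classical
  set d := Fintype.card ι with hd
  -- the curves through a point
  let J : P → Finset ι := fun p => Finset.univ.filter (fun j => inc p j)
  let r : P → ℕ := fun p => Nat.card {j : ι // inc p j}
  have hr : ∀ p, r p = (J p).card := by
    intro p
    simp only [r, J]
    rw [Nat.card_eq_fintype_card, Fintype.card_subtype]
  have hrd : ∀ p, r p ≤ d := by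
    intro p
    rw [hr]
    exact Finset.card_le_univ _
  -- ordered pairs of distinct curves
  let D : Finset (ι × ι) := (Finset.univ : Finset ι).offDiag
  have hDcard : D.card = d * (d - 1) := by
    simp only [D]
    rw [Finset.offDiag_card, Finset.card_univ, Nat.mul_sub_one]
  have hDmem : ∀ x : ι × ι, x ∈ D ↔ x.1 ≠ x.2 := by
    intro x
    simp [D, Finset.mem_offDiag]
  let I : ι × ι → Finset P := fun x =>
    if hx : x.1 ≠ x.2 then (hfin x.1 x.2 hx).toFinset else ∅
  have hImem : ∀ x ∈ D, ∀ p, p ∈ I x ↔ inc p x.1 ∧ inc p x.2 := by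
    intro x hx p
    have hx' := (hDmem x).mp hx
    simp only [I, dif_pos hx', Set.Finite.mem_toFinset, Set.mem_ofPred_eq]
  have hIcard : ∀ x ∈ D, (I x).card = h := by
    intro x hx
    have hx' := (hDmem x).mp hx
    simp only [I, dif_pos hx']
    rw [← Set.ncard_eq_toFinset_card _ (hfin x.1 x.2 hx'), hcount x.1 x.2 hx']
  let S : Finset P := D.biUnion I
  -- multiple points lie in S
  have hS : ∀ p, 2 ≤ r p → p ∈ S := by
    intro p hp
    rw [hr] at hp
    obtain ⟨i, hi, j, hj, hij⟩ := Finset.one_lt_card.mp hp
    have hi' : inc p i := (Finset.mem_filter.mp hi).2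
    have hj' : inc p j := (Finset.mem_filter.mp hj).2
    have hx : (i, j) ∈ D := (hDmem (i, j)).mpr hij
    exact Finset.mem_biUnion.mpr ⟨(i, j), hx, (hImem _ hx p).mpr ⟨hi', hj'⟩⟩
  have hS2 : ∀ p ∈ S, 2 ≤ r p := by
    intro p hp
    obtain ⟨x, hx, hpx⟩ := Finset.mem_biUnion.mp hp
    have hx' := (hDmem x).mp hx
    obtain ⟨h1, h2⟩ := (hImem x hx p).mp hpx
    rw [hr]
    exact Finset.one_lt_card.mpr ⟨x.1, Finset.mem_filter.mpr ⟨Finset.mem_univ _, h1⟩, x.2,
      Finset.mem_filter.mpr ⟨Finset.mem_univ _, h2⟩, hx'⟩
  -- double counting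
  have hcountD : ∑ x ∈ D, (I x).card = h * (d * (d - 1)) := by
    rw [Finset.sum_congr rfl hIcard, Finset.sum_const, hDcard, smul_eq_mul, mul_comm]
  have hswap : ∑ x ∈ D, (I x).card = ∑ p ∈ S, (r p) * (r p - 1) := by
    have h1 : ∀ x ∈ D, (I x).card = ∑ p ∈ S, if p ∈ I x then 1 else 0 := by
      intro x hx
      rw [Finset.sum_ite_mem, Finset.sum_const, smul_eq_mul, mul_one]
      congr 1
      rw [Finset.inter_eq_right.mpr]
      exact Finset.subset_biUnion_of_mem I hx
    rw [Finset.sum_congr rfl h1, Finset.sum_comm]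
    apply Finset.sum_congr rfl
    intro p _
    rw [← Finset.card_filter]
    have : D.filter (fun x => p ∈ I x) = (J p).offDiag := by
      ext x
      constructor
      · intro hxf
        obtain ⟨hx, hpx⟩ := Finset.mem_filter.mp hxf
        obtain ⟨h1, h2⟩ := (hImem x hx p).mp hpx
        exact Finset.mem_offDiag.mpr ⟨Finset.mem_filter.mpr ⟨Finset.mem_univ _, h1⟩,
          Finset.mem_filter.mpr ⟨Finset.mem_univ _, h2⟩, (hDmem x).mp hx⟩
      · intro hxo
        obtain ⟨h1, h2, hne⟩ := Finset.mem_offDiag.mp hxo
        have hx : x ∈ D := (hDmem x).mpr hne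
        exact Finset.mem_filter.mpr
          ⟨hx, (hImem x hx p).mpr ⟨(Finset.mem_filter.mp h1).2, (Finset.mem_filter.mp h2).2⟩⟩
    rw [this, Finset.offDiag_card, hr, Nat.mul_sub_one]
  have hfiber : ∑ p ∈ S, (r p) * (r p - 1) =
      ∑ k ∈ Finset.Icc 2 d, k * (k - 1) * (S.filter (fun p => r p = k)).card := by
    rw [← Finset.sum_fiberwise_of_maps_to (g := r) (t := Finset.Icc 2 d)
      (fun p hp => Finset.mem_Icc.mpr ⟨hS2 p hp, hrd p⟩)]
    apply Finset.sum_congr rfl
    intro k _
    rw [Finset.sum_congr rfl (fun p hp => by rw [(Finset.mem_filter.mp hp).2] :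
      ∀ p ∈ S.filter (fun p => r p = k), r p * (r p - 1) = k * (k - 1))]
    rw [Finset.sum_const, smul_eq_mul, mul_comm]
  have hcard : ∀ k ∈ Finset.Icc 2 d, Nat.card {p : P // Nat.card {j : ι // inc p j} = k} =
      (S.filter (fun p => r p = k)).card := by
    intro k hk
    have hk2 : 2 ≤ k := (Finset.mem_Icc.mp hk).1
    have e : {p : P // Nat.card {j : ι // inc p j} = k} ≃ {p : P // p ∈ S.filter (fun p => r p = k)} :=
      Equiv.subtypeEquivRight (fun p => by
        rw [Finset.mem_filter]
        constructor
        · intro hp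
          exact ⟨hS p (by change 2 ≤ Nat.card _; rw [hp]; exact hk2), hp⟩
        · exact fun hp => hp.2)
    rw [Nat.card_congr e, Nat.card_eq_fintype_card, Fintype.card_coe]
  rw [Finset.sum_congr rfl (fun k hk => by rw [hcard k hk] :
    ∀ k ∈ Finset.Icc 2 d, k * (k - 1) * Nat.card {p : P // Nat.card {j : ι // inc p j} = k} =
      k * (k - 1) * (S.filter (fun p => r p = k)).card)]
  rw [← hfiber, ← hswap, hcountD]

end Groth.Agent.S15005
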