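import Groth.Statements.S15007
import Mathlib.Tactic

set_option autoImplicit false
universe u v
open Harb

namespace Groth.Agent.S15007

/-- The set of multiple points of a family of curves with finite pairwise intersections is finite. -/
theorem finite_multiple (P : Type u) (ι : Type v) [Fintype ι]
    (inc : P → ι → Prop)
    (hfin : ∀ i j : ι, i ≠ j → {p : P | inc p i ∧ inc p j}.Finite) :
    {p : P | 2 ≤ Nat.card {j : ι // inc p j}}.Finite := by
  classical
  have hsub : {p : P | 2 ≤ Nat.card {j : ι // inc p j}} ⊆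
      ⋃ x ∈ {x : ι × ι | x.1 ≠ x.2}, {p : P | inc p x.1 ∧ inc p x.2} := by
    intro p hp
    have hp' : 2 ≤ Nat.card {j : ι // inc p j} := hp
    rw [Nat.card_eq_fintype_card, Fintype.card_subtype] at hp'
    obtain ⟨i, hi, j, hj, hij⟩ := Finset.one_lt_card.mp hp'
    simp only [Set.mem_iUnion]
    exact ⟨(i, j), hij, (Finset.mem_filter.mp hi).2, (Finset.mem_filter.mp hj).2⟩
  refine Set.Finite.subset ?_ hsub
  apply Set.Finite.biUnion (Set.toFinite _)
  intro x hx
  exact hfin x.1 x.2 hx

theorem two_le_of_inc (P : Type u) (ι : Type v) [Fintype ι]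
    (inc : P → ι → Prop) (p : P) (i j : ι) (hij : i ≠ j) (hi : inc p i) (hj : inc p j) :
    2 ≤ Nat.card {j : ι // inc p j} := by
  classical
  rw [Nat.card_eq_fintype_card, Fintype.card_subtype]
  exact Finset.one_lt_card.mpr ⟨i, Finset.mem_filter.mpr ⟨Finset.mem_univ _, hi⟩, j,
    Finset.mem_filter.mpr ⟨Finset.mem_univ _, hj⟩, hij⟩

/-- Let C be a finite family of d ≥ 2 curves, recorded as an incidence relation between a type of points
and a finite index type, such that any two distinct curves of the family meet in exactly h ≥ 1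
points and no point lies on every curve of the family. Then f₀ ≥ h + 2: the number of multiple
points (points lying on at least two of the curves) is at least h + 2. (The published claim reads f₀
≥ 2ab − a²e + 2 for a transversal arrangement of d ≥ 4 curves on a geometrically ruled surface with
invariant e ≥ 4, all numerically equivalent to a C₀ + b f with a ≥ 1 and b ≥ ae and with no point
common to all of them, satisfying in addition either a ≥ 2, or a = 1 with some four of the curves
having no point in common, where any two of the curves meet transversally in h = 2ab − a²e ≥ 1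
points; only d ≥ 2, h ≥ 1 and the absence of a common point enter the proof, and this row states the
bound for an abstract incidence relation.) -/
theorem result (P : Type u) (ι : Type v) [Fintype ι]
    (inc : P → ι → Prop) (h : ℕ) (hh : 0 < h) (hd : 2 ≤ Fintype.card ι)
    (hfin : ∀ i j : ι, i ≠ j → {p : P | inc p i ∧ inc p j}.Finite)
    (hcount : ∀ i j : ι, i ≠ j → {p : P | inc p i ∧ inc p j}.ncard = h)
    (hnone : ∀ p : P, ∃ i : ι, ¬ inc p i) :
    h + 2 ≤ Nat.card {p : P // 2 ≤ Nat.card {j : ι // inc p j}} := by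
  classical
  obtain ⟨i₁, i₂, h12⟩ := Fintype.one_lt_card_iff.mp hd
  let A : Finset P := (hfin i₁ i₂ h12).toFinset
  have hAmem : ∀ p, p ∈ A ↔ inc p i₁ ∧ inc p i₂ := by
    intro p
    simp only [A, Set.Finite.mem_toFinset, Set.mem_ofPred_eq]
  have hAcard : A.card = h := by
    simp only [A]
    rw [← Set.ncard_eq_toFinset_card _ (hfin i₁ i₂ h12), hcount i₁ i₂ h12]
  obtain ⟨p, hpA⟩ : A.Nonempty := Finset.card_pos.mp (by rw [hAcard]; exact hh)
  obtain ⟨hp1, hp2⟩ := (hAmem p).mp hpA
  obtain ⟨i₃, hp3⟩ := hnone p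
  have h31 : i₃ ≠ i₁ := fun e => hp3 (e ▸ hp1)
  have h32 : i₃ ≠ i₂ := fun e => hp3 (e ▸ hp2)
  -- a general step: a point of C₃ ∩ C_k outside A
  have step : ∀ k : ι, (hk : i₃ ≠ k) → (k = i₁ ∨ k = i₂) →
      ∃ q : P, inc q i₃ ∧ inc q k ∧ q ∉ A := by
    intro k hk hk12
    let B : Finset P := (hfin i₃ k hk).toFinset
    have hBmem : ∀ q, q ∈ B ↔ inc q i₃ ∧ inc q k := by
      intro q
      simp only [B, Set.Finite.mem_toFinset, Set.mem_ofPred_eq]
    have hBcard : B.card = h := by
      simp only [B]
      rw [← Set.ncard_eq_toFinset_card _ (hfin i₃ k hk), hcount i₃ k hk]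
    have hnot : ¬ B ⊆ A := by
      intro hBA
      have hEq : B = A := Finset.eq_of_subset_of_card_le hBA (by rw [hAcard, hBcard])
      have : p ∈ B := hEq ▸ hpA
      exact hp3 ((hBmem p).mp this).1
    obtain ⟨q, hqB, hqA⟩ := Finset.not_subset.mp hnot
    exact ⟨q, ((hBmem q).mp hqB).1, ((hBmem q).mp hqB).2, hqA⟩
  obtain ⟨q, hq3, hq1, hqA⟩ := step i₁ h31 (Or.inl rfl)
  obtain ⟨q', hq'3, hq'2, hq'A⟩ := step i₂ h32 (Or.inr rfl)
  have hq2 : ¬ inc q i₂ := fun hc => hqA ((hAmem q).mpr ⟨hq1, hc⟩)
  have hq'1 : ¬ inc q' i₁ := fun hc => hq'A ((hAmem q').mpr ⟨hc, hq'2⟩)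
  have hqq' : q ≠ q' := fun e => hq'1 (e ▸ hq1)
  let T : Finset P := insert q (insert q' A)
  have hTcard : T.card = h + 2 := by
    simp only [T]
    rw [Finset.card_insert_of_notMem, Finset.card_insert_of_notMem hq'A, hAcard]
    rw [Finset.mem_insert]
    rintro (e | e)
    · exact hqq' e
    · exact hqA e
  have hTsub : (T : Set P) ⊆ {p : P | 2 ≤ Nat.card {j : ι // inc p j}} := by
    intro x hx
    have hx' : x ∈ T := hx
    simp only [T, Finset.mem_insert] at hx'
    rcases hx' with rfl | rfl | hxA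
    · exact two_le_of_inc P ι inc _ i₃ i₁ h31 hq3 hq1
    · exact two_le_of_inc P ι inc _ i₃ i₂ h32 hq'3 hq'2
    · obtain ⟨h1, h2⟩ := (hAmem x).mp hxA
      exact two_le_of_inc P ι inc x i₁ i₂ h12 h1 h2
  have hle := Set.ncard_le_ncard hTsub (finite_multiple P ι inc hfin)
  rw [Set.ncard_coe_finset, hTcard] at hle
  exact hle

end Groth.Agent.S15007
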