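import Groth.Statements.S15006
import Groth.Agent.S15007
import Mathlib.Tactic
import Mathlib.LinearAlgebra.Dimension.Finrank
import Mathlib.LinearAlgebra.Dimension.Constructions

set_option autoImplicit false
universe u v
open Harb

namespace Groth.Agent.S15006

/-- Let C be a finite family of d ≥ 2 curves, recorded as an incidence relation between a type of points
and a finite index type, such that any two distinct curves of the family meet in exactly h ≥ 1
points and no point lies on every curve of the family. Then f₀ ≥ d: the number of multiple points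
(points lying on at least two of the curves) is at least the number of curves. (The published
statement is for a transversal arrangement of d ≥ 4 curves on a geometrically ruled surface with
invariant e ≥ 4, all numerically equivalent to a C₀ + b f with a ≥ 1 and b ≥ ae and with no point
common to all of them, satisfying in addition either a ≥ 2, or a = 1 with some four of the curves
having no point in common, where any two of the curves meet transversally in h = 2ab − a²e ≥ 1
points; only d ≥ 2, h ≥ 1 and the absence of a common point enter the proof, and this row states the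
bound for an abstract incidence relation.) -/
theorem result (P : Type u) (ι : Type v) [Fintype ι]
    (inc : P → ι → Prop) (h : ℕ) (hh : 0 < h) (hd : 2 ≤ Fintype.card ι)
    (hfin : ∀ i j : ι, i ≠ j → {p : P | inc p i ∧ inc p j}.Finite)
    (hcount : ∀ i j : ι, i ≠ j → {p : P | inc p i ∧ inc p j}.ncard = h)
    (hnone : ∀ p : P, ∃ i : ι, ¬ inc p i) :
    Fintype.card ι ≤ Nat.card {p : P // 2 ≤ Nat.card {j : ι // inc p j}} := by
  classical
  have hMfin := Groth.Agent.S15007.finite_multiple P ι inc hfin
  let Mf : Finset P := hMfin.toFinset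
  have hMmem : ∀ p, p ∈ Mf ↔ 2 ≤ Nat.card {j : ι // inc p j} := by
    intro p
    simp only [Mf, Set.Finite.mem_toFinset, Set.mem_ofPred_eq]
  have hcardM : Nat.card {p : P // 2 ≤ Nat.card {j : ι // inc p j}} = Mf.card := by
    have := Set.ncard_eq_toFinset_card _ hMfin
    rw [← this]
    rfl
  rw [hcardM]
  -- incidence vectors
  let x : ι → (Mf → ℚ) := fun i p => if inc p.1 i then 1 else 0
  suffices hli : LinearIndependent ℚ x by
    have := hli.fintype_card_le_finrank
    rwa [Module.finrank_fintype_fun_eq_card, Fintype.card_coe] at this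
  -- Gram numbers
  let m : ι → ℕ := fun i => (Mf.filter (fun p => inc p i)).card
  have hpair : ∀ i j, i ≠ j → (Mf.filter (fun p => inc p i ∧ inc p j)).card = h := by
    intro i j hij
    have : Mf.filter (fun p => inc p i ∧ inc p j) = (hfin i j hij).toFinset := by
      ext p
      simp only [Finset.mem_filter, Set.Finite.mem_toFinset, Set.mem_ofPred_eq]
      constructor
      · exact fun hp => hp.2
      · intro hp
        exact ⟨(hMmem p).mpr (Groth.Agent.S15007.two_le_of_inc P ι inc p i j hij hp.1 hp.2), hp⟩
    rw [this, ← Set.ncard_eq_toFinset_card _ (hfin i j hij), hcount i j hij]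
  have hm : ∀ i, h + 1 ≤ m i := by
    intro i
    by_contra hlt'
    have hlt : m i < h + 1 := not_le.mp hlt'
    -- pick another curve
    obtain ⟨j, hji⟩ : ∃ j, j ≠ i := by
      obtain ⟨a, b, hab⟩ := Fintype.one_lt_card_iff.mp hd
      by_cases ha : a = i
      · exact ⟨b, fun hb => hab (ha.trans hb.symm)⟩
      · exact ⟨a, ha⟩
    -- all multiple points of C_i are on every other curve
    have hsub : ∀ k, k ≠ i → Mf.filter (fun p => inc p i) = Mf.filter (fun p => inc p i ∧ inc p k) := by
      intro k hki
      symm
      apply Finset.eq_of_subset_of_card_le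
      · intro p hp
        obtain ⟨hpM, hp1, _⟩ := Finset.mem_filter.mp hp
        exact Finset.mem_filter.mpr ⟨hpM, hp1⟩
      · rw [hpair i k hki.symm]
        exact Nat.lt_succ_iff.mp hlt
    have hne : (Mf.filter (fun p => inc p i)).Nonempty := by
      rw [hsub j hji]
      apply Finset.card_pos.mp
      rw [hpair i j hji.symm]
      exact hh
    obtain ⟨p, hp⟩ := hne
    obtain ⟨k, hk⟩ := hnone p
    have hpi : inc p i := (Finset.mem_filter.mp hp).2
    have hki : k ≠ i := fun e => hk (e ▸ hpi)
    rw [hsub k hki] at hp
    exact hk (Finset.mem_filter.mp hp).2.2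
  have hG : ∀ i j, ∑ p : Mf, x i p * x j p = if i = j then (m i : ℚ) else (h : ℚ) := by
    intro i j
    have h1 : ∀ p : Mf, x i p * x j p = if (inc p.1 i ∧ inc p.1 j) then 1 else 0 := by
      intro p
      simp only [x]
      by_cases h1 : inc p.1 i <;> by_cases h2 : inc p.1 j <;> simp [h1, h2]
    rw [Finset.sum_congr rfl (fun p _ => h1 p)]
    rw [Finset.sum_coe_sort Mf (fun p => if (inc p i ∧ inc p j) then (1 : ℚ) else 0)]
    rw [Finset.sum_ite, Finset.sum_const_zero, add_zero, Finset.sum_const, nsmul_eq_mul, mul_one]
    split_ifs with hij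
    · subst hij
      simp only [and_self]
      rfl
    · rw [hpair i j hij]
  rw [Fintype.linearIndependent_iff]
  intro c hc
  have hc' : ∀ p : Mf, ∑ i, c i * x i p = 0 := by
    intro p
    have := congrFun hc p
    simpa [Finset.sum_apply, Pi.smul_apply, smul_eq_mul] using this
  have hQ : ∑ p : Mf, (∑ i, c i * x i p) ^ 2 = 0 := by
    apply Finset.sum_eq_zero
    intro p _
    rw [hc' p]
    ring
  have hexp : ∑ p : Mf, (∑ i, c i * x i p) ^ 2 =
      ∑ i, c i ^ 2 * ((m i : ℚ) - h) + h * (∑ i, c i) ^ 2 := by
    have e1 : ∀ p : Mf, (∑ i, c i * x i p) ^ 2 = ∑ i, ∑ j, c i * c j * (x i p * x j p) := by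
      intro p
      rw [sq, Finset.sum_mul_sum]
      apply Finset.sum_congr rfl
      intro i _
      apply Finset.sum_congr rfl
      intro j _
      ring
    rw [Finset.sum_congr rfl (fun p _ => e1 p), Finset.sum_comm]
    have e2 : ∀ i, ∑ p : Mf, ∑ j, c i * c j * (x i p * x j p) =
        ∑ j, c i * c j * (if i = j then (m i : ℚ) else (h : ℚ)) := by
      intro i
      rw [Finset.sum_comm]
      apply Finset.sum_congr rfl
      intro j _
      rw [← Finset.mul_sum, hG]
    rw [Finset.sum_congr rfl (fun i _ => e2 i)]
    have e3 : ∀ i, ∑ j, c i * c j * (if i = j then (m i : ℚ) else (h : ℚ)) =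
        c i ^ 2 * ((m i : ℚ) - h) + h * (c i * ∑ j, c j) := by
      intro i
      have : ∀ j, c i * c j * (if i = j then (m i : ℚ) else (h : ℚ)) =
          (if i = j then c i ^ 2 * ((m i : ℚ) - h) else 0) + h * (c i * c j) := by
        intro j
        split_ifs with hij
        · subst hij; ring
        · ring
      rw [Finset.sum_congr rfl (fun j _ => this j), Finset.sum_add_distrib,
        Finset.sum_ite_eq Finset.univ i, if_pos (Finset.mem_univ i), ← Finset.mul_sum,
        ← Finset.mul_sum]
    rw [Finset.sum_congr rfl (fun i _ => e3 i), Finset.sum_add_distrib, ← Finset.mul_sum,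
      ← Finset.sum_mul, sq]
  rw [hexp] at hQ
  have hpos : ∀ i, 0 < (m i : ℚ) - h := by
    intro i
    have := hm i
    have : ((h + 1 : ℕ) : ℚ) ≤ (m i : ℚ) := by exact_mod_cast this
    push_cast at this
    linarith
  have hterm : ∀ i ∈ Finset.univ, 0 ≤ c i ^ 2 * ((m i : ℚ) - h) := fun i _ =>
    mul_nonneg (sq_nonneg _) (hpos i).le
  have hsum_nonneg : 0 ≤ ∑ i, c i ^ 2 * ((m i : ℚ) - h) := Finset.sum_nonneg hterm
  have hsq_nonneg : 0 ≤ (h : ℚ) * (∑ i, c i) ^ 2 := mul_nonneg (Nat.cast_nonneg h) (sq_nonneg _)
  have hsum0 : ∑ i, c i ^ 2 * ((m i : ℚ) - h) = 0 := by linarith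
  intro i
  have := (Finset.sum_eq_zero_iff_of_nonneg hterm).mp hsum0 i (Finset.mem_univ i)
  rcases mul_eq_zero.mp this with h0 | h0
  · exact pow_eq_zero_iff (two_ne_zero) |>.mp h0
  · exact absurd h0 (hpos i).ne'

end Groth.Agent.S15006
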