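import Groth.Statements.S15009
import Mathlib
import Groth.Agent.Lib.MinGen1
import Groth.Agent.Lib.TorsionFreeEmb97
-- import your own Groth.Agent.* helpers here

set_option autoImplicit false
universe u
open TFCurv

namespace Groth.Agent.S15009

/-- Let O be a one-dimensional Noetherian local domain with algebraically closed residue field whose
integral closure O~ in its fraction field K is a finite O-module. A finitely generated torsion-free
O-module M of rank n (that is, K ⊗ M has K-dimension n) is isomorphic to an O-submodule M' of K^n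
with O^n ⊆ M' ⊆ O~^n. -/
theorem result (O : Type u) [CommRing O] [IsDomain O] [IsNoetherianRing O] [IsLocalRing O] (hdim : ringKrullDim O = 1) [IsAlgClosed (IsLocalRing.ResidueField O)] (K : Type u) [Field K] [Algebra O K] [IsFractionRing O K] (hfin : Module.Finite O ↥(integralClosure O K)) (M : Type u) [AddCommGroup M] [Module O M] [Module.Finite O M] [NoZeroSMulDivisors O M] (n : ℕ) (hn : Module.finrank K (TensorProduct O K M) = n) : ∃ M' : Submodule O (Fin n → K), Submodule.pi Set.univ (fun _ : Fin n => (1 : Submodule O K)) ≤ M' ∧ M' ≤ Submodule.pi Set.univ (fun _ : Fin n => (Subalgebra.toSubmodule (integralClosure O K))) ∧ Nonempty (M ≃ₗ[O] ↥M') := by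
  classical
  have : Ring.KrullDimLE 1 O := Ring.krullDimLE_iff.mpr hdim.le
  have : IsPrincipalIdealRing ↥(integralClosure O K) :=
    Groth.Agent.Lib.MinGen.isPrincipalIdealRing_integralClosure O K hfin
  have : IsFractionRing ↥(integralClosure O K) K :=
    integralClosure.isFractionRing_of_finite_extension K K
  have : Finite (MaximalSpectrum ↥(integralClosure O K)) :=
    Groth.Agent.Lib.CommonFactor.finite_maximalSpectrum_of_finite O ↥(integralClosure O K)
  have : Infinite (IsLocalRing.ResidueField O) := IsAlgClosed.instInfinite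
  have hιinj : Function.Injective (TensorProduct.mk O K M 1) := by
    intro a b hab
    have h0 : TensorProduct.mk O K M 1 (a - b) = 0 := by rw [map_sub, hab, sub_self]
    obtain ⟨c, hc⟩ := (IsLocalizedModule.eq_zero_iff (nonZeroDivisors O)
      (TensorProduct.mk O K M 1)).mp h0
    have : a - b = 0 :=
      (smul_eq_zero.mp hc).resolve_left (nonZeroDivisors.ne_zero c.2)
    exact sub_eq_zero.mp this
  have hspanι : Submodule.span K (Set.range (TensorProduct.mk O K M 1)) = ⊤ := by
    rw [eq_top_iff]
    have h1 := TensorProduct.span_tmul_eq_top O K M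
    intro x _
    have hx : x ∈ Submodule.span O {t : TensorProduct O K M | ∃ m n, m ⊗ₜ[O] n = t} := by
      rw [h1]; trivial
    refine Submodule.span_induction ?_ ?_ ?_ ?_ hx
    · rintro _ ⟨a, m, rfl⟩
      have : a ⊗ₜ[O] m = a • (TensorProduct.mk O K M 1 m) := by
        change a ⊗ₜ[O] m = a • ((1 : K) ⊗ₜ[O] m)
        rw [TensorProduct.smul_tmul', smul_eq_mul, mul_one]
      rw [this]
      exact Submodule.smul_mem _ _ (Submodule.subset_span ⟨m, rfl⟩)
    · exact Submodule.zero_mem _
    · intro x y _ _ hx hy
      exact Submodule.add_mem _ hx hy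
    · intro a x _ hx
      rw [← algebraMap_smul K a x]
      exact Submodule.smul_mem _ _ hx
  obtain ⟨c, hc, hcspan⟩ := Groth.Agent.Lib.TorsionFreeEmb97.exists_coords'
    (S := ↥(integralClosure O K)) (K := K) (TensorProduct.mk O K M 1) hιinj hspanι n hn
  obtain ⟨Φ, hΦinj, hΦS, hΦO⟩ := Groth.Agent.Lib.TorsionFreeEmb97.exists_embedding (K := K)
    (IsFractionRing.injective ↥(integralClosure O K) K) n c hc hcspan
  refine ⟨LinearMap.range Φ, ?_, ?_, ⟨LinearEquiv.ofInjective Φ hΦinj⟩⟩
  · intro x hx
    rw [Submodule.mem_pi] at hx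
    have hx' : ∀ i, ∃ a : O, algebraMap O K a = x i := fun i =>
      Submodule.mem_one.mp (hx i (Set.mem_univ i))
    choose a ha using hx'
    obtain ⟨y, hy⟩ := hΦO a
    refine ⟨y, ?_⟩
    rw [hy]
    funext i
    exact ha i
  · rintro _ ⟨y, rfl⟩
    rw [Submodule.mem_pi]
    intro i _
    obtain ⟨s, hs⟩ := hΦS y i
    rw [hs]
    exact s.2

end Groth.Agent.S15009
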