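import Groth.Statements.S15010
import Mathlib.RingTheory.Localization.Integer

set_option autoImplicit false
universe u
open TFCurv

namespace Groth.Agent.S15010


section

variable {O : Type u} [CommRing O] [IsDomain O] {K : Type u} [Field K] [Algebra O K]
  [IsFractionRing O K] {n : ℕ}

omit [IsDomain O] [IsFractionRing O K] in
lemma single_mem {M : Submodule O (Fin n → K)}
    (hM1 : Submodule.pi Set.univ (fun _ : Fin n => (1 : Submodule O K)) ≤ M) (j : Fin n) :
    (Pi.single j (1 : K) : Fin n → K) ∈ M := by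
  apply hM1
  rw [Submodule.mem_pi]
  intro i _
  by_cases h : i = j
  · subst h; rw [Pi.single_eq_same]; exact Submodule.one_le.mp le_rfl
  · rw [Pi.single_eq_of_ne h]; exact Submodule.zero_mem _

/-- A linear map on a lattice containing `O^n` is given by a matrix. -/
lemma key (M : Submodule O (Fin n → K))
    (hM1 : Submodule.pi Set.univ (fun _ : Fin n => (1 : Submodule O K)) ≤ M)
    (ψ : ↥M →ₗ[O] (Fin n → K)) (x : ↥M) :
    ψ x = (Matrix.of fun i j => ψ ⟨Pi.single j 1, single_mem hM1 j⟩ i).mulVec (x : Fin n → K) := by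
  obtain ⟨⟨d, hd⟩, hdx⟩ := IsLocalization.exist_integer_multiples_of_finite (nonZeroDivisors O)
    (fun i => (x : Fin n → K) i)
  choose y hy using hdx
  have hd0 : algebraMap O K d ≠ 0 := by
    intro h
    exact nonZeroDivisors.ne_zero hd ((IsFractionRing.injective O K) (h.trans (map_zero _).symm))
  have hsum : d • x = ∑ j, y j • (⟨Pi.single j 1, single_mem hM1 j⟩ : ↥M) := by
    apply Subtype.ext
    ext i
    rw [Submodule.coe_smul, Pi.smul_apply, Submodule.coe_sum, Finset.sum_apply,
      Finset.sum_eq_single i]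
    · simp only [Submodule.coe_smul, Pi.smul_apply, Pi.single_eq_same]
      rw [Algebra.smul_def (y i), mul_one, hy i]
    · intro j _ hji
      simp [Pi.single_eq_of_ne (Ne.symm hji)]
    · simp
  have h1 : d • ψ x = ∑ j, y j • ψ ⟨Pi.single j 1, single_mem hM1 j⟩ := by
    rw [← map_smul, hsum, map_sum]
    simp only [map_smul]
  ext i
  have h2 := congrFun h1 i
  rw [Pi.smul_apply, Finset.sum_apply] at h2
  simp only [Pi.smul_apply] at h2
  have h3 : d • (Matrix.of fun i j => ψ ⟨Pi.single j 1, single_mem hM1 j⟩ i).mulVec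
      (x : Fin n → K) i = ∑ j, y j • ψ ⟨Pi.single j 1, single_mem hM1 j⟩ i := by
    rw [Matrix.mulVec, dotProduct, Finset.smul_sum]
    refine Finset.sum_congr rfl (fun j _ => ?_)
    rw [Matrix.of_apply, Algebra.smul_def (y j), hy j]
    simp only [Algebra.smul_def]
    ring
  have h4 : d • ψ x i = d • (Matrix.of fun i j => ψ ⟨Pi.single j 1, single_mem hM1 j⟩ i).mulVec
      (x : Fin n → K) i := h2.trans h3.symm
  rw [Algebra.smul_def, Algebra.smul_def] at h4
  exact mul_left_cancel₀ hd0 h4

omit [IsDomain O] [IsFractionRing O K] in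
lemma coord_mem {N : Submodule O (Fin n → K)}
    (hN2 : N ≤ Submodule.pi Set.univ
      (fun _ : Fin n => (Subalgebra.toSubmodule (integralClosure O K))))
    (y : ↥N) (i : Fin n) : (y : Fin n → K) i ∈ integralClosure O K := by
  have := hN2 y.2
  rw [Submodule.mem_pi] at this
  exact this i (Set.mem_univ i)

/-- the matrix of a linear map between lattices, with entries in the integral closure -/
noncomputable def mat (M N : Submodule O (Fin n → K))
    (hM1 : Submodule.pi Set.univ (fun _ : Fin n => (1 : Submodule O K)) ≤ M)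
    (hN2 : N ≤ Submodule.pi Set.univ
      (fun _ : Fin n => (Subalgebra.toSubmodule (integralClosure O K))))
    (φ : ↥M →ₗ[O] ↥N) : Matrix (Fin n) (Fin n) ↥(integralClosure O K) :=
  Matrix.of fun i j => ⟨(φ ⟨Pi.single j 1, single_mem hM1 j⟩ : Fin n → K) i, coord_mem hN2 _ i⟩

lemma mat_spec (M N : Submodule O (Fin n → K))
    (hM1 : Submodule.pi Set.univ (fun _ : Fin n => (1 : Submodule O K)) ≤ M)
    (hN2 : N ≤ Submodule.pi Set.univ
      (fun _ : Fin n => (Subalgebra.toSubmodule (integralClosure O K))))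
    (φ : ↥M →ₗ[O] ↥N) (x : ↥M) :
    ((φ x : ↥N) : Fin n → K) =
      ((mat M N hM1 hN2 φ).map (algebraMap ↥(integralClosure O K) K)).mulVec (x : Fin n → K) := by
  have := key M hM1 (N.subtype ∘ₗ φ) x
  rw [LinearMap.comp_apply, Submodule.subtype_apply] at this
  rw [this]
  rfl

theorem result' (M N : Submodule O (Fin n → K))
    (hM1 : Submodule.pi Set.univ (fun _ : Fin n => (1 : Submodule O K)) ≤ M)
    (hM2 : M ≤ Submodule.pi Set.univ
      (fun _ : Fin n => (Subalgebra.toSubmodule (integralClosure O K))))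
    (hN1 : Submodule.pi Set.univ (fun _ : Fin n => (1 : Submodule O K)) ≤ N)
    (hN2 : N ≤ Submodule.pi Set.univ
      (fun _ : Fin n => (Subalgebra.toSubmodule (integralClosure O K))))
    (φ : ↥M ≃ₗ[O] ↥N) :
    ∃ A : Matrix (Fin n) (Fin n) ↥(integralClosure O K), IsUnit A ∧ ∀ x : ↥M,
      ((φ x : ↥N) : Fin n → K) =
        (A.map (algebraMap ↥(integralClosure O K) K)).mulVec (x : Fin n → K) := by
  classical
  set A := mat M N hM1 hN2 φ.toLinearMap with hA
  set B := mat N M hN1 hM2 φ.symm.toLinearMap with hB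
  refine ⟨A, ?_, fun x => mat_spec M N hM1 hN2 φ.toLinearMap x⟩
  have hinj : Function.Injective (algebraMap ↥(integralClosure O K) K) := Subtype.val_injective
  have hAB : A * B = 1 := by
    apply Matrix.map_injective hinj
    change (A * B).map (algebraMap ↥(integralClosure O K) K) =
      (1 : Matrix (Fin n) (Fin n) ↥(integralClosure O K)).map (algebraMap ↥(integralClosure O K) K)
    rw [Matrix.map_mul, Matrix.map_one _ (map_zero _) (map_one _)]
    ext i j
    have h1 := mat_spec N M hN1 hM2 φ.symm.toLinearMap ⟨Pi.single j 1, single_mem hN1 j⟩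
    have h2 := mat_spec M N hM1 hN2 φ.toLinearMap (φ.symm ⟨Pi.single j 1, single_mem hN1 j⟩)
    simp only [LinearEquiv.coe_coe, LinearEquiv.apply_symm_apply] at h1 h2
    rw [h1, Matrix.mulVec_mulVec, ← hA, ← hB] at h2
    have h3 := congrFun h2 i
    rw [Matrix.mulVec_single_one] at h3
    rw [Matrix.col_apply] at h3
    rw [Matrix.one_apply, ← h3]
    simp [Pi.single_apply]
  exact (Matrix.isUnit_iff_isUnit_det A).mpr (Matrix.isUnit_det_of_right_inverse hAB)

end


/-- Let O be a one-dimensional Noetherian local domain with algebraically closed residue field whose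
integral closure O~ in its fraction field K is a finite O-module. If M and N are O-submodules of K^n
with O^n ⊆ M ⊆ O~^n and O^n ⊆ N ⊆ O~^n, then every O-linear isomorphism M → N is the restriction of
x ↦ A·x for an invertible n × n matrix A with entries in O~. -/
theorem result (O : Type u) [CommRing O] [IsDomain O] [IsNoetherianRing O] [IsLocalRing O] (hdim : ringKrullDim O = 1) [IsAlgClosed (IsLocalRing.ResidueField O)] (K : Type u) [Field K] [Algebra O K] [IsFractionRing O K] (hfin : Module.Finite O ↥(integralClosure O K)) (n : ℕ) (M N : Submodule O (Fin n → K)) (hM1 : Submodule.pi Set.univ (fun _ : Fin n => (1 : Submodule O K)) ≤ M) (hM2 : M ≤ Submodule.pi Set.univ (fun _ : Fin n => (Subalgebra.toSubmodule (integralClosure O K)))) (hN1 : Submodule.pi Set.univ (fun _ : Fin n => (1 : Submodule O K)) ≤ N) (hN2 : N ≤ Submodule.pi Set.univ (fun _ : Fin n => (Subalgebra.toSubmodule (integralClosure O K)))) (φ : ↥M ≃ₗ[O] ↥N) : ∃ A : Matrix (Fin n) (Fin n) ↥(integralClosure O K), IsUnit A ∧ ∀ x : ↥M, ((φ x : ↥N) : Fin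 n → K) = (A.map (algebraMap ↥(integralClosure O K) K)).mulVec (x : Fin n → K) := by
  exact result' M N hM1 hM2 hN1 hN2 φ

end Groth.Agent.S15010
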