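import Groth.Statements.S15011
import Groth.Agent.Lib.MinGen1

set_option autoImplicit false
universe u
open TFCurv

namespace Groth.Agent.S15011

set_option maxHeartbeats 800000
set_option linter.style.haveILetI false
open Groth.Agent.Lib.DegOrd Groth.Agent.Lib.MinGen Groth.Agent.Lib.CommonFactor

/-- Let O be a one-dimensional Noetherian local domain with maximal ideal m and algebraically closed
residue field, whose integral closure O~ in its fraction field K is a finite O-module; put e =
length(O~/m O~), the multiplicity of O. Then a finitely generated torsion-free O-module of rank n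
can be generated by at most n·e elements. -/
theorem result (O : Type u) [CommRing O] [IsDomain O] [IsNoetherianRing O] [IsLocalRing O] (hdim : ringKrullDim O = 1) [IsAlgClosed (IsLocalRing.ResidueField O)] (K : Type u) [Field K] [Algebra O K] [IsFractionRing O K] (hfin : Module.Finite O ↥(integralClosure O K)) (M : Type u) [AddCommGroup M] [Module O M] [Module.Finite O M] [NoZeroSMulDivisors O M] (n : ℕ) (hn : Module.finrank K (TensorProduct O K M) = n) : ((⊤ : Submodule O M).spanFinrank : ℕ∞) ≤ (n : ℕ∞) * Module.length O (↥(integralClosure O K) ⧸ (IsLocalRing.maximalIdeal O) • (⊤ : Submodule O ↥(integralClosure O K))) := by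
  classical
  haveI : Ring.KrullDimLE 1 O := Ring.krullDimLE_iff.mpr hdim.le
  set S := ↥(integralClosure O K) with hS
  set m := IsLocalRing.maximalIdeal O with hm
  haveI : IsPrincipalIdealRing S := isPrincipalIdealRing_integralClosure O K hfin
  haveI : Finite (MaximalSpectrum S) := finite_maximalSpectrum_of_finite O S
  haveI : Infinite (O ⧸ m) := inferInstanceAs (Infinite (IsLocalRing.ResidueField O))
  obtain ⟨t, ht⟩ := (IsPrincipalIdealRing.principal (Ideal.map (algebraMap O S) m)).principal
  obtain ⟨x, hxm, hxS⟩ := exists_mem_span_eq_map (O := O) (S := S) t ht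
  have hinjS : Function.Injective (algebraMap O S) :=
    FaithfulSMul.algebraMap_injective O S
  -- `x ≠ 0`
  have hx0 : x ≠ 0 := by
    intro h0
    rw [h0, map_zero, Ideal.span_singleton_eq_bot.mpr rfl] at hxS
    have hmbot : m = ⊥ := by
      rw [eq_bot_iff]
      intro a ha
      have : algebraMap O S a ∈ Ideal.map (algebraMap O S) m := Ideal.mem_map_of_mem _ ha
      rw [← hxS, Ideal.mem_bot] at this
      exact (Ideal.mem_bot).mpr ((map_eq_zero_iff _ hinjS).mp this)
    have hfield : IsField O := IsLocalRing.isField_iff_maximalIdeal_eq.mpr hmbot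
    have := ringKrullDim_eq_zero_of_isField hfield
    rw [hdim] at this
    exact one_ne_zero this
  -- lattice computation for `S`
  have hxSinj : Function.Injective (LinearMap.lsmul O S x) := by
    intro b b' hbb
    have h2 : x • b = x • b' := hbb
    exact smul_right_injective S hx0 h2
  have hxMinj : Function.Injective (LinearMap.lsmul O M x) := by
    intro b b' hbb
    have h2 : x • b = x • b' := hbb
    exact smul_right_injective M hx0 h2
  let e₁ : Fin 1 → S := fun _ => 1
  have he₁ : LinearIndependent O e₁ := by
    rw [linearIndependent_unique_iff]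
    exact one_ne_zero
  have hM₁ : ∀ z : S, ∃ d : O, d ≠ 0 ∧ d • z ∈ Submodule.span O (Set.range e₁) := by
    intro z
    obtain ⟨⟨a, d⟩, had⟩ := IsLocalization.surj (nonZeroDivisors O) (z : K)
    refine ⟨(d : O), nonZeroDivisors.ne_zero d.2, ?_⟩
    have : (d : O) • z = a • (1 : S) := by
      apply Subtype.ext
      rw [Algebra.smul_def, Algebra.smul_def, mul_one]
      change algebraMap O K (d : O) * (z : K) = algebraMap O K a
      rw [mul_comm]
      exact had
    rw [this]
    exact Submodule.smul_mem _ _ (Submodule.subset_span ⟨0, rfl⟩)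
  have hlenS := length_quot_sm_eq_of_finite e₁ he₁ hM₁ x hxSinj
  -- identify `m • ⊤` with `x • ⊤`
  have hsmS : m • (⊤ : Submodule O S) = sm x (⊤ : Submodule O S) := by
    rw [Ideal.smul_top_eq_map, ← hxS]
    ext z
    rw [Submodule.restrictScalars_mem, Ideal.mem_span_singleton', mem_sm]
    constructor
    · rintro ⟨w, rfl⟩
      exact ⟨w, trivial, by rw [Algebra.smul_def, mul_comm]⟩
    · rintro ⟨w, -, rfl⟩
      exact ⟨w, by rw [Algebra.smul_def, mul_comm]⟩
  -- lattice computation for `M`
  have hfinj : Function.Injective (TensorProduct.mk O K M 1) := by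
    intro a b hab
    have h0 : TensorProduct.mk O K M 1 (a - b) = 0 := by rw [map_sub, hab, sub_self]
    obtain ⟨c, hc⟩ := (IsLocalizedModule.eq_zero_iff (nonZeroDivisors O)
      (TensorProduct.mk O K M 1)).mp h0
    have : a - b = 0 :=
      (smul_eq_zero.mp hc).resolve_left (nonZeroDivisors.ne_zero c.2)
    exact sub_eq_zero.mp this
  haveI : FiniteDimensional K (TensorProduct O K M) := inferInstance
  obtain ⟨e, he, hM⟩ := exists_basis_of_isLocalizedModule (K := K)
    (TensorProduct.mk O K M 1) hfinj
  have hlenM := length_quot_sm_eq_of_finite e he hM x hxMinj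
  rw [hn] at hlenM
  -- number of generators
  have hspan := IsLocalRing.spanFinrank_eq_finrank_quotient (⊤ : Submodule O M)
    (Module.finite_def.mp inferInstance)
  set Q := ↥(⊤ : Submodule O M) ⧸ m • (⊤ : Submodule O ↥(⊤ : Submodule O M)) with hQ
  letI : Field (O ⧸ m) := Ideal.Quotient.field m
  haveI : Module.Finite (O ⧸ m) Q := Module.Finite.of_restrictScalars_finite O (O ⧸ m) Q
  have hlenQ : ((⊤ : Submodule O M).spanFinrank : ℕ∞) = Module.length O Q := by
    rw [hspan, ← Module.length_eq_finrank (O ⧸ m) Q,
      Module.length_eq_of_surjective (S := O) (R := O ⧸ m) Ideal.Quotient.mk_surjective]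
  have hle : Module.length O Q ≤ Module.length O (M ⧸ sm x (⊤ : Submodule O M)) := by
    let φ : M →ₗ[O] ↥(⊤ : Submodule O M) := (Submodule.topEquiv : _ ≃ₗ[O] M).symm
    have hφ : sm x (⊤ : Submodule O M) ≤
        (m • (⊤ : Submodule O ↥(⊤ : Submodule O M))).comap φ := by
      rintro _ ⟨b, -, rfl⟩
      rw [Submodule.mem_comap]
      change φ (x • b) ∈ _
      rw [map_smul]
      exact Submodule.smul_mem_smul hxm trivial
    refine Module.length_le_of_surjective (Submodule.mapQ _ _ φ hφ) ?_
    intro q
    obtain ⟨b, rfl⟩ := Submodule.mkQ_surjective _ q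
    refine ⟨Submodule.Quotient.mk ((Submodule.topEquiv : _ ≃ₗ[O] M) b), ?_⟩
    rw [Submodule.mapQ_apply, Submodule.mkQ_apply]
    congr 1
  rw [hlenQ, hsmS, hlenS]
  refine hle.trans_eq ?_
  rw [hlenM]
  simp

end Groth.Agent.S15011
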