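import Groth.Statements.S15013
import Mathlib

set_option autoImplicit false
universe u
open CategoryTheory
open TFCurv

namespace Groth.Agent.S15013


/-- A finitely generated torsion-free module over a domain embeds in a finite free module. -/
theorem exists_embed (O : Type u) [CommRing O] [IsDomain O] (M : Type u) [AddCommGroup M]
    [Module O M] [Module.Finite O M] [NoZeroSMulDivisors O M] :
    ∃ (n : ℕ) (ψ : M →ₗ[O] (Fin n → O)), Function.Injective ψ := by
  classical
  let S := nonZeroDivisors O
  let K' := FractionRing O
  let V := LocalizedModule S M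
  let ι : M →ₗ[O] V := LocalizedModule.mkLinearMap S M
  have hι : Function.Injective ι := by
    rw [← LinearMap.ker_eq_bot, LinearMap.ker_eq_bot']
    intro m hm
    obtain ⟨c, hc⟩ := (IsLocalizedModule.eq_zero_iff S ι).1 hm
    have hc0 : (c : O) ≠ 0 := nonZeroDivisors.ne_zero c.2
    rcases smul_eq_zero.1 hc with h | h
    · exact absurd h hc0
    · exact h
  have : Module.Finite K' V := Module.Finite.of_isLocalizedModule S ι
  let b := Module.finBasis K' V
  let n := Module.finrank K' V
  let c : M →ₗ[O] (Fin n → K') := (b.equivFun.toLinearMap.restrictScalars O) ∘ₗ ι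
  have hc : Function.Injective c := by
    intro x y hxy
    apply hι
    exact b.equivFun.injective hxy
  let j : (Fin n → O) →ₗ[O] (Fin n → K') := (Algebra.linearMap O K').compLeft (Fin n)
  have hj : Function.Injective j := by
    intro x y hxy
    funext i
    have := congrFun hxy i
    exact IsFractionRing.injective O K' this
  obtain ⟨G, hG⟩ := (Module.Finite.fg_top : (⊤ : Submodule O M).FG)
  let T : Finset K' := G.biUnion fun g => Finset.univ.image fun i => c g i
  obtain ⟨d, hd⟩ := IsLocalization.exist_integer_multiples_of_finset S T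
  have hd0 : (d : O) ≠ 0 := nonZeroDivisors.ne_zero d.2
  let P : Submodule O M := (LinearMap.range j).comap ((d : O) • c)
  have hP : P = ⊤ := by
    rw [eq_top_iff, ← hG, Submodule.span_le]
    intro g hg
    change ((d : O) • c) g ∈ LinearMap.range j
    have : ∀ i, ∃ a : O, algebraMap O K' a = (d : O) • c g i := by
      intro i
      have hmem : c g i ∈ T := by
        refine Finset.mem_biUnion.2 ⟨g, hg, Finset.mem_image.2 ⟨i, Finset.mem_univ _, rfl⟩⟩
      exact hd _ hmem
    choose a ha using this
    refine ⟨a, ?_⟩
    funext i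
    simp only [j, LinearMap.compLeft_apply, Function.comp, Algebra.linearMap_apply,
      LinearMap.smul_apply, Pi.smul_apply]
    exact ha i
  have hmem : ∀ m, ((d : O) • c) m ∈ LinearMap.range j := by
    intro m
    have : m ∈ P := hP ▸ Submodule.mem_top
    exact this
  let ψ : M →ₗ[O] (Fin n → O) :=
    (LinearEquiv.ofInjective j hj).symm.toLinearMap ∘ₗ
      (((d : O) • c).codRestrict (LinearMap.range j) hmem)
  refine ⟨n, ψ, ?_⟩
  intro x y hxy
  have h1 : (((d : O) • c).codRestrict (LinearMap.range j) hmem) x =
      (((d : O) • c).codRestrict (LinearMap.range j) hmem) y :=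
    (LinearEquiv.ofInjective j hj).symm.injective hxy
  have h2 : ((d : O) • c) x = ((d : O) • c) y := congrArg Subtype.val h1
  have h3 : c ((d : O) • x) = c ((d : O) • y) := by
    simpa [LinearMap.smul_apply, map_smul] using h2
  have h4 := hc h3
  have h5 : (d : O) • (x - y) = 0 := by rw [smul_sub, h4, sub_self]
  rcases smul_eq_zero.1 h5 with h | h
  · exact absurd h hd0
  · exact sub_eq_zero.1 h

theorem result' (O : Type u) [CommRing O] [IsDomain O]
    (K : Type u) [Field K] [Algebra O K] (ω : Submodule O K)
    (hωinj : HasInjectiveDimensionLT (ModuleCat.of O ↥ω) 2) (M : Type u) [AddCommGroup M]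
    [Module O M] [Module.Finite O M] [NoZeroSMulDivisors O M] (i : ℕ) (hi : 1 ≤ i) :
    Subsingleton (Abelian.Ext (ModuleCat.of O M) (ModuleCat.of O ↥ω) i) := by
  by_cases h2 : 2 ≤ i
  · exact HasInjectiveDimensionLT.subsingleton _ 2 i h2 _
  have hi1 : i = 1 := by omega
  subst hi1
  obtain ⟨n, ψ, hψ⟩ := exists_embed O M
  let S : ShortComplex (ModuleCat.{u} O) :=
    ShortComplex.mk (ModuleCat.ofHom ψ) (ModuleCat.ofHom (LinearMap.range ψ).mkQ) (by
      ext x
      simp)
  have hS : S.ShortExact := by
    refine { exact := ?_, mono_f := ?_, epi_g := ?_ }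
    · rw [ShortComplex.ShortExact.moduleCat_exact_iff_function_exact]
      intro y
      simp only [S, ModuleCat.hom_ofHom]
      constructor
      · intro hy
        exact (Submodule.Quotient.mk_eq_zero _).1 hy
      · rintro ⟨x, rfl⟩
        exact (Submodule.Quotient.mk_eq_zero _).2 ⟨x, rfl⟩
    · exact (ModuleCat.mono_iff_injective _).2 hψ
    · exact (ModuleCat.epi_iff_surjective _).2 (Submodule.mkQ_surjective _)
  have : Projective S.X₂ := by
    change Projective (ModuleCat.of O (Fin n → O))
    exact (IsProjective.iff_projective _).1 inferInstance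
  refine ⟨fun x y => ?_⟩
  have key : ∀ x : Abelian.Ext (ModuleCat.of O M) (ModuleCat.of O ↥ω) 1, x = 0 := by
    intro x
    obtain ⟨x₂, hx₂⟩ := Abelian.Ext.contravariant_sequence_exact₁ hS (ModuleCat.of O ↥ω) x
      (n₁ := 2) (by norm_num)
      (Abelian.Ext.eq_zero_of_hasInjectiveDimensionLT _ 2 le_rfl)
    rw [← hx₂, Abelian.Ext.eq_zero_of_projective x₂, Abelian.Ext.comp_zero]
  rw [key x, key y]


/-- Let O be a one-dimensional Noetherian local domain with algebraically closed residue field whose
integral closure O~ in its fraction field K is a finite O-module, and let w be a canonical ideal of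
O, taken here as a nonzero finitely generated O-submodule of K whose injective dimension as an
O-module is at most one. Then Ext^i_O(M, w) vanishes for all i ≥ 1 and every finitely generated
torsion-free O-module M. -/
theorem result (O : Type u) [CommRing O] [IsDomain O] [IsNoetherianRing O] [IsLocalRing O] (hdim : ringKrullDim O = 1) [IsAlgClosed (IsLocalRing.ResidueField O)] (K : Type u) [Field K] [Algebra O K] [IsFractionRing O K] (hfin : Module.Finite O ↥(integralClosure O K)) (ω : Submodule O K) (hω0 : ω ≠ ⊥) (hωfg : ω.FG) (hωinj : HasInjectiveDimensionLT (ModuleCat.of O ↥ω) 2) (M : Type u) [AddCommGroup M] [Module O M] [Module.Finite O M] [NoZeroSMulDivisors O M] (i : ℕ) (hi : 1 ≤ i) : Subsingleton (Abelian.Ext (ModuleCat.of O M) (ModuleCat.of O ↥ω) i) := by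
  exact result' O K ω hωinj M i hi

end Groth.Agent.S15013
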