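import Groth.Statements.S15016

set_option autoImplicit false
universe u

namespace Groth.Agent.S15016

open PowerSeries

/-- Successive approximation: if `A` contains elements of every order `≥ c`, then every power
series vanishing to order `c` can be approximated to any order by elements of `A`. -/
theorem approx {k : Type u} [Field k] (A : Subalgebra k (PowerSeries k)) (c : ℕ)
    (hA : ∀ n : ℕ, c ≤ n → ∃ a ∈ A, PowerSeries.order a = n)
    (h : PowerSeries k) (hh : ∀ i < c, coeff i h = 0) (n : ℕ) :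
    ∃ g ∈ A, ∀ i < n, coeff i (h - g) = 0 := by
  induction n with
  | zero => exact ⟨0, A.zero_mem, fun i hi => absurd hi (Nat.not_lt_zero i)⟩
  | succ n ih =>
    obtain ⟨g, hgA, hg⟩ := ih
    by_cases hnc : n < c
    · refine ⟨0, A.zero_mem, fun i hi => ?_⟩
      rw [sub_zero]
      exact hh i (by omega)
    · rw [not_lt] at hnc
      obtain ⟨a, haA, ha⟩ := hA n hnc
      have ha_lt : ∀ i < n, coeff i a = 0 := fun i hi =>
        coeff_of_lt_order i (by rw [ha]; exact_mod_cast hi)
      have ha_n : coeff n a ≠ 0 := by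
        have ha0 : a ≠ 0 := by
          rintro rfl
          rw [order_zero] at ha
          exact ENat.top_ne_natCast n ha
        have := coeff_order ha0
        rwa [ha, ENat.toNat_natCast] at this
      refine ⟨g + (coeff n (h - g) / coeff n a) • a, A.add_mem hgA (A.smul_mem haA _), ?_⟩
      intro i hi
      rcases Nat.lt_succ_iff_lt_or_eq.1 hi with hlt | rfl
      · rw [← sub_sub, map_sub, hg i hlt, map_smul, ha_lt i hlt, smul_zero, sub_zero]
      · rw [← sub_sub, map_sub, map_smul, smul_eq_mul, div_mul_cancel₀ _ ha_n, sub_self]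

theorem result (k : Type u) [Field k] [IsAlgClosed k] (A : Subalgebra k (PowerSeries k)) (hA : Module.Finite ↥A (PowerSeries k)) (hcl : ∀ f : PowerSeries k, (∀ n : ℕ, ∃ g ∈ A, (n : ℕ∞) ≤ PowerSeries.order (f - g)) → f ∈ A) (hsing : A ≠ ⊤) (Γ : Set ℕ) (hΓ : ∀ n : ℕ, n ∈ Γ ↔ ∃ f ∈ A, PowerSeries.order f = n) (c : ℕ) (hc : ∀ n : ℕ, c ≤ n → n ∈ Γ) (hc0 : c ≠ 0) (hc1 : c - 1 ∉ Γ) (f : PowerSeries k) : (∀ g : PowerSeries k, g * f ∈ A) ↔ (c : ℕ∞) ≤ PowerSeries.order f := by
  constructor
  · intro h
    by_contra hlt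
    rw [not_le] at hlt
    have hf0 : f ≠ 0 := by
      rintro rfl
      rw [order_zero] at hlt
      exact not_top_lt hlt
    obtain ⟨m, hm⟩ : ∃ m : ℕ, f.order = m := ⟨f.order.toNat, (coe_toNat_order hf0).symm⟩
    rw [hm] at hlt
    have hmc : m < c := by exact_mod_cast hlt
    apply hc1
    rw [hΓ]
    refine ⟨X ^ (c - 1 - m) * f, h _, ?_⟩
    rw [order_mul, order_X_pow, hm, ← Nat.cast_add]
    congr 1
    omega
  · intro hf g
    apply hcl
    have hgf : ∀ i < c, coeff i (g * f) = 0 := by
      intro i hi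
      apply coeff_of_lt_order
      calc (i : ℕ∞) < c := by exact_mod_cast hi
        _ ≤ f.order := hf
        _ ≤ g.order + f.order := le_add_self
        _ = (g * f).order := (order_mul g f).symm
    intro n
    obtain ⟨g', hg'A, hg'⟩ := approx A c (fun n hn => (hΓ n).1 (hc n hn)) (g * f) hgf n
    exact ⟨g', hg'A, nat_le_order _ _ hg'⟩

end Groth.Agent.S15016
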