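import Groth.Statements.S15015
import Groth.Agent.S15016
import Mathlib.LinearAlgebra.Dimension.Constructions
import Mathlib.LinearAlgebra.Dimension.Free
import Mathlib.RingTheory.PowerSeries.NoZeroDivisors

set_option autoImplicit false
universe u

namespace Groth.Agent.S15015

open PowerSeries

variable {k : Type u} [Field k]

/-- A "conductor element": some nonzero `a ∈ A` with `a * f ∈ A` for all `f`. -/
theorem exists_conductor_elt (A : Subalgebra k (PowerSeries k))
    (hA : Module.Finite ↥A (PowerSeries k))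
    (hbir : ∀ f : PowerSeries k, ∃ a ∈ A, a ≠ 0 ∧ a * f ∈ A) :
    ∃ a ∈ A, a ≠ 0 ∧ ∀ f : PowerSeries k, a * f ∈ A := by
  classical
  obtain ⟨s, hs⟩ := hA.fg_top
  choose a haA ha0 haf using hbir
  refine ⟨∏ w ∈ s, a w, A.prod_mem fun w _ => haA w, Finset.prod_ne_zero_iff.2 fun w _ => ha0 w, ?_⟩
  intro f
  have hf : f ∈ Submodule.span ↥A (s : Set (PowerSeries k)) := by rw [hs]; trivial
  induction hf using Submodule.span_induction with
  | mem w hw =>
    rw [← Finset.mul_prod_erase s a hw, mul_right_comm]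
    exact A.mul_mem (haf w) (A.prod_mem fun w' _ => haA w')
  | zero => rw [mul_zero]; exact A.zero_mem
  | add x y _ _ hx hy => rw [mul_add]; exact A.add_mem hx hy
  | smul b x _ hx =>
    have : (∏ w ∈ s, a w) * (b • x) = (b : PowerSeries k) * ((∏ w ∈ s, a w) * x) := by
      rw [Algebra.smul_def, ← mul_assoc, ← mul_assoc, mul_comm _ (algebraMap _ _ b)]
      rfl
    rw [this]
    exact A.mul_mem b.2 hx

/-- The linear map sending a family of coefficients on a finite set of exponents to the polynomial. -/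
noncomputable def ψ (G : Finset ℕ) : (G → k) →ₗ[k] PowerSeries k where
  toFun c := ∑ g : G, c g • (X : PowerSeries k) ^ (g : ℕ)
  map_add' c c' := by simp [add_smul, Finset.sum_add_distrib]
  map_smul' r c := by simp [mul_smul, Finset.smul_sum]

theorem coeff_ψ (G : Finset ℕ) (c : G → k) (n : ℕ) :
    coeff n (ψ G c) = if h : n ∈ G then c ⟨n, h⟩ else 0 := by
  classical
  change coeff n (∑ g : G, c g • (X : PowerSeries k) ^ (g : ℕ)) = _
  rw [map_sum]
  simp only [map_smul, coeff_X_pow, smul_eq_mul, mul_ite, mul_one, mul_zero]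
  split_ifs with h
  · rw [Finset.sum_eq_single ⟨n, h⟩]
    · simp
    · intro g _ hg
      rw [if_neg]
      intro hn
      exact hg (Subtype.ext hn.symm)
    · intro h'; exact absurd (Finset.mem_univ _) h'
  · apply Finset.sum_eq_zero
    intro g _
    rw [if_neg]
    intro hn
    exact h (hn ▸ g.2)

theorem result (k : Type u) [Field k] [IsAlgClosed k] (A : Subalgebra k (PowerSeries k)) (hA : Module.Finite ↥A (PowerSeries k)) (hcl : ∀ f : PowerSeries k, (∀ n : ℕ, ∃ g ∈ A, (n : ℕ∞) ≤ PowerSeries.order (f - g)) → f ∈ A) (hsing : A ≠ ⊤) (hbir : ∀ f : PowerSeries k, ∃ a ∈ A, a ≠ 0 ∧ a * f ∈ A) (Γ : Set ℕ) (hΓ : ∀ n : ℕ, n ∈ Γ ↔ ∃ f ∈ A, PowerSeries.order f = n) : Γᶜ.Finite ∧ Module.finrank k (PowerSeries k ⧸ Subalgebra.toSubmodule A) = Γᶜ.ncard := by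
  classical
  obtain ⟨a, haA, ha0, haf⟩ := exists_conductor_elt A hA hbir
  obtain ⟨d, hd⟩ : ∃ d : ℕ, a.order = d := ⟨a.order.toNat, (coe_toNat_order ha0).symm⟩
  have hΓd : ∀ n, d ≤ n → ∃ b ∈ A, PowerSeries.order b = n := by
    intro n hn
    refine ⟨a * X ^ (n - d), haf _, ?_⟩
    rw [order_mul, order_X_pow, hd, ← Nat.cast_add]
    congr 1
    omega
  have hAd : ∀ f : PowerSeries k, (∀ i < d, coeff i f = 0) → f ∈ A := by
    intro f hf
    apply hcl
    intro n
    obtain ⟨g, hgA, hg⟩ := Groth.Agent.S15016.approx A d hΓd f hf n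
    exact ⟨g, hgA, nat_le_order _ _ hg⟩
  have hfin : Γᶜ.Finite := by
    apply (Set.finite_lt_nat d).subset
    intro n hn
    by_contra h
    exact hn ((hΓ n).2 (hΓd n (not_lt.1 h)))
  refine ⟨hfin, ?_⟩
  set G : Finset ℕ := hfin.toFinset with hG
  have hGmem : ∀ n, n ∈ G ↔ n ∉ Γ := fun n => by rw [hG, Set.Finite.mem_toFinset]; rfl
  let φ : (G → k) →ₗ[k] (PowerSeries k ⧸ Subalgebra.toSubmodule A) :=
    (Submodule.mkQ _).comp (ψ G)
  have hinj : Function.Injective φ := by
    rw [← LinearMap.ker_eq_bot, LinearMap.ker_eq_bot']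
    intro c hc
    have hcA : ψ G c ∈ A := by
      have : Submodule.Quotient.mk (ψ G c) = (0 : PowerSeries k ⧸ Subalgebra.toSubmodule A) := hc
      rwa [Submodule.Quotient.mk_eq_zero] at this
    by_contra hne
    have hex : ∃ n, ∃ h : n ∈ G, c ⟨n, h⟩ ≠ 0 := by
      by_contra hno
      apply hne
      funext g
      by_contra hg
      exact hno ⟨g.1, g.2, hg⟩
    obtain ⟨hn₀, hcn₀⟩ := Nat.find_spec hex
    have hord : (ψ G c).order = (Nat.find hex : ℕ) := by
      rw [order_eq_nat]
      constructor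
      · rw [coeff_ψ, dif_pos hn₀]; exact hcn₀
      · intro i hi
        rw [coeff_ψ]
        split_ifs with h
        · by_contra hci
          exact Nat.find_min hex hi ⟨h, hci⟩
        · rfl
    exact (hGmem _).1 hn₀ ((hΓ _).2 ⟨_, hcA, hord⟩)
  have hsurj : Function.Surjective φ := by
    intro q
    obtain ⟨f, rfl⟩ := Submodule.Quotient.mk_surjective _ q
    have key : ∀ n, ∃ c : G → k, ∃ b ∈ A, ∀ i < n, coeff i (f - ψ G c - b) = 0 := by
      intro n
      induction n with
      | zero => exact ⟨0, 0, A.zero_mem, fun i hi => absurd hi (Nat.not_lt_zero i)⟩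
      | succ n ih =>
        obtain ⟨c, b, hbA, hcb⟩ := ih
        by_cases hn : n ∈ Γ
        · obtain ⟨an, hanA, han⟩ := (hΓ n).1 hn
          have han_lt : ∀ i < n, coeff i an = 0 := fun i hi =>
            coeff_of_lt_order i (by rw [han]; exact_mod_cast hi)
          have han_n : coeff n an ≠ 0 := by
            have han0 : an ≠ 0 := by
              rintro rfl
              rw [order_zero] at han
              exact ENat.top_ne_natCast n han
            have := coeff_order han0
            rwa [han, ENat.toNat_natCast] at this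
          refine ⟨c, b + (coeff n (f - ψ G c - b) / coeff n an) • an,
            A.add_mem hbA (A.smul_mem hanA _), ?_⟩
          intro i hi
          rcases Nat.lt_succ_iff_lt_or_eq.1 hi with hlt | rfl
          · rw [← sub_sub, map_sub, hcb i hlt, map_smul, han_lt i hlt, smul_zero, sub_zero]
          · rw [← sub_sub, map_sub, map_smul, smul_eq_mul, div_mul_cancel₀ _ han_n, sub_self]
        · have hnG : n ∈ G := (hGmem n).2 hn
          refine ⟨c + Pi.single ⟨n, hnG⟩ (coeff n (f - ψ G c - b)), b, hbA, ?_⟩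
          intro i hi
          have hsplit : f - ψ G (c + Pi.single ⟨n, hnG⟩ (coeff n (f - ψ G c - b))) - b =
              (f - ψ G c - b) - ψ G (Pi.single ⟨n, hnG⟩ (coeff n (f - ψ G c - b))) := by
            rw [map_add]; ring
          rw [hsplit, map_sub, coeff_ψ]
          rcases Nat.lt_succ_iff_lt_or_eq.1 hi with hlt | rfl
          · rw [hcb i hlt]
            split_ifs with h
            · rw [Pi.single_eq_of_ne, sub_zero]
              intro heq
              have : i = n := congrArg Subtype.val heq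
              omega
            · rw [sub_zero]
          · rw [dif_pos hnG, Pi.single_eq_same, sub_self]
    obtain ⟨c, b, hbA, hcb⟩ := key d
    refine ⟨c, ?_⟩
    change Submodule.Quotient.mk (ψ G c) = Submodule.Quotient.mk f
    rw [Submodule.Quotient.eq]
    have h1 : f - ψ G c - b ∈ A := hAd _ hcb
    have h2 : ψ G c - f = -((f - ψ G c - b) + b) := by ring
    rw [h2]
    exact A.neg_mem (A.add_mem h1 hbA)
  have e : (G → k) ≃ₗ[k] (PowerSeries k ⧸ Subalgebra.toSubmodule A) :=
    LinearEquiv.ofBijective φ ⟨hinj, hsurj⟩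
  rw [← LinearEquiv.finrank_eq e, Module.finrank_fintype_fun_eq_card, Fintype.card_coe,
    Set.ncard_eq_toFinset_card _ hfin]

end Groth.Agent.S15015
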