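import Groth.Statements.S15017

set_option autoImplicit false

namespace Groth.Agent.S15017

theorem result (Γ : AddSubmonoid ℕ) (c : ℕ) (hc : ∀ n : ℕ, c ≤ n → n ∈ Γ) (hc0 : c ≠ 0) (hc1 : c - 1 ∉ Γ) (hsymm : ∀ x : ℕ, x < c → (x ∉ Γ ↔ c - 1 - x ∈ Γ)) (he : (1 : ℕ) ∉ Γ ∧ (2 : ℕ) ∉ Γ) : AddSubmonoid.closure {γ : ℕ | γ ∈ Γ ∧ γ < c} = Γ := by
  classical
  apply le_antisymm
  · rw [AddSubmonoid.closure_le]
    rintro γ ⟨hγ, -⟩
    exact hγ
  -- the multiplicity
  have hex : ∃ γ, γ ∈ Γ ∧ γ ≠ 0 := ⟨c, hc c le_rfl, hc0⟩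
  obtain ⟨e, ⟨heΓ, he0⟩, hemin⟩ : ∃ e, (e ∈ Γ ∧ e ≠ 0) ∧ ∀ γ, γ ∈ Γ → γ ≠ 0 → e ≤ γ :=
    ⟨Nat.find hex, Nat.find_spec hex, fun γ h1 h2 => Nat.find_min' hex ⟨h1, h2⟩⟩
  have he3 : 3 ≤ e := by
    by_contra h
    have : e = 1 ∨ e = 2 := by omega
    rcases this with rfl | rfl
    · exact he.1 heΓ
    · exact he.2 heΓ
  have hec : e ≤ c := hemin c (hc c le_rfl) hc0
  have hec' : e < c := by
    by_contra h
    have hce : c = e := by omega
    have h1 : c - 1 - 1 ∈ Γ := (hsymm 1 (by omega)).1 he.1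
    have := hemin _ h1 (by omega)
    omega
  -- least element of Γ not divisible by e
  have hex2 : ∃ a, a ∈ Γ ∧ ¬ e ∣ a := by
    by_cases h : e ∣ c
    · refine ⟨c + 1, hc _ (by omega), ?_⟩
      intro h'
      have : e ∣ 1 := (Nat.dvd_add_right h).1 h'
      have := Nat.le_of_dvd one_pos this
      omega
    · exact ⟨c, hc c le_rfl, h⟩
  obtain ⟨a, ⟨haΓ, hane⟩, hamin⟩ : ∃ a, (a ∈ Γ ∧ ¬ e ∣ a) ∧ ∀ γ, γ ∈ Γ → ¬ e ∣ γ → a ≤ γ :=
    ⟨Nat.find hex2, Nat.find_spec hex2, fun γ h1 h2 => Nat.find_min' hex2 ⟨h1, h2⟩⟩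
  have ha0 : a ≠ 0 := by
    rintro rfl
    exact hane (dvd_zero e)
  have hae : e ≤ a := hemin a haΓ ha0
  have hae' : e < a := by
    rcases Nat.lt_or_ge e a with h | h
    · exact h
    · exfalso
      have : a = e := by omega
      exact hane (this ▸ dvd_rfl)
  have hac : a ≤ c + 1 := by
    obtain ⟨a', ha'Γ, ha'ne, ha'le⟩ : ∃ a', a' ∈ Γ ∧ ¬ e ∣ a' ∧ a' ≤ c + 1 := by
      by_cases h : e ∣ c
      · refine ⟨c + 1, hc _ (by omega), ?_, le_rfl⟩
        intro h'
        have : e ∣ 1 := (Nat.dvd_add_right h).1 h'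
        have := Nat.le_of_dvd one_pos this
        omega
      · exact ⟨c, hc c le_rfl, h, by omega⟩
    exact le_trans (hamin a' ha'Γ ha'ne) ha'le
  have hae_gap : a - e ∉ Γ := by
    intro h
    have hne : ¬ e ∣ a - e := by
      intro hd
      apply hane
      have := Nat.dvd_add hd (dvd_refl e)
      rwa [Nat.sub_add_cancel hae] at this
    have := hamin _ h hne
    omega
  have hbΓ : c - 1 + e - a ∈ Γ := by
    by_contra hb
    have hblt : c - 1 + e - a < c := by omega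
    have := (hsymm _ hblt).1 hb
    rw [show c - 1 - (c - 1 + e - a) = a - e by omega] at this
    exact hae_gap this
  -- main induction
  intro n hn
  induction n using Nat.strong_induction_on with
  | _ n ih =>
    by_cases hnc : n < c
    · exact AddSubmonoid.subset_closure ⟨hn, hnc⟩
    · rw [not_lt] at hnc
      have heT : e ∈ AddSubmonoid.closure {γ : ℕ | γ ∈ Γ ∧ γ < c} :=
        AddSubmonoid.subset_closure ⟨heΓ, hec'⟩
      by_cases hne : n - e ∈ Γ
      · have h1 := ih (n - e) (by omega) hne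
        have := AddSubmonoid.add_mem _ h1 heT
        rwa [Nat.sub_add_cancel (by omega)] at this
      · have hlt : n - e < c := by
          by_contra h
          exact hne (hc _ (not_lt.1 h))
        have h1 : c - 1 - (n - e) ∈ Γ := (hsymm _ hlt).1 hne
        have h2 : c - 1 - (n - e) = 0 := by
          by_contra h0
          have := hemin _ h1 h0
          omega
        have hn_eq : n = a + (c - 1 + e - a) := by omega
        have h3 := ih a (by omega) haΓ
        have h4 := ih (c - 1 + e - a) (by omega) hbΓ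
        rw [hn_eq]
        exact AddSubmonoid.add_mem _ h3 h4

end Groth.Agent.S15017
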