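import Groth.Statements.S15018

set_option autoImplicit false

namespace Groth.Agent.S15018

theorem result (Γ : AddSubmonoid ℕ) (c : ℕ) (hc : ∀ n : ℕ, c ≤ n → n ∈ Γ) (hc0 : c ≠ 0) (hc1 : c - 1 ∉ Γ) : (∀ x : ℕ, x < c → (x ∉ Γ ↔ c - 1 - x ∈ Γ)) ↔ ∃! n : ℕ, n ∉ Γ ∧ ∀ γ : ℕ, γ ∈ Γ → γ ≠ 0 → n + γ ∈ Γ := by
  have hgap : ∀ n, n ∉ Γ → n < c := fun n hn => by
    by_contra h
    exact hn (hc n (not_lt.1 h))
  have hF : ∀ γ : ℕ, γ ∈ Γ → γ ≠ 0 → c - 1 + γ ∈ Γ := fun γ _ hγ0 => hc _ (by omega)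
  constructor
  · intro hsymm
    refine ⟨c - 1, ⟨hc1, hF⟩, ?_⟩
    rintro n ⟨hn, hnPF⟩
    by_contra hne
    have hnc := hgap n hn
    have h1 : c - 1 - n ∈ Γ := (hsymm n hnc).1 hn
    have h2 : c - 1 - n ≠ 0 := by omega
    have := hnPF _ h1 h2
    rw [show n + (c - 1 - n) = c - 1 by omega] at this
    exact hc1 this
  · rintro ⟨n₀, ⟨-, -⟩, huniq⟩ x hx
    have hF_eq : c - 1 = n₀ := huniq (c - 1) ⟨hc1, hF⟩
    constructor
    · intro hxgap
      by_contra hy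
      -- the set of gaps x with c - 1 - x a gap is nonempty and bounded; take a maximal one
      let P : ℕ → Prop := fun m => m ∉ Γ ∧ c - 1 - m ∉ Γ
      have hex : ∃ m, P m := ⟨x, hxgap, hy⟩
      have hbdd : ∀ m, P m → m ≤ c := fun m hm => (hgap m hm.1).le
      classical
      obtain ⟨m, hm, hmax⟩ : ∃ m, P m ∧ ∀ k, P k → k ≤ m := by
        have := Nat.findGreatest_spec (P := P) (n := c) (hbdd x ⟨hxgap, hy⟩) ⟨hxgap, hy⟩
        exact ⟨Nat.findGreatest P c, this, fun k hk => Nat.le_findGreatest (hbdd k hk) hk⟩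
      have hmc := hgap m hm.1
      have hmPF : ∀ γ : ℕ, γ ∈ Γ → γ ≠ 0 → m + γ ∈ Γ := by
        intro γ hγ hγ0
        by_contra hmγ
        have hlt := hgap _ hmγ
        have h3 : c - 1 - (m + γ) ∈ Γ := by
          by_contra h3
          have := hmax (m + γ) ⟨hmγ, h3⟩
          omega
        apply hm.2
        have := Γ.add_mem h3 hγ
        rwa [show c - 1 - (m + γ) + γ = c - 1 - m by omega] at this
      have hm_eq : m = n₀ := huniq m ⟨hm.1, hmPF⟩
      apply hm.2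
      rw [hm_eq, ← hF_eq, Nat.sub_self]
      exact Γ.zero_mem
    · intro hy hxΓ
      apply hc1
      have := Γ.add_mem hxΓ hy
      rwa [show x + (c - 1 - x) = c - 1 by omega] at this

end Groth.Agent.S15018
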