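import Groth.Statements.S15019
import Mathlib.Order.Interval.Finset.Nat
import Mathlib.Data.Nat.ModEq

set_option autoImplicit false

namespace Groth.Agent.S15019

theorem encard_le_of_mod {e : ℕ} (he0 : e ≠ 0) (T : Set ℕ)
    (h0 : ∀ n ∈ T, n % e ≠ 0)
    (hinj : ∀ n ∈ T, ∀ n' ∈ T, n % e = n' % e → n = n') :
    T.encard ≤ ((e - 1 : ℕ) : ℕ∞) := by
  have h1 : T.encard ≤ (Set.Ioo 0 e : Set ℕ).encard := by
    apply Set.encard_le_encard_of_injOn (f := fun n => n % e)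
    · intro n hn
      exact ⟨Nat.pos_of_ne_zero (h0 n hn), Nat.mod_lt _ (Nat.pos_of_ne_zero he0)⟩
    · intro n hn n' hn' h
      exact hinj n hn n' hn' h
  have h2 : (Set.Ioo 0 e : Set ℕ).encard = ((e - 1 : ℕ) : ℕ∞) := by
    rw [← Finset.coe_Ioo, Set.encard_coe_eq_coe_finsetCard, Nat.card_Ioo]
    simp
  rwa [h2] at h1

theorem result (Γ : AddSubmonoid ℕ) (c : ℕ) (hc : ∀ n : ℕ, c ≤ n → n ∈ Γ) (hc0 : c ≠ 0) (hc1 : c - 1 ∉ Γ) (e : ℕ) (he : e ∈ Γ) (he0 : e ≠ 0) (hemin : ∀ γ : ℕ, γ ∈ Γ → γ ≠ 0 → e ≤ γ) (S : Set ℕ) (hS0 : (0 : ℕ) ∈ S) (hS : ∀ γ : ℕ, γ ∈ Γ → ∀ s : ℕ, s ∈ S → γ + s ∈ S) : {n : ℕ | n ∉ S ∧ ∀ γ : ℕ, γ ∈ Γ → γ ≠ 0 → n + γ ∈ S}.encard ≤ ((e - 1 : ℕ) : ℕ∞) ∧ {s : ℕ | s ∈ S ∧ s ≠ 0 ∧ ∀ γ : ℕ, γ ∈ Γ → γ ≠ 0 → γ ≤ s → s - γ ∉ S}.encard ≤ ((e - 1 : ℕ) : ℕ∞) := by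
  have hke : ∀ k : ℕ, k * e ∈ Γ := fun k => by
    simpa using Γ.nsmul_mem he k
  have epos : 0 < e := Nat.pos_of_ne_zero he0
  constructor
  · apply encard_le_of_mod he0
    · rintro n ⟨hn, -⟩ hmod
      apply hn
      obtain ⟨k, hk⟩ := Nat.dvd_of_mod_eq_zero hmod
      have := hS (k * e) (hke k) 0 hS0
      rwa [add_zero, mul_comm, ← hk] at this
    · -- two elements with same residue
      have key : ∀ n n', n ∉ S → (∀ γ : ℕ, γ ∈ Γ → γ ≠ 0 → n + γ ∈ S) → n' ∉ S →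
          n % e = n' % e → n ≤ n' → n = n' := by
        intro n n' _ hnPF hn' hmod hle
        by_contra hne
        have hlt : n < n' := lt_of_le_of_ne hle hne
        have hdvd : e ∣ n' - n := (Nat.modEq_iff_dvd' hle).1 hmod
        obtain ⟨k, hk⟩ := hdvd
        have hk0 : k ≠ 0 := by
          rintro rfl
          omega
        apply hn'
        have := hnPF (k * e) (hke k) (Nat.mul_ne_zero hk0 he0)
        rwa [show n + k * e = n' by rw [mul_comm, ← hk]; omega] at this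
      rintro n ⟨hn, hnPF⟩ n' ⟨hn', hn'PF⟩ hmod
      rcases le_total n n' with hle | hle
      · exact key n n' hn hnPF hn' hmod hle
      · exact (key n' n hn' hn'PF hn hmod.symm hle).symm
  · apply encard_le_of_mod he0
    · rintro s ⟨hs, hs0, hsmin⟩ hmod
      obtain ⟨k, hk⟩ := Nat.dvd_of_mod_eq_zero hmod
      have hk0 : k ≠ 0 := by
        rintro rfl
        exact hs0 (by simpa using hk)
      have := hsmin (k * e) (hke k) (Nat.mul_ne_zero hk0 he0) (by rw [hk, mul_comm])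
      apply this
      rw [hk, mul_comm, Nat.sub_self]
      exact hS0
    · have key : ∀ s s', s ∈ S → (∀ γ : ℕ, γ ∈ Γ → γ ≠ 0 → γ ≤ s' → s' - γ ∉ S) →
          s % e = s' % e → s ≤ s' → s = s' := by
        intro s s' hs hs'min hmod hle
        by_contra hne
        have hlt : s < s' := lt_of_le_of_ne hle hne
        have hdvd : e ∣ s' - s := (Nat.modEq_iff_dvd' hle).1 hmod
        obtain ⟨k, hk⟩ := hdvd
        have hk0 : k ≠ 0 := by
          rintro rfl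
          omega
        have hle' : k * e ≤ s' := by rw [mul_comm, ← hk]; omega
        apply hs'min (k * e) (hke k) (Nat.mul_ne_zero hk0 he0) hle'
        rwa [show s' - k * e = s by rw [mul_comm, ← hk]; omega]
      rintro s ⟨hs, -, hsmin⟩ s' ⟨hs', -, hs'min⟩ hmod
      rcases le_total s s' with hle | hle
      · exact key s s' hs hs'min hmod hle
      · exact (key s' s hs' hsmin hmod.symm hle).symm

end Groth.Agent.S15019
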