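import Groth.Statements.S15020

set_option autoImplicit false

namespace Groth.Agent.S15020

theorem result (Γ : AddSubmonoid ℕ) (c : ℕ) (hc : ∀ n : ℕ, c ≤ n → n ∈ Γ) (hc0 : c ≠ 0) (hc1 : c - 1 ∉ Γ) (S : Set ℕ) (hS0 : (0 : ℕ) ∈ S) (hS : ∀ γ : ℕ, γ ∈ Γ → ∀ s : ℕ, s ∈ S → γ + s ∈ S) (cS : ℕ) (hcS : ∀ n : ℕ, cS ≤ n → n ∈ S) (hcS1 : cS = 0 ∨ cS - 1 ∉ S) : {s : ℕ | s ∈ S ∧ s < cS}.ncard ≤ (↑Γ : Set ℕ)ᶜ.ncard := by
  have hfin : ((↑Γ : Set ℕ)ᶜ).Finite := by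
    apply (Set.finite_lt_nat c).subset
    intro n hn
    by_contra h
    exact hn (hc n (not_lt.1 h))
  rcases hcS1 with h0 | h1
  · subst h0
    have : {s : ℕ | s ∈ S ∧ s < 0} = ∅ := by
      ext s; simp
    rw [this, Set.ncard_empty]
    exact Nat.zero_le _
  · apply Set.ncard_le_ncard_of_injOn (fun s => cS - 1 - s) ?_ ?_ hfin
    · rintro s ⟨hs, hlt⟩ hmem
      apply h1
      have := hS _ hmem s hs
      rwa [show cS - 1 - s + s = cS - 1 by omega] at this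
    · rintro s ⟨-, hlt⟩ s' ⟨-, hlt'⟩ h
      simp only at h
      omega

end Groth.Agent.S15020
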