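import Groth.Statements.S15021

set_option autoImplicit false

namespace Groth.Agent.S15021

theorem result (Γ : AddSubmonoid ℕ) (c : ℕ) (hc : ∀ n : ℕ, c ≤ n → n ∈ Γ) (hc0 : c ≠ 0) (hc1 : c - 1 ∉ Γ) : (∀ S : Set ℕ, (↑Γ : Set ℕ) ⊆ S → ∀ γ : ℕ, γ ∈ Γ → ∀ s : ℕ, s ∈ S → γ + s ∈ S) ↔ ∀ γ : ℕ, γ ∈ Γ → γ ≠ 0 → c ≤ γ := by
  constructor
  · intro h γ hγ hγ0
    by_contra hlt
    rw [not_le] at hlt
    -- s = c - 1 - γ is a gap
    have hs : c - 1 - γ ∉ Γ := by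
      intro hs
      apply hc1
      have := Γ.add_mem hγ hs
      rwa [show γ + (c - 1 - γ) = c - 1 by omega] at this
    have := h ((↑Γ : Set ℕ) ∪ {c - 1 - γ}) Set.subset_union_left γ hγ (c - 1 - γ)
      (Or.inr rfl)
    rcases this with h1 | h1
    · apply hc1
      have h1' : γ + (c - 1 - γ) ∈ Γ := h1
      rwa [show γ + (c - 1 - γ) = c - 1 by omega] at h1'
    · have h1' : γ + (c - 1 - γ) = c - 1 - γ := h1
      omega
  · intro h S hS γ hγ s hs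
    by_cases hγ0 : γ = 0
    · subst hγ0; simpa using hs
    · exact hS (hc _ (le_trans (h γ hγ hγ0) (Nat.le_add_right _ _)))

end Groth.Agent.S15021
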