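import Groth.Statements.S15023
import Mathlib
import Groth.Agent.S15015
import Groth.Agent.Lib.ValueSet97
import Groth.Agent.Lib.ValueSet97b
-- import your own Groth.Agent.* helpers here

set_option autoImplicit false
universe u
open TFCurv

namespace Groth.Agent.S15023

/-- Let k be an algebraically closed field and A ≠ k[[t]] a k-subalgebra of k[[t]] that is closed in the
t-adic topology, over which k[[t]] is a finite module, and such that every power series is carried
into A by multiplication with some nonzero element of A (so k[[t]] lies in the fraction field of A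
and is its normalisation, as for the complete local ring of a unibranch curve singularity), and let
Γ ⊆ ℕ be the set of t-orders of the nonzero elements of A (its value semigroup); assume moreover
that A is the monomial ring of Γ (a power series lies in A exactly when all its exponents lie in Γ),
and let δ be the number of gaps of Γ. Then every finitely generated torsion-free A-module of rank
one is isomorphic to an A-submodule M' of k[[t]] with t^{2δ} k[[t]] ⊆ M' and dim_k(k[[t]]/M') = δ,
equivalently dim_k(M'/t^{2δ}k[[t]]) = δ: every isomorphism class of rank-one torsion-free modules is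
represented by a δ-dimensional A-stable subspace of k[[t]]/t^{2δ}k[[t]]. -/
theorem result (k : Type u) [Field k] [IsAlgClosed k] (A : Subalgebra k (PowerSeries k)) (hA : Module.Finite ↥A (PowerSeries k)) (hcl : ∀ f : PowerSeries k, (∀ n : ℕ, ∃ g ∈ A, (n : ℕ∞) ≤ PowerSeries.order (f - g)) → f ∈ A) (hsing : A ≠ ⊤) (hbir : ∀ f : PowerSeries k, ∃ a ∈ A, a ≠ 0 ∧ a * f ∈ A) (Γ : Set ℕ) (hΓ : ∀ n : ℕ, n ∈ Γ ↔ ∃ f ∈ A, PowerSeries.order f = n) (hmono : ∀ f : PowerSeries k, f ∈ A ↔ ∀ n : ℕ, PowerSeries.coeff n f ≠ 0 → n ∈ Γ) (M : Type u) [AddCommGroup M] [Module ↥A M] [Module.Finite ↥A M] [NoZeroSMulDivisors ↥A M] (hrk : Module.finrank (FractionRing ↥A) (TensorProduct ↥A (FractionRing ↥A) M) = 1) : ∃ M' : Submodule ↥A (PowerSeries k), (Ideal.span {(PowerSeries.X : PowerSeries k) ^ (2 * Γᶜ.ncard)}).restrictScalars ↥A ≤ M' ∧ Nonempty (M ≃ₗ[↥A] ↥M') ∧ Module.finrank k (PowerSeries k ⧸ M'.restrictScalars k) = Γᶜ.ncard := by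
  classical
  obtain ⟨hΓfin, -⟩ := Groth.Agent.S15015.result k A hA hcl hsing hbir Γ hΓ
  -- Step 1: embed `M` into `k[[t]]`
  obtain ⟨ψ, hψ⟩ := Groth.Agent.Lib.ValueSet97.exists_embed_rank ↥A M 1 hrk
  let ι₀ : M →ₗ[↥A] PowerSeries k :=
    (Algebra.linearMap ↥A (PowerSeries k)) ∘ₗ (LinearMap.proj (0 : Fin 1)) ∘ₗ ψ
  have hι₀ : Function.Injective ι₀ := by
    intro x y hxy
    apply hψ
    funext i
    have hi : i = 0 := Subsingleton.elim i 0
    subst hi
    exact Subtype.ext hxy
  have hM₀ : LinearMap.range ι₀ ≠ ⊥ := by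
    intro hbot
    have hsub : Subsingleton M := by
      refine ⟨fun x y => hι₀ ?_⟩
      have hx : ι₀ x ∈ LinearMap.range ι₀ := ⟨x, rfl⟩
      have hy : ι₀ y ∈ LinearMap.range ι₀ := ⟨y, rfl⟩
      rw [hbot, Submodule.mem_bot] at hx hy
      rw [hx, hy]
    have hsub' : Subsingleton (TensorProduct ↥A (FractionRing ↥A) M) := by
      refine ⟨fun x y => ?_⟩
      have h0 : ∀ z : TensorProduct ↥A (FractionRing ↥A) M, z = 0 := by
        intro z
        induction z using TensorProduct.induction_on with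
        | zero => rfl
        | tmul a m => rw [Subsingleton.elim m 0, TensorProduct.tmul_zero]
        | add a b ha hb => rw [ha, hb, add_zero]
      rw [h0 x, h0 y]
    rw [Module.finrank_zero_of_subsingleton] at hrk
    exact zero_ne_one hrk
  obtain ⟨M'', h1, ⟨e''⟩⟩ := Groth.Agent.Lib.ValueSet97.exists_normalized A _ hM₀
  let e₁ : M ≃ₗ[↥A] ↥M'' := (LinearEquiv.ofInjective ι₀ hι₀).trans e''.symm
  have hsmul : ∀ (a : PowerSeries k) (ha : a ∈ A) (g : PowerSeries k), g ∈ M'' → a * g ∈ M'' := by
    intro a ha g hg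
    have := M''.smul_mem (⟨a, ha⟩ : ↥A) hg
    rwa [Algebra.smul_def] at this
  have hAM : ∀ a ∈ A, a ∈ M'' := fun a ha => by
    have := hsmul a ha 1 h1
    rwa [mul_one] at this
  -- conductor of Γ
  obtain ⟨c, hc⟩ : ∃ c : ℕ, ∀ n, c ≤ n → n ∈ Γ := by
    refine ⟨hΓfin.toFinset.sup id + 1, fun n hn => ?_⟩
    by_contra hnot
    have hmem : n ∈ hΓfin.toFinset := by rw [Set.Finite.mem_toFinset]; exact hnot
    have := Finset.le_sup (f := id) hmem
    simp only [id] at this
    omega
  have hAc : ∀ f : PowerSeries k, (∀ i < c, PowerSeries.coeff i f = 0) → f ∈ A := by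
    intro f hf
    rw [hmono]
    intro n hn
    apply hc
    by_contra h
    exact hn (hf n (not_le.mp h))
  have hW''c : ∀ f : PowerSeries k, (∀ i < c, PowerSeries.coeff i f = 0) →
      f ∈ M''.restrictScalars k := fun f hf => hAM f (hAc f hf)
  have hΓ''fin := Groth.Agent.Lib.ValueSet97.vset_compl_finite (M''.restrictScalars k) c hW''c
  have hsub : Γ ⊆ Groth.Agent.Lib.ValueSet97.vset (M''.restrictScalars k) := by
    intro n hn
    obtain ⟨f, hf, hfn⟩ := (hΓ n).mp hn
    exact ⟨f, hAM f hf, hfn⟩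
  have hdle : (Groth.Agent.Lib.ValueSet97.vset (M''.restrictScalars k))ᶜ.ncard ≤ Γᶜ.ncard :=
    Set.ncard_le_ncard (Set.compl_subset_compl.mpr hsub) hΓfin
  have hadd : ∀ γ ∈ Γ, ∀ m ∈ Groth.Agent.Lib.ValueSet97.vset (M''.restrictScalars k),
      γ + m ∈ Groth.Agent.Lib.ValueSet97.vset (M''.restrictScalars k) := by
    rintro γ hγ m ⟨g, hg, hgm⟩
    obtain ⟨a, ha, haγ⟩ := (hΓ γ).mp hγ
    refine ⟨a * g, hsmul a ha g hg, ?_⟩
    rw [PowerSeries.order_mul, haγ, hgm]
    push_cast
    rfl
  have hbig := Groth.Agent.Lib.ValueSet97.mem_of_le_of_gaps Γ _ hΓfin hΓ''fin hadd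
  have hM''big : ∀ f : PowerSeries k,
      (∀ i < Γᶜ.ncard + (Groth.Agent.Lib.ValueSet97.vset (M''.restrictScalars k))ᶜ.ncard,
        PowerSeries.coeff i f = 0) → f ∈ M'' := fun f hf =>
    Groth.Agent.Lib.ValueSet97.mem_of_coeff_eq_zero (M''.restrictScalars k) c hW''c _ hbig f hf
  set δ := Γᶜ.ncard with hδ
  set d := (Groth.Agent.Lib.ValueSet97.vset (M''.restrictScalars k))ᶜ.ncard with hd
  let ν : PowerSeries k →ₗ[↥A] PowerSeries k := LinearMap.mulLeft ↥A (PowerSeries.X ^ (δ - d))
  have hν : ∀ x, ν x = PowerSeries.X ^ (δ - d) * x := fun x => rfl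
  have hνinj : Function.Injective ν := by
    intro x y hxy
    rw [hν, hν] at hxy
    exact mul_left_cancel₀ (pow_ne_zero _ PowerSeries.X_ne_zero) hxy
  have hbigM' : ∀ f : PowerSeries k, (∀ i < 2 * δ, PowerSeries.coeff i f = 0) →
      f ∈ M''.map ν := by
    intro f hf
    obtain ⟨g, rfl⟩ := PowerSeries.X_pow_dvd_iff.mpr hf
    refine ⟨PowerSeries.X ^ (δ + d) * g, hM''big _ ?_, ?_⟩
    · intro i hi
      rw [PowerSeries.coeff_X_pow_mul', if_neg (not_le.mpr hi)]
    · rw [hν, ← mul_assoc, ← pow_add]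
      congr 2
      omega
  refine ⟨M''.map ν, ?_, ⟨e₁.trans (Submodule.equivMapOfInjective ν hνinj M'')⟩, ?_⟩
  · intro f hf
    rw [Submodule.restrictScalars_mem, Ideal.mem_span_singleton] at hf
    apply hbigM'
    exact PowerSeries.X_pow_dvd_iff.mp hf
  · rw [Groth.Agent.Lib.ValueSet97.finrank_quot ((M''.map ν).restrictScalars k) (2 * δ) hbigM']
    have hv : (Groth.Agent.Lib.ValueSet97.vset ((M''.map ν).restrictScalars k))ᶜ =
        (↑(Finset.range (δ - d)) : Set ℕ) ∪ (fun m => m + (δ - d)) ''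
          (Groth.Agent.Lib.ValueSet97.vset (M''.restrictScalars k))ᶜ := by
      ext n
      simp only [Set.mem_compl_iff, Set.mem_union, Finset.coe_range, Set.mem_Iio, Set.mem_image]
      constructor
      · intro hn
        by_cases hlt : n < δ - d
        · left; exact hlt
        · right
          refine ⟨n - (δ - d), ?_, by omega⟩
          rintro ⟨g, hg, hgo⟩
          apply hn
          refine ⟨PowerSeries.X ^ (δ - d) * g, ⟨g, hg, rfl⟩, ?_⟩
          rw [PowerSeries.order_mul, PowerSeries.order_X_pow, hgo, ← Nat.cast_add]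
          congr 1
          omega
      · rintro (hlt | ⟨m, hm, rfl⟩)
        · rintro ⟨f, ⟨g, hg, rfl⟩, hfo⟩
          rw [hν, PowerSeries.order_mul, PowerSeries.order_X_pow] at hfo
          have : ((δ - d : ℕ) : ℕ∞) ≤ n := by rw [← hfo]; exact le_self_add
          have : δ - d ≤ n := by exact_mod_cast this
          omega
        · rintro ⟨f, ⟨g, hg, rfl⟩, hfo⟩
          apply hm
          refine ⟨g, hg, ?_⟩
          rw [hν, PowerSeries.order_mul, PowerSeries.order_X_pow] at hfo
          have hg0 : g ≠ 0 := by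
            rintro rfl
            rw [PowerSeries.order_zero, add_top] at hfo
            exact ENat.top_ne_natCast _ hfo
          rw [← PowerSeries.coe_toNat_order hg0, ← Nat.cast_add] at hfo
          have h2 : (δ - d) + g.order.toNat = m + (δ - d) := by exact_mod_cast hfo
          rw [← PowerSeries.coe_toNat_order hg0]
          congr 1
          omega
    rw [hv, Set.ncard_union_eq ?_ (Finset.finite_toSet _) (hΓ''fin.image _),
      Set.ncard_coe_finset, Finset.card_range,
      Set.ncard_image_of_injective _ (add_left_injective (δ - d))]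
    · rw [← hd]
      omega
    · rw [Set.disjoint_left]
      rintro n hn ⟨m, -, rfl⟩
      rw [Finset.coe_range, Set.mem_Iio] at hn
      simp only at hn
      omega

end Groth.Agent.S15023
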