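import Groth.Statements.S15024
import Groth.Agent.Lib.TorNat
import Mathlib.RingTheory.Flat.Localization

set_option autoImplicit false
universe u
open CategoryTheory
open TFCurv

namespace Groth.Agent.S15024

/-- Let O be a one-dimensional Noetherian local domain with algebraically closed residue field whose
integral closure O~ in its fraction field K is a finite O-module, M a finitely generated
torsion-free O-module and f : O^n → M an injective O-linear map whose cokernel T has finite length.
Then Tor_1^O(O~, M) and Tor_1^O(O~, T) are isomorphic (existence of an isomorphism only), and O~ ⊗_O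
f : O~ ⊗ O^n → O~ ⊗ M is injective, so that 0 → O~^n → O~ ⊗ M → O~ ⊗ T → 0 is exact. -/
theorem result (O : Type u) [CommRing O] [IsDomain O] [IsNoetherianRing O] [IsLocalRing O] (hdim : ringKrullDim O = 1) [IsAlgClosed (IsLocalRing.ResidueField O)] (K : Type u) [Field K] [Algebra O K] [IsFractionRing O K] (hfin : Module.Finite O ↥(integralClosure O K)) (M : Type u) [AddCommGroup M] [Module O M] [Module.Finite O M] [NoZeroSMulDivisors O M] (n : ℕ) (f : (Fin n → O) →ₗ[O] M) (hf : Function.Injective f) (hT : IsFiniteLength O (M ⧸ LinearMap.range f)) : Nonempty (((Tor (ModuleCat.{u} O) 1).obj (ModuleCat.of O ↥(integralClosure O K))).obj (ModuleCat.of O M) ≅ ((Tor (ModuleCat.{u} O) 1).obj (ModuleCat.of O ↥(integralClosure O K))).obj (ModuleCat.of O (M ⧸ LinearMap.range f))) ∧ Function.Injective (LinearMap.lTensor ↥(integralClosure O K) f) := by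
  -- injectivity of `Õ ⊗ f` by comparison with `K ⊗ f`
  let j : ↥(integralClosure O K) →ₗ[O] K := (integralClosure O K).val.toLinearMap
  have hj : Function.Injective j := Subtype.val_injective
  have hKflat : Module.Flat O K := IsLocalization.flat K (nonZeroDivisors O)
  have h1 : Function.Injective (LinearMap.lTensor K f) :=
    Module.Flat.lTensor_preserves_injective_linearMap f hf
  have h2 : Function.Injective (LinearMap.rTensor (Fin n → O) j) :=
    Module.Flat.rTensor_preserves_injective_linearMap j hj
  have hcomm : (LinearMap.rTensor M j).comp (LinearMap.lTensor ↥(integralClosure O K) f) =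
      (LinearMap.lTensor K f).comp (LinearMap.rTensor (Fin n → O) j) := by
    rw [LinearMap.rTensor_comp_lTensor, LinearMap.lTensor_comp_rTensor]
  have hinj : Function.Injective (LinearMap.lTensor ↥(integralClosure O K) f) := by
    have h3 : Function.Injective ((LinearMap.rTensor M j).comp
        (LinearMap.lTensor ↥(integralClosure O K) f)) := by
      rw [hcomm]
      exact h1.comp h2
    exact Function.Injective.of_comp h3
  refine ⟨?_, hinj⟩
  -- the short exact sequence `0 → Oⁿ → M → T → 0`
  let T : ShortComplex (ModuleCat.{u} O) :=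
    ShortComplex.mk (ModuleCat.ofHom f) (ModuleCat.ofHom (LinearMap.range f).mkQ) (by
      ext x
      simp)
  have hT : T.ShortExact := by
    have hex : T.Exact := by
      rw [ShortComplex.ShortExact.moduleCat_exact_iff_function_exact]
      exact LinearMap.exact_map_mkQ_range f
    have hm : Mono T.f := (ModuleCat.mono_iff_injective _).mpr hf
    have he : Epi T.g := (ModuleCat.epi_iff_surjective _).mpr (Submodule.mkQ_surjective _)
    exact ⟨hex⟩
  let X : ModuleCat.{u} O := ModuleCat.of O ↥(integralClosure O K)
  have hflat : Module.Flat O T.X₁ := inferInstanceAs (Module.Flat O (Fin n → O))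
  have hz : Limits.IsZero (((Tor (ModuleCat.{u} O) (0 + 1)).obj X).obj T.X₁) :=
    Lib.TorLES.isZero_tor_succ_of_flat_right T.X₁ 0 X
  have hmono : Mono (((Tor (ModuleCat.{u} O) 0).obj X).map T.f) :=
    (Lib.TorNat.mono_torZero_map_iff_injective_lTensor X T.f).mpr hinj
  have hiso := Lib.TorNat.isIso_tor_map_g_of_isZero_of_mono hT X 0 hz hmono
  exact ⟨asIso (((Tor (ModuleCat.{u} O) (0 + 1)).obj X).map T.g)⟩

end Groth.Agent.S15024
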