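import Groth.Statements.S15025
import Groth.Agent.Lib.TorNat
import Mathlib.RingTheory.Flat.Localization
import Mathlib.RingTheory.FiniteLength
import Mathlib.RingTheory.SimpleModule.Basic
import Mathlib.Algebra.Category.ModuleCat.Kernels
import Mathlib.RingTheory.KrullDimension.Field

set_option autoImplicit false
universe u
open CategoryTheory
open TFCurv

namespace Groth.Agent.S15025

open Groth.Agent.Lib.TorLES Groth.Agent.Lib.TorNat MonoidalCategory TensorProduct

section helpers

/-- A finite length module over a local domain which is not a field is killed by a nonzero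
element. -/
lemma exists_ne_zero_smul_eq_zero (O : Type u) [CommRing O] [IsDomain O] [IsLocalRing O]
    (hm : IsLocalRing.maximalIdeal O ≠ ⊥) (N : Type u) [AddCommGroup N] [Module O N]
    (hN : IsFiniteLength O N) : ∃ a : O, a ≠ 0 ∧ ∀ x : N, a • x = 0 := by
  induction hN with
  | of_subsingleton => exact ⟨1, one_ne_zero, fun x => Subsingleton.elim _ _⟩
  | @of_simple_quotient N _ _ N' hsimple _ ih =>
    obtain ⟨a', ha', hkill⟩ := ih
    obtain ⟨b, hb, hb0⟩ := Submodule.exists_mem_ne_zero_of_ne_bot hm
    obtain ⟨I, hI, ⟨e⟩⟩ := isSimpleModule_iff_quot_maximal.mp hsimple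
    have hIeq : I = IsLocalRing.maximalIdeal O := IsLocalRing.eq_maximalIdeal hI
    subst hIeq
    refine ⟨a' * b, mul_ne_zero ha' hb0, fun x => ?_⟩
    have h1 : b • (N'.mkQ x) = 0 := by
      apply e.injective
      rw [map_smul, map_zero]
      obtain ⟨r, hr⟩ := Ideal.Quotient.mk_surjective (e (N'.mkQ x))
      rw [← hr, ← Ideal.Quotient.mk_eq_mk, ← Submodule.Quotient.mk_smul,
        Submodule.Quotient.mk_eq_zero]
      exact Ideal.mul_mem_right _ _ hb
    have h2 : b • x ∈ N' := by
      rw [← map_smul, Submodule.mkQ_apply, Submodule.Quotient.mk_eq_zero] at h1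
      exact h1
    have h3 := hkill ⟨b • x, h2⟩
    rw [mul_smul]
    exact congrArg Subtype.val h3

end helpers

/-- Let O be a one-dimensional Noetherian local domain with algebraically closed residue field whose
integral closure O~ in its fraction field K is a finite O-module, M a finitely generated
torsion-free O-module and g : M → O^n an injective O-linear map whose cokernel T' has finite length.
Then the torsion submodule of O~ ⊗_O M is O-linearly isomorphic to Tor_1^O(O~, T') (existence of an
isomorphism only). -/
theorem result (O : Type u) [CommRing O] [IsDomain O] [IsNoetherianRing O] [IsLocalRing O] (hdim : ringKrullDim O = 1) [IsAlgClosed (IsLocalRing.ResidueField O)] (K : Type u) [Field K] [Algebra O K] [IsFractionRing O K] (hfin : Module.Finite O ↥(integralClosure O K)) (M : Type u) [AddCommGroup M] [Module O M] [Module.Finite O M] [NoZeroSMulDivisors O M] (n : ℕ) (g : M →ₗ[O] (Fin n → O)) (hg : Function.Injective g) (hT : IsFiniteLength O ((Fin n → O) ⧸ LinearMap.range g)) : Nonempty (↥(Submodule.torsion O (TensorProduct O ↥(integralClosure O K) M))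 ≃ₗ[O] ↑(((Tor (ModuleCat.{u} O) 1).obj (ModuleCat.of O ↥(integralClosure O K))).obj (ModuleCat.of O ((Fin n → O) ⧸ LinearMap.range g)))) := by
  classical
  -- notation
  let j : ↥(integralClosure O K) →ₗ[O] K := (integralClosure O K).val.toLinearMap
  have hj : Function.Injective j := Subtype.val_injective
  -- the maximal ideal is nonzero
  have hm : IsLocalRing.maximalIdeal O ≠ ⊥ := by
    intro h
    have hfield : IsField O := (IsLocalRing.isField_iff_maximalIdeal_eq).mpr h
    have := ringKrullDim_eq_zero_of_isField hfield
    rw [hdim] at this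
    exact one_ne_zero this
  obtain ⟨a, ha, hkill⟩ := exists_ne_zero_smul_eq_zero O hm _ hT
  -- multiplication by `a` on `Oⁿ` factors through `g`
  have hrange : ∀ v : Fin n → O, a • v ∈ LinearMap.range g := by
    intro v
    have := hkill ((LinearMap.range g).mkQ v)
    rw [← map_smul, Submodule.mkQ_apply, Submodule.Quotient.mk_eq_zero] at this
    exact this
  let h : (Fin n → O) →ₗ[O] M :=
    (LinearEquiv.ofInjective g hg).symm.toLinearMap.comp
      (LinearMap.codRestrict (LinearMap.range g) (a • LinearMap.id) hrange)
  have hgh : g.comp h = a • LinearMap.id := by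
    refine LinearMap.ext (fun v => ?_)
    simp only [h, LinearMap.comp_apply, LinearEquiv.coe_coe]
    exact congrArg Subtype.val ((LinearEquiv.ofInjective g hg).apply_symm_apply _)
  have hhg : h.comp g = a • LinearMap.id := by
    refine LinearMap.ext (fun x => ?_)
    apply hg
    have := LinearMap.congr_fun hgh (g x)
    simpa using this
  -- kernel of `Õ ⊗ g` is the torsion submodule
  have hker : LinearMap.ker (LinearMap.lTensor ↥(integralClosure O K) g) =
      Submodule.torsion O (TensorProduct O ↥(integralClosure O K) M) := by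
    ext x
    rw [LinearMap.mem_ker, Submodule.mem_torsion_iff]
    constructor
    · intro hx
      refine ⟨⟨a, mem_nonZeroDivisors_of_ne_zero ha⟩, ?_⟩
      have h1 : LinearMap.lTensor ↥(integralClosure O K) (h.comp g) x = a • x := by
        rw [hhg, LinearMap.lTensor_smul, LinearMap.lTensor_id]
        rfl
      change a • x = 0
      rw [← h1, LinearMap.lTensor_comp, LinearMap.comp_apply, hx, map_zero]
    · rintro ⟨⟨b, hb⟩, hbx⟩
      change b • x = 0 at hbx
      have h2 : Function.Injective (LinearMap.rTensor (Fin n → O) j) :=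
        Module.Flat.rTensor_preserves_injective_linearMap j hj
      apply h2
      rw [map_zero]
      set z := LinearMap.rTensor (Fin n → O) j (LinearMap.lTensor ↥(integralClosure O K) g x)
        with hz
      have h3 : b • z = 0 := by
        rw [hz, ← map_smul, ← map_smul, hbx, map_zero, map_zero]
      have h4 : (algebraMap O K b) • z = 0 := by
        rw [algebraMap_smul]
        exact h3
      have h5 : algebraMap O K b ≠ 0 := by
        intro h0
        have := (IsFractionRing.injective O K) (h0.trans (map_zero _).symm)
        exact nonZeroDivisors.ne_zero hb this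
      exact (smul_eq_zero.mp h4).resolve_left h5
  -- the short exact sequence `0 → M → Oⁿ → T' → 0`
  let T : ShortComplex (ModuleCat.{u} O) :=
    ShortComplex.mk (ModuleCat.ofHom g) (ModuleCat.ofHom (LinearMap.range g).mkQ) (by
      ext x
      simp)
  have hT' : T.ShortExact := by
    have hex : T.Exact := by
      rw [ShortComplex.ShortExact.moduleCat_exact_iff_function_exact]
      exact LinearMap.exact_map_mkQ_range g
    have hm : Mono T.f := (ModuleCat.mono_iff_injective _).mpr hg
    have he : Epi T.g := (ModuleCat.epi_iff_surjective _).mpr (Submodule.mkQ_surjective _)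
    exact ⟨hex⟩
  let X : ModuleCat.{u} O := ModuleCat.of O ↥(integralClosure O K)
  obtain ⟨δ, w₁, w₂, hex₃, hex₁⟩ := exists_δ_right hT' X 0
  have hflat : Module.Flat O T.X₂ := inferInstanceAs (Module.Flat O (Fin n → O))
  have hz : Limits.IsZero (((Tor (ModuleCat.{u} O) (0 + 1)).obj X).obj T.X₂) :=
    isZero_tor_succ_of_flat_right T.X₂ 0 X
  have hδmono : Mono δ := hex₃.mono_g (hz.eq_of_src _ _)
  have : Mono (ShortComplex.mk δ _ w₂).f := hδmono
  let e1 :=
    Limits.IsLimit.conePointUniqueUpToIso hex₁.fIsKernel
      (Limits.kernelIsKernel (((Tor (ModuleCat.{u} O) 0).obj X).map T.f))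
  let e2 : Limits.kernel (((Tor (ModuleCat.{u} O) 0).obj X).map T.f) ≅ Limits.kernel (X ◁ T.f) :=
    Limits.kernel.mapIso _ _ ((torZeroNatIso X).app T.X₁) ((torZeroNatIso X).app T.X₂)
      ((torZeroNatIso X).hom.naturality T.f)
  let e3 : Limits.kernel (X ◁ T.f) ≅ ModuleCat.of O (LinearMap.ker (X ◁ T.f).hom) :=
    ModuleCat.kernelIsoKer _
  let E := (e1 ≪≫ e2 ≪≫ e3).toLinearEquiv
  exact ⟨(LinearEquiv.ofEq _ _ hker.symm).trans E.symm⟩

end Groth.Agent.S15025
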