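import Groth.Statements.S15028
import Mathlib
import Groth.Agent.Lib.DegCurve54b
import Groth.Agent.S0002

set_option autoImplicit false
universe u
open CategoryTheory CategoryTheory.Limits AlgebraicGeometry
open TFCurv

namespace Groth.Agent.S15028

open CategoryTheory CategoryTheory.Limits AlgebraicGeometry

theorem result' (k : Type u) [Field k] (X : Scheme.{u}) [X.Over (Spec (CommRingCat.of k))]
    [IsIntegral X] [IsProper (X ↘ Spec (CommRingCat.of k))] (hdim : topologicalKrullDim X = 1)
    (E F : X.Modules) (hEc : Coh.IsCoh E) (hFc : Coh.IsCoh F) (n : ℕ)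
    (f : E ⟶ F) [Mono f]
    (hgen : Subsingleton ((cokernel f).presheaf.stalk (genericPoint X))) :
    Curv2.deg k X E n ≤ Curv2.deg k X F n ∧ (Curv2.deg k X E n = Curv2.deg k X F n ↔ IsIso f) := by
  have H : Groth.Agent.Lib.ProperFinHyp.Hyp.{u} := fun A _ _ X _ _ M hM n =>
    Groth.Agent.S0002.result A X M hM n
  have : IsLocallyNoetherian X :=
    LocallyOfFiniteType.isLocallyNoetherian (X ↘ (Spec (CommRingCat.of k)))
  have : E.IsQuasicoherent := hEc.1
  have hQ : Coh.IsCoh (cokernel f) := Groth.Agent.Lib.H90OXModExact.isCoh_cokernel f hFc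
  have hcl : IsClosed (CohB1.support (cokernel f)) :=
    Groth.Agent.Lib.ModStalk.isClosed_support_of_isFT _ hQ.2
  have hηn : genericPoint X ∉ CohB1.support (cokernel f) := fun h => h hgen
  have hsupp : ∀ x ∈ CohB1.support (cokernel f), IsClosed ({x} : Set X) := by
    intro x hx
    exact Groth.Agent.Lib.InvMap54.isClosed_singleton_of_dim_le_one hdim.le x
      (CohB1.support (cokernel f))ᶜ hcl.isOpen_compl ⟨genericPoint X, hηn⟩ (fun h => h hx)
  have hχ := Groth.Agent.Lib.DegCurve54.euler_eq_add_finrank_cokernel H k X f hEc hFc hsupp
  have hnn : (0 : ℤ) ≤ Module.finrank k (Coh.HH X (cokernel f) 0) := Int.natCast_nonneg _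
  refine ⟨?_, ?_, ?_⟩
  · unfold Curv2.deg
    lia
  · intro heq
    refine Groth.Agent.Lib.DegCurve54.isIso_of_deg_le H k X f hEc hFc hsupp ?_
    unfold Curv2.deg at heq ⊢
    lia
  · intro hiso
    have e : E ≅ F := asIso f
    have hE : Curv2.euler k X E = Curv2.euler k X F := by
      unfold Curv2.euler
      refine finsum_congr fun i => ?_
      rw [(Groth.Agent.Lib.CohLES.mapEquivₗ k e i).finrank_eq]
    unfold Curv2.deg
    rw [hE]


/-- Let X be an integral proper curve (integral, proper, of dimension one) over an algebraically closed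
field k, and let f : E → F be a monomorphism of coherent torsion-free O_X-modules which is
generically an isomorphism (the stalk of its cokernel at the generic point vanishes), with E of rank
n at the generic point. Then deg E ≤ deg F, degrees being taken as modules of rank n (Euler
characteristic minus n times that of O_X), and equality holds if and only if f is an isomorphism.
(The published statement covers in the same words bundles with parabolic structure and a weight α <
1; only the case without parabolic structure is stated here.) -/
theorem result (k : Type u) [Field k] [IsAlgClosed k] (X : Scheme.{u}) [X.Over (Spec (CommRingCat.of k))] [IsIntegral X] [IsProper (X ↘ Spec (CommRingCat.of k))] (hdim : topologicalKrullDim X = 1) (E F : X.Modules) (hEc : Coh.IsCoh E) (hFc : Coh.IsCoh F) (hEt : TorSh.IsTorsionFree E) (hFt : TorSh.IsTorsionFree F) (n : ℕ) (hn : Module.finrank (X.presheaf.stalk (genericPoint X)) (E.presheaf.stalk (genericPoint X)) = n) (f : E ⟶ F) [Mono f] (hgen : Subsingleton ((cokernel f).presheaf.stalk (genericPoint X))) : Curv2.deg k X E n ≤ Curv2.deg k X F n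 ∧ (Curv2.deg k X E n = Curv2.deg k X F n ↔ IsIso f) := by
  exact result' k X hdim E F hEc hFc n f hgen

end Groth.Agent.S15028
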