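import Groth.Statements.S15029

set_option autoImplicit false

namespace Groth.Agent.S15029

theorem result (Γ : AddSubmonoid ℕ) (c : ℕ) (hc : ∀ n : ℕ, c ≤ n → n ∈ Γ) (hc0 : c ≠ 0) (hc1 : c - 1 ∉ Γ) (S : Set ℕ) (hS0 : (0 : ℕ) ∈ S) (hS : ∀ γ : ℕ, γ ∈ Γ → ∀ s : ℕ, s ∈ S → γ + s ∈ S) : (S ≠ Set.univ → ∃ n : ℕ, n ∉ S ∧ ∀ γ : ℕ, γ ∈ Γ → γ ≠ 0 → n + γ ∈ S) ∧ ((↑Γ : Set ℕ) ≠ S → ∃ s : ℕ, s ∈ S ∧ s ∉ Γ ∧ ∀ γ : ℕ, γ ∈ Γ → γ ≠ 0 → γ ≤ s → s - γ ∉ S) := by
  classical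
  have hΓS : ∀ γ, γ ∈ Γ → γ ∈ S := fun γ hγ => by simpa using hS γ hγ 0 hS0
  constructor
  · intro hne
    have hex : ∃ n, n ∉ S := by
      by_contra h
      apply hne
      ext n
      simp only [Set.mem_univ, iff_true]
      by_contra hn
      exact h ⟨n, hn⟩
    obtain ⟨n₀, hn₀⟩ := hex
    have hbdd : ∀ n, n ∉ S → n ≤ c := fun n hn => by
      by_contra h
      exact hn (hΓS n (hc n (by omega)))
    refine ⟨Nat.findGreatest (fun n => n ∉ S) c, Nat.findGreatest_spec (P := fun n => n ∉ S)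
      (hbdd n₀ hn₀) hn₀, ?_⟩
    intro γ _ hγ0
    by_contra h
    have := Nat.le_findGreatest (P := fun n => n ∉ S) (hbdd _ h) h
    omega
  · intro hne
    have hex : ∃ s, s ∈ S ∧ s ∉ Γ := by
      by_contra h
      apply hne
      ext n
      constructor
      · exact hΓS n
      · intro hn
        by_contra hnΓ
        exact h ⟨n, hn, hnΓ⟩
    refine ⟨Nat.find hex, (Nat.find_spec hex).1, (Nat.find_spec hex).2, ?_⟩
    intro γ hγ hγ0 hle hmem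
    have hlt : Nat.find hex - γ < Nat.find hex := by omega
    have := Nat.find_min hex hlt
    rw [not_and_not_right] at this
    have h2 := Γ.add_mem (this hmem) hγ
    rw [Nat.sub_add_cancel hle] at h2
    exact (Nat.find_spec hex).2 h2

end Groth.Agent.S15029
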