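import Groth.Statements.S15034
import Mathlib

set_option autoImplicit false
universe u
open TFCurv

namespace Groth.Agent.S15034
set_option linter.style.haveILetI false
set_option linter.unusedSectionVars false

open PowerSeries

section Helpers

variable {k : Type u} [Field k] (A : Subalgebra k (PowerSeries k))
  (hcl : ∀ f : PowerSeries k, (∀ n : ℕ, ∃ g ∈ A, (n : ℕ∞) ≤ PowerSeries.order (f - g)) → f ∈ A)

include hcl in
/-- `1 + z` is a unit of `A` when `z ∈ A` has positive order. -/
lemma isUnit_one_add (z : PowerSeries k) (hz : z ∈ A) (hz1 : 1 ≤ z.order) :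
    IsUnit (⟨1 + z, A.add_mem A.one_mem hz⟩ : ↥A) := by
  have hc : constantCoeff (1 + z) ≠ 0 := by
    rw [map_add, map_one, (one_le_order_iff_constCoeff_eq_zero).mp hz1, add_zero]
    exact one_ne_zero
  set v : PowerSeries k := (1 + z)⁻¹ with hv
  have hmul : (1 + z) * v = 1 := PowerSeries.mul_inv_cancel _ hc
  have hvA : v ∈ A := by
    apply hcl
    intro n
    refine ⟨∑ j ∈ Finset.range n, (-z) ^ j, A.sum_mem (fun j _ => A.pow_mem (A.neg_mem hz) j), ?_⟩
    have h1 : (1 - (-z)) * ∑ j ∈ Finset.range n, (-z) ^ j = 1 - (-z) ^ n := mul_neg_geom_sum _ _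
    have h2 : v - ∑ j ∈ Finset.range n, (-z) ^ j = v * (-z) ^ n := by
      have : v - ∑ j ∈ Finset.range n, (-z) ^ j =
          v * (1 - (1 - (-z)) * ∑ j ∈ Finset.range n, (-z) ^ j) := by
        have h3 : v * (1 - -z) = 1 := by rw [sub_neg_eq_add, mul_comm]; exact hmul
        rw [mul_sub, mul_one, ← mul_assoc, h3, one_mul]
      rw [this, h1]; ring
    rw [h2]
    calc (n : ℕ∞) ≤ n • (-z).order := by
          rw [order_neg]
          calc (n : ℕ∞) = n • (1 : ℕ∞) := by simp
            _ ≤ n • z.order := nsmul_le_nsmul_right hz1 n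
      _ ≤ ((-z) ^ n).order := le_order_pow _ _
      _ ≤ v.order + ((-z) ^ n).order := le_add_self
      _ ≤ (v * (-z) ^ n).order := le_order_mul _ _
  refine IsUnit.of_mul_eq_one (⟨v, hvA⟩ : ↥A) ?_
  exact Subtype.ext hmul

include hcl in
lemma mem_jacobson (a : PowerSeries k) (ha : a ∈ A) (ha1 : 1 ≤ a.order) :
    (⟨a, ha⟩ : ↥A) ∈ Ideal.jacobson (⊥ : Ideal ↥A) := by
  rw [Ideal.mem_jacobson_bot]
  intro y
  have hz : a * y.1 ∈ A := A.mul_mem ha y.2
  have hz1 : 1 ≤ (a * y.1).order :=
    le_trans (le_trans ha1 le_self_add) (le_order_mul _ _)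
  have := isUnit_one_add A hcl (a * y.1) hz hz1
  convert this using 1
  apply Subtype.ext
  show a * y.1 + 1 = 1 + a * y.1
  ring

/-- power series are not finite over the constants, so `A` has an element of positive order -/
lemma exists_pos_order (hA : Module.Finite ↥A (PowerSeries k)) :
    ∃ a ∈ A, a ≠ 0 ∧ 1 ≤ a.order := by
  by_contra hcon
  push Not at hcon
  -- every element of `A` is a constant
  have hconst : ∀ f ∈ A, f = C (constantCoeff f) := by
    intro f hf
    have h1 : f - C (constantCoeff f) ∈ A :=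
      A.sub_mem hf (by rw [← PowerSeries.algebraMap_eq]; exact A.algebraMap_mem _)
    by_contra hne
    have h2 : f - C (constantCoeff f) ≠ 0 := fun h => hne (sub_eq_zero.mp h)
    have h3 := hcon _ h1 h2
    apply not_le.mpr h3
    rw [one_le_order_iff_constCoeff_eq_zero, map_sub, constantCoeff_C, sub_self]
  haveI : Module.Finite k ↥A := by
    refine Module.Finite.of_surjective (Algebra.linearMap k ↥A) ?_
    intro f
    refine ⟨constantCoeff f.1, ?_⟩
    apply Subtype.ext
    show algebraMap k (PowerSeries k) (constantCoeff f.1) = f.1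
    rw [PowerSeries.algebraMap_eq]
    exact (hconst f.1 f.2).symm
  haveI : Module.Finite k (PowerSeries k) := Module.Finite.trans ↥A (PowerSeries k)
  haveI : Module.Finite k (Polynomial k) :=
    Module.Finite.of_injective (Polynomial.coeToPowerSeries.algHom k).toLinearMap
      (fun p q h => Polynomial.coe_injective k (by
        simpa [Polynomial.coeToPowerSeries.algHom_apply] using h))
  have := Module.Finite.finite_basis (Polynomial.basisMonomials k)
  exact not_finite ℕ

lemma X_pow_dvd_iff_le_order (c : ℕ) (f : PowerSeries k) :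
    (X : PowerSeries k) ^ c ∣ f ↔ (c : ℕ∞) ≤ f.order := by
  rw [PowerSeries.X_pow_dvd_iff]
  constructor
  · intro h
    exact nat_le_order f c h
  · intro h m hm
    exact coeff_of_lt_order m (lt_of_lt_of_le (by exact_mod_cast hm) h)

/-- the `A`-submodule of power series of order `≥ c` -/
noncomputable def Tc (c : ℕ) : Submodule ↥A (PowerSeries k) :=
  Submodule.map (LinearMap.mulLeft ↥A ((X : PowerSeries k) ^ c)) ⊤

lemma mem_Tc (c : ℕ) (f : PowerSeries k) : f ∈ Tc A c ↔ (c : ℕ∞) ≤ f.order := by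
  rw [← X_pow_dvd_iff_le_order]
  unfold Tc
  simp only [Submodule.mem_map, Submodule.mem_top, true_and, LinearMap.mulLeft_apply]
  constructor
  · rintro ⟨g, rfl⟩; exact Dvd.intro _ rfl
  · rintro ⟨g, rfl⟩; exact ⟨g, rfl⟩

lemma Tc_fg (hA : Module.Finite ↥A (PowerSeries k)) (c : ℕ) : (Tc A c).FG :=
  Submodule.FG.map _ hA.fg_top

/-- one step of order reduction -/
lemma reduce_step (N : Submodule ↥A (PowerSeries k)) (f : PowerSeries k) (d : ℕ)
    (hd : ∃ h ∈ N, h.order = d) (hf : (d : ℕ∞) ≤ f.order) :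
    ∃ g ∈ N, ((d + 1 : ℕ) : ℕ∞) ≤ (f - g).order := by
  obtain ⟨h, hN, hh⟩ := hd
  have hh0 : h ≠ 0 := by
    intro h0
    rw [h0, order_zero] at hh
    exact ENat.top_ne_natCast d hh
  have hcd : coeff d h ≠ 0 := by
    have := coeff_order hh0
    rwa [hh, ENat.toNat_natCast] at this
  set lam : k := coeff d f / coeff d h with hlam
  have hg : (algebraMap k ↥A lam) • h ∈ N := N.smul_mem _ hN
  refine ⟨(algebraMap k ↥A lam) • h, hg, ?_⟩
  have e1 : (algebraMap k ↥A lam) • h = C lam * h := rfl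
  rw [e1]
  apply nat_le_order
  intro i hi
  rw [map_sub, coeff_C_mul]
  rcases Nat.lt_succ_iff_lt_or_eq.mp hi with hlt | rfl
  · rw [coeff_of_lt_order i (lt_of_lt_of_le (by exact_mod_cast hlt) hf),
      coeff_of_lt_order i (by rw [hh]; exact_mod_cast hlt), mul_zero, sub_zero]
  · rw [hlam, div_mul_cancel₀ _ hcd, sub_self]

include hcl in
lemma Tc_le (hA : Module.Finite ↥A (PowerSeries k)) (N : Submodule ↥A (PowerSeries k)) (c : ℕ)
    (hN : ∀ n : ℕ, c ≤ n → ∃ f ∈ N, f.order = n) : Tc A c ≤ N := by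
  obtain ⟨a, haA, ha0, ha1⟩ := exists_pos_order A hA
  set e : ℕ := a.order.toNat with he
  have hea : (e : ℕ∞) = a.order := coe_toNat_order ha0
  refine Submodule.le_of_le_smul_of_le_jacobson_bot (I := Ideal.span {(⟨a, haA⟩ : ↥A)})
    (Tc_fg A hA c) ?_ ?_
  · rw [Ideal.span_le, Set.singleton_subset_iff]
    exact mem_jacobson A hcl a haA ha1
  · intro f hf
    rw [mem_Tc] at hf
    have key : ∀ j : ℕ, ∃ g ∈ N, ((c + j : ℕ) : ℕ∞) ≤ (f - g).order := by
      intro j
      induction j with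
      | zero => exact ⟨0, N.zero_mem, by simpa using hf⟩
      | succ j ih =>
        obtain ⟨g, hg, hgo⟩ := ih
        obtain ⟨g', hg', hgo'⟩ := reduce_step A N (f - g) (c + j) (hN _ (Nat.le_add_right _ _)) hgo
        refine ⟨g + g', N.add_mem hg hg', ?_⟩
        have : f - (g + g') = f - g - g' := by ring
        rw [this]
        exact hgo'
    obtain ⟨g, hgN, hg⟩ := key e
    -- `f - g = a * q` with `q ∈ Tc`
    have hu : IsUnit (divXPowOrder a) := by
      rw [isUnit_iff_constantCoeff, constantCoeff_divXPowOrder]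
      exact (coeff_order ha0).isUnit
    obtain ⟨u, hu⟩ := hu
    have ha' : a = X ^ e * (u : PowerSeries k) := by
      rw [hu]; exact X_pow_order_mul_divXPowOrder.symm
    obtain ⟨r, hr⟩ := (X_pow_dvd_iff_le_order (c + e) (f - g)).mpr hg
    have hq : X ^ c * ((↑u⁻¹ : PowerSeries k) * r) ∈ Tc A c := by
      rw [mem_Tc, ← X_pow_dvd_iff_le_order]
      exact Dvd.intro _ rfl
    have hfg : f - g = (⟨a, haA⟩ : ↥A) • (X ^ c * ((↑u⁻¹ : PowerSeries k) * r)) := by
      show f - g = a * (X ^ c * ((↑u⁻¹ : PowerSeries k) * r))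
      rw [hr, ha', pow_add]
      have : (u : PowerSeries k) * (↑u⁻¹ : PowerSeries k) = 1 := Units.mul_inv u
      calc X ^ c * X ^ e * r = X ^ c * X ^ e * (((u : PowerSeries k) * ↑u⁻¹) * r) := by
            rw [this, one_mul]
        _ = _ := by ring
    have : f = g + (f - g) := by ring
    rw [this]
    refine Submodule.add_mem_sup hgN ?_
    rw [hfg]
    exact Submodule.smul_mem_smul (Ideal.subset_span rfl) hq

end Helpers


/-- Let k be an algebraically closed field and A ≠ k[[t]] a k-subalgebra of k[[t]] that is closed in the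
t-adic topology and over which k[[t]] is a finite module (as for the complete local ring of a
unibranch curve singularity inside its normalisation), and let Γ ⊆ ℕ be the set of t-orders of the
nonzero elements of A (its value semigroup). Let M, N be finitely generated A-submodules of k[[t]]
containing 1 (rank-one torsion-free modules in normal form), with value sets Γ(M), Γ(N) (orders of
their nonzero elements); the A-linear maps M → N are the multiplications by power series u with uM ⊆
N. Then the order of every such nonzero u satisfies n + Γ(M) ⊆ Γ(N), and although the set of these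
orders can be smaller than S = {n | n + Γ(M) ⊆ Γ(N)}, the two sets have the same conductor: for
every c', all integers n ≥ c' are orders of multipliers exactly when all n ≥ c' lie in S. -/
theorem result (k : Type u) [Field k] [IsAlgClosed k] (A : Subalgebra k (PowerSeries k)) (hA : Module.Finite ↥A (PowerSeries k)) (hcl : ∀ f : PowerSeries k, (∀ n : ℕ, ∃ g ∈ A, (n : ℕ∞) ≤ PowerSeries.order (f - g)) → f ∈ A) (hsing : A ≠ ⊤) (Γ : Set ℕ) (hΓ : ∀ n : ℕ, n ∈ Γ ↔ ∃ f ∈ A, PowerSeries.order f = n) (M N : Submodule ↥A (PowerSeries k)) (hMfg : M.FG) (hNfg : N.FG) (hM1 : (1 : PowerSeries k) ∈ M) (hN1 : (1 : PowerSeries k) ∈ N) (ΓM ΓN : Set ℕ) (hΓM : ∀ n : ℕ, n ∈ ΓM ↔ ∃ f ∈ M, PowerSeries.order f = n) (hΓN : ∀ n : ℕ, n ∈ ΓN ↔ ∃ f ∈ N, PowerSeries.order f = n) : (∀ n : ℕ, (∃ u : PowerSeries k, PowerSeries.order u = n ∧ ∀ m ∈ M, u * m ∈ N) → ∀ a ∈ ΓM, n + a ∈ ΓN) ∧ ∀ c' : ℕ, (∀ n : ℕ, c' ≤ n → ∃ u : PowerSeries k, PowerSeries.order u = n ∧ ∀ m ∈ M, u * m ∈ N) ↔ (∀ n : ℕ, c' ≤ n → ∀ a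 ∈ ΓM, n + a ∈ ΓN) := by
  have part1 : ∀ n : ℕ, (∃ u : PowerSeries k, PowerSeries.order u = n ∧ ∀ m ∈ M, u * m ∈ N) →
      ∀ a ∈ ΓM, n + a ∈ ΓN := by
    rintro n ⟨u, hu, huM⟩ a ha
    obtain ⟨m, hm, hma⟩ := (hΓM a).mp ha
    rw [hΓN]
    refine ⟨u * m, huM m hm, ?_⟩
    rw [PowerSeries.order_mul, hu, hma, Nat.cast_add]
  refine ⟨part1, fun c' => ⟨fun h n hn => part1 n (h n hn), fun h n hn => ?_⟩⟩
  have h0 : (0 : ℕ) ∈ ΓM := (hΓM 0).mpr ⟨1, hM1, by simp⟩
  have hN' : ∀ n : ℕ, c' ≤ n → ∃ f ∈ N, f.order = n := by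
    intro n hn
    have := h n hn 0 h0
    rw [add_zero] at this
    exact (hΓN n).mp this
  have hT := Tc_le A hcl hA N c' hN'
  refine ⟨PowerSeries.X ^ n, PowerSeries.order_X_pow n, fun m _ => hT ?_⟩
  rw [mem_Tc]
  have h1 : (c' : ℕ∞) ≤ (n : ℕ∞) := by exact_mod_cast hn
  have h2 : ((n : ℕ) : ℕ∞) = (PowerSeries.X ^ n : PowerSeries k).order :=
    (PowerSeries.order_X_pow n).symm
  exact le_trans h1 (le_trans (le_of_eq h2) (le_trans le_self_add (PowerSeries.le_order_mul _ _)))

end Groth.Agent.S15034
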