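import Mathlib
import Groth.Statements.S15036

set_option autoImplicit false
open TFCurv

namespace Groth.Agent.S15036

section Helpers

open Classical in
theorem count_insert (S : Set ℕ) (s : ℕ) (hs : s ∉ S) (n : ℕ) :
    Nat.count (fun m => m ∈ insert s S) n =
      Nat.count (fun m => m ∈ S) n + (if s < n then 1 else 0) := by
  induction n with
  | zero => simp
  | succ n ih =>
    rw [Nat.count_succ, Nat.count_succ, ih]
    by_cases h1 : n = s
    · subst h1
      have : n ∈ insert n S := Set.mem_insert _ _
      rw [if_pos this, if_neg hs, if_neg (lt_irrefl _), if_pos (Nat.lt_succ_self _)]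
    · by_cases h2 : n ∈ S
      · have : n ∈ insert s S := Set.mem_insert_of_mem _ h2
        rw [if_pos this, if_pos h2]
        by_cases h3 : s < n
        · rw [if_pos h3, if_pos (by omega)]
        · rw [if_neg h3, if_neg (by omega)]
      · have : n ∉ insert s S := by
          intro h; rcases h with h | h
          · exact h1 h
          · exact h2 h
        rw [if_neg this, if_neg h2]
        by_cases h3 : s < n
        · rw [if_pos h3, if_pos (by omega)]
        · rw [if_neg h3, if_neg (by omega)]

theorem infinite_of_conductor (S : Set ℕ) (cS : ℕ) (hcS : ∀ n : ℕ, cS ≤ n → n ∈ S) :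
    (Set.ofPred fun m => m ∈ S).Infinite := by
  apply Set.infinite_of_forall_exists_gt
  intro a
  exact ⟨max a cS + 1, hcS _ (by omega), by omega⟩

end Helpers

/-- Let Γ be a numerical semigroup (a submonoid of (ℕ, +) with finite complement), Γ ≠ ℕ, with conductor
c (every n ≥ c lies in Γ, c − 1 does not); let S ⊆ ℕ be a Γ-module in normal form (0 ∈ S, γ + s ∈ S
for γ ∈ Γ, s ∈ S) with conductor c(S) (all n ≥ c(S) in S, c(S) − 1 ∉ S), and let s be a gap of S
such that S ∪ {s} is again a Γ-module. Enumerate S increasingly as s_0 < s_1 < ⋯ and put τ_i(S) =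
s_i + ℓ(S), where ℓ counts the gaps of Γ filled; since ℓ(S ∪ {s}) = ℓ(S) + 1, the termwise
comparison τ(S) ≤ τ(S ∪ {s}) says that the i-th element of S is at most one more than the i-th
element of S ∪ {s} for every i. This holds if and only if s = c(S) − 1, the largest gap of S. -/
theorem result (Γ : AddSubmonoid ℕ) (c : ℕ) (hc : ∀ n : ℕ, c ≤ n → n ∈ Γ) (hc0 : c ≠ 0) (hc1 : c - 1 ∉ Γ) (S : Set ℕ) (hS0 : (0 : ℕ) ∈ S) (hS : ∀ γ : ℕ, γ ∈ Γ → ∀ s : ℕ, s ∈ S → γ + s ∈ S) (cS : ℕ) (hcS : ∀ n : ℕ, cS ≤ n → n ∈ S) (hcS0 : cS ≠ 0) (hcS1 : cS - 1 ∉ S) (s : ℕ) (hs : s ∉ S) (hs' : ∀ γ : ℕ, γ ∈ Γ → γ ≠ 0 → s + γ ∈ S) : (∀ i : ℕ, Nat.nth (fun m => m ∈ S) i ≤ Nat.nth (fun m => m ∈ insert s S) i + 1) ↔ s + 1 = cS := by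
  classical
  have hinf : (Set.ofPred fun m => m ∈ S).Infinite := infinite_of_conductor S cS hcS
  have hinf' : (Set.ofPred fun m => m ∈ insert s S).Infinite :=
    infinite_of_conductor (insert s S) cS (fun n hn => Set.mem_insert_of_mem _ (hcS n hn))
  -- key: for m ∈ S' with m ≥ s, count S (m+1) = count S' m
  have hkey : ∀ m, m ∈ insert s S → s ≤ m →
      Nat.count (fun m => m ∈ S) (m + 1) = Nat.count (fun m => m ∈ insert s S) m := by
    intro m hm hsm
    have h1 := count_insert S s hs (m + 1)
    rw [Nat.count_succ, if_pos hm, if_pos (by omega)] at h1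
    omega
  constructor
  · intro h
    have hstep : ∀ m, m ∈ insert s S → s ≤ m → m + 1 ∈ S := by
      intro m hm hsm
      have h1 := hkey m hm hsm
      have h2 : Nat.nth (fun m => m ∈ insert s S) (Nat.count (fun m => m ∈ insert s S) m) = m :=
        Nat.nth_count hm
      have h3 := h (Nat.count (fun m => m ∈ insert s S) m)
      rw [h2] at h3
      have h4 : m + 1 ≤ Nat.nth (fun m => m ∈ S) (Nat.count (fun m => m ∈ insert s S) m) := by
        rw [← Nat.count_le_iff_le_nth hinf, h1]
      have h5 : Nat.nth (fun m => m ∈ S) (Nat.count (fun m => m ∈ insert s S) m) = m + 1 :=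
        le_antisymm h3 h4
      rw [← h5]
      exact Nat.nth_mem_of_infinite hinf _
    have hall : ∀ k, s + k ∈ insert s S := by
      intro k
      induction k with
      | zero => exact Set.mem_insert _ _
      | succ k ih => exact Set.mem_insert_of_mem _ (hstep (s + k) ih (by omega))
    have h1 : cS - 1 < s + 1 := by
      by_contra hlt
      rw [not_lt] at hlt
      have h2 := hstep (s + (cS - 1 - (s + 1))) (hall _) (by omega)
      have : s + (cS - 1 - (s + 1)) + 1 = cS - 1 := by omega
      rw [this] at h2
      exact hcS1 h2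
    have h2 : s < cS := by
      by_contra hlt
      rw [not_lt] at hlt
      exact hs (hcS s hlt)
    omega
  · intro hcs i
    set b := Nat.nth (fun m => m ∈ insert s S) i with hb
    have hbm : b ∈ insert s S := Nat.nth_mem_of_infinite hinf' i
    have hcnt : Nat.count (fun m => m ∈ insert s S) b = i := Nat.count_nth_of_infinite hinf' i
    by_cases hbs : b < s
    · have hbS : b ∈ S := by
        rcases hbm with h | h
        · omega
        · exact h
      have h1 := count_insert S s hs b
      rw [if_neg (by omega), add_zero, hcnt] at h1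
      have : Nat.nth (fun m => m ∈ S) i = b := by
        rw [h1]; exact Nat.nth_count hbS
      omega
    · rw [not_lt] at hbs
      have h1 := hkey b hbm hbs
      rw [hcnt] at h1
      have hb1 : b + 1 ∈ S := hcS _ (by omega)
      have : Nat.nth (fun m => m ∈ S) i = b + 1 := by
        rw [← h1]; exact Nat.nth_count hb1
      omega

end Groth.Agent.S15036
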