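import Mathlib
import Groth.Statements.S15037

set_option autoImplicit false
open TFCurv

namespace Groth.Agent.S15037

section Helpers

open Classical in
theorem count_add_gaps (S : Set ℕ) (n : ℕ) :
    Nat.count (fun m => m ∈ S) n + Nat.count (fun m => m ∉ S) n = n := by
  induction n with
  | zero => simp
  | succ n ih =>
    rw [Nat.count_succ, Nat.count_succ]
    by_cases h : n ∈ S
    · rw [if_pos h, if_neg (not_not.2 h)]; omega
    · rw [if_neg h, if_pos h]; omega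

open Classical in
theorem gaps_eq (S : Set ℕ) (cS : ℕ) (hcS : ∀ n : ℕ, cS ≤ n → n ∈ S) (n : ℕ) (hn : cS ≤ n) :
    Nat.count (fun m => m ∉ S) n = Sᶜ.ncard := by
  rw [Nat.count_eq_card_filter_range, ← Set.ncard_coe_finset]
  congr 1
  ext x
  simp only [Finset.coe_filter, Finset.mem_range, Set.mem_ofPred_eq, Set.mem_compl_iff]
  constructor
  · rintro ⟨_, h⟩; exact h
  · intro h
    refine ⟨?_, h⟩
    by_contra hlt
    rw [not_lt] at hlt
    exact h (hcS x (le_trans hn hlt))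

open Classical in
theorem r_eq (S : Set ℕ) (cS : ℕ) :
    Nat.count (fun m => m ∈ S) cS = (S ∩ Set.Iio cS).ncard := by
  rw [Nat.count_eq_card_filter_range, ← Set.ncard_coe_finset]
  congr 1
  ext x
  simp only [Finset.coe_filter, Finset.mem_range, Set.mem_ofPred_eq, Set.mem_inter_iff, Set.mem_Iio]
  tauto

theorem infinite_of_conductor (S : Set ℕ) (cS : ℕ) (hcS : ∀ n : ℕ, cS ≤ n → n ∈ S) :
    (Set.ofPred fun m => m ∈ S).Infinite := by
  apply Set.infinite_of_forall_exists_gt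
  intro a
  exact ⟨max a cS + 1, hcS _ (by omega), by omega⟩

open Classical in
theorem facts (S : Set ℕ) (cS : ℕ) (hcS : ∀ n : ℕ, cS ≤ n → n ∈ S) (hcS1 : cS = 0 ∨ cS - 1 ∉ S) :
    (∀ i, Nat.nth (fun m => m ∈ S) i ≤ i + Sᶜ.ncard) ∧
    (∀ i, (S ∩ Set.Iio cS).ncard ≤ i → Nat.nth (fun m => m ∈ S) i = i + Sᶜ.ncard) ∧
    (∀ i, i < (S ∩ Set.Iio cS).ncard → Nat.nth (fun m => m ∈ S) i < i + Sᶜ.ncard) := by
  have hinf := infinite_of_conductor S cS hcS
  have hm : ∀ i, Nat.nth (fun m => m ∈ S) i ∈ S := fun i => Nat.nth_mem_of_infinite hinf i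
  have hc : ∀ i, Nat.count (fun m => m ∈ S) (Nat.nth (fun m => m ∈ S) i) = i :=
    fun i => Nat.count_nth_of_infinite hinf i
  have hsum : ∀ i, Nat.nth (fun m => m ∈ S) i =
      i + Nat.count (fun m => m ∉ S) (Nat.nth (fun m => m ∈ S) i) := by
    intro i
    have := count_add_gaps S (Nat.nth (fun m => m ∈ S) i)
    rw [hc] at this
    omega
  have hG_le : ∀ n, Nat.count (fun m => m ∉ S) n ≤ Sᶜ.ncard := by
    intro n
    rw [← gaps_eq S cS hcS (max n cS) (le_max_right _ _)]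
    exact Nat.count_monotone _ (le_max_left _ _)
  have hG_lt : ∀ n, n < cS → Nat.count (fun m => m ∉ S) n < Sᶜ.ncard := by
    intro n hn
    have h1 : cS - 1 ∉ S := by
      rcases hcS1 with h | h
      · omega
      · exact h
    have h2 : Nat.count (fun m => m ∉ S) (cS - 1 + 1) = Nat.count (fun m => m ∉ S) (cS - 1) + 1 := by
      rw [Nat.count_succ, if_pos h1]
    have h3 : cS - 1 + 1 = cS := by omega
    rw [h3, gaps_eq S cS hcS cS le_rfl] at h2
    have h4 : Nat.count (fun m => m ∉ S) n ≤ Nat.count (fun m => m ∉ S) (cS - 1) :=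
      Nat.count_monotone _ (by omega)
    omega
  have hr := r_eq S cS
  refine ⟨fun i => ?_, fun i hi => ?_, fun i hi => ?_⟩
  · have := hsum i
    have := hG_le (Nat.nth (fun m => m ∈ S) i)
    omega
  · have hge : cS ≤ Nat.nth (fun m => m ∈ S) i := by
      by_contra hlt
      rw [not_le] at hlt
      have h1 : Nat.count (fun m => m ∈ S) (Nat.nth (fun m => m ∈ S) i + 1) = i + 1 := by
        rw [Nat.count_succ, if_pos (hm i), hc]
      have h2 : Nat.count (fun m => m ∈ S) (Nat.nth (fun m => m ∈ S) i + 1) ≤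
          Nat.count (fun m => m ∈ S) cS := Nat.count_monotone _ (by omega)
      omega
    have := hsum i
    have := gaps_eq S cS hcS _ hge
    omega
  · have hlt : Nat.nth (fun m => m ∈ S) i < cS := by
      by_contra hge
      rw [not_lt] at hge
      have h2 : Nat.count (fun m => m ∈ S) cS ≤
          Nat.count (fun m => m ∈ S) (Nat.nth (fun m => m ∈ S) i) := Nat.count_monotone _ hge
      rw [hc] at h2
      omega
    have := hsum i
    have := hG_lt _ hlt
    omega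

end Helpers

/-- Let Γ be a numerical semigroup (a submonoid of (ℕ, +) with finite complement), Γ ≠ ℕ, with conductor
c (every n ≥ c lies in Γ, c − 1 does not); let S and S' ⊆ ℕ be Γ-modules in normal form with
conductors c(S), c(S'), let δ(S), δ(S') be their numbers of gaps and r(S), r(S') their numbers of
elements below the conductor, and enumerate them increasingly as s_i, s'_i (i ≥ 0). With τ_i(S) =
s_i + ℓ(S) and ℓ(S) = δ(Γ) − δ(S), the termwise order τ(S) ≤ τ(S') reads s_i + δ(S') ≤ s'_i + δ(S)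
for all i. It holds if and only if r(S') ≤ r(S) and s_i + δ(S') ≤ s'_i + δ(S) for all i < r(S')
(beyond r(S) the entries τ_i(S) = i + δ(Γ) are the largest possible). -/
theorem result (Γ : AddSubmonoid ℕ) (c : ℕ) (hc : ∀ n : ℕ, c ≤ n → n ∈ Γ) (hc0 : c ≠ 0) (hc1 : c - 1 ∉ Γ) (S : Set ℕ) (hS0 : (0 : ℕ) ∈ S) (hS : ∀ γ : ℕ, γ ∈ Γ → ∀ s : ℕ, s ∈ S → γ + s ∈ S) (cS : ℕ) (hcS : ∀ n : ℕ, cS ≤ n → n ∈ S) (hcS1 : cS = 0 ∨ cS - 1 ∉ S) (S' : Set ℕ) (hS'0 : (0 : ℕ) ∈ S') (hS' : ∀ γ : ℕ, γ ∈ Γ → ∀ s : ℕ, s ∈ S' → γ + s ∈ S') (cS' : ℕ) (hcS' : ∀ n : ℕ, cS' ≤ n → n ∈ S') (hcS'1 : cS' = 0 ∨ cS' - 1 ∉ S') : (∀ i : ℕ, Nat.nth (fun m => m ∈ S) i + S'ᶜ.ncard ≤ Nat.nth (fun m => m ∈ S') i + Sᶜ.ncard) ↔ ((S' ∩ Set.Iio cS').ncard ≤ (S ∩ Set.Iio cS).ncard ∧ ∀ i : ℕ, i < (S' ∩ Set.Iio cS').ncard → Nat.nth (fun m => m ∈ S) i + S'ᶜ.ncard ≤ Nat.nth (fun m => m ∈ S') i + Sᶜ.ncard) := by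
  obtain ⟨a, b, _⟩ := facts S cS hcS hcS1
  obtain ⟨_, b', c'⟩ := facts S' cS' hcS' hcS'1
  constructor
  · intro h
    refine ⟨?_, fun i _ => h i⟩
    by_contra hlt
    rw [not_le] at hlt
    have h1 := h (S ∩ Set.Iio cS).ncard
    have h2 := b _ le_rfl
    have h3 := c' _ hlt
    omega
  · rintro ⟨hr, h⟩ i
    by_cases hi : i < (S' ∩ Set.Iio cS').ncard
    · exact h i hi
    · rw [not_lt] at hi
      have h1 := a i
      have h2 := b' i hi
      omega

end Groth.Agent.S15037
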