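import Mathlib
import Groth.Statements.S15038

set_option autoImplicit false
open TFCurv

namespace Groth.Agent.S15038

section Helpers

theorem exists_mul_of_mod_eq {e a b : ℕ} (h : a % e = b % e) (hab : a ≤ b) :
    ∃ k, b = a + k * e := by
  have h1 : (b - a) % e = 0 := Nat.sub_mod_eq_zero_of_mod_eq h.symm
  obtain ⟨k, hk⟩ := Nat.dvd_of_mod_eq_zero h1
  exact ⟨k, by rw [mul_comm k e, ← hk]; omega⟩

end Helpers

/-- Let Γ be a numerical semigroup (a submonoid of (ℕ, +) with finite complement), Γ ≠ ℕ, with conductor
c (every n ≥ c lies in Γ, c − 1 does not). If Γ is symmetric (for x < c, x is a gap exactly when c −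
1 − x ∈ Γ) and its multiplicity e, the least nonzero element of Γ, is greater than 2, then Γ is
generated as an additive monoid by at most e − 1 elements. -/
theorem result (Γ : AddSubmonoid ℕ) (c : ℕ) (hc : ∀ n : ℕ, c ≤ n → n ∈ Γ) (hc0 : c ≠ 0) (hc1 : c - 1 ∉ Γ) (hsymm : ∀ x : ℕ, x < c → (x ∉ Γ ↔ c - 1 - x ∈ Γ)) (e : ℕ) (he : e ∈ Γ) (he0 : e ≠ 0) (hemin : ∀ γ : ℕ, γ ∈ Γ → γ ≠ 0 → e ≤ γ) (he2 : 2 < e) : ∃ G : Finset ℕ, G.card ≤ e - 1 ∧ AddSubmonoid.closure (↑G : Set ℕ) = Γ := by
  classical
  have hepos : 0 < e := Nat.pos_of_ne_zero he0
  have hex : ∀ j : ℕ, ∃ n, n ∈ Γ ∧ n % e = j % e := fun j =>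
    ⟨j + c * e, hc _ (by nlinarith), Nat.add_mul_mod_self_right _ _ _⟩
  set w : ℕ → ℕ := fun j => Nat.find (hex j) with hw
  have hwΓ : ∀ j, w j ∈ Γ := fun j => (Nat.find_spec (hex j)).1
  have hwmod : ∀ j, w j % e = j % e := fun j => (Nat.find_spec (hex j)).2
  have hwmin : ∀ j n, n ∈ Γ → n % e = j % e → w j ≤ n :=
    fun j n h1 h2 => Nat.find_min' (hex j) ⟨h1, h2⟩
  have hmul : ∀ k : ℕ, k * e ∈ Γ := fun k => by
    rw [← smul_eq_mul]; exact AddSubmonoid.nsmul_mem _ he k
  have hsubmod : ∀ n, e ≤ n → (n - e) % e = n % e := by
    intro n hn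
    have h := Nat.add_mod_right (n - e) e
    rw [Nat.sub_add_cancel hn] at h
    exact h.symm
  have hwap : ∀ j, e ≤ w j → w j - e ∉ Γ := by
    intro j hj hmem
    have := hwmin j (w j - e) hmem (by rw [hsubmod _ hj, hwmod])
    omega
  have hi0lt : (c - 1) % e < e := Nat.mod_lt _ hepos
  have hi0 : (c - 1) % e ≠ 0 := by
    intro h
    obtain ⟨k, hk⟩ := Nat.dvd_of_mod_eq_zero h
    apply hc1
    rw [hk, mul_comm]
    exact hmul k
  refine ⟨insert e (Finset.image w (((Finset.range e).erase 0).erase ((c - 1) % e))), ?_, ?_⟩
  · refine le_trans (Finset.card_insert_le _ _) ?_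
    have h1 : (((Finset.range e).erase 0).erase ((c - 1) % e)).card = e - 1 - 1 := by
      rw [Finset.card_erase_of_mem, Finset.card_erase_of_mem, Finset.card_range]
      · exact Finset.mem_range.2 hepos
      · exact Finset.mem_erase.2 ⟨hi0, Finset.mem_range.2 hi0lt⟩
    have h2 := Finset.card_image_le (s := ((Finset.range e).erase 0).erase ((c - 1) % e)) (f := w)
    omega
  · apply le_antisymm
    · rw [AddSubmonoid.closure_le]
      intro x hx
      rw [Finset.mem_coe, Finset.mem_insert] at hx
      rcases hx with rfl | hx
      · exact he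
      · obtain ⟨j, _, rfl⟩ := Finset.mem_image.1 hx
        exact hwΓ j
    · intro γ hγ
      induction γ using Nat.strong_induction_on with
      | _ γ ih =>
        by_cases h0 : γ = 0
        · rw [h0]; exact zero_mem _
        have hge : e ≤ γ := hemin γ hγ h0
        have heG : e ∈ AddSubmonoid.closure (↑(insert e (Finset.image w
            (((Finset.range e).erase 0).erase ((c - 1) % e)))) : Set ℕ) :=
          AddSubmonoid.subset_closure (by simp)
        by_cases h1 : γ - e ∈ Γ
        · have := ih (γ - e) (by omega) h1
          have h2 : γ = (γ - e) + e := by omega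
          rw [h2]
          exact add_mem this heG
        -- γ is an Apéry element
        have hjlt : γ % e < e := Nat.mod_lt _ hepos
        have hj0 : γ % e ≠ 0 := by
          intro h
          obtain ⟨k, hk⟩ := Nat.dvd_of_mod_eq_zero h
          apply h1
          have hk1 : 1 ≤ k := by
            rcases k with _ | k
            · omega
            · omega
          have : γ - e = (k - 1) * e := by
            have h3 : (k - 1) * e = k * e - e := by rw [Nat.sub_mul, one_mul]
            have h4 : e * k = k * e := mul_comm _ _
            omega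
          rw [this]
          exact hmul _
        have hwγ : w (γ % e) = γ := by
          apply le_antisymm (hwmin _ γ hγ (by rw [Nat.mod_mod]))
          by_contra hlt
          rw [not_le] at hlt
          have hm : w (γ % e) % e = γ % e := by rw [hwmod, Nat.mod_mod]
          obtain ⟨k, hk⟩ := exists_mul_of_mod_eq hm hlt.le
          have hk1 : 1 ≤ k := by
            rcases k with _ | k
            · omega
            · omega
          apply h1
          have : γ - e = w (γ % e) + (k - 1) * e := by
            have h3 : (k - 1) * e = k * e - e := by rw [Nat.sub_mul, one_mul]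
            have h4 : e ≤ k * e := Nat.le_mul_of_pos_left e hk1
            omega
          rw [this]
          exact add_mem (hwΓ _) (hmul _)
        by_cases hji : γ % e = (c - 1) % e
        · -- γ = c - 1 + e
          have hlt : γ - e < c := by
            by_contra h
            rw [not_lt] at h
            exact h1 (hc _ h)
          have hγc : γ - e = c - 1 := by
            by_contra hne
            have hlt' : γ - e ≤ c - 1 := by omega
            have hm : (γ - e) % e = (c - 1) % e := by rw [hsubmod _ hge, hji]
            obtain ⟨k, hk⟩ := exists_mul_of_mod_eq hm hlt'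
            have hk1 : 1 ≤ k := by
              rcases k with _ | k
              · omega
              · omega
            apply hc1
            have : c - 1 = γ + (k - 1) * e := by
              have h3 : (k - 1) * e = k * e - e := by rw [Nat.sub_mul, one_mul]
              have h4 : e ≤ k * e := Nat.le_mul_of_pos_left e hk1
              omega
            rw [this]
            exact add_mem hγ (hmul _)
          -- pick j' ∈ {1,2} different from i0
          obtain ⟨j', hj'0, hj'i, hj'lt⟩ : ∃ j', j' ≠ 0 ∧ j' ≠ (c - 1) % e ∧ j' < e := by
            by_cases h : (c - 1) % e = 1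
            · exact ⟨2, by omega, by omega, by omega⟩
            · exact ⟨1, by omega, fun h' => h h'.symm, by omega⟩
          have hw'G : w j' ∈ AddSubmonoid.closure (↑(insert e (Finset.image w
              (((Finset.range e).erase 0).erase ((c - 1) % e)))) : Set ℕ) := by
            apply AddSubmonoid.subset_closure
            rw [Finset.mem_coe, Finset.mem_insert]
            right
            exact Finset.mem_image.2 ⟨j', Finset.mem_erase.2 ⟨hj'i, Finset.mem_erase.2
              ⟨hj'0, Finset.mem_range.2 hj'lt⟩⟩, rfl⟩
          have hw'mod : w j' % e = j' := by rw [hwmod, Nat.mod_eq_of_lt hj'lt]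
          have hw'0 : w j' ≠ 0 := by
            intro h
            rw [h, Nat.zero_mod] at hw'mod
            exact hj'0 hw'mod.symm
          have hw'ge : e ≤ w j' := hemin _ (hwΓ j') hw'0
          have hw'ap := hwap j' hw'ge
          have hw'lt : w j' - e < c := by
            by_contra h
            rw [not_lt] at h
            exact hw'ap (hc _ h)
          have hu := (hsymm (w j' - e) hw'lt).1 hw'ap
          have hu' := ih (c - 1 - (w j' - e)) (by omega) hu
          have : γ = (c - 1 - (w j' - e)) + w j' := by omega
          rw [this]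
          exact add_mem hu' hw'G
        · apply AddSubmonoid.subset_closure
          rw [Finset.mem_coe, Finset.mem_insert]
          right
          exact Finset.mem_image.2 ⟨γ % e, Finset.mem_erase.2 ⟨hji, Finset.mem_erase.2
            ⟨hj0, Finset.mem_range.2 hjlt⟩⟩, hwγ⟩

end Groth.Agent.S15038
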