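import Groth.Statements.S15043
import Mathlib
import Groth.Agent.Lib.QuietTower37
import Groth.Agent.Lib.QuietEtaleDescent37
import Groth.Agent.Lib.QuietSch37

set_option autoImplicit false
open CategoryTheory AlgebraicGeometry
universe u
open Quiet

namespace Groth.Agent.S15043

open Groth.Agent.Lib.QuietTower37 Groth.Agent.Lib.QuietEtaleDescent37 Groth.Agent.Lib.QuietSch37

theorem natCast_eq_zero_of_hom (p : ℕ) {X : Scheme.{u}} [FrobSch.IsCharP X p] (R : CommRingCat.{u})
    (e : Spec R ⟶ X) : (p : R) = 0 := by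
  haveI : FrobSch.IsCharP (Spec R) p := FrobSch.IsCharP.of_hom e p
  have h := FrobSch.IsCharP.natCast_eq_zero (X := Spec R) (p := p)
  have h' := congrArg (Scheme.ΓSpecIso R).hom.hom h
  simpa using h'

/-- Over a scheme `X` of prime characteristic `p`, the composite of quasi-etale morphisms `g : Z ⟶ Y`
and `f : Y ⟶ X` (each locally on its source an extraction of `p`-th roots followed by an etale
morphism) is quasi-etale. -/
theorem result (p : ℕ) [Fact p.Prime] {X Y Z : Scheme.{u}} [FrobSch.IsCharP X p]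
    (f : Y ⟶ X) (g : Z ⟶ Y) (hf : Quiet.IsQuiet p f) (hg : Quiet.IsQuiet p g) :
    Quiet.IsQuiet p (g ≫ f) := by
  refine isQuiet_of_nf p _ fun z => ?_
  obtain ⟨VZ, hVZ, R₁, e₁, φ₁, hzV, he₁, hfac₁, n₁, hn₁⟩ := nf_of_isQuiet p g hg z
  let zt : Spec Γ(Z, VZ) := hVZ.primeIdealOf ⟨z, hzV⟩
  have hzt : hVZ.fromSpec zt = z := hVZ.fromSpec_primeIdealOf ⟨z, hzV⟩
  let z₁ : Spec R₁ := (Spec.map φ₁) zt
  have hz₁ : e₁ z₁ = g z := by
    rw [← hzt]
    exact congr($(hfac₁) zt)
  obtain ⟨VY, hVY, R₂, e₂, φ₂, hyV, he₂, hfac₂, n₂, hn₂⟩ := nf_of_isQuiet p f hf (g z)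
  have hmem : z₁ ∈ e₁ ⁻¹ᵁ VY := by
    show e₁ z₁ ∈ VY
    rw [hz₁]; exact hyV
  obtain ⟨_, ⟨s, rfl⟩, hs1, hs2⟩ :=
    (TopologicalSpace.Opens.isBasis_iff_nbhd.mp PrimeSpectrum.isBasis_basic_opens) hmem
  -- localization of `R₁`
  let j : Spec (CommRingCat.of (Localization.Away s)) ⟶ Spec R₁ :=
    Spec.map (CommRingCat.ofHom (algebraMap R₁ (Localization.Away s)))
  have hjx : ∀ x : Spec (CommRingCat.of (Localization.Away s)), j x ∈ PrimeSpectrum.basicOpen s := by
    intro x hx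
    exact x.isPrime.ne_top (Ideal.eq_top_of_isUnit_mem _ hx
      (IsLocalization.Away.algebraMap_isUnit s))
  have hrange : Set.range (j ≫ e₁) ⊆ Set.range hVY.fromSpec := by
    rw [hVY.range_fromSpec]
    rintro _ ⟨x, rfl⟩
    exact hs2 (hjx x)
  let l : Spec (CommRingCat.of (Localization.Away s)) ⟶ Spec Γ(Y, VY) :=
    IsOpenImmersion.lift hVY.fromSpec (j ≫ e₁) hrange
  have hl : l ≫ hVY.fromSpec = j ≫ e₁ := IsOpenImmersion.lift_fac _ _ _
  obtain ⟨β, hβ⟩ := Spec.map_surjective l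
  haveI : Etale (l ≫ hVY.fromSpec) := by rw [hl]; infer_instance
  haveI : Etale l := MorphismProperty.of_postcomp (W := @Etale) (W' := @Etale) l hVY.fromSpec
    inferInstance inferInstance
  have hβet : β.hom.Etale := (HasRingHomProperty.Spec_iff (P := @Etale)).mp (hβ ▸ inferInstance)
  -- algebra structures
  letI algB : Algebra R₂ Γ(Y, VY) := φ₂.hom.toAlgebra
  letI algC : Algebra Γ(Y, VY) (Localization.Away s) := β.hom.toAlgebra
  letI algRC : Algebra R₂ (Localization.Away s) := (β.hom.comp φ₂.hom).toAlgebra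
  haveI : IsScalarTower R₂ Γ(Y, VY) (Localization.Away s) := IsScalarTower.of_algebraMap_eq' rfl
  haveI : Algebra.Etale Γ(Y, VY) (Localization.Away s) := RingHom.etale_algebraMap.mp hβet
  have hp₂ : (p : R₂) = 0 := natCast_eq_zero_of_hom p R₂ e₂
  obtain ⟨A', _, algA', algA'C, etA', twA', m, hm⟩ :=
    etale_descent p n₂ R₂ Γ(Y, VY) (Localization.Away s) hp₂ hn₂
  -- the localized tower over `Z`
  let t : Γ(Z, VZ) := φ₁.hom s
  have hVZ' : IsAffineOpen (Z.basicOpen t) := hVZ.basicOpen t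
  let res : Γ(Z, VZ) ⟶ Γ(Z, Z.basicOpen t) := Z.presheaf.map (homOfLE (Z.basicOpen_le t)).op
  haveI locD : IsLocalization.Away t Γ(Z, Z.basicOpen t) := hVZ.isLocalization_basicOpen t
  letI alg₁ : Algebra R₁ Γ(Z, VZ) := φ₁.hom.toAlgebra
  have hunit : IsUnit ((res.hom.comp φ₁.hom) s) := IsLocalization.Away.algebraMap_isUnit t
  let γ : Localization.Away s →+* Γ(Z, Z.basicOpen t) := IsLocalization.Away.lift s hunit
  letI algCD : Algebra (Localization.Away s) Γ(Z, Z.basicOpen t) := γ.toAlgebra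
  letI algR₁D : Algebra R₁ Γ(Z, Z.basicOpen t) := (res.hom.comp φ₁.hom).toAlgebra
  have hγ : γ.comp (algebraMap R₁ (Localization.Away s)) = res.hom.comp φ₁.hom :=
    IsLocalization.Away.lift_comp s hunit
  haveI : IsScalarTower R₁ (Localization.Away s) Γ(Z, Z.basicOpen t) :=
    IsScalarTower.of_algebraMap_eq' hγ.symm
  haveI : IsScalarTower R₁ Γ(Z, VZ) Γ(Z, Z.basicOpen t) := IsScalarTower.of_algebraMap_eq' rfl
  haveI locD' : IsLocalization.Away (algebraMap R₁ Γ(Z, VZ) s) Γ(Z, Z.basicOpen t) := locD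
  have hnD : IsRootTower p n₁ (Localization.Away s) Γ(Z, Z.basicOpen t) :=
    of_isLocalization_away p n₁ R₁ Γ(Z, VZ) s (Localization.Away s) Γ(Z, Z.basicOpen t) hn₁
  letI algA'D : Algebra A' Γ(Z, Z.basicOpen t) :=
    (γ.comp (algebraMap A' (Localization.Away s))).toAlgebra
  haveI : IsScalarTower A' (Localization.Away s) Γ(Z, Z.basicOpen t) :=
    IsScalarTower.of_algebraMap_eq' rfl
  have htower : IsRootTower p (m + n₁) A' Γ(Z, Z.basicOpen t) :=
    comp p m n₁ A' (Localization.Away s) Γ(Z, Z.basicOpen t) hm hnD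
  haveI : Etale (Spec.map (CommRingCat.ofHom (algebraMap R₂ A'))) :=
    (HasRingHomProperty.Spec_iff (P := @Etale)).mpr (RingHom.etale_algebraMap.mpr etA')
  refine ⟨Z.basicOpen t, hVZ', CommRingCat.of A',
    Spec.map (CommRingCat.ofHom (algebraMap R₂ A')) ≫ e₂,
    CommRingCat.ofHom (algebraMap A' Γ(Z, Z.basicOpen t)), ?_, inferInstance, ?_, m + n₁, htower⟩
  · -- `z ∈ Z.basicOpen t`
    have h1 : zt ∈ hVZ.fromSpec ⁻¹ᵁ Z.basicOpen t := by
      rw [hVZ.fromSpec_preimage_basicOpen]; exact hs1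
    rw [← hzt]; exact h1
  · -- commutation
    have F1 : Spec.map (CommRingCat.ofHom (algebraMap A' (Localization.Away s))) ≫
        Spec.map (CommRingCat.ofHom (algebraMap R₂ A')) = Spec.map β ≫ Spec.map φ₂ := by
      rw [← Spec.map_comp, ← Spec.map_comp]
      congr 1
      ext x
      exact (IsScalarTower.algebraMap_apply R₂ A' (Localization.Away s) x).symm
    have F2 : Spec.map (CommRingCat.ofHom γ) ≫ j = Spec.map res ≫ Spec.map φ₁ := by
      rw [← Spec.map_comp, ← Spec.map_comp]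
      congr 1
      ext x
      exact congrArg (fun f => f x) hγ
    have F3 : Spec.map (CommRingCat.ofHom (algebraMap A' Γ(Z, Z.basicOpen t))) =
        Spec.map (CommRingCat.ofHom γ) ≫
          Spec.map (CommRingCat.ofHom (algebraMap A' (Localization.Away s))) := by
      rw [← Spec.map_comp]; rfl
    have F4 : Spec.map res ≫ hVZ.fromSpec = hVZ'.fromSpec := hVZ.map_fromSpec hVZ' _
    calc Spec.map (CommRingCat.ofHom (algebraMap A' Γ(Z, Z.basicOpen t))) ≫
          Spec.map (CommRingCat.ofHom (algebraMap R₂ A')) ≫ e₂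
        = Spec.map (CommRingCat.ofHom γ) ≫ (Spec.map β ≫ Spec.map φ₂) ≫ e₂ := by
          rw [F3, ← F1]; simp only [Category.assoc]
      _ = Spec.map (CommRingCat.ofHom γ) ≫ (l ≫ hVY.fromSpec) ≫ f := by
          rw [hβ, Category.assoc, hfac₂, Category.assoc]
      _ = (Spec.map (CommRingCat.ofHom γ) ≫ j) ≫ e₁ ≫ f := by
          rw [hl]; simp only [Category.assoc]
      _ = Spec.map res ≫ (Spec.map φ₁ ≫ e₁) ≫ f := by
          rw [F2]; simp only [Category.assoc]
      _ = (Spec.map res ≫ hVZ.fromSpec) ≫ g ≫ f := by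
          rw [hfac₁]; simp only [Category.assoc]
      _ = hVZ'.fromSpec ≫ g ≫ f := by rw [F4]

end Groth.Agent.S15043
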