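import Groth.Statements.S15044
import Mathlib
import Groth.Agent.Lib.QuietSch37
import Groth.Agent.Lib.QuietLoc37
import Groth.Agent.Lib.SmoothLCI
import Groth.Agent.Lib.LCIComp
import Groth.Agent.Lib.SyntLCI3
import Groth.Agent.Lib.MonicSyntomic

set_option autoImplicit false
open CategoryTheory AlgebraicGeometry
universe u
open Quiet

namespace Groth.Agent.S15044

open Polynomial Groth.Agent.Lib.QuietSch37 Groth.Agent.Lib.QuietLoc37

/-- a tower of elementary root extractions is flat and a local complete intersection -/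
theorem flat_lci_of_tower (p : ℕ) (hp : p ≠ 0) : ∀ (n : ℕ) (A B : Type u) [CommRing A] [CommRing B]
    [Algebra A B], Quiet.IsRootTower p n A B → Module.Flat A B ∧ LCI.IsLCI A B := by
  intro n
  induction n with
  | zero =>
    intro A B _ _ _ h
    obtain ⟨e⟩ := h
    refine ⟨Module.Flat.of_linearEquiv e.toLinearEquiv, ?_⟩
    exact Groth.Agent.Lib.LCIComp.isLCI_of_algEquiv e.symm
      Groth.Agent.Lib.SmoothLCI.isLCI_of_smooth
  | succ n ih =>
    intro A B _ _ _ h
    obtain ⟨a, alg, htower, h'⟩ := h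
    obtain ⟨hfl, hlci⟩ := ih (RootRing p A a) B h'
    have hmonic : (X ^ p - C a : A[X]).Monic := monic_X_pow_sub_C a hp
    have hdeg : Nontrivial A → 0 < (X ^ p - C a : A[X]).natDegree := by
      intro _
      rw [natDegree_X_pow_sub_C]
      exact Nat.pos_of_ne_zero hp
    have h1 := (Groth.Agent.Lib.MonicSyntomic.isSyntomic_and_faithfullyFlat_of_ringEquiv_adjoinRoot
      (X ^ p - C a : A[X]) hmonic hdeg (RingEquiv.refl _) (fun r => rfl)).1
    obtain ⟨hfl1, hlci1⟩ := Groth.Agent.Lib.SyntLCI.isSyntomic_iff.mp h1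
    exact ⟨Module.Flat.trans A (RootRing p A a) B, Groth.Agent.Lib.LCIComp.isLCI_comp hlci1 hlci⟩

theorem isSyntomic_comp_etale_tower (p : ℕ) (hp : p ≠ 0) (A C B : Type u) [CommRing A] [CommRing C]
    [CommRing B] [Algebra A C] [Algebra C B] [Algebra A B] [IsScalarTower A C B]
    [Algebra.Etale A C] (n : ℕ) (h : IsRootTower p n C B) : Synt.IsSyntomic A B := by
  obtain ⟨hfl, hlci⟩ := flat_lci_of_tower p hp n C B h
  have h1 : LCI.IsLCI A C := Groth.Agent.Lib.SmoothLCI.isLCI_of_smooth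
  haveI : Module.Flat A C := inferInstance
  exact Groth.Agent.Lib.SyntLCI.isSyntomic_iff.mpr
    ⟨Module.Flat.trans A C B, Groth.Agent.Lib.LCIComp.isLCI_comp h1 hlci⟩

/-- Over a scheme `X` of prime characteristic `p`, a quasi-etale morphism `f : Y ⟶ X` (locally on the
source an extraction of `p`-th roots followed by an etale morphism) is syntomic: every point of `Y`
has an affine open neighbourhood mapping into an affine open of `X` such that the induced ring map
is flat, finitely presented and has local complete intersection fibres. -/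
theorem result (p : ℕ) [Fact p.Prime] {X Y : Scheme.{u}} [FrobSch.IsCharP X p]
    (f : Y ⟶ X) (hf : Quiet.IsQuiet p f) : Synt.IsSyntomicMor f := by
  intro y
  have hnf := nf_of_isQuiet p f hf y
  obtain ⟨W, hW, hyW⟩ : ∃ W : X.Opens, IsAffineOpen W ∧ f y ∈ W := by
    obtain ⟨_, ⟨W, hW, rfl⟩, hy, -⟩ :=
      X.isBasis_affineOpens.exists_subset_of_mem_open (Set.mem_univ (f y)) isOpen_univ
    exact ⟨W, hW, hy⟩
  obtain ⟨V, hV, C, β, φ, hyV, hβ, hfac, n, htower⟩ := nf_loc p f y hnf W hW hyW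
  have hfac' : Spec.map (β ≫ φ) ≫ hW.fromSpec = hV.fromSpec ≫ f := by
    rw [Spec.map_comp, Category.assoc, hfac]
  have hle := le_preimage_of_fac f hV hW (β ≫ φ) hfac'
  have happ := appLE_eq_of_fac f hV hW (β ≫ φ) hfac' hle
  refine ⟨⟨V, hV⟩, ⟨W, hW⟩, hle, hyV, ?_⟩
  show @Synt.IsSyntomic Γ(X, W) _ Γ(Y, V) _ (f.appLE W V hle).hom.toAlgebra
  rw [happ]
  letI : Algebra Γ(X, W) C := β.hom.toAlgebra
  letI : Algebra C Γ(Y, V) := φ.hom.toAlgebra
  letI : Algebra Γ(X, W) Γ(Y, V) := (β ≫ φ).hom.toAlgebra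
  haveI : IsScalarTower Γ(X, W) C Γ(Y, V) := IsScalarTower.of_algebraMap_eq' rfl
  haveI : Algebra.Etale Γ(X, W) C := hβ
  exact isSyntomic_comp_etale_tower p (Fact.out : p.Prime).ne_zero _ _ _ n htower

end Groth.Agent.S15044
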