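import Groth.Statements.S15045
import Mathlib
import Groth.Agent.Lib.QuietTower37
import Groth.Agent.Lib.QuietSch37
import Groth.Agent.Lib.QuietLoc37
import Groth.Agent.Lib.QuietBC37
import Groth.Agent.Lib.QuietLift37

set_option autoImplicit false
open CategoryTheory AlgebraicGeometry
universe u
open Quiet

namespace Groth.Agent.S15045

open Limits Groth.Agent.Lib.QuietTower37 Groth.Agent.Lib.QuietSch37 Groth.Agent.Lib.QuietLoc37 Groth.Agent.Lib.QuietBC37 Groth.Agent.Lib.QuietLift37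

/-- localizing a normal form at an element of the intermediate ring. -/
theorem nf_localize {X Y : Scheme.{u}} (p : ℕ) (f : Y ⟶ X) (y : Y) (V : Y.Opens)
    (hV : IsAffineOpen V) (R : CommRingCat.{u}) (e : Spec R ⟶ X) (φ : R ⟶ Γ(Y, V)) (hyV : y ∈ V)
    (hfac : Spec.map φ ≫ e = hV.fromSpec ≫ f) (n : ℕ)
    (hn : @IsRootTower p n R Γ(Y, V) _ _ φ.hom.toAlgebra) (s : R)
    (hs : Spec.map φ (hV.primeIdealOf ⟨y, hyV⟩) ∈ PrimeSpectrum.basicOpen s) :
    ∃ (V' : Y.Opens) (hV' : IsAffineOpen V')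
      (φ' : CommRingCat.of (Localization.Away s) ⟶ Γ(Y, V')),
      y ∈ V' ∧
      Spec.map φ' ≫ Spec.map (CommRingCat.ofHom (algebraMap R (Localization.Away s))) ≫ e =
        hV'.fromSpec ≫ f ∧
      @IsRootTower p n (Localization.Away s) Γ(Y, V') _ _ φ'.hom.toAlgebra := by
  let zt : Spec Γ(Y, V) := hV.primeIdealOf ⟨y, hyV⟩
  have hzt : hV.fromSpec zt = y := hV.fromSpec_primeIdealOf ⟨y, hyV⟩
  let j := Spec.map (CommRingCat.ofHom (algebraMap R (Localization.Away s)))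
  let t : Γ(Y, V) := φ.hom s
  have hV' : IsAffineOpen (Y.basicOpen t) := hV.basicOpen t
  let res : Γ(Y, V) ⟶ Γ(Y, Y.basicOpen t) := Y.presheaf.map (homOfLE (Y.basicOpen_le t)).op
  haveI locD : IsLocalization.Away t Γ(Y, Y.basicOpen t) := hV.isLocalization_basicOpen t
  letI alg₁ : Algebra R Γ(Y, V) := φ.hom.toAlgebra
  have hunit : IsUnit ((res.hom.comp φ.hom) s) := IsLocalization.Away.algebraMap_isUnit t
  let γ : Localization.Away s →+* Γ(Y, Y.basicOpen t) := IsLocalization.Away.lift s hunit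
  letI algCD : Algebra (Localization.Away s) Γ(Y, Y.basicOpen t) := γ.toAlgebra
  letI algR₁D : Algebra R Γ(Y, Y.basicOpen t) := (res.hom.comp φ.hom).toAlgebra
  have hγ : γ.comp (algebraMap R (Localization.Away s)) = res.hom.comp φ.hom :=
    IsLocalization.Away.lift_comp s hunit
  haveI : IsScalarTower R (Localization.Away s) Γ(Y, Y.basicOpen t) :=
    IsScalarTower.of_algebraMap_eq' hγ.symm
  haveI : IsScalarTower R Γ(Y, V) Γ(Y, Y.basicOpen t) := IsScalarTower.of_algebraMap_eq' rfl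
  haveI locD' : IsLocalization.Away (algebraMap R Γ(Y, V) s) Γ(Y, Y.basicOpen t) := locD
  have hnD : IsRootTower p n (Localization.Away s) Γ(Y, Y.basicOpen t) :=
    of_isLocalization_away p n R Γ(Y, V) s (Localization.Away s) Γ(Y, Y.basicOpen t) hn
  refine ⟨Y.basicOpen t, hV', CommRingCat.ofHom γ, ?_, ?_, hnD⟩
  · have h1 : zt ∈ hV.fromSpec ⁻¹ᵁ Y.basicOpen t := by
      rw [hV.fromSpec_preimage_basicOpen]; exact hs
    rw [← hzt]; exact h1
  · have F2 : Spec.map (CommRingCat.ofHom γ) ≫ j = Spec.map res ≫ Spec.map φ := by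
      rw [← Spec.map_comp, ← Spec.map_comp]
      congr 1
      ext x
      exact congrArg (fun f => f x) hγ
    have F4 : Spec.map res ≫ hV.fromSpec = hV'.fromSpec := hV.map_fromSpec hV' _
    calc Spec.map (CommRingCat.ofHom γ) ≫ j ≫ e
        = (Spec.map (CommRingCat.ofHom γ) ≫ j) ≫ e := by simp only [Category.assoc]
      _ = Spec.map res ≫ (Spec.map φ ≫ e) := by rw [F2]; simp only [Category.assoc]
      _ = (Spec.map res ≫ hV.fromSpec) ≫ f := by rw [hfac]; simp only [Category.assoc]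
      _ = hV'.fromSpec ≫ f := by rw [F4]

/-- Let `T` be a scheme of prime characteristic `p`, `i : U ⟶ T` a closed immersion which is surjective
on points, and `f' : U' ⟶ U` quasi-etale (locally on `U'` an extraction of `p`-th roots followed by
an etale morphism). Then every point of `U'` has an open neighbourhood `V` which is the base change
along `i` of a quasi-etale `T`-scheme: there are a quasi-etale `q : T' ⟶ T` and `j : V ⟶ T'` making
`V`, with `j` and `V ⟶ U' ⟶ U`, the fibre product of `q` and `i`. (The published statement asks `U ⟶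
T` to be a closed nil-immersion, a term it does not define; this row takes any closed immersion that
is surjective on points, which is all the printed argument uses.) -/
theorem result (p : ℕ) [Fact p.Prime] {T U U' : Scheme.{u}}
    [FrobSch.IsCharP T p] (i : U ⟶ T) [IsClosedImmersion i] [Surjective i] (f' : U' ⟶ U)
    (hf' : Quiet.IsQuiet p f') (u : U') :
    ∃ (V : U'.Opens) (T' : Scheme.{u}) (q : T' ⟶ T) (j : (V : Scheme.{u}) ⟶ T'),
      u ∈ V ∧ Quiet.IsQuiet p q ∧ IsPullback j (V.ι ≫ f') q i := by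
  have hnf := nf_of_isQuiet p f' hf' u
  obtain ⟨T₀, hT₀, htT₀⟩ : ∃ W : T.Opens, IsAffineOpen W ∧ i (f' u) ∈ W := by
    obtain ⟨_, ⟨W, hW, rfl⟩, hy, -⟩ :=
      T.isBasis_affineOpens.exists_subset_of_mem_open (Set.mem_univ (i (f' u))) isOpen_univ
    exact ⟨W, hW, hy⟩
  have hU₀ : IsAffineOpen (i ⁻¹ᵁ T₀) := hT₀.preimage i
  obtain ⟨V, hV, C, β, φ, huV, hβ, hfac, n, htower⟩ :=
    nf_loc p f' u hnf (i ⁻¹ᵁ T₀) hU₀ htT₀
  letI algβ : Algebra Γ(U, i ⁻¹ᵁ T₀) C := β.hom.toAlgebra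
  haveI hβ' : Algebra.Etale Γ(U, i ⁻¹ᵁ T₀) C := hβ
  let qC : Spec C := Spec.map φ (hV.primeIdealOf ⟨u, huV⟩)
  haveI : Algebra.IsEtaleAt Γ(U, i ⁻¹ᵁ T₀) qC.asIdeal := by
    haveI : Algebra.FormallyEtale C (Localization.AtPrime qC.asIdeal) :=
      Algebra.FormallyEtale.of_isLocalization qC.asIdeal.primeCompl
    exact Algebra.FormallyEtale.comp Γ(U, i ⁻¹ᵁ T₀) C (Localization.AtPrime qC.asIdeal)
  obtain ⟨c, hcq, hstd⟩ := Algebra.IsEtaleAt.exists_isStandardEtale
    (R := Γ(U, i ⁻¹ᵁ T₀)) (S := C) qC.asIdeal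
  obtain ⟨V', hV', φ', huV', hfac', htower'⟩ :=
    nf_localize p f' u V hV C (Spec.map β ≫ hU₀.fromSpec) φ huV hfac n htower c hcq
  let π : Γ(T, T₀) ⟶ Γ(U, i ⁻¹ᵁ T₀) := i.app T₀
  have hπ : Function.Surjective π.hom := i.app_surjective T₀ hT₀
  let lc : C ⟶ CommRingCat.of (Localization.Away c) :=
    CommRingCat.ofHom (algebraMap C (Localization.Away c))
  let β₂ : Γ(U, i ⁻¹ᵁ T₀) ⟶ CommRingCat.of (Localization.Away c) := β ≫ lc
  have hβ₂ : @Algebra.IsStandardEtale Γ(U, i ⁻¹ᵁ T₀) (Localization.Away c) _ _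
      β₂.hom.toAlgebra := by
    have : β₂.hom.toAlgebra =
        (inferInstance : Algebra Γ(U, i ⁻¹ᵁ T₀) (Localization.Away c)) :=
      Algebra.algebra_ext _ _ (fun r =>
        (IsScalarTower.algebraMap_apply Γ(U, i ⁻¹ᵁ T₀) C (Localization.Away c) r).symm)
    rw [this]; exact hstd
  obtain ⟨C₁, D₁, β₁, φ₁, σ, τ, hβ₁, htower₁, hPO1, hPO2⟩ :=
    lift_cat p n π hπ β₂ hβ₂ φ' htower'
  let q : Spec D₁ ⟶ T := Spec.map φ₁ ≫ Spec.map β₁ ≫ hT₀.fromSpec
  have hq : IsQuiet p q := by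
    apply isQuiet_of_nf p q
    intro z
    have he : Etale (Spec.map β₁ ≫ hT₀.fromSpec) := by
      haveI : Etale (Spec.map β₁) := (HasRingHomProperty.Spec_iff (P := @Etale)).mpr hβ₁
      infer_instance
    exact nf_of_openImmersion p q z D₁ (𝟙 _) ⟨z, rfl⟩ C₁ (Spec.map β₁ ≫ hT₀.fromSpec) he φ₁
      (by simp [q]) n htower₁
  have S1 : IsPullback (Spec.map τ) (Spec.map φ') (Spec.map φ₁) (Spec.map σ) :=
    (isPullback_SpecMap_of_isPushout σ φ₁ φ' τ hPO2).flip
  have S2 : IsPullback (Spec.map σ) (Spec.map β₂) (Spec.map β₁) (Spec.map π) :=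
    (isPullback_SpecMap_of_isPushout π β₁ β₂ σ hPO1).flip
  have hπfac : hU₀.fromSpec ≫ i = Spec.map π ≫ hT₀.fromSpec := by
    show hU₀.fromSpec ≫ i = Spec.map (i.app T₀) ≫ hT₀.fromSpec
    rw [Scheme.Hom.app_eq_appLE]
    exact (IsAffineOpen.SpecMap_appLE_fromSpec i hT₀ hU₀ le_rfl).symm
  have S3 : IsPullback (Spec.map π) hU₀.fromSpec hT₀.fromSpec i :=
    IsOpenImmersion.isPullback (Spec.map π) hU₀.fromSpec hT₀.fromSpec i hπfac
      (by rw [hT₀.opensRange_fromSpec, hU₀.opensRange_fromSpec])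
  have S123 := (S1.paste_vert S2).paste_vert S3
  have hleft : (Spec.map φ' ≫ Spec.map β₂) ≫ hU₀.fromSpec = hV'.fromSpec ≫ f' := by
    rw [← hfac']
    simp only [β₂, lc, Spec.map_comp, Category.assoc]
  refine ⟨V', Spec D₁, q, hV'.isoSpec.hom ≫ Spec.map τ, huV', hq, ?_⟩
  refine IsPullback.of_iso S123 hV'.isoSpec.symm (Iso.refl _) (Iso.refl _) (Iso.refl _)
    ?_ ?_ ?_ ?_
  · simp
  · rw [Iso.refl_hom, Category.comp_id, hleft, Iso.symm_hom, ← Category.assoc,
      IsAffineOpen.isoSpec_inv_ι]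
  · simp [q]
  · simp

end Groth.Agent.S15045
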