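import Groth.Statements.S15049
import Groth.Agent.Lib.LubinTate58
import Groth.Agent.Lib.LubinTate58b

set_option autoImplicit false
universe u
open LubinTate

namespace Groth.Agent.S15049

/-- Let O be a discrete valuation ring with finite residue field of cardinality q, π a uniformizer of O,
and f = πT + T^q ∈ O[[T]]. Then there is a one-dimensional commutative formal group law F(X,Y) over
O for which f is an endomorphism, f(F(X,Y)) = F(f(X), f(Y)); and F is the unique power series in
O[[X,Y]] with zero constant term and linear part X + Y satisfying this identity. (The published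
statement is for the ring of integers of a finite extension of ℚ_p or of 𝔽_q((X)); completeness is
not used and any discrete valuation ring with finite residue field is allowed here.) -/
theorem result (O : Type u) [CommRing O] [IsDomain O] [IsDiscreteValuationRing O]
    [Finite (IsLocalRing.ResidueField O)] (π : O) (hπ : Irreducible π) (f : PowerSeries O)
    (hf : f = π • PowerSeries.X + PowerSeries.X ^ Nat.card (IsLocalRing.ResidueField O)) :
    ∃ F : FormalGroup O, F.IsComm ∧
      PowerSeries.subst F.toPowerSeries f =
        MvPowerSeries.subst (fun i : Fin 2 => PowerSeries.subst (MvPowerSeries.X i : MvPowerSeries (Fin 2) O) f) F.toPowerSeries ∧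
      ∀ G : MvPowerSeries (Fin 2) O, G.constantCoeff = 0 → G.coeff (Finsupp.single 0 1) = 1 →
        G.coeff (Finsupp.single 1 1) = 1 →
        PowerSeries.subst G f =
        MvPowerSeries.subst (fun i : Fin 2 => PowerSeries.subst (MvPowerSeries.X i : MvPowerSeries (Fin 2) O) f) G →
        G = F.toPowerSeries := by
  have hf' : f = Groth.Agent.Lib.LubinTate58.ltSeries π
      (Nat.card (IsLocalRing.ResidueField O)) := hf
  subst hf'
  have hq := Groth.Agent.Lib.LubinTate58.two_le_card (O := O)
  have hL : MvPowerSeries.constantCoeff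
      ((MvPowerSeries.X 0 + MvPowerSeries.X 1 : MvPowerSeries (Fin 2) O)) = 0 := by
    simp
  obtain ⟨G, hG0, hG1, hGd⟩ := Groth.Agent.Lib.LubinTate58.exists_lt (σ := Fin 2) hπ _ hL
  have hGX : MvPowerSeries.coeff (Finsupp.single 0 1) G = 1 := by
    rw [hG1 0]
    simp [MvPowerSeries.coeff_index_single_X]
  have hGY : MvPowerSeries.coeff (Finsupp.single 1 1) G = 1 := by
    rw [hG1 1]
    simp [MvPowerSeries.coeff_index_single_X]
  obtain ⟨F, hFc, hFG⟩ := Groth.Agent.Lib.LubinTate58.exists_formalGroup_of_defect hq
    (Groth.Agent.Lib.LubinTate58.nzd hπ) G hG0 hGX hGY hGd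
  refine ⟨F, hFc, ?_, ?_⟩
  · rw [hFG]
    exact (Groth.Agent.Lib.LubinTate58.lt_eq_iff_defect π _ G hG0).mpr hGd
  · intro G' hG'0 hG'X hG'Y hG'
    rw [hFG]
    refine Groth.Agent.Lib.LubinTate58.unique_lt (σ := Fin 2) hπ hG'0 hG0 ?_
      ((Groth.Agent.Lib.LubinTate58.lt_eq_iff_defect π _ G' hG'0).mp hG') hGd
    intro i
    fin_cases i
    · exact hG'X.trans hGX.symm
    · exact hG'Y.trans hGY.symm

end Groth.Agent.S15049
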