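import Groth.Statements.S15050
import Groth.Agent.Lib.LubinTate58

set_option autoImplicit false
universe u
open LubinTate

namespace Groth.Agent.S15050

/-- Let O be a discrete valuation ring with finite residue field of cardinality q, π a uniformizer of O,
and f = πT + T^q ∈ O[[T]]. For every α ∈ O there is a unique power series g = [α] ∈ O[[T]] with zero
constant term and linear coefficient α which commutes with f under substitution, g(f(T)) = f(g(T)).
(The published statement is for the ring of integers of a finite extension of ℚ_p or of 𝔽_q((X));
completeness is not used and any discrete valuation ring with finite residue field is allowed here.) -/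
theorem result (O : Type u) [CommRing O] [IsDomain O] [IsDiscreteValuationRing O]
    [Finite (IsLocalRing.ResidueField O)] (π : O) (hπ : Irreducible π) (f : PowerSeries O)
    (hf : f = π • PowerSeries.X + PowerSeries.X ^ Nat.card (IsLocalRing.ResidueField O)) (α : O) :
    ∃! g : PowerSeries O, g.constantCoeff = 0 ∧ g.coeff 1 = α ∧
      PowerSeries.subst g f = PowerSeries.subst f g := by
  have hf' : f = Groth.Agent.Lib.LubinTate58.ltSeries π
      (Nat.card (IsLocalRing.ResidueField O)) := hf
  subst hf'
  have hL : MvPowerSeries.constantCoeff (α • (MvPowerSeries.X () : MvPowerSeries Unit O)) = 0 := by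
    simp
  obtain ⟨G, hG0, hG1, hGd⟩ := Groth.Agent.Lib.LubinTate58.exists_lt (σ := Unit) hπ _ hL
  refine ⟨G, ⟨hG0, ?_, ?_⟩, ?_⟩
  · have := hG1 ()
    rw [MvPowerSeries.coeff_smul, MvPowerSeries.coeff_index_single_self_X] at this
    simpa using this
  · exact (Groth.Agent.Lib.LubinTate58.comm_iff_defect π _ G hG0).mpr hGd
  · rintro g ⟨hg0, hg1, hgf⟩
    refine Groth.Agent.Lib.LubinTate58.unique_lt (σ := Unit) hπ hg0 hG0 ?_
      ((Groth.Agent.Lib.LubinTate58.comm_iff_defect π _ g hg0).mp hgf) hGd
    intro i
    have := hG1 ()
    rw [MvPowerSeries.coeff_smul, MvPowerSeries.coeff_index_single_self_X] at this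
    cases i
    rw [this]
    simpa using hg1

end Groth.Agent.S15050
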