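import Groth.Statements.S15051
import Groth.Agent.Lib.LubinTate58

set_option autoImplicit false
universe u
open LubinTate

namespace Groth.Agent.S15051

/-- Let O be a discrete valuation ring with finite residue field of cardinality q, π a uniformizer of O,
and f = πT + T^q ∈ O[[T]]; let F be a one-dimensional formal group law over O for which f is an
endomorphism, f(F(X,Y)) = F(f(X), f(Y)), and g ∈ O[[T]] a power series with zero constant term which
commutes with f, g(f(T)) = f(g(T)). Then g is an endomorphism of F, that is g(F(X,Y)) = F(g(X),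
g(Y)); so α ↦ [α] maps O into the endomorphisms of the Lubin–Tate formal group. (The published
statement is for the ring of integers of a finite extension of ℚ_p or of 𝔽_q((X)); completeness is
not used and any discrete valuation ring with finite residue field is allowed here.) -/
theorem result (O : Type u) [CommRing O] [IsDomain O] [IsDiscreteValuationRing O]
    [Finite (IsLocalRing.ResidueField O)] (π : O) (hπ : Irreducible π) (f : PowerSeries O)
    (hf : f = π • PowerSeries.X + PowerSeries.X ^ Nat.card (IsLocalRing.ResidueField O))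
    (F : FormalGroup O)
    (hF : PowerSeries.subst F.toPowerSeries f =
        MvPowerSeries.subst (fun i : Fin 2 => PowerSeries.subst (MvPowerSeries.X i : MvPowerSeries (Fin 2) O) f) F.toPowerSeries)
    (g : PowerSeries O) (hg0 : g.constantCoeff = 0)
    (hgf : PowerSeries.subst g f = PowerSeries.subst f g) :
    PowerSeries.subst F.toPowerSeries g =
      MvPowerSeries.subst (fun i : Fin 2 => PowerSeries.subst (MvPowerSeries.X i : MvPowerSeries (Fin 2) O) g)
        F.toPowerSeries := by
  have hf' : f = Groth.Agent.Lib.LubinTate58.ltSeries π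
      (Nat.card (IsLocalRing.ResidueField O)) := hf
  subst hf'
  have hq := Groth.Agent.Lib.LubinTate58.two_le_card (O := O)
  have dg := (Groth.Agent.Lib.LubinTate58.comm_iff_defect π _ g hg0).mp hgf
  have dF := (Groth.Agent.Lib.LubinTate58.lt_eq_iff_defect π _ F.toPowerSeries
    F.zero_constantCoeff).mp hF
  -- left-hand side
  have hF0 : ∀ i : Unit, MvPowerSeries.constantCoeff ((fun _ : Unit => F.toPowerSeries) i) = 0 :=
    fun _ => F.zero_constantCoeff
  -- the vector `g(X_i)`
  have hX0 : ∀ (i : Fin 2) (_ : Unit), MvPowerSeries.constantCoeff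
      ((fun _ : Unit => (MvPowerSeries.X i : MvPowerSeries (Fin 2) O)) ()) = 0 :=
    fun i _ => by simp
  have ha0 : ∀ i : Fin 2, MvPowerSeries.constantCoeff
      (PowerSeries.subst (MvPowerSeries.X i : MvPowerSeries (Fin 2) O) g) = 0 := fun i =>
    Groth.Agent.Lib.LubinTate58.constantCoeff_subst_zero _ (hX0 i) g hg0
  have had : ∀ i : Fin 2, Groth.Agent.Lib.LubinTate58.defect 1 π
      (Nat.card (IsLocalRing.ResidueField O))
      (PowerSeries.subst (MvPowerSeries.X i : MvPowerSeries (Fin 2) O) g) = 0 := fun i =>
    Groth.Agent.Lib.LubinTate58.defect_subst_eq_zero hq _ (hX0 i)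
      (fun _ => Groth.Agent.Lib.LubinTate58.defect_X π hq i) g dg
  have hal : ∀ i j : Fin 2, MvPowerSeries.coeff (Finsupp.single j 1)
      (PowerSeries.subst (MvPowerSeries.X i : MvPowerSeries (Fin 2) O) g) =
      MvPowerSeries.coeff (Finsupp.single () 1) g *
        MvPowerSeries.coeff (Finsupp.single j 1) (MvPowerSeries.X i : MvPowerSeries (Fin 2) O) := by
    intro i j
    rw [PowerSeries.subst_def, Groth.Agent.Lib.LubinTate58.coeff_single_subst _ (hX0 i) g hg0]
    simp only [Finset.univ_unique, Finset.sum_singleton]
  rw [PowerSeries.subst_def]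
  refine Groth.Agent.Lib.LubinTate58.unique_lt (σ := Fin 2) hπ
    (Groth.Agent.Lib.LubinTate58.constantCoeff_subst_zero _ hF0 g hg0)
    (Groth.Agent.Lib.LubinTate58.constantCoeff_subst_zero _ ha0 F.toPowerSeries
      F.zero_constantCoeff) ?_
    (Groth.Agent.Lib.LubinTate58.defect_subst_eq_zero hq _ hF0 (fun _ => dF) g dg)
    (Groth.Agent.Lib.LubinTate58.defect_subst_eq_zero hq _ ha0 had F.toPowerSeries dF)
  intro j
  rw [Groth.Agent.Lib.LubinTate58.coeff_single_subst _ hF0 g hg0,
    Groth.Agent.Lib.LubinTate58.coeff_single_subst _ ha0 F.toPowerSeries F.zero_constantCoeff]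
  simp only [Finset.univ_unique, Finset.sum_singleton]
  rw [Fin.sum_univ_two, F.lin_coeff_X, F.lin_coeff_Y, hal, hal]
  fin_cases j
  · simp [F.lin_coeff_X, MvPowerSeries.coeff_index_single_X]
  · simp [F.lin_coeff_Y, MvPowerSeries.coeff_index_single_X]

end Groth.Agent.S15051
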