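import Groth.Statements.S15052
import Groth.Agent.Lib.LubinTate58
import Groth.Agent.Lib.LubinTate58c

set_option autoImplicit false
universe u
open LubinTate

namespace Groth.Agent.S15052

/-- Let O be a discrete valuation ring with finite residue field of cardinality q, π a uniformizer of O,
and f = πT + T^q ∈ O[[T]]; let K be the fraction field of O and F a one-dimensional formal group law
over O for which f is an endomorphism, f(F(X,Y)) = F(f(X), f(Y)). Then there is a unique power
series ℓ ∈ K[[T]] with zero constant term and linear coefficient 1 such that ℓ(f(T)) = π·ℓ(T); this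
logarithm is a homomorphism to the additive formal group, ℓ(F(T,S)) = ℓ(T) + ℓ(S), and it is
O-linear in the sense that ℓ(g(T)) = α·ℓ(T) for every α ∈ O and every series g ∈ O[[T]] with zero
constant term and linear coefficient α commuting with f. (The published statement is for the ring of
integers of a finite extension of ℚ_p; completeness is not used and any discrete valuation ring with
finite residue field is allowed here.) -/
theorem result (O : Type u) [CommRing O] [IsDomain O] [IsDiscreteValuationRing O]
    [Finite (IsLocalRing.ResidueField O)] (K : Type u) [Field K] [Algebra O K] [IsFractionRing O K]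
    (π : O) (hπ : Irreducible π) (f : PowerSeries O)
    (hf : f = π • PowerSeries.X + PowerSeries.X ^ Nat.card (IsLocalRing.ResidueField O))
    (F : FormalGroup O)
    (hF : PowerSeries.subst F.toPowerSeries f =
        MvPowerSeries.subst (fun i : Fin 2 => PowerSeries.subst (MvPowerSeries.X i : MvPowerSeries (Fin 2) O) f) F.toPowerSeries) :
    ∃ ℓ : PowerSeries K, (ℓ.constantCoeff = 0 ∧ ℓ.coeff 1 = 1 ∧
      PowerSeries.subst (PowerSeries.map (algebraMap O K) f) ℓ = algebraMap O K π • ℓ) ∧
      (∀ ℓ' : PowerSeries K, ℓ'.constantCoeff = 0 → ℓ'.coeff 1 = 1 →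
        PowerSeries.subst (PowerSeries.map (algebraMap O K) f) ℓ' = algebraMap O K π • ℓ' → ℓ' = ℓ) ∧
      PowerSeries.subst ((F.toPowerSeries).map (algebraMap O K)) ℓ =
        PowerSeries.subst (MvPowerSeries.X (0 : Fin 2) : MvPowerSeries (Fin 2) K) ℓ +
          PowerSeries.subst (MvPowerSeries.X (1 : Fin 2) : MvPowerSeries (Fin 2) K) ℓ ∧
      (∀ (α : O) (g : PowerSeries O), g.constantCoeff = 0 → g.coeff 1 = α →
        PowerSeries.subst g f = PowerSeries.subst f g →
        PowerSeries.subst (PowerSeries.map (algebraMap O K) g) ℓ = algebraMap O K α • ℓ) := by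
  have hf' : f = Groth.Agent.Lib.LubinTate58.ltSeries π
      (Nat.card (IsLocalRing.ResidueField O)) := hf
  subst hf'
  have hq := Groth.Agent.Lib.LubinTate58.two_le_card (O := O)
  have hu := Groth.Agent.Lib.LubinTate58.algebraMap_sub_pow_ne_zero (K := K) hπ
  rw [Groth.Agent.Lib.LubinTate58.map_ltSeries]
  have dF := (Groth.Agent.Lib.LubinTate58.lt_eq_iff_defect π _ F.toPowerSeries
    F.zero_constantCoeff).mp hF
  -- the formal group over `K`
  have dFK : Groth.Agent.Lib.LubinTate58.defect 1 (algebraMap O K π)
      (Nat.card (IsLocalRing.ResidueField O))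
      (MvPowerSeries.map (algebraMap O K) F.toPowerSeries) = 0 := by
    have := Groth.Agent.Lib.LubinTate58.map_defect (algebraMap O K) 1 π hq F.toPowerSeries
    rw [dF, map_zero, map_one] at this
    exact this.symm
  have cFK : MvPowerSeries.constantCoeff (MvPowerSeries.map (algebraMap O K) F.toPowerSeries) = 0 := by
    rw [MvPowerSeries.constantCoeff_map, F.zero_constantCoeff, map_zero]
  have lFK : ∀ j : Fin 2, MvPowerSeries.coeff (Finsupp.single j 1)
      (MvPowerSeries.map (algebraMap O K) F.toPowerSeries) = 1 := by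
    intro j
    rw [MvPowerSeries.coeff_map]
    fin_cases j
    · change algebraMap O K (MvPowerSeries.coeff (Finsupp.single 0 1) F.toPowerSeries) = 1
      rw [F.lin_coeff_X, map_one]
    · change algebraMap O K (MvPowerSeries.coeff (Finsupp.single 1 1) F.toPowerSeries) = 1
      rw [F.lin_coeff_Y, map_one]
  -- the logarithm
  have hL : MvPowerSeries.constantCoeff (MvPowerSeries.X () : MvPowerSeries Unit K) = 0 := by
    simp
  obtain ⟨l, hl0, hl1, hld⟩ := Groth.Agent.Lib.LubinTate58.exists_log (σ := Unit) hq hu _ hL
  have hl1' : MvPowerSeries.coeff (Finsupp.single () 1) l = 1 := by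
    rw [hl1 ()]
    simp
  have hX0 : ∀ (i : Fin 2) (_ : Unit), MvPowerSeries.constantCoeff
      ((fun _ : Unit => (MvPowerSeries.X i : MvPowerSeries (Fin 2) K)) ()) = 0 :=
    fun i _ => by simp
  have hlX0 : ∀ i : Fin 2, MvPowerSeries.constantCoeff
      (PowerSeries.subst (MvPowerSeries.X i : MvPowerSeries (Fin 2) K) l) = 0 := fun i =>
    Groth.Agent.Lib.LubinTate58.constantCoeff_subst_zero _ (hX0 i) l hl0
  have hlXd : ∀ i : Fin 2, Groth.Agent.Lib.LubinTate58.defect 0 (algebraMap O K π)
      (Nat.card (IsLocalRing.ResidueField O))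
      (PowerSeries.subst (MvPowerSeries.X i : MvPowerSeries (Fin 2) K) l) = 0 := fun i =>
    Groth.Agent.Lib.LubinTate58.defect_subst_eq_zero hq _ (hX0 i)
      (fun _ => Groth.Agent.Lib.LubinTate58.defect_X _ hq i) l hld
  have hlXl : ∀ i j : Fin 2, MvPowerSeries.coeff (Finsupp.single j 1)
      (PowerSeries.subst (MvPowerSeries.X i : MvPowerSeries (Fin 2) K) l) =
        MvPowerSeries.coeff (Finsupp.single j 1) (MvPowerSeries.X i : MvPowerSeries (Fin 2) K) := by
    intro i j
    rw [PowerSeries.subst_def, Groth.Agent.Lib.LubinTate58.coeff_single_subst _ (hX0 i) l hl0]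
    simp only [Finset.univ_unique, Finset.sum_singleton]
    rw [hl1', one_mul]
  refine ⟨l, ⟨hl0, hl1', (Groth.Agent.Lib.LubinTate58.log_iff_defect _ _ l).mpr hld⟩, ?_, ?_, ?_⟩
  · intro l' hl'0 hl'1 hl'
    refine Groth.Agent.Lib.LubinTate58.unique_log (σ := Unit) hq hu hl'0 hl0 ?_
      ((Groth.Agent.Lib.LubinTate58.log_iff_defect _ _ l').mp hl') hld
    intro i
    cases i
    exact hl'1.trans hl1'.symm
  · have hF0 : ∀ i : Unit, MvPowerSeries.constantCoeff
        ((fun _ : Unit => MvPowerSeries.map (algebraMap O K) F.toPowerSeries) i) = 0 :=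
      fun _ => cFK
    rw [PowerSeries.subst_def]
    refine Groth.Agent.Lib.LubinTate58.unique_log (σ := Fin 2) hq hu
      (Groth.Agent.Lib.LubinTate58.constantCoeff_subst_zero _ hF0 l hl0)
      (by rw [map_add, hlX0, hlX0, add_zero]) ?_
      (Groth.Agent.Lib.LubinTate58.defect_subst_eq_zero hq _ hF0 (fun _ => dFK) l hld)
      (by rw [Groth.Agent.Lib.LubinTate58.defect_zero_add _ hq, hlXd, hlXd, add_zero])
    intro j
    rw [Groth.Agent.Lib.LubinTate58.coeff_single_subst _ hF0 l hl0]
    simp only [Finset.univ_unique, Finset.sum_singleton]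
    rw [hl1', one_mul, lFK, map_add, hlXl, hlXl]
    fin_cases j
    · simp [MvPowerSeries.coeff_index_single_X]
    · simp [MvPowerSeries.coeff_index_single_X]
  · intro α g hg0 hg1 hgf
    have dg := (Groth.Agent.Lib.LubinTate58.comm_iff_defect π _ g hg0).mp hgf
    have dgK : Groth.Agent.Lib.LubinTate58.defect 1 (algebraMap O K π)
        (Nat.card (IsLocalRing.ResidueField O))
        (MvPowerSeries.map (algebraMap O K) g) = 0 := by
      have := Groth.Agent.Lib.LubinTate58.map_defect (σ := Unit) (algebraMap O K) 1 π hq g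
      rw [dg, map_zero, map_one] at this
      exact this.symm
    have cgK : MvPowerSeries.constantCoeff (MvPowerSeries.map (algebraMap O K) g) = 0 := by
      rw [MvPowerSeries.constantCoeff_map]
      change algebraMap O K (PowerSeries.constantCoeff g) = 0
      rw [hg0, map_zero]
    have hg0' : ∀ i : Unit, MvPowerSeries.constantCoeff
        ((fun _ : Unit => MvPowerSeries.map (algebraMap O K) g) i) = 0 :=
      fun _ => cgK
    rw [PowerSeries.subst_def]
    change MvPowerSeries.subst (fun _ : Unit => MvPowerSeries.map (algebraMap O K) g) l = _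
    refine Groth.Agent.Lib.LubinTate58.unique_log (σ := Unit) hq hu
      (Groth.Agent.Lib.LubinTate58.constantCoeff_subst_zero _ hg0' l hl0)
      (by simp [hl0]) ?_
      (Groth.Agent.Lib.LubinTate58.defect_subst_eq_zero hq _ hg0' (fun _ => dgK) l hld)
      (by rw [Groth.Agent.Lib.LubinTate58.defect_zero_smul _ hq, hld, smul_zero])
    intro j
    cases j
    rw [Groth.Agent.Lib.LubinTate58.coeff_single_subst _ hg0' l hl0]
    simp only [Finset.univ_unique, Finset.sum_singleton]
    rw [hl1', one_mul, MvPowerSeries.coeff_smul, hl1', MvPowerSeries.coeff_map]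
    change algebraMap O K (PowerSeries.coeff 1 g) = _
    rw [hg1, mul_one]

end Groth.Agent.S15052
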