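import Groth.Statements.S15056
import Groth.Agent.Lib.HopfFrobHeight41

set_option autoImplicit false
universe u
open scoped TensorProduct
open FrobAlg

namespace Groth.Agent.S15056

/-- Let p be a prime number, R a Noetherian ring of characteristic p and A a finitely generated
commutative Hopf algebra over R (an affine algebraic R-group G = Spec A). The n-fold relative
Frobenius of G is the trivial homomorphism exactly when a^(p^n) = 0 for every a in the augmentation
ideal; G has finite Frobenius height when this holds for some n. Then G has finite Frobenius height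
if and only if A is a finite R-module and, for every algebraically closed field K and every ring
homomorphism R → K, the base change K ⊗_R A is a local ring (G is finite over R with connected
geometric fibres). -/
theorem result (p : ℕ) [Fact p.Prime] (R : Type u) [CommRing R] [CharP R p]
    [IsNoetherianRing R] (A : Type u) [CommRing A] [HopfAlgebra R A] [Algebra.FiniteType R A] :
    (∃ n : ℕ, ∀ a : A, Bialgebra.counitAlgHom R A a = 0 → a ^ p ^ n = 0) ↔
      (Module.Finite R A ∧ ∀ (K : Type u) [Field K] [IsAlgClosed K] [Algebra R K], IsLocalRing (K ⊗[R] A)) := by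
  constructor
  · rintro ⟨n, hn⟩
    refine ⟨Groth.Agent.Lib.HopfFrobHeight41.finite_of_pow_eq_zero (p ^ n)
      (pow_pos (Fact.out : p.Prime).pos n) hn, fun K _ _ _ => ?_⟩
    have hK : CharP K p := by
      refine (CharP.charP_iff_prime_eq_zero (Fact.out : p.Prime)).2 ?_
      rw [← map_natCast (algebraMap R K), CharP.cast_eq_zero R p, map_zero]
    exact Groth.Agent.Lib.HopfInfinitesimal41.isLocalRing_of_nil (k := K) (fun f hf =>
      ⟨p ^ n, Groth.Agent.Lib.HopfFrobHeight41.pow_eq_zero_baseChange p K n hn f hf⟩)
  · rintro ⟨hfin, hloc⟩
    have hnoeth : IsNoetherianRing A := IsNoetherianRing.of_finite R A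
    obtain ⟨n, hn⟩ := Groth.Agent.Lib.FrobSection41.exists_pow_eq_zero_of_mem_nilradical A p
      (Fact.out : p.Prime).one_lt
    exact ⟨n, fun a ha => hn a (mem_nilradical.2
      (Groth.Agent.Lib.HopfFrobHeight41.isNilpotent_of_forall_isLocalRing hloc a ha))⟩

end Groth.Agent.S15056
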