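import Groth.Statements.S15058
import Groth.Agent.Lib.SuccApprox58

set_option autoImplicit false
universe u
open FmlGrp

namespace Groth.Agent.S15058

/-- Let R be a commutative ring and F(X,Y) ∈ R[[X,Y]] a one-dimensional formal group law (zero constant
term, linear part X + Y, associative). Then there is a power series g(X) ∈ R[[X]] with zero constant
term which is a two-sided inverse for F, F(X, g(X)) = 0 = F(g(X), X), and it is unique: every power
series with zero constant term which is a right inverse or a left inverse equals g. (The published
text proves this for formal group laws of any finite dimension with coefficients in a complete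
Noetherian local ring; the argument is a formal degree-by-degree construction, and this row states
the one-dimensional case over an arbitrary commutative ring.) -/
theorem result (R : Type u) [CommRing R] (F : FormalGroup R) :
    ∃ g : PowerSeries R, g.constantCoeff = 0 ∧
      F.toPowerSeries.subst ![PowerSeries.X, g] = (0 : PowerSeries R) ∧
      F.toPowerSeries.subst ![g, PowerSeries.X] = (0 : PowerSeries R) ∧
      ∀ k : PowerSeries R, k.constantCoeff = 0 →
        (F.toPowerSeries.subst ![PowerSeries.X, k] = (0 : PowerSeries R) ∨
          F.toPowerSeries.subst ![k, PowerSeries.X] = (0 : PowerSeries R)) → k = g := by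
  have hX0 : MvPowerSeries.constantCoeff (PowerSeries.X : MvPowerSeries Unit R) = 0 := by
    change PowerSeries.constantCoeff (PowerSeries.X : PowerSeries R) = 0
    simp
  obtain ⟨g, ⟨hg0, hg⟩, hgu⟩ := Groth.Agent.Lib.SuccApprox58.existsUnique_subst_right
    F.toPowerSeries F.zero_constantCoeff (by rw [F.lin_coeff_Y]; exact isUnit_one)
    (PowerSeries.X : MvPowerSeries Unit R) hX0
  obtain ⟨h, ⟨hh0, hh⟩, hhu⟩ := Groth.Agent.Lib.SuccApprox58.existsUnique_subst_left
    F.toPowerSeries F.zero_constantCoeff (by rw [F.lin_coeff_X]; exact isUnit_one)
    (PowerSeries.X : MvPowerSeries Unit R) hX0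
  have sg : PowerSeries.HasSubst g := PowerSeries.HasSubst.of_constantCoeff_zero hg0
  have sh : PowerSeries.HasSubst h := PowerSeries.HasSubst.of_constantCoeff_zero hh0
  have sX : PowerSeries.HasSubst (PowerSeries.X : MvPowerSeries Unit R) :=
    PowerSeries.HasSubst.of_constantCoeff_zero hX0
  have hhg : h = g := by
    have hassoc := F.assoc' sh sX sg
    rw [hh, hg, F.zero_add sg, F.add_zero sh] at hassoc
    exact hassoc.symm
  subst hhg
  refine ⟨h, hg0, hg, hh, ?_⟩
  intro k hk0 hk
  rcases hk with hk | hk
  · exact hgu k ⟨hk0, hk⟩
  · exact hhu k ⟨hk0, hk⟩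

end Groth.Agent.S15058
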