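import Groth.Statements.S15060
import Groth.Agent.Lib.LubinTate58

set_option autoImplicit false
universe u
open LubinTate

namespace Groth.Agent.S15060

/-- Let O be a discrete valuation ring with finite residue field of cardinality q, π a uniformizer of O,
f = πT + T^q ∈ O[[T]], and F a one-dimensional formal group law over O for which f is an
endomorphism, f(F(X,Y)) = F(f(X), f(Y)). For α ∈ O write [α] for a power series with zero constant
term and linear coefficient α commuting with f (it is unique). Then for all α, β ∈ O and all such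
series [α], [β], [αβ], [α+β] one has [α]([β](T)) = [αβ](T) and F([α](T), [β](T)) = [α+β](T): the map
α ↦ [α] is a ring homomorphism from O to the endomorphisms of F with their formal-group addition and
composition. (The published statement is for the ring of integers of a finite extension of ℚ_p or of
𝔽_q((X)); completeness is not used and any discrete valuation ring with finite residue field is
allowed here.) -/
theorem result (O : Type u) [CommRing O] [IsDomain O] [IsDiscreteValuationRing O]
    [Finite (IsLocalRing.ResidueField O)] (π : O) (hπ : Irreducible π) (f : PowerSeries O)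
    (hf : f = π • PowerSeries.X + PowerSeries.X ^ Nat.card (IsLocalRing.ResidueField O))
    (F : FormalGroup O)
    (hF : PowerSeries.subst F.toPowerSeries f =
        MvPowerSeries.subst (fun i : Fin 2 => PowerSeries.subst (MvPowerSeries.X i : MvPowerSeries (Fin 2) O) f)
          F.toPowerSeries)
    (α β : O) (gα gβ gαβ gs : PowerSeries O)
    (hα0 : gα.constantCoeff = 0) (hα1 : gα.coeff 1 = α) (hαf : PowerSeries.subst gα f = PowerSeries.subst f gα)
    (hβ0 : gβ.constantCoeff = 0) (hβ1 : gβ.coeff 1 = β) (hβf : PowerSeries.subst gβ f = PowerSeries.subst f gβ)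
    (hαβ0 : gαβ.constantCoeff = 0) (hαβ1 : gαβ.coeff 1 = α * β)
    (hαβf : PowerSeries.subst gαβ f = PowerSeries.subst f gαβ)
    (hs0 : gs.constantCoeff = 0) (hs1 : gs.coeff 1 = α + β) (hsf : PowerSeries.subst gs f = PowerSeries.subst f gs) :
    PowerSeries.subst gβ gα = gαβ ∧ F.toPowerSeries.subst ![gα, gβ] = gs := by
  have hf' : f = Groth.Agent.Lib.LubinTate58.ltSeries π
      (Nat.card (IsLocalRing.ResidueField O)) := hf
  subst hf'
  have hq := Groth.Agent.Lib.LubinTate58.two_le_card (O := O)
  have dα := (Groth.Agent.Lib.LubinTate58.comm_iff_defect π _ gα hα0).mp hαf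
  have dβ := (Groth.Agent.Lib.LubinTate58.comm_iff_defect π _ gβ hβ0).mp hβf
  have dαβ := (Groth.Agent.Lib.LubinTate58.comm_iff_defect π _ gαβ hαβ0).mp hαβf
  have ds := (Groth.Agent.Lib.LubinTate58.comm_iff_defect π _ gs hs0).mp hsf
  have dF := (Groth.Agent.Lib.LubinTate58.lt_eq_iff_defect π _ F.toPowerSeries
    F.zero_constantCoeff).mp hF
  constructor
  · rw [PowerSeries.subst_def]
    have ha0 : ∀ i : Unit, MvPowerSeries.constantCoeff ((fun _ : Unit => gβ) i) = 0 :=
      fun _ => hβ0
    refine Groth.Agent.Lib.LubinTate58.unique_lt (σ := Unit) hπ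
      (Groth.Agent.Lib.LubinTate58.constantCoeff_subst_zero _ ha0 gα hα0) hαβ0 ?_
      (Groth.Agent.Lib.LubinTate58.defect_subst_eq_zero hq _ ha0 (fun _ => dβ) gα dα) dαβ
    intro i
    cases i
    rw [Groth.Agent.Lib.LubinTate58.coeff_single_subst _ ha0 gα hα0]
    simp only [Finset.univ_unique, Finset.sum_singleton]
    change PowerSeries.coeff 1 gα * PowerSeries.coeff 1 gβ = PowerSeries.coeff 1 gαβ
    rw [hα1, hβ1, hαβ1]
  · have ha0 : ∀ i : Fin 2, MvPowerSeries.constantCoeff ((![gα, gβ] : Fin 2 → PowerSeries O) i) = 0 := by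
      intro i
      fin_cases i
      · exact hα0
      · exact hβ0
    have had : ∀ i : Fin 2, Groth.Agent.Lib.LubinTate58.defect 1 π
        (Nat.card (IsLocalRing.ResidueField O)) ((![gα, gβ] : Fin 2 → PowerSeries O) i) = 0 := by
      intro i
      fin_cases i
      · exact dα
      · exact dβ
    refine Groth.Agent.Lib.LubinTate58.unique_lt (σ := Unit) hπ
      (Groth.Agent.Lib.LubinTate58.constantCoeff_subst_zero _ ha0 F.toPowerSeries
        F.zero_constantCoeff) hs0 ?_
      (Groth.Agent.Lib.LubinTate58.defect_subst_eq_zero hq _ ha0 had F.toPowerSeries dF) ds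
    intro i
    cases i
    rw [Groth.Agent.Lib.LubinTate58.coeff_single_subst _ ha0 F.toPowerSeries F.zero_constantCoeff]
    rw [Fin.sum_univ_two, F.lin_coeff_X, F.lin_coeff_Y, one_mul, one_mul]
    change PowerSeries.coeff 1 gα + PowerSeries.coeff 1 gβ = PowerSeries.coeff 1 gs
    rw [hα1, hβ1, hs1]

end Groth.Agent.S15060
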