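import Groth.Statements.S15061
import Groth.Agent.Lib.HopfQuot55k
import Groth.Agent.Lib.HopfQuot55l

set_option autoImplicit false
universe u
open scoped TensorProduct
open Hopf

namespace Groth.Agent.S15061

/-- Let R be a henselian Noetherian local ring and A a commutative Hopf algebra over R which is finite
and flat as an R-module (a finite flat R-group G = Spec A, not assumed commutative); let e ∈ A be an
idempotent with ε(e) = 1 such that A/(1 − e) is a local ring, so that G⁰ = Spec A/(1 − e) is the
connected component of the unit section, and let B ⊆ A be the subalgebra of functions invariant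
under right translation by G⁰: the equaliser of a ↦ (id ⊗ π)(Δ a) and a ↦ a ⊗ 1 into A ⊗_R A/(1 −
e). Then B is a sub-Hopf-algebra of A (comultiplication and antipode preserve it), B is finite étale
over R, A is faithfully flat over B, and the ideal of A generated by the elements of B killed by the
counit is exactly (1 − e). In other words G^ét := Spec B is a finite étale R-group, G → G^ét is a
faithfully flat homomorphism, and its kernel is G⁰: the sequence 1 → G⁰ → G → G^ét → 1 is exact. -/
theorem result (R : Type u) [CommRing R] [HenselianLocalRing R] [IsNoetherianRing R]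
    (A : Type u) [CommRing A] [HopfAlgebra R A] [Module.Finite R A] [Module.Flat R A]
    (e : A) (he : IsIdempotentElem e) (hε : Bialgebra.counitAlgHom R A e = 1)
    [IsLocalRing (A ⧸ Ideal.span ({1 - e} : Set A))] :
    SGA3.IsHopfSubalgebra R A
        (AlgHom.equalizer
          ((Algebra.TensorProduct.map (AlgHom.id R A) (Ideal.Quotient.mkₐ R (Ideal.span ({1 - e} : Set A)))).comp
            (Bialgebra.comulAlgHom R A))
          (Algebra.TensorProduct.includeLeft : A →ₐ[R] A ⊗[R] (A ⧸ Ideal.span ({1 - e} : Set A)))) ∧
      Algebra.Etale R ↥(AlgHom.equalizer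
          ((Algebra.TensorProduct.map (AlgHom.id R A) (Ideal.Quotient.mkₐ R (Ideal.span ({1 - e} : Set A)))).comp
            (Bialgebra.comulAlgHom R A))
          (Algebra.TensorProduct.includeLeft : A →ₐ[R] A ⊗[R] (A ⧸ Ideal.span ({1 - e} : Set A)))) ∧
      Module.FaithfullyFlat ↥(AlgHom.equalizer
          ((Algebra.TensorProduct.map (AlgHom.id R A) (Ideal.Quotient.mkₐ R (Ideal.span ({1 - e} : Set A)))).comp
            (Bialgebra.comulAlgHom R A))
          (Algebra.TensorProduct.includeLeft : A →ₐ[R] A ⊗[R] (A ⧸ Ideal.span ({1 - e} : Set A)))) A ∧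
      SGA3.augIdealSpan R A
        (AlgHom.equalizer
          ((Algebra.TensorProduct.map (AlgHom.id R A) (Ideal.Quotient.mkₐ R (Ideal.span ({1 - e} : Set A)))).comp
            (Bialgebra.comulAlgHom R A))
          (Algebra.TensorProduct.includeLeft : A →ₐ[R] A ⊗[R] (A ⧸ Ideal.span ({1 - e} : Set A)))) =
        Ideal.span ({1 - e} : Set A) := by
  open Groth.Agent.Lib.HopfQuot55 in
  haveI hHI : (Ideal.span ({1 - e} : Set A)).IsHopfIdeal R :=
    Groth.Agent.Lib.HopfUnitComp61.isHopfIdeal_span_one_sub he hε
  haveI : Module.FinitePresentation R A := Module.finitePresentation_of_finite R A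
  haveI : Module.Projective R A := Module.Flat.projective_of_finitePresentation
  haveI : Module.Finite R (A ⧸ Ideal.span ({1 - e} : Set A)) :=
    Module.Finite.of_surjective (Ideal.Quotient.mkₐ R (Ideal.span ({1 - e} : Set A))).toLinearMap
      (Ideal.Quotient.mkₐ_surjective R _)
  haveI : Module.Projective R (A ⧸ Ideal.span ({1 - e} : Set A)) := projective_quot_idem e he
  have hI : SGA3.IsNormalHopfIdeal R A (Ideal.span ({1 - e} : Set A)) :=
    Groth.Agent.S15063.result R A e he hε
  obtain ⟨hfinC, hprojC⟩ := finite_projective_coinv (R := R) (Ideal.span ({1 - e} : Set A))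
  obtain ⟨φ, hφ⟩ := exists_retraction_coinv (R := R) (Ideal.span ({1 - e} : Set A))
  haveI := hfinC
  haveI := hprojC
  haveI : Module.Flat R
      (Subalgebra.toSubmodule (coinv (R := R) (Ideal.span ({1 - e} : Set A)))) :=
    inferInstanceAs (Module.Flat R (coinv (R := R) (Ideal.span ({1 - e} : Set A))))
  haveI : Module.Projective R
      (A ⧸ Subalgebra.toSubmodule (coinv (R := R) (Ideal.span ({1 - e} : Set A)))) :=
    projective_quot_of_retraction _ φ hφ
  have hHS := isHopfSubalgebra_coinv (Ideal.span ({1 - e} : Set A)) hI
  have heB := idem_mem_coinv (R := R) e he hε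
  have hinj := map_val_injective (coinv (R := R) (Ideal.span ({1 - e} : Set A))) φ hφ
  haveI : Algebra.FormallyUnramified R (coinv (R := R) (Ideal.span ({1 - e} : Set A))) :=
    formallyUnramified_coinv e he hε heB hHS hinj
  haveI : Algebra.FinitePresentation R (coinv (R := R) (Ideal.span ({1 - e} : Set A))) :=
    Algebra.FinitePresentation.of_finiteType.mp inferInstance
  change SGA3.IsHopfSubalgebra R A (coinv (R := R) (Ideal.span ({1 - e} : Set A))) ∧
    Algebra.Etale R (coinv (R := R) (Ideal.span ({1 - e} : Set A))) ∧
    Module.FaithfullyFlat (coinv (R := R) (Ideal.span ({1 - e} : Set A))) A ∧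
    SGA3.augIdealSpan R A (coinv (R := R) (Ideal.span ({1 - e} : Set A))) =
      Ideal.span ({1 - e} : Set A)
  exact ⟨hHS, Algebra.Etale.of_formallyUnramified_of_flat,
    faithfullyFlat_coinv (R := R) (Ideal.span ({1 - e} : Set A)),
    augIdealSpan_coinv_eq (R := R) (Ideal.span ({1 - e} : Set A))⟩

end Groth.Agent.S15061
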