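import Groth.Statements.S15062
import Groth.Agent.Lib.HopfUnitComp61

set_option autoImplicit false
universe u
open scoped TensorProduct
open Hopf

namespace Groth.Agent.S15062

/-- Let R be a henselian Noetherian local ring and A a commutative Hopf algebra over R which is finite
and flat as an R-module (a finite flat R-group G = Spec A, not assumed commutative); let e ∈ A be an
idempotent with ε(e) = 1 such that A/(1 − e) is a local ring, so that G⁰ = Spec A/(1 − e) is the
connected component of the unit section, and let B ⊆ A be the subalgebra of functions invariant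
under right translation by G⁰: the equaliser of a ↦ (id ⊗ π)(Δ a) and a ↦ a ⊗ 1 into A ⊗_R A/(1 − e)
(so Spec B = G^ét). Then: (2) for every commutative Hopf algebra C over R which is finite étale over
R (a finite étale R-group H) and every bialgebra homomorphism φ : C → A (a homomorphism G → H), the
image of φ lies in B — the homomorphism factors (necessarily uniquely, A being faithfully flat over
B) through G → G^ét; (3) for every commutative Hopf algebra D over R which is finite and flat over R
and a local ring (a connected finite flat R-group H) and every bialgebra homomorphism ψ : A → D (a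
homomorphism H → G), ψ(e) = 1, i.e. ψ kills the ideal (1 − e) and the homomorphism factors
(uniquely) through G⁰ → G. -/
theorem result (R : Type u) [CommRing R] [HenselianLocalRing R] [IsNoetherianRing R]
    (A : Type u) [CommRing A] [HopfAlgebra R A] [Module.Finite R A] [Module.Flat R A]
    (e : A) (he : IsIdempotentElem e) (hε : Bialgebra.counitAlgHom R A e = 1)
    [IsLocalRing (A ⧸ Ideal.span ({1 - e} : Set A))] :
    (∀ (C : Type u) [CommRing C] [HopfAlgebra R C] [Module.Finite R C] [Algebra.Etale R C] (φ : C →ₐc[R] A) (c : C),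
        φ c ∈ (AlgHom.equalizer
          ((Algebra.TensorProduct.map (AlgHom.id R A) (Ideal.Quotient.mkₐ R (Ideal.span ({1 - e} : Set A)))).comp
            (Bialgebra.comulAlgHom R A))
          (Algebra.TensorProduct.includeLeft : A →ₐ[R] A ⊗[R] (A ⧸ Ideal.span ({1 - e} : Set A))))) ∧
      ∀ (D : Type u) [CommRing D] [HopfAlgebra R D] [Module.Finite R D] [Module.Flat R D] [IsLocalRing D]
        (ψ : A →ₐc[R] D), ψ e = 1 := by
  classical
  constructor
  · intro C _ _ _ _ φ c
    rw [AlgHom.mem_equalizer]
    set J : Ideal A := Ideal.span ({1 - e} : Set A) with hJ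
    let π : A →ₐ[R] A ⧸ J := Ideal.Quotient.mkₐ R J
    let εQ : (A ⧸ J) →ₐ[R] R := Groth.Agent.Lib.HopfUnitComp61.counitQuot hε
    let θ : C →ₐ[R] A ⧸ J := π.comp (φ : C →ₐ[R] A)
    let θ₀ : C →ₐ[R] A ⧸ J := (Algebra.ofId R (A ⧸ J)).comp (Bialgebra.counitAlgHom R C)
    have hfinQ : Module.Finite R (A ⧸ J) :=
      Module.Finite.of_surjective π.toLinearMap Ideal.Quotient.mk_surjective
    have hnoeth : IsNoetherianRing (A ⧸ J) := IsNoetherianRing.of_finite R (A ⧸ J)
    have hker : ∀ x : A ⧸ J, x - algebraMap R (A ⧸ J) (εQ x) ∈ IsLocalRing.maximalIdeal (A ⧸ J) := by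
      intro x
      have hmem : x - algebraMap R (A ⧸ J) (εQ x) ∈ RingHom.ker (εQ : (A ⧸ J) →+* R) := by
        rw [RingHom.mem_ker, map_sub]
        change εQ x - εQ (algebraMap R (A ⧸ J) (εQ x)) = 0
        rw [AlgHom.commutes]
        simp
      have hne : RingHom.ker (εQ : (A ⧸ J) →+* R) ≠ ⊤ := RingHom.ker_ne_top _
      exact IsLocalRing.le_maximalIdeal hne hmem
    have hθ : θ = θ₀ := by
      apply Algebra.FormallyUnramified.ext_of_iInf (I := IsLocalRing.maximalIdeal (A ⧸ J))
      · exact Ideal.iInf_pow_eq_bot_of_isLocalRing _ (IsLocalRing.maximalIdeal.isMaximal _).ne_top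
      · intro x
        rw [Ideal.Quotient.eq]
        have h1 := hker (θ x)
        have h2 : εQ (θ x) = Bialgebra.counitAlgHom R C x := by
          change Bialgebra.counitAlgHom R A (φ x) = _
          rw [Bialgebra.counitAlgHom_apply, Bialgebra.counitAlgHom_apply]
          exact CoalgHomClass.counit_comp_apply φ x
        rw [h2] at h1
        exact h1
    -- now compute
    change (Algebra.TensorProduct.map (AlgHom.id R A) π) (Bialgebra.comulAlgHom R A (φ c)) =
      Algebra.TensorProduct.includeLeft (φ c)
    have h3 : Bialgebra.comulAlgHom R A (φ c) =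
        Algebra.TensorProduct.map (φ : C →ₐ[R] A) (φ : C →ₐ[R] A) (Bialgebra.comulAlgHom R C c) := by
      change Coalgebra.comul (R := R) (φ c) =
        TensorProduct.map (φ : C →ₗ[R] A) (φ : C →ₗ[R] A) (Coalgebra.comul (R := R) c)
      exact (CoalgHomClass.map_comp_comul_apply φ c).symm
    rw [h3]
    have h4 : ∀ t : C ⊗[R] C, (Algebra.TensorProduct.map (AlgHom.id R A) π)
        (Algebra.TensorProduct.map (φ : C →ₐ[R] A) (φ : C →ₐ[R] A) t) =
        Algebra.TensorProduct.includeLeft (R := R) (S := R) (A := A) (B := A ⧸ J)
          (φ (TensorProduct.rid R C ((LinearMap.lTensor C (Coalgebra.counit (R := R) (A := C))) t))) := by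
      intro t
      induction t using TensorProduct.induction_on with
      | zero => simp
      | add x y hx hy => simp only [map_add, hx, hy]
      | tmul x y =>
        rw [Algebra.TensorProduct.map_tmul, Algebra.TensorProduct.map_tmul, AlgHom.id_apply,
          LinearMap.lTensor_tmul, TensorProduct.rid_tmul, map_smul,
          Algebra.TensorProduct.includeLeft_apply]
        have h5 : π ((φ : C →ₐ[R] A) y) = θ₀ y := by
          rw [← hθ]
          rfl
        rw [h5]
        change (φ x) ⊗ₜ[R] (algebraMap R (A ⧸ J) (Coalgebra.counit (R := R) y)) = _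
        rw [Algebra.algebraMap_eq_smul_one, TensorProduct.tmul_smul, TensorProduct.smul_tmul']
    rw [h4]
    have h6 : Bialgebra.comulAlgHom R C c = Coalgebra.comul (R := R) c := rfl
    rw [h6, Coalgebra.lTensor_counit_comul, TensorProduct.rid_tmul, one_smul]
  · intro D _ _ _ _ _ ψ
    apply Groth.Agent.Lib.HopfUnitComp61.eq_one_of_isIdempotentElem_of_map_eq_one
      ((Bialgebra.counitAlgHom R D : D →ₐ[R] R) : D →+* R)
    · exact he.map ψ
    · change Bialgebra.counitAlgHom R D (ψ e) = 1
      rw [Bialgebra.counitAlgHom_apply, CoalgHomClass.counit_comp_apply ψ e]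
      exact hε

end Groth.Agent.S15062
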