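import Groth.Statements.S15064
import Groth.Agent.Lib.HopfSimple41

set_option autoImplicit false
universe u
open scoped TensorProduct
open Hopf

namespace Groth.Agent.S15064

open Groth.Agent.Lib.HopfSimple41

/-- Let k be a field of characteristic p > 0 and A a finite-dimensional commutative and cocommutative
Hopf algebra over k (a finite commutative k-group G = Spec A) which is bi-infinitesimal — A is a
local ring and so is the dual algebra Hom_k(A, k) with the convolution product (G and its Cartier
dual are connected) — with dim_k A > 1, and assume G is simple: every Hopf ideal of A is either zero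
or the augmentation ideal (G has no closed subgroup schemes other than G and 1). Then G is
isomorphic to α_p: A has a primitive element x (Δ(x) = x ⊗ 1 + 1 ⊗ x) with x^p = 0 whose powers 1,
x, …, x^(p−1) are linearly independent over k, and dim_k A = p (so A = k[x]/(x^p) with x primitive). -/
theorem result (k : Type u) [Field k] (p : ℕ) [Fact p.Prime] [CharP k p]
    (A : Type u) [CommRing A] [HopfAlgebra k A] [Coalgebra.IsCocomm k A] [FiniteDimensional k A] [IsLocalRing A]
    (hdual : IsLocalRing (WithConv (A →ₗ[k] k))) (hA : 1 < Module.finrank k A)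
    (hsimple : ∀ I : Ideal A, I.IsHopfIdeal k → I = ⊥ ∨ I = RingHom.ker (Bialgebra.counitAlgHom k A)) :
    ∃ x : A, Coalgebra.comul x = x ⊗ₜ[k] (1 : A) + (1 : A) ⊗ₜ[k] x ∧ x ^ p = 0 ∧
      LinearIndependent k (fun i : Fin p => x ^ (i : ℕ)) ∧ Module.finrank k A = p := by
  classical
  obtain ⟨x, hx0, hx⟩ := exists_primitive_of_isLocalRing_dual hdual hA
  have hεx := counit_primitive x hx
  have hI : RingHom.ker (Bialgebra.counitAlgHom k A) = Ideal.span {x} := by
    rcases hsimple _ (isHopfIdeal_span_primitive x hx) with h | h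
    · exfalso
      apply hx0
      have hmem : x ∈ Ideal.span ({x} : Set A) := Ideal.subset_span rfl
      rw [h] at hmem
      exact hmem
    · exact h.symm
  have hnt : Nontrivial (A ⊗[k] A) :=
    (Algebra.TensorProduct.lmul' k (S := A)).toRingHom.domain_nontrivial
  have hchar : CharP (A ⊗[k] A) p :=
    charP_of_injective_algebraMap (algebraMap k (A ⊗[k] A)).injective p
  have hpow : ∀ m : ℕ, Coalgebra.comul (R := k) (x ^ m) =
      ∑ i ∈ Finset.range (m + 1), (m.choose i : k) • ((x ^ i) ⊗ₜ[k] (x ^ (m - i))) := by
    intro m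
    change Bialgebra.comulAlgHom k A (x ^ m) = _
    rw [map_pow]
    change (Coalgebra.comul (R := k) x) ^ m = _
    rw [hx, add_pow]
    refine Finset.sum_congr rfl fun i _ => ?_
    rw [Algebra.TensorProduct.tmul_pow, Algebra.TensorProduct.tmul_pow, one_pow, one_pow,
      Algebra.TensorProduct.tmul_mul_tmul, mul_one, one_mul, mul_comm, ← nsmul_eq_mul,
      Nat.cast_smul_eq_nsmul]
  -- x ^ p is primitive
  have hxp : Coalgebra.comul (R := k) (x ^ p) = (x ^ p) ⊗ₜ[k] (1 : A) + (1 : A) ⊗ₜ[k] (x ^ p) := by
    change Bialgebra.comulAlgHom k A (x ^ p) = _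
    rw [map_pow]
    change (Coalgebra.comul (R := k) x) ^ p = _
    rw [hx, add_pow_char, Algebra.TensorProduct.tmul_pow, Algebra.TensorProduct.tmul_pow, one_pow]
  have hxnu : ¬ IsUnit x := by
    intro hu
    have := hu.map (Bialgebra.counitAlgHom k A)
    rw [Bialgebra.counitAlgHom_apply, hεx] at this
    exact not_isUnit_zero this
  have hxp0 : x ^ p = 0 := by
    rcases hsimple _ (isHopfIdeal_span_primitive (x ^ p) hxp) with h | h
    · have hmem : x ^ p ∈ Ideal.span ({x ^ p} : Set A) := Ideal.subset_span rfl
      rw [h] at hmem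
      exact hmem
    · exfalso
      have hmem : x ∈ Ideal.span ({x ^ p} : Set A) := by
        rw [h, RingHom.mem_ker, Bialgebra.counitAlgHom_apply, hεx]
      obtain ⟨c, hc⟩ := Ideal.mem_span_singleton'.1 hmem
      have hp1 : p = (p - 1) + 1 := by have := (Fact.out : p.Prime).pos; omega
      have hu : IsUnit (1 - c * x ^ (p - 1)) := by
        have hnu : ¬ IsUnit (c * x ^ (p - 1)) := by
          intro hu
          have h2 := isUnit_of_mul_isUnit_right hu
          have hp2 : p - 1 ≠ 0 := by have := (Fact.out : p.Prime).two_le; omega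
          exact hxnu ((isUnit_pow_iff hp2).1 h2)
        have := IsLocalRing.isUnit_one_sub_self_of_mem_nonunits _ hnu
        exact this
      have hz : x * (1 - c * x ^ (p - 1)) = 0 := by
        have : c * x ^ p = c * x ^ (p - 1) * x := by
          conv_lhs => rw [hp1, pow_succ]
          ring
        rw [mul_sub, mul_one, mul_comm x, ← this, hc, sub_self]
      exact hx0 ((hu.mul_left_eq_zero).1 hz)
  -- the nilpotency index
  have hex : ∃ m : ℕ, x ^ m = 0 := ⟨p, hxp0⟩
  let m := Nat.find hex
  have hm0 : x ^ m = 0 := Nat.find_spec hex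
  have hmp : m ≤ p := Nat.find_min' hex hxp0
  have hm2 : 2 ≤ m := by
    by_contra hlt
    have hcases : m = 0 ∨ m = 1 := by omega
    rcases hcases with h | h
    · rw [h, pow_zero] at hm0
      exact one_ne_zero hm0
    · rw [h, pow_one] at hm0
      exact hx0 hm0
  have hm1 : x ^ (m - 1) ≠ 0 := fun h => Nat.find_min hex (by omega : m - 1 < m) h
  obtain ⟨d, hd⟩ : ∃ d : A →ₗ[k] k, d (x ^ (m - 1)) ≠ 0 := by
    by_contra hcon
    push Not at hcon
    exact hm1 ((Module.forall_dual_apply_eq_zero_iff k _).1 hcon)
  have hpm : (m : k) = 0 := by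
    have h1 := hpow m
    rw [hm0, map_zero] at h1
    have h2 := congrArg (fun t => x ^ (m - 2) * (TensorProduct.rid k A) ((LinearMap.lTensor A d) t)) h1
    simp only [map_zero, mul_zero, map_sum, map_smul, LinearMap.lTensor_tmul, TensorProduct.rid_tmul,
      Finset.mul_sum] at h2
    rw [Finset.sum_eq_single_of_mem 1 (by simp; omega)] at h2
    · rw [Nat.choose_one_right, pow_one, mul_smul_comm, mul_smul_comm, ← pow_succ] at h2
      have h3 : m - 2 + 1 = m - 1 := by omega
      rw [h3, smul_smul] at h2
      rcases smul_eq_zero.1 h2.symm with h4 | h4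
      · rcases mul_eq_zero.1 h4 with h5 | h5
        · exact h5
        · exact absurd h5 hd
      · exact absurd h4 hm1
    · intro i hi hi1
      rcases Nat.lt_or_ge i 1 with h | h
      · have hi0 : i = 0 := by omega
        subst hi0
        rw [Nat.sub_zero, hm0, map_zero, zero_smul, smul_zero, mul_zero]
      · have h2 : m ≤ m - 2 + i := by omega
        rw [mul_smul_comm, mul_smul_comm, ← pow_add, pow_eq_zero_of_le h2 hm0, smul_zero, smul_zero]
  have hdvd : p ∣ m := (CharP.cast_eq_zero_iff k p m).1 hpm
  have hmeq : m = p := le_antisymm hmp (Nat.le_of_dvd (by omega) hdvd)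
  rw [hmeq] at hm1
  have hli := linearIndependent_pow_of_nilpotent (k := k) x p hxp0 hm1
  exact ⟨x, hx, hxp0, hli, finrank_eq_of_span_pow x p hxp0 hI hli⟩

end Groth.Agent.S15064
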