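import Groth.Statements.S15065
import Groth.Agent.Lib.FinEtaleHopf41
import Mathlib.GroupTheory.SpecificGroups.Cyclic

set_option autoImplicit false
universe u
open Hopf

namespace Groth.Agent.S15065

open Groth.Agent.Lib.FinEtaleHopf41 Groth.Agent.Lib.HopfPoints

/-- Let k be an algebraically closed field and A a finite-dimensional commutative and cocommutative Hopf
algebra over k which is reduced (a finite étale commutative k-group G = Spec A), with dim_k A > 1,
and assume G is simple: every Hopf ideal of A is either zero or the augmentation ideal (no closed
subgroup schemes other than G and 1). Then the order dim_k A is a prime number ℓ, so that G is the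
constant group ℤ/ℓℤ. (The published statement lists the simple finite commutative groups over an
algebraically closed field of characteristic p > 0; the étale case does not use the characteristic
and is stated here for any algebraically closed field.) -/
theorem result (k : Type u) [Field k] [IsAlgClosed k] (A : Type u) [CommRing A] [HopfAlgebra k A]
    [Coalgebra.IsCocomm k A] [FiniteDimensional k A] [IsReduced A] (hA : 1 < Module.finrank k A)
    (hsimple : ∀ I : Ideal A, I.IsHopfIdeal k → I = ⊥ ∨ I = RingHom.ker (Bialgebra.counitAlgHom k A)) :
    (Module.finrank k A).Prime := by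
  classical
  have hfin : Finite (A →ₐ[k] k) := finite_points k A
  have : Fintype (A →ₐ[k] k) := Fintype.ofFinite _
  let G := WithConv (A →ₐ[k] k)
  have hfinG : Finite G := Finite.of_equiv _ (WithConv.equiv (A →ₐ[k] k)).symm
  -- dimension count
  let e : A ≃ₗ[k] ((A →ₐ[k] k) → k) :=
    LinearEquiv.ofBijective (evPts k A).toLinearMap ⟨evPts_injective k A, evPts_surjective k A⟩
  have hcard : Module.finrank k A = Nat.card G := by
    rw [e.finrank_eq, Module.finrank_fintype_fun_eq_card, ← Nat.card_eq_fintype_card]
    exact Nat.card_congr (WithConv.equiv (A →ₐ[k] k)).symm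
  -- subgroups are trivial
  have hsub : ∀ H : Subgroup G, H = ⊥ ∨ H = ⊤ := by
    intro H
    rcases hsimple _ (isHopfIdeal_iInf_ker H) with h | h
    · right
      rw [Subgroup.eq_top_iff']
      intro g
      by_contra hg
      -- a function vanishing on H but not at g
      obtain ⟨a, ha⟩ := evPts_surjective k A (fun χ => if WithConv.toConv χ ∈ H then 0 else 1)
      have ha0 : a ∈ (⨅ g ∈ H, RingHom.ker (WithConv.ofConv g : A →ₐ[k] k)) := by
        simp only [Ideal.mem_iInf, RingHom.mem_ker]
        intro g' hg'
        have := congrFun ha g'.ofConv
        rw [evPts_apply] at this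
        rw [this]
        simp [hg']
      rw [h, Ideal.mem_bot] at ha0
      have := congrFun ha g.ofConv
      rw [evPts_apply, ha0, map_zero] at this
      simp [hg] at this
    · left
      rw [Subgroup.eq_bot_iff_forall]
      intro g hg
      have hle : RingHom.ker (Bialgebra.counitAlgHom k A) ≤
          RingHom.ker (WithConv.ofConv g : A →ₐ[k] k) := by
        rw [← h]
        exact iInf₂_le g hg
      apply WithConv.ofConv_injective
      apply AlgHom.ext
      intro a
      have hmem : a - algebraMap k A (CoalgebraStruct.counit (R := k) a) ∈
          RingHom.ker (Bialgebra.counitAlgHom k A) := by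
        rw [RingHom.mem_ker, map_sub, Bialgebra.counitAlgHom_apply, AlgHom.commutes]
        simp
      have := hle hmem
      rw [RingHom.mem_ker, map_sub, AlgHom.commutes, sub_eq_zero] at this
      rw [this]
      simp
  have hnt : Nontrivial G := by
    rw [← Finite.one_lt_card_iff_nontrivial, ← hcard]
    exact hA
  have hsimpleG : IsSimpleGroup G := by
    refine ⟨fun H _ => hsub H⟩
  rw [hcard]
  exact IsSimpleGroup.prime_card

end Groth.Agent.S15065
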