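import Groth.Statements.S15066
import Groth.Agent.Lib.HopfSimple41b

set_option autoImplicit false
universe u
open Hopf

namespace Groth.Agent.S15066

open Groth.Agent.Lib.HopfSimple41

/-- Let k be an algebraically closed field of characteristic p > 0 and A a finite-dimensional
commutative and cocommutative Hopf algebra over k (a finite commutative k-group G = Spec A) which is
a local ring (G connected) and whose dual algebra Hom_k(A, k) with the convolution product is
reduced (the Cartier dual of G is étale, i.e. G is multiplicative), with dim_k A > 1, and assume G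
is simple: every Hopf ideal of A is either zero or the augmentation ideal (no closed subgroup
schemes other than G and 1). Then G is isomorphic to μ_p: A has a group-like element g (Δ(g) = g ⊗
g, ε(g) = 1) with g^p = 1 whose powers 1, g, …, g^(p−1) are linearly independent over k, and dim_k A
= p (so A = k[g]/(g^p − 1)). -/
theorem result (k : Type u) [Field k] [IsAlgClosed k] (p : ℕ) [Fact p.Prime]
    [CharP k p] (A : Type u) [CommRing A] [HopfAlgebra k A] [Coalgebra.IsCocomm k A] [FiniteDimensional k A]
    [IsLocalRing A] (hdual : IsReduced (WithConv (A →ₗ[k] k))) (hA : 1 < Module.finrank k A)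
    (hsimple : ∀ I : Ideal A, I.IsHopfIdeal k → I = ⊥ ∨ I = RingHom.ker (Bialgebra.counitAlgHom k A)) :
    ∃ g : A, IsGroupLikeElem k g ∧ g ^ p = 1 ∧ LinearIndependent k (fun i : Fin p => g ^ (i : ℕ)) ∧
      Module.finrank k A = p := by
  classical
  obtain ⟨g, hg, hg1⟩ := exists_groupLike_ne_one_of_isReduced_dual hdual hA
  have hp : p.Prime := Fact.out
  set y : A := g - 1 with hy
  have hy0 : y ≠ 0 := fun h => hg1 (sub_eq_zero.1 h)
  have hεy : CoalgebraStruct.counit (R := k) y = 0 := by
    rw [hy, map_sub, hg.counit_eq_one, Bialgebra.counit_one, sub_self]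
  have hI : RingHom.ker (Bialgebra.counitAlgHom k A) = Ideal.span {y} := by
    rcases hsimple _ (isHopfIdeal_span_groupLike_sub_one g hg) with h | h
    · exfalso
      apply hy0
      have hmem : y ∈ Ideal.span ({g - 1} : Set A) := Ideal.subset_span rfl
      rw [h] at hmem
      exact hmem
    · exact h.symm
  have hcharA : CharP A p := charP_of_injective_algebraMap (algebraMap k A).injective p
  have hyp : g ^ p - 1 = y ^ p := by
    rw [hy, sub_pow_char, one_pow]
  have hynu : ¬ IsUnit y := by
    intro hu
    have := hu.map (Bialgebra.counitAlgHom k A)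
    rw [Bialgebra.counitAlgHom_apply, hεy] at this
    exact not_isUnit_zero this
  have hyp0 : y ^ p = 0 := by
    rcases hsimple _ (isHopfIdeal_span_groupLike_sub_one (g ^ p) hg.pow) with h | h
    · have hmem : g ^ p - 1 ∈ Ideal.span ({g ^ p - 1} : Set A) := Ideal.subset_span rfl
      rw [h] at hmem
      rw [← hyp]
      exact hmem
    · exfalso
      have hmem : y ∈ Ideal.span ({g ^ p - 1} : Set A) := by
        rw [h, RingHom.mem_ker, Bialgebra.counitAlgHom_apply, hεy]
      rw [hyp] at hmem
      obtain ⟨c, hc⟩ := Ideal.mem_span_singleton'.1 hmem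
      have hp1 : p = (p - 1) + 1 := by have := hp.pos; omega
      have hu : IsUnit (1 - c * y ^ (p - 1)) := by
        have hnu : ¬ IsUnit (c * y ^ (p - 1)) := by
          intro hu
          have h2 := isUnit_of_mul_isUnit_right hu
          have hp2 : p - 1 ≠ 0 := by have := hp.two_le; omega
          exact hynu ((isUnit_pow_iff hp2).1 h2)
        exact IsLocalRing.isUnit_one_sub_self_of_mem_nonunits _ hnu
      have hz : y * (1 - c * y ^ (p - 1)) = 0 := by
        have : c * y ^ p = c * y ^ (p - 1) * y := by
          conv_lhs => rw [hp1, pow_succ]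
          ring
        rw [mul_sub, mul_one, mul_comm y, ← this, hc, sub_self]
      exact hy0 ((hu.mul_left_eq_zero).1 hz)
  have hgp : g ^ p = 1 := by
    rw [← sub_eq_zero, hyp, hyp0]
  -- linear independence of the powers of g
  let γ : GroupLike k A := ⟨g, hg⟩
  have hγp : γ ^ p = 1 := by
    apply GroupLike.val_injective
    rw [GroupLike.val_pow, GroupLike.val_one]
    exact hgp
  have hγ1 : γ ≠ 1 := by
    intro h
    apply hg1
    have := congrArg GroupLike.val h
    exact this
  have hord : orderOf γ = p := by
    have hdvd : orderOf γ ∣ p := orderOf_dvd_of_pow_eq_one hγp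
    rcases (Nat.dvd_prime hp).1 hdvd with h | h
    · exact absurd (orderOf_eq_one_iff.1 h) hγ1
    · exact h
  have hinj : Function.Injective (fun i : Fin p => γ ^ (i : ℕ)) := by
    intro i j hij
    apply Fin.ext
    apply pow_injOn_Iio_orderOf (x := γ)
    · rw [hord]; exact i.2
    · rw [hord]; exact j.2
    · exact hij
  have hli : LinearIndependent k (fun i : Fin p => g ^ (i : ℕ)) := by
    have := (linearIndep_groupLikeVal (R := k) (A := A)).comp _ hinj
    exact this
  refine ⟨g, hg, hgp, hli, ?_⟩
  have hsp := span_pow_eq_top (k := k) y p hyp0 hI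
  apply le_antisymm
  · have h1 := finrank_range_le_card (R := k) (fun i : Fin p => y ^ (i : ℕ))
    rw [Set.finrank, hsp, finrank_top, Fintype.card_fin] at h1
    exact h1
  · have := hli.fintype_card_le_finrank
    rwa [Fintype.card_fin] at this

end Groth.Agent.S15066
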