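import Groth.Statements.S15068
import Groth.Agent.Lib.HopfExtension61b

set_option autoImplicit false
universe u
open scoped TensorProduct
open Hopf

namespace Groth.Agent.S15068

/-- Let R be a henselian Noetherian local ring, A and A'' commutative Hopf algebras over R which are
finite and flat as R-modules, and A'' → A an R-algebra homomorphism compatible with
comultiplications and counits making A faithfully flat over A'' (a faithfully flat homomorphism π :
G → G'' of finite flat R-groups); let J ⊆ A be the ideal generated by the image of the augmentation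
ideal of A'' (G' = Spec A/J = ker π, so 1 → G' → G → G'' → 1 is exact). Assume A'' is a local ring
(G'' connected) and A/J is étale over R (G' finite étale), and let e ∈ A be an idempotent with ε(e)
= 1 such that A/(1 − e) is local (G⁰ = Spec A/(1 − e), the unit component of G). Then the composite
A'' → A → A/(1 − e) is bijective: the restriction G⁰ → G'' of π is an isomorphism, whose inverse
splits the extension, G ≅ G' × G''. -/
theorem result (R : Type u) [CommRing R] [HenselianLocalRing R]
    [IsNoetherianRing R] (A A'' : Type u) [CommRing A] [HopfAlgebra R A] [Module.Finite R A] [Module.Flat R A]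
    [CommRing A''] [HopfAlgebra R A''] [Module.Finite R A''] [Module.Flat R A'']
    [Algebra A'' A] [IsScalarTower R A'' A] [Module.FaithfullyFlat A'' A]
    (hΔ : (Bialgebra.comulAlgHom R A).comp (IsScalarTower.toAlgHom R A'' A) =
      (Algebra.TensorProduct.map (IsScalarTower.toAlgHom R A'' A) (IsScalarTower.toAlgHom R A'' A)).comp
        (Bialgebra.comulAlgHom R A''))
    (hε : (Bialgebra.counitAlgHom R A).comp (IsScalarTower.toAlgHom R A'' A) = Bialgebra.counitAlgHom R A'')
    [IsLocalRing A''] [Algebra.Etale R (A ⧸ (RingHom.ker (Bialgebra.counitAlgHom R A'')).map (algebraMap A'' A))]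
    (e : A) (he : IsIdempotentElem e) (heε : Bialgebra.counitAlgHom R A e = 1)
    [IsLocalRing (A ⧸ Ideal.span ({1 - e} : Set A))] :
    Function.Bijective ((Ideal.Quotient.mkₐ R (Ideal.span ({1 - e} : Set A))).comp (IsScalarTower.toAlgHom R A'' A)) := by
  classical
  set I := Ideal.span ({1 - e} : Set A) with hI
  set J := (RingHom.ker (Bialgebra.counitAlgHom R A'')).map (algebraMap A'' A) with hJ
  -- finiteness
  have hfinA : Module.Finite A'' A := Module.Finite.of_restrictScalars_finite R A'' A
  have hfin0R : Module.Finite R (A ⧸ I) :=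
    Module.Finite.of_surjective (Ideal.Quotient.mkₐ R I).toLinearMap Ideal.Quotient.mk_surjective
  have hfin0 : Module.Finite A'' (A ⧸ I) :=
    Module.Finite.of_surjective (Ideal.Quotient.mkₐ A'' I).toLinearMap Ideal.Quotient.mk_surjective
  -- flatness
  have hloc : IsLocalization.Away e (A ⧸ I) := IsLocalization.Away.quotient_of_isIdempotentElem he
  have hfl1 : Module.Flat A (A ⧸ I) := IsLocalization.flat _ (Submonoid.powers e)
  have hfl2 : Module.Flat A'' (A ⧸ I) := Module.Flat.trans A'' A _
  have hlocal : IsLocalHom (algebraMap A'' (A ⧸ I)) :=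
    Groth.Agent.Lib.HenselTransfer22.isLocalHom_of_isIntegral
  have hff : Module.FaithfullyFlat A'' (A ⧸ I) := Module.FaithfullyFlat.of_flat_of_isLocalHom
  have hfun : ⇑((Ideal.Quotient.mkₐ R I).comp (IsScalarTower.toAlgHom R A'' A)) =
      ⇑(algebraMap A'' (A ⧸ I)) := rfl
  rw [hfun]
  refine ⟨FaithfulSMul.algebraMap_injective A'' (A ⧸ I), ?_⟩
  -- the counit kills `J` and `I`
  have hJε : J ≤ RingHom.ker ((Bialgebra.counitAlgHom R A : A →ₐ[R] R) : A →+* R) := by
    rw [hJ, Ideal.map_le_iff_le_comap]
    intro x hx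
    rw [Ideal.mem_comap, RingHom.mem_ker]
    have := AlgHom.congr_fun hε x
    change Bialgebra.counitAlgHom R A (algebraMap A'' A x) = Bialgebra.counitAlgHom R A'' x at this
    change Bialgebra.counitAlgHom R A (algebraMap A'' A x) = 0
    rw [this]
    exact hx
  have hIε : I ≤ RingHom.ker ((Bialgebra.counitAlgHom R A : A →ₐ[R] R) : A →+* R) := by
    rw [hI, Ideal.span_le]
    intro x hx
    rw [Set.mem_singleton_iff] at hx
    subst hx
    change Bialgebra.counitAlgHom R A (1 - e) = 0
    rw [map_sub, map_one, heε, sub_self]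
  have hK : J ⊔ I ≤ RingHom.ker ((Bialgebra.counitAlgHom R A : A →ₐ[R] R) : A →+* R) :=
    sup_le hJε hIε
  -- the unit component of the kernel
  have hnt : Nontrivial (A ⧸ (J ⊔ I)) :=
    Ideal.Quotient.nontrivial_iff.2 (fun h => RingHom.ker_ne_top _ (top_le_iff.1 (h ▸ hK)))
  have hlocB : IsLocalRing (A ⧸ (J ⊔ I)) :=
    IsLocalRing.of_surjective' (Ideal.Quotient.factor (le_sup_right : I ≤ J ⊔ I))
      (Ideal.Quotient.factor_surjective _)
  have hfinB : Module.Finite R (A ⧸ (J ⊔ I)) :=
    Module.Finite.of_surjective (Ideal.Quotient.mkₐ R (J ⊔ I)).toLinearMap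
      Ideal.Quotient.mk_surjective
  have hnoethB : IsNoetherianRing (A ⧸ (J ⊔ I)) := IsNoetherianRing.of_finite R _
  have hunrB : Algebra.FormallyUnramified R (A ⧸ (J ⊔ I)) :=
    Algebra.FormallyUnramified.of_surjective
      (Ideal.Quotient.factorₐ R (le_sup_left : J ≤ J ⊔ I))
      (Ideal.Quotient.factor_surjective (le_sup_left : J ≤ J ⊔ I))
  let s : (A ⧸ (J ⊔ I)) →ₐ[R] R :=
    Ideal.Quotient.liftₐ (J ⊔ I) (Bialgebra.counitAlgHom R A) (fun a ha => hK ha)
  have key : ∀ a : A, a - algebraMap R A (Bialgebra.counitAlgHom R A a) ∈ J ⊔ I := by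
    intro a
    have h1 := Groth.Agent.Lib.HopfExtension61.eq_algebraMap_of_formallyUnramified_of_isLocalRing
      s (Ideal.Quotient.mk (J ⊔ I) a)
    rw [← Ideal.Quotient.eq_zero_iff_mem, map_sub, sub_eq_zero]
    rw [h1]
    rfl
  -- Nakayama
  have hNak : (⊤ : Submodule A'' (A ⧸ I)) ≤ LinearMap.range (Algebra.linearMap A'' (A ⧸ I)) := by
    apply Submodule.le_of_le_smul_of_le_jacobson_bot (I := IsLocalRing.maximalIdeal A'')
      Module.Finite.fg_top
    · rw [IsLocalRing.jacobson_eq_maximalIdeal ⊥ bot_ne_top]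
    · intro x _
      obtain ⟨a, rfl⟩ := Ideal.Quotient.mk_surjective x
      obtain ⟨j, hj, z, hz, hjz⟩ := Submodule.mem_sup.1 (key a)
      have hdecomp : Ideal.Quotient.mk I a =
          algebraMap A'' (A ⧸ I) (algebraMap R A'' (Bialgebra.counitAlgHom R A a)) +
            Ideal.Quotient.mk I j := by
        have h2 : a = algebraMap R A (Bialgebra.counitAlgHom R A a) + (j + z) := by
          rw [hjz]; ring
        conv_lhs => rw [h2]
        rw [map_add, map_add, Ideal.Quotient.eq_zero_iff_mem.2 hz, add_zero,
          IsScalarTower.algebraMap_apply R A'' A]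
        rfl
      rw [hdecomp]
      refine Submodule.add_mem_sup (LinearMap.mem_range_self _ _) ?_
      rw [Ideal.smul_top_eq_map]
      change Ideal.Quotient.mk I j ∈ (IsLocalRing.maximalIdeal A'').map (algebraMap A'' (A ⧸ I))
      have hle : J.map (Ideal.Quotient.mk I) ≤
          (IsLocalRing.maximalIdeal A'').map (algebraMap A'' (A ⧸ I)) := by
        rw [hJ, Ideal.map_map]
        exact Ideal.map_mono (IsLocalRing.le_maximalIdeal (RingHom.ker_ne_top _))
      exact hle (Ideal.mem_map_of_mem _ hj)
  intro x
  obtain ⟨c, hc⟩ := hNak (Submodule.mem_top : x ∈ ⊤)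
  exact ⟨c, hc⟩

end Groth.Agent.S15068
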