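import Groth.Statements.S1507
import Groth.Agent.Lib.FlatFPPerfect
import Groth.Agent.Lib.DRingPCoh21
import Groth.Agent.Lib.PCohD2
import Groth.Agent.S5599

set_option autoImplicit false
universe u
attribute [local instance] HasDerivedCategory.standard
open FlatMor

namespace Groth.Agent.S1507

/-- Let A → B be flat and of finite presentation and I an ideal of B. Then A → B/I is a pseudo-coherent
ring map if and only if I is a pseudo-coherent B-module. -/
theorem result {A B : Type u} [CommRing A] [CommRing B] [Algebra A B] [Module.Flat A B] [Algebra.FinitePresentation A B] (I : Ideal B) :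
    MoreMor.IsPseudoCoherentHom A (B ⧸ I) ↔ DRing.IsPseudoCoherentModule' B ↥I := by
  have hAB := Groth.Agent.Lib.FlatFPPerfect.isPseudoCoherentHom_of_flat_of_finitePresentation A B
  have hBB : DRing.IsPseudoCoherentModule' B B :=
    (Groth.Agent.Lib.PCohHomLocal.pcHom_iff_module_of_finite (A := B) (B := B)).1
      (Groth.Agent.Lib.PCohHomLocal.pcHom_self B)
  have h1 : MoreMor.IsPseudoCoherentHom A (B ⧸ I) ↔ DRing.IsPseudoCoherentModule' B (B ⧸ I) := by
    rw [← Groth.Agent.Lib.PCohHomLocal.pcHom_iff_module_of_finite]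
    exact ⟨fun h => Groth.Agent.Lib.PCohHomLocal.pcHom_cancel hAB h,
      fun h => Groth.Agent.Lib.PCohHomLocal.pcHom_comp hAB h⟩
  rw [h1]
  have h23 : Groth.Agent.Lib.PCohD.TwoOfThree (Groth.Agent.Lib.DRingPCoh21.FF B) := fun n T hT =>
    Groth.Agent.S5599.result (Groth.Agent.Lib.DRingPCoh21.FF B)
      (Groth.Agent.Lib.DRingPCoh21.ff_prod B) (Groth.Agent.Lib.DRingPCoh21.fp_quasiStable B)
      (Groth.Agent.Lib.DRingPCoh21.ff_quasiLiftable B) n T hT
  let S : CategoryTheory.ShortComplex (ModuleCat.{u} B) :=
    CategoryTheory.ShortComplex.mk (ModuleCat.ofHom I.subtype)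
      (ModuleCat.ofHom (Ideal.Quotient.mkₐ B I).toLinearMap)
      (ModuleCat.hom_ext (LinearMap.ext fun x => by
        show Ideal.Quotient.mk I (x : B) = 0
        exact Ideal.Quotient.eq_zero_iff_mem.2 x.2))
  have hS : S.ShortExact :=
    { exact := (CategoryTheory.ShortComplex.ShortExact.moduleCat_exact_iff_function_exact S).2 (by
        intro b
        show Ideal.Quotient.mk I b = 0 ↔ b ∈ Set.range I.subtype
        rw [Ideal.Quotient.eq_zero_iff_mem]
        simp)
      mono_f := (ModuleCat.mono_iff_injective _).2 I.injective_subtype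
      epi_g := (ModuleCat.epi_iff_surjective _).2 Ideal.Quotient.mk_surjective }
  have hT := hS.singleTriangle_distinguished
  unfold DRing.IsPseudoCoherentModule' at hBB ⊢
  rw [Groth.Agent.Lib.DRingPCoh21.isPseudoCoherent'_iff_forall] at hBB ⊢
  rw [Groth.Agent.Lib.DRingPCoh21.isPseudoCoherent'_iff_forall]
  simp only [Groth.Agent.Lib.DRingPCoh21.isPseudoCoherent_iff] at hBB ⊢
  constructor
  · intro h m
    have := Groth.Agent.Lib.PCohD.fiber h23 hS.singleTriangle hT (n := m - 1)
      (by rw [sub_add_cancel]; exact hBB m) (h (m - 1))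
    rw [sub_add_cancel] at this
    exact this
  · intro h m
    exact Groth.Agent.Lib.PCohD.cone h23 hS.singleTriangle hT (h (m + 1)) (hBB m)

end Groth.Agent.S1507
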