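import Groth.Statements.S15070
import Groth.Agent.Lib.H87Reflexive
import Groth.Agent.Lib.LocFreeFP
import Groth.Agent.Lib.HomSh53c
import Groth.Agent.Lib.H90OXModExact
import Groth.Agent.Lib.H90InvertibleFP
import Groth.Agent.Lib.SmoothStalkRegular45
import Groth.Agent.Lib.RegularNormal
import Groth.Agent.Lib.FibreFreeSch88

set_option autoImplicit false
universe u
open CategoryTheory CategoryTheory.Limits AlgebraicGeometry
open OrdSurf

namespace Groth.Agent.S15070

open Groth.Agent.Lib Groth.Agent.Lib.H47Reflexive IsLocalRing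

section algebra

variable {R : Type u} [CommRing R]

theorem tf_of_free {I : Ideal R} (h : TF I R) (F : Type u) [AddCommGroup F] [Module R F]
    [Module.Free R F] : TF I F := by
  intro m hm
  let b := Module.Free.chooseBasis R F
  apply b.repr.injective
  rw [map_zero]
  ext i
  rw [Finsupp.zero_apply]
  apply h
  intro a ha
  rw [smul_eq_mul, ← smul_eq_mul, ← Finsupp.smul_apply, ← map_smul, hm a ha, map_zero,
    Finsupp.zero_apply]

theorem e1_of_free {I : Ideal R} (h : E1 I R) (F : Type u) [AddCommGroup F] [Module R F]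
    [Module.Free R F] [Module.Finite R F] : E1 I F := by
  intro φ
  let b := Module.Free.chooseBasis R F
  have hex : ∀ i, ∃ r : R, ∀ a : I, (b.coord i) (φ a) = (a : R) • r := fun i =>
    h ((b.coord i).comp φ)
  choose r hr using hex
  refine ⟨∑ i, r i • b i, fun a => ?_⟩
  apply b.repr.injective
  ext i
  rw [map_smul, map_sum, Finsupp.smul_apply, Finsupp.finsetSum_apply]
  have h1 : ∀ j, (b.repr (r j • b j)) i = if j = i then r j else 0 := by
    intro j
    rw [map_smul, Finsupp.smul_apply, Module.Basis.repr_self, Finsupp.single_apply, smul_eq_mul]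
    split_ifs <;> simp
  simp_rw [h1]
  rw [Finset.sum_ite_eq' Finset.univ i]
  simp only [Finset.mem_univ, if_true]
  exact hr i a

theorem tf_of_isTorsionFree [IsDomain R] {I : Ideal R} (h : TF I R) (N : Type u) [AddCommGroup N]
    [Module R N] [Module.IsTorsionFree R N] : TF I N := by
  obtain ⟨a, haI, ha0⟩ : ∃ a ∈ I, a ≠ 0 := by
    by_contra hcon
    push Not at hcon
    have : (1 : R) = 0 := h 1 (fun a ha => by rw [hcon a ha, zero_smul])
    exact one_ne_zero this
  intro n hn
  have hreg : IsRegular a := IsRegular.of_ne_zero ha0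
  have h1 : a • n = a • (0 : N) := by rw [hn a haI, smul_zero]
  exact (Module.IsTorsionFree.isSMulRegular hreg) h1

theorem e1_ker {I : Ideal R} {F N : Type u} [AddCommGroup F] [Module R F] [AddCommGroup N]
    [Module R N] (π : F →ₗ[R] N) (hN : TF I N) (hF : E1 I F) : E1 I (LinearMap.ker π) := by
  intro φ
  obtain ⟨f₀, hf₀⟩ := hF ((LinearMap.ker π).subtype.comp φ)
  have hmem : f₀ ∈ LinearMap.ker π := by
    rw [LinearMap.mem_ker]
    apply hN
    intro a ha
    rw [← map_smul]
    have := hf₀ ⟨a, ha⟩
    rw [LinearMap.comp_apply, Submodule.subtype_apply] at this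
    rw [← this]
    exact (φ ⟨a, ha⟩).2
  refine ⟨⟨f₀, hmem⟩, fun a => ?_⟩
  apply Subtype.ext
  exact hf₀ a

/-- Over a regular local ring of dimension at most two, the kernel of a linear map from a finite
free module to a torsion-free module is free. -/
theorem free_ker [IsRegularLocalRing R] (hdim : ringKrullDim R ≤ 2) (F N : Type u)
    [AddCommGroup F] [Module R F] [Module.Free R F] [Module.Finite R F] [AddCommGroup N]
    [Module R N] [Module.IsTorsionFree R N] (π : F →ₗ[R] N) :
    Module.Free R (LinearMap.ker π) := by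
  haveI hdom : IsDomain R := RegularLocal.isDomain R
  haveI : IsNoetherian R F := isNoetherian_of_isNoetherianRing_of_finite R F
  haveI : Module.Finite R (LinearMap.ker π) := Module.Finite.of_injective
    (LinearMap.ker π).subtype (Submodule.injective_subtype _)
  have hd : ringKrullDim R = ((maximalIdeal R).spanFinrank : ℕ) :=
    IsRegularLocalRing.spanFinrank_maximalIdeal.symm
  have hpd := H87GlDim2.hasProjectiveDimensionLT_of_isRegularLocalRing (A := R) _ hd
    (ModuleCat.of R (LinearMap.ker π))
  apply H87Reflexive.free_of_depth_le (LinearMap.ker π) _ hpd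
  have hR : LocCoh.depth R R ≤ 2 := by
    have h := H87AB.depth_self_of_isRegularLocalRing R
    rw [← h] at hdim
    have h2 : ((LocCoh.depth R R : ℕ∞) : WithBot ℕ∞) ≤ ((2 : ℕ∞) : WithBot ℕ∞) := hdim
    exact WithBot.coe_le_coe.mp h2
  unfold LocCoh.depth at hR ⊢
  set I := maximalIdeal R
  have h1 : 1 ≤ LocCoh.idealDepth I R → 1 ≤ LocCoh.idealDepth I (LinearMap.ker π) := by
    intro h
    rw [one_le_idealDepth_iff] at h ⊢
    exact (tf_of_free h F).of_injective (LinearMap.ker π).subtype (Submodule.injective_subtype _)
  have h2 : 2 ≤ LocCoh.idealDepth I R → 2 ≤ LocCoh.idealDepth I (LinearMap.ker π) := by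
    intro h
    rw [two_le_idealDepth_iff] at h ⊢
    exact ⟨(tf_of_free h.1 F).of_injective (LinearMap.ker π).subtype
      (Submodule.injective_subtype _),
      e1_ker π (tf_of_isTorsionFree h.1 N) (e1_of_free h.2 F)⟩
  have hcases : LocCoh.idealDepth I R = 0 ∨ LocCoh.idealDepth I R = 1 ∨
      LocCoh.idealDepth I R = 2 := by
    generalize LocCoh.idealDepth I R = d at hR
    have hne : d ≠ ⊤ := fun h => by rw [h] at hR; simp at hR
    obtain ⟨k, rfl⟩ := ENat.ne_top_iff_exists.mp hne
    have : k ≤ 2 := by exact_mod_cast hR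
    interval_cases k <;> simp
  rcases hcases with h | h | h
  · rw [h]; exact zero_le
  · rw [h]; exact h1 h.ge
  · rw [h]; exact h2 h.ge

end algebra

theorem coheight_le_topologicalKrullDim (X : Scheme.{u}) (x : X) :
    (Order.coheight x : WithBot ℕ∞) ≤ topologicalKrullDim X := by
  unfold topologicalKrullDim
  let _ := specializationOrder X
  have h1 : Order.krullDim (TopologicalSpace.IrreducibleCloseds X) = Order.krullDim X :=
    Order.krullDim_eq_of_orderIso irreducibleSetEquivPoints
  rw [h1]
  exact Order.coheight_le_krullDim x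


/-- Let k be an algebraically closed field of characteristic zero and X a smooth projective surface over
k (an integral k-scheme, smooth over k, of dimension two, admitting a closed immersion over k into
some projective space P^n_k). Let N be a coherent O_X-module all of whose stalks are torsion-free
modules over the local rings, M a finite locally free O_X-module and φ : M → N an epimorphism of
O_X-modules. Then the kernel of φ is a finite locally free O_X-module. -/
theorem result (k : Type u) [Field k] [IsAlgClosed k] [CharZero k]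
    (X : Scheme.{u}) [X.Over (Spec (CommRingCat.of k))] [IsIntegral X]
    [Smooth (X ↘ Spec (CommRingCat.of k))] (hdim : topologicalKrullDim X = 2)
    (hproj : ∃ (n : ℕ) (ι : X ⟶ CohB1.ProjSpace n k), IsClosedImmersion ι ∧
      ι ≫ CohB1.ProjSpace.toSpec n k = X ↘ Spec (CommRingCat.of k))
    (N : X.Modules) (hN : Coh.IsCoh N) (hNtf : TorSh.IsTorsionFree N)
    (M : X.Modules) (hM : FlatMod.IsFinLocFree M) (φ : M ⟶ N) [Epi φ] :
    FlatMod.IsFinLocFree (kernel φ) := by
  haveI : IsLocallyNoetherian X :=
    LocallyOfFiniteType.isLocallyNoetherian (X ↘ Spec (CommRingCat.of k))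
  have hMc : Coh.IsCoh M := H90Invertible.isCoh_of_isFinLocFree hM
  haveI : N.IsQuasicoherent := hN.1
  have hKc : Coh.IsCoh (kernel φ) := H90OXModExact.isCoh_kernel φ hMc
  have hKfp : CohB1.IsFP (kernel φ) := HomSh53.isFP_of_isCoh hKc
  have hMfp : CohB1.IsFP M := HomSh53.isFP_of_isCoh hMc
  apply LocFreeFP.isFinLocFree_of_isFP_of_free _ hKfp
  intro x
  haveI hreg : IsRegularLocalRing (X.presheaf.stalk x) :=
    SmoothStalkRegular45.isRegularLocalRing_stalk_of_smooth_field k
      (X ↘ Spec (CommRingCat.of k)) x
  have hd2 : ringKrullDim (X.presheaf.stalk x) ≤ 2 := by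
    rw [ringKrullDim_stalk_eq_coheight]
    exact (coheight_le_topologicalKrullDim X x).trans hdim.le
  haveI := LocFreeFP.free_stalk_of_isFinLocFree hM x
  haveI := FibreFreeSch88.finitePresentation_stalk_of_isFP M hMfp x
  haveI : Module.Finite (X.presheaf.stalk x) (M.presheaf.stalk x) := inferInstance
  haveI := hNtf x
  have hfree := free_ker hd2 (M.presheaf.stalk x) (N.presheaf.stalk x)
    (ModStalkLin.stalkLin φ x)
  -- identify the stalk of the kernel with the kernel of the stalk map
  have hex : Function.Exact (ModStalkLin.stalkLin (kernel.ι φ) x) (ModStalkLin.stalkLin φ x) :=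
    LocFreeFP.function_exact_stalkLin (kernel.ι φ) φ (kernel.condition φ)
      (ShortComplex.exact_of_f_is_kernel _ (kernelIsKernel φ)) x
  have hinj : Function.Injective (ModStalkLin.stalkLin (kernel.ι φ) x) :=
    ModStalkLin.stalkLin_injective_of_mono _ x
  let e1 := LinearEquiv.ofInjective (ModStalkLin.stalkLin (kernel.ι φ) x) hinj
  have hrange : LinearMap.range (ModStalkLin.stalkLin (kernel.ι φ) x) =
      LinearMap.ker (ModStalkLin.stalkLin φ x) := (LinearMap.exact_iff.mp hex).symm
  let e2 := LinearEquiv.ofEq _ _ hrange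
  exact Module.Free.of_equiv (e1.trans e2).symm

end Groth.Agent.S15070
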