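import Groth.Statements.S15071
import Groth.Agent.S15070
import Groth.Agent.Lib.AssPoints
import Groth.Agent.Lib.ModStalkIso

set_option autoImplicit false
universe u
open CategoryTheory CategoryTheory.Limits AlgebraicGeometry
open OrdSurf

namespace Groth.Agent.S15071

open Groth.Agent.Lib Groth.Agent.Lib.H47Reflexive IsLocalRing

section algebra

variable {R : Type u} [CommRing R] [IsLocalRing R] [IsNoetherianRing R]

/-- An element whose annihilator has radical the maximal ideal has a nonzero multiple killed by
the maximal ideal. -/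
theorem exists_socle {C : Type u} [AddCommGroup C] [Module R C] (c : C)
    (hc : Ideal.radical (LinearMap.ker (LinearMap.toSpanSingleton R C c)) = maximalIdeal R) :
    ∃ c' : C, c' ≠ 0 ∧ ∀ a ∈ maximalIdeal R, a • c' = 0 := by
  have hc0 : c ≠ 0 := by
    rintro rfl
    have : LinearMap.ker (LinearMap.toSpanSingleton R C 0) = ⊤ := by
      ext a
      simp
    rw [this, Ideal.radical_top] at hc
    exact (maximalIdeal.isMaximal R).ne_top hc.symm
  obtain ⟨k, hk⟩ := Ideal.exists_pow_le_of_le_radical_of_fg hc.ge
    (IsNoetherian.noetherian (maximalIdeal R))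
  -- minimal k with m^k c = 0
  have hP : ∃ k, ∀ b ∈ maximalIdeal R ^ k, b • c = 0 := ⟨k, fun b hb => by
    have := hk hb
    rwa [LinearMap.mem_ker, LinearMap.toSpanSingleton_apply] at this⟩
  classical
  let k₀ := Nat.find hP
  have hk₀ : ∀ b ∈ maximalIdeal R ^ k₀, b • c = 0 := Nat.find_spec hP
  have hk₀pos : k₀ ≠ 0 := by
    intro h0
    have := hk₀ 1 (by rw [h0, pow_zero, Ideal.one_eq_top]; trivial)
    rw [one_smul] at this
    exact hc0 this
  obtain ⟨j, hj⟩ := Nat.exists_eq_succ_of_ne_zero hk₀pos
  have hjlt : j < k₀ := by omega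
  have hnot := Nat.find_min hP hjlt
  push Not at hnot
  obtain ⟨b, hb, hbc⟩ := hnot
  refine ⟨b • c, hbc, fun a ha => ?_⟩
  rw [smul_smul]
  apply hk₀
  rw [hj, pow_succ']
  exact Ideal.mul_mem_mul ha hb

/-- Over a Noetherian local ring of depth at least two, the cokernel of an injective map
between finite free modules has no element whose annihilator has radical the maximal ideal. -/
theorem false_of_depth_two (hTF : TF (maximalIdeal R) R) (hE1 : E1 (maximalIdeal R) R)
    {M N C : Type u} [AddCommGroup M] [Module R M] [Module.Free R M] [Module.Finite R M]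
    [AddCommGroup N] [Module R N] [Module.Free R N]
    [AddCommGroup C] [Module R C]
    (φ : M →ₗ[R] N) (π : N →ₗ[R] C) (hφ : Function.Injective φ) (hex : Function.Exact φ π)
    (hπ : Function.Surjective π) (c : C)
    (hc : Ideal.radical (LinearMap.ker (LinearMap.toSpanSingleton R C c)) = maximalIdeal R) : False := by
  obtain ⟨c', hc'0, hc'⟩ := exists_socle c hc
  obtain ⟨n, rfl⟩ := hπ c'
  -- `a • n` lies in the image of `φ` for `a ∈ m`
  have hmem : ∀ a : maximalIdeal R, ∃ m : M, φ m = (a : R) • n := by
    intro a
    have h1 : π ((a : R) • n) = 0 := by rw [map_smul]; exact hc' a a.2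
    exact (hex _).mp h1
  choose h hh using hmem
  let hlin : maximalIdeal R →ₗ[R] M :=
    { toFun := h
      map_add' := fun a b => by
        apply hφ
        rw [map_add, hh, hh, hh, Submodule.coe_add, add_smul]
      map_smul' := fun r a => by
        apply hφ
        rw [map_smul, hh, hh, RingHom.id_apply, Submodule.coe_smul, smul_eq_mul, mul_smul] }
  obtain ⟨m₀, hm₀⟩ := S15070.e1_of_free hE1 M hlin
  have hTFN : TF (maximalIdeal R) N := S15070.tf_of_free hTF N
  have hn : n - φ m₀ = 0 := by
    apply hTFN
    intro a ha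
    rw [smul_sub, ← hh ⟨a, ha⟩, ← map_smul]
    have := hm₀ ⟨a, ha⟩
    change h ⟨a, ha⟩ = a • m₀ at this
    rw [this, sub_self]
  apply hc'0
  rw [sub_eq_zero.mp hn]
  exact (hex _).mpr ⟨m₀, rfl⟩

end algebra

theorem le_one_of_not_two_le {a : WithBot ℕ∞} (h : ¬ (2 : WithBot ℕ∞) ≤ a) : a ≤ 1 := by
  induction a using WithBot.recBotCoe with
  | bot => exact bot_le
  | coe a =>
    have h2 : (2 : WithBot ℕ∞) = ((2 : ℕ∞) : WithBot ℕ∞) := rfl
    have h1 : (1 : WithBot ℕ∞) = ((1 : ℕ∞) : WithBot ℕ∞) := rfl
    rw [h2, WithBot.coe_le_coe] at h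
    rw [h1, WithBot.coe_le_coe]
    induction a using ENat.recTopCoe with
    | top => exact absurd le_top h
    | coe n =>
      have : ¬ (2 : ℕ) ≤ n := fun hn => h (by exact_mod_cast hn)
      have : n ≤ 1 := by omega
      exact_mod_cast this


/-- Let k be an algebraically closed field of characteristic zero and X a smooth projective surface over
k (an integral k-scheme, smooth over k, of dimension two, admitting a closed immersion over k into
some projective space P^n_k). Let φ : M → N be a monomorphism between finite locally free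
O_X-modules. Then either φ is an isomorphism, or the support of the cokernel of φ contains a point
of X whose local ring has Krull dimension at most one, i.e. the support has codimension at most one
in X. (The published statement phrases the first alternative as M and N being isomorphic; the
argument shows that the given monomorphism is an isomorphism, which is the form stated here.) -/
theorem result (k : Type u) [Field k] [IsAlgClosed k] [CharZero k]
    (X : Scheme.{u}) [X.Over (Spec (CommRingCat.of k))] [IsIntegral X]
    [Smooth (X ↘ Spec (CommRingCat.of k))] (hdim : topologicalKrullDim X = 2)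
    (hproj : ∃ (n : ℕ) (ι : X ⟶ CohB1.ProjSpace n k), IsClosedImmersion ι ∧
      ι ≫ CohB1.ProjSpace.toSpec n k = X ↘ Spec (CommRingCat.of k))
    (M N : X.Modules) (hM : FlatMod.IsFinLocFree M) (hN : FlatMod.IsFinLocFree N)
    (φ : M ⟶ N) [Mono φ] :
    IsIso φ ∨ ∃ x : X, x ∈ CohB1.support (cokernel φ) ∧ ringKrullDim (X.presheaf.stalk x) ≤ 1 := by
  haveI : IsLocallyNoetherian X :=
    LocallyOfFiniteType.isLocallyNoetherian (X ↘ Spec (CommRingCat.of k))
  have hMc : Coh.IsCoh M := H90Invertible.isCoh_of_isFinLocFree hM
  have hNc : Coh.IsCoh N := H90Invertible.isCoh_of_isFinLocFree hN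
  haveI : M.IsQuasicoherent := hMc.1
  haveI : N.IsQuasicoherent := hNc.1
  haveI : (cokernel φ).IsQuasicoherent := H90OXModExact.isQuasicoherent_cokernel φ
  by_cases hz : IsZero (cokernel φ)
  · left
    haveI : Epi φ := Preadditive.epi_of_isZero_cokernel φ hz
    exact isIso_of_mono_of_epi φ
  · right
    -- a point with nonzero stalk
    obtain ⟨x, hx⟩ : ∃ x : X, ¬ Subsingleton ((cokernel φ).presheaf.stalk x) := by
      by_contra hcon
      push Not at hcon
      exact hz (ModPullback.isZero_of_forall_subsingleton_stalk _ hcon)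
    obtain ⟨t, ht⟩ : ∃ t : (cokernel φ).presheaf.stalk x, t ≠ 0 := by
      by_contra hcon
      push Not at hcon
      exact hx ⟨fun a b => by rw [hcon a, hcon b]⟩
    obtain ⟨U, hxU, s, rfl⟩ := TopCat.Presheaf.exists_germ_eq (cokernel φ).presheaf t
    obtain ⟨y, hyU, -, ⟨c, hc⟩, -⟩ :=
      AssPoints.exists_isWeakAssPoint_of_germ_ne_zero (cokernel φ) s x hxU ht
    refine ⟨y, ?_, ?_⟩
    · intro hsub
      have h0 : c = 0 := Subsingleton.elim _ _
      rw [h0] at hc
      have : LinearMap.ker (LinearMap.toSpanSingleton (X.presheaf.stalk y)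
          ((cokernel φ).presheaf.stalk y) 0) = ⊤ := by
        ext a
        simp
      rw [this, Ideal.radical_top] at hc
      exact (maximalIdeal.isMaximal (X.presheaf.stalk y)).ne_top hc.symm
    · by_contra hnot
      haveI hreg : IsRegularLocalRing (X.presheaf.stalk y) :=
        SmoothStalkRegular45.isRegularLocalRing_stalk_of_smooth_field k
          (X ↘ Spec (CommRingCat.of k)) y
      have h2 : (2 : WithBot ℕ∞) ≤ ringKrullDim (X.presheaf.stalk y) := by
        by_contra h2
        exact hnot (le_one_of_not_two_le h2)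
      have hdepth : (2 : ℕ∞) ≤ LocCoh.depth (X.presheaf.stalk y) (X.presheaf.stalk y) := by
        have h := H87AB.depth_self_of_isRegularLocalRing (X.presheaf.stalk y)
        rw [← h] at h2
        have h2' : ((2 : ℕ∞) : WithBot ℕ∞) ≤
            ((LocCoh.depth (X.presheaf.stalk y) (X.presheaf.stalk y) : ℕ∞) : WithBot ℕ∞) := h2
        exact WithBot.coe_le_coe.mp h2'
      unfold LocCoh.depth at hdepth
      rw [two_le_idealDepth_iff] at hdepth
      have hMfp : CohB1.IsFP M := HomSh53.isFP_of_isCoh hMc
      haveI := LocFreeFP.free_stalk_of_isFinLocFree hM y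
      haveI := LocFreeFP.free_stalk_of_isFinLocFree hN y
      haveI := FibreFreeSch88.finitePresentation_stalk_of_isFP M hMfp y
      haveI : Module.Finite (X.presheaf.stalk y) (M.presheaf.stalk y) := inferInstance
      have hex : Function.Exact (ModStalkLin.stalkLin φ y)
          (ModStalkLin.stalkLin (cokernel.π φ) y) :=
        LocFreeFP.function_exact_stalkLin φ (cokernel.π φ) (cokernel.condition φ)
          (ShortComplex.exact_of_g_is_cokernel _ (cokernelIsCokernel φ)) y
      exact false_of_depth_two hdepth.1 hdepth.2 (ModStalkLin.stalkLin φ y)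
        (ModStalkLin.stalkLin (cokernel.π φ) y) (ModStalkLin.stalkLin_injective_of_mono φ y) hex
        (ModStalkLin.stalkLin_surjective_of_epi (cokernel.π φ) y) c hc

end Groth.Agent.S15071
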