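import Mathlib
import Groth.Agent.Lib.ShuffleBij
import Groth.Statements.S15080

set_option autoImplicit false
open W4c2movlemaddchow

namespace Groth.Agent.S15080

section Helpers

open Equiv

lemma extRight_castAdd (a t : ℕ) (σ : Perm (Fin a)) (j : Fin a) :
    extRight a t σ (Fin.castAdd t j) = Fin.castAdd t (σ j) := by
  simp [extRight, Equiv.permCongr_apply]

lemma extRight_natAdd (a t : ℕ) (σ : Perm (Fin a)) (i : Fin t) :
    extRight a t σ (Fin.natAdd a i) = Fin.natAdd a i := by
  simp [extRight, Equiv.permCongr_apply]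

lemma cover (a t : ℕ) (x : Fin (a + t)) :
    (∃ j : Fin a, Fin.castAdd t j = x) ∨ (∃ i : Fin t, Fin.natAdd a i = x) := by
  induction x using Fin.addCases with
  | left j => exact Or.inl ⟨j, rfl⟩
  | right i => exact Or.inr ⟨i, rfl⟩

lemma monotone_comp_iff {α β γ : Type} [Preorder γ] [LinearOrder α] [LinearOrder β]
    (g : γ → α) (h : α → β) (hh : StrictMono h) : Monotone (fun x => h (g x)) ↔ Monotone g := by
  simp only [Monotone, hh.le_iff_le]

end Helpers

/-- Let r, s, t ≥ 1. For an (r+s, t)-shuffle τ of r+s+t letters and an (r, s)-shuffle σ of the first r+s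
letters, the composite τ ∘ (σ × id), where σ × id acts as σ on the first r+s letters and fixes the
last t, is an (r, s, t)-shuffle, and (τ, σ) ↦ τ ∘ (σ × id) is a bijection from such pairs onto the
set of all (r, s, t)-shuffles. (A (p₁, …, p_s)-shuffle is a permutation that is monotone on each of
the consecutive blocks of sizes p₁, …, p_s; composites apply the right-hand factor first.) -/
theorem result (r s t : ℕ) (hr : 1 ≤ r) (hs : 1 ≤ s) (ht : 1 ≤ t) :
    Set.BijOn
      (fun p : Equiv.Perm (Fin (r + s + t)) × Equiv.Perm (Fin (r + s)) =>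
        p.1 * W4c2movlemaddchow.extRight (r + s) t p.2)
      ({τ | W4c2movlemaddchow.IsShuffle₂ (r + s) t τ} ×ˢ {σ | W4c2movlemaddchow.IsShuffle₂ r s σ})
      {ν | W4c2movlemaddchow.IsShuffle₃ r s t ν} := by
  have key := Groth.Agent.Lib.ShuffleBij.bijOn (n := r + s + t) (a := r + s) (b := t)
    (Fin.castAdd t) (Fin.natAdd (r + s)) (extRight (r + s) t)
    (Fin.strictMono_castAdd t) (cover (r + s) t) (extRight_castAdd (r + s) t)
    (extRight_natAdd (r + s) t)
    (fun {α} _ g => Monotone (fun i : Fin r => g (Fin.castAdd s i)) ∧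
      Monotone (fun j : Fin s => g (Fin.natAdd r j)))
    (by
      intro α β _ _ g h hh
      simp only [Function.comp_apply]
      rw [monotone_comp_iff _ h hh, monotone_comp_iff _ h hh])
  have hset : {ν | W4c2movlemaddchow.IsShuffle₃ r s t ν} =
      {ν : Equiv.Perm (Fin (r + s + t)) |
        (Monotone (fun i : Fin r => ν (Fin.castAdd t (Fin.castAdd s i))) ∧
          Monotone (fun j : Fin s => ν (Fin.castAdd t (Fin.natAdd r j)))) ∧
        Monotone (fun i : Fin t => ν (Fin.natAdd (r + s) i))} := by
    ext ν
    exact and_assoc.symm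
  rw [hset]
  exact key

end Groth.Agent.S15080
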