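import Mathlib
import Groth.Agent.Lib.ShuffleBij
import Groth.Statements.S15081

set_option autoImplicit false
open W4c2movlemaddchow

namespace Groth.Agent.S15081

section Helpers

open Equiv

/-- inclusion of the last `s + t` positions -/
def ι₁ (r s t : ℕ) (j : Fin (s + t)) : Fin (r + s + t) :=
  (finCongr (Nat.add_assoc r s t)).symm (Fin.natAdd r j)

/-- inclusion of the first `r` positions -/
def ι₂ (r s t : ℕ) (i : Fin r) : Fin (r + s + t) :=
  (finCongr (Nat.add_assoc r s t)).symm (Fin.castAdd (s + t) i)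

lemma ι₁_val (r s t : ℕ) (j : Fin (s + t)) : (ι₁ r s t j : ℕ) = r + j := by
  simp [ι₁]

lemma ι₂_val (r s t : ℕ) (i : Fin r) : (ι₂ r s t i : ℕ) = i := by
  simp [ι₂]

lemma ι₂_eq (r s t : ℕ) (i : Fin r) : ι₂ r s t i = Fin.castAdd t (Fin.castAdd s i) := by
  apply Fin.ext; simp [ι₂_val]

lemma ι₁_castAdd (r s t : ℕ) (j : Fin s) :
    ι₁ r s t (Fin.castAdd t j) = Fin.castAdd t (Fin.natAdd r j) := by
  apply Fin.ext; simp [ι₁_val]

lemma ι₁_natAdd (r s t : ℕ) (l : Fin t) :
    ι₁ r s t (Fin.natAdd s l) = Fin.natAdd (r + s) l := by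
  apply Fin.ext; simp [ι₁_val, Nat.add_assoc]

lemma strictMono_ι₁ (r s t : ℕ) : StrictMono (ι₁ r s t) := by
  intro i j hij
  rw [Fin.lt_def, ι₁_val, ι₁_val]
  exact Nat.add_lt_add_left hij r

lemma extLeft_ι₁ (r s t : ℕ) (σ : Perm (Fin (s + t))) (j : Fin (s + t)) :
    extLeft r s t σ (ι₁ r s t j) = ι₁ r s t (σ j) := by
  simp [extLeft, ι₁, Equiv.permCongr_apply]

lemma extLeft_ι₂ (r s t : ℕ) (σ : Perm (Fin (s + t))) (i : Fin r) :
    extLeft r s t σ (ι₂ r s t i) = ι₂ r s t i := by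
  simp [extLeft, ι₂, Equiv.permCongr_apply]

lemma cover (r s t : ℕ) (x : Fin (r + s + t)) :
    (∃ j : Fin (s + t), ι₁ r s t j = x) ∨ (∃ i : Fin r, ι₂ r s t i = x) := by
  obtain ⟨y, rfl⟩ := (finCongr (Nat.add_assoc r s t)).symm.surjective x
  induction y using Fin.addCases with
  | left i => exact Or.inr ⟨i, rfl⟩
  | right j => exact Or.inl ⟨j, rfl⟩

lemma monotone_comp_iff {α β γ : Type} [Preorder γ] [LinearOrder α] [LinearOrder β]
    (g : γ → α) (h : α → β) (hh : StrictMono h) : Monotone (fun x => h (g x)) ↔ Monotone g := by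
  simp only [Monotone, hh.le_iff_le]

lemma strictMono_finCongr {m n : ℕ} (h : m = n) : StrictMono (finCongr h) := by
  intro i j hij
  rw [Fin.lt_def] at hij ⊢
  rw [finCongr_apply_coe, finCongr_apply_coe]
  exact hij

end Helpers

/-- Let r, s, t ≥ 1. For an (r, s+t)-shuffle τ' of r+s+t letters and an (s, t)-shuffle σ' of the last
s+t letters, the composite τ' ∘ (id × σ'), where id × σ' fixes the first r letters and acts as σ' on
the last s+t, is an (r, s, t)-shuffle, and (τ', σ') ↦ τ' ∘ (id × σ') is a bijection from such pairs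
onto the set of all (r, s, t)-shuffles. (Shuffles are permutations monotone on each consecutive
block; composites apply the right-hand factor first.) -/
theorem result (r s t : ℕ) (hr : 1 ≤ r) (hs : 1 ≤ s) (ht : 1 ≤ t) :
    Set.BijOn
      (fun p : Equiv.Perm (Fin (r + s + t)) × Equiv.Perm (Fin (s + t)) =>
        p.1 * W4c2movlemaddchow.extLeft r s t p.2)
      ({τ | W4c2movlemaddchow.IsShuffle₂ r (s + t) ((finCongr (Nat.add_assoc r s t)).permCongr τ)} ×ˢ
        {σ | W4c2movlemaddchow.IsShuffle₂ s t σ})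
      {ν | W4c2movlemaddchow.IsShuffle₃ r s t ν} := by
  have key := Groth.Agent.Lib.ShuffleBij.bijOn (n := r + s + t) (a := s + t) (b := r)
    (ι₁ r s t) (ι₂ r s t) (extLeft r s t)
    (strictMono_ι₁ r s t) (cover r s t) (extLeft_ι₁ r s t) (extLeft_ι₂ r s t)
    (fun {α} _ g => Monotone (fun j : Fin s => g (Fin.castAdd t j)) ∧
      Monotone (fun l : Fin t => g (Fin.natAdd s l)))
    (by
      intro α β _ _ g h hh
      simp only [Function.comp_apply]
      rw [monotone_comp_iff _ h hh, monotone_comp_iff _ h hh])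
  have hsetν : {ν | W4c2movlemaddchow.IsShuffle₃ r s t ν} =
      {ν : Equiv.Perm (Fin (r + s + t)) |
        (Monotone (fun j : Fin s => ν (ι₁ r s t (Fin.castAdd t j))) ∧
          Monotone (fun l : Fin t => ν (ι₁ r s t (Fin.natAdd s l)))) ∧
        Monotone (fun i : Fin r => ν (ι₂ r s t i))} := by
    ext ν
    simp only [ι₁_castAdd, ι₁_natAdd, ι₂_eq]
    constructor
    · rintro ⟨h1, h2, h3⟩
      exact ⟨⟨h2, h3⟩, h1⟩
    · rintro ⟨⟨h2, h3⟩, h1⟩
      exact ⟨h1, h2, h3⟩
  have hsetτ : {τ | W4c2movlemaddchow.IsShuffle₂ r (s + t)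
        ((finCongr (Nat.add_assoc r s t)).permCongr τ)} =
      {τ : Equiv.Perm (Fin (r + s + t)) | Monotone (fun j => τ (ι₁ r s t j)) ∧
        Monotone (fun i => τ (ι₂ r s t i))} := by
    ext τ
    show (_ ∧ _) ↔ (_ ∧ _)
    rw [and_comm]
    refine and_congr ?_ ?_
    · simp only [Equiv.permCongr_apply]
      exact monotone_comp_iff _ _ (strictMono_finCongr _)
    · simp only [Equiv.permCongr_apply]
      exact monotone_comp_iff _ _ (strictMono_finCongr _)
  rw [hsetν, hsetτ]
  exact key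

end Groth.Agent.S15081
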