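import Mathlib
import Groth.Agent.S15080
import Groth.Agent.S15081
import Groth.Statements.S15082

set_option autoImplicit false
open W4c2movlemaddchow

namespace Groth.Agent.S15082

section Helpers

open Equiv

lemma sign_extRight (a t : ℕ) (σ : Perm (Fin a)) :
    Perm.sign (extRight a t σ) = Perm.sign σ := by
  unfold extRight
  rw [Perm.sign_permCongr]
  exact (Perm.sign_sumCongr σ (1 : Perm (Fin t))).trans (by simp)

lemma sign_extLeft (r s t : ℕ) (σ : Perm (Fin (s + t))) :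
    Perm.sign (extLeft r s t σ) = Perm.sign σ := by
  unfold extLeft
  rw [Perm.sign_permCongr, Perm.sign_permCongr]
  exact (Perm.sign_sumCongr (1 : Perm (Fin r)) σ).trans (by simp)

/-- turning a `Set.BijOn` between decidable predicates into an identity of signed sums. -/
lemma sum_eq_of_bijOn {G H : Type} [Group G] [Fintype G] [Fintype H] [DecidableEq G]
    (P : G → Prop) (Q : H → Prop) (R : G → Prop) [DecidablePred P] [DecidablePred Q]
    [DecidablePred R] (e : H → G) (sg : G → ℤ) (sh : H → ℤ)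
    (hs : ∀ τ σ, sg (τ * e σ) = sg τ * sh σ)
    (hb : Set.BijOn (fun p : G × H => p.1 * e p.2) ({τ | P τ} ×ˢ {σ | Q σ}) {ν | R ν}) :
    (∑ ν ∈ Finset.univ.filter R, MonoidAlgebra.single ν (sg ν) : MonoidAlgebra ℤ G) =
      ∑ τ ∈ Finset.univ.filter P, ∑ σ ∈ Finset.univ.filter Q,
        MonoidAlgebra.single (τ * e σ) (sg τ * sh σ) := by
  rw [← Finset.sum_product']
  symm
  refine Finset.sum_nbij (fun p : G × H => p.1 * e p.2) ?_ ?_ ?_ ?_
  · intro p hp
    rw [Finset.mem_product, Finset.mem_filter, Finset.mem_filter] at hp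
    rw [Finset.mem_filter]
    exact ⟨Finset.mem_univ _, hb.mapsTo (⟨hp.1.2, hp.2.2⟩ : p ∈ {τ | P τ} ×ˢ {σ | Q σ})⟩
  · intro p hp q hq h
    rw [Finset.mem_coe, Finset.mem_product, Finset.mem_filter, Finset.mem_filter] at hp hq
    exact hb.injOn (⟨hp.1.2, hp.2.2⟩ : p ∈ {τ | P τ} ×ˢ {σ | Q σ})
      (⟨hq.1.2, hq.2.2⟩ : q ∈ {τ | P τ} ×ˢ {σ | Q σ}) h
  · intro ν hν
    rw [Finset.mem_coe, Finset.mem_filter] at hν
    obtain ⟨p, hp, rfl⟩ := hb.surjOn (hν.2 : ν ∈ {ν | R ν})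
    refine ⟨p, ?_, rfl⟩
    rw [Finset.mem_coe, Finset.mem_product, Finset.mem_filter, Finset.mem_filter]
    exact ⟨⟨Finset.mem_univ _, hp.1⟩, ⟨Finset.mem_univ _, hp.2⟩⟩
  · intro p _
    rw [hs]

end Helpers

/-- Let r, s, t ≥ 1. In the group ring ℤ[S_{r+s+t}] the element Σ_ν sgn(ν) ν, summed over all (r, s,
t)-shuffles ν, equals Σ_τ Σ_σ sgn(τ) sgn(σ) τ ∘ (σ × id), summed over (r+s, t)-shuffles τ and (r,
s)-shuffles σ of the first r+s letters, and also equals Σ_{τ'} Σ_{σ'} sgn(τ') sgn(σ') τ' ∘ (id ×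
σ'), summed over (r, s+t)-shuffles τ' and (s, t)-shuffles σ' of the last s+t letters. (Shuffles are
permutations monotone on each consecutive block; composites apply the right-hand factor first.) -/
theorem result (r s t : ℕ) (hr : 1 ≤ r) (hs : 1 ≤ s) (ht : 1 ≤ t) :
    ((∑ ν ∈ Finset.univ.filter (W4c2movlemaddchow.IsShuffle₃ r s t),
        MonoidAlgebra.single ν (((Equiv.Perm.sign ν : ℤˣ) : ℤ)) :
          MonoidAlgebra ℤ (Equiv.Perm (Fin (r + s + t)))) =
      ∑ τ ∈ Finset.univ.filter (W4c2movlemaddchow.IsShuffle₂ (r + s) t),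
        ∑ σ ∈ Finset.univ.filter (W4c2movlemaddchow.IsShuffle₂ r s),
          MonoidAlgebra.single (τ * W4c2movlemaddchow.extRight (r + s) t σ)
            (((Equiv.Perm.sign τ : ℤˣ) : ℤ) * ((Equiv.Perm.sign σ : ℤˣ) : ℤ))) ∧
    ((∑ ν ∈ Finset.univ.filter (W4c2movlemaddchow.IsShuffle₃ r s t),
        MonoidAlgebra.single ν (((Equiv.Perm.sign ν : ℤˣ) : ℤ)) :
          MonoidAlgebra ℤ (Equiv.Perm (Fin (r + s + t)))) =
      ∑ τ ∈ Finset.univ.filter (fun τ : Equiv.Perm (Fin (r + s + t)) =>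
          W4c2movlemaddchow.IsShuffle₂ r (s + t) ((finCongr (Nat.add_assoc r s t)).permCongr τ)),
        ∑ σ ∈ Finset.univ.filter (W4c2movlemaddchow.IsShuffle₂ s t),
          MonoidAlgebra.single (τ * W4c2movlemaddchow.extLeft r s t σ)
            (((Equiv.Perm.sign τ : ℤˣ) : ℤ) * ((Equiv.Perm.sign σ : ℤˣ) : ℤ))) := by
  refine ⟨?_, ?_⟩
  · exact sum_eq_of_bijOn _ _ _ (extRight (r + s) t)
      (fun ν => ((Equiv.Perm.sign ν : ℤˣ) : ℤ)) (fun σ => ((Equiv.Perm.sign σ : ℤˣ) : ℤ))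
      (fun τ σ => by simp only [map_mul, sign_extRight, Units.val_mul])
      (Groth.Agent.S15080.result r s t hr hs ht)
  · exact sum_eq_of_bijOn _ _ _ (extLeft r s t)
      (fun ν => ((Equiv.Perm.sign ν : ℤˣ) : ℤ)) (fun σ => ((Equiv.Perm.sign σ : ℤˣ) : ℤ))
      (fun τ σ => by simp only [map_mul, sign_extLeft, Units.val_mul])
      (Groth.Agent.S15081.result r s t hr hs ht)

end Groth.Agent.S15082
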