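import Mathlib
import Groth.Statements.S15083

set_option autoImplicit false
universe u
open MovLem

namespace Groth.Agent.S15083

section Helpers

open Matrix Matrix.SpecialLinearGroup


lemma diag2n_decompose {ι : Type*} [Fintype ι] [DecidableEq ι] {F : Type*} [Field F] {i j : ι}
    (hij : i ≠ j) (c : F) (hc : c ≠ 0) :
    SpecialLinearGroup.diag2n hij c hc =
      SpecialLinearGroup.transvection hij.symm 1 * SpecialLinearGroup.transvection hij (-(c-1)/c) *
      SpecialLinearGroup.transvection hij.symm (-c) *
      SpecialLinearGroup.transvection hij ((c-1)/c^2) := by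
  have hji : ¬ j = i := fun h => hij h.symm
  ext k l
  simp only [diag2n_coe, coe_mul, transvection_coe]
  simp only [Matrix.mul_add, Matrix.add_mul, Matrix.mul_one, Matrix.one_mul,
    single_mul_single_same, single_mul_single_of_ne _ _ _ _ hij, single_mul_single_of_ne _ _ _ _ hij.symm,
    add_zero]
  simp only [Matrix.add_apply, Matrix.single_apply, Matrix.diagonal_apply, Matrix.one_apply]
  simp only [eq_comm (a := i) (b := k), eq_comm (a := j) (b := k), eq_comm (a := i) (b := l),
    eq_comm (a := j) (b := l)]
  by_cases hki : k = i <;> by_cases hkj : k = j <;> by_cases hli : l = i <;> by_cases hlj : l = j <;>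
    simp_all [eq_comm (a := i) (b := l), eq_comm (a := j) (b := l)] <;> field_simp <;> ring

lemma map_transvection {ι : Type*} [Fintype ι] [DecidableEq ι] {R S : Type*} [CommRing R] [CommRing S]
    (f : R →+* S) {i j : ι} (hij : i ≠ j) (b : R) :
    SpecialLinearGroup.map f (SpecialLinearGroup.transvection hij b) =
      SpecialLinearGroup.transvection hij (f b) := by
  ext k l
  simp [transvection_coe, Matrix.single_apply, Matrix.one_apply, apply_ite f]


end Helpers

/-- Let K be a field and r ≥ 1. For every element A of the special linear group SL_{r+1}(K) there is an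
algebraic path in SL_{r+1} from the identity to A defined over K: a matrix M of determinant 1 with
entries in the polynomial ring K[y] such that M(0) is the identity matrix and M(1) = A. (The
published statement takes K to be the function field of SL_{r+1} over the ground field, A its
generic point viewed as a K-rational point, and the parameter space to be the projective line minus
the point 1, with endpoints 0 and ∞; this row gives the path for an arbitrary K-point A on the
affine line with endpoints 0 and 1, which is what the published construction provides before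
composing with the coordinate change y ↦ y/(y − 1).) -/
theorem result
    (K : Type u) [Field K] (r : ℕ) (hr : 1 ≤ r)
    (A : Matrix.SpecialLinearGroup (Fin (r + 1)) K) :
    ∃ M : Matrix.SpecialLinearGroup (Fin (r + 1)) (Polynomial K),
      Matrix.SpecialLinearGroup.map (Polynomial.evalRingHom (0 : K)) M = 1 ∧
      Matrix.SpecialLinearGroup.map (Polynomial.evalRingHom (1 : K)) M = A := by
  have : Nontrivial (Fin (r + 1)) := Fin.nontrivial_iff_two_le.2 (by omega)
  have htr : ∀ (i j : Fin (r + 1)) (hij : i ≠ j) (a : K),
      ∃ M : Matrix.SpecialLinearGroup (Fin (r + 1)) (Polynomial K),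
      Matrix.SpecialLinearGroup.map (Polynomial.evalRingHom (0 : K)) M = 1 ∧
      Matrix.SpecialLinearGroup.map (Polynomial.evalRingHom (1 : K)) M =
        Matrix.SpecialLinearGroup.transvection hij a := by
    intro i j hij a
    refine ⟨Matrix.SpecialLinearGroup.transvection hij (Polynomial.C a * Polynomial.X), ?_, ?_⟩
    · rw [map_transvection]; simp
    · rw [map_transvection]; simp
  have hmul : ∀ A B : Matrix.SpecialLinearGroup (Fin (r + 1)) K,
      (∃ M : Matrix.SpecialLinearGroup (Fin (r + 1)) (Polynomial K),
      Matrix.SpecialLinearGroup.map (Polynomial.evalRingHom (0 : K)) M = 1 ∧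
      Matrix.SpecialLinearGroup.map (Polynomial.evalRingHom (1 : K)) M = A) →
      (∃ M : Matrix.SpecialLinearGroup (Fin (r + 1)) (Polynomial K),
      Matrix.SpecialLinearGroup.map (Polynomial.evalRingHom (0 : K)) M = 1 ∧
      Matrix.SpecialLinearGroup.map (Polynomial.evalRingHom (1 : K)) M = B) →
      (∃ M : Matrix.SpecialLinearGroup (Fin (r + 1)) (Polynomial K),
      Matrix.SpecialLinearGroup.map (Polynomial.evalRingHom (0 : K)) M = 1 ∧
      Matrix.SpecialLinearGroup.map (Polynomial.evalRingHom (1 : K)) M = A * B) := by
    rintro A B ⟨M, hM0, hM1⟩ ⟨N, hN0, hN1⟩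
    exact ⟨M * N, by rw [map_mul, hM0, hN0, one_mul], by rw [map_mul, hM1, hN1]⟩
  refine Matrix.SpecialLinearGroup.diagonal_transvection_induction'
    (P := fun A => ∃ M : Matrix.SpecialLinearGroup (Fin (r + 1)) (Polynomial K),
      Matrix.SpecialLinearGroup.map (Polynomial.evalRingHom (0 : K)) M = 1 ∧
      Matrix.SpecialLinearGroup.map (Polynomial.evalRingHom (1 : K)) M = A) A ?_ htr hmul
  intro i j hij c hc
  rw [diag2n_decompose hij c hc]
  exact hmul _ _ (hmul _ _ (hmul _ _ (htr _ _ _ _) (htr _ _ _ _)) (htr _ _ _ _)) (htr _ _ _ _)

end Groth.Agent.S15083
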