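import Mathlib
import Groth.Statements.S15084

set_option autoImplicit false
universe u
open MovLem

namespace Groth.Agent.S15084

section Helpers

/-- the ideal of denominators of `z`. -/
def den (A K : Type u) [CommRing A] [Field K] [Algebra A K] (z : K) : Ideal A :=
  Submodule.comap (LinearMap.toSpanSingleton A K z) (1 : Submodule A K)

lemma mem_den {A K : Type u} [CommRing A] [Field K] [Algebra A K] (z : K) (c : A) :
    c ∈ den A K z ↔ ∃ e : A, algebraMap A K e = algebraMap A K c * z := by
  simp [den, Submodule.mem_one, Algebra.smul_def]

end Helpers

/-- Let A be a Noetherian integrally closed domain with fraction field K, let B be a domain with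
fraction field L, and let A → B be an injective ring homomorphism, with K → L the induced map of
fraction fields, such that Spec B → Spec A is surjective (every prime ideal of A is the contraction
of a prime ideal of B). If a ∈ K is such that its image in L lies in B, then a ∈ A. (The published
statement: for a surjective morphism f : Y → X of normal integral separated schemes of finite type
over a perfect field and a Cartier divisor D on X, if f^*D is effective then D is effective; a
Cartier divisor is locally the divisor of a nonzero rational function a, effectivity of div(a) on a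
normal scheme means that a is a regular function, and this row is that local statement, which is
what the published proof establishes.) -/
theorem result
    (A B K L : Type u) [CommRing A] [IsDomain A] [IsNoetherianRing A] [IsIntegrallyClosed A]
    [CommRing B] [IsDomain B] [Field K] [Field L]
    [Algebra A B] [Algebra A K] [IsFractionRing A K] [Algebra B L] [IsFractionRing B L]
    [Algebra K L] [Algebra A L] [IsScalarTower A K L] [IsScalarTower A B L]
    (hinj : Function.Injective (algebraMap A B))
    (hsurj : ∀ p : Ideal A, p.IsPrime → ∃ q : Ideal B, q.IsPrime ∧ q.comap (algebraMap A B) = p)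
    (a : K) (ha : algebraMap K L a ∈ (algebraMap B L).range) :
    a ∈ (algebraMap A K).range := by
  classical
  by_contra hna
  have hne : (Ideal.Quotient.mk (den A K a) (1 : A)) ≠ 0 := by
    intro h
    rw [Ideal.Quotient.eq_zero_iff_mem, mem_den] at h
    obtain ⟨e, he⟩ := h
    exact hna ⟨e, by simpa using he⟩
  obtain ⟨P, hP, hle⟩ := exists_le_isAssociatedPrime_of_isNoetherianRing (R := A)
    (M := A ⧸ den A K a) _ hne
  rw [isAssociatedPrime_iff] at hP
  obtain ⟨hPprime, y, hy⟩ := hP
  obtain ⟨d, rfl⟩ := Ideal.Quotient.mk_surjective y
  -- the new element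
  set a' : K := algebraMap A K d * a with ha'
  have hPmem : ∀ c : A, c ∈ P ↔ ∃ e : A, algebraMap A K e = algebraMap A K c * a' := by
    intro c
    rw [hy, Submodule.mem_colon_singleton, Submodule.mem_bot, Algebra.smul_def,
      Ideal.Quotient.algebraMap_eq, ← map_mul, Ideal.Quotient.eq_zero_iff_mem, mem_den, ha',
      map_mul, mul_assoc]
  -- `a'` is not in `A`
  have hna' : ¬ ∃ e : A, algebraMap A K e = a' := by
    rintro ⟨e, he⟩
    exact hPprime.ne_top ((Ideal.eq_top_iff_one _).2 ((hPmem 1).2 ⟨e, by simpa using he⟩))
  -- the image of `a'` in `L` lies in `B`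
  obtain ⟨b, hb⟩ := ha
  have hb' : algebraMap B L (algebraMap A B d * b) = algebraMap K L a' := by
    rw [map_mul, hb, ha', map_mul, ← IsScalarTower.algebraMap_apply,
      ← IsScalarTower.algebraMap_apply]
  obtain ⟨q, hq, hqP⟩ := hsurj P hPprime
  -- every element of `P` multiplies `a'` into `P`
  have hstab : ∀ c ∈ P, ∀ e : A, algebraMap A K e = algebraMap A K c * a' → e ∈ P := by
    intro c hc e he
    rw [← hqP, Ideal.mem_comap]
    have : algebraMap A B e = algebraMap A B c * (algebraMap A B d * b) := by
      apply IsFractionRing.injective B L
      rw [map_mul, hb', ← IsScalarTower.algebraMap_apply, IsScalarTower.algebraMap_apply A K L,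
        he, map_mul, ← IsScalarTower.algebraMap_apply, ← IsScalarTower.algebraMap_apply]
    rw [this]
    exact Ideal.mul_mem_right _ _ (by rw [← Ideal.mem_comap, hqP]; exact hc)
  -- hence `a'` is integral over `A`
  have hint : IsIntegral A a' := by
    refine isIntegral_of_smul_mem_submodule (R := A) (A := K) (M := K)
      (Submodule.map (Algebra.linearMap A K) P) ?_ ?_ a' ?_
    · obtain ⟨x, s, hs⟩ := IsLocalization.exists_mk'_eq (nonZeroDivisors A) a'
      have hsP : (s : A) ∈ P := by
        rw [hPmem]
        refine ⟨x, ?_⟩
        rw [← hs, mul_comm, IsLocalization.mk'_spec]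
      intro hbot
      have : algebraMap A K (s : A) ∈ Submodule.map (Algebra.linearMap A K) P :=
        ⟨s, hsP, rfl⟩
      rw [hbot, Submodule.mem_bot] at this
      have h0 : (s : A) = 0 := by
        apply IsFractionRing.injective A K
        rw [this, map_zero]
      exact nonZeroDivisors.coe_ne_zero s h0
    · exact Submodule.FG.map _ ((isNoetherianRing_iff_ideal_fg A).1 inferInstance P)
    · rintro _ ⟨c, hc, rfl⟩
      obtain ⟨e, he⟩ := (hPmem c).1 hc
      refine ⟨e, hstab c hc e he, ?_⟩
      simp only [Algebra.linearMap_apply, smul_eq_mul]
      rw [he, mul_comm]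
  obtain ⟨e, he⟩ := (IsIntegrallyClosed.isIntegral_iff (R := A) (K := K)).1 hint
  exact hna' ⟨e, he⟩

end Groth.Agent.S15084
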