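import Groth.Statements.S1509
import Groth.Agent.Lib.KoszulPerfect

set_option autoImplicit false
universe u
attribute [local instance] HasDerivedCategory.standard
open FlatMor

namespace Groth.Agent.S1509

open AlgebraicGeometry CategoryTheory Limits in
/-- A regular closed immersion (kernel ideal locally generated by a regular sequence) is a perfect
morphism. -/
theorem result {Z X : Scheme.{u}} (i : Z ⟶ X) (hi : Mor2.IsRegularClosedImmersion i) : MoreMor.IsPerfectMor i := by
  obtain ⟨hci, h⟩ := hi
  rw [Groth.Agent.Lib.PerfHomLocal.isPerfectMor_iff_exists]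
  intro z
  obtain ⟨U, hU, hzU, rs, hreg, hker⟩ := h z
  refine ⟨⟨U, hU⟩, ⟨i ⁻¹ᵁ U, hU.preimage i⟩, hzU, le_rfl, ?_⟩
  have e1 : i.appLE U (i ⁻¹ᵁ U) le_rfl = i.app U := (Scheme.Hom.app_eq_appLE i).symm
  rw [e1]
  have hsurj : Function.Surjective (i.app U).hom := i.app_surjective U hU
  have hk : RingHom.ker (i.app U).hom = Ideal.ofList rs := by
    rw [← hker]
    exact (Scheme.Hom.ker_apply i ⟨U, hU⟩).symm
  exact Groth.Agent.Lib.KoszulPerfect.perfHom_of_surjective_of_ker (i.app U).hom hsurj rs
    (Groth.Agent.S15821.result _ rs hreg.toIsWeaklyRegular).1 hk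

end Groth.Agent.S1509
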