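import Groth.Statements.S15100
import Mathlib

set_option autoImplicit false
universe u
open TensorProduct
open CAlg

namespace Groth.Agent.S15100
open IsLocalRing
open TensorProduct KaehlerDifferential

/-- If `x ≠ 0` lies in `J • F` (`J` proper) in a torsion-free module, `F ⧸ S x` is not projective. -/
theorem not_projective {S F M : Type*} [CommRing S] [IsDomain S] [AddCommGroup F] [Module S F]
    [Module.IsTorsionFree S F] [AddCommGroup M] [Module S M] (ψ : F →ₗ[S] M)
    (hψ : Function.Surjective ψ) (x : F) (hx : x ≠ 0)
    (hker : LinearMap.ker ψ = Submodule.span S {x}) (J : Ideal S) (hJ : J ≠ ⊤)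
    (hxJ : x ∈ J • (⊤ : Submodule S F)) : ¬ Module.Projective S M := by
  intro hproj
  obtain ⟨s, hs⟩ := Module.projective_lifting_property ψ LinearMap.id hψ
  let π : F →ₗ[S] F := LinearMap.id - s ∘ₗ ψ
  have hs' : ∀ y, ψ (s y) = y := fun y => LinearMap.congr_fun hs y
  have hπker : ∀ y, π y ∈ Submodule.span S {x} := by
    intro y; rw [← hker, LinearMap.mem_ker]
    simp [π, map_sub, hs']
  have hψx : ψ x = 0 := by
    rw [← LinearMap.mem_ker, hker]; exact Submodule.mem_span_singleton_self x
  have hπx : π x = x := by simp [π, hψx]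
  have key : ∀ y ∈ J • (⊤ : Submodule S F), ∃ c ∈ J, π y = c • x := by
    intro y hy
    refine Submodule.smul_induction_on hy ?_ ?_
    · intro r hr n _
      obtain ⟨c, hc⟩ := Submodule.mem_span_singleton.mp (hπker n)
      exact ⟨r * c, J.mul_mem_right _ hr, by rw [map_smul, ← hc, mul_smul]⟩
    · rintro y z ⟨c, hc, h1⟩ ⟨d, hd, h2⟩
      exact ⟨c + d, J.add_mem hc hd, by rw [map_add, h1, h2, add_smul]⟩
  obtain ⟨c, hc, h⟩ := key x hxJ
  rw [hπx] at h
  have h0 : (1 - c) • x = 0 := by rw [sub_smul, one_smul, ← h, sub_self]
  rcases smul_eq_zero.mp h0 with h1 | h1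
  · apply hJ; rw [Ideal.eq_top_iff_one]; rwa [sub_eq_zero.mp h1]
  · exact hx h1

/-- If some functional takes value 1 on `x`, then `F ⧸ S x` is projective. -/
theorem projective_of_functional {S F M : Type*} [CommRing S] [AddCommGroup F] [Module S F]
    [Module.Projective S F]
    [AddCommGroup M] [Module S M] (ψ : F →ₗ[S] M)
    (hψ : Function.Surjective ψ) (x : F)
    (hker : LinearMap.ker ψ = Submodule.span S {x}) (r : F →ₗ[S] S) (hr : r x = 1) :
    Module.Projective S M := by
  let π' : F →ₗ[S] F := LinearMap.id - r.smulRight x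
  have hle : LinearMap.ker ψ ≤ LinearMap.ker π' := by
    rw [hker, Submodule.span_le]
    rintro _ rfl
    simp [π', hr]
  let i : M →ₗ[S] F := ((LinearMap.ker ψ).liftQ π' hle) ∘ₗ
    (ψ.quotKerEquivOfSurjective hψ).symm.toLinearMap
  have hψx : ψ x = 0 := by
    rw [← LinearMap.mem_ker, hker]; exact Submodule.mem_span_singleton_self x
  have hi : ∀ y, i (ψ y) = π' y := by
    intro y
    have : (ψ.quotKerEquivOfSurjective hψ).symm (ψ y) = Submodule.Quotient.mk y := by
      rw [LinearEquiv.symm_apply_eq]; rfl
    simp only [i, LinearMap.comp_apply, LinearEquiv.coe_coe, this]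
    rfl
  refine Module.Projective.of_split i ψ ?_
  ext m
  obtain ⟨y, rfl⟩ := hψ m
  rw [LinearMap.comp_apply, hi]
  simp [π', hψx]

theorem not_free_localized {A F M : Type u} [CommRing A] [IsDomain A] [AddCommGroup F] [Module A F]
    [Module.Free A F] [AddCommGroup M] [Module A M]
    (ψ : F →ₗ[A] M) (hψ : Function.Surjective ψ) (x : F) (hx : x ≠ 0)
    (hker : LinearMap.ker ψ = Submodule.span A {x}) (Q : Ideal A) [Q.IsPrime]
    (hxQ : x ∈ Q • (⊤ : Submodule A F)) :
    ¬ Module.Free (Localization.AtPrime Q) (LocalizedModule Q.primeCompl M) := by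
  intro hfree
  let ψQ : LocalizedModule Q.primeCompl F →ₗ[Localization.AtPrime Q]
      LocalizedModule Q.primeCompl M :=
    IsLocalizedModule.mapExtendScalars Q.primeCompl (LocalizedModule.mkLinearMap Q.primeCompl F)
      (LocalizedModule.mkLinearMap Q.primeCompl M) (Localization.AtPrime Q) ψ
  have hψQ_mk : ∀ y s, ψQ (LocalizedModule.mk y s) = LocalizedModule.mk (ψ y) s := by
    intro y s
    exact IsLocalizedModule.map_LocalizedModules Q.primeCompl ψ y s
  have hψx : ψ x = 0 := by
    rw [← LinearMap.mem_ker, hker]; exact Submodule.mem_span_singleton_self x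
  haveI : Module.Free (Localization.AtPrime Q) (LocalizedModule Q.primeCompl F) :=
    Module.free_of_isLocalizedModule Q.primeCompl (LocalizedModule.mkLinearMap Q.primeCompl F)
  refine not_projective ψQ ?_ (LocalizedModule.mk x 1) ?_ ?_
    (maximalIdeal (Localization.AtPrime Q)) (Ideal.IsPrime.ne_top') ?_ inferInstance
  · intro z
    induction z using LocalizedModule.induction_on with
    | h m s =>
      obtain ⟨y, rfl⟩ := hψ m
      exact ⟨LocalizedModule.mk y s, hψQ_mk y s⟩
  · intro h
    rw [← LocalizedModule.zero_mk 1, LocalizedModule.mk_eq] at h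
    obtain ⟨t, ht⟩ := h
    simp only [one_smul, smul_zero, Submonoid.smul_def] at ht
    rcases smul_eq_zero.mp ht with ht | ht
    · exact t.2 (by rw [show (t : A) = 0 from ht]; exact Q.zero_mem)
    · exact hx ht
  · ext z
    constructor
    · intro hz
      induction z using LocalizedModule.induction_on with
      | h y s =>
        rw [LinearMap.mem_ker, hψQ_mk, ← LocalizedModule.zero_mk s, LocalizedModule.mk_eq] at hz
        obtain ⟨t, ht⟩ := hz
        have hmem : (t * s : A) • y ∈ LinearMap.ker ψ := by
          rw [LinearMap.mem_ker, map_smul, mul_smul]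
          simpa [Submonoid.smul_def] using ht
        rw [hker, Submodule.mem_span_singleton] at hmem
        obtain ⟨c, hc⟩ := hmem
        rw [Submodule.mem_span_singleton]
        refine ⟨Localization.mk c (t * s * s), ?_⟩
        rw [LocalizedModule.mk_smul_mk, hc, mul_one]
        exact LocalizedModule.mk_cancel_common_left (t * s) s y
    · intro hz
      rw [Submodule.mem_span_singleton] at hz
      obtain ⟨c, rfl⟩ := hz
      rw [LinearMap.mem_ker, map_smul, hψQ_mk, hψx, LocalizedModule.zero_mk, smul_zero]
  · refine Submodule.smul_induction_on hxQ ?_ ?_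
    · intro r hr n _
      have : LocalizedModule.mk (r • n) (1 : Q.primeCompl) =
          algebraMap A (Localization.AtPrime Q) r • LocalizedModule.mk n (1 : Q.primeCompl) := by
        rw [← LocalizedModule.mkLinearMap_apply, ← LocalizedModule.mkLinearMap_apply, map_smul,
          algebraMap_smul]
      rw [this]
      exact Submodule.smul_mem_smul
        ((IsLocalization.AtPrime.to_map_mem_maximal_iff (Localization.AtPrime Q) Q r).mpr hr)
        Submodule.mem_top
    · intro y z hy hz
      have : LocalizedModule.mk (y + z) (1 : Q.primeCompl) =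
          LocalizedModule.mk y (1 : Q.primeCompl) + LocalizedModule.mk z (1 : Q.primeCompl) := by
        rw [← LocalizedModule.mkLinearMap_apply, ← LocalizedModule.mkLinearMap_apply,
          ← LocalizedModule.mkLinearMap_apply, map_add]
      rw [this]
      exact add_mem hy hz

theorem main {A N F M : Type u} [CommRing A] [IsDomain A] [IsNoetherianRing A] [IsLocalRing A]
    [AddCommGroup N] [Module A N] [AddCommGroup F] [Module A F] [AddCommGroup M] [Module A M]
    [Module.Free A N] [Module.Free A F] (hN : Module.finrank A N = 1) (hF : Module.finrank A F = 2)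
    (φ : N →ₗ[A] F) (ψ : F →ₗ[A] M) (hex : Function.Exact φ ψ) (hψ : Function.Surjective ψ)
    (hdim : ringKrullDim A = 3) (u : A)
    (h0 : ∀ P : PrimeSpectrum A, u ∈ P.asIdeal → P.asIdeal ≠ maximalIdeal A →
      Module.Free (Localization.AtPrime P.asIdeal) (LocalizedModule P.asIdeal.primeCompl M))
    (hm : ¬ Module.Free A M) :
    ∃ Q : PrimeSpectrum A, u ∉ Q.asIdeal ∧
      ¬ Module.Free (Localization.AtPrime Q.asIdeal)
        (LocalizedModule Q.asIdeal.primeCompl M) := by
  classical
  haveI : Module.Finite A N := Module.finite_of_finrank_pos (by omega)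
  haveI : Module.Finite A F := Module.finite_of_finrank_pos (by omega)
  let bN := Module.finBasisOfFinrankEq A N hN
  let bF := Module.finBasisOfFinrankEq A F hF
  set x := φ (bN 0) with hx
  have hker : LinearMap.ker ψ = Submodule.span A {x} := by
    rw [LinearMap.exact_iff.mp hex, LinearMap.range_eq_map, ← bN.span_eq, Submodule.map_span,
      Set.range_unique, Set.image_singleton]
    rfl
  set a := bF.repr x 0 with ha_def
  set b := bF.repr x 1 with hb_def
  have hxab : x = a • bF 0 + b • bF 1 := by
    conv_lhs => rw [← bF.sum_repr x, Fin.sum_univ_two]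
  have hx0 : x ≠ 0 := by
    intro h0'
    apply hm
    have : LinearMap.ker ψ = ⊥ := by rw [hker, h0', Submodule.span_zero_singleton]
    exact Module.Free.of_equiv (LinearEquiv.ofBijective ψ ⟨LinearMap.ker_eq_bot.mp this, hψ⟩)
  have hfun : ∀ r : F →ₗ[A] A, r x ∈ maximalIdeal A := by
    intro r
    by_contra hr
    have hunit : IsUnit (r x) := by rwa [mem_maximalIdeal, mem_nonunits_iff, not_not] at hr
    obtain ⟨v, hv⟩ := hunit
    apply hm
    haveI := projective_of_functional ψ hψ x hker ((↑v⁻¹ : A) • r) (by simp [← hv])
    haveI : Module.Finite A M := Module.Finite.of_surjective ψ hψ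
    exact Module.free_of_flat_of_isLocalRing
  have ha : a ∈ maximalIdeal A := hfun (bF.coord 0)
  have hb : b ∈ maximalIdeal A := hfun (bF.coord 1)
  have hA : ∀ Q : PrimeSpectrum A, a ∈ Q.asIdeal → b ∈ Q.asIdeal →
      ¬ Module.Free (Localization.AtPrime Q.asIdeal)
        (LocalizedModule Q.asIdeal.primeCompl M) := by
    intro Q haQ hbQ
    apply not_free_localized ψ hψ x hx0 hker Q.asIdeal
    rw [hxab]
    exact add_mem (Submodule.smul_mem_smul haQ Submodule.mem_top)
      (Submodule.smul_mem_smul hbQ Submodule.mem_top)
  by_contra hcon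
  push Not at hcon
  have hmin : maximalIdeal A ∈ (Ideal.span ((({a, b} : Finset A)) : Set A)).minimalPrimes := by
    refine ⟨⟨inferInstance, ?_⟩, ?_⟩
    · rw [Ideal.span_le]
      intro z hz
      simp only [Finset.coe_insert, Finset.coe_singleton, Set.mem_insert_iff,
        Set.mem_singleton_iff] at hz
      rcases hz with rfl | rfl <;> assumption
    · rintro q ⟨hq, hIq⟩ hqm
      have haq : a ∈ q := hIq (Ideal.subset_span (by simp))
      have hbq : b ∈ q := hIq (Ideal.subset_span (by simp))
      have hnf := hA ⟨q, hq⟩ haq hbq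
      have huq : u ∈ q := by
        by_contra h
        exact hnf (hcon ⟨q, hq⟩ h)
      by_contra hne
      apply hnf
      apply h0 ⟨q, hq⟩ huq
      intro heq
      exact hne (le_of_eq heq.symm)
  have hht := Ideal.height_le_card_of_mem_minimalPrimes_span_finset hmin
  have h3 : ((maximalIdeal A).height : WithBot ℕ∞) = 3 := by
    rw [IsLocalRing.maximalIdeal_height_eq_ringKrullDim, hdim]
  have h3' : (maximalIdeal A).height = 3 := WithBot.coe_injective (by rw [h3]; rfl)
  rw [h3'] at hht
  have hc : ({a, b} : Finset A).card ≤ 2 := Finset.card_le_two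
  have : (3 : ℕ∞) ≤ 2 := hht.trans (by exact_mod_cast hc)
  exact absurd this (by decide)


/-- Let V be a discrete valuation ring with uniformizer u and V → R → A commutative V-algebras with A an
R-algebra compatibly; assume A is a Noetherian local domain of Krull dimension 3 with u in its
maximal ideal, that Ω_{A/V} is a free A-module of rank 2 and that A ⊗_R Ω_{R/V} is a free A-module
of rank 1. Suppose that on the special fibre Ω_{A/R} is locally free exactly away from the closed
point: for every prime P of A containing u other than the maximal ideal the localization (Ω_{A/R})_P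
is free over A_P, while Ω_{A/R} is not free over A. Then Ω_{A/R} is not locally free on the generic
fibre: there is a prime Q of A not containing u with (Ω_{A/R})_Q not free over A_Q. (In the
published statement R is a regular local ring of dimension 2 and A a local ring of dimension 3, both
smooth over V, which yields the two freeness hypotheses used here, and the hypothesis is phrased as
local freeness of Ω of the special fibre of A over that of R away from the closed point.) -/
theorem result
    (V R A : Type u) [CommRing V] [IsDomain V] [IsDiscreteValuationRing V] [CommRing R] [CommRing A]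
    [IsDomain A] [IsNoetherianRing A] [IsLocalRing A]
    [Algebra V R] [Algebra V A] [Algebra R A] [IsScalarTower V R A]
    (u : V) (hu : Irreducible u) (huA : algebraMap V A u ∈ IsLocalRing.maximalIdeal A)
    (hdimA : ringKrullDim A = 3)
    (hΩA : Module.Free A (Ω[A⁄V])) (hrkA : Module.finrank A (Ω[A⁄V]) = 2)
    (hΩR : Module.Free A (A ⊗[R] Ω[R⁄V])) (hrkR : Module.finrank A (A ⊗[R] Ω[R⁄V]) = 1)
    (h0 : ∀ P : PrimeSpectrum A, algebraMap V A u ∈ P.asIdeal → P.asIdeal ≠ IsLocalRing.maximalIdeal A →
      Module.Free (Localization.AtPrime P.asIdeal) (LocalizedModule P.asIdeal.primeCompl (Ω[A⁄R])))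
    (hm : ¬ Module.Free A (Ω[A⁄R])) :
    ∃ Q : PrimeSpectrum A, algebraMap V A u ∉ Q.asIdeal ∧
      ¬ Module.Free (Localization.AtPrime Q.asIdeal) (LocalizedModule Q.asIdeal.primeCompl (Ω[A⁄R])) := by
  exact main hrkR hrkA (KaehlerDifferential.mapBaseChange V R A) (KaehlerDifferential.map V R A A)
    (KaehlerDifferential.exact_mapBaseChange_map V R A) (KaehlerDifferential.map_surjective V R A)
    hdimA (algebraMap V A u) h0 hm

end Groth.Agent.S15100
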