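import Groth.Statements.S15115
import Groth.Agent.Lib.ComodIntegral

set_option autoImplicit false
universe u
open HopfRep

namespace Groth.Agent.S15115

open Groth.Agent.Lib.Comod TensorProduct

section

variable {k : Type u} [Field k] {H : Type u} [CommRing H] [HopfAlgebra k H]

theorem exists_reynolds (hred : HopfRep.IsLinearlyReductive k H) :
    ∃ β : H →ₗ[k] k, β 1 = 1 ∧ ∀ a : H, slice β a = β a • (1 : H) := by
  obtain ⟨α, hα, h1⟩ := Groth.Agent.Lib.ComodIntegral.exists_isInt_of_isLinearlyReductive hred
  refine ⟨α ∘ₗ HopfAlgebraStruct.antipode k (A := H), ?_, fun a =>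
    Groth.Agent.Lib.ComodFP2.slice_comp_antipode_of_isComodHom α hα a⟩
  rw [LinearMap.comp_apply, HopfAlgebra.antipode_one, h1]

theorem act_of_mem_fixedPts {X : Type u} [AddCommGroup X] [Module k X] [HopfRep.Comod k H X]
    (β : H →ₗ[k] k) (h1 : β 1 = 1) {x : X} (hx : x ∈ HopfRep.fixedPts k H X) :
    act X β x = x := by
  have hx' : HopfRep.Comod.coact (k := k) (A := H) x = x ⊗ₜ[k] (1 : H) := hx
  rw [act_apply, hx', contr_tmul, h1, one_smul]

theorem contr_smul_left {R : Type u} [CommRing R] [Algebra k R] {X : Type u} [AddCommGroup X]
    [Module k X] [Module R X] [IsScalarTower k R X] (β : H →ₗ[k] k) (r : R) (x : X ⊗[k] H) :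
    contr X β (r • x) = r • contr X β x := by
  induction x using TensorProduct.induction_on with
  | zero => simp
  | add x y hx hy => simp only [smul_add, map_add, hx, hy]
  | tmul n h =>
    rw [TensorProduct.smul_tmul', contr_tmul, contr_tmul, smul_comm]

end

open TensorProduct in
/-- Let k be an algebraically closed field, H a finite-dimensional commutative Hopf algebra over k all
of whose finite-dimensional comodules are semisimple (a finite linearly reductive group scheme G
over k), A a commutative k-algebra, and M an A-module with an H-coaction that is A-linear (G acts on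
M by A-module maps, A carrying the trivial action). Let A' be a commutative A-algebra and N = A' ⊗_A
M its base change, exhibited by an A-linear map φ : M → N, with the induced coaction: A'-linear and
compatible with φ. Then invariants commute with this base change: writing M^G for the A-submodule of
coinvariant elements of M, the natural map A' ⊗_A M^G → N, a' ⊗ m ↦ a' φ(m), is injective and its
image is exactly the set of coinvariant elements of N. (The published statement is the isomorphism
ρ^* π_* F → π'_* σ^* F for a tame Deligne–Mumford stack with coarse moduli space π and any base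
change ρ of the coarse space; this row is the statement about invariants to which its proof reduces
it, for modules that need not be finitely generated.) -/
theorem result (k : Type u) [Field k] [IsAlgClosed k]
    (H : Type u) [CommRing H] [HopfAlgebra k H] [Module.Finite k H] (hred : HopfRep.IsLinearlyReductive k H)
    (A : Type u) [CommRing A] [Algebra k A]
    (M : Type u) [AddCommGroup M] [Module k M] [Module A M] [IsScalarTower k A M] [HopfRep.Comod k H M]
    (hlin : ∀ (a : A) (m : M), HopfRep.Comod.coact (k := k) (A := H) (a • m) = a • HopfRep.Comod.coact (k := k) (A := H) m)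
    (A' : Type u) [CommRing A'] [Algebra k A'] [Algebra A A'] [IsScalarTower k A A']
    (N : Type u) [AddCommGroup N] [Module k N] [Module A N] [Module A' N]
    [IsScalarTower k A N] [IsScalarTower A A' N] [IsScalarTower k A' N] [HopfRep.Comod k H N]
    (φ : M →ₗ[A] N) (hφ : IsBaseChange A' φ)
    (hcomp : ∀ m : M, HopfRep.Comod.coact (k := k) (A := H) (φ m) =
      LinearMap.rTensor H (φ.restrictScalars k) (HopfRep.Comod.coact (k := k) (A := H) m))
    (hlinN : ∀ (a' : A') (n : N), HopfRep.Comod.coact (k := k) (A := H) (a' • n) = a' • HopfRep.Comod.coact (k := k) (A := H) n)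
    (P : Submodule A M) (hP : (P : Set M) = (HopfRep.fixedPts k H M : Set M)) :
    Function.Injective (TensorProduct.lift (((Algebra.lsmul A A N : A' →ₐ[A] Module.End A N).toLinearMap).compl₂ (φ ∘ₗ P.subtype))) ∧
      Set.range (TensorProduct.lift (((Algebra.lsmul A A N : A' →ₐ[A] Module.End A N).toLinearMap).compl₂ (φ ∘ₗ P.subtype))) =
        (HopfRep.fixedPts k H N : Set N) := by
  obtain ⟨β, hβ1, hβ⟩ := exists_reynolds hred
  set T := TensorProduct.lift (((Algebra.lsmul A A N : A' →ₐ[A] Module.End A N).toLinearMap).compl₂
    (φ ∘ₗ P.subtype)) with hT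
  have hTt : ∀ (a' : A') (p : P), T (a' ⊗ₜ[A] p) = a' • φ (p : M) := by
    intro a' p
    simp [hT]
  -- the Reynolds operators
  have hRM_mem : ∀ m : M, act M β m ∈ P := by
    intro m
    have : act M β m ∈ (P : Set M) := by
      rw [hP]
      exact Groth.Agent.Lib.ComodFP2.act_mem_fixedPts_of_slice β hβ m
    exact this
  have hRM_lin : ∀ (a : A) (m : M), act M β (a • m) = a • act M β m := by
    intro a m
    rw [act_apply, hlin, contr_smul_left, ← act_apply]
  let π : M →ₗ[A] P :=
    { toFun := fun m => ⟨act M β m, hRM_mem m⟩
      map_add' := fun m m' => by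
        apply Subtype.ext
        simp
      map_smul' := fun a m => by
        apply Subtype.ext
        simp [hRM_lin] }
  have hπ : π ∘ₗ P.subtype = LinearMap.id := by
    apply LinearMap.ext
    intro p
    apply Subtype.ext
    have hp : (p : M) ∈ HopfRep.fixedPts k H M := by
      have : (p : M) ∈ (P : Set M) := p.2
      rw [hP] at this
      exact this
    exact act_of_mem_fixedPts β hβ1 hp
  have hRN_lin : ∀ (a' : A') (n : N), act N β (a' • n) = a' • act N β n := by
    intro a' n
    rw [act_apply, hlinN, contr_smul_left, ← act_apply]
  have hRNφ : ∀ m : M, act N β (φ m) = φ (act M β m) := by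
    intro m
    rw [act_apply, hcomp, contr_rTensor, ← act_apply]
    rfl
  constructor
  · -- injectivity
    have hT2 : ∀ x : A' ⊗[A] P,
        T x = hφ.equiv ((P.subtype.lTensor A') x) := by
      intro x
      induction x using TensorProduct.induction_on with
      | zero => simp
      | add x y hx hy => simp only [map_add, hx, hy]
      | tmul a' p => rw [hTt, LinearMap.lTensor_tmul, IsBaseChange.equiv_tmul]; rfl
    have hinj : Function.Injective (P.subtype.lTensor A') := by
      apply Function.LeftInverse.injective (g := π.lTensor A')
      intro x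
      rw [← LinearMap.comp_apply, ← LinearMap.lTensor_comp, hπ, LinearMap.lTensor_id,
        LinearMap.id_apply]
    intro x y hxy
    rw [hT2, hT2] at hxy
    exact hinj (hφ.equiv.injective hxy)
  · -- the range
    apply Set.eq_of_subset_of_subset
    · rintro _ ⟨x, rfl⟩
      induction x using TensorProduct.induction_on with
      | zero => rw [map_zero]; exact (HopfRep.fixedPts k H N).zero_mem
      | add x y hx hy => rw [map_add]; exact (HopfRep.fixedPts k H N).add_mem hx hy
      | tmul a' p =>
        rw [hTt]
        show HopfRep.Comod.coact (k := k) (A := H) (a' • φ (p : M)) = (a' • φ (p : M)) ⊗ₜ[k] (1 : H)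
        have hp : (p : M) ∈ HopfRep.fixedPts k H M := by
          have : (p : M) ∈ (P : Set M) := p.2
          rw [hP] at this
          exact this
        have hp' : HopfRep.Comod.coact (k := k) (A := H) (p : M) = (p : M) ⊗ₜ[k] (1 : H) := hp
        rw [hlinN, hcomp, hp', LinearMap.rTensor_tmul, TensorProduct.smul_tmul']
        rfl
    · intro n hn
      have hn' : act N β n = n := act_of_mem_fixedPts β hβ1 hn
      obtain ⟨y, rfl⟩ := hφ.equiv.surjective n
      have key : ∀ y : A' ⊗[A] M, act N β (hφ.equiv y) = T ((π.lTensor A') y) := by
        intro y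
        induction y using TensorProduct.induction_on with
        | zero => simp
        | add x y hx hy => simp only [map_add, hx, hy]
        | tmul a' m =>
          rw [IsBaseChange.equiv_tmul, hRN_lin, hRNφ, LinearMap.lTensor_tmul, hTt]
          rfl
      rw [← hn', key]
      exact ⟨_, rfl⟩

end Groth.Agent.S15115
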