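import Groth.Statements.S15117
import Mathlib.RingTheory.Flat.Basic
import Mathlib.RingTheory.Flat.FaithfullyFlat.Basic

set_option autoImplicit false
universe u v w
open TensorProduct
open NRGIT

namespace Groth.Agent.S15117

/-- Let k be a field, π : A → B a map of commutative bialgebras over k, W a right A-comodule and V ⊆ W a
subcomodule all of whose elements are coinvariant for the B-coaction induced through π. Then the
coaction of every v ∈ V lies in V ⊗ A' ⊆ W ⊗ A, where A' ⊆ A is the set of elements a with (π ⊗
id)(Δ a) = 1 ⊗ a, i.e. coinvariant for the coaction of B on A through π on the left factor; the row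
states membership in the span of the pure tensors w ⊗ a with w ∈ V and a ∈ A'. (The published
statement is for a linear algebraic group H over an algebraically closed field of characteristic
zero, a normal subgroup N and an H-stable space V of N-invariant sections of a linearised line
bundle, with the coaction landing in O(H)^N ⊗ V, where O(H)^N is the ring of functions on H
invariant under N acting by right multiplication; this row is the comodule form, for any bialgebra
map over a field, where normality of N is not needed.) -/
theorem result (k : Type u) [Field k]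
    (A B : Type v) [CommRing A] [CommRing B] [Bialgebra k A] [Bialgebra k B] (π : A →ₐc[k] B)
    (W : Type w) [AddCommGroup W] [Module k W] [HopfRep.Comod k A W]
    (V : Submodule k W) (hV : HopfRep.IsSubcomod (k := k) (A := A) V)
    (hfix : ∀ v ∈ V, (π.toLinearMap.lTensor W) (HopfRep.Comod.coact (k := k) (A := A) v) = v ⊗ₜ[k] (1 : B))
    (v : W) (hv : v ∈ V) :
    HopfRep.Comod.coact (k := k) (A := A) v ∈
      Submodule.span k {x : W ⊗[k] A | ∃ w ∈ V, ∃ a : A,
        (π.toLinearMap.rTensor A) (Coalgebra.comul (R := k) a) = (1 : B) ⊗ₜ[k] a ∧ x = w ⊗ₜ[k] a} := by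
  classical
  let ψ : A →ₗ[k] B ⊗[k] A :=
    (π.toLinearMap.rTensor A) ∘ₗ (Coalgebra.comul (R := k) (A := A)) - (TensorProduct.mk k B A 1)
  have hψ : ∀ a, ψ a = 0 ↔
      (π.toLinearMap.rTensor A) (Coalgebra.comul (R := k) a) = (1 : B) ⊗ₜ[k] a := by
    intro a
    simp only [ψ, LinearMap.sub_apply, LinearMap.comp_apply, TensorProduct.mk_apply, sub_eq_zero]
  obtain ⟨y, hy⟩ := hV v hv
  -- naturality of the associator
  have nat : ∀ (t : W ⊗[k] A) (a : A),
      ((π.toLinearMap.rTensor A).lTensor W) (TensorProduct.assoc k W A A (t ⊗ₜ a)) =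
        TensorProduct.assoc k W B A (((π.toLinearMap.lTensor W) t) ⊗ₜ a) := by
    intro t a
    induction t using TensorProduct.induction_on with
    | zero => simp
    | tmul w a' => simp
    | add t₁ t₂ h₁ h₂ => simp only [TensorProduct.add_tmul, map_add, h₁, h₂]
  have hL : ((π.toLinearMap.rTensor A).lTensor W) ∘ₗ (TensorProduct.assoc k W A A).toLinearMap ∘ₗ
        ((HopfRep.Comod.coact (k := k) (A := A) ∘ₗ V.subtype).rTensor A) =
      ((TensorProduct.mk k B A 1).lTensor W) ∘ₗ (V.subtype.rTensor A) := by
    apply TensorProduct.ext'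
    intro x a
    simp only [LinearMap.comp_apply, LinearMap.rTensor_tmul, LinearEquiv.coe_coe,
      Submodule.subtype_apply, LinearMap.lTensor_tmul, TensorProduct.mk_apply]
    rw [nat, hfix x x.2]
    simp
  have key : (ψ.lTensor W) (HopfRep.Comod.coact (k := k) (A := A) v) = 0 := by
    have h1 : (ψ.lTensor W) = ((π.toLinearMap.rTensor A).lTensor W) ∘ₗ
        ((Coalgebra.comul (R := k) (A := A)).lTensor W) - (TensorProduct.mk k B A 1).lTensor W := by
      rw [← LinearMap.lTensor_comp, ← LinearMap.lTensor_sub]
    rw [h1, LinearMap.sub_apply, sub_eq_zero, LinearMap.comp_apply]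
    have h2 := LinearMap.congr_fun (HopfRep.Comod.coassoc (k := k) (A := A) (V := W)) v
    simp only [LinearMap.comp_apply] at h2
    have h2' : (LinearMap.lTensor W (Coalgebra.comul (R := k) (A := A)))
        (HopfRep.Comod.coact (k := k) (A := A) v) = _ := h2.symm
    rw [h2', ← hy]
    have h3 := LinearMap.congr_fun hL y
    simp only [LinearMap.comp_apply] at h3
    rw [← h3, ← LinearMap.comp_apply (LinearMap.rTensor A _), ← LinearMap.rTensor_comp]
  have hy0 : (ψ.lTensor V) y = 0 := by
    apply Module.Flat.rTensor_preserves_injective_linearMap (M := B ⊗[k] A) V.subtype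
      Subtype.val_injective
    rw [map_zero, ← LinearMap.comp_apply, LinearMap.rTensor_comp_lTensor,
      ← LinearMap.lTensor_comp_rTensor, LinearMap.comp_apply, hy, key]
  have hex := Module.Flat.lTensor_exact V (LinearMap.exact_subtype_ker_map ψ)
  obtain ⟨z, hz⟩ := (hex y).mp hy0
  have hspan : ∀ z : V ⊗[k] LinearMap.ker ψ,
      (V.subtype.rTensor A) (((LinearMap.ker ψ).subtype.lTensor V) z) ∈
        Submodule.span k {x : W ⊗[k] A | ∃ w ∈ V, ∃ a : A,
          (π.toLinearMap.rTensor A) (Coalgebra.comul (R := k) a) = (1 : B) ⊗ₜ[k] a ∧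
            x = w ⊗ₜ[k] a} := by
    intro z
    induction z using TensorProduct.induction_on with
    | zero => simp
    | tmul x a =>
      simp only [LinearMap.lTensor_tmul, LinearMap.rTensor_tmul, Submodule.subtype_apply]
      exact Submodule.subset_span ⟨x, x.2, a, (hψ a).mp (LinearMap.mem_ker.mp a.2), rfl⟩
    | add z₁ z₂ h₁ h₂ =>
      rw [map_add, map_add]
      exact Submodule.add_mem _ h₁ h₂
  rw [← hy, ← hz]
  exact hspan z

end Groth.Agent.S15117
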