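import Groth.Statements.S15118
import Groth.Agent.Lib.QuotBC45
import Mathlib.AlgebraicGeometry.AlgClosed.Basic

set_option autoImplicit false
universe u
open CategoryTheory MonoidalCategory CartesianMonoidalCategory MonObj GrpObj AlgebraicGeometry Topology
open NRGIT

namespace Groth.Agent.S15118

/-- Over an algebraically closed field k of characteristic zero, let H be a linear algebraic group
(affine, reduced, of finite type) with a closed normal subgroup N and quotient q : H → Q (a
surjective homomorphism with kernel N), acting on a variety X (reduced, separated, of finite type);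
let the restricted action of N have a geometric quotient π : X → Y with Y a variety, and let Q act
on Y so that π is equivariant along q. Then every orbit of a geometric point of Y under Q is closed
exactly when every orbit of a geometric point of X under H is closed. (The published lemma assumes
in addition that the stabilisers of the N-action are finite, which this part does not use; it takes
geometric quotients in the sense of affine good quotients that are orbit spaces, while this row uses
a universally submersive geometric quotient that need not be affine; the induced action of Q on Y is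
taken as a datum together with the equivariance of π.) -/
theorem result (k : Type u) [Field k] [IsAlgClosed k] [CharZero k]
    (H N Q X Y : Over (Spec (CommRingCat.of k))) [GrpObj H] [GrpObj N] [GrpObj Q]
    [IsAffine H.left] [LocallyOfFiniteType H.hom] [IsReduced H.left]
    [IsAffine N.left] [LocallyOfFiniteType N.hom] [IsReduced N.left]
    [IsAffine Q.left] [LocallyOfFiniteType Q.hom] [IsReduced Q.left]
    [LocallyOfFiniteType X.hom] [QuasiCompact X.hom] [IsSeparated X.hom] [IsReduced X.left]
    [LocallyOfFiniteType Y.hom] [QuasiCompact Y.hom] [IsSeparated Y.hom] [IsReduced Y.left]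
    (i : N ⟶ H) [IsMonHom i] [IsClosedImmersion i.left] (hnorm : AlgGrp.IsNormalHom i)
    (q : H ⟶ Q) [IsMonHom q] [Surjective q.left] (hker : AlgGrp.IsKernel i q)
    (a : AlgGrp.Action H X) (aN : AlgGrp.Action N X) (haN : aN.act = (i ▷ X) ≫ a.act)
    (π : X ⟶ Y) (hπ : GIT.IsGeomQuot aN π)
    (aQ : AlgGrp.Action Q Y) (hequiv : (q ⊗ₘ π) ≫ aQ.act = a.act ≫ π) :
    GIT.IsClosedAction aQ ↔ GIT.IsClosedAction a := by
  have hK := fun (T : Over (Spec (CommRingCat.of k))) (f : T ⟶ X) =>
    Groth.Agent.Lib.QuotBC45.range_psi_eq_preimage i q a aN aQ π haN hπ.inv hπ.orbit hequiv f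
  constructor
  · intro hQ Ω _ _ T e f
    have h1 := hQ Ω T e (f ≫ π)
    change IsClosed (Set.range (GIT.psi a f).left)
    rw [hK]
    exact h1.preimage (π ▷ T).left.continuous
  · intro hH Ω _ _ T e g
    -- lift the geometric point `g` of `Y` to `X`
    obtain ⟨f, rfl⟩ : ∃ f : T ⟶ X, f ≫ π = g := by
      have hlft : LocallyOfFiniteType π.left := by
        have : LocallyOfFiniteType (π.left ≫ Y.hom) := by rw [Over.w π]; infer_instance
        exact locallyOfFiniteType_of_comp π.left Y.hom
      let sF : Limits.pullback π.left g.left ⟶ Spec (CommRingCat.of Ω) :=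
        Limits.pullback.snd π.left g.left ≫ e.hom
      have hsF : LocallyOfFiniteType sF := inferInstance
      have hsurj : Surjective π.left := ⟨hπ.surj⟩
      have hsurj' : Surjective (Limits.pullback.snd π.left g.left) := inferInstance
      have hne : (Set.univ : Set ↥(Limits.pullback π.left g.left)).Nonempty := by
        have t0 : Nonempty ↥(Spec (CommRingCat.of Ω)) :=
          inferInstanceAs (Nonempty (PrimeSpectrum Ω))
        obtain ⟨t⟩ := t0
        obtain ⟨x, -⟩ := hsurj'.surj (e.inv t)
        exact ⟨x, trivial⟩
      have hJ : JacobsonSpace ↥(Limits.pullback π.left g.left) :=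
        LocallyOfFiniteType.jacobsonSpace sF
      obtain ⟨y, -, hy'⟩ := nonempty_inter_closedPoints hne isClosed_univ.isLocallyClosed
      have hy : IsClosed ({y} : Set ↥(Limits.pullback π.left g.left)) := hy'
      have hs : pointOfClosedPoint sF y hy ≫ sF = 𝟙 _ := pointOfClosedPoint_comp sF y hy
      have hs' : pointOfClosedPoint sF y hy ≫ Limits.pullback.snd π.left g.left = e.inv := by
        rw [← cancel_mono e.hom, Category.assoc, hs, e.inv_hom_id]
      have hfl : (e.hom ≫ pointOfClosedPoint sF y hy ≫ Limits.pullback.fst π.left g.left) ≫ π.left
          = g.left := by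
        rw [Category.assoc, Category.assoc, Limits.pullback.condition, ← Category.assoc _ _ g.left,
          hs', e.hom_inv_id_assoc]
      refine ⟨Over.homMk (e.hom ≫ pointOfClosedPoint sF y hy ≫ Limits.pullback.fst π.left g.left)
        ?_, ?_⟩
      · rw [← Over.w π, ← Category.assoc, hfl, Over.w g]
      · ext1
        exact hfl
    have hquot : IsQuotientMap (π ▷ T).left :=
      hπ.subm (fst X T).left (fst Y T).left (π ▷ T).left
        (Groth.Agent.Lib.SchDomProd45.isPullback_whiskerRight_fst T π)
    change IsClosed (Set.range (GIT.psi aQ (f ≫ π)).left)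
    rw [← hquot.isClosed_preimage, ← hK]
    exact hH Ω T e f

end Groth.Agent.S15118
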