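import Groth.Statements.S15125
import Mathlib

set_option autoImplicit false
universe u
open scoped TensorProduct
open Fields

namespace Groth.Agent.S15125

open Polynomial

theorem of_eq_iff {R M : Type*} [CommRing R] (I : Ideal R) [AddCommGroup M] [Module R M] (a b : M) :
    AdicCompletion.of I M a = AdicCompletion.of I M b ↔
      a - b ∈ (⨅ n : ℕ, I ^ n • ⊤ : Submodule R M) := by
  rw [← sub_eq_zero, ← map_sub, Submodule.mem_iInf]
  have key : ∀ n, (AdicCompletion.of I M (a - b)).val n = Submodule.Quotient.mk (a - b) :=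
    fun n => rfl
  constructor
  · intro h n
    have := congrArg (fun z => z.val n) h
    simp only [key] at this
    exact (Submodule.Quotient.mk_eq_zero _).1 this
  · intro h
    ext n
    rw [key]
    exact (Submodule.Quotient.mk_eq_zero _).2 (h n)

variable {K L : Type u} [Field K] [Field L] [Algebra K L]

/-- the element `x ⊗ 1 - 1 ⊗ x` -/
noncomputable def del (K : Type u) {L : Type u} [Field K] [Field L] [Algebra K L] (x : L) : L ⊗[K] L :=
  x ⊗ₜ[K] (1 : L) - (1 : L) ⊗ₜ[K] x

theorem del_mem (x : L) : del K x ∈ KaehlerDifferential.ideal K L := by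
  have := KaehlerDifferential.one_smul_sub_smul_one_mem_ideal K x
  have h2 : del K x = -((1 : L) ⊗ₜ[K] x - x ⊗ₜ[K] (1 : L)) := by simp [del]
  rw [h2]
  exact (KaehlerDifferential.ideal K L).neg_mem this

theorem del_mem_pow_of_separable (x : L) (hx : (minpoly K x).Separable) (n : ℕ) :
    del K x ∈ (KaehlerDifferential.ideal K L) ^ n := by
  set f := minpoly K x with hf
  set A := L ⊗[K] L
  set a : A := x ⊗ₜ[K] (1 : L) with ha
  set b : A := (1 : L) ⊗ₜ[K] x with hb
  set g : A[X] := f.map (algebraMap K A) with hg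
  have hxint : IsIntegral K x := by
    by_contra h
    have : minpoly K x = 0 := minpoly.eq_zero h
    rw [← hf] at this
    rw [this] at hx
    exact Polynomial.not_separable_zero hx
  have ea : g.eval a = 0 := by
    rw [hg, Polynomial.eval_map_algebraMap]
    have : a = Algebra.TensorProduct.includeLeft (R := K) (S := K) (A := L) (B := L) x := rfl
    rw [this, Polynomial.aeval_algHom_apply, hf, minpoly.aeval, map_zero]
  have eb : g.eval b = 0 := by
    rw [hg, Polynomial.eval_map_algebraMap]
    have : b = Algebra.TensorProduct.includeRight (R := K) (A := L) (B := L) x := rfl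
    rw [this, Polynomial.aeval_algHom_apply, hf, minpoly.aeval, map_zero]
  obtain ⟨k, hk⟩ := Polynomial.binomExpansion g a (b - a)
  have hab : a + (b - a) = b := by ring
  rw [hab, ea, eb] at hk
  set c : L := Polynomial.aeval x (derivative f) with hc
  have hc0 : c ≠ 0 := hx.aeval_derivative_ne_zero (minpoly.aeval K x)
  have hu : (derivative g).eval a = c ⊗ₜ[K] (1 : L) := by
    rw [hg, Polynomial.derivative_map, Polynomial.eval_map_algebraMap]
    have : a = Algebra.TensorProduct.includeLeft (R := K) (S := K) (A := L) (B := L) x := rfl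
    rw [this, Polynomial.aeval_algHom_apply]
    rfl
  rw [hu] at hk
  set v : A := c⁻¹ ⊗ₜ[K] (1 : L) with hv
  have hvu : v * (c ⊗ₜ[K] (1 : L)) = 1 := by
    rw [hv, Algebra.TensorProduct.tmul_mul_tmul, inv_mul_cancel₀ hc0, mul_one]
    rfl
  have hd : del K x = (v * k * del K x) * del K x := by
    have h1 : del K x = a - b := rfl
    have h2 : (0 : A) = v * (c ⊗ₜ[K] (1 : L)) * (b - a) + v * k * (b - a) ^ 2 := by
      have := congrArg (fun t => v * t) hk
      simp only [mul_zero, zero_add] at this
      rw [this]; ring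
    rw [hvu, one_mul] at h2
    rw [h1]
    linear_combination h2
  have hj : v * k * del K x ∈ KaehlerDifferential.ideal K L :=
    Ideal.mul_mem_left _ _ (del_mem x)
  induction n with
  | zero => simp
  | succ n ih =>
    rw [hd, pow_succ']
    exact Ideal.mul_mem_mul hj ih

section ann

variable (K) (x : L)

/-- the subalgebra `K[x]` of `L` -/
noncomputable abbrev Dx : Subalgebra K L := (Polynomial.aeval x : K[X] →ₐ[K] L).range

noncomputable abbrev piD : K[X] →ₐ[K] Dx K x := (Polynomial.aeval x : K[X] →ₐ[K] L).rangeRestrict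

theorem piD_surjective : Function.Surjective (piD K x) :=
  AlgHom.rangeRestrict_surjective _

instance : IsPrincipalIdealRing (Dx K x) :=
  IsPrincipalIdealRing.of_surjective (piD K x).toRingHom (piD_surjective K x)

instance flat_Dx : Module.Flat (Dx K x) L := by
  rw [Module.Flat.flat_iff_torsion_eq_bot_of_isBezout]
  rw [← Submodule.isTorsionFree_iff_torsion_eq_bot]
  infer_instance

/-- the generator `x` as an element of `K[x]`. -/
noncomputable abbrev xD : Dx K x := ⟨x, ⟨Polynomial.X, by simp⟩⟩

/-- the ring `K[x] ⊗ L`. -/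
abbrev Qx : Type u := (Dx K x) ⊗[K] L

/-- the element `x ⊗ 1 - 1 ⊗ x` of `K[x] ⊗ L`. -/
noncomputable def dQ : Qx K x := (xD K x) ⊗ₜ[K] (1 : L) - (1 : Dx K x) ⊗ₜ[K] x

/-- multiplication `K[x] ⊗ L → L`. -/
noncomputable def muQ : Qx K x →ₐ[K] L :=
  Algebra.TensorProduct.productMap (Dx K x).val (AlgHom.id K L)

/-- the identification `L ⊗_{K[x]} (K[x] ⊗_K L) ≃ L ⊗_K L`. -/
noncomputable def eQ : L ⊗[Dx K x] (Qx K x) ≃ₗ[L] L ⊗[K] L :=
  TensorProduct.AlgebraTensorModule.cancelBaseChange K (Dx K x) L L L

theorem lmul_eQ (b : L) (q : Qx K x) :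
    Algebra.TensorProduct.lmul' K (eQ K x (b ⊗ₜ[Dx K x] q)) = b * muQ K x q := by
  induction q using TensorProduct.induction_on with
  | zero => simp
  | tmul g c =>
    simp only [eQ, TensorProduct.AlgebraTensorModule.cancelBaseChange_tmul, muQ,
      Algebra.TensorProduct.lmul'_apply_tmul, Algebra.TensorProduct.productMap_apply_tmul,
      Subalgebra.coe_val, AlgHom.coe_id, id_eq, Subalgebra.smul_def]
    ring
  | add q₁ q₂ h₁ h₂ =>
    rw [TensorProduct.tmul_add, map_add, map_add, map_add, h₁, h₂, mul_add]

theorem eQ_mul (b : L) (q : Qx K x) :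
    eQ K x (b ⊗ₜ[Dx K x] (dQ K x * q)) = del K x * eQ K x (b ⊗ₜ[Dx K x] q) := by
  induction q using TensorProduct.induction_on with
  | zero => simp
  | tmul g c =>
    simp only [dQ, del, sub_mul, Algebra.TensorProduct.tmul_mul_tmul, TensorProduct.tmul_sub,
      map_sub, eQ, TensorProduct.AlgebraTensorModule.cancelBaseChange_tmul, one_mul,
      Subalgebra.smul_def, MulMemClass.coe_mul, smul_eq_mul, mul_assoc]
  | add q₁ q₂ h₁ h₂ =>
    rw [mul_add, TensorProduct.tmul_add, map_add, h₁, h₂, TensorProduct.tmul_add, map_add, mul_add]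

/-- the equivalence `L[X] ≃ K[X] ⊗ L`. -/
noncomputable def EE : L[X] ≃ₐ[K] K[X] ⊗[K] L :=
  (polyEquivTensor K L).trans (Algebra.TensorProduct.comm K L K[X])

/-- the surjection `L[X] → K[x] ⊗ L`. -/
noncomputable def Psi : L[X] →ₐ[K] Qx K x :=
  (Algebra.TensorProduct.map (piD K x) (AlgHom.id K L)).comp (EE K (L := L)).toAlgHom

theorem Psi_surjective : Function.Surjective (Psi K x) := by
  have h1 : Function.Surjective (Algebra.TensorProduct.map (piD K x) (AlgHom.id K L)) :=
    Algebra.TensorProduct.map_surjective _ _ (piD_surjective K x) Function.surjective_id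
  exact h1.comp (EE K (L := L)).surjective

theorem EE_X : EE K (L := L) X = (X : K[X]) ⊗ₜ[K] (1 : L) := by
  simp [EE, polyEquivTensor_apply]

theorem EE_C (a : L) : EE K (L := L) (C a) = (1 : K[X]) ⊗ₜ[K] a := by
  simp [EE, polyEquivTensor_apply]

theorem Psi_X : Psi K x X = (xD K x) ⊗ₜ[K] (1 : L) := by
  have : piD K x X = xD K x := by
    apply Subtype.ext
    simp [piD]
  simp [Psi, EE_X, this]

theorem Psi_C (a : L) : Psi K x (C a) = (1 : Dx K x) ⊗ₜ[K] a := by
  simp [Psi, EE_C]

theorem muQ_Psi (u : L[X]) : muQ K x (Psi K x u) = u.eval x := by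
  have : ((muQ K x).toRingHom.comp (Psi K x).toRingHom) = Polynomial.evalRingHom x := by
    apply Polynomial.ringHom_ext
    · intro a
      simp [Psi_C, muQ]
    · simp [Psi_X, muQ]
  exact RingHom.congr_fun this u

theorem EE_symm_tmul_one (f : K[X]) :
    (EE K (L := L)).symm (f ⊗ₜ[K] (1 : L)) = f.map (algebraMap K L) := by
  simp [EE]

theorem dvd_of_Psi_eq_zero (w : L[X]) (h : Psi K x w = 0) :
    (minpoly K x).map (algebraMap K L) ∣ w := by
  have h1 : EE K (L := L) w ∈ RingHom.ker (Algebra.TensorProduct.map (piD K x) (AlgHom.id K L)) := by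
    rw [RingHom.mem_ker]; exact h
  rw [Algebra.TensorProduct.rTensor_ker _ (piD_surjective K x)] at h1
  have hker : RingHom.ker (piD K x) = Ideal.span {minpoly K x} := by
    rw [AlgHom.ker_rangeRestrict]
    exact minpoly.ker_aeval_eq_span_minpoly K x
  rw [hker, Ideal.map_span, Set.image_singleton, Ideal.mem_span_singleton] at h1
  have h2 := map_dvd (EE K (L := L)).symm h1
  rw [AlgEquiv.symm_apply_apply] at h2
  have h3 : (EE K (L := L)).symm
      ((Algebra.TensorProduct.includeLeft : K[X] →ₐ[K] K[X] ⊗[K] L) (minpoly K x)) =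
      (minpoly K x).map (algebraMap K L) := EE_symm_tmul_one K (minpoly K x)
  rwa [h3] at h2

end ann


section ann2
variable (K : Type u) {L : Type u} [Field K] [Field L] [Algebra K L] (x : L)

theorem sq_dvd_of_not_separable (hx : ¬ (minpoly K x).Separable) :
    (X - C x) ^ 2 ∣ (minpoly K x).map (algebraMap K L) := by
  by_cases h0 : minpoly K x = 0
  · simp [h0]
  have hint : IsIntegral K x := by
    by_contra h; exact h0 (minpoly.eq_zero h)
  have hirr := minpoly.irreducible hint
  have hder : derivative (minpoly K x) = 0 := by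
    by_contra h
    exact hx ((Polynomial.separable_iff_derivative_ne_zero hirr).2 h)
  set fL := (minpoly K x).map (algebraMap K L) with hfL
  have hroot : fL.IsRoot x := by
    simp [hfL, Polynomial.IsRoot, Polynomial.eval_map_algebraMap, minpoly.aeval]
  obtain ⟨g, hg⟩ := Polynomial.dvd_iff_isRoot.2 hroot
  have hd : derivative fL = 0 := by
    simp [hfL, Polynomial.derivative_map, hder]
  rw [hg, Polynomial.derivative_mul] at hd
  have hd' : g + (X - C x) * derivative g = 0 := by
    simpa using hd
  have hg2 : g = (X - C x) * (-derivative g) := by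
    linear_combination hd'
  rw [hg, hg2]
  exact ⟨-derivative g, by ring⟩

theorem lmul_eq_zero_of_del_mul (hx : ¬ (minpoly K x).Separable) (z : L ⊗[K] L)
    (hz : del K x * z = 0) : Algebra.TensorProduct.lmul' K z = 0 := by
  have h4 : ∀ q : Qx K x, dQ K x * q = 0 → muQ K x q = 0 := by
    intro q hq
    obtain ⟨u, rfl⟩ := Psi_surjective K x q
    have hd : dQ K x = Psi K x (X - C x) := by
      rw [map_sub, Psi_X, Psi_C]; rfl
    rw [hd, ← map_mul] at hq
    have h1 := dvd_of_Psi_eq_zero K x _ hq
    have h2 := (sq_dvd_of_not_separable K x hx).trans h1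
    rw [pow_two] at h2
    have h3 : (X - C x) ∣ u := (mul_dvd_mul_iff_left (X_sub_C_ne_zero x)).1 h2
    rw [muQ_Psi]
    exact Polynomial.dvd_iff_isRoot.1 h3
  set m : Qx K x →ₗ[Dx K x] Qx K x := LinearMap.mulLeft (Dx K x) (dQ K x) with hm
  set t := (eQ K x).symm z with ht
  have hzt : z = eQ K x t := by simp [ht]
  have hcompat : ∀ t', eQ K x (LinearMap.lTensor L m t') = del K x * eQ K x t' := by
    intro t'
    induction t' using TensorProduct.induction_on with
    | zero => simp
    | tmul b q => simpa [hm] using eQ_mul K x b q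
    | add a b ha hb => rw [map_add, map_add, ha, hb, map_add, mul_add]
  have h5 : LinearMap.lTensor L m t = 0 := by
    apply (eQ K x).injective
    rw [hcompat, ← hzt, hz, map_zero]
  have hex := @Module.Flat.lTensor_exact (Dx K x) L _ _ _ _ (LinearMap.ker m) (Qx K x) (Qx K x)
    _ _ _ _ _ _ (LinearMap.ker m).subtype m (LinearMap.exact_subtype_ker_map m)
  have hall : ∀ w : L ⊗[Dx K x] (LinearMap.ker m),
      Algebra.TensorProduct.lmul' K (eQ K x (LinearMap.lTensor L (LinearMap.ker m).subtype w)) = 0 := by
    intro w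
    induction w using TensorProduct.induction_on with
    | zero => simp
    | tmul b q =>
      rw [LinearMap.lTensor_tmul, lmul_eQ]
      have hq : dQ K x * (q : Qx K x) = 0 := q.2
      rw [Submodule.subtype_apply, h4 _ hq, mul_zero]
    | add a b ha hb => rw [map_add, map_add, map_add, ha, hb, add_zero]
  obtain ⟨w, hw⟩ := (hex t).1 h5
  rw [hzt, ← hw]
  exact hall w

end ann2

/-- Let L be a finitely generated field extension of K, and I ⊆ L ⊗_K L the kernel of multiplication L
⊗_K L → L. An element x of L has the property that x ⊗ 1 and 1 ⊗ x have the same image in the I-adic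
completion of L ⊗_K L if and only if x is separable algebraic over K. Equivalently, the equaliser of
the two natural maps from L to that completion is the separable algebraic closure of K in L. -/
theorem result
    (K L : Type u) [Field K] [Field L] [Algebra K L]
    (hfg : (⊤ : IntermediateField K L).FG) (x : L) :
    AdicCompletion.of (KaehlerDifferential.ideal K L) (L ⊗[K] L) (x ⊗ₜ[K] (1 : L)) =
        AdicCompletion.of (KaehlerDifferential.ideal K L) (L ⊗[K] L) ((1 : L) ⊗ₜ[K] x) ↔
      x ∈ separableClosure K L := by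
  rw [of_eq_iff, mem_separableClosure_iff]
  change _ ↔ (minpoly K x).Separable
  constructor
  · intro h
    by_contra hx
    have : Algebra.EssFiniteType K L := IntermediateField.fg_top_iff.mp hfg
    have : IsNoetherianRing (L ⊗[K] L) := Algebra.EssFiniteType.isNoetherianRing L (L ⊗[K] L)
    obtain ⟨r, hr⟩ := (Ideal.mem_iInf_smul_pow_eq_bot_iff _ _).1 h
    have h1 : del K x * (1 - r.1) = 0 := by
      have : r.1 * del K x = del K x := hr
      rw [mul_sub, mul_one, mul_comm, this, sub_self]
    have h2 := lmul_eq_zero_of_del_mul K x hx _ h1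
    rw [map_sub, map_one] at h2
    have h3 : Algebra.TensorProduct.lmul' K r.1 = 0 := r.2
    rw [h3, sub_zero] at h2
    exact one_ne_zero h2
  · intro hx
    rw [Submodule.mem_iInf]
    intro n
    have := del_mem_pow_of_separable x hx n
    simpa [del] using this

end Groth.Agent.S15125
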