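import Groth.Statements.S15126
import Mathlib.RingTheory.MvPowerSeries.Basic
import Mathlib.RingTheory.MvPolynomial.Basic
import Mathlib.RingTheory.Ideal.Quotient.Operations
import Mathlib.RingTheory.Adjoin.Basic
import Mathlib.Data.Finsupp.Encodable
import Mathlib.Tactic

set_option autoImplicit false
universe u
open Formal

namespace Groth.Agent.S15126

section construction

variable (k : Type u) [Field k] (n : ℕ) (R : Type u) [CommRing R]
  [Algebra (MvPowerSeries (Fin n) k) R]

/-- the polynomial ring on the coefficient variables `c_{r,m}`. -/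
abbrev Pol : Type u := MvPolynomial (R × (Fin n →₀ ℕ)) k

/-- formal series with coefficient variables -/
noncomputable def U (r : R) : MvPowerSeries (Fin n) (Pol k n R) := fun m => MvPolynomial.X (r, m)

lemma coeff_U (r : R) (m : Fin n →₀ ℕ) :
    MvPowerSeries.coeff m (U k n R r) = MvPolynomial.X (r, m) := rfl

/-- the relations -/
noncomputable def rels : Set (Pol k n R) :=
  {p | ∃ r s m, p = MvPowerSeries.coeff m (U k n R (r + s) - U k n R r - U k n R s)} ∪
  {p | ∃ r s m, p = MvPowerSeries.coeff m (U k n R (r * s) - U k n R r * U k n R s)} ∪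
  {p | ∃ (φ : MvPowerSeries (Fin n) k) (m : Fin n →₀ ℕ),
    p = MvPowerSeries.coeff m (U k n R (algebraMap _ R φ) -
      MvPowerSeries.map (MvPolynomial.C : k →+* Pol k n R) φ)}

/-- the ideal of relations -/
noncomputable def I : Ideal (Pol k n R) := Ideal.span (rels k n R)

/-- the corepresenting algebra -/
abbrev PP : Type u := Pol k n R ⧸ I k n R

lemma map_mk_eq_zero (F : MvPowerSeries (Fin n) (Pol k n R))
    (h : ∀ m, MvPowerSeries.coeff m F ∈ I k n R) :
    MvPowerSeries.map (Ideal.Quotient.mk (I k n R)) F = 0 := by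
  ext m
  rw [MvPowerSeries.coeff_map, map_zero, Ideal.Quotient.eq_zero_iff_mem]
  exact h m

/-- the universal family -/
noncomputable def uu (r : R) : MvPowerSeries (Fin n) (PP k n R) :=
  MvPowerSeries.map (Ideal.Quotient.mk (I k n R)) (U k n R r)

lemma coeff_uu (r : R) (m : Fin n →₀ ℕ) :
    MvPowerSeries.coeff m (uu k n R r) = Ideal.Quotient.mk (I k n R) (MvPolynomial.X (r, m)) := by
  rw [uu, MvPowerSeries.coeff_map, coeff_U]

lemma uu_add (r s : R) : uu k n R (r + s) = uu k n R r + uu k n R s := by
  have := map_mk_eq_zero k n R (U k n R (r + s) - U k n R r - U k n R s) (fun m =>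
    Ideal.subset_span (Or.inl (Or.inl ⟨r, s, m, rfl⟩)))
  rw [map_sub, map_sub, sub_sub, sub_eq_zero] at this
  exact this

lemma uu_mul (r s : R) : uu k n R (r * s) = uu k n R r * uu k n R s := by
  have := map_mk_eq_zero k n R (U k n R (r * s) - U k n R r * U k n R s) (fun m =>
    Ideal.subset_span (Or.inl (Or.inr ⟨r, s, m, rfl⟩)))
  rw [map_sub, map_mul, sub_eq_zero] at this
  exact this

lemma uu_algebraMap (φ : MvPowerSeries (Fin n) k) :
    uu k n R (algebraMap _ R φ) = algebraMap (MvPowerSeries (Fin n) k) (MvPowerSeries (Fin n) (PP k n R)) φ := by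
  have := map_mk_eq_zero k n R (U k n R (algebraMap _ R φ) -
      MvPowerSeries.map (MvPolynomial.C : k →+* Pol k n R) φ) (fun m =>
    Ideal.subset_span (Or.inr ⟨φ, m, rfl⟩))
  rw [map_sub, sub_eq_zero] at this
  rw [uu, this]
  rw [RingHom.algebraMap_toAlgebra]
  rw [← RingHom.comp_apply, ← MvPowerSeries.map_comp]
  rfl

/-- the universal family as an algebra map -/
noncomputable def uHom : R →ₐ[MvPowerSeries (Fin n) k] MvPowerSeries (Fin n) (PP k n R) where
  toFun := uu k n R
  map_one' := by
    have := uu_algebraMap k n R 1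
    rwa [map_one, map_one] at this
  map_mul' := uu_mul k n R
  map_zero' := by
    have := uu_add k n R 0 0
    rw [add_zero] at this
    exact left_eq_add.mp this
  map_add' := uu_add k n R
  commutes' := uu_algebraMap k n R

lemma uHom_apply (r : R) : uHom k n R r = uu k n R r := rfl

section universal

variable {Q : Type u} [CommRing Q] [Algebra k Q]
  (f : R →ₐ[MvPowerSeries (Fin n) k] MvPowerSeries (Fin n) Q)

/-- the map on the polynomial ring -/
noncomputable def g₀ : Pol k n R →ₐ[k] Q :=
  MvPolynomial.aeval (fun rm : R × (Fin n →₀ ℕ) => MvPowerSeries.coeff rm.2 (f rm.1))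

lemma map_g₀_U (r : R) :
    MvPowerSeries.map (g₀ k n R f : Pol k n R →+* Q) (U k n R r) = f r := by
  ext m
  rw [MvPowerSeries.coeff_map, coeff_U]
  simp [g₀]

lemma I_le_ker : I k n R ≤ RingHom.ker (g₀ k n R f : Pol k n R →+* Q) := by
  unfold I
  rw [Ideal.span_le]
  rintro p ((⟨r, s, m, rfl⟩ | ⟨r, s, m, rfl⟩) | ⟨φ, m, rfl⟩)
  · rw [SetLike.mem_coe, RingHom.mem_ker, ← MvPowerSeries.coeff_map]
    have : MvPowerSeries.map (g₀ k n R f : Pol k n R →+* Q)
        (U k n R (r + s) - U k n R r - U k n R s) = 0 := by
      rw [map_sub, map_sub, map_g₀_U, map_g₀_U, map_g₀_U, map_add]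
      abel
    rw [this, map_zero]
  · rw [SetLike.mem_coe, RingHom.mem_ker, ← MvPowerSeries.coeff_map]
    have : MvPowerSeries.map (g₀ k n R f : Pol k n R →+* Q)
        (U k n R (r * s) - U k n R r * U k n R s) = 0 := by
      rw [map_sub, map_mul, map_g₀_U, map_g₀_U, map_g₀_U, map_mul, sub_self]
    rw [this, map_zero]
  · rw [SetLike.mem_coe, RingHom.mem_ker, ← MvPowerSeries.coeff_map]
    have : MvPowerSeries.map (g₀ k n R f : Pol k n R →+* Q)
        (U k n R (algebraMap _ R φ) - MvPowerSeries.map (MvPolynomial.C : k →+* Pol k n R) φ) = 0 := by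
      rw [map_sub, map_g₀_U, ← RingHom.comp_apply, ← MvPowerSeries.map_comp, AlgHom.commutes]
      have h2 : (g₀ k n R f : Pol k n R →+* Q).comp (MvPolynomial.C : k →+* Pol k n R) =
          algebraMap k Q := by
        ext x
        simp [g₀]
      rw [h2, RingHom.algebraMap_toAlgebra, sub_self]
    rw [this, map_zero]

/-- the induced map from the corepresenting algebra -/
noncomputable def gg : PP k n R →ₐ[k] Q :=
  Ideal.Quotient.liftₐ (I k n R) (g₀ k n R f) (fun a ha => I_le_ker k n R f ha)

lemma gg_mk (p : Pol k n R) : gg k n R f (Ideal.Quotient.mk (I k n R) p) = g₀ k n R f p := rfl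

end universal

lemma adjoin_mk_X_eq_top :
    Algebra.adjoin k (Set.range fun rm : R × (Fin n →₀ ℕ) =>
      (Ideal.Quotient.mk (I k n R) (MvPolynomial.X rm) : PP k n R)) = ⊤ := by
  have h1 : Algebra.adjoin k (Set.range (MvPolynomial.X : R × (Fin n →₀ ℕ) → Pol k n R)) = ⊤ :=
    MvPolynomial.adjoin_range_X
  have h2 := congrArg (Subalgebra.map (Ideal.Quotient.mkₐ k (I k n R))) h1
  rw [AlgHom.map_adjoin, Algebra.map_top, ← Set.range_comp] at h2
  rw [(AlgHom.range_eq_top _).2 (Ideal.Quotient.mkₐ_surjective k (I k n R))] at h2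
  exact h2

end construction

/-- Affine case. Let k be a field, n > 0, and R a commutative algebra over the power series ring
k[[z_1,…,z_n]]; for a commutative k-algebra Q regard Q[[z_1,…,z_n]] as a k[[z]]-algebra
coefficientwise. Then the functor Q ↦ Hom_{k[[z]]-alg}(R, Q[[z]]) on commutative k-algebras is
corepresentable: there exist a commutative k-algebra P and a k[[z]]-algebra homomorphism u : R →
P[[z]] such that every k[[z]]-algebra homomorphism R → Q[[z]] arises from u by applying a unique
k-algebra homomorphism P → Q coefficientwise. If moreover R is countably generated as a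
k[[z]]-algebra, P may be taken countably generated over k. (The published statement is for an adic
formal scheme Y over the formal disc Spf k[[z]], asserting that the sheaf of sections of Y over the
disc is a scheme, affine over the fibre of Y at the origin, and of pro-finite type when Y is; this
row is the case Y = Spf R, to which the published argument reduces, stated for the underlying
algebra R; k is algebraically closed there, which is not used.) -/
theorem result
    (k : Type u) [Field k] (n : ℕ) (hn : 0 < n)
    (R : Type u) [CommRing R] [Algebra (MvPowerSeries (Fin n) k) R] :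
    ∃ (P : Type u) (_ : CommRing P) (_ : Algebra k P)
      (u : R →ₐ[MvPowerSeries (Fin n) k] MvPowerSeries (Fin n) P),
      (∀ (Q : Type u) [CommRing Q] [Algebra k Q]
          (f : R →ₐ[MvPowerSeries (Fin n) k] MvPowerSeries (Fin n) Q),
          ∃! g : P →ₐ[k] Q,
            (MvPowerSeries.map (σ := Fin n) (g : P →+* Q)).comp (u : R →+* MvPowerSeries (Fin n) P) =
              (f : R →+* MvPowerSeries (Fin n) Q)) ∧
      ((∃ s : Set R, s.Countable ∧ Algebra.adjoin (MvPowerSeries (Fin n) k) s = ⊤) →
        ∃ t : Set P, t.Countable ∧ Algebra.adjoin k t = ⊤) := by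
  refine ⟨PP k n R, inferInstance, inferInstance, uHom k n R, ?_, ?_⟩
  · intro Q _ _ f
    refine ⟨gg k n R f, ?_, ?_⟩
    · ext r m
      simp only [RingHom.comp_apply, RingHom.coe_coe, uHom_apply, MvPowerSeries.coeff_map,
        coeff_uu, gg_mk]
      simp [g₀]
    · intro g' hg'
      apply Ideal.Quotient.algHom_ext
      apply MvPolynomial.algHom_ext
      intro rm
      have h1 := congrArg (fun F => MvPowerSeries.coeff rm.2 (F rm.1)) hg'
      simp only [RingHom.comp_apply, RingHom.coe_coe, uHom_apply, MvPowerSeries.coeff_map,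
        coeff_uu] at h1
      simp only [AlgHom.comp_apply, Ideal.Quotient.mkₐ_eq_mk]
      rw [h1, gg_mk]
      simp [g₀]
  · rintro ⟨s, hs, hs2⟩
    refine ⟨(fun rm : R × (Fin n →₀ ℕ) =>
      (Ideal.Quotient.mk (I k n R) (MvPolynomial.X rm) : PP k n R)) '' (s ×ˢ Set.univ), ?_, ?_⟩
    · exact (hs.prod Set.countable_univ).image _
    · set P' := Algebra.adjoin k ((fun rm : R × (Fin n →₀ ℕ) =>
        (Ideal.Quotient.mk (I k n R) (MvPolynomial.X rm) : PP k n R)) '' (s ×ˢ Set.univ)) with hP'
      -- the subalgebra of `R` whose series have coefficients in `P'`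
      let R' : Subalgebra (MvPowerSeries (Fin n) k) R :=
        { carrier := {r | ∀ m, MvPowerSeries.coeff m (uu k n R r) ∈ P'}
          mul_mem' := by
            classical
            intro a b ha hb m
            rw [uu_mul, MvPowerSeries.coeff_mul]
            exact Subalgebra.sum_mem _ fun ab _ => Subalgebra.mul_mem _ (ha _) (hb _)
          add_mem' := by
            intro a b ha hb m
            rw [uu_add, map_add]
            exact Subalgebra.add_mem _ (ha _) (hb _)
          algebraMap_mem' := by
            intro φ m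
            change MvPowerSeries.coeff m (uu k n R (algebraMap _ R φ)) ∈ P'
            rw [uu_algebraMap, RingHom.algebraMap_toAlgebra, MvPowerSeries.coeff_map]
            exact Subalgebra.algebraMap_mem _ _ }
      have hR' : R' = ⊤ := by
        rw [eq_top_iff, ← hs2]
        apply Algebra.adjoin_le
        intro r hr m
        rw [coeff_uu]
        exact Algebra.subset_adjoin ⟨(r, m), ⟨hr, Set.mem_univ _⟩, rfl⟩
      rw [eq_top_iff, ← adjoin_mk_X_eq_top k n R]
      apply Algebra.adjoin_le
      rintro _ ⟨rm, rfl⟩
      have : rm.1 ∈ R' := by rw [hR']; trivial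
      have := this rm.2
      rwa [coeff_uu] at this

end Groth.Agent.S15126
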