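import Groth.Statements.S15131
import Groth.Agent.Lib.ArtFunSmall

set_option autoImplicit false
universe u v
open CategoryTheory
open ArtFun

namespace Groth.Agent.S15131

/-- Let k be a field and F a functor on local Artinian k-algebras with residue field k with F(k) a
single point, satisfying (H1) (the comparison map of A₁ ×_A A₂ is surjective when A₂ → A is a small
extension) and (H2) (it is bijective when A = k and A₂ = k[ε]). If the tangent space F(k[ε]) is a
single point then F is the one-point functor: every F(A) has exactly one element. (The converse is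
clear.) -/
theorem result
    {k : Type u} [Field k] (F : ArtFun.Art k k ⥤ Type v)
    (h0 : ArtFun.H0 F) (h1 : ArtFun.Hbar F) (h2 : ArtFun.Heps F)
    (ht : Subsingleton (ArtFun.TangentSpace F)) (A : ArtFun.Art k k) :
    Nonempty (F.obj A) ∧ Subsingleton (F.obj A) := by
  constructor
  · obtain ⟨x⟩ := h0.1
    exact ⟨F.map (Groth.Agent.Lib.ArtFunSmall.ofBase' A) x⟩
  · have hinj : Function.Injective (F.map (ArtFun.Art.toBase A)) := by
      refine Groth.Agent.Lib.ArtFunFactor.surjection_induction
        (P := fun {B A} μ => Function.Injective (F.map μ)) ?_ ?_ ?_ (ArtFun.Art.toBase A)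
        (Groth.Agent.Lib.ArtFunBasic.toBase_surjective A)
      · intro B A μ hμ
        obtain ⟨ν, h1', _⟩ := Groth.Agent.Lib.ArtFunFactor.exists_inv_of_bijective μ hμ
        intro x y hxy
        have := congrArg (F.map ν) hxy
        rwa [← Functor.map_comp_apply, ← Functor.map_comp_apply, h1', Functor.map_id_apply,
          Functor.map_id_apply] at this
      · intro B A μ hμ
        exact Groth.Agent.Lib.ArtFunSmall.map_injective_of_isSmallExt F h1 h2 ht μ hμ
      · intro C B A ν μ hν hμ x y hxy
        rw [Functor.map_comp_apply, Functor.map_comp_apply] at hxy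
        exact hν (hμ hxy)
    have := h0.2
    exact ⟨fun x y => hinj (Subsingleton.elim _ _)⟩

end Groth.Agent.S15131
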