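import Groth.Statements.S15133
import Groth.Agent.Lib.ArtinianFlat
import Mathlib.Algebra.Homology.ShortComplex.ModuleCat

set_option autoImplicit false
universe u
open CategoryTheory
open CAlg

namespace Groth.Agent.S15133

/-- Let A be an Artinian local ring with residue field k, n ≥ 1, and 0 → I → P₀ → P₁ → ⋯ → Pₙ a complex
of A-modules with P₀, …, Pₙ flat whose reduction 0 → k ⊗ I → k ⊗ P₀ → ⋯ → k ⊗ Pₙ is exact. Then I
and coker(Pₙ₋₁ → Pₙ) are flat. The complex is written as a cochain complex C indexed by ℕ with C⁰ =
I and Cⁱ⁺¹ = Pᵢ; its terms in degrees above n + 1 play no role. (The published statement adds that I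
maps onto the kernel of k ⊗ P₀ → k ⊗ P₁, which is already part of the exactness hypothesis, and is
for local Artinian algebras over an algebraically closed field of characteristic zero having that
field as residue field; this row allows any Artinian local ring.) -/
theorem result
    (A : Type u) [CommRing A] [IsLocalRing A] [IsArtinianRing A] (n : ℕ) (hn : 0 < n)
    (C : CochainComplex (ModuleCat.{u} A) ℕ)
    (hflat : ∀ i, i ≤ n → Module.Flat A (C.X (i + 1)))
    (hred : ∀ j, j ≤ n →
      (((MonoidalCategory.tensorLeft (ModuleCat.of A (IsLocalRing.ResidueField A))).mapHomologicalComplex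
        (ComplexShape.up ℕ)).obj C).ExactAt j) :
    Module.Flat A (C.X 0) ∧ Module.Flat A (C.X (n + 1) ⧸ LinearMap.range (C.d n (n + 1)).hom) := by
  have hnil := Groth.Agent.Lib.ArtinianFlat.isNilpotent_maximalIdeal (A := A)
  obtain ⟨m, rfl⟩ : ∃ m, n = m + 1 := ⟨n - 1, by omega⟩
  constructor
  · -- `k ⊗ C⁰ → k ⊗ C¹` is injective
    have h0 := hred 0 (Nat.zero_le _)
    rw [HomologicalComplex.exactAt_iff' _ 0 0 1 CochainComplex.prev_nat_zero
      (CochainComplex.next ℕ 0)] at h0
    have hd : (((MonoidalCategory.tensorLeft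
        (ModuleCat.of A (IsLocalRing.ResidueField A))).mapHomologicalComplex
        (ComplexShape.up ℕ)).obj C).d 0 0 = 0 :=
      HomologicalComplex.shape _ 0 0 (by
        show ¬ (0 + 1 = 0)
        omega)
    have hmono := (ShortComplex.exact_iff_mono _ hd).mp h0
    rw [ModuleCat.mono_iff_injective] at hmono
    have := hflat 0 (Nat.zero_le _)
    exact Groth.Agent.Lib.ArtinianFlat.flat_of_lTensor_injective hnil (C.d 0 1).hom hmono
  · have h1 := hred (m + 1) le_rfl
    rw [HomologicalComplex.exactAt_iff' _ m (m + 1) (m + 2) (CochainComplex.prev_nat_succ m)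
      (CochainComplex.next ℕ (m + 1)), ShortComplex.ShortExact.moduleCat_exact_iff_function_exact] at h1
    have hf1 := hflat m (Nat.le_succ m)
    have hf2 := hflat (m + 1) le_rfl
    exact (Groth.Agent.Lib.ArtinianFlat.flat_and_exact_of_lTensor_exact hnil
      (C.d m (m + 1)).hom (C.d (m + 1) (m + 1 + 1)).hom
      (LinearMap.range (C.d (m + 1) (m + 1 + 1)).hom).mkQ
      (by
        rw [← ModuleCat.hom_comp, C.d_comp_d]
        rfl)
      (LinearMap.exact_map_mkQ_range _) (Submodule.mkQ_surjective _) h1).1

end Groth.Agent.S15133
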