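import Groth.Statements.S15134
import Groth.Agent.Lib.ArtFunSmall

set_option autoImplicit false
universe u v
open CategoryTheory
open ArtFun

namespace Groth.Agent.S15134

/-- Let k be a field and F a functor on local Artinian k-algebras with residue field k with F(k) a
point. If F satisfies (H2') — the comparison map F(A₁ ×_k A₂) → F(A₁) × F(A₂) is bijective for every
pair of objects — then F satisfies condition (L): for every small extension f : B → A with kernel J,
writing P = B ×_k B, Q = A ×_k A, r : P → Q for the map induced by f, and C = P/K with K the ideal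
of P consisting of the pairs (b, b) with b ∈ J, every element of F(Q) whose two images in F(A) agree
lifts along F(C) → F(Q). Here P and Q are pinned as fibre products over k, K is described through
the two projections, and the two inequalities on K (it lies in the maximal ideal of P and is killed
by r), which always hold, are taken as hypotheses so that the quotient object and the factored map
can be named. -/
theorem result
    {k : Type u} [Field k] (F : ArtFun.Art k k ⥤ Type v) (h0 : ArtFun.H0 F)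
    (h2' : ∀ ⦃P A' A'' : ArtFun.Art k k⦄ (p' : P ⟶ A') (p'' : P ⟶ A'')
      (h : ArtFun.Art.IsFibreProd p' p'' (ArtFun.Art.toBase A') (ArtFun.Art.toBase A'')),
      Function.Bijective (ArtFun.cmp F h))
    ⦃B A : ArtFun.Art k k⦄ (f : B ⟶ A) (hf : ArtFun.Art.IsSmallExt f)
    ⦃P : ArtFun.Art k k⦄ (p₁ p₂ : P ⟶ B)
    (hP : ArtFun.Art.IsFibreProd p₁ p₂ (ArtFun.Art.toBase B) (ArtFun.Art.toBase B))
    ⦃Q : ArtFun.Art k k⦄ (q₁ q₂ : Q ⟶ A)
    (hQ : ArtFun.Art.IsFibreProd q₁ q₂ (ArtFun.Art.toBase A) (ArtFun.Art.toBase A))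
    (r : P ⟶ Q) (hr₁ : r ≫ q₁ = p₁ ≫ f) (hr₂ : r ≫ q₂ = p₂ ≫ f)
    (hK : Ideal.span {z : P | p₁ z = p₂ z ∧ f (p₁ z) = 0} ≤ IsLocalRing.maximalIdeal P)
    (hKr : Ideal.span {z : P | p₁ z = p₂ z ∧ f (p₁ z) = 0} ≤ RingHom.ker r.toAlgHom)
    (y : F.obj Q) (hy : F.map q₁ y = F.map q₂ y) :
    ∃ z : F.obj (ArtFun.Art.quot P (Ideal.span {z : P | p₁ z = p₂ z ∧ f (p₁ z) = 0}) hK),
      F.map (ArtFun.Art.quotFactor hK r hKr) z = y := by
  obtain ⟨δB, hδB1, hδB2⟩ := Groth.Agent.Lib.ArtFunSmall.exists_hom_lift hP (𝟙 B) (𝟙 B) rfl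
  obtain ⟨δA, hδA1, hδA2⟩ := Groth.Agent.Lib.ArtFunSmall.exists_hom_lift hQ (𝟙 A) (𝟙 A) rfl
  have hker : RingHom.ker f.toAlgHom ≤
      RingHom.ker (δB ≫ ArtFun.Art.quotMk P _ hK).toAlgHom := by
    intro b hb
    rw [RingHom.mem_ker]
    change ArtFun.Art.quotMk P _ hK (δB b) = 0
    rw [Groth.Agent.Lib.ArtFunFactor.quotMk_eq_zero_iff]
    apply Ideal.subset_span
    have e1 : p₁ (δB b) = b := Groth.Agent.Lib.ArtFunSmall.hom_congr_apply hδB1 b
    have e2 : p₂ (δB b) = b := Groth.Agent.Lib.ArtFunSmall.hom_congr_apply hδB2 b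
    refine ⟨by rw [e1, e2], ?_⟩
    rw [e1]
    exact hb
  obtain ⟨a2c, ha2c⟩ := Groth.Agent.Lib.ArtFunSmall.exists_factor_of_surjective f hf.1 _ hker
  have hδ : f ≫ δA = δB ≫ r := by
    apply Groth.Agent.Lib.ArtFunSmall.hom_eq_of_isFibreProd hQ
    · rw [Category.assoc, hδA1, Category.comp_id, Category.assoc, hr₁, ← Category.assoc, hδB1,
        Category.id_comp]
    · rw [Category.assoc, hδA2, Category.comp_id, Category.assoc, hr₂, ← Category.assoc, hδB2,
        Category.id_comp]
  have hclaim : a2c ≫ ArtFun.Art.quotFactor hK r hKr = δA := by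
    apply Groth.Agent.Lib.ArtFunSmall.hom_eq_of_surjective_comp f hf.1
    rw [← Category.assoc, ha2c, Category.assoc, ArtFun.Art.quotMk_quotFactor, hδ]
  refine ⟨F.map a2c (F.map q₁ y), ?_⟩
  rw [← Functor.map_comp_apply, hclaim]
  apply (h2' q₁ q₂ hQ).1
  apply ArtFun.FibProd.ext
  · change F.map q₁ (F.map δA (F.map q₁ y)) = F.map q₁ y
    rw [← Functor.map_comp_apply, hδA1, Functor.map_id_apply]
  · change F.map q₂ (F.map δA (F.map q₁ y)) = F.map q₂ y
    rw [← Functor.map_comp_apply, hδA2, Functor.map_id_apply, hy]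

end Groth.Agent.S15134
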