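import Groth.Statements.S15135
-- import your own Groth.Agent.* helpers here

set_option autoImplicit false
universe u v
open Deform

namespace Groth.Agent.S15135

/-- For R-modules M ⊆ N, the first-order embedded deformations of M in N are in canonical bijection with
Hom_R(M, N/M). Writing N ⊗ k[ε] = N ⊕ εN as N × N (the pair (x, y) standing for x + εy), such a
deformation is an R-submodule L of N × N which is stable under multiplication by ε (if (x, y) ∈ L
then (0, x) ∈ L), reduces to M (x ∈ M exactly when (x, y) ∈ L for some y) and is flat over the dual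
numbers, flatness being stated elementwise as: (0, y) ∈ L only if y ∈ M (for a submodule reducing to
M this is the equality of the kernel and the image of ε on L, i.e. flatness over k[ε] when R is an
algebra over a field k). To φ : M → N/M corresponds the submodule of all (x, y) with x ∈ M and y ≡
φ(x) mod M. The first clause says this rule defines exactly one submodule for each φ; the second
says that a submodule has the three properties precisely when its membership is given by this rule
for some φ. (The published statement is a linear isomorphism t_G ≅ Hom_R(M, N/M) for the functor G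
of flat deformations of M inside N ⊗ A over local Artinian algebras A; this row states only the
underlying bijection, and the obstruction half is not stated here.) -/
theorem result
    (R : Type u) [CommRing R] (N : Type v) [AddCommGroup N] [Module R N] (M : Submodule R N) :
    (∀ φ : M →ₗ[R] (N ⧸ M), ∃! L : Submodule R (N × N),
        ∀ x y : N, (x, y) ∈ L ↔ ∃ h : x ∈ M, Submodule.Quotient.mk y = φ ⟨x, h⟩) ∧
    (∀ L : Submodule R (N × N),
      ((∀ x y : N, (x, y) ∈ L → ((0 : N), x) ∈ L) ∧
        (∀ x : N, x ∈ M ↔ ∃ y : N, (x, y) ∈ L) ∧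
        (∀ y : N, ((0 : N), y) ∈ L → y ∈ M)) ↔
      ∃ φ : M →ₗ[R] (N ⧸ M), ∀ x y : N, (x, y) ∈ L ↔ ∃ h : x ∈ M, Submodule.Quotient.mk y = φ ⟨x, h⟩) := by
  constructor
  · intro φ
    refine ⟨
      { carrier := {p | ∃ h : p.1 ∈ M, Submodule.Quotient.mk p.2 = φ ⟨p.1, h⟩}
        add_mem' := ?_
        zero_mem' := ?_
        smul_mem' := ?_ }, ?_, ?_⟩
    · rintro ⟨x, y⟩ ⟨x', y'⟩ ⟨h, hy⟩ ⟨h', hy'⟩
      refine ⟨M.add_mem h h', ?_⟩
      show Submodule.Quotient.mk (y + y') = φ ⟨x + x', _⟩
      rw [Submodule.Quotient.mk_add, hy, hy', ← map_add]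
      rfl
    · refine ⟨M.zero_mem, ?_⟩
      show Submodule.Quotient.mk (0 : N) = φ ⟨0, _⟩
      rw [Submodule.Quotient.mk_zero]
      exact (map_zero φ).symm
    · rintro r ⟨x, y⟩ ⟨h, hy⟩
      refine ⟨M.smul_mem r h, ?_⟩
      show Submodule.Quotient.mk (r • y) = φ ⟨r • x, _⟩
      rw [Submodule.Quotient.mk_smul, hy, ← map_smul]
      rfl
    · intro x y
      rfl
    · intro L' hL'
      ext ⟨x, y⟩
      rw [hL' x y]
      rfl
  · intro L
    constructor
    · rintro ⟨ha, hb, hc⟩
      -- choose a second coordinate for every element of M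
      have hex : ∀ x : M, ∃ y : N, ((x : N), y) ∈ L := fun x => (hb x).mp x.2
      choose g hg using hex
      -- two second coordinates differ by an element of M
      have hdiff : ∀ (x y y' : N), (x, y) ∈ L → (x, y') ∈ L → y - y' ∈ M := by
        intro x y y' h1 h2
        apply hc
        have := L.sub_mem h1 h2
        simpa using this
      have hzero : ∀ z : N, z ∈ M → ((0 : N), z) ∈ L := by
        intro z hz
        obtain ⟨w, hw⟩ := (hb z).mp hz
        exact ha z w hw
      let φ : M →ₗ[R] (N ⧸ M) :=
        { toFun := fun x => Submodule.Quotient.mk (g x)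
          map_add' := by
            intro x x'
            rw [← Submodule.Quotient.mk_add, Submodule.Quotient.eq]
            refine hdiff ((x + x' : M) : N) _ _ (hg (x + x')) ?_
            have := L.add_mem (hg x) (hg x')
            simpa using this
          map_smul' := by
            intro r x
            rw [RingHom.id_apply, ← Submodule.Quotient.mk_smul, Submodule.Quotient.eq]
            refine hdiff ((r • x : M) : N) _ _ (hg (r • x)) ?_
            have := L.smul_mem r (hg x)
            simpa using this }
      refine ⟨φ, fun x y => ⟨fun hxy => ?_, ?_⟩⟩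
      · have hx : x ∈ M := (hb x).mpr ⟨y, hxy⟩
        refine ⟨hx, ?_⟩
        show Submodule.Quotient.mk y = Submodule.Quotient.mk (g ⟨x, hx⟩)
        rw [Submodule.Quotient.eq]
        exact hdiff x _ _ hxy (hg ⟨x, hx⟩)
      · rintro ⟨hx, hy⟩
        have hy' : Submodule.Quotient.mk y = Submodule.Quotient.mk (g ⟨x, hx⟩) := hy
        rw [Submodule.Quotient.eq] at hy'
        have h1 := L.add_mem (hg ⟨x, hx⟩) (hzero _ hy')
        simpa using h1
    · rintro ⟨φ, hφ⟩
      refine ⟨fun x y hxy => ?_, fun x => ⟨fun hx => ?_, ?_⟩, fun y hy => ?_⟩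
      · obtain ⟨hx, -⟩ := (hφ x y).mp hxy
        rw [hφ]
        refine ⟨M.zero_mem, ?_⟩
        have h0 : (⟨0, M.zero_mem⟩ : M) = 0 := rfl
        rw [h0, map_zero, Submodule.Quotient.mk_eq_zero]
        exact hx
      · obtain ⟨y, hy⟩ := Submodule.Quotient.mk_surjective M (φ ⟨x, hx⟩)
        exact ⟨y, (hφ x y).mpr ⟨hx, hy⟩⟩
      · rintro ⟨y, hy⟩
        exact ((hφ x y).mp hy).1
      · obtain ⟨h0, hy0⟩ := (hφ 0 y).mp hy
        have h0' : (⟨0, h0⟩ : M) = 0 := rfl
        rw [h0', map_zero, Submodule.Quotient.mk_eq_zero] at hy0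
        exact hy0

end Groth.Agent.S15135
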