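import Groth.Statements.S15146
import Mathlib.RingTheory.PowerSeries.Inverse

set_option autoImplicit false
universe u
open HilbZeta

namespace Groth.Agent.S15146


open PowerSeries

lemma exists_div {k : Type u} [Field k] (f g : PowerSeries k) (l c : ℕ)
    (hf : f.order = (l : ℕ∞)) (hg : ((l + c : ℕ) : ℕ∞) ≤ g.order) :
    ∃ h : PowerSeries k, h * f = g ∧ ((c : ℕ) : ℕ∞) ≤ h.order := by
  have hf0 : f ≠ 0 := by
    rintro rfl
    rw [order_zero] at hf
    exact ENat.top_ne_natCast _ hf
  have hl : f.order.toNat = l := by rw [hf]; rfl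
  have hu : IsUnit (divXPowOrder f) := by
    rw [PowerSeries.isUnit_iff_constantCoeff, constantCoeff_divXPowOrder]
    exact (coeff_order hf0).isUnit
  obtain ⟨u, hu'⟩ := hu
  have hfu : f = X ^ l * (u : PowerSeries k) := by
    rw [hu', ← hl]; exact X_pow_order_mul_divXPowOrder.symm
  have hdvd : (X : PowerSeries k) ^ (l + c) ∣ g := by
    rw [X_pow_dvd_iff]
    intro m hm
    apply coeff_of_lt_order
    exact lt_of_lt_of_le (by exact_mod_cast hm) hg
  obtain ⟨w, hw⟩ := hdvd
  refine ⟨X ^ c * w * ((u⁻¹ : (PowerSeries k)ˣ) : PowerSeries k), ?_, ?_⟩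
  · rw [hfu, hw]
    have : ((u⁻¹ : (PowerSeries k)ˣ) : PowerSeries k) * (u : PowerSeries k) = 1 := by simp
    calc X ^ c * w * ↑u⁻¹ * (X ^ l * ↑u) = X ^ (l + c) * w * (↑u⁻¹ * ↑u) := by ring
      _ = X ^ (l + c) * w := by rw [this, mul_one]
  · rw [mul_assoc]
    calc ((c : ℕ) : ℕ∞) = order ((X : PowerSeries k) ^ c) := (order_X_pow c).symm
      _ ≤ order ((X : PowerSeries k) ^ c) + order (w * ((u⁻¹ : (PowerSeries k)ˣ) : PowerSeries k)) :=
        le_self_add
      _ ≤ _ := le_order_mul _ _

theorem result' (k : Type u) [Field k] (s : ℕ)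
    (R : Subalgebra k (Fin s → PowerSeries k))
    (c : Fin s → ℕ)
    (hc : ∀ f : Fin s → PowerSeries k,
      (∀ g : Fin s → PowerSeries k, g * f ∈ R) ↔ ∀ i, ((c i : ℕ) : ℕ∞) ≤ (f i).order)
    (J : Ideal ↥R)
    (l : Fin s → ℕ) (hl : ∀ i : Fin s, ∃ f ∈ J, ((f : Fin s → PowerSeries k) i).order = ((l i : ℕ) : ℕ∞))
    (g : Fin s → PowerSeries k) (hg : ∀ i : Fin s, ((l i + c i : ℕ) : ℕ∞) ≤ (g i).order) :
    ∃ hgR : g ∈ R, (⟨g, hgR⟩ : ↥R) ∈ J := by
  classical
  choose f hfJ hford using hl
  have hdiv := fun i =>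
    exists_div ((f i : Fin s → PowerSeries k) i) (g i) (l i) (c i) (hford i) (hg i)
  choose h hhf hhord using hdiv
  let e : Fin s → (Fin s → PowerSeries k) := fun i => Pi.single i (h i)
  have heR : ∀ i, e i ∈ R := by
    intro i
    have h1 := (hc (e i)).mpr (by
      intro j
      by_cases hij : j = i
      · subst hij; simpa [e] using hhord j
      · simp [e, Pi.single_eq_of_ne hij])
    simpa using h1 1
  have hsum : g = ∑ i, e i * (f i : Fin s → PowerSeries k) := by
    ext1 j
    rw [Finset.sum_apply, Finset.sum_eq_single j]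
    · simp [e, hhf]
    · intro i _ hij
      simp [e, Pi.single_eq_of_ne (Ne.symm hij)]
    · simp
  have hmem : (∑ i, (⟨e i, heR i⟩ : ↥R) * f i) ∈ J :=
    J.sum_mem (fun i _ => J.mul_mem_left _ (hfJ i))
  have hval : ((∑ i, (⟨e i, heR i⟩ : ↥R) * f i : ↥R) : Fin s → PowerSeries k) = g := by
    rw [hsum]; simp
  have hgR : g ∈ R := hval ▸ (Subtype.property _)
  refine ⟨hgR, ?_⟩
  have : (⟨g, hgR⟩ : ↥R) = ∑ i, (⟨e i, heR i⟩ : ↥R) * f i := Subtype.ext hval.symm
  rw [this]
  exact hmem


/-- Let k be a field, s a natural number and R a k-subalgebra of the product of s copies of the power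
series ring k[[x]], of finite codimension δ over k and local with residue field k (all components of
an element of R have the same constant term); write v_i for the x-adic order of the i-th component
of an s-tuple, and let c = (c_1, …, c_s) be the conductor exponents, so that an s-tuple f satisfies
f·g ∈ R for every s-tuple g exactly when v_i(f) ≥ c_i for all i (over an algebraically closed field
such an R is precisely the completed local ring of a reduced curve singularity having s branches
sitting inside its normalisation, δ is its delta invariant and the conductor ideal is generated by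
the x_i^{c_i}). If J is an ideal of R of finite colength which contains, for each i, an element f_i
with v_i(f_i) = l_i, then every s-tuple g with v_i(g) ≥ l_i + c_i for all i lies in R and belongs to
J. (The published statement is over an algebraically closed field; this row allows any field.) -/
theorem result (k : Type u) [Field k] (s : ℕ)
    (R : Subalgebra k (Fin s → PowerSeries k))
    (hfin : Module.Finite k ((Fin s → PowerSeries k) ⧸ Subalgebra.toSubmodule R))
    (hloc : ∀ f ∈ R, ∀ i j : Fin s, PowerSeries.constantCoeff (f i) = PowerSeries.constantCoeff (f j))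
    (c : Fin s → ℕ)
    (hc : ∀ f : Fin s → PowerSeries k,
      (∀ g : Fin s → PowerSeries k, g * f ∈ R) ↔ ∀ i, ((c i : ℕ) : ℕ∞) ≤ (f i).order)
    (J : Ideal ↥R) (hJ : Module.Finite k (↥R ⧸ J))
    (l : Fin s → ℕ) (hl : ∀ i : Fin s, ∃ f ∈ J, ((f : Fin s → PowerSeries k) i).order = ((l i : ℕ) : ℕ∞))
    (g : Fin s → PowerSeries k) (hg : ∀ i : Fin s, ((l i + c i : ℕ) : ℕ∞) ≤ (g i).order) :
    ∃ hgR : g ∈ R, (⟨g, hgR⟩ : ↥R) ∈ J := by
  exact result' k s R c hc J l hl g hg

end Groth.Agent.S15146
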