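import Groth.Statements.S15147
import Groth.Agent.S15146

set_option autoImplicit false
universe u
open HilbZeta

namespace Groth.Agent.S15147


open PowerSeries

theorem result' (k : Type u) [Field k] (s : ℕ)
    (R : Subalgebra k (Fin s → PowerSeries k))
    (c : Fin s → ℕ)
    (hc : ∀ f : Fin s → PowerSeries k,
      (∀ g : Fin s → PowerSeries k, g * f ∈ R) ↔ ∀ i, ((c i : ℕ) : ℕ∞) ≤ (f i).order)
    (I : Ideal ↥R) (a : Fin s → ℕ)
    (ha : (∀ i : Fin s, Ideal.map ((Pi.evalAlgHom k (fun _ : Fin s => PowerSeries k) i).comp R.val) I = Ideal.span {PowerSeries.X ^ (a i)})) :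
    (∀ g : Fin s → PowerSeries k, (∀ i : Fin s, ((a i + c i : ℕ) : ℕ∞) ≤ (g i).order) →
      ∃ hgR : g ∈ R, (⟨g, hgR⟩ : ↥R) ∈ I) ∧
    (∀ f ∈ I, ∀ i : Fin s, ((a i : ℕ) : ℕ∞) ≤ ((f : Fin s → PowerSeries k) i).order) := by
  have hord_of_dvd : ∀ (n : ℕ) (p : PowerSeries k), (X : PowerSeries k) ^ n ∣ p →
      ((n : ℕ) : ℕ∞) ≤ p.order := by
    rintro n p ⟨w, rfl⟩
    calc ((n : ℕ) : ℕ∞) = order ((X : PowerSeries k) ^ n) := (order_X_pow n).symm
      _ ≤ order ((X : PowerSeries k) ^ n) + order w := le_self_add
      _ ≤ _ := le_order_mul _ _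
  have part2 : ∀ f ∈ I, ∀ i : Fin s, ((a i : ℕ) : ℕ∞) ≤ ((f : Fin s → PowerSeries k) i).order := by
    intro f hf i
    have h1 : ((Pi.evalAlgHom k (fun _ : Fin s => PowerSeries k) i).comp R.val) f ∈
        Ideal.span {(PowerSeries.X : PowerSeries k) ^ (a i)} := by
      rw [← ha i]; exact Ideal.mem_map_of_mem _ hf
    rw [Ideal.mem_span_singleton] at h1
    exact hord_of_dvd _ _ h1
  refine ⟨?_, part2⟩
  intro g hg
  have hl : ∀ i : Fin s, ∃ f ∈ I,
      ((f : Fin s → PowerSeries k) i).order = ((a i : ℕ) : ℕ∞) := by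
    intro i
    by_contra hcon
    push Not at hcon
    have hlt : ∀ f ∈ I, ((a i + 1 : ℕ) : ℕ∞) ≤ ((f : Fin s → PowerSeries k) i).order := by
      intro f hf
      have h1 := part2 f hf i
      have h2 := hcon f hf
      have h3 : ((a i : ℕ) : ℕ∞) < ((f : Fin s → PowerSeries k) i).order :=
        lt_of_le_of_ne h1 (Ne.symm h2)
      rw [Nat.cast_add, Nat.cast_one]
      exact Order.add_one_le_of_lt h3
    have hle : Ideal.map ((Pi.evalAlgHom k (fun _ : Fin s => PowerSeries k) i).comp R.val) I ≤
        Ideal.span {(PowerSeries.X : PowerSeries k) ^ (a i + 1)} := by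
      rw [Ideal.map_le_iff_le_comap]
      intro f hf
      rw [Ideal.mem_comap, Ideal.mem_span_singleton, X_pow_dvd_iff]
      intro m hm
      apply coeff_of_lt_order
      exact lt_of_lt_of_le (by exact_mod_cast hm) (hlt f hf)
    rw [ha i, Ideal.span_singleton_le_iff_mem, Ideal.mem_span_singleton] at hle
    have := hord_of_dvd _ _ hle
    rw [order_X_pow] at this
    have : a i + 1 ≤ a i := by exact_mod_cast this
    omega
  exact Groth.Agent.S15146.result' k s R c hc I a hl g hg


/-- Let k be a field, s a natural number and R a k-subalgebra of the product of s copies of the power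
series ring k[[x]], of finite codimension δ over k and local with residue field k (all components of
an element of R have the same constant term); write v_i for the x-adic order of the i-th component
of an s-tuple, and let c = (c_1, …, c_s) be the conductor exponents, so that an s-tuple f satisfies
f·g ∈ R for every s-tuple g exactly when v_i(f) ≥ c_i for all i (over an algebraically closed field
such an R is precisely the completed local ring of a reduced curve singularity having s branches
sitting inside its normalisation, δ is its delta invariant and the conductor ideal is generated by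
the x_i^{c_i}). Let I be an ideal of R of finite colength with branch-length vector a = (a_1, …,
a_s): for every i the ideal of k[[x]] generated by the i-th components of the elements of I is
(x^{a_i}), so that the pullback of Spec R/I to the i-th branch has length a_i. Then F^{a+c} ⊆ I ⊆
F^a: every s-tuple g with v_i(g) ≥ a_i + c_i for all i lies in R and belongs to I, and every element
of I has v_i ≥ a_i for all i. (The published statement is over an algebraically closed field; this
row allows any field.) -/
theorem result (k : Type u) [Field k] (s : ℕ)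
    (R : Subalgebra k (Fin s → PowerSeries k))
    (hfin : Module.Finite k ((Fin s → PowerSeries k) ⧸ Subalgebra.toSubmodule R))
    (hloc : ∀ f ∈ R, ∀ i j : Fin s, PowerSeries.constantCoeff (f i) = PowerSeries.constantCoeff (f j))
    (c : Fin s → ℕ)
    (hc : ∀ f : Fin s → PowerSeries k,
      (∀ g : Fin s → PowerSeries k, g * f ∈ R) ↔ ∀ i, ((c i : ℕ) : ℕ∞) ≤ (f i).order)
    (I : Ideal ↥R) (hI : Module.Finite k (↥R ⧸ I)) (a : Fin s → ℕ)
    (ha : (∀ i : Fin s, Ideal.map ((Pi.evalAlgHom k (fun _ : Fin s => PowerSeries k) i).comp R.val) I = Ideal.span {PowerSeries.X ^ (a i)})) :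
    (∀ g : Fin s → PowerSeries k, (∀ i : Fin s, ((a i + c i : ℕ) : ℕ∞) ≤ (g i).order) →
      ∃ hgR : g ∈ R, (⟨g, hgR⟩ : ↥R) ∈ I) ∧
    (∀ f ∈ I, ∀ i : Fin s, ((a i : ℕ) : ℕ∞) ≤ ((f : Fin s → PowerSeries k) i).order) := by
  exact result' k s R c hc I a ha

end Groth.Agent.S15147
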