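import Groth.Statements.S15148
import Groth.Agent.S15147
import Groth.Agent.Lib.QuotIndex50
import Groth.Agent.Lib.HilbZetaImg50
import Mathlib

set_option autoImplicit false
universe u
open HilbZeta

namespace Groth.Agent.S15148

section helpers

open PowerSeries Module Groth.Agent.Lib.QuotIndex50 Groth.Agent.Lib.HilbZetaImg50

variable {k : Type u} [Field k] {s : ℕ}

/-- truncation map: the coefficients below `b i` in each component. -/
noncomputable def trunc (k : Type u) [Field k] {s : ℕ} (b : Fin s → ℕ) :
    (Fin s → PowerSeries k) →ₗ[k] (∀ i : Fin s, Fin (b i) → k) where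
  toFun g := fun i n => PowerSeries.coeff (n : ℕ) (g i)
  map_add' f g := by funext i n; simp
  map_smul' c g := by funext i n; simp

/-- the submodule `F^b` of tuples with `v_i ≥ b_i`. -/
noncomputable def Fb (k : Type u) [Field k] {s : ℕ} (b : Fin s → ℕ) :
    Submodule k (Fin s → PowerSeries k) := LinearMap.ker (trunc k b)

lemma mem_Fb {b : Fin s → ℕ} {g : Fin s → PowerSeries k} :
    g ∈ Fb k b ↔ ∀ i, ((b i : ℕ) : ℕ∞) ≤ (g i).order := by
  simp only [Fb, LinearMap.mem_ker, trunc, LinearMap.coe_mk, AddHom.coe_mk]
  constructor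
  · intro h i
    apply PowerSeries.nat_le_order
    intro n hn
    exact congrFun (congrFun h i) ⟨n, hn⟩
  · intro h
    funext i n
    exact PowerSeries.coeff_of_lt_order _ (lt_of_lt_of_le (by exact_mod_cast n.2) (h i))

lemma trunc_surjective (b : Fin s → ℕ) : Function.Surjective (trunc k b) := by
  intro y
  refine ⟨fun i => PowerSeries.mk (fun n => if h : n < b i then y i ⟨n, h⟩ else 0), ?_⟩
  funext i n
  simp [trunc, PowerSeries.coeff_mk]

lemma finrank_quot_Fb (b : Fin s → ℕ) :
    finrank k ((Fin s → PowerSeries k) ⧸ Fb k b) = ∑ i, b i := by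
  rw [Fb, ((trunc k b).quotKerEquivOfSurjective (trunc_surjective b)).finrank_eq,
    Module.finrank_pi_fintype]
  simp

lemma finite_quot_Fb (b : Fin s → ℕ) :
    Module.Finite k ((Fin s → PowerSeries k) ⧸ Fb k b) :=
  Module.Finite.equiv ((trunc k b).quotKerEquivOfSurjective (trunc_surjective b)).symm

end helpers


/-- Let k be a field, s a natural number and R a k-subalgebra of the product of s copies of the power
series ring k[[x]], of finite codimension δ over k and local with residue field k (all components of
an element of R have the same constant term); write v_i for the x-adic order of the i-th component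
of an s-tuple, and let c = (c_1, …, c_s) be the conductor exponents, so that an s-tuple f satisfies
f·g ∈ R for every s-tuple g exactly when v_i(f) ≥ c_i for all i (over an algebraically closed field
such an R is precisely the completed local ring of a reduced curve singularity having s branches
sitting inside its normalisation, δ is its delta invariant and the conductor ideal is generated by
the x_i^{c_i}), and put C = c_1 + ⋯ + c_s. Let I be an ideal of R of finite colength d with
branch-length vector a (for every i the ideal of k[[x]] generated by the i-th components of the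
elements of I is (x^{a_i})). Then −δ ≤ d − Σ a_i ≤ C − δ, and the second inequality is strict when R
is not the whole product (the singularity is not smooth). (The published statement is over an
algebraically closed field; this row allows any field.) -/
theorem result (k : Type u) [Field k] (s : ℕ)
    (R : Subalgebra k (Fin s → PowerSeries k))
    (hfin : Module.Finite k ((Fin s → PowerSeries k) ⧸ Subalgebra.toSubmodule R))
    (hloc : ∀ f ∈ R, ∀ i j : Fin s, PowerSeries.constantCoeff (f i) = PowerSeries.constantCoeff (f j))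
    (c : Fin s → ℕ)
    (hc : ∀ f : Fin s → PowerSeries k,
      (∀ g : Fin s → PowerSeries k, g * f ∈ R) ↔ ∀ i, ((c i : ℕ) : ℕ∞) ≤ (f i).order)
    (I : Ideal ↥R) (hI : Module.Finite k (↥R ⧸ I)) (a : Fin s → ℕ)
    (ha : (∀ i : Fin s, Ideal.map ((Pi.evalAlgHom k (fun _ : Fin s => PowerSeries k) i).comp R.val) I = Ideal.span {PowerSeries.X ^ (a i)})) :
    (∑ i, a i) ≤ Module.finrank k (↥R ⧸ I) + Module.finrank k ((Fin s → PowerSeries k) ⧸ Subalgebra.toSubmodule R) ∧
    Module.finrank k (↥R ⧸ I) + Module.finrank k ((Fin s → PowerSeries k) ⧸ Subalgebra.toSubmodule R) ≤ (∑ i, a i) + ∑ i, c i ∧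
    (R ≠ ⊤ → Module.finrank k (↥R ⧸ I) + Module.finrank k ((Fin s → PowerSeries k) ⧸ Subalgebra.toSubmodule R) < (∑ i, a i) + ∑ i, c i) := by
  classical
  obtain ⟨hsub, hord⟩ := Groth.Agent.S15147.result' k s R c hc I a ha
  have h1 : Module.Finite k ((Fin s → PowerSeries k) ⧸ Groth.Agent.Lib.HilbZetaImg50.img R I) :=
    Groth.Agent.Lib.HilbZetaImg50.finite_quot_img R hfin I hI
  have e1 := Groth.Agent.Lib.HilbZetaImg50.finrank_quot_img R I h1
  have hle1 : Fb k (fun i => a i + c i) ≤ Groth.Agent.Lib.HilbZetaImg50.img R I := by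
    intro g hg
    rw [mem_Fb] at hg
    obtain ⟨hgR, hgI⟩ := hsub g hg
    exact Groth.Agent.Lib.HilbZetaImg50.mem_img.2 ⟨⟨g, hgR⟩, hgI, rfl⟩
  have hle2 : Groth.Agent.Lib.HilbZetaImg50.img R I ≤ Fb k a := by
    intro g hg
    obtain ⟨r, hr, rfl⟩ := Groth.Agent.Lib.HilbZetaImg50.mem_img.1 hg
    exact mem_Fb.2 (hord r hr)
  have hF := finite_quot_Fb (k := k) (fun i => a i + c i)
  have i1 := Groth.Agent.Lib.QuotIndex50.finrank_quot_le_of_le hle1
  have i2 := Groth.Agent.Lib.QuotIndex50.finrank_quot_le_of_le hle2
  rw [finrank_quot_Fb] at i1 i2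
  rw [Finset.sum_add_distrib] at i1
  refine ⟨by omega, by omega, ?_⟩
  intro hR
  by_contra hlt
  have heq : Module.finrank k ((Fin s → PowerSeries k) ⧸ Groth.Agent.Lib.HilbZetaImg50.img R I) =
      Module.finrank k ((Fin s → PowerSeries k) ⧸ Fb k (fun i => a i + c i)) := by
    rw [finrank_quot_Fb, Finset.sum_add_distrib]; omega
  have hEq := Groth.Agent.Lib.QuotIndex50.eq_of_le_of_finrank_quot_eq hle1 heq
  have hc0 : ∀ i, c i = 0 := by
    intro i
    have hle : Ideal.map ((Pi.evalAlgHom k (fun _ : Fin s => PowerSeries k) i).comp R.val) I ≤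
        Ideal.span {(PowerSeries.X : PowerSeries k) ^ (a i + c i)} := by
      rw [Ideal.map_le_iff_le_comap]
      intro f hf
      rw [Ideal.mem_comap, Ideal.mem_span_singleton, PowerSeries.X_pow_dvd_iff]
      intro m hm
      apply PowerSeries.coeff_of_lt_order
      have hfF : (f : Fin s → PowerSeries k) ∈ Fb k (fun i => a i + c i) := by
        rw [hEq]; exact Groth.Agent.Lib.HilbZetaImg50.mem_img.2 ⟨f, hf, rfl⟩
      exact lt_of_lt_of_le (by exact_mod_cast hm) (mem_Fb.1 hfF i)
    rw [ha i, Ideal.span_singleton_le_iff_mem, Ideal.mem_span_singleton] at hle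
    obtain ⟨w, hw⟩ := hle
    have h3 : ((a i + c i : ℕ) : ℕ∞) ≤ ((PowerSeries.X : PowerSeries k) ^ (a i)).order := by
      rw [hw]
      calc ((a i + c i : ℕ) : ℕ∞) = PowerSeries.order ((PowerSeries.X : PowerSeries k) ^ (a i + c i)) :=
            (PowerSeries.order_X_pow _).symm
        _ ≤ PowerSeries.order ((PowerSeries.X : PowerSeries k) ^ (a i + c i)) + PowerSeries.order w :=
            le_self_add
        _ ≤ _ := PowerSeries.le_order_mul _ _
    rw [PowerSeries.order_X_pow] at h3
    have : a i + c i ≤ a i := by exact_mod_cast h3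
    omega
  apply hR
  rw [eq_top_iff]
  intro g _
  have := (hc 1).2 (fun i => by simp [hc0 i]) g
  simpa using this

end Groth.Agent.S15148
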