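import Groth.Statements.S15149
import Groth.Agent.S15147
import Groth.Agent.Lib.QuotIndex50
import Groth.Agent.Lib.HilbZetaImg50
import Mathlib

set_option autoImplicit false
universe u
open HilbZeta

namespace Groth.Agent.S15149

section helpers

open PowerSeries Module Groth.Agent.Lib.QuotIndex50 Groth.Agent.Lib.HilbZetaImg50

variable {k : Type u} [Field k] {s : ℕ}

/-- the element `ξ` with `X` in the `j`-th place and `1` elsewhere. -/
noncomputable abbrev xi (k : Type u) [Field k] {s : ℕ} (j : Fin s) : Fin s → PowerSeries k :=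
  Pi.mulSingle j (PowerSeries.X : PowerSeries k)

lemma xi_apply_ne_zero (j i : Fin s) : xi k j i ≠ 0 := by
  by_cases h : i = j
  · subst h; simp [xi, PowerSeries.X_ne_zero]
  · simp [xi, Pi.mulSingle_eq_of_ne h]

lemma mulLeft_xi_injective (j : Fin s) :
    Function.Injective (LinearMap.mulLeft k (xi k j)) := by
  intro f g hfg
  funext i
  have := congrFun hfg i
  simp only [LinearMap.mulLeft_apply, Pi.mul_apply] at this
  exact mul_left_cancel₀ (xi_apply_ne_zero j i) this

/-- the functional "constant coefficient of the `j`-th component". -/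
noncomputable def eps (k : Type u) [Field k] {s : ℕ} (j : Fin s) :
    (Fin s → PowerSeries k) →ₗ[k] k :=
  (PowerSeries.coeff (R := k) 0) ∘ₗ (LinearMap.proj j)

lemma eps_surjective (j : Fin s) : Function.Surjective (eps k j) := by
  intro c
  refine ⟨Pi.single j (PowerSeries.C c), ?_⟩
  simp [eps]

lemma ker_eps (j : Fin s) : LinearMap.ker (eps k j) = LinearMap.range (LinearMap.mulLeft k (xi k j)) := by
  ext p
  simp only [LinearMap.mem_ker, eps, LinearMap.coe_comp, Function.comp_apply, LinearMap.proj_apply,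
    LinearMap.mem_range, LinearMap.mulLeft_apply]
  constructor
  · intro h
    have hX : (PowerSeries.X : PowerSeries k) ∣ p j := by
      rw [PowerSeries.X_dvd_iff]
      simpa using h
    obtain ⟨w, hw⟩ := hX
    refine ⟨Function.update p j w, ?_⟩
    funext i
    by_cases hi : i = j
    · subst hi; simp [xi, hw]
    · simp [xi, Pi.mulSingle_eq_of_ne hi, Function.update_of_ne hi]
  · rintro ⟨g, rfl⟩
    simp [xi]

lemma finrank_quot_range_xi (j : Fin s) :
    finrank k ((Fin s → PowerSeries k) ⧸ LinearMap.range (LinearMap.mulLeft k (xi k j))) = 1 := by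
  rw [← ker_eps]
  rw [((eps k j).quotKerEquivOfSurjective (eps_surjective j)).finrank_eq]
  exact Module.finrank_self k

lemma finite_quot_range_xi (j : Fin s) :
    Module.Finite k ((Fin s → PowerSeries k) ⧸ LinearMap.range (LinearMap.mulLeft k (xi k j))) := by
  rw [← ker_eps]
  exact Module.Finite.equiv ((eps k j).quotKerEquivOfSurjective (eps_surjective j)).symm

/-- colength computation, forward direction. -/
lemma colength_forward (R : Subalgebra k (Fin s → PowerSeries k))
    (hfin : Module.Finite k ((Fin s → PowerSeries k) ⧸ Subalgebra.toSubmodule R))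
    (j : Fin s) (I J : Ideal ↥R)
    (hIJ : img R J = (img R I).map (LinearMap.mulLeft k (xi k j)))
    (hI : Module.Finite k (↥R ⧸ I)) :
    Module.Finite k (↥R ⧸ J) ∧ finrank k (↥R ⧸ J) = finrank k (↥R ⧸ I) + 1 := by
  have h1 : Module.Finite k ((Fin s → PowerSeries k) ⧸ img R I) := finite_quot_img R hfin I hI
  have h2 := finite_quot_range_xi (k := k) j
  have h3 : Module.Finite k ((Fin s → PowerSeries k) ⧸ img R J) := by
    rw [hIJ]
    exact finite_quot_map (LinearMap.mulLeft k (xi k j)) (img R I)
  have hJ : Module.Finite k (↥R ⧸ J) := finite_quot_of_img R J h3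
  refine ⟨hJ, ?_⟩
  have e1 := finrank_quot_img R I h1
  have e2 := finrank_quot_img R J h3
  have h3' : Module.Finite k ((Fin s → PowerSeries k) ⧸
      (img R I).map (LinearMap.mulLeft k (xi k j))) := by rw [← hIJ]; exact h3
  have e3 := finrank_quot_map (LinearMap.mulLeft k (xi k j)) (mulLeft_xi_injective j) (img R I)
  rw [finrank_quot_range_xi, ← hIJ] at e3
  omega

/-- colength computation, finiteness in the backward direction. -/
lemma colength_backward (R : Subalgebra k (Fin s → PowerSeries k))
    (hfin : Module.Finite k ((Fin s → PowerSeries k) ⧸ Subalgebra.toSubmodule R))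
    (j : Fin s) (I J : Ideal ↥R)
    (hIJ : img R J = (img R I).map (LinearMap.mulLeft k (xi k j)))
    (hJ : Module.Finite k (↥R ⧸ J)) :
    Module.Finite k (↥R ⧸ I) := by
  have h3 : Module.Finite k ((Fin s → PowerSeries k) ⧸ img R J) := finite_quot_img R hfin J hJ
  have h3' : Module.Finite k ((Fin s → PowerSeries k) ⧸
      (img R I).map (LinearMap.mulLeft k (xi k j))) := by rw [← hIJ]; exact h3
  have h1 : Module.Finite k ((Fin s → PowerSeries k) ⧸ img R I) :=
    finite_quot_of_finite_quot_map (LinearMap.mulLeft k (xi k j)) (mulLeft_xi_injective j) (img R I)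
  exact finite_quot_of_img R I h1

end helpers

section helpers2

open PowerSeries Module Groth.Agent.Lib.QuotIndex50 Groth.Agent.Lib.HilbZetaImg50

variable {k : Type u} [Field k] {s : ℕ}

lemma single_mem (R : Subalgebra k (Fin s → PowerSeries k)) (c : Fin s → ℕ)
    (hc : ∀ f : Fin s → PowerSeries k,
      (∀ g : Fin s → PowerSeries k, g * f ∈ R) ↔ ∀ i, ((c i : ℕ) : ℕ∞) ≤ (f i).order)
    (j : Fin s) (w : PowerSeries k) (hw : ((c j : ℕ) : ℕ∞) ≤ w.order) :
    Pi.single j w ∈ R := by
  have h := (hc (Pi.single j w)).2 (fun i => by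
    by_cases hi : i = j
    · subst hi; simpa using hw
    · simp [Pi.single_eq_of_ne hi]) 1
  simpa using h

lemma xi_mul_eq (j : Fin s) (f : Fin s → PowerSeries k) :
    xi k j * f = f + Pi.single j ((PowerSeries.X - 1) * f j) := by
  funext i
  by_cases hi : i = j
  · subst hi; simp [xi]; ring
  · simp [xi, Pi.mulSingle_eq_of_ne hi, Pi.single_eq_of_ne hi]

lemma le_order_X_sub_one_mul (n : ℕ) (w : PowerSeries k) (hw : (n : ℕ∞) ≤ w.order) :
    (n : ℕ∞) ≤ ((PowerSeries.X - 1) * w).order :=
  le_trans (le_trans hw le_add_self) (PowerSeries.le_order_mul _ _)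

lemma xi_mul_mem (R : Subalgebra k (Fin s → PowerSeries k)) (c : Fin s → ℕ)
    (hc : ∀ f : Fin s → PowerSeries k,
      (∀ g : Fin s → PowerSeries k, g * f ∈ R) ↔ ∀ i, ((c i : ℕ) : ℕ∞) ≤ (f i).order)
    (j : Fin s) (f : Fin s → PowerSeries k) (hf : f ∈ R)
    (hfj : ((c j : ℕ) : ℕ∞) ≤ (f j).order) : xi k j * f ∈ R := by
  rw [xi_mul_eq]
  exact R.add_mem hf (single_mem R c hc j _ (le_order_X_sub_one_mul _ _ hfj))

lemma div_xi_mem (R : Subalgebra k (Fin s → PowerSeries k)) (c : Fin s → ℕ)
    (hc : ∀ f : Fin s → PowerSeries k,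
      (∀ g : Fin s → PowerSeries k, g * f ∈ R) ↔ ∀ i, ((c i : ℕ) : ℕ∞) ≤ (f i).order)
    (j : Fin s) (g : Fin s → PowerSeries k) (hg : xi k j * g ∈ R)
    (hgj : ((c j : ℕ) : ℕ∞) ≤ (g j).order) : g ∈ R := by
  have h1 : g = xi k j * g - Pi.single j ((PowerSeries.X - 1) * g j) := by
    rw [xi_mul_eq]; abel
  rw [h1]
  exact R.sub_mem hg (single_mem R c hc j _ (le_order_X_sub_one_mul _ _ hgj))

/-- the ideal `ξ I` of `R` (as a set of elements of `R`). -/
noncomputable def Jof (R : Subalgebra k (Fin s → PowerSeries k)) (j : Fin s) (I : Ideal ↥R) :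
    Ideal ↥R where
  carrier := {r | ∃ f ∈ I, (r : Fin s → PowerSeries k) = xi k j * (f : Fin s → PowerSeries k)}
  add_mem' := by
    rintro a b ⟨f, hf, ha⟩ ⟨g, hg, hb⟩
    exact ⟨f + g, I.add_mem hf hg, by
      simp only [Subalgebra.coe_add, ha, hb]; ring⟩
  zero_mem' := ⟨0, I.zero_mem, by simp⟩
  smul_mem' := by
    rintro r a ⟨f, hf, ha⟩
    exact ⟨r * f, I.mul_mem_left r hf, by
      simp only [smul_eq_mul, Subalgebra.coe_mul, ha]; ring⟩

/-- the ideal `ξ⁻¹ J` of `R`. -/
noncomputable def Iof (R : Subalgebra k (Fin s → PowerSeries k)) (j : Fin s) (J : Ideal ↥R) :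
    Ideal ↥R where
  carrier := {r | ∃ g ∈ J, (g : Fin s → PowerSeries k) = xi k j * (r : Fin s → PowerSeries k)}
  add_mem' := by
    rintro a b ⟨f, hf, ha⟩ ⟨g, hg, hb⟩
    exact ⟨f + g, J.add_mem hf hg, by
      simp only [Subalgebra.coe_add, ha, hb]; ring⟩
  zero_mem' := ⟨0, J.zero_mem, by simp⟩
  smul_mem' := by
    rintro r a ⟨f, hf, ha⟩
    exact ⟨r * f, J.mul_mem_left r hf, by
      simp only [smul_eq_mul, Subalgebra.coe_mul, ha]; ring⟩

lemma img_Jof (R : Subalgebra k (Fin s → PowerSeries k)) (j : Fin s) (I : Ideal ↥R)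
    (hmem : ∀ f ∈ I, xi k j * (f : Fin s → PowerSeries k) ∈ R) :
    img R (Jof R j I) = (img R I).map (LinearMap.mulLeft k (xi k j)) := by
  ext p
  simp only [mem_img, Submodule.mem_map, LinearMap.mulLeft_apply]
  constructor
  · rintro ⟨r, ⟨f, hf, hr⟩, rfl⟩
    exact ⟨f, ⟨f, hf, rfl⟩, hr.symm⟩
  · rintro ⟨_, ⟨f, hf, rfl⟩, rfl⟩
    exact ⟨⟨_, hmem f hf⟩, ⟨f, hf, rfl⟩, rfl⟩

lemma img_Iof (R : Subalgebra k (Fin s → PowerSeries k)) (j : Fin s) (J : Ideal ↥R)
    (hmem : ∀ g ∈ J, ∃ r ∈ R, (g : Fin s → PowerSeries k) = xi k j * r) :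
    img R J = (img R (Iof R j J)).map (LinearMap.mulLeft k (xi k j)) := by
  ext p
  simp only [mem_img, Submodule.mem_map, LinearMap.mulLeft_apply]
  constructor
  · rintro ⟨g, hg, rfl⟩
    obtain ⟨r, hr, hgr⟩ := hmem g hg
    exact ⟨r, ⟨⟨r, hr⟩, ⟨g, hg, hgr⟩, rfl⟩, hgr.symm⟩
  · rintro ⟨_, ⟨r, ⟨g, hg, hgr⟩, rfl⟩, rfl⟩
    exact ⟨g, hg, hgr⟩

/-- the branch ideals of `J = ξ I`. -/
lemma map_eval_of_img (R : Subalgebra k (Fin s → PowerSeries k)) (j : Fin s) (I J : Ideal ↥R)
    (hIJ : img R J = (img R I).map (LinearMap.mulLeft k (xi k j))) (i : Fin s) :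
    Ideal.map ((Pi.evalAlgHom k (fun _ : Fin s => PowerSeries k) i).comp R.val) J =
      Ideal.span {xi k j i} *
        Ideal.map ((Pi.evalAlgHom k (fun _ : Fin s => PowerSeries k) i).comp R.val) I := by
  unfold Ideal.map
  rw [Ideal.span_mul_span', Set.singleton_mul]
  congr 1
  ext p
  simp only [Set.mem_image, SetLike.mem_coe, AlgHom.coe_comp, Subalgebra.coe_val,
    Function.comp_apply, Pi.evalAlgHom_apply]
  constructor
  · rintro ⟨g, hg, rfl⟩
    have : (g : Fin s → PowerSeries k) ∈ img R J := mem_img.2 ⟨g, hg, rfl⟩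
    rw [hIJ] at this
    obtain ⟨_, hq, hqg⟩ := this
    obtain ⟨f, hf, rfl⟩ := mem_img.1 hq
    refine ⟨(f : Fin s → PowerSeries k) i, ⟨f, hf, rfl⟩, ?_⟩
    rw [← hqg]; simp
  · rintro ⟨_, ⟨f, hf, rfl⟩, rfl⟩
    have : xi k j * (f : Fin s → PowerSeries k) ∈ img R J := by
      rw [hIJ]
      exact ⟨f, mem_img.2 ⟨f, hf, rfl⟩, by simp⟩
    obtain ⟨g, hg, hgf⟩ := mem_img.1 this
    exact ⟨g, hg, by rw [hgf]; simp⟩

end helpers2



/-- Let k be a field, s a natural number and R a k-subalgebra of the product of s copies of the power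
series ring k[[x]], of finite codimension δ over k and local with residue field k (all components of
an element of R have the same constant term); write v_i for the x-adic order of the i-th component
of an s-tuple, and let c = (c_1, …, c_s) be the conductor exponents, so that an s-tuple f satisfies
f·g ∈ R for every s-tuple g exactly when v_i(f) ≥ c_i for all i (over an algebraically closed field
such an R is precisely the completed local ring of a reduced curve singularity having s branches
sitting inside its normalisation, δ is its delta invariant and the conductor ideal is generated by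
the x_i^{c_i}). Fix a branch j, a colength d and a branch-length vector a = (a_1, …, a_s) with a_j ≥
c_j, and let ξ be the s-tuple with x in the j-th place and 1 elsewhere. Call an ideal I of R of type
(d, a) when it has colength d and, for every i, the ideal of k[[x]] generated by the i-th components
of its elements is (x^{a_i}). Then multiplication by ξ is a bijection from the ideals of type (d, a)
onto the ideals of type (d + 1, a + e_j), where a + e_j is a with its j-th entry raised by one: for
every ideal I of type (d, a) the set ξ·I is (the image of) an ideal of type (d + 1, a + e_j), and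
every ideal of type (d + 1, a + e_j) is ξ·I for some ideal I of type (d, a). (The published
statement is the equality, in the Grothendieck ring of varieties, of the classes of the two
corresponding branch-length strata of the punctual Hilbert scheme; this row states the bijection on
ideals underlying it, which is what the argument establishes; the published statement is over an
algebraically closed field, and this row allows any field.) -/
theorem result (k : Type u) [Field k] (s : ℕ)
    (R : Subalgebra k (Fin s → PowerSeries k))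
    (hfin : Module.Finite k ((Fin s → PowerSeries k) ⧸ Subalgebra.toSubmodule R))
    (hloc : ∀ f ∈ R, ∀ i j : Fin s, PowerSeries.constantCoeff (f i) = PowerSeries.constantCoeff (f j))
    (c : Fin s → ℕ)
    (hc : ∀ f : Fin s → PowerSeries k,
      (∀ g : Fin s → PowerSeries k, g * f ∈ R) ↔ ∀ i, ((c i : ℕ) : ℕ∞) ≤ (f i).order)
    (j : Fin s) (d : ℕ) (a : Fin s → ℕ) (hj : c j ≤ a j) :
    (∀ I ∈ {I : Ideal ↥R | Module.Finite k (↥R ⧸ I) ∧ Module.finrank k (↥R ⧸ I) = d ∧ (∀ i : Fin s, Ideal.map ((Pi.evalAlgHom k (fun _ : Fin s => PowerSeries k) i).comp R.val) I = Ideal.span {PowerSeries.X ^ (a i)})},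
      ∃ J ∈ {I : Ideal ↥R | Module.Finite k (↥R ⧸ I) ∧ Module.finrank k (↥R ⧸ I) = d + 1 ∧ (∀ i : Fin s, Ideal.map ((Pi.evalAlgHom k (fun _ : Fin s => PowerSeries k) i).comp R.val) I = Ideal.span {PowerSeries.X ^ ((Function.update a j (a j + 1)) i)})},
        (Subtype.val '' (J : Set ↥R)) = (fun f => Pi.mulSingle j PowerSeries.X * f) '' (Subtype.val '' (I : Set ↥R))) ∧
    (∀ J ∈ {I : Ideal ↥R | Module.Finite k (↥R ⧸ I) ∧ Module.finrank k (↥R ⧸ I) = d + 1 ∧ (∀ i : Fin s, Ideal.map ((Pi.evalAlgHom k (fun _ : Fin s => PowerSeries k) i).comp R.val) I = Ideal.span {PowerSeries.X ^ ((Function.update a j (a j + 1)) i)})},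
      ∃ I ∈ {I : Ideal ↥R | Module.Finite k (↥R ⧸ I) ∧ Module.finrank k (↥R ⧸ I) = d ∧ (∀ i : Fin s, Ideal.map ((Pi.evalAlgHom k (fun _ : Fin s => PowerSeries k) i).comp R.val) I = Ideal.span {PowerSeries.X ^ (a i)})},
        (Subtype.val '' (J : Set ↥R)) = (fun f => Pi.mulSingle j PowerSeries.X * f) '' (Subtype.val '' (I : Set ↥R))) := by
  classical
  refine ⟨?_, ?_⟩
  · rintro I ⟨hIfin, hId, hIa⟩
    have hord := (Groth.Agent.S15147.result' k s R c hc I a hIa).2
    have hmem : ∀ f ∈ I, xi k j * (f : Fin s → PowerSeries k) ∈ R := fun f hf =>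
      xi_mul_mem R c hc j f f.2 (le_trans (by exact_mod_cast hj) (hord f hf j))
    have hIJ := img_Jof R j I hmem
    obtain ⟨hJfin, hJd⟩ := colength_forward R hfin j I (Jof R j I) hIJ hIfin
    refine ⟨Jof R j I, ⟨hJfin, by rw [hJd, hId], ?_⟩, ?_⟩
    · intro i
      rw [map_eval_of_img R j I _ hIJ i, hIa i]
      by_cases hi : i = j
      · subst hi
        rw [Function.update_self, Ideal.span_singleton_mul_span_singleton]
        simp [xi, pow_succ']
      · rw [Function.update_of_ne hi]
        simp [xi, Pi.mulSingle_eq_of_ne hi]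
    · rw [← Groth.Agent.Lib.HilbZetaImg50.coe_img, hIJ, Submodule.map_coe,
        Groth.Agent.Lib.HilbZetaImg50.coe_img]
      rfl
  · rintro J ⟨hJfin, hJd, hJa⟩
    have hord := (Groth.Agent.S15147.result' k s R c hc J _ hJa).2
    have hmem : ∀ g ∈ J, ∃ r ∈ R, (g : Fin s → PowerSeries k) = xi k j * r := by
      intro g hg
      have h1 := hord g hg j
      rw [Function.update_self] at h1
      have hX : (PowerSeries.X : PowerSeries k) ∣ (g : Fin s → PowerSeries k) j := by
        rw [PowerSeries.X_dvd_iff, ← PowerSeries.coeff_zero_eq_constantCoeff_apply]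
        apply PowerSeries.coeff_of_lt_order
        refine lt_of_lt_of_le ?_ h1
        exact_mod_cast Nat.succ_pos _
      obtain ⟨w, hw⟩ := hX
      have hgr : (g : Fin s → PowerSeries k) =
          xi k j * Function.update (g : Fin s → PowerSeries k) j w := by
        funext i
        by_cases hi : i = j
        · subst hi; simp [xi, hw]
        · simp [xi, Pi.mulSingle_eq_of_ne hi, Function.update_of_ne hi]
      refine ⟨Function.update (g : Fin s → PowerSeries k) j w, ?_, hgr⟩
      apply div_xi_mem R c hc j _ (hgr ▸ g.2)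
      rw [Function.update_self]
      rw [hw, PowerSeries.order_mul, PowerSeries.order_X] at h1
      refine le_trans (b := ((a j : ℕ) : ℕ∞)) (by exact_mod_cast hj) ?_
      generalize w.order = o at h1 ⊢
      induction o using ENat.recTopCoe with
      | top => exact le_top
      | coe n =>
        have : a j + 1 ≤ 1 + n := by exact_mod_cast h1
        have : a j ≤ n := by omega
        exact_mod_cast this
    have hIJ := img_Iof R j J hmem
    have hIfin := colength_backward R hfin j (Iof R j J) J hIJ hJfin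
    obtain ⟨-, hJd'⟩ := colength_forward R hfin j (Iof R j J) J hIJ hIfin
    refine ⟨Iof R j J, ⟨hIfin, by omega, ?_⟩, ?_⟩
    · intro i
      have h2 := map_eval_of_img R j (Iof R j J) J hIJ i
      rw [hJa i] at h2
      by_cases hi : i = j
      · subst hi
        rw [Function.update_self] at h2
        have h3 : Ideal.span {(PowerSeries.X : PowerSeries k) ^ (a i + 1)} =
            Ideal.span {xi k i i} * Ideal.span {(PowerSeries.X : PowerSeries k) ^ (a i)} := by
          rw [Ideal.span_singleton_mul_span_singleton]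
          simp [xi, pow_succ']
        rw [h3] at h2
        exact ((Ideal.span_singleton_mul_right_inj (xi_apply_ne_zero i i)).1 h2).symm
      · rw [Function.update_of_ne hi] at h2
        rw [h2]
        simp [xi, Pi.mulSingle_eq_of_ne hi]
    · rw [← Groth.Agent.Lib.HilbZetaImg50.coe_img, hIJ, Submodule.map_coe,
        Groth.Agent.Lib.HilbZetaImg50.coe_img]
      rfl

end Groth.Agent.S15149
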