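import Groth.Statements.S15150
import Mathlib.RingTheory.Nakayama
import Mathlib.RingTheory.Spectrum.Prime.FreeLocus
import Mathlib.RingTheory.Nilpotent.Lemmas
import Mathlib.RingTheory.Jacobson.Ideal

set_option autoImplicit false
universe u
open HilbZeta

namespace Groth.Agent.S15150


lemma pow_finrank_eq_bot {K B : Type*} [Field K] [CommRing B] [Algebra K B]
    [FiniteDimensional K B] (𝔫 : Ideal B) (h : 𝔫 ≤ nilradical B) :
    𝔫 ^ (Module.finrank K B) = ⊥ := by
  have hjac : 𝔫 ≤ Ideal.jacobson ⊥ := h.trans (Ideal.radical_le_jacobson)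
  have : IsNoetherianRing B := isNoetherian_of_tower K (inferInstance : IsNoetherian K B)
  have key : ∀ j : ℕ, 𝔫 ^ j = ⊥ ∨
      Module.finrank K ((𝔫 ^ j).restrictScalars K) + j ≤ Module.finrank K B := by
    intro j
    induction j with
    | zero =>
      right
      rw [pow_zero, Ideal.one_eq_top, Submodule.restrictScalars_top, finrank_top, add_zero]
    | succ j ih =>
      rcases ih with h0 | hle
      · left; rw [pow_succ, h0, Ideal.bot_mul]
      · by_cases heq : 𝔫 ^ (j + 1) = 𝔫 ^ j
        · left
          have h1 : 𝔫 ^ j = ⊥ :=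
            Submodule.eq_bot_of_le_smul_of_le_jacobson_bot 𝔫 (𝔫 ^ j) (IsNoetherian.noetherian _)
              (by rw [smul_eq_mul, ← pow_succ', heq]) hjac
          rw [heq, h1]
        · right
          have hlt : (𝔫 ^ (j + 1)).restrictScalars K < (𝔫 ^ j).restrictScalars K :=
            lt_of_le_of_ne (Ideal.pow_le_pow_right (Nat.le_succ j))
              (fun h => heq (Submodule.restrictScalars_injective K _ _ h))
          have := Submodule.finrank_lt_finrank_of_lt hlt
          omega
  rcases key (Module.finrank K B) with h0 | hle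
  · exact h0
  · have h1 : Module.finrank K ((𝔫 ^ Module.finrank K B).restrictScalars K) = 0 := by omega
    rw [Submodule.finrank_eq_zero] at h1
    exact (Submodule.restrictScalars_eq_bot_iff _ _ _).mp h1

open TensorProduct in
theorem result' (A : Type u) [CommRing A] [IsReduced A]
    (S : Type u) [CommRing S] [Algebra A S] (π : S →ₐ[A] A) (I : Ideal S) (d : ℕ)
    [Module.Finite A (S ⧸ I)] [Module.Projective A (S ⧸ I)]
    (hrank : ∀ p : PrimeSpectrum A, Module.rankAtStalk (R := A) (S ⧸ I) p = d)
    (hsupp : RingHom.ker π ≤ I.radical) :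
    RingHom.ker π ^ d ≤ I := by
  intro y hy
  by_contra hyI
  have hb : Ideal.Quotient.mk I y ≠ 0 := by rwa [Ne, Ideal.Quotient.eq_zero_iff_mem]
  obtain ⟨s, hs⟩ := Module.projective_def'.mp (inferInstance : Module.Projective A (S ⧸ I))
  have hsb : s (Ideal.Quotient.mk I y) ≠ 0 := by
    intro h
    apply hb
    have := LinearMap.congr_fun hs (Ideal.Quotient.mk I y)
    rw [LinearMap.comp_apply, h, map_zero] at this
    exact this.symm
  obtain ⟨j, hj⟩ : ∃ j, s (Ideal.Quotient.mk I y) j ≠ 0 := by
    by_contra hcon
    push Not at hcon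
    exact hsb (Finsupp.ext hcon)
  let φ : (S ⧸ I) →ₗ[A] A := (Finsupp.lapply j).comp s
  have hφ : φ (Ideal.Quotient.mk I y) ≠ 0 := hj
  obtain ⟨p, hp, hpφ⟩ : ∃ p : Ideal A, p.IsPrime ∧ φ (Ideal.Quotient.mk I y) ∉ p := by
    by_contra hcon
    push Not at hcon
    have h1 : φ (Ideal.Quotient.mk I y) ∈ nilradical A := by
      rw [nilradical_eq_sInf, Ideal.mem_sInf]
      intro p hp
      exact hcon p hp
    rw [nilradical_eq_zero] at h1
    exact hφ (by simpa using h1)
  haveI := hp
  have hfin : Module.finrank p.ResidueField (p.ResidueField ⊗[A] (S ⧸ I)) = d := by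
    have := Ideal.finrank_fiber_eq_rankAtStalk (M := S ⧸ I) p
    rw [hrank] at this
    exact this
  let f : S →+* p.ResidueField ⊗[A] (S ⧸ I) :=
    (Algebra.TensorProduct.includeRight : (S ⧸ I) →ₐ[A] p.ResidueField ⊗[A] (S ⧸ I)).toRingHom.comp
      (Ideal.Quotient.mk I)
  have hfI : ∀ x ∈ I, f x = 0 := by
    intro x hx
    simp [f, Ideal.Quotient.eq_zero_iff_mem.mpr hx]
  have h𝔫 : Ideal.map f (RingHom.ker π) ≤ nilradical (p.ResidueField ⊗[A] (S ⧸ I)) := by
    rw [Ideal.map_le_iff_le_comap]
    intro x hx
    obtain ⟨N, hN⟩ := hsupp hx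
    rw [Ideal.mem_comap, mem_nilradical]
    refine ⟨N, ?_⟩
    rw [← map_pow]
    exact hfI _ hN
  have hpow := pow_finrank_eq_bot (K := p.ResidueField) _ h𝔫
  rw [hfin] at hpow
  have hfy : f y = 0 := by
    have h1 : f y ∈ Ideal.map f (RingHom.ker π) ^ d := by
      rw [← Ideal.map_pow]; exact Ideal.mem_map_of_mem f hy
    rwa [hpow, Ideal.mem_bot] at h1
  have h1 : (LinearMap.lTensor p.ResidueField φ)
      ((1 : p.ResidueField) ⊗ₜ[A] (Ideal.Quotient.mk I y)) = 0 := by
    have h0 : f y = (1 : p.ResidueField) ⊗ₜ[A] (Ideal.Quotient.mk I y) := rfl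
    rw [← h0, hfy, map_zero]
  rw [LinearMap.lTensor_tmul] at h1
  have h2 := congrArg (TensorProduct.rid A p.ResidueField) h1
  rw [TensorProduct.rid_tmul, map_zero, Algebra.smul_def, mul_one,
    Ideal.algebraMap_residueField_eq_zero] at h2
  exact hpφ h2


/-- Let A be a reduced commutative ring, S an A-algebra together with an A-algebra homomorphism π : S →
A (a section of Spec S → Spec A), with kernel m, and I an ideal of S such that S/I is a finite
projective A-module of constant rank d and m is contained in the radical of I (the finite flat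
subscheme Spec S/I of degree d lies, as a set, on the section). Then m^d ⊆ I: the subscheme lies in
the (d−1)-st infinitesimal neighbourhood of the section. (The published statement is for a closed
subscheme, flat and proper of degree d over a Noetherian base, of a family of reduced curve
singularities with a section, with no reducedness assumption on the base; over the dual numbers k[ε]
the ideal (x − ε) of k[ε][x] has quotient free of rank one and radical containing x but does not
contain x, so the base is taken reduced here, and the statement is given in its affine form, to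
which the argument reduces at once; the curve hypotheses play no role and are dropped; the condition
that Spec S/I lies set-theoretically on the section, which the published argument deduces from
properness of Z inside the germ, is a hypothesis here.) -/
theorem result (A : Type u) [CommRing A] [IsReduced A]
    (S : Type u) [CommRing S] [Algebra A S] (π : S →ₐ[A] A) (I : Ideal S) (d : ℕ)
    [Module.Finite A (S ⧸ I)] [Module.Projective A (S ⧸ I)]
    (hrank : ∀ p : PrimeSpectrum A, Module.rankAtStalk (R := A) (S ⧸ I) p = d)
    (hsupp : RingHom.ker π ≤ I.radical) :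
    RingHom.ker π ^ d ≤ I := by
  exact result' A S π I d hrank hsupp

end Groth.Agent.S15150
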