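import Groth.Statements.S15151
import Mathlib

set_option autoImplicit false
universe u
open CategoryTheory AlgebraicGeometry
open HilbZeta

namespace Groth.Agent.S15151
set_option linter.style.haveILetI false

open scoped nonZeroDivisors

/-- algebraic core: over a Bezout domain, a ring hom is flat if nonzero elements act injectively. -/
lemma flat_of_torsionFree {R S : Type*} [CommRing R] [CommRing S] [IsDomain R] [IsBezout R]
    (φ : R →+* S) (h : ∀ (r : R) (s : S), r ≠ 0 → φ r * s = 0 → s = 0) : φ.Flat := by
  letI := φ.toAlgebra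
  show Module.Flat R S
  rw [Module.Flat.flat_iff_torsion_eq_bot_of_isBezout, eq_bot_iff]
  rintro s ⟨⟨r, hr⟩, hs⟩
  have hr0 : r ≠ 0 := nonZeroDivisors.ne_zero hr
  have e : algebraMap R S = φ := RingHom.algebraMap_toAlgebra φ
  refine h r s hr0 ?_
  rw [← e, ← Algebra.smul_def]
  exact hs

lemma torsionFree_of_flat {R S : Type*} [CommRing R] [CommRing S] [IsDomain R]
    (φ : R →+* S) (hφ : φ.Flat) (r : R) (s : S) (hr : r ≠ 0) (h : φ r * s = 0) : s = 0 := by
  letI := φ.toAlgebra
  haveI : Module.Flat R S := hφ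
  have := Module.Flat.isSMulRegular_of_nonZeroDivisors (M := S)
    (mem_nonZeroDivisors_of_ne_zero hr)
  apply this
  have e : algebraMap R S = φ := RingHom.algebraMap_toAlgebra φ
  simp only [Algebra.smul_def, e, mul_zero]
  exact h


/-- Let k be a field, and let f : X → Y and g : Y → Spec k[t] be morphisms of schemes with f
quasi-compact and with zero kernel ideal sheaf (Y is the scheme-theoretic image of f), such that the
composite X → Spec k[t] is flat. Then g is flat; in particular a k[t]-subalgebra of a flat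
k[t]-algebra is flat. (The published statement has no quasi-compactness hypothesis on f and is over
an algebraically closed field; this row assumes f quasi-compact and allows any field.) -/
theorem result (k : Type u) [Field k]
    (X Y : Scheme.{u}) (f : X ⟶ Y) (g : Y ⟶ Spec (CommRingCat.of (Polynomial k)))
    [QuasiCompact f] (hker : f.ker = ⊥) [Flat (f ≫ g)] : Flat g := by
  haveI : HasAffineProperty @Flat (sourceAffineLocally RingHom.Flat) :=
    HasRingHomProperty.HasAffineProperty (P := @Flat)
  rw [HasAffineProperty.iff_of_isAffine (P := @Flat)]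
  intro V
  let e : Γ(Spec (CommRingCat.of (Polynomial k)), ⊤) ≃+* Polynomial k :=
    (Scheme.ΓSpecIso (CommRingCat.of (Polynomial k))).commRingCatIsoToRingEquiv
  haveI : IsDomain Γ(Spec (CommRingCat.of (Polynomial k)), ⊤) := e.toMulEquiv.isDomain _
  haveI : IsPrincipalIdealRing Γ(Spec (CommRingCat.of (Polynomial k)), ⊤) :=
    IsPrincipalIdealRing.of_surjective e.symm.toRingHom e.symm.surjective
  apply flat_of_torsionFree
  intro r s hr hrs
  have hkerV : RingHom.ker (f.app V.1).hom = ⊥ := by
    rw [← Scheme.Hom.ker_apply, hker]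
    rfl
  have hs : (f.app V.1).hom s = 0 := by
    -- cover `f ⁻¹ᵁ V` by affine opens
    fapply TopCat.Sheaf.eq_of_locally_eq' X.sheaf
      (fun W : {W : X.affineOpens // W.1 ≤ f ⁻¹ᵁ V.1} => W.1.1)
      (f ⁻¹ᵁ V.1) (fun W => homOfLE W.2)
    · intro x hx
      obtain ⟨_, ⟨W, hW, rfl⟩, hxW, hWV⟩ := X.isBasis_affineOpens.exists_subset_of_mem_open hx
        (f ⁻¹ᵁ V.1).isOpen
      exact TopologicalSpace.Opens.mem_iSup.mpr ⟨⟨⟨W, hW⟩, hWV⟩, hxW⟩
    · rintro ⟨W, hW⟩
      show (X.presheaf.map (homOfLE hW).op).hom ((f.app V.1).hom s) =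
        (X.presheaf.map (homOfLE hW).op).hom 0
      rw [map_zero]
      show (f.appLE V.1 W.1 hW).hom s = 0
      have hcomp := Scheme.Hom.appLE_comp_appLE f g ⊤ V.1 W.1 le_top hW
      have hflat : (g.appLE ⊤ V.1 le_top ≫ f.appLE V.1 W.1 hW).hom.Flat := by
        rw [hcomp]
        exact HasRingHomProperty.appLE @Flat (f ≫ g) inferInstance ⟨⊤, isAffineOpen_top _⟩ W _
      refine torsionFree_of_flat _ hflat r _ hr ?_
      have : (f.appLE V.1 W.1 hW).hom ((g.appLE ⊤ V.1 le_top).hom r * s) = 0 := by
        rw [hrs, map_zero]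
      rw [map_mul] at this
      exact this
  have : s ∈ RingHom.ker (f.app V.1).hom := hs
  rw [hkerV] at this
  exact this

end Groth.Agent.S15151
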