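import Groth.Statements.S15152
import Mathlib

set_option autoImplicit false
universe u
open HilbZeta

namespace Groth.Agent.S15152
set_option linter.style.haveILetI false

section Helpers

variable {k : Type u} [Field k] {s : ℕ}

/-- coercion of tuples of polynomials to tuples of power series, as a `k`-linear map -/
noncomputable def coeLin (k : Type u) [Field k] (s : ℕ) :
    (Fin s → Polynomial k) →ₗ[k] (Fin s → PowerSeries k) :=
  LinearMap.pi fun i => (Polynomial.coeToPowerSeries.algHom k).toLinearMap ∘ₗ LinearMap.proj i

lemma coeLin_apply (g : Fin s → Polynomial k) :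
    coeLin k s g = fun i => ((g i : Polynomial k) : PowerSeries k) := by
  funext i
  simp [coeLin, Polynomial.coeToPowerSeries.algHom_apply]

instance : Algebra.FiniteType k (Fin s → Polynomial k) :=
  Algebra.FiniteType.trans (S := Polynomial k) inferInstance inferInstance

variable (R : Subalgebra k (Fin s → PowerSeries k))
    (c : Fin s → ℕ)
    (hc : ∀ f : Fin s → PowerSeries k,
      (∀ g : Fin s → PowerSeries k, g * f ∈ R) ↔ ∀ i, ((c i : ℕ) : ℕ∞) ≤ (f i).order)
    (A : Subalgebra k (Fin s → Polynomial k))
    (hA : ∀ g : Fin s → Polynomial k, g ∈ A ↔ (fun i => ((g i : Polynomial k) : PowerSeries k)) ∈ R)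

include hc in
lemma cond (F : Fin s → PowerSeries k) (h : ∀ i, ∀ d < c i, PowerSeries.coeff d (F i) = 0) :
    F ∈ R := by
  have := (hc F).mpr (fun i => PowerSeries.nat_le_order _ _ (h i)) 1
  simpa using this

include hc hA in
lemma memA (g : Fin s → Polynomial k) (h : ∀ i, ∀ d < c i, (g i).coeff d = 0) : g ∈ A := by
  rw [hA]
  apply cond R c hc
  intro i d hd
  rw [Polynomial.coeff_coe]
  exact h i d hd

/-- the bound `C` -/
def bigC (c : Fin s → ℕ) : ℕ := 1 + Finset.univ.sup c

lemma le_bigC (i : Fin s) : c i ≤ bigC c := by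
  have : c i ≤ Finset.univ.sup c := Finset.le_sup (f := c) (Finset.mem_univ i)
  unfold bigC; omega

lemma one_le_bigC : 1 ≤ bigC c := by unfold bigC; omega

include hc hA in
lemma memA_of_dvd (g : Fin s → Polynomial k) (h : ∀ i, Polynomial.X ^ (bigC c) ∣ g i) : g ∈ A := by
  apply memA R c hc A hA
  intro i d hd
  exact (Polynomial.X_pow_dvd_iff.mp (h i)) d (lt_of_lt_of_le hd (le_bigC c i))

variable (hloc : ∀ f ∈ R, ∀ i j : Fin s,
      PowerSeries.constantCoeff (f i) = PowerSeries.constantCoeff (f j))

include hA hloc in
lemma part2 (e : Fin s → Polynomial k) (he : e ∈ A) (hee : e * e = e) : e = 0 ∨ e = 1 := by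
  have h01 : ∀ i, e i = 0 ∨ e i = 1 := by
    intro i
    have : e i * e i = e i := congrFun hee i
    have h2 : e i * (e i - 1) = 0 := by rw [mul_sub, this, mul_one, sub_self]
    rcases mul_eq_zero.mp h2 with h | h
    · exact Or.inl h
    · exact Or.inr (sub_eq_zero.mp h)
  have hcc : ∀ i j, (e i).coeff 0 = (e j).coeff 0 := by
    intro i j
    have := hloc _ ((hA e).mp he) i j
    simpa [Polynomial.constantCoeff_coe] using this
  by_cases h : ∀ i, e i = 0
  · left; funext i; exact h i
  · right
    push Not at h
    obtain ⟨i₀, hi₀⟩ := h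
    have h1 : e i₀ = 1 := (h01 i₀).resolve_left hi₀
    funext j
    rcases h01 j with hj | hj
    · exfalso
      have := hcc i₀ j
      rw [h1, hj] at this
      simp at this
    · exact hj

include hc hA in
lemma part4 : ∃ N : ℕ, ∀ g : Fin N → (Fin s → Polynomial k),
      (∀ n, g n ∈ A ∧ ∀ i, (g n i).coeff 0 = 0) → ∀ p : Fin s → Polynomial k, p * ∏ n, g n ∈ A := by
  refine ⟨bigC c, fun g hg p => ?_⟩
  apply memA_of_dvd R c hc A hA
  intro i
  have : (p * ∏ n, g n) i = p i * ∏ n, g n i := by
    simp [Finset.prod_apply]
  rw [this]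
  apply Dvd.dvd.mul_left
  have h1 : ∏ _n : Fin (bigC c), (Polynomial.X : Polynomial k) ∣ ∏ n, g n i :=
    Finset.prod_dvd_prod_of_dvd _ _ (fun n _ => Polynomial.X_dvd_iff.mpr ((hg n).2 i))
  simpa using h1

include hc hA in
lemma part5 (f : Fin s → PowerSeries k) (hf : f ∈ R) (N : ℕ) :
    ∃ g ∈ A, ∀ i : Fin s, (N : ℕ∞) ≤ (f i - ((g i : Polynomial k) : PowerSeries k)).order := by
  set M := max N (bigC c) with hM
  set g : Fin s → Polynomial k := fun i => PowerSeries.trunc M (f i) with hg
  have hcoef : ∀ i, ∀ d < M, PowerSeries.coeff d (f i - ((g i : Polynomial k) : PowerSeries k)) = 0 := by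
    intro i d hd
    rw [map_sub, Polynomial.coeff_coe, hg]
    simp only [PowerSeries.coeff_trunc, if_pos hd, sub_self]
  have hFR : (fun i => f i - ((g i : Polynomial k) : PowerSeries k)) ∈ R := by
    apply cond R c hc
    intro i d hd
    exact hcoef i d (lt_of_lt_of_le hd ((le_bigC c i).trans (le_max_right _ _)))
  refine ⟨g, ?_, fun i => ?_⟩
  · rw [hA]
    have := R.sub_mem hf hFR
    convert this using 1
    funext i
    simp
  · apply PowerSeries.nat_le_order
    intro d hd
    exact hcoef i d (lt_of_lt_of_le hd (le_max_left _ _))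

include hc hA in
lemma part6 (N : ℕ) : ∃ M : ℕ, ∀ g : ↥A, (∀ i : Fin s, Polynomial.X ^ M ∣ (g : Fin s → Polynomial k) i) →
      g ∈ (Ideal.span {h : ↥A | ∀ i : Fin s, ((h : Fin s → Polynomial k) i).coeff 0 = 0}) ^ N := by
  refine ⟨(N + 1) * bigC c, fun g hg => ?_⟩
  choose w hw using hg
  have huA : (fun _ : Fin s => (Polynomial.X : Polynomial k) ^ bigC c) ∈ A :=
    memA_of_dvd R c hc A hA _ (fun i => dvd_rfl)
  have hwA : (fun i : Fin s => (Polynomial.X : Polynomial k) ^ bigC c * w i) ∈ A :=
    memA_of_dvd R c hc A hA _ (fun i => Dvd.intro _ rfl)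
  have hu : (⟨_, huA⟩ : ↥A) ∈
      Ideal.span {h : ↥A | ∀ i : Fin s, ((h : Fin s → Polynomial k) i).coeff 0 = 0} := by
    apply Ideal.subset_span
    intro i
    show ((Polynomial.X : Polynomial k) ^ bigC c).coeff 0 = 0
    rw [Polynomial.coeff_X_pow]
    have := one_le_bigC c
    rw [if_neg (by omega)]
  have hgeq : g = (⟨_, huA⟩ : ↥A) ^ N * ⟨_, hwA⟩ := by
    apply Subtype.ext
    funext i
    show (g : Fin s → Polynomial k) i = ((Polynomial.X : Polynomial k) ^ bigC c) ^ N *
      ((Polynomial.X : Polynomial k) ^ bigC c * w i)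
    rw [hw i, ← pow_mul, ← mul_assoc, ← pow_add]
    congr 2
    ring
  rw [hgeq]
  exact Ideal.mul_mem_right _ _ (Ideal.pow_mem_pow hu N)

include hA in
lemma part3 (hfin : Module.Finite k ((Fin s → PowerSeries k) ⧸ Subalgebra.toSubmodule R)) :
    Module.Finite ↥A (Fin s → Polynomial k) := by
  let Nn : Submodule ↥A (Fin s → Polynomial k) :=
    LinearMap.range (Algebra.linearMap ↥A (Fin s → Polynomial k))
  haveI : Module.Finite ↥A Nn := Module.Finite.range _
  -- the quotient is finite over `k`
  let φ : (Fin s → Polynomial k) →ₗ[k] ((Fin s → PowerSeries k) ⧸ Subalgebra.toSubmodule R) :=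
    (Subalgebra.toSubmodule R).mkQ ∘ₗ coeLin k s
  have hker : ∀ x, x ∈ LinearMap.ker φ ↔ x ∈ Nn.restrictScalars k := by
    intro x
    rw [LinearMap.mem_ker, LinearMap.comp_apply, Submodule.mkQ_apply, Submodule.Quotient.mk_eq_zero,
      coeLin_apply, Subalgebra.mem_toSubmodule, ← hA, Submodule.restrictScalars_mem]
    constructor
    · intro hx
      exact ⟨⟨x, hx⟩, rfl⟩
    · rintro ⟨y, rfl⟩
      exact y.2
  haveI : Module.Finite k ((Fin s → Polynomial k) ⧸ Nn.restrictScalars k) := by
    haveI : IsNoetherian k ((Fin s → PowerSeries k) ⧸ Subalgebra.toSubmodule R) :=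
      isNoetherian_of_isNoetherianRing_of_finite k _
    refine Module.Finite.of_injective ((Nn.restrictScalars k).liftQ φ (fun x hx => (hker x).mpr hx)) ?_
    rw [← LinearMap.ker_eq_bot]
    exact Submodule.ker_liftQ_eq_bot _ _ _ (fun x hx => (hker x).mp hx)
  haveI : Module.Finite k ((Fin s → Polynomial k) ⧸ Nn) :=
    Module.Finite.equiv (Submodule.Quotient.restrictScalarsEquiv k Nn)
  haveI : Module.Finite ↥A ((Fin s → Polynomial k) ⧸ Nn) :=
    Module.Finite.of_restrictScalars_finite k ↥A _
  exact Module.Finite.of_submodule_quotient Nn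

lemma part1 (hfinAB : Module.Finite ↥A (Fin s → Polynomial k)) : Algebra.FiniteType k ↥A := by
  refine ⟨fg_of_fg_of_fg k ↥A (Fin s → Polynomial k) Algebra.FiniteType.out
    hfinAB.fg_top Subtype.val_injective⟩

end Helpers


/-- Let k be a field, s a natural number and R a k-subalgebra of the product of s copies of the power
series ring k[[x]], of finite codimension δ over k and local with residue field k (all components of
an element of R have the same constant term); write v_i for the x-adic order of the i-th component
of an s-tuple, and let c = (c_1, …, c_s) be the conductor exponents, so that an s-tuple f satisfies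
f·g ∈ R for every s-tuple g exactly when v_i(f) ≥ c_i for all i (over an algebraically closed field
such an R is precisely the completed local ring of a reduced curve singularity having s branches
sitting inside its normalisation, δ is its delta invariant and the conductor ideal is generated by
the x_i^{c_i}). Let A be the k-subalgebra of the product of s polynomial rings k[x] consisting of
the tuples whose image in the power series product lies in R, and m₀ its ideal of tuples with zero
constant terms. Then: A is of finite type over k and has no idempotents besides 0 and 1; the product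
of polynomial rings is a finite A-module, and for some N every product of N elements of m₀
multiplies all of it into A; every element of R is approximated to any x-adic order by elements of
A; and for every N there is an M such that every element of A whose components are all divisible by
x^M lies in m₀^N. In words: Y = Spec A is a connected affine curve whose normalisation is the
disjoint union of s affine lines and is an isomorphism away from the origin, and the completed local
ring of Y at the origin is R, compatibly with the inclusion of the polynomial product in the power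
series product. (The published statement asserts the existence of such a curve Y and is over an
algebraically closed field; this row names Y and allows any field.) -/
theorem result (k : Type u) [Field k] (s : ℕ)
    (R : Subalgebra k (Fin s → PowerSeries k))
    (hfin : Module.Finite k ((Fin s → PowerSeries k) ⧸ Subalgebra.toSubmodule R))
    (hloc : ∀ f ∈ R, ∀ i j : Fin s, PowerSeries.constantCoeff (f i) = PowerSeries.constantCoeff (f j))
    (c : Fin s → ℕ)
    (hc : ∀ f : Fin s → PowerSeries k,
      (∀ g : Fin s → PowerSeries k, g * f ∈ R) ↔ ∀ i, ((c i : ℕ) : ℕ∞) ≤ (f i).order)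
    (A : Subalgebra k (Fin s → Polynomial k))
    (hA : ∀ g : Fin s → Polynomial k, g ∈ A ↔ (fun i => ((g i : Polynomial k) : PowerSeries k)) ∈ R) :
    Algebra.FiniteType k ↥A ∧
    (∀ e ∈ A, e * e = e → e = 0 ∨ e = 1) ∧
    Module.Finite ↥A (Fin s → Polynomial k) ∧
    (∃ N : ℕ, ∀ g : Fin N → (Fin s → Polynomial k),
      (∀ n, g n ∈ A ∧ ∀ i, (g n i).coeff 0 = 0) → ∀ p : Fin s → Polynomial k, p * ∏ n, g n ∈ A) ∧
    (∀ f ∈ R, ∀ N : ℕ, ∃ g ∈ A, ∀ i : Fin s, (N : ℕ∞) ≤ (f i - ((g i : Polynomial k) : PowerSeries k)).order) ∧
    (∀ N : ℕ, ∃ M : ℕ, ∀ g : ↥A, (∀ i : Fin s, Polynomial.X ^ M ∣ (g : Fin s → Polynomial k) i) →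
      g ∈ (Ideal.span {h : ↥A | ∀ i : Fin s, ((h : Fin s → Polynomial k) i).coeff 0 = 0}) ^ N) := by
  have h3 := part3 R A hA hfin
  exact ⟨part1 A h3, fun e he hee => part2 R A hA hloc e he hee, h3, part4 R c hc A hA,
    fun f hf N => part5 R c hc A hA f hf N, fun N => part6 R c hc A hA N⟩

end Groth.Agent.S15152
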