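import Groth.Statements.S15153
import Mathlib
import Groth.Agent.Lib.FibRankUniv
import Groth.Agent.Lib.LocConstRank2
import Groth.Agent.Lib.TFunRank2

set_option autoImplicit false
universe u
open TensorProduct
open HilbZeta

namespace Groth.Agent.S15153

section helpers

variable {A : Type u} [CommRing A]

/-- The range of a base change is spanned by the pure tensors `1 ⊗ δ m`. -/
theorem range_baseChange_eq_span (κ : Type*) [Field κ] [Algebra A κ] {M F : Type*}
    [AddCommGroup M] [Module A M] [AddCommGroup F] [Module A F] (δ : M →ₗ[A] F) :
    LinearMap.range (δ.baseChange κ) =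
      Submodule.span κ (Set.range fun m : M => (1 : κ) ⊗ₜ[A] δ m) := by
  apply le_antisymm
  · rintro _ ⟨x, rfl⟩
    induction x using TensorProduct.induction_on with
    | zero => simp
    | tmul a m =>
      rw [LinearMap.baseChange_tmul]
      have : a ⊗ₜ[A] δ m = a • ((1 : κ) ⊗ₜ[A] δ m) := by
        rw [TensorProduct.smul_tmul', smul_eq_mul, mul_one]
      rw [this]
      exact Submodule.smul_mem _ _ (Submodule.subset_span ⟨m, rfl⟩)
    | add x y hx hy =>
      rw [map_add]
      exact Submodule.add_mem _ hx hy
  · rw [Submodule.span_le]
    rintro _ ⟨m, rfl⟩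
    exact ⟨(1 : κ) ⊗ₜ[A] m, by simp⟩

/-- Level sets of a lower semicontinuous function on a Noetherian space are constructible. -/
theorem isConstructible_levelSet_of_lsc {X : Type*} [TopologicalSpace X]
    [TopologicalSpace.NoetherianSpace X]
    (f : X → ℕ) (hf : LowerSemicontinuous f) (n : ℕ) :
    Topology.IsConstructible {x | f x = n} := by
  have hopen : ∀ n : ℕ, IsOpen (f ⁻¹' Set.Ioi n) :=
    fun n => (lowerSemicontinuous_iff_isOpen_preimage.mp hf) n
  have hc : ∀ n : ℕ, Topology.IsConstructible (f ⁻¹' Set.Ioi n) := fun n =>
    (TopologicalSpace.NoetherianSpace.isCompact _).isConstructible (hopen n)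
  rcases n with _ | n
  · have : {x | f x = 0} = (f ⁻¹' Set.Ioi 0)ᶜ := by
      ext x
      simp only [Set.mem_ofPred_eq, Set.mem_compl_iff, Set.mem_preimage, Set.mem_Ioi]
      omega
    rw [this]
    exact (hc _).compl
  · have : {x | f x = n + 1} = f ⁻¹' Set.Ioi n \ f ⁻¹' Set.Ioi (n + 1) := by
      ext x
      simp only [Set.mem_ofPred_eq, Set.mem_sdiff, Set.mem_preimage, Set.mem_Ioi]
      omega
    rw [this]
    exact (hc _).sdiff (hc _)

/-- Fibrewise: the span of the multiplication operators has the same dimension as the range of
the base change of `ν : S → Q^m`, `s ↦ (s • q j)_j`, for generators `q j` of `Q`. -/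
theorem finrank_span_eq (κ : Type*) [Field κ] [Algebra A κ]
    (S : Type u) [CommRing S] [Algebra A S]
    (Q : Type u) [AddCommGroup Q] [Module A Q] [Module S Q] [IsScalarTower A S Q]
    {m : ℕ} (q : Fin m → Q) (hq : Submodule.span A (Set.range q) = ⊤)
    (ν : S →ₗ[A] (Fin m → Q)) (hν : ∀ s j, ν s j = s • q j) :
    Module.finrank κ (Submodule.span κ (Set.range fun s : S =>
        LinearMap.baseChange κ (DistribSMul.toLinearMap A Q s))) =
      Module.finrank κ (LinearMap.range (ν.baseChange κ)) := by
  classical
  let ev : (κ ⊗[A] Q →ₗ[κ] κ ⊗[A] Q) →ₗ[κ] (Fin m → κ ⊗[A] Q) :=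
    LinearMap.pi fun j => LinearMap.applyₗ ((1 : κ) ⊗ₜ[A] q j)
  have hspan : Submodule.span κ (Set.range fun j => (1 : κ) ⊗ₜ[A] q j) = ⊤ := by
    have h := Submodule.baseChange_span (A := κ) (R := A) (Set.range q)
    rw [hq, Submodule.baseChange_top] at h
    rw [h]
    congr 1
    ext x
    simp
  have hev : Function.Injective ev := by
    intro g₁ g₂ h
    apply LinearMap.ext_on hspan
    rintro _ ⟨j, rfl⟩
    exact congrFun h j
  let Ψ := TensorProduct.piRight A κ κ (fun _ : Fin m => Q)
  have h1 : (Submodule.span κ (Set.range fun s : S =>
        LinearMap.baseChange κ (DistribSMul.toLinearMap A Q s))).map ev =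
      (LinearMap.range (ν.baseChange κ)).map Ψ.toLinearMap := by
    rw [range_baseChange_eq_span, Submodule.map_span, Submodule.map_span, ← Set.range_comp,
      ← Set.range_comp]
    congr 2
    funext s
    funext j
    simp [ev, Ψ, hν]
  calc Module.finrank κ (Submodule.span κ (Set.range fun s : S =>
        LinearMap.baseChange κ (DistribSMul.toLinearMap A Q s)))
      = Module.finrank κ ((Submodule.span κ (Set.range fun s : S =>
        LinearMap.baseChange κ (DistribSMul.toLinearMap A Q s))).map ev) :=
        LinearEquiv.finrank_eq (Submodule.equivMapOfInjective ev hev _)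
    _ = Module.finrank κ ((LinearMap.range (ν.baseChange κ)).map Ψ.toLinearMap) := by rw [h1]
    _ = Module.finrank κ (LinearMap.range (ν.baseChange κ)) := LinearEquiv.finrank_map_eq Ψ _

end helpers

/-- Let A be a Noetherian commutative ring, S a commutative A-algebra and Q an S-module which is finite
and flat as an A-module. For a prime p of A with residue field κ(p), multiplication by an element of
S induces a κ(p)-linear endomorphism of the fibre κ(p) ⊗_A Q; let φ(p) be the κ(p)-dimension of the
span of these endomorphisms, which is the colength of the annihilator of the fibre module κ(p) ⊗_A Q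
in the fibre algebra κ(p) ⊗_A S (the length of the smallest subscheme of the fibre carrying it).
Then p ↦ φ(p) is a constructible function: for every n the primes with φ(p) = n form a constructible
subset of Spec A. (The published statement is for a coherent sheaf, flat and finite over a
Noetherian base, on a family of reduced curve singularities with a section, and its function of the
base point is this colength; the curve hypotheses play no role and the row is the affine form over
any Noetherian ring.) -/
theorem result (A : Type u) [CommRing A] [IsNoetherianRing A]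
    (S : Type u) [CommRing S] [Algebra A S]
    (Q : Type u) [AddCommGroup Q] [Module A Q] [Module S Q] [IsScalarTower A S Q]
    [Module.Finite A Q] [Module.Flat A Q] (n : ℕ) :
    Topology.IsConstructible {p : PrimeSpectrum A |
      Module.finrank p.asIdeal.ResidueField
        (Submodule.span p.asIdeal.ResidueField
          (Set.range fun s : S =>
            LinearMap.baseChange p.asIdeal.ResidueField (DistribSMul.toLinearMap A Q s))) = n} := by
  classical
  obtain ⟨m, q, hq⟩ := Module.Finite.exists_fin (R := A) (M := Q)
  let ν : S →ₗ[A] (Fin m → Q) :=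
    { toFun := fun s j => s • q j
      map_add' := fun s t => by funext j; simp [add_smul]
      map_smul' := fun a s => by funext j; simp }
  have hν : ∀ s j, ν s j = s • q j := fun _ _ => rfl
  haveI : Module.FinitePresentation A Q := Module.finitePresentation_of_finite A Q
  haveI : Module.Projective A Q := Module.Flat.projective_of_finitePresentation
  haveI : Module.Projective A (Fin m → Q) :=
    Module.Projective.of_equiv (DFinsupp.linearEquivFunOnFintype (R := A) (M := fun _ : Fin m => Q))
  let f : PrimeSpectrum A → ℕ := fun p =>
    Module.finrank p.asIdeal.ResidueField (LinearMap.range (ν.baseChange p.asIdeal.ResidueField))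
  have hset : {p : PrimeSpectrum A |
      Module.finrank p.asIdeal.ResidueField
        (Submodule.span p.asIdeal.ResidueField
          (Set.range fun s : S =>
            LinearMap.baseChange p.asIdeal.ResidueField (DistribSMul.toLinearMap A Q s))) = n} =
      {p | f p = n} := by
    ext p
    simp only [Set.mem_ofPred_eq, f]
    rw [finrank_span_eq p.asIdeal.ResidueField S Q q hq ν hν]
  rw [hset]
  apply isConstructible_levelSet_of_lsc
  apply Groth.Agent.Lib.FibRankUniv.lowerSemicontinuous_of_add_eq f
    (fun p => Module.finrank p.asIdeal.ResidueField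
      (p.asIdeal.ResidueField ⊗[A] ((Fin m → Q) ⧸ LinearMap.range ν)))
    (Groth.Agent.Lib.LocConstRank.fibRank' (A := A) (Fin m → Q))
  · intro p
    exact Groth.Agent.Lib.FibRankUniv.finrank_range_baseChange_add p.asIdeal.ResidueField ν
  · exact Groth.Agent.Lib.FibRankUniv.upperSemicontinuous_finrank_tensor _
  · exact Groth.Agent.Lib.LocConstRank.isLocallyConstant_fibRank'_of_projective _

end Groth.Agent.S15153
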