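import Groth.Statements.S15155
import Mathlib

set_option autoImplicit false
open CAlg

namespace Groth.Agent.S15155

universe u
open Matrix

/-- equivalence splitting off two distinct indices -/
def splitEquiv {ι : Type u} [DecidableEq ι] (i j : ι) (hij : i ≠ j) :
    ι ≃ Fin 2 ⊕ {a : ι // a ≠ i ∧ a ≠ j} where
  toFun a := if hi : a = i then Sum.inl 0 else if hj : a = j then Sum.inl 1 else Sum.inr ⟨a, hi, hj⟩
  invFun := Sum.elim ![i, j] Subtype.val
  left_inv a := by
    by_cases hi : a = i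
    · simp [hi]
    · by_cases hj : a = j
      · simp [hj, hij.symm]
      · simp [hi, hj]
  right_inv b := by
    rcases b with b | b
    · fin_cases b
      · simp
      · simp [hij.symm]
    · simp [b.2.1, b.2.2]

theorem splitEquiv_symm_inl_zero {ι : Type u} [DecidableEq ι] (i j : ι) (hij : i ≠ j) :
    (splitEquiv i j hij).symm (Sum.inl 0) = i := rfl

theorem splitEquiv_symm_inl_one {ι : Type u} [DecidableEq ι] (i j : ι) (hij : i ≠ j) :
    (splitEquiv i j hij).symm (Sum.inl 1) = j := rfl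

theorem det_sq_of_skew {K : Type*} [Field K] (h2 : (2:K) ≠ 0) :
    ∀ (n : ℕ) {ι : Type u} [Fintype ι] [DecidableEq ι],
      Fintype.card ι = n → ∀ M : Matrix ι ι K, Mᵀ = -M → ∃ s : K, M.det = s ^ 2 := by
  intro n
  induction n using Nat.strong_induction_on with
  | _ n ih =>
    intro ι _ _ hcard M hM
    by_cases h0 : M = 0
    · subst h0
      rcases isEmpty_or_nonempty ι with he | hne
      · exact ⟨1, by simp⟩
      · exact ⟨0, by simp [Matrix.det_zero]⟩
    · obtain ⟨i, j, hij0⟩ : ∃ i j, M i j ≠ 0 := by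
        by_contra hcon
        push Not at hcon
        exact h0 (by ext a b; simpa using hcon a b)
      have hskew : ∀ a b, M b a = - M a b := fun a b => by
        have := congrFun (congrFun hM a) b
        simpa using this
      have hdiag : ∀ a, M a a = 0 := by
        intro a
        have h := hskew a a
        have h2' : (2:K) * M a a = 0 := by linear_combination h
        exact (mul_eq_zero.mp h2').resolve_left h2
      have hij : i ≠ j := by
        rintro rfl
        exact hij0 (hdiag i)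
      set e := splitEquiv i j hij with he
      set M' : Matrix (Fin 2 ⊕ {a : ι // a ≠ i ∧ a ≠ j}) (Fin 2 ⊕ {a : ι // a ≠ i ∧ a ≠ j}) K :=
        M.submatrix e.symm e.symm with hM'
      have hdet : M'.det = M.det := Matrix.det_submatrix_equiv_self e.symm M
      have hM'T : M'ᵀ = -M' := by
        rw [hM', transpose_submatrix, hM]
        rfl
      set A := M'.toBlocks₁₁ with hA
      set B := M'.toBlocks₁₂ with hB
      set C := M'.toBlocks₂₁ with hC
      set D := M'.toBlocks₂₂ with hD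
      have hblocks : M' = fromBlocks A B C D := (fromBlocks_toBlocks M').symm
      have hT : fromBlocks Aᵀ Cᵀ Bᵀ Dᵀ = fromBlocks (-A) (-B) (-C) (-D) := by
        rw [← fromBlocks_transpose, ← fromBlocks_neg, ← hblocks, hM'T]
      obtain ⟨hAT, hCT, hBT, hDT⟩ := fromBlocks_inj.mp hT
      have hA00 : A 0 0 = 0 := hdiag i
      have hA11 : A 1 1 = 0 := hdiag j
      have hA01 : A 0 1 = M i j := rfl
      have hA10 : A 1 0 = - M i j := hskew i j
      have hdetA : A.det = (M i j) ^ 2 := by
        rw [Matrix.det_fin_two, hA00, hA11, hA01, hA10]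
        ring
      have hunit : IsUnit A.det := by
        rw [hdetA]
        exact (pow_ne_zero 2 hij0).isUnit
      letI : Invertible A := invertibleOfIsUnitDet A hunit
      have hdetM' : M'.det = A.det * (D - C * ⅟A * B).det := by
        rw [hblocks]
        exact det_fromBlocks₁₁ A B C D
      -- the inverse is skew
      have hNT : (⅟A)ᵀ = -⅟A := by
        have h1 : (⅟A)ᵀ * Aᵀ = 1 := by
          rw [← transpose_mul, mul_invOf_self, transpose_one]
        rw [hAT] at h1
        have h2 : (-(⅟A)ᵀ) * A = 1 := by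
          rw [neg_mul, ← mul_neg]
          exact h1
        have h3 : A⁻¹ = -(⅟A)ᵀ := Matrix.inv_eq_left_inv h2
        rw [← invOf_eq_nonsing_inv] at h3
        rw [eq_comm, neg_eq_iff_eq_neg]
        exact h3
      have hS : (D - C * ⅟A * B)ᵀ = -(D - C * ⅟A * B) := by
        rw [transpose_sub, transpose_mul, transpose_mul, hDT, hBT, hNT, hCT]
        simp only [Matrix.neg_mul, Matrix.mul_neg, neg_neg, Matrix.mul_assoc]
        abel
      have hcardκ : Fintype.card {a : ι // a ≠ i ∧ a ≠ j} < n := by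
        have := Fintype.card_congr e
        rw [Fintype.card_sum, Fintype.card_fin] at this
        omega
      obtain ⟨s, hs⟩ := ih _ hcardκ rfl (D - C * ⅟A * B) hS
      refine ⟨M i j * s, ?_⟩
      rw [← hdet, hdetM', hdetA, hs]
      ring

theorem det_sq_of_skew_domain {R : Type*} [CommRing R] [IsDomain R] [IsIntegrallyClosed R]
    (h2 : (2:R) ≠ 0) {ι : Type u} [Fintype ι] [DecidableEq ι] (N : Matrix ι ι R) (hN : Nᵀ = -N) :
    ∃ s : R, N.det = s ^ 2 := by
  have hinj := IsFractionRing.injective R (FractionRing R)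
  have h2K : (2 : FractionRing R) ≠ 0 := by
    have h : algebraMap R (FractionRing R) 2 ≠ 0 := by
      rw [Ne, map_eq_zero_iff _ hinj]
      exact h2
    have h' : algebraMap R (FractionRing R) 2 = 2 := map_ofNat _ 2
    rwa [h'] at h
  obtain ⟨t, ht⟩ := det_sq_of_skew h2K _ rfl (N.map (algebraMap R (FractionRing R)))
    (by rw [← transpose_map, hN]; ext a b; simp)
  have hdet : (N.map (algebraMap R (FractionRing R))).det = algebraMap R (FractionRing R) N.det := by
    rw [← RingHom.mapMatrix_apply, ← RingHom.map_det]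
  obtain ⟨s, hs⟩ := IsIntegrallyClosed.exists_algebraMap_eq_of_isIntegral_pow (R := R)
    (K := FractionRing R) (x := t) (n := 2) two_pos
    (by rw [← ht, hdet]; exact isIntegral_algebraMap)
  refine ⟨s, hinj ?_⟩
  rw [map_pow, hs, ← ht, hdet]


theorem exists_sq_generic {S₀ : Type*} [CommRing S₀] [IsDomain S₀] [UniqueFactorizationMonoid S₀]
    (h2 : (2 : S₀) ≠ 0) {σ : Type*} {ι : Type u} [Fintype ι] [DecidableEq ι]
    (W : Matrix ι ι (MvPolynomial σ S₀)) :
    ∃ s : MvPolynomial σ S₀, ∀ f : σ → S₀,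
      ((MvPolynomial.eval f).mapMatrix W)ᵀ = -((MvPolynomial.eval f).mapMatrix W) →
      (2 : S₀) ^ Fintype.card ι * ((MvPolynomial.eval f).mapMatrix W).det
        = (MvPolynomial.eval f s) ^ 2 := by
  have h2' : (2 : MvPolynomial σ S₀) ≠ 0 := by
    have h : (MvPolynomial.C (2 : S₀) : MvPolynomial σ S₀) ≠ 0 := by
      rw [Ne, map_eq_zero_iff _ (MvPolynomial.C_injective σ S₀)]
      exact h2
    have h' : (MvPolynomial.C (2 : S₀) : MvPolynomial σ S₀) = 2 := map_ofNat _ 2
    rwa [h'] at h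
  obtain ⟨s, hs⟩ := det_sq_of_skew_domain h2' (W - Wᵀ)
    (by rw [transpose_sub, transpose_transpose, neg_sub])
  refine ⟨s, fun f hf => ?_⟩
  have h1 : (MvPolynomial.eval f) (W - Wᵀ).det = ((MvPolynomial.eval f) s) ^ 2 := by
    rw [hs, map_pow]
  rw [RingHom.map_det] at h1
  have h4 : (MvPolynomial.eval f).mapMatrix Wᵀ = ((MvPolynomial.eval f).mapMatrix W)ᵀ := by
    ext a b
    simp
  have h3 : (MvPolynomial.eval f).mapMatrix (W - Wᵀ)
      = (2 : S₀) • (MvPolynomial.eval f).mapMatrix W := by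
    rw [map_sub, h4, hf, sub_neg_eq_add, two_smul]
  rw [h3, det_smul] at h1
  exact h1

theorem result' (m : ℕ) :
    (∃ P : MvPolynomial ((Fin m ⊕ Fin m) × (Fin m ⊕ Fin m)) (Polynomial ℂ),
      ∀ A : Matrix (Fin m ⊕ Fin m) (Fin m ⊕ Fin m) ℂ,
        A.transpose * Matrix.fromBlocks 0 1 (-1) 0 = Matrix.fromBlocks 0 1 (-1) 0 * A →
        A.charpoly = (MvPolynomial.eval (fun ij => Polynomial.C (A ij.1 ij.2)) P) ^ 2) ∧
    (∃ Q : MvPolynomial ((Fin m ⊕ Fin m) × (Fin m ⊕ Fin m)) ℂ,
      ∀ A : Matrix (Fin m ⊕ Fin m) (Fin m ⊕ Fin m) ℂ,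
        A.transpose * Matrix.fromBlocks 0 1 (-1) 0 = Matrix.fromBlocks 0 1 (-1) 0 * A →
        A.det = (MvPolynomial.eval (fun ij => A ij.1 ij.2) Q) ^ 2) := by
  set J : Matrix (Fin m ⊕ Fin m) (Fin m ⊕ Fin m) ℂ := fromBlocks 0 1 (-1) 0 with hJ
  have hJJ : J * J = -1 := by
    rw [hJ, fromBlocks_multiply]
    simp only [Matrix.mul_zero, Matrix.zero_mul, Matrix.mul_one, Matrix.one_mul, zero_add, add_zero,
      Matrix.mul_neg, Matrix.neg_mul]
    rw [← fromBlocks_one, fromBlocks_neg]
    simp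
  have hJT : Jᵀ = -J := by
    rw [hJ, fromBlocks_transpose, fromBlocks_neg]
    simp
  have hdetJ2 : J.det ^ 2 = 1 := by
    have h := congrArg det hJJ
    rw [det_mul, det_neg, det_one, Fintype.card_sum, Fintype.card_fin, mul_one,
      Even.neg_one_pow ⟨m, rfl⟩] at h
    rw [sq]
    exact h
  have hdetJ0 : J.det ≠ 0 := by
    intro h
    rw [h] at hdetJ2
    simp at hdetJ2
  obtain ⟨ε, hε⟩ := IsAlgClosed.exists_pow_nat_eq J.det (n := 2) two_pos
  have hε0 : ε ≠ 0 := by
    rintro rfl
    simp at hε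
    exact hdetJ0 hε.symm
  set c : ℂ := 2 ^ m * ε with hc
  have hc0 : c ≠ 0 := mul_ne_zero (pow_ne_zero _ two_ne_zero) hε0
  have hc2 : c ^ 2 = 2 ^ (m + m) * J.det := by
    rw [hc, mul_pow, hε, ← pow_mul, mul_two]
  have hcard : Fintype.card (Fin m ⊕ Fin m) = m + m := by
    rw [Fintype.card_sum, Fintype.card_fin]
  have hskewJA : ∀ A : Matrix (Fin m ⊕ Fin m) (Fin m ⊕ Fin m) ℂ, Aᵀ * J = J * A →
      (J * A)ᵀ = -(J * A) := by
    intro A hA
    rw [transpose_mul, hJT, Matrix.mul_neg, hA]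
  constructor
  · -- charpoly
    let G : Matrix (Fin m ⊕ Fin m) (Fin m ⊕ Fin m)
        (MvPolynomial ((Fin m ⊕ Fin m) × (Fin m ⊕ Fin m)) (Polynomial ℂ)) :=
      Matrix.of fun a b => MvPolynomial.X (a, b)
    let JR : Matrix (Fin m ⊕ Fin m) (Fin m ⊕ Fin m)
        (MvPolynomial ((Fin m ⊕ Fin m) × (Fin m ⊕ Fin m)) (Polynomial ℂ)) :=
      fromBlocks 0 1 (-1) 0
    let T : Matrix (Fin m ⊕ Fin m) (Fin m ⊕ Fin m)
        (MvPolynomial ((Fin m ⊕ Fin m) × (Fin m ⊕ Fin m)) (Polynomial ℂ)) :=
      Matrix.diagonal fun _ => MvPolynomial.C Polynomial.X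
    obtain ⟨s, hs⟩ := exists_sq_generic (S₀ := Polynomial ℂ) two_ne_zero (JR * (T - G))
    refine ⟨MvPolynomial.C (Polynomial.C c⁻¹) * s, fun A hA => ?_⟩
    have hJR : (MvPolynomial.eval fun ij : (Fin m ⊕ Fin m) × (Fin m ⊕ Fin m) =>
        Polynomial.C (A ij.1 ij.2)).mapMatrix JR = (Polynomial.C).mapMatrix J := by
      ext a b
      rcases a with a | a <;> rcases b with b | b <;>
        simp [JR, hJ, Matrix.one_apply, apply_ite]
    have hTG : (MvPolynomial.eval fun ij : (Fin m ⊕ Fin m) × (Fin m ⊕ Fin m) =>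
        Polynomial.C (A ij.1 ij.2)).mapMatrix (T - G) = charmatrix A := by
      ext a b
      by_cases hab : a = b
      · subst hab
        simp [T, G, charmatrix_apply]
      · simp [T, G, charmatrix_apply, hab]
    have hmap : (MvPolynomial.eval fun ij : (Fin m ⊕ Fin m) × (Fin m ⊕ Fin m) =>
        Polynomial.C (A ij.1 ij.2)).mapMatrix (JR * (T - G))
        = (Polynomial.C).mapMatrix J * charmatrix A := by
      rw [map_mul, hJR, hTG]
    have hcomm : charmatrix Aᵀ * (Polynomial.C).mapMatrix J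
        = (Polynomial.C).mapMatrix J * charmatrix A := by
      unfold charmatrix
      rw [sub_mul, mul_sub, ← map_mul, ← map_mul, hA]
      congr 1
      exact (Matrix.scalar_commute _ (fun _ => Commute.all _ _) _).eq
    have hskew : ((Polynomial.C).mapMatrix J * charmatrix A)ᵀ
        = -((Polynomial.C).mapMatrix J * charmatrix A) := by
      rw [transpose_mul, ← charmatrix_transpose, ← hcomm]
      have : ((Polynomial.C).mapMatrix J)ᵀ = -(Polynomial.C).mapMatrix J := by
        rw [RingHom.mapMatrix_apply, ← transpose_map, hJT]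
        ext a b
        simp
      rw [this, Matrix.mul_neg]
    have h := hs (fun ij => Polynomial.C (A ij.1 ij.2)) (by rw [hmap]; exact hskew)
    rw [hmap, det_mul, hcard, ← RingHom.map_det] at h
    rw [map_mul, MvPolynomial.eval_C, mul_pow, ← h, ← map_pow]
    change A.charpoly = _
    have h5 : (Polynomial.C (c⁻¹ ^ 2) : Polynomial ℂ) * (2 ^ (m + m) * (Polynomial.C J.det * A.charpoly))
        = Polynomial.C (c⁻¹ ^ 2 * (2 ^ (m + m) * J.det)) * A.charpoly := by
      rw [map_mul, map_mul, map_pow, map_pow, map_ofNat]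
      ring
    unfold Matrix.charpoly at h5 ⊢
    rw [h5, ← hc2, inv_pow, inv_mul_cancel₀ (pow_ne_zero 2 hc0), map_one, one_mul]
  · -- det
    let G : Matrix (Fin m ⊕ Fin m) (Fin m ⊕ Fin m)
        (MvPolynomial ((Fin m ⊕ Fin m) × (Fin m ⊕ Fin m)) ℂ) :=
      Matrix.of fun a b => MvPolynomial.X (a, b)
    let JR : Matrix (Fin m ⊕ Fin m) (Fin m ⊕ Fin m)
        (MvPolynomial ((Fin m ⊕ Fin m) × (Fin m ⊕ Fin m)) ℂ) :=
      fromBlocks 0 1 (-1) 0
    obtain ⟨s, hs⟩ := exists_sq_generic (S₀ := ℂ) two_ne_zero (JR * G)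
    refine ⟨MvPolynomial.C c⁻¹ * s, fun A hA => ?_⟩
    have hJR : (MvPolynomial.eval fun ij : (Fin m ⊕ Fin m) × (Fin m ⊕ Fin m) =>
        A ij.1 ij.2).mapMatrix JR = J := by
      ext a b
      rcases a with a | a <;> rcases b with b | b <;>
        simp [JR, hJ, Matrix.one_apply, apply_ite]
    have hG : (MvPolynomial.eval fun ij : (Fin m ⊕ Fin m) × (Fin m ⊕ Fin m) =>
        A ij.1 ij.2).mapMatrix G = A := by
      ext a b
      simp [G]
    have hmap : (MvPolynomial.eval fun ij : (Fin m ⊕ Fin m) × (Fin m ⊕ Fin m) =>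
        A ij.1 ij.2).mapMatrix (JR * G) = J * A := by
      rw [map_mul, hJR, hG]
    have h := hs (fun ij => A ij.1 ij.2) (by rw [hmap]; exact hskewJA A hA)
    rw [hmap, det_mul, hcard] at h
    rw [map_mul, MvPolynomial.eval_C, mul_pow, ← h, inv_pow, hc2]
    field_simp


/-- Let J be the 2m × 2m block matrix with blocks 0, I_m in the first row and −I_m, 0 in the second,
over the complex numbers. On the set of complex 2m × 2m matrices A with ᵗA · J = J · A (equivalently
ᵗA = J A J⁻¹, J being invertible), the characteristic polynomial is the square of a single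
polynomial in the entries of A with coefficients in ℂ[X], and the determinant is the square of a
single polynomial in the entries of A. -/
theorem result (m : ℕ) :
    (∃ P : MvPolynomial ((Fin m ⊕ Fin m) × (Fin m ⊕ Fin m)) (Polynomial ℂ),
      ∀ A : Matrix (Fin m ⊕ Fin m) (Fin m ⊕ Fin m) ℂ,
        A.transpose * Matrix.fromBlocks 0 1 (-1) 0 = Matrix.fromBlocks 0 1 (-1) 0 * A →
        A.charpoly = (MvPolynomial.eval (fun ij => Polynomial.C (A ij.1 ij.2)) P) ^ 2) ∧
    (∃ Q : MvPolynomial ((Fin m ⊕ Fin m) × (Fin m ⊕ Fin m)) ℂ,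
      ∀ A : Matrix (Fin m ⊕ Fin m) (Fin m ⊕ Fin m) ℂ,
        A.transpose * Matrix.fromBlocks 0 1 (-1) 0 = Matrix.fromBlocks 0 1 (-1) 0 * A →
        A.det = (MvPolynomial.eval (fun ij => A ij.1 ij.2) Q) ^ 2) := by
  exact result' m

end Groth.Agent.S15155
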