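import Groth.Statements.S15156
import Groth.Agent.Lib.CurveVB67M
import Groth.Agent.Lib.SmoothCurve67
import Groth.Agent.S0002
import Mathlib
-- import your own Groth.Agent.* helpers here

set_option autoImplicit false
open CategoryTheory CategoryTheory.Limits AlgebraicGeometry
open VBCurve

namespace Groth.Agent.S15156

open Groth.Agent.Lib.CurveVB67


/-- Let X be a smooth proper integral curve of genus at least 2 over the complex numbers with an
involution σ ≠ id over the complex numbers, and (E, φ) a σ-linearized finite locally free module of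
rank r ≥ 1: φ : σ^*E ≅ E with φ ∘ σ^*φ equal to the canonical identification σ^*σ^*E ≅ E. A
submodule F ⊂ E is σ-invariant when the composite σ^*F → σ^*E → E factors through F. Then (E, φ) is
semistable with respect to σ-invariant finite locally free submodules (deg F · r ≤ deg E · rk F for
each such F of positive rank) if and only if E is slope-semistable (the same inequality for every
finite locally free submodule of positive rank); degrees are χ − rank · χ(O). -/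
theorem result
    (X : Scheme.{0}) [X.Over (Spec (CommRingCat.of ℂ))] [IsIntegral X] [IsProper (X ↘ Spec (CommRingCat.of ℂ))] [Smooth (X ↘ Spec (CommRingCat.of ℂ))]
    (hdim : topologicalKrullDim X = 1) (hg : 2 ≤ Curv2.genus ℂ X)
    (σ : X ⟶ X) (hσS : σ ≫ (X ↘ Spec (CommRingCat.of ℂ)) = X ↘ Spec (CommRingCat.of ℂ)) (hσ : σ ≫ σ = 𝟙 X) (hσ1 : σ ≠ 𝟙 X)
    (r : ℕ) (hr : 0 < r) (E : X.Modules) (hE : FlatMod.IsFinLocFreeOfRank r E)
    (φ : (Scheme.Modules.pullback σ).obj E ≅ E)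
    (hφ : (Scheme.Modules.pullback σ).map φ.hom ≫ φ.hom =
      (Scheme.Modules.pullbackComp σ σ).hom.app E ≫ (Scheme.Modules.pullbackCongr hσ).hom.app E ≫
        (Scheme.Modules.pullbackId X).hom.app E) :
    (∀ (F : X.Modules) (r' : ℕ) (i : F ⟶ E), Mono i → 0 < r' → FlatMod.IsFinLocFreeOfRank r' F →
      (∃ j : (Scheme.Modules.pullback σ).obj F ⟶ F, j ≫ i = (Scheme.Modules.pullback σ).map i ≫ φ.hom) →
      Curv2.deg ℂ X F r' * (r : ℤ) ≤ Curv2.deg ℂ X E r * (r' : ℤ)) ↔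
    (∀ (F : X.Modules) (r' : ℕ) (i : F ⟶ E), Mono i → 0 < r' → FlatMod.IsFinLocFreeOfRank r' F →
      Curv2.deg ℂ X F r' * (r : ℤ) ≤ Curv2.deg ℂ X E r * (r' : ℤ)) := by
  have hpid := Groth.Agent.Lib.SmoothCurve67.isPrincipalIdealRing_stalk_of_smooth ℂ X (le_of_eq hdim)
  have H : Groth.Agent.Lib.ProperFinHyp.Hyp.{0} :=
    fun A _ _ X _ _ M hM n => Groth.Agent.S0002.result A X M hM n
  constructor
  · intro hinv F r' i hi hr' hF
    obtain ⟨E₁, r₁, i₁, hi₁, hr₁, hE₁, hmax, hmaxrk⟩ := exists_maxSlope_maxRank H ℂ X hdim.le hr hE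
    have hquot : ∀ (Q : X.Modules) (s : ℕ) (j : Q ⟶ cokernel i₁), Mono j → 0 < s →
        FlatMod.IsFinLocFreeOfRank s Q →
        Curv2.deg ℂ X Q s * (r₁ : ℤ) < Curv2.deg ℂ X E₁ r₁ * (s : ℤ) := by
      intro Q s j hj hs hQ
      exact quot_slope_lt H ℂ X hpid hr₁ hE hE₁ i₁ hmax hmaxrk Q s j hs hQ
    have hjinv := invariant_of_maxDestab H ℂ X hpid hdim σ hσ hσS hr₁ hE hE₁ φ i₁ hmax hquot
    have h1 := hinv E₁ r₁ i₁ hi₁ hr₁ hE₁ hjinv
    have h2 := hmax F r' i hi hr' hF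
    have hr₁0 : (0 : ℤ) < r₁ := by exact_mod_cast hr₁
    have hr'0 : (0 : ℤ) ≤ r' := Int.natCast_nonneg _
    have hr0 : (0 : ℤ) ≤ r := Int.natCast_nonneg _
    have g1 : Curv2.deg ℂ X F r' * (r₁ : ℤ) * (r : ℤ) ≤ Curv2.deg ℂ X E₁ r₁ * (r' : ℤ) * (r : ℤ) :=
      mul_le_mul_of_nonneg_right h2 hr0
    have g2 : Curv2.deg ℂ X E₁ r₁ * (r : ℤ) * (r' : ℤ) ≤ Curv2.deg ℂ X E r * (r₁ : ℤ) * (r' : ℤ) :=
      mul_le_mul_of_nonneg_right h1 hr'0
    have g3 : Curv2.deg ℂ X F r' * (r : ℤ) * (r₁ : ℤ) ≤ Curv2.deg ℂ X E r * (r' : ℤ) * (r₁ : ℤ) := by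
      have e1 : Curv2.deg ℂ X F r' * (r : ℤ) * (r₁ : ℤ) = Curv2.deg ℂ X F r' * (r₁ : ℤ) * (r : ℤ) := by ring
      have e2 : Curv2.deg ℂ X E₁ r₁ * (r' : ℤ) * (r : ℤ) = Curv2.deg ℂ X E₁ r₁ * (r : ℤ) * (r' : ℤ) := by ring
      have e3 : Curv2.deg ℂ X E r * (r₁ : ℤ) * (r' : ℤ) = Curv2.deg ℂ X E r * (r' : ℤ) * (r₁ : ℤ) := by ring
      lia
    exact le_of_mul_le_mul_right g3 hr₁0
  · intro hss F r' i hi hr' hF _
    exact hss F r' i hi hr' hF

end Groth.Agent.S15156
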