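import Groth.Statements.S15159
import Mathlib
-- import your own Groth.Agent.* helpers here

set_option autoImplicit false
open CAlg

namespace Groth.Agent.S15159

section general
variable {K : Type*} [Field K] {H : Type*} [AddCommGroup H] [Module K H]
  {W : Type*} [AddCommGroup W] [Module K W]

theorem mem_perp (q : H →ₗ[K] H →ₗ[K] W) (V : Submodule K H) (x : H) :
    x ∈ (⨅ (y : H) (_ : y ∈ V), LinearMap.ker (q.flip y) : Submodule K H) ↔
      ∀ y ∈ V, q x y = 0 := by
  simp [Submodule.mem_iInf]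

theorem finrank_biSup [FiniteDimensional K H] {ι : Type*} [DecidableEq ι]
    (Hs : ι → Submodule K H) (hind : iSupIndep Hs) (S : Finset ι) :
    Module.finrank K ↥(⨆ i ∈ S, Hs i) = ∑ i ∈ S, Module.finrank K (Hs i) := by
  induction S using Finset.induction_on with
  | empty => simp
  | insert k S hk ih =>
    rw [Finset.iSup_insert, Finset.sum_insert hk, ← ih]
    have hdisj : Hs k ⊓ (⨆ i ∈ S, Hs i) = ⊥ := by
      have := hind.disjoint_biSup (x := k) (y := (S : Set ι)) (by simpa using hk)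
      simpa using this.eq_bot
    have := Submodule.finrank_sup_add_finrank_inf_eq (Hs k) (⨆ i ∈ S, Hs i)
    rw [hdisj, finrank_bot, add_zero] at this
    exact this

/-- the counting function -/
def chi (c : ℤ) (a : ℕ) (m : ℤ) : ℤ :=
  (if m ≤ -(a : ℤ) then 1 else 0) - (if (a : ℤ) - c < m then 1 else 0)

theorem sum_chi_zero (B : ℕ) (m : ℤ) :
    ∑ a ∈ Finset.range (B + 1), chi 0 a m =
      (if m ≤ 0 then min (B : ℤ) (-m) + 1 else 0) - (if 0 < m then min ((B : ℤ) + 1) m else 0) := by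
  induction B with
  | zero =>
    simp only [zero_add, Finset.range_one, Finset.sum_singleton, chi]
    split_ifs <;> omega
  | succ B ih =>
    rw [Finset.sum_range_succ, ih]
    simp only [chi]
    push_cast
    split_ifs <;> omega

theorem sum_chi_one (B : ℕ) (m : ℤ) :
    ∑ a ∈ Finset.range B, chi 1 (a + 1) m =
      (if m < 0 then min (B : ℤ) (-m) else 0) - (if 0 < m then min (B : ℤ) m else 0) := by
  induction B with
  | zero =>
    simp only [Finset.range_zero, Finset.sum_empty]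
    split_ifs <;> omega
  | succ B ih =>
    rw [Finset.sum_range_succ, ih]
    simp only [chi]
    push_cast
    split_ifs <;> omega

section numeric
variable {ι : Type*} [Fintype ι]

theorem exists_neg_weight (d m : ι → ℤ) (hd : ∀ i, 0 ≤ d i) (hsum : ∑ i, m i * d i = 0)
    (hex : ∃ i, m i ≠ 0 ∧ 0 < d i) : ∃ i, m i < 0 ∧ 0 < d i := by
  by_contra hcon
  push Not at hcon
  obtain ⟨i₀, hm₀, hd₀⟩ := hex
  have hnn : ∀ i ∈ Finset.univ, 0 ≤ m i * d i := by
    intro i _
    rcases (hd i).lt_or_eq with h | h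
    · have := hcon i
      have : 0 ≤ m i := by
        by_contra h'
        exact absurd h (not_lt.mpr (this (not_le.mp h')))
      positivity
    · rw [← h, mul_zero]
  have h0 := (Finset.sum_eq_zero_iff_of_nonneg hnn).mp hsum i₀ (Finset.mem_univ _)
  rcases mul_eq_zero.mp h0 with h | h
  · exact hm₀ h
  · exact absurd h hd₀.ne'

theorem abs_le_bound (m : ι → ℤ) (i : ι) : |m i| ≤ ((∑ j, (m j).natAbs : ℕ) : ℤ) := by
  have : (m i).natAbs ≤ ∑ j, (m j).natAbs :=
    Finset.single_le_sum (f := fun j => (m j).natAbs) (fun _ _ => Nat.zero_le _) (Finset.mem_univ i)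
  have h2 : |m i| = ((m i).natAbs : ℤ) := (Int.natCast_natAbs _).symm
  rw [h2]
  exact_mod_cast this

theorem numB0 (d m : ι → ℤ) (hd : ∀ i, 0 ≤ d i) (hsum : ∑ i, m i * d i = 0)
    (hex : ∃ i, m i ≠ 0 ∧ 0 < d i) : ∃ a : ℕ, 0 < ∑ i, d i * chi 0 a (m i) := by
  classical
  set B := ∑ j, (m j).natAbs with hB
  have hbound : ∀ i, |m i| ≤ (B : ℤ) := abs_le_bound m
  have htot : ∑ a ∈ Finset.range (B + 1), ∑ i, d i * chi 0 a (m i) =
      ∑ i, d i * ((if m i ≤ 0 then 1 else 0) - m i) := by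
    rw [Finset.sum_comm]
    refine Finset.sum_congr rfl fun i _ => ?_
    rw [← Finset.mul_sum, sum_chi_zero]
    congr 1
    have := hbound i
    rw [abs_le] at this
    split_ifs <;> omega
  obtain ⟨i₁, hm₁, hd₁⟩ := exists_neg_weight d m hd hsum hex
  have hpos : 0 < ∑ i, d i * ((if m i ≤ 0 then 1 else 0) - m i) := by
    have h1 : ∑ i, d i * ((if m i ≤ 0 then (1 : ℤ) else 0) - m i) =
        ∑ i, d i * (if m i ≤ 0 then (1 : ℤ) else 0) - ∑ i, m i * d i := by
      rw [← Finset.sum_sub_distrib]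
      refine Finset.sum_congr rfl fun i _ => by ring
    rw [h1, hsum, sub_zero]
    refine Finset.sum_pos' (fun i _ => ?_) ⟨i₁, Finset.mem_univ _, ?_⟩
    · have := hd i
      split_ifs <;> simp [this]
    · rw [if_pos hm₁.le, mul_one]; exact hd₁
  rw [← htot] at hpos
  have : ∑ a ∈ Finset.range (B + 1), (0 : ℤ) < ∑ a ∈ Finset.range (B + 1), ∑ i, d i * chi 0 a (m i) := by
    simpa using hpos
  obtain ⟨a, _, ha⟩ := Finset.exists_lt_of_sum_lt this
  exact ⟨a, ha⟩

theorem numB1 (d m : ι → ℤ) (hd : ∀ i, 0 ≤ d i) (hsum : ∑ i, m i * d i = 0)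
    (hex : ∃ i, m i ≠ 0 ∧ 0 < d i) :
    ∃ a : ℕ, 1 ≤ a ∧ (∃ i, m i ≤ -(a : ℤ) ∧ 0 < d i) ∧ 0 ≤ ∑ i, d i * chi 1 a (m i) := by
  classical
  set B := ∑ j, (m j).natAbs with hB
  have hbound : ∀ i, |m i| ≤ (B : ℤ) := abs_le_bound m
  have htot : ∑ a ∈ Finset.range B, ∑ i, d i * chi 1 (a + 1) (m i) = 0 := by
    rw [Finset.sum_comm, ← neg_eq_zero, ← hsum, ← Finset.sum_neg_distrib]
    refine Finset.sum_congr rfl fun i _ => ?_
    rw [← Finset.mul_sum, sum_chi_one]
    have := hbound i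
    rw [abs_le] at this
    have h2 : ((if m i < 0 then min (B : ℤ) (-m i) else 0) - (if 0 < m i then min (B : ℤ) (m i) else 0))
        = - m i := by
      split_ifs <;> omega
    rw [h2]; ring
  obtain ⟨i₁, hm₁, hd₁⟩ := exists_neg_weight d m hd hsum hex
  have hB1 : 1 ≤ B := by
    have := hbound i₁
    rw [abs_le] at this
    omega
  set T := (Finset.range B).filter (fun a' : ℕ => ∃ i, m i ≤ -((a' + 1 : ℕ) : ℤ) ∧ 0 < d i) with hT
  have hTne : T.Nonempty := by
    refine ⟨0, ?_⟩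
    rw [hT, Finset.mem_filter, Finset.mem_range]
    refine ⟨by omega, i₁, ?_, hd₁⟩
    push_cast
    omega
  have hcompl : ∀ a' ∈ (Finset.range B).filter (fun a' : ℕ =>
      ¬ ∃ i, m i ≤ -((a' + 1 : ℕ) : ℤ) ∧ 0 < d i), ∑ i, d i * chi 1 (a' + 1) (m i) ≤ 0 := by
    intro a' ha'
    rw [Finset.mem_filter] at ha'
    have hno := ha'.2
    push Not at hno
    refine Finset.sum_nonpos fun i _ => ?_
    have hdi := hd i
    simp only [chi]
    by_cases h1 : m i ≤ -((a' + 1 : ℕ) : ℤ)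
    · have : d i = 0 := le_antisymm (hno i h1) hdi
      rw [this, zero_mul]
    · rw [if_neg h1]
      split_ifs
      · nlinarith
      · simp
  have hsplit := Finset.sum_filter_add_sum_filter_not (Finset.range B)
    (fun a' : ℕ => ∃ i, m i ≤ -((a' + 1 : ℕ) : ℤ) ∧ 0 < d i)
    (fun a' => ∑ i, d i * chi 1 (a' + 1) (m i))
  rw [htot] at hsplit
  have hTsum : 0 ≤ ∑ a' ∈ T, ∑ i, d i * chi 1 (a' + 1) (m i) := by
    have := Finset.sum_nonpos hcompl
    rw [hT]
    linarith
  have : ∑ a' ∈ T, (0 : ℤ) ≤ ∑ a' ∈ T, ∑ i, d i * chi 1 (a' + 1) (m i) := by simpa using hTsum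
  obtain ⟨a', ha'T, ha'⟩ := Finset.exists_le_of_sum_le hTne this
  rw [hT, Finset.mem_filter] at ha'T
  exact ⟨a' + 1, by omega, ha'T.2, ha'⟩

end numeric

end general

section lemmaB
variable {K : Type*} [Field K] {H : Type*} [AddCommGroup H] [Module K H] [FiniteDimensional K H]
  {W : Type*} [AddCommGroup W] [Module K W] (q : H →ₗ[K] H →ₗ[K] W)
  {ι : Type*} [Fintype ι] [DecidableEq ι] (Hs : ι → Submodule K H) (m : ι → ℤ)

/-- sum of the pieces of weight `≤ -a` -/
def Vm (a : ℕ) : Submodule K H := ⨆ i ∈ Finset.univ.filter (fun i => m i ≤ -(a : ℤ)), Hs i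

/-- sum of the pieces of weight `≤ a - c` -/
def Up (c : ℤ) (a : ℕ) : Submodule K H :=
  ⨆ i ∈ Finset.univ.filter (fun i => m i ≤ (a : ℤ) - c), Hs i

omit [FiniteDimensional K H] in
theorem q_Up_Vm (c : ℤ)
    (hq : ∀ i j, m i + m j ≤ -c → ∀ x ∈ Hs i, ∀ y ∈ Hs j, q x y = 0) (a : ℕ) :
    ∀ x ∈ Up Hs m c a, ∀ y ∈ Vm Hs m a, q x y = 0 := by
  have h1 : Up Hs m c a ≤ (⨅ (y : H) (_ : y ∈ Vm Hs m a), LinearMap.ker (q.flip y) : Submodule K H) := by
    refine iSup₂_le fun i hi => ?_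
    rw [Finset.mem_filter] at hi
    intro x hx
    rw [mem_perp]
    have h2 : Vm Hs m a ≤ LinearMap.ker (q x) := by
      refine iSup₂_le fun j hj => ?_
      rw [Finset.mem_filter] at hj
      intro y hy
      rw [LinearMap.mem_ker]
      exact hq i j (by have := hi.2; have := hj.2; omega) x hx y hy
    intro y hy
    exact LinearMap.mem_ker.mp (h2 hy)
  intro x hx y hy
  exact (mem_perp q _ x).mp (h1 hx) y hy

omit [FiniteDimensional K H] in
theorem Vm_le_Up (c : ℤ) (a : ℕ) (hca : c ≤ 2 * (a : ℤ)) : Vm Hs m a ≤ Up Hs m c a := by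
  refine iSup₂_le fun i hi => ?_
  rw [Finset.mem_filter] at hi
  refine le_iSup₂_of_le i ?_ le_rfl
  rw [Finset.mem_filter]
  exact ⟨Finset.mem_univ _, by have := hi.2; omega⟩

theorem lemmaB_core (c : ℤ) (hint : DirectSum.IsInternal Hs)
    (hq : ∀ i j, m i + m j ≤ -c → ∀ x ∈ Hs i, ∀ y ∈ Hs j, q x y = 0) (a : ℕ)
    (hca : c ≤ 2 * (a : ℤ)) :
    (∀ x ∈ Vm Hs m a, ∀ y ∈ Vm Hs m a, q x y = 0) ∧
    ∑ i, (Module.finrank K (Hs i) : ℤ) * chi c a (m i) ≤
      (Module.finrank K (Vm Hs m a) : ℤ) +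
        (Module.finrank K ↥(⨅ (y : H) (_ : y ∈ Vm Hs m a), LinearMap.ker (q.flip y) : Submodule K H) : ℤ)
        - (Module.finrank K H : ℤ) ∧
    (Module.finrank K (Vm Hs m a) : ℤ) =
      ∑ i, (Module.finrank K (Hs i) : ℤ) * (if m i ≤ -(a : ℤ) then 1 else 0) := by
  have hind := hint.submodule_iSupIndep
  have hV : (Module.finrank K (Vm Hs m a) : ℤ) =
      ∑ i, (Module.finrank K (Hs i) : ℤ) * (if m i ≤ -(a : ℤ) then 1 else 0) := by
    rw [Vm, finrank_biSup Hs hind, Finset.sum_filter]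
    push_cast
    refine Finset.sum_congr rfl fun i _ => ?_
    split_ifs <;> simp
  have hU : (Module.finrank K (Up Hs m c a) : ℤ) =
      ∑ i, (Module.finrank K (Hs i) : ℤ) * (if m i ≤ (a : ℤ) - c then 1 else 0) := by
    rw [Up, finrank_biSup Hs hind, Finset.sum_filter]
    push_cast
    refine Finset.sum_congr rfl fun i _ => ?_
    split_ifs <;> simp
  have hH : (Module.finrank K H : ℤ) = ∑ i, (Module.finrank K (Hs i) : ℤ) := by
    have h1 := finrank_biSup Hs hind Finset.univ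
    have h2 : (⨆ i ∈ (Finset.univ : Finset ι), Hs i) = ⊤ := by
      simpa using hint.submodule_iSup_eq_top
    rw [h2, finrank_top] at h1
    rw [h1]; push_cast; rfl
  have hUperp : Up Hs m c a ≤
      (⨅ (y : H) (_ : y ∈ Vm Hs m a), LinearMap.ker (q.flip y) : Submodule K H) := by
    intro x hx
    rw [mem_perp]
    exact q_Up_Vm q Hs m c hq a x hx
  have hle : (Module.finrank K (Up Hs m c a) : ℤ) ≤
      (Module.finrank K ↥(⨅ (y : H) (_ : y ∈ Vm Hs m a), LinearMap.ker (q.flip y) : Submodule K H) : ℤ) := by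
    exact_mod_cast Submodule.finrank_mono hUperp
  refine ⟨fun x hx y hy => q_Up_Vm q Hs m c hq a x (Vm_le_Up Hs m c a hca hx) y hy, ?_, hV⟩
  have hchi : ∑ i, (Module.finrank K (Hs i) : ℤ) * chi c a (m i) =
      (Module.finrank K (Vm Hs m a) : ℤ) + (Module.finrank K (Up Hs m c a) : ℤ) -
        (Module.finrank K H : ℤ) := by
    rw [hV, hU, hH, ← Finset.sum_add_distrib, ← Finset.sum_sub_distrib]
    refine Finset.sum_congr rfl fun i _ => ?_
    simp only [chi]
    split_ifs <;> first | ring1 | (exfalso; omega)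
  rw [hchi]
  linarith

theorem hex_convert (hex : ∃ i, m i ≠ 0 ∧ Hs i ≠ ⊥) :
    ∃ i, m i ≠ 0 ∧ 0 < (Module.finrank K (Hs i) : ℤ) := by
  obtain ⟨i, h1, h2⟩ := hex
  refine ⟨i, h1, ?_⟩
  have : Module.finrank K (Hs i) ≠ 0 := fun h => h2 (Submodule.finrank_eq_zero.mp h)
  exact_mod_cast Nat.pos_of_ne_zero this

theorem lemmaB1 (hint : DirectSum.IsInternal Hs)
    (hsum : ∑ i, m i * (Module.finrank K (Hs i) : ℤ) = 0) (hex : ∃ i, m i ≠ 0 ∧ Hs i ≠ ⊥)
    (hq : ∀ i j, m i + m j ≤ 0 → ∀ x ∈ Hs i, ∀ y ∈ Hs j, q x y = 0) :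
    ∃ V : Submodule K H, V ≠ ⊥ ∧ (∀ x ∈ V, ∀ y ∈ V, q x y = 0) ∧
      Module.finrank K H < Module.finrank K V +
        Module.finrank K ↥(⨅ (y : H) (_ : y ∈ V), LinearMap.ker (q.flip y) : Submodule K H) := by
  obtain ⟨a, ha⟩ := numB0 (fun i => (Module.finrank K (Hs i) : ℤ)) m (fun i => by positivity) hsum
    (hex_convert Hs m hex)
  obtain ⟨h1, h2, h3⟩ := lemmaB_core q Hs m 0 hint (by simpa using hq) a (by positivity)
  refine ⟨Vm Hs m a, ?_, h1, ?_⟩
  · intro hbot
    have h4 : (Module.finrank K (Vm Hs m a) : ℤ) = 0 := by rw [hbot]; simp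
    have h5 : ∑ i, (Module.finrank K (Hs i) : ℤ) * chi 0 a (m i) ≤
        ∑ i, (Module.finrank K (Hs i) : ℤ) * (if m i ≤ -(a : ℤ) then 1 else 0) := by
      refine Finset.sum_le_sum fun i _ => ?_
      have : (0 : ℤ) ≤ (Module.finrank K (Hs i) : ℤ) := by positivity
      refine mul_le_mul_of_nonneg_left ?_ this
      simp only [chi]
      split_ifs <;> omega
    rw [← h3, h4] at h5
    linarith
  · have : (Module.finrank K H : ℤ) < (Module.finrank K (Vm Hs m a) : ℤ) +
        (Module.finrank K ↥(⨅ (y : H) (_ : y ∈ Vm Hs m a), LinearMap.ker (q.flip y) :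
          Submodule K H) : ℤ) := by linarith
    exact_mod_cast this

theorem lemmaB2 (hint : DirectSum.IsInternal Hs)
    (hsum : ∑ i, m i * (Module.finrank K (Hs i) : ℤ) = 0) (hex : ∃ i, m i ≠ 0 ∧ Hs i ≠ ⊥)
    (hq : ∀ i j, m i + m j < 0 → ∀ x ∈ Hs i, ∀ y ∈ Hs j, q x y = 0) :
    ∃ V : Submodule K H, V ≠ ⊥ ∧ (∀ x ∈ V, ∀ y ∈ V, q x y = 0) ∧
      Module.finrank K H ≤ Module.finrank K V +
        Module.finrank K ↥(⨅ (y : H) (_ : y ∈ V), LinearMap.ker (q.flip y) : Submodule K H) := by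
  obtain ⟨a, ha1, ⟨i₀, hi₀, hdi₀⟩, ha⟩ := numB1 (fun i => (Module.finrank K (Hs i) : ℤ)) m
    (fun i => by positivity) hsum (hex_convert Hs m hex)
  obtain ⟨h1, h2, h3⟩ := lemmaB_core q Hs m 1 hint
    (fun i j hij => hq i j (by omega)) a (by omega)
  refine ⟨Vm Hs m a, ?_, h1, ?_⟩
  · intro hbot
    have hle : Hs i₀ ≤ Vm Hs m a := by
      refine le_iSup₂_of_le i₀ ?_ le_rfl
      rw [Finset.mem_filter]
      exact ⟨Finset.mem_univ _, hi₀⟩
    rw [hbot, le_bot_iff] at hle
    rw [hle] at hdi₀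
    simp at hdi₀
  · have : (Module.finrank K H : ℤ) ≤ (Module.finrank K (Vm Hs m a) : ℤ) +
        (Module.finrank K ↥(⨅ (y : H) (_ : y ∈ Vm Hs m a), LinearMap.ker (q.flip y) :
          Submodule K H) : ℤ) := by linarith
    exact_mod_cast this

end lemmaB

section lemmaA
variable {K : Type*} [Field K] {H : Type*} [AddCommGroup H] [Module K H] [FiniteDimensional K H]
  {W : Type*} [AddCommGroup W] [Module K W] (q : H →ₗ[K] H →ₗ[K] W)

theorem isInternal_of_finrank {ι : Type*} [Fintype ι] [DecidableEq ι] (A : ι → Submodule K H)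
    (hsup : ⨆ i, A i = ⊤) (hdim : ∑ i, Module.finrank K (A i) = Module.finrank K H) :
    DirectSum.IsInternal A := by
  have hsurj : Function.Surjective (DirectSum.coeLinearMap A) := by
    rw [← LinearMap.range_eq_top, ← hsup, Submodule.iSup_eq_range_dfinsupp_lsum]
    rfl
  have hfin : Module.finrank K (DirectSum ι fun i => ↥(A i)) = Module.finrank K H := by
    rw [Module.finrank_directSum, hdim]
  have hinj := (LinearMap.injective_iff_surjective_of_finrank_eq_finrank hfin).mpr hsurj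
  exact ⟨hinj, hsurj⟩

theorem lemmaA_setup (V : Submodule K H) (hiso : ∀ x ∈ V, ∀ y ∈ V, q x y = 0) :
    ∃ U T : Submodule K H,
      DirectSum.IsInternal (![V, U, T] : Fin 3 → Submodule K H) ∧
      Module.finrank K V + Module.finrank K U =
        Module.finrank K ↥(⨅ (y : H) (_ : y ∈ V), LinearMap.ker (q.flip y) : Submodule K H) ∧
      Module.finrank K ↥(⨅ (y : H) (_ : y ∈ V), LinearMap.ker (q.flip y) : Submodule K H) +
        Module.finrank K T = Module.finrank K H ∧
      (∀ x ∈ U, ∀ y ∈ V, q x y = 0) := by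
  set P : Submodule K H := ⨅ (y : H) (_ : y ∈ V), LinearMap.ker (q.flip y) with hP
  have hVP : V ≤ P := fun x hx => (mem_perp q V x).mpr (hiso x hx)
  obtain ⟨U', hU'⟩ := Submodule.exists_isCompl V
  obtain ⟨T, hT⟩ := Submodule.exists_isCompl P
  set U := U' ⊓ P with hU
  have h1 : V ⊓ U = ⊥ := by
    rw [hU, ← inf_assoc, hU'.inf_eq_bot, bot_inf_eq]
  have h2 : V ⊔ U = P := by
    rw [hU, ← sup_inf_assoc_of_le U' hVP, hU'.sup_eq_top, top_inf_eq]
  have hd1 : Module.finrank K V + Module.finrank K U = Module.finrank K P := by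
    have := Submodule.finrank_sup_add_finrank_inf_eq V U
    rw [h1, h2, finrank_bot, add_zero] at this
    exact this.symm
  have hd2 : Module.finrank K P + Module.finrank K T = Module.finrank K H :=
    Submodule.finrank_add_eq_of_isCompl hT
  refine ⟨U, T, ?_, hd1, hd2, ?_⟩
  · apply isInternal_of_finrank
    · apply le_antisymm le_top
      rw [← hT.sup_eq_top, ← h2]
      refine sup_le (sup_le ?_ ?_) ?_
      · exact le_iSup (![V, U, T] : Fin 3 → Submodule K H) 0
      · exact le_iSup (![V, U, T] : Fin 3 → Submodule K H) 1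
      · exact le_iSup (![V, U, T] : Fin 3 → Submodule K H) 2
    · rw [Fin.sum_univ_three]
      change Module.finrank K V + Module.finrank K U + Module.finrank K T = _
      omega
  · intro x hx y hy
    exact (mem_perp q V x).mp hx.2 y hy

theorem q_zero_of_top (V : Submodule K H) (hiso : ∀ x ∈ V, ∀ y ∈ V, q x y = 0)
    (hV : Module.finrank K V = Module.finrank K H) : q = 0 := by
  have : V = ⊤ := Submodule.eq_top_of_finrank_eq hV
  subst this
  ext x y
  exact hiso x trivial y trivial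

theorem lemmaA1 (hsym : ∀ x y, q x y = 0 → q y x = 0) (hq0 : q ≠ 0) (V : Submodule K H)
    (hV : V ≠ ⊥) (hiso : ∀ x ∈ V, ∀ y ∈ V, q x y = 0)
    (hlt : Module.finrank K H < Module.finrank K V +
      Module.finrank K ↥(⨅ (y : H) (_ : y ∈ V), LinearMap.ker (q.flip y) : Submodule K H)) :
    ∃ (Hs : Fin 3 → Submodule K H) (m : Fin 3 → ℤ), DirectSum.IsInternal Hs ∧
      ∑ i, m i * (Module.finrank K (Hs i) : ℤ) = 0 ∧ (∃ i, m i ≠ 0 ∧ Hs i ≠ ⊥) ∧
      ∀ i j, (∃ x ∈ Hs i, ∃ y ∈ Hs j, q x y ≠ 0) → 0 < m i + m j := by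
  obtain ⟨U, T, hint, hd1, hd2, hUV⟩ := lemmaA_setup q V hiso
  set v := Module.finrank K V with hv
  set u := Module.finrank K U with hu
  set t := Module.finrank K T with ht
  have hvt : t < v := by omega
  have hut : ¬ (u = 0 ∧ t = 0) := by
    rintro ⟨h1, h2⟩
    exact hq0 (q_zero_of_top q V hiso (by omega))
  have hVU : ∀ x ∈ V, ∀ y ∈ U, q x y = 0 := fun x hx y hy => hsym y x (hUV y hy x hx)
  refine ⟨![V, U, T], ![-((u : ℤ) + (u + 1) * t), (v : ℤ), (v : ℤ) * (u + 1)], hint, ?_, ?_, ?_⟩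
  · rw [Fin.sum_univ_three]
    change -((u : ℤ) + (u + 1) * t) * (v : ℤ) + (v : ℤ) * (u : ℤ) + (v : ℤ) * (u + 1) * (t : ℤ) = 0
    ring
  · refine ⟨0, ?_, hV⟩
    change -((u : ℤ) + (u + 1) * t) ≠ 0
    have : 0 < (u : ℤ) + (u + 1) * t := by
      rcases Nat.eq_zero_or_pos u with h | h
      · have ht0 : 0 < t := by omega
        have : (0 : ℤ) < t := by exact_mod_cast ht0
        nlinarith
      · have : (0 : ℤ) < u := by exact_mod_cast h
        have : (0 : ℤ) ≤ t := by positivity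
        nlinarith
    omega
  · have hv0 : (0 : ℤ) < v := by
      have : 0 < v := by omega
      exact_mod_cast this
    have hu0 : (0 : ℤ) ≤ u := by positivity
    have ht0 : (0 : ℤ) ≤ t := by positivity
    have hvt' : (t : ℤ) + 1 ≤ v := by exact_mod_cast hvt
    intro i j ⟨x, hx, y, hy, hxy⟩
    fin_cases i <;> fin_cases j
    · exact absurd (hiso x hx y hy) hxy
    · exact absurd (hVU x hx y hy) hxy
    · change 0 < -((u : ℤ) + (u + 1) * t) + (v : ℤ) * (u + 1)
      nlinarith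
    · exact absurd (hUV x hx y hy) hxy
    · change 0 < (v : ℤ) + v
      omega
    · change 0 < (v : ℤ) + (v : ℤ) * (u + 1)
      nlinarith
    · change 0 < (v : ℤ) * (u + 1) + -((u : ℤ) + (u + 1) * t)
      nlinarith
    · change 0 < (v : ℤ) * (u + 1) + (v : ℤ)
      nlinarith
    · change 0 < (v : ℤ) * (u + 1) + (v : ℤ) * (u + 1)
      nlinarith

theorem lemmaA2 (hsym : ∀ x y, q x y = 0 → q y x = 0) (hq0 : q ≠ 0) (V : Submodule K H)
    (hV : V ≠ ⊥) (hiso : ∀ x ∈ V, ∀ y ∈ V, q x y = 0)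
    (hle : Module.finrank K H ≤ Module.finrank K V +
      Module.finrank K ↥(⨅ (y : H) (_ : y ∈ V), LinearMap.ker (q.flip y) : Submodule K H)) :
    ∃ (Hs : Fin 3 → Submodule K H) (m : Fin 3 → ℤ), DirectSum.IsInternal Hs ∧
      ∑ i, m i * (Module.finrank K (Hs i) : ℤ) = 0 ∧ (∃ i, m i ≠ 0 ∧ Hs i ≠ ⊥) ∧
      ∀ i j, (∃ x ∈ Hs i, ∃ y ∈ Hs j, q x y ≠ 0) → 0 ≤ m i + m j := by
  obtain ⟨U, T, hint, hd1, hd2, hUV⟩ := lemmaA_setup q V hiso
  set v := Module.finrank K V with hv
  set u := Module.finrank K U with hu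
  set t := Module.finrank K T with ht
  have hvt : t ≤ v := by omega
  have hut : ¬ (u = 0 ∧ t = 0) := by
    rintro ⟨h1, h2⟩
    exact hq0 (q_zero_of_top q V hiso (by omega))
  have hVU : ∀ x ∈ V, ∀ y ∈ U, q x y = 0 := fun x hx y hy => hsym y x (hUV y hy x hx)
  have hv0 : (0 : ℤ) ≤ v := by positivity
  have hu0 : (0 : ℤ) ≤ u := by positivity
  have ht0 : (0 : ℤ) ≤ t := by positivity
  have hvt' : (t : ℤ) ≤ v := by exact_mod_cast hvt
  by_cases htz : t = 0
  · -- `T = ⊥`
    have hT : T = ⊥ := Submodule.finrank_eq_zero.mp (ht ▸ htz)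
    have hupos : 0 < u := by omega
    refine ⟨![V, U, T], ![-(u : ℤ), (v : ℤ), 0], hint, ?_, ?_, ?_⟩
    · rw [Fin.sum_univ_three]
      change -(u : ℤ) * (v : ℤ) + (v : ℤ) * (u : ℤ) + 0 * (t : ℤ) = 0
      ring
    · refine ⟨0, ?_, hV⟩
      change -(u : ℤ) ≠ 0
      have : (0 : ℤ) < u := by exact_mod_cast hupos
      omega
    · intro i j ⟨x, hx, y, hy, hxy⟩
      fin_cases i <;> fin_cases j
      · exact absurd (hiso x hx y hy) hxy
      · exact absurd (hVU x hx y hy) hxy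
      · exfalso
        change y ∈ T at hy
        rw [hT, Submodule.mem_bot] at hy
        exact hxy (by rw [hy, map_zero])
      · exact absurd (hUV x hx y hy) hxy
      · change 0 ≤ (v : ℤ) + v
        omega
      · exfalso
        change y ∈ T at hy
        rw [hT, Submodule.mem_bot] at hy
        exact hxy (by rw [hy, map_zero])
      · exfalso
        change x ∈ T at hx
        rw [hT, Submodule.mem_bot] at hx
        exact hxy (by rw [hx, map_zero, LinearMap.zero_apply])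
      · exfalso
        change x ∈ T at hx
        rw [hT, Submodule.mem_bot] at hx
        exact hxy (by rw [hx, map_zero, LinearMap.zero_apply])
      · exfalso
        change x ∈ T at hx
        rw [hT, Submodule.mem_bot] at hx
        exact hxy (by rw [hx, map_zero, LinearMap.zero_apply])
  · have htpos : (0 : ℤ) < t := by
      have : 0 < t := Nat.pos_of_ne_zero htz
      exact_mod_cast this
    refine ⟨![V, U, T], ![-(t : ℤ), 0, (v : ℤ)], hint, ?_, ?_, ?_⟩
    · rw [Fin.sum_univ_three]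
      change -(t : ℤ) * (v : ℤ) + 0 * (u : ℤ) + (v : ℤ) * (t : ℤ) = 0
      ring
    · refine ⟨0, ?_, hV⟩
      change -(t : ℤ) ≠ 0
      omega
    · intro i j ⟨x, hx, y, hy, hxy⟩
      fin_cases i <;> fin_cases j
      · exact absurd (hiso x hx y hy) hxy
      · exact absurd (hVU x hx y hy) hxy
      · change 0 ≤ -(t : ℤ) + (v : ℤ)
        omega
      · exact absurd (hUV x hx y hy) hxy
      · change (0 : ℤ) ≤ 0 + 0
        omega
      · change (0 : ℤ) ≤ 0 + (v : ℤ)
        omega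
      · change 0 ≤ (v : ℤ) + -(t : ℤ)
        omega
      · change (0 : ℤ) ≤ (v : ℤ) + 0
        omega
      · change 0 ≤ (v : ℤ) + (v : ℤ)
        omega

end lemmaA


/-- Let W be a finite-dimensional complex vector space with an involution s, H a finite-dimensional
complex vector space and q : H → H → W a nonzero bilinear map with q(x)(y) = s(q(y)(x)). Write V^⊥ =
{x | q(x)(y) = 0 for all y ∈ V} and call V totally isotropic when q vanishes on V × V. The pair (H,
q) is semistable (dim V + dim V^⊥ ≤ dim H for every nonzero totally isotropic subspace V),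
respectively stable (strict inequality), if and only if the line of q is semistable, respectively
stable, for the action of SL(H), the latter being expressed through one-parameter subgroups: for
every decomposition H = ⊕_i H_i into subspaces with integer weights m_i such that Σ_i m_i dim H_i =
0 and some nonzero H_i has nonzero weight, there are indices i, j with q(H_i, H_j) ≠ 0 and m_i + m_j
≤ 0, respectively m_i + m_j < 0. (The published statement speaks of semistability and stability of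
the point of the projective space of such forms under SL(H); this row states the numerical condition
on one-parameter subgroups to which that is equivalent and which the published argument verifies.) -/
theorem result
    (W : Type) [AddCommGroup W] [Module ℂ W] [FiniteDimensional ℂ W]
    (s : W →ₗ[ℂ] W) (hs : s ∘ₗ s = LinearMap.id)
    (H : Type) [AddCommGroup H] [Module ℂ H] [FiniteDimensional ℂ H]
    (q : H →ₗ[ℂ] H →ₗ[ℂ] W) (hq : ∀ x y : H, q x y = s (q y x)) (hq0 : q ≠ 0) :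
    ((∀ V : Submodule ℂ H, V ≠ ⊥ → (∀ x ∈ V, ∀ y ∈ V, q x y = 0) →
        Module.finrank ℂ V + Module.finrank ℂ ↥(⨅ (y : H) (_ : y ∈ V), LinearMap.ker (q.flip y) : Submodule ℂ H) ≤ Module.finrank ℂ H) ↔
      (∀ (ι : Type) [Fintype ι] [DecidableEq ι] (Hs : ι → Submodule ℂ H) (m : ι → ℤ),
        DirectSum.IsInternal Hs → (∑ i, m i * (Module.finrank ℂ (Hs i) : ℤ)) = 0 →
        (∃ i, m i ≠ 0 ∧ Hs i ≠ ⊥) →
        ∃ i j, (∃ x ∈ Hs i, ∃ y ∈ Hs j, q x y ≠ 0) ∧ m i + m j ≤ 0)) ∧
    ((∀ V : Submodule ℂ H, V ≠ ⊥ → (∀ x ∈ V, ∀ y ∈ V, q x y = 0) →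
        Module.finrank ℂ V + Module.finrank ℂ ↥(⨅ (y : H) (_ : y ∈ V), LinearMap.ker (q.flip y) : Submodule ℂ H) < Module.finrank ℂ H) ↔
      (∀ (ι : Type) [Fintype ι] [DecidableEq ι] (Hs : ι → Submodule ℂ H) (m : ι → ℤ),
        DirectSum.IsInternal Hs → (∑ i, m i * (Module.finrank ℂ (Hs i) : ℤ)) = 0 →
        (∃ i, m i ≠ 0 ∧ Hs i ≠ ⊥) →
        ∃ i j, (∃ x ∈ Hs i, ∃ y ∈ Hs j, q x y ≠ 0) ∧ m i + m j < 0)) := by
  have hsym : ∀ x y, q x y = 0 → q y x = 0 := fun x y h => by rw [hq y x, h, map_zero]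
  refine ⟨⟨?_, ?_⟩, ⟨?_, ?_⟩⟩
  · intro hSS ι _ _ Hs m hint hsum hex
    by_contra hcon
    have hq' : ∀ i j, m i + m j ≤ 0 → ∀ x ∈ Hs i, ∀ y ∈ Hs j, q x y = 0 := by
      intro i j hij x hx y hy
      by_contra h
      exact hcon ⟨i, j, ⟨x, hx, y, hy, h⟩, hij⟩
    obtain ⟨V, hV, hiso, hlt⟩ := lemmaB1 q Hs m hint hsum hex hq'
    have := hSS V hV hiso
    omega
  · intro hNS V hV hiso
    by_contra hcon
    obtain ⟨Hs, m, hint, hsum, hex, hpairs⟩ := lemmaA1 q hsym hq0 V hV hiso (not_le.mp hcon)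
    obtain ⟨i, j, hne, hle⟩ := hNS (Fin 3) Hs m hint hsum hex
    have := hpairs i j hne
    omega
  · intro hSS ι _ _ Hs m hint hsum hex
    by_contra hcon
    have hq' : ∀ i j, m i + m j < 0 → ∀ x ∈ Hs i, ∀ y ∈ Hs j, q x y = 0 := by
      intro i j hij x hx y hy
      by_contra h
      exact hcon ⟨i, j, ⟨x, hx, y, hy, h⟩, hij⟩
    obtain ⟨V, hV, hiso, hlt⟩ := lemmaB2 q Hs m hint hsum hex hq'
    have := hSS V hV hiso
    omega
  · intro hNS V hV hiso
    by_contra hcon
    obtain ⟨Hs, m, hint, hsum, hex, hpairs⟩ := lemmaA2 q hsym hq0 V hV hiso (not_lt.mp hcon)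
    obtain ⟨i, j, hne, hle⟩ := hNS (Fin 3) Hs m hint hsum hex
    have := hpairs i j hne
    omega

end Groth.Agent.S15159
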