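import Groth.Statements.S15166
import Mathlib
import Groth.Agent.Lib.AnisoIsometry
import Groth.Agent.Lib.CommInvol

set_option autoImplicit false
universe u v
open Polynomial
open BddFin

namespace Groth.Agent.S15166

/-- Let K be a field of characteristic different from 2 such that K contains all roots of unity (for
every n ≥ 1 the polynomial X^n − 1 splits into linear factors over K), V a finite-dimensional
K-vector space and q a quadratic form on V that does not represent zero. Then every finite subgroup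
of the group of K-linear automorphisms of V preserving q is abelian and has order at most 2 ^ (dim
V). (The published statement also covers perfect fields of characteristic 2; this row is the case of
characteristic ≠ 2.) -/
theorem result
    (K : Type u) [Field K] (hK : ∀ n : ℕ, 0 < n → (X ^ n - 1 : K[X]).Splits) (h2 : (2 : K) ≠ 0)
    (V : Type v) [AddCommGroup V] [Module K V] [FiniteDimensional K V]
    (q : QuadraticForm K V) (hq : q.Anisotropic)
    (G : Subgroup (V ≃ₗ[K] V)) [Finite G] (hG : ∀ g ∈ G, ∀ x : V, q (g x) = q x) :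
    (∀ g ∈ G, ∀ h ∈ G, g * h = h * g) ∧ Nat.card G ≤ 2 ^ Module.finrank K V := by
  classical
  have hsq : ∀ g ∈ G, g ^ 2 = 1 := by
    intro g hg
    have hcard : 0 < Nat.card G := Nat.card_pos
    have hpow : g ^ Nat.card G = 1 := by
      have e1 : (⟨g, hg⟩ : G) ^ Nat.card G = 1 := pow_card_eq_one'
      have e2 : (((⟨g, hg⟩ : G) ^ Nat.card G : G) : V ≃ₗ[K] V) = ((1 : G) : V ≃ₗ[K] V) :=
        congrArg Subtype.val e1
      rw [Subgroup.coe_pow, Subgroup.coe_one] at e2
      exact e2
    exact Groth.Agent.Lib.AnisoIsometry.sq_eq_one_of_pow_eq_one hK h2 q hq (Nat.card G) hcard g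
      (hG g hg) hpow
  have hinv : ∀ g ∈ G, g⁻¹ = g := by
    intro g hg
    have := hsq g hg
    rw [pow_two] at this
    exact inv_eq_of_mul_eq_one_left this
  have hcomm : ∀ g ∈ G, ∀ h ∈ G, g * h = h * g := by
    intro g hg h hh
    have h1 := hinv (g * h) (G.mul_mem hg hh)
    rw [mul_inv_rev, hinv g hg, hinv h hh] at h1
    exact h1.symm
  refine ⟨hcomm, ?_⟩
  haveI : Fintype G := Fintype.ofFinite G
  let f : G → Module.End K V := fun g => ((g : V ≃ₗ[K] V) : V →ₗ[K] V)
  have hf : Function.Injective f := by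
    intro a b hab
    apply Subtype.ext
    exact LinearEquiv.toLinearMap_injective hab
  have hmul : ∀ a b : V ≃ₗ[K] V, ((a * b : V ≃ₗ[K] V) : V →ₗ[K] V)
      = (a : V →ₗ[K] V) * (b : V →ₗ[K] V) := fun a b => rfl
  have hcard := Groth.Agent.Lib.CommInvol.card_le_two_pow K h2 (Module.finrank K V) V rfl
    (Finset.univ.image f)
    (by
      intro s hs
      obtain ⟨g, -, rfl⟩ := Finset.mem_image.mp hs
      show ((g : V ≃ₗ[K] V) : V →ₗ[K] V) * ((g : V ≃ₗ[K] V) : V →ₗ[K] V) = 1
      rw [← hmul, ← pow_two, hsq g g.2]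
      rfl)
    (by
      intro s hs t ht
      obtain ⟨g, -, rfl⟩ := Finset.mem_image.mp hs
      obtain ⟨h, -, rfl⟩ := Finset.mem_image.mp ht
      show ((g : V ≃ₗ[K] V) : V →ₗ[K] V) * ((h : V ≃ₗ[K] V) : V →ₗ[K] V)
        = ((h : V ≃ₗ[K] V) : V →ₗ[K] V) * ((g : V ≃ₗ[K] V) : V →ₗ[K] V)
      rw [← hmul, ← hmul, hcomm g g.2 h h.2])
  rw [Finset.card_image_of_injective _ hf, Finset.card_univ] at hcard
  rw [Nat.card_eq_fintype_card]
  exact hcard

end Groth.Agent.S15166
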