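import Groth.Statements.S1517
import Mathlib.RingTheory.Ideal.Span
import Mathlib.RingTheory.TwoSidedIdeal.Operations
-- import your own Groth.Agent.* helpers here

set_option autoImplicit false
universe u
open Brauer

namespace Groth.Agent.S1517

open MulOpposite

variable {A : Type u} [Ring A]

/-- Left multiplication by an element of the right ideal `M`, as a right-linear endomorphism. -/
def leftMul (M : Submodule Aᵐᵒᵖ A) (m : M) : Module.End Aᵐᵒᵖ M where
  toFun y := ⟨(m : A) * (y : A), by
    have := M.smul_mem (op (y : A)) m.2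
    simpa [MulOpposite.smul_eq_mul_unop] using this⟩
  map_add' x y := by
    ext
    simp [mul_add]
  map_smul' c y := by
    ext
    simp [MulOpposite.smul_eq_mul_unop, mul_assoc]

theorem leftMul_coe (M : Submodule Aᵐᵒᵖ A) (m y : M) :
    ((leftMul M m y : M) : A) = (m : A) * (y : A) := rfl

theorem span_eq_top [IsSimpleRing A] (M : Submodule Aᵐᵒᵖ A) (hM : M ≠ ⊥) :
    (1 : A) ∈ Ideal.span (M : Set A) := by
  have hts : (Ideal.span (M : Set A)).IsTwoSided := by
    refine ⟨fun {a} b ha => ?_⟩
    induction ha using Submodule.span_induction with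
    | mem x hx =>
      apply Ideal.subset_span
      have := M.smul_mem (op b) hx
      simpa [MulOpposite.smul_eq_mul_unop] using this
    | zero => simp
    | add x y _ _ hx hy =>
      rw [add_mul]
      exact Ideal.add_mem _ hx hy
    | smul c x _ hx =>
      rw [smul_eq_mul, mul_assoc]
      exact Ideal.mul_mem_left _ c hx
  obtain ⟨x, hxM, hx0⟩ := (Submodule.ne_bot_iff M).1 hM
  have h1 : (1 : A) ∈ (Ideal.span (M : Set A)).toTwoSided :=
    IsSimpleRing.one_mem_of_ne_zero_mem _ hx0
      ((Ideal.mem_toTwoSided).2 (Ideal.subset_span hxM))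
  exact (Ideal.mem_toTwoSided).1 h1

/-- Let A be a ring with no nontrivial two-sided ideals and M a nonzero right ideal, viewed as a right
A-module with endomorphism ring A'. Then every A'-linear endomorphism of M is right multiplication
by exactly one element of A; that is, the natural map from A to the bicommutant of M is a bijection. -/
theorem result (A : Type u) [Ring A] [IsSimpleRing A]
    (M : Submodule Aᵐᵒᵖ A) (hM : M ≠ ⊥)
    (g : Module.End (Module.End Aᵐᵒᵖ M) M) :
    ∃! a : A, ∀ m : M, (g m : A) = (m : A) * a := by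
  have h1 := span_eq_top M hM
  have key : ∀ x ∈ Ideal.span (M : Set A),
      ∃ a : A, ∀ m : M, (m : A) * a = (g (op x • m) : A) := by
    intro x hx
    induction hx using Submodule.span_induction with
    | mem x hx =>
      refine ⟨(g ⟨x, hx⟩ : A), fun m => ?_⟩
      have h2 : op x • m = leftMul M m ⟨x, hx⟩ := by
        ext
        simp [leftMul_coe, MulOpposite.smul_eq_mul_unop]
      have h3 : g (leftMul M m • (⟨x, hx⟩ : M)) = leftMul M m • g ⟨x, hx⟩ := g.map_smul _ _
      rw [h2]
      change _ = ((g (leftMul M m • (⟨x, hx⟩ : M)) : M) : A)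
      rw [h3]
      rfl
    | zero =>
      refine ⟨0, fun m => ?_⟩
      simp
    | add x y _ _ hx hy =>
      obtain ⟨a, ha⟩ := hx
      obtain ⟨b, hb⟩ := hy
      refine ⟨a + b, fun m => ?_⟩
      rw [mul_add, ha, hb, op_add, add_smul, map_add]
      rfl
    | smul c x _ hx =>
      obtain ⟨a, ha⟩ := hx
      refine ⟨c * a, fun m => ?_⟩
      have := ha (op c • m)
      rw [smul_eq_mul, op_mul, mul_smul, ← this, ← mul_assoc]
      simp [MulOpposite.smul_eq_mul_unop]
  obtain ⟨a, ha⟩ := key 1 h1
  refine ⟨a, fun m => ?_, fun b hb => ?_⟩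
  · rw [ha m]
    simp
  · have hab : ∀ x ∈ Ideal.span (M : Set A), x * (b - a) = 0 := by
      intro x hx
      induction hx using Submodule.span_induction with
      | mem x hx =>
        have e1 := hb ⟨x, hx⟩
        have e2 := ha ⟨x, hx⟩
        simp only [op_one, one_smul] at e2
        rw [mul_sub, ← e1, e2, sub_self]
      | zero => simp
      | add x y _ _ hx hy => rw [add_mul, hx, hy, add_zero]
      | smul c x _ hx => rw [smul_eq_mul, mul_assoc, hx, mul_zero]
    have := hab 1 h1
    rw [one_mul, sub_eq_zero] at this
    exact this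

end Groth.Agent.S1517
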