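import Groth.Statements.S15173
import Mathlib

set_option autoImplicit false
universe u v
open Polynomial
open BddFin

namespace Groth.Agent.S15173

/-- Let K be a field of characteristic p > 0 such that K contains all roots of unity (for every n ≥ 1
the polynomial X^n − 1 splits into linear factors over K), and A a finite-dimensional central
division algebra over K. If A contains an element w not in K with w ^ p in K, then the quotient of
the unit group of A by that of K has unbounded finite subgroups: for every N there is a subgroup H
of the units of A containing the units of K as a subgroup of finite index greater than N. (The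
published statement assumes only that some element of A is inseparable over K and passes at once to
a purely inseparable subfield of degree p; this row assumes an element generating such a subfield
directly, which is what the rest of the printed argument uses.) -/
theorem result
    (K : Type u) [Field K] (p : ℕ) [Fact p.Prime] [CharP K p] (hK : ∀ n : ℕ, 0 < n → (X ^ n - 1 : K[X]).Splits)
    (A : Type v) [DivisionRing A] [Algebra K A] [Algebra.IsCentral K A] [FiniteDimensional K A]
    (w : A) (hw : w ^ p ∈ (algebraMap K A).range) (hwK : w ∉ (algebraMap K A).range) (N : ℕ) :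
    ∃ H : Subgroup Aˣ, (Units.map (algebraMap K A : K →* A)).range ≤ H ∧
      N < ((Units.map (algebraMap K A : K →* A)).range).relIndex H := by
  classical
  have hp : p.Prime := Fact.out
  haveI : CharP A p := charP_of_injective_algebraMap (algebraMap K A).injective p
  obtain ⟨a, ha⟩ := hw
  -- `K` is infinite
  haveI hKinf : Infinite K := by
    by_contra hfin
    rw [not_infinite_iff_finite] at hfin
    obtain ⟨b, hb⟩ := surjective_frobenius K p a
    rw [frobenius_def] at hb
    apply hwK
    refine ⟨b, ?_⟩
    have h1 : (w - algebraMap K A b) ^ p = 0 := by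
      rw [sub_pow_char_of_commute p (Algebra.commutes b w).symm, ← map_pow, hb, ha, sub_self]
    have h2 := pow_eq_zero_iff hp.ne_zero |>.mp h1
    exact (sub_eq_zero.mp h2).symm
  set Z : Subgroup Aˣ := (Units.map (algebraMap K A : K →* A)).range with hZ
  have hZmem : ∀ z : Aˣ, z ∈ Z ↔ (z : A) ∈ (algebraMap K A).range := by
    intro z
    constructor
    · rintro ⟨k, rfl⟩
      exact ⟨(k : K), rfl⟩
    · rintro ⟨k, hk⟩
      have hk0 : k ≠ 0 := by
        rintro rfl
        rw [map_zero] at hk
        exact z.ne_zero hk.symm
      exact ⟨Units.mk0 k hk0, Units.ext hk⟩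
  have hZcentral : ∀ z ∈ Z, ∀ g : Aˣ, g * z = z * g := by
    intro z hz g
    obtain ⟨k, hk⟩ := (hZmem z).mp hz
    apply Units.ext
    rw [Units.val_mul, Units.val_mul, ← hk]
    exact (Algebra.commutes k (g : A)).symm
  haveI hZn : Z.Normal := ⟨fun n hn g => by
    rw [hZcentral n hn g, mul_inv_cancel_right]; exact hn⟩
  let π : Aˣ →* Aˣ ⧸ Z := QuotientGroup.mk' Z
  have hπ1 : ∀ g : Aˣ, π g = 1 ↔ g ∈ Z := fun g => QuotientGroup.eq_one_iff g
  let c : Fin (N + 1) → K := fun i => Infinite.natEmbedding K (i : ℕ)
  have hc : Function.Injective c := fun i j hij =>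
    Fin.ext ((Infinite.natEmbedding K).injective hij)
  have hne : ∀ k : K, w + algebraMap K A k ≠ 0 := by
    intro k h0
    apply hwK
    refine ⟨-k, ?_⟩
    rw [map_neg]
    exact (eq_neg_of_add_eq_zero_left h0).symm
  let u : Fin (N + 1) → Aˣ := fun i => Units.mk0 _ (hne (c i))
  have hucomm : ∀ i j, u i * u j = u j * u i := by
    intro i j
    apply Units.ext
    simp only [u, Units.val_mul, Units.val_mk0]
    have hcm : Commute (w + algebraMap K A (c i)) (w + algebraMap K A (c j)) := by
      apply Commute.add_left <;> apply Commute.add_right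
      · exact Commute.refl w
      · exact (Algebra.commutes (c j) w).symm
      · exact Algebra.commutes (c i) w
      · exact Algebra.commutes (c i) _
    exact hcm.eq
  have hupow : ∀ i, (u i) ^ p ∈ Z := by
    intro i
    rw [hZmem]
    refine ⟨a + (c i) ^ p, ?_⟩
    simp only [u, Units.val_pow_eq_pow_val, Units.val_mk0]
    rw [add_pow_char_of_commute p (Algebra.commutes (c i) w).symm, map_add, map_pow, ha]
  have huinj : Function.Injective (fun i => π (u i)) := by
    intro i j hij
    have hij' : π (u i) = π (u j) := hij
    have h1 : (u i)⁻¹ * u j ∈ Z := by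
      rw [← hπ1, map_mul, map_inv, ← hij', inv_mul_cancel]
    obtain ⟨k, hk⟩ := (hZmem _).mp h1
    have h2 : (u j : A) = (u i : A) * algebraMap K A k := by
      rw [hk, Units.val_mul, ← mul_assoc, Units.mul_inv, one_mul]
    simp only [u, Units.val_mk0] at h2
    -- w + c j = (w + c i) * k
    have h3 : (algebraMap K A (1 - k)) * w = algebraMap K A (c i * k - c j) := by
      rw [map_sub, map_one, sub_mul, one_mul, map_sub, map_mul, Algebra.commutes k w]
      have : w = (w + algebraMap K A (c i)) * algebraMap K A k - algebraMap K A (c j) := by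
        rw [← h2]; abel
      nth_rw 1 [this]
      rw [add_mul]; abel
    by_cases hk1 : k = 1
    · subst hk1
      rw [sub_self, map_zero, zero_mul, mul_one] at h3
      apply hc
      have := (algebraMap K A).injective (h3.symm.trans (map_zero _).symm)
      exact sub_eq_zero.mp this
    · exfalso
      apply hwK
      refine ⟨(1 - k)⁻¹ * (c i * k - c j), ?_⟩
      rw [map_mul, ← h3, ← mul_assoc, ← map_mul, inv_mul_cancel₀ (sub_ne_zero.mpr (Ne.symm hk1)),
        map_one, one_mul]
  set S : Set (Aˣ ⧸ Z) := Set.range (fun i => π (u i)) with hS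
  have hScomm : ∀ x ∈ S, ∀ y ∈ S, x * y = y * x := by
    rintro _ ⟨i, rfl⟩ _ ⟨j, rfl⟩
    simp only [← map_mul, hucomm]
  set M : Subgroup (Aˣ ⧸ Z) := Subgroup.closure S with hM
  haveI hMc : IsMulCommutative M := Subgroup.isMulCommutative_closure hScomm
  letI : CommGroup M :=
    { (inferInstance : Group M) with
      mul_comm := fun x y => hMc.is_comm.comm x y }
  have hpow : ∀ m : M, m ^ p = 1 := by
    have hker : (⊤ : Subgroup M) ≤ (powMonoidHom p : M →* M).ker := by
      rw [← Subgroup.closure_closure_coe_preimage (k := S), Subgroup.closure_le]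
      rintro ⟨x, hx⟩ hxS
      obtain ⟨i, hi⟩ : x ∈ S := hxS
      rw [SetLike.mem_coe, MonoidHom.mem_ker, powMonoidHom_apply]
      apply Subtype.ext
      rw [Subgroup.coe_pow, Subgroup.coe_one]
      change x ^ p = 1
      rw [← hi, ← map_pow, hπ1]
      exact hupow i
    intro m
    exact hker (Subgroup.mem_top m)
  have htors : IsMulTorsion M := fun m =>
    isOfFinOrder_iff_pow_eq_one.mpr ⟨p, hp.pos, hpow m⟩
  haveI : Finite S := Set.finite_range _
  haveI : Group.FG M := Group.closure_finite_fg S
  haveI hMfin : Finite M := CommGroup.finite_of_fg_isMulTorsion M htors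
  refine ⟨M.comap π, ?_, ?_⟩
  · intro z hz
    rw [Subgroup.mem_comap, (hπ1 z).mpr hz]
    exact M.one_mem
  · have hZker : Z = (⊥ : Subgroup (Aˣ ⧸ Z)).comap π := by
      ext z
      rw [Subgroup.mem_comap, Subgroup.mem_bot, hπ1]
    have hsurj : Function.Surjective π := QuotientGroup.mk'_surjective Z
    have e1 : (Subgroup.comap π ⊥).relIndex (M.comap π) = Nat.card M := by
      rw [Subgroup.relIndex_comap, Subgroup.map_comap_eq_self_of_surjective hsurj,
        Subgroup.relIndex_bot_left]
    have e2 : Z.relIndex (M.comap π) = (Subgroup.comap π ⊥).relIndex (M.comap π) :=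
      congrArg (fun X : Subgroup Aˣ => X.relIndex (M.comap π)) hZker
    rw [e2, e1]
    have hinj : Function.Injective (fun i : Fin (N + 1) =>
        (⟨π (u i), Subgroup.subset_closure ⟨i, rfl⟩⟩ : M)) := by
      intro i j hij
      exact huinj (congrArg Subtype.val hij)
    have := Nat.card_le_card_of_injective _ hinj
    rw [Nat.card_fin] at this
    omega

end Groth.Agent.S15173
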