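import Groth.Statements.S15177
import Mathlib
import Groth.Agent.Lib.ComodUnip
import Groth.Agent.Lib.ComodDualAlg

set_option autoImplicit false
universe u v
open BddFin

namespace Groth.Agent.S15177

open Polynomial TensorProduct Groth.Agent.Lib.Comod

theorem eq_one_of_pow_eq_one_of_nilpotent {K R : Type*} [Field K] [Ring R] [Algebra K R]
    (T : R) (n m : ℕ) (hn : (n : K) ≠ 0) (h1 : T ^ n = 1) (h2 : (T - 1) ^ m = 0) : T = 1 := by
  rcases subsingleton_or_nontrivial R with hR | hR
  · exact Subsingleton.elim _ _
  have hn0 : n ≠ 0 := by rintro rfl; simp at hn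
  have hroot1 : aeval T (X ^ n - C 1 : K[X]) = 0 := by simp [h1]
  have hint : IsIntegral K T := ⟨_, monic_X_pow_sub_C 1 hn0, hroot1⟩
  have hsep : (X ^ n - C 1 : K[X]).Separable := separable_X_pow_sub_C 1 hn one_ne_zero
  have hq1 : minpoly K T ∣ X ^ n - C 1 := minpoly.dvd K T hroot1
  have hq2 : minpoly K T ∣ (X - C 1) ^ m := minpoly.dvd K T (by simp [h2])
  have hsq : Squarefree (minpoly K T) := (hsep.of_dvd hq1).squarefree
  have hm0 : m ≠ 0 := by
    rintro rfl
    rw [pow_zero] at h2
    exact one_ne_zero h2
  obtain ⟨c, hc⟩ := (hsq.dvd_pow_iff_dvd hm0).mp hq2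
  have := congrArg (aeval T) hc
  rw [map_mul, minpoly.aeval, zero_mul] at this
  simpa [sub_eq_zero] using this

/-- Let K be a field and Γ a unipotent linear algebraic group over K, given here by its coordinate Hopf
algebra A (a finitely generated, formally smooth commutative Hopf algebra over K all of whose
non-zero finite-dimensional comodules have a non-zero fixed vector). Then the group Γ(K) of K-points
(K-algebra maps A → K under convolution) has no non-trivial element of finite order coprime to the
characteristic of K: an element of finite order whose order is non-zero in K is the identity. -/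
theorem result
    (K : Type u) [Field K] (A : Type v) [CommRing A] [HopfAlgebra K A] [Algebra.FiniteType K A]
    [Algebra.FormallySmooth K A] (hU : HopfRep.IsUnipotent K A)
    (g : WithConv (A →ₐ[K] K)) (hg : IsOfFinOrder g) (hcop : ((orderOf g : ℕ) : K) ≠ 0) : g = 1 := by
  classical
  set n := orderOf g with hn
  have hgn : g ^ n = 1 := pow_orderOf_eq_one g
  let φ : DualAlg K A := WithConv.toConv g.ofConv.toLinearMap
  have hφn : φ ^ n = 1 := by
    have h := AlgHom.toLinearMap_convPow g n
    rw [hgn] at h
    rw [← h]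
    exact AlgHom.toLinearMap_convOne
  have hφ1 : φ.ofConv (1 : A) = 1 := map_one g.ofConv
  suffices h : ∀ a : A, g.ofConv a = Coalgebra.counit (R := K) a by
    apply WithConv.ofConv_injective
    apply AlgHom.ext
    intro a
    rw [h a]
    simp
  intro a
  obtain ⟨W, hWfin, haW, hWsub⟩ := exists_finite_subcomod_mem (k := K) (C := A) (V := A) a
  let cA : HopfRep.Comod K A A := HopfRep.Comod.regular K A
  let cW : HopfRep.Comod K A W := ComodSub.Comod.restr cA W hWsub
  obtain ⟨m, F, hmono, hF0, hFm, hFsub, hFtriv⟩ :=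
    hasUnipFiltration_of_isUnipotent (k := K) (A := A)
      (fun V _ _ _ h1 h2 => hU V h1 h2) _ W cW rfl
  set T : Module.End K W := @act K A _ _ _ _ W _ _ cW φ.ofConv with hT
  have hTpow : ∀ j : ℕ, T ^ j = @act K A _ _ _ _ W _ _ cW (φ ^ j).ofConv := by
    intro j
    induction j with
    | zero =>
      apply LinearMap.ext
      intro v
      rw [pow_zero, pow_zero, Module.End.one_apply]
      exact (@act_one K A _ _ _ _ W _ _ cW v).symm
    | succ j ih =>
      apply LinearMap.ext
      intro v
      rw [pow_succ, Module.End.mul_apply, ih, pow_succ]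
      exact (@act_mul K A _ _ _ _ W _ _ cW (φ ^ j) φ v).symm
  have hTn : T ^ n = 1 := by
    rw [hTpow, hφn]
    apply LinearMap.ext
    intro v
    exact @act_one K A _ _ _ _ W _ _ cW v
  have hstep : ∀ i : ℕ, ∀ v ∈ F (i + 1), (T - 1) v ∈ F i := by
    intro i v hv
    have h1 := hFtriv i v hv
    have h2 := contr_mem_of_mem_range (F i) φ.ofConv h1
    rw [map_sub, contr_tmul, hφ1, one_smul] at h2
    exact h2
  have hnil : ∀ i : ℕ, ∀ v ∈ F i, ((T - 1) ^ i) v = 0 := by
    intro i
    induction i with
    | zero =>
      intro v hv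
      rw [hF0, Submodule.mem_bot] at hv
      rw [hv, map_zero]
    | succ i ih =>
      intro v hv
      rw [pow_succ, Module.End.mul_apply]
      exact ih _ (hstep i v hv)
  have hnil' : (T - 1) ^ m = 0 := by
    apply LinearMap.ext
    intro v
    exact hnil m v (by rw [hFm]; exact Submodule.mem_top)
  have hT1 : T = 1 := eq_one_of_pow_eq_one_of_nilpotent (K := K) T n m hcop hTn hnil'
  have hact : @act K A _ _ _ _ A _ _ cA φ.ofConv a = a := by
    have h1 := @IsComodHom.act_comm K A _ _ _ _ W _ _ cW A _ _ cA W.subtype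
      (ComodSub.isComodHom_subtype cA W hWsub) φ.ofConv ⟨a, haW⟩
    have h2 : T ⟨a, haW⟩ = ⟨a, haW⟩ := by rw [hT1]; rfl
    rw [hT] at h2
    rw [h2] at h1
    exact h1
  have h3 := LinearMap.congr_fun (comp_slice (1 : DualAlg K A) φ) a
  rw [one_mul, LinearMap.comp_apply] at h3
  have h4 : slice φ.ofConv a = a := hact
  rw [h4] at h3
  have h5 : (1 : DualAlg K A).ofConv a = Coalgebra.counit (R := K) a := by
    simp [LinearMap.convOne_def]
  rw [h5] at h3
  exact h3.symm

end Groth.Agent.S15177
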