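import Groth.Statements.S15185
import Mathlib
import Groth.Agent.Lib.KummerDiv

set_option autoImplicit false
universe u v
open Polynomial
open BddFin

namespace Groth.Agent.S15185

open TensorProduct

/-- In characteristic `p`, `a ^ (p ^ m) = 1` implies `a = 1`. -/
theorem eq_one_of_pow_char_pow_eq_one {K : Type*} [Field K] (p : ℕ) [Fact p.Prime] [CharP K p]
    (m : ℕ) (a : K) (h : a ^ (p ^ m) = 1) : a = 1 := by
  have h1 : (a - 1) ^ (p ^ m) = 0 := by
    rw [sub_pow_char_pow, h, one_pow, sub_self]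
  exact sub_eq_zero.mp (pow_eq_zero_iff (pow_ne_zero m (Fact.out : p.Prime).ne_zero) |>.mp h1)

/-- Let K be a field of characteristic p > 0 such that K contains all roots of unity (for every n ≥ 1
the polynomial X^n − 1 splits into linear factors over K), A a central division algebra of dimension
n ^ 2 over K, and write n = n' · p ^ m with n' prime to p; let N be the reduced norm of A. Consider
the kernel of the homomorphism from the units of A modulo those of K to Kˣ/(Kˣ)^(p^m) induced by N.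
Every element of finite order of that kernel has order dividing n': if x ≠ 0 in A has x ^ r in K for
some r ≥ 1 and N x is a (p ^ m)-th power of a non-zero element of K, then x ^ n' lies in K. -/
theorem result
    (K : Type u) [Field K] (p : ℕ) [Fact p.Prime] [CharP K p] (hK : ∀ n : ℕ, 0 < n → (X ^ n - 1 : K[X]).Splits)
    (A : Type v) [DivisionRing A] [Algebra K A] [Algebra.IsCentral K A] [FiniteDimensional K A]
    (n n' m : ℕ) (hA : Module.finrank K A = n ^ 2) (hn : n = n' * p ^ m) (hn' : ¬ p ∣ n')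
    (N : A →* K) (hN : CSAGal.IsRedNorm K A N)
    (x : A) (hx : x ≠ 0) (hxr : ∃ r : ℕ, 0 < r ∧ x ^ r ∈ (algebraMap K A).range)
    (hNx : ∃ b : K, b ≠ 0 ∧ N x = b ^ (p ^ m)) :
    x ^ n' ∈ (algebraMap K A).range := by
  classical
  have hp : p.Prime := Fact.out
  haveI : CharP A p := charP_of_injective_algebraMap (algebraMap K A).injective p
  obtain ⟨c, hc⟩ := Groth.Agent.Lib.KummerDiv.pow_mem_range_of_pow_mem_range hK n hA x hxr
  obtain ⟨b, hb0, hb⟩ := hNx
  obtain ⟨F, _, _, _, n₀, φ, hφ⟩ := hN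
  have hnpos : 0 < n := by
    have : 0 < Module.finrank K A := Module.finrank_pos
    rw [hA] at this
    exact Nat.pos_of_ne_zero (by rintro rfl; simp at this)
  -- `n₀ = n`
  have hn₀ : n₀ = n := by
    have h1 : Module.finrank F (F ⊗[K] A) = n ^ 2 := by
      rw [Module.finrank_baseChange, hA]
    have h2 : Module.finrank F (Matrix (Fin n₀) (Fin n₀) F) = n₀ ^ 2 := by
      rw [Module.finrank_matrix, Fintype.card_fin, Module.finrank_self, mul_one, sq]
    have h3 := φ.toLinearEquiv.finrank_eq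
    rw [h1, h2] at h3
    exact (Nat.pow_left_injective (by norm_num : 2 ≠ 0) h3).symm
  -- `N x ^ n = c ^ n`
  have hNn : N x ^ n = c ^ n := by
    apply (algebraMap K F).injective
    rw [map_pow, hφ, ← Matrix.det_pow, ← map_pow, Algebra.TensorProduct.tmul_pow, one_pow, ← hc]
    have h1 : (1 : F) ⊗ₜ[K] (algebraMap K A c) = algebraMap F (F ⊗[K] A) (algebraMap K F c) := by
      rw [Algebra.TensorProduct.algebraMap_apply, Algebra.algebraMap_eq_smul_one c,
        Algebra.algebraMap_eq_smul_one c, TensorProduct.tmul_smul, TensorProduct.smul_tmul']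
      rfl
    rw [h1, AlgEquiv.commutes, Matrix.algebraMap_eq_diagonal, Matrix.det_diagonal]
    simp [hn₀]
  rw [hb] at hNn
  -- ζ = c / b ^ (p ^ m) has ζ ^ n' = 1
  have hbp0 : b ^ (p ^ m) ≠ 0 := pow_ne_zero _ hb0
  set ζ : K := c / b ^ (p ^ m) with hζ
  have hζn : ζ ^ n = 1 := by
    rw [hζ, div_pow, ← hNn, div_self (pow_ne_zero _ hbp0)]
  have hζn' : ζ ^ n' = 1 := by
    apply eq_one_of_pow_char_pow_eq_one p m
    rw [← pow_mul, ← hn, hζn]
  have hζ0 : ζ ≠ 0 := by
    intro h0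
    rw [h0, zero_pow hnpos.ne'] at hζn
    exact zero_ne_one hζn
  -- ζ is a `p ^ m`-th power
  have hcop : Nat.Coprime (p ^ m) n' :=
    Nat.Coprime.pow_left m ((Nat.Prime.coprime_iff_not_dvd hp).mpr hn')
  obtain ⟨ξ, hξ⟩ : ∃ ξ : K, ξ ^ (p ^ m) = ζ := by
    have hbez := Nat.gcd_eq_gcd_ab (p ^ m) n'
    rw [hcop.gcd_eq_one] at hbez
    refine ⟨ζ ^ (Nat.gcdA (p ^ m) n'), ?_⟩
    have h1 : (ζ ^ (Nat.gcdA (p ^ m) n')) ^ (p ^ m) = ζ ^ ((p ^ m : ℕ) * Nat.gcdA (p ^ m) n' : ℤ) := by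
      rw [← zpow_natCast, ← zpow_mul, mul_comm]
    have h2 : ζ ^ ((n' : ℤ) * Nat.gcdB (p ^ m) n') = 1 := by
      rw [zpow_mul, zpow_natCast, hζn', one_zpow]
    calc (ζ ^ (Nat.gcdA (p ^ m) n')) ^ (p ^ m)
        = ζ ^ ((p ^ m : ℕ) * Nat.gcdA (p ^ m) n' : ℤ) := h1
      _ = ζ ^ ((p ^ m : ℕ) * Nat.gcdA (p ^ m) n' : ℤ) * ζ ^ ((n' : ℤ) * Nat.gcdB (p ^ m) n') := by
          rw [h2, mul_one]
      _ = ζ ^ (((p ^ m : ℕ) : ℤ) * Nat.gcdA (p ^ m) n' + (n' : ℤ) * Nat.gcdB (p ^ m) n') :=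
          (zpow_add₀ hζ0 _ _).symm
      _ = ζ := by rw [← hbez, Nat.cast_one, zpow_one]
  -- conclude
  have hcξ : c = (ξ * b) ^ (p ^ m) := by
    rw [mul_pow, hξ, hζ, div_mul_cancel₀ _ hbp0]
  refine ⟨ξ * b, ?_⟩
  have hy : (x ^ n') ^ (p ^ m) = (algebraMap K A (ξ * b)) ^ (p ^ m) := by
    rw [← pow_mul, ← hn, ← hc, hcξ, map_pow]
  have h0 : (x ^ n' - algebraMap K A (ξ * b)) ^ (p ^ m) = 0 := by
    rw [sub_pow_char_pow_of_commute p m (Algebra.commutes (ξ * b) (x ^ n')).symm, hy, sub_self]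
  have h1 := pow_eq_zero_iff (pow_ne_zero m hp.ne_zero) |>.mp h0
  exact (sub_eq_zero.mp h1).symm

end Groth.Agent.S15185
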