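import Groth.Statements.S15224
import Mathlib.Data.Nat.Choose.Sum
import Mathlib.Tactic

set_option autoImplicit false
open Finset
open W4c2rk2extmaps

namespace Groth.Agent.S15224

/-- The rational identity behind the alternating sum. -/
theorem key (k : ℕ) (hk : 2 ≤ k) :
    (∑ i ∈ Finset.Ico 1 k, (-1 : ℚ) ^ (i - 1) * (((Nat.factorial i : ℚ)⁻¹) *
      ((Nat.factorial (k - i) : ℚ)⁻¹))) + (-1 : ℚ) ^ (k - 1) * ((Nat.factorial k : ℚ)⁻¹) =
      (Nat.factorial k : ℚ)⁻¹ := by
  have hkfac : (Nat.factorial k : ℚ) ≠ 0 := by exact_mod_cast Nat.factorial_ne_zero k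
  have halt : (∑ i ∈ Finset.range (k + 1), (-1 : ℚ) ^ i * (k.choose i : ℚ)) = 0 := by
    have := Int.alternating_sum_range_choose (n := k)
    rw [if_neg (by omega)] at this
    have h2 := congrArg (Int.cast : ℤ → ℚ) this
    push_cast at h2
    exact h2
  rw [Finset.range_eq_Ico, Finset.sum_Ico_succ_top (by omega),
    Finset.sum_eq_sum_Ico_succ_bot (by omega)] at halt
  simp only [pow_zero, Nat.choose_zero_right, Nat.cast_one, mul_one, Nat.choose_self,
    zero_add] at halt
  have hterm : ∀ i ∈ Finset.Ico 1 k, (-1 : ℚ) ^ (i - 1) * (((Nat.factorial i : ℚ)⁻¹) *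
      ((Nat.factorial (k - i) : ℚ)⁻¹)) =
      -((Nat.factorial k : ℚ)⁻¹) * ((-1 : ℚ) ^ i * (k.choose i : ℚ)) := by
    intro i hi
    rw [Finset.mem_Ico] at hi
    have hpow : (-1 : ℚ) ^ i = -(-1 : ℚ) ^ (i - 1) := by
      obtain ⟨j, rfl⟩ : ∃ j, i = j + 1 := ⟨i - 1, by omega⟩
      simp [pow_succ]
    have hch : (k.choose i : ℚ) = (Nat.factorial k : ℚ) *
        (((Nat.factorial i : ℚ)⁻¹) * ((Nat.factorial (k - i) : ℚ)⁻¹)) := by
      have h := Nat.choose_mul_factorial_mul_factorial (n := k) (k := i) (by omega)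
      have hi0 : (Nat.factorial i : ℚ) ≠ 0 := by exact_mod_cast Nat.factorial_ne_zero i
      have hki0 : (Nat.factorial (k - i) : ℚ) ≠ 0 := by
        exact_mod_cast Nat.factorial_ne_zero (k - i)
      have h' : (k.choose i : ℚ) * (Nat.factorial i : ℚ) * (Nat.factorial (k - i) : ℚ) =
          (Nat.factorial k : ℚ) := by exact_mod_cast h
      field_simp
      linarith
    rw [hpow, hch]
    field_simp
  rw [Finset.sum_congr rfl hterm, ← Finset.mul_sum]
  have hsum : (∑ i ∈ Finset.Ico 1 k, (-1 : ℚ) ^ i * (k.choose i : ℚ)) = -1 - (-1 : ℚ) ^ k := by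
    linarith
  have hpowk : (-1 : ℚ) ^ k = -(-1 : ℚ) ^ (k - 1) := by
    obtain ⟨j, rfl⟩ : ∃ j, k = j + 1 := ⟨k - 1, by omega⟩
    simp [pow_succ]
  rw [hsum, hpowk]
  ring

/-- In a commutative ℚ-algebra R let y be an element and put c_k = y^k / k! for every k. Then for k ≥ 2,
Σ_{i=1}^{k-1} (-1)^(i-1) c_i c_(k-i) + (-1)^(k-1) c_k = c_k. (The published statement concerns the
Chern classes of a specific vector bundle on a Jacobian, which are of the form c_k = (4θ)^k / k!;
the printed argument establishes the identity for every sequence of this form in a commutative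
ℚ-algebra, which is the form stated here.) -/
theorem result (R : Type*) [CommRing R] [Algebra ℚ R] (y : R)
    (c : ℕ → R) (hc : ∀ k : ℕ, c k = ((Nat.factorial k : ℚ)⁻¹) • y ^ k)
    (k : ℕ) (hk : 2 ≤ k) :
    (∑ i ∈ Finset.Ico 1 k, (-1 : R) ^ (i - 1) * c i * c (k - i)) + (-1 : R) ^ (k - 1) * c k = c k := by
  have hterm : ∀ i ∈ Finset.Ico 1 k, (-1 : R) ^ (i - 1) * c i * c (k - i) =
      ((-1 : ℚ) ^ (i - 1) * (((Nat.factorial i : ℚ)⁻¹) * ((Nat.factorial (k - i) : ℚ)⁻¹))) • y ^ k := by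
    intro i hi
    rw [Finset.mem_Ico] at hi
    have hyk : y ^ k = y ^ i * y ^ (k - i) := by
      rw [← pow_add]; congr 1; omega
    rw [hc i, hc (k - i), hyk]
    simp only [Algebra.smul_def, map_mul, map_pow, map_neg, map_one]
    ring
  have hlast : (-1 : R) ^ (k - 1) * c k = ((-1 : ℚ) ^ (k - 1) * ((Nat.factorial k : ℚ)⁻¹)) • y ^ k := by
    rw [hc k]
    simp only [Algebra.smul_def, map_mul, map_pow, map_neg, map_one]
    ring
  rw [Finset.sum_congr rfl hterm, ← Finset.sum_smul, hlast, ← add_smul, key k hk, hc k]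

end Groth.Agent.S15224
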