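import Groth.Statements.S15229
import Groth.Agent.S15224
import Mathlib.Tactic

set_option autoImplicit false
open Finset
open W4c2rk2extmaps

namespace Groth.Agent.S15229

/-- In a commutative ℚ-algebra R let θ, η be elements and g a natural number, and put c_k = (4θ)^k / k!.
Suppose θ^(g+1) = 0 and that η satisfies the relation η^(g+1) = Σ_{i=1}^{g+1} (-1)^(i-1) c_i
η^(g+1-i). Then η^(g+k) θ^(g-k) = c_k η^g θ^(g-k) for every 1 ≤ k ≤ g. (The published statement
concerns the first Chern class η of the tautological line bundle on a projective bundle P(U) over a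
g-dimensional Jacobian, with c_k the Chern classes of U, which are (4θ)^k / k!; there θ^(g+1)
vanishes for dimension reasons and the displayed relation is the projective-bundle relation, and the
printed argument derives the identity from exactly these three inputs, which is the form stated
here.) -/
theorem result (R : Type*) [CommRing R] [Algebra ℚ R]
    (θ η : R) (g : ℕ) (c : ℕ → R) (hc : ∀ k : ℕ, c k = ((Nat.factorial k : ℚ)⁻¹) • ((4 : R) * θ) ^ k)
    (hθ : θ ^ (g + 1) = 0)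
    (hrel : η ^ (g + 1) = ∑ i ∈ Finset.Ico 1 (g + 2), (-1 : R) ^ (i - 1) * c i * η ^ (g + 1 - i))
    (k : ℕ) (hk1 : 1 ≤ k) (hkg : k ≤ g) :
    η ^ (g + k) * θ ^ (g - k) = c k * η ^ g * θ ^ (g - k) := by
  induction k using Nat.strong_induction_on with
  | _ k ih =>
  -- `c i * θ^(g-k)` as a multiple of a power of `θ`
  have hcθ : ∀ i : ℕ, ∃ a : R, ∀ n : ℕ, c i * θ ^ n = a * θ ^ (i + n) := by
    intro i
    refine ⟨algebraMap ℚ R ((Nat.factorial i : ℚ)⁻¹) * 4 ^ i, fun n => ?_⟩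
    rw [hc i, Algebra.smul_def, mul_pow, pow_add]
    ring
  have hpow : η ^ (g + k) = η ^ (k - 1) * η ^ (g + 1) := by
    rw [← pow_add]; congr 1; omega
  rw [hpow, hrel, Finset.mul_sum, Finset.sum_mul,
    ← Finset.sum_Ico_consecutive _ (show 1 ≤ k + 1 by omega) (show k + 1 ≤ g + 2 by omega)]
  have hzero : ∑ i ∈ Finset.Ico (k + 1) (g + 2),
      η ^ (k - 1) * ((-1 : R) ^ (i - 1) * c i * η ^ (g + 1 - i)) * θ ^ (g - k) = 0 := by
    refine Finset.sum_eq_zero fun i hi => ?_
    rw [Finset.mem_Ico] at hi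
    obtain ⟨a, ha⟩ := hcθ i
    have h0 : c i * θ ^ (g - k) = 0 := by
      rw [ha]
      have : i + (g - k) = (g + 1) + (i - k - 1) := by omega
      rw [this, pow_add, hθ]
      ring
    calc η ^ (k - 1) * ((-1 : R) ^ (i - 1) * c i * η ^ (g + 1 - i)) * θ ^ (g - k)
        = η ^ (k - 1) * (-1 : R) ^ (i - 1) * η ^ (g + 1 - i) * (c i * θ ^ (g - k)) := by ring
      _ = 0 := by rw [h0]; ring
  rw [hzero, add_zero, Finset.sum_Ico_succ_top (by omega : 1 ≤ k)]
  have hterm : ∀ i ∈ Finset.Ico 1 k,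
      η ^ (k - 1) * ((-1 : R) ^ (i - 1) * c i * η ^ (g + 1 - i)) * θ ^ (g - k) =
      ((-1 : R) ^ (i - 1) * c i * c (k - i)) * (η ^ g * θ ^ (g - k)) := by
    intro i hi
    rw [Finset.mem_Ico] at hi
    obtain ⟨a, ha⟩ := hcθ i
    have hih := ih (k - i) (by omega) (by omega) (by omega)
    have hη : η ^ (k - 1) * η ^ (g + 1 - i) = η ^ (g + (k - i)) := by
      rw [← pow_add]; congr 1; omega
    have hexp : i + (g - k) = g - (k - i) := by omega
    have hX : η ^ (g + (k - i)) * (c i * θ ^ (g - k)) =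
        c (k - i) * η ^ g * (c i * θ ^ (g - k)) := by
      rw [ha, hexp]
      calc η ^ (g + (k - i)) * (a * θ ^ (g - (k - i)))
          = a * (η ^ (g + (k - i)) * θ ^ (g - (k - i))) := by ring
        _ = a * (c (k - i) * η ^ g * θ ^ (g - (k - i))) := by rw [hih]
        _ = c (k - i) * η ^ g * (a * θ ^ (g - (k - i))) := by ring
    calc η ^ (k - 1) * ((-1 : R) ^ (i - 1) * c i * η ^ (g + 1 - i)) * θ ^ (g - k)
        = (-1 : R) ^ (i - 1) * ((η ^ (k - 1) * η ^ (g + 1 - i)) * (c i * θ ^ (g - k))) := by ring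
      _ = (-1 : R) ^ (i - 1) * (c (k - i) * η ^ g * (c i * θ ^ (g - k))) := by rw [hη, hX]
      _ = ((-1 : R) ^ (i - 1) * c i * c (k - i)) * (η ^ g * θ ^ (g - k)) := by ring
  have hlast : η ^ (k - 1) * ((-1 : R) ^ (k - 1) * c k * η ^ (g + 1 - k)) * θ ^ (g - k) =
      ((-1 : R) ^ (k - 1) * c k) * (η ^ g * θ ^ (g - k)) := by
    have hη : η ^ (k - 1) * η ^ (g + 1 - k) = η ^ g := by
      rw [← pow_add]; congr 1; omega
    calc η ^ (k - 1) * ((-1 : R) ^ (k - 1) * c k * η ^ (g + 1 - k)) * θ ^ (g - k)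
        = (-1 : R) ^ (k - 1) * c k * (η ^ (k - 1) * η ^ (g + 1 - k)) * θ ^ (g - k) := by ring
      _ = ((-1 : R) ^ (k - 1) * c k) * (η ^ g * θ ^ (g - k)) := by rw [hη]; ring
  rw [Finset.sum_congr rfl hterm, ← Finset.sum_mul, hlast, ← add_mul]
  have hbr : (∑ i ∈ Finset.Ico 1 k, (-1 : R) ^ (i - 1) * c i * c (k - i)) +
      (-1 : R) ^ (k - 1) * c k = c k := by
    rcases Nat.lt_or_ge k 2 with hk2 | hk2
    · have : k = 1 := by omega
      subst this
      simp
    · exact Groth.Agent.S15224.result R ((4 : R) * θ) c hc k hk2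
  rw [hbr]
  ring

end Groth.Agent.S15229
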