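import Groth.Statements.S15231
import Groth.Agent.Lib.SemiFreeKProj35
import Groth.Agent.Lib.LBaseChangeKProj
import Groth.Agent.Lib.TFunCompare
import Groth.Agent.Lib.TFun

set_option autoImplicit false
universe u
open CategoryTheory CategoryTheory.Limits
attribute [local instance] HasDerivedCategory.standard
open DRing

namespace Groth.Agent.S15231

/-- Let R be a Noetherian local commutative ring with residue field κ, let P be any object of D(R) and
a, b integers. Suppose that H^i(P ⊗^L_R κ) = 0 for every i outside [a, b] (over the field κ this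
says exactly that P ⊗^L_R κ has tor amplitude in [a, b] as an object of D(κ)). Then for every
R-module N of finite length, H^i(P ⊗^L_R N) = 0 for every i outside [a, b]. The derived base change
to κ and the derived tensor products with R-modules are the total left derived functors on D(R),
assumed to exist for every R-module (as they do). -/
theorem result (R : Type u) [CommRing R] [IsNoetherianRing R]
    [IsLocalRing R] [DRing.HasLBaseChange (IsLocalRing.residue R)] [∀ M : ModuleCat.{u} R, DRing.HasLTensor R M]
    (P : Dual.D R) (a b : ℤ)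
    (h : ∀ i : ℤ, (i < a ∨ b < i) →
      Subsingleton (Dual.HD (IsLocalRing.ResidueField R) ((DRing.LBaseChange (IsLocalRing.residue R)).obj P) i))
    (N : Type u) [AddCommGroup N] [Module R N] (hN : IsFiniteLength R N) (i : ℤ) (hi : i < a ∨ b < i) :
    Subsingleton (Dual.HD R ((DRing.LTensor R (ModuleCat.of R N)).obj P) i) := by
  -- a K-projective, termwise flat representative of `P`
  let M₀ := (DerivedCategory.Q (C := ModuleCat.{u} R)).objPreimage P
  let e₀ : DerivedCategory.Q.obj M₀ ≅ P := (DerivedCategory.Q (C := ModuleCat.{u} R)).objObjPreimageIso P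
  obtain ⟨K, f, hKp, -, hfl, hq, -⟩ :=
    Groth.Agent.Lib.SemiFreeKProj35.exists_kprojective_resolution M₀
  have hf : IsIso (DerivedCategory.Q.map f) := by
    rw [DerivedCategory.isIso_Q_map_iff_quasiIso]
    exact hq
  let eK : DerivedCategory.Q.obj K ≅ P := asIso (DerivedCategory.Q.map f) ≪≫ e₀
  have hrep : ∀ (B : Type u) [CommRing B] (T : CochainComplex (ModuleCat.{u} B) ℤ),
      Groth.Agent.Lib.LBaseChangeKProj.HasKProjRep (DerivedCategory.Q.obj T) := fun B _ T => by
    obtain ⟨K', f', hK', -, -, hq', -⟩ :=
      Groth.Agent.Lib.SemiFreeKProj35.exists_kprojective_resolution T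
    have : IsIso (DerivedCategory.Q.map f') := by
      rw [DerivedCategory.isIso_Q_map_iff_quasiIso]
      exact hq'
    exact ⟨K', hK', ⟨(asIso (DerivedCategory.Q.map f')).symm⟩⟩
  -- vanishing of `T_i(κ)`
  have hκ : ∀ i : ℤ, (i < a ∨ b < i) →
      IsZero ((CohIII.TFun K i).obj (ModuleCat.of R (IsLocalRing.ResidueField R))) := by
    intro i hi
    have h1 := h i hi
    let j := (DRing.LBaseChange (IsLocalRing.residue R)).mapIso eK.symm ≪≫
      Groth.Agent.Lib.LBaseChangeKProj.lbcIso (IsLocalRing.residue R) K (hrep _ _)
    have h2 : IsZero ((DerivedCategory.homologyFunctor (ModuleCat.{u} (IsLocalRing.ResidueField R)) i).obj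
        ((DRing.LBaseChange (IsLocalRing.residue R)).obj P)) := ModuleCat.isZero_of_subsingleton _
    have h3 := h2.of_iso ((DerivedCategory.homologyFunctor _ i).mapIso j.symm)
    have h4 : IsZero ((CohIII.bcCx (algebraMap R (IsLocalRing.ResidueField R)) K).homology i) :=
      h3.of_iso ((DerivedCategory.homologyFunctorFactors _ i).app _).symm
    exact ((Groth.Agent.Lib.TFunCompare.RB (A := R) (IsLocalRing.ResidueField R)).map_isZero h4).of_iso
      (Groth.Agent.Lib.TFunCompare.homologyCompare (IsLocalRing.ResidueField R) K i).symm
  -- induction on the length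
  have key : ∀ (N : Type u) [AddCommGroup N] [Module R N], IsFiniteLength R N →
      ∀ i : ℤ, (i < a ∨ b < i) → IsZero ((CohIII.TFun K i).obj (ModuleCat.of R N)) := by
    intro N _ _ hN
    induction hN with
    | of_subsingleton =>
      intro i _
      refine ShortComplex.isZero_homology_of_isZero_X₂ _ ?_
      exact (MonoidalCategory.tensorLeft (K.X i)).map_isZero (ModuleCat.isZero_of_subsingleton _)
    | @of_simple_quotient M _ _ N' hs _ ih =>
      intro i hi
      -- the simple quotient is the residue field
      obtain ⟨I, hI, ⟨eq⟩⟩ := isSimpleModule_iff_quot_maximal.mp hs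
      have hIm : I = IsLocalRing.maximalIdeal R := IsLocalRing.eq_maximalIdeal hI
      subst hIm
      have h3 : IsZero ((CohIII.TFun K i).obj (ModuleCat.of R (M ⧸ N'))) :=
        (hκ i hi).of_iso ((CohIII.TFun K i).mapIso
          (LinearEquiv.toModuleIso (eq.trans (LinearEquiv.refl R _))))
      let S : ShortComplex (ModuleCat.{u} R) :=
        ShortComplex.mk (ModuleCat.ofHom N'.subtype) (ModuleCat.ofHom N'.mkQ) (by
          ext x
          simp)
      have hS : S.ShortExact :=
        { exact := by
            rw [ShortComplex.ShortExact.moduleCat_exact_iff_function_exact]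
            exact LinearMap.exact_subtype_mkQ N'
          mono_f := (ModuleCat.mono_iff_injective _).2 N'.injective_subtype
          epi_g := (ModuleCat.epi_iff_surjective _).2 N'.mkQ_surjective }
      have hex := Groth.Agent.Lib.TFun.exact₂ K hfl S hS i
      exact hex.isZero_of_both_zeros ((ih i hi).eq_of_src _ _) (h3.eq_of_tgt _ _)
  have h5 := key N hN i hi
  let j := (DRing.LTensor R (ModuleCat.of R N)).mapIso eK.symm ≪≫
    Groth.Agent.Lib.LBaseChangeKProj.lgIso (MonoidalCategory.tensorRight (ModuleCat.of R N)) K (hrep _ _)
  have h6 : IsZero ((DerivedCategory.homologyFunctor (ModuleCat.{u} R) i).obj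
      ((DRing.LTensor R (ModuleCat.of R N)).obj P)) :=
    (h5.of_iso ((DerivedCategory.homologyFunctorFactors _ i).app _)).of_iso
      ((DerivedCategory.homologyFunctor _ i).mapIso j)
  exact ModuleCat.subsingleton_of_isZero h6

end Groth.Agent.S15231
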