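import Groth.Statements.S15233

set_option autoImplicit false
universe u
open CategoryTheory CategoryTheory.Limits Opposite
open CohSite

namespace Groth.Agent.S15233

/-- Let C be a small category with a Grothendieck topology J, and let B be a class of objects forming a
prebasis: for every object V and every covering sieve S of V, the arrows of S whose domain lies in B
generate a covering sieve of V. If F is a presheaf of abelian groups on C such that F(U) = 0 for
every object U in B, then the sheafification of F is zero. -/
theorem result {C : Type u} [SmallCategory C] (J : GrothendieckTopology C)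
    (B : ObjectProperty C)
    (hB : ∀ (V : C) (S : Sieve V), S ∈ J V →
      Sieve.generate (fun (U : C) => {g : U ⟶ V | S.arrows g ∧ B U}) ∈ J V)
    (F : Cᵒᵖ ⥤ AddCommGrpCat.{u}) (hF : ∀ U : C, B U → IsZero (F.obj (op U))) :
    IsZero ((presheafToSheaf J AddCommGrpCat.{u}).obj F) := by
  -- every morphism from `F` to a sheaf vanishes
  have key : ∀ (G : Sheaf J AddCommGrpCat.{u}) (φ ψ : F ⟶ G.val), φ = ψ := by
    intro G φ ψ
    ext V : 2
    induction V using Opposite.rec with
    | op V =>
    have hcov := hB V ⊤ (J.top_mem V)
    refine G.cond.hom_ext ⟨_, hcov⟩ _ _ ?_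
    rintro ⟨U', f, ⟨U, h, g, ⟨-, hBU⟩, rfl⟩⟩
    dsimp only
    rw [op_comp, G.val.map_comp, ← Category.assoc, ← Category.assoc, ← φ.naturality,
      ← ψ.naturality]
    congr 1
    rw [(hF U hBU).eq_of_tgt (F.map g.op) 0, zero_comp, zero_comp]
  rw [IsZero.iff_id_eq_zero]
  apply ((sheafificationAdjunction J AddCommGrpCat.{u}).homEquiv F _).injective
  exact key _ _ _

end Groth.Agent.S15233
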