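import Groth.Statements.S15235


set_option autoImplicit false
universe u
open CategoryTheory Opposite
open HomAlg3

namespace Groth.Agent.S15235

section
variable (F : ℕᵒᵖ ⥤ Type u)

/-- the transition map `F n → F m` for `m ≤ n` -/
def tr {m n : ℕ} (h : m ≤ n) : F.obj (op n) → F.obj (op m) := F.map (homOfLE h).op

lemma tr_refl (m : ℕ) (x : F.obj (op m)) : tr F (le_refl m) x = x := by
  have : (homOfLE (le_refl m)).op = 𝟙 (op m) := rfl
  simp [tr]

lemma tr_trans {k m n : ℕ} (h1 : k ≤ m) (h2 : m ≤ n) (x : F.obj (op n)) :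
    tr F h1 (tr F h2 x) = tr F (h1.trans h2) x := by
  have : (homOfLE (h1.trans h2)).op = (homOfLE h2).op ≫ (homOfLE h1).op := rfl
  simp [tr, this]

lemma map_eq_tr {m n : ℕ} (f : op n ⟶ op m) : F.map f = tr F (leOfHom f.unop) := by
  have : f = (homOfLE (leOfHom f.unop)).op := Subsingleton.elim _ _
  conv_lhs => rw [this]
  rfl

variable (j₀ : ℕ) (hs : ∀ j : ℕ, j₀ ≤ j → Function.Surjective (tr F (Nat.le_succ j)))

include hs in
lemma tr_surjective {m n : ℕ} (hm : j₀ ≤ m) (h : m ≤ n) : Function.Surjective (tr F h) := by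
  induction n, h using Nat.le_induction with
  | base => intro x; exact ⟨x, tr_refl F m x⟩
  | succ n hmn ih =>
    intro x
    obtain ⟨y, hy⟩ := ih x
    obtain ⟨z, hz⟩ := hs n (hm.trans hmn) y
    refine ⟨z, ?_⟩
    rw [← tr_trans F hmn (Nat.le_succ n), hz, hy]

include hs in
lemma isMittagLeffler : F.IsMittagLeffler := by
  rintro ⟨n⟩
  refine ⟨op (max n j₀), (homOfLE (le_max_left n j₀)).op, ?_⟩
  rintro ⟨k⟩ g
  rw [map_eq_tr F g]
  have hnk : n ≤ k := leOfHom g.unop
  rintro _ ⟨x, rfl⟩
  show tr F (le_max_left n j₀) x ∈ Set.range (tr F hnk)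
  rcases le_total k (max n j₀) with hk | hk
  · exact ⟨tr F hk x, by rw [tr_trans]⟩
  · obtain ⟨y, hy⟩ := tr_surjective F j₀ hs (le_max_right n j₀) hk x
    exact ⟨y, by rw [← hy, tr_trans]⟩

/-- successive preimages of `a` -/
noncomputable def pre (a : F.obj (op j₀)) : (n : ℕ) → F.obj (op (j₀ + n))
  | 0 => a
  | n + 1 => (hs (j₀ + n) (Nat.le_add_right _ _) (pre a n)).choose

lemma pre_succ (a : F.obj (op j₀)) (n : ℕ) :
    tr F (Nat.le_succ (j₀ + n)) (pre F j₀ hs a (n + 1)) = pre F j₀ hs a n :=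
  (hs (j₀ + n) (Nat.le_add_right _ _) (pre F j₀ hs a n)).choose_spec

lemma pre_le (a : F.obj (op j₀)) {m n : ℕ} (h : m ≤ n) :
    tr F (Nat.add_le_add_left h j₀) (pre F j₀ hs a n) = pre F j₀ hs a m := by
  induction n, h using Nat.le_induction with
  | base => exact tr_refl F _ _
  | succ n hmn ih =>
    rw [← ih, ← tr_trans F (Nat.add_le_add_left hmn j₀) (Nat.le_succ (j₀ + n)), pre_succ]

include hs in
lemma eval_surjective : Function.Surjective (fun s : F.sections => s.1 (op j₀)) := by
  intro a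
  refine ⟨⟨fun j => tr F (Nat.le_add_left j.unop j₀) (pre F j₀ hs a j.unop), ?_⟩, ?_⟩
  · rintro ⟨n⟩ ⟨m⟩ f
    have hmn : m ≤ n := leOfHom f.unop
    rw [map_eq_tr F f]
    show tr F hmn (tr F (Nat.le_add_left n j₀) (pre F j₀ hs a n)) =
      tr F (Nat.le_add_left m j₀) (pre F j₀ hs a m)
    rw [tr_trans, ← pre_le F j₀ hs a hmn, tr_trans]
  · show tr F (Nat.le_add_left j₀ j₀) (pre F j₀ hs a j₀) = a
    have h0 := pre_le F j₀ hs a (Nat.zero_le j₀)
    have h1 : tr F (Nat.le_add_left j₀ j₀) (pre F j₀ hs a j₀) =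
        tr F (le_refl j₀) (tr F (Nat.add_le_add_left (Nat.zero_le j₀) j₀) (pre F j₀ hs a j₀)) :=
      (tr_trans F _ _ _).symm
    rw [h1, h0, tr_refl]
    rfl

lemma eval_injective (hi : ∀ j : ℕ, j₀ ≤ j → Function.Injective (tr F (Nat.le_succ j))) :
    Function.Injective (fun s : F.sections => s.1 (op j₀)) := by
  intro s t hst
  have hst' : s.1 (op j₀) = t.1 (op j₀) := hst
  have hsec : ∀ (u : F.sections) {m n : ℕ} (h : m ≤ n), tr F h (u.1 (op n)) = u.1 (op m) :=
    fun u m n h => u.2 (homOfLE h).op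
  have hge : ∀ n, j₀ ≤ n → s.1 (op n) = t.1 (op n) := by
    intro n hn
    induction n, hn using Nat.le_induction with
    | base => exact hst'
    | succ n hn ih =>
      apply hi n hn
      rw [hsec s, hsec t, ih]
  apply Subtype.ext
  funext ⟨n⟩
  rcases le_total j₀ n with h | h
  · exact hge n h
  · rw [← hsec s h, ← hsec t h, hst']

end

/-- Let (G_j) be an inverse system of abelian groups indexed by the natural numbers, with transition
maps G_{j+1} → G_j, and let j₀ be a natural number such that the transition map G_{j+1} → G_j is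
surjective for every j ≥ j₀. Then: (a) the system satisfies the Mittag-Leffler condition; (b) the
evaluation map from the inverse limit (realised as the set of compatible families) to G_{j₀} is
surjective; (c) if in addition the transition maps G_{j+1} → G_j are injective for every j ≥ j₀,
that evaluation map is bijective. (The published statement indexes the system by the negative
integers and assumes j₀ ≥ 1; this row indexes it by the natural numbers and allows j₀ = 0, which
changes nothing.) -/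
theorem result (G : ℕᵒᵖ ⥤ AddCommGrpCat.{u})
    (j₀ : ℕ) (hs : ∀ j : ℕ, j₀ ≤ j → Function.Surjective (G.map (homOfLE (Nat.le_succ j)).op).hom) :
    (G ⋙ forget AddCommGrpCat.{u}).IsMittagLeffler ∧
      Function.Surjective (fun s : (G ⋙ forget AddCommGrpCat.{u}).sections => s.1 (op j₀)) ∧
      ((∀ j : ℕ, j₀ ≤ j → Function.Injective (G.map (homOfLE (Nat.le_succ j)).op).hom) →
        Function.Bijective (fun s : (G ⋙ forget AddCommGrpCat.{u}).sections => s.1 (op j₀))) := by
  have hs' : ∀ j : ℕ, j₀ ≤ j →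
      Function.Surjective (tr (G ⋙ forget AddCommGrpCat.{u}) (Nat.le_succ j)) := hs
  refine ⟨isMittagLeffler _ j₀ hs', eval_surjective _ j₀ hs', fun hi => ?_⟩
  exact ⟨eval_injective _ j₀ hi, eval_surjective _ j₀ hs'⟩

end Groth.Agent.S15235
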