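import Groth.Statements.S19548
import Groth.Agent.Lib.RootDBaseOf

set_option autoImplicit false
universe u
open CategoryTheory AlgebraicGeometry
open RedSub

namespace Groth.Agent.S19548

open RootD RootPairing

theorem wordPerm_nil {idx M N : Type} [AddCommGroup M] [AddCommGroup N]
    (P : RootPairing idx ℤ M N) : RedSub.wordPerm P [] = 1 := rfl

theorem wordPerm_cons {idx M N : Type} [AddCommGroup M] [AddCommGroup N]
    (P : RootPairing idx ℤ M N) (a : idx) (l : List idx) :
    RedSub.wordPerm P (a :: l) = P.reflectionPerm a * RedSub.wordPerm P l := by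
  simp [RedSub.wordPerm]

theorem reflectionPerm_conj {idx M N : Type} [AddCommGroup M] [AddCommGroup N]
    (P : RootPairing idx ℤ M N) (a c : idx) :
    P.reflectionPerm (P.reflectionPerm a c) =
      P.reflectionPerm a * P.reflectionPerm c * P.reflectionPerm a := by
  ext k
  apply P.root.injective
  simp only [Equiv.Perm.mul_apply, P.root_reflectionPerm, P.reflection_reflectionPerm,
    LinearEquiv.mul_apply]

theorem reflectionPerm_mul_self {idx M N : Type} [AddCommGroup M] [AddCommGroup N]
    (P : RootPairing idx ℤ M N) (a : idx) : P.reflectionPerm a * P.reflectionPerm a = 1 := by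
  ext k
  simp [P.reflectionPerm_self]

/-- A simple reflection maps every other positive root to a positive root. -/
theorem simple_refl_pos {idx M N : Type} [AddCommGroup M] [AddCommGroup N] [Finite idx]
    (P : RootPairing idx ℤ M N) (b : P.Base) (a : idx) (ha : a ∈ b.support) (c : idx)
    (hc : c ∈ RedSub.posRoots P b) (hca : c ≠ a) : P.reflectionPerm a c ∈ RedSub.posRoots P b := by
  have hΔ : IsSimpleSys P (b.support : Set idx) :=
    Groth.Agent.Lib.RootDBase58.isSimpleSys_support P b
  have hc' : c ∈ posOf P (b.support : Set idx) := hc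
  rcases Groth.Agent.Lib.RootDSimple.reflectionPerm_mem_posOf_or P hΔ ha hc' with h | ⟨m, hm⟩
  · exact h
  · exfalso
    rcases Groth.Agent.Lib.RootDSimple.eq_one_or_two_of_root_eq_nsmul P hm with rfl | rfl
    · rw [one_smul] at hm
      exact hca (P.root.injective hm)
    · apply Groth.Agent.Lib.RootDBaseOf.two_smul_root_ne_of_base P b c a
      rw [hm, ofNat_zsmul]

theorem not_pos_and_neg {idx M N : Type} [AddCommGroup M] [AddCommGroup N] [Finite idx]
    (P : RootPairing idx ℤ M N) (b : P.Base) (c : idx)
    (hc : c ∈ RedSub.posRoots P b) (hc' : c ∈ RedSub.negRoots P b) : False := by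
  have hΔ : IsSimpleSys P (b.support : Set idx) :=
    Groth.Agent.Lib.RootDBase58.isSimpleSys_support P b
  exact P.ne_zero c
    (Groth.Agent.Lib.RootDBasic.eq_zero_of_mem_of_neg_mem P hΔ.linInd (P.root c) hc hc')

theorem key {idx M N : Type} [AddCommGroup M] [AddCommGroup N] [Finite idx]
    (P : RootPairing idx ℤ M N) (b : P.Base) (l : List idx) (hl : ∀ a ∈ l, a ∈ b.support) :
    ∀ c : idx, c ∈ RedSub.posRoots P b → (RedSub.wordPerm P l).symm c ∈ RedSub.negRoots P b →
    ∃ i : ℕ, i < l.length ∧
      P.reflectionPerm c * RedSub.wordPerm P (l.take (i + 1)) = RedSub.wordPerm P (l.take i) := by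
  induction l with
  | nil =>
    intro c hc hneg
    exact (not_pos_and_neg P b c hc hneg).elim
  | cons a l ih =>
    intro c hc hneg
    have ha : a ∈ b.support := hl a (List.mem_cons_self)
    have hl' : ∀ x ∈ l, x ∈ b.support := fun x hx => hl x (List.mem_cons_of_mem _ hx)
    by_cases hca : c = a
    · subst hca
      refine ⟨0, by simp, ?_⟩
      simp only [zero_add, List.take_succ_cons, List.take_zero, wordPerm_cons, wordPerm_nil, mul_one]
      exact reflectionPerm_mul_self P c
    · have hc' := simple_refl_pos P b a ha c hc hca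
      have hneg' : (RedSub.wordPerm P l).symm (P.reflectionPerm a c) ∈ RedSub.negRoots P b := by
        have : (RedSub.wordPerm P (a :: l)).symm c =
            (RedSub.wordPerm P l).symm (P.reflectionPerm a c) := by
          rw [wordPerm_cons]
          show ((P.reflectionPerm a * RedSub.wordPerm P l)⁻¹) c = (RedSub.wordPerm P l)⁻¹ _
          rw [mul_inv_rev, Equiv.Perm.mul_apply]
          congr 1
          rw [Equiv.Perm.inv_def, P.reflectionPerm_symm]
        rw [← this]
        exact hneg
      obtain ⟨i, hi, hi'⟩ := ih hl' _ hc' hneg'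
      refine ⟨i + 1, by simpa using hi, ?_⟩
      rw [List.take_succ_cons, List.take_succ_cons, wordPerm_cons, wordPerm_cons, ← hi',
        reflectionPerm_conj]
      simp only [mul_assoc]
      rw [← mul_assoc (P.reflectionPerm a) (P.reflectionPerm a), reflectionPerm_mul_self, one_mul]

/-- Let Φ be a finite reduced root system (a reduced root pairing over ℤ on a finite index set) with a
base b, let w = σ_{α_1} ⋯ σ_{α_ℓ} be a reduced decomposition of a Weyl group element into simple
reflections (every α_j in the base, and no shorter word in the simple reflections gives the same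
permutation of the roots), and let γ be a positive root with w⁻¹(γ) negative. Then for some i with 1
≤ i ≤ ℓ one has σ_γ σ_{α_1} ⋯ σ_{α_i} = σ_{α_1} ⋯ σ_{α_{i-1}}. (Indices are shifted by one below:
the word is a list and the prefixes are its first i + 1 and first i letters.) -/
theorem result {idx M N : Type}
    [AddCommGroup M] [AddCommGroup N] [Finite idx]
    (P : RootPairing idx ℤ M N) [P.IsReduced] (b : P.Base) (l : List idx)
    (hl : ∀ a ∈ l, a ∈ b.support)
    (hred : ∀ l' : List idx, (∀ a ∈ l', a ∈ b.support) →
      RedSub.wordPerm P l' = RedSub.wordPerm P l → l.length ≤ l'.length)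
    (c : idx) (hc : c ∈ RedSub.posRoots P b) (hneg : (RedSub.wordPerm P l).symm c ∈ RedSub.negRoots P b) :
    ∃ i : ℕ, i < l.length ∧
      P.reflectionPerm c * RedSub.wordPerm P (l.take (i + 1)) = RedSub.wordPerm P (l.take i) := by
  exact Groth.Agent.S19548.key P b l hl c hc hneg

end Groth.Agent.S19548
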