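import Groth.Statements.S15245
import Groth.Agent.S19548
import Groth.Agent.Lib.RootDWord

set_option autoImplicit false
universe u
open CategoryTheory AlgebraicGeometry
open RedSub

namespace Groth.Agent.S15245

open RootD RootPairing Groth.Agent.S19548

section
variable {idx M N : Type} [AddCommGroup M] [AddCommGroup N]
  (P : RootPairing idx ℤ M N) (b : P.Base)

/-- The set of inversions of a permutation of the roots. -/
def Inv (u : Equiv.Perm idx) : Set idx :=
  {a | a ∈ RedSub.posRoots P b ∧ u a ∈ RedSub.negRoots P b}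

/-- Compatibility of a permutation of the roots with passing to the opposite root. -/
def NegCompat (u : Equiv.Perm idx) : Prop :=
  ∀ x, u (P.reflectionPerm x x) = P.reflectionPerm (u x) (u x)

theorem root_neg (x : idx) : P.root (P.reflectionPerm x x) = -P.root x :=
  Groth.Agent.Lib.RootDBasic.root_reflectionPerm_self P x

theorem neg_neg_idx (x : idx) : P.reflectionPerm (P.reflectionPerm x x) (P.reflectionPerm x x) = x :=
  Groth.Agent.Lib.RootDWord.reflectionPerm_reflectionPerm_self P x

theorem neg_mem_neg_iff (x : idx) :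
    P.reflectionPerm x x ∈ RedSub.negRoots P b ↔ x ∈ RedSub.posRoots P b := by
  show -P.root (P.reflectionPerm x x) ∈ AddSubmonoid.closure (P.root '' (b.support : Set idx)) ↔
    P.root x ∈ AddSubmonoid.closure (P.root '' (b.support : Set idx))
  rw [root_neg, neg_neg]

theorem neg_mem_pos_iff (x : idx) :
    P.reflectionPerm x x ∈ RedSub.posRoots P b ↔ x ∈ RedSub.negRoots P b := by
  show P.root (P.reflectionPerm x x) ∈ AddSubmonoid.closure (P.root '' (b.support : Set idx)) ↔
    -P.root x ∈ AddSubmonoid.closure (P.root '' (b.support : Set idx))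
  rw [root_neg]

theorem pos_or_neg (x : idx) : x ∈ RedSub.posRoots P b ∨ x ∈ RedSub.negRoots P b :=
  b.root_mem_or_neg_mem x

theorem negCompat_one : NegCompat P (1 : Equiv.Perm idx) := fun _ => rfl

theorem negCompat_reflectionPerm (a : idx) : NegCompat P (P.reflectionPerm a) := by
  intro x
  apply P.root.injective
  rw [P.root_reflectionPerm, root_neg, root_neg, P.root_reflectionPerm, map_neg]

theorem NegCompat.mul {u v : Equiv.Perm idx} (hu : NegCompat P u) (hv : NegCompat P v) :
    NegCompat P (u * v) := by
  intro x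
  rw [Equiv.Perm.mul_apply, Equiv.Perm.mul_apply, hv, hu]

theorem NegCompat.inv {u : Equiv.Perm idx} (hu : NegCompat P u) : NegCompat P u⁻¹ := by
  intro x
  apply u.injective
  have h1 : ∀ y, u (u⁻¹ y) = y := fun y => u.apply_symm_apply y
  rw [h1, hu, h1]

theorem negCompat_wordPerm (l : List idx) : NegCompat P (RedSub.wordPerm P l) := by
  induction l with
  | nil => exact negCompat_one P
  | cons a l ih =>
    rw [wordPerm_cons]
    exact (negCompat_reflectionPerm P a).mul P ih

theorem wordPerm_append (l m : List idx) :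
    RedSub.wordPerm P (l ++ m) = RedSub.wordPerm P l * RedSub.wordPerm P m := by
  simp [RedSub.wordPerm]

theorem wordPerm_singleton (a : idx) : RedSub.wordPerm P [a] = P.reflectionPerm a := by
  simp [RedSub.wordPerm]

end

section Count
variable {idx M N : Type} [AddCommGroup M] [AddCommGroup N] [Finite idx]
  (P : RootPairing idx ℤ M N) (b : P.Base)

theorem not_pos_of_neg {x : idx} (hx : x ∈ RedSub.negRoots P b) : x ∉ RedSub.posRoots P b :=
  fun h => not_pos_and_neg P b x h hx

omit [Finite idx] in
theorem simple_mem_pos {a : idx} (ha : a ∈ b.support) : a ∈ RedSub.posRoots P b :=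
  AddSubmonoid.subset_closure ⟨a, ha, rfl⟩

theorem simple_refl_ne {a x : idx} (ha : a ∈ b.support) (hx : x ∈ RedSub.posRoots P b) :
    P.reflectionPerm a x ≠ a := by
  intro h
  have h2 : x = P.reflectionPerm a a := by
    have := P.reflectionPerm_self a x
    rw [h] at this
    exact this.symm
  have : x ∈ RedSub.negRoots P b := by
    rw [h2, neg_mem_neg_iff]
    exact simple_mem_pos P b ha
  exact not_pos_of_neg P b this hx

theorem inv_diff_eq (u : Equiv.Perm idx) (a : idx) (ha : a ∈ b.support) :
    Inv P b (u * P.reflectionPerm a) \ {a} = (P.reflectionPerm a) '' (Inv P b u \ {a}) := by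
  ext x
  constructor
  · rintro ⟨⟨hxpos, hux⟩, hxa⟩
    refine ⟨P.reflectionPerm a x, ⟨⟨simple_refl_pos P b a ha x hxpos hxa, hux⟩,
      simple_refl_ne P b ha hxpos⟩, P.reflectionPerm_self a x⟩
  · rintro ⟨y, ⟨⟨hypos, huy⟩, hya⟩, rfl⟩
    refine ⟨⟨simple_refl_pos P b a ha y hypos hya, ?_⟩, simple_refl_ne P b ha hypos⟩
    show u (P.reflectionPerm a (P.reflectionPerm a y)) ∈ _
    rw [P.reflectionPerm_self]
    exact huy

theorem ncard_inv_mul_simple (u : Equiv.Perm idx) (hu : NegCompat P u) (a : idx)
    (ha : a ∈ b.support) :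
    (u a ∈ RedSub.posRoots P b →
      (Inv P b (u * P.reflectionPerm a)).ncard = (Inv P b u).ncard + 1) ∧
    (u a ∈ RedSub.negRoots P b →
      (Inv P b (u * P.reflectionPerm a)).ncard + 1 = (Inv P b u).ncard) := by
  have hmem : a ∈ Inv P b (u * P.reflectionPerm a) ↔ u a ∈ RedSub.posRoots P b := by
    constructor
    · rintro ⟨-, h⟩
      have h' : u (P.reflectionPerm a a) ∈ RedSub.negRoots P b := h
      rw [hu, neg_mem_neg_iff] at h'
      exact h'
    · intro h
      refine ⟨simple_mem_pos P b ha, ?_⟩
      show u (P.reflectionPerm a a) ∈ RedSub.negRoots P b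
      rw [hu, neg_mem_neg_iff]
      exact h
  have hmem' : a ∈ Inv P b u ↔ u a ∈ RedSub.negRoots P b :=
    ⟨fun h => h.2, fun h => ⟨simple_mem_pos P b ha, h⟩⟩
  have hcard : (Inv P b (u * P.reflectionPerm a) \ {a}).ncard = (Inv P b u \ {a}).ncard := by
    rw [inv_diff_eq P b u a ha, Set.ncard_image_of_injective _ (P.reflectionPerm a).injective]
  constructor
  · intro h
    have h1 : a ∈ Inv P b (u * P.reflectionPerm a) := hmem.mpr h
    have h2 : a ∉ Inv P b u := fun h' => not_pos_of_neg P b (hmem'.mp h') h
    rw [← Set.ncard_sdiff_singleton_add_one h1 (Set.toFinite _), hcard,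
      Set.sdiff_singleton_eq_self h2]
  · intro h
    have h1 : a ∉ Inv P b (u * P.reflectionPerm a) := fun h' => not_pos_of_neg P b h (hmem.mp h')
    have h2 : a ∈ Inv P b u := hmem'.mpr h
    rw [← Set.ncard_sdiff_singleton_add_one h2 (Set.toFinite _), ← hcard,
      Set.sdiff_singleton_eq_self h1]

theorem inv_one : Inv P b (1 : Equiv.Perm idx) = ∅ := by
  ext x
  simp only [Inv, Set.mem_ofPred_eq, Set.mem_empty_iff_false, iff_false, not_and]
  intro hx hx'
  exact not_pos_of_neg P b hx' hx

theorem ncard_inv_le (l : List idx) (hl : ∀ a ∈ l, a ∈ b.support) :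
    (Inv P b (RedSub.wordPerm P l)).ncard ≤ l.length := by
  induction l using List.reverseRecOn with
  | nil =>
    rw [wordPerm_nil, inv_one]
    simp
  | append_singleton m a ih =>
    have hm : ∀ x ∈ m, x ∈ b.support := fun x hx => hl x (List.mem_append_left _ hx)
    have ha : a ∈ b.support := hl a (List.mem_append_right _ (List.mem_singleton_self a))
    have := ih hm
    obtain ⟨h1, h2⟩ := ncard_inv_mul_simple P b (RedSub.wordPerm P m) (negCompat_wordPerm P m) a ha
    rw [wordPerm_append, wordPerm_singleton, List.length_append, List.length_singleton]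
    rcases pos_or_neg P b (RedSub.wordPerm P m a) with h | h
    · rw [h1 h]
      omega
    · have := h2 h
      omega

omit [Finite idx] in
theorem wprod_smul (l : List idx) (x : idx) :
    Groth.Agent.S2953.wprod P l • x = RedSub.wordPerm P l x := by
  induction l generalizing x with
  | nil => rfl
  | cons a l ih =>
    rw [Groth.Agent.S2953.wprod_cons, mul_smul, ih, wordPerm_cons]
    rfl

omit [Finite idx] in
theorem wordPerm_eq_of_wprod_eq {l l' : List idx}
    (h : Groth.Agent.S2953.wprod P l' = Groth.Agent.S2953.wprod P l) :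
    RedSub.wordPerm P l' = RedSub.wordPerm P l := by
  ext x
  rw [← wprod_smul, ← wprod_smul, h]

theorem ncard_inv_eq_of_reduced (l : List idx) (hl : ∀ a ∈ l, a ∈ b.support)
    (hred : ∀ l' : List idx, (∀ a ∈ l', a ∈ b.support) →
      RedSub.wordPerm P l' = RedSub.wordPerm P l → l.length ≤ l'.length) :
    (Inv P b (RedSub.wordPerm P l)).ncard = l.length := by
  induction l using List.reverseRecOn with
  | nil =>
    rw [wordPerm_nil, inv_one]
    simp
  | append_singleton m a ih =>
    have hm : ∀ x ∈ m, x ∈ b.support := fun x hx => hl x (List.mem_append_left _ hx)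
    have ha : a ∈ b.support := hl a (List.mem_append_right _ (List.mem_singleton_self a))
    have hredm : ∀ l' : List idx, (∀ a ∈ l', a ∈ b.support) →
        RedSub.wordPerm P l' = RedSub.wordPerm P m → m.length ≤ l'.length := by
      intro l' hl' h
      have h1 := hred (l' ++ [a]) (by
        intro x hx
        rcases List.mem_append.mp hx with h | h
        · exact hl' x h
        · rw [List.mem_singleton.mp h]; exact ha) (by rw [wordPerm_append, wordPerm_append, h])
      simp only [List.length_append, List.length_singleton] at h1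
      omega
    have hΔ : IsSimpleSys P (b.support : Set idx) :=
      Groth.Agent.Lib.RootDBase58.isSimpleSys_support P b
    have hpos : RedSub.wordPerm P m a ∈ RedSub.posRoots P b := by
      have := Groth.Agent.Lib.RootDWord.pos_of_minimal P hΔ m a hm ha (by
        intro l' hl' h
        exact hred l' hl' (wordPerm_eq_of_wprod_eq P h))
      rw [wprod_smul] at this
      exact this
    obtain ⟨h1, -⟩ := ncard_inv_mul_simple P b (RedSub.wordPerm P m) (negCompat_wordPerm P m) a ha
    rw [wordPerm_append, wordPerm_singleton, List.length_append, List.length_singleton, h1 hpos,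
      ih hm hredm]

omit [Finite idx] in
theorem exists_reduced (l : List idx) (hl : ∀ a ∈ l, a ∈ b.support) :
    ∃ l₀ : List idx, (∀ a ∈ l₀, a ∈ b.support) ∧ RedSub.wordPerm P l₀ = RedSub.wordPerm P l ∧
      ∀ l' : List idx, (∀ a ∈ l', a ∈ b.support) →
        RedSub.wordPerm P l' = RedSub.wordPerm P l₀ → l₀.length ≤ l'.length := by
  classical
  have hex : ∃ n : ℕ, ∃ l' : List idx, (∀ a ∈ l', a ∈ b.support) ∧
      RedSub.wordPerm P l' = RedSub.wordPerm P l ∧ l'.length = n := ⟨l.length, l, hl, rfl, rfl⟩
  obtain ⟨l₀, hl₀, hw, hlen⟩ := Nat.find_spec hex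
  refine ⟨l₀, hl₀, hw, fun l' hl' h => ?_⟩
  rw [hlen]
  exact Nat.find_min' hex ⟨l', hl', h.trans hw, rfl⟩

theorem exists_simple_word (l : List idx) :
    ∃ l' : List idx, (∀ a ∈ l', a ∈ b.support) ∧ RedSub.wordPerm P l' = RedSub.wordPerm P l := by
  have hΔ : IsSimpleSys P (b.support : Set idx) :=
    Groth.Agent.Lib.RootDBase58.isSimpleSys_support P b
  obtain ⟨l', hl', h⟩ := Groth.Agent.Lib.RootDWord.exists_list_of_mem P hΔ
    (Groth.Agent.S2953.wprod P l) (Groth.Agent.Lib.RootDWord.wprod_mem_weylGroup P l)
  exact ⟨l', hl', wordPerm_eq_of_wprod_eq P h⟩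

/-- If `w⁻¹ c` is negative then `σ_c w` has fewer inversions than `w`. -/
theorem part1 (l : List idx) (c : idx) (hc : c ∈ RedSub.posRoots P b)
    (hneg : (RedSub.wordPerm P l)⁻¹ c ∈ RedSub.negRoots P b) :
    (Inv P b (P.reflectionPerm c * RedSub.wordPerm P l)).ncard <
      (Inv P b (RedSub.wordPerm P l)).ncard := by
  obtain ⟨l₁, hl₁, hw₁⟩ := exists_simple_word P b l
  obtain ⟨l₀, hl₀, hw₀, hred⟩ := exists_reduced P b l₁ hl₁
  rw [← hw₁, ← hw₀] at hneg ⊢
  obtain ⟨i, hi, hi'⟩ := key P b l₀ hl₀ c hc hneg
  have hsplit : RedSub.wordPerm P l₀ =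
      RedSub.wordPerm P (l₀.take (i + 1)) * RedSub.wordPerm P (l₀.drop (i + 1)) := by
    rw [← wordPerm_append, List.take_append_drop]
  have h2 : P.reflectionPerm c * RedSub.wordPerm P l₀ =
      RedSub.wordPerm P (l₀.take i ++ l₀.drop (i + 1)) := by
    rw [hsplit, ← mul_assoc, hi', wordPerm_append]
  rw [h2, ncard_inv_eq_of_reduced P b l₀ hl₀ hred]
  have h3 := ncard_inv_le P b (l₀.take i ++ l₀.drop (i + 1)) (by
    intro x hx
    rcases List.mem_append.mp hx with h | h
    · exact hl₀ x (List.mem_of_mem_take h)
    · exact hl₀ x (List.mem_of_mem_drop h))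
  have h4 : (l₀.take i ++ l₀.drop (i + 1)).length < l₀.length := by
    rw [List.length_append, List.length_take, List.length_drop]
    omega
  omega

end Count

/-- Let Φ be a finite reduced root system (a reduced root pairing over ℤ on a finite index set) with a
base b, w an element of its Weyl group, given as the product of the reflections along a word l and
acting on the roots, and γ a positive root. Writing ℓ(u) for the number of positive roots a with
u(a) negative, one has ℓ(w) < ℓ(σ_γ w) if and only if w⁻¹(γ) is positive. (Here the length is taken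
as the number of inverted positive roots.) -/
theorem result {idx M N : Type}
    [AddCommGroup M] [AddCommGroup N] [Finite idx]
    (P : RootPairing idx ℤ M N) [P.IsReduced] (b : P.Base) (l : List idx) (c : idx)
    (hc : c ∈ RedSub.posRoots P b) :
    Set.ncard {a : idx | a ∈ RedSub.posRoots P b ∧ RedSub.wordPerm P l a ∈ RedSub.negRoots P b} <
        Set.ncard {a : idx | a ∈ RedSub.posRoots P b ∧
          (P.reflectionPerm c * RedSub.wordPerm P l) a ∈ RedSub.negRoots P b} ↔
      (RedSub.wordPerm P l)⁻¹ c ∈ RedSub.posRoots P b := by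
  constructor
  · intro h
    rcases Groth.Agent.S15245.pos_or_neg P b ((RedSub.wordPerm P l)⁻¹ c) with h' | h'
    · exact h'
    · exfalso
      have := Groth.Agent.S15245.part1 P b l c hc h'
      exact absurd h (not_lt.mpr this.le)
  · intro h
    have hneg : (RedSub.wordPerm P (c :: l))⁻¹ c ∈ RedSub.negRoots P b := by
      rw [Groth.Agent.S19548.wordPerm_cons, mul_inv_rev, Equiv.Perm.mul_apply]
      have h1 : (P.reflectionPerm c)⁻¹ c = P.reflectionPerm c c := by
        rw [Equiv.Perm.inv_def, P.reflectionPerm_symm]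
      rw [h1, (Groth.Agent.S15245.negCompat_wordPerm P l).inv,
        Groth.Agent.S15245.neg_mem_neg_iff]
      exact h
    have := Groth.Agent.S15245.part1 P b (c :: l) c hc hneg
    rw [Groth.Agent.S19548.wordPerm_cons, ← mul_assoc,
      Groth.Agent.S19548.reflectionPerm_mul_self, one_mul] at this
    exact this

end Groth.Agent.S15245
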