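import Groth.Statements.S15259
import Groth.Agent.Lib.EssFiniteTypeLocal

set_option autoImplicit false
universe u
open CategoryTheory CategoryTheory.Limits AlgebraicGeometry TopologicalSpace
open W4c2seshadripos

namespace Groth.Agent.S15259

/-- Call f : X → Y locally essentially of finite type when Y has a cover by affine opens U = Spec A such
that each f⁻¹(U) has a cover by affine opens Spec B with A → B essentially of finite type (a
localization of a finite-type A-algebra; Mathlib's RingHom.EssFiniteType), and essentially of finite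
type when moreover f is quasi-compact. Then f is essentially of finite type exactly when every
affine open U = Spec A of Y has f⁻¹(U) covered by finitely many affine opens V = Spec B of X with A
→ B essentially of finite type. -/
theorem result {X Y : Scheme.{u}} (f : X ⟶ Y) :
    ((∃ S : Set Y.affineOpens, (⋃ U ∈ S, ((U : Y.Opens) : Set ↥Y)) = Set.univ ∧
      ∀ U ∈ S, ∃ T : Set X.affineOpens, (⋃ V ∈ T, ((V : X.Opens) : Set ↥X)) = ((f ⁻¹ᵁ (U : Y.Opens)) : Set ↥X) ∧
        ∀ V ∈ T, ∃ e : (V : X.Opens) ≤ f ⁻¹ᵁ (U : Y.Opens), (f.appLE (U : Y.Opens) (V : X.Opens) e).hom.EssFiniteType) ∧ QuasiCompact f) ↔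
    ∀ U : Y.affineOpens, ∃ T : Set X.affineOpens, T.Finite ∧ (⋃ V ∈ T, ((V : X.Opens) : Set ↥X)) = ((f ⁻¹ᵁ (U : Y.Opens)) : Set ↥X) ∧
        ∀ V ∈ T, ∃ e : (V : X.Opens) ≤ f ⁻¹ᵁ (U : Y.Opens), (f.appLE (U : Y.Opens) (V : X.Opens) e).hom.EssFiniteType := by
  constructor
  · rintro ⟨h, hqc⟩ U
    have hcov := Groth.Agent.Lib.EssFiniteTypeLocal.good_cover_of_exists f h U
    have hc : IsCompact ((f ⁻¹ᵁ (U : Y.Opens)) : Set ↥X) :=
      (quasiCompact_iff_forall_isAffineOpen (f := f)).1 hqc U U.2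
    obtain ⟨T', hT'sub, hT'fin, hT'cov⟩ := hc.elim_finite_subcover_image
      (b := {V : X.affineOpens | ∃ e : (V : X.Opens) ≤ f ⁻¹ᵁ (U : Y.Opens),
        (f.appLE (U : Y.Opens) (V : X.Opens) e).hom.EssFiniteType})
      (c := fun V : X.affineOpens => ((V : X.Opens) : Set ↥X))
      (fun V _ => (V : X.Opens).isOpen) hcov.ge
    refine ⟨T', hT'fin, Set.Subset.antisymm ?_ hT'cov, fun V hV => hT'sub hV⟩
    intro x hx
    simp only [Set.mem_iUnion] at hx
    obtain ⟨V, hVT', hxV⟩ := hx
    obtain ⟨e, -⟩ := hT'sub hVT'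
    exact e hxV
  · intro h
    refine ⟨⟨Set.univ, Groth.Agent.Lib.EssFiniteTypeLocal.iUnion_affineOpens_univ Y, fun U _ => ?_⟩, ?_⟩
    · obtain ⟨T, -, hT⟩ := h U
      exact ⟨T, hT⟩
    · rw [quasiCompact_iff_forall_isAffineOpen]
      intro U hU
      obtain ⟨T, hTfin, hTcov, -⟩ := h ⟨U, hU⟩
      have : IsCompact (⋃ V ∈ T, ((V : X.Opens) : Set ↥X)) :=
        hTfin.isCompact_biUnion (fun V _ => V.2.isCompact)
      rw [hTcov] at this
      exact this

end Groth.Agent.S15259
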