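import Groth.Statements.S15261
import Mathlib.AlgebraicGeometry.Morphisms.Flat

set_option autoImplicit false
universe u
open CategoryTheory CategoryTheory.Limits AlgebraicGeometry TopologicalSpace
open W4c2seshadripos

namespace Groth.Agent.S15261

/-- Say a morphism of schemes h : S → T is locally essentially of finite type when for every affine open
U = Spec A of T the preimage h⁻¹(U) is covered by affine opens V = Spec B of S with A → B
essentially of finite type (the every-affine-open form of the notion). If f : X → Y is locally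
essentially of finite type and g : Y' → Y is any morphism of schemes, then the base change X ×_Y Y'
→ Y' is locally essentially of finite type. (The quasi-compact variant, essentially of finite type,
follows since quasi-compactness is stable under base change.) -/
theorem result {X Y Y' : Scheme.{u}} (f : X ⟶ Y) (g : Y' ⟶ Y)
    (hf : ∀ U : Y.affineOpens, ∃ T : Set X.affineOpens, (⋃ V ∈ T, ((V : X.Opens) : Set ↥X)) = ((f ⁻¹ᵁ (U : Y.Opens)) : Set ↥X) ∧
        ∀ V ∈ T, ∃ e : (V : X.Opens) ≤ f ⁻¹ᵁ (U : Y.Opens), (f.appLE (U : Y.Opens) (V : X.Opens) e).hom.EssFiniteType)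
    (U : Y'.affineOpens) :
    ∃ T : Set (pullback f g).affineOpens, (⋃ V ∈ T, ((V : (pullback f g).Opens) : Set ↥(pullback f g))) = (((pullback.snd f g) ⁻¹ᵁ (U : Y'.Opens)) : Set ↥(pullback f g)) ∧
        ∀ V ∈ T, ∃ e : (V : (pullback f g).Opens) ≤ (pullback.snd f g) ⁻¹ᵁ (U : Y'.Opens), ((pullback.snd f g).appLE (U : Y'.Opens) (V : (pullback f g).Opens) e).hom.EssFiniteType := by
  have key : ∀ z : ↥(pullback f g), z ∈ ((pullback.snd f g) ⁻¹ᵁ (U : Y'.Opens)) →
      ∃ W : (pullback f g).affineOpens, z ∈ (W : (pullback f g).Opens) ∧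
        ∃ e : (W : (pullback f g).Opens) ≤ (pullback.snd f g) ⁻¹ᵁ (U : Y'.Opens),
          ((pullback.snd f g).appLE (U : Y'.Opens) (W : (pullback f g).Opens) e).hom.EssFiniteType := by
    intro z hz
    have hxy : f ((pullback.fst f g) z) = g ((pullback.snd f g) z) := by
      rw [← Scheme.Hom.comp_apply, ← Scheme.Hom.comp_apply, pullback.condition]
    obtain ⟨_, ⟨U0, hU0, rfl⟩, hxU0, -⟩ :=
      Y.isBasis_affineOpens.exists_subset_of_mem_open
        (Set.mem_univ (f ((pullback.fst f g) z))) isOpen_univ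
    obtain ⟨Tf, hTf, hTf'⟩ := hf ⟨U0, hU0⟩
    have hx1 : (pullback.fst f g) z ∈ ⋃ V ∈ Tf, ((V : X.Opens) : Set ↥X) := by
      rw [hTf]
      exact hxU0
    obtain ⟨V, hV, hxV⟩ := Set.mem_iUnion₂.1 hx1
    obtain ⟨eV, hVeft⟩ := hTf' V hV
    have hy'U0 : (pullback.snd f g) z ∈ g ⁻¹ᵁ U0 := by
      change g ((pullback.snd f g) z) ∈ U0
      rw [← hxy]
      exact hxU0
    obtain ⟨h, hhle, hy'h⟩ := U.2.exists_basicOpen_le
      (V := (U : Y'.Opens) ⊓ g ⁻¹ᵁ U0) ⟨(pullback.snd f g) z, ⟨hz, hy'U0⟩⟩ hz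
    have hU'' : IsAffineOpen (Y'.basicOpen h) := U.2.basicOpen h
    have hU''U : Y'.basicOpen h ≤ (U : Y'.Opens) := Y'.basicOpen_le h
    have hU''g : Y'.basicOpen h ≤ g ⁻¹ᵁ U0 := hhle.trans inf_le_right
    have H : IsPullback (pullback.fst f g) (pullback.snd f g) f g := IsPullback.of_hasPullback f g
    have hiso := isIso_pushoutSection_of_isAffineOpen H hU''g eV
      (UY := pullback.fst f g ⁻¹ᵁ (V : X.Opens) ⊓ pullback.snd f g ⁻¹ᵁ Y'.basicOpen h) rfl hU0 hU'' V.2
    have hpo := (isIso_pushoutSection_iff H hU''g eV rfl).1 hiso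
    have hW : IsAffineOpen
        (pullback.fst f g ⁻¹ᵁ (V : X.Opens) ⊓ pullback.snd f g ⁻¹ᵁ Y'.basicOpen h) := by
      have : IsAffine (U0 : Scheme.{u}) := hU0
      have : IsAffine ((Y'.basicOpen h : Y'.Opens) : Scheme.{u}) := hU''
      have : IsAffine ((V : X.Opens) : Scheme.{u}) := V.2
      exact .of_isIso (Scheme.Hom.isPullback_resLE H hU''g eV rfl).isoPullback.hom
    refine ⟨⟨_, hW⟩, ⟨hxV, hy'h⟩, inf_le_right.trans ((pullback.snd f g).preimage_mono hU''U), ?_⟩
    have hcomp : (pullback.snd f g).appLE (U : Y'.Opens)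
        (pullback.fst f g ⁻¹ᵁ (V : X.Opens) ⊓ pullback.snd f g ⁻¹ᵁ Y'.basicOpen h)
        (inf_le_right.trans ((pullback.snd f g).preimage_mono hU''U)) =
        Y'.presheaf.map (homOfLE hU''U).op ≫ (pullback.snd f g).appLE (Y'.basicOpen h)
          (pullback.fst f g ⁻¹ᵁ (V : X.Opens) ⊓ pullback.snd f g ⁻¹ᵁ Y'.basicOpen h) inf_le_right := by
      rw [Scheme.Hom.map_appLE]
    change ((pullback.snd f g).appLE (U : Y'.Opens)
        (pullback.fst f g ⁻¹ᵁ (V : X.Opens) ⊓ pullback.snd f g ⁻¹ᵁ Y'.basicOpen h) _).hom.EssFiniteType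
    rw [hcomp, CommRingCat.hom_comp]
    refine RingHom.EssFiniteType.comp ?_ ?_
    · have hloc := U.2.isLocalization_of_eq_basicOpen h (homOfLE hU''U) rfl
      unfold RingHom.EssFiniteType
      let := (Y'.presheaf.map (homOfLE hU''U).op).hom.toAlgebra
      exact Algebra.EssFiniteType.of_isLocalization _ (Submonoid.powers h)
    · have hstab : (RingHom.toMorphismProperty @RingHom.EssFiniteType).IsStableUnderCobaseChange :=
        RingHom.isStableUnderCobaseChange_toMorphismProperty_iff.2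
          RingHom.EssFiniteType.isStableUnderBaseChange
      exact hstab.of_isPushout hpo.flip hVeft
  choose W hzW heW hW using key
  refine ⟨Set.range fun z : { z : ↥(pullback f g) // z ∈ ((pullback.snd f g) ⁻¹ᵁ (U : Y'.Opens)) } =>
    W z.1 z.2, ?_, ?_⟩
  · ext z
    constructor
    · intro hz
      obtain ⟨V, ⟨z', rfl⟩, hzV⟩ := Set.mem_iUnion₂.1 hz
      exact heW z'.1 z'.2 hzV
    · intro hz
      exact Set.mem_iUnion₂.2 ⟨W z hz, ⟨⟨z, hz⟩, rfl⟩, hzW z hz⟩
  · rintro _ ⟨z', rfl⟩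
    exact ⟨heW z'.1 z'.2, hW z'.1 z'.2⟩

end Groth.Agent.S15261
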