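import Groth.Statements.S15267
import Groth.Agent.S0002
import Groth.Agent.Lib.StabGeomAxB67
import Groth.Agent.Lib.JHSub97f
import Groth.Agent.Lib.JHSub97g
import Groth.Agent.Lib.SupportPullback
import Groth.Agent.Lib.HilbPos48c
import Groth.Agent.Lib.H43GVDim
import Groth.Agent.Lib.ModStalk
import Mathlib
-- import your own Groth.Agent.* helpers here

set_option autoImplicit false
open CategoryTheory CategoryTheory.Limits AlgebraicGeometry
open Coherent

namespace Groth.Agent.S15267

/-- Over the complex numbers, let X be an irreducible proper scheme of dimension d with an ample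
invertible sheaf L, and let ξ be a complex point of X. Let E and F be coherent sheaves on X which
are semistable of dimension d with respect to L (nonzero, pure of dimension d, and the reduced
Hilbert polynomial of every nonzero proper coherent subsheaf is at most that of the sheaf for large
arguments), with the same reduced Hilbert polynomial (r(F)·p_E = r(E)·p_F for Hilbert polynomials
p_E, p_F, r denoting d! times the degree-d coefficient), and suppose that each of E and F has a
filtration by coherent subsheaves with stable d-dimensional successive quotients of the same reduced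
Hilbert polynomial whose associated graded sheaf (the direct sum of the quotients) is finite locally
free on some open neighbourhood of ξ. Then every morphism f from E to F whose pull-back along ξ is
the zero map is zero. (The published statement is for modules over a sheaf of rings of differential
operators on a projective flat family X over S with irreducible fibres of dimension d and a section
ξ, the conditions being imposed on all closed fibres; this row is the case of the structure sheaf
over a single complex fibre, to which the published proof reduces.) -/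
theorem result
    (X : Scheme.{0}) [X.Over (Spec (CommRingCat.of ℂ))] [IsProper (X ↘ Spec (CommRingCat.of ℂ))]
    [IrreducibleSpace X] (d : ℕ) (hX : topologicalKrullDim X = (d : WithBot ℕ∞))
    (L : X.Modules) (hL : CohB1.IsAmple L)
    (E F : X.Modules) (hE : ShStab.IsSemistable ℂ X L E d) (hF : ShStab.IsSemistable ℂ X L F d)
    (pE pF : Polynomial ℚ) (hpE : ShStab.IsHilbPoly ℂ X L E pE) (hpF : ShStab.IsHilbPoly ℂ X L F pF)
    (hred : StabCat.RedEq d pE pF)
    (ξ : Spec (CommRingCat.of ℂ) ⟶ X) (hξ : ξ ≫ (X ↘ Spec (CommRingCat.of ℂ)) = 𝟙 (Spec (CommRingCat.of ℂ)))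
    (sE : LTSeries (Subobject E)) (hsE : ShStab.IsJHFiltration ℂ X L E d sE)
    (hgrE : ∀ x ∈ Set.range ξ.base, ∃ U : X.Opens, x ∈ U ∧ FlatMod.IsFinLocFree ((StabCat.grObj sE).restrict U.ι))
    (sF : LTSeries (Subobject F)) (hsF : ShStab.IsJHFiltration ℂ X L F d sF)
    (hgrF : ∀ x ∈ Set.range ξ.base, ∃ U : X.Opens, x ∈ U ∧ FlatMod.IsFinLocFree ((StabCat.grObj sF).restrict U.ι))
    (f : E ⟶ F) (hf : (Scheme.Modules.pullback ξ).map f = 0) : f = 0 := by
  by_contra hne
  let A := Groth.Agent.Lib.StabGeomAxB67.geomAx (fun A _ _ X _ _ M hM n => Groth.Agent.S0002.result A X M hM n) ℂ X L hL d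
  obtain ⟨hIc, hI0, pI, hpI, hredI⟩ := Groth.Agent.Lib.JHSub97.redEq_image A hE hF hpE hpF hred f hne
  obtain ⟨-, ⟨sQ, hJQ, hfQ⟩⟩ :=
    Groth.Agent.Lib.JHSub97.exists_jh_sub_quot A hF sF hsF (Abelian.image.ι f) hIc hpI hpF hredI
  have hflat : ∀ y : ↥(Spec (CommRingCat.of ℂ)),
      FlatMod.IsFlatAt (cokernel (Abelian.image.ι f)) (ξ.base y) := by
    intro y
    have hx : ξ.base y ∈ Set.range ξ.base := ⟨y, rfl⟩
    obtain ⟨U, hxU, hU⟩ := hgrF _ hx
    refine Groth.Agent.Lib.JHSub97.isFlatAt_of_filtration sQ hJQ.1 hJQ.2.1 _ (fun i => ?_)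
    obtain ⟨j, ⟨e⟩⟩ := hfQ i
    exact Groth.Agent.Lib.JHSub97.isFlatAt_of_iso e.symm _
      (Groth.Agent.Lib.JHSub97.isFlatAt_of_restrict_isFinLocFree _ U _ hxU
        (Groth.Agent.Lib.JHSub97.isFinLocFree_restrict_of_coprod _ U hU j))
  have hmono : Mono ((Scheme.Modules.pullback ξ).map (Abelian.image.ι f)) :=
    Groth.Agent.Lib.JHSub97.mono_pullback_of_isFlatAt_cokernel ξ (Abelian.image.ι f) hflat
  have hepi : Epi ((Scheme.Modules.pullback ξ).map (Abelian.factorThruImage f)) := inferInstance
  have h0 : (Scheme.Modules.pullback ξ).map (Abelian.image.ι f) = 0 := by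
    rw [← cancel_epi ((Scheme.Modules.pullback ξ).map (Abelian.factorThruImage f)),
      ← Functor.map_comp, Abelian.image.fac, hf, Limits.comp_zero]
  have hz : IsZero ((Scheme.Modules.pullback ξ).obj (Abelian.image f)) :=
    IsZero.of_mono_eq_zero _ h0
  haveI : (Abelian.image f).IsQuasicoherent := hIc.1
  haveI : (Abelian.image f).IsFiniteType := hIc.2
  have hs := Groth.Agent.Lib.SupportPullback.support_pullback_eq_preimage ξ (Abelian.image f)
  rw [Groth.Agent.Lib.HilbPoly48.support_eq_empty_of_isZero hz] at hs
  obtain ⟨y⟩ : Nonempty ↥(Spec (CommRingCat.of ℂ)) := inferInstance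
  have hxs : ξ.base y ∉ CohB1.support (Abelian.image f) := fun hmem => by
    have h1 : y ∈ ξ.base ⁻¹' CohB1.support (Abelian.image f) := hmem
    rw [← hs] at h1; exact h1
  have hdimI : topologicalKrullDim (CohB1.support (Abelian.image f)) = (d : WithBot ℕ∞) :=
    hF.2.2.1 _ (Abelian.image.ι f) inferInstance hIc hI0
  have hcl : IsClosed (CohB1.support (Abelian.image f)) :=
    Groth.Agent.Lib.ModStalk.isClosed_support_of_isFiniteType _
  have hne' : CohB1.support (Abelian.image f) ≠ Set.univ := fun h => hxs (h ▸ Set.mem_univ _)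
  have h2 := Groth.Agent.Lib.H43GV.topologicalKrullDim_add_one_le_of_isClosed_ne_univ _ hcl hne'
  rw [hdimI, hX] at h2
  have h3 : ((d : ℕ∞) : WithBot ℕ∞) + 1 ≤ ((d : ℕ∞) : WithBot ℕ∞) := h2
  rw [← WithBot.coe_one, ← WithBot.coe_add, WithBot.coe_le_coe] at h3
  have h4 : ((d + 1 : ℕ) : ℕ∞) ≤ (d : ℕ∞) := by exact_mod_cast h3
  have h5 : d + 1 ≤ d := by exact_mod_cast h4
  omega

end Groth.Agent.S15267
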