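import Groth.Statements.S15285
import Mathlib
-- import your own Groth.Agent.* helpers here

set_option autoImplicit false
universe v v' u u'
open PicCat

namespace Groth.Agent.S15285

open CategoryTheory MonoidalCategory in
/-- Let C and D be Picard categories (monoidal groupoids in which tensoring on either side with any
object is an equivalence of categories) and F : C ⥤ D a lax monoidal functor. If F induces a
bijection on isomorphism classes of objects (it is essentially surjective, and F X ≅ F Y only when X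
≅ Y) and a bijection on endomorphisms of the unit object, then F is an equivalence of categories. -/
theorem result
    {C : Type u} [Category.{v} C] [MonoidalCategory C] [IsGroupoid C]
    {D : Type u'} [Category.{v'} D] [MonoidalCategory D] [IsGroupoid D]
    (hC : ∀ X : C, (tensorLeft X).IsEquivalence ∧ (tensorRight X).IsEquivalence)
    (hD : ∀ X : D, (tensorLeft X).IsEquivalence ∧ (tensorRight X).IsEquivalence)
    (F : C ⥤ D) [F.LaxMonoidal] [F.EssSurj]
    (h0 : ∀ X Y : C, Nonempty (F.obj X ≅ F.obj Y) → Nonempty (X ≅ Y))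
    (h1 : Function.Bijective (fun φ : 𝟙_ C ⟶ 𝟙_ C => F.map φ)) :
    F.IsEquivalence := by
  classical
  -- all morphisms are isomorphisms
  have isoC : ∀ {X Y : C} (f : X ⟶ Y), IsIso f := fun f => IsGroupoid.all_isIso f
  have isoD : ∀ {X Y : D} (f : X ⟶ Y), IsIso f := fun f => IsGroupoid.all_isIso f
  -- key: F is bijective on endomorphisms of every object
  have hEnd : ∀ X : C, Function.Bijective (fun e : X ⟶ X => F.map e) := by
    intro X
    have hCX : (tensorRight X).IsEquivalence := (hC X).2
    have hDX : (tensorRight (F.obj X)).IsEquivalence := (hD (F.obj X)).2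
    have _ := isoD (Functor.LaxMonoidal.μ F (𝟙_ C) X)
    -- α : End(𝟙) → End(X)
    let α : (𝟙_ C ⟶ 𝟙_ C) → (X ⟶ X) := fun a => (λ_ X).inv ≫ (a ▷ X) ≫ (λ_ X).hom
    have hα : Function.Bijective α := by
      constructor
      · intro a b hab
        have h1 : a ▷ X = b ▷ X := by
          have := congrArg (fun e => (λ_ X).hom ≫ e ≫ (λ_ X).inv) hab
          simpa [α] using this
        exact (tensorRight X).map_injective h1
      · intro e
        obtain ⟨a, ha⟩ := (tensorRight X).map_surjective ((λ_ X).hom ≫ e ≫ (λ_ X).inv)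
        refine ⟨a, ?_⟩
        have ha' : a ▷ X = (λ_ X).hom ≫ e ≫ (λ_ X).inv := ha
        simp [α, ha']
    let β : (F.obj (𝟙_ C) ⟶ F.obj (𝟙_ C)) → (F.obj X ⟶ F.obj X) := fun b =>
      inv (F.map (λ_ X).hom) ≫ inv (Functor.LaxMonoidal.μ F (𝟙_ C) X) ≫ (b ▷ F.obj X) ≫
        Functor.LaxMonoidal.μ F (𝟙_ C) X ≫ F.map (λ_ X).hom
    have hβ : Function.Bijective β := by
      constructor
      · intro a b hab
        have h1 : a ▷ F.obj X = b ▷ F.obj X := by
          have := congrArg (fun e => Functor.LaxMonoidal.μ F (𝟙_ C) X ≫ F.map (λ_ X).hom ≫ e ≫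
            inv (F.map (λ_ X).hom) ≫ inv (Functor.LaxMonoidal.μ F (𝟙_ C) X)) hab
          simpa [β] using this
        exact (tensorRight (F.obj X)).map_injective h1
      · intro e
        obtain ⟨b, hb⟩ := (tensorRight (F.obj X)).map_surjective
          (Functor.LaxMonoidal.μ F (𝟙_ C) X ≫ F.map (λ_ X).hom ≫ e ≫
            inv (F.map (λ_ X).hom) ≫ inv (Functor.LaxMonoidal.μ F (𝟙_ C) X))
        refine ⟨b, ?_⟩
        have hb' : b ▷ F.obj X = Functor.LaxMonoidal.μ F (𝟙_ C) X ≫ F.map (λ_ X).hom ≫ e ≫
            inv (F.map (λ_ X).hom) ≫ inv (Functor.LaxMonoidal.μ F (𝟙_ C) X) := hb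
        simp [β, hb']
    have hcomm : ∀ a : 𝟙_ C ⟶ 𝟙_ C, F.map (α a) = β (F.map a) := by
      intro a
      have hnat := Functor.LaxMonoidal.μ_natural_left F a X
      have hinv : inv (F.map (λ_ X).hom) = F.map (λ_ X).inv := by
        rw [← Functor.map_inv, IsIso.Iso.inv_hom]
      simp only [α, β, Functor.map_comp]
      rw [← Category.assoc (F.map a ▷ F.obj X), hnat, hinv]
      simp
    have hcomp : (fun e : X ⟶ X => F.map e) ∘ α = β ∘ (fun φ : 𝟙_ C ⟶ 𝟙_ C => F.map φ) := by
      funext a
      exact hcomm a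
    have h2 : Function.Bijective ((fun e : X ⟶ X => F.map e) ∘ α) := by
      rw [hcomp]
      exact hβ.comp h1
    exact (Function.Bijective.of_comp_iff _ hα).mp h2
  have hfaith : F.Faithful := by
    refine ⟨fun {X Y} f g hfg => ?_⟩
    have _ := isoC g
    have h1 : F.map (f ≫ inv g) = F.map (𝟙 X) := by
      rw [Functor.map_comp, hfg, ← Functor.map_comp, IsIso.hom_inv_id]
    have h2 := (hEnd X).1 h1
    have : f = (f ≫ inv g) ≫ g := by simp
    rw [this, h2, Category.id_comp]
  have hfull : F.Full := by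
    refine ⟨fun {X Y} h => ?_⟩
    have _ := isoD h
    obtain ⟨φ₀⟩ := h0 X Y ⟨asIso h⟩
    have _ := isoD (F.map φ₀.hom)
    obtain ⟨e, he⟩ := (hEnd X).2 (h ≫ inv (F.map φ₀.hom))
    refine ⟨e ≫ φ₀.hom, ?_⟩
    have he' : F.map e = h ≫ inv (F.map φ₀.hom) := he
    rw [Functor.map_comp, he']
    simp
  exact { faithful := hfaith, full := hfull, essSurj := inferInstance }

end Groth.Agent.S15285
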