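import Groth.Statements.S15295
import Mathlib
import Groth.Agent.Lib.H67ExtPowBC
import Groth.Agent.Lib.H79DeRhamGen
-- import your own Groth.Agent.* helpers here

set_option autoImplicit false
universe u
open DeRham

namespace Groth.Agent.S15295

open exteriorPower TensorProduct Groth.Agent.Lib.H67ExtPowBC

theorem map_bijective_of_equiv {B : Type u} [CommRing B] {N N' : Type u} [AddCommGroup N]
    [Module B N] [AddCommGroup N'] [Module B N'] (e : N ≃ₗ[B] N') (p : ℕ) :
    Function.Bijective (exteriorPower.map p e.toLinearMap) := by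
  refine Function.bijective_iff_has_inverse.mpr ⟨exteriorPower.map p e.symm.toLinearMap, ?_, ?_⟩
  · intro x
    rw [← LinearMap.comp_apply, ← exteriorPower.map_comp]
    simp
  · intro x
    rw [← LinearMap.comp_apply, ← exteriorPower.map_comp]
    simp


open exteriorPower TensorProduct in
/-- The de Rham complex commutes with base change. Let R → A and R → S be ring maps and B = S ⊗_R A (an
R-algebra over A and S with the pushout property), and let ψ be the induced map of de Rham complexes
from the p-forms of A over R to the p-forms of B over S (additive maps sending b₀ db₁ ∧ … ∧ db_p to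
g(b₀) d(g b₁) ∧ … ∧ d(g b_p), g : A → B the structure map). Then in each degree p the S-linear
extension S ⊗_R ⋀^p Ω_{A/R} → ⋀^p Ω_{B/S}, s ⊗ x ↦ s · ψ_p(x), is bijective. (This row states the
degreewise bijectivity, with the base change written S ⊗_R − rather than − ⊗_R S; the compatibility
of ψ with the differentials, which makes this an isomorphism of complexes, holds for any square of
ring maps.) -/
theorem result (R S A B : Type u) [CommRing R] [CommRing S] [CommRing A] [CommRing B]
    [Algebra R S] [Algebra R A] [Algebra R B] [Algebra A B] [Algebra S B]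
    [IsScalarTower R A B] [IsScalarTower R S B] [Algebra.IsPushout R S A B]
    (ψ : ∀ p : ℕ, ↥(⋀[A]^p (Ω[A⁄R])) →+ ↥(⋀[B]^p (Ω[B⁄S])))
    (hψ : DeRham.IsCxMap (KaehlerDifferential.D R A) (KaehlerDifferential.D S B) (algebraMap A B) ψ)
    (p : ℕ) (Φ : S ⊗[R] ↥(⋀[A]^p (Ω[A⁄R])) →+ ↥(⋀[B]^p (Ω[B⁄S])))
    (hΦ : ∀ (s : S) (x : ↥(⋀[A]^p (Ω[A⁄R]))), Φ (s ⊗ₜ[R] x) = s • ψ p x) :
    Function.Bijective Φ := by
  classical
  let e₁ := (Algebra.IsPushout.cancelBaseChange R S A B ↥(⋀[A]^p (Ω[A⁄R]))).symm
  let e₃ := KaehlerDifferential.tensorKaehlerEquiv R S A B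
  let T : S ⊗[R] ↥(⋀[A]^p (Ω[A⁄R])) → ↥(⋀[B]^p (Ω[B⁄S])) := fun z =>
    exteriorPower.map p e₃.toLinearMap (bcMap A B (Ω[A⁄R]) p (e₁ z))
  have hT : Function.Bijective T :=
    (map_bijective_of_equiv e₃ p).comp ((bcMap_bijective A B (Ω[A⁄R]) p).comp e₁.bijective)
  have hTadd : ∀ z w, T (z + w) = T z + T w := by
    intro z w
    simp only [T, map_add]
  have hΦT : ∀ z, Φ z = T z := by
    intro z
    induction z with
    | zero => simp [T]
    | add z w hz hw => rw [map_add, hTadd, hz, hw]
    | tmul s x =>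
      induction x using Groth.Agent.Lib.H79DeRhamGen.gen_induction_kaehler R A p with
      | h0 => simp [T]
      | hadd x y hx hy => rw [TensorProduct.tmul_add, map_add, hTadd, hx, hy]
      | hgen b₀ b =>
        rw [hΦ, hψ p b₀ b]
        simp only [T, e₁, Algebra.IsPushout.cancelBaseChange_symm_tmul, DeRham.gen]
        have h1 : (e₃.toLinearMap ∘ fun i => (1 : B) ⊗ₜ[A] (KaehlerDifferential.D R A) (b i)) =
            fun i => KaehlerDifferential.D S B (algebraMap A B (b i)) := by
          funext i
          simp [e₃]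
        rw [bcMap_tmul, map_smul (bcMapAux A B (Ω[A⁄R]) p) b₀, bcMapAux_ιMulti,
          ← algebraMap_smul B b₀ (ιMulti B p _), map_smul, map_smul,
          exteriorPower.map_apply_ιMulti, h1, algebraMap_smul B s]
  have : (Φ : S ⊗[R] ↥(⋀[A]^p (Ω[A⁄R])) → ↥(⋀[B]^p (Ω[B⁄S]))) = T := funext hΦT
  rw [this]
  exact hT

end Groth.Agent.S15295
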