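import Groth.Statements.S15296
import Mathlib
import Groth.Agent.Lib.H67ExtPow
-- import your own Groth.Agent.* helpers here

set_option autoImplicit false
universe u
open DeRham

namespace Groth.Agent.S15296

open exteriorPower Groth.Agent.Lib.H67ExtPow

section
variable {R A : Type u} [CommRing R] [CommRing A] [Algebra R A]

theorem comp_cons (n : ℕ) (e : A) (b : Fin n → A) :
    (fun i => KaehlerDifferential.D R A ((Fin.cons e b : Fin (n + 1) → A) i)) =
      (Fin.cons (KaehlerDifferential.D R A e) (fun i => KaehlerDifferential.D R A (b i)) :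
        Fin (n + 1) → Ω[A⁄R]) := by
  funext i
  refine Fin.cases ?_ (fun j => ?_) i <;> simp

/-- The key formula. -/
theorem coe_dA_formula
    (dA : ∀ p : ℕ, ↥(⋀[A]^p (Ω[A⁄R])) →ₗ[R] ↥(⋀[A]^(p + 1) (Ω[A⁄R])))
    (hdA : DeRham.IsRule (KaehlerDifferential.D R A) dA)
    (c : A →₀ A) (n : ℕ) (a : A) (b : Fin n → A) :
    ((dA (n + 1) (a • ιMulti A (n + 1)
        (Fin.cons (c.sum fun e r => r • KaehlerDifferential.D R A e)
          (fun i => KaehlerDifferential.D R A (b i)))) : ⋀[A]^(n + 1 + 1) (Ω[A⁄R])) :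
        ExteriorAlgebra A (Ω[A⁄R])) =
      (a • (c.sum fun e r => ExteriorAlgebra.ι A (KaehlerDifferential.D R A r) *
            ExteriorAlgebra.ι A (KaehlerDifferential.D R A e)) +
          ExteriorAlgebra.ι A (KaehlerDifferential.D R A a) *
            ExteriorAlgebra.ι A (c.sum fun e r => r • KaehlerDifferential.D R A e)) *
        ((ιMulti A n (fun i => KaehlerDifferential.D R A (b i)) : ⋀[A]^n (Ω[A⁄R])) :
          ExteriorAlgebra A (Ω[A⁄R])) := by
  set w : Fin n → Ω[A⁄R] := fun i => KaehlerDifferential.D R A (b i) with hw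
  have h1 : a • ιMulti A (n + 1) (Fin.cons (c.sum fun e r => r • KaehlerDifferential.D R A e) w) =
      ∑ e ∈ c.support, DeRham.gen (KaehlerDifferential.D R A) (n + 1) (a * c e) (Fin.cons e b) := by
    rw [← wedgeLeft_ιMulti]
    simp only [Finsupp.sum, map_sum, LinearMap.sum_apply, Finset.smul_sum, map_smul,
      LinearMap.smul_apply]
    refine Finset.sum_congr rfl fun e _ => ?_
    rw [DeRham.gen, comp_cons, wedgeLeft_ιMulti, mul_smul]
  rw [h1, map_sum]
  have h2 : ∀ e, dA (n + 1) (DeRham.gen (KaehlerDifferential.D R A) (n + 1) (a * c e)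
      (Fin.cons e b)) = ιMulti A (n + 1 + 1) (Fin.cons (KaehlerDifferential.D R A (a * c e))
        (Fin.cons (KaehlerDifferential.D R A e) w)) := by
    intro e
    rw [hdA (n + 1) (a * c e) (Fin.cons e b), comp_cons]
  simp only [h2]
  rw [Submodule.coe_sum]
  simp only [coe_ιMulti_cons, Finsupp.sum, map_sum, Finset.smul_sum, Finset.sum_mul,
    Finset.mul_sum, add_mul, ← Finset.sum_add_distrib]
  refine Finset.sum_congr rfl fun e _ => ?_
  rw [Derivation.leibniz]
  simp only [map_add, map_smul, add_mul, smul_mul_assoc, mul_smul_comm, mul_assoc]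

variable {Ω' : Type u} [AddCommGroup Ω'] [Module A Ω']

theorem exists_repr (ω : Ω[A⁄R]) :
    ∃ c : A →₀ A, (c.sum fun e r => r • KaehlerDifferential.D R A e) = ω := by
  have h : ω ∈ Submodule.span A (Set.range (KaehlerDifferential.D R A)) := by
    rw [KaehlerDifferential.span_range_derivation]; trivial
  exact (Finsupp.mem_span_range_iff_exists_finsupp).mp h

theorem oneEquiv_symm_eq (ω : Ω[A⁄R]) :
    (exteriorPower.oneEquiv A (Ω[A⁄R])).symm ω =
      ιMulti A 1 (Fin.cons ω (fun i : Fin 0 => KaehlerDifferential.D R A (Fin.elim0 i))) := by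
  rw [LinearEquiv.symm_apply_eq, exteriorPower.oneEquiv_ιMulti]
  rfl

theorem special_mem (π : Ω[A⁄R] →ₗ[A] Ω')
    (dA : ∀ p : ℕ, ↥(⋀[A]^p (Ω[A⁄R])) →ₗ[R] ↥(⋀[A]^(p + 1) (Ω[A⁄R])))
    (hdA : DeRham.IsRule (KaehlerDifferential.D R A) dA)
    (ω : Ω[A⁄R]) (h1 : π ω = 0)
    (h2 : exteriorPower.map 2 π (dA 1 ((exteriorPower.oneEquiv A (Ω[A⁄R])).symm ω)) = 0)
    (n : ℕ) (a : A) (b : Fin n → A) :
    exteriorPower.map (n + 1 + 1) π (dA (n + 1) (a • ιMulti A (n + 1)
      (Fin.cons ω (fun i => KaehlerDifferential.D R A (b i))))) = 0 := by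
  obtain ⟨c, rfl⟩ := exists_repr (R := R) ω
  have hZ : ExteriorAlgebra.map π (c.sum fun e r => ExteriorAlgebra.ι A (KaehlerDifferential.D R A r) *
            ExteriorAlgebra.ι A (KaehlerDifferential.D R A e)) = 0 := by
    have h3 := congrArg (fun z : ⋀[A]^2 Ω' => (z : ExteriorAlgebra A Ω')) h2
    simp only [ZeroMemClass.coe_zero] at h3
    rw [coe_map, oneEquiv_symm_eq] at h3
    have h4 := coe_dA_formula dA hdA c 0 1 Fin.elim0
    rw [one_smul] at h4
    rw [h4] at h3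
    simpa using h3
  apply Subtype.ext
  rw [coe_map, coe_dA_formula dA hdA c n a b]
  simp only [map_mul, map_add, map_smul, hZ, ExteriorAlgebra.map_apply_ι, h1, map_zero, smul_zero,
    mul_zero, zero_mul, add_zero, ZeroMemClass.coe_zero]

/-- The forms all of whose `A`-multiples are killed by `⋀π ∘ dA`. -/
def Zsub (π : Ω[A⁄R] →ₗ[A] Ω')
    (dA : ∀ p : ℕ, ↥(⋀[A]^p (Ω[A⁄R])) →ₗ[R] ↥(⋀[A]^(p + 1) (Ω[A⁄R]))) (p : ℕ) :
    Submodule A (⋀[A]^p (Ω[A⁄R])) where
  carrier := {x | ∀ a : A, exteriorPower.map (p + 1) π (dA p (a • x)) = 0}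
  add_mem' := by
    intro x y hx hy a
    simp only [Set.mem_ofPred_eq] at hx hy
    rw [smul_add, map_add, map_add, hx a, hy a, add_zero]
  zero_mem' := by
    intro a
    simp
  smul_mem' := by
    intro c x hx a
    simp only [Set.mem_ofPred_eq] at hx
    rw [smul_smul]
    exact hx (a * c)

theorem mem_Zsub (π : Ω[A⁄R] →ₗ[A] Ω')
    (dA : ∀ p : ℕ, ↥(⋀[A]^p (Ω[A⁄R])) →ₗ[R] ↥(⋀[A]^(p + 1) (Ω[A⁄R]))) (p : ℕ)
    (x : ⋀[A]^p (Ω[A⁄R])) :
    x ∈ Zsub π dA p ↔ ∀ a : A, exteriorPower.map (p + 1) π (dA p (a • x)) = 0 := Iff.rfl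

theorem wedgeLeft_mem_Zsub (π : Ω[A⁄R] →ₗ[A] Ω')
    (dA : ∀ p : ℕ, ↥(⋀[A]^p (Ω[A⁄R])) →ₗ[R] ↥(⋀[A]^(p + 1) (Ω[A⁄R])))
    (hdA : DeRham.IsRule (KaehlerDifferential.D R A) dA)
    (hker : LinearMap.ker π ≤ Submodule.span A {ω : Ω[A⁄R] | π ω = 0 ∧
      exteriorPower.map 2 π (dA 1 ((exteriorPower.oneEquiv A (Ω[A⁄R])).symm ω)) = 0})
    (n : ℕ) (m : Ω[A⁄R]) (hm : π m = 0) (y : ⋀[A]^n (Ω[A⁄R])) :
    wedgeLeft (A := A) n m y ∈ Zsub π dA (n + 1) := by
  have hm' := hker (LinearMap.mem_ker.mpr hm)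
  clear hm
  induction hm' using Submodule.span_induction generalizing y with
  | mem ω hω =>
    have htop : (⊤ : Submodule A (⋀[A]^n (Ω[A⁄R]))) ≤
        Submodule.comap (wedgeLeft (A := A) n ω) (Zsub π dA (n + 1)) := by
      rw [← exteriorPower.ιMulti_span_of_span A n (Ω[A⁄R])
        (KaehlerDifferential.span_range_derivation R A), Submodule.span_le]
      rintro _ ⟨w, hw, rfl⟩
      have hb : ∀ i, ∃ c : A, KaehlerDifferential.D R A c = w i := fun i => hw ⟨i, rfl⟩
      choose b hb using hb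
      have hwb : w = fun i => KaehlerDifferential.D R A (b i) := funext fun i => (hb i).symm
      subst hwb
      simp only [SetLike.mem_coe, Submodule.mem_comap]
      rw [wedgeLeft_ιMulti, mem_Zsub]
      intro a
      exact special_mem π dA hdA ω hω.1 hω.2 n a b
    exact htop (Submodule.mem_top (x := y))
  | zero => simp
  | add m₁ m₂ _ _ h₁ h₂ =>
    rw [map_add, LinearMap.add_apply]
    exact Submodule.add_mem _ (h₁ y) (h₂ y)
  | smul c m₁ _ h₁ =>
    rw [map_smul, LinearMap.smul_apply]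
    exact Submodule.smul_mem _ c (h₁ y)

theorem kerSpan_le_Zsub (π : Ω[A⁄R] →ₗ[A] Ω')
    (dA : ∀ p : ℕ, ↥(⋀[A]^p (Ω[A⁄R])) →ₗ[R] ↥(⋀[A]^(p + 1) (Ω[A⁄R])))
    (hdA : DeRham.IsRule (KaehlerDifferential.D R A) dA)
    (hker : LinearMap.ker π ≤ Submodule.span A {ω : Ω[A⁄R] | π ω = 0 ∧
      exteriorPower.map 2 π (dA 1 ((exteriorPower.oneEquiv A (Ω[A⁄R])).symm ω)) = 0})
    (p : ℕ) : kerSpan π p ≤ Zsub π dA p := by
  rw [kerSpan, Submodule.span_le]
  rintro _ ⟨v, i, hvi, rfl⟩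
  cases p with
  | zero => exact Fin.elim0 i
  | succ n =>
    have key : ∀ v : Fin (n + 1) → Ω[A⁄R], π (v 0) = 0 → ιMulti A (n + 1) v ∈ Zsub π dA (n + 1) := by
      intro v hv
      have : v = Fin.cons (v 0) (Fin.tail v) := (Fin.cons_self_tail v).symm
      rw [this, ← wedgeLeft_ιMulti]
      exact wedgeLeft_mem_Zsub π dA hdA hker n (v 0) hv _
    by_cases hi : i = 0
    · subst hi
      exact key v hvi
    · have h1 : ιMulti A (n + 1) (v ∘ Equiv.swap 0 i) = - ιMulti A (n + 1) v :=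
        AlternatingMap.map_swap _ v (Ne.symm hi)
      have h2 : ιMulti A (n + 1) (v ∘ Equiv.swap 0 i) ∈ Zsub π dA (n + 1) := by
        apply key
        simpa using hvi
      rw [h1] at h2
      simpa using Submodule.neg_mem _ h2

end


open exteriorPower in
/-- Let R → A be a ring map, π a surjective A-linear map from the Kähler differentials of A over R onto
an A-module Ω', δ = π ∘ d the induced derivation A → Ω', and d_A a de Rham differential of the
Kähler differentials. Suppose the kernel of π is generated over A by elements ω with π(ω) = 0 whose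
differential d_A(ω) is killed by the second exterior power of π. Then the exterior powers of Ω' over
A carry a de Rham differential for δ: a family of R-linear maps d from p-forms to (p+1)-forms with
d(f₀ δf₁ ∧ … ∧ δf_p) = δf₀ ∧ δf₁ ∧ … ∧ δf_p and d ∘ d = 0; moreover d is compatible with d_A through
the exterior powers of π. -/
theorem result (R A Ω' : Type u) [CommRing R] [CommRing A] [Algebra R A]
    [AddCommGroup Ω'] [Module A Ω'] [Module R Ω'] [IsScalarTower R A Ω']
    (π : Ω[A⁄R] →ₗ[A] Ω') (hπ : Function.Surjective π)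
    (dA : ∀ p : ℕ, ↥(⋀[A]^p (Ω[A⁄R])) →ₗ[R] ↥(⋀[A]^(p + 1) (Ω[A⁄R])))
    (hdA : DeRham.IsDiff (KaehlerDifferential.D R A) dA)
    (hker : LinearMap.ker π ≤ Submodule.span A {ω : Ω[A⁄R] | π ω = 0 ∧
      exteriorPower.map 2 π (dA 1 ((exteriorPower.oneEquiv A (Ω[A⁄R])).symm ω)) = 0}) :
    ∃ d : ∀ p : ℕ, ↥(⋀[A]^p Ω') →ₗ[R] ↥(⋀[A]^(p + 1) Ω'),
      DeRham.IsDiff (π.compDer (KaehlerDifferential.D R A)) d ∧
        ∀ (p : ℕ) (x : ↥(⋀[A]^p (Ω[A⁄R]))),
          d p (exteriorPower.map p π x) = exteriorPower.map (p + 1) π (dA p x) := by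
  classical
  let f : ∀ p : ℕ, ↥(⋀[A]^p (Ω[A⁄R])) →ₗ[R] ↥(⋀[A]^p Ω') :=
    fun p => (exteriorPower.map p π).restrictScalars R
  let g : ∀ p : ℕ, ↥(⋀[A]^p (Ω[A⁄R])) →ₗ[R] ↥(⋀[A]^(p + 1) Ω') :=
    fun p => f (p + 1) ∘ₗ dA p
  have hle : ∀ p, LinearMap.ker (f p) ≤ LinearMap.ker (g p) := by
    intro p x hx
    have hx' : x ∈ LinearMap.ker (exteriorPower.map p π) := by
      simpa [f] using hx
    have h1 := kerSpan_le_Zsub π dA hdA.1 hker p (ker_map_le π hπ p hx')
    have h2 := (mem_Zsub π dA p x).mp h1 1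
    simpa [g, f] using h2
  have hsurj : ∀ p, Function.Surjective (f p) := fun p => exteriorPower.map_surjective (n := p) hπ
  let d : ∀ p : ℕ, ↥(⋀[A]^p Ω') →ₗ[R] ↥(⋀[A]^(p + 1) Ω') := fun p =>
    ((LinearMap.ker (f p)).liftQ (g p) (hle p)) ∘ₗ
      ((f p).quotKerEquivOfSurjective (hsurj p)).symm.toLinearMap
  have hd : ∀ (p : ℕ) (x : ↥(⋀[A]^p (Ω[A⁄R]))),
      d p (exteriorPower.map p π x) = exteriorPower.map (p + 1) π (dA p x) := by
    intro p x
    have h1 : ((f p).quotKerEquivOfSurjective (hsurj p)).symm (exteriorPower.map p π x) =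
        (LinearMap.ker (f p)).mkQ x := by
      rw [LinearEquiv.symm_apply_eq]
      rfl
    simp only [d, LinearMap.coe_comp, LinearEquiv.coe_coe, Function.comp_apply]
    rw [h1]
    rfl
  refine ⟨d, ⟨?_, ?_⟩, hd⟩
  · intro p b₀ b
    have h1 : DeRham.gen (π.compDer (KaehlerDifferential.D R A)) p b₀ b =
        exteriorPower.map p π (DeRham.gen (KaehlerDifferential.D R A) p b₀ b) := by
      simp only [DeRham.gen, map_smul, exteriorPower.map_apply_ιMulti]
      rfl
    rw [h1, hd, hdA.1 p b₀ b, exteriorPower.map_apply_ιMulti]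
    congr 1
    funext i
    refine Fin.cases ?_ (fun j => ?_) i <;> simp
  · intro p
    refine LinearMap.ext fun y => ?_
    obtain ⟨x, rfl⟩ := hsurj p y
    change d (p + 1) (d p (exteriorPower.map p π x)) = 0
    rw [hd, hd]
    have := LinearMap.congr_fun (hdA.2 p) x
    simp only [LinearMap.coe_comp, Function.comp_apply, LinearMap.zero_apply] at this
    rw [this, map_zero]

end Groth.Agent.S15296
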