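import Groth.Statements.S15297
import Groth.Agent.Lib.H79DeRhamGen

set_option autoImplicit false
universe u
open DeRham

namespace Groth.Agent.S15297

open exteriorPower in
/-- Let R → A be a ring map and d a de Rham differential of the Kähler differentials of A over R. Then
each d from p-forms to (p+1)-forms, an R-linear map between A-modules, is a differential operator of
order at most 1 relative to R → A: every commutator of d with multiplication by an element of A is
A-linear. -/
theorem result (R A : Type u) [CommRing R] [CommRing A] [Algebra R A]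
    (d : ∀ p : ℕ, ↥(⋀[A]^p (Ω[A⁄R])) →ₗ[R] ↥(⋀[A]^(p + 1) (Ω[A⁄R])))
    (hd : DeRham.IsDiff (KaehlerDifferential.D R A) d) (p : ℕ) :
    Diff16.IsDiffOpLE R A ↥(⋀[A]^p (Ω[A⁄R])) ↥(⋀[A]^(p + 1) (Ω[A⁄R])) 1 (d p) := by
  -- the commutator on generators
  have hcomm : ∀ (a b₀ : A) (b : Fin p → A),
      Diff16.commutator R A _ _ (d p) a (DeRham.gen (KaehlerDifferential.D R A) p b₀ b) =
        b₀ • exteriorPower.ιMulti A (p + 1)
          (Fin.cons ((KaehlerDifferential.D R A) a) (fun i => (KaehlerDifferential.D R A) (b i))) := by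
    intro a b₀ b
    have e1 : Diff16.commutator R A _ _ (d p) a (DeRham.gen (KaehlerDifferential.D R A) p b₀ b) =
        d p (a • DeRham.gen (KaehlerDifferential.D R A) p b₀ b) -
          a • d p (DeRham.gen (KaehlerDifferential.D R A) p b₀ b) := rfl
    have hadd : ∀ (x y : Ω[A⁄R]) (m : Fin p → Ω[A⁄R]),
        exteriorPower.ιMulti A (p + 1) (Fin.cons (x + y) m) =
          exteriorPower.ιMulti A (p + 1) (Fin.cons x m) +
            exteriorPower.ιMulti A (p + 1) (Fin.cons y m) :=
      fun x y m => (exteriorPower.ιMulti A (p + 1)).toMultilinearMap.cons_add m x y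
    have hsmul : ∀ (c : A) (x : Ω[A⁄R]) (m : Fin p → Ω[A⁄R]),
        exteriorPower.ιMulti A (p + 1) (Fin.cons (c • x) m) =
          c • exteriorPower.ιMulti A (p + 1) (Fin.cons x m) :=
      fun c x m => (exteriorPower.ιMulti A (p + 1)).toMultilinearMap.cons_smul m c x
    rw [e1, Groth.Agent.Lib.H79DeRhamGen.smul_gen, hd.1 p, hd.1 p, Derivation.leibniz,
      hadd, hsmul, hsmul]
    simp
  intro a c x
  refine Groth.Agent.Lib.H79DeRhamGen.gen_induction_kaehler R A p
    (P := fun x => Diff16.commutator R A _ _ (d p) a (c • x) =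
      c • Diff16.commutator R A _ _ (d p) a x) ?_ ?_ ?_ x
  · simp
  · intro x y hx hy
    rw [smul_add, map_add, map_add, hx, hy, smul_add]
  · intro b₀ b
    rw [Groth.Agent.Lib.H79DeRhamGen.smul_gen, hcomm, hcomm, mul_smul]

end Groth.Agent.S15297
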