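import Groth.Statements.S15298
import Groth.Agent.Lib.PowerSeriesLift50
import Mathlib

set_option autoImplicit false
universe u
open CAlg

namespace Groth.Agent.S15298

/-- Let k be a field, A a Noetherian k-algebra and x a non-zero-divisor of A such that A is separated
and complete for the (x)-adic topology, and assume that B = A/xA is formally smooth over k. Then A
is a power series ring over B in the variable x: there is a k-algebra isomorphism e : B[[T]] ≅ A
with e(T) = x whose reduction modulo x is the constant-coefficient map, i.e. e(f) ≡ f(0) mod x for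
every power series f. -/
theorem result (k A : Type u) [Field k]
    [CommRing A] [Algebra k A] [IsNoetherianRing A] (x : A) (hx : x ∈ nonZeroDivisors A)
    [IsAdicComplete (Ideal.span {x}) A] [Algebra.FormallySmooth k (A ⧸ Ideal.span {x})] :
    ∃ e : PowerSeries (A ⧸ Ideal.span {x}) ≃ₐ[k] A,
      e PowerSeries.X = x ∧
      ∀ f : PowerSeries (A ⧸ Ideal.span {x}),
        Ideal.Quotient.mk (Ideal.span {x}) (e f) = PowerSeries.constantCoeff f := by
  classical
  obtain ⟨σ, hσ⟩ := Algebra.FormallySmooth.exists_mkₐ_comp_eq_of_isAdicComplete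
    (R := k) (A := A ⧸ Ideal.span {x}) (S := A) (I := Ideal.span {x}) (AlgHom.id k _)
  have hσ' : ∀ b : A ⧸ Ideal.span {x}, Ideal.Quotient.mk (Ideal.span {x}) (σ b) = b := fun b =>
    AlgHom.congr_fun hσ b
  let algBA : Algebra (A ⧸ Ideal.span {x}) A := σ.toRingHom.toAlgebra
  have hST : IsScalarTower k (A ⧸ Ideal.span {x}) A :=
    IsScalarTower.of_algebraMap_eq (fun c => (σ.commutes c).symm)
  have hxm : x ∈ Ideal.span {x} := Ideal.mem_span_singleton_self x
  obtain ⟨ψ, hψX, -⟩ := Groth.Agent.Lib.PowerSeriesLift50.exists_algHom (σ := Unit)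
    (k := A ⧸ Ideal.span {x}) (Ideal.span {x}) (fun _ => x) (fun _ => hxm)
  have hX : (ψ : PowerSeries (A ⧸ Ideal.span {x}) →ₐ[A ⧸ Ideal.span {x}] A) PowerSeries.X = x :=
    hψX ()
  have hC : ∀ b : A ⧸ Ideal.span {x}, ψ (PowerSeries.C b) = σ b := by
    intro b
    have h1 := ψ.commutes b
    rw [PowerSeries.algebraMap_apply] at h1
    have h2 : algebraMap (A ⧸ Ideal.span {x}) A b = σ b := rfl
    rw [← h2]
    simpa using h1
  have hconst : ∀ f : PowerSeries (A ⧸ Ideal.span {x}),
      Ideal.Quotient.mk (Ideal.span {x}) (ψ f) = PowerSeries.constantCoeff f := by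
    intro f
    have h1 := PowerSeries.eq_X_pow_mul_shift_add_trunc 1 f
    have h2 : ψ f = x ^ 1 * ψ (PowerSeries.mk fun i => PowerSeries.coeff (i + 1) f) +
        σ (PowerSeries.constantCoeff f) := by
      conv_lhs => rw [h1]
      rw [map_add, map_mul, map_pow, hX, PowerSeries.trunc_one_left]
      simp [hC]
    rw [h2, map_add, hσ', pow_one]
    have h3 : Ideal.Quotient.mk (Ideal.span {x})
        (x * ψ (PowerSeries.mk fun i => PowerSeries.coeff (i + 1) f)) = 0 :=
      Ideal.Quotient.eq_zero_iff_mem.mpr (Ideal.mul_mem_right _ _ hxm)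
    rw [h3, zero_add]
  have hinj : Function.Injective ψ := by
    rw [injective_iff_map_eq_zero]
    intro f hf
    by_contra hne
    have h1 := PowerSeries.X_pow_order_mul_divXPowOrder (f := f)
    have h2 : x ^ (PowerSeries.order f).toNat * ψ (PowerSeries.divXPowOrder f) = 0 := by
      have h5 : ψ (PowerSeries.X ^ (PowerSeries.order f).toNat * PowerSeries.divXPowOrder f) = 0 := by
        rw [h1, hf]
      rw [map_mul, map_pow, hX] at h5
      exact h5
    have hxn : x ^ (PowerSeries.order f).toNat ∈ nonZeroDivisors A := pow_mem hx _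
    have h3 : ψ (PowerSeries.divXPowOrder f) = 0 := by
      rw [mul_comm] at h2
      exact (mul_right_mem_nonZeroDivisors_eq_zero_iff hxn).mp h2
    have h4 := hconst (PowerSeries.divXPowOrder f)
    rw [h3, map_zero] at h4
    exact hne (PowerSeries.constantCoeff_divXPowOrder_eq_zero_iff.mp h4.symm)
  have hsurj : Function.Surjective ψ := by
    have hmap : (Ideal.span {(PowerSeries.X : PowerSeries (A ⧸ Ideal.span {x}))}).map ψ.toRingHom =
        Ideal.span {x} := by
      rw [Ideal.map_span, Set.image_singleton]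
      congr 2
    have haus : IsHausdorff ((Ideal.span {(PowerSeries.X :
        PowerSeries (A ⧸ Ideal.span {x}))}).map ψ.toRingHom) A := by
      rw [hmap]
      exact IsAdicComplete.toIsHausdorff
    exact surjective_of_mk_map_comp_surjective ψ.toRingHom
      (I := Ideal.span {(PowerSeries.X : PowerSeries (A ⧸ Ideal.span {x}))})
      (by
        intro y
        obtain ⟨y, rfl⟩ := Ideal.Quotient.mk_surjective y
        refine ⟨PowerSeries.C (Ideal.Quotient.mk _ y), ?_⟩
        simp only [RingHom.comp_apply]
        rw [Ideal.Quotient.eq, hmap]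
        change ψ (PowerSeries.C _) - y ∈ _
        rw [hC, ← Ideal.Quotient.eq, hσ'])
  refine ⟨AlgEquiv.ofBijective (ψ.restrictScalars k) ⟨hinj, hsurj⟩, hX, hconst⟩

end Groth.Agent.S15298
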