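import Groth.Statements.S15299
import Groth.Agent.Lib.H2DeRhamWeight
import Groth.Agent.Lib.EulerDerivation
import Mathlib

set_option autoImplicit false
universe u
open Omega

namespace Groth.Agent.S15299

open Groth.Agent.Lib.H2DeRhamD Groth.Agent.Lib.H2DeRhamLie Groth.Agent.Lib.H2DeRhamWeight Groth.Agent.Lib.EulerDerivation KaehlerDifferential exteriorPower

section
variable (k : Type u) [Field k] [CharZero k] (n : ℕ)

/-- total degree weight -/
noncomputable def wt : (Fin n →₀ ℕ) →+ k := ∑ i : Fin n, mvWeight k i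

theorem wt_apply (m : Fin n →₀ ℕ) : wt k n m = ((∑ i, m i : ℕ) : k) := by
  rw [wt, AddMonoidHom.finsetSum_apply]
  simp

/-- the Euler derivation `∑ xᵢ ∂/∂xᵢ` -/
noncomputable def eul : Derivation k (MvPolynomial (Fin n) k) (MvPolynomial (Fin n) k) :=
  euler k (wt k n)

theorem coeff_eul (f : MvPolynomial (Fin n) k) (m : Fin n →₀ ℕ) :
    MvPolynomial.coeff m (eul k n f) = ((∑ i, m i : ℕ) : k) * MvPolynomial.coeff m f := by
  rw [← wt_apply]
  exact euler_coeff k (wt k n) f m

/-- homogeneous polynomials of degree `N` (as an additive subgroup) -/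
def G (N : ℤ) : Submodule ℤ (MvPolynomial (Fin n) k) where
  carrier := {φ | ∀ m, MvPolynomial.coeff m φ ≠ 0 → ((∑ i, m i : ℕ) : ℤ) = N}
  zero_mem' := fun m h => absurd (MvPolynomial.coeff_zero m) h
  add_mem' := by
    intro a b ha hb m h
    rw [MvPolynomial.coeff_add] at h
    by_cases h1 : MvPolynomial.coeff m a = 0
    · rw [h1, zero_add] at h
      exact hb m h
    · exact ha m h1
  smul_mem' := by
    intro c a ha m h
    refine ha m fun h0 => h ?_
    rw [← Int.cast_smul_eq_zsmul k, MvPolynomial.coeff_smul, h0, smul_zero]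

theorem mem_G (N : ℤ) (φ : MvPolynomial (Fin n) k) :
    φ ∈ G k n N ↔ ∀ m, MvPolynomial.coeff m φ ≠ 0 → ((∑ i, m i : ℕ) : ℤ) = N := Iff.rfl

theorem hG (N : ℤ) (a : MvPolynomial (Fin n) k) (ha : a ∈ G k n N) : eul k n a = N • a := by
  ext m
  rw [coeff_eul, ← Int.cast_smul_eq_zsmul k, MvPolynomial.coeff_smul, smul_eq_mul]
  by_cases h : MvPolynomial.coeff m a = 0
  · rw [h, mul_zero, mul_zero]
  · rw [← ha m h]
    simp

theorem hA (a : MvPolynomial (Fin n) k) : a ∈ ⨆ N, G k n N := by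
  rw [a.as_sum]
  refine Submodule.sum_mem _ fun m _ => ?_
  refine Submodule.mem_iSup_of_mem ((∑ i, m i : ℕ) : ℤ) ?_
  intro m' h
  classical
  rw [MvPolynomial.coeff_monomial] at h
  split_ifs at h with h1
  · rw [h1]
  · exact absurd rfl h

theorem hQ (z : ℤ) (hz : z ≠ 0) : IsUnit ((z : ℤ) : k) :=
  isUnit_iff_ne_zero.mpr (Int.cast_ne_zero.mpr hz)

theorem G_neg (N : ℤ) (hN : N < 0) (a : MvPolynomial (Fin n) k) (ha : a ∈ G k n N) : a = 0 := by
  ext m
  by_contra h
  rw [MvPolynomial.coeff_zero] at h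
  have := ha m h
  omega

theorem G_zero (a : MvPolynomial (Fin n) k) (ha : a ∈ G k n 0) :
    a = MvPolynomial.C (MvPolynomial.coeff 0 a) := by
  ext m
  classical
  rw [MvPolynomial.coeff_C]
  split_ifs with h
  · rw [h]
  · by_contra h1
    have h2 := ha m h1
    apply h
    ext i
    have h3 : (∑ i, m i : ℕ) = 0 := by exact_mod_cast h2
    have := (Finset.sum_eq_zero_iff.mp h3) i (Finset.mem_univ i)
    simpa using this.symm

theorem D_G_zero (a : MvPolynomial (Fin n) k) (ha : a ∈ G k n 0) :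
    KaehlerDifferential.D k (MvPolynomial (Fin n) k) a = 0 := by
  rw [G_zero k n a ha, ← MvPolynomial.algebraMap_eq, Derivation.map_algebraMap]

/-- positive degree forms of weight zero vanish -/
theorem S_succ_zero (p : ℕ) (y : ↥(⋀[MvPolynomial (Fin n) k]^(p + 1) (Ω[MvPolynomial (Fin n) k⁄k])))
    (hy : y ∈ S k (MvPolynomial (Fin n) k) (G k n) (p + 1) 0) : y = 0 := by
  induction hy using Submodule.span_induction with
  | mem y hy =>
    obtain ⟨n₀, b₀, m, b, hb₀, hb, hN, rfl⟩ := hy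
    unfold DeRham.gen
    by_cases h0 : n₀ < 0
    · rw [G_neg k n n₀ h0 b₀ hb₀, zero_smul]
    · have hex : ∃ i, KaehlerDifferential.D k (MvPolynomial (Fin n) k) (b i) = 0 := by
        by_cases h1 : ∃ i, m i < 0
        · obtain ⟨i, hi⟩ := h1
          exact ⟨i, by rw [G_neg k n (m i) hi (b i) (hb i), map_zero]⟩
        · push Not at h1
          refine ⟨0, D_G_zero k n (b 0) ?_⟩
          have h2 : m 0 = 0 := by
            have h3 : ∑ i, m i = m 0 + ∑ i : Fin p, m i.succ := Fin.sum_univ_succ m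
            have h4 : 0 ≤ ∑ i : Fin p, m i.succ := Finset.sum_nonneg fun i _ => h1 i.succ
            have h5 := h1 0
            omega
          rw [← h2]
          exact hb 0
      obtain ⟨i, hi⟩ := hex
      rw [(ιMulti (MvPolynomial (Fin n) k) (p + 1)).map_coord_zero i hi, smul_zero]
  | zero => rfl
  | add x y _ _ hx hy => rw [hx, hy, add_zero]
  | smul c x _ hx => rw [hx, smul_zero]

/-- weight zero functions are constants -/
theorem S_zero_zero (y : ↥(⋀[MvPolynomial (Fin n) k]^0 (Ω[MvPolynomial (Fin n) k⁄k])))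
    (hy : y ∈ S k (MvPolynomial (Fin n) k) (G k n) 0 0) :
    ∃ c : k, (y : ExteriorAlgebra (MvPolynomial (Fin n) k) (Ω[MvPolynomial (Fin n) k⁄k])) =
      algebraMap (MvPolynomial (Fin n) k) _ (MvPolynomial.C c) := by
  induction hy using Submodule.span_induction with
  | mem y hy =>
    obtain ⟨n₀, b₀, m, b, hb₀, hb, hN, rfl⟩ := hy
    have h0 : n₀ = 0 := by simpa using hN
    subst h0
    refine ⟨MvPolynomial.coeff 0 b₀, ?_⟩
    rw [coe_gen, wedgeD_zero, ← G_zero k n b₀ hb₀, Algebra.algebraMap_eq_smul_one]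
  | zero => exact ⟨0, by simp⟩
  | add x y _ _ hx hy =>
    obtain ⟨c, hc⟩ := hx
    obtain ⟨c', hc'⟩ := hy
    exact ⟨c + c', by rw [Submodule.coe_add, hc, hc', map_add, map_add]⟩
  | smul z x _ hx =>
    obtain ⟨c, hc⟩ := hx
    exact ⟨z • c, by rw [AddSubgroupClass.coe_zsmul, hc, map_zsmul, map_zsmul]⟩

end

theorem result' (k : Type u) [Field k] [CharZero k] (n : ℕ)
    (d : ExteriorAlgebra (MvPolynomial (Fin n) k) (KaehlerDifferential k (MvPolynomial (Fin n) k)) →ₗ[k]
      ExteriorAlgebra (MvPolynomial (Fin n) k) (KaehlerDifferential k (MvPolynomial (Fin n) k)))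
    (h0 : ∀ a : MvPolynomial (Fin n) k,
      d (algebraMap (MvPolynomial (Fin n) k) _ a) =
        ExteriorAlgebra.ι (MvPolynomial (Fin n) k) (KaehlerDifferential.D k (MvPolynomial (Fin n) k) a))
    (hdeg : ∀ (p : ℕ) (ω : ExteriorAlgebra (MvPolynomial (Fin n) k) (KaehlerDifferential k (MvPolynomial (Fin n) k))),
      ω ∈ ExteriorAlgebra.exteriorPower (MvPolynomial (Fin n) k) p (KaehlerDifferential k (MvPolynomial (Fin n) k)) →
        d ω ∈ ExteriorAlgebra.exteriorPower (MvPolynomial (Fin n) k) (p + 1) (KaehlerDifferential k (MvPolynomial (Fin n) k)))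
    (hder : ∀ (p : ℕ) (ω η : ExteriorAlgebra (MvPolynomial (Fin n) k) (KaehlerDifferential k (MvPolynomial (Fin n) k))),
      ω ∈ ExteriorAlgebra.exteriorPower (MvPolynomial (Fin n) k) p (KaehlerDifferential k (MvPolynomial (Fin n) k)) →
        d (ω * η) = d ω * η + (-1) ^ p * ω * d η)
    (hdd : ∀ ω, d (d ω) = 0) :
    (∀ a : MvPolynomial (Fin n) k, d (algebraMap (MvPolynomial (Fin n) k) _ a) = 0 →
        ∃ c : k, a = MvPolynomial.C c) ∧
    ∀ (p : ℕ) (ω : ExteriorAlgebra (MvPolynomial (Fin n) k) (KaehlerDifferential k (MvPolynomial (Fin n) k))),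
      ω ∈ ExteriorAlgebra.exteriorPower (MvPolynomial (Fin n) k) (p + 1) (KaehlerDifferential k (MvPolynomial (Fin n) k)) →
        d ω = 0 →
          ∃ θ ∈ ExteriorAlgebra.exteriorPower (MvPolynomial (Fin n) k) p (KaehlerDifferential k (MvPolynomial (Fin n) k)),
            d θ = ω := by
  have hd : ∀ x, d x = dFun k (MvPolynomial (Fin n) k) x := fun x =>
    eq_dFun k (MvPolynomial (Fin n) k) d.toAddMonoidHom h0 (fun p q x y hx _ => hder p x y hx) hdd x
  refine ⟨fun a ha => ?_, fun p ω hω hcl => ?_⟩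
  · rw [hd] at ha
    obtain ⟨z₀, hz₀, -, w, hw0, -, hw⟩ := main k (MvPolynomial (Fin n) k) (eul k n) (hQ k)
      (hG k n) (hA k n) 0 ⟨_, algebraMap_mem_zero a⟩ ha
    obtain ⟨c, hc⟩ := S_zero_zero k n z₀ hz₀
    refine ⟨c, ?_⟩
    rw [hw0 rfl, dFun_zero, sub_eq_zero, hc] at hw
    exact (ExteriorAlgebra.algebraMap_inj _ _ _).mp hw
  · rw [hd] at hcl
    obtain ⟨z₀, hz₀, -, w, -, hwq, hw⟩ := main k (MvPolynomial (Fin n) k) (eul k n) (hQ k)
      (hG k n) (hA k n) (p + 1) ⟨ω, hω⟩ hcl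
    rw [S_succ_zero k n p z₀ hz₀] at hw
    refine ⟨w, hwq p rfl, ?_⟩
    rw [hd, ← hw]
    simp


/-- Let k be a field of characteristic zero, A = k[x_1, …, x_n] and Ω = Ω_{A/k}. Let d be a k-linear
endomorphism of the exterior algebra ⋀_A Ω which agrees with the universal derivation on A, sends
⋀^p Ω into ⋀^(p+1) Ω, is a graded derivation and satisfies d ∘ d = 0 (these properties characterise
the de Rham differential). Then the de Rham complex 0 → k → A → Ω → ⋀^2 Ω → ⋯ → ⋀^n Ω → 0 is exact: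
an element of A with d a = 0 is a constant, and every d-closed element of ⋀^(p+1) Ω is d of some
element of ⋀^p Ω. -/
theorem result (k : Type u) [Field k] [CharZero k] (n : ℕ)
    (d : ExteriorAlgebra (MvPolynomial (Fin n) k) (KaehlerDifferential k (MvPolynomial (Fin n) k)) →ₗ[k]
      ExteriorAlgebra (MvPolynomial (Fin n) k) (KaehlerDifferential k (MvPolynomial (Fin n) k)))
    (h0 : ∀ a : MvPolynomial (Fin n) k,
      d (algebraMap (MvPolynomial (Fin n) k) _ a) =
        ExteriorAlgebra.ι (MvPolynomial (Fin n) k) (KaehlerDifferential.D k (MvPolynomial (Fin n) k) a))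
    (hdeg : ∀ (p : ℕ) (ω : ExteriorAlgebra (MvPolynomial (Fin n) k) (KaehlerDifferential k (MvPolynomial (Fin n) k))),
      ω ∈ ExteriorAlgebra.exteriorPower (MvPolynomial (Fin n) k) p (KaehlerDifferential k (MvPolynomial (Fin n) k)) →
        d ω ∈ ExteriorAlgebra.exteriorPower (MvPolynomial (Fin n) k) (p + 1) (KaehlerDifferential k (MvPolynomial (Fin n) k)))
    (hder : ∀ (p : ℕ) (ω η : ExteriorAlgebra (MvPolynomial (Fin n) k) (KaehlerDifferential k (MvPolynomial (Fin n) k))),
      ω ∈ ExteriorAlgebra.exteriorPower (MvPolynomial (Fin n) k) p (KaehlerDifferential k (MvPolynomial (Fin n) k)) →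
        d (ω * η) = d ω * η + (-1) ^ p * ω * d η)
    (hdd : ∀ ω, d (d ω) = 0) :
    (∀ a : MvPolynomial (Fin n) k, d (algebraMap (MvPolynomial (Fin n) k) _ a) = 0 →
        ∃ c : k, a = MvPolynomial.C c) ∧
    ∀ (p : ℕ) (ω : ExteriorAlgebra (MvPolynomial (Fin n) k) (KaehlerDifferential k (MvPolynomial (Fin n) k))),
      ω ∈ ExteriorAlgebra.exteriorPower (MvPolynomial (Fin n) k) (p + 1) (KaehlerDifferential k (MvPolynomial (Fin n) k)) →
        d ω = 0 →
          ∃ θ ∈ ExteriorAlgebra.exteriorPower (MvPolynomial (Fin n) k) p (KaehlerDifferential k (MvPolynomial (Fin n) k)),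
            d θ = ω := by
  exact result' k n d h0 hdeg hder hdd

end Groth.Agent.S15299
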