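import Groth.Statements.S1530
import Groth.Agent.Lib.CurveAmple54
import Groth.Agent.S0002
import Groth.Agent.S3230
import Groth.Agent.S0458

set_option autoImplicit false
universe u
open CategoryTheory CategoryTheory.Limits AlgebraicGeometry
open Variety

namespace Groth.Agent.S1530

/-- On a proper curve over a field, an invertible module is ample if and only if its degree is positive. -/
theorem result (k : Type u) [Field k] (X : Scheme.{u}) [X.Over (Spec (CommRingCat.of k))]
    [IsIntegral X] [IsProper (X ↘ (Spec (CommRingCat.of k)))] (hdim : topologicalKrullDim X = 1)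
    (L : X.Modules) (hL : PicF.IsInvertible L) :
    CohB1.IsAmple L ↔ 0 < Curv2.deg k X L 1 := by
  have H : Groth.Agent.Lib.ProperFinHyp.Hyp.{u} := fun A _ _ X _ _ M hM n =>
    Groth.Agent.S0002.result A X M hM n
  have HS : Groth.Agent.Lib.IntNumAlg13.SnapperHyp.{u} := fun k _ X _ _ d hd _ L hL F hF r hr =>
    Groth.Agent.S3230.result k X d hd L hL F hF r hr
  have V : Groth.Agent.Lib.EulerLE48.VanHyp.{u} := fun X _ d hd F p hp =>
    haveI : TopologicalSpace.NoetherianSpace X.toTopCat :=
      inferInstanceAs (TopologicalSpace.NoetherianSpace X)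
    Groth.Agent.S0458.result (X := X.toTopCat) d hd (Coh.toAb F) p hp
  exact ⟨fun h => Groth.Agent.Lib.CurveAmple54.deg_pos_of_isAmple H HS V k X hdim hL h,
    fun h => Groth.Agent.Lib.CurveAmple54.isAmple_of_deg_pos H HS V k X hdim.le hL h⟩

end Groth.Agent.S1530
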