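import Groth.Statements.S15315
import Mathlib.RingTheory.Ideal.Operations
import Mathlib.Tactic.LinearCombination
import Mathlib.Tactic.Ring
-- import your own Groth.Agent.* helpers here

set_option autoImplicit false
universe u
open ArLef

namespace Groth.Agent.S15315

/-- For a Noetherian commutative ring A, elements a, b with a a non-zero-divisor on A/(b), and an ideal
I, one has length(A/(aI + bA)) = length(A/(a, b)) + length(A/(I + bA)) as extended natural numbers;
in particular when two of the three quotients have finite length so does the third. -/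
theorem result (A : Type u) [CommRing A] [IsNoetherianRing A] (a b : A) (I : Ideal A)
    (ha : IsSMulRegular (A ⧸ Ideal.span ({b} : Set A)) a) :
    Module.length A (A ⧸ (Ideal.span {a} * I ⊔ Ideal.span {b})) =
      Module.length A (A ⧸ Ideal.span ({a, b} : Set A)) + Module.length A (A ⧸ (I ⊔ Ideal.span {b})) := by
  set J₁ : Ideal A := I ⊔ Ideal.span {b} with hJ₁
  set J₂ : Ideal A := Ideal.span {a} * I ⊔ Ideal.span {b} with hJ₂
  set J₃ : Ideal A := Ideal.span ({a, b} : Set A) with hJ₃
  have hJ₃' : J₃ = Ideal.span {a} ⊔ Ideal.span {b} := by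
    rw [hJ₃, ← Ideal.span_union]; rfl
  -- multiplication by a maps J₁ into J₂
  have h12 : J₁ ≤ Submodule.comap (LinearMap.lsmul A A a) J₂ := by
    intro x hx
    rw [Submodule.mem_comap]
    change a • x ∈ J₂
    rw [hJ₁, Submodule.mem_sup] at hx
    obtain ⟨y, hy, z, hz, rfl⟩ := hx
    rw [smul_add]
    refine Submodule.add_mem _ ?_ ?_
    · exact Ideal.mem_sup_left (Ideal.mul_mem_mul (Ideal.mem_span_singleton_self a) hy)
    · exact Ideal.mem_sup_right (Ideal.mul_mem_left _ a hz)
  have h23 : J₂ ≤ Submodule.comap (LinearMap.id : A →ₗ[A] A) J₃ := by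
    rw [Submodule.comap_id, hJ₂, hJ₃']
    exact sup_le_sup_right Ideal.mul_le_left _
  let f : (A ⧸ J₁) →ₗ[A] (A ⧸ J₂) := Submodule.mapQ J₁ J₂ (LinearMap.lsmul A A a) h12
  let g : (A ⧸ J₂) →ₗ[A] (A ⧸ J₃) := Submodule.mapQ J₂ J₃ LinearMap.id h23
  have hreg : ∀ x : A, a * x ∈ Ideal.span ({b} : Set A) → x ∈ Ideal.span ({b} : Set A) := by
    intro x hx
    have h0 : a • (Ideal.Quotient.mk (Ideal.span ({b} : Set A)) x) = a • 0 := by
      rw [smul_zero]
      have : a • (Ideal.Quotient.mk (Ideal.span ({b} : Set A)) x) = Ideal.Quotient.mk _ (a * x) := rfl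
      rw [this]
      exact Ideal.Quotient.eq_zero_iff_mem.mpr hx
    exact Ideal.Quotient.eq_zero_iff_mem.mp (ha h0)
  have hf : Function.Injective f := by
    rw [← LinearMap.ker_eq_bot, LinearMap.ker_eq_bot']
    intro x hx
    obtain ⟨x, rfl⟩ := Submodule.Quotient.mk_surjective _ x
    change Submodule.Quotient.mk (a • x) = 0 at hx
    rw [Submodule.Quotient.mk_eq_zero] at hx ⊢
    rw [hJ₂, Submodule.mem_sup] at hx
    obtain ⟨y, hy, z, hz, hyz⟩ := hx
    obtain ⟨w, hw, rfl⟩ := Ideal.mem_span_singleton_mul.mp hy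
    -- a * w + z = a • x  ⟹ a * (x - w) ∈ (b)
    have h1 : a * (x - w) ∈ Ideal.span ({b} : Set A) := by
      have : a * (x - w) = z := by
        have hyz' : a * w + z = a * x := hyz
        linear_combination -hyz'
      rw [this]; exact hz
    have h2 := hreg _ h1
    have : x = w + (x - w) := by ring
    rw [this, hJ₁]
    exact Submodule.add_mem _ (Ideal.mem_sup_left hw) (Ideal.mem_sup_right h2)
  have hg : Function.Surjective g := by
    intro y
    obtain ⟨y, rfl⟩ := Submodule.Quotient.mk_surjective _ y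
    exact ⟨Submodule.Quotient.mk y, rfl⟩
  have hfg : Function.Exact f g := by
    intro y
    obtain ⟨y, rfl⟩ := Submodule.Quotient.mk_surjective _ y
    constructor
    · intro hy
      change Submodule.Quotient.mk y = 0 at hy
      rw [Submodule.Quotient.mk_eq_zero, hJ₃', Submodule.mem_sup] at hy
      obtain ⟨u, hu, z, hz, rfl⟩ := hy
      obtain ⟨c, rfl⟩ := Ideal.mem_span_singleton'.mp hu
      refine ⟨Submodule.Quotient.mk c, ?_⟩
      change Submodule.Quotient.mk (a • c) = Submodule.Quotient.mk (c * a + z)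
      rw [Submodule.Quotient.eq]
      have : a • c - (c * a + z) = -z := by rw [smul_eq_mul]; ring
      rw [this, hJ₂]
      exact Ideal.mem_sup_right (neg_mem hz)
    · rintro ⟨x, hx⟩
      obtain ⟨x, rfl⟩ := Submodule.Quotient.mk_surjective _ x
      rw [← hx]
      change Submodule.Quotient.mk (a • x) = 0
      rw [Submodule.Quotient.mk_eq_zero, hJ₃']
      exact Ideal.mem_sup_left (Ideal.mem_span_singleton'.mpr ⟨x, by rw [smul_eq_mul, mul_comm]⟩)
  rw [Module.length_eq_add_of_exact f g hf hg hfg, add_comm]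

end Groth.Agent.S15315
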