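import Groth.Statements.S15316
import Mathlib
import Groth.Agent.Lib.NodeAlg7

set_option autoImplicit false
universe u
open ArLef ArLef.NodeAlg

namespace Groth.Agent.S15316

section helpers

open Groth.Agent.Lib.NodeAlg7 ArLef

theorem main (B : Type u) [CommRing B] [IsDomain B] [IsDiscreteValuationRing B] (π : B) (hπ : Irreducible π)
    (σ : ArLef.NodeAlg B π ≃+* ArLef.NodeAlg B π)
    (hσ : Associated (σ (algebraMap B (ArLef.NodeAlg B π) π)) (algebraMap B (ArLef.NodeAlg B π) π)) :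
    (∃ α β : (ArLef.NodeAlg B π)ˣ, σ (ArLef.NodeAlg.t π) = (α : ArLef.NodeAlg B π) * ArLef.NodeAlg.t π ∧ σ (ArLef.NodeAlg.e π) = (β : ArLef.NodeAlg B π) * ArLef.NodeAlg.e π) ∨
      (∃ α β : (ArLef.NodeAlg B π)ˣ, σ (ArLef.NodeAlg.t π) = (α : ArLef.NodeAlg B π) * ArLef.NodeAlg.e π ∧ σ (ArLef.NodeAlg.e π) = (β : ArLef.NodeAlg B π) * ArLef.NodeAlg.t π) := by
  have hp : Prime π := hπ.prime
  haveI : IsDomain (NodeAlg B π) := isDomain_nodeAlg hp
  have ht := prime_t hp
  have he := prime_e hp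
  have hσt : Prime (σ (NodeAlg.t π)) := (MulEquiv.prime_iff σ).mpr ht
  have hσe : Prime (σ (NodeAlg.e π)) := (MulEquiv.prime_iff σ).mpr he
  obtain ⟨u, hu⟩ := hσ.symm
  rw [← t_mul_e, map_mul] at hu
  -- hu : t * e * u = σ t * σ e
  have hdvd : NodeAlg.t π ∣ σ (NodeAlg.t π) * σ (NodeAlg.e π) := ⟨NodeAlg.e π * u, by rw [← hu]; ring⟩
  rcases ht.dvd_or_dvd hdvd with h1 | h1
  · left
    obtain ⟨a, ha⟩ := h1
    have hau : IsUnit a := (hσt.irreducible.isUnit_or_isUnit ha).resolve_left ht.not_unit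
    obtain ⟨α, rfl⟩ := hau
    have h2 : σ (NodeAlg.e π) = (↑(α⁻¹ * u) : NodeAlg B π) * NodeAlg.e π := by
      have : NodeAlg.t π * ((α : NodeAlg B π) * σ (NodeAlg.e π)) = NodeAlg.t π * (NodeAlg.e π * u) := by
        rw [← mul_assoc, ← ha, ← hu]; ring
      have h3 := mul_left_cancel₀ ht.ne_zero this
      rw [Units.val_mul, mul_assoc, mul_comm (u : NodeAlg B π), ← h3, ← mul_assoc, Units.inv_mul, one_mul]
    exact ⟨α, α⁻¹ * u, by rw [ha]; ring, h2⟩
  · right
    obtain ⟨b, hb⟩ := h1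
    have hbu : IsUnit b := (hσe.irreducible.isUnit_or_isUnit hb).resolve_left ht.not_unit
    obtain ⟨β, rfl⟩ := hbu
    have h2 : σ (NodeAlg.t π) = (↑(β⁻¹ * u) : NodeAlg B π) * NodeAlg.e π := by
      have : NodeAlg.t π * ((β : NodeAlg B π) * σ (NodeAlg.t π)) = NodeAlg.t π * (NodeAlg.e π * u) := by
        calc NodeAlg.t π * ((β : NodeAlg B π) * σ (NodeAlg.t π))
            = σ (NodeAlg.t π) * (NodeAlg.t π * β) := by ring
          _ = σ (NodeAlg.t π) * σ (NodeAlg.e π) := by rw [hb]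
          _ = NodeAlg.t π * (NodeAlg.e π * u) := by rw [← hu]; ring
      have h3 := mul_left_cancel₀ ht.ne_zero this
      rw [Units.val_mul, mul_assoc, mul_comm (u : NodeAlg B π), ← h3, ← mul_assoc, Units.inv_mul, one_mul]
    exact ⟨β⁻¹ * u, β, h2, by rw [hb]; ring⟩

end helpers

/-- Let B be a discrete valuation ring with uniformizer π and N = B[[t, e]]/(te - π) the complete local
ring of a semi-stable arithmetic surface at a singular point of the closed fibre. A ring
automorphism σ of N with σ(π) associated to π (for instance a B-algebra automorphism, or one lying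
over an automorphism of B) either stabilizes the two branches, σ(t) = α t and σ(e) = β e for units
α, β, or switches them, σ(t) = α e and σ(e) = β t for units α, β. (The published setting has B
complete with algebraically closed residue field and σ linear over B or over an automorphism of B;
the argument uses only that σ(π) generates (π).) -/
theorem result (B : Type u) [CommRing B] [IsDomain B] [IsDiscreteValuationRing B] (π : B) (hπ : Irreducible π)
    (σ : ArLef.NodeAlg B π ≃+* ArLef.NodeAlg B π)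
    (hσ : Associated (σ (algebraMap B (ArLef.NodeAlg B π) π)) (algebraMap B (ArLef.NodeAlg B π) π)) :
    (∃ α β : (ArLef.NodeAlg B π)ˣ, σ (ArLef.NodeAlg.t π) = (α : ArLef.NodeAlg B π) * ArLef.NodeAlg.t π ∧ σ (ArLef.NodeAlg.e π) = (β : ArLef.NodeAlg B π) * ArLef.NodeAlg.e π) ∨
      (∃ α β : (ArLef.NodeAlg B π)ˣ, σ (ArLef.NodeAlg.t π) = (α : ArLef.NodeAlg B π) * ArLef.NodeAlg.e π ∧ σ (ArLef.NodeAlg.e π) = (β : ArLef.NodeAlg B π) * ArLef.NodeAlg.t π) := by
  exact main B π hπ σ hσ

end Groth.Agent.S15316
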