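import Groth.Statements.S15317
import Mathlib
import Groth.Agent.Lib.NodeAlgFix7

set_option autoImplicit false
universe u
open ArLef ArLef.NodeAlg

namespace Groth.Agent.S15317

section helpers

open Groth.Agent.Lib.NodeAlg7 ArLef

theorem main (B : Type u) [CommRing B] [IsDomain B] [IsDiscreteValuationRing B] (π : B) (hπ : Irreducible π)
    (σ : ArLef.NodeAlg B π ≃ₐ[B] ArLef.NodeAlg B π) (hσ : σ ≠ AlgEquiv.refl)
    (ht : Associated (σ (ArLef.NodeAlg.t π)) (ArLef.NodeAlg.t π))
    (he : Associated (σ (ArLef.NodeAlg.e π)) (ArLef.NodeAlg.e π)) :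
    ∃ g : ArLef.NodeAlg B π, g ≠ 0 ∧
      ArLef.fixIdeal σ = Ideal.span {g} * Ideal.span ({ArLef.NodeAlg.t π, ArLef.NodeAlg.e π} : Set (ArLef.NodeAlg B π)) := by
  have hp : Prime π := hπ.prime
  haveI : IsDomain (NodeAlg B π) := isDomain_nodeAlg hp
  have htp := prime_t hp
  have hep := prime_e hp
  obtain ⟨u, hu⟩ := ht
  obtain ⟨v, hv⟩ := he
  set α : (NodeAlg B π)ˣ := u⁻¹ with hα
  set β : (NodeAlg B π)ˣ := v⁻¹ with hβ
  have hσt : σ (NodeAlg.t π) = α * NodeAlg.t π := by
    calc σ (NodeAlg.t π) = σ (NodeAlg.t π) * u * ↑u⁻¹ := by rw [mul_assoc, Units.mul_inv, mul_one]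
      _ = NodeAlg.t π * ↑u⁻¹ := by rw [hu]
      _ = α * NodeAlg.t π := by rw [mul_comm]
  have hσe : σ (NodeAlg.e π) = β * NodeAlg.e π := by
    calc σ (NodeAlg.e π) = σ (NodeAlg.e π) * v * ↑v⁻¹ := by rw [mul_assoc, Units.mul_inv, mul_one]
      _ = NodeAlg.e π * ↑v⁻¹ := by rw [hv]
      _ = β * NodeAlg.e π := by rw [mul_comm]
  have hαβ : (α : NodeAlg B π) * β = 1 := by
    have h1 : σ (NodeAlg.t π * NodeAlg.e π) = NodeAlg.t π * NodeAlg.e π := by
      rw [t_mul_e]; exact σ.commutes π
    rw [map_mul, hσt, hσe] at h1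
    have h2 : (NodeAlg.t π * NodeAlg.e π) * ((α : NodeAlg B π) * β) = (NodeAlg.t π * NodeAlg.e π) * 1 := by
      rw [mul_one]
      calc (NodeAlg.t π * NodeAlg.e π) * ((α : NodeAlg B π) * β)
          = α * NodeAlg.t π * (β * NodeAlg.e π) := by ring
        _ = NodeAlg.t π * NodeAlg.e π := h1
    exact mul_left_cancel₀ (mul_ne_zero htp.ne_zero hep.ne_zero) h2
  set g : NodeAlg B π := α - 1 with hg
  have hβg : (β : NodeAlg B π) - 1 = - β * g := by
    rw [hg]
    have : (β : NodeAlg B π) * α = 1 := by rw [mul_comm]; exact hαβ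
    calc (β : NodeAlg B π) - 1 = β - β * α := by rw [this]
      _ = - β * (α - 1) := by ring
  have h1 : σ (NodeAlg.t π) - NodeAlg.t π = g * NodeAlg.t π := by rw [hσt, hg]; ring
  have h2 : σ (NodeAlg.e π) - NodeAlg.e π = - β * g * NodeAlg.e π := by
    rw [hσe, ← hβg]; ring
  refine ⟨g, ?_, ?_⟩
  · intro hg0
    apply hσ
    have ha1 : (α : NodeAlg B π) = 1 := by rw [← sub_eq_zero]; exact hg0
    have hb1 : (β : NodeAlg B π) = 1 := by rw [ha1, one_mul] at hαβ; exact hαβ
    ext r
    have := node_fix hp (σ : NodeAlg B π →+* NodeAlg B π) ⊥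
      (fun b => by
        rw [Ideal.mem_bot, sub_eq_zero]
        exact σ.commutes b)
      (by rw [Ideal.mem_bot]; change σ (NodeAlg.t π) - _ = 0; rw [h1, hg0, zero_mul])
      (by rw [Ideal.mem_bot]; change σ (NodeAlg.e π) - _ = 0; rw [h2, hg0, mul_zero, zero_mul]) r
    rw [Ideal.mem_bot, sub_eq_zero] at this
    exact this
  · apply le_antisymm
    · rw [ArLef.fixIdeal, Ideal.span_le]
      rintro _ ⟨r, rfl⟩
      refine node_fix hp (σ : NodeAlg B π →+* NodeAlg B π) _ ?_ ?_ ?_ r
      · intro b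
        have : σ (algebraMap B (NodeAlg B π) b) = algebraMap B (NodeAlg B π) b := σ.commutes b
        change σ _ - _ ∈ _
        rw [this, sub_self]
        exact Ideal.zero_mem _
      · change σ (NodeAlg.t π) - _ ∈ _
        rw [h1]
        exact Ideal.mul_mem_mul (Ideal.mem_span_singleton_self g) (Ideal.subset_span (by simp))
      · change σ (NodeAlg.e π) - _ ∈ _
        rw [h2, mul_assoc]
        exact Ideal.mul_mem_left _ _
          (Ideal.mul_mem_mul (Ideal.mem_span_singleton_self g) (Ideal.subset_span (by simp)))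
    · rw [Ideal.mul_le]
      intro r hr s hs
      obtain ⟨c, rfl⟩ := Ideal.mem_span_singleton'.mp hr
      obtain ⟨a, b, rfl⟩ := Ideal.mem_span_pair.mp hs
      have e1 : g * NodeAlg.t π ∈ ArLef.fixIdeal σ := by
        rw [← h1]; exact Ideal.subset_span ⟨_, rfl⟩
      have e2 : g * NodeAlg.e π ∈ ArLef.fixIdeal σ := by
        have h3 : σ (NodeAlg.e π) - NodeAlg.e π ∈ ArLef.fixIdeal σ := Ideal.subset_span ⟨_, rfl⟩
        have h4 : g * NodeAlg.e π = - α * (σ (NodeAlg.e π) - NodeAlg.e π) := by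
          rw [h2]
          calc g * NodeAlg.e π = ((α : NodeAlg B π) * β) * (g * NodeAlg.e π) := by rw [hαβ, one_mul]
            _ = - α * (- β * g * NodeAlg.e π) := by ring
        rw [h4]
        exact Ideal.mul_mem_left _ _ h3
      have : c * g * (a * NodeAlg.t π + b * NodeAlg.e π) =
          c * a * (g * NodeAlg.t π) + c * b * (g * NodeAlg.e π) := by ring
      rw [this]
      exact Ideal.add_mem _ (Ideal.mul_mem_left _ _ e1) (Ideal.mul_mem_left _ _ e2)

end helpers

/-- Let B be a discrete valuation ring with uniformizer π, N = B[[t, e]]/(te - π), and σ a non-trivial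
B-algebra automorphism of N stabilizing both branches of the closed fibre (σ(t) associated to t,
σ(e) associated to e). Then the fixed-point ideal of σ, generated by all σ(r) - r, is g·(t, e) for a
non-zero g: the divisorial part of the fixed locus is cut out by g and its residual part is the
reduced closed point, of multiplicity one. (Stated in the complete local ring, where the published
argument takes place; the published setting has B complete with algebraically closed residue field.) -/
theorem result (B : Type u) [CommRing B] [IsDomain B] [IsDiscreteValuationRing B] (π : B) (hπ : Irreducible π)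
    (σ : ArLef.NodeAlg B π ≃ₐ[B] ArLef.NodeAlg B π) (hσ : σ ≠ AlgEquiv.refl)
    (ht : Associated (σ (ArLef.NodeAlg.t π)) (ArLef.NodeAlg.t π))
    (he : Associated (σ (ArLef.NodeAlg.e π)) (ArLef.NodeAlg.e π)) :
    ∃ g : ArLef.NodeAlg B π, g ≠ 0 ∧
      ArLef.fixIdeal σ = Ideal.span {g} * Ideal.span ({ArLef.NodeAlg.t π, ArLef.NodeAlg.e π} : Set (ArLef.NodeAlg B π)) := by
  exact main B π hπ σ hσ ht he

end Groth.Agent.S15317
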