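import Groth.Statements.S15318
import Mathlib
import Groth.Agent.Lib.NodeAlgFix7

set_option autoImplicit false
universe u
open ArLef ArLef.NodeAlg

namespace Groth.Agent.S15318

section helpers

open Groth.Agent.Lib.NodeAlg7 ArLef

/-- elements of `(t,e)` are killed by the augmentation. -/
theorem aug_eq_zero_of_mem {B : Type u} [CommRing B] [IsDomain B] [IsLocalRing B] (π : B)
    (hπ : π ∈ IsLocalRing.maximalIdeal B) {a : NodeAlg B π}
    (ha : a ∈ Ideal.span ({NodeAlg.t π, NodeAlg.e π} : Set (NodeAlg B π))) : aug π hπ a = 0 := by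
  obtain ⟨c, d, rfl⟩ := Ideal.mem_span_pair.mp ha
  rw [map_add, map_mul, map_mul, aug_t, aug_e, mul_zero, mul_zero, add_zero]

/-- `α e - t` with `α` arbitrary is not in `(t,e)^2`. -/
theorem not_mem_sq {B : Type u} [CommRing B] [IsDomain B] [IsLocalRing B] (π : B) (hp : Prime π)
    (α : NodeAlg B π) :
    α * NodeAlg.e π - NodeAlg.t π ∉
      (Ideal.span ({NodeAlg.t π, NodeAlg.e π} : Set (NodeAlg B π))) ^ 2 := by
  have hπm : π ∈ IsLocalRing.maximalIdeal B := by
    rw [IsLocalRing.mem_maximalIdeal]; exact hp.not_unit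
  haveI : IsDomain (NodeAlg B π) := isDomain_nodeAlg hp
  intro hmem
  rw [pow_two, Ideal.span_pair_mul_span_pair] at hmem
  obtain ⟨c₁, z₁, hz₁, e₁⟩ := Ideal.mem_span_insert.mp hmem
  obtain ⟨c₂, z₂, hz₂, e₂⟩ := Ideal.mem_span_insert.mp hz₁
  obtain ⟨c₃, z₃, hz₃, e₃⟩ := Ideal.mem_span_insert.mp hz₂
  obtain ⟨c₄, rfl⟩ := Ideal.mem_span_singleton'.mp hz₃
  -- t (1 + c₁ t + c₂ e + c₃ e) = e (α - c₄ e)
  have h1 : NodeAlg.e π ∣ NodeAlg.t π * (1 + c₁ * NodeAlg.t π + c₂ * NodeAlg.e π + c₃ * NodeAlg.e π) := by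
    refine ⟨α - c₄ * NodeAlg.e π, ?_⟩
    have : NodeAlg.t π * (1 + c₁ * NodeAlg.t π + c₂ * NodeAlg.e π + c₃ * NodeAlg.e π) =
        NodeAlg.t π + (c₁ * (NodeAlg.t π * NodeAlg.t π) + (c₂ * (NodeAlg.t π * NodeAlg.e π) +
          (c₃ * (NodeAlg.e π * NodeAlg.t π) + c₄ * (NodeAlg.e π * NodeAlg.e π)))) -
          c₄ * (NodeAlg.e π * NodeAlg.e π) := by ring
    rw [this, ← e₃, ← e₂, ← e₁]; ring
  rcases (prime_e hp).dvd_or_dvd h1 with h2 | h2
  · exact not_e_dvd_t hp h2
  · obtain ⟨w, hw⟩ := h2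
    have := congrArg (aug π hπm) hw
    simp only [map_add, map_mul, map_one, aug_t, aug_e, mul_zero, add_zero, zero_mul] at this
    exact one_ne_zero this

theorem main (B : Type u) [CommRing B] [IsDomain B] [IsDiscreteValuationRing B] (π : B) (hπ : Irreducible π)
    (σ : ArLef.NodeAlg B π ≃ₐ[B] ArLef.NodeAlg B π)
    (ht : Associated (σ (ArLef.NodeAlg.t π)) (ArLef.NodeAlg.e π))
    (he : Associated (σ (ArLef.NodeAlg.e π)) (ArLef.NodeAlg.t π)) :
    ∃ h : ArLef.NodeAlg B π, ArLef.fixIdeal σ = Ideal.span {h} ∧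
      h ∉ (Ideal.span ({ArLef.NodeAlg.t π, ArLef.NodeAlg.e π} : Set (ArLef.NodeAlg B π))) ^ 2 ∧
      IsSMulRegular (ArLef.NodeAlg B π ⧸ Ideal.span ({h} : Set (ArLef.NodeAlg B π))) π := by
  have hp : Prime π := hπ.prime
  haveI : IsDomain (NodeAlg B π) := isDomain_nodeAlg hp
  have htp := prime_t hp
  have hep := prime_e hp
  obtain ⟨u, hu⟩ := ht
  obtain ⟨v, hv⟩ := he
  set α : (NodeAlg B π)ˣ := u⁻¹ with hα
  set β : (NodeAlg B π)ˣ := v⁻¹ with hβ
  have hσt : σ (NodeAlg.t π) = α * NodeAlg.e π := by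
    calc σ (NodeAlg.t π) = σ (NodeAlg.t π) * u * ↑u⁻¹ := by rw [mul_assoc, Units.mul_inv, mul_one]
      _ = NodeAlg.e π * ↑u⁻¹ := by rw [hu]
      _ = α * NodeAlg.e π := by rw [mul_comm]
  have hσe : σ (NodeAlg.e π) = β * NodeAlg.t π := by
    calc σ (NodeAlg.e π) = σ (NodeAlg.e π) * v * ↑v⁻¹ := by rw [mul_assoc, Units.mul_inv, mul_one]
      _ = NodeAlg.t π * ↑v⁻¹ := by rw [hv]
      _ = β * NodeAlg.t π := by rw [mul_comm]
  have hαβ : (α : NodeAlg B π) * β = 1 := by
    have h1 : σ (NodeAlg.t π * NodeAlg.e π) = NodeAlg.t π * NodeAlg.e π := by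
      rw [t_mul_e]; exact σ.commutes π
    rw [map_mul, hσt, hσe] at h1
    have h2 : (NodeAlg.t π * NodeAlg.e π) * ((α : NodeAlg B π) * β) = (NodeAlg.t π * NodeAlg.e π) * 1 := by
      rw [mul_one]
      calc (NodeAlg.t π * NodeAlg.e π) * ((α : NodeAlg B π) * β)
          = α * NodeAlg.e π * (β * NodeAlg.t π) := by ring
        _ = NodeAlg.t π * NodeAlg.e π := h1
    exact mul_left_cancel₀ (mul_ne_zero htp.ne_zero hep.ne_zero) h2
  set h : NodeAlg B π := α * NodeAlg.e π - NodeAlg.t π with hh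
  have h1 : σ (NodeAlg.t π) - NodeAlg.t π = h := by rw [hσt]
  have h2 : σ (NodeAlg.e π) - NodeAlg.e π = - β * h := by
    rw [hσe, hh]
    have : (β : NodeAlg B π) * α = 1 := by rw [mul_comm]; exact hαβ
    calc (β : NodeAlg B π) * NodeAlg.t π - NodeAlg.e π
        = β * NodeAlg.t π - (β * α) * NodeAlg.e π := by rw [this, one_mul]
      _ = - β * (α * NodeAlg.e π - NodeAlg.t π) := by ring
  have hth : ¬ NodeAlg.t π ∣ h := by
    intro hd
    have : NodeAlg.t π ∣ (α : NodeAlg B π) * NodeAlg.e π := by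
      have := dvd_add hd (dvd_refl (NodeAlg.t π))
      rwa [hh, sub_add_cancel] at this
    rcases htp.dvd_or_dvd this with h3 | h3
    · exact htp.not_unit (isUnit_of_dvd_unit h3 α.isUnit)
    · exact not_t_dvd_e hp h3
  have heh : ¬ NodeAlg.e π ∣ h := by
    intro hd
    have : NodeAlg.e π ∣ NodeAlg.t π := by
      have := dvd_sub (Dvd.intro_left (α : NodeAlg B π) rfl) hd
      rwa [hh, sub_sub_cancel] at this
    exact not_e_dvd_t hp this
  refine ⟨h, ?_, not_mem_sq π hp α, ?_⟩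
  · apply le_antisymm
    · rw [ArLef.fixIdeal, Ideal.span_le]
      rintro _ ⟨r, rfl⟩
      refine node_fix hp (σ : NodeAlg B π →+* NodeAlg B π) _ ?_ ?_ ?_ r
      · intro b
        have : σ (algebraMap B (NodeAlg B π) b) = algebraMap B (NodeAlg B π) b := σ.commutes b
        change σ _ - _ ∈ _
        rw [this, sub_self]
        exact Ideal.zero_mem _
      · change σ (NodeAlg.t π) - _ ∈ _
        rw [h1]
        exact Ideal.mem_span_singleton_self h
      · change σ (NodeAlg.e π) - _ ∈ _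
        rw [h2]
        exact Ideal.mul_mem_left _ _ (Ideal.mem_span_singleton_self h)
    · rw [Ideal.span_le, Set.singleton_subset_iff, ← h1]
      exact Ideal.subset_span ⟨_, rfl⟩
  · intro x y hxy
    obtain ⟨x, rfl⟩ := Ideal.Quotient.mk_surjective x
    obtain ⟨y, rfl⟩ := Ideal.Quotient.mk_surjective y
    have hxy' : Ideal.Quotient.mk (Ideal.span {h}) (algebraMap B (NodeAlg B π) π * x) =
        Ideal.Quotient.mk (Ideal.span {h}) (algebraMap B (NodeAlg B π) π * y) := by
      rw [← Algebra.smul_def, ← Algebra.smul_def]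
      exact hxy
    rw [Ideal.Quotient.eq, ← mul_sub, ← t_mul_e, Ideal.mem_span_singleton] at hxy'
    rw [Ideal.Quotient.eq, Ideal.mem_span_singleton]
    obtain ⟨w, hw⟩ := hxy'
    -- t e (x - y) = h w
    have h3 : NodeAlg.t π ∣ h * w := ⟨NodeAlg.e π * (x - y), by rw [← hw]; ring⟩
    obtain ⟨w₁, rfl⟩ := (htp.dvd_or_dvd h3).resolve_left hth
    have h4 : NodeAlg.e π * (x - y) = h * w₁ := by
      have : NodeAlg.t π * (NodeAlg.e π * (x - y)) = NodeAlg.t π * (h * w₁) := by
        rw [← mul_assoc, hw]; ring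
      exact mul_left_cancel₀ htp.ne_zero this
    have h5 : NodeAlg.e π ∣ h * w₁ := ⟨x - y, h4.symm⟩
    obtain ⟨w₂, rfl⟩ := (hep.dvd_or_dvd h5).resolve_left heh
    refine ⟨w₂, ?_⟩
    have : NodeAlg.e π * (x - y) = NodeAlg.e π * (h * w₂) := by rw [h4]; ring
    exact mul_left_cancel₀ hep.ne_zero this

end helpers

/-- Let B be a discrete valuation ring with uniformizer π, N = B[[t, e]]/(te - π), and σ a B-algebra
automorphism of N switching the two branches of the closed fibre (σ(t) associated to e, σ(e)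
associated to t). Then the fixed-point ideal of σ is principal, generated by an element h of order
one (h is not in (t, e)²), and π is a non-zero-divisor modulo h: the fixed locus is a horizontal
regular divisor through the point with empty residual part. (Stated in the complete local ring,
where the published argument takes place; the published setting has B complete with algebraically
closed residue field.) -/
theorem result (B : Type u) [CommRing B] [IsDomain B] [IsDiscreteValuationRing B] (π : B) (hπ : Irreducible π)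
    (σ : ArLef.NodeAlg B π ≃ₐ[B] ArLef.NodeAlg B π)
    (ht : Associated (σ (ArLef.NodeAlg.t π)) (ArLef.NodeAlg.e π))
    (he : Associated (σ (ArLef.NodeAlg.e π)) (ArLef.NodeAlg.t π)) :
    ∃ h : ArLef.NodeAlg B π, ArLef.fixIdeal σ = Ideal.span {h} ∧
      h ∉ (Ideal.span ({ArLef.NodeAlg.t π, ArLef.NodeAlg.e π} : Set (ArLef.NodeAlg B π))) ^ 2 ∧
      IsSMulRegular (ArLef.NodeAlg B π ⧸ Ideal.span ({h} : Set (ArLef.NodeAlg B π))) π := by
  exact main B π hπ σ ht he

end Groth.Agent.S15318
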