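import Groth.Statements.S15319
import Mathlib
import Groth.Agent.Lib.NodeAlg7

set_option autoImplicit false
universe u
open ArLef ArLef.NodeAlg

namespace Groth.Agent.S15319

section helpers

open Groth.Agent.Lib.NodeAlg7 ArLef

theorem main (B : Type u) [CommRing B] [IsDomain B] [IsDiscreteValuationRing B] (π : B) (hπ : Irreducible π)
    (j : ℕ) (hj : 1 ≤ j) (γ : B) (hγ : IsUnit γ)
    (σ : ArLef.NodeAlg B π ≃+* ArLef.NodeAlg B π)
    (hσ : σ (algebraMap B (ArLef.NodeAlg B π) π) = algebraMap B (ArLef.NodeAlg B π) (π + γ * π ^ j)) :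
    ¬ ArLef.fixIdeal σ ≤ Ideal.span ({algebraMap B (ArLef.NodeAlg B π) (π ^ j)} : Set (ArLef.NodeAlg B π)) := by
  intro hle
  have hp : Prime π := hπ.prime
  haveI : IsDomain (NodeAlg B π) := isDomain_nodeAlg hp
  have hπm : π ∈ IsLocalRing.maximalIdeal B := by
    rw [IsLocalRing.mem_maximalIdeal]; exact hπ.not_isUnit
  set P : NodeAlg B π := algebraMap B (NodeAlg B π) π with hP
  have hPne : P ≠ 0 := by
    rw [hP, ← t_mul_e]
    exact mul_ne_zero (prime_t hp).ne_zero (prime_e hp).ne_zero
  have h1 : σ (NodeAlg.t π) - NodeAlg.t π ∈ Ideal.span ({algebraMap B (NodeAlg B π) (π ^ j)} : Set (NodeAlg B π)) :=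
    hle (Ideal.subset_span ⟨_, rfl⟩)
  have h2 : σ (NodeAlg.e π) - NodeAlg.e π ∈ Ideal.span ({algebraMap B (NodeAlg B π) (π ^ j)} : Set (NodeAlg B π)) :=
    hle (Ideal.subset_span ⟨_, rfl⟩)
  rw [Ideal.mem_span_singleton, map_pow] at h1 h2
  obtain ⟨x, hx⟩ := h1
  obtain ⟨y, hy⟩ := h2
  have hx' : σ (NodeAlg.t π) = NodeAlg.t π + P ^ j * x := by rw [← hx]; ring
  have hy' : σ (NodeAlg.e π) = NodeAlg.e π + P ^ j * y := by rw [← hy]; ring
  have h3 : σ P = P + algebraMap B (NodeAlg B π) γ * P ^ j := by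
    rw [hP, hσ, map_add, map_mul, map_pow]
  have h4 : σ P = P + P ^ j * (NodeAlg.t π * y + NodeAlg.e π * x + P ^ j * x * y) := by
    conv_lhs => rw [hP, ← t_mul_e, map_mul, hx', hy']
    rw [hP, ← t_mul_e]; ring
  have h5 : P ^ j * algebraMap B (NodeAlg B π) γ =
      P ^ j * (NodeAlg.t π * y + NodeAlg.e π * x + P ^ j * x * y) := by
    have := h3.symm.trans h4
    have h6 := add_left_cancel this
    rw [← h6]; ring
  have h6 := mul_left_cancel₀ (pow_ne_zero j hPne) h5
  have h7 := congrArg (aug π hπm) h6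
  rw [aug_algebraMap, map_add, map_add, map_mul, map_mul, map_mul, map_mul, map_pow, aug_t, aug_e,
    hP, aug_algebraMap, (IsLocalRing.residue_eq_zero_iff π).mpr hπm, zero_pow (by omega)] at h7
  simp only [zero_mul, add_zero] at h7
  rw [IsLocalRing.residue_eq_zero_iff, IsLocalRing.mem_maximalIdeal] at h7
  exact h7 hγ

end helpers

/-- Let B be a discrete valuation ring with uniformizer π, N = B[[t, e]]/(te - π) the complete local
ring of a semi-stable arithmetic surface over B at a singular point of the closed fibre, and σ a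
ring automorphism of N sending π to π + γ π^j with γ a unit of B and j ≥ 1 (σ lies over an
automorphism τ of B with v(τ(π) - π) = j). Then the fixed-point ideal of σ is not contained in (π^j)
= (t^j e^j): the two branches through the point cannot both occur with multiplicity j in the
divisorial part of the fixed locus. (The published setting has B complete with algebraically closed
residue field.) -/
theorem result (B : Type u) [CommRing B] [IsDomain B] [IsDiscreteValuationRing B] (π : B) (hπ : Irreducible π)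
    (j : ℕ) (hj : 1 ≤ j) (γ : B) (hγ : IsUnit γ)
    (σ : ArLef.NodeAlg B π ≃+* ArLef.NodeAlg B π)
    (hσ : σ (algebraMap B (ArLef.NodeAlg B π) π) = algebraMap B (ArLef.NodeAlg B π) (π + γ * π ^ j)) :
    ¬ ArLef.fixIdeal σ ≤ Ideal.span ({algebraMap B (ArLef.NodeAlg B π) (π ^ j)} : Set (ArLef.NodeAlg B π)) := by
  exact main B π hπ j hj γ hγ σ hσ

end Groth.Agent.S15319
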