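import Groth.Statements.S15320
import Mathlib
import Groth.Agent.Lib.NodeAlgLen7

set_option autoImplicit false
universe u
open ArLef ArLef.NodeAlg

namespace Groth.Agent.S15320

section helpers

open Groth.Agent.Lib.NodeAlg7 Groth.Agent.Lib.ArLefSmooth7 ArLef

theorem main (B : Type u) [CommRing B] [IsDomain B] [IsDiscreteValuationRing B] (π : B) (hπ : Irreducible π)
    (j : ℕ) (hj : 1 ≤ j) (γ : B) (hγ : IsUnit γ)
    (σ : ArLef.NodeAlg B π ≃+* ArLef.NodeAlg B π)
    (hσB : ∀ b : B, σ (algebraMap B (ArLef.NodeAlg B π) b) - algebraMap B (ArLef.NodeAlg B π) b ∈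
      Ideal.span ({algebraMap B (ArLef.NodeAlg B π) (π ^ j)} : Set (ArLef.NodeAlg B π)))
    (hσπ : σ (algebraMap B (ArLef.NodeAlg B π) π) = algebraMap B (ArLef.NodeAlg B π) (π + γ * π ^ j))
    (ht : Associated (σ (ArLef.NodeAlg.t π)) (ArLef.NodeAlg.e π)) (he : Associated (σ (ArLef.NodeAlg.e π)) (ArLef.NodeAlg.t π)) :
    (∀ g : ArLef.NodeAlg B π, ArLef.fixIdeal σ ≤ Ideal.span ({g} : Set (ArLef.NodeAlg B π)) → IsUnit g) ∧
      Module.length (ArLef.NodeAlg B π) (ArLef.NodeAlg B π ⧸ ArLef.fixIdeal σ) = ((2 * j - 1 : ℕ) : ℕ∞) := by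
  have hp : Prime π := hπ.prime
  haveI : IsDomain (NodeAlg B π) := isDomain_nodeAlg hp
  have htp := prime_t hp
  have hep := prime_e hp
  obtain ⟨u, hu⟩ := ht
  obtain ⟨v, hv⟩ := he
  set α : (NodeAlg B π)ˣ := u⁻¹ with hα
  set β : (NodeAlg B π)ˣ := v⁻¹ with hβ
  set t := NodeAlg.t π with ht_def
  set e := NodeAlg.e π with he_def
  have hσt : σ t = α * e := by
    calc σ t = σ t * u * ↑u⁻¹ := by rw [mul_assoc, Units.mul_inv, mul_one]
      _ = e * ↑u⁻¹ := by rw [hu]
      _ = α * e := by rw [mul_comm]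
  have hσe : σ e = β * t := by
    calc σ e = σ e * v * ↑v⁻¹ := by rw [mul_assoc, Units.mul_inv, mul_one]
      _ = t * ↑v⁻¹ := by rw [hv]
      _ = β * t := by rw [mul_comm]
  set P : NodeAlg B π := algebraMap B (NodeAlg B π) π with hP
  have hte : t * e = P := t_mul_e π
  have hPne : P ≠ 0 := by rw [← hte]; exact mul_ne_zero htp.ne_zero hep.ne_zero
  obtain ⟨γu, rfl⟩ := hγ
  set G : NodeAlg B π := algebraMap B (NodeAlg B π) (γu : B) with hG
  have hGu : IsUnit G := (γu.isUnit).map (algebraMap B (NodeAlg B π))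
  obtain ⟨k, rfl⟩ : ∃ k, j = k + 1 := ⟨j - 1, by omega⟩
  have hσP : σ P = P * (1 + G * P ^ k) := by
    rw [hP, hσπ, map_add, map_mul, map_pow, ← hP, ← hG, pow_succ]; ring
  have hαβ : (α : NodeAlg B π) * β = 1 + G * P ^ k := by
    have h1 : σ P = P * ((α : NodeAlg B π) * β) := by
      rw [← hte, map_mul, hσt, hσe]; ring
    exact mul_left_cancel₀ hPne (h1.symm.trans hσP)
  set h : NodeAlg B π := α * e - t with hh
  have h1 : σ t - t = h := by rw [hσt]
  have h2 : σ e - e = G * (P ^ k * e) - β * h := by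
    rw [hσe, hh]
    have : (β : NodeAlg B π) * α = 1 + G * P ^ k := by rw [mul_comm]; exact hαβ
    calc (β : NodeAlg B π) * t - e = (1 + G * P ^ k) * e - e - β * (α * e - t) := by rw [← this]; ring
      _ = G * (P ^ k * e) - β * (α * e - t) := by ring
  -- t^n ≡ (α e)^n mod h
  have hcong : ∀ n : ℕ, ∃ c, t ^ n = (α * e) ^ n + h * c := by
    intro n
    obtain ⟨c, hc⟩ := sub_dvd_pow_sub_pow ((α : NodeAlg B π) * e) t n
    refine ⟨-c, ?_⟩
    have e0 : t ^ n = ((α : NodeAlg B π) * e) ^ n - (((α : NodeAlg B π) * e) ^ n - t ^ n) := by ring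
    rw [e0, hc]; ring
  have heh : ¬ e ∣ h := by
    intro hd
    have : e ∣ t := by
      have := dvd_sub (Dvd.intro_left (α : NodeAlg B π) rfl) hd
      rwa [hh, sub_sub_cancel] at this
    exact not_e_dvd_t hp this
  -- P^k e ≡ α^k e^(2k+1) mod h
  obtain ⟨ck, hck⟩ := hcong k
  have hPk : P ^ k * e = (α : NodeAlg B π) ^ k * e ^ (2 * k + 1) + h * (ck * e ^ (k + 1)) := by
    rw [← hte, mul_pow, hck]; ring
  have hI : ArLef.fixIdeal σ = Ideal.span {e ^ (2 * k + 1), h} := by
    apply le_antisymm
    · rw [ArLef.fixIdeal, Ideal.span_le]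
      rintro _ ⟨r, rfl⟩
      have hPkmem : P ^ k * e ∈ Ideal.span {e ^ (2 * k + 1), h} := by
        rw [hPk]
        exact Ideal.add_mem _ (Ideal.mul_mem_left _ _ (Ideal.subset_span (by simp)))
          (Ideal.mul_mem_right _ _ (Ideal.subset_span (by simp)))
      refine node_fix hp (σ : NodeAlg B π →+* NodeAlg B π) _ ?_ ?_ ?_ r
      · intro b
        have := hσB b
        rw [Ideal.mem_span_singleton] at this
        obtain ⟨c, hc⟩ := this
        change σ _ - _ ∈ _
        rw [hc, map_pow]
        have : P ^ (k + 1) * c = (P ^ k * e) * (t * c) := by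
          calc P ^ (k + 1) * c = P ^ k * P * c := by ring
            _ = P ^ k * (t * e) * c := by rw [hte]
            _ = (P ^ k * e) * (t * c) := by ring
        rw [this]
        exact Ideal.mul_mem_right _ _ hPkmem
      · change σ t - _ ∈ _
        rw [h1]
        exact Ideal.subset_span (by simp)
      · change σ e - _ ∈ _
        rw [h2]
        exact Ideal.sub_mem _ (Ideal.mul_mem_left _ _ hPkmem)
          (Ideal.mul_mem_left _ _ (Ideal.subset_span (by simp)))
    · have hhI : h ∈ ArLef.fixIdeal σ := by rw [← h1]; exact Ideal.subset_span ⟨_, rfl⟩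
      rw [Ideal.span_le]
      rintro x (rfl | rfl)
      · have e1 : σ e - e ∈ ArLef.fixIdeal σ := Ideal.subset_span ⟨_, rfl⟩
        have e2 : G * (P ^ k * e) ∈ ArLef.fixIdeal σ := by
          have : G * (P ^ k * e) = (σ e - e) + β * h := by rw [h2]; ring
          rw [this]
          exact Ideal.add_mem _ e1 (Ideal.mul_mem_left _ _ hhI)
        have e3 : P ^ k * e ∈ ArLef.fixIdeal σ := by
          obtain ⟨Gu, hGu'⟩ := hGu
          have : P ^ k * e = ↑Gu⁻¹ * (G * (P ^ k * e)) := by
            rw [← hGu', ← mul_assoc, Units.inv_mul, one_mul]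
          rw [this]
          exact Ideal.mul_mem_left _ _ e2
        have e4 : (α : NodeAlg B π) ^ k * e ^ (2 * k + 1) ∈ ArLef.fixIdeal σ := by
          have : (α : NodeAlg B π) ^ k * e ^ (2 * k + 1) = P ^ k * e - h * (ck * e ^ (k + 1)) := by
            rw [hPk]; ring
          rw [this]
          exact Ideal.sub_mem _ e3 (Ideal.mul_mem_right _ _ hhI)
        have : e ^ (2 * k + 1) = ↑(α⁻¹ ^ k) * ((α : NodeAlg B π) ^ k * e ^ (2 * k + 1)) := by
          rw [← mul_assoc, Units.val_pow_eq_pow_val, ← mul_pow, Units.inv_mul, one_pow, one_mul]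
        rw [SetLike.mem_coe, this]
        exact Ideal.mul_mem_left _ _ e4
      · exact hhI
  constructor
  · intro g hg
    have hgh : g ∣ h := by
      rw [← Ideal.mem_span_singleton]
      apply hg
      rw [hI]; exact Ideal.subset_span (by simp)
    have hge : g ∣ e ^ (2 * k + 1) := by
      rw [← Ideal.mem_span_singleton]
      apply hg
      rw [hI]; exact Ideal.subset_span (by simp)
    obtain ⟨i, _, hi⟩ := (dvd_prime_pow hep _).mp hge
    rcases Nat.eq_zero_or_pos i with rfl | hipos
    · rw [pow_zero] at hi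
      exact associated_one_iff_isUnit.mp hi
    · exfalso
      apply heh
      exact dvd_trans (dvd_trans (dvd_pow_self e (by omega)) hi.symm.dvd) hgh
  · rw [hI, length_quot_pow_pair hep heh (2 * k + 1)]
    have hspan : Ideal.span {e, h} = Ideal.span {t, e} := by
      apply le_antisymm
      · rw [Ideal.span_le]
        rintro x (rfl | rfl)
        · exact Ideal.subset_span (by simp)
        · rw [SetLike.mem_coe, hh]
          exact Ideal.sub_mem _ (Ideal.mul_mem_left _ _ (Ideal.subset_span (by simp)))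
            (Ideal.subset_span (by simp))
      · rw [Ideal.span_le]
        rintro x (rfl | rfl)
        · have : t = α * e - h := by rw [hh]; ring
          rw [SetLike.mem_coe, this]
          exact Ideal.sub_mem _ (Ideal.mul_mem_left _ _ (Ideal.subset_span (by simp)))
            (Ideal.subset_span (by simp))
        · exact Ideal.subset_span (by simp)
    rw [hspan, length_quot_t_e hp hπ.maximalIdeal_eq, mul_one]
    congr 1

end helpers

/-- Let B be a discrete valuation ring with uniformizer π, N = B[[t, e]]/(te - π) the complete local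
ring of a semi-stable arithmetic surface over B at a singular point x of the closed fibre, and σ a
ring automorphism of N over an automorphism τ of B with v(τ(π) - π) = j ≥ 1, that is σ(π) = π + γ
π^j with γ a unit of B, and with σ(b) - b ∈ π^j N for every b ∈ B (automatic when B is totally
ramified over the fixed ring of τ, as in the published setting, where the residue field is
algebraically closed). If σ switches the two branches through x (σ(t) associated to e and σ(e) to
t), then the fixed-point ideal I of σ is contained in no proper principal ideal (x is not on the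
divisorial part of the fixed locus) and N/I has length 2j - 1 (the multiplicity of x in the residual
fixed-point scheme). -/
theorem result (B : Type u) [CommRing B] [IsDomain B] [IsDiscreteValuationRing B] (π : B) (hπ : Irreducible π)
    (j : ℕ) (hj : 1 ≤ j) (γ : B) (hγ : IsUnit γ)
    (σ : ArLef.NodeAlg B π ≃+* ArLef.NodeAlg B π)
    (hσB : ∀ b : B, σ (algebraMap B (ArLef.NodeAlg B π) b) - algebraMap B (ArLef.NodeAlg B π) b ∈
      Ideal.span ({algebraMap B (ArLef.NodeAlg B π) (π ^ j)} : Set (ArLef.NodeAlg B π)))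
    (hσπ : σ (algebraMap B (ArLef.NodeAlg B π) π) = algebraMap B (ArLef.NodeAlg B π) (π + γ * π ^ j))
    (ht : Associated (σ (ArLef.NodeAlg.t π)) (ArLef.NodeAlg.e π)) (he : Associated (σ (ArLef.NodeAlg.e π)) (ArLef.NodeAlg.t π)) :
    (∀ g : ArLef.NodeAlg B π, ArLef.fixIdeal σ ≤ Ideal.span ({g} : Set (ArLef.NodeAlg B π)) → IsUnit g) ∧
      Module.length (ArLef.NodeAlg B π) (ArLef.NodeAlg B π ⧸ ArLef.fixIdeal σ) = ((2 * j - 1 : ℕ) : ℕ∞) := by
  exact main B π hπ j hj γ hγ σ hσB hσπ ht he

end Groth.Agent.S15320
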