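import Groth.Statements.S15321
import Mathlib
import Groth.Agent.Lib.ArLefSmooth7

set_option autoImplicit false
universe u
open ArLef

namespace Groth.Agent.S15321

section helpers

open Groth.Agent.Lib.ArLefSmooth7 PowerSeries

/-- the fixed ideal of `σ` is `(π^j, σ t - t)`. -/
theorem fixIdeal_eq (B : Type u) [CommRing B] [IsDomain B] [IsDiscreteValuationRing B] (π : B)
    (j : ℕ) (γ : B) (hγ : IsUnit γ)
    (σ : PowerSeries B ≃+* PowerSeries B)
    (hσB : ∀ b : B, σ (algebraMap B (PowerSeries B) b) - algebraMap B (PowerSeries B) b ∈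
      Ideal.span ({algebraMap B (PowerSeries B) (π ^ j)} : Set (PowerSeries B)))
    (hσπ : σ (algebraMap B (PowerSeries B) π) = algebraMap B (PowerSeries B) (π + γ * π ^ j)) :
    ArLef.fixIdeal σ = Ideal.span {(C π : PowerSeries B) ^ j, σ X - X} := by
  simp only [PowerSeries.algebraMap_eq] at hσB hσπ
  apply le_antisymm
  · rw [ArLef.fixIdeal, Ideal.span_le]
    rintro _ ⟨r, rfl⟩
    refine map_sub_self_mem (σ : PowerSeries B →+* PowerSeries B) _ ?_ ?_ r
    · intro b
      have := hσB b
      rw [Ideal.mem_span_singleton] at this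
      obtain ⟨c, hc⟩ := this
      refine Ideal.mem_span_pair.mpr ⟨c, 0, ?_⟩
      rw [RingEquiv.coe_toRingHom, hc, map_pow]; ring
    · exact Ideal.subset_span (by simp)
  · rw [Ideal.span_le]
    rintro x hx
    rcases hx with rfl | rfl
    · obtain ⟨u, rfl⟩ := hγ
      have h1 : σ (C π) - C π ∈ ArLef.fixIdeal σ := Ideal.subset_span ⟨C π, rfl⟩
      have h2 : (C π : PowerSeries B) ^ j = C (↑u⁻¹ : B) * (σ (C π) - C π) := by
        rw [hσπ, ← map_sub, ← map_mul, ← map_pow]
        congr 1
        have : (π + ↑u * π ^ j - π) = ↑u * π ^ j := by ring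
        rw [this, ← mul_assoc, Units.inv_mul, one_mul]
      rw [SetLike.mem_coe, h2]
      exact Ideal.mul_mem_left _ _ h1
    · exact Ideal.subset_span ⟨X, rfl⟩


theorem main (B : Type u) [CommRing B] [IsDomain B] [IsDiscreteValuationRing B] (π : B) (hπ : Irreducible π)
    (j : ℕ) (hj : 1 ≤ j) (γ : B) (hγ : IsUnit γ)
    (σ : PowerSeries B ≃+* PowerSeries B)
    (hσB : ∀ b : B, σ (algebraMap B (PowerSeries B) b) - algebraMap B (PowerSeries B) b ∈
      Ideal.span ({algebraMap B (PowerSeries B) (π ^ j)} : Set (PowerSeries B)))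
    (hσπ : σ (algebraMap B (PowerSeries B) π) = algebraMap B (PowerSeries B) (π + γ * π ^ j))
    (h0 : ¬ (algebraMap B (PowerSeries B) π ∣ σ PowerSeries.X - PowerSeries.X)) :
    Module.length (PowerSeries B) (PowerSeries B ⧸ ArLef.fixIdeal σ) =
      (j : ℕ∞) * Module.length (PowerSeries (IsLocalRing.ResidueField B)) (PowerSeries (IsLocalRing.ResidueField B) ⧸
        Ideal.span ({PowerSeries.map (IsLocalRing.residue B) (σ PowerSeries.X - PowerSeries.X)} : Set (PowerSeries (IsLocalRing.ResidueField B)))) := by
  rw [fixIdeal_eq B π j γ hγ σ hσB hσπ]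
  rw [PowerSeries.algebraMap_eq] at h0
  rw [length_quot_pow_pair (prime_C hπ) h0 j, length_quot_pair_eq hπ]


end helpers

/-- In the case of a smooth point with the closed fibre outside the divisorial part, let B be a discrete
valuation ring with uniformizer π and residue field k, B[[t]] the complete local ring of a
semi-stable arithmetic surface over B at a point x where the closed fibre is smooth, and σ a ring
automorphism of B[[t]] over an automorphism τ of B with v(τ(π) - π) = j ≥ 1, that is σ(π) = π + γ
π^j with γ a unit, and σ(b) - b ∈ π^j B[[t]] for all b ∈ B (automatic for B totally ramified over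
the fixed ring of τ, as in the published setting). If π does not divide f = σ(t) - t (the closed
fibre is not in the divisorial part of the fixed locus near x), then the length of B[[t]] modulo the
fixed-point ideal of σ is j m, where m, the length of k[[t]]/(f mod π), is the multiplicity of x as
a fixed point of σ on the closed fibre. -/
theorem result (B : Type u) [CommRing B] [IsDomain B] [IsDiscreteValuationRing B] (π : B) (hπ : Irreducible π)
    (j : ℕ) (hj : 1 ≤ j) (γ : B) (hγ : IsUnit γ)
    (σ : PowerSeries B ≃+* PowerSeries B)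
    (hσB : ∀ b : B, σ (algebraMap B (PowerSeries B) b) - algebraMap B (PowerSeries B) b ∈
      Ideal.span ({algebraMap B (PowerSeries B) (π ^ j)} : Set (PowerSeries B)))
    (hσπ : σ (algebraMap B (PowerSeries B) π) = algebraMap B (PowerSeries B) (π + γ * π ^ j))
    (h0 : ¬ (algebraMap B (PowerSeries B) π ∣ σ PowerSeries.X - PowerSeries.X)) :
    Module.length (PowerSeries B) (PowerSeries B ⧸ ArLef.fixIdeal σ) =
      (j : ℕ∞) * Module.length (PowerSeries (IsLocalRing.ResidueField B)) (PowerSeries (IsLocalRing.ResidueField B) ⧸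
        Ideal.span ({PowerSeries.map (IsLocalRing.residue B) (σ PowerSeries.X - PowerSeries.X)} : Set (PowerSeries (IsLocalRing.ResidueField B)))) := by
  exact main B π hπ j hj γ hγ σ hσB hσπ h0

end Groth.Agent.S15321
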