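import Groth.Statements.S15322
import Mathlib

set_option autoImplicit false
universe u
open CategoryTheory AlgebraicGeometry
open ArLef

namespace Groth.Agent.S15322

open CategoryTheory CategoryTheory.Limits AlgebraicGeometry

/-- rigidity: two `C`-morphisms from a connected scheme to an étale separated `C`-scheme which
agree on some nonempty scheme mapping to the source are equal. -/
theorem rigidity {T D C P : Scheme.{u}} (f : D ⟶ C) [Etale f] [IsSeparated f]
    [ConnectedSpace T] (g₁ g₂ : T ⟶ D) (h : g₁ ≫ f = g₂ ≫ f) [Nonempty P] (z : P ⟶ T)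
    (hz : z ≫ g₁ = z ≫ g₂) : g₁ = g₂ := by
  let l : T ⟶ pullback f f := pullback.lift g₁ g₂ h
  let E := pullback l (pullback.diagonal f)
  let e : E ⟶ T := pullback.fst l (pullback.diagonal f)
  have hopen : IsOpenImmersion e := inferInstance
  have hclosed : IsClosedImmersion e := inferInstance
  have hne : (Set.range e).Nonempty := by
    let w : P ⟶ E := pullback.lift z (z ≫ g₁) (by
      apply pullback.hom_ext
      · simp only [l, Category.assoc, pullback.lift_fst, pullback.diagonal_fst, Category.comp_id]
      · simp only [l, Category.assoc, pullback.lift_snd, pullback.diagonal_snd, Category.comp_id, hz])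
    obtain ⟨pt⟩ := (inferInstance : Nonempty P)
    exact ⟨e (w pt), ⟨w pt, rfl⟩⟩
  have hclopen : IsClopen (Set.range e) := ⟨e.isClosedEmbedding.isClosed_range, e.isOpenEmbedding.isOpen_range⟩
  have hsurj : Surjective e := ⟨by
    rw [← Set.range_eq_univ]
    exact hclopen.eq_univ hne⟩
  have : IsIso e := (isIso_iff_isOpenImmersion_and_surjective e).mpr ⟨hopen, hsurj⟩
  have key : l = (inv e ≫ pullback.snd l (pullback.diagonal f)) ≫ pullback.diagonal f := by
    rw [Category.assoc, ← pullback.condition, ← Category.assoc, IsIso.inv_hom_id, Category.id_comp]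
  have h1 : g₁ = l ≫ pullback.fst f f := (pullback.lift_fst _ _ _).symm
  have h2 : g₂ = l ≫ pullback.snd f f := (pullback.lift_snd _ _ _).symm
  rw [h1, h2, key]
  simp


/-- Let f : D → C be a morphism, τ an automorphism of C and σ an automorphism of D with σ f = f τ; call
σ a good lifting of τ when the fixed-point scheme of σ is the full preimage of that of τ, i.e. every
morphism z : Z → D with z f τ = z f has z σ = z. If f is etale, separated and surjective with D
connected and the fixed-point scheme of τ is non-empty (some point of C, with its residue field, is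
fixed by τ), then τ has at most one good lifting. (The published statement is for a finite etale
cover of smooth projective irreducible curves over a field and a non-trivial τ; the argument uses
only the hypotheses stated here.) -/
theorem result {C D : Scheme.{u}} (f : D ⟶ C) [Etale f] [IsSeparated f] [Surjective f]
    [ConnectedSpace D] (τ : C ≅ C) (σ σ' : D ≅ D)
    (hσ : σ.hom ≫ f = f ≫ τ.hom) (hσ' : σ'.hom ≫ f = f ≫ τ.hom)
    (good : ∀ (Z : Scheme.{u}) (z : Z ⟶ D), z ≫ f ≫ τ.hom = z ≫ f → z ≫ σ.hom = z)
    (good' : ∀ (Z : Scheme.{u}) (z : Z ⟶ D), z ≫ f ≫ τ.hom = z ≫ f → z ≫ σ'.hom = z)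
    (x : C) (hx : C.fromSpecResidueField x ≫ τ.hom = C.fromSpecResidueField x) :
    σ = σ' := by
  obtain ⟨y, hy⟩ := f.surjective x
  subst hy
  have hz0 : D.fromSpecResidueField y ≫ f ≫ τ.hom = D.fromSpecResidueField y ≫ f := by
    rw [← Category.assoc, ← Scheme.Hom.SpecMap_residueFieldMap_fromSpecResidueField,
      Category.assoc, hx]
  have h1 := good _ _ hz0
  have h2 := good' _ _ hz0
  apply Iso.ext
  exact rigidity f σ.hom σ'.hom (hσ.trans hσ'.symm) (D.fromSpecResidueField y) (h1.trans h2.symm)

end Groth.Agent.S15322
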