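import Groth.Statements.S15323
import Mathlib
import Groth.Agent.Lib.NodeAlgLen7
import Groth.Agent.Lib.LenPair7

set_option autoImplicit false
universe u
open ArLef ArLef.NodeAlg

namespace Groth.Agent.S15323

section helpers

open Groth.Agent.Lib.NodeAlg7 Groth.Agent.Lib.ArLefSmooth7 Groth.Agent.Lib.LenPair7 ArLef

theorem mem_span_triple {R : Type*} [CommRing R] {p q r x : R} :
    x ∈ Ideal.span ({p, q, r} : Set R) ↔ ∃ u v w, u * p + v * q + w * r = x := by
  rw [Ideal.mem_span_insert]
  constructor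
  · rintro ⟨u, z, hz, rfl⟩
    obtain ⟨v, w, rfl⟩ := Ideal.mem_span_pair.mp hz
    exact ⟨u, v, w, by ring⟩
  · rintro ⟨u, v, w, rfl⟩
    exact ⟨u, v * q + w * r, Ideal.mem_span_pair.mpr ⟨v, w, rfl⟩, by ring⟩

theorem main (B : Type u) [CommRing B] [IsDomain B] [IsDiscreteValuationRing B] (π : B) (hπ : Irreducible π)
    (j : ℕ) (hj : 1 ≤ j) (γ : B) (hγ : IsUnit γ)
    (σ : ArLef.NodeAlg B π ≃+* ArLef.NodeAlg B π)
    (hσB : ∀ b : B, σ (algebraMap B (ArLef.NodeAlg B π) b) - algebraMap B (ArLef.NodeAlg B π) b ∈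
      Ideal.span ({algebraMap B (ArLef.NodeAlg B π) (π ^ j)} : Set (ArLef.NodeAlg B π)))
    (hσπ : σ (algebraMap B (ArLef.NodeAlg B π) π) = algebraMap B (ArLef.NodeAlg B π) (π + γ * π ^ j))
    (α β : (ArLef.NodeAlg B π)ˣ) (ht : σ (ArLef.NodeAlg.t π) = (α : ArLef.NodeAlg B π) * ArLef.NodeAlg.t π) (he : σ (ArLef.NodeAlg.e π) = (β : ArLef.NodeAlg B π) * ArLef.NodeAlg.e π)
    (htb : ¬ (ArLef.NodeAlg.t π ∣ (β : ArLef.NodeAlg B π) - 1)) (hea : ¬ (ArLef.NodeAlg.e π ∣ (α : ArLef.NodeAlg B π) - 1)) :
    Module.length (ArLef.NodeAlg B π) (ArLef.NodeAlg B π ⧸ ArLef.fixIdeal σ) =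
      (j : ℕ∞) * (Module.length (ArLef.NodeAlg B π) (ArLef.NodeAlg B π ⧸ Ideal.span ({ArLef.NodeAlg.t π, (β : ArLef.NodeAlg B π) - 1} : Set (ArLef.NodeAlg B π))) +
        Module.length (ArLef.NodeAlg B π) (ArLef.NodeAlg B π ⧸ Ideal.span ({ArLef.NodeAlg.e π, (α : ArLef.NodeAlg B π) - 1} : Set (ArLef.NodeAlg B π)))) + 1 := by
  have hp : Prime π := hπ.prime
  haveI : IsDomain (NodeAlg B π) := isDomain_nodeAlg hp
  have htp := prime_t hp
  have hep := prime_e hp
  set t := NodeAlg.t π with ht_def
  set e := NodeAlg.e π with he_def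
  set P : NodeAlg B π := algebraMap B (NodeAlg B π) π with hP
  have hte : t * e = P := t_mul_e π
  have hPne : P ≠ 0 := by rw [← hte]; exact mul_ne_zero htp.ne_zero hep.ne_zero
  obtain ⟨γu, rfl⟩ := hγ
  set G : NodeAlg B π := algebraMap B (NodeAlg B π) (γu : B) with hG
  have hGu : IsUnit G := (γu.isUnit).map (algebraMap B (NodeAlg B π))
  obtain ⟨k, rfl⟩ : ∃ k, j = k + 1 := ⟨j - 1, by omega⟩
  have hσP : σ P = P * (1 + G * P ^ k) := by
    rw [hP, hσπ, map_add, map_mul, map_pow, ← hP, ← hG, pow_succ]; ring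
  have hαβ : (α : NodeAlg B π) * β = 1 + G * P ^ k := by
    have h1 : σ P = P * ((α : NodeAlg B π) * β) := by
      rw [← hte, map_mul, ht, he]; ring
    exact mul_left_cancel₀ hPne (h1.symm.trans hσP)
  set a : NodeAlg B π := α - 1 with ha
  set b : NodeAlg B π := β - 1 with hb
  have hα : (α : NodeAlg B π) = 1 + a := by rw [ha]; ring
  have hβ : (β : NodeAlg B π) = 1 + b := by rw [hb]; ring
  -- b = G P^k - a β,  a = G P^k - α b
  have hb' : b = G * P ^ k - a * β := by
    have : (1 + a) * (β : NodeAlg B π) = 1 + G * P ^ k := by rw [← hα]; exact hαβ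
    rw [hb]
    calc (β : NodeAlg B π) - 1 = (1 + a) * β - 1 - a * β := by ring
      _ = G * P ^ k - a * β := by rw [this]; ring
  have ha' : a = G * P ^ k - α * b := by
    have : (α : NodeAlg B π) * (1 + b) = 1 + G * P ^ k := by rw [← hβ]; exact hαβ
    rw [ha]
    calc (α : NodeAlg B π) - 1 = α * (1 + b) - 1 - α * b := by ring
      _ = G * P ^ k - α * b := by rw [this]; ring
  have h1 : σ t - t = a * t := by rw [ht, ha]; ring
  have h2 : σ e - e = b * e := by rw [he, hb]; ring
  have hPk : P ^ (k + 1) = t * (t ^ k * e ^ (k + 1)) := by rw [← hte]; ring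
  -- the fixed ideal
  have hI : ArLef.fixIdeal σ = Ideal.span {a * t, b * e, P ^ (k + 1)} := by
    apply le_antisymm
    · rw [ArLef.fixIdeal, Ideal.span_le]
      rintro _ ⟨r, rfl⟩
      refine node_fix hp (σ : NodeAlg B π →+* NodeAlg B π) _ ?_ ?_ ?_ r
      · intro c
        have := hσB c
        rw [Ideal.mem_span_singleton] at this
        obtain ⟨d, hd⟩ := this
        change σ _ - _ ∈ _
        rw [hd, map_pow]
        exact Ideal.mul_mem_right _ _ (Ideal.subset_span (Or.inr (Or.inr rfl)))
      · change σ t - _ ∈ _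
        rw [h1]; exact Ideal.subset_span (by simp)
      · change σ e - _ ∈ _
        rw [h2]; exact Ideal.subset_span (by simp)
    · rw [Ideal.span_le]
      rintro x (rfl | rfl | rfl)
      · rw [← h1]; exact Ideal.subset_span ⟨_, rfl⟩
      · rw [← h2]; exact Ideal.subset_span ⟨_, rfl⟩
      · have e1 : σ P - P ∈ ArLef.fixIdeal σ := Ideal.subset_span ⟨_, rfl⟩
        have e2 : σ P - P = G * P ^ (k + 1) := by rw [hσP, pow_succ]; ring
        obtain ⟨Gu, hGu'⟩ := hGu
        have : P ^ (k + 1) = ↑Gu⁻¹ * (σ P - P) := by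
          rw [e2, ← hGu', ← mul_assoc, Units.inv_mul, one_mul]
        rw [SetLike.mem_coe, this]
        exact Ideal.mul_mem_left _ _ e1
  have hte' : ¬ t ∣ e := not_t_dvd_e hp
  have het' : ¬ e ∣ t := not_e_dvd_t hp
  -- I + (t)
  have hsup : Ideal.span {a * t, b * e, P ^ (k + 1)} ⊔ Ideal.span {t} = Ideal.span {t, e * b} := by
    apply le_antisymm
    · rw [sup_le_iff, Ideal.span_le, Ideal.span_le]
      refine ⟨?_, ?_⟩
      · rintro x (rfl | rfl | rfl)
        · exact Ideal.mul_mem_left _ _ (Ideal.subset_span (by simp))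
        · rw [mul_comm b e]; exact Ideal.subset_span (by simp)
        · rw [hPk]; exact Ideal.mul_mem_right _ _ (Ideal.subset_span (by simp))
      · rintro x rfl
        exact Ideal.subset_span (by simp)
    · rw [Ideal.span_le]
      rintro x (rfl | rfl)
      · exact Ideal.mem_sup_right (Ideal.mem_span_singleton_self _)
      · rw [mul_comm e b]; exact Ideal.mem_sup_left (Ideal.subset_span (by simp))
  -- I : t
  have hcolon : (Ideal.span {a * t, b * e, P ^ (k + 1)}).colon ({t} : Set (NodeAlg B π)) =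
      Ideal.span {a, t ^ k * e ^ (k + 1)} := by
    have hbe : b * e ∈ Ideal.span {a, t ^ k * e ^ (k + 1)} := by
      have : b * e = (- β * e) * a + G * (t ^ k * e ^ (k + 1)) := by
        rw [hb', ← hte]; ring
      rw [this]
      exact Ideal.add_mem _ (Ideal.mul_mem_left _ _ (Ideal.subset_span (by simp)))
        (Ideal.mul_mem_left _ _ (Ideal.subset_span (by simp)))
    ext x
    rw [Submodule.mem_colon_singleton, smul_eq_mul, mem_span_triple]
    constructor
    · rintro ⟨u, v, w, huvw⟩
      have hd : t ∣ v * (b * e) := by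
        refine ⟨x - u * a - w * (t ^ k * e ^ (k + 1)), ?_⟩
        have : v * (b * e) = x * t - u * (a * t) - w * P ^ (k + 1) := by rw [← huvw]; ring
        rw [this, hPk]; ring
      have hd' : t ∣ v := by
        rcases htp.dvd_or_dvd hd with h | h
        · exact h
        · rcases htp.dvd_or_dvd h with h | h
          · exact absurd h htb
          · exact absurd h hte'
      obtain ⟨v', rfl⟩ := hd'
      have hx : x = u * a + v' * (b * e) + w * (t ^ k * e ^ (k + 1)) := by
        have : t * x = t * (u * a + v' * (b * e) + w * (t ^ k * e ^ (k + 1))) := by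
          rw [mul_comm t x, ← huvw, hPk]; ring
        exact mul_left_cancel₀ htp.ne_zero this
      rw [hx]
      exact Ideal.add_mem _ (Ideal.add_mem _ (Ideal.mul_mem_left _ _ (Ideal.subset_span (by simp)))
        (Ideal.mul_mem_left _ _ hbe)) (Ideal.mul_mem_left _ _ (Ideal.subset_span (by simp)))
    · intro hx
      obtain ⟨c, d, rfl⟩ := Ideal.mem_span_pair.mp hx
      exact ⟨c, 0, d, by rw [hPk]; ring⟩
  -- length N/(t, e b)
  have hlen1 : Module.length (NodeAlg B π) (NodeAlg B π ⧸ Ideal.span {t, e * b}) =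
      Module.length (NodeAlg B π) (NodeAlg B π ⧸ Ideal.span {t, b}) + 1 := by
    rw [length_quot_pair_mul hep.ne_zero (fun u hu => (hep.dvd_or_dvd hu).resolve_left het') b,
      length_quot_t_e hp hπ.maximalIdeal_eq]
  -- length N/(a, t^k e^(k+1))
  have hlen2 : Module.length (NodeAlg B π) (NodeAlg B π ⧸ Ideal.span {a, t ^ k * e ^ (k + 1)}) =
      (k : ℕ∞) * Module.length (NodeAlg B π) (NodeAlg B π ⧸ Ideal.span {t, b}) +
      ((k + 1 : ℕ) : ℕ∞) * Module.length (NodeAlg B π) (NodeAlg B π ⧸ Ideal.span {e, a}) := by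
    rcases Nat.eq_zero_or_pos k with rfl | hk
    · rw [pow_zero, one_mul, zero_add, pow_one, Ideal.span_pair_comm]
      simp
    · have hta : ¬ t ∣ a := by
        intro hd
        apply htb
        rw [hb']
        refine dvd_sub (Dvd.dvd.mul_left ?_ _) (Dvd.dvd.mul_right hd _)
        rw [← hte, mul_pow]
        exact Dvd.dvd.mul_right (dvd_pow_self t (by omega)) _
      have hspan : Ideal.span {t, a} = Ideal.span {t, b} := by
        have hPt : P ^ k ∈ Ideal.span {t} := by
          rw [Ideal.mem_span_singleton, ← hte, mul_pow]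
          exact Dvd.dvd.mul_right (dvd_pow_self t (by omega)) _
        apply le_antisymm
        · rw [Ideal.span_le]
          rintro x (rfl | rfl)
          · exact Ideal.subset_span (by simp)
          · rw [SetLike.mem_coe, ha']
            refine Ideal.sub_mem _ (Ideal.mul_mem_left _ _ (Ideal.span_mono (by simp) hPt))
              (Ideal.mul_mem_left _ _ (Ideal.subset_span (by simp)))
        · rw [Ideal.span_le]
          rintro x (rfl | rfl)
          · exact Ideal.subset_span (by simp)
          · rw [SetLike.mem_coe, hb']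
            refine Ideal.sub_mem _ (Ideal.mul_mem_left _ _ (Ideal.span_mono (by simp) hPt))
              (Ideal.mul_mem_right _ _ (Ideal.subset_span (by simp)))
      rw [length_quot_pair_mul (pow_ne_zero k htp.ne_zero)
        (fun u hu => dvd_of_pow_dvd_mul htp hta k u hu) (e ^ (k + 1)),
        Ideal.span_pair_comm (x := a) (y := e ^ (k + 1)), Ideal.span_pair_comm (x := a) (y := t ^ k),
        length_quot_pow_pair hep hea (k + 1), length_quot_pow_pair htp hta k, hspan, add_comm]
  rw [hI, length_quot_eq_colon_add _ t, hsup, hcolon, hlen1, hlen2]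
  push_cast
  ring

end helpers

/-- In the cases where the branches through the point do not lie in the divisorial part of the fixed
locus, let B be a discrete valuation ring with uniformizer π, N = B[[t, e]]/(te - π) the complete
local ring of a semi-stable arithmetic surface over B at a singular point x of the closed fibre, and
σ a ring automorphism of N with σ(π) = π + γ π^j (γ a unit of B, j ≥ 1) and σ(b) - b ∈ π^j N for all
b ∈ B (σ lies over an automorphism τ of B with v(τ(π) - π) = j, B totally ramified over the fixed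
ring as in the published setting). Suppose σ fixes the branches, σ(t) = α t and σ(e) = β e with
units α, β, and that t does not divide β - 1 and e does not divide α - 1. Then the length of N
modulo the fixed-point ideal of σ (the multiplicity of x in the residual fixed-point scheme) is j
(s₁ + s₂) + 1, where s₁ = length N/(t, β - 1) and s₂ = length N/(e, α - 1) are the fixed-point
multiplicities of σ at x along the two branches, each lowered by one. -/
theorem result (B : Type u) [CommRing B] [IsDomain B] [IsDiscreteValuationRing B] (π : B) (hπ : Irreducible π)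
    (j : ℕ) (hj : 1 ≤ j) (γ : B) (hγ : IsUnit γ)
    (σ : ArLef.NodeAlg B π ≃+* ArLef.NodeAlg B π)
    (hσB : ∀ b : B, σ (algebraMap B (ArLef.NodeAlg B π) b) - algebraMap B (ArLef.NodeAlg B π) b ∈
      Ideal.span ({algebraMap B (ArLef.NodeAlg B π) (π ^ j)} : Set (ArLef.NodeAlg B π)))
    (hσπ : σ (algebraMap B (ArLef.NodeAlg B π) π) = algebraMap B (ArLef.NodeAlg B π) (π + γ * π ^ j))
    (α β : (ArLef.NodeAlg B π)ˣ) (ht : σ (ArLef.NodeAlg.t π) = (α : ArLef.NodeAlg B π) * ArLef.NodeAlg.t π) (he : σ (ArLef.NodeAlg.e π) = (β : ArLef.NodeAlg B π) * ArLef.NodeAlg.e π)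
    (htb : ¬ (ArLef.NodeAlg.t π ∣ (β : ArLef.NodeAlg B π) - 1)) (hea : ¬ (ArLef.NodeAlg.e π ∣ (α : ArLef.NodeAlg B π) - 1)) :
    Module.length (ArLef.NodeAlg B π) (ArLef.NodeAlg B π ⧸ ArLef.fixIdeal σ) =
      (j : ℕ∞) * (Module.length (ArLef.NodeAlg B π) (ArLef.NodeAlg B π ⧸ Ideal.span ({ArLef.NodeAlg.t π, (β : ArLef.NodeAlg B π) - 1} : Set (ArLef.NodeAlg B π))) +
        Module.length (ArLef.NodeAlg B π) (ArLef.NodeAlg B π ⧸ Ideal.span ({ArLef.NodeAlg.e π, (α : ArLef.NodeAlg B π) - 1} : Set (ArLef.NodeAlg B π)))) + 1 := by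
  exact main B π hπ j hj γ hγ σ hσB hσπ α β ht he htb hea

end Groth.Agent.S15323
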