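import Groth.Statements.S15325
import Mathlib
import Groth.Agent.Lib.NodeAlgZero7

set_option autoImplicit false
universe u
open ArLef ArLef.NodeAlg

namespace Groth.Agent.S15325

section helpers

open Groth.Agent.Lib.NodeAlg7 Groth.Agent.Lib.LenPair7 ArLef

theorem main (k : Type u) [Field k]
    (σ : ArLef.NodeAlg k 0 ≃ₐ[k] ArLef.NodeAlg k 0) (α β : (ArLef.NodeAlg k 0)ˣ)
    (ht : σ (ArLef.NodeAlg.t (0 : k)) = (α : ArLef.NodeAlg k 0) * ArLef.NodeAlg.t (0 : k)) (he : σ (ArLef.NodeAlg.e (0 : k)) = (β : ArLef.NodeAlg k 0) * ArLef.NodeAlg.e (0 : k)) :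
    Module.length (ArLef.NodeAlg k 0) (ArLef.NodeAlg k 0 ⧸ ArLef.fixIdeal σ) + 1 =
      Module.length (ArLef.NodeAlg k 0) (ArLef.NodeAlg k 0 ⧸ (ArLef.fixIdeal σ ⊔ Ideal.span ({ArLef.NodeAlg.t (0 : k)} : Set (ArLef.NodeAlg k 0)))) +
        Module.length (ArLef.NodeAlg k 0) (ArLef.NodeAlg k 0 ⧸ (ArLef.fixIdeal σ ⊔ Ideal.span ({ArLef.NodeAlg.e (0 : k)} : Set (ArLef.NodeAlg k 0)))) := by
  have h0m : (0 : k) ∈ IsLocalRing.maximalIdeal k := Ideal.zero_mem _
  have hgen : IsLocalRing.maximalIdeal k = Ideal.span {(0 : k)} := by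
    rw [IsLocalRing.maximalIdeal_eq_bot]
    exact (Ideal.span_singleton_eq_bot.mpr rfl).symm
  haveI := isLocalRing_nodeAlg' h0m
  set t := NodeAlg.t (0 : k) with ht_def
  set e := NodeAlg.e (0 : k) with he_def
  have hte : t * e = 0 := by
    exact (t_mul_e (0 : k)).trans (map_zero (algebraMap k (NodeAlg k 0)))
  set a : NodeAlg k 0 := α - 1 with ha
  set b : NodeAlg k 0 := β - 1 with hb
  have h1 : σ t - t = a * t := by rw [ht, ha]; ring
  have h2 : σ e - e = b * e := by rw [he, hb]; ring
  have hI : ArLef.fixIdeal σ = Ideal.span {a * t, b * e} := by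
    apply le_antisymm
    · rw [ArLef.fixIdeal, Ideal.span_le]
      rintro _ ⟨r, rfl⟩
      refine node_fix' (t_mem_maximalIdeal h0m) (e_mem_maximalIdeal h0m)
        (σ : NodeAlg k 0 →+* NodeAlg k 0) _ ?_ ?_ ?_ r
      · intro c
        have : σ (algebraMap k (NodeAlg k 0) c) = algebraMap k (NodeAlg k 0) c := σ.commutes c
        change σ _ - _ ∈ _
        rw [this, sub_self]
        exact Ideal.zero_mem _
      · change σ t - _ ∈ _
        rw [h1]; exact Ideal.subset_span (by simp)
      · change σ e - _ ∈ _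
        rw [h2]; exact Ideal.subset_span (by simp)
    · rw [Ideal.span_le]
      rintro x (rfl | rfl)
      · rw [← h1]; exact Ideal.subset_span ⟨_, rfl⟩
      · rw [← h2]; exact Ideal.subset_span ⟨_, rfl⟩
  have hcol : (Ideal.span {a * t, b * e}).colon ({t} : Set (NodeAlg k 0)) = Ideal.span {e, a} := by
    ext x
    rw [Submodule.mem_colon_singleton, smul_eq_mul, Ideal.mem_span_pair, Ideal.mem_span_pair]
    constructor
    · rintro ⟨u, v, huv⟩
      have h3 : t * (x - u * a) ∈ Ideal.span {e} := by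
        rw [Ideal.mem_span_singleton]
        refine ⟨v * b, ?_⟩
        have : t * (x - u * a) = x * t - u * (a * t) := by ring
        rw [this, ← huv]; ring
      obtain ⟨w, hw⟩ := Ideal.mem_span_singleton.mp (mem_span_e_of_t_mul_mem h3)
      refine ⟨w, u, ?_⟩
      have : x = (x - u * a) + u * a := by ring
      rw [this, hw]; ring
    · rintro ⟨c, d, rfl⟩
      refine ⟨d, 0, ?_⟩
      have : (c * e + d * a) * t = c * (t * e) + d * (a * t) := by ring
      rw [this, hte]; ring
  have hsupe : Ideal.span {a * t, b * e} ⊔ Ideal.span {e} = Ideal.span {e, t * a} := by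
    apply le_antisymm
    · rw [sup_le_iff, Ideal.span_le, Ideal.span_le]
      refine ⟨?_, ?_⟩
      · rintro x (rfl | rfl)
        · rw [mul_comm a t]; exact Ideal.subset_span (by simp)
        · exact Ideal.mul_mem_left _ _ (Ideal.subset_span (by simp))
      · rintro x rfl
        exact Ideal.subset_span (by simp)
    · rw [Ideal.span_le]
      rintro x (rfl | rfl)
      · exact Ideal.mem_sup_right (Ideal.mem_span_singleton_self _)
      · rw [mul_comm t a]; exact Ideal.mem_sup_left (Ideal.subset_span (by simp))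
  have hlen : Module.length (NodeAlg k 0) (NodeAlg k 0 ⧸ Ideal.span {e, t * a}) =
      Module.length (NodeAlg k 0) (NodeAlg k 0 ⧸ Ideal.span {e, a}) + 1 := by
    rw [length_quot_pair_mul' (fun z hz => mem_span_e_of_t_mul_mem hz) a,
      Ideal.span_pair_comm (x := e) (y := t), length_quot_t_e' h0m hgen]
  rw [hI, hsupe, hlen, length_quot_eq_colon_add (Ideal.span {a * t, b * e}) t, hcol]
  ring

end helpers

/-- Let k be a field, A = k[[t, e]]/(te) the complete local ring of a nodal curve at a node x, and σ a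
k-algebra automorphism of A fixing the two branches, σ(t) = α t and σ(e) = β e with units α, β.
Writing I for the fixed-point ideal of σ (generated by all σ(r) - r), the fixed-point multiplicity
length(A/I) of σ at x and the fixed-point multiplicities length(A/(I + (t))), length(A/(I + (e))) of
the automorphisms induced on the two branches satisfy length(A/I) + 1 = length(A/(I + (t))) +
length(A/(I + (e))), as extended natural numbers (both sides are infinite when σ fixes a branch
pointwise). (The published setting has k algebraically closed.) -/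
theorem result (k : Type u) [Field k]
    (σ : ArLef.NodeAlg k 0 ≃ₐ[k] ArLef.NodeAlg k 0) (α β : (ArLef.NodeAlg k 0)ˣ)
    (ht : σ (ArLef.NodeAlg.t (0 : k)) = (α : ArLef.NodeAlg k 0) * ArLef.NodeAlg.t (0 : k)) (he : σ (ArLef.NodeAlg.e (0 : k)) = (β : ArLef.NodeAlg k 0) * ArLef.NodeAlg.e (0 : k)) :
    Module.length (ArLef.NodeAlg k 0) (ArLef.NodeAlg k 0 ⧸ ArLef.fixIdeal σ) + 1 =
      Module.length (ArLef.NodeAlg k 0) (ArLef.NodeAlg k 0 ⧸ (ArLef.fixIdeal σ ⊔ Ideal.span ({ArLef.NodeAlg.t (0 : k)} : Set (ArLef.NodeAlg k 0)))) +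
        Module.length (ArLef.NodeAlg k 0) (ArLef.NodeAlg k 0 ⧸ (ArLef.fixIdeal σ ⊔ Ideal.span ({ArLef.NodeAlg.e (0 : k)} : Set (ArLef.NodeAlg k 0)))) := by
  exact main k σ α β ht he

end Groth.Agent.S15325
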