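import Groth.Statements.S15326
import Mathlib.Tactic.LinearCombination
import Mathlib.Tactic.Ring
-- import your own Groth.Agent.* helpers here

set_option autoImplicit false
universe u
open ArLef

namespace Groth.Agent.S15326

/-- Let A be a commutative ring, t an element generating a prime ideal (a local equation of an
irreducible component C of the closed fibre), v an element outside (t) with π = vt the uniformizer,
and σ a ring automorphism of A with σ(vt) = vt whose fixed-point ideal is contained in (t^i) for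
some i ≥ 1 (C has multiplicity at least i in the fixed locus). Then σ(t) - t lies in t^(i+1) A_(t),
the localization at the prime (t): σ - 1 vanishes on (t)/(t^(i+1)) at the generic point of C. -/
theorem result (A : Type u) [CommRing A] (t v : A)
    [ht : (Ideal.span ({t} : Set A)).IsPrime] (hv : v ∉ Ideal.span ({t} : Set A))
    (σ : A ≃+* A) (hσ : σ (v * t) = v * t) (i : ℕ) (hi : 1 ≤ i)
    (hI : ArLef.fixIdeal σ ≤ Ideal.span ({t ^ i} : Set A)) :
    algebraMap A (Localization.AtPrime (Ideal.span ({t} : Set A))) (σ t - t) ∈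
      Ideal.span ({algebraMap A (Localization.AtPrime (Ideal.span ({t} : Set A))) (t ^ (i + 1))} :
        Set (Localization.AtPrime (Ideal.span ({t} : Set A)))) := by
  have hmem : ∀ r : A, σ r - r ∈ Ideal.span ({t ^ i} : Set A) := fun r =>
    hI (Ideal.subset_span ⟨r, rfl⟩)
  obtain ⟨c, hc⟩ := Ideal.mem_span_singleton'.mp (hmem t)
  obtain ⟨d, hd⟩ := Ideal.mem_span_singleton'.mp (hmem v)
  obtain ⟨i', rfl⟩ : ∃ i', i = i' + 1 := ⟨i - 1, by omega⟩
  have hσt : σ t = t + c * t ^ (i' + 1) := by rw [hc]; ring
  have hσv : σ v = v + d * t ^ (i' + 1) := by rw [hd]; ring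
  have hmul : σ v * σ t = v * t := by rw [← map_mul, hσ]
  have key : v * (σ t - t) = t ^ (i' + 1 + 1) * (-(d + t ^ i' * c * d)) := by
    rw [hσt, hσv] at hmul
    have h2 : v * (c * t ^ (i' + 1)) = - (d * t ^ (i' + 1) * t) - d * t ^ (i' + 1) * (c * t ^ (i' + 1)) := by
      have : (v + d * t ^ (i' + 1)) * (t + c * t ^ (i' + 1)) - v * t = 0 := by rw [hmul]; ring
      have h3 : (v + d * t ^ (i' + 1)) * (t + c * t ^ (i' + 1)) - v * t =
          v * (c * t ^ (i' + 1)) + d * t ^ (i' + 1) * t + d * t ^ (i' + 1) * (c * t ^ (i' + 1)) := by ring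
      rw [h3] at this
      linear_combination this
    rw [hσt]
    have : t + c * t ^ (i' + 1) - t = c * t ^ (i' + 1) := by ring
    rw [this, h2]
    ring
  have hvunit : IsUnit (algebraMap A (Localization.AtPrime (Ideal.span ({t} : Set A))) v) :=
    IsLocalization.map_units _ (⟨v, hv⟩ : (Ideal.span ({t} : Set A)).primeCompl)
  rw [Ideal.mem_span_singleton']
  obtain ⟨u, hu⟩ := hvunit
  refine ⟨(↑u⁻¹ : Localization.AtPrime (Ideal.span ({t} : Set A))) *
    algebraMap A _ (-(d + t ^ i' * c * d)), ?_⟩
  have h4 := congrArg (algebraMap A (Localization.AtPrime (Ideal.span ({t} : Set A)))) key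
  rw [map_mul, map_mul, ← hu] at h4
  have h5 : algebraMap A (Localization.AtPrime (Ideal.span ({t} : Set A))) (σ t - t) =
      ↑u⁻¹ * (↑u * algebraMap A _ (σ t - t)) := by
    rw [← mul_assoc, Units.inv_mul, one_mul]
  rw [h5, h4]
  ring

end Groth.Agent.S15326
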