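import Groth.Statements.S15327
import Mathlib

set_option autoImplicit false
open ArLef ArLef.BlowupGraph

namespace Groth.Agent.S15327

variable {n : ℕ} (G : ArLef.BlowupGraph n)

theorem ttN_eq (k m : ℕ) : G.ttN k m =
    if m < k then 0 else if m = k then 1 else ∑ p ∈ G.parN m, G.ttN k p := by
  rw [ArLef.BlowupGraph.ttN]
  rw [Finset.sum_attach (G.parN m) (fun p => G.ttN k p)]

theorem tt_eq (k l : Fin n) : G.tt k l =
    if l < k then 0 else if l = k then 1 else ∑ p ∈ G.par l, G.tt k p := by
  unfold ArLef.BlowupGraph.tt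
  rw [ttN_eq]
  have : G.parN l.1 = (G.par l).map Fin.valEmbedding := by
    unfold ArLef.BlowupGraph.parN; simp [l.2]
  rw [this, Finset.sum_map]
  simp only [Fin.valEmbedding_apply, Fin.lt_def, Fin.ext_iff]

theorem tt_of_lt {k l : Fin n} (h : l < k) : G.tt k l = 0 := by
  rw [tt_eq, if_pos h]

theorem tt_self (k : Fin n) : G.tt k k = 1 := by
  rw [tt_eq, if_neg (lt_irrefl _), if_pos rfl]

theorem tt_of_gt {k l : Fin n} (h : k < l) : G.tt k l = ∑ p ∈ G.par l, G.tt k p := by
  rw [tt_eq, if_neg (not_lt.mpr h.le), if_neg (ne_of_gt h)]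

/-- the matrix of total transforms -/
def C : Matrix (Fin n) (Fin n) ℚ := fun k m => (G.tt k m : ℚ)

/-- its inverse -/
def P : Matrix (Fin n) (Fin n) ℚ := fun m k =>
  (if m = k then 1 else 0) - (if m ∈ G.par k then 1 else 0)

theorem C_mul_P : C G * P G = 1 := by
  ext k l
  rw [Matrix.mul_apply]
  simp only [C, P, mul_sub, Finset.sum_sub_distrib, mul_ite, mul_one, mul_zero,
    Finset.sum_ite_eq', Finset.mem_univ, if_true]
  rw [← Finset.sum_filter]
  have : (Finset.univ.filter fun m => m ∈ G.par l) = G.par l := by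
    ext m; simp
  rw [this, Matrix.one_apply]
  rcases lt_trichotomy k l with h | h | h
  · rw [if_neg (ne_of_lt h), tt_of_gt G h]; push_cast; ring
  · subst h
    rw [if_pos rfl, tt_self]
    rw [Finset.sum_eq_zero]
    · simp
    · intro p hp
      rw [tt_of_lt G (G.par_lt _ _ hp)]; simp
  · rw [if_neg (ne_of_gt h), tt_of_lt G h]
    rw [Finset.sum_eq_zero]
    · simp
    · intro p hp
      rw [tt_of_lt G (lt_trans (G.par_lt _ _ hp) h)]; simp

theorem adj_comm (p q : Fin n) : G.Adj p q ↔ G.Adj q p := by
  unfold ArLef.BlowupGraph.Adj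
  exact Or.comm

theorem adj_eq_lt {p q : Fin n} (hpq : p < q) :
    (if G.Adj p q then (1:ℚ) else 0) = (if p ∈ G.par q then 1 else 0)
      + (if q ∈ G.par p then 1 else 0)
      - ((Finset.univ.filter fun k => p ∈ G.par k ∧ q ∈ G.par k).card : ℚ) := by
  classical
  have hB : q ∉ G.par p := fun h => absurd (G.par_lt _ _ h) (not_lt.mpr hpq.le)
  set S := Finset.univ.filter fun k => p ∈ G.par k ∧ q ∈ G.par k with hSdef
  have hS : ∀ k ∈ S, G.par k = {p, q} ∧ q < k ∧ p ∈ G.par q := by
    intro k hk
    rw [hSdef, Finset.mem_filter] at hk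
    obtain ⟨-, hp, hq⟩ := hk
    refine ⟨?_, G.par_lt _ _ hq, (G.meet_of_two k p q hp hq hpq).1⟩
    symm
    apply Finset.eq_of_subset_of_card_le
    · intro x hx
      rw [Finset.mem_insert, Finset.mem_singleton] at hx
      rcases hx with rfl | rfl
      · exact hp
      · exact hq
    · rw [Finset.card_pair (ne_of_lt hpq)]
      exact G.card_le_two k
  have hS1 : S.card ≤ 1 := by
    rw [Finset.card_le_one]
    have aux : ∀ k ∈ S, ∀ k' ∈ S, ¬ k < k' := by
      intro k hk k' hk' hlt
      have h1 := hS k hk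
      have hk'' := hk'
      rw [hSdef, Finset.mem_filter] at hk''
      obtain ⟨-, hp, hq⟩ := hk''
      exact (G.meet_of_two k' p q hp hq hpq).2 k h1.2.1 hlt h1.1
    intro k hk k' hk'
    rcases lt_trichotomy k k' with h | h | h
    · exact absurd h (aux k hk k' hk')
    · exact h
    · exact absurd h (aux k' hk' k hk)
  rw [if_neg hB, add_zero]
  by_cases hA : p ∈ G.par q
  · rw [if_pos hA]
    by_cases hS0 : S = ∅
    · rw [hS0, Finset.card_empty, Nat.cast_zero, sub_zero, if_pos]
      left
      refine ⟨hA, fun m hm hpar => ?_⟩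
      have : m ∈ S := by
        rw [hSdef, Finset.mem_filter]
        refine ⟨Finset.mem_univ _, ?_, ?_⟩ <;> rw [hpar] <;> simp
      rw [hS0] at this
      exact absurd this (Finset.notMem_empty _)
    · obtain ⟨k, hk⟩ := Finset.nonempty_iff_ne_empty.mpr hS0
      have hc : S.card = 1 := le_antisymm hS1 (Finset.card_pos.mpr ⟨k, hk⟩)
      rw [hc, Nat.cast_one, sub_self, if_neg]
      rintro (⟨-, h⟩ | ⟨h, -⟩)
      · exact h k (hS k hk).2.1 (hS k hk).1
      · exact hB h
  · rw [if_neg hA]
    have hS0 : S = ∅ := by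
      rw [Finset.eq_empty_iff_forall_notMem]
      intro k hk
      exact hA (hS k hk).2.2
    rw [hS0, Finset.card_empty, Nat.cast_zero, sub_zero, if_neg]
    rintro (⟨h, -⟩ | ⟨h, -⟩)
    · exact hA h
    · exact hB h

theorem adj_eq {p q : Fin n} (hpq : p ≠ q) :
    (if G.Adj p q then (1:ℚ) else 0) = (if p ∈ G.par q then 1 else 0)
      + (if q ∈ G.par p then 1 else 0)
      - ((Finset.univ.filter fun k => p ∈ G.par k ∧ q ∈ G.par k).card : ℚ) := by
  rcases lt_or_gt_of_ne hpq with h | h
  · exact adj_eq_lt G h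
  · have := adj_eq_lt G h
    simp only [adj_comm G p q]
    rw [this, add_comm]
    congr 3
    ext k
    simp only [Finset.mem_filter, Finset.mem_univ, true_and]
    exact and_comm


theorem mat_eq : G.mat = -(P G * (P G).transpose) := by
  classical
  ext p q
  rw [Matrix.neg_apply, Matrix.mul_apply]
  simp only [Matrix.transpose_apply, P]
  by_cases hpq : p = q
  · subst hpq
    have h1 : ∀ k : Fin n, ((if p = k then (1:ℚ) else 0) - (if p ∈ G.par k then 1 else 0)) *
        ((if p = k then (1:ℚ) else 0) - (if p ∈ G.par k then 1 else 0)) =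
        (if p = k then (1:ℚ) else 0) + (if p ∈ G.par k then 1 else 0) := by
      intro k
      by_cases hk : p = k
      · subst hk
        have : p ∉ G.par p := fun h => lt_irrefl _ (G.par_lt _ _ h)
        simp [this]
      · by_cases hm : p ∈ G.par k <;> simp [hk, hm]
    rw [Finset.sum_congr rfl (fun k _ => h1 k), Finset.sum_add_distrib]
    simp only [Finset.sum_ite_eq, Finset.mem_univ, if_true, Finset.sum_boole]
    unfold ArLef.BlowupGraph.mat ArLef.BlowupGraph.selfInt
    rw [if_pos rfl]
    push_cast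
    ring
  · have hp : p ∉ G.par p := fun h => lt_irrefl _ (G.par_lt _ _ h)
    have hq : q ∉ G.par q := fun h => lt_irrefl _ (G.par_lt _ _ h)
    have h1 : ∀ k : Fin n, ((if p = k then (1:ℚ) else 0) - (if p ∈ G.par k then 1 else 0)) *
        ((if q = k then (1:ℚ) else 0) - (if q ∈ G.par k then 1 else 0)) =
        - (if p = k then (if q ∈ G.par p then (1:ℚ) else 0) else 0)
        - (if q = k then (if p ∈ G.par q then (1:ℚ) else 0) else 0)
        + (if p ∈ G.par k ∧ q ∈ G.par k then 1 else 0) := by
      intro k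
      by_cases hk : p = k
      · subst hk
        simp [hp, Ne.symm hpq]
      · by_cases hk' : q = k
        · subst hk'
          simp [hpq, hq]
        · by_cases hm : p ∈ G.par k <;> by_cases hm' : q ∈ G.par k <;> simp [hk, hk', hm, hm']
    rw [Finset.sum_congr rfl (fun k _ => h1 k), Finset.sum_add_distrib, Finset.sum_sub_distrib,
      Finset.sum_neg_distrib]
    simp only [Finset.sum_ite_eq, Finset.mem_univ, if_true, Finset.sum_boole]
    unfold ArLef.BlowupGraph.mat
    rw [if_neg hpq, adj_eq G hpq]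
    ring

/-- the multiplicity matrix -/
def Q : Matrix (Fin n) (Fin n) ℚ := fun i j => (G.mult i j : ℚ)

theorem Q_eq : Q G = (C G).transpose * C G := by
  ext i j
  rw [Matrix.mul_apply]
  simp [Q, C, ArLef.BlowupGraph.mult]

theorem Q_symm (i j : Fin n) : Q G i j = Q G j i := by
  simp only [Q, ArLef.BlowupGraph.mult, mul_comm]

theorem P_mul_C : P G * C G = 1 := mul_eq_one_comm.mp (C_mul_P G)

theorem mat_mul_Q : G.mat * Q G = -1 := by
  rw [mat_eq, Q_eq, Matrix.neg_mul, Matrix.mul_assoc, ← Matrix.mul_assoc (P G).transpose,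
    ← Matrix.transpose_mul, C_mul_P, Matrix.transpose_one, Matrix.one_mul, P_mul_C]

theorem isUnit_det_sub (I : Finset (Fin n)) :
    IsUnit (G.mat.submatrix (fun x : I => x.1) (fun x : I => x.1)).det := by
  classical
  rw [isUnit_iff_ne_zero]
  intro hdet
  obtain ⟨v, hv0, hv⟩ := Matrix.exists_mulVec_eq_zero_iff.mpr hdet
  let x : Fin n → ℚ := fun i => if h : i ∈ I then v ⟨i, h⟩ else 0
  have hxI : ∀ (i : Fin n) (h : i ∈ I), x i = v ⟨i, h⟩ := fun i h => dif_pos h
  have hxJ : ∀ (i : Fin n), i ∉ I → x i = 0 := fun i h => dif_neg h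
  have hx : ∀ i ∈ I, (G.mat.mulVec x) i = 0 := by
    intro i hi
    have := congrFun hv ⟨i, hi⟩
    rw [Pi.zero_apply] at this
    rw [← this]
    simp only [Matrix.mulVec, dotProduct, Matrix.submatrix_apply]
    rw [← Finset.sum_subset (Finset.subset_univ I)]
    · rw [← Finset.sum_coe_sort I]
      refine Finset.sum_congr rfl fun j _ => ?_
      rw [hxI j.1 j.2]
    · intro j _ hj
      rw [hxJ j hj, mul_zero]
  have h0 : x ⬝ᵥ (G.mat.mulVec x) = 0 := by
    unfold dotProduct
    apply Finset.sum_eq_zero
    intro i _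
    by_cases hi : i ∈ I
    · rw [hx i hi, mul_zero]
    · rw [hxJ i hi, zero_mul]
  have h1 : x ⬝ᵥ (G.mat.mulVec x) =
      -(((P G).transpose.mulVec x) ⬝ᵥ ((P G).transpose.mulVec x)) := by
    rw [mat_eq, Matrix.neg_mulVec, dotProduct_neg, ← Matrix.mulVec_mulVec,
      Matrix.dotProduct_mulVec, ← Matrix.mulVec_transpose]
  have h2 : (P G).transpose.mulVec x = 0 := by
    rw [h1, neg_eq_zero] at h0
    exact dotProduct_self_eq_zero.mp h0
  have h3 : x = 0 := by
    have : ((C G).transpose * (P G).transpose).mulVec x = x := by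
      rw [← Matrix.transpose_mul, P_mul_C, Matrix.transpose_one, Matrix.one_mulVec]
    rw [← this, ← Matrix.mulVec_mulVec, h2, Matrix.mulVec_zero]
  apply hv0
  ext i
  rw [← hxI i.1 i.2, h3]
  rfl

theorem key (I : Finset (Fin n)) (a i : Fin n) (hi : i ∉ I) :
    ∑ j ∈ Finset.univ.filter (fun j => j ∉ I), G.pairing I a j * Q G j i =
      if a = i then -1 else 0 := by
  classical
  set A := G.mat.submatrix (fun x : I => x.1) (fun x : I => x.1) with hA
  set J := Finset.univ.filter (fun j : Fin n => j ∉ I) with hJ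
  have hinv : A⁻¹ * A = 1 := Matrix.nonsing_inv_mul A (isUnit_det_sub G I)
  have split : ∀ f : Fin n → ℚ, ∑ j, f j = ∑ j ∈ J, f j + ∑ c : I, f c.1 := by
    intro f
    rw [Finset.sum_coe_sort I f, ← Finset.sum_filter_not_add_sum_filter Finset.univ (· ∈ I)]
    congr 1
    apply Finset.sum_congr _ (fun _ _ => rfl)
    ext j; simp
  have hMQ : ∀ a i, ∑ j, G.mat a j * Q G j i = if a = i then -1 else 0 := by
    intro a i
    have := congrFun (congrFun (mat_mul_Q G) a) i
    rw [Matrix.mul_apply] at this
    rw [this, Matrix.neg_apply, Matrix.one_apply]; split_ifs <;> simp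
  have h2 : ∀ c : I, ∑ j ∈ J, G.mat c.1 j * Q G j i = - ∑ c' : I, A c c' * Q G c'.1 i := by
    intro c
    have := hMQ c.1 i
    rw [split, if_neg (show ¬ (c.1 = i) from fun h => hi (h ▸ c.2))] at this
    have e : ∑ c' : I, A c c' * Q G c'.1 i = ∑ c' : I, G.mat c.1 c'.1 * Q G c'.1 i := rfl
    rw [e]
    linarith
  have h3 : ∀ b : I, ∑ c : I, A⁻¹ b c * ∑ j ∈ J, G.mat c.1 j * Q G j i = - Q G b.1 i := by
    intro b
    simp_rw [h2, mul_neg, Finset.sum_neg_distrib, Finset.mul_sum]
    rw [Finset.sum_comm]
    have : ∀ c' : I, ∑ c : I, A⁻¹ b c * (A c c' * Q G c'.1 i) = (A⁻¹ * A) b c' * Q G c'.1 i := by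
      intro c'
      rw [Matrix.mul_apply, Finset.sum_mul]
      refine Finset.sum_congr rfl fun c _ => ?_
      ring
    simp_rw [this, hinv, Matrix.one_apply]
    simp
  have h4 : ∑ j ∈ J, (∑ b : I, ∑ c : I, G.mat a b.1 * A⁻¹ b c * G.mat c.1 j) * Q G j i
      = ∑ b : I, G.mat a b.1 * ∑ c : I, A⁻¹ b c * ∑ j ∈ J, G.mat c.1 j * Q G j i := by
    simp_rw [Finset.sum_mul, Finset.mul_sum]
    rw [Finset.sum_comm]
    refine Finset.sum_congr rfl fun b _ => ?_
    rw [Finset.sum_comm]
    refine Finset.sum_congr rfl fun c _ => ?_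
    refine Finset.sum_congr rfl fun j _ => ?_
    ring
  unfold ArLef.BlowupGraph.pairing
  simp_rw [sub_mul, Finset.sum_sub_distrib]
  rw [h4]
  simp_rw [h3, mul_neg, Finset.sum_neg_distrib]
  rw [sub_neg_eq_add, ← split (fun j => G.mat a j * Q G j i)]
  exact hMQ a i

/-- Let Φ be the labelled dual graph of the exceptional curves of n successive blow-ups of closed points
starting from a regular surface with algebraically closed residue fields (vertices = exceptional
curves in order of creation, labels = intersection numbers), I any set of vertices (the curves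
contracted to a normal surface) and σ a permutation of the vertices preserving all intersection
numbers and the set I. Let e_{ij} be the multiplicity of E_i × E_j in the fibre square of the
composite blow-down (the sum over k of c^k_i c^k_j, c^k the total transform of the k-th exceptional
curve) and (E_i · E_j)_I Mumford's rational intersection number of the images after contracting I.
Then the sum over i, j outside I of e_{ij} (σ E_i · E_j)_I equals minus the number of σ-fixed
vertices outside I. (Stated for the dual graphs realized with all residue fields equal to the base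
field, which is the case the published argument realizes geometrically.) -/
theorem result (n : ℕ) (G : ArLef.BlowupGraph n) (I : Finset (Fin n))
    (σ : Equiv.Perm (Fin n)) (hσ : ∀ i j : Fin n, G.mat (σ i) (σ j) = G.mat i j)
    (hσI : ∀ i : Fin n, σ i ∈ I ↔ i ∈ I) :
    G.lNum I σ = ArLef.BlowupGraph.rNum I σ := by
  classical
  unfold ArLef.BlowupGraph.lNum ArLef.BlowupGraph.rNum
  have h : ∀ i ∈ Finset.univ.filter (fun i : Fin n => i ∉ I),
      ∑ j ∈ Finset.univ.filter (fun j : Fin n => j ∉ I),
        (G.mult i j : ℚ) * G.pairing I (σ i) j = if σ i = i then -1 else 0 := by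
    intro i hi
    rw [← Groth.Agent.S15327.key G I (σ i) i (by simpa using hi)]
    refine Finset.sum_congr rfl fun j _ => ?_
    rw [mul_comm]
    congr 1
    exact Groth.Agent.S15327.Q_symm G i j
  rw [Finset.sum_congr rfl h, Finset.sum_ite, Finset.sum_const_zero, add_zero, Finset.sum_const,
    Finset.filter_filter]
  simp

end Groth.Agent.S15327
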