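import Groth.Statements.S15328
import Groth.Agent.Lib.CurveVB67S
import Groth.Agent.Lib.SmoothCurve67
import Groth.Agent.S0002
import Mathlib
-- import your own Groth.Agent.* helpers here

set_option autoImplicit false
open CategoryTheory AlgebraicGeometry CategoryTheory.Limits
open VBCurve

namespace Groth.Agent.S15328

open Groth.Agent.Lib.CurveVB67 Groth.Agent.Lib.OXModTensor Groth.Agent.Lib.TwistEquiv
open Groth.Agent.Lib.H90Invertible

lemma arith (a b c d : ℤ) (R R' S : ℤ) (hR : 0 < R) (hRR' : R' ≤ R)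
    (hslope : a * R = d * R') (h : (a + b) * R ≤ d * (R' + S)) (hdeg : d = a + c) :
    b * (R - R') ≤ c * S := by
  have h3 : b * R ≤ d * S := by
    rw [add_mul, mul_add] at h
    linarith
  have h0 : 0 ≤ R - R' := by linarith
  have h4 : (b * (R - R')) * R ≤ (c * S) * R := by
    calc (b * (R - R')) * R = (b * R) * (R - R') := by ring
      _ ≤ (d * S) * (R - R') := mul_le_mul_of_nonneg_right h3 h0
      _ = (c * S) * R := by linear_combination S * hslope + (S * R) * hdeg
  exact le_of_mul_le_mul_right h4 hR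


/-- Let X be a smooth proper integral curve over the complex numbers, L an invertible module on X and
(E, φ) an L-valued Higgs bundle on X: E finite locally free of rank r ≥ 1 and φ : E → E ⊗ L. A
submodule j : G → E (a monomorphism) is a Higgs submodule when φ restricts to it, that is, some ψ :
G → G ⊗ L followed by j ⊗ L equals j followed by φ; (E, φ) is semistable when deg G · r ≤ deg E · r'
for every finite locally free Higgs submodule G of rank r' ≥ 1, degrees being χ − rank · χ(O).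
Suppose (E, φ) is semistable and F is a finite locally free Higgs submodule of rank r' ≥ 1 with the
same slope, deg F · r = deg E · r'. Then the quotient E/F is finite locally free of rank r − r' and
is semistable of the same slope for its induced Higgs field: for every φ' : E/F → (E/F) ⊗ L
compatible with φ along the projection and every finite locally free submodule G of E/F of rank s ≥
1 to which φ' restricts, deg G · (r − r') ≤ deg(E/F) · s. (The published statement also assumes F
semistable, which the published argument does not use; this row omits it.) -/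
theorem result
    (X : Scheme.{0}) [X.Over (Spec (CommRingCat.of ℂ))] [IsIntegral X]
    [IsProper (X ↘ Spec (CommRingCat.of ℂ))] [Smooth (X ↘ Spec (CommRingCat.of ℂ))]
    (hdim : topologicalKrullDim X = 1)
    (L : X.Modules) (hL : PicF.IsInvertible L)
    (r : ℕ) (hr : 0 < r) (E : X.Modules) (hE : FlatMod.IsFinLocFreeOfRank r E)
    (φ : E ⟶ CohB1.tensorMod E L)
    (hss : ∀ (G : X.Modules) (s : ℕ) (j : G ⟶ E) (ψ : G ⟶ CohB1.tensorMod G L), Mono j → 0 < s →
      FlatMod.IsFinLocFreeOfRank s G →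
      ψ ≫ (CohB1.sheafifyMod X).map (MonoidalCategoryStruct.whiskerRight (C := CohB1.PMod X) j.val (CohB1.toPMod L)) = j ≫ φ →
      Curv2.deg ℂ X G s * (r : ℤ) ≤ Curv2.deg ℂ X E r * (s : ℤ))
    (F : X.Modules) (r' : ℕ) (hr' : 0 < r') (hF : FlatMod.IsFinLocFreeOfRank r' F)
    (i : F ⟶ E) [Mono i] (ψF : F ⟶ CohB1.tensorMod F L)
    (hψF : ψF ≫ (CohB1.sheafifyMod X).map (MonoidalCategoryStruct.whiskerRight (C := CohB1.PMod X) i.val (CohB1.toPMod L)) = i ≫ φ)
    (hslope : Curv2.deg ℂ X F r' * (r : ℤ) = Curv2.deg ℂ X E r * (r' : ℤ)) :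
    FlatMod.IsFinLocFreeOfRank (r - r') (cokernel i) ∧
    ∀ (φ' : cokernel i ⟶ CohB1.tensorMod (cokernel i) L),
      cokernel.π i ≫ φ' = φ ≫ (CohB1.sheafifyMod X).map (MonoidalCategoryStruct.whiskerRight (C := CohB1.PMod X) (cokernel.π i).val (CohB1.toPMod L)) →
      ∀ (G : X.Modules) (s : ℕ) (j : G ⟶ cokernel i) (ψ : G ⟶ CohB1.tensorMod G L), Mono j → 0 < s →
        FlatMod.IsFinLocFreeOfRank s G →
        ψ ≫ (CohB1.sheafifyMod X).map (MonoidalCategoryStruct.whiskerRight (C := CohB1.PMod X) j.val (CohB1.toPMod L)) = j ≫ φ' →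
        Curv2.deg ℂ X G s * ((r - r' : ℕ) : ℤ) ≤ Curv2.deg ℂ X (cokernel i) (r - r') * (s : ℤ) := by
  have hpid := Groth.Agent.Lib.SmoothCurve67.isPrincipalIdealRing_stalk_of_smooth ℂ X (le_of_eq hdim)
  have H : Groth.Agent.Lib.ProperFinHyp.Hyp.{0} :=
    fun A _ _ X _ _ M hM n => Groth.Agent.S0002.result A X M hM n
  have hss' : ∀ (G : X.Modules) (s : ℕ) (j : G ⟶ E), Mono j → 0 < s → FlatMod.IsFinLocFreeOfRank s G →
      Inv L φ j → Curv2.deg ℂ X G s * (r : ℤ) ≤ Curv2.deg ℂ X E r * (s : ℤ) := by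
    intro G s j hj hs hG hinv
    obtain ⟨χ, hχ⟩ := (inv_iff L φ j).mp hinv
    exact hss G s j χ hj hs hG hχ
  have hr0 : (0 : ℤ) < r := by exact_mod_cast hr
  have hFc : Coh.IsCoh F := isCoh_of_rank hF
  have hEc : Coh.IsCoh E := isCoh_of_rank hE
  have hrkF : r' = rk F := eq_rk_of_isFinLocFreeOfRank hF
  obtain ⟨G', g', j, hg', hj, hjg, hG'c, hG'lf, hQlf, hle, hdle, -, hinv'⟩ :=
    exists_sat_inv H ℂ X hpid hdim hL hE φ i hFc (inv_of_whisker ψF hψF)
  rw [← hrkF] at hG'lf hQlf hle hdle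
  have h1 := hss' G' r' g' hg' hr' hG'lf hinv'
  have h2 : Curv2.deg ℂ X G' r' ≤ Curv2.deg ℂ X F r' :=
    le_of_mul_le_mul_right (h1.trans_eq hslope.symm) hr0
  have hiso : IsIso j := isIso_of_deg_le H ℂ X hdim.le j hFc hG'c
    (by rw [← hrkF]; exact eq_rk_of_isFinLocFreeOfRank hG'lf) r' h2
  have e : cokernel i ≅ cokernel g' := by
    subst hjg
    exact cokernelEpiComp j g'
  have hClf : FlatMod.IsFinLocFreeOfRank (r - r') (cokernel i) := by
    intro x
    obtain ⟨V, hV, ⟨t⟩⟩ := hQlf x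
    exact ⟨V, hV, ⟨(Scheme.Modules.restrictFunctor V.ι).mapIso e ≪≫ t⟩⟩
  refine ⟨hClf, ?_⟩
  intro φ' hφ' G s j' ψ hj' hs hG hψ
  have hφ'T : cokernel.π i ≫ φ' = φ ≫ (tensorRightFunctor L).map (cokernel.π i) :=
    hφ'.trans (congrArg (fun t => φ ≫ t) (whisker_eq (cokernel.π i) L))
  have hKinv := inv_preimage hL i φ φ' hφ'T j' (inv_of_whisker ψ hψ)
  obtain ⟨hKlf, hKdeg⟩ := preimage_kernel_data H ℂ X hpid hE hF i hG j'
  have h3 := hss' _ (r' + s) (kernel.ι (cokernel.π i ≫ cokernel.π j')) inferInstance (by omega) hKlf hKinv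
  rw [hKdeg] at h3
  have hS : (ShortComplex.mk i (cokernel.π i) (cokernel.condition i)).ShortExact :=
    { exact := ShortComplex.exact_cokernel i }
  have hadd : Curv2.deg ℂ X E r = Curv2.deg ℂ X F r' + Curv2.deg ℂ X (cokernel i) (r - r') :=
    deg_add H ℂ X _ hS hFc hEc (isCoh_of_rank hClf) r' r (r - r') (by omega)
  have hcast : ((r - r' : ℕ) : ℤ) = (r : ℤ) - (r' : ℤ) := by
    rw [Nat.cast_sub hle]
  rw [hcast]
  push_cast at h3
  exact arith _ _ _ _ _ _ _ hr0 (by exact_mod_cast hle) hslope h3 hadd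

end Groth.Agent.S15328
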