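import Mathlib
import Groth.Statements.S15329

set_option autoImplicit false
open TensorProduct LaurentPolynomial
universe u v
open CAlg

namespace Groth.Agent.S15329

section Helpers

variable (k : Type u) [Field k]

/-- elements in the range of `toLaurent` have zero coefficient at negative indices. -/
theorem coeff_neg_of_mem_range (f : k[T;T⁻¹])
    (hf : f ∈ (Polynomial.toLaurent : Polynomial k →+* k[T;T⁻¹]).range) (n : ℤ) (hn : n < 0) :
    f.coeff n = 0 := by
  obtain ⟨g, rfl⟩ := hf
  by_contra h
  have : n ∈ (Polynomial.toLaurent g).coeff.support := Finsupp.mem_support_iff.mpr h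
  rw [LaurentPolynomial.support_coeff_toLaurent, Finset.mem_map] at this
  obtain ⟨m, _, rfl⟩ := this
  have : (0 : ℤ) ≤ Nat.castEmbedding m := Int.natCast_nonneg m
  omega

variable {k} {E : Type v} [AddCommGroup E] [Module k E]

theorem value_gen (α : Module.Dual k E) (p n : ℤ) (v : E) :
    T p * (TensorProduct.AlgebraTensorModule.rid k k[T;T⁻¹] k[T;T⁻¹])
      (LinearMap.baseChange k[T;T⁻¹] α (T n ⊗ₜ[k] v)) = C (α v) * T (p + n) := by
  rw [LinearMap.baseChange_tmul, TensorProduct.AlgebraTensorModule.rid_tmul,
    LaurentPolynomial.smul_eq_C_mul, T_add]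
  ring

end Helpers

/-- Let k be a field, E a k-vector space and F an increasing ℤ-indexed filtration of E by subspaces. In
E[T, T⁻¹] = k[T, T⁻¹] ⊗ E the Rees module of (E, F) is the k-span of the elements T^n ⊗ v with v ∈ F
n; it is the module of global sections of the equivariant bundle on the affine line attached to (E,
F), and E[T, T⁻¹] that of its sections away from the origin. For a linear form α on E and an integer
p, the k[T, T⁻¹]-linear form m ↦ T^p · (id ⊗ α)(m) is the invariant section α of the dual bundle
away from the origin multiplied by T^p, and it extends over the origin exactly when it maps the Rees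
module into the polynomial subring k[T]. This happens if and only if α vanishes on F(−p − 1); so the
dual equivariant bundle corresponds to the dual space filtered by the annihilators of the F(−p − 1).
(The published statement has the annihilator of F(−p + 1), over the complex numbers; for E = k with
F n = 0 for n < 0 and F n = E for n ≥ 0 the form with p = 0 and α ≠ 0 maps the Rees module into k[T]
although α does not vanish on F(1) = E, and the published argument gives the index −p − 1, which
this row states, over any field.) -/
theorem result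
    (k : Type u) [Field k] (E : Type v) [AddCommGroup E] [Module k E]
    (F : ℤ → Submodule k E) (hF : Monotone F)
    (α : Module.Dual k E) (p : ℤ) :
    (∀ m ∈ Submodule.span k {x : k[T;T⁻¹] ⊗[k] E | ∃ (n : ℤ) (v : E), v ∈ F n ∧ x = T n ⊗ₜ[k] v},
      T p * (TensorProduct.AlgebraTensorModule.rid k k[T;T⁻¹] k[T;T⁻¹]) (LinearMap.baseChange k[T;T⁻¹] α m)
        ∈ (Polynomial.toLaurent : Polynomial k →+* k[T;T⁻¹]).range) ↔
    ∀ v ∈ F (-p - 1), α v = 0 := by
  constructor
  · intro h v hv
    have h1 := h (T (-p - 1) ⊗ₜ[k] v) (Submodule.subset_span ⟨-p - 1, v, hv, rfl⟩)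
    rw [value_gen] at h1
    have h2 := coeff_neg_of_mem_range k _ h1 (-1) (by norm_num)
    have h3 : p + (-p - 1) = -1 := by ring
    rw [h3] at h2
    have h4 : (C (α v) * T (-1) : k[T;T⁻¹]).coeff (-1) = α v := by
      rw [← LaurentPolynomial.single_eq_C_mul_T, AddMonoidAlgebra.coeff_single,
        Finsupp.single_eq_same]
    rw [h4] at h2
    exact h2
  · intro h m hm
    refine Submodule.span_induction (p := fun m _ => T p * (TensorProduct.AlgebraTensorModule.rid k k[T;T⁻¹] k[T;T⁻¹]) (LinearMap.baseChange k[T;T⁻¹] α m)
        ∈ (Polynomial.toLaurent : Polynomial k →+* k[T;T⁻¹]).range) ?_ ?_ ?_ ?_ hm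
    · rintro _ ⟨n, v, hv, rfl⟩
      rw [value_gen]
      by_cases hpn : 0 ≤ p + n
      · refine ⟨Polynomial.C (α v) * Polynomial.X ^ (p + n).toNat, ?_⟩
        rw [map_mul, Polynomial.toLaurent_C, Polynomial.toLaurent_X_pow, Int.toNat_of_nonneg hpn]
      · have hle : n ≤ -p - 1 := by omega
        rw [h v (hF hle hv), map_zero, zero_mul]
        exact zero_mem _
    · rw [map_zero, map_zero, mul_zero]; exact zero_mem _
    · intro x y _ _ hx hy
      rw [map_add, map_add, mul_add]
      exact add_mem hx hy
    · intro c x _ hx
      rw [← algebraMap_smul k[T;T⁻¹] c x, map_smul, map_smul, smul_eq_mul, mul_left_comm]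
      refine mul_mem ?_ hx
      rw [← LaurentPolynomial.C_eq_algebraMap]
      exact ⟨Polynomial.C c, Polynomial.toLaurent_C c⟩

end Groth.Agent.S15329
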