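import Groth.Statements.S15330
import Groth.Agent.Lib.CurveVB67S
import Groth.Agent.Lib.SmoothCurve67
import Groth.Agent.S0002
import Groth.Agent.S15328
import Mathlib
-- import your own Groth.Agent.* helpers here

set_option autoImplicit false
open CategoryTheory AlgebraicGeometry CategoryTheory.Limits
open VBCurve

namespace Groth.Agent.S15330

open Groth.Agent.Lib.CurveVB67 Groth.Agent.Lib.OXModTensor Groth.Agent.Lib.TwistEquiv
open Groth.Agent.Lib.H90Invertible Groth.Agent.Lib.ProperFinHyp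

section Helpers

variable (H : Hyp.{0}) (X : Scheme.{0}) [X.Over (Spec (CommRingCat.of ℂ))] [IsIntegral X]
  [IsProper (X ↘ Spec (CommRingCat.of ℂ))]
  (hpid : ∀ x : X, IsPrincipalIdealRing (X.presheaf.stalk x))

include hpid in
theorem isZero_of_rank_zero {M : X.Modules} (hM : FlatMod.IsFinLocFreeOfRank 0 M) : IsZero M := by
  have := isLocallyNoetherian_of_proper ℂ X
  exact isZero_of_tf_of_rk_eq_zero hpid (isCoh_of_rank hM) (tf_of_isFinLocFree (isFinLocFree_of_rank hM))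
    (eq_rk_of_isFinLocFreeOfRank hM).symm

include hpid in
theorem deg_rank_zero {M : X.Modules} (hM : FlatMod.IsFinLocFreeOfRank 0 M) : Curv2.deg ℂ X M 0 = 0 :=
  deg_of_isZero ℂ X (isZero_of_rank_zero X hpid hM)

include H in
theorem ses_deg {A B : X.Modules} {rA rB : ℕ} (hA : FlatMod.IsFinLocFreeOfRank rA A)
    (hB : FlatMod.IsFinLocFreeOfRank rB B) (a : A ⟶ B) [Mono a] :
    rA ≤ rB ∧ Curv2.deg ℂ X B rB = Curv2.deg ℂ X A rA + Curv2.deg ℂ X (cokernel a) (rB - rA) := by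
  have hAc := isCoh_of_rank hA
  have hBc := isCoh_of_rank hB
  have : A.IsQuasicoherent := hAc.1
  have hle : rA ≤ rB := by
    rw [eq_rk_of_isFinLocFreeOfRank hA, eq_rk_of_isFinLocFreeOfRank hB]
    exact rk_le_of_mono a hBc
  have hS : (ShortComplex.mk a (cokernel.π a) (cokernel.condition a)).ShortExact :=
    { exact := ShortComplex.exact_cokernel a }
  exact ⟨hle, deg_add H ℂ X _ hS hAc hBc (Groth.Agent.Lib.H90OXModExact.isCoh_cokernel a hBc) rA rB (rB - rA)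
    (by omega)⟩

lemma arith1 (g dE e : ℤ) (r s ρ : ℤ) (hr : 0 < r) (hρ : 0 ≤ ρ) (h1 : g * r ≤ dE * s) (h2 : e * r = dE * ρ) :
    g * ρ ≤ e * s := by
  have h3 : (g * ρ) * r ≤ (e * s) * r := by
    calc (g * ρ) * r = (g * r) * ρ := by ring
      _ ≤ (dE * s) * ρ := mul_le_mul_of_nonneg_right h1 hρ
      _ = (e * s) * r := by linear_combination (-s) * h2
  exact le_of_mul_le_mul_right h3 hr

/-- a sub-pair of the same slope of a semistable pair is semistable -/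
theorem sub_ss {L : X.Modules} {E : X.Modules} {r : ℕ} (hr : 0 < r) (φ : E ⟶ CohB1.tensorMod E L)
    (hEss : (∀ (G : X.Modules) (s : ℕ) (j : G ⟶ E) (χ : G ⟶ CohB1.tensorMod G L), Mono j → 0 < s →
        FlatMod.IsFinLocFreeOfRank s G →
        χ ≫ (CohB1.sheafifyMod X).map (MonoidalCategoryStruct.whiskerRight (C := CohB1.PMod X) j.val (CohB1.toPMod L)) = j ≫ φ →
        Curv2.deg ℂ X G s * (r : ℤ) ≤ Curv2.deg ℂ X E r * (s : ℤ)))
    {A : X.Modules} {ρ : ℕ} (ι : A ⟶ E) [Mono ι] (ψ : A ⟶ CohB1.tensorMod A L)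
    (hψ : ψ ≫ (CohB1.sheafifyMod X).map (MonoidalCategoryStruct.whiskerRight (C := CohB1.PMod X) ι.val (CohB1.toPMod L)) = ι ≫ φ)
    (hslope : Curv2.deg ℂ X A ρ * (r : ℤ) = Curv2.deg ℂ X E r * (ρ : ℤ)) :
    ∀ (G : X.Modules) (s : ℕ) (j : G ⟶ A) (χ : G ⟶ CohB1.tensorMod G L), Mono j → 0 < s →
        FlatMod.IsFinLocFreeOfRank s G →
        χ ≫ (CohB1.sheafifyMod X).map (MonoidalCategoryStruct.whiskerRight (C := CohB1.PMod X) j.val (CohB1.toPMod L)) = j ≫ ψ →
        Curv2.deg ℂ X G s * (ρ : ℤ) ≤ Curv2.deg ℂ X A ρ * (s : ℤ) := by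
  intro G s j χ hj hs hG hχ
  have hψT : ψ ≫ (tensorRightFunctor L).map ι = ι ≫ φ :=
    (congrArg (fun t => ψ ≫ t) (whisker_eq ι L)).symm.trans hψ
  have hinv : Inv L φ (j ≫ ι) := inv_comp j ι ψ hψT (inv_of_whisker χ hχ)
  obtain ⟨χ', hχ'⟩ := (inv_iff L φ (j ≫ ι)).mp hinv
  have h1 := hEss G s (j ≫ ι) χ' (mono_comp j ι) hs hG hχ'
  exact arith1 _ _ _ _ _ _ (by exact_mod_cast hr) (Int.natCast_nonneg _) h1 hslope

end Helpers

section Helpers2

lemma transfer_aux {C : Type*} [Category C] (T : C ⥤ C) {B Q G : C} (π : B ⟶ Q) [IsIso π] (ψB : B ⟶ T.obj B)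
    (φ' : Q ⟶ T.obj Q) (hφ' : π ≫ φ' = ψB ≫ T.map π) (j : G ⟶ Q) (χ : G ⟶ T.obj G)
    (hχ : χ ≫ T.map j = j ≫ φ') : χ ≫ T.map (j ≫ inv π) = (j ≫ inv π) ≫ ψB := by
  have h1 : inv π ≫ ψB = φ' ≫ T.map (inv π) := by
    rw [IsIso.inv_comp_eq, ← Category.assoc, hφ', Category.assoc, ← T.map_comp, IsIso.hom_inv_id, T.map_id,
      Category.comp_id]
  rw [T.map_comp, ← Category.assoc, hχ, Category.assoc, ← h1, Category.assoc]

lemma compat_aux {C : Type*} [Category C] (T : C ⥤ C) {A B E : C} (a : A ⟶ B) (ιA : A ⟶ E) (ιB : B ⟶ E)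
    (ha : a ≫ ιB = ιA) (φ : E ⟶ T.obj E) (ψA : A ⟶ T.obj A) (ψB : B ⟶ T.obj B)
    (hA : ψA ≫ T.map ιA = ιA ≫ φ) (hB : ψB ≫ T.map ιB = ιB ≫ φ) [Mono (T.map ιB)] :
    ψA ≫ T.map a = a ≫ ψB := by
  rw [← cancel_mono (T.map ιB), Category.assoc, ← T.map_comp, ha, hA, Category.assoc, hB, ← Category.assoc, ha]

variable (H : Hyp.{0}) (X : Scheme.{0}) [X.Over (Spec (CommRingCat.of ℂ))] [IsIntegral X]
  [IsProper (X ↘ Spec (CommRingCat.of ℂ))] [Smooth (X ↘ Spec (CommRingCat.of ℂ))]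
  (hpid : ∀ x : X, IsPrincipalIdealRing (X.presheaf.stalk x))

include hpid in
/-- the quotient of a semistable pair by an invariant submodule of the same slope (rank `0` allowed) -/
theorem graded (hdim : topologicalKrullDim X = 1) {L : X.Modules} (hL : PicF.IsInvertible L)
    {A B : X.Modules} {rA rB : ℕ} (hA : FlatMod.IsFinLocFreeOfRank rA A) (hB : FlatMod.IsFinLocFreeOfRank rB B)
    (hlt : rA < rB) (ψA : A ⟶ CohB1.tensorMod A L) (ψB : B ⟶ CohB1.tensorMod B L) (a : A ⟶ B) [Mono a]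
    (hψ : ψA ≫ (CohB1.sheafifyMod X).map (MonoidalCategoryStruct.whiskerRight (C := CohB1.PMod X) a.val (CohB1.toPMod L)) = a ≫ ψB)
    (hBss : ∀ (G : X.Modules) (s : ℕ) (j : G ⟶ B) (χ : G ⟶ CohB1.tensorMod G L), Mono j → 0 < s →
        FlatMod.IsFinLocFreeOfRank s G →
        χ ≫ (CohB1.sheafifyMod X).map (MonoidalCategoryStruct.whiskerRight (C := CohB1.PMod X) j.val (CohB1.toPMod L)) = j ≫ ψB →
        Curv2.deg ℂ X G s * (rB : ℤ) ≤ Curv2.deg ℂ X B rB * (s : ℤ))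
    (hslope : Curv2.deg ℂ X A rA * (rB : ℤ) = Curv2.deg ℂ X B rB * (rA : ℤ)) :
    FlatMod.IsFinLocFreeOfRank (rB - rA) (cokernel a) ∧
    ∀ (φ' : cokernel a ⟶ CohB1.tensorMod (cokernel a) L),
      cokernel.π a ≫ φ' = ψB ≫ (CohB1.sheafifyMod X).map (MonoidalCategoryStruct.whiskerRight (C := CohB1.PMod X) (cokernel.π a).val (CohB1.toPMod L)) →
      ∀ (G : X.Modules) (s : ℕ) (j : G ⟶ cokernel a) (χ : G ⟶ CohB1.tensorMod G L), Mono j → 0 < s →
        FlatMod.IsFinLocFreeOfRank s G →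
        χ ≫ (CohB1.sheafifyMod X).map (MonoidalCategoryStruct.whiskerRight (C := CohB1.PMod X) j.val (CohB1.toPMod L)) = j ≫ φ' →
        Curv2.deg ℂ X G s * ((rB - rA : ℕ) : ℤ) ≤ Curv2.deg ℂ X (cokernel a) (rB - rA) * (s : ℤ) := by
  rcases Nat.eq_zero_or_pos rA with h0 | hpos
  · subst h0
    have hAz : IsZero A := isZero_of_rank_zero X hpid hA
    have hmono : Mono (cokernel.π a) := by
      apply Preadditive.mono_of_cancel_zero
      intro P g hg
      have h1 := Abelian.monoLift_comp a g hg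
      rw [← h1, hAz.eq_of_tgt (Abelian.monoLift a g hg) 0, zero_comp]
    have hiso : IsIso (cokernel.π a) := isIso_of_mono_of_epi _
    rw [Nat.sub_zero]
    refine ⟨?_, ?_⟩
    · intro x
      obtain ⟨V, hV, ⟨t⟩⟩ := hB x
      exact ⟨V, hV, ⟨(Scheme.Modules.restrictFunctor V.ι).mapIso (asIso (cokernel.π a)).symm ≪≫ t⟩⟩
    · intro φ' hφ' G s j χ hj hs hG hχ
      have hφ'T : cokernel.π a ≫ φ' = ψB ≫ (tensorRightFunctor L).map (cokernel.π a) :=
        hφ'.trans (congrArg (fun t => ψB ≫ t) (whisker_eq (cokernel.π a) L))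
      have hχT : χ ≫ (tensorRightFunctor L).map j = j ≫ φ' :=
        (congrArg (fun t => χ ≫ t) (whisker_eq j L)).symm.trans hχ
      have h1 := transfer_aux (C := X.Modules) (tensorRightFunctor L) (cokernel.π a) ψB φ' hφ'T j χ hχT
      have h2 := hBss G s (j ≫ inv (cokernel.π a)) χ (mono_comp _ _) hs hG
        ((congrArg (fun t => χ ≫ t) (whisker_eq (j ≫ inv (cokernel.π a)) L)).trans h1)
      rw [deg_congr ℂ X (asIso (cokernel.π a)).symm rB]
      exact h2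
  · exact Groth.Agent.S15328.result X hdim L hL rB (by omega) B hB ψB hBss A rA hpos hA a ψA hψ hslope

end Helpers2


/-- Let X be a smooth proper integral curve over the complex numbers, L an invertible module on X, and
(E, φ_E), (F, φ_F) two L-valued Higgs bundles on X of the same rank r ≥ 1 and the same degree d
(degree = χ − rank · χ(O)), each semistable: deg G · r ≤ d · s for every finite locally free
submodule G of rank s ≥ 1 to which the Higgs field restricts. Let E_0 ⊂ E_1 ⊂ … ⊂ E_n = E with E_0 =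
0 and F = F_0 ⊃ F_1 ⊃ … ⊃ F_n = 0 be chains of finite locally free submodules to which the Higgs
fields restrict, of ranks with rk E_i + rk F_i = r, which are opposite: E_{i+1}/E_i ≅ F_i/F_{i+1} as
O-modules for i < n. Then every E_i of positive rank and every F_i of positive rank has slope d/r,
that is deg · r = d · rank, and is semistable for its restricted Higgs field; and each graded piece
E_{i+1}/E_i of positive rank is finite locally free of rank rk E_{i+1} − rk E_i, of slope d/r, and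
semistable for every Higgs field on it compatible with that of E_{i+1} along the projection. (The
published statement indexes the second chain so that F_i/F_{i+1} matches E_i/E_{i−1} and takes the
isomorphisms of graded pieces as Higgs bundles; here they are assumed as O-modules only, together
with the rank bookkeeping rk E_i + rk F_i = r that they imply.) -/
theorem result
    (X : Scheme.{0}) [X.Over (Spec (CommRingCat.of ℂ))] [IsIntegral X]
    [IsProper (X ↘ Spec (CommRingCat.of ℂ))] [Smooth (X ↘ Spec (CommRingCat.of ℂ))]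
    (hdim : topologicalKrullDim X = 1)
    (L : X.Modules) (hL : PicF.IsInvertible L) (r : ℕ) (hr : 0 < r) (d : ℤ)
    (E : X.Modules) (hE : FlatMod.IsFinLocFreeOfRank r E) (φE : E ⟶ CohB1.tensorMod E L)
    (hEd : Curv2.deg ℂ X E r = d)
    (hEss : (∀ (G : X.Modules) (s : ℕ) (j : G ⟶ E) (χ : G ⟶ CohB1.tensorMod G L), Mono j → 0 < s →
        FlatMod.IsFinLocFreeOfRank s G →
        χ ≫ (CohB1.sheafifyMod X).map (MonoidalCategoryStruct.whiskerRight (C := CohB1.PMod X) j.val (CohB1.toPMod L)) = j ≫ φE →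
        Curv2.deg ℂ X G s * (r : ℤ) ≤ Curv2.deg ℂ X E r * (s : ℤ)))
    (F : X.Modules) (hF : FlatMod.IsFinLocFreeOfRank r F) (φF : F ⟶ CohB1.tensorMod F L)
    (hFd : Curv2.deg ℂ X F r = d)
    (hFss : (∀ (G : X.Modules) (s : ℕ) (j : G ⟶ F) (χ : G ⟶ CohB1.tensorMod G L), Mono j → 0 < s →
        FlatMod.IsFinLocFreeOfRank s G →
        χ ≫ (CohB1.sheafifyMod X).map (MonoidalCategoryStruct.whiskerRight (C := CohB1.PMod X) j.val (CohB1.toPMod L)) = j ≫ φF →
        Curv2.deg ℂ X G s * (r : ℤ) ≤ Curv2.deg ℂ X F r * (s : ℤ)))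
    (n : ℕ)
    (Es : ℕ → X.Modules) (rE : ℕ → ℕ) (hEs : ∀ i, FlatMod.IsFinLocFreeOfRank (rE i) (Es i))
    (ιE : ∀ i, Es i ⟶ E) (hιE : ∀ i, Mono (ιE i))
    (ψE : ∀ i, Es i ⟶ CohB1.tensorMod (Es i) L)
    (hψE : ∀ i, ψE i ≫ (CohB1.sheafifyMod X).map (MonoidalCategoryStruct.whiskerRight (C := CohB1.PMod X) (ιE i).val (CohB1.toPMod L)) = ιE i ≫ φE)
    (a : ∀ i, Es i ⟶ Es (i + 1)) (ha : ∀ i, a i ≫ ιE (i + 1) = ιE i)
    (hE0 : IsZero (Es 0)) (hEn : IsIso (ιE n))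
    (Fs : ℕ → X.Modules) (rF : ℕ → ℕ) (hFs : ∀ i, FlatMod.IsFinLocFreeOfRank (rF i) (Fs i))
    (ιF : ∀ i, Fs i ⟶ F) (hιF : ∀ i, Mono (ιF i))
    (ψF : ∀ i, Fs i ⟶ CohB1.tensorMod (Fs i) L)
    (hψF : ∀ i, ψF i ≫ (CohB1.sheafifyMod X).map (MonoidalCategoryStruct.whiskerRight (C := CohB1.PMod X) (ιF i).val (CohB1.toPMod L)) = ιF i ≫ φF)
    (b : ∀ i, Fs (i + 1) ⟶ Fs i) (hb : ∀ i, b i ≫ ιF i = ιF (i + 1))
    (hF0 : IsIso (ιF 0)) (hFn : IsZero (Fs n))
    (hrk : ∀ i, i ≤ n → rE i + rF i = r)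
    (hopp : ∀ i, i < n → Nonempty (cokernel (a i) ≅ cokernel (b i))) :
    (∀ i, i ≤ n → 0 < rE i →
      Curv2.deg ℂ X (Es i) (rE i) * (r : ℤ) = d * (rE i : ℤ) ∧
      (∀ (G : X.Modules) (s : ℕ) (j : G ⟶ (Es i)) (χ : G ⟶ CohB1.tensorMod G L), Mono j → 0 < s →
        FlatMod.IsFinLocFreeOfRank s G →
        χ ≫ (CohB1.sheafifyMod X).map (MonoidalCategoryStruct.whiskerRight (C := CohB1.PMod X) j.val (CohB1.toPMod L)) = j ≫ ψE i →
        Curv2.deg ℂ X G s * (rE i : ℤ) ≤ Curv2.deg ℂ X (Es i) (rE i) * (s : ℤ))) ∧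
    (∀ i, i ≤ n → 0 < rF i →
      Curv2.deg ℂ X (Fs i) (rF i) * (r : ℤ) = d * (rF i : ℤ) ∧
      (∀ (G : X.Modules) (s : ℕ) (j : G ⟶ (Fs i)) (χ : G ⟶ CohB1.tensorMod G L), Mono j → 0 < s →
        FlatMod.IsFinLocFreeOfRank s G →
        χ ≫ (CohB1.sheafifyMod X).map (MonoidalCategoryStruct.whiskerRight (C := CohB1.PMod X) j.val (CohB1.toPMod L)) = j ≫ ψF i →
        Curv2.deg ℂ X G s * (rF i : ℤ) ≤ Curv2.deg ℂ X (Fs i) (rF i) * (s : ℤ))) ∧
    (∀ i, i < n → rE i < rE (i + 1) →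
      FlatMod.IsFinLocFreeOfRank (rE (i + 1) - rE i) (cokernel (a i)) ∧
      Curv2.deg ℂ X (cokernel (a i)) (rE (i + 1) - rE i) * (r : ℤ) = d * ((rE (i + 1) - rE i : ℕ) : ℤ) ∧
      ∀ (φ' : cokernel (a i) ⟶ CohB1.tensorMod (cokernel (a i)) L),
        cokernel.π (a i) ≫ φ' = ψE (i + 1) ≫ (CohB1.sheafifyMod X).map (MonoidalCategoryStruct.whiskerRight (C := CohB1.PMod X) (cokernel.π (a i)).val (CohB1.toPMod L)) →
        (∀ (G : X.Modules) (s : ℕ) (j : G ⟶ cokernel (a i)) (χ : G ⟶ CohB1.tensorMod G L), Mono j → 0 < s →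
        FlatMod.IsFinLocFreeOfRank s G →
        χ ≫ (CohB1.sheafifyMod X).map (MonoidalCategoryStruct.whiskerRight (C := CohB1.PMod X) j.val (CohB1.toPMod L)) = j ≫ φ' →
        Curv2.deg ℂ X G s * ((rE (i + 1) - rE i : ℕ) : ℤ) ≤ Curv2.deg ℂ X (cokernel (a i)) (rE (i + 1) - rE i) * (s : ℤ))) := by
  have hpid := Groth.Agent.Lib.SmoothCurve67.isPrincipalIdealRing_stalk_of_smooth ℂ X (le_of_eq hdim)
  have H : Groth.Agent.Lib.ProperFinHyp.Hyp.{0} :=
    fun A _ _ X _ _ M hM n => Groth.Agent.S0002.result A X M hM n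
  have hr0 : (0 : ℤ) < r := by exact_mod_cast hr
  have haM : ∀ i, Mono (a i) := fun i => by
    have := hιE i
    have h : Mono (a i ≫ ιE (i + 1)) := by rw [ha i]; infer_instance
    exact mono_of_mono (a i) (ιE (i + 1))
  have hbM : ∀ i, Mono (b i) := fun i => by
    have := hιF (i + 1)
    have h : Mono (b i ≫ ιF i) := by rw [hb i]; infer_instance
    exact mono_of_mono (b i) (ιF i)
  have hA : ∀ i, Curv2.deg ℂ X (Es i) (rE i) * (r : ℤ) ≤ d * (rE i : ℤ) := by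
    intro i
    rcases Nat.eq_zero_or_pos (rE i) with h0 | hpos
    · have hz := hEs i
      rw [h0] at hz ⊢
      rw [deg_rank_zero X hpid hz]
      simp
    · have := hEss (Es i) (rE i) (ιE i) (ψE i) (hιE i) hpos (hEs i) (hψE i)
      rw [hEd] at this
      exact this
  have hB : ∀ i, Curv2.deg ℂ X (Fs i) (rF i) * (r : ℤ) ≤ d * (rF i : ℤ) := by
    intro i
    rcases Nat.eq_zero_or_pos (rF i) with h0 | hpos
    · have hz := hFs i
      rw [h0] at hz ⊢
      rw [deg_rank_zero X hpid hz]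
      simp
    · have := hFss (Fs i) (rF i) (ιF i) (ψF i) (hιF i) hpos (hFs i) (hψF i)
      rw [hFd] at this
      exact this
  have hC : ∀ i, i < n → Curv2.deg ℂ X (Es (i + 1)) (rE (i + 1)) - Curv2.deg ℂ X (Es i) (rE i) =
      Curv2.deg ℂ X (Fs i) (rF i) - Curv2.deg ℂ X (Fs (i + 1)) (rF (i + 1)) := by
    intro i hi
    have := haM i
    have := hbM i
    obtain ⟨hle1, h1⟩ := ses_deg H X (hEs i) (hEs (i + 1)) (a i)
    obtain ⟨hle2, h2⟩ := ses_deg H X (hFs (i + 1)) (hFs i) (b i)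
    obtain ⟨c⟩ := hopp i hi
    have hk1 := hrk i (by omega)
    have hk2 := hrk (i + 1) (by omega)
    have hm : rF i - rF (i + 1) = rE (i + 1) - rE i := by omega
    rw [hm] at h2
    rw [deg_congr ℂ X c (rE (i + 1) - rE i)] at h1
    lia
  have hE0z : rE 0 = 0 := by
    have h := eq_rk_of_isFinLocFreeOfRank (hEs 0)
    rw [rk_of_isZero hE0] at h
    exact h
  have he0 : Curv2.deg ℂ X (Es 0) (rE 0) = 0 := by
    have hz := hEs 0
    rw [hE0z] at hz ⊢
    exact deg_rank_zero X hpid hz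
  have hF0r : rF 0 = r := by
    have := hrk 0 (Nat.zero_le n)
    omega
  have hf0 : Curv2.deg ℂ X (Fs 0) (rF 0) = d := by
    rw [hF0r, deg_congr ℂ X (@asIso _ _ _ _ (ιF 0) hF0) r, hFd]
  have hsum : ∀ i, i ≤ n → Curv2.deg ℂ X (Es i) (rE i) + Curv2.deg ℂ X (Fs i) (rF i) = d := by
    intro i
    induction i with
    | zero => intro _; rw [he0, hf0]; ring
    | succ i ih =>
      intro hi
      have h1 := ih (by omega)
      have h2 := hC i (by omega)
      lia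
  have hEq : ∀ i, i ≤ n → Curv2.deg ℂ X (Es i) (rE i) * (r : ℤ) = d * (rE i : ℤ) ∧
      Curv2.deg ℂ X (Fs i) (rF i) * (r : ℤ) = d * (rF i : ℤ) := by
    intro i hi
    have h1 := hA i
    have h2 := hB i
    have h3 := hsum i hi
    have h4 : ((rE i : ℤ) + (rF i : ℤ)) = (r : ℤ) := by exact_mod_cast hrk i hi
    have h6 : Curv2.deg ℂ X (Es i) (rE i) * (r : ℤ) + Curv2.deg ℂ X (Fs i) (rF i) * (r : ℤ) =
        d * (rE i : ℤ) + d * (rF i : ℤ) := by
      rw [← add_mul, h3, ← mul_add, h4]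
    constructor <;> linarith
  refine ⟨?_, ?_, ?_⟩
  · intro i hi hpos
    have := hιE i
    refine ⟨(hEq i hi).1, ?_⟩
    exact sub_ss X hr φE hEss (ιE i) (ψE i) (hψE i) (by rw [hEd]; exact (hEq i hi).1)
  · intro i hi hpos
    have := hιF i
    refine ⟨(hEq i hi).2, ?_⟩
    exact sub_ss X hr φF hFss (ιF i) (ψF i) (hψF i) (by rw [hFd]; exact (hEq i hi).2)
  · intro i hi hlt
    have := haM i
    have := hιE (i + 1)
    obtain ⟨L', hL', ⟨eL⟩⟩ := Groth.Agent.Lib.H78Dual.exists_tensor_inverse hL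
    let e' : CohB1.tensorMod L L' ≅ Coh.structureModule X := braiding L L' ≪≫ eL
    have hT := isEquivalence_tensorRightFunctor e'
    have hm : Mono ((tensorRightFunctor L).map (ιE (i + 1))) := inferInstance
    have hψET : ∀ i, ψE i ≫ (tensorRightFunctor L).map (ιE i) = ιE i ≫ φE := fun i =>
      (congrArg (fun t => ψE i ≫ t) (whisker_eq (ιE i) L)).symm.trans (hψE i)
    have hcompatT : ψE i ≫ (tensorRightFunctor L).map (a i) = a i ≫ ψE (i + 1) :=
      compat_aux (C := X.Modules) (tensorRightFunctor L) (a i) (ιE i) (ιE (i + 1)) (ha i) φE (ψE i) (ψE (i + 1))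
        (hψET i) (hψET (i + 1))
    have hcompat : ψE i ≫ (CohB1.sheafifyMod X).map (MonoidalCategoryStruct.whiskerRight (C := CohB1.PMod X) (a i).val (CohB1.toPMod L)) = a i ≫ ψE (i + 1) :=
      (congrArg (fun t => ψE i ≫ t) (whisker_eq (a i) L)).trans hcompatT
    have hss1 := sub_ss X hr φE hEss (ιE (i + 1)) (ψE (i + 1)) (hψE (i + 1))
      (by rw [hEd]; exact (hEq (i + 1) hi).1)
    have hq1 := (hEq i (by omega)).1
    have hq2 := (hEq (i + 1) hi).1
    have hslope : Curv2.deg ℂ X (Es i) (rE i) * (rE (i + 1) : ℤ) =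
        Curv2.deg ℂ X (Es (i + 1)) (rE (i + 1)) * (rE i : ℤ) := by
      have h : (Curv2.deg ℂ X (Es i) (rE i) * (rE (i + 1) : ℤ)) * (r : ℤ) =
          (Curv2.deg ℂ X (Es (i + 1)) (rE (i + 1)) * (rE i : ℤ)) * (r : ℤ) := by
        linear_combination (rE (i + 1) : ℤ) * hq1 - (rE i : ℤ) * hq2
      exact mul_right_cancel₀ hr0.ne' h
    obtain ⟨hlf, hss⟩ := graded X hpid hdim hL (hEs i) (hEs (i + 1)) hlt (ψE i) (ψE (i + 1)) (a i) hcompat hss1
      hslope
    refine ⟨hlf, ?_, hss⟩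
    obtain ⟨hle1, h1⟩ := ses_deg H X (hEs i) (hEs (i + 1)) (a i)
    rw [Nat.cast_sub hle1]
    linear_combination hq2 - hq1 - (r : ℤ) * h1

end Groth.Agent.S15330
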