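import Groth.Statements.S15335
import Groth.Agent.Lib.CurveVB67H
import Groth.Agent.Lib.SmoothCurve67
import Groth.Agent.S0002
import Mathlib
-- import your own Groth.Agent.* helpers here

set_option autoImplicit false
universe u
open CategoryTheory CategoryTheory.Limits AlgebraicGeometry
open VBCurve

namespace Groth.Agent.S15335

open Groth.Agent.Lib.CurveVB67


/-- Let X be a smooth proper integral curve (integral, smooth and proper of dimension one) over an
algebraically closed field k, and E₁, E₂ finite locally free O_X-modules of ranks r₁ ≥ 1, r₂ ≥ 1.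
The maximal slope of E₁ ⊕ E₂ is at most the larger of the maximal slopes of E₁ and E₂: if m₁, m₂ are
rational numbers such that every finite locally free submodule of positive rank of E₁ (resp. E₂) has
slope deg/rank ≤ m₁ (resp. ≤ m₂), degree meaning χ − rank·χ(O_X), then every finite locally free
submodule F of the biproduct E₁ ⊞ E₂ of rank r' ≥ 1 has slope deg F / r' ≤ max(m₁, m₂). -/
theorem result (k : Type u) [Field k] [IsAlgClosed k] (X : Scheme.{u}) [X.Over (Spec (CommRingCat.of k))]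
    [IsIntegral X] [IsProper (X ↘ Spec (CommRingCat.of k))] [Smooth (X ↘ Spec (CommRingCat.of k))]
    (hdim : topologicalKrullDim X = 1)
    (r₁ r₂ : ℕ) (hr₁ : 0 < r₁) (hr₂ : 0 < r₂) (E₁ E₂ : X.Modules)
    (hE₁ : FlatMod.IsFinLocFreeOfRank r₁ E₁) (hE₂ : FlatMod.IsFinLocFreeOfRank r₂ E₂) (m₁ m₂ : ℚ)
    (h₁ : ∀ (G : X.Modules) (r' : ℕ) (i : G ⟶ E₁), Mono i → 0 < r' → FlatMod.IsFinLocFreeOfRank r' G →
      (Curv2.deg k X G r' : ℚ) / r' ≤ m₁)
    (h₂ : ∀ (G : X.Modules) (r' : ℕ) (i : G ⟶ E₂), Mono i → 0 < r' → FlatMod.IsFinLocFreeOfRank r' G →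
      (Curv2.deg k X G r' : ℚ) / r' ≤ m₂)
    (F : X.Modules) (r' : ℕ) (i : F ⟶ E₁ ⊞ E₂) (hi : Mono i) (hr' : 0 < r')
    (hF : FlatMod.IsFinLocFreeOfRank r' F) :
    (Curv2.deg k X F r' : ℚ) / r' ≤ max m₁ m₂ := by
  have hpid := Groth.Agent.Lib.SmoothCurve67.isPrincipalIdealRing_stalk_of_smooth k X (le_of_eq hdim)
  have H : Groth.Agent.Lib.ProperFinHyp.Hyp.{u} :=
    fun A _ _ X _ _ M hM n => Groth.Agent.S0002.result A X M hM n
  have := isLocallyNoetherian_of_proper k X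
  have hc₁ : Coh.IsCoh E₁ := isCoh_of_rank hE₁
  have hc₂ : Coh.IsCoh E₂ := isCoh_of_rank hE₂
  have hFc : Coh.IsCoh F := isCoh_of_rank hF
  have hr'F : r' = rk F := eq_rk_of_isFinLocFreeOfRank hF
  -- the split short exact sequence
  let T : ShortComplex X.Modules := ShortComplex.mk (biprod.inl : E₁ ⟶ E₁ ⊞ E₂) biprod.snd (by simp)
  have hT : T.ShortExact := by
    refine ShortComplex.ShortExact.mk' ?_ inferInstance inferInstance
    exact (ShortComplex.Splitting.ofHasBinaryBiproduct E₁ E₂).exact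
  obtain ⟨G₁, G₂, j₁, j₂, hj₁, hj₂, hG₁c, hG₂c, hrkG, hdegG⟩ := sub_ses_data H k X T hT hc₂ i hFc
  rw [← hr'F] at hrkG hdegG
  -- bounds for the two pieces
  have key : ∀ (E : X.Modules) (n : ℕ) (hE : FlatMod.IsFinLocFreeOfRank n E) (m : ℚ)
      (hm : ∀ (G : X.Modules) (r' : ℕ) (i : G ⟶ E), Mono i → 0 < r' → FlatMod.IsFinLocFreeOfRank r' G →
        (Curv2.deg k X G r' : ℚ) / r' ≤ m) (G : X.Modules) (j : G ⟶ E) (hj : Mono j) (hG : Coh.IsCoh G),
      (Curv2.deg k X G (rk G) : ℚ) ≤ m * rk G := by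
    intro E n hE m hm G j hj hG
    rcases Nat.eq_zero_or_pos (rk G) with h0 | hpos
    · have hz : IsZero G := isZero_of_tf_of_rk_eq_zero hpid hG
        (tf_of_mono j (tf_of_isFinLocFree (isFinLocFree_of_rank hE))) h0
      rw [h0, deg_of_isZero k X hz]
      simp
    · have h := hm G _ j hj hpos (locFree_of_mono k X hpid j hG hE)
      have hpos' : (0 : ℚ) < rk G := by exact_mod_cast hpos
      rwa [div_le_iff₀ hpos'] at h
  have b₁ := key E₁ r₁ hE₁ m₁ h₁ G₁ j₁ hj₁ hG₁c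
  have b₂ := key E₂ r₂ hE₂ m₂ h₂ G₂ j₂ hj₂ hG₂c
  have hr'0 : (0 : ℚ) < r' := by exact_mod_cast hr'
  rw [div_le_iff₀ hr'0, hdegG, hrkG]
  push_cast
  have hn₁ : (0 : ℚ) ≤ rk G₁ := by exact_mod_cast Nat.zero_le _
  have hn₂ : (0 : ℚ) ≤ rk G₂ := by exact_mod_cast Nat.zero_le _
  have c₁ : m₁ * rk G₁ ≤ max m₁ m₂ * rk G₁ := mul_le_mul_of_nonneg_right (le_max_left _ _) hn₁
  have c₂ : m₂ * rk G₂ ≤ max m₁ m₂ * rk G₂ := mul_le_mul_of_nonneg_right (le_max_right _ _) hn₂
  linarith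

end Groth.Agent.S15335
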