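import Groth.Statements.S15340
import Groth.Agent.Lib.StableEnd
import Groth.Agent.Lib.CurveVB67I
import Groth.Agent.Lib.SmoothCurve67
import Groth.Agent.S0002
import Mathlib
-- import your own Groth.Agent.* helpers here

set_option autoImplicit false
universe u
open CategoryTheory CategoryTheory.Limits AlgebraicGeometry
open VBCurve

namespace Groth.Agent.S15340

open Groth.Agent.Lib.CurveVB67


/-- Let X be a smooth proper integral curve (integral, smooth and proper of dimension one) over an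
algebraically closed field k and E a finite locally free O_X-module of rank r ≥ 1 which is
slope-semistable and slope-stable (deg G · r ≤ deg E · r' for finite locally free submodules G of
rank r' ≥ 1, strictly when r' < r; degree = χ − rank·χ(O_X)). Then E is indecomposable: it is
nonzero and whenever E ≅ E₁ ⊞ E₂ as O_X-modules, one of E₁, E₂ is zero. -/
theorem result (k : Type u) [Field k] [IsAlgClosed k] (X : Scheme.{u}) [X.Over (Spec (CommRingCat.of k))]
    [IsIntegral X] [IsProper (X ↘ Spec (CommRingCat.of k))] [Smooth (X ↘ Spec (CommRingCat.of k))]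
    (hdim : topologicalKrullDim X = 1)
    (r : ℕ) (hr : 0 < r) (E : X.Modules) (hE : FlatMod.IsFinLocFreeOfRank r E)
    (hEss : ModFun.IsSlopeSemistable k X E r) (hEst : ModFun.IsSlopeStable k X E r) :
    ¬ IsZero E ∧ ∀ (E₁ E₂ : X.Modules), Nonempty (E ≅ E₁ ⊞ E₂) → IsZero E₁ ∨ IsZero E₂ := by
  have H : Groth.Agent.Lib.ProperFinHyp.Hyp.{u} :=
    fun A _ _ X _ _ M hM n => Groth.Agent.S0002.result A X M hM n
  have hpid := Groth.Agent.Lib.SmoothCurve67.isPrincipalIdealRing_stalk_of_smooth k X (le_of_eq hdim)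
  have hstrict := strictStable_of_slopeStable H k X hdim.le hr hE hEst
  refine ⟨not_isZero_of_rank_pos X hE hr, ?_⟩
  rintro E₁ E₂ ⟨φ⟩
  by_cases h0 : φ.hom ≫ biprod.fst ≫ biprod.inl ≫ φ.inv = 0
  · left
    have h1 : (biprod.fst ≫ biprod.inl : E₁ ⊞ E₂ ⟶ E₁ ⊞ E₂) = 0 := by
      have := congrArg (fun t => φ.inv ≫ t ≫ φ.hom) h0
      simpa using this
    rw [IsZero.iff_id_eq_zero]
    calc 𝟙 E₁ = (biprod.inl : E₁ ⟶ E₁ ⊞ E₂) ≫ (biprod.fst ≫ biprod.inl) ≫ biprod.fst := by simp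
      _ = 0 := by rw [h1]; simp
  · right
    have hiso : IsIso (φ.hom ≫ biprod.fst ≫ biprod.inl ≫ φ.inv) :=
      Groth.Agent.Lib.StableEnd.isIso_of_ne_zero H k X hpid hE hstrict _ h0
    have hidem : (φ.hom ≫ biprod.fst ≫ biprod.inl ≫ φ.inv) ≫ (φ.hom ≫ biprod.fst ≫ biprod.inl ≫ φ.inv) =
        φ.hom ≫ biprod.fst ≫ biprod.inl ≫ φ.inv := by simp
    have hone : φ.hom ≫ biprod.fst ≫ biprod.inl ≫ φ.inv = 𝟙 E := by
      rw [← cancel_epi (φ.hom ≫ biprod.fst ≫ biprod.inl ≫ φ.inv), hidem, Category.comp_id]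
    have h1 : (biprod.fst ≫ biprod.inl : E₁ ⊞ E₂ ⟶ E₁ ⊞ E₂) = 𝟙 _ := by
      have := congrArg (fun t => φ.inv ≫ t ≫ φ.hom) hone
      simpa using this
    rw [IsZero.iff_id_eq_zero]
    calc 𝟙 E₂ = (biprod.inr : E₂ ⟶ E₁ ⊞ E₂) ≫ 𝟙 _ ≫ biprod.snd := by simp
      _ = (biprod.inr : E₂ ⟶ E₁ ⊞ E₂) ≫ (biprod.fst ≫ biprod.inl) ≫ biprod.snd := by rw [h1]
      _ = 0 := by simp

end Groth.Agent.S15340
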