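import Groth.Statements.S15347
import Mathlib

set_option autoImplicit false
universe u
open CategoryTheory CategoryTheory.Limits AlgebraicGeometry
open Mor

namespace Groth.Agent.S15347

/-- Let f : Y ⟶ X be an immersion of schemes. Then: for every valuation ring A with fraction field K and
every commutative square Spec K ⟶ Y, Spec A ⟶ X over f such that some morphism from the spectrum of
the residue field of A to Y lies over Spec A ⟶ X, the square admits a lift; and for every integral
domain A and every morphism s : Spec A ⟶ X such that the points of a dense subset of Spec A lift to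
Y (the residue field of each such point maps to Y over s), there is a nonempty open subscheme U of
Spec A with a morphism U ⟶ Y over s. (The published statement is for a representable, locally
finitely presented morphism of algebraic stacks with locally Noetherian target and a quasi-compact
immersion, and also lists that f is a monomorphism; this row is the case of schemes, for any
immersion and any target.) -/
theorem result {X Y : Scheme.{u}} (f : Y ⟶ X) [IsImmersion f] :
    (∀ S : ValuativeCommSq f,
        (∃ l₀ : Spec (CommRingCat.of (IsLocalRing.ResidueField S.R)) ⟶ Y,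
            l₀ ≫ f = Spec.map (CommRingCat.ofHom (IsLocalRing.residue S.R)) ≫ S.i₂) →
          S.commSq.HasLift) ∧
      ∀ (A : Type u) [CommRing A] [IsDomain A] (s : Spec (CommRingCat.of A) ⟶ X) (D : Set ↥(Spec (CommRingCat.of A))),
        Dense D →
        (∀ p ∈ D, ∃ l : Spec ((Spec (CommRingCat.of A)).residueField p) ⟶ Y,
            l ≫ f = (Spec (CommRingCat.of A)).fromSpecResidueField p ≫ s) →
          ∃ U : (Spec (CommRingCat.of A)).Opens, (U : Set ↥(Spec (CommRingCat.of A))).Nonempty ∧
            ∃ l : (U : Scheme.{u}) ⟶ Y, l ≫ f = U.ι ≫ s := by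
  classical
  refine ⟨?_, ?_⟩
  · intro S ⟨l₀, hl₀⟩
    -- the closed point lands in the range of f
    let pt : Spec (CommRingCat.of (IsLocalRing.ResidueField S.R)) :=
      (⊥ : PrimeSpectrum (IsLocalRing.ResidueField S.R))
    have hcl : S.i₂.base (IsLocalRing.closedPoint S.R) = f.base (l₀.base pt) := by
      have h1 : (Spec.map (CommRingCat.ofHom (IsLocalRing.residue S.R))).base pt =
          IsLocalRing.closedPoint S.R :=
        IsLocalRing.PrimeSpectrum.comap_residue S.R pt
      have h2 := congrArg (fun g => g.base pt) hl₀
      simp only [Scheme.Hom.comp_base, TopCat.comp_app] at h2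
      rw [h2, h1]
    have hmem : S.i₂.base (IsLocalRing.closedPoint S.R) ∈ f.coborderRange := by
      rw [hcl]
      exact subset_coborder ⟨_, rfl⟩
    have hrange : Set.range S.i₂.base ⊆ Set.range f.coborderRange.ι.base := by
      have h1 : S.i₂ ⁻¹ᵁ f.coborderRange = ⊤ :=
        (IsLocalRing.closedPoint_mem_iff (S.i₂ ⁻¹ᵁ f.coborderRange)).mp hmem
      rintro _ ⟨x, rfl⟩
      have : x ∈ S.i₂ ⁻¹ᵁ f.coborderRange := by rw [h1]; trivial
      simpa using this
    let i₂' : Spec (CommRingCat.of S.R) ⟶ f.coborderRange :=
      IsOpenImmersion.lift f.coborderRange.ι S.i₂ hrange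
    have hi₂' : i₂' ≫ f.coborderRange.ι = S.i₂ := IsOpenImmersion.lift_fac _ _ _
    have hsq : CommSq S.i₁ (Spec.map (CommRingCat.ofHom (algebraMap S.R S.K))) f.liftCoborder i₂' := by
      refine ⟨?_⟩
      rw [← cancel_mono f.coborderRange.ι, Category.assoc, Category.assoc, hi₂',
        Scheme.Hom.liftCoborder_ι]
      exact S.commSq.w
    let S' : ValuativeCommSq f.liftCoborder :=
      { R := S.R, K := S.K, i₁ := S.i₁, i₂ := i₂', commSq := hsq }
    have hex : ValuativeCriterion.Existence f.liftCoborder := by
      have : UniversallyClosed f.liftCoborder := inferInstance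
      rw [UniversallyClosed.eq_valuativeCriterion] at this
      exact this.1
    obtain ⟨⟨l⟩⟩ := hex S'
    refine ⟨⟨⟨l.l, l.fac_left, ?_⟩⟩⟩
    have h3 : l.l ≫ f = (l.l ≫ f.liftCoborder) ≫ f.coborderRange.ι := by
      rw [Category.assoc, Scheme.Hom.liftCoborder_ι]
    rw [h3, l.fac_right]
    exact hi₂'
  · intro A _ _ s D hD hlift
    have : Nonempty ↥(Spec (CommRingCat.of A)) := inferInstanceAs (Nonempty (PrimeSpectrum A))
    let g := pullback.snd f s
    have hDg : D ⊆ Set.range g.base := by
      intro p hp
      obtain ⟨l, hl⟩ := hlift p hp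
      refine ⟨(pullback.lift l ((Spec (CommRingCat.of A)).fromSpecResidueField p) hl).base
        (⊥ : PrimeSpectrum _), ?_⟩
      rw [← Scheme.Hom.comp_apply, pullback.lift_snd]
      exact Scheme.fromSpecResidueField_apply p _
    let U := g.coborderRange
    have hdom : IsDominant g.liftCoborder := by
      refine ⟨?_⟩
      have hd : Dense (U.ι.base ⁻¹' D) := hD.preimage U.ι.isOpenEmbedding.isOpenMap
      refine hd.mono ?_
      intro x hx
      obtain ⟨y, hy⟩ := hDg hx
      refine ⟨y, ?_⟩
      apply U.ι.isOpenEmbedding.injective
      rw [← Scheme.Hom.comp_apply, Scheme.Hom.liftCoborder_ι]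
      exact hy
    have hsurj : Surjective g.liftCoborder :=
      surjective_of_isDominant_of_isClosed_range _ g.liftCoborder.isClosedEmbedding.isClosed_range
    have hiso : IsIso g.liftCoborder := isIso_of_isClosedImmersion_of_surjective _
    obtain ⟨p, hp⟩ := hD.nonempty
    refine ⟨U, ⟨p, subset_coborder (hDg hp)⟩, inv g.liftCoborder ≫ pullback.fst f s, ?_⟩
    rw [Category.assoc, pullback.condition, IsIso.inv_comp_eq, Scheme.Hom.liftCoborder_ι_assoc]

end Groth.Agent.S15347
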