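import Groth.Statements.S15348
import Groth.Agent.Lib.ReflSpecLimit
import Groth.Agent.Lib.MonoDvrSpec
import Groth.Agent.Lib.MonoQC
import Groth.Agent.Lib.MonoImm

set_option autoImplicit false
universe u
open CategoryTheory CategoryTheory.Limits AlgebraicGeometry
open Mor

namespace Groth.Agent.S15348

/-- Let X be a locally Noetherian scheme and f : Y ⟶ X a monomorphism locally of finite presentation.
Assume: for every discrete valuation ring A with fraction field K and every commutative square Spec
K ⟶ Y, Spec A ⟶ X over f such that some morphism from the spectrum of the residue field of A to Y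
lies over Spec A ⟶ X, the square admits a lift; and for every integral domain A and every morphism s
: Spec A ⟶ X such that the points of a dense subset of Spec A lift to Y (the residue field of each
such point maps to Y over s), some nonempty open subscheme of Spec A maps to Y over s. Then f is an
immersion (f is then also quasi-compact; that is not part of this statement). (The published
statement is for a representable morphism of algebraic stacks; this row is the case of schemes.) -/
theorem result {X Y : Scheme.{u}} [IsLocallyNoetherian X]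
    (f : Y ⟶ X) [LocallyOfFinitePresentation f] [Mono f]
    (hb : ∀ S : ValuativeCommSq f, IsDiscreteValuationRing S.R →
        (∃ l₀ : Spec (CommRingCat.of (IsLocalRing.ResidueField S.R)) ⟶ Y,
            l₀ ≫ f = Spec.map (CommRingCat.ofHom (IsLocalRing.residue S.R)) ≫ S.i₂) →
          S.commSq.HasLift)
    (hc : ∀ (A : Type u) [CommRing A] [IsDomain A] (s : Spec (CommRingCat.of A) ⟶ X) (D : Set ↥(Spec (CommRingCat.of A))),
        Dense D →
        (∀ p ∈ D, ∃ l : Spec ((Spec (CommRingCat.of A)).residueField p) ⟶ Y,
            l ≫ f = (Spec (CommRingCat.of A)).fromSpecResidueField p ≫ s) →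
          ∃ U : (Spec (CommRingCat.of A)).Opens, (U : Set ↥(Spec (CommRingCat.of A))).Nonempty ∧
            ∃ l : (U : Scheme.{u}) ⟶ Y, l ≫ f = U.ι ≫ s) :
    IsImmersion f := by
  haveI : QuasiCompact f := Groth.Agent.Lib.MonoQC.quasiCompact_of_denseLift f
    (fun A _ _ s D hD hl => hc A s D hD hl)
  have hrefl : ∀ (X' : Scheme.{u}) (g : X' ⟶ X) (y₀ y₁ : ↥(pullback f g)),
      (pullback.snd f g) y₁ ⤳ (pullback.snd f g) y₀ → y₁ ⤳ y₀ := by
    intro X' g y₀ y₁ hs
    refine Groth.Agent.Lib.ReflSpecLimit.reflects_of_locallyOfFiniteType f ?_ X' g y₀ y₁ hs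
    intro X'' g'' _ z₀ z₁ hz
    haveI : IsLocallyNoetherian X'' := LocallyOfFiniteType.isLocallyNoetherian g''
    exact Groth.Agent.Lib.MonoDvrSpec.specializes_of_dvrLift f hb X'' g'' z₀ z₁ hz
  exact Groth.Agent.Lib.MonoImm.isImmersion_of_valLift f
    (Groth.Agent.Lib.MonoSpec45.valLift_of_specializes f hrefl)

end Groth.Agent.S15348
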