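import Groth.Statements.S15352
import Groth.Agent.Lib.GrpTopDiv45

set_option autoImplicit false
universe u
open CategoryTheory CategoryTheory.Limits MonoidalCategory CartesianMonoidalCategory MonObj GrpObj AlgebraicGeometry
open GrpSch

namespace Groth.Agent.S15352

/-- Let k be an algebraically closed field, G a group scheme locally of finite type over k, G⁰ ⊆ G the
connected component of the unit point, and U a nonempty open subscheme of G contained in G⁰. Then
every point of G⁰ is in the image of the morphism U ×_k U ⟶ G, (g, h) ↦ g·h⁻¹. (The published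
statement writes U as an open of G mapping to G⁰ × G⁰; this row makes the containment U ⊆ G⁰
explicit.) -/
theorem result (k : Type u) [Field k] [IsAlgClosed k]
    (G : Over (Spec (CommRingCat.of k))) [GrpObj G] [LocallyOfFiniteType G.hom] (U : G.left.Opens)
    (hne : (U : Set ↥G.left).Nonempty)
    (hU : (U : Set ↥G.left) ⊆ connectedComponent (η[G].left.base (IsLocalRing.closedPoint k))) :
    connectedComponent (η[G].left.base (IsLocalRing.closedPoint k)) ⊆ Set.range
      ((((Over.homMk U.ι rfl : Over.mk (U.ι ≫ G.hom) ⟶ G) ⊗ₘ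
          ((Over.homMk U.ι rfl : Over.mk (U.ι ≫ G.hom) ⟶ G) ≫ ι[G])) ≫ μ[G]).left.base) := by
  have hC : connectedComponent (η[G].left.base (IsLocalRing.closedPoint k)) =
      Groth.Agent.Lib.GrpTopConn45.Z0 G :=
    Groth.Agent.Lib.GrpTopVD45.connectedComponent_unitPt_eq
  rw [hC] at hU ⊢
  have hsub := Groth.Agent.Lib.GrpTopDiv45.Z0_subset_mulSet_inv (G := G) U.isOpen
    (by obtain ⟨z, hz⟩ := hne; exact ⟨z, hU hz, hz⟩)
  have hr := Groth.Agent.Lib.GrpTopDiv45.range_tensorHom_comp_mul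
    (Over.homMk U.ι rfl : Over.mk (U.ι ≫ G.hom) ⟶ G)
    ((Over.homMk U.ι rfl : Over.mk (U.ι ≫ G.hom) ⟶ G) ≫ ι[G])
  refine hsub.trans ?_
  change _ ⊆ Set.range ((((Over.homMk U.ι rfl : Over.mk (U.ι ≫ G.hom) ⟶ G) ⊗ₘ
          ((Over.homMk U.ι rfl : Over.mk (U.ι ≫ G.hom) ⟶ G) ≫ ι[G])) ≫ μ[G]).left)
  rw [hr]
  apply Groth.Agent.Lib.GrpTopPts45.mulSet_mono
  · intro y hy
    exact ⟨⟨y, hy⟩, rfl⟩
  · rintro _ ⟨y, hy, rfl⟩
    exact ⟨⟨y, hy⟩, rfl⟩

end Groth.Agent.S15352
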