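import Groth.Statements.S15353
import Groth.Agent.Lib.NilLift

set_option autoImplicit false
universe u
open CAlg

namespace Groth.Agent.S15353

/-- Let f : A' → A be a surjective ring homomorphism whose kernel is a nilpotent ideal. Then the induced
homomorphism of Picard groups Pic(A') → Pic(A), base change of invertible modules along f, is
bijective. -/
theorem result {A' A : Type u} [CommRing A'] [CommRing A]
    (f : A' →+* A) (hf : Function.Surjective f) (hker : IsNilpotent (RingHom.ker f)) :
    Function.Bijective (CommRing.Pic.mapRingHom f) := by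
  let e : A' ⧸ RingHom.ker f ≃+* A := RingHom.quotientKerEquivOfSurjective hf
  have hfe : f = (e : A' ⧸ RingHom.ker f →+* A).comp (Ideal.Quotient.mk (RingHom.ker f)) := by
    ext x
    simp [e]
  have h1 : Function.Bijective (CommRing.Pic.mapRingHom (Ideal.Quotient.mk (RingHom.ker f))) := by
    have := Groth.Agent.Lib.NilLift.pic_mapAlgebra_quotient_bijective (RingHom.ker f) hker
    rwa [← CommRing.Pic.mapRingHom_algebraMap] at this
  have h2 : Function.Bijective (CommRing.Pic.mapRingHom (e : A' ⧸ RingHom.ker f →+* A)) := by
    rw [Function.bijective_iff_has_inverse]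
    refine ⟨CommRing.Pic.mapRingHom (e.symm : A →+* A' ⧸ RingHom.ker f), ?_, ?_⟩
    · intro M
      have hc : (e.symm : A →+* A' ⧸ RingHom.ker f).comp (e : A' ⧸ RingHom.ker f →+* A) =
          RingHom.id _ := by ext x; simp
      rw [CommRing.Pic.mapRingHom_mapRingHom, hc, CommRing.Pic.mapRingHom_id_apply]
    · intro M
      have hc : (e : A' ⧸ RingHom.ker f →+* A).comp (e.symm : A →+* A' ⧸ RingHom.ker f) =
          RingHom.id _ := by ext x; simp
      rw [CommRing.Pic.mapRingHom_mapRingHom, hc, CommRing.Pic.mapRingHom_id_apply]
  rw [hfe, ← CommRing.Pic.mapRingHom_comp_mapRingHom]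
  exact h2.comp h1

end Groth.Agent.S15353
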