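import Groth.Statements.S15354
import Mathlib

set_option autoImplicit false
universe u
open CategoryTheory CategoryTheory.Limits AlgebraicGeometry
open Mor

namespace Groth.Agent.S15354

/-- Let f : Y ⟶ X be a morphism of schemes, A a valuation ring with fraction field K and residue field
k, and ξ, η : Spec A ⟶ Y two A-points of Y over the same A-point of X. If ξ and η restrict to the
same K-point and to the same k-point of Y, then ξ = η. (The published statement is an equivalence,
for algebraic spaces locally of finite presentation over a Noetherian scheme, between local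
separatedness of f and conditions (a), (b); this row is the necessity of (a) in the case of schemes,
where no hypothesis on f is needed.) -/
theorem result {X Y : Scheme.{u}} (f : Y ⟶ X)
    (A : Type u) [CommRing A] [IsDomain A] [ValuationRing A] (K : Type u) [Field K] [Algebra A K]
    [IsFractionRing A K] (ξ η : Spec (CommRingCat.of A) ⟶ Y) (hf : ξ ≫ f = η ≫ f)
    (hK : Spec.map (CommRingCat.ofHom (algebraMap A K)) ≫ ξ = Spec.map (CommRingCat.ofHom (algebraMap A K)) ≫ η)
    (hk : Spec.map (CommRingCat.ofHom (IsLocalRing.residue A)) ≫ ξ =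
      Spec.map (CommRingCat.ofHom (IsLocalRing.residue A)) ≫ η) :
    ξ = η := by
  classical
  -- the closed point
  let pt : Spec (CommRingCat.of (IsLocalRing.ResidueField A)) := (⊥ : PrimeSpectrum (IsLocalRing.ResidueField A))
  have hcl : ∀ (ζ : Spec (CommRingCat.of A) ⟶ Y),
      (Spec.map (CommRingCat.ofHom (IsLocalRing.residue A)) ≫ ζ).base pt =
        ζ.base (IsLocalRing.closedPoint A) := by
    intro ζ
    have : (Spec.map (CommRingCat.ofHom (IsLocalRing.residue A))).base pt =
        IsLocalRing.closedPoint A :=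
      IsLocalRing.PrimeSpectrum.comap_residue A pt
    rw [Scheme.Hom.comp_base, TopCat.comp_app, this]
  have hpt : ξ.base (IsLocalRing.closedPoint A) = η.base (IsLocalRing.closedPoint A) := by
    rw [← hcl ξ, ← hcl η, hk]
  obtain ⟨V, hV, hyV⟩ : ∃ V : Y.Opens, IsAffineOpen V ∧ ξ.base (IsLocalRing.closedPoint A) ∈ V := by
    obtain ⟨_, ⟨V, hV, rfl⟩, hy, -⟩ :=
      (Y.isBasis_affineOpens).exists_subset_of_mem_open
        (Set.mem_univ (ξ.base (IsLocalRing.closedPoint A))) isOpen_univ
    exact ⟨V, hV, hy⟩
  have htop : ∀ (ζ : Spec (CommRingCat.of A) ⟶ Y), ζ.base (IsLocalRing.closedPoint A) ∈ V →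
      Set.range ζ.base ⊆ Set.range V.ι.base := by
    intro ζ hζ
    have h1 : ζ ⁻¹ᵁ V = ⊤ := (IsLocalRing.closedPoint_mem_iff (ζ ⁻¹ᵁ V)).mp hζ
    rintro _ ⟨x, rfl⟩
    have : x ∈ ζ ⁻¹ᵁ V := by rw [h1]; trivial
    simpa using this
  have : IsAffine V := hV
  have hξ := htop ξ hyV
  have hη := htop η (hpt ▸ hyV)
  rw [← IsOpenImmersion.lift_fac V.ι ξ hξ, ← IsOpenImmersion.lift_fac V.ι η hη]
  congr 1
  apply ext_of_isAffine
  have hK' : Spec.map (CommRingCat.ofHom (algebraMap A K)) ≫ IsOpenImmersion.lift V.ι ξ hξ =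
      Spec.map (CommRingCat.ofHom (algebraMap A K)) ≫ IsOpenImmersion.lift V.ι η hη := by
    rw [← cancel_mono V.ι, Category.assoc, Category.assoc, IsOpenImmersion.lift_fac,
      IsOpenImmersion.lift_fac, hK]
  have h2 := congrArg Scheme.Hom.appTop hK'
  rw [Scheme.Hom.comp_appTop, Scheme.Hom.comp_appTop] at h2
  have hmono : Mono (Spec.map (CommRingCat.ofHom (algebraMap A K))).appTop := by
    have hnat := Scheme.ΓSpecIso_naturality (CommRingCat.ofHom (algebraMap A K))
    have : (Spec.map (CommRingCat.ofHom (algebraMap A K))).appTop =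
        (Scheme.ΓSpecIso _).hom ≫ CommRingCat.ofHom (algebraMap A K) ≫ (Scheme.ΓSpecIso _).inv := by
      rw [← Category.assoc, ← hnat, Category.assoc, Iso.hom_inv_id, Category.comp_id]
    rw [this]
    have : Mono (CommRingCat.ofHom (algebraMap A K)) :=
      ConcreteCategory.mono_of_injective _ (IsFractionRing.injective A K)
    infer_instance
  exact (cancel_mono _).mp h2

end Groth.Agent.S15354
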