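import Groth.Statements.S15355
import Mathlib

set_option autoImplicit false
universe u
open CategoryTheory CategoryTheory.Limits AlgebraicGeometry
open Mor

namespace Groth.Agent.S15355

/-- Let f : Y ⟶ X be a morphism of schemes, A an integral domain and ξ, η : Spec A ⟶ Y two A-points of Y
over the same A-point of X. If ξ and η induce the same κ(p)-point of Y at every point p of some
dense subset of Spec A, then ξ and η agree on a nonempty open subscheme of Spec A. (The published
statement is an equivalence, for algebraic spaces locally of finite presentation over a Noetherian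
scheme, between local separatedness of f and conditions (a), (b); this row is the necessity of (b)
in the case of schemes, where no hypothesis on f is needed.) -/
theorem result {X Y : Scheme.{u}} (f : Y ⟶ X)
    (A : Type u) [CommRing A] [IsDomain A] (ξ η : Spec (CommRingCat.of A) ⟶ Y) (hf : ξ ≫ f = η ≫ f)
    (D : Set ↥(Spec (CommRingCat.of A))) (hD : Dense D)
    (hpt : ∀ p ∈ D, (Spec (CommRingCat.of A)).fromSpecResidueField p ≫ ξ =
      (Spec (CommRingCat.of A)).fromSpecResidueField p ≫ η) :
    ∃ U : (Spec (CommRingCat.of A)).Opens, (U : Set ↥(Spec (CommRingCat.of A))).Nonempty ∧ U.ι ≫ ξ = U.ι ≫ η := by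
  classical
  haveI : Nonempty ↥(Spec (CommRingCat.of A)) := inferInstanceAs (Nonempty (PrimeSpectrum A))
  obtain ⟨p, hp⟩ := hD.nonempty
  have hbase : ∀ q ∈ D, ξ.base q = η.base q := by
    intro q hq
    have h1 := congrArg (fun g => g.base (⊥ : PrimeSpectrum _)) (hpt q hq)
    simp only [Scheme.Hom.comp_base, TopCat.comp_app] at h1
    have h2 : ((Spec (CommRingCat.of A)).fromSpecResidueField q).base (⊥ : PrimeSpectrum _) = q :=
      Scheme.fromSpecResidueField_apply q _
    rwa [h2] at h1
  obtain ⟨V, hV, hyV⟩ : ∃ V : Y.Opens, IsAffineOpen V ∧ ξ.base p ∈ V := by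
    obtain ⟨_, ⟨V, hV, rfl⟩, hy, -⟩ :=
      (Y.isBasis_affineOpens).exists_subset_of_mem_open
        (Set.mem_univ (ξ.base p)) isOpen_univ
    exact ⟨V, hV, hy⟩
  let U : (Spec (CommRingCat.of A)).Opens := ξ ⁻¹ᵁ V ⊓ η ⁻¹ᵁ V
  have hpU : p ∈ U := ⟨hyV, by show η.base p ∈ V; rw [← hbase p hp]; exact hyV⟩
  refine ⟨U, ⟨p, hpU⟩, ?_⟩
  have hξ : Set.range (U.ι ≫ ξ).base ⊆ Set.range V.ι.base := by
    rintro _ ⟨x, rfl⟩
    have : ξ.base x.1 ∈ V := x.2.1
    simpa using this
  have hη : Set.range (U.ι ≫ η).base ⊆ Set.range V.ι.base := by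
    rintro _ ⟨x, rfl⟩
    have : η.base x.1 ∈ V := x.2.2
    simpa using this
  rw [← IsOpenImmersion.lift_fac V.ι (U.ι ≫ ξ) hξ, ← IsOpenImmersion.lift_fac V.ι (U.ι ≫ η) hη]
  congr 1
  have : IsAffine V := hV
  apply ext_of_fromSpecResidueField_eq _ _ (terminal.from _) (U.ι.base ⁻¹' D) ?_ ?_
    (terminal.hom_ext _ _)
  · exact hD.preimage U.ι.isOpenEmbedding.isOpenMap
  · intro x hx
    rw [← cancel_mono V.ι]
    simp only [Category.assoc, IsOpenImmersion.lift_fac]
    rw [← Scheme.Hom.SpecMap_residueFieldMap_fromSpecResidueField_assoc,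
      ← Scheme.Hom.SpecMap_residueFieldMap_fromSpecResidueField_assoc, hpt _ hx]

end Groth.Agent.S15355
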