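import Groth.Statements.S1536
import Groth.Agent.Lib.H0Const13
-- import your own Groth.Agent.* helpers here

set_option autoImplicit false
universe u
open CategoryTheory CategoryTheory.Limits AlgebraicGeometry
open Variety

namespace Groth.Agent.S1536

open AlgebraicGeometry CategoryTheory Groth.Agent.Lib.H4Twist Groth.Agent.Lib.H0Const13

/-- `H^0(X, O_X) ≃ₗ[k] Γ(X, O_X)`. -/
noncomputable def h0LinearEquiv (k : Type u) [Field k] (X : Scheme.{u})
    [X.Over (Spec (CommRingCat.of k))] :
    letI := secAlg k (X ↘ (Spec (CommRingCat.of k)))
    Coh.HH X (Coh.structureModule X) 0 ≃ₗ[k] Γ(X, ⊤) :=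
  letI := secAlg k (X ↘ (Spec (CommRingCat.of k)))
  { toFun := h0Equiv (Coh.structureModule X)
    invFun := (h0Equiv (Coh.structureModule X)).symm
    left_inv := (h0Equiv (Coh.structureModule X)).left_inv
    right_inv := (h0Equiv (Coh.structureModule X)).right_inv
    map_add' := map_add _
    map_smul' := by
      intro r x
      change h0Equiv (Coh.structureModule X)
        (Coh.toGlobal (X ↘ Spec (CommRingCat.of k)) r • x) = _
      rw [h0Equiv_smul]
      rfl }

end Groth.Agent.S1536

namespace Groth.Agent.S1536

/-- For a proper scheme X over a field k which is geometrically reduced and geometrically connected,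
H^0(X, O_X) is one-dimensional over k, i.e. the global functions are the constants. -/
theorem result (k : Type u) [Field k] (X : Scheme.{u}) [X.Over (Spec (CommRingCat.of k))] [IsProper (X ↘ (Spec (CommRingCat.of k)))]
    [GeometricallyReduced (X ↘ (Spec (CommRingCat.of k)))] [GeometricallyConnected (X ↘ (Spec (CommRingCat.of k)))] :
    Module.finrank k (Coh.HH X (Coh.structureModule X) 0) = 1 := by
  letI := Groth.Agent.Lib.H0Const13.secAlg k (X ↘ (Spec (CommRingCat.of k)))
  rw [(h0LinearEquiv k X).finrank_eq]
  exact Groth.Agent.Lib.H0Const13.finrank_appTop_eq_one k (X ↘ (Spec (CommRingCat.of k)))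

end Groth.Agent.S1536
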