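import Groth.Statements.S15362
import Groth.Agent.Lib.H47Lang
import Mathlib.RingTheory.IntegralClosure.IsIntegralClosure.Basic
import Mathlib.RingTheory.Finiteness.Basic

set_option autoImplicit false
universe u v w
open CAlg

namespace Groth.Agent.S15362

/-- For an algebraically closed field L of characteristic p > 0, a commutative L-algebra R integral over
L, and a finitely presented R-module M carrying an additive endomorphism φ with φ(r·m) = r^p·φ(m)
for r ∈ R, m ∈ M, the map m ↦ φ(m) − m is onto. (R is taken of exponential characteristic p so that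
its Frobenius is a ring endomorphism; for a non-zero L-algebra this is automatic.) -/
theorem result (p : ℕ) [Fact p.Prime]
    (L : Type u) [Field L] [IsAlgClosed L] [CharP L p]
    (R : Type v) [CommRing R] [Algebra L R] [Algebra.IsIntegral L R] [ExpChar R p]
    (M : Type w) [AddCommGroup M] [Module R M] [Module.FinitePresentation R M]
    (φ : M →ₛₗ[frobenius R p] M) :
    Function.Surjective fun m : M => φ m - m := by
  classical
  intro m₀
  obtain ⟨r, e, he⟩ := Module.Finite.exists_fin (R := R) (M := M)
  have hrep : ∀ m : M, ∃ c : Fin r → R, m = ∑ j, c j • e j := by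
    intro m
    have hm : m ∈ Submodule.span R (Set.range e) := he ▸ Submodule.mem_top
    rw [Submodule.mem_span_range_iff_exists_fun] at hm
    obtain ⟨c, hc⟩ := hm
    exact ⟨c, hc.symm⟩
  choose a ha using fun i => hrep (φ (e i))
  obtain ⟨b, hb⟩ := hrep m₀
  let S : Set R := Set.range (fun ij : Fin r × Fin r => a ij.1 ij.2) ∪ Set.range b
  have hSfin : S.Finite := (Set.finite_range _).union (Set.finite_range _)
  let R₀ : Subalgebra L R := Algebra.adjoin L S
  have hfin : Module.Finite L R₀ := by
    have := fg_adjoin_of_finite hSfin (fun x _ => Algebra.IsIntegral.isIntegral (R := L) x)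
    exact Module.Finite.iff_fg.mpr this
  let a' : Fin r → Fin r → R₀ := fun i j => ⟨a i j, Algebra.subset_adjoin (Or.inl ⟨(i, j), rfl⟩)⟩
  let b' : Fin r → R₀ := fun j => ⟨b j, Algebra.subset_adjoin (Or.inr ⟨j, rfl⟩)⟩
  have hadd : ∀ x y : R₀, (x + y) ^ p = x ^ p + y ^ p := fun x y =>
    Subtype.ext (by push_cast; exact add_pow_expChar _ _ _)
  let F : (Fin r → R₀) →ₛₗ[frobenius L p] (Fin r → R₀) :=
    { toFun := fun x j => ∑ i, (x i) ^ p * a' i j
      map_add' := fun x y => by
        funext j
        simp only [Pi.add_apply, hadd, add_mul, Finset.sum_add_distrib]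
      map_smul' := fun c x => by
        funext j
        simp only [Pi.smul_apply, smul_pow, frobenius_def, Finset.smul_sum, smul_mul_assoc] }
  obtain ⟨x, hx⟩ := Groth.Agent.Lib.H47Lang.lang p F b'
  refine ⟨∑ i, (x i : R) • e i, ?_⟩
  have hxj : ∀ j, (∑ i, (x i : R) ^ p * a i j) - (x j : R) = b j := by
    intro j
    have := congrArg (fun y : Fin r → R₀ => ((y j : R₀) : R)) hx
    simpa [F, a', b'] using this
  have h1 : φ (∑ i, (x i : R) • e i) = ∑ j, (∑ i, (x i : R) ^ p * a i j) • e j := by
    rw [map_sum]
    simp_rw [LinearMap.map_smulₛₗ, frobenius_def]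
    conv_lhs =>
      enter [2, i]
      rw [ha i, Finset.smul_sum]
    rw [Finset.sum_comm]
    apply Finset.sum_congr rfl
    intro j _
    rw [Finset.sum_smul]
    apply Finset.sum_congr rfl
    intro i _
    rw [smul_smul]
  change φ (∑ i, (x i : R) • e i) - ∑ i, (x i : R) • e i = m₀
  rw [h1, ← Finset.sum_sub_distrib, hb]
  apply Finset.sum_congr rfl
  intro j _
  rw [← sub_smul, hxj j]

end Groth.Agent.S15362
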