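import Groth.Statements.S15363
import Mathlib.RingTheory.Flat.TorsionFree

set_option autoImplicit false
universe u
open CategoryTheory AlgebraicGeometry
open SekSuwa

namespace Groth.Agent.S15363

theorem alg_lemma (R : Type u) [CommRing R] (lam : R) (N : ℕ) (h : SekSuwa.DivCond lam N)
    (B : Type u) [CommRing B] [Algebra R B] [Module.Flat R B]
    (a b : SekSuwa.AK R lam N h →ₐ[R] B)
    (hab : ∀ z, a (SekSuwa.alphaNHom R lam N h z) = b (SekSuwa.alphaNHom R lam N h z)) : a = b := by
  have hreg : IsSMulRegular B lam := Module.Flat.isSMulRegular_of_nonZeroDivisors h.1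
  have hu : a (1 + lam • SekSuwa.AK.t) = b (1 + lam • SekSuwa.AK.t) := by
    rw [← SekSuwa.alphaNHom_single_one]
    exact hab _
  have ht : a SekSuwa.AK.t = b SekSuwa.AK.t := by
    apply hreg
    simp only [map_add, map_one, map_smul] at hu
    exact add_left_cancel hu
  apply SekSuwa.AK.algHom_ext ht
  -- inverses
  have hinv : (1 + lam • SekSuwa.AK.t : SekSuwa.AK R lam N h) * SekSuwa.AK.inv = 1 := by
    have := congrArg (SekSuwa.AK.mkHom R lam N h) (SekSuwa.A.u_mul_inv (R := R) (lam := lam))
    rw [map_mul, map_one, SekSuwa.AK.mkHom_u] at this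
    exact this
  have h1 : a (1 + lam • SekSuwa.AK.t) * a SekSuwa.AK.inv = 1 := by rw [← map_mul, hinv, map_one]
  have h2 : b (1 + lam • SekSuwa.AK.t) * b SekSuwa.AK.inv = 1 := by rw [← map_mul, hinv, map_one]
  calc a SekSuwa.AK.inv = a SekSuwa.AK.inv * (b (1 + lam • SekSuwa.AK.t) * b SekSuwa.AK.inv) := by
        rw [h2, mul_one]
    _ = (a (1 + lam • SekSuwa.AK.t) * a SekSuwa.AK.inv) * b SekSuwa.AK.inv := by rw [← hu]; ring
    _ = b SekSuwa.AK.inv := by rw [h1, one_mul]


/-- Let R be an integral domain, p a prime and λ ∈ R a non-zero element with λ^p dividing (1 + λX)^p −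
1, so that the congruence group scheme G_λ = Spec R[T]/(P_λ(T)) of level λ and its homomorphism θ_λ
: G_λ → μ_p, X ↦ 1 + λT, are defined. For every scheme G flat over Spec R, composition with θ_λ is
injective on R-morphisms G → G_λ; in particular θ_λ induces an injective map from the homomorphisms
G → G_λ of a flat R-group scheme G to its homomorphisms G → μ_p. (The published statement is over
the ring of integers of an algebraic closure of a complete discretely valued field of mixed
characteristic, for finite flat commutative group schemes killed by p; the published argument, that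
θ_λ is an isomorphism on the generic fibre and G is flat, gives the form stated here.) -/
theorem result (R : Type u) [CommRing R] [IsDomain R]
    (p : ℕ) [Fact p.Prime] (lam : R) (h : SekSuwa.DivCond lam p)
    (G : Over (Spec (CommRingCat.of R))) [Flat G.hom]
    (f g : G ⟶ SekSuwa.GK R lam p h)
    (hfg : f ≫ SekSuwa.alphaN R lam p h = g ≫ SekSuwa.alphaN R lam p h) : f = g := by
  apply Over.OverMorphism.ext
  apply G.left.affineOpenCover.openCover.hom_ext
  intro i
  change G.left.affineOpenCover.f i ≫ f.left = G.left.affineOpenCover.f i ≫ g.left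
  set B : CommRingCat.{u} := G.left.affineOpenCover.X i with hB
  set j : Spec B ⟶ G.left := G.left.affineOpenCover.f i with hj
  have : IsOpenImmersion j := G.left.affineOpenCover.map_prop i
  let fl : G.left ⟶ Spec (CommRingCat.of (SekSuwa.AK R lam p h)) := f.left
  let gl : G.left ⟶ Spec (CommRingCat.of (SekSuwa.AK R lam p h)) := g.left
  have hfl : fl ≫ Spec.map (CommRingCat.ofHom (algebraMap R (SekSuwa.AK R lam p h))) = G.hom := Over.w f
  have hgl : gl ≫ Spec.map (CommRingCat.ofHom (algebraMap R (SekSuwa.AK R lam p h))) = G.hom := Over.w g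
  change j ≫ fl = j ≫ gl
  let ψ : CommRingCat.of R ⟶ B := Spec.preimage (j ≫ G.hom)
  have hψ : Spec.map ψ = j ≫ G.hom := Spec.map_preimage _
  have hflat : ψ.hom.Flat := by
    have : Flat (j ≫ G.hom) := inferInstance
    rw [← hψ] at this
    exact (HasRingHomProperty.Spec_iff (P := @Flat)).mp this
  let af : CommRingCat.of (SekSuwa.AK R lam p h) ⟶ B := Spec.preimage (j ≫ fl)
  let ag : CommRingCat.of (SekSuwa.AK R lam p h) ⟶ B := Spec.preimage (j ≫ gl)
  have haf : Spec.map af = j ≫ fl := Spec.map_preimage _
  have hag : Spec.map ag = j ≫ gl := Spec.map_preimage _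
  have h1 : CommRingCat.ofHom (algebraMap R (SekSuwa.AK R lam p h)) ≫ af = ψ := by
    apply Spec.map_injective
    rw [Spec.map_comp, haf, hψ, Category.assoc, hfl]
  have h2 : CommRingCat.ofHom (algebraMap R (SekSuwa.AK R lam p h)) ≫ ag = ψ := by
    apply Spec.map_injective
    rw [Spec.map_comp, hag, hψ, Category.assoc, hgl]
  have h3 : CommRingCat.ofHom ((SekSuwa.alphaNHom R lam p h : MonoidAlgebra R (Multiplicative (ZMod p)) →+* SekSuwa.AK R lam p h)) ≫ af =
      CommRingCat.ofHom ((SekSuwa.alphaNHom R lam p h : MonoidAlgebra R (Multiplicative (ZMod p)) →+* SekSuwa.AK R lam p h)) ≫ ag := by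
    apply Spec.map_injective
    rw [Spec.map_comp, Spec.map_comp, haf, hag, Category.assoc, Category.assoc]
    have hα : fl ≫ Spec.map (CommRingCat.ofHom ((SekSuwa.alphaNHom R lam p h : MonoidAlgebra R (Multiplicative (ZMod p)) →+* SekSuwa.AK R lam p h))) =
        gl ≫ Spec.map (CommRingCat.ofHom ((SekSuwa.alphaNHom R lam p h : MonoidAlgebra R (Multiplicative (ZMod p)) →+* SekSuwa.AK R lam p h))) :=
      congrArg (fun q => q.left) hfg
    rw [hα]
  let _ : Algebra R B := ψ.hom.toAlgebra
  have : Module.Flat R B := hflat
  let a : SekSuwa.AK R lam p h →ₐ[R] B :=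
    { af.hom with
      commutes' := fun r => by
        have := congrArg (fun q => q.hom r) h1
        exact this }
  let b : SekSuwa.AK R lam p h →ₐ[R] B :=
    { ag.hom with
      commutes' := fun r => by
        have := congrArg (fun q => q.hom r) h2
        exact this }
  have hab : a = b := by
    apply alg_lemma R lam p h B a b
    intro z
    have := congrArg (fun q => q.hom z) h3
    exact this
  have hafg : af = ag := by
    ext x
    exact congrArg (fun q => q x) hab
  rw [← haf, ← hag, hafg]

end Groth.Agent.S15363
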