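import Groth.Statements.S15365
import Mathlib.RingTheory.Smooth.StandardSmoothCotangent
import Mathlib.RingTheory.Smooth.StandardSmoothOfFree
import Mathlib.RingTheory.Extension.Cotangent.Free

set_option autoImplicit false
universe u
open scoped BigOperators
open CAlg

namespace Groth.Agent.S15365

section
variable (p : ℕ) [Fact p.Prime] (A : Type u) [CommRing A] [CharP A p] (n : ℕ)
  (h : Matrix (Fin n) (Fin n) A)

/-- the relations -/
noncomputable def rel (j : Fin n) : MvPolynomial (Fin n) A :=
  (MvPolynomial.X j : MvPolynomial (Fin n) A) ^ p - ∑ i : Fin n, MvPolynomial.C (h i j) * MvPolynomial.X i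

abbrev BB : Type u := MvPolynomial (Fin n) A ⧸ Ideal.span (Set.range (rel p A n h))

theorem pderiv_rel (k j : Fin n) :
    MvPolynomial.pderiv k (rel p A n h j) = - MvPolynomial.C (h k j) := by
  classical
  have hp : ((p : ℕ) : MvPolynomial (Fin n) A) = 0 := CharP.cast_eq_zero _ p
  unfold rel
  rw [map_sub, map_sum]
  have h1 : MvPolynomial.pderiv k ((MvPolynomial.X j : MvPolynomial (Fin n) A) ^ p) = 0 := by
    rw [MvPolynomial.pderiv_pow, hp]
    simp
  rw [h1, zero_sub]
  congr 1
  have : ∀ i : Fin n, MvPolynomial.pderiv k (MvPolynomial.C (h i j) * MvPolynomial.X i) =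
      if i = k then MvPolynomial.C (h i j) else 0 := by
    intro i
    rw [MvPolynomial.pderiv_C_mul, MvPolynomial.pderiv_X]
    by_cases hik : i = k
    · subst hik; simp
    · simp [hik, Pi.single_apply, Ne.symm hik]
  simp_rw [this]
  simp

/-- the presentation -/
noncomputable def PP : Algebra.PreSubmersivePresentation A (BB p A n h) (Fin n) (Fin n) :=
  Algebra.PreSubmersivePresentation.naive (v := rel p A n h) id Function.injective_id

theorem jacobiMatrix_PP : (PP p A n h).jacobiMatrix = - h.map MvPolynomial.C := by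
  ext i j
  rw [PP, Algebra.PreSubmersivePresentation.jacobiMatrix_naive]
  simp [pderiv_rel]

theorem jacobian_PP : (PP p A n h).jacobian = algebraMap A (BB p A n h) ((-h).det) := by
  rw [Algebra.PreSubmersivePresentation.jacobian_eq_jacobiMatrix_det, jacobiMatrix_PP]
  rw [show (- h.map MvPolynomial.C : Matrix (Fin n) (Fin n) (MvPolynomial (Fin n) A)) =
    (MvPolynomial.C : A →+* MvPolynomial (Fin n) A).mapMatrix (-h) by
      ext i j; simp]
  rw [← RingHom.map_det]
  rfl

end

section
variable (p : ℕ) [Fact p.Prime] (A : Type u) [CommRing A] [CharP A p] (n : ℕ)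
  (h : Matrix (Fin n) (Fin n) A)

theorem etale_of_isUnit (hh : IsUnit h.det) : Algebra.Etale A (BB p A n h) := by
  have hunit : IsUnit (PP p A n h).jacobian := by
    rw [jacobian_PP, Matrix.det_neg]
    exact (((isUnit_one.neg).pow _).mul hh).map _
  let P' : Algebra.SubmersivePresentation A (BB p A n h) (Fin n) (Fin n) := ⟨PP p A n h, hunit⟩
  have : Algebra.IsStandardSmoothOfRelativeDimension 0 A (BB p A n h) :=
    P'.isStandardSmoothOfRelativeDimension (by simp [Algebra.Presentation.dimension])
  infer_instance

/-- the retraction `X ↦ 0`. -/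
noncomputable def retr : BB p A n h →ₐ[A] A :=
  Ideal.Quotient.liftₐ (Ideal.span (Set.range (rel p A n h)))
    (MvPolynomial.aeval (fun _ : Fin n => (0 : A)) : MvPolynomial (Fin n) A →ₐ[A] A) (by
    intro a ha
    have hle : Ideal.span (Set.range (rel p A n h)) ≤
        RingHom.ker (MvPolynomial.aeval (fun _ : Fin n => (0 : A)) : MvPolynomial (Fin n) A →ₐ[A] A) := by
      rw [Ideal.span_le]
      rintro _ ⟨j, rfl⟩
      have hp0 : p ≠ 0 := (Fact.out : p.Prime).ne_zero
      simp [rel, hp0]
    exact hle ha)

theorem isUnit_of_jacobian (hJ : IsUnit (PP p A n h).jacobian) : IsUnit h.det := by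
  rw [jacobian_PP] at hJ
  have h1 := hJ.map (retr p A n h)
  rw [AlgHom.commutes, Matrix.det_neg] at h1
  exact (IsUnit.mul_iff.mp h1).2

end

section
variable (p : ℕ) [Fact p.Prime] (A : Type u) [CommRing A] [CharP A p] (n : ℕ)
  (h : Matrix (Fin n) (Fin n) A)

theorem aux_sum {B : Type*} [CommRing B] [Algebra A B] (a r : Fin n → MvPolynomial (Fin n) A)
    (f : MvPolynomial (Fin n) A →ₐ[A] B) (hr : ∀ j, f (r j) = 0) (k : Fin n) :
    f (MvPolynomial.pderiv k (∑ i, a i * r i)) = ∑ i, f (a i) * f (MvPolynomial.pderiv k (r i)) := by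
  rw [map_sum, map_sum]
  apply Finset.sum_congr rfl
  intro i _
  rw [Derivation.leibniz, map_add, smul_eq_mul, smul_eq_mul, map_mul, map_mul, hr i, zero_mul, add_zero]

open KaehlerDifferential in
theorem isUnit_jacobian_of_etale [Algebra.Etale A (BB p A n h)] : IsUnit (PP p A n h).jacobian := by
  classical
  set P := PP p A n h with hP
  rw [Algebra.PreSubmersivePresentation.isUnit_jacobian_iff_aevalDifferential_bijective]
  apply OrzechProperty.bijective_of_surjective_endomorphism
  intro y
  have hu : Function.Injective (id : Fin n → Fin n) := Function.injective_id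
  have hbij : Function.Bijective (P.toGenerators.cotangentRestrict hu) := by
    have h1 : Subsingleton (Ω[BB p A n h⁄A]) := inferInstance
    have h2 : Subsingleton (Algebra.H1Cotangent A (BB p A n h)) := inferInstance
    refine Algebra.Generators.cotangentRestrict_bijective_of_basis_kaehlerDifferential
      (κ := Empty) (v := Empty.elim) P.toGenerators hu ?_ (Module.Basis.empty _) (fun k => k.elim)
    rw [Set.range_eq_empty, Set.range_id]
    exact isCompl_bot_top
  obtain ⟨c, hc⟩ := hbij.2 (Finsupp.equivFunOnFinite.symm y)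
  obtain ⟨x, rfl⟩ := Algebra.Extension.Cotangent.mk_surjective c
  have hx : x.1 ∈ Ideal.span (Set.range P.relation) := by
    rw [P.span_range_relation_eq_ker]; exact x.2
  obtain ⟨a, ha⟩ := (Ideal.mem_span_range_iff_exists_fun).mp hx
  refine ⟨fun j => MvPolynomial.aeval P.val (a j), ?_⟩
  have hk : ∀ k, MvPolynomial.aeval P.val (MvPolynomial.pderiv k x.1) = y k := by
    intro k
    have h3 := DFunLike.congr_fun hc k
    have h4 := congrFun (Algebra.Generators.cotangentRestrict_mk P.toGenerators hu x) k
    exact h4.symm.trans h3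
  funext k
  rw [← hk k, ← ha]
  have h5 := aux_sum A n a P.relation (MvPolynomial.aeval P.val) (fun j => P.aeval_val_relation j) k
  refine Eq.trans ?_ h5.symm
  simp only [Algebra.PreSubmersivePresentation.aevalDifferential, Module.Basis.constr_apply_fintype,
    Pi.basisFun_equivFun, LinearEquiv.refl_apply, Finset.sum_apply, Pi.smul_apply, smul_eq_mul]
  rfl

end


/-- Let A be a commutative ring of characteristic p > 0 and (h_{ij})_{1 ≤ i,j ≤ n} a square matrix over
A, the matrix of a commutative p-Lie algebra (L, φ) with L free with basis e_1, …, e_n and φ(e_j) =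
Σ_i h_{ij} e_i. The associated finite group scheme Spec A[X_1, …, X_n]/(X_j^p − Σ_i h_{ij} X_i)_{1 ≤
j ≤ n} is étale over A if and only if the matrix (h_{ij}) is invertible, i.e. its determinant is a
unit of A. Only the algebra structure enters this assertion. -/
theorem result (p : ℕ) [Fact p.Prime]
    (A : Type u) [CommRing A] [CharP A p] (n : ℕ) (h : Matrix (Fin n) (Fin n) A) :
    Algebra.Etale A (MvPolynomial (Fin n) A ⧸ Ideal.span (Set.range fun j : Fin n =>
        (MvPolynomial.X j : MvPolynomial (Fin n) A) ^ p -
          ∑ i : Fin n, MvPolynomial.C (h i j) * MvPolynomial.X i)) ↔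
      IsUnit h.det := by
  constructor
  · intro he
    have : Algebra.Etale A (BB p A n h) := he
    exact isUnit_of_jacobian p A n h (isUnit_jacobian_of_etale p A n h)
  · intro hh
    exact etale_of_isUnit p A n h hh

end Groth.Agent.S15365
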