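import Groth.Statements.S15366
import Mathlib
import Groth.Agent.Lib.DblPt97d
-- import your own Groth.Agent.* helpers here

set_option autoImplicit false
universe u
open CAlg

namespace Groth.Agent.S15366

open Groth.Agent.Lib.DblPt97 Groth.Agent.Lib.Node97 Groth.Agent.Lib.ArSing97

section Aux
variable (k : Type u) [Field k]

/-- the coefficient field -/
abbrev LL : Type u := AlgebraicClosure (FractionRing (PowerSeries k))

/-- `k[[t]] → L` -/
noncomputable def iota : PowerSeries k →+* LL k :=
  (algebraMap (FractionRing (PowerSeries k)) (LL k)).comp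
    (algebraMap (PowerSeries k) (FractionRing (PowerSeries k)))

theorem iota_injective : Function.Injective (iota k) := by
  unfold iota
  rw [RingHom.coe_comp]
  exact (algebraMap (FractionRing (PowerSeries k)) (LL k)).injective.comp
    (IsFractionRing.injective (PowerSeries k) (FractionRing (PowerSeries k)))

/-- `k[[t₁,t₂]] → L[[T]]`, `t₁ ↦ T` -/
noncomputable def rho : MvPowerSeries (Fin 2) k →+* PowerSeries (LL k) :=
  (PowerSeries.map (iota k)).comp
    (((e₁ k : MvPowerSeries (Fin 2) k ≃ₐ[k] PowerSeries (PowerSeries k)) :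
        MvPowerSeries (Fin 2) k →+* PowerSeries (PowerSeries k)).comp
      ((autSwap (k := k) : MvPowerSeries (Fin 2) k ≃ₐ[k] MvPowerSeries (Fin 2) k) :
        MvPowerSeries (Fin 2) k →+* MvPowerSeries (Fin 2) k))

theorem rho_apply (f : MvPowerSeries (Fin 2) k) :
    rho k f = PowerSeries.map (iota k) (e₁ k (autSwap f)) := rfl

theorem rho_X0 : rho k (MvPowerSeries.X 0) = PowerSeries.X := by
  rw [rho_apply, autSwap_X0, e₁_X1, PowerSeries.map_X]

theorem rho_injective : Function.Injective (rho k) := by
  intro f g h
  rw [rho_apply, rho_apply] at h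
  exact (autSwap (k := k)).injective ((e₁ k).injective
    (PowerSeries.map_injective (iota k) (iota_injective k) h))

theorem constantCoeff_rho (f : MvPowerSeries (Fin 2) k) :
    PowerSeries.constantCoeff (rho k f) = iota k (px k (autSwap f)) := by
  rw [rho_apply, ← PowerSeries.coeff_zero_eq_constantCoeff_apply, PowerSeries.coeff_map,
    PowerSeries.coeff_zero_eq_constantCoeff_apply, px_apply]

theorem isUnit_rho_iff (f : MvPowerSeries (Fin 2) k) :
    IsUnit (rho k f) ↔ ¬ (MvPowerSeries.X 0 : MvPowerSeries (Fin 2) k) ∣ f := by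
  rw [PowerSeries.isUnit_iff_constantCoeff, isUnit_iff_ne_zero, constantCoeff_rho]
  constructor
  · rintro h ⟨q, rfl⟩
    apply h
    rw [map_mul, autSwap_X0, map_mul, px_X1, zero_mul, map_zero]
  · intro h h0
    apply h
    have h1 : px k (autSwap f) = 0 := by
      apply iota_injective k
      rw [h0, map_zero]
    obtain ⟨q, hq⟩ := X1_dvd_of_px _ h1
    refine ⟨(autSwap (k := k)).symm q, ?_⟩
    apply (autSwap (k := k)).injective
    rw [hq, map_mul, autSwap_X0, AlgEquiv.apply_symm_apply]

end Aux

/-- Let k be an algebraically closed field of characteristic p > 0, R = k[[t₁, t₂]], and O = R_{(t₁)}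
the local ring of Spec R at the generic point x of the divisor t₁ = 0 (a discrete valuation ring,
with uniformizer t₁ and residue field k((t₂))). Then O embeds, by an injective local k-algebra map
φ, into some complete discrete valuation ring A containing k whose residue field is algebraically
closed and in which φ(t₁) is still a uniformizer. The prime ideal (t₁) is passed as an ideal P equal
to it together with its primality. -/
theorem result
    (p : ℕ) [Fact p.Prime] (k : Type u) [Field k] [IsAlgClosed k] [CharP k p]
    (P : Ideal (MvPowerSeries (Fin 2) k))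
    (hP : P = Ideal.span {(MvPowerSeries.X 0 : MvPowerSeries (Fin 2) k)}) [P.IsPrime] :
    ∃ (A : Type u) (_ : CommRing A) (_ : IsDomain A) (_ : IsDiscreteValuationRing A) (_ : Algebra k A)
      (φ : Localization.AtPrime P →ₐ[k] A),
      IsAdicComplete (IsLocalRing.maximalIdeal A) A ∧ IsAlgClosed (IsLocalRing.ResidueField A) ∧
        Function.Injective φ ∧ IsLocalHom φ.toRingHom ∧
          Irreducible (φ (algebraMap (MvPowerSeries (Fin 2) k) (Localization.AtPrime P)
            (MvPowerSeries.X 0))) := by
  classical
  letI alg : Algebra k (PowerSeries (LL k)) :=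
    ((rho k).comp (algebraMap k (MvPowerSeries (Fin 2) k))).toAlgebra
  have hmemP : ∀ f : MvPowerSeries (Fin 2) k, f ∈ P ↔
      (MvPowerSeries.X 0 : MvPowerSeries (Fin 2) k) ∣ f := by
    intro f; rw [hP, Ideal.mem_span_singleton]
  have hunit : ∀ y : P.primeCompl, IsUnit (rho k (y : MvPowerSeries (Fin 2) k)) := by
    intro y
    rw [isUnit_rho_iff]
    intro hdvd
    exact y.2 ((hmemP _).mpr hdvd)
  let φ₀ : Localization.AtPrime P →+* PowerSeries (LL k) :=
    IsLocalization.lift (M := P.primeCompl) (g := rho k) hunit
  have hφ₀ : ∀ f : MvPowerSeries (Fin 2) k,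
      φ₀ (algebraMap (MvPowerSeries (Fin 2) k) (Localization.AtPrime P) f) = rho k f :=
    fun f => IsLocalization.lift_eq hunit f
  let φ : Localization.AtPrime P →ₐ[k] PowerSeries (LL k) :=
    { φ₀ with
      commutes' := fun c => by
        show φ₀ (algebraMap k (Localization.AtPrime P) c) = _
        rw [IsScalarTower.algebraMap_apply k (MvPowerSeries (Fin 2) k) (Localization.AtPrime P), hφ₀]
        rfl }
  have hφ : ∀ z, φ z = φ₀ z := fun z => rfl
  refine ⟨PowerSeries (LL k), inferInstance, inferInstance, inferInstance, alg, φ, ?_, ?_, ?_, ?_, ?_⟩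
  · rw [PowerSeries.maximalIdeal_eq_span_X]
    infer_instance
  · exact IsAlgClosed.of_ringEquiv _ _ (PowerSeries.residueFieldOfPowerSeries (k := LL k)).symm
  · intro z w hzw
    rw [hφ, hφ] at hzw
    exact (IsLocalization.lift_injective_iff hunit).mpr (fun x y => by
      constructor
      · intro h; rw [← hφ₀, ← hφ₀, h]
      · intro h; rw [rho_injective k h]) hzw
  · constructor
    intro z hz
    obtain ⟨⟨f, s⟩, rfl⟩ := IsLocalization.mk'_surjective P.primeCompl z
    rw [IsLocalization.AtPrime.isUnit_mk'_iff (Localization.AtPrime P) P]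
    have h1 : φ₀ (IsLocalization.mk' (Localization.AtPrime P) f s) * rho k (s : MvPowerSeries (Fin 2) k)
        = rho k f := by
      rw [← hφ₀, ← hφ₀, ← map_mul, IsLocalization.mk'_spec]
    have h2 : IsUnit (rho k f) := by
      rw [← h1]
      exact IsUnit.mul hz (hunit s)
    rw [isUnit_rho_iff] at h2
    intro hfP
    exact h2 ((hmemP _).mp hfP)
  · rw [hφ, hφ₀, rho_X0]
    exact (PowerSeries.X_prime (R := LL k)).irreducible

end Groth.Agent.S15366
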