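import Groth.Statements.S15367
import Groth.Agent.S15368
import Mathlib.Algebra.Module.PID
import Mathlib.RingTheory.LocalRing.Module
import Mathlib.LinearAlgebra.FreeModule.PID
import Mathlib.LinearAlgebra.Dimension.Constructions

set_option autoImplicit false
universe u v
open TensorProduct
open CAlg

namespace Groth.Agent.S15367

universe w

section
variable (R : Type u) [CommRing R] [IsDomain R] [IsDiscreteValuationRing R]

local notation "𝕜" => IsLocalRing.ResidueField R

/-- number of generators -/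
noncomputable def dd (M : Type v) [AddCommGroup M] [Module R M] : ℕ :=
  Module.finrank 𝕜 (𝕜 ⊗[R] M)

variable {R}

theorem dd_le_of_surjective {A : Type v} {B : Type w} [AddCommGroup A] [Module R A] [AddCommGroup B] [Module R B]
    [Module.Finite R A] (g : A →ₗ[R] B) (hg : Function.Surjective g) : dd R B ≤ dd R A := by
  have h1 : Function.Surjective (g.baseChange 𝕜) := by
    rw [LinearMap.baseChange_eq_ltensor]
    exact LinearMap.lTensor_surjective 𝕜 hg
  exact LinearMap.finrank_le_finrank_of_surjective h1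

theorem dd_le_of_injective {A : Type v} {B : Type w} [AddCommGroup A] [Module R A] [AddCommGroup B] [Module R B]
    [Module.Finite R B] (g : A →ₗ[R] B) (hg : Function.Injective g) : dd R A ≤ dd R B := by
  let e : A ≃ₗ[R] LinearMap.range g := LinearEquiv.ofInjective g hg
  have h1 : dd R A ≤ dd R (LinearMap.range g) :=
    dd_le_of_surjective e.symm.toLinearMap e.symm.surjective
  exact h1.trans (Groth.Agent.S15368.aux R B (LinearMap.range g))

theorem exists_gens (M : Type v) [AddCommGroup M] [Module R M] [Module.Finite R M] :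
    ∃ f : Fin (dd R M) → M, Submodule.span R (Set.range f) = ⊤ := by
  classical
  let b : Module.Basis (Fin (dd R M)) 𝕜 (𝕜 ⊗[R] M) := Module.finBasis 𝕜 (𝕜 ⊗[R] M)
  have hsurj : Function.Surjective (TensorProduct.mk R 𝕜 M 1) :=
    TensorProduct.mk_surjective R M 𝕜 Ideal.Quotient.mk_surjective
  choose f hf using fun i => hsurj (b i)
  exact ⟨f, IsLocalRing.span_eq_top_of_tmul_eq_basis f b hf⟩

theorem dd_pi_le (Q : Type w) [AddCommGroup Q] [Module R Q] (g : R →ₗ[R] Q) (hg : Function.Surjective g)
    (e : ℕ) : dd R (Fin e → Q) ≤ e := by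
  have h1 : dd R (Fin e → Q) ≤ dd R (Fin e → R) :=
    dd_le_of_surjective (g.compLeft (Fin e)) (fun y => ⟨fun i => (hg (y i)).choose, by
      funext i; exact (hg (y i)).choose_spec⟩)
  refine h1.trans ?_
  unfold dd
  rw [Module.finrank_baseChange]
  simp

end

section
variable {R : Type u} [CommRing R] [IsDomain R] [IsDiscreteValuationRing R]
open DirectSum

/-- `R/(a) → R/(b)`, `x ↦ c x` where `b = a c`, is injective. -/
theorem exists_injective_quot (a b c : R) (hb : b = a * c) (hc : c ≠ 0) :
    ∃ ψ : (R ⧸ Submodule.span R {a}) →ₗ[R] (R ⧸ Ideal.span {b}), Function.Injective ψ := by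
  let ψ : (R ⧸ Submodule.span R {a}) →ₗ[R] (R ⧸ Ideal.span {b}) :=
    Submodule.liftQ (Submodule.span R {a}) ((Submodule.mkQ (Ideal.span {b})).comp (LinearMap.mulLeft R c)) (by
      rw [Submodule.span_le]
      rintro x hx
      rw [Set.mem_singleton_iff] at hx
      subst hx
      simp only [SetLike.mem_coe, LinearMap.mem_ker, LinearMap.coe_comp, Function.comp_apply,
        LinearMap.mulLeft_apply, Submodule.mkQ_apply, Submodule.Quotient.mk_eq_zero]
      rw [hb, mul_comm]
      exact Ideal.mem_span_singleton_self _)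
  refine ⟨ψ, ?_⟩
  rw [← LinearMap.ker_eq_bot, Submodule.eq_bot_iff]
  intro x hx
  obtain ⟨x, rfl⟩ := Submodule.Quotient.mk_surjective _ x
  rw [LinearMap.mem_ker] at hx
  simp only [ψ, Submodule.liftQ_apply, LinearMap.coe_comp, Function.comp_apply,
    LinearMap.mulLeft_apply, Submodule.mkQ_apply, Submodule.Quotient.mk_eq_zero] at hx
  rw [Submodule.Quotient.mk_eq_zero, Submodule.mem_span_singleton]
  obtain ⟨y, hy⟩ := Ideal.mem_span_singleton'.mp hx
  refine ⟨y, ?_⟩
  have : c * (y * a) = c * x := by rw [← hy, hb]; ring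
  exact mul_left_cancel₀ hc this

theorem exists_separating (ϖ : R) (hϖ : Irreducible ϖ) (n : ℕ)
    (M : Type v) [AddCommGroup M] [Module R M] [Module.Finite R M] (hM : ∀ m : M, ϖ ^ n • m = 0)
    (m : M) (hm : m ≠ 0) : ∃ φ : M →ₗ[R] (R ⧸ Ideal.span {ϖ ^ n}), φ m ≠ 0 := by
  classical
  have hpn : ϖ ^ n ≠ 0 := pow_ne_zero _ hϖ.ne_zero
  have htors : Module.IsTorsion R M := fun {x} =>
    ⟨⟨ϖ ^ n, mem_nonZeroDivisors_of_ne_zero hpn⟩, hM x⟩
  obtain ⟨ι, _, p, hp, e, ⟨E⟩⟩ := Module.equiv_directSum_of_isTorsion htors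
  have hEm : E m ≠ 0 := fun h => hm (E.map_eq_zero_iff.mp h)
  obtain ⟨i, hi⟩ : ∃ i, (E m) i ≠ 0 := by
    by_contra hcon
    push Not at hcon
    exact hEm (DFinsupp.ext hcon)
  -- `ϖ ^ n ∈ (p i ^ e i)`
  have hmem : ϖ ^ n ∈ Submodule.span R {p i ^ e i} := by
    have h1 := hM (E.symm (DirectSum.lof R ι (fun i => R ⧸ Submodule.span R {p i ^ e i}) i
      (Submodule.Quotient.mk 1)))
    rw [← map_smul, E.symm.map_eq_zero_iff] at h1
    have h2 := congrArg (DirectSum.component R ι (fun i => R ⧸ Submodule.span R {p i ^ e i}) i) h1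
    rw [map_smul, DirectSum.component.lof_self, map_zero] at h2
    rw [← Submodule.Quotient.mk_smul, smul_eq_mul, mul_one] at h2
    exact (Submodule.Quotient.mk_eq_zero _).mp h2
  obtain ⟨c, hc⟩ := Submodule.mem_span_singleton.mp hmem
  have hc0 : c ≠ 0 := by
    rintro rfl
    rw [zero_smul] at hc
    exact hpn hc.symm
  obtain ⟨ψ, hψ⟩ := exists_injective_quot (p i ^ e i) (ϖ ^ n) c (by rw [← hc, smul_eq_mul, mul_comm]) hc0
  refine ⟨ψ.comp ((DirectSum.component R ι _ i).comp E.toLinearMap), ?_⟩
  intro h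
  apply hi
  apply hψ
  rw [map_zero]
  exact h

end


/-- Let R be a discrete valuation ring with uniformizer π and residue field k, n ≥ 0, and M₀ a finitely
generated module over R/πⁿR, viewed as an R-module killed by πⁿ; put M₀* = Hom_R(M₀, R/πⁿR). Then
dim_k(M₀*/πM₀*) = dim_k(M₀/πM₀). The published lemma is stated for a finitely presented module over
the quotient of the ring of integers of an algebraic closure of K by the elements of valuation ≥ t,
with its dual into that quotient ring, and the published proof reduces it by descent to exactly this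
statement over the valuation ring of a finite extension of K; the row states that step. -/
theorem result
    (R : Type u) [CommRing R] [IsDomain R] [IsDiscreteValuationRing R] (ϖ : R) (hϖ : Irreducible ϖ) (n : ℕ)
    (M : Type v) [AddCommGroup M] [Module R M] [Module.Finite R M] (hM : ∀ m : M, ϖ ^ n • m = 0) :
    Module.finrank (IsLocalRing.ResidueField R)
        (IsLocalRing.ResidueField R ⊗[R] (M →ₗ[R] (R ⧸ Ideal.span {ϖ ^ n}))) =
      Module.finrank (IsLocalRing.ResidueField R) (IsLocalRing.ResidueField R ⊗[R] M) := by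
  classical
  set Q := R ⧸ Ideal.span {ϖ ^ n} with hQ
  have hmk : Function.Surjective (Submodule.mkQ (Ideal.span {ϖ ^ n}) : R →ₗ[R] Q) :=
    Submodule.mkQ_surjective _
  -- embedding of the dual into `Q^d`
  obtain ⟨f, hf⟩ := exists_gens (R := R) M
  let ι : (M →ₗ[R] Q) →ₗ[R] (Fin (dd R M) → Q) := LinearMap.pi fun i => LinearMap.applyₗ (f i)
  have hι : Function.Injective ι := by
    intro φ ψ h
    apply LinearMap.ext_on_range hf
    intro i
    exact congrFun h i
  have : Module.Finite R (M →ₗ[R] Q) := Module.Finite.of_injective ι hι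
  have h1 : dd R (M →ₗ[R] Q) ≤ dd R M :=
    (dd_le_of_injective ι hι).trans (dd_pi_le Q _ hmk _)
  -- embedding of `M` into `Q^e`
  obtain ⟨φ, hφ⟩ := exists_gens (R := R) (M →ₗ[R] Q)
  let Φ : M →ₗ[R] (Fin (dd R (M →ₗ[R] Q)) → Q) := LinearMap.pi fun i => φ i
  have hΦ : Function.Injective Φ := by
    rw [← LinearMap.ker_eq_bot, Submodule.eq_bot_iff]
    intro m hm
    by_contra hne
    obtain ⟨ψ, hψ⟩ := exists_separating ϖ hϖ n M hM m hne
    apply hψ
    have hle : Submodule.span R (Set.range φ) ≤ LinearMap.ker (LinearMap.applyₗ m : (M →ₗ[R] Q) →ₗ[R] Q) := by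
      rw [Submodule.span_le]
      rintro _ ⟨i, rfl⟩
      exact congrFun (LinearMap.mem_ker.mp hm) i
    rw [hφ] at hle
    exact hle (Submodule.mem_top : ψ ∈ ⊤)
  have h2 : dd R M ≤ dd R (M →ₗ[R] Q) :=
    (dd_le_of_injective Φ hΦ).trans (dd_pi_le Q _ hmk _)
  exact le_antisymm h1 h2

end Groth.Agent.S15367
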