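import Groth.Statements.S7596
import Mathlib.AlgebraicGeometry.Morphisms.UniversallyOpen
import Mathlib.AlgebraicGeometry.PullbackCarrier

set_option autoImplicit false
universe u
open CategoryTheory CategoryTheory.Limits AlgebraicGeometry
open Variety

namespace Groth.Agent.S7596

/-- A morphism to an affine scheme factors through `toSpecΓ`. -/
theorem eq_toSpecΓ_comp {X : Scheme.{u}} {A : Type u} [CommRing A]
    (f : X ⟶ Spec (CommRingCat.of A)) :
    f = X.toSpecΓ ≫ Spec.map (CommRingCat.ofHom (Coh.toGlobal f)) := by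
  calc f = f ≫ (Spec (CommRingCat.of A)).toSpecΓ ≫
        Spec.map (Scheme.ΓSpecIso (CommRingCat.of A)).inv := by
        rw [toSpecΓ_SpecMap_ΓSpecIso_inv, Category.comp_id]
    _ = X.toSpecΓ ≫ Spec.map ((Scheme.ΓSpecIso (CommRingCat.of A)).inv ≫ f.appTop) := by
        rw [← Category.assoc, Scheme.toSpecΓ_naturality, Category.assoc, ← Spec.map_comp]
    _ = _ := rfl

/-- The composite `Spec κ(x) ⟶ X ⟶ Spec k` is `Spec` of `Curv2.resMap`. -/
theorem fromSpecResidueField_comp (k : Type u) [Field k] (X : Scheme.{u})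
    [X.Over (Spec (CommRingCat.of k))] (x : X) :
    X.fromSpecResidueField x ≫ (X ↘ Spec (CommRingCat.of k)) =
      Spec.map (CommRingCat.ofHom (Curv2.resMap k X x)) := by
  conv_lhs => rw [eq_toSpecΓ_comp (X ↘ Spec (CommRingCat.of k))]
  rw [Scheme.fromSpecResidueField, Category.assoc, Scheme.fromSpecStalk_toSpecΓ_assoc,
    ← Spec.map_comp, ← Spec.map_comp]
  rfl


/-- The fibre of `X_K ⟶ X` over a `k`-rational point has at most one point. -/
theorem subsingleton_fiber (k : Type u) [Field k] (X : Scheme.{u})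
    [X.Over (Spec (CommRingCat.of k))] (K : Type u) [Field K] [Algebra k K] (x : X)
    (hx : Function.Surjective (Curv2.resMap k X x)) :
    Subsingleton ↥((Curv2.bcFst k X K).fiber x) := by
  have hbij : Function.Bijective (Curv2.resMap k X x) := ⟨(Curv2.resMap k X x).injective, hx⟩
  have hiso : IsIso (CommRingCat.ofHom (Curv2.resMap k X x)) := by
    rw [ConcreteCategory.isIso_iff_bijective]
    exact hbij
  have hiso' : IsIso (X.fromSpecResidueField x ≫ (X ↘ Spec (CommRingCat.of k))) := by
    rw [fromSpecResidueField_comp]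
    infer_instance
  let e : (Curv2.bcFst k X K).fiber x ≅
      pullback (X.fromSpecResidueField x ≫ (X ↘ Spec (CommRingCat.of k)))
        (Spec.map (CommRingCat.ofHom (algebraMap k K))) :=
    pullbackSymmetry _ _ ≪≫ pullbackRightPullbackFstIso _ _ _
  let e' : (Curv2.bcFst k X K).fiber x ≅ Spec (CommRingCat.of K) :=
    e ≪≫ asIso (pullback.snd _ _)
  exact e'.hom.homeomorph.subsingleton



/-- Let X be an irreducible scheme over a field k whose k-rational points (points x at which k → κ(x) is
onto) form a dense subset. Then X is geometrically irreducible over k. -/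
theorem result (k : Type u) [Field k] (X : Scheme.{u}) [X.Over (Spec (CommRingCat.of k))] [IrreducibleSpace ↥X]
    (hd : Dense {x : ↥X | Function.Surjective (Curv2.resMap k X x)}) :
    GeometricallyIrreducible (X ↘ (Spec (CommRingCat.of k))) := by
  rw [geometricallyIrreducible_iff, geometrically_iff_of_commRing_of_isClosedUnderIsomorphisms]
  intro K _ _
  have hopen : IsOpenMap (Curv2.bcFst k X K) := (Curv2.bcFst k X K).isOpenMap
  have hne : Nonempty ↥(Curv2.bc k X K) := by
    obtain ⟨x⟩ := (inferInstance : Nonempty X)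
    obtain ⟨y⟩ := (inferInstance : Nonempty (Spec (CommRingCat.of K)))
    obtain ⟨z, -⟩ := Scheme.Pullback.exists_preimage_pullback
      (f := X ↘ Spec (CommRingCat.of k)) (g := Spec.map (CommRingCat.ofHom (algebraMap k K)))
      x y (Subsingleton.elim _ _)
    exact ⟨z⟩
  refine { isPreirreducible_univ := ?_, toNonempty := hne }
  intro u v hu hv hune hvne
  rw [Set.univ_inter] at hune hvne ⊢
  have h1 : ((Curv2.bcFst k X K) '' u ∩ (Curv2.bcFst k X K) '' v).Nonempty :=
    nonempty_preirreducible_inter (hopen u hu) (hopen v hv) (hune.image _) (hvne.image _)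
  obtain ⟨x, ⟨⟨y₁, hy₁u, hy₁⟩, ⟨y₂, hy₂v, hy₂⟩⟩, hxrat⟩ :=
    hd.inter_open_nonempty _ ((hopen u hu).inter (hopen v hv)) h1
  have := subsingleton_fiber k X K x hxrat
  have hr := (Curv2.bcFst k X K).range_fiberι x
  have m₁ : y₁ ∈ Set.range ((Curv2.bcFst k X K).fiberι x) := by rw [hr]; exact hy₁
  have m₂ : y₂ ∈ Set.range ((Curv2.bcFst k X K).fiberι x) := by rw [hr]; exact hy₂
  obtain ⟨z₁, rfl⟩ := m₁
  obtain ⟨z₂, rfl⟩ := m₂
  rw [Subsingleton.elim z₂ z₁] at hy₂v
  exact ⟨_, hy₁u, hy₂v⟩


end Groth.Agent.S7596
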