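import Groth.Statements.S1540
import Groth.Agent.Lib.H77GeomIrr
import Groth.Agent.Lib.H71SepClosedGeom
import Groth.Agent.S7596
import Groth.Agent.S2150

set_option autoImplicit false
universe u
open CategoryTheory CategoryTheory.Limits AlgebraicGeometry
attribute [local instance] Curv2.resAlgebra Curv2.stalkAlgebra
open Variety

namespace Groth.Agent.S1540

open TensorProduct Groth.Agent.Lib.H77GeomIrr

/-- Converse of `H77GeomIrr.irreducibleSpace_pullback_of_genericFibre`: if `X` and `X_{k'}` are irreducible then so is the
generic fibre `Spec (k' ⊗[k] K)`, `K` the function field of `X`. -/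
theorem irreducibleSpace_tensor_of_irreducibleSpace_pullback {k : Type u} [Field k] {X : Scheme.{u}}
    (f : X ⟶ Spec (CommRingCat.of k))
    [IrreducibleSpace X] (K : Type u) [Field K] [Algebra k K]
    (ι : Spec (CommRingCat.of K) ⟶ X) (hι : ι ≫ f = Spec.map (CommRingCat.ofHom (algebraMap k K)))
    (e : Spec (CommRingCat.of K) ≅ Spec (X.residueField (genericPoint X)))
    (he : e.hom ≫ X.fromSpecResidueField (genericPoint X) = ι)
    (k' : Type u) [Field k'] [Algebra k k']
    [hirr : IrreducibleSpace ↥(pullback f (Spec.map (CommRingCat.ofHom (algebraMap k k'))))] :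
    IrreducibleSpace (PrimeSpectrum (k' ⊗[k] K)) := by
  set y := Spec.map (CommRingCat.ofHom (algebraMap k k')) with hy
  let r := pullback.fst f y
  have hfsurj : Surjective y := Groth.Agent.Lib.GeomDescent.surjective_of_nonempty_of_field _
  have hrsurj : Surjective r := MorphismProperty.pullback_fst _ _ hfsurj
  have h6 : IrreducibleSpace ↥(r.fiber (genericPoint X)) :=
    irreducibleSpace_fiber_genericPoint r r.surjective.denseRange
  have h6' : IrreducibleSpace ↥(pullback r (X.fromSpecResidueField (genericPoint X))) := h6
  have h5 : IrreducibleSpace ↥(pullback (X.fromSpecResidueField (genericPoint X)) r) :=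
    irreducibleSpace_of_iso (pullbackSymmetry (X.fromSpecResidueField (genericPoint X)) r).symm
  have h4 : IrreducibleSpace ↥(pullback ι r) := by
    have eiso : pullback ι r ≅ pullback (X.fromSpecResidueField (genericPoint X)) r :=
      asIso (pullback.map ι r (X.fromSpecResidueField (genericPoint X)) r e.hom (𝟙 _) (𝟙 _)
        (by rw [Category.comp_id, he]) (by simp))
    exact irreducibleSpace_of_iso eiso.symm
  have h3 : IrreducibleSpace ↥(pullback (ι ≫ f) y) :=
    irreducibleSpace_of_iso (pullbackRightPullbackFstIso f y ι)
  have h2 : IrreducibleSpace ↥(pullback (Spec.map (CommRingCat.ofHom (algebraMap k K))) y) := by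
    rw [← hι]; exact h3
  have h1 : IrreducibleSpace ↥(Spec (CommRingCat.of (K ⊗[k] k'))) :=
    irreducibleSpace_of_iso (pullbackSpecIso k K k')
  have h0 : IrreducibleSpace (PrimeSpectrum (K ⊗[k] k')) := h1
  exact (PrimeSpectrum.homeomorphOfRingEquiv
    (Algebra.TensorProduct.comm k k' K).toRingEquiv).irreducibleSpace_iff.mpr h0

/-- An irreducible scheme X over k with generic point ξ is geometrically irreducible if and only if the
separable algebraic closure of k in the residue field of ξ is k itself. -/
theorem result (k : Type u) [Field k] (X : Scheme.{u}) [X.Over (Spec (CommRingCat.of k))] [IrreducibleSpace X] :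
    GeometricallyIrreducible (X ↘ (Spec (CommRingCat.of k))) ↔
      ∀ a : X.residueField (genericPoint X), IsSeparable k a → a ∈ Set.range (algebraMap k (X.residueField (genericPoint X))) := by
  have hι : X.fromSpecResidueField (genericPoint X) ≫ (X ↘ Spec (CommRingCat.of k)) =
      Spec.map (CommRingCat.ofHom (algebraMap k (X.residueField (genericPoint X)))) :=
    Groth.Agent.S7596.fromSpecResidueField_comp k X (genericPoint X)
  constructor
  · intro hgeo
    apply (Groth.Agent.S2150.result (k := k) (K := X.residueField (genericPoint X))).mp
    intro k' _ _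
    exact irreducibleSpace_tensor_of_irreducibleSpace_pullback (X ↘ Spec (CommRingCat.of k))
      (X.residueField (genericPoint X)) (X.fromSpecResidueField (genericPoint X)) hι (Iso.refl _)
      (Category.id_comp _) k'
  · intro hsep
    have hall := (Groth.Agent.S2150.result (k := k) (K := X.residueField (genericPoint X))).mpr hsep
    haveI := irreducibleSpace_pullback_of_genericFibre (X ↘ Spec (CommRingCat.of k))
      (X.residueField (genericPoint X)) (X.fromSpecResidueField (genericPoint X)) hι (Iso.refl _)
      (Category.id_comp _) (SeparableClosure k) (hall _)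
    exact Groth.Agent.Lib.H71SepClosedGeom.geometricallyIrreducible_of_irreducibleSpace_pullback
      (SeparableClosure k) (X ↘ Spec (CommRingCat.of k))

end Groth.Agent.S1540
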