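import Groth.Statements.S1539
import Groth.Agent.S1540
import Groth.Agent.S9630

set_option autoImplicit false
universe u
open CategoryTheory CategoryTheory.Limits AlgebraicGeometry
open Variety

namespace Groth.Agent.S1539

open TensorProduct Groth.Agent.Lib.H77GeomIrr

attribute [local instance] Curv2.resAlgebra in
/-- If X_{k'} is irreducible for every finite separable field extension k' of k, then X is geometrically
irreducible over k. -/
theorem result (k : Type u) [Field k] (X : Scheme.{u}) [X.Over (Spec (CommRingCat.of k))]
    (h : ∀ (k' : Type u) [Field k'] [Algebra k k'] [FiniteDimensional k k'] [Algebra.IsSeparable k k'],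
      IrreducibleSpace (Curv2.bc k X k')) :
    GeometricallyIrreducible (X ↘ (Spec (CommRingCat.of k))) := by
  have hX : IrreducibleSpace X := by
    have h0 := h k
    have hfsurj : Surjective (Spec.map (CommRingCat.ofHom (algebraMap k k))) :=
      Groth.Agent.Lib.GeomDescent.surjective_of_nonempty_of_field _
    have hrsurj : Surjective (Curv2.bcFst k X k) := MorphismProperty.pullback_fst _ _ hfsurj
    exact (Curv2.bcFst k X k).surjective.irreducibleSpace (Curv2.bcFst k X k).continuous
  have hι : X.fromSpecResidueField (genericPoint X) ≫ (X ↘ Spec (CommRingCat.of k)) =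
      Spec.map (CommRingCat.ofHom (algebraMap k (X.residueField (genericPoint X)))) :=
    Groth.Agent.S7596.fromSpecResidueField_comp k X (genericPoint X)
  have h2 : ∀ (k' : Type u) [Field k'] [Algebra k k'] [Module.Finite k k'] [Algebra.IsSeparable k k'],
      IrreducibleSpace (PrimeSpectrum (k' ⊗[k] X.residueField (genericPoint X))) := by
    intro k' _ _ _ _
    haveI : IrreducibleSpace ↥(pullback (X ↘ Spec (CommRingCat.of k))
        (Spec.map (CommRingCat.ofHom (algebraMap k k')))) := h k'
    exact Groth.Agent.S1540.irreducibleSpace_tensor_of_irreducibleSpace_pullback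
      (X ↘ Spec (CommRingCat.of k))
      (X.residueField (genericPoint X)) (X.fromSpecResidueField (genericPoint X)) hι (Iso.refl _)
      (Category.id_comp _) k'
  have h3 : IrreducibleSpace (PrimeSpectrum (SeparableClosure k ⊗[k] X.residueField (genericPoint X))) :=
    ((Groth.Agent.S9630.result (k := k) (R := X.residueField (genericPoint X))).out 1 2).mp h2
  haveI := irreducibleSpace_pullback_of_genericFibre (X ↘ Spec (CommRingCat.of k))
    (X.residueField (genericPoint X)) (X.fromSpecResidueField (genericPoint X)) hι (Iso.refl _)
    (Category.id_comp _) (SeparableClosure k) h3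
  exact Groth.Agent.Lib.H71SepClosedGeom.geometricallyIrreducible_of_irreducibleSpace_pullback
    (SeparableClosure k) (X ↘ Spec (CommRingCat.of k))

end Groth.Agent.S1539
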