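-- Statement S15391.
import Groth.Statements.S15391
import Mathlib

set_option autoImplicit false
universe u
open TensorProduct
open TorFree

namespace Groth.Agent.S15391

/-- Let R be a reduced Noetherian commutative ring, M a finitely generated torsion-free R-module (no
non-zero element of M is annihilated by a non-zero-divisor of R), and t an element of M whose image
1 ⊗ t in the fibre κ(p) ⊗_R M vanishes for every prime ideal p of R, κ(p) being the residue field at
p. Then t = 0. This is the affine form of the claim that a global section of a coherent torsion-free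
module on a reduced Noetherian scheme which vanishes in every fibre is zero. -/
theorem result (R : Type u) [CommRing R] [IsReduced R] [IsNoetherianRing R]
    (M : Type u) [AddCommGroup M] [Module R M] [Module.Finite R M] [Module.IsTorsionFree R M]
    (t : M) (ht : ∀ p : PrimeSpectrum R, (1 : p.asIdeal.ResidueField) ⊗ₜ[R] t = (0 : p.asIdeal.ResidueField ⊗[R] M)) :
    t = 0 := by
  classical
  by_contra ht0
  -- Step A: some minimal prime contains the annihilator of t
  obtain ⟨p, hp, hIp⟩ : ∃ p ∈ minimalPrimes R, ∀ r : R, r • t = 0 → r ∈ p := by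
    by_contra hcon
    push Not at hcon
    have hfin : (minimalPrimes R).Finite := minimalPrimes.finite_of_isNoetherianRing R
    let I : Ideal R := LinearMap.ker (LinearMap.toSpanSingleton R M t)
    have hI : ∀ r, r ∈ I ↔ r • t = 0 := fun r => by
      simp [I, LinearMap.mem_ker, LinearMap.toSpanSingleton_apply]
    have hnot : ¬ ((I : Set R) ⊆ ⋃ q ∈ (↑hfin.toFinset : Set (Ideal R)), (id q : Ideal R)) := by
      rw [Ideal.subset_union_prime (f := id) ⊥ ⊥ (fun q hq _ _ => by
        rw [Set.Finite.mem_toFinset] at hq; exact hq.1.1)]
      rintro ⟨q, hq, hIq⟩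
      rw [Set.Finite.mem_toFinset] at hq
      obtain ⟨r, hr, hrq⟩ := hcon q hq
      exact hrq (hIq ((hI r).mpr hr))
    rw [Set.not_subset] at hnot
    obtain ⟨r, hrI, hr⟩ := hnot
    have hr' : ∀ q ∈ minimalPrimes R, r ∉ q := by
      intro q hq hrq
      apply hr
      simp only [Set.mem_iUnion, Finset.mem_coe, Set.Finite.mem_toFinset, id]
      exact ⟨q, hq, hrq⟩
    have hreg : IsRegular r := by
      rw [isRegular_iff_mem_nonZeroDivisors]
      rw [mem_nonZeroDivisors_iff_right]
      intro s hs
      have : s ∈ sInf (minimalPrimes R) := by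
        rw [Ideal.mem_sInf]
        intro q hq
        have : s * r ∈ q := by rw [hs]; exact q.zero_mem
        exact (hq.1.1.mem_or_mem this).resolve_right (hr' q hq)
      rw [minimalPrimes, Ideal.sInf_minimalPrimes] at this
      have h2 : (⊥ : Ideal R).radical = ⊥ := by
        have := nilradical_eq_zero R
        rwa [nilradical, Ideal.zero_eq_bot] at this
      rw [h2] at this
      simpa using this
    exact ht0 ((hreg.isSMulRegular (M := M)).right_eq_zero_of_smul ((hI r).mp hrI))
  -- Step B
  have hpp : p.IsPrime := hp.1.1
  have h0 := ht ⟨p, hpp⟩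
  change (1 : p.ResidueField) ⊗ₜ[R] t = 0 at h0
  have hdim : Ring.KrullDimLE 0 (Localization.AtPrime p) := .of_isLocalization _ hp _
  have hbot : IsLocalRing.maximalIdeal (Localization.AtPrime p) = ⊥ := by
    let : Field (Localization.AtPrime p) := Ring.KrullDimLE.isField_of_isReduced.toField
    exact IsLocalRing.maximalIdeal_eq_bot
  let f : Localization.AtPrime p →ₗ[R] p.ResidueField :=
    (IsScalarTower.toAlgHom R (Localization.AtPrime p) p.ResidueField).toLinearMap
  have hf : Function.Bijective f := by
    constructor
    · rw [← LinearMap.ker_eq_bot, LinearMap.ker_eq_bot']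
      intro x hx
      have : x ∈ IsLocalRing.maximalIdeal (Localization.AtPrime p) := by
        rw [← IsLocalRing.residue_eq_zero_iff]
        exact hx
      rw [hbot] at this
      simpa using this
    · intro y
      obtain ⟨x, rfl⟩ := IsLocalRing.residue_surjective y
      exact ⟨x, rfl⟩
  let e := TensorProduct.congr (LinearEquiv.ofBijective f hf) (LinearEquiv.refl R M)
  have h1 : (1 : Localization.AtPrime p) ⊗ₜ[R] t = 0 := by
    apply e.injective
    rw [map_zero, ← h0]
    simp [e, f]
  have hloc : IsLocalizedModule p.primeCompl (TensorProduct.mk R (Localization.AtPrime p) M 1) :=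
    (isLocalizedModule_iff_isBaseChange p.primeCompl (Localization.AtPrime p) _).mpr
      (TensorProduct.isBaseChange R M (Localization.AtPrime p))
  obtain ⟨c, hc⟩ := (IsLocalizedModule.eq_zero_iff p.primeCompl
    (TensorProduct.mk R (Localization.AtPrime p) M 1)).mp h1
  exact c.2 (hIp c.1 hc)

end Groth.Agent.S15391
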