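import Groth.Statements.S15412
-- (no extra imports)

set_option autoImplicit false
universe w v u
open CategoryTheory Opposite
open Bitors

namespace Groth.Agent.S15412

open CategoryTheory Opposite Bitors

variable {C : Type u} [Category.{v} C] {J : GrothendieckTopology C}
  {G H : Sheaf J GrpCat.{w}} {P : NonAbH1.GSheaf G}

theorem isomFamily_ext (φ φ' : Bitors.IsomFamily P H)
    (h : ∀ (U : Cᵒᵖ) (p : P.P.obj.obj U) (x : H.obj.obj U), φ.φ p x = φ'.φ p x) : φ = φ' := by
  cases φ with | mk a a1 a2 =>
  cases φ' with | mk b b1 b2 =>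
  have : @a = @b := by
    funext U p
    exact MulEquiv.ext (h U p)
  subst this
  rfl

theorem rightStr_ext (ρ ρ' : Bitors.RightStr P H)
    (h : ∀ (U : Cᵒᵖ) (p : P.P.obj.obj U) (x : H.obj.obj U), ρ.rsmul p x = ρ'.rsmul p x) : ρ = ρ' := by
  cases ρ with | mk a a1 a2 a3 a4 a5 =>
  cases ρ' with | mk b b1 b2 b3 b4 b5 =>
  have : @a = @b := by
    funext U p x
    exact h U p x
  subst this
  rfl

/-- the family attached to a right structure -/
noncomputable def familyOf (hP : P.IsPseudoTorsor) (ρ : Bitors.RightStr P H) :
    Bitors.IsomFamily P H where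
  φ {U} p :=
    { toFun := fun h => (hP U p (ρ.rsmul p h)).exists.choose
      invFun := fun g => (ρ.existsUnique_rsmul p (P.smul g p)).exists.choose
      left_inv := fun h => by
        have h1 := (hP U p (ρ.rsmul p h)).exists.choose_spec
        have h2 := (ρ.existsUnique_rsmul p (P.smul (hP U p (ρ.rsmul p h)).exists.choose p)).exists.choose_spec
        exact (ρ.existsUnique_rsmul p (ρ.rsmul p h)).unique (h2.trans h1) rfl
      right_inv := fun g => by
        have h2 := (ρ.existsUnique_rsmul p (P.smul g p)).exists.choose_spec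
        have h1 := (hP U p (ρ.rsmul p (ρ.existsUnique_rsmul p (P.smul g p)).exists.choose)).exists.choose_spec
        exact (hP U p (P.smul g p)).unique (h1.trans h2) rfl
      map_mul' := fun h h' => by
        have ha := (hP U p (ρ.rsmul p h)).exists.choose_spec
        have hb := (hP U p (ρ.rsmul p h')).exists.choose_spec
        have hab := (hP U p (ρ.rsmul p (h * h'))).exists.choose_spec
        refine (hP U p (ρ.rsmul p (h * h'))).unique hab ?_
        rw [P.mul_smul, hb, ← ρ.smul_rsmul, ha, ρ.rsmul_mul] }
  map_φ {U V} f p h := by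
    have ha := (hP U p (ρ.rsmul p h)).exists.choose_spec
    have hb := (hP V (P.P.obj.map f p) (ρ.rsmul (P.P.obj.map f p) (H.obj.map f h))).exists.choose_spec
    refine (hP V (P.P.obj.map f p) (ρ.rsmul (P.P.obj.map f p) (H.obj.map f h))).unique ?_ hb
    show P.smul (G.obj.map f (hP U p (ρ.rsmul p h)).exists.choose) (P.P.obj.map f p) = _
    rw [← P.map_smul, ha, ρ.map_rsmul]
  φ_smul {U} g p h := by
    have ha := (hP U p (ρ.rsmul p h)).exists.choose_spec
    have hb := (hP U (P.smul g p) (ρ.rsmul (P.smul g p) h)).exists.choose_spec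
    refine (hP U (P.smul g p) (ρ.rsmul (P.smul g p) h)).unique hb ?_
    show P.smul (g * (hP U p (ρ.rsmul p h)).exists.choose * g⁻¹) (P.smul g p) = _
    rw [← P.mul_smul, inv_mul_cancel_right, P.mul_smul, ha, ρ.smul_rsmul]

theorem familyOf_spec (hP : P.IsPseudoTorsor) (ρ : Bitors.RightStr P H) (U : Cᵒᵖ)
    (p : P.P.obj.obj U) (h : H.obj.obj U) :
    ρ.rsmul p h = P.smul ((familyOf hP ρ).φ p h) p :=
  ((hP U p (ρ.rsmul p h)).exists.choose_spec).symm

/-- the right structure attached to a family -/
def strOf (hP : P.IsPseudoTorsor) (φ : Bitors.IsomFamily P H) : Bitors.RightStr P H where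
  rsmul {U} p h := P.smul (φ.φ p h) p
  rsmul_one p := by rw [map_one, P.one_smul]
  rsmul_mul p h h' := by
    rw [φ.φ_smul, ← P.mul_smul, inv_mul_cancel_right, map_mul]
  map_rsmul f p h := by
    rw [P.map_smul, φ.map_φ]
  smul_rsmul g p h := by
    rw [φ.φ_smul, ← P.mul_smul, inv_mul_cancel_right, P.mul_smul]
  existsUnique_rsmul {U} p q := by
    obtain ⟨g, hg, hguniq⟩ := hP U p q
    refine ⟨(φ.φ p).symm g, ?_, ?_⟩
    · show P.smul (φ.φ p ((φ.φ p).symm g)) p = q
      rw [MulEquiv.apply_symm_apply]; exact hg
    · intro h' hh'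
      have := hguniq _ hh'
      rw [← this, MulEquiv.symm_apply_apply]


/-- On a site, let G and H be sheaves of groups and P a sheaf of sets with a left G-action which is
simply transitive on every set of sections P(U). The right H-actions on P that are compatible with
restriction, commute with the G-action and are simply transitive on every P(U) (for P a G-torsor:
the structures of (G, H)-bitorsor on P) correspond exactly to the families of group isomorphisms φ_p
: H(U) ≃ G(U), one for each section p of P over each U, compatible with restriction and with φ_{g·p}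
= g φ_p g⁻¹ (the equivariant maps from P to the sheaf of isomorphisms from H to G); the
correspondence is the rule p · h = φ_p(h) · p, and the statement is that every right structure
arises by this rule from exactly one family and every family from exactly one right structure. (The
published statement takes P a left G-torsor; only the simple transitivity of the G-action on
sections enters, so local existence of sections is not assumed.) -/
theorem result
    {C : Type u} [Category.{v} C] {J : GrothendieckTopology C}
    (G H : Sheaf J GrpCat.{w}) (P : NonAbH1.GSheaf G) (hP : P.IsPseudoTorsor) :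
    (∀ ρ : Bitors.RightStr P H, ∃! φ : Bitors.IsomFamily P H,
        ∀ (U : Cᵒᵖ) (p : P.P.obj.obj U) (h : H.obj.obj U), ρ.rsmul p h = P.smul (φ.φ p h) p) ∧
    (∀ φ : Bitors.IsomFamily P H, ∃! ρ : Bitors.RightStr P H,
        ∀ (U : Cᵒᵖ) (p : P.P.obj.obj U) (h : H.obj.obj U), ρ.rsmul p h = P.smul (φ.φ p h) p) := by
  refine ⟨fun ρ => ⟨familyOf hP ρ, familyOf_spec hP ρ, ?_⟩, fun φ => ⟨strOf hP φ, fun _ _ _ => rfl, ?_⟩⟩
  · intro φ' hφ'
    apply isomFamily_ext
    intro U p x
    exact (hP U p (ρ.rsmul p x)).unique (hφ' U p x).symm (familyOf_spec hP ρ U p x).symm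
  · intro ρ' hρ'
    apply rightStr_ext
    intro U p x
    exact hρ' U p x

end Groth.Agent.S15412
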