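import Groth.Statements.S15415
import Groth.Agent.Lib.GaloisDescentVS
import Groth.Agent.Lib.CSARedNorm16
import Groth.Agent.S13692

set_option autoImplicit false
universe u v w
open scoped TensorProduct
attribute [local instance] CSAGal.tensorAction GpH1.unitsAction
open GalCoh

namespace Groth.Agent.S15415

open Groth.Agent.Lib.GaloisDescentVS

section Aux

variable {k : Type u} [Field k] {K : Type v} [Field K] [Algebra k K]
  [FiniteDimensional k K] [IsGalois k K]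
  {A : Type w} [Ring A] [Algebra k A] [FiniteDimensional k A]

/-- the reduced norm of `K ⊗ A` is computed by any splitting over `K` itself -/
theorem NK_eq_det [Nontrivial (K ⊗[k] A)] {NK : (K ⊗[k] A) →* K}
    (hNK : CSAGal.IsRedNorm K (K ⊗[k] A) NK) {n : ℕ}
    (ψ : K ⊗[k] A ≃ₐ[K] Matrix (Fin n) (Fin n) K) (x : K ⊗[k] A) :
    NK x = (ψ x).det := by
  have h := Groth.Agent.Lib.CSARedNorm16.isRedNorm_eq_det hNK K
    ((Algebra.TensorProduct.lid K (K ⊗[k] A)).trans ψ) x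
  simpa using h

/-- the Galois twist of a splitting -/
noncomputable def twist {n : ℕ} (ψ : K ⊗[k] A ≃ₐ[K] Matrix (Fin n) (Fin n) K)
    (σ : K ≃ₐ[k] K) : K ⊗[k] A ≃ₐ[K] Matrix (Fin n) (Fin n) K :=
  AlgEquiv.ofRingEquiv
    (f := (MulSemiringAction.toRingEquiv (K ≃ₐ[k] K) (K ⊗[k] A) σ⁻¹).trans
      (ψ.toRingEquiv.trans (σ : K ≃+* K).mapMatrix))
    (fun c => by
      have h0 : (MulSemiringAction.toRingEquiv (K ≃ₐ[k] K) (K ⊗[k] A) σ⁻¹)
          (algebraMap K (K ⊗[k] A) c) = algebraMap K (K ⊗[k] A) ((σ⁻¹ : K ≃ₐ[k] K) c) := by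
        rw [MulSemiringAction.toRingEquiv_apply_apply, Algebra.TensorProduct.algebraMap_apply,
          Algebra.TensorProduct.algebraMap_apply, TensorProduct.smul_tmul']
        rfl
      rw [RingEquiv.trans_apply, RingEquiv.trans_apply, h0]
      have h1 : ψ.toRingEquiv (algebraMap K (K ⊗[k] A) ((σ⁻¹ : K ≃ₐ[k] K) c))
          = algebraMap K _ ((σ⁻¹ : K ≃ₐ[k] K) c) := ψ.commutes _
      rw [h1]
      ext i j
      simp only [RingEquiv.mapMatrix_apply, Matrix.map_apply, Matrix.algebraMap_matrix_apply]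
      split_ifs
      · simp only [Algebra.algebraMap_self, RingHom.id_apply]
        exact σ.apply_symm_apply c
      · simp)

theorem twist_apply {n : ℕ} (ψ : K ⊗[k] A ≃ₐ[K] Matrix (Fin n) (Fin n) K)
    (σ : K ≃ₐ[k] K) (x : K ⊗[k] A) :
    twist ψ σ x = (ψ (σ⁻¹ • x)).map σ := rfl

theorem NK_smul [Nontrivial (K ⊗[k] A)] {NK : (K ⊗[k] A) →* K}
    (hNK : CSAGal.IsRedNorm K (K ⊗[k] A) NK) {n : ℕ}
    (ψ : K ⊗[k] A ≃ₐ[K] Matrix (Fin n) (Fin n) K) (σ : K ≃ₐ[k] K) (x : K ⊗[k] A) :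
    NK (σ • x) = σ (NK x) := by
  rw [NK_eq_det hNK (twist ψ σ) (σ • x), twist_apply, inv_smul_smul, NK_eq_det hNK ψ x]
  exact ((σ : K →+* K).map_det (ψ x)).symm

theorem fixed_unit_eq (z : (K ⊗[k] A)ˣ) (hz : ∀ σ : K ≃ₐ[k] K, σ • z = z) :
    ∃ y : Aˣ, (z : K ⊗[k] A) = 1 ⊗ₜ[k] (y : A) := by
  have h1 : ∀ σ : K ≃ₐ[k] K, σ • (z : K ⊗[k] A) = z := fun σ => congrArg Units.val (hz σ)
  have h2 : ∀ σ : K ≃ₐ[k] K, σ • ((z⁻¹ : (K ⊗[k] A)ˣ) : K ⊗[k] A) = (z⁻¹ : (K ⊗[k] A)ˣ) :=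
    fun σ => by
      have := congrArg (fun u : (K ⊗[k] A)ˣ => ((u⁻¹ : (K ⊗[k] A)ˣ) : K ⊗[k] A)) (hz σ)
      exact this
  obtain ⟨y, hy⟩ := exists_eq_one_tmul_of_fixed (k := k) (K := K) (z : K ⊗[k] A) h1
  obtain ⟨y', hy'⟩ := exists_eq_one_tmul_of_fixed (k := k) (K := K)
    ((z⁻¹ : (K ⊗[k] A)ˣ) : K ⊗[k] A) h2
  have inj := one_tmul_injective k K A
  have e1 : y * y' = 1 := by
    apply inj
    show (1 : K) ⊗ₜ[k] (y * y') = 1 ⊗ₜ[k] (1 : A)
    have := Units.mul_inv z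
    rw [hy, hy', Algebra.TensorProduct.tmul_mul_tmul, mul_one] at this
    rw [this, Algebra.TensorProduct.one_def]
  have e2 : y' * y = 1 := by
    apply inj
    show (1 : K) ⊗ₜ[k] (y' * y) = 1 ⊗ₜ[k] (1 : A)
    have := Units.inv_mul z
    rw [hy, hy', Algebra.TensorProduct.tmul_mul_tmul, mul_one] at this
    rw [this, Algebra.TensorProduct.one_def]
  exact ⟨⟨y, y', e1, e2⟩, hy⟩

end Aux


/-- For a central simple algebra over a field, the first Galois cohomology set of its norm-one group is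
identified with the nonzero scalars modulo the reduced norms of units, by the boundary map of the
sequence norm-one units → units → nonzero scalars. Finite-level form: let k be a field, K a finite
Galois extension of k whose Galois group acts on K ⊗_k A through the first factor, A a
finite-dimensional central simple k-algebra split by K, N the reduced norm of A over k and N_K the
reduced norm of K ⊗_k A over K. Then (i) every 1-cocycle a with values in the units of K ⊗_k A of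
reduced norm one is of the form a σ = b⁻¹ · σ(b) for a unit b whose reduced norm is an element c of
kˣ; and (ii) for units b, b' of K ⊗_k A with reduced norms c, c' in kˣ, the cocycles σ ↦ b⁻¹σ(b) and
σ ↦ b'⁻¹σ(b') are cohomologous through a unit of reduced norm one if and only if c' = N(x) · c for
some unit x of A. (Since K splits A the reduced norm N_K takes every value in kˣ, so (i) and (ii)
say that c ↦ class of b⁻¹σ(b), N_K b = c, is a well-defined bijection from kˣ/N(Aˣ) onto the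
cohomology set of the norm-one units. The published statement is for the absolute Galois group of a
field of characteristic different from 2, an assumption playing no role here; this row is the
finite-level form over a splitting field.) -/
theorem result
    (k : Type u) [Field k] (K : Type v) [Field K] [Algebra k K] [FiniteDimensional k K] [IsGalois k K]
    (A : Type w) [Ring A] [Algebra k A] [Algebra.IsCentral k A] [IsSimpleRing A] [FiniteDimensional k A]
    (hA : Curves.Splits k A K)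
    (N : A →* k) (hN : CSAGal.IsRedNorm k A N)
    (NK : (K ⊗[k] A) →* K) (hNK : CSAGal.IsRedNorm K (K ⊗[k] A) NK) :
    (∀ a : GpH1.OneCocycle (K ≃ₐ[k] K) (K ⊗[k] A)ˣ, (∀ σ, NK (a σ : K ⊗[k] A) = 1) →
        ∃ (c : kˣ) (b : (K ⊗[k] A)ˣ), NK (b : K ⊗[k] A) = algebraMap k K (c : k) ∧
          ∀ σ : K ≃ₐ[k] K, a σ = b⁻¹ * σ • b) ∧
    (∀ (c c' : kˣ) (b b' : (K ⊗[k] A)ˣ),
        NK (b : K ⊗[k] A) = algebraMap k K (c : k) → NK (b' : K ⊗[k] A) = algebraMap k K (c' : k) →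
        ((∃ s : (K ⊗[k] A)ˣ, NK (s : K ⊗[k] A) = 1 ∧
            ∀ σ : K ≃ₐ[k] K, b'⁻¹ * σ • b' = s⁻¹ * (b⁻¹ * σ • b) * σ • s) ↔
          ∃ x : Aˣ, (c' : k) = N (x : A) * (c : k))) := by
  classical
  obtain ⟨n, hn, ⟨ψ⟩⟩ := hA
  haveI : Nonempty (Fin n) := Fin.pos_iff_nonempty.mp (Nat.pos_of_ne_zero hn)
  haveI : Nontrivial (K ⊗[k] A) := ψ.toEquiv.nontrivial
  have hsm : ∀ (σ : K ≃ₐ[k] K) (x : K ⊗[k] A), NK (σ • x) = σ (NK x) := NK_smul hNK ψ
  have hN1 : ∀ y : A, NK (1 ⊗ₜ[k] y) = algebraMap k K (N y) := fun y => by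
    rw [NK_eq_det hNK ψ, Groth.Agent.Lib.CSARedNorm16.isRedNorm_eq_det hN K ψ y]
  have hfixed : ∀ t : K, (∀ σ : K ≃ₐ[k] K, σ t = t) → ∃ c : k, algebraMap k K c = t := fun t ht =>
    (IsGalois.mem_range_algebraMap_iff_fixed t).mpr ht
  have hunit : ∀ b : (K ⊗[k] A)ˣ, NK (b : K ⊗[k] A) ≠ 0 := fun b =>
    (b.isUnit.map NK).ne_zero
  refine ⟨?_, ?_⟩
  · intro a ha
    have htriv := Groth.Agent.S13692.result k K A a.cl
    rw [GpH1.H1.pt, GpH1.OneCocycle.cl_eq_cl_iff] at htriv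
    obtain ⟨b, hb⟩ := htriv
    have hb' : ∀ σ, a σ = b⁻¹ * σ • b := fun σ => by
      rw [hb σ]
      show b⁻¹ * 1 * σ • b = b⁻¹ * σ • b
      rw [mul_one]
    have hfix : ∀ σ : K ≃ₐ[k] K, σ (NK (b : K ⊗[k] A)) = NK (b : K ⊗[k] A) := by
      intro σ
      have h1 := ha σ
      rw [hb' σ] at h1
      have h2 : ((b⁻¹ * σ • b : (K ⊗[k] A)ˣ) : K ⊗[k] A)
          = ((b⁻¹ : (K ⊗[k] A)ˣ) : K ⊗[k] A) * σ • (b : K ⊗[k] A) := rfl
      rw [h2, map_mul, hsm] at h1
      have h3 : NK ((b⁻¹ : (K ⊗[k] A)ˣ) : K ⊗[k] A) * NK (b : K ⊗[k] A) = 1 := by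
        rw [← map_mul, Units.inv_mul, map_one]
      have h4 : NK ((b⁻¹ : (K ⊗[k] A)ˣ) : K ⊗[k] A) ≠ 0 := hunit _
      exact mul_left_cancel₀ h4 (h1.trans h3.symm)
    obtain ⟨c, hc⟩ := hfixed _ hfix
    have hc0 : c ≠ 0 := by
      rintro rfl
      rw [map_zero] at hc
      exact hunit b hc.symm
    exact ⟨Units.mk0 c hc0, b, hc.symm, hb'⟩
  · intro c c' b b' hb hb'
    have hc0 : (c : k) ≠ 0 := c.ne_zero
    have hc'0 : (c' : k) ≠ 0 := c'.ne_zero
    constructor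
    · rintro ⟨s, hs1, hs⟩
      have hz : ∀ σ : K ≃ₐ[k] K, σ • (b * s * b'⁻¹) = b * s * b'⁻¹ := by
        intro σ
        have h := hs σ
        rw [smul_mul', smul_mul', smul_inv']
        have h5 : σ • b' = b' * (s⁻¹ * (b⁻¹ * σ • b) * σ • s) := by
          rw [← h, mul_inv_cancel_left]
        rw [h5]
        group
      obtain ⟨y, hy⟩ := fixed_unit_eq (b * s * b'⁻¹) hz
      have hNz : NK ((b * s * b'⁻¹ : (K ⊗[k] A)ˣ) : K ⊗[k] A)
          = algebraMap k K c * (algebraMap k K c')⁻¹ := by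
        have e : ((b * s * b'⁻¹ : (K ⊗[k] A)ˣ) : K ⊗[k] A)
            = (b : K ⊗[k] A) * s * ((b'⁻¹ : (K ⊗[k] A)ˣ) : K ⊗[k] A) := rfl
        rw [e, map_mul, map_mul, hs1, mul_one, hb]
        congr 1
        have h6 : NK ((b'⁻¹ : (K ⊗[k] A)ˣ) : K ⊗[k] A) * NK (b' : K ⊗[k] A) = 1 := by
          rw [← map_mul, Units.inv_mul, map_one]
        rw [hb'] at h6
        exact eq_inv_of_mul_eq_one_left h6
      rw [hy, hN1] at hNz
      have hNy : N (y : A) = c * (c' : k)⁻¹ := by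
        apply (algebraMap k K).injective
        rw [hNz, map_mul, map_inv₀]
      refine ⟨y⁻¹, ?_⟩
      have h7 : N ((y⁻¹ : Aˣ) : A) * N (y : A) = 1 := by
        rw [← map_mul, Units.inv_mul, map_one]
      rw [hNy] at h7
      have h8 : N ((y⁻¹ : Aˣ) : A) = (c' : k) * (c : k)⁻¹ := by
        field_simp at h7 ⊢
        exact h7
      rw [h8]
      field_simp
    · rintro ⟨x, hx⟩
      let z : (K ⊗[k] A)ˣ := Units.map (Algebra.TensorProduct.includeRight :
        A →ₐ[k] K ⊗[k] A).toMonoidHom x⁻¹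
      have hzval : (z : K ⊗[k] A) = 1 ⊗ₜ[k] ((x⁻¹ : Aˣ) : A) := rfl
      have hzfix : ∀ σ : K ≃ₐ[k] K, σ • z = z := by
        intro σ
        apply Units.ext
        show σ • (z : K ⊗[k] A) = z
        rw [hzval, TensorProduct.smul_tmul', AlgEquiv.smul_def, map_one]
      refine ⟨b⁻¹ * z * b', ?_, fun σ => ?_⟩
      · have e : ((b⁻¹ * z * b' : (K ⊗[k] A)ˣ) : K ⊗[k] A)
            = ((b⁻¹ : (K ⊗[k] A)ˣ) : K ⊗[k] A) * z * (b' : K ⊗[k] A) := rfl
        rw [e, map_mul, map_mul, hb', hzval, hN1]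
        have h6 : NK ((b⁻¹ : (K ⊗[k] A)ˣ) : K ⊗[k] A) * NK (b : K ⊗[k] A) = 1 := by
          rw [← map_mul, Units.inv_mul, map_one]
        rw [hb] at h6
        have h7 : N ((x⁻¹ : Aˣ) : A) * N (x : A) = 1 := by
          rw [← map_mul, Units.inv_mul, map_one]
        have h9 : NK ((b⁻¹ : (K ⊗[k] A)ˣ) : K ⊗[k] A) = (algebraMap k K c)⁻¹ :=
          eq_inv_of_mul_eq_one_left h6
        rw [h9, hx]
        have h10 : (algebraMap k K (N ((x⁻¹ : Aˣ) : A))) * algebraMap k K (N (x : A) * (c : k))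
            = algebraMap k K c := by
          rw [← map_mul, ← mul_assoc, h7, one_mul]
        rw [mul_assoc, h10, inv_mul_cancel₀]
        exact fun h => hc0 ((map_eq_zero _).mp h)
      · rw [smul_mul', smul_mul', smul_inv', hzfix σ]
        group

end Groth.Agent.S15415
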