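import Groth.Statements.S15419
import Groth.Agent.Lib.GrLCQReg
import Groth.Agent.Lib.GrLCBridge
import Groth.Agent.Lib.GrLCFinLen

set_option autoImplicit false
universe u
open GrLC

namespace Groth.Agent.S15419

/-- Let k be a field, S = k[x_0, …, x_r] graded by degree, 𝔪 = (x_0, …, x_r), M a finitely generated
ℤ-graded S-module and x a linear form (x ∈ S_1) that is quasi-regular on M: the submodule of
elements of M killed by x has finite length. Let N = M/xM, given as a graded module with a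
surjective degree-preserving S-linear map π : M → N whose kernel is xM; graded local cohomology of M
and of N is computed from *injective resolutions in the graded category. If M is weakly d-regular,
that is H^i_𝔪(M) vanishes in degree d − i + 1 for every i > 0, then N is weakly d-regular. -/
theorem result (k : Type u) [Field k] (r : ℕ)
    (M : Type u) [AddCommGroup M] [Module k M] [Module (MvPolynomial (Fin (r + 1)) k) M]
    [IsScalarTower k (MvPolynomial (Fin (r + 1)) k) M] [Module.Finite (MvPolynomial (Fin (r + 1)) k) M]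
    (ℳ : ℤ → Submodule k M) [DirectSum.Decomposition ℳ] [SetLike.GradedSMul (GrSyz.stdGr k (Fin (r + 1))) ℳ]
    (x : MvPolynomial (Fin (r + 1)) k) (hx : x ∈ GrSyz.stdGr k (Fin (r + 1)) 1)
    (hq : IsFiniteLength (MvPolynomial (Fin (r + 1)) k) ↥(Submodule.torsionBy (MvPolynomial (Fin (r + 1)) k) M x))
    (N : Type u) [AddCommGroup N] [Module k N] [Module (MvPolynomial (Fin (r + 1)) k) N]
    [IsScalarTower k (MvPolynomial (Fin (r + 1)) k) N] [Module.Finite (MvPolynomial (Fin (r + 1)) k) N]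
    (𝒩 : ℤ → Submodule k N) [DirectSum.Decomposition 𝒩] [SetLike.GradedSMul (GrSyz.stdGr k (Fin (r + 1))) 𝒩]
    (π : M →ₗ[MvPolynomial (Fin (r + 1)) k] N) (hπ : Function.Surjective π) (hπg : GrLC.IsGrHom ℳ 𝒩 π)
    (hker : LinearMap.ker π = LinearMap.range (x • (LinearMap.id : M →ₗ[MvPolynomial (Fin (r + 1)) k] M)))
    (E : GrLC.StarInjRes (GrSyz.stdGr k (Fin (r + 1))) ℳ) (E' : GrLC.StarInjRes (GrSyz.stdGr k (Fin (r + 1))) 𝒩) (d : ℤ)
    (hM : ∀ i : ℕ, 0 < i → E.Hcomp (GrSyz.irrel (GrSyz.stdGr k (Fin (r + 1)))) i (d - (i : ℤ) + 1) = ⊥) (i : ℕ) (hi : 0 < i) :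
    E'.Hcomp (GrSyz.irrel (GrSyz.stdGr k (Fin (r + 1)))) i (d - (i : ℤ) + 1) = ⊥ := by
  open Groth.Agent.Lib.GrLCMap Groth.Agent.Lib.GrLCLES Groth.Agent.Lib.GrLCBridge
    Groth.Agent.Lib.GrLCQReg Groth.Agent.Lib.GrLCFinLen in
  have hK : LinearMap.ker (LinearMap.lsmul (MvPolynomial (Fin (r + 1)) k) M x) ≤
      GrLC.gam (toSIdeal (GrSyz.irrel (GrSyz.stdGr k (Fin (r + 1))))).toIdeal M := by
    have h1 : LinearMap.ker (LinearMap.lsmul (MvPolynomial (Fin (r + 1)) k) M x) =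
        Submodule.torsionBy (MvPolynomial (Fin (r + 1)) k) M x := by
      ext m
      rw [LinearMap.mem_ker, Submodule.mem_torsionBy_iff, LinearMap.lsmul_apply]
    rw [h1]
    exact le_gam_of_isFiniteLength (ℳ := ℳ) _ hq
  have hker' : LinearMap.ker π = LinearMap.range (LinearMap.lsmul (MvPolynomial (Fin (r + 1)) k) M x) := by
    rw [hker]
    congr 1
  have hπg' : GrLC.IsGrHom (asGr ℳ) (asGr 𝒩) π := fun g m hm => hπg g m hm
  have hx' : x ∈ asGr (GrSyz.stdGr k (Fin (r + 1))) 1 := hx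
  rw [← Hcomp_toSRes_eq_bot_iff]
  have h1 : (toSRes E).Hcomp (toSIdeal (GrSyz.irrel (GrSyz.stdGr k (Fin (r + 1))))) i
      (d - (i : ℤ) + 1) = ⊥ := (Hcomp_toSRes_eq_bot_iff _ _ _ _).mpr (hM i hi)
  have h2 : (toSRes E).Hcomp (toSIdeal (GrSyz.irrel (GrSyz.stdGr k (Fin (r + 1))))) (i + 1)
      (d - (i : ℤ)) = ⊥ := by
    have h3 := hM (i + 1) (Nat.succ_pos i)
    have h4 : d - ((i + 1 : ℕ) : ℤ) + 1 = d - (i : ℤ) := by push_cast; ring
    rw [h4] at h3
    exact (Hcomp_toSRes_eq_bot_iff _ _ _ _).mpr h3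
  exact Hcomp_quot_eq_bot (toSIdeal (GrSyz.irrel (GrSyz.stdGr k (Fin (r + 1))))) hx' hK hπg' hπ
    hker' (toSRes E) (toSRes E') i (d - (i : ℤ)) h1 h2

end Groth.Agent.S15419
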