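import Groth.Statements.S15427
import Groth.Agent.Lib.GrSyzBasic

set_option autoImplicit false
universe u
open GrSyz

namespace Groth.Agent.S15427

section Aux

variable {R : Type u} [CommRing R] {N : Type u} [AddCommGroup N] [Module R N]

/-- linear combination of the columns is `mulVec` -/
theorem linearCombination_cols {n m : ℕ} (D : Matrix (Fin n) (Fin m) R) (v : Fin m → R) :
    Fintype.linearCombination R (fun b' a => D a b') v = D.mulVec v := by
  funext a
  rw [Fintype.linearCombination_apply, Finset.sum_apply, Matrix.mulVec, dotProduct]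
  refine Finset.sum_congr rfl (fun b' _ => ?_)
  simp [mul_comm]

/-- if the relations among the `g b` have coefficients in a proper ideal, no `g b` is in the span
of the others -/
theorem notMem_span_of_ker_le {n m : ℕ} (𝔪 : Ideal R) (h1 : (1 : R) ∉ 𝔪) (g : Fin n → N)
    (D : Matrix (Fin n) (Fin m) R) (hD : ∀ a b, D a b ∈ 𝔪)
    (hker : LinearMap.ker (Fintype.linearCombination R g) ≤ LinearMap.range (Matrix.mulVecLin D))
    (b : Fin n) : g b ∉ Submodule.span R (g '' {b' | b' ≠ b}) := by
  classical
  intro hmem
  rw [Finsupp.mem_span_image_iff_linearCombination] at hmem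
  obtain ⟨l, hl, hlb⟩ := hmem
  have hlb0 : l b = 0 := by
    by_contra h
    have : b ∈ l.support := Finsupp.mem_support_iff.mpr h
    exact (hl this) rfl
  let v : Fin n → R := fun c => (Pi.single b 1 : Fin n → R) c - l c
  have hv : Fintype.linearCombination R g v = 0 := by
    rw [Fintype.linearCombination_apply]
    simp only [v, sub_smul, Finset.sum_sub_distrib]
    rw [Finset.sum_eq_single b (fun c _ hc => by rw [Pi.single_eq_of_ne hc, zero_smul])
      (fun h => absurd (Finset.mem_univ b) h), Pi.single_eq_same, one_smul, sub_eq_zero]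
    rw [← hlb, Finsupp.linearCombination_apply]
    exact Finsupp.sum_fintype l (fun i a => a • g i) (fun _ => zero_smul _ _)
  obtain ⟨w, hw⟩ := hker (LinearMap.mem_ker.mpr hv)
  have hvb : v b = 1 := by simp [v, hlb0]
  have := congrFun hw b
  rw [Matrix.mulVecLin_apply, hvb] at this
  apply h1
  rw [← this, Matrix.mulVec, dotProduct]
  exact Ideal.sum_mem _ (fun c _ => Ideal.mul_mem_right _ _ (hD b c))

/-- a relation with a unit coefficient expresses a generator through the others -/
theorem mem_span_of_isUnit {n : ℕ} (g : Fin n → N) (col : Fin n → R)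
    (hrel : ∑ a, col a • g a = 0) (a₀ : Fin n) (hu : IsUnit (col a₀)) :
    g a₀ ∈ Submodule.span R (g '' {a' | a' ≠ a₀}) := by
  classical
  obtain ⟨u, hu⟩ := hu
  have h1 : col a₀ • g a₀ = - ∑ a ∈ Finset.univ.erase a₀, col a • g a := by
    rw [← Finset.add_sum_erase _ _ (Finset.mem_univ a₀)] at hrel
    exact eq_neg_of_add_eq_zero_left hrel
  have h2 : g a₀ = (↑u⁻¹ : R) • (col a₀ • g a₀) := by
    rw [← hu, smul_smul, Units.inv_mul, one_smul]
  rw [h2, h1]
  refine Submodule.smul_mem _ _ (Submodule.neg_mem _ (Submodule.sum_mem _ (fun a ha => ?_)))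
  exact Submodule.smul_mem _ _ (Submodule.subset_span ⟨a, Finset.ne_of_mem_erase ha, rfl⟩)

end Aux


/-- Let k be a field, S = k[x_0, …, x_r] graded by degree, 𝔪 = (x_0, …, x_r), M a finitely generated
ℤ-graded S-module and F a graded free resolution of M by free modules of finite rank with chosen
homogeneous bases, written as matrices d_i : F_{i+1} → F_i together with the images aug b ∈ M of the
basis of F_0. Then F is a minimal complex (every matrix entry lies in 𝔪) if and only if every map of
the resolution carries its basis to an irredundant (minimal) family of generators of its image: for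
each b, aug b is not in the S-span of the remaining aug b', and for each i and each column of d_i,
that column is not in the S-span of the remaining columns. -/
theorem result (k : Type u) [Field k] (r : ℕ)
    (M : Type u) [AddCommGroup M] [Module k M] [Module (MvPolynomial (Fin (r + 1)) k) M]
    [IsScalarTower k (MvPolynomial (Fin (r + 1)) k) M] [Module.Finite (MvPolynomial (Fin (r + 1)) k) M]
    (ℳ : ℤ → Submodule k M) [DirectSum.Decomposition ℳ] [SetLike.GradedSMul (GrSyz.stdGr k (Fin (r + 1))) ℳ]
    (F : GrSyz.FreeRes (GrSyz.stdGr k (Fin (r + 1))) ℳ) :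
    F.IsMinimal (GrSyz.irrel (GrSyz.stdGr k (Fin (r + 1)))).toIdeal ↔
      ((∀ b : Fin (F.rk 0), F.aug b ∉ Submodule.span (MvPolynomial (Fin (r + 1)) k) (F.aug '' {b' | b' ≠ b})) ∧
        ∀ (i : ℕ) (b : Fin (F.rk (i + 1))),
          (fun a => F.d i a b) ∉ Submodule.span (MvPolynomial (Fin (r + 1)) k) ((fun b' a => F.d i a b') '' {b' | b' ≠ b})) := by
  open Groth.Agent.Lib.GrSyzBasic in
  have h1 : (1 : MvPolynomial (Fin (r + 1)) k) ∉
      (GrSyz.irrel (GrSyz.stdGr k (Fin (r + 1)))).toIdeal := one_notMem_irrel k (Fin (r + 1))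
  constructor
  · intro hF
    refine ⟨fun b => ?_, fun i b => ?_⟩
    · exact notMem_span_of_ker_le _ h1 F.aug (F.d 0) (hF 0) (le_of_eq F.exact_zero) b
    · refine notMem_span_of_ker_le _ h1 (fun b' a => F.d i a b') (F.d (i + 1)) (hF (i + 1)) ?_ b
      intro v hv
      rw [← F.exact_succ i]
      rw [LinearMap.mem_ker, linearCombination_cols] at hv
      exact LinearMap.mem_ker.mpr hv
  · rintro ⟨hA, hB⟩ i a b
    by_contra hnot
    have hu : IsUnit (F.d i a b) :=
      isUnit_of_mem_stdGr_of_notMem_irrel (Fin (r + 1)) k (F.d_mem i a b) hnot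
    cases i with
    | zero =>
      have hmem : (F.d 0).mulVec (Pi.single b 1) ∈ LinearMap.range (Matrix.mulVecLin (F.d 0)) :=
        ⟨_, rfl⟩
      rw [← F.exact_zero, LinearMap.mem_ker, Fintype.linearCombination_apply] at hmem
      simp only [Matrix.mulVec_single_one] at hmem
      exact hA a (mem_span_of_isUnit F.aug (fun a' => F.d 0 a' b) hmem a hu)
    | succ j =>
      have hmem : (F.d (j + 1)).mulVec (Pi.single b 1) ∈
          LinearMap.range (Matrix.mulVecLin (F.d (j + 1))) := ⟨_, rfl⟩
      rw [← F.exact_succ j, LinearMap.mem_ker, Matrix.mulVecLin_apply, ← linearCombination_cols,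
        Fintype.linearCombination_apply] at hmem
      simp only [Matrix.mulVec_single_one] at hmem
      exact hB j a (mem_span_of_isUnit (fun b' a' => F.d j a' b') (fun a' => F.d (j + 1) a' b)
        hmem a hu)

end Groth.Agent.S15427
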