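import Groth.Statements.S15433
import Groth.Agent.Lib.GrFinLen
import Groth.Agent.Lib.GrCone
import Groth.Agent.Lib.GrCyclic

set_option autoImplicit false
universe u
open GrSyz

namespace Groth.Agent.S15433

open DirectSum MvPolynomial in
/-- a graded linear map commutes with taking components -/
theorem decompose_map' {R : Type u} [CommRing R] {A B : Type u} [AddCommGroup A] [Module R A]
    [AddCommGroup B] [Module R B] {τ τ' : Type u} [SetLike τ A] [AddSubgroupClass τ A]
    [SetLike τ' B] [AddSubgroupClass τ' B] (𝒜 : ℤ → τ) (ℬ : ℤ → τ')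
    [DirectSum.Decomposition 𝒜] [DirectSum.Decomposition ℬ] (f : A →ₗ[R] B)
    (hf : GrLC.IsGrHom 𝒜 ℬ f) (a : A) (j : ℤ) :
    (DirectSum.decompose ℬ (f a) j : B) = f (DirectSum.decompose 𝒜 a j : A) := by
  classical
  conv_lhs => rw [← DirectSum.sum_support_decompose 𝒜 a]
  rw [map_sum, DirectSum.decompose_sum, DFinsupp.finsetSum_apply, AddSubmonoidClass.coe_finsetSum]
  by_cases hj : j ∈ (DirectSum.decompose 𝒜 a).support
  · rw [Finset.sum_eq_single_of_mem j hj]
    · exact DirectSum.decompose_of_mem_same ℬ (hf j _ (DirectSum.decompose 𝒜 a j).2)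
    · intro i _ hij
      exact DirectSum.decompose_of_mem_ne ℬ (hf i _ (DirectSum.decompose 𝒜 a i).2) hij
  · rw [DFinsupp.notMem_support_iff] at hj
    rw [hj, ZeroMemClass.coe_zero, map_zero]
    refine Finset.sum_eq_zero fun i hi => ?_
    have hij : i ≠ j := by
      rintro rfl
      exact (DFinsupp.mem_support_iff.1 hi) hj
    exact DirectSum.decompose_of_mem_ne ℬ (hf i _ (DirectSum.decompose 𝒜 a i).2) hij

open DirectSum MvPolynomial in
/-- the degree-one component of a multiple of an element of the ideal generated by linear forms `ys`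
lies in the `k`-span of `ys` -/
theorem decompose_one_mem_span {k : Type u} [Field k] {r : ℕ} (ys : List (MvPolynomial (Fin (r + 1)) k))
    (hys : ∀ y ∈ ys, y ∈ GrSyz.stdGr k (Fin (r + 1)) 1) (a : MvPolynomial (Fin (r + 1)) k)
    (ha : a ∈ Ideal.ofList ys) (s : MvPolynomial (Fin (r + 1)) k) :
    ((DirectSum.decompose (GrSyz.stdGr k (Fin (r + 1))) (a * s) 1 : GrSyz.stdGr k (Fin (r + 1)) 1) :
      MvPolynomial (Fin (r + 1)) k) ∈ Submodule.span k {y | y ∈ ys} := by
  classical
  revert s
  refine Submodule.span_induction (p := fun a _ => ∀ s : MvPolynomial (Fin (r + 1)) k,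
    ((DirectSum.decompose (GrSyz.stdGr k (Fin (r + 1))) (a * s) 1 : GrSyz.stdGr k (Fin (r + 1)) 1) :
      MvPolynomial (Fin (r + 1)) k) ∈ Submodule.span k {y | y ∈ ys}) ?_ ?_ ?_ ?_ ha
  · intro y hy s
    have h1 : ((DirectSum.decompose (GrSyz.stdGr k (Fin (r + 1))) (y * s) (1 + 0) :
        GrSyz.stdGr k (Fin (r + 1)) (1 + 0)) : MvPolynomial (Fin (r + 1)) k) =
        y * (DirectSum.decompose (GrSyz.stdGr k (Fin (r + 1))) s 0 : MvPolynomial (Fin (r + 1)) k) :=
      DirectSum.coe_decompose_mul_add_of_left_mem _ (hys y hy)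
    rw [add_zero] at h1
    rw [h1, Groth.Agent.Lib.GrLength.coe_decompose_zero, mul_comm, MvPolynomial.C_mul']
    exact Submodule.smul_mem _ _ (Submodule.subset_span hy)
  · intro s
    rw [zero_mul, DirectSum.decompose_zero]
    exact Submodule.zero_mem _
  · intro a b _ _ hA hB s
    rw [add_mul, DirectSum.decompose_add, DirectSum.add_apply, Submodule.coe_add]
    exact Submodule.add_mem _ (hA s) (hB s)
  · intro c a _ hA s
    rw [smul_eq_mul, mul_comm c a, mul_assoc]
    exact hA (c * s)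


/-- Let k be a field, S = k[x_0, …, x_r] graded by degree, 𝔪 = (x_0, …, x_r), and M = S/I a graded
quotient of S, given with a surjective degree-preserving S-linear map π : S → M whose kernel I
contains no nonzero linear form. Let y_0, …, y_t be linear forms forming a weakly regular sequence
on M (each a non-zerodivisor modulo the previous ones) and N = M/(y_0, …, y_t)M, given as a graded
module with a surjective degree-preserving S-linear map σ : M → N with kernel (y_0, …, y_t)M, and
suppose N has finite length ℓ. Then reg M + (r − t) ≤ ℓ, reg being the Castelnuovo–Mumford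
regularity of M in the sense of minimal graded free resolutions. (The published statement is reg S_X
≤ deg X − codim X for an arithmetically Cohen–Macaulay subvariety X of P^r not contained in a
hyperplane; this row is the algebraic statement its proof establishes, with S_X any graded quotient
of S by an ideal without linear forms, the maximal regular sequence of linear forms given, deg X
replaced by the length of S_X/(y_0, …, y_t)S_X and codim X by r − t, which agree with the degree and
the codimension in that situation.) -/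
theorem result (k : Type u) [Field k] (r : ℕ)
    (M : Type u) [AddCommGroup M] [Module k M] [Module (MvPolynomial (Fin (r + 1)) k) M]
    [IsScalarTower k (MvPolynomial (Fin (r + 1)) k) M] [Module.Finite (MvPolynomial (Fin (r + 1)) k) M]
    (ℳ : ℤ → Submodule k M) [DirectSum.Decomposition ℳ] [SetLike.GradedSMul (GrSyz.stdGr k (Fin (r + 1))) ℳ]
    (π : MvPolynomial (Fin (r + 1)) k →ₗ[MvPolynomial (Fin (r + 1)) k] M) (hπ : Function.Surjective π)
    (hπg : GrLC.IsGrHom (GrSyz.stdGr k (Fin (r + 1))) ℳ π)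
    (hlin : ∀ x : MvPolynomial (Fin (r + 1)) k, x ∈ GrSyz.stdGr k (Fin (r + 1)) 1 → π x = 0 → x = 0)
    (ys : List (MvPolynomial (Fin (r + 1)) k)) (hys : ∀ y ∈ ys, y ∈ GrSyz.stdGr k (Fin (r + 1)) 1)
    (hreg : RingTheory.Sequence.IsWeaklyRegular M ys)
    (N : Type u) [AddCommGroup N] [Module k N] [Module (MvPolynomial (Fin (r + 1)) k) N]
    [IsScalarTower k (MvPolynomial (Fin (r + 1)) k) N]
    (𝒩 : ℤ → Submodule k N) [DirectSum.Decomposition 𝒩] [SetLike.GradedSMul (GrSyz.stdGr k (Fin (r + 1))) 𝒩]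
    (σ : M →ₗ[MvPolynomial (Fin (r + 1)) k] N) (hσ : Function.Surjective σ) (hσg : GrLC.IsGrHom ℳ 𝒩 σ)
    (hker : LinearMap.ker σ = Ideal.ofList ys • (⊤ : Submodule (MvPolynomial (Fin (r + 1)) k) M))
    (ℓ : ℕ) (hℓ : Module.length (MvPolynomial (Fin (r + 1)) k) N = (ℓ : ℕ∞)) :
    GrSyz.reg (GrSyz.stdGr k (Fin (r + 1))) ℳ (GrSyz.irrel (GrSyz.stdGr k (Fin (r + 1)))).toIdeal + ((((r : ℤ) + 1 - (ys.length : ℤ) : ℤ) : WithTop ℤ) : WithBot (WithTop ℤ)) ≤
      (((ℓ : ℤ) : WithTop ℤ) : WithBot (WithTop ℤ)) := by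
  classical
  have hfinN : Module.Finite (MvPolynomial (Fin (r + 1)) k) N := Module.Finite.of_surjective σ hσ
  have hflN : IsFiniteLength (MvPolynomial (Fin (r + 1)) k) N :=
    Module.length_ne_top_iff.1 (by rw [hℓ]; exact ENat.natCast_ne_top ℓ)
  have hA : IsArtinian (MvPolynomial (Fin (r + 1)) k) N :=
    (isFiniteLength_iff_isNoetherian_isArtinian.1 hflN).2
  obtain ⟨F, hF⟩ := Groth.Agent.Lib.GrFreeRes.exists_freeRes_isMinimal k r M ℳ
  have hysI : ∀ y ∈ ys, y ∈ (GrSyz.irrel (GrSyz.stdGr k (Fin (r + 1)))).toIdeal := fun y hy =>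
    Ideal.subset_span (s := {p : MvPolynomial (Fin (r + 1)) k | ∃ n : ℤ, 0 < n ∧
      p ∈ GrSyz.stdGr k (Fin (r + 1)) n}) ⟨1, one_pos, hys y hy⟩
  obtain ⟨G, hG, hGF⟩ := Groth.Agent.Lib.GrCone.exists_freeRes_of_isWeaklyRegular F _ hF ys hys hysI
    hreg σ hσ hσg hker
  have hreg_eq : GrSyz.reg (GrSyz.stdGr k (Fin (r + 1))) ℳ
      (GrSyz.irrel (GrSyz.stdGr k (Fin (r + 1)))).toIdeal =
      GrLC.endDeg (fun d => (𝒩 d).toAddSubgroup) := by
    rw [← Groth.Agent.Lib.GrFinLen.reg_eq_endDeg (n := r) (ℳ := 𝒩)]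
    unfold GrSyz.reg
    refine iInf_congr fun s => iInf_congr_Prop ?_ fun _ => rfl
    rw [Groth.Agent.Lib.GrReg.isRegLE_iff_isGenLE F hF,
      Groth.Agent.Lib.GrReg.isRegLE_iff_isGenLE G hG, hGF]
  rw [hreg_eq]
  have hfinp : ∀ j, Module.Finite k (𝒩 j) := fun j => Groth.Agent.Lib.GrFinLen.finite_piece G j
  -- the generator
  have h1mem : (1 : MvPolynomial (Fin (r + 1)) k) ∈ GrSyz.stdGr k (Fin (r + 1)) 0 :=
    SetLike.GradedOne.one_mem
  have hν0 : σ (π 1) ∈ 𝒩 0 := hσg 0 _ (hπg 0 1 h1mem)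
  have hπs : ∀ s : MvPolynomial (Fin (r + 1)) k, s • σ (π 1) = σ (π s) := by
    intro s
    rw [← map_smul, ← map_smul, smul_eq_mul, mul_one]
  have hν : ∀ x : N, ∃ s : MvPolynomial (Fin (r + 1)) k, s • σ (π 1) = x := by
    intro x
    obtain ⟨m, rfl⟩ := hσ x
    obtain ⟨s, rfl⟩ := hπ m
    exact ⟨s, hπs s⟩
  by_cases hN0 : ∀ j, 𝒩 j = ⊥
  · have hbot : GrLC.endDeg (fun d => (𝒩 d).toAddSubgroup) = ⊥ :=
      Groth.Agent.Lib.GrReg.eq_bot_of_forall_le _ fun s =>
        (Groth.Agent.Lib.GrFinLen.endDeg_le_iff s).2 fun d _ => hN0 d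
    rw [hbot, WithBot.bot_add]
    exact bot_le
  · push Not at hN0
    obtain ⟨j₁, hj₁⟩ := hN0
    obtain ⟨d₀, hd₀⟩ := Groth.Agent.Lib.GrFinLen.eventually_eq_bot (n := r) (ℳ := 𝒩)
    obtain ⟨d', hd', hmax⟩ := Int.exists_greatest_of_bdd (P := fun j => 𝒩 j ≠ ⊥)
      ⟨d₀, fun z hz => by
        by_contra h
        exact hz (hd₀ z (by omega))⟩ ⟨j₁, hj₁⟩
    have hd'0 : 0 ≤ d' := by
      by_contra h
      exact hd' (Groth.Agent.Lib.GrCyclic.eq_bot_of_neg (n := r) _ hν0 hν (by omega))
    obtain ⟨d, rfl⟩ : ∃ d : ℕ, d' = d := ⟨d'.toNat, by omega⟩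
    have htop : ∀ j : ℤ, (d : ℤ) < j → 𝒩 j = ⊥ := fun j hj => by
      by_contra h
      have := hmax j h
      omega
    -- the span of the linear forms
    have hVeq : Submodule.span k {y | y ∈ ys} =
        Submodule.span k (↑ys.toFinset : Set (MvPolynomial (Fin (r + 1)) k)) := by
      congr 1
      ext y
      simp
    have hVfin : Module.Finite k (Submodule.span k {y | y ∈ ys}) := by
      rw [hVeq]; infer_instance
    have hVrank : Module.finrank k (Submodule.span k {y | y ∈ ys}) ≤ ys.length := by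
      rw [hVeq]
      exact le_trans (finrank_span_finset_le_card ys.toFinset) (List.toFinset_card_le ys)
    have hVle : Submodule.span k {y | y ∈ ys} ≤ GrSyz.stdGr k (Fin (r + 1)) 1 :=
      Submodule.span_le.2 fun y hy => hys y hy
    have hV : ∀ p ∈ GrSyz.stdGr k (Fin (r + 1)) 1, p • σ (π 1) = 0 →
        p ∈ Submodule.span k {y | y ∈ ys} := by
      intro p hp hp0
      rw [hπs] at hp0
      have hker' : π p ∈ Ideal.ofList ys • (⊤ : Submodule (MvPolynomial (Fin (r + 1)) k) M) := by
        rw [← hker]; exact hp0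
      have hstar : (DirectSum.decompose ℳ (π p) 1 : M) ∈
          (Submodule.span k {y | y ∈ ys}).map (π.restrictScalars k) := by
        refine Submodule.smul_induction_on (p := fun z => (DirectSum.decompose ℳ z 1 : M) ∈
          (Submodule.span k {y | y ∈ ys}).map (π.restrictScalars k)) hker' ?_ ?_
        · intro a ha m _
          obtain ⟨s, rfl⟩ := hπ m
          rw [← map_smul, smul_eq_mul, decompose_map' (GrSyz.stdGr k (Fin (r + 1))) ℳ π hπg]
          exact ⟨_, decompose_one_mem_span ys hys a ha s, rfl⟩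
        · intro x y hx hy
          rw [DirectSum.decompose_add, DirectSum.add_apply, Submodule.coe_add]
          exact Submodule.add_mem _ hx hy
      rw [DirectSum.decompose_of_mem_same ℳ (hπg 1 p hp)] at hstar
      obtain ⟨w, hw, hwp⟩ := hstar
      have hpw : p - w = 0 := by
        apply hlin
        · exact Submodule.sub_mem _ hp (hVle hw)
        · rw [map_sub]
          have : π w = π p := hwp
          rw [this, sub_self]
      rw [sub_eq_zero.1 hpw]
      exact hw
    have h1 := Groth.Agent.Lib.GrCyclic.le_finrank_one (n := r) (𝒩 := 𝒩) _ hν0 hν _ hV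
    have h2 := Groth.Agent.Lib.GrCyclic.add_le_length (n := r) (𝒩 := 𝒩) _ hν0 hν d hd' htop ℓ hℓ
    have hle : GrLC.endDeg (fun d => (𝒩 d).toAddSubgroup) ≤
        (((d : ℤ) : WithTop ℤ) : WithBot (WithTop ℤ)) :=
      (Groth.Agent.Lib.GrFinLen.endDeg_le_iff (d : ℤ)).2 htop
    refine le_trans (add_le_add_left hle _) ?_
    rw [← WithBot.coe_add, WithBot.coe_le_coe, ← WithTop.coe_add, WithTop.coe_le_coe]
    omega

end Groth.Agent.S15433
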