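import Groth.Statements.S1544
import Groth.Agent.Lib.H71GeomRedAt2
import Mathlib.AlgebraicGeometry.FunctionField

set_option autoImplicit false
universe u
open CategoryTheory CategoryTheory.Limits AlgebraicGeometry
attribute [local instance] Curv2.resAlgebra Curv2.stalkAlgebra
open Variety

namespace Groth.Agent.S1544

/-- For an integral scheme over k, geometric reducedness of the scheme is equivalent to geometric
reducedness over k of the function field (the local ring at the generic point), i.e. a separable
extension of k in the sense of commutative algebra. The source states this for varieties;
integrality is what the proof uses. -/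
theorem result (k : Type u) [Field k] (X : Scheme.{u}) [X.Over (Spec (CommRingCat.of k))] [IsIntegral X] :
    GeometricallyReduced (X ↘ (Spec (CommRingCat.of k))) ↔ Algebra.IsGeometricallyReduced k X.functionField := by
  constructor
  · intro hgeo
    exact Groth.Agent.Lib.H71GeomRedAt.isGeometricallyReduced_of_isGeomReducedAt k X (genericPoint X)
      (Groth.Agent.Lib.H71GeomRedAt.isGeomReducedAt_of_geometricallyReduced k X _)
  · intro hK
    apply Groth.Agent.Lib.H71GeomRedAt.geometricallyReduced_of_forall_isGeomReducedAt
    intro x
    let φ : X.presheaf.stalk x →ₐ[k] X.functionField :=
      { (X.presheaf.stalkSpecializes ((genericPoint_spec X).specializes trivial)).hom with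
        commutes' := fun c => by
          change (X.presheaf.stalkSpecializes _).hom ((X.presheaf.germ ⊤ x trivial).hom
            (Coh.toGlobal (X ↘ Spec (CommRingCat.of k)) c)) =
            (X.presheaf.germ ⊤ (genericPoint X) trivial).hom
              (Coh.toGlobal (X ↘ Spec (CommRingCat.of k)) c)
          rw [← CommRingCat.comp_apply, TopCat.Presheaf.germ_stalkSpecializes] }
    have hφ : Function.Injective φ := IsFractionRing.injective (X.presheaf.stalk x) X.functionField
    haveI : Algebra.IsGeometricallyReduced k (X.presheaf.stalk x) :=
      Algebra.IsGeometricallyReduced.of_injective φ hφ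
    exact Groth.Agent.Lib.H71GeomRedAt.isGeomReducedAt_of_isGeometricallyReduced k X x

end Groth.Agent.S1544
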