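import Groth.Statements.S15458
import Groth.Agent.Lib.H73WeilDim
import Groth.Agent.Lib.WeilCohPush
import Groth.Agent.Lib.ProjSpaceProper

set_option autoImplicit false
universe u v
open CategoryTheory AlgebraicGeometry
open WeilCoh

namespace Groth.Agent.S15458

open Groth.Agent.Lib.H73WeilDim Groth.Agent.Lib.WeilCohPush Groth.Agent.Lib.H30DimField

theorem lft_of_isVar {k : Type u} [Field k] (X : WeilCoh.Var k) :
    LocallyOfFiniteType X.obj.hom := by
  haveI : Smooth X.obj.hom := X.property.1
  infer_instance

theorem compactSpace_of_isVar {k : Type u} [Field k] (X : WeilCoh.Var k) :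
    CompactSpace ↥X.obj.left := by
  obtain ⟨n, i, hi, hcomp⟩ := X.property.2.1
  haveI := Groth.Agent.Lib.ProjSpaceProper.isProper_toBase n (Spec (CommRingCat.of k))
  haveI : IsProper X.obj.hom := by
    rw [← hcomp]
    infer_instance
  exact QuasiCompact.compactSpace_of_compactSpace X.obj.hom

/-- a weight function compatible with weight `0` on `Spec k` is `td` -/
theorem delta_eq_td {k : Type u} [Field k] (Z : Scheme.{u}) [Z.Over (Spec (CommRingCat.of k))]
    [LocallyOfFiniteType (Z ↘ Spec (CommRingCat.of k))] (δ : Z → ℤ)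
    (hδ : Cyc.DeltaCompat (Z ↘ Spec (CommRingCat.of k)) δ (fun _ => 0)) (z : Z) :
    δ z = td k Z z := by
  obtain ⟨n, hn, hδn⟩ := hδ z
  obtain ⟨n', hn', hδn'⟩ := deltaCompat k Z z
  rw [hn] at hn'
  have : n = n' := by exact_mod_cast hn'
  rw [hδn, hδn', this]

/-- pushing forward a finitely supported function and pairing with `g` -/
theorem finsum_map_smul {X Y : Type u} [TopologicalSpace X] [TopologicalSpace Y]
    [PrespectralSpace Y] {f : X → Y} (hf : IsSpectralMap f) (w : X → ℤ)
    (c : Function.locallyFinsupp X ℤ) (hc : (Function.support c).Finite)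
    {K : Type v} [Field K] {M : Type*} [AddCommGroup M] [Module K M] (g : Y → M) :
    ∑ᶠ z, ((Function.locallyFinsupp.map f w hf c z : ℤ) : K) • g z =
      ∑ x ∈ hc.toFinset, ((c x * w x : ℤ) : K) • g (f x) := by
  classical
  set A := hc.toFinset with hA
  have hval : ∀ z, Function.locallyFinsupp.map f w hf c z =
      ∑ x ∈ A.filter (fun x => f x = z), c x * w x := by
    intro z
    rw [Function.locallyFinsupp.map_apply]
    apply finsum_mem_eq_sum_of_inter_support_eq
    ext x
    simp only [Set.mem_inter_iff, Set.mem_preimage, Set.mem_singleton_iff, Function.mem_support,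
      Finset.coe_filter, Set.mem_setOf_eq, hA, Set.Finite.mem_toFinset]
    constructor
    · rintro ⟨h1, h2⟩
      exact ⟨⟨fun h0 => h2 (by rw [h0, zero_mul]), h1⟩, h2⟩
    · rintro ⟨⟨-, h1⟩, h2⟩
      exact ⟨h1, h2⟩
  have hsupp : (Function.support fun z =>
      ((Function.locallyFinsupp.map f w hf c z : ℤ) : K) • g z) ⊆ ↑(A.image f) := by
    intro z hz
    rw [Function.mem_support] at hz
    by_contra hzA
    apply hz
    rw [hval z]
    have : A.filter (fun x => f x = z) = ∅ := by
      rw [Finset.filter_eq_empty_iff]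
      intro x hx hfx
      apply hzA
      rw [Finset.coe_image]
      exact ⟨x, hx, hfx⟩
    rw [this, Finset.sum_empty, Int.cast_zero, zero_smul]
  rw [finsum_eq_sum_of_support_subset _ hsupp]
  apply Finset.sum_image'
  intro x hx
  rw [hval (f x), Int.cast_sum, Finset.sum_smul]
  apply Finset.sum_congr rfl
  intro y hy
  rw [(Finset.mem_filter.mp hy).2]


/-- The cycle class map is compatible with push-forward: for a Weil cohomology theory H^* (coefficients
in K of characteristic zero, on nonsingular connected projective varieties over an algebraically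
closed field k), a morphism f : X → Y of such varieties and a cycle α on X, f_*(cl(α)) = cl(f_*(α)).
Stated through the identity characterising the cohomological push-forward: Tr_Y(cl(f_* α) ∪ β) =
Tr_X(cl(α) ∪ f^*(β)) for every β ∈ H^*(Y), where f_* α is the proper push-forward of cycles (the
coefficient of [V] goes to deg(V/f(V)) [f(V)], and to 0 when f(V) has smaller dimension) for the
dimension functions δ_X, δ_Y induced from weight 0 on Spec k. -/
theorem result (k : Type u) [Field k] [IsAlgClosed k] (K : Type v) [Field K] [CharZero K]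
    (T : WeilCoh.Theory k K) (X Y : WeilCoh.Var k) (f : X ⟶ Y)
    [QuasiCompact (WeilCoh.sm f)]
    (δX : ↥X.obj.left → ℤ) (hδX : Cyc.DeltaCompat X.obj.hom δX (fun _ => 0))
    (δY : ↥Y.obj.left → ℤ) (hδY : Cyc.DeltaCompat Y.obj.hom δY (fun _ => 0))
    (α : AlgebraicCycle X.obj.left ℤ) (b : T.H Y) :
    T.tr Y (T.clCyc Y (AlgebraicCycle.map (WeilCoh.sm f) δX δY α) * b) =
      T.tr X (T.clCyc X α * T.pull f b) := by
  letI : X.obj.left.Over (Spec (CommRingCat.of k)) := ⟨X.obj.hom⟩
  letI : Y.obj.left.Over (Spec (CommRingCat.of k)) := ⟨Y.obj.hom⟩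
  haveI : (sm f).IsOver (Spec (CommRingCat.of k)) := ⟨Over.w f.hom⟩
  haveI : LocallyOfFiniteType (X.obj.left ↘ Spec (CommRingCat.of k)) := lft_of_isVar X
  haveI : LocallyOfFiniteType (Y.obj.left ↘ Spec (CommRingCat.of k)) := lft_of_isVar Y
  haveI : IrreducibleSpace ↥X.obj.left := X.property.2.2
  haveI : IrreducibleSpace ↥Y.obj.left := Y.property.2.2
  haveI : CompactSpace ↥X.obj.left := compactSpace_of_isVar X
  have hδX' : ∀ x, δX x = td k X.obj.left x := delta_eq_td X.obj.left δX hδX
  have hδY' : ∀ y, δY y = td k Y.obj.left y := delta_eq_td Y.obj.left δY hδY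
  -- termwise identity
  have term : ∀ (x : X.obj.left) (b : T.H Y), T.tr X (T.cl X x * T.pull f b) =
      ((AlgebraicCycle.mapCoeff (sm f) δX δY x : ℕ) : K) * T.tr Y (T.cl Y (sm f x) * b) := by
    intro x b
    have hcX := codim_add_pdim k X.obj.left x
    have hcY := codim_add_pdim k Y.obj.left (sm f x)
    have e1 : (codim X.obj.left x : ℤ) + pdim X.obj.left x = dim X.obj.left := by
      exact_mod_cast hcX
    have e2 : (codim Y.obj.left (sm f x) : ℤ) + pdim Y.obj.left (sm f x) = dim Y.obj.left := by
      exact_mod_cast hcY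
    have hb : b ∈ (⨆ i, T.gr Y i) := by
      rw [(T.decomp Y).submodule_iSup_eq_top]; trivial
    refine Submodule.iSup_induction (T.gr Y) (motive := fun b => T.tr X (T.cl X x * T.pull f b) =
      ((AlgebraicCycle.mapCoeff (sm f) δX δY x : ℕ) : K) * T.tr Y (T.cl Y (sm f x) * b)) hb ?_ ?_ ?_
    · intro i b hbi
      unfold AlgebraicCycle.mapCoeff
      by_cases hi : i = 2 * (pdim X.obj.left x : ℤ)
      · subst hi
        rw [T.cl_push f x b hbi]
        split_ifs with hδ
        · rfl
        · have : (sm f).residueDegree x = 0 := by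
            by_contra hne
            apply hδ
            rw [hδX', hδY']
            exact td_eq_of_residueDegree_ne_zero k (sm f) x hne
          rw [this]
      · have hL : T.tr X (T.cl X x * T.pull f b) = 0 := by
          apply T.tr_vanish X (2 * (codim X.obj.left x : ℤ) + i)
          · exact SetLike.mul_mem_graded (T.cl_mem X x) (T.pull_mem f i b hbi)
          · omega
        rw [hL]
        split_ifs with hδ
        · have hp : pdim Y.obj.left (sm f x) = pdim X.obj.left x := by
            rw [pdim_eq k, pdim_eq k]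
            rw [hδX', hδY'] at hδ
            rw [hδ]
          have hR : T.tr Y (T.cl Y (sm f x) * b) = 0 := by
            apply T.tr_vanish Y (2 * (codim Y.obj.left (sm f x) : ℤ) + i)
            · exact SetLike.mul_mem_graded (T.cl_mem Y (sm f x)) hbi
            · rw [hp] at e2
              omega
          rw [hR, mul_zero]
        · simp
    · simp
    · intro b₁ b₂ h₁ h₂
      simp only [map_add, mul_add]
      rw [h₁, h₂]
  -- finite support
  have hfin : (Function.support α).Finite := by
    have := α.locallyFiniteSupport.finite_inter_support_of_isCompact isCompact_univ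
    rwa [Set.univ_inter] at this
  have hL : T.clCyc Y (AlgebraicCycle.map (WeilCoh.sm f) δX δY α) =
      ∑ x ∈ hfin.toFinset, ((α x * ((AlgebraicCycle.mapCoeff (sm f) δX δY x : ℕ) : ℤ) : ℤ) : K) •
        T.cl Y (sm f x) := by
    unfold TheoryOn.clCyc AlgebraicCycle.map
    exact finsum_map_smul _ _ α hfin (T.cl Y)
  have hR : T.clCyc X α = ∑ x ∈ hfin.toFinset, ((α x : ℤ) : K) • T.cl X x := by
    unfold TheoryOn.clCyc
    apply finsum_eq_sum_of_support_subset
    intro x hx
    rw [Function.mem_support] at hx
    rw [Set.Finite.coe_toFinset, Function.mem_support]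
    intro h0
    apply hx
    rw [h0, Int.cast_zero, zero_smul]
  rw [hL, hR, Finset.sum_mul, Finset.sum_mul, map_sum, map_sum]
  apply Finset.sum_congr rfl
  intro x _
  rw [smul_mul_assoc, smul_mul_assoc, map_smul, map_smul, term x b]
  simp only [smul_eq_mul, Int.cast_mul, Int.cast_natCast]
  ring

end Groth.Agent.S15458
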