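import Groth.Statements.S15459
import Groth.Agent.S15458
import Groth.Agent.Lib.H73WeilPt

set_option autoImplicit false
universe u v
open CategoryTheory AlgebraicGeometry
open WeilCoh

namespace Groth.Agent.S15459

open Groth.Agent.Lib.H73WeilDim Groth.Agent.Lib.WeilCohPush Groth.Agent.Lib.H30DimField
  Groth.Agent.Lib.H73WeilPt

/-- the zero weight on the point is compatible -/
theorem deltaCompat_pt (k : Type u) [Field k] [IsAlgClosed k] :
    Cyc.DeltaCompat (pt k).obj.hom (fun _ => (0 : ℤ)) (fun _ => 0) := by
  letI : (pt k).obj.left.Over (Spec (CommRingCat.of k)) := ⟨(pt k).obj.hom⟩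
  haveI : LocallyOfFiniteType ((pt k).obj.left ↘ Spec (CommRingCat.of k)) := lft_of_isVar k (pt k)
  intro x
  obtain ⟨n, hn, hδn⟩ := deltaCompat k (pt k).obj.left x
  refine ⟨n, hn, ?_⟩
  have hx : IsClosed ({x} : Set (pt k).obj.left) := by
    have : ({x} : Set (pt k).obj.left) = Set.univ := by
      ext y
      simp only [Set.mem_singleton_iff, Set.mem_univ, iff_true]
      exact Subsingleton.elim (α := ↥(Spec (CommRingCat.of k))) y x
    rw [this]
    exact isClosed_univ
  rw [td_eq_zero_of_isClosed k (pt k).obj.left x hx] at hδn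
  exact hδn

/-- the trace of the class of a zero-cycle is its degree (no hypothesis on the cycle needed) -/
theorem tr_clCyc_eq_deg (k : Type u) [Field k] [IsAlgClosed k] (K : Type v) [Field K] [CharZero K]
    (T : WeilCoh.Theory k K) (X : WeilCoh.Var k) [QuasiCompact X.obj.hom]
    (δ : ↥X.obj.left → ℤ) (hδ : Cyc.DeltaCompat X.obj.hom δ (fun _ => 0))
    (α : AlgebraicCycle X.obj.left ℤ) :
    (ChowOps.deg X.obj.hom δ α : K) = T.tr X (T.clCyc X α) := by
  haveI : QuasiCompact (sm (toPt k X)) := ‹QuasiCompact X.obj.hom›
  have h := Groth.Agent.S15458.result k K T X (pt k) (toPt k X) δ hδ (fun _ => 0)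
    (deltaCompat_pt k) α 1
  rw [map_one, mul_one, mul_one] at h
  rw [← h]
  unfold TheoryOn.clCyc
  letI : Unique ↥(pt k).obj.left :=
    { default := IsLocalRing.closedPoint k
      uniq := fun w => Subsingleton.elim (α := ↥(Spec (CommRingCat.of k))) _ _ }
  rw [finsum_unique, (T.point (pt k) (dim_pt k)).1, map_smul, (T.point (pt k) (dim_pt k)).2]
  simp only [smul_eq_mul, mul_one]
  rfl


/-- In the case r = 1, to which the general case reduces once the cycle class map is known to be a ring
homomorphism: for a Weil cohomology theory H^* (coefficients in K of characteristic zero, on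
nonsingular connected projective varieties over an algebraically closed field k), such a variety X
and a 0-cycle α on X, the intersection number (α) = deg(α) equals Tr_X(cl(α)). The dimension
function δ on X is the one induced from weight 0 on Spec k and deg is the degree of 0-cycles over k. -/
theorem result (k : Type u) [Field k] [IsAlgClosed k] (K : Type v) [Field K] [CharZero K]
    (T : WeilCoh.Theory k K) (X : WeilCoh.Var k) [QuasiCompact X.obj.hom]
    (δ : ↥X.obj.left → ℤ) (hδ : Cyc.DeltaCompat X.obj.hom δ (fun _ => 0))
    (α : AlgebraicCycle X.obj.left ℤ) (hα : α ∈ Cyc.Zk X.obj.left δ 0) :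
    (ChowOps.deg X.obj.hom δ α : K) = T.tr X (T.clCyc X α) := by
  exact tr_clCyc_eq_deg k K T X δ hδ α

end Groth.Agent.S15459
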