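import Groth.Statements.S15441
import Groth.Agent.S15459

set_option autoImplicit false
universe u v
open WeilCoh

namespace Groth.Agent.S15441

open Groth.Agent.Lib.H73WeilDim Groth.Agent.Lib.WeilCohPush Groth.Agent.Lib.H30DimField
  Groth.Agent.Lib.H73WeilPt

open AlgebraicGeometry CategoryTheory in

open AlgebraicGeometry CategoryTheory in
/-- Let k be an algebraically closed field of characteristic zero, K a field of characteristic zero and
T a Weil cohomology theory over k with coefficients in K, defined on connected smooth projective
varieties over k; let X be such a variety, δ the weight function on X induced from weight 0 on the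
point Spec k, and α a zero-cycle on X for δ. Then α is homologically equivalent to zero for T, i.e.
its cycle class in the cohomology of X vanishes, if and only if the degree of α over k is zero. -/
theorem result (k : Type u) [Field k] [IsAlgClosed k]
    [CharZero k] (K : Type v) [Field K] [CharZero K] (T : WeilCoh.Theory k K) (X : WeilCoh.Var k)
    [QuasiCompact X.obj.hom] (δ : ↥X.obj.left → ℤ) (hδ : Cyc.DeltaCompat X.obj.hom δ (fun _ => 0))
    (α : AlgebraicCycle X.obj.left ℤ) (hα : α ∈ Cyc.Zk X.obj.left δ 0) :
    T.IsHomEquivZero X α ↔ ChowOps.deg X.obj.hom δ α = 0 := by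
  letI : X.obj.left.Over (Spec (CommRingCat.of k)) := ⟨X.obj.hom⟩
  haveI : LocallyOfFiniteType (X.obj.left ↘ Spec (CommRingCat.of k)) := lft_of_isVar k X
  haveI : IrreducibleSpace ↥X.obj.left := X.property.2.2
  have hdeg := Groth.Agent.S15459.result k K T X δ hδ α hα
  have hδ' : ∀ x, δ x = td k X.obj.left x := Groth.Agent.S15458.delta_eq_td X.obj.left δ hδ
  have hmem : T.clCyc X α ∈ T.gr X (2 * (dim X.obj.left : ℤ)) := by
    unfold TheoryOn.clCyc
    refine finsum_induction (fun a => a ∈ T.gr X (2 * (dim X.obj.left : ℤ))) (Submodule.zero_mem _)
      (fun a b ha hb => Submodule.add_mem _ ha hb) (fun x => ?_)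
    by_cases hx : α x = 0
    · rw [hx, Int.cast_zero, zero_smul]
      exact Submodule.zero_mem _
    · apply Submodule.smul_mem
      have h0 : δ x = 0 := by
        by_contra hne
        exact hx (hα x hne)
      have hp : pdim X.obj.left x = 0 := by
        rw [pdim_eq k, ← hδ' x, h0]
        rfl
      have hc : codim X.obj.left x = dim X.obj.left := by
        have := codim_add_pdim k X.obj.left x
        omega
      have := T.cl_mem X x
      rw [hc] at this
      exact this
  unfold TheoryOn.IsHomEquivZero
  constructor
  · intro h
    rw [h, map_zero] at hdeg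
    exact_mod_cast hdeg
  · intro h
    rw [h, Int.cast_zero] at hdeg
    have hinj := (T.tr_bijective X).1
    have : (⟨T.clCyc X α, hmem⟩ : T.gr X (2 * (dim X.obj.left : ℤ))) = 0 := by
      apply hinj
      rw [map_zero]
      exact hdeg.symm
    exact congrArg Subtype.val this

end Groth.Agent.S15441
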