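import Groth.Statements.S15444
import Groth.Agent.Lib.H73WeilPt

set_option autoImplicit false
universe u v
open CategoryTheory AlgebraicGeometry
open WeilCoh

namespace Groth.Agent.S15444

open Groth.Agent.Lib.H73WeilDim Groth.Agent.Lib.WeilCohPush Groth.Agent.Lib.H30DimField
  Groth.Agent.Lib.H73WeilPt


/-- For a Weil cohomology theory H^* (coefficients in K of characteristic zero, on nonsingular connected
projective varieties over an algebraically closed field k), such a variety X and a closed point x ∈
X, one has Tr_X(cl(x)) = 1. -/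
theorem result (k : Type u) [Field k] [IsAlgClosed k] (K : Type v) [Field K] [CharZero K]
    (T : WeilCoh.Theory k K) (X : WeilCoh.Var k) (x : ↥X.obj.left)
    (hx : IsClosed ({x} : Set ↥X.obj.left)) : T.tr X (T.cl X x) = 1 := by
  letI : X.obj.left.Over (Spec (CommRingCat.of k)) := ⟨X.obj.hom⟩
  haveI : LocallyOfFiniteType (X.obj.left ↘ Spec (CommRingCat.of k)) := lft_of_isVar k X
  have hp : pdim X.obj.left x = 0 := by
    rw [pdim_eq k, td_eq_zero_of_isClosed k X.obj.left x hx]
    rfl
  have h1 : (1 : T.H (pt k)) ∈ T.gr (pt k) (2 * (pdim X.obj.left x : ℤ)) := by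
    rw [hp]
    exact SetLike.one_mem_graded (T.gr (pt k))
  have h2 := T.cl_push (toPt k X) x 1 h1
  rw [map_one, mul_one, mul_one] at h2
  rw [h2]
  have h3 := T.point (pt k) (dim_pt k)
  rw [h3.1, h3.2, mul_one]
  have h4 : (sm (toPt k X)).residueDegree x = 1 := residueDegree_eq_one k X x hx
  rw [h4]
  simp

end Groth.Agent.S15444
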