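import Groth.Statements.S15448
import Groth.Agent.Lib.H73WeilDim
import Groth.Agent.Lib.WeilCohPush

set_option autoImplicit false
universe u v
open CategoryTheory AlgebraicGeometry
open WeilCoh

namespace Groth.Agent.S15448

open Groth.Agent.Lib.H73WeilDim Groth.Agent.Lib.WeilCohPush

/-- the Over/lft/irreducible structure on the underlying scheme of a variety -/
theorem lft_of_isVar {k : Type u} [Field k] (X : WeilCoh.Var k) :
    LocallyOfFiniteType X.obj.hom := by
  haveI : Smooth X.obj.hom := X.property.1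
  infer_instance


/-- For a Weil cohomology theory H^* (coefficients in K of characteristic zero, on nonsingular connected
projective varieties over an algebraically closed field k), a morphism f : X → Y of such varieties
and an irreducible closed subvariety Z ⊆ X, f_*(cl(Z)) = deg(Z/f(Z)) · cl(f(Z)). Here Z is given by
its generic point ξ, f(Z) is the closed irreducible subset with generic point f(ξ), and deg(Z/f(Z))
is the degree of κ(ξ) over κ(f(ξ)), equal to 0 when this extension is infinite, i.e. when dim f(Z) <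
dim Z; both sides are read in the total cohomology ring of Y. -/
theorem result (k : Type u) [Field k] [IsAlgClosed k] (K : Type v) [Field K] [CharZero K]
    (T : WeilCoh.Theory k K) (X Y : WeilCoh.Var k) (f : X ⟶ Y)
    (ξ : ↥X.obj.left) :
    (T.push f (2 * (WeilCoh.codim X.obj.left ξ : ℤ)) ⟨T.cl X ξ, T.cl_mem X ξ⟩ : T.H Y) =
      ((WeilCoh.sm f).residueDegree ξ : K) • T.cl Y (WeilCoh.sm f ξ) := by
  letI : X.obj.left.Over (Spec (CommRingCat.of k)) := ⟨X.obj.hom⟩
  letI : Y.obj.left.Over (Spec (CommRingCat.of k)) := ⟨Y.obj.hom⟩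
  haveI : (sm f).IsOver (Spec (CommRingCat.of k)) := ⟨Over.w f.hom⟩
  haveI : LocallyOfFiniteType (X.obj.left ↘ Spec (CommRingCat.of k)) := lft_of_isVar X
  haveI : LocallyOfFiniteType (Y.obj.left ↘ Spec (CommRingCat.of k)) := lft_of_isVar Y
  haveI : IrreducibleSpace ↥X.obj.left := X.property.2.2
  haveI : IrreducibleSpace ↥Y.obj.left := Y.property.2.2
  have hcX := codim_add_pdim k X.obj.left ξ
  have hcY := codim_add_pdim k Y.obj.left (sm f ξ)
  set D : ℤ := 2 * (codim X.obj.left ξ : ℤ) + 2 * (dim Y.obj.left : ℤ) - 2 * (dim X.obj.left : ℤ)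
    with hD
  have hL : (T.push f (2 * (WeilCoh.codim X.obj.left ξ : ℤ)) ⟨T.cl X ξ, T.cl_mem X ξ⟩ : T.H Y) ∈
      T.gr Y D := push_mem T f _ _ D rfl
  have hDj : D + 2 * (pdim X.obj.left ξ : ℤ) = 2 * (dim Y.obj.left : ℤ) := by
    rw [hD]
    have : (codim X.obj.left ξ : ℤ) + pdim X.obj.left ξ = dim X.obj.left := by exact_mod_cast hcX
    omega
  have key : ∀ b ∈ T.gr Y (2 * (pdim X.obj.left ξ : ℤ)),
      T.tr Y ((T.push f (2 * (WeilCoh.codim X.obj.left ξ : ℤ)) ⟨T.cl X ξ, T.cl_mem X ξ⟩ : T.H Y) * b) =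
        ((sm f).residueDegree ξ : K) * T.tr Y (T.cl Y (sm f ξ) * b) := by
    intro b hb
    rw [tr_push_mul' T f _ _ b (2 * (pdim X.obj.left ξ : ℤ)) (by
      have : (codim X.obj.left ξ : ℤ) + pdim X.obj.left ξ = dim X.obj.left := by exact_mod_cast hcX
      omega) hb]
    exact T.cl_push f ξ b hb
  by_cases hdeg : (sm f).residueDegree ξ = 0
  · rw [hdeg]
    simp only [Nat.cast_zero, zero_smul]
    refine eq_zero_of_forall_tr_mul T D _ hDj _ hL fun b hb => ?_
    rw [key b hb, hdeg]
    simp
  · have hp := pdim_map_eq_of_residueDegree_ne_zero k (sm f) ξ hdeg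
    have hR : ((sm f).residueDegree ξ : K) • T.cl Y (sm f ξ) ∈ T.gr Y D := by
      apply Submodule.smul_mem
      have h1 := T.cl_mem Y (sm f ξ)
      have h2 : 2 * (codim Y.obj.left (sm f ξ) : ℤ) = D := by
        have e1 : (codim X.obj.left ξ : ℤ) + pdim X.obj.left ξ = dim X.obj.left := by
          exact_mod_cast hcX
        have e2 : (codim Y.obj.left (sm f ξ) : ℤ) + pdim Y.obj.left (sm f ξ) = dim Y.obj.left := by
          exact_mod_cast hcY
        rw [hp] at e2
        omega
      rw [h2] at h1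
      exact h1
    refine eq_of_forall_tr_mul T D _ hDj _ _ hL hR fun b hb => ?_
    rw [key b hb, smul_mul_assoc, map_smul, smul_eq_mul]

end Groth.Agent.S15448
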