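import Groth.Statements.S15451
import Groth.Agent.Lib.H73WeilLef

set_option autoImplicit false
universe u v
open CategoryTheory AlgebraicGeometry
open WeilCoh

namespace Groth.Agent.S15451

open Groth.Agent.Lib.H73WeilDim Groth.Agent.Lib.WeilCohPush Groth.Agent.Lib.H73WeilLef

variable {k : Type u} [Field k] [IsAlgClosed k] {K : Type v} [Field K] [CharZero K]
  (T : WeilCoh.Theory k K)

/-- one term of the trace computation -/
theorem term_eq {X P : WeilCoh.Var k} (p q : P ⟶ X) (hP : WeilCoh.IsProd p q)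
    (u s : ℤ) (E F a b : T.H X) (hF : F ∈ T.gr X u) (ha : a ∈ T.gr X s) :
    T.tr P (T.pull p E * T.pull q F * (T.pull p a * T.pull q b)) =
      (-1 : K) ^ (u.natAbs * s.natAbs) * (T.tr X (E * a) * T.tr X (F * b)) := by
  have hc := T.gradedComm P u s (T.pull q F) (T.pull p a) (T.pull_mem q u F hF)
    (T.pull_mem p s a ha)
  have h1 : T.pull p E * T.pull q F * (T.pull p a * T.pull q b) =
      ((-1 : K) ^ (u.natAbs * s.natAbs)) • (T.pull p (E * a) * T.pull q (F * b)) := by
    calc T.pull p E * T.pull q F * (T.pull p a * T.pull q b)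
        = T.pull p E * (T.pull q F * T.pull p a) * T.pull q b := by simp only [mul_assoc]
      _ = T.pull p E * (((-1 : K) ^ (u.natAbs * s.natAbs)) • (T.pull p a * T.pull q F)) *
            T.pull q b := by rw [hc]
      _ = ((-1 : K) ^ (u.natAbs * s.natAbs)) • (T.pull p (E * a) * T.pull q (F * b)) := by
          simp only [map_mul, mul_smul_comm, smul_mul_assoc, mul_assoc]
  rw [h1, map_smul, tr_prod' T p q hP, smul_eq_mul]

/-- expansion in a basis against a dual family -/
theorem sum_dual {X : WeilCoh.Var k} (ψ : T.H X →ₗ[K] K) (r m : ℤ) {ι : Type} [Fintype ι]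
    [DecidableEq ι] (e : Module.Basis ι K ↥(T.gr X r)) (f : ι → ↥(T.gr X m))
    (hef : ∀ i l : ι, T.tr X ((f l : T.H X) * (e i : T.H X)) = if i = l then 1 else 0)
    (b : T.H X) (hb : b ∈ T.gr X r) :
    ∑ i : ι, ψ (e i : T.H X) * T.tr X ((f i : T.H X) * b) = ψ b := by
  have hb' : b = ∑ l : ι, (e.repr ⟨b, hb⟩ l) • (e l : T.H X) := by
    have := congrArg Subtype.val (e.sum_repr ⟨b, hb⟩)
    rw [Submodule.coe_sum] at this
    simp only [Submodule.coe_smul] at this
    exact this.symm
  have htr : ∀ i : ι, T.tr X ((f i : T.H X) * b) = e.repr ⟨b, hb⟩ i := by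
    intro i
    conv_lhs => rw [hb']
    rw [Finset.mul_sum, map_sum]
    simp only [mul_smul_comm, map_smul, smul_eq_mul, hef]
    simp
  simp only [htr]
  conv_rhs => rw [hb']
  rw [map_sum]
  refine Finset.sum_congr rfl fun i _ => ?_
  rw [map_smul, smul_eq_mul, mul_comm]

theorem neg_one_pow_mul_self_add (s t : ℕ) (h : Even (s + t)) :
    (-1 : K) ^ (s * s) * (-1 : K) ^ (s * t) = 1 := by
  rw [← pow_add, ← mul_add]
  exact Even.neg_one_pow (Even.mul_left h s)

theorem neg_one_pow_eq (s t : ℕ) (h : Even (s + t)) :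
    (-1 : K) ^ (s * s) = (-1 : K) ^ (s * t) := by
  have h1 := neg_one_pow_mul_self_add (K := K) s t h
  have h2 : (-1 : K) ^ (s * t) * (-1 : K) ^ (s * t) = 1 := by
    rw [← pow_add, ← two_mul]
    exact Even.neg_one_pow (even_two_mul _)
  calc (-1 : K) ^ (s * s) = (-1 : K) ^ (s * s) * ((-1 : K) ^ (s * t) * (-1 : K) ^ (s * t)) := by
        rw [h2, mul_one]
    _ = ((-1 : K) ^ (s * s) * (-1 : K) ^ (s * t)) * (-1 : K) ^ (s * t) := by ring
    _ = (-1 : K) ^ (s * t) := by rw [h1, one_mul]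

theorem key_hom (X : WeilCoh.Var k) (φ : X ⟶ X)
    (ι : ℕ → Type) [∀ r, Fintype (ι r)] [∀ r, DecidableEq (ι r)]
    (e : (r : ℕ) → Module.Basis (ι r) K ↥(T.gr X (r : ℤ)))
    (f : (r : ℕ) → ι r → ↥(T.gr X (2 * (WeilCoh.dim X.obj.left : ℤ) - r)))
    (hef : ∀ r, r ≤ 2 * WeilCoh.dim X.obj.left → ∀ i l : ι r,
      T.tr X ((f r l : T.H X) * (e r i : T.H X)) = if i = l then 1 else 0)
    (s t : ℤ) (a b : T.H X) (ha : a ∈ T.gr X s) (hb : b ∈ T.gr X t) :
    ∑ r ∈ Finset.range (2 * WeilCoh.dim X.obj.left + 1), ∑ i : ι r,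
      (-1 : K) ^ ((2 * (WeilCoh.dim X.obj.left : ℤ) - r).natAbs * s.natAbs) *
        (T.tr X (T.pull φ (e r i : T.H X) * a) * T.tr X ((f r i : T.H X) * b)) =
      T.tr X (a * T.pull φ b) := by
  by_cases ht : t < 0 ∨ 2 * (WeilCoh.dim X.obj.left : ℤ) < t
  · have hb0 : b = 0 := eq_zero_of_mem_gr T t b hb ht
    subst hb0
    simp
  · push Not at ht
    obtain ⟨ht0, ht1⟩ := ht
    lift t to ℕ using ht0
    have ht1' : t ≤ 2 * WeilCoh.dim X.obj.left := by exact_mod_cast ht1
    rw [Finset.sum_eq_single t]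
    · -- the term r = t
      have h1 : ∑ i : ι t, (-1 : K) ^ ((2 * (WeilCoh.dim X.obj.left : ℤ) - t).natAbs * s.natAbs) *
          (T.tr X (T.pull φ (e t i : T.H X) * a) * T.tr X ((f t i : T.H X) * b)) =
          (-1 : K) ^ ((2 * (WeilCoh.dim X.obj.left : ℤ) - t).natAbs * s.natAbs) * T.tr X (T.pull φ b * a) := by
        rw [← Finset.mul_sum]
        congr 1
        exact sum_dual T ((T.tr X) ∘ₗ (LinearMap.mulRight K a) ∘ₗ (T.pull φ).toLinearMap) (t : ℤ) _
          (e t) (f t) (hef t ht1') b hb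
      rw [h1]
      by_cases hst : s + t = 2 * (WeilCoh.dim X.obj.left : ℤ)
      · have hs0 : 0 ≤ s := by omega
        lift s to ℕ using hs0
        have hc := T.gradedComm X (s : ℤ) (t : ℤ) a (T.pull φ b) ha (T.pull_mem φ t b hb)
        rw [hc, map_smul, smul_eq_mul]
        have h2 : (2 * (WeilCoh.dim X.obj.left : ℤ) - t).natAbs = s := by omega
        rw [h2]
        simp only [Int.natAbs_natCast]
        rw [neg_one_pow_eq s t ⟨WeilCoh.dim X.obj.left, by omega⟩]
      · rw [T.tr_vanish X (t + s) _ (SetLike.mul_mem_graded (T.pull_mem φ t b hb) ha) (by omega),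
          T.tr_vanish X (s + t) _ (SetLike.mul_mem_graded ha (T.pull_mem φ t b hb)) hst, mul_zero]
    · intro r _ hrt
      refine Finset.sum_eq_zero fun i _ => ?_
      rw [T.tr_vanish X (2 * (WeilCoh.dim X.obj.left : ℤ) - r + t) _ (SetLike.mul_mem_graded (f r i).2 hb)
        (by omega), mul_zero, mul_zero]
    · intro hnot
      exfalso
      apply hnot
      rw [Finset.mem_range]
      omega


/-- Let H^* be a Weil cohomology theory (coefficients in K of characteristic zero, on nonsingular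
connected projective varieties over an algebraically closed field k), φ an endomorphism of such a
variety X of dimension n, p, q the projections of X × X and Γ_φ the graph of φ. If (e^r_i)_i is a
basis of H^r(X) and (f^{2n−r}_i)_i the dual basis of H^{2n−r}(X) for Poincaré duality,
Tr_X(f^{2n−r}_ℓ ∪ e^r_i) = δ_{i,ℓ}, for every 0 ≤ r ≤ 2n, then cl(Γ_φ) = Σ_{r=0}^{2n} Σ_i
p^*(φ^*(e^r_i)) ∪ q^*(f^{2n−r}_i) in H^{2n}(X × X). Here X × X is any object P with a cartesian
square p, q : P → X over Spec k, Γ_φ is the closure of the image of the generic point of X under the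
section j = (id, φ) of p, and the f^{2n−r}_i are any family satisfying the duality relations. -/
theorem result (k : Type u) [Field k] [IsAlgClosed k] (K : Type v) [Field K] [CharZero K]
    (T : WeilCoh.Theory k K)
    (X P : WeilCoh.Var k) [IrreducibleSpace ↥X.obj.left] (φ : X ⟶ X)
    (p q : P ⟶ X) (hP : WeilCoh.IsProd p q) (j : X ⟶ P) (hjp : j ≫ p = 𝟙 X) (hjq : j ≫ q = φ)
    (ι : ℕ → Type) [∀ r, Fintype (ι r)] [∀ r, DecidableEq (ι r)]
    (e : (r : ℕ) → Module.Basis (ι r) K ↥(T.gr X (r : ℤ)))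
    (f : (r : ℕ) → ι r → ↥(T.gr X (2 * (WeilCoh.dim X.obj.left : ℤ) - r)))
    (hef : ∀ r, r ≤ 2 * WeilCoh.dim X.obj.left → ∀ i l : ι r,
      T.tr X ((f r l : T.H X) * (e r i : T.H X)) = if i = l then 1 else 0) :
    T.cl P (WeilCoh.sm j (genericPoint ↥X.obj.left)) =
      ∑ r ∈ Finset.range (2 * WeilCoh.dim X.obj.left + 1), ∑ i : ι r,
        T.pull p (T.pull φ (e r i : T.H X)) * T.pull q (f r i : T.H X) := by
  have hdim := dim_prod T p q hP
  have hΓ := cl_section_mem T X P j p q hP hjp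
  have hR : (∑ r ∈ Finset.range (2 * WeilCoh.dim X.obj.left + 1), ∑ i : ι r,
        T.pull p (T.pull φ (e r i : T.H X)) * T.pull q (f r i : T.H X)) ∈
      T.gr P (2 * (WeilCoh.dim X.obj.left : ℤ)) := by
    refine Submodule.sum_mem _ fun r _ => Submodule.sum_mem _ fun i _ => ?_
    have h1 := SetLike.mul_mem_graded
      (T.pull_mem p r _ (T.pull_mem φ r _ (e r i).2)) (T.pull_mem q _ _ (f r i).2)
    have h2 : (r : ℤ) + (2 * (WeilCoh.dim X.obj.left : ℤ) - r) =
        2 * (WeilCoh.dim X.obj.left : ℤ) := by ring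
    rwa [h2] at h1
  -- the key identity for all classes
  have key : ∀ c : T.H P, T.tr X (T.pull j c) =
      T.tr P ((∑ r ∈ Finset.range (2 * WeilCoh.dim X.obj.left + 1), ∑ i : ι r,
        T.pull p (T.pull φ (e r i : T.H X)) * T.pull q (f r i : T.H X)) * c) := by
    intro c
    refine kunneth_induction T p q hP (fun c => T.tr X (T.pull j c) =
      T.tr P ((∑ r ∈ Finset.range (2 * WeilCoh.dim X.obj.left + 1), ∑ i : ι r,
        T.pull p (T.pull φ (e r i : T.H X)) * T.pull q (f r i : T.H X)) * c)) ?_ ?_ ?_ c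
    · simp
    · intro x y hx hy
      simp only [map_add, mul_add, hx, hy]
    · intro s t a b ha hb
      have e1 : T.pull j (T.pull p a) = a := by
        rw [← AlgHom.comp_apply, ← T.pull_comp, hjp, T.pull_id]; rfl
      have e2 : T.pull j (T.pull q b) = T.pull φ b := by
        rw [← AlgHom.comp_apply, ← T.pull_comp, hjq]
      rw [map_mul, e1, e2, Finset.sum_mul, map_sum, ← key_hom T X φ ι e f hef s t a b ha hb]
      refine Finset.sum_congr rfl fun r _ => ?_
      rw [Finset.sum_mul, map_sum]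
      refine Finset.sum_congr rfl fun i _ => ?_
      exact (term_eq T p q hP _ s _ _ a b (f r i).2 ha).symm
  refine eq_of_forall_tr_mul T (2 * (WeilCoh.dim X.obj.left : ℤ))
    (2 * (WeilCoh.dim X.obj.left : ℤ)) (by omega) _ _ hΓ hR fun c hc => ?_
  rw [tr_cl_section T X P j p hjp c hc]
  exact key c

end Groth.Agent.S15451
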