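import Groth.Statements.S15450
import Groth.Agent.S15451

set_option autoImplicit false
universe u v
open CategoryTheory AlgebraicGeometry
open WeilCoh

namespace Groth.Agent.S15450

open Groth.Agent.Lib.H73WeilDim Groth.Agent.Lib.WeilCohPush Groth.Agent.Lib.H73WeilLef

variable {k : Type u} [Field k] [IsAlgClosed k] {K : Type v} [Field K] [CharZero K]
  (T : WeilCoh.Theory k K)

/-- the dual family of a basis of `H^r` in `H^m`, `m + r = 2 dim X` -/
noncomputable def dualFam (X : WeilCoh.Var k) (r m : ℤ) (hm : m + r = 2 * (WeilCoh.dim X.obj.left : ℤ))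
    {ι : Type} [Fintype ι] [DecidableEq ι] (e : Module.Basis ι K ↥(T.gr X r)) (l : ι) :
    ↥(T.gr X m) :=
  haveI := T.duality X m r hm
  (pairing K (T.gr X m) (T.gr X r) (T.tr X)).toPerfPair.symm (e.coord l)

theorem dualFam_spec (X : WeilCoh.Var k) (r m : ℤ) (hm : m + r = 2 * (WeilCoh.dim X.obj.left : ℤ))
    {ι : Type} [Fintype ι] [DecidableEq ι] (e : Module.Basis ι K ↥(T.gr X r)) (i l : ι) :
    T.tr X ((dualFam T X r m hm e l : T.H X) * (e i : T.H X)) = if i = l then 1 else 0 := by
  have := T.duality X m r hm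
  have h := LinearMap.apply_symm_toPerfPair_self
    (pairing K (T.gr X m) (T.gr X r) (T.tr X)) (e.coord l)
  have h2 := congrArg (fun φ => φ (e i)) h
  simp only [Module.Basis.coord_apply, Module.Basis.repr_self] at h2
  rw [Finsupp.single_apply] at h2
  exact h2

/-- coordinates in a basis via the dual family -/
theorem repr_eq_tr {X : WeilCoh.Var k} (r m : ℤ) {ι : Type} [Fintype ι]
    [DecidableEq ι] (e : Module.Basis ι K ↥(T.gr X r)) (f : ι → ↥(T.gr X m))
    (hef : ∀ i l : ι, T.tr X ((f l : T.H X) * (e i : T.H X)) = if i = l then 1 else 0)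
    (b : ↥(T.gr X r)) (i : ι) : e.repr b i = T.tr X ((f i : T.H X) * (b : T.H X)) := by
  have hb' : (b : T.H X) = ∑ l : ι, (e.repr b l) • (e l : T.H X) := by
    have := congrArg Subtype.val (e.sum_repr b)
    rw [Submodule.coe_sum] at this
    simp only [Submodule.coe_smul] at this
    exact this.symm
  conv_rhs => rw [hb']
  rw [Finset.mul_sum, map_sum]
  simp only [mul_smul_comm, map_smul, smul_eq_mul, hef]
  simp

theorem trace_pullDeg {X : WeilCoh.Var k} (φ : X ⟶ X) (r m : ℤ) {ι : Type} [Fintype ι]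
    [DecidableEq ι] (e : Module.Basis ι K ↥(T.gr X r)) (f : ι → ↥(T.gr X m))
    (hef : ∀ i l : ι, T.tr X ((f l : T.H X) * (e i : T.H X)) = if i = l then 1 else 0) :
    LinearMap.trace K ↥(T.gr X r) (T.pullDeg φ r) =
      ∑ i : ι, T.tr X ((f i : T.H X) * T.pull φ (e i : T.H X)) := by
  rw [LinearMap.trace_eq_matrix_trace K e, Matrix.trace]
  refine Finset.sum_congr rfl fun i _ => ?_
  rw [Matrix.diag_apply, LinearMap.toMatrix_apply, repr_eq_tr T r m e f hef]
  rfl

theorem neg_one_pow_sub (r n : ℕ) (h : r ≤ 2 * n) :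
    (-1 : K) ^ (r * (2 * n - r)) = (-1 : K) ^ r := by
  obtain ⟨m, hm'⟩ : ∃ m, 2 * n = r + m := ⟨2 * n - r, by omega⟩
  rw [hm', Nat.add_sub_cancel_left]
  rcases Nat.even_or_odd r with hr | hr
  · rw [Even.neg_one_pow hr, Even.neg_one_pow (Even.mul_right hr m)]
  · have hm : Odd m := by
      rcases Nat.even_or_odd m with hm | hm
      · exfalso
        have : Odd (r + m) := hr.add_even hm
        have h2 : Even (r + m) := ⟨n, by omega⟩
        exact (Nat.not_even_iff_odd.mpr this) h2
      · exact hm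
    rw [Odd.neg_one_pow hr, Odd.neg_one_pow (hr.mul hm)]


/-- Let H^* be a Weil cohomology theory (coefficients in K of characteristic zero, on nonsingular
connected projective varieties over an algebraically closed field k), φ an endomorphism of such a
variety X, and Γ_φ, Δ ⊂ X × X the graph of φ and the diagonal. Then (Γ_φ · Δ) = Σ_{i=0}^{2 dim X}
(−1)^i trace(φ^* | H^i(X)). The intersection number is written in the form Tr_{X×X}(cl(Γ_φ) ∪ cl(Δ))
that the argument establishes (it equals the Chow-ring intersection number once the cycle class map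
is known to be a ring homomorphism compatible with degrees); X × X is any object P with a cartesian
square p, q : P → X over Spec k, Γ_φ and Δ are the closures of the images of the generic point of X
under the sections j = (id, φ) and d = (id, id) of p. -/
theorem result (k : Type u) [Field k] [IsAlgClosed k] (K : Type v) [Field K] [CharZero K]
    (T : WeilCoh.Theory k K)
    (X P : WeilCoh.Var k) [IrreducibleSpace ↥X.obj.left] (φ : X ⟶ X)
    (p q : P ⟶ X) (hP : WeilCoh.IsProd p q) (j d : X ⟶ P)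
    (hjp : j ≫ p = 𝟙 X) (hjq : j ≫ q = φ) (hdp : d ≫ p = 𝟙 X) (hdq : d ≫ q = 𝟙 X) :
    T.tr P (T.cl P (WeilCoh.sm j (genericPoint ↥X.obj.left)) * T.cl P (WeilCoh.sm d (genericPoint ↥X.obj.left))) =
      ∑ i ∈ Finset.range (2 * WeilCoh.dim X.obj.left + 1),
        (-1 : K) ^ i * LinearMap.trace K ↥(T.gr X (i : ℤ)) (T.pullDeg φ (i : ℤ)) := by
  classical
  -- bases and dual families
  let ι : ℕ → Type := fun r => Fin (Module.finrank K ↥(T.gr X (r : ℤ)))
  let e : (r : ℕ) → Module.Basis (ι r) K ↥(T.gr X (r : ℤ)) := fun r =>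
    Module.finBasis K ↥(T.gr X (r : ℤ))
  let f : (r : ℕ) → ι r → ↥(T.gr X (2 * (WeilCoh.dim X.obj.left : ℤ) - r)) := fun r l =>
    dualFam T X (r : ℤ) (2 * (WeilCoh.dim X.obj.left : ℤ) - r) (by ring) (e r) l
  have hef : ∀ r, r ≤ 2 * WeilCoh.dim X.obj.left → ∀ i l : ι r,
      T.tr X ((f r l : T.H X) * (e r i : T.H X)) = if i = l then 1 else 0 :=
    fun r _ i l => dualFam_spec T X (r : ℤ) _ (by ring) (e r) i l
  have hef' : ∀ r, ∀ i l : ι r,
      T.tr X ((f r l : T.H X) * (e r i : T.H X)) = if i = l then 1 else 0 :=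
    fun r i l => dualFam_spec T X (r : ℤ) _ (by ring) (e r) i l
  have hΓ := Groth.Agent.S15451.result k K T X P φ p q hP j hjp hjq ι e f hef
  have hΓmem := cl_section_mem T X P j p q hP hjp
  have hΔmem := cl_section_mem T X P d p q hP hdp
  -- commute the two classes
  have hcomm := T.gradedComm P _ _ _ _ hΓmem hΔmem
  have hsign : (-1 : K) ^ ((2 * (WeilCoh.dim X.obj.left : ℤ)).natAbs *
      (2 * (WeilCoh.dim X.obj.left : ℤ)).natAbs) = 1 := by
    apply Even.neg_one_pow
    have : (2 * (WeilCoh.dim X.obj.left : ℤ)).natAbs = 2 * WeilCoh.dim X.obj.left := by omega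
    rw [this]
    exact Even.mul_right (even_two_mul _) _
  rw [hcomm, hsign, one_smul, tr_cl_section T X P d p hdp _ hΓmem, hΓ, map_sum, map_sum]
  refine Finset.sum_congr rfl fun r hr => ?_
  have hr' : r ≤ 2 * WeilCoh.dim X.obj.left := by
    rw [Finset.mem_range] at hr; omega
  rw [map_sum, map_sum, trace_pullDeg T φ (r : ℤ) _ (e r) (f r) (hef' r), Finset.mul_sum]
  refine Finset.sum_congr rfl fun i _ => ?_
  have e1 : ∀ a, T.pull d (T.pull p a) = a := by
    intro a
    rw [← AlgHom.comp_apply, ← T.pull_comp, hdp, T.pull_id]; rfl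
  have e2 : ∀ a, T.pull d (T.pull q a) = a := by
    intro a
    rw [← AlgHom.comp_apply, ← T.pull_comp, hdq, T.pull_id]; rfl
  rw [map_mul, e1, e2]
  have hc := T.gradedComm X (r : ℤ) (2 * (WeilCoh.dim X.obj.left : ℤ) - r)
    (T.pull φ (e r i : T.H X)) (f r i : T.H X) (T.pull_mem φ r _ (e r i).2) (f r i).2
  rw [hc, map_smul, smul_eq_mul]
  congr 1
  have h1 : (2 * (WeilCoh.dim X.obj.left : ℤ) - r).natAbs = 2 * WeilCoh.dim X.obj.left - r := by
    omega
  rw [h1, Int.natAbs_natCast]
  exact neg_one_pow_sub r _ hr'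

end Groth.Agent.S15450
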