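import Groth.Statements.S15454
import Groth.Agent.Lib.H73FrobSch
import Groth.Prelude.Def_WeilCoh

set_option autoImplicit false
universe u v
open CategoryTheory AlgebraicGeometry
open WeilCoh

namespace Groth.Agent.S15454

theorem det_mul_det_of_pairing {K V W : Type*} [Field K] [AddCommGroup V] [Module K V]
    [AddCommGroup W] [Module K W] [FiniteDimensional K W] (B : V →ₗ[K] W →ₗ[K] K)
    (hB : B.IsPerfPair) (φ : V →ₗ[K] V) (ψ : W →ₗ[K] W) (c : K)
    (h : ∀ v w, B (φ v) (ψ w) = c * B v w) :
    LinearMap.det φ * LinearMap.det ψ = c ^ Module.finrank K W := by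
  haveI := hB
  have key : ψ.dualMap ∘ₗ ((B.toPerfPair : V →ₗ[K] Module.Dual K W) ∘ₗ φ ∘ₗ
      (B.toPerfPair.symm : Module.Dual K W →ₗ[K] V)) = c • LinearMap.id := by
    ext f w
    obtain ⟨v, rfl⟩ := B.toPerfPair.surjective f
    simp only [LinearMap.coe_comp, LinearEquiv.coe_coe, Function.comp_apply,
      LinearEquiv.symm_apply_apply, LinearMap.dualMap_apply, LinearMap.smul_apply,
      LinearMap.id_coe, id_eq, smul_eq_mul, LinearMap.toPerfPair_apply]
    exact h v w
  have := congrArg LinearMap.det key
  rw [LinearMap.det_comp, LinearMap.det_dualMap, LinearMap.det_conj, LinearMap.det_smul,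
    LinearMap.det_id, mul_one, Subspace.dual_finrank_eq] at this
  rw [mul_comm]
  exact this


/-- Let k₀ be a finite field with q elements, k an algebraically closed field containing k₀, H^* a Weil
cohomology theory, with coefficient field K of characteristic zero, on nonsingular connected
projective varieties over k, X a scheme of finite type over k₀ whose base change X̄ = X ×_{k₀} k is
such a variety (as it is when X is nonsingular, projective and geometrically connected), and F =
Frob_{X,q} × id the k-endomorphism of X̄ induced by the q-Frobenius of X; let n = dim X̄ and B_i =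
dim_K H^i(X̄). Then det(F^* | H^{2n−i}(X̄)) = q^{n B_i} / det(F^* | H^i(X̄)), stated as det(F^* |
H^{2n−i}(X̄)) · det(F^* | H^i(X̄)) = q^{n B_i}, for every integer i (both sides are 1 outside 0 ≤ i
≤ 2n). The q-Frobenius of X is pinned as the endomorphism that is the identity on points and the
q-th power on sections, X̄ as a cartesian square over Spec k → Spec k₀, and F by its compatibility
with the projection to X. -/
theorem result (k₀ : Type u) [Field k₀] [Finite k₀] (k : Type u) [Field k] [IsAlgClosed k] [Algebra k₀ k]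
    (K : Type v) [Field K] [CharZero K] (T : WeilCoh.Theory k K)
    {X : Scheme.{u}} (f : X ⟶ Spec (CommRingCat.of k₀)) [LocallyOfFiniteType f] [QuasiCompact f]
    (FX : X ⟶ X) (hFb : FX.base = 𝟙 _) (hle : ∀ U : X.Opens, U ≤ FX ⁻¹ᵁ U)
    (hFapp : ∀ (U : X.Opens) (s : Γ(X, U)), (FX.appLE U U (hle U)).hom s = s ^ Nat.card k₀)
    (Xb : WeilCoh.Var k) (π : Xb.obj.left ⟶ X)
    (hπ : IsPullback π Xb.obj.hom f (Spec.map (CommRingCat.ofHom (algebraMap k₀ k))))
    (F : Xb ⟶ Xb) (hF : WeilCoh.sm F ≫ π = π ≫ FX) (i : ℤ) :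
    LinearMap.det (T.pullDeg F (2 * (WeilCoh.dim Xb.obj.left : ℤ) - i)) * LinearMap.det (T.pullDeg F i) =
      (Nat.card k₀ : K) ^ (WeilCoh.dim Xb.obj.left * Module.finrank K ↥(T.gr Xb i)) := by
  haveI : Module.Finite K ↥(T.gr Xb i) := T.finite Xb i
  rw [pow_mul]
  refine det_mul_det_of_pairing _ (T.duality Xb (2 * (WeilCoh.dim Xb.obj.left : ℤ) - i) i (by ring))
    _ _ _ ?_
  intro v w
  have := Groth.Agent.Lib.H73FrobSch.tr_pull_frob k₀ k K T f FX hFb hle hFapp Xb π hπ F hF
    ((v : T.H Xb) * (w : T.H Xb))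
  rw [map_mul] at this
  exact this

end Groth.Agent.S15454
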