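import Groth.Statements.S15455
import Groth.Agent.Lib.H73FrobSch
import Groth.Prelude.Def_WeilCoh

set_option autoImplicit false
universe u v
open CategoryTheory AlgebraicGeometry
open WeilCoh

namespace Groth.Agent.S15455

theorem charpoly_comp_eq_det {R : Type*} [CommRing R] {n : Type*} [Fintype n] [DecidableEq n]
    (M : Matrix n n R) (p : Polynomial R) :
    (M.charpoly).comp p = Matrix.det (Matrix.scalar n p - M.map Polynomial.C) := by
  have h1 : (M.charpoly).comp p = Polynomial.compRingHom p (Matrix.det (Matrix.charmatrix M)) := rfl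
  rw [h1, RingHom.map_det]
  congr 1
  ext i j : 1
  by_cases hij : i = j
  · subst hij
    simp [Matrix.charmatrix_apply_eq]
  · simp [Matrix.charmatrix_apply_ne _ _ _ hij, hij]

theorem mat_identity {R : Type*} [CommRing R] {n : Type*} [Fintype n] [DecidableEq n]
    (P Q : Matrix n n R) (c : R) (h : P.transpose * Q = c • (1 : Matrix n n R)) :
    P.det • Q.charpolyRev =
      (-1 : Polynomial R) ^ Fintype.card n * (P.charpoly).comp (Polynomial.C c * Polynomial.X) := by
  rw [← Matrix.charpoly_transpose P, charpoly_comp_eq_det, ← Matrix.det_neg, Matrix.charpolyRev,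
    Polynomial.smul_eq_C_mul, ← Matrix.det_transpose P, RingHom.map_det, ← Matrix.det_mul]
  congr 1
  rw [Matrix.mul_sub, Matrix.mul_one, Matrix.mul_smul, RingHom.mapMatrix_apply, ← Matrix.map_mul, h,
    neg_sub]
  congr 1
  refine Matrix.ext fun i j => ?_
  by_cases hij : i = j
  · subst hij
    simp only [Matrix.smul_apply, Matrix.map_apply, Matrix.one_apply_eq, Matrix.scalar_apply,
      Matrix.diagonal_apply_eq, smul_eq_mul, mul_one]
    rw [mul_comm]
  · simp only [Matrix.smul_apply, Matrix.map_apply, Matrix.one_apply_ne hij, Matrix.scalar_apply,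
      Matrix.diagonal_apply_ne _ hij, smul_zero, map_zero]


theorem charpoly_identity {K V W : Type*} [Field K] [AddCommGroup V] [Module K V]
    [AddCommGroup W] [Module K W] [FiniteDimensional K V] [FiniteDimensional K W]
    (B : V →ₗ[K] W →ₗ[K] K)
    (hB : B.IsPerfPair) (φ : V →ₗ[K] V) (ψ : W →ₗ[K] W) (c : K)
    (h : ∀ v w, B (φ v) (ψ w) = c * B v w) :
    LinearMap.det ψ • (LinearMap.charpoly φ).reverse =
      (-1 : Polynomial K) ^ Module.finrank K W *
        (LinearMap.charpoly ψ).comp (Polynomial.C c * Polynomial.X) := by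
  haveI := hB
  have key : ψ.dualMap ∘ₗ (B.toPerfPair.conj φ) = c • LinearMap.id := by
    ext f w
    obtain ⟨v, rfl⟩ := B.toPerfPair.surjective f
    simp only [LinearMap.coe_comp, LinearEquiv.coe_coe, Function.comp_apply,
      LinearEquiv.symm_apply_apply, LinearMap.dualMap_apply, LinearMap.smul_apply,
      LinearMap.id_coe, id_eq, smul_eq_mul, LinearMap.toPerfPair_apply, LinearEquiv.conj_apply]
    exact h v w
  let b := Module.finBasis K W
  have hP : LinearMap.toMatrix b.dualBasis b.dualBasis ψ.dualMap =
      (LinearMap.toMatrix b b ψ).transpose := by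
    rw [LinearMap.dualMap_def, LinearMap.toMatrix_transpose]
  have hmat : (LinearMap.toMatrix b b ψ).transpose *
      LinearMap.toMatrix b.dualBasis b.dualBasis (B.toPerfPair.conj φ) =
        c • (1 : Matrix (Fin (Module.finrank K W)) (Fin (Module.finrank K W)) K) := by
    rw [← hP, ← LinearMap.toMatrix_comp, key, map_smul, LinearMap.toMatrix_id]
  have := mat_identity _ _ c hmat
  rw [← Matrix.reverse_charpoly, LinearMap.charpoly_toMatrix, LinearMap.charpoly_toMatrix,
    LinearMap.det_toMatrix, LinearEquiv.charpoly_conj, Fintype.card_fin] at this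
  exact this


/-- Let k₀ be a finite field with q elements, k an algebraically closed field containing k₀, H^* a Weil
cohomology theory, with coefficient field K of characteristic zero, on nonsingular connected
projective varieties over k, X a scheme of finite type over k₀ whose base change X̄ = X ×_{k₀} k is
such a variety (as it is when X is nonsingular, projective and geometrically connected), and F =
Frob_{X,q} × id the k-endomorphism of X̄ induced by the q-Frobenius of X; let n = dim X̄, B_i =
dim_K H^i(X̄) and P_i(t) = det(Id − t F^* | H^i(X̄)). Then P_{2n−i}(t) = (−1)^{B_i} q^{n B_i}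
t^{B_i} P_i(1/(q^n t)) / det(F^* | H^i(X̄)). Since t^{B_i} P_i(1/(q^n t)) = q^{−n B_i} χ_i(q^n t)
for the characteristic polynomial χ_i of F^* on H^i(X̄), this is stated as the polynomial identity
det(F^* | H^i(X̄)) · P_{2n−i}(t) = (−1)^{B_i} χ_i(q^n t), P_{2n−i} being the reverse of χ_{2n−i}; it
holds for every integer i. The q-Frobenius of X is pinned as the endomorphism that is the identity
on points and the q-th power on sections, X̄ as a cartesian square over Spec k → Spec k₀, and F by
its compatibility with the projection to X. -/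
theorem result (k₀ : Type u) [Field k₀] [Finite k₀] (k : Type u) [Field k] [IsAlgClosed k] [Algebra k₀ k]
    (K : Type v) [Field K] [CharZero K] (T : WeilCoh.Theory k K)
    {X : Scheme.{u}} (f : X ⟶ Spec (CommRingCat.of k₀)) [LocallyOfFiniteType f] [QuasiCompact f]
    (FX : X ⟶ X) (hFb : FX.base = 𝟙 _) (hle : ∀ U : X.Opens, U ≤ FX ⁻¹ᵁ U)
    (hFapp : ∀ (U : X.Opens) (s : Γ(X, U)), (FX.appLE U U (hle U)).hom s = s ^ Nat.card k₀)
    (Xb : WeilCoh.Var k) (π : Xb.obj.left ⟶ X)
    (hπ : IsPullback π Xb.obj.hom f (Spec.map (CommRingCat.ofHom (algebraMap k₀ k))))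
    (F : Xb ⟶ Xb) (hF : WeilCoh.sm F ≫ π = π ≫ FX) (i : ℤ) :
    LinearMap.det (T.pullDeg F i) •
        (LinearMap.charpoly (T.pullDeg F (2 * (WeilCoh.dim Xb.obj.left : ℤ) - i))).reverse =
      (-1 : Polynomial K) ^ Module.finrank K ↥(T.gr Xb i) *
        (LinearMap.charpoly (T.pullDeg F i)).comp
          (Polynomial.C ((Nat.card k₀ : K) ^ WeilCoh.dim Xb.obj.left) * Polynomial.X) := by
  refine charpoly_identity _ (T.duality Xb (2 * (WeilCoh.dim Xb.obj.left : ℤ) - i) i (by ring))
    _ _ _ ?_
  intro v w
  have := Groth.Agent.Lib.H73FrobSch.tr_pull_frob k₀ k K T f FX hFb hle hFapp Xb π hπ F hF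
    ((v : T.H Xb) * (w : T.H Xb))
  rw [map_mul] at this
  exact this

end Groth.Agent.S15455
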