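import Groth.Statements.S15456
import Groth.Agent.S15454
import Groth.Agent.S15455
import Groth.Agent.Lib.H73FrobSch
import Groth.Prelude.Def_WeilCoh

set_option autoImplicit false
universe u v
open CategoryTheory AlgebraicGeometry
open WeilCoh

namespace Groth.Agent.S15456

theorem per_degree {K : Type*} [Field K] (c : K) (hc : c ≠ 0) (χ χ' : Polynomial K) (d : K) (B : ℕ)
    (hdeg : χ.natDegree = B)
    (h1 : d • χ'.reverse = (-1 : Polynomial K) ^ B * χ.comp (Polynomial.C c * Polynomial.X)) :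
    Polynomial.aeval ((RatFunc.X : RatFunc K)⁻¹ * RatFunc.C c⁻¹) χ.reverse =
      RatFunc.C ((-1) ^ B * d * (c ^ B)⁻¹) * ((RatFunc.X : RatFunc K) ^ B)⁻¹ *
        algebraMap (Polynomial K) (RatFunc K) χ'.reverse := by
  have hcx : (RatFunc.C c * RatFunc.X : RatFunc K) ≠ 0 :=
    mul_ne_zero (by rwa [Ne, map_eq_zero]) RatFunc.X_ne_zero
  letI : Invertible (RatFunc.C c * RatFunc.X : RatFunc K) := invertibleOfNonzero hcx
  have e1 := Polynomial.eval₂_reverse_mul_pow (algebraMap K (RatFunc K))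
    (RatFunc.C c * RatFunc.X : RatFunc K) χ
  have hinv : ⅟(RatFunc.C c * RatFunc.X : RatFunc K) = (RatFunc.X : RatFunc K)⁻¹ * RatFunc.C c⁻¹ := by
    rw [invOf_eq_inv, mul_inv_rev, map_inv₀]
  rw [hinv, hdeg] at e1
  have e2 : algebraMap (Polynomial K) (RatFunc K) (χ.comp (Polynomial.C c * Polynomial.X)) =
      Polynomial.eval₂ (algebraMap K (RatFunc K)) (RatFunc.C c * RatFunc.X : RatFunc K) χ := by
    rw [← RatFunc.aeval_X_left_eq_algebraMap, Polynomial.aeval_comp, map_mul, Polynomial.aeval_C,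
      Polynomial.aeval_X, Polynomial.aeval_def, RatFunc.algebraMap_eq_C]
  have e3 := congrArg (algebraMap (Polynomial K) (RatFunc K)) h1
  rw [Polynomial.smul_eq_C_mul, map_mul, RatFunc.algebraMap_C, map_mul, map_pow, map_neg, map_one,
    e2, ← e1] at e3
  rw [Polynomial.aeval_def]
  generalize Polynomial.eval₂ (algebraMap K (RatFunc K)) ((RatFunc.X : RatFunc K)⁻¹ * RatFunc.C c⁻¹)
    χ.reverse = P at e3 ⊢
  generalize algebraMap (Polynomial K) (RatFunc K) χ'.reverse = p' at e3 ⊢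
  have hsq : ((-1 : RatFunc K) ^ B) * ((-1) ^ B) = 1 := by
    rw [← mul_pow]; simp
  have hX : (RatFunc.X : RatFunc K) ≠ 0 := RatFunc.X_ne_zero
  have hC : (RatFunc.C c : RatFunc K) ≠ 0 := by rwa [Ne, map_eq_zero]
  rw [map_mul, map_mul, map_inv₀, map_pow, map_pow, map_neg, map_one]
  field_simp
  rw [mul_pow] at e3
  linear_combination (exp := 1) (-(-1 : RatFunc K) ^ B) * e3 +
    (-P * RatFunc.C c ^ B * RatFunc.X ^ B) * hsq

theorem side {K : Type*} [Field K] (c : K) (hc : c ≠ 0) (n : ℕ) (χ : ℤ → Polynomial K) (B : ℤ → ℕ)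
    (d : ℤ → K)
    (h1 : ∀ j : ℤ, d j • (χ (2 * (n : ℤ) - j)).reverse =
      (-1 : Polynomial K) ^ (B j) * (χ j).comp (Polynomial.C c * Polynomial.X))
    (h2 : ∀ j : ℤ, d (2 * (n : ℤ) - j) * d j = c ^ B j)
    (h3 : ∀ j, (χ j).natDegree = B j)
    (h4 : ∀ j : ℤ, B (2 * (n : ℤ) - j) = B j)
    (m : ℕ) (g : ℕ → ℤ) (hg : ∀ i < m, 2 * (n : ℤ) - g i = g (m - 1 - i)) :
    ∃ A : K, A * A = (c ^ (∑ i ∈ Finset.range m, B (g i)))⁻¹ ∧
      Polynomial.aeval ((RatFunc.X : RatFunc K)⁻¹ * RatFunc.C c⁻¹)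
          (∏ i ∈ Finset.range m, (χ (g i)).reverse) =
        RatFunc.C A * ((RatFunc.X : RatFunc K) ^ (∑ i ∈ Finset.range m, B (g i)))⁻¹ *
          algebraMap (Polynomial K) (RatFunc K) (∏ i ∈ Finset.range m, (χ (g i)).reverse) := by
  refine ⟨∏ i ∈ Finset.range m, ((-1) ^ B (g i) * d (g i) * (c ^ B (g i))⁻¹), ?_, ?_⟩
  · have hrefl := Finset.prod_range_reflect
      (fun i => ((-1 : K) ^ B (g i) * d (g i) * (c ^ B (g i))⁻¹)) m
    rw [← Finset.prod_pow_eq_pow_sum, ← Finset.prod_inv_distrib]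
    calc (∏ i ∈ Finset.range m, ((-1) ^ B (g i) * d (g i) * (c ^ B (g i))⁻¹)) *
          (∏ i ∈ Finset.range m, ((-1) ^ B (g i) * d (g i) * (c ^ B (g i))⁻¹))
        = (∏ j ∈ Finset.range m, ((-1 : K) ^ B (g (m - 1 - j)) * d (g (m - 1 - j)) *
            (c ^ B (g (m - 1 - j)))⁻¹)) *
          (∏ i ∈ Finset.range m, ((-1) ^ B (g i) * d (g i) * (c ^ B (g i))⁻¹)) := by rw [hrefl]
      _ = ∏ j ∈ Finset.range m, (((-1 : K) ^ B (g (m - 1 - j)) * d (g (m - 1 - j)) *
            (c ^ B (g (m - 1 - j)))⁻¹) * ((-1) ^ B (g j) * d (g j) * (c ^ B (g j))⁻¹)) :=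
          Finset.prod_mul_distrib.symm
      _ = ∏ j ∈ Finset.range m, (c ^ B (g j))⁻¹ := by
          refine Finset.prod_congr rfl fun i hi => ?_
          rw [Finset.mem_range] at hi
          rw [← hg i hi, h4]
          have hsq : ((-1 : K) ^ B (g i)) * ((-1) ^ B (g i)) = 1 := by
            rw [← mul_pow]; simp
          have hcB : c ^ B (g i) ≠ 0 := pow_ne_zero _ hc
          have := h2 (g i)
          field_simp
          linear_combination (exp := 1) (c ^ B (g i)) * hsq + ((-1 : K) ^ B (g i)) ^ 2 * this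
  · rw [map_prod]
    have hper : ∀ i ∈ Finset.range m,
        Polynomial.aeval ((RatFunc.X : RatFunc K)⁻¹ * RatFunc.C c⁻¹) (χ (g i)).reverse =
        RatFunc.C ((-1) ^ B (g i) * d (g i) * (c ^ B (g i))⁻¹) *
          ((RatFunc.X : RatFunc K) ^ B (g i))⁻¹ *
          algebraMap (Polynomial K) (RatFunc K) (χ (g (m - 1 - i))).reverse := by
      intro i hi
      rw [Finset.mem_range] at hi
      rw [← hg i hi]
      exact per_degree c hc _ _ _ _ (h3 _) (h1 _)
    rw [Finset.prod_congr rfl hper, Finset.prod_mul_distrib, Finset.prod_mul_distrib,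
      Finset.prod_range_reflect (fun i => algebraMap (Polynomial K) (RatFunc K) (χ (g i)).reverse) m,
      ← map_prod, ← map_prod, Finset.prod_inv_distrib, Finset.prod_pow_eq_pow_sum]

theorem alt_sum (b : ℕ → ℤ) (n : ℕ) :
    ∑ i ∈ Finset.range (2 * n + 1), (-1 : ℤ) ^ i * b i =
      ∑ i ∈ Finset.range (n + 1), b (2 * i) - ∑ i ∈ Finset.range n, b (2 * i + 1) := by
  induction n with
  | zero => simp
  | succ n ih =>
    have e : 2 * (n + 1) + 1 = (2 * n + 1) + 1 + 1 := by ring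
    have e1 : (-1 : ℤ) ^ (2 * n + 1) = -1 := Odd.neg_one_pow ⟨n, rfl⟩
    have e2 : (-1 : ℤ) ^ (2 * n + 1 + 1) = 1 := Even.neg_one_pow ⟨n + 1, by ring⟩
    have e3 : 2 * n + 1 + 1 = 2 * (n + 1) := by ring
    have r1 : ∑ i ∈ Finset.range (n + 1 + 1), b (2 * i) =
        ∑ i ∈ Finset.range (n + 1), b (2 * i) + b (2 * (n + 1)) := Finset.sum_range_succ _ _
    have r2 : ∑ i ∈ Finset.range (n + 1), b (2 * i + 1) =
        ∑ i ∈ Finset.range n, b (2 * i + 1) + b (2 * n + 1) := Finset.sum_range_succ _ _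
    rw [e, Finset.sum_range_succ, Finset.sum_range_succ, ih, r1, r2, e1, e2, e3]
    ring

theorem assemble {K : Type*} [Field K] (q : K) (hq : q ≠ 0) (n : ℕ) (χ : ℤ → Polynomial K)
    (B : ℤ → ℕ) (d : ℤ → K)
    (h1 : ∀ j : ℤ, d j • (χ (2 * (n : ℤ) - j)).reverse =
      (-1 : Polynomial K) ^ (B j) * (χ j).comp (Polynomial.C (q ^ n) * Polynomial.X))
    (h2 : ∀ j : ℤ, d (2 * (n : ℤ) - j) * d j = (q ^ n) ^ B j)
    (h3 : ∀ j, (χ j).natDegree = B j)
    (h4 : ∀ j : ℤ, B (2 * (n : ℤ) - j) = B j)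
    (hpar : (2 : ℤ) ∣ (n : ℤ) * ∑ i ∈ Finset.range (2 * n + 1), (-1 : ℤ) ^ i * (B (i : ℤ) : ℤ)) :
    ∃ ε : K, (ε = 1 ∨ ε = -1) ∧
      Polynomial.aeval ((RatFunc.X : RatFunc K)⁻¹ * RatFunc.C (q ^ n)⁻¹)
          (∏ i ∈ Finset.range n, (χ ((2 * i + 1 : ℕ) : ℤ)).reverse) /
        Polynomial.aeval ((RatFunc.X : RatFunc K)⁻¹ * RatFunc.C (q ^ n)⁻¹)
          (∏ i ∈ Finset.range (n + 1), (χ ((2 * i : ℕ) : ℤ)).reverse) =
      RatFunc.C ε * RatFunc.C q ^ ((n : ℤ) *
          (∑ i ∈ Finset.range (2 * n + 1), (-1 : ℤ) ^ i * (B (i : ℤ) : ℤ)) / 2) *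
        (RatFunc.X : RatFunc K) ^
          (∑ i ∈ Finset.range (2 * n + 1), (-1 : ℤ) ^ i * (B (i : ℤ) : ℤ)) *
        (algebraMap (Polynomial K) (RatFunc K)
          (∏ i ∈ Finset.range n, (χ ((2 * i + 1 : ℕ) : ℤ)).reverse) /
         algebraMap (Polynomial K) (RatFunc K)
          (∏ i ∈ Finset.range (n + 1), (χ ((2 * i : ℕ) : ℤ)).reverse)) := by
  have hc : q ^ n ≠ 0 := pow_ne_zero _ hq
  obtain ⟨Ao, hAo, hodd⟩ := side (q ^ n) hc n χ B d h1 h2 h3 h4 n
    (fun i => ((2 * i + 1 : ℕ) : ℤ)) (by intro i hi; push_cast; omega)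
  obtain ⟨Ae, hAe, hev⟩ := side (q ^ n) hc n χ B d h1 h2 h3 h4 (n + 1)
    (fun i => ((2 * i : ℕ) : ℤ)) (by intro i hi; push_cast; omega)
  set So := ∑ i ∈ Finset.range n, B ((2 * i + 1 : ℕ) : ℤ) with hSo
  set Se := ∑ i ∈ Finset.range (n + 1), B ((2 * i : ℕ) : ℤ) with hSe
  set E := ∑ i ∈ Finset.range (2 * n + 1), (-1 : ℤ) ^ i * (B (i : ℤ) : ℤ) with hE
  have hE' : E = (Se : ℤ) - (So : ℤ) := by
    rw [hE, alt_sum (fun i => (B (i : ℤ) : ℤ)) n, hSe, hSo]
    push_cast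
    rfl
  obtain ⟨mm, hmm⟩ := hpar
  have hdiv : (n : ℤ) * E / 2 = mm := by
    rw [hmm]; exact Int.mul_ediv_cancel_left _ (by norm_num)
  rw [hdiv]
  have hAe0 : Ae ≠ 0 := by
    intro h0
    rw [h0, mul_zero] at hAe
    exact (inv_ne_zero (pow_ne_zero _ hc)) hAe.symm
  have hκ : (Ao / Ae) * (Ao / Ae) = (q ^ mm) * (q ^ mm) := by
    rw [div_mul_div_comm, hAo, hAe, inv_div_inv, ← zpow_natCast, ← zpow_natCast (q ^ n) So,
      ← zpow_sub₀ hc, ← hE', ← zpow_natCast q n, ← zpow_mul, hmm, ← zpow_add₀ hq]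
    congr 1
    ring
  have hqm : q ^ mm ≠ 0 := zpow_ne_zero _ hq
  refine ⟨(Ao / Ae) / q ^ mm, ?_, ?_⟩
  · rw [← mul_self_eq_one_iff, div_mul_div_comm, hκ, div_self (mul_ne_zero hqm hqm)]
  · rw [hodd, hev, ← map_zpow₀, ← map_mul, div_mul_cancel₀ _ hqm, hE',
      zpow_sub₀ RatFunc.X_ne_zero, zpow_natCast, zpow_natCast, map_div₀]
    rw [mul_div_mul_comm, mul_div_mul_comm, inv_div_inv]

theorem sum_palin (b : ℕ → ℕ) (n : ℕ) (hb : ∀ i, i ≤ 2 * n → b (2 * n - i) = b i) :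
    ∑ i ∈ Finset.range (2 * n + 1), b i = 2 * ∑ i ∈ Finset.range n, b i + b n := by
  have e : 2 * n + 1 = n + (n + 1) := by ring
  have h1 : ∑ x ∈ Finset.range n, b (n + (x + 1)) = ∑ x ∈ Finset.range n, b x := by
    rw [← Finset.sum_range_reflect (fun x => b (n + (x + 1))) n]
    refine Finset.sum_congr rfl fun i hi => ?_
    rw [Finset.mem_range] at hi
    have := hb i (by omega)
    rw [← this]
    congr 1
    omega
  rw [e, Finset.sum_range_add, Finset.sum_range_succ' (fun x => b (n + x)) n, h1]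
  simp only [add_zero]
  ring

theorem parity (b : ℕ → ℕ) (n : ℕ) (hb : ∀ i, i ≤ 2 * n → b (2 * n - i) = b i)
    (hn : Even n ∨ Even (b n)) :
    (2 : ℤ) ∣ (n : ℤ) * ∑ i ∈ Finset.range (2 * n + 1), (-1 : ℤ) ^ i * (b i : ℤ) := by
  have h2 : ((2 : ℕ) : ℤ) ∣ (n : ℤ) * ∑ i ∈ Finset.range (2 * n + 1), (-1 : ℤ) ^ i * (b i : ℤ) := by
    rw [← ZMod.intCast_zmod_eq_zero_iff_dvd]
    push_cast
    have hneg : (-1 : ZMod 2) = 1 := by decide
    simp only [hneg, one_pow, one_mul]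
    rw [← Nat.cast_sum, sum_palin b n hb]
    push_cast
    have h20 : (2 : ZMod 2) = 0 := by decide
    rw [h20, zero_mul, zero_add, ← Nat.cast_mul, ZMod.natCast_eq_zero_iff]
    rcases hn with hn | hn
    · exact Dvd.dvd.mul_right (even_iff_two_dvd.mp hn) _
    · exact Dvd.dvd.mul_left (even_iff_two_dvd.mp hn) _
  exact_mod_cast h2

theorem even_finrank_of_skew {K V : Type*} [Field K] [AddCommGroup V] [Module K V]
    [FiniteDimensional K V] (h2 : (2 : K) ≠ 0) (B : V →ₗ[K] V →ₗ[K] K)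
    (hinj : Function.Injective B) (hskew : ∀ v w, B v w = - B w v) :
    Even (Module.finrank K V) := by
  classical
  let b := Module.finBasis K V
  have hdet : (LinearMap.toMatrix₂ b b B).det ≠ 0 :=
    (LinearMap.separatingLeft_iff_det_ne_zero b).mp
      (LinearMap.separatingLeft_iff_ker_eq_bot.mpr (LinearMap.ker_eq_bot.mpr hinj))
  have hT : (LinearMap.toMatrix₂ b b B).transpose = -(LinearMap.toMatrix₂ b b B) := by
    ext i j
    rw [Matrix.transpose_apply, Matrix.neg_apply, LinearMap.toMatrix₂_apply,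
      LinearMap.toMatrix₂_apply]
    exact hskew _ _
  have h := congrArg Matrix.det hT
  rw [Matrix.det_transpose, Matrix.det_neg, Fintype.card_fin] at h
  by_contra hodd
  rw [Nat.not_even_iff_odd] at hodd
  rw [hodd.neg_one_pow, neg_one_mul] at h
  have h3 : (2 : K) * (LinearMap.toMatrix₂ b b B).det = 0 := by linear_combination h
  rcases mul_eq_zero.mp h3 with h4 | h4
  · exact h2 h4
  · exact hdet h4


/-- Let k₀ be a finite field with q elements, k an algebraically closed field containing k₀, H^* a Weil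
cohomology theory, with coefficient field K of characteristic zero, on nonsingular connected
projective varieties over k, X a scheme of finite type over k₀ whose base change X̄ = X ×_{k₀} k is
such a variety (as it is when X is nonsingular, projective and geometrically connected), and F =
Frob_{X,q} × id the k-endomorphism of X̄ induced by the q-Frobenius of X; let n = dim X̄ and E =
(Δ²) the self-intersection of the diagonal of X̄, which equals Σ_i (−1)^i dim_K H^i(X̄). Then Z(X,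
1/(q^n t)) = ± q^{nE/2} t^E Z(X, t). Stated in the field K(t) of rational functions for Z(t) = P_1
P_3 ⋯ P_{2n−1} / (P_0 P_2 ⋯ P_{2n}), P_i(t) = det(Id − t F^* | H^i(X̄)) (the reverse of the
characteristic polynomial), which is the zeta function of X by its cohomological factorisation; E is
written as the alternating sum of the dimensions, nE is even, and the sign is left unspecified as in
the published statement. The q-Frobenius of X is pinned as the endomorphism that is the identity on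
points and the q-th power on sections, X̄ as a cartesian square over Spec k → Spec k₀, and F by its
compatibility with the projection to X. -/
theorem result (k₀ : Type u) [Field k₀] [Finite k₀] (k : Type u) [Field k] [IsAlgClosed k] [Algebra k₀ k]
    (K : Type v) [Field K] [CharZero K] (T : WeilCoh.Theory k K)
    {X : Scheme.{u}} (f : X ⟶ Spec (CommRingCat.of k₀)) [LocallyOfFiniteType f] [QuasiCompact f]
    (FX : X ⟶ X) (hFb : FX.base = 𝟙 _) (hle : ∀ U : X.Opens, U ≤ FX ⁻¹ᵁ U)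
    (hFapp : ∀ (U : X.Opens) (s : Γ(X, U)), (FX.appLE U U (hle U)).hom s = s ^ Nat.card k₀)
    (Xb : WeilCoh.Var k) (π : Xb.obj.left ⟶ X)
    (hπ : IsPullback π Xb.obj.hom f (Spec.map (CommRingCat.ofHom (algebraMap k₀ k))))
    (F : Xb ⟶ Xb) (hF : WeilCoh.sm F ≫ π = π ≫ FX) :
    ∃ ε : K, (ε = 1 ∨ ε = -1) ∧
      Polynomial.aeval ((RatFunc.X : RatFunc K)⁻¹ * RatFunc.C ((Nat.card k₀ : K) ^ WeilCoh.dim Xb.obj.left)⁻¹)
          (∏ i ∈ Finset.range (WeilCoh.dim Xb.obj.left),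
            (LinearMap.charpoly (T.pullDeg F ((2 * i + 1 : ℕ) : ℤ))).reverse) /
        Polynomial.aeval ((RatFunc.X : RatFunc K)⁻¹ * RatFunc.C ((Nat.card k₀ : K) ^ WeilCoh.dim Xb.obj.left)⁻¹)
          (∏ i ∈ Finset.range (WeilCoh.dim Xb.obj.left + 1),
            (LinearMap.charpoly (T.pullDeg F ((2 * i : ℕ) : ℤ))).reverse) =
      RatFunc.C ε * RatFunc.C (Nat.card k₀ : K) ^ ((WeilCoh.dim Xb.obj.left : ℤ) * (∑ i ∈ Finset.range (2 * WeilCoh.dim Xb.obj.left + 1), (-1 : ℤ) ^ i * (Module.finrank K ↥(T.gr Xb (i : ℤ)) : ℤ)) / 2) *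
        (RatFunc.X : RatFunc K) ^ (∑ i ∈ Finset.range (2 * WeilCoh.dim Xb.obj.left + 1), (-1 : ℤ) ^ i * (Module.finrank K ↥(T.gr Xb (i : ℤ)) : ℤ)) *
        (algebraMap (Polynomial K) (RatFunc K)
          (∏ i ∈ Finset.range (WeilCoh.dim Xb.obj.left),
            (LinearMap.charpoly (T.pullDeg F ((2 * i + 1 : ℕ) : ℤ))).reverse) /
         algebraMap (Polynomial K) (RatFunc K)
          (∏ i ∈ Finset.range (WeilCoh.dim Xb.obj.left + 1),
            (LinearMap.charpoly (T.pullDeg F ((2 * i : ℕ) : ℤ))).reverse)) := by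
  have hq : (Nat.card k₀ : K) ≠ 0 := by
    rw [Nat.cast_ne_zero]; exact Nat.card_pos.ne'
  have h4 : ∀ j : ℤ, Module.finrank K ↥(T.gr Xb (2 * (WeilCoh.dim Xb.obj.left : ℤ) - j)) =
      Module.finrank K ↥(T.gr Xb j) := by
    intro j
    haveI := T.duality Xb (2 * (WeilCoh.dim Xb.obj.left : ℤ) - j) j (by ring)
    exact Module.finrank_of_isPerfPair
      (WeilCoh.pairing K (T.gr Xb (2 * (WeilCoh.dim Xb.obj.left : ℤ) - j)) (T.gr Xb j) (T.tr Xb))
  have hpar : (2 : ℤ) ∣ (WeilCoh.dim Xb.obj.left : ℤ) *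
      ∑ i ∈ Finset.range (2 * WeilCoh.dim Xb.obj.left + 1),
        (-1 : ℤ) ^ i * (Module.finrank K ↥(T.gr Xb (i : ℤ)) : ℤ) := by
    refine parity (fun i => Module.finrank K ↥(T.gr Xb (i : ℤ))) (WeilCoh.dim Xb.obj.left) ?_ ?_
    · intro i hi
      have e : ((2 * WeilCoh.dim Xb.obj.left - i : ℕ) : ℤ) =
          2 * (WeilCoh.dim Xb.obj.left : ℤ) - (i : ℤ) := by
        push_cast [Nat.cast_sub hi]; ring
      show Module.finrank K ↥(T.gr Xb ((2 * WeilCoh.dim Xb.obj.left - i : ℕ) : ℤ)) = _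
      rw [e]
      exact h4 i
    · rcases Nat.even_or_odd (WeilCoh.dim Xb.obj.left) with hn | hn
      · exact Or.inl hn
      · right
        have hperf := T.duality Xb (WeilCoh.dim Xb.obj.left : ℤ) (WeilCoh.dim Xb.obj.left : ℤ)
          (by ring)
        refine even_finrank_of_skew (K := K) two_ne_zero
          (WeilCoh.pairing K (T.gr Xb (WeilCoh.dim Xb.obj.left : ℤ))
            (T.gr Xb (WeilCoh.dim Xb.obj.left : ℤ)) (T.tr Xb)) hperf.bijective_left.injective ?_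
        intro v w
        have hc := T.gradedComm Xb (WeilCoh.dim Xb.obj.left : ℤ) (WeilCoh.dim Xb.obj.left : ℤ)
          (v : T.H Xb) (w : T.H Xb) v.2 w.2
        have hodd : Odd ((WeilCoh.dim Xb.obj.left : ℤ).natAbs * (WeilCoh.dim Xb.obj.left : ℤ).natAbs) := by
          rw [Int.natAbs_natCast]; exact hn.mul hn
        rw [hodd.neg_one_pow, neg_one_smul] at hc
        show T.tr Xb ((v : T.H Xb) * (w : T.H Xb)) = - T.tr Xb ((w : T.H Xb) * (v : T.H Xb))
        rw [hc, map_neg]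
  exact assemble (Nat.card k₀ : K) hq (WeilCoh.dim Xb.obj.left)
    (fun j => LinearMap.charpoly (T.pullDeg F j)) (fun j => Module.finrank K ↥(T.gr Xb j))
    (fun j => LinearMap.det (T.pullDeg F j))
    (fun j => Groth.Agent.S15455.result k₀ k K T f FX hFb hle hFapp Xb π hπ F hF j)
    (fun j => by
      rw [← pow_mul]
      exact Groth.Agent.S15454.result k₀ k K T f FX hFb hle hFapp Xb π hπ F hF j)
    (fun j => LinearMap.charpoly_natDegree _)
    h4 hpar

end Groth.Agent.S15456
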