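import Groth.Statements.S15464
import Groth.Agent.Lib.H73WeilLef

set_option autoImplicit false
universe u v
open CategoryTheory AlgebraicGeometry
open WeilCoh

namespace Groth.Agent.S15464

/-- the graph of a morphism `X ⟶ Y` in the product `P` has codimension `dim Y` -/
theorem codim_graph {k : Type u} [Field k] [IsAlgClosed k]
    {K : Type v} [Field K] [CharZero K] (T : WeilCoh.Theory k K) (X Y P : WeilCoh.Var k)
    [IrreducibleSpace ↥X.obj.left] (p : P ⟶ X) (q : P ⟶ Y)
    (hP : WeilCoh.IsProd p q) (j : X ⟶ P) (hjp : j ≫ p = 𝟙 X) :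
    (WeilCoh.codim P.obj.left (WeilCoh.sm j (genericPoint ↥X.obj.left)) : ℤ) =
      WeilCoh.dim Y.obj.left := by
  letI : X.obj.left.Over (Spec (CommRingCat.of k)) := ⟨X.obj.hom⟩
  haveI : LocallyOfFiniteType (X.obj.left ↘ Spec (CommRingCat.of k)) :=
    Groth.Agent.Lib.H73WeilPt.lft_of_isVar k X
  letI : P.obj.left.Over (Spec (CommRingCat.of k)) := ⟨P.obj.hom⟩
  haveI : LocallyOfFiniteType (P.obj.left ↘ Spec (CommRingCat.of k)) :=
    Groth.Agent.Lib.H73WeilPt.lft_of_isVar k P
  haveI : IrreducibleSpace ↥P.obj.left := P.property.2.2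
  haveI : (WeilCoh.sm j).IsOver (Spec (CommRingCat.of k)) := ⟨Over.w j.hom⟩
  have h2 : (WeilCoh.sm j).residueDegree (genericPoint ↥X.obj.left) = 1 :=
    Groth.Agent.Lib.H73WeilLef.residueDegree_of_section (WeilCoh.sm j) (WeilCoh.sm p)
      (by rw [← Groth.Agent.Lib.H73WeilLef.sm_comp, hjp, Groth.Agent.Lib.H73WeilLef.sm_id]) _
  have h3 := Groth.Agent.Lib.H73WeilDim.pdim_map_eq_of_residueDegree_ne_zero k (WeilCoh.sm j)
    (genericPoint ↥X.obj.left) (by rw [h2]; exact one_ne_zero)
  rw [Groth.Agent.Lib.H73WeilDim.pdim_genericPoint k] at h3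
  have h4 := Groth.Agent.Lib.H73WeilDim.codim_add_pdim k P.obj.left
    (WeilCoh.sm j (genericPoint ↥X.obj.left))
  have h5 := Groth.Agent.Lib.WeilCohPush.dim_prod T p q hP
  omega


/-- Let H be a Weil cohomology theory with coefficients in a field K of characteristic zero on
nonsingular connected projective varieties over an algebraically closed field k, f : X → Y a
morphism of such varieties, P = X × Y with its projections p to X and q to Y, and j : X → P the
graph of f (the section of p with q ∘ j = f). Then for every cohomology class β on Y, homogeneous of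
degree i, one has f^*(β) = p_*(cl(Γ_f) · q^*(β)) in H(X), where cl(Γ_f) is the class of the graph,
the closed irreducible subset of P with generic point j(η_X), and p_* is the push-forward (Gysin
map) along p. Push-forward is taken degree by degree, on the homogeneous component of degree 2
codim_P(Γ_f) + i containing cl(Γ_f) · q^*(β); the identity is stated in the total cohomology ring of
X, and the case of an inhomogeneous β follows by additivity. -/
theorem result (k : Type u) [Field k] [IsAlgClosed k]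
    (K : Type v) [Field K] [CharZero K] (T : WeilCoh.Theory k K) (X Y P : WeilCoh.Var k)
    [IrreducibleSpace ↥X.obj.left] (f : X ⟶ Y) (p : P ⟶ X) (q : P ⟶ Y)
    (hP : WeilCoh.IsProd p q) (j : X ⟶ P) (hjp : j ≫ p = 𝟙 X) (hjq : j ≫ q = f)
    (i : ℤ) (β : ↥(T.gr Y i)) :
    (T.push p (2 * (WeilCoh.codim P.obj.left (WeilCoh.sm j (genericPoint ↥X.obj.left)) : ℤ) + i)
        ⟨T.cl P (WeilCoh.sm j (genericPoint ↥X.obj.left)) * T.pull q (β : T.H Y),
          SetLike.mul_mem_graded (T.cl_mem P (WeilCoh.sm j (genericPoint ↥X.obj.left)))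
            (T.pull_mem q i β β.2)⟩ : T.H X) = T.pull f (β : T.H Y) := by
  have hc := codim_graph T X Y P p q hP j hjp
  have hdim := Groth.Agent.Lib.WeilCohPush.dim_prod T p q hP
  refine Groth.Agent.Lib.WeilCohPush.eq_of_forall_tr_mul T i (2 * (WeilCoh.dim X.obj.left : ℤ) - i)
    (by ring) _ _ (Groth.Agent.Lib.WeilCohPush.push_mem T p _ _ _ (by omega))
    (T.pull_mem f i β β.2) fun b hb => ?_
  rw [Groth.Agent.Lib.WeilCohPush.tr_push_mul' T p _ _ b (2 * (WeilCoh.dim X.obj.left : ℤ) - i)
    (by omega) hb]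
  change T.tr P ((T.cl P (WeilCoh.sm j (genericPoint ↥X.obj.left)) * T.pull q (β : T.H Y)) *
    T.pull p b) = _
  rw [mul_assoc, Groth.Agent.Lib.H73WeilLef.tr_cl_section T X P j p hjp _
    (by
      have h := SetLike.mul_mem_graded (T.pull_mem q i β β.2)
        (T.pull_mem p (2 * (WeilCoh.dim X.obj.left : ℤ) - i) b hb)
      convert h using 2
      ring)]
  rw [map_mul, ← AlgHom.comp_apply, ← AlgHom.comp_apply, ← T.pull_comp, ← T.pull_comp, hjp, hjq,
    T.pull_id]
  rfl

end Groth.Agent.S15464
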