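import Groth.Statements.S15465
import Mathlib.CategoryTheory.Abelian.Refinements

set_option autoImplicit false
universe v u
open HomAlg

namespace Groth.Agent.S15465

section Aux
open CategoryTheory CategoryTheory.Limits

theorem aux {C : Type u} [Category.{v} C] [Abelian C] (K : ShortComplex C) {A₂ A₃ C₁ C₂ : C}
    (i₁ : K.X₁ ⟶ A₂) (p₁ : A₂ ⟶ A₃) (wA : i₁ ≫ p₁ = 0) (hA : (ShortComplex.mk i₁ p₁ wA).ShortExact)
    (i₂ : A₂ ⟶ K.X₂) (π₂ : K.X₂ ⟶ C₂) (wB : i₂ ≫ π₂ = 0) (hB : (ShortComplex.mk i₂ π₂ wB).ShortExact)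
    (j : C₁ ⟶ C₂) (q : C₂ ⟶ K.X₃) (wC : j ≫ q = 0) (hC : (ShortComplex.mk j q wC).ShortExact)
    (hKf : K.f = i₁ ≫ i₂) (hKg : K.g = π₂ ≫ q)
    (h₂ : i₂ ≫ K.g = 0) (h₃ : K.f ≫ π₂ = 0)
    (f : A₃ ⟶ K.homology) (g : K.homology ⟶ C₁)
    (hf : p₁ ≫ f = K.liftCycles i₂ h₂ ≫ K.homologyπ)
    (hg : g ≫ j = K.homologyι ≫ K.descOpcycles π₂ h₃) :
    ∃ wfg : f ≫ g = 0, (ShortComplex.mk f g wfg).ShortExact := by
  have : Mono i₂ := hB.mono_f
  have : Epi π₂ := hB.epi_g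
  have : Mono j := hC.mono_f
  have : Epi p₁ := hA.epi_g
  have : Mono i₁ := hA.mono_f
  -- the composite `homologyπ ≫ g ≫ j`
  have hπg : K.homologyπ ≫ g ≫ j = K.iCycles ≫ π₂ := by
    rw [hg, ← Category.assoc, K.homology_π_ι, Category.assoc, K.p_descOpcycles]
  have wfg : f ≫ g = 0 := by
    rw [← cancel_epi p₁, ← cancel_mono j, Category.assoc, Category.assoc, ← Category.assoc p₁ f,
      hf, Category.assoc, hπg, comp_zero, zero_comp, K.liftCycles_i_assoc, wB]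
  refine ⟨wfg, ?_⟩
  have hmono : Mono f := by
    rw [Preadditive.mono_iff_cancel_zero]
    intro T x hx
    obtain ⟨T', π, hπ, y, hy⟩ := surjective_up_to_refinements_of_epi p₁ x
    have h1 : K.liftCycles (y ≫ i₂) (by rw [Category.assoc, h₂, comp_zero]) ≫ K.homologyπ = 0 := by
      have : K.liftCycles (y ≫ i₂) (by rw [Category.assoc, h₂, comp_zero]) =
          y ≫ K.liftCycles i₂ h₂ := by
        rw [← cancel_mono K.iCycles]; simp
      rw [this, Category.assoc, ← hf, ← Category.assoc, ← hy, Category.assoc, hx, comp_zero]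
    rw [K.liftCycles_comp_homologyπ_eq_zero_iff_up_to_refinements] at h1
    obtain ⟨T'', π', hπ', z, hz⟩ := h1
    have h2 : π' ≫ y = z ≫ i₁ := by
      rw [← cancel_mono i₂, Category.assoc, Category.assoc, ← hKf]
      exact hz
    have h3 : (π' ≫ π) ≫ x = 0 := by
      rw [Category.assoc, hy, ← Category.assoc, h2, Category.assoc, wA, comp_zero]
    have : Epi (π' ≫ π) := epi_comp π' π
    exact (cancel_epi (π' ≫ π)).mp (h3.trans comp_zero.symm)
  have hepi : Epi g := by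
    rw [epi_iff_surjective_up_to_refinements]
    intro T c
    obtain ⟨T', π, hπ, b, hb⟩ := surjective_up_to_refinements_of_epi π₂ (c ≫ j)
    have hbz : b ≫ K.g = 0 := by
      rw [hKg, ← Category.assoc, ← hb, Category.assoc, Category.assoc, wC, comp_zero, comp_zero]
    refine ⟨T', π, hπ, K.liftCycles b hbz ≫ K.homologyπ, ?_⟩
    rw [← cancel_mono j, Category.assoc, Category.assoc, Category.assoc, hπg,
      K.liftCycles_i_assoc, ← hb]
  have hexact : (ShortComplex.mk f g wfg).Exact := by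
    rw [ShortComplex.exact_iff_exact_up_to_refinements]
    intro T k hk
    change k ≫ g = 0 at hk
    obtain ⟨T', π, hπ, z, hz, hzk⟩ := K.eq_liftCycles_homologyπ_up_to_refinements k
    have h1 : z ≫ π₂ = 0 := by
      have : K.liftCycles z hz ≫ K.homologyπ ≫ g ≫ j = 0 := by
        rw [← Category.assoc, ← hzk, Category.assoc, ← Category.assoc k, hk, zero_comp, comp_zero]
      rwa [hπg, K.liftCycles_i_assoc] at this
    -- lift `z` through the kernel `i₂` of `π₂`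
    obtain ⟨T'', π', hπ', a, ha⟩ := hB.exact.exact_up_to_refinements z h1
    change π' ≫ z = a ≫ i₂ at ha
    refine ⟨T'', π' ≫ π, epi_comp π' π, a ≫ p₁, ?_⟩
    change (π' ≫ π) ≫ k = (a ≫ p₁) ≫ f
    rw [Category.assoc, hzk, Category.assoc, hf, ← Category.assoc, ← Category.assoc]
    congr 1
    rw [← cancel_mono K.iCycles]
    simp [ha]
  exact ShortComplex.ShortExact.mk' hexact hmono hepi

end Aux


open CategoryTheory CategoryTheory.Limits in
/-- In an abelian category let 0 → A₂ → B₂ → C₂ → 0 (maps i₂, π₂), 0 → A₁ → A₂ → A₃ → 0 (maps i₁, p₁)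
and 0 → C₁ → C₂ → C₃ → 0 (maps j, q) be short exact sequences, let α = i₁ ≫ i₂ : A₁ → B₂ and β = π₂
≫ q : B₂ → C₃, and let K = ker β / im α be the homology object of the complex A₁ → B₂ → C₃. Let f :
A₃ → K be the map induced by i₂ (the unique map whose composite with p₁ is the homology class of the
cycle i₂) and g : K → C₁ the map induced by π₂ (the unique map whose composite with j is the map K →
C₂ induced by π₂). Then 0 → A₃ → K → C₁ → 0, with maps f and g, is a short exact sequence. (The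
hypotheses w, h₂, h₃ are consequences of i₂ ≫ π₂ = 0, carried so that the maps can be named; the
published statement assumes in addition that the category has enough injective objects, which plays
no role in this assertion.) -/
theorem result
    {C : Type u} [Category.{v} C] [Abelian C] {A₁ A₂ A₃ B₂ C₁ C₂ C₃ : C}
    (i₁ : A₁ ⟶ A₂) (p₁ : A₂ ⟶ A₃) (wA : i₁ ≫ p₁ = 0) (hA : (ShortComplex.mk i₁ p₁ wA).ShortExact)
    (i₂ : A₂ ⟶ B₂) (π₂ : B₂ ⟶ C₂) (wB : i₂ ≫ π₂ = 0) (hB : (ShortComplex.mk i₂ π₂ wB).ShortExact)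
    (j : C₁ ⟶ C₂) (q : C₂ ⟶ C₃) (wC : j ≫ q = 0) (hC : (ShortComplex.mk j q wC).ShortExact)
    (w : (i₁ ≫ i₂) ≫ (π₂ ≫ q) = 0) (h₂ : i₂ ≫ (π₂ ≫ q) = 0) (h₃ : (i₁ ≫ i₂) ≫ π₂ = 0)
    (f : A₃ ⟶ (CategoryTheory.ShortComplex.mk (i₁ ≫ i₂) (π₂ ≫ q) w).homology)
    (g : (CategoryTheory.ShortComplex.mk (i₁ ≫ i₂) (π₂ ≫ q) w).homology ⟶ C₁)
    (hf : p₁ ≫ f = (CategoryTheory.ShortComplex.mk (i₁ ≫ i₂) (π₂ ≫ q) w).liftCycles i₂ h₂ ≫ (CategoryTheory.ShortComplex.mk (i₁ ≫ i₂) (π₂ ≫ q) w).homologyπ)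
    (hg : g ≫ j = (CategoryTheory.ShortComplex.mk (i₁ ≫ i₂) (π₂ ≫ q) w).homologyι ≫ (CategoryTheory.ShortComplex.mk (i₁ ≫ i₂) (π₂ ≫ q) w).descOpcycles π₂ h₃) :
    ∃ wfg : f ≫ g = 0, (ShortComplex.mk f g wfg).ShortExact := by
  exact aux (CategoryTheory.ShortComplex.mk (i₁ ≫ i₂) (π₂ ≫ q) w) i₁ p₁ wA hA i₂ π₂ wB hB j q wC hC
    rfl rfl h₂ h₃ f g hf hg

end Groth.Agent.S15465
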