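import Groth.Statements.S1547
import Groth.Agent.Lib.H71SepClosedGeom

set_option autoImplicit false
universe u
open CategoryTheory CategoryTheory.Limits AlgebraicGeometry
open Variety

namespace Groth.Agent.S1547

/-- Let k be a separably closed field, X a scheme over k and K any field extension of k. Then taking
images along the projection X_K → X is injective on irreducible components: two irreducible
components of X_K with the same image in X are equal. (Together with surjectivity on irreducible
components, stated separately, this gives a bijection of irreducible components.) -/
theorem result (k : Type u) [Field k] (X : Scheme.{u}) [X.Over (Spec (CommRingCat.of k))] [IsSepClosed k] (K : Type u) [Field K] [Algebra k K]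
    (T T' : Set (Curv2.bc k X K : Type u)) (hT : T ∈ irreducibleComponents (Curv2.bc k X K : Type u))
    (hT' : T' ∈ irreducibleComponents (Curv2.bc k X K : Type u))
    (h : (Curv2.bcFst k X K).base '' T = (Curv2.bcFst k X K).base '' T') : T = T' := by
  let f := X ↘ (Spec (CommRingCat.of k))
  let g := Spec.map (CommRingCat.ofHom (algebraMap k K))
  have hg : GeometricallyIrreducible g :=
    Groth.Agent.Lib.H71SepClosedGeom.geometricallyIrreducible_of_irreducibleSpace g
  have hp : GeometricallyIrreducible (Limits.pullback.fst f g) := inferInstance
  have hopen : IsOpenMap (Limits.pullback.fst f g).base := (Limits.pullback.fst f g).isOpenMap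
  have key : ∀ S : Set (Curv2.bc k X K : Type u), S ∈ irreducibleComponents (Curv2.bc k X K : Type u) →
      S = (Limits.pullback.fst f g).base ⁻¹' closure ((Limits.pullback.fst f g).base '' S) := by
    intro S hS
    have hirr : IsIrreducible (closure ((Limits.pullback.fst f g).base '' S)) :=
      (hS.1.image _ (Limits.pullback.fst f g).continuous.continuousOn).closure
    have h2 : IsIrreducible ((Limits.pullback.fst f g).base ⁻¹' closure ((Limits.pullback.fst f g).base '' S)) :=
      Scheme.Hom.isIrreducible_preimage (Limits.pullback.fst f g) hopen hirr
    exact hS.eq_of_subset h2 (fun x hx => subset_closure ⟨x, hx, rfl⟩)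
  rw [key T hT, key T' hT']
  change (Limits.pullback.fst f g).base ⁻¹' closure ((Curv2.bcFst k X K).base '' T) =
    (Limits.pullback.fst f g).base ⁻¹' closure ((Curv2.bcFst k X K).base '' T')
  rw [h]

end Groth.Agent.S1547
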