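import Groth.Statements.S1548
import Groth.Agent.Lib.H71GeomRedAt2
import Groth.Agent.Lib.MacLane5H44

set_option autoImplicit false
universe u
open CategoryTheory CategoryTheory.Limits AlgebraicGeometry
open Variety

namespace Groth.Agent.S1548

/-- Let k be a field of characteristic p > 0. If the base change X_{k'} is reduced whenever k' is a
finite purely inseparable extension of k, then X is geometrically reduced over k. -/
theorem result (k : Type u) [Field k] (p : ℕ) [Fact p.Prime] [CharP k p]
    (X : Scheme.{u}) [X.Over (Spec (CommRingCat.of k))]
    (h : ∀ (k' : Type u) [Field k'] [Algebra k k'] [FiniteDimensional k k'] [IsPurelyInseparable k k'], IsReduced (Curv2.bc k X k')) :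
    GeometricallyReduced (X ↘ (Spec (CommRingCat.of k))) := by
  apply Groth.Agent.Lib.H71GeomRedAt.geometricallyReduced_of_forall_isGeomReducedAt
  intro x
  letI := Curv2.stalkAlgebra k X x
  haveI : Algebra.IsGeometricallyReduced k (X.presheaf.stalk x) := by
    apply Groth.Agent.Lib.MacLane5H44.isGeometricallyReduced_of_forall_finite_purelyInseparable
    intro k' _ _ _ _
    haveI : IsReduced (Curv2.bc k X k') := h k'
    have h2 := Groth.Agent.Lib.H71GeomRedAt.isReduced_stalk_tensor_of_isReduced_bc k X x k'
    exact isReduced_of_injective (Algebra.TensorProduct.comm k k' (X.presheaf.stalk x)).toRingHom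
      (Algebra.TensorProduct.comm k k' (X.presheaf.stalk x)).injective
  exact Groth.Agent.Lib.H71GeomRedAt.isGeomReducedAt_of_isGeometricallyReduced k X x

end Groth.Agent.S1548
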