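import Groth.Statements.S15480
import Groth.Agent.Lib.IsoNatPts
import Groth.Agent.Lib.AlgStQCOpen2

set_option autoImplicit false
universe u
open CategoryTheory AlgebraicGeometry
open IsoNat

namespace Groth.Agent.S15480

/-- Quasi-compactness of a morphism of algebraic stacks is detected by the induced map of presheaves of
isomorphism classes. Let f : 𝒳 → 𝒴 and f' : 𝒳' → 𝒴' be morphisms of algebraic stacks over a
quasi-separated scheme S with isomorphisms of the presheaves of isomorphism classes of 𝒳 with 𝒳' and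
of 𝒴 with 𝒴' under which the induced maps correspond. If f is quasi-compact (its base change to
every quasi-compact algebraic stack is quasi-compact) then so is f'. Here an algebraic stack over a
quasi-separated scheme S means a stack in groupoids for the fppf topology with a smooth surjective
atlas from a scheme, whose diagonal is representable by separated quasi-compact morphisms of
algebraic spaces and whose inertia is locally of finite presentation over it. -/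
theorem result
    (S : Scheme.{u}) [QuasiSeparatedSpace S]
    (𝒳 𝒴 : AlgSt.Cat S)
    (h𝒳 : AlgSt.IsAlgStack Scheme.fppfPrecoverage 𝒳)
    (h𝒳d : AlgSt.RepByAlgSpWith (AlgSp.IsSeparatedMor ⊓ AlgSp.IsQuasiCompactMor)
      (FibCat.diag (FibCat.toSelf 𝒳)))
    (h𝒳i : AlgSt.RepByAlgSpWith (AlgSp.LocP @LocallyOfFinitePresentation)
      (FibCat.inertiaToBase (FibCat.toSelf 𝒳)))
    (h𝒴 : AlgSt.IsAlgStack Scheme.fppfPrecoverage 𝒴)
    (h𝒴d : AlgSt.RepByAlgSpWith (AlgSp.IsSeparatedMor ⊓ AlgSp.IsQuasiCompactMor)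
      (FibCat.diag (FibCat.toSelf 𝒴)))
    (h𝒴i : AlgSt.RepByAlgSpWith (AlgSp.LocP @LocallyOfFinitePresentation)
      (FibCat.inertiaToBase (FibCat.toSelf 𝒴)))
    (𝒳' 𝒴' : AlgSt.Cat S)
    (h𝒳' : AlgSt.IsAlgStack Scheme.fppfPrecoverage 𝒳')
    (h𝒳'd : AlgSt.RepByAlgSpWith (AlgSp.IsSeparatedMor ⊓ AlgSp.IsQuasiCompactMor)
      (FibCat.diag (FibCat.toSelf 𝒳')))
    (h𝒳'i : AlgSt.RepByAlgSpWith (AlgSp.LocP @LocallyOfFinitePresentation)
      (FibCat.inertiaToBase (FibCat.toSelf 𝒳')))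
    (h𝒴' : AlgSt.IsAlgStack Scheme.fppfPrecoverage 𝒴')
    (h𝒴'd : AlgSt.RepByAlgSpWith (AlgSp.IsSeparatedMor ⊓ AlgSp.IsQuasiCompactMor)
      (FibCat.diag (FibCat.toSelf 𝒴')))
    (h𝒴'i : AlgSt.RepByAlgSpWith (AlgSp.LocP @LocallyOfFinitePresentation)
      (FibCat.inertiaToBase (FibCat.toSelf 𝒴')))
    (f : 𝒳 ⥤ᵇ 𝒴) (f' : 𝒳' ⥤ᵇ 𝒴') (φ : IsoNat.FIsoSq f f')
    (hf : AlgSt.IsQuasiCompactMor Scheme.fppfPrecoverage f) :
    AlgSt.IsQuasiCompactMor Scheme.fppfPrecoverage f' := by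
  haveI := h𝒳.isStack.1
  haveI := h𝒴.isStack.1
  haveI := h𝒳'.isStack.1
  haveI := h𝒴'.isStack.1
  have hqs𝒴 := Groth.Agent.Lib.AlgStQCOpen.isQuasiSeparatedOver_of_sep_qc h𝒴d
  have hqs𝒴' := Groth.Agent.Lib.AlgStQCOpen.isQuasiSeparatedOver_of_sep_qc h𝒴'd
  rw [Groth.Agent.Lib.AlgStQCOpen.isQuasiCompactMor_iff_isCompact_preimage h𝒳' h𝒴' hqs𝒴' f']
  rw [Groth.Agent.Lib.AlgStQCOpen.isQuasiCompactMor_iff_isCompact_preimage h𝒳 h𝒴 hqs𝒴 f] at hf
  intro T' hT' hT'c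
  let e𝒳 := Groth.Agent.Lib.IsoNatPts.ptsHomeo h𝒳.atlas h𝒳'.atlas φ.src
  let e𝒴 := Groth.Agent.Lib.IsoNatPts.ptsHomeo h𝒴.atlas h𝒴'.atlas φ.tgt
  have h1 : IsCompact (AlgSt.Points.map f ⁻¹' (e𝒴 ⁻¹' T')) :=
    hf _ (e𝒴.continuous.isOpen_preimage _ hT') (e𝒴.isCompact_preimage.2 hT'c)
  have h2 : AlgSt.Points.map f' ⁻¹' T' = e𝒳 '' (AlgSt.Points.map f ⁻¹' (e𝒴 ⁻¹' T')) := by
    ext ξ'
    constructor
    · intro h
      refine ⟨e𝒳.symm ξ', ?_, e𝒳.apply_symm_apply ξ'⟩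
      show Groth.Agent.Lib.IsoNatPts.ptsMap φ.tgt (AlgSt.Points.map f (e𝒳.symm ξ')) ∈ T'
      rw [Groth.Agent.Lib.IsoNatPts.ptsMap_map f f' φ]
      have h3 : Groth.Agent.Lib.IsoNatPts.ptsMap φ.src (e𝒳.symm ξ') = ξ' :=
        e𝒳.apply_symm_apply ξ'
      rw [h3]
      exact h
    · rintro ⟨ξ, hξ, rfl⟩
      show AlgSt.Points.map f' (Groth.Agent.Lib.IsoNatPts.ptsMap φ.src ξ) ∈ T'
      rw [← Groth.Agent.Lib.IsoNatPts.ptsMap_map f f' φ]
      exact hξ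
  rw [h2]
  exact h1.image e𝒳.continuous

end Groth.Agent.S15480
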