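import Mathlib
import Groth.Statements.S15488

set_option autoImplicit false
universe u
open IsoNat

namespace Groth.Agent.S15488

section Helpers

variable {A : Type u} [CommRing A] {G : Type u} [Group G] [Finite G]

theorem pow_eq_of_modEq {l : A} {ν : ℕ} (hl : l ^ ν = 1) {a b : ℕ} (h : a ≡ b [MOD ν]) :
    l ^ a = l ^ b := by
  have key : ∀ a : ℕ, l ^ a = l ^ (a % ν) := by
    intro a
    conv_lhs => rw [← Nat.div_add_mod a ν, pow_add, pow_mul, hl, one_pow, one_mul]
  rw [key a, key b, h]

/-- the coset label -/
def q (g : G) (h : G) : G ⧸ Subgroup.zpowers g := QuotientGroup.mk h⁻¹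

/-- the section -/
noncomputable def s (g : G) (c : G ⧸ Subgroup.zpowers g) : G := (Quotient.out c)⁻¹

theorem q_mul (g h : G) : q g (g * h) = q g h := by
  unfold q
  rw [QuotientGroup.eq]
  have : ((g * h)⁻¹)⁻¹ * h⁻¹ = g := by group
  rw [this]
  exact Subgroup.mem_zpowers g

theorem q_s (g : G) (c : G ⧸ Subgroup.zpowers g) : q g (s g c) = c := by
  unfold q s
  rw [inv_inv]
  exact QuotientGroup.out_eq' c

theorem exists_pow (g h : G) : ∃ k : ℕ, h = g ^ k * s g (q g h) := by
  obtain ⟨z, hz⟩ := QuotientGroup.mk_out_eq_mul (Subgroup.zpowers g) h⁻¹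
  have hzmem : (z : G) ∈ Submonoid.powers g := by
    rw [mem_powers_iff_mem_zpowers]; exact z.2
  obtain ⟨k, hk⟩ := Submonoid.mem_powers_iff _ _ |>.1 hzmem
  refine ⟨k, ?_⟩
  unfold s q
  rw [hz, hk]
  group

/-- the coefficient function -/
noncomputable def c (g : G) (l : A) (h : G) : A := l ^ (Classical.choose (exists_pow g h))

theorem c_eq (g : G) (l : A) (hl : l ^ orderOf g = 1) (h : G) (k : ℕ)
    (hk : h = g ^ k * s g (q g h)) : c g l h = l ^ k := by
  unfold c
  have h0 := Classical.choose_spec (exists_pow g h)
  have h1 : g ^ (Classical.choose (exists_pow g h)) = g ^ k := by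
    have : g ^ (Classical.choose (exists_pow g h)) * s g (q g h) = g ^ k * s g (q g h) := by
      rw [← h0, ← hk]
    exact mul_right_cancel this
  exact pow_eq_of_modEq hl (pow_eq_pow_iff_modEq.1 h1)

theorem c_mul (g : G) (l : A) (hl : l ^ orderOf g = 1) (h : G) :
    c g l (g * h) = l * c g l h := by
  obtain ⟨k, hk⟩ := exists_pow g h
  rw [c_eq g l hl h k hk, c_eq g l hl (g * h) (k + 1), pow_succ']
  rw [q_mul, pow_succ', mul_assoc, ← hk]

theorem c_s (g : G) (l : A) (hl : l ^ orderOf g = 1) (x : G ⧸ Subgroup.zpowers g) :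
    c g l (s g x) = 1 := by
  rw [c_eq g l hl (s g x) 0, pow_zero]
  rw [q_s, pow_zero, one_mul]

/-- extension map -/
noncomputable def ext (g : G) (l : A) : ((G ⧸ Subgroup.zpowers g) → A) →ₗ[A] (G → A) where
  toFun w h := c g l h * w (q g h)
  map_add' w w' := by funext h; simp [mul_add]
  map_smul' a w := by funext h; simp [mul_left_comm]

theorem mem_ker_iff (g : G) (l : A) (v : G → A) :
    v ∈ LinearMap.ker (LinearMap.funLeft A A (fun h : G => g * h) - l • LinearMap.id) ↔
      ∀ h, v (g * h) = l * v h := by
  rw [LinearMap.mem_ker]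
  constructor
  · intro hv h
    have := congrFun hv h
    simp only [LinearMap.sub_apply, LinearMap.funLeft_apply, LinearMap.smul_apply,
      LinearMap.id_coe, id_eq, Pi.sub_apply, Pi.smul_apply, smul_eq_mul, Pi.zero_apply] at this
    exact sub_eq_zero.1 this
  · intro hv
    funext h
    simp only [LinearMap.sub_apply, LinearMap.funLeft_apply, LinearMap.smul_apply,
      LinearMap.id_coe, id_eq, Pi.sub_apply, Pi.smul_apply, smul_eq_mul, Pi.zero_apply]
    exact sub_eq_zero.2 (hv h)

theorem ext_mem (g : G) (l : A) (hl : l ^ orderOf g = 1) (w : (G ⧸ Subgroup.zpowers g) → A) :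
    ext g l w ∈ LinearMap.ker (LinearMap.funLeft A A (fun h : G => g * h) - l • LinearMap.id) := by
  rw [mem_ker_iff]
  intro h
  show c g l (g * h) * w (q g (g * h)) = l * (c g l h * w (q g h))
  rw [c_mul g l hl, q_mul, mul_assoc]

theorem ker_pow (g : G) (l : A) (v : G → A) (hv : ∀ h, v (g * h) = l * v h) (k : ℕ) (x : G) :
    v (g ^ k * x) = l ^ k * v x := by
  induction k with
  | zero => simp
  | succ k ih => rw [pow_succ', mul_assoc, hv, ih, pow_succ', mul_assoc]

theorem ext_res (g : G) (l : A) (hl : l ^ orderOf g = 1) (v : G → A)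
    (hv : ∀ h, v (g * h) = l * v h) :
    ext g l (fun x => v (s g x)) = v := by
  funext h
  show c g l h * v (s g (q g h)) = v h
  obtain ⟨k, hk⟩ := exists_pow g h
  rw [c_eq g l hl h k hk]
  conv_rhs => rw [hk]
  rw [ker_pow g l v hv]

theorem res_ext (g : G) (l : A) (hl : l ^ orderOf g = 1) (w : (G ⧸ Subgroup.zpowers g) → A) :
    (fun x => ext g l w (s g x)) = w := by
  funext x
  show c g l (s g x) * w (q g (s g x)) = w x
  rw [c_s g l hl, q_s, one_mul]

/-- the equivalence -/
noncomputable def kerEquiv (g : G) (l : A) (hl : l ^ orderOf g = 1) :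
    ((G ⧸ Subgroup.zpowers g) → A) ≃ₗ[A]
      LinearMap.ker (LinearMap.funLeft A A (fun h : G => g * h) - l • LinearMap.id) where
  toFun w := ⟨ext g l w, ext_mem g l hl w⟩
  map_add' w w' := by
    apply Subtype.ext
    simp
  map_smul' a w := by
    apply Subtype.ext
    simp
  invFun v := fun x => v.1 (s g x)
  left_inv w := res_ext g l hl w
  right_inv v := by
    apply Subtype.ext
    exact ext_res g l hl v.1 ((mem_ker_iff g l v.1).1 v.2)

end Helpers

/-- Let A be a nontrivial commutative ring, G a finite group, g an element of G of order ν and l an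
element of A with l ^ ν = 1. In the free A-module of functions G → A (the regular representation, g
acting by translation v ↦ v(g·)), the submodule of v with v(g h) = l v(h) for all h is a direct
summand, free of rank |G| / ν (stated as: free, rank · ν = |G|, and a complementary submodule
exists). (The published statement is over an arbitrary ring and also covers Hom(A^N, −) of the
regular representation, which follows; nontriviality of A is needed for the rank to be meaningful.) -/
theorem result
    (A : Type u) [CommRing A] [Nontrivial A] (G : Type u) [Group G] [Finite G]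
    (g : G) (l : A) (hl : l ^ orderOf g = 1) :
    Module.Free A (LinearMap.ker (LinearMap.funLeft A A (fun h : G => g * h) - l • LinearMap.id)) ∧
      Module.finrank A (LinearMap.ker (LinearMap.funLeft A A (fun h : G => g * h) - l • LinearMap.id)) * orderOf g = Nat.card G ∧
      ∃ E' : Submodule A (G → A), IsCompl (LinearMap.ker (LinearMap.funLeft A A (fun h : G => g * h) - l • LinearMap.id)) E' := by
  classical
  have : Fintype (G ⧸ Subgroup.zpowers g) := Fintype.ofFinite _
  refine ⟨Module.Free.of_equiv (kerEquiv g l hl), ?_, ?_⟩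
  · rw [← (kerEquiv g l hl).finrank_eq, Module.finrank_fintype_fun_eq_card,
      ← Nat.card_eq_fintype_card, ← Nat.card_zpowers g]
    exact (Subgroup.card_eq_card_quotient_mul_card_subgroup _).symm
  · let f : (G → A) →ₗ[A]
        LinearMap.ker (LinearMap.funLeft A A (fun h : G => g * h) - l • LinearMap.id) :=
      (kerEquiv g l hl).toLinearMap.comp (LinearMap.funLeft A A (s g))
    refine ⟨LinearMap.ker f, LinearMap.isCompl_of_proj (f := f) ?_⟩
    intro x
    apply Subtype.ext
    exact ext_res g l hl x.1 ((mem_ker_iff g l x.1).1 x.2)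

end Groth.Agent.S15488
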