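import Groth.Statements.S15491
-- import your own Groth.Agent.* helpers here

set_option autoImplicit false
universe v u
open CategoryTheory CategoryTheory.Functor
open IsoNat

namespace Groth.Agent.S15491

section Helpers

open CategoryTheory.Limits

variable {A B A' B' A'' B'' : Type u} [Category.{v} A] [Category.{v} B] [Category.{v} A']
  [Category.{v} B'] [Category.{v} A''] [Category.{v} B'']
  (t : A ⥤ B) (l : A ⥤ A') (r : B ⥤ B') (t' : A' ⥤ B') (l' : A' ⥤ A'') (r' : B' ⥤ B'')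
  (t'' : A'' ⥤ B'') (e₁ : t ⋙ r ≅ l ⋙ t') (e₂ : t' ⋙ r' ≅ l' ⋙ t'')

/-- The functor between 2-fibre products induced by the lower square. -/
def pasteFunctor : CategoricalPullback r t' ⥤ CategoricalPullback (r ⋙ r') t'' where
  obj x := ⟨x.fst, l'.obj x.snd, r'.mapIso x.iso ≪≫ e₂.app x.snd⟩
  map {x y} f := ⟨f.fst, l'.map f.snd, by
    have h1 := f.w
    have h2 := e₂.hom.naturality f.snd
    simp only [Functor.comp_map, Iso.trans_hom, Functor.mapIso_hom, Iso.app_hom, Category.assoc,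
      Functor.comp_obj] at h2 ⊢
    rw [← h2, ← Category.assoc, ← Category.assoc, ← r'.map_comp, ← r'.map_comp, h1]⟩
  map_id x := by
    apply CategoricalPullback.hom_ext
    · rfl
    · exact l'.map_id _
  map_comp f g := by
    apply CategoricalPullback.hom_ext
    · rfl
    · exact l'.map_comp _ _

/-- The comparison functor of a 2-commutative square. -/
abbrev cmp {X A B D : Type u} [Category.{v} X] [Category.{v} A] [Category.{v} B] [Category.{v} D]
    (T : X ⥤ A) (L : X ⥤ D) (F : A ⥤ B) (G : D ⥤ B) (e : T ⋙ F ≅ L ⋙ G) :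
    X ⥤ CategoricalPullback F G :=
  (CategoricalPullback.CatCommSqOver.toFunctorToCategoricalPullback F G X).obj ⟨T, L, e⟩

variable {t' l' r' t'' e₂}

theorem pasteFunctor_faithful [(cmp t' l' r' t'' e₂).Faithful] :
    (pasteFunctor r t' l' r' t'' e₂).Faithful where
  map_injective {x y} f g h := by
    have h1 : f.fst = g.fst := congrArg (fun φ => φ.fst) h
    have h2 : l'.map f.snd = l'.map g.snd := congrArg (fun φ => φ.snd) h
    have h3 : t'.map f.snd = t'.map g.snd := by
      have hf := f.w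
      have hg := g.w
      rw [← cancel_epi x.iso.hom, ← hf, ← hg, h1]
    have h4 : (cmp t' l' r' t'' e₂).map f.snd = (cmp t' l' r' t'' e₂).map g.snd :=
      CategoricalPullback.hom_ext h3 h2
    exact CategoricalPullback.hom_ext h1 ((cmp t' l' r' t'' e₂).map_injective h4)

theorem pasteFunctor_full [(cmp t' l' r' t'' e₂).Full] :
    (pasteFunctor r t' l' r' t'' e₂).Full where
  map_surjective {x y} φ := by
    let f1 : x.fst ⟶ y.fst := φ.fst
    let f2 : l'.obj x.snd ⟶ l'.obj y.snd := φ.snd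
    have h : r'.map (r.map f1) ≫ r'.map y.iso.hom ≫ e₂.hom.app y.snd =
        r'.map x.iso.hom ≫ e₂.hom.app x.snd ≫ t''.map f2 := by
      have h0 := φ.w
      exact h0.trans (Category.assoc _ _ _)
    let δ : t'.obj x.snd ⟶ t'.obj y.snd := x.iso.inv ≫ r.map f1 ≫ y.iso.hom
    have hw : r'.map δ ≫ e₂.hom.app y.snd = e₂.hom.app x.snd ≫ t''.map f2 := by
      calc r'.map δ ≫ e₂.hom.app y.snd
          = r'.map x.iso.inv ≫ (r'.map (r.map f1) ≫ r'.map y.iso.hom ≫ e₂.hom.app y.snd) := by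
            simp only [δ, Functor.map_comp, Category.assoc]
        _ = r'.map x.iso.inv ≫ (r'.map x.iso.hom ≫ e₂.hom.app x.snd ≫ t''.map f2) := by rw [h]
        _ = e₂.hom.app x.snd ≫ t''.map f2 := by
            rw [← Category.assoc, ← r'.map_comp, Iso.inv_hom_id, r'.map_id, Category.id_comp]
    let ψ : (cmp t' l' r' t'' e₂).obj x.snd ⟶ (cmp t' l' r' t'' e₂).obj y.snd := ⟨δ, f2, hw⟩
    obtain ⟨α, hα⟩ := (cmp t' l' r' t'' e₂).map_surjective ψ
    have hα1 : t'.map α = δ := congrArg (fun φ => φ.fst) hα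
    have hα2 : l'.map α = f2 := congrArg (fun φ => φ.snd) hα
    have hw' : r.map f1 ≫ y.iso.hom = x.iso.hom ≫ t'.map α := by
      rw [hα1]
      simp only [δ, Iso.hom_inv_id_assoc]
    exact ⟨⟨f1, α, hw'⟩, CategoricalPullback.hom_ext rfl hα2⟩

theorem pasteFunctor_essSurj [(cmp t' l' r' t'' e₂).EssSurj] :
    (pasteFunctor r t' l' r' t'' e₂).EssSurj where
  mem_essImage y := by
    let z : CategoricalPullback r' t'' := ⟨r.obj y.fst, y.snd, y.iso⟩
    let a' : A' := (cmp t' l' r' t'' e₂).objPreimage z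
    let ε : (cmp t' l' r' t'' e₂).obj a' ≅ z := (cmp t' l' r' t'' e₂).objObjPreimageIso z
    let ε1 : t'.obj a' ⟶ r.obj y.fst := ε.hom.fst
    let ε1' : r.obj y.fst ⟶ t'.obj a' := ε.inv.fst
    let ε2 : l'.obj a' ⟶ y.snd := ε.hom.snd
    let ε2' : y.snd ⟶ l'.obj a' := ε.inv.snd
    have h11 : ε1 ≫ ε1' = 𝟙 _ := congrArg (fun φ => φ.fst) ε.hom_inv_id
    have h11' : ε1' ≫ ε1 = 𝟙 _ := congrArg (fun φ => φ.fst) ε.inv_hom_id
    have h22 : ε2 ≫ ε2' = 𝟙 _ := congrArg (fun φ => φ.snd) ε.hom_inv_id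
    have h22' : ε2' ≫ ε2 = 𝟙 _ := congrArg (fun φ => φ.snd) ε.inv_hom_id
    let u : r.obj y.fst ≅ t'.obj a' := ⟨ε1', ε1, h11', h11⟩
    let w : l'.obj a' ≅ y.snd := ⟨ε2, ε2', h22, h22'⟩
    let x : CategoricalPullback r t' := ⟨y.fst, a', u⟩
    have hε : r'.map ε1 ≫ y.iso.hom = e₂.hom.app a' ≫ t''.map ε2 := ε.hom.w
    have hu : r'.map ε1' ≫ r'.map ε1 = 𝟙 _ := by
      rw [← r'.map_comp, h11', r'.map_id]
    refine ⟨x, ⟨CategoricalPullback.mkIso (Iso.refl _) w ?_⟩⟩
    change (r ⋙ r').map (𝟙 y.fst) ≫ y.iso.hom = (r'.map ε1' ≫ e₂.hom.app a') ≫ t''.map ε2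
    calc (r ⋙ r').map (𝟙 y.fst) ≫ y.iso.hom = y.iso.hom := by
          rw [Functor.map_id]; exact Category.id_comp _
      _ = (r'.map ε1' ≫ r'.map ε1) ≫ y.iso.hom := by
          rw [hu]; exact (Category.id_comp _).symm
      _ = r'.map ε1' ≫ (e₂.hom.app a' ≫ t''.map ε2) := by
          rw [Category.assoc, hε]
      _ = (r'.map ε1' ≫ e₂.hom.app a') ≫ t''.map ε2 := (Category.assoc _ _ _).symm

theorem pasteFunctor_isEquivalence (h : (cmp t' l' r' t'' e₂).IsEquivalence) :
    (pasteFunctor r t' l' r' t'' e₂).IsEquivalence where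
  faithful := pasteFunctor_faithful r
  full := pasteFunctor_full r
  essSurj := pasteFunctor_essSurj r

variable (t' l' r' t'' e₂)

/-- The pasted 2-isomorphism of the outer rectangle. -/
abbrev pastedIso : t ⋙ (r ⋙ r') ≅ (l ⋙ l') ⋙ t'' :=
  (Functor.associator t r r').symm ≪≫ Functor.isoWhiskerRight e₁ r' ≪≫
    Functor.associator l t' r' ≪≫ Functor.isoWhiskerLeft l e₂ ≪≫ (Functor.associator l l' t'').symm

/-- The comparison functor of the outer rectangle factors through that of the upper square. -/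
def cmpCompIso : cmp t l r t' e₁ ⋙ pasteFunctor r t' l' r' t'' e₂ ≅
    cmp t (l ⋙ l') (r ⋙ r') t'' (pastedIso t l r t' l' r' t'' e₁ e₂) :=
  NatIso.ofComponents
    (fun a => CategoricalPullback.mkIso (Iso.refl (t.obj a)) (Iso.refl (l'.obj (l.obj a))) (by
      change (r ⋙ r').map (𝟙 (t.obj a)) ≫ (pastedIso t l r t' l' r' t'' e₁ e₂).hom.app a =
        (r'.map (e₁.hom.app a) ≫ e₂.hom.app (l.obj a)) ≫ t''.map (𝟙 (l'.obj (l.obj a)))
      simp))
    (fun {a a'} f => by
      apply CategoricalPullback.hom_ext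
      · change t.map f ≫ 𝟙 (t.obj a') = 𝟙 (t.obj a) ≫ t.map f
        simp
      · change l'.map (l.map f) ≫ 𝟙 (l'.obj (l.obj a')) = 𝟙 (l'.obj (l.obj a)) ≫ l'.map (l.map f)
        simp)


end Helpers

/-- Pasting of 2-cartesian squares, stated in the 2-category of categories. Consider functors t : A → B,
t' : A' → B', t'' : A'' → B'' and l : A → A', r : B → B', l' : A' → A'', r' : B' → B'' with natural
isomorphisms e₁ : t ⋙ r ≅ l ⋙ t' and e₂ : t' ⋙ r' ≅ l' ⋙ t''. If the lower square (t', l', r', t'',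
e₂) is 2-cartesian (its comparison functor to the 2-fibre product is an equivalence), then the upper
square (t, l, r, t', e₁) is 2-cartesian if and only if the outer rectangle (t, l ⋙ l', r ⋙ r', t'')
with the pasted isomorphism is. (The published statement is for an arbitrary 2-category whose
2-morphisms are invertible; this row is the case of categories, functors and natural isomorphisms.) -/
theorem result
    {A B A' B' A'' B'' : Type u} [Category.{v} A] [Category.{v} B] [Category.{v} A'] [Category.{v} B']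
    [Category.{v} A''] [Category.{v} B'']
    (t : A ⥤ B) (l : A ⥤ A') (r : B ⥤ B') (t' : A' ⥤ B') (l' : A' ⥤ A'') (r' : B' ⥤ B'') (t'' : A'' ⥤ B'')
    (e₁ : t ⋙ r ≅ l ⋙ t') (e₂ : t' ⋙ r' ≅ l' ⋙ t'')
    (h₂ : FibCat.IsTwoCart t' l' r' t'' e₂) :
    FibCat.IsTwoCart t l r t' e₁ ↔
      FibCat.IsTwoCart t (l ⋙ l') (r ⋙ r') t''
        ((Functor.associator t r r').symm ≪≫ isoWhiskerRight e₁ r' ≪≫ Functor.associator l t' r' ≪≫
          isoWhiskerLeft l e₂ ≪≫ (Functor.associator l l' t'').symm) := by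
  have hΨ : (pasteFunctor r t' l' r' t'' e₂).IsEquivalence := pasteFunctor_isEquivalence r h₂
  constructor
  · intro h₁
    have h₁' : (cmp t l r t' e₁).IsEquivalence := h₁
    have : (cmp t l r t' e₁ ⋙ pasteFunctor r t' l' r' t'' e₂).IsEquivalence := inferInstance
    exact Functor.isEquivalence_of_iso (cmpCompIso t l r t' l' r' t'' e₁ e₂)
  · intro h
    have h' : (cmp t (l ⋙ l') (r ⋙ r') t'' (pastedIso t l r t' l' r' t'' e₁ e₂)).IsEquivalence := h
    have : (cmp t l r t' e₁ ⋙ pasteFunctor r t' l' r' t'' e₂).IsEquivalence :=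
      Functor.isEquivalence_of_iso (cmpCompIso t l r t' l' r' t'' e₁ e₂).symm
    exact Functor.isEquivalence_of_comp_right (cmp t l r t' e₁) (pasteFunctor r t' l' r' t'' e₂)

end Groth.Agent.S15491
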