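import Groth.Statements.S15493
import Groth.Agent.Lib.IsoNatPts
import Groth.Agent.Lib.AlgStLargest
import Groth.Agent.Lib.FpEquiv

set_option autoImplicit false
universe u
open CategoryTheory AlgebraicGeometry
open IsoNat

namespace Groth.Agent.S15493

/-- The presheaf of isomorphism classes commutes with fibre products along an open immersion. Let f : 𝒳
→ 𝒴 be a morphism of algebraic stacks over a quasi-separated scheme S and i : 𝒴' → 𝒴 an open
immersion of algebraic stacks (representable by open immersions of algebraic spaces). If two objects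
of the 2-fibre product 𝒳 ×_𝒴 𝒴' over a scheme T have isomorphic images in 𝒳 over T and isomorphic
images in 𝒴' over T, then they are isomorphic over T. (Together with the evident surjectivity this
says that the natural map from the presheaf of isomorphism classes of 𝒳 ×_𝒴 𝒴' to the fibre product
of the presheaves of 𝒳 and 𝒴' over that of 𝒴 is an isomorphism; the published statement is for
arbitrary stacks, this row takes them algebraic.) -/
theorem result
    (S : Scheme.{u}) [QuasiSeparatedSpace S]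
    (𝒳 𝒴 𝒴' : AlgSt.Cat S)
    (h𝒳 : AlgSt.IsAlgStack Scheme.fppfPrecoverage 𝒳) (h𝒴 : AlgSt.IsAlgStack Scheme.fppfPrecoverage 𝒴)
    (h𝒴' : AlgSt.IsAlgStack Scheme.fppfPrecoverage 𝒴')
    (f : 𝒳 ⥤ᵇ 𝒴) (i : 𝒴' ⥤ᵇ 𝒴) (hi : AlgSt.IsOpenImm i)
    (T : Over S) (z₁ z₂ : (FibCat.fp f i).p.Fiber T)
    (h₁ : IsoNat.mapCls (FibCat.fpFst f i) T (IsoNat.cls z₁) = IsoNat.mapCls (FibCat.fpFst f i) T (IsoNat.cls z₂))
    (h₂ : IsoNat.mapCls (FibCat.fpSnd f i) T (IsoNat.cls z₁) = IsoNat.mapCls (FibCat.fpSnd f i) T (IsoNat.cls z₂)) :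
    IsoNat.cls z₁ = IsoNat.cls z₂ := by
  haveI := h𝒳.isStack.1
  haveI := h𝒴.isStack.1
  haveI := h𝒴'.isStack.1
  obtain ⟨hfull, hfaith⟩ := Groth.Agent.Lib.AlgStLargest.full_faithful_of_isOpenImm i hi
  haveI := hfull
  haveI := hfaith
  -- the isomorphism of the first components
  obtain ⟨e⟩ := (Groth.Agent.Lib.IsoNatPts.cls_eq_iff _ _).1 h₁
  let a : z₁.1.obj.fst ≅ z₂.1.obj.fst :=
    (Functor.Fiber.fiberInclusion (p := 𝒳.p) (S := T)).mapIso e
  have ha : 𝒳.p.IsHomLift (𝟙 T) a.hom := e.hom.2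
  let m : i.obj z₁.1.obj.snd ≅ i.obj z₂.1.obj.snd :=
    z₁.1.obj.iso.symm ≪≫ f.toFunctor.mapIso a ≪≫ z₂.1.obj.iso
  let b : z₁.1.obj.snd ≅ z₂.1.obj.snd := i.toFunctor.preimageIso m
  have hb : i.map b.hom = m.hom := i.toFunctor.map_preimage m.hom
  let κ : z₁.1 ≅ z₂.1 := Groth.Agent.Lib.FpEquiv.fpIsoMk a b (by
    rw [hb]
    show f.map a.hom ≫ z₂.1.obj.iso.hom =
      z₁.1.obj.iso.hom ≫ (z₁.1.obj.iso.inv ≫ f.map a.hom ≫ z₂.1.obj.iso.hom)
    rw [Iso.hom_inv_id_assoc])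
  have hκ : (FibCat.fp f i).p.IsHomLift (𝟙 T) κ.hom :=
    (Groth.Agent.Lib.FibGrpd.fp_isHomLift_iff f i (𝟙 T) κ.hom).2 ha
  haveI : FibCat.IsFibGrpd (FibCat.fp f i).p := Groth.Agent.Lib.FibGrpd.fp_isFibGrpd f i
  haveI := Groth.Agent.Lib.FibGrpd.isGroupoid_fiber (FibCat.fp f i).p T
  exact (Groth.Agent.Lib.IsoNatPts.cls_eq_iff z₁ z₂).2 ⟨asIso (⟨κ.hom, hκ⟩ : z₁ ⟶ z₂)⟩

end Groth.Agent.S15493
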