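import Groth.Statements.S15495
import Mathlib.Algebra.Ring.GeomSum
import Mathlib.Tactic.Ring

set_option autoImplicit false
universe u
open CAlg

namespace Groth.Agent.S15495

/-- In an Artinian local ring R whose maximal ideal m contains the prime number p, the multiplicative
group 1 + m is annihilated under some power of p: there is n with (1 + x)^(p^n) = 1 for every x in
m. (The published text makes this assertion inside a proof, for Artinian local algebras over the
Witt ring of a perfect field of characteristic p; only p ∈ m and the nilpotence of m are used.) -/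
theorem result
    (R : Type u) [CommRing R] [IsLocalRing R] [IsArtinianRing R]
    (p : ℕ) (hp : p.Prime) (hpm : (p : R) ∈ IsLocalRing.maximalIdeal R) :
    ∃ n : ℕ, ∀ x ∈ IsLocalRing.maximalIdeal R, (1 + x) ^ (p ^ n) = 1 := by
  set m := IsLocalRing.maximalIdeal R with hm
  have hnil : IsNilpotent m := by
    have h1 := IsArtinianRing.isNilpotent_jacobson_bot (R := R)
    rwa [IsLocalRing.jacobson_eq_maximalIdeal (⊥ : Ideal R) bot_ne_top] at h1
  obtain ⟨k, hk⟩ := hnil
  have key : ∀ j : ℕ, ∀ x ∈ m, (1 + x) ^ (p ^ j) - 1 ∈ m ^ (j + 1) := by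
    intro j
    induction j with
    | zero =>
      intro x hx
      simpa using hx
    | succ j ih =>
      intro x hx
      set a := (1 + x) ^ (p ^ j) with ha
      have hy : a - 1 ∈ m ^ (j + 1) := ih x hx
      have hy1 : a - 1 ∈ m := Ideal.pow_le_self (Nat.succ_ne_zero j) hy
      have hpow : ∀ i : ℕ, a ^ i - 1 ∈ m := by
        intro i
        have : a ^ i - 1 = (∑ t ∈ Finset.range i, a ^ t) * (a - 1) := (geom_sum_mul a i).symm
        rw [this]
        exact m.mul_mem_left _ hy1
      have hsum : (∑ i ∈ Finset.range p, a ^ i) ∈ m := by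
        have : (∑ i ∈ Finset.range p, a ^ i) = (∑ i ∈ Finset.range p, (a ^ i - 1)) + (p : R) := by
          rw [Finset.sum_sub_distrib]
          simp
        rw [this]
        exact m.add_mem (m.sum_mem fun i _ => hpow i) hpm
      have e : (1 + x) ^ (p ^ (j + 1)) - 1 = (∑ i ∈ Finset.range p, a ^ i) * (a - 1) := by
        rw [geom_sum_mul, ha, ← pow_mul, pow_succ]
      rw [e, pow_succ' m (j + 1)]
      exact Ideal.mul_mem_mul hsum hy
  refine ⟨k, fun x hx => ?_⟩
  have h1 := key k x hx
  have h2 : m ^ (k + 1) ≤ m ^ k := Ideal.pow_le_pow_right (Nat.le_succ k)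
  have h3 := h2 h1
  rw [hk] at h3
  have h4 : (1 + x) ^ (p ^ k) - 1 = 0 := h3
  exact sub_eq_zero.mp h4

end Groth.Agent.S15495
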