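import Groth.Statements.S15496
import Mathlib.RingTheory.LocalRing.ResidueField.Basic
import Mathlib.Algebra.CharP.Lemmas
import Mathlib.Algebra.CharP.Basic
import Mathlib.Tactic.Ring

set_option autoImplicit false
universe u
open CAlg

namespace Groth.Agent.S15496

/-- Let R be a local ring with maximal ideal m, p a prime number lying in m, and suppose the residue
field of R is perfect, i.e. every element is a p-th power; let n ≥ 0. Then every unit of R is the
product of a p^n-th power of a unit and an element of 1 + m, and an element of 1 + m which is a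
p^n-th power of a unit is a p^n-th power of an element of 1 + m; so the inclusion of 1 + m in the
unit group induces a bijection between (1 + m)/(1 + m)^(p^n) and Rˣ/(Rˣ)^(p^n). (The published text
derives this equality of quotients, inside a proof, from perfectness of the base field K for all
Artinian local algebras over its Witt ring, whose residue fields need not be perfect; this row
assumes the residue field of R perfect of characteristic p, which the equality needs, and does not
assume R Artinian.) -/
theorem result
    (R : Type u) [CommRing R] [IsLocalRing R] (p : ℕ) (hp : p.Prime)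
    (hpm : (p : R) ∈ IsLocalRing.maximalIdeal R)
    (hperf : ∀ a : IsLocalRing.ResidueField R, ∃ b : IsLocalRing.ResidueField R, b ^ p = a)
    (n : ℕ) :
    (∀ u : Rˣ, ∃ v : Rˣ, ∃ x ∈ IsLocalRing.maximalIdeal R, (u : R) = (v : R) ^ (p ^ n) * (1 + x)) ∧
    (∀ x ∈ IsLocalRing.maximalIdeal R, (∃ v : Rˣ, (v : R) ^ (p ^ n) = 1 + x) →
      ∃ y ∈ IsLocalRing.maximalIdeal R, (1 + y) ^ (p ^ n) = 1 + x) := by
  have hp0 : ((p : ℕ) : IsLocalRing.ResidueField R) = 0 := by
    have : IsLocalRing.residue R (p : R) = 0 := (IsLocalRing.residue_eq_zero_iff _).mpr hpm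
    simpa using this
  have hrc : ringChar (IsLocalRing.ResidueField R) = p := CharP.ringChar_of_prime_eq_zero hp hp0
  haveI : CharP (IsLocalRing.ResidueField R) p := hrc ▸ ringChar.charP _
  haveI : Fact p.Prime := ⟨hp⟩
  have hroot : ∀ (j : ℕ) (a : IsLocalRing.ResidueField R),
      ∃ b : IsLocalRing.ResidueField R, b ^ (p ^ j) = a := by
    intro j
    induction j with
    | zero => intro a; exact ⟨a, by simp⟩
    | succ j ih =>
      intro a
      obtain ⟨c, hc⟩ := hperf a
      obtain ⟨b, hb⟩ := ih c
      exact ⟨b, by rw [pow_succ, pow_mul, hb, hc]⟩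
  constructor
  · intro u
    obtain ⟨b, hb⟩ := hroot n (IsLocalRing.residue R (u : R))
    have hu0 : IsLocalRing.residue R (u : R) ≠ 0 :=
      (IsLocalRing.residue_ne_zero_iff_isUnit _).mpr u.isUnit
    have hb0 : b ≠ 0 := by
      rintro rfl
      rw [zero_pow (pow_ne_zero n hp.ne_zero)] at hb
      exact hu0 hb.symm
    obtain ⟨v₀, hv₀⟩ := IsLocalRing.residue_surjective b
    have hv₀u : IsUnit v₀ := (IsLocalRing.residue_ne_zero_iff_isUnit _).mp (hv₀ ▸ hb0)
    obtain ⟨v, rfl⟩ := hv₀u
    let w : Rˣ := u * (v ^ (p ^ n))⁻¹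
    have hw : IsLocalRing.residue R ((w : R) - 1) = 0 := by
      have h1 : IsLocalRing.residue R (((v ^ (p ^ n) : Rˣ) : R)) = IsLocalRing.residue R (u : R) := by
        rw [Units.val_pow_eq_pow_val, map_pow, hv₀, hb]
      have h2 : (w : R) * ((v ^ (p ^ n) : Rˣ) : R) = (u : R) := by
        rw [← Units.val_mul]
        congr 1
        exact inv_mul_cancel_right u (v ^ (p ^ n))
      have h3 : IsLocalRing.residue R (w : R) * IsLocalRing.residue R (u : R) =
          IsLocalRing.residue R (u : R) := by
        rw [← h1, ← map_mul, h2, h1]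
      have h4 : IsLocalRing.residue R (w : R) = 1 := by
        have := mul_right_cancel₀ hu0 (h3.trans (one_mul _).symm)
        exact this
      rw [map_sub, h4, map_one, sub_self]
    refine ⟨v, (w : R) - 1, (IsLocalRing.residue_eq_zero_iff _).mp hw, ?_⟩
    have h2 : (w : R) * ((v ^ (p ^ n) : Rˣ) : R) = (u : R) := by
      rw [← Units.val_mul]
      congr 1
      exact inv_mul_cancel_right u (v ^ (p ^ n))
    rw [← h2, Units.val_pow_eq_pow_val]
    ring
  · rintro x hx ⟨v, hv⟩
    have h1 : IsLocalRing.residue R (v : R) ^ (p ^ n) = 1 := by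
      rw [← map_pow, hv, map_add, map_one, (IsLocalRing.residue_eq_zero_iff _).mpr hx, add_zero]
    have h2 : (IsLocalRing.residue R (v : R) - 1) ^ (p ^ n) = 0 := by
      rw [sub_pow_char_pow, h1, one_pow, sub_self]
    have h3 : IsLocalRing.residue R (v : R) - 1 = 0 := pow_eq_zero_iff (pow_ne_zero n hp.ne_zero) |>.mp h2
    have h4 : IsLocalRing.residue R ((v : R) - 1) = 0 := by rw [map_sub, map_one, h3]
    refine ⟨(v : R) - 1, (IsLocalRing.residue_eq_zero_iff _).mp h4, ?_⟩
    rw [add_sub_cancel, hv]

end Groth.Agent.S15496
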