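import Groth.Statements.S15498
import Mathlib

set_option autoImplicit false
open NewtonPoly

namespace Groth.Agent.S15498


open Finset

lemma g_count (m n a : ℕ) (hn : 0 < n) (ha : a ≤ n) :
    ((range (m + 1)).filter (fun j => j * n < a * m)).card = (a * m + n - 1) / n := by
  have : (range (m + 1)).filter (fun j => j * n < a * m) = range ((a * m + n - 1) / n) := by
    ext j
    simp only [mem_filter, mem_range]
    have key : j < (a * m + n - 1) / n ↔ j * n + n ≤ a * m + n - 1 := by
      rw [Nat.lt_iff_add_one_le, Nat.le_div_iff_mul_le hn, Nat.succ_mul]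
    rw [key]
    constructor
    · rintro ⟨_, h⟩
      omega
    · intro h
      have h1 : j * n < a * m := by omega
      refine ⟨?_, h1⟩
      have h2 : a * m ≤ n * m := Nat.mul_le_mul_right m ha
      have h3 : j * n < m * n := by rw [Nat.mul_comm m n]; omega
      have := Nat.lt_of_mul_lt_mul_right h3
      omega
  rw [this, card_range]

lemma pair (m n a : ℕ) (hmn : Nat.Coprime m n) (ha0 : 0 < a) (han : a < n) :
    (a * m + n - 1) / n + ((n - a) * m + n - 1) / n = m + 1 := by
  have hn : 0 < n := by omega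
  set c := (a * m + n - 1) / n with hc
  have h1 : c * n ≤ a * m + n - 1 := Nat.div_mul_le_self _ _
  have h2 : a * m + n - 1 < (c + 1) * n := by
    exact (Nat.div_lt_iff_lt_mul hn).mp (Nat.lt_succ_self c)
  rw [Nat.succ_mul] at h2
  -- strictness from coprimality
  have h3 : a * m ≠ c * n := by
    intro h
    have hdvd : n ∣ a * m := ⟨c, by rw [h, Nat.mul_comm]⟩
    have : n ∣ a := (Nat.Coprime.dvd_of_dvd_mul_right hmn.symm hdvd)
    have := Nat.le_of_dvd ha0 this
    omega
  have hcm : c ≤ m := by
    have h4 : a * m ≤ n * m := Nat.mul_le_mul_right m han.le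
    have h5 : c * n < (m + 1) * n := by rw [Nat.succ_mul, Nat.mul_comm m n]; omega
    have := Nat.lt_of_mul_lt_mul_right h5
    omega
  have h6 : (n - a) * m = n * m - a * m := Nat.sub_mul n a m
  have h7 : (m + 1 - c) * n = m * n + n - c * n := by
    rw [Nat.sub_mul, Nat.succ_mul]
  have h8 : a * m < n * m := Nat.mul_lt_mul_of_pos_right han (by
    rcases Nat.eq_zero_or_pos m with h | h
    · subst h
      simp at hmn
      omega
    · exact h)
  have hc' : ((n - a) * m + n - 1) / n = m + 1 - c := by
    apply Nat.div_eq_of_lt_le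
    · rw [h7, h6, Nat.mul_comm m n]
      omega
    · rw [show m + 1 - c + 1 = (m + 1 - c) + 1 from rfl, Nat.succ_mul, h7, h6, Nat.mul_comm m n]
      omega
  rw [hc']
  omega


lemma sum_g (m n : ℕ) (hm : 0 < m) (hn : 0 < n) (hmn : Nat.Coprime m n) :
    ∑ a ∈ range (n + 1), (a * m + n - 1) / n = (m - 1) * (n - 1) / 2 + (m + n - 1) := by
  rw [Finset.sum_range_succ]
  have hlast : (n * m + n - 1) / n = m := by
    apply Nat.div_eq_of_lt_le
    · rw [Nat.mul_comm m n]; omega
    · rw [Nat.succ_mul, Nat.mul_comm m n]; omega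
  rw [hlast, Finset.range_eq_Ico, Finset.sum_eq_sum_Ico_succ_bot hn]
  have hfirst : (0 * m + n - 1) / n = 0 := by
    rw [Nat.zero_mul, Nat.zero_add]
    exact Nat.div_eq_of_lt (by omega)
  rw [hfirst, Nat.zero_add]
  -- the middle sum
  have hrefl : ∑ a ∈ Ico 1 n, ((n - a) * m + n - 1) / n = ∑ a ∈ Ico 1 n, (a * m + n - 1) / n := by
    have := Finset.sum_Ico_reflect (fun a => (a * m + n - 1) / n) 1 (m := n) (n := n) (by omega)
    simpa using this
  have hpair : ∑ a ∈ Ico 1 n, ((a * m + n - 1) / n + ((n - a) * m + n - 1) / n) =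
      (n - 1) * (m + 1) := by
    rw [Finset.sum_congr rfl (fun a ha => pair m n a hmn (by rw [mem_Ico] at ha; omega)
      (by rw [mem_Ico] at ha; omega))]
    rw [Finset.sum_const, Nat.card_Ico, smul_eq_mul]
  rw [Finset.sum_add_distrib, hrefl] at hpair
  have h2 : (n - 1) * (m + 1) = (m - 1) * (n - 1) + 2 * (n - 1) := by
    obtain ⟨m', rfl⟩ := Nat.exists_eq_succ_of_ne_zero hm.ne'
    simp only [Nat.succ_sub_one, Nat.succ_eq_add_one]
    ring
  have h3 : ∑ a ∈ Ico 1 n, (a * m + n - 1) / n = (m - 1) * (n - 1) / 2 + (n - 1) := by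
    have : 2 * ∑ a ∈ Ico 1 n, (a * m + n - 1) / n = (m - 1) * (n - 1) + 2 * (n - 1) := by
      rw [← h2, ← hpair]; ring
    omega
  rw [h3]
  omega




/-- Let m, n ≥ 1 be coprime, h = m + n, δ the segment from (0,0) to (h,m) (the isoclinic Newton polygon
of slope m/h) and ρ the ordinary polygon with n slopes 0 followed with m slopes 1, so ρ(i) = max(0,
i − n). The integer points (i,j), 0 ≤ i ≤ h, on or above ρ and strictly below δ — that is max(0, i −
n) ≤ j and j·h < i·m — are (m−1)(n−1)/2 + (m+n−1) in number (which equals mn − r for r =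
(m−1)(n−1)/2). (The published text works under m ≥ n > 0 coprime; the inequality m ≥ n is not used
and not assumed.) -/
theorem result
    (m n : ℕ) (hm : 0 < m) (hn : 0 < n) (hmn : Nat.Coprime m n) :
    ((Finset.range (m + n + 1) ×ˢ Finset.range (m + 1)).filter
      (fun ij : ℕ × ℕ => ij.1 ≤ ij.2 + n ∧ ij.2 * (m + n) < ij.1 * m)).card
      = (m - 1) * (n - 1) / 2 + (m + n - 1) := by
  rw [← sum_g m n hm hn hmn]
  -- shear
  have hshear : ((Finset.range (m + n + 1) ×ˢ Finset.range (m + 1)).filter
      (fun ij : ℕ × ℕ => ij.1 ≤ ij.2 + n ∧ ij.2 * (m + n) < ij.1 * m)).card =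
      ((Finset.range (n + 1) ×ˢ Finset.range (m + 1)).filter
        (fun aj : ℕ × ℕ => aj.2 * n < aj.1 * m)).card := by
    apply Finset.card_nbij' (fun ij => (ij.1 - ij.2, ij.2)) (fun aj => (aj.1 + aj.2, aj.2))
    · rintro ⟨i, j⟩ hij
      simp only [coe_filter, mem_product, mem_range, Set.mem_ofPred_eq] at hij ⊢
      obtain ⟨⟨hi, hj⟩, h1, h2⟩ := hij
      have hji : j ≤ i := by
        by_contra hlt
        push Not at hlt
        have : i * m < j * m := Nat.mul_lt_mul_of_pos_right hlt hm
        have : j * m ≤ j * (m + n) := Nat.mul_le_mul_left j (by omega)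
        omega
      refine ⟨⟨by omega, hj⟩, ?_⟩
      have h3 : i * m = (i - j) * m + j * m := by
        rw [← Nat.add_mul, Nat.sub_add_cancel hji]
      rw [Nat.mul_add] at h2
      omega
    · rintro ⟨a, j⟩ haj
      simp only [coe_filter, mem_product, mem_range, Set.mem_ofPred_eq] at haj ⊢
      obtain ⟨⟨ha, hj⟩, h1⟩ := haj
      refine ⟨⟨by omega, hj⟩, by omega, ?_⟩
      rw [Nat.mul_add, Nat.add_mul]
      omega
    · rintro ⟨i, j⟩ hij
      simp only [coe_filter, mem_product, mem_range, Set.mem_ofPred_eq] at hij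
      obtain ⟨⟨hi, hj⟩, h1, h2⟩ := hij
      have hji : j ≤ i := by
        by_contra hlt
        push Not at hlt
        have : i * m < j * m := Nat.mul_lt_mul_of_pos_right hlt hm
        have : j * m ≤ j * (m + n) := Nat.mul_le_mul_left j (by omega)
        omega
      simp only [Prod.mk.injEq, and_true]
      omega
    · rintro ⟨a, j⟩ _
      simp
  rw [hshear, Finset.card_filter, Finset.sum_product]
  refine Finset.sum_congr rfl fun a ha => ?_
  rw [← Finset.card_filter]
  exact g_count m n a hn (by rw [mem_range] at ha; omega)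


end Groth.Agent.S15498
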