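import Mathlib
import Groth.Statements.S15504

set_option autoImplicit false
universe u v
open FrobAlg

namespace Groth.Agent.S15504

section Helpers

/-- A finitely generated torsion module over a Dedekind domain is Artinian. -/
theorem isArtinian_of_isTorsion {W M : Type*} [CommRing W] [IsDedekindDomain W]
    [AddCommGroup M] [Module W M] [Module.Finite W M] (hM : Module.IsTorsion W M) :
    IsArtinian W M := by
  obtain ⟨a, ha_ann, ha_nzd⟩ := Submodule.annihilator_top_inter_nonZeroDivisors hM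
  have ha0 : a ≠ 0 := nonZeroDivisors.ne_zero ha_nzd
  set I : Ideal W := Ideal.span {a} with hI
  have hann : ∀ x : M, a • x = 0 := fun x =>
    (Submodule.mem_annihilator.mp ha_ann) x Submodule.mem_top
  have : IsArtinianRing (W ⧸ I) := by
    rw [isArtinianRing_iff_krullDimLE_zero, Ring.krullDimLE_zero_iff]
    intro J hJ
    have hP : (J.comap (Ideal.Quotient.mk I)).IsPrime := hJ.comap _
    have haP : a ∈ J.comap (Ideal.Quotient.mk I) := by
      rw [Ideal.mem_comap]
      have : Ideal.Quotient.mk I a = 0 :=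
        Ideal.Quotient.eq_zero_iff_mem.mpr (Ideal.subset_span rfl)
      rw [this]; exact J.zero_mem
    have hP0 : J.comap (Ideal.Quotient.mk I) ≠ ⊥ := by
      intro h
      rw [h] at haP
      exact ha0 ((Ideal.mem_bot).mp haP)
    have hPmax : (J.comap (Ideal.Quotient.mk I)).IsMaximal := hP.isMaximal hP0
    have hmap : (J.comap (Ideal.Quotient.mk I)).map (Ideal.Quotient.mk I) = J :=
      Ideal.map_comap_of_surjective _ Ideal.Quotient.mk_surjective J
    rcases Ideal.map_eq_top_or_isMaximal_of_surjective (Ideal.Quotient.mk I)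
      Ideal.Quotient.mk_surjective hPmax with h | h
    · rw [hmap] at h; exact absurd h hJ.ne_top
    · rwa [hmap] at h
  have htors : Module.IsTorsionBySet W M (I : Set W) := by
    rw [hI, Ideal.span, ← Module.isTorsionBySet_iff_is_torsion_by_span,
      Module.isTorsionBySet_singleton_iff]
    exact hann
  let _ : Module (W ⧸ I) M := htors.module
  have : IsScalarTower W (W ⧸ I) M := htors.isScalarTower
  have : Module.Finite (W ⧸ I) M := Module.Finite.of_restrictScalars_finite W (W ⧸ I) M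
  have : IsArtinian (W ⧸ I) M := inferInstance
  exact isArtinian_of_surjective_algebraMap (S := W) (R := W ⧸ I) Ideal.Quotient.mk_surjective

section Fitting

variable {W M : Type*} [CommRing W] [AddCommGroup M] [Module W M]
  (e : W ≃+* W) (φ : M →ₛₗ[(e : W →+* W)] M)

theorem iterate_smul (r : ℕ) (a : W) (x : M) :
    (⇑φ)^[r] (a • x) = (⇑e)^[r] a • (⇑φ)^[r] x := by
  induction r with
  | zero => rfl
  | succ r ih =>
    rw [Function.iterate_succ_apply', Function.iterate_succ_apply', Function.iterate_succ_apply',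
      ih, LinearMap.map_smulₛₗ]
    rfl

theorem iterate_add (r : ℕ) (x y : M) :
    (⇑φ)^[r] (x + y) = (⇑φ)^[r] x + (⇑φ)^[r] y := by
  induction r with
  | zero => rfl
  | succ r ih =>
    rw [Function.iterate_succ_apply', Function.iterate_succ_apply', Function.iterate_succ_apply',
      ih, map_add]

theorem iterate_zero (r : ℕ) : (⇑φ)^[r] (0 : M) = 0 := by
  induction r with
  | zero => rfl
  | succ r ih => rw [Function.iterate_succ_apply', ih, map_zero]

theorem iterate_sub (r : ℕ) (x y : M) :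
    (⇑φ)^[r] (x - y) = (⇑φ)^[r] x - (⇑φ)^[r] y := by
  induction r with
  | zero => rfl
  | succ r ih =>
    rw [Function.iterate_succ_apply', Function.iterate_succ_apply', Function.iterate_succ_apply',
      ih, map_sub]

/-- kernel of the `r`-th iterate -/
def Ker (r : ℕ) : Submodule W M where
  carrier := {x | (⇑φ)^[r] x = 0}
  zero_mem' := iterate_zero e φ r
  add_mem' := by
    intro x y hx hy
    change (⇑φ)^[r] (x + y) = 0
    rw [iterate_add, hx, hy, add_zero]
  smul_mem' := by
    intro a x hx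
    change (⇑φ)^[r] (a • x) = 0
    rw [iterate_smul, hx, smul_zero]

/-- range of the `r`-th iterate -/
def Ran (r : ℕ) : Submodule W M where
  carrier := {y | ∃ x, (⇑φ)^[r] x = y}
  zero_mem' := ⟨0, iterate_zero e φ r⟩
  add_mem' := by
    rintro _ _ ⟨x, rfl⟩ ⟨y, rfl⟩
    exact ⟨x + y, iterate_add e φ r x y⟩
  smul_mem' := by
    rintro a _ ⟨x, rfl⟩
    refine ⟨(⇑e.symm)^[r] a • x, ?_⟩
    rw [iterate_smul]
    congr 1
    exact (Function.LeftInverse.iterate e.apply_symm_apply r) a

theorem mem_Ker {r : ℕ} {x : M} : x ∈ Ker e φ r ↔ (⇑φ)^[r] x = 0 := Iff.rfl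

theorem mem_Ran {r : ℕ} {y : M} : y ∈ Ran e φ r ↔ ∃ x, (⇑φ)^[r] x = y := Iff.rfl

theorem Ker_mono : Monotone (Ker e φ) := by
  apply monotone_nat_of_le_succ
  intro r x hx
  rw [mem_Ker] at hx ⊢
  rw [Function.iterate_succ_apply', hx, map_zero]

theorem Ran_anti : Antitone (Ran e φ) := by
  apply antitone_nat_of_succ_le
  rintro r _ ⟨x, rfl⟩
  exact ⟨φ x, (Function.iterate_succ_apply _ _ _).symm⟩

theorem fitting [IsNoetherian W M] [IsArtinian W M] :
    ∃ Ms Mn : Submodule W M, IsCompl Ms Mn ∧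
      Set.MapsTo φ Ms Ms ∧ Set.MapsTo φ Mn Mn ∧ Set.BijOn φ Ms Ms ∧
      ∃ r : ℕ, ∀ x ∈ Mn, (⇑φ)^[r] x = 0 := by
  obtain ⟨n₁, hn₁⟩ := monotone_stabilizes_iff_noetherian.mpr (inferInstance : IsNoetherian W M)
    ⟨Ker e φ, Ker_mono e φ⟩
  obtain ⟨n₂, hn₂⟩ := IsArtinian.monotone_stabilizes
    (⟨fun r => OrderDual.toDual (Ran e φ r), fun a b hab => Ran_anti e φ hab⟩ :
      ℕ →o (Submodule W M)ᵒᵈ)
  set N := max n₁ n₂ with hN
  have hK : ∀ m, N ≤ m → Ker e φ N = Ker e φ m := by
    intro m hm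
    have h1 : Ker e φ n₁ = Ker e φ N := hn₁ N (le_max_left _ _)
    have h2 : Ker e φ n₁ = Ker e φ m := hn₁ m ((le_max_left _ _).trans hm)
    rw [← h1, h2]
  have hR : ∀ m, N ≤ m → Ran e φ N = Ran e φ m := by
    intro m hm
    have h1 : Ran e φ n₂ = Ran e φ N := hn₂ N (le_max_right _ _)
    have h2 : Ran e φ n₂ = Ran e φ m := hn₂ m ((le_max_right _ _).trans hm)
    rw [← h1, h2]
  have hdisj : Disjoint (Ran e φ N) (Ker e φ N) := by
    rw [Submodule.disjoint_def]
    rintro _ ⟨y, rfl⟩ hx
    rw [mem_Ker, ← Function.iterate_add_apply] at hx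
    have hy : y ∈ Ker e φ N := by
      rw [hK (N + N) (by omega)]; exact hx
    exact hy
  refine ⟨Ran e φ N, Ker e φ N, ⟨hdisj, ?_⟩, ?_, ?_, ⟨?_, ?_, ?_⟩, N, fun x hx => hx⟩
  · rw [codisjoint_iff, eq_top_iff]
    intro x _
    have h1 : (⇑φ)^[N] x ∈ Ran e φ (N + N) := by
      rw [← hR (N + N) (by omega)]; exact ⟨x, rfl⟩
    obtain ⟨y, hy⟩ := h1
    rw [Function.iterate_add_apply] at hy
    have : x = (⇑φ)^[N] y + (x - (⇑φ)^[N] y) := by abel
    rw [this]
    refine Submodule.add_mem_sup ⟨y, rfl⟩ ?_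
    rw [mem_Ker, iterate_sub, hy, sub_self]
  · rintro _ ⟨y, rfl⟩
    refine ⟨φ y, ?_⟩
    rw [← Function.iterate_succ_apply, Function.iterate_succ_apply']
  · intro x hx
    change (⇑φ)^[N] (φ x) = 0
    rw [← Function.iterate_succ_apply, Function.iterate_succ_apply', (mem_Ker e φ).mp hx, map_zero]
  · rintro _ ⟨y, rfl⟩
    refine ⟨φ y, ?_⟩
    rw [← Function.iterate_succ_apply, Function.iterate_succ_apply']
  · intro x hx x' hx' hxx'
    have h1 : x - x' ∈ Ran e φ N := Submodule.sub_mem _ hx hx'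
    have h2 : x - x' ∈ Ker e φ N := by
      have : x - x' ∈ Ker e φ 1 := by
        rw [mem_Ker, Function.iterate_one, map_sub, hxx', sub_self]
      have h3 : Ker e φ 1 ≤ Ker e φ (N + 1) := Ker_mono e φ (by omega)
      rw [hK (N + 1) (by omega)]
      exact h3 this
    exact sub_eq_zero.mp ((Submodule.disjoint_def.mp hdisj) _ h1 h2)
  · intro x hx
    have : x ∈ Ran e φ (N + 1) := by rw [← hR (N + 1) (by omega)]; exact hx
    obtain ⟨y, hy⟩ := this
    refine ⟨(⇑φ)^[N] y, ⟨y, rfl⟩, ?_⟩
    rw [← hy, Function.iterate_succ_apply']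

end Fitting

end Helpers

/-- Let k be an algebraically closed field of characteristic p, W = W(k) the ring of p-typical Witt
vectors, M a finitely generated torsion W-module and φ a p⁻¹-linear endomorphism of M (additive,
with φ(a·m) = σ⁻¹(a)·φ(m) for the Frobenius automorphism σ of W). Then M = M_s ⊕ M_n for two
φ-stable submodules, with φ bijective on M_s and nilpotent on M_n (one iterate of φ kills M_n). -/
theorem result (p : ℕ) [Fact p.Prime]
    (k : Type u) [Field k] [CharP k p] [IsAlgClosed k]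
    (M : Type v) [AddCommGroup M] [Module (WittVector p k) M] [Module.Finite (WittVector p k) M]
    (hM : Module.IsTorsion (WittVector p k) M)
    (φ : M →ₛₗ[((WittVector.frobeniusEquiv p k).symm : WittVector p k →+* WittVector p k)] M) :
    ∃ Ms Mn : Submodule (WittVector p k) M, IsCompl Ms Mn ∧
      Set.MapsTo φ Ms Ms ∧ Set.MapsTo φ Mn Mn ∧ Set.BijOn φ Ms Ms ∧
      ∃ r : ℕ, ∀ x ∈ Mn, (⇑φ)^[r] x = 0 := by
  have : IsArtinian (WittVector p k) M := isArtinian_of_isTorsion hM
  have : IsNoetherian (WittVector p k) M := inferInstance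
  exact fitting (WittVector.frobeniusEquiv p k).symm φ

end Groth.Agent.S15504
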