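import Groth.Statements.S15506
import Groth.Agent.Lib.H59NGeom7

set_option autoImplicit false
universe u
open CategoryTheory AlgebraicGeometry
open EtBase

namespace Groth.Agent.S15506

/-- Let k be a field, K an algebraic closure of k (an algebraically closed field algebraic over k), Ω a
field containing K, and Z a scheme étale over Spec k. Composition with Spec Ω → Spec K is a
bijection from the k-morphisms Spec K → Z onto the k-morphisms Spec Ω → Z: two k-morphisms Spec K →
Z that agree on Spec Ω are equal, and every k-morphism Spec Ω → Z factors through Spec K. (The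
published statement is the case where k has characteristic zero with a chosen embedding of its
algebraic closure into the complex numbers, Ω = ℂ, and Z is the scheme of isomorphisms between two
K3 surfaces over k, known there to be étale over k; this row states the fact about an arbitrary
étale k-scheme that the argument establishes.) -/
theorem result
    (k K Ω : Type u) [Field k] [Field K] [Field Ω] [Algebra k K] [IsAlgClosed K] [Algebra.IsAlgebraic k K]
    [Algebra K Ω] [Algebra k Ω] [IsScalarTower k K Ω]
    (Z : Scheme.{u}) (f : Z ⟶ Spec (CommRingCat.of k)) [AlgebraicGeometry.Etale f] :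
    (∀ g₁ g₂ : Spec (CommRingCat.of K) ⟶ Z,
        g₁ ≫ f = Spec.map (CommRingCat.ofHom (algebraMap k K)) →
        g₂ ≫ f = Spec.map (CommRingCat.ofHom (algebraMap k K)) →
        Spec.map (CommRingCat.ofHom (algebraMap K Ω)) ≫ g₁ = Spec.map (CommRingCat.ofHom (algebraMap K Ω)) ≫ g₂ →
        g₁ = g₂) ∧
    (∀ h : Spec (CommRingCat.of Ω) ⟶ Z, h ≫ f = Spec.map (CommRingCat.ofHom (algebraMap k Ω)) →
        ∃ g : Spec (CommRingCat.of K) ⟶ Z, g ≫ f = Spec.map (CommRingCat.ofHom (algebraMap k K)) ∧
          Spec.map (CommRingCat.ofHom (algebraMap K Ω)) ≫ g = h) := by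
  haveI : Flat (Spec.map (CommRingCat.ofHom (algebraMap K Ω))) := by
    rw [Flat.SpecMap_iff]
    change (algebraMap K Ω).Flat
    rw [RingHom.flat_algebraMap_iff]
    infer_instance
  haveI : Surjective (Spec.map (CommRingCat.ofHom (algebraMap K Ω))) := by
    refine ⟨fun y => ⟨⟨⊥, Ideal.isPrime_bot⟩, Subsingleton.elim (α := PrimeSpectrum K) _ _⟩⟩
  haveI hepi : Epi (Spec.map (CommRingCat.ofHom (algebraMap K Ω))) :=
    Flat.epi_of_flat_of_surjective _
  refine ⟨fun g₁ g₂ _ _ h12 => (cancel_epi _).mp h12, ?_⟩
  intro h hh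
  haveI : LocallyQuasiFinite f := Groth.Agent.Lib.H59NGeom.locallyQuasiFinite_of_etale f
  set z : Z := h (IsLocalRing.closedPoint Ω) with hz
  set φ : Z.residueField z ⟶ CommRingCat.of Ω :=
    Z.descResidueField (Scheme.stalkClosedPointTo h) with hφdef
  have hh' : Spec.map φ ≫ Z.fromSpecResidueField z = h :=
    Scheme.descResidueField_stalkClosedPointTo_fromSpecResidueField Ω Z h
  set τ := Groth.Agent.Lib.H59NGeom.toResidueFieldSpec k (f z) with hτ
  set ρ : k →+* Z.residueField z := (f.residueFieldMap z).hom.comp τ with hρ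
  -- compatibility of φ with the k-structures
  have hφρ : φ.hom.comp ρ = algebraMap k Ω := by
    have h1 : Spec.map (CommRingCat.ofHom (φ.hom.comp ρ)) =
        Spec.map (CommRingCat.ofHom (algebraMap k Ω)) := by
      rw [← hh, ← hh', Category.assoc, ← Scheme.Hom.SpecMap_residueFieldMap_fromSpecResidueField,
        Groth.Agent.Lib.H59NGeom.fromSpecResidueField_Spec, ← Spec.map_comp, ← Spec.map_comp]
      rfl
    have h2 := Spec.map_injective h1
    exact congrArg CommRingCat.Hom.hom h2
  -- algebraicity
  have halg : ∀ a : Z.residueField z, ∃ p : Polynomial k, p ≠ 0 ∧ Polynomial.eval₂ ρ a p = 0 := by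
    intro a
    letI := (f.residueFieldMap z).hom.toAlgebra
    haveI : Module.Finite ((Spec (CommRingCat.of k)).residueField (f z)) (Z.residueField z) :=
      Groth.Agent.Lib.H59GeomPoints.finite_residueFieldMap f z
    obtain ⟨q, hqmonic, hqa⟩ := Algebra.IsIntegral.isIntegral
      (R := (Spec (CommRingCat.of k)).residueField (f z)) a
    obtain ⟨p, rfl⟩ := Polynomial.map_surjective τ
      (Groth.Agent.Lib.H59NGeom.toResidueFieldSpec_surjective k (f z)) q
    refine ⟨p, ?_, ?_⟩
    · rintro rfl
      simp at hqmonic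
    · rw [Polynomial.eval₂_map] at hqa
      exact hqa
  obtain ⟨ψ, hψ⟩ := Groth.Agent.Lib.H59NGeom.exists_factor_of_isAlgClosed k K Ω
    (Z.residueField z) ρ halg φ.hom hφρ
  have hg : Spec.map (CommRingCat.ofHom (algebraMap K Ω)) ≫
      (Spec.map (CommRingCat.ofHom ψ) ≫ Z.fromSpecResidueField z) = h := by
    rw [← Category.assoc, ← Spec.map_comp, ← hh']
    congr 2
    ext a
    exact RingHom.congr_fun hψ a
  refine ⟨Spec.map (CommRingCat.ofHom ψ) ≫ Z.fromSpecResidueField z, ?_, hg⟩
  rw [← cancel_epi (Spec.map (CommRingCat.ofHom (algebraMap K Ω))), ← Category.assoc, hg, hh,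
    ← Spec.map_comp]
  congr 1
  ext a
  exact (IsScalarTower.algebraMap_apply k K Ω a)

end Groth.Agent.S15506
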