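import Groth.Statements.S15513
import Groth.Agent.Lib.H43PnExtSh
import Groth.Agent.Lib.H43ExtShLocFree
import Groth.Agent.S11324

set_option autoImplicit false
universe u
open CategoryTheory CategoryTheory.Limits AlgebraicGeometry
open ProjDual

namespace Groth.Agent.S15513

/-- Let k be a field, P = P^N_k, ι : X → P a closed immersion, r a natural number with dim X + r ≤ N (X
has codimension at least r), and E a finite locally free O_P-module. Then for every i < r the Ext
sheaf Ext^i_{O_P}(ι_* O_X, E) — the i-th right derived functor of the internal Hom functor Hom(ι_*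
O_X, -) on O_P-modules (its existence and that of injective resolutions are the stated instance
hypotheses, both true), evaluated at E — is zero. (The published statement takes N ≥ 1 and r = N -
dim X; the case N = 0 and smaller r are trivially included.) -/
theorem result (k : Type u) [Field k] (N : ℕ)
    {X : Scheme.{u}} (ι : X ⟶ CohB1.ProjSpace N k) [IsClosedImmersion ι] (r : ℕ)
    (hr : topologicalKrullDim ↥X + (r : WithBot ℕ∞) ≤ (N : WithBot ℕ∞))
    (E : (CohB1.ProjSpace N k).Modules) (hE : FlatMod.IsFinLocFree E)
    [ModSite.HasSheafHom (O := (CohB1.ProjSpace N k).sheaf) ((Scheme.Modules.pushforward ι).obj (Coh.structureModule X))]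
    [HasInjectiveResolutions (ModSite.Mod (CohB1.ProjSpace N k).sheaf)] (i : ℕ) (hi : i < r) :
    IsZero ((ModSite.extSh (O := (CohB1.ProjSpace N k).sheaf)
      ((Scheme.Modules.pushforward ι).obj (Coh.structureModule X)) i).obj E) := by
  have h1 := Groth.Agent.S11324.result k N ι r hr i hi
  obtain ⟨e₁⟩ := Groth.Agent.Lib.H43PnExtSh.hinv_P N k (-((N : ℤ) + 1))
  obtain ⟨e₂⟩ := Groth.Agent.Lib.H43PnExtSh.hinv_P N k (-(-((N : ℤ) + 1)))
  obtain ⟨j⟩ := Groth.Agent.Lib.H43PnExtSh.nonempty_extSh_tensorMod_iso
    ((Scheme.Modules.pushforward ι).obj (Coh.structureModule X))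
    (Twist.twistProjSpace N k (-((N : ℤ) + 1))) e₂ i
  have h2 : IsZero ((ModSite.extSh (O := (CohB1.ProjSpace N k).sheaf)
      ((Scheme.Modules.pushforward ι).obj (Coh.structureModule X)) i).obj
        (Coh.structureModule (CohB1.ProjSpace N k))) := by
    have h3 := Groth.Agent.Lib.H43PnExtSh.isZero_tensorMod_of_isZero h1
      (Twist.twistProjSpace N k (-(-((N : ℤ) + 1))))
    have h4 := IsZero.of_iso h3 j.symm
    exact IsZero.of_iso h4 ((ModSite.extSh (O := (CohB1.ProjSpace N k).sheaf)
      ((Scheme.Modules.pushforward ι).obj (Coh.structureModule X)) i).mapIso e₁.symm)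
  exact Groth.Agent.Lib.H43ExtShLocFree.isZero_extSh_of_isFinLocFree _ E hE i h2

end Groth.Agent.S15513
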