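import Groth.Statements.S15514
import Groth.Agent.Lib.SheafHomDual23
import Groth.Agent.Lib.ExtAdj
import Groth.Agent.S0485
-- import your own Groth.Agent.* helpers here

set_option autoImplicit false
universe u
open CategoryTheory CategoryTheory.Limits AlgebraicGeometry
open Coherent

namespace Groth.Agent.S15514

open Groth.Agent.Lib.TwistEquiv Groth.Agent.Lib.SheafHomDual23 Groth.Agent.Lib.DualFLF23 in
/-- Let X be a scheme, E a finite locally free O_X-module with dual E^∨ = Hom_{O_X}(E, O_X), and F, G
arbitrary O_X-modules. Then for every i the group Ext^i_{O_X}(F ⊗ E, G), computed in the category of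
all O_X-modules, is isomorphic to Ext^i_{O_X}(F, G ⊗ E^∨). (Existence of an additive isomorphism
only; the published identification is the natural one, and the published statement is for an
arbitrary ringed space. The published statement says only that E is locally free; finite rank, which
its proof uses, is assumed here. The internal Hom functor of E and the Ext groups of O_X-modules are
the stated instance hypotheses, both true.) -/
theorem result (X : Scheme.{u}) (E : X.Modules)
    (hE : FlatMod.IsFinLocFree E) (F G : X.Modules) [ModSite.HasSheafHom (O := X.sheaf) E]
    [HasExt.{u} X.Modules] (i : ℕ) :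
    Nonempty (Abelian.Ext (CohB1.tensorMod F E) G i ≃+
      Abelian.Ext F (CohB1.tensorMod G ((ModSite.sheafHom (O := X.sheaf) E).obj (Coh.structureModule X))) i) := by
  have hinj : EnoughInjectives X.Modules := Groth.Agent.S0485.result _ X.ringCatSheaf
  let adj : tensorRightFunctor E ⊣ tensorRightFunctor (dualSh E) :=
    (adjDual hE).ofNatIsoRight (tensorRightFunctorIso (dualShIso E).symm)
  have hlim : PreservesFiniteLimits (tensorRightFunctor (dualSh E)) :=
    preservesFiniteLimits_tR_dualSh hE
  have hflat : PreservesFiniteLimits (tensorRightFunctor E) :=
    Groth.Agent.Lib.ProjFormulaFLF23.preservesFiniteLimits_tensorRightFunctor E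
      (Groth.Agent.Lib.FlatModClosure.isFlat_of_isFinLocFree hE)
  have hmono : (tensorRightFunctor E).PreservesMonomorphisms := by
    have : PreservesLimitsOfShape WalkingCospan (tensorRightFunctor E) := inferInstance
    exact preservesMonomorphisms_of_preservesLimitsOfShape _
  have hpi : (tensorRightFunctor (dualSh E)).PreservesInjectiveObjects :=
    Functor.preservesInjectiveObjects_of_adjunction_of_preservesMonomorphisms adj
  exact ⟨Groth.Agent.Lib.ExtAdj.extAdjEquiv adj F G i⟩

end Groth.Agent.S15514
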