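import Groth.Statements.S16286
import Groth.Agent.Lib.RelExtLES
import Groth.Agent.Lib.AcyclicFirstVar
import Groth.Agent.Lib.Syzygies
import Groth.Agent.Lib.ModSiteHom

set_option autoImplicit false
universe u
open CategoryTheory CategoryTheory.Limits AlgebraicGeometry
open Coherent

namespace Groth.Agent.S16286

section Helpers

open Groth.Agent.Lib

variable {C : Type u} [SmallCategory C] {J : GrothendieckTopology C} {O : Sheaf J CommRingCat.{u}}

/-- contravariant functoriality of `sheafHomMap` -/
lemma sheafHomMap_comp {M M' M'' : ModSite.Mod O} [ModSite.HasSheafHom M] [ModSite.HasSheafHom M']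
    [ModSite.HasSheafHom M''] (u : M'' ⟶ M') (v : M' ⟶ M) :
    ExtSupp.sheafHomMap (u ≫ v) = ExtSupp.sheafHomMap v ≫ ExtSupp.sheafHomMap u := by
  unfold ExtSupp.sheafHomMap
  rw [conjugateEquiv_comp, Functor.map_comp]

end Helpers

/-- Let f : X → Y be a morphism of schemes, F and G O_X-modules, and L_• → F → 0 a resolution of F: a
chain complex L of O_X-modules indexed by the natural numbers with an augmentation π : L_0 → F such
that L is exact in every positive degree and L_1 → L_0 → F → 0 is exact. For an O_X-module M write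
Ext^p_f(M, -) for the p-th right derived functor of the left exact functor G ↦ f_* Hom_{O_X}(M, G),
and assume Ext^p_f(L_i, G) = 0 for every i ≥ 0 and every p ≥ 1. Let C be the cochain complex f_*
Hom_{O_X}(L_•, G) of O_Y-modules, given with identifications C^i ≅ f_* Hom_{O_X}(L_i, G) under which
its differentials are f_* of the maps induced by the differentials of L. Then for every i the i-th
cohomology object of C is isomorphic to Ext^i_f(F, G). (Stated for schemes, the published statement
being for ringed spaces; existence of an isomorphism of O_Y-modules only. The internal Hom functors,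
injective resolutions and additivity of the composite functors are the stated instance hypotheses,
all true.) -/
theorem result (X Y : Scheme.{u}) (f : X ⟶ Y) (F G : X.Modules)
    (L : ChainComplex X.Modules ℕ) (π : L.X 0 ⟶ F) [Epi π] (hπ : L.d 1 0 ≫ π = 0)
    (hex0 : (ShortComplex.mk (L.d 1 0) π hπ).Exact) (hex : ∀ j : ℕ, L.ExactAt (j + 1))
    [∀ j : ℕ, ModSite.HasSheafHom (O := X.sheaf) (L.X j)] [ModSite.HasSheafHom (O := X.sheaf) F]
    [HasInjectiveResolutions (ModSite.Mod X.sheaf)]
    [∀ j : ℕ, (ModSite.sheafHom (O := X.sheaf) (L.X j) ⋙ Scheme.Modules.pushforward f).Additive]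
    [(ModSite.sheafHom (O := X.sheaf) F ⋙ Scheme.Modules.pushforward f).Additive]
    (hL : ∀ (j : ℕ) (p : ℕ), 1 ≤ p → IsZero (((ModSite.sheafHom (O := X.sheaf) (L.X j) ⋙ Scheme.Modules.pushforward f).rightDerived p).obj G))
    (C : CochainComplex Y.Modules ℕ)
    (e : ∀ j : ℕ, C.X j ≅ (Scheme.Modules.pushforward f).obj ((ModSite.sheafHom (O := X.sheaf) (L.X j)).obj G))
    (hC : ∀ j : ℕ, C.d j (j + 1) ≫ (e (j + 1)).hom =
      (e j).hom ≫ (Scheme.Modules.pushforward f).map ((ExtSupp.sheafHomMap (O := X.sheaf) (L.d (j + 1) j)).app G))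
    (i : ℕ) :
    Nonempty (C.homology i ≅ ((ModSite.sheafHom (O := X.sheaf) F ⋙ Scheme.Modules.pushforward f).rightDerived i).obj G) := by
  classical
  have hSH : ∀ M : ModSite.Mod X.sheaf, ModSite.HasSheafHom M :=
    fun M => Groth.Agent.Lib.ModSiteTensor.hasSheafHom X.sheaf M
  let Kk : ℕ → X.Modules := Groth.Agent.Lib.Syzygies.K π hπ hex0 hex
  let εε : ∀ j, L.X j ⟶ Kk j := Groth.Agent.Lib.Syzygies.ε π hπ hex0 hex
  let ιι : ∀ j, Kk (j + 1) ⟶ L.X j := Groth.Agent.Lib.Syzygies.ι π hπ hex0 hex
  have hSK : ∀ j, ModSite.HasSheafHom (O := X.sheaf) (Kk j) := fun j => hSH _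
  let TK : ℕ → ModSite.Mod X.sheaf ⥤ Y.Modules := fun j =>
    ModSite.sheafHom (O := X.sheaf) (Kk j) ⋙ Scheme.Modules.pushforward f
  let TL : ℕ → ModSite.Mod X.sheaf ⥤ Y.Modules := fun j =>
    ModSite.sheafHom (O := X.sheaf) (L.X j) ⋙ Scheme.Modules.pushforward f
  have hpa : (Scheme.Modules.pushforward f).Additive := inferInstance
  have hpl : PreservesFiniteLimits (Scheme.Modules.pushforward f) := inferInstance
  have hTKadd : ∀ j, (TK j).Additive := fun j =>
    @Functor.instAdditiveComp _ _ _ _ _ _ (ModSite.sheafHom (O := X.sheaf) (Kk j)) inferInstance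
      _ _ _ (Scheme.Modules.pushforward f) hpa
  have hTLadd : ∀ j, (TL j).Additive := fun j => by
    dsimp only [TL]; infer_instance
  let α : ∀ j, TK j ⟶ TL j := fun j =>
    Functor.whiskerRight (ExtSupp.sheafHomMap (O := X.sheaf) (εε j)) (Scheme.Modules.pushforward f)
  let β : ∀ j, TL j ⟶ TK (j + 1) := fun j =>
    Functor.whiskerRight (ExtSupp.sheafHomMap (O := X.sheaf) (ιι j)) (Scheme.Modules.pushforward f)
  have h : ∀ j, Groth.Agent.Lib.FunctorSESNat.ExactOnInj (α j) (β j) := fun j =>
    Groth.Agent.Lib.RelExtLES.exactOnInj f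
      (ShortComplex.mk (ιι j) (εε j) (Groth.Agent.Lib.Syzygies.ι_ε π hπ hex0 hex j))
      (Groth.Agent.Lib.Syzygies.shortExact π hπ hex0 hex j)
  have hacyc : ∀ j p : ℕ, IsZero (((TL j).rightDerived (p + 1)).obj G) := fun j p =>
    hL j (p + 1) (by omega)
  have hiso : ∀ j, IsIso ((TL j).toRightDerivedZero.app G) := fun j => by
    have h1 : PreservesFiniteLimits (ModSite.sheafHom (O := X.sheaf) (L.X j)) := by
      have h2 : PreservesLimitsOfSize.{0, 0} (ModSite.sheafHom (O := X.sheaf) (L.X j)) :=
        (ModSite.sheafHomAdj (O := X.sheaf) (L.X j)).rightAdjoint_preservesLimits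
      exact h2.preservesFiniteLimits
    have h3 : PreservesFiniteLimits (TL j) :=
      @comp_preservesFiniteLimits _ _ _ _ _ _ (ModSite.sheafHom (O := X.sheaf) (L.X j))
        (Scheme.Modules.pushforward f) h1 hpl
    infer_instance
  have hC' : ∀ j, C.d j (j + 1) ≫ (e (j + 1)).hom =
      (e j).hom ≫ (β j).app G ≫ (α (j + 1)).app G := fun j => by
    rw [hC j]
    congr 1
    have h1 : L.d (j + 1) j = εε (j + 1) ≫ ιι j :=
      (Groth.Agent.Lib.Syzygies.ε_ι π hπ hex0 hex j).symm
    have h2 : ExtSupp.sheafHomMap (O := X.sheaf) (L.d (j + 1) j) =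
        ExtSupp.sheafHomMap (O := X.sheaf) (ιι j) ≫ ExtSupp.sheafHomMap (O := X.sheaf) (εε (j + 1)) := by
      rw [← sheafHomMap_comp]
      congr 1
    rw [h2]
    simp only [α, β, Functor.whiskerRight_app, NatTrans.comp_app]
    exact Functor.map_comp _ _ _
  exact Groth.Agent.Lib.AcyclicFirstVar.nonempty_homology_iso TK TL α β h G hacyc hiso C e hC' i

end Groth.Agent.S16286
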