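import Groth.Statements.S15520
import Groth.Agent.Lib.SheafHomExact
import Groth.Agent.Lib.AcyclicFirstVar
import Groth.Agent.Lib.Syzygies
import Groth.Agent.Lib.ModSiteHom
import Groth.Agent.Lib.H43SheafHomLocFree
import Groth.Agent.Lib.H43ExactDerived
import Groth.Agent.S16286

set_option autoImplicit false
universe u
open CategoryTheory CategoryTheory.Limits AlgebraicGeometry
open Coherent

namespace Groth.Agent.S15520

/-- Let X be a scheme, F and G O_X-modules, and E_• → F → 0 a resolution of F whose terms E_i are finite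
locally free O_X-modules: E is a chain complex indexed by the natural numbers with an augmentation π
: E_0 → F such that E is exact in every positive degree and E_1 → E_0 → F → 0 is exact. Let C be the
cochain complex Hom_{O_X}(E_•, G), given with identifications C^i ≅ Hom_{O_X}(E_i, G) under which
its differentials are the maps induced by the differentials of E (contravariant functoriality of the
internal Hom). Then for every i the i-th cohomology object of C is isomorphic to the Ext sheaf
Ext^i_{O_X}(F, G), the i-th right derived functor of the internal Hom functor Hom(F, -) evaluated at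
G. (Existence of an isomorphism of O_X-modules only; the published statement is for a ringed space.
The internal Hom functors and injective resolutions are the stated instance hypotheses, all true.) -/
theorem result (X : Scheme.{u}) (F G : X.Modules)
    (E : ChainComplex X.Modules ℕ) (π : E.X 0 ⟶ F) [Epi π] (hπ : E.d 1 0 ≫ π = 0)
    (hex0 : (ShortComplex.mk (E.d 1 0) π hπ).Exact) (hex : ∀ j : ℕ, E.ExactAt (j + 1))
    (hE : ∀ j : ℕ, FlatMod.IsFinLocFree (E.X j))
    [∀ j : ℕ, ModSite.HasSheafHom (O := X.sheaf) (E.X j)] [ModSite.HasSheafHom (O := X.sheaf) F]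
    [HasInjectiveResolutions (ModSite.Mod X.sheaf)]
    (C : CochainComplex X.Modules ℕ) (e : ∀ j : ℕ, C.X j ≅ (ModSite.sheafHom (O := X.sheaf) (E.X j)).obj G)
    (hC : ∀ j : ℕ, C.d j (j + 1) ≫ (e (j + 1)).hom =
      (e j).hom ≫ (ExtSupp.sheafHomMap (O := X.sheaf) (E.d (j + 1) j)).app G)
    (i : ℕ) :
    Nonempty (C.homology i ≅ (ModSite.extSh (O := X.sheaf) F i).obj G) := by
  classical
  have hSH : ∀ M : ModSite.Mod X.sheaf, ModSite.HasSheafHom M :=
    fun M => Groth.Agent.Lib.ModSiteTensor.hasSheafHom X.sheaf M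
  let Kk : ℕ → X.Modules := Groth.Agent.Lib.Syzygies.K π hπ hex0 hex
  let εε : ∀ j, E.X j ⟶ Kk j := Groth.Agent.Lib.Syzygies.ε π hπ hex0 hex
  let ιι : ∀ j, Kk (j + 1) ⟶ E.X j := Groth.Agent.Lib.Syzygies.ι π hπ hex0 hex
  have hSK : ∀ j, ModSite.HasSheafHom (O := X.sheaf) (Kk j) := fun j => hSH _
  let TK : ℕ → ModSite.Mod X.sheaf ⥤ ModSite.Mod X.sheaf := fun j =>
    ModSite.sheafHom (O := X.sheaf) (Kk j)
  let TL : ℕ → ModSite.Mod X.sheaf ⥤ ModSite.Mod X.sheaf := fun j =>
    ModSite.sheafHom (O := X.sheaf) (E.X j)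
  have hTKadd : ∀ j, (TK j).Additive := fun j =>
    Groth.Agent.Lib.H43SheafHomFree.additive_sheafHom (O := X.sheaf) (Kk j)
  have hTLadd : ∀ j, (TL j).Additive := fun j =>
    Groth.Agent.Lib.H43SheafHomFree.additive_sheafHom (O := X.sheaf) (E.X j)
  let α : ∀ j, TK j ⟶ TL j := fun j => ExtSupp.sheafHomMap (O := X.sheaf) (εε j)
  let β : ∀ j, TL j ⟶ TK (j + 1) := fun j => ExtSupp.sheafHomMap (O := X.sheaf) (ιι j)
  have h : ∀ j, Groth.Agent.Lib.FunctorSESNat.ExactOnInj (α j) (β j) := fun j I hI =>
    Groth.Agent.Lib.SheafHomExact.shortExact_sheafHomMap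
      (ShortComplex.mk (ιι j) (εε j) (Groth.Agent.Lib.Syzygies.ι_ε π hπ hex0 hex j))
      (Groth.Agent.Lib.Syzygies.shortExact π hπ hex0 hex j) I
  have hlim : ∀ j, PreservesFiniteLimits (TL j) := fun j => by
    have h2 : PreservesLimitsOfSize.{0, 0} (ModSite.sheafHom (O := X.sheaf) (E.X j)) :=
      (ModSite.sheafHomAdj (O := X.sheaf) (E.X j)).rightAdjoint_preservesLimits
    exact h2.preservesFiniteLimits
  have hcolim : ∀ j, PreservesFiniteColimits (TL j) := fun j =>
    Groth.Agent.Lib.H43SheafHomLocFree.preservesFiniteColimits_sheafHom (E.X j) (hE j)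
  have hacyc : ∀ j p : ℕ, IsZero (((TL j).rightDerived (p + 1)).obj G) := fun j p =>
    @Groth.Agent.Lib.H43ExactDerived.isZero_rightDerived_succ_of_exact _ _ _ _ _ _ _ (TL j)
      (hTLadd j) (hlim j) (hcolim j) G p
  have hiso : ∀ j, IsIso ((TL j).toRightDerivedZero.app G) := fun j => by
    have h3 := hlim j
    have h4 : IsIso (TL j).toRightDerivedZero := inferInstance
    exact NatIso.isIso_app_of_isIso _ _
  have hC' : ∀ j, C.d j (j + 1) ≫ (e (j + 1)).hom =
      (e j).hom ≫ (β j).app G ≫ (α (j + 1)).app G := fun j => by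
    rw [hC j]
    congr 1
    have h1 : E.d (j + 1) j = εε (j + 1) ≫ ιι j :=
      (Groth.Agent.Lib.Syzygies.ε_ι π hπ hex0 hex j).symm
    have h2 : ExtSupp.sheafHomMap (O := X.sheaf) (E.d (j + 1) j) =
        ExtSupp.sheafHomMap (O := X.sheaf) (ιι j) ≫ ExtSupp.sheafHomMap (O := X.sheaf) (εε (j + 1)) := by
      have h3 := Groth.Agent.S16286.sheafHomMap_comp (O := X.sheaf) (εε (j + 1)) (ιι j)
      rw [h1]
      exact h3
    rw [h2]
    rfl
  exact Groth.Agent.Lib.AcyclicFirstVar.nonempty_homology_iso TK TL α β h G hacyc hiso C e hC' i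

end Groth.Agent.S15520
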