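import Groth.Statements.S15522
import Groth.Agent.Lib.FibreDictAffH44
import Groth.Agent.Lib.TFunRank3
import Groth.Agent.Lib.ExchangeH44

set_option autoImplicit false
universe u
attribute [local instance] HasDerivedCategory.standard
open Coherent

namespace Groth.Agent.S15522

open AlgebraicGeometry CategoryTheory in
/-- Let A be a reduced Noetherian ring, X a proper scheme over Spec A with structure morphism f, F a
coherent O_X-module flat over Spec A, and p a natural number such that the function y ↦ dim_{κ(y)}
H^p(X_y, F_y) is locally constant on Spec A. For each q write T^q for the functor M ↦ H^q(X, f^*(M~)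
⊗ F) from A-modules to abelian groups. Then T^p takes surjections to surjections, and so does
T^(p-1) when p ≥ 1; equivalently, every base-change map H^q(X, F) ⊗_A M → H^q(X, F ⊗_A M) is
bijective for q = p and q = p - 1. (The published statement also asserts that R^p f_*F is locally
free of finite rank; this row states the two exchange properties only, over an affine base.) -/
theorem result (A : Type u) [CommRing A]
    [IsNoetherianRing A] [IsReduced A] (X : Scheme.{u}) [X.Over (Spec (CommRingCat.of A))]
    [IsProper (X ↘ Spec (CommRingCat.of A))] (F : X.Modules) (hF : Coh.IsCoh F)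
    (hfl : FlatMod.IsFlatOver (X ↘ Spec (CommRingCat.of A)) F) (p : ℕ)
    (hconst : IsLocallyConstant (CohIII.fiberRank (X ↘ Spec (CommRingCat.of A)) F p)) :
    (CohIII.tensorAFunctor A F ⋙ CohIII.HAb X p).PreservesEpimorphisms ∧
      ∀ q : ℕ, q + 1 = p → (CohIII.tensorAFunctor A F ⋙ CohIII.HAb X q).PreservesEpimorphisms := by
  obtain ⟨L, h1, -, h3, -, -, -, h7⟩ :=
    Groth.Agent.Lib.FibreDictAffH44.exists_model_fibre A X F hF hfl
  have hflat : ∀ i, Module.Flat A (L.X i) := fun i => haveI := (h1 i).2; inferInstance
  have hfin : ∀ i, Module.Finite A (L.X i) := fun i => (h1 i).1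
  have hd : IsLocallyConstant (CohIII.dRank L (p : ℤ)) := by
    have heq : CohIII.dRank L (p : ℤ) =
        CohIII.fiberRank (X ↘ Spec (CommRingCat.of A)) F p := funext fun y => (h7 y p).symm
    rw [heq]
    exact hconst
  obtain ⟨hm, he⟩ := Groth.Agent.Lib.TFunRank.exact_of_isLocallyConstant_dRank L hflat hfin (p : ℤ)
    ((p : ℤ) + 1) rfl hd
  refine ⟨?_, fun q hq => ?_⟩
  · exact (h3 p).preservesEpimorphisms_iff.2
      ((Groth.Agent.Lib.ExchangeH44.preservesEpi_comp_forget₂_iff _).2 he)
  · have hq' : ((q : ℤ) + 1) = (p : ℤ) := by exact_mod_cast hq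
    have he' : (CohIII.TFun L (q : ℤ)).PreservesEpimorphisms := by
      refine (Groth.Agent.Lib.TFun.preservesEpi_iff_preservesMono L hflat (q : ℤ) ((q : ℤ) + 1) rfl).2 ?_
      rw [hq']
      exact hm
    exact (h3 q).preservesEpimorphisms_iff.2
      ((Groth.Agent.Lib.ExchangeH44.preservesEpi_comp_forget₂_iff _).2 he')

end Groth.Agent.S15522
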