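import Mathlib
import Groth.Agent.S7825
import Groth.Statements.S15524

set_option autoImplicit false
open Finset
open Zeta

namespace Groth.Agent.S15524

section Helpers

theorem rpow_half_mul (q : ℝ) (hq : 0 ≤ q) (d N : ℕ) :
    q ^ ((d : ℝ) * N / 2) = ((Real.sqrt q) ^ d) ^ N := by
  rw [Real.sqrt_eq_rpow, ← Real.rpow_natCast, ← Real.rpow_natCast, ← Real.rpow_mul hq,
    ← Real.rpow_mul hq]
  congr 1
  ring

end Helpers

/-- Let q ≥ 1 and let α_1, …, α_{2g} be complex numbers permuted by α ↦ q/α, i.e. α_{σ(i)} α_i = q for a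
permutation σ of the indices; these play the role of the inverse roots of the numerator of the zeta
function of a curve over a field with q elements, for which #X(F_{q^N}) = q^N + 1 − Σ_i α_i^N. If
for some d ≥ 1 and real C one has |Σ_i α_i^{dN}| ≤ C q^{dN/2} for every N ≥ 1, then |α_i|^2 = q for
every i (the Riemann hypothesis for the curve). -/
theorem result {g : ℕ} (q : ℕ) (hq : 0 < q)
    (α : Fin (2 * g) → ℂ) (σ : Equiv.Perm (Fin (2 * g))) (hσ : ∀ i, α (σ i) * α i = q)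
    (d : ℕ) (hd : 0 < d) (C : ℝ)
    (hC : ∀ N : ℕ, 1 ≤ N → ‖∑ i, α i ^ (d * N)‖ ≤ C * (q : ℝ) ^ ((d : ℝ) * N / 2))
    (i : Fin (2 * g)) : ‖α i‖ ^ 2 = q := by
  have hq0 : (0 : ℝ) ≤ (q : ℝ) := Nat.cast_nonneg q
  have hqpos : (0 : ℝ) < (q : ℝ) := Nat.cast_pos.2 hq
  set s : ℝ := Real.sqrt q with hs
  have hspos : 0 < s := Real.sqrt_pos.2 hqpos
  have hs2 : s ^ 2 = q := Real.sq_sqrt hq0
  set ρ : ℝ := s ^ d with hρ
  have hρpos : 0 < ρ := pow_pos hspos d
  -- apply S7825 to β_i = α_i^d / ρ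
  have hβ : ∀ j, ‖α j ^ d / (ρ : ℂ)‖ ≤ 1 := by
    intro j
    refine Groth.Agent.S7825.result (fun j => α j ^ d / (ρ : ℂ)) C ?_ j
    intro N hN
    have h1 : ∑ j, (α j ^ d / (ρ : ℂ)) ^ N = (∑ j, α j ^ (d * N)) / (ρ : ℂ) ^ N := by
      rw [Finset.sum_div]
      apply Finset.sum_congr rfl
      intro j _
      rw [div_pow, ← pow_mul]
    rw [h1, norm_div, norm_pow, Complex.norm_real, Real.norm_of_nonneg hρpos.le]
    rw [div_le_iff₀ (pow_pos hρpos N)]
    have := hC N hN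
    rw [rpow_half_mul (q : ℝ) hq0 d N] at this
    exact this
  have hle : ∀ j, ‖α j‖ ≤ s := by
    intro j
    have h1 := hβ j
    rw [norm_div, norm_pow, Complex.norm_real, Real.norm_of_nonneg hρpos.le,
      div_le_one hρpos] at h1
    exact (pow_le_pow_iff_left₀ (norm_nonneg _) hspos.le (Nat.pos_iff_ne_zero.1 hd)).1 h1
  have hprod : ‖α (σ i)‖ * ‖α i‖ = s ^ 2 := by
    rw [← norm_mul, hσ i, hs2, Complex.norm_natCast]
  have h1 := hle (σ i)
  have h2 := hle i
  have h3 : s ≤ ‖α i‖ := by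
    by_contra hlt
    rw [not_le] at hlt
    have : ‖α (σ i)‖ * ‖α i‖ < s * s := by
      calc ‖α (σ i)‖ * ‖α i‖ ≤ s * ‖α i‖ := mul_le_mul_of_nonneg_right h1 (norm_nonneg _)
        _ < s * s := mul_lt_mul_of_pos_left hlt hspos
    rw [hprod] at this
    nlinarith
  rw [le_antisymm h2 h3, hs2]

end Groth.Agent.S15524
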