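import Groth.Statements.S15525
import Mathlib.LinearAlgebra.Matrix.Charpoly.Coeff
import Mathlib.LinearAlgebra.Matrix.Charpoly.Eigs
import Mathlib.Algebra.Polynomial.Reverse
import Mathlib.Algebra.Polynomial.Splits
import Mathlib.Analysis.Complex.Polynomial.Basic

set_option autoImplicit false
universe u
open Zeta Polynomial

namespace Groth.Agent.S15525

/-- reverse of a product of linear factors with roots on the unit circle -/
theorem reverse_one' : reverse (1 : ℂ[X]) = 1 := by
  have := reverse_C (1 : ℂ)
  simpa using this

theorem reverse_prod_roots (s : Multiset ℂ) (hs : ∀ z ∈ s, ‖z‖ = 1) :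
    reverse ((s.map (fun z => X - C z)).prod) =
      C ((-1) ^ Multiset.card s * s.prod) *
        (s.map (fun z => X - C ((starRingEnd ℂ) z))).prod := by
  induction s using Multiset.induction_on with
  | empty => simp [reverse_one']
  | cons z s ih =>
    have hz : ‖z‖ = 1 := hs z (Multiset.mem_cons_self z s)
    have hs' : ∀ w ∈ s, ‖w‖ = 1 := fun w hw => hs w (Multiset.mem_cons_of_mem hw)
    have hzz : z * (starRingEnd ℂ) z = 1 := by
      rw [Complex.mul_conj, Complex.normSq_eq_norm_sq, hz]; simp
    rw [Multiset.map_cons, Multiset.prod_cons, reverse_mul_of_domain, ih hs', Multiset.map_cons,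
      Multiset.prod_cons, Multiset.card_cons, Multiset.prod_cons]
    have h1 : reverse (X - C z) = C (-z) * (X - C ((starRingEnd ℂ) z)) := by
      have : (X - C z : ℂ[X]) = X + C (-z) := by simp [sub_eq_add_neg]
      rw [this, reverse_add_C]
      have hX : reverse (X : ℂ[X]) = 1 := by
        have := reverse_mul_X (1 : ℂ[X])
        simpa [reverse_one'] using this
      rw [hX, natDegree_X, pow_one, mul_sub, ← C_mul, neg_mul, hzz]
      simp
      ring
    rw [h1]
    simp only [C_mul, C_neg, C_pow, C_1, pow_succ]
    ring

/-- Let L be a field with a ring embedding ι into ℂ and M an r × r matrix over L all of whose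
eigenvalues, the complex roots of its characteristic polynomial mapped along ι, have absolute value
1. Then every coefficient of the characteristic polynomial of the block-diagonal matrix with blocks
M and the inverse transpose of M is mapped by ι into ℝ. This is the pointwise content of the
assertion that for a lisse sheaf F pure of weight 0 the sum of F and its dual is real, the Frobenius
of the dual acting by the inverse transpose. -/
theorem result (L : Type u) [Field L] (ι : L →+* ℂ)
    {r : ℕ} (M : Matrix (Fin r) (Fin r) L)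
    (hM : ∀ z ∈ ((Matrix.charpoly M).map ι).roots, ‖z‖ = 1) (n : ℕ) :
    (ι ((Matrix.fromBlocks M 0 0 (M⁻¹).transpose).charpoly.coeff n)).im = 0 := by
  set N : Matrix (Fin r) (Fin r) ℂ := M.map ι with hN
  have hP : N.charpoly = M.charpoly.map ι := Matrix.charpoly_map M ι
  set P := N.charpoly with hPdef
  rw [← hP] at hM
  set s := P.roots with hs
  have hsplit : P.Splits := IsAlgClosed.splits P
  have hmonic : P.Monic := Matrix.charpoly_monic N
  have hprod : P = (s.map (fun z => X - C z)).prod := hsplit.eq_prod_roots_of_monic hmonic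
  have hcard : Multiset.card s = r := by
    have h1 := hsplit.natDegree_eq_card_roots
    rw [← hs] at h1
    rw [← h1, hPdef, Matrix.charpoly_natDegree_eq_dim, Fintype.card_fin]
  have hdetN : N.det = s.prod := Matrix.det_eq_prod_roots_charpoly N
  have hdet0 : N.det ≠ 0 := by
    rw [hdetN]
    intro h0
    rw [Multiset.prod_eq_zero_iff] at h0
    have := hM 0 h0
    simp at this
  have hdetM : M.det ≠ 0 := by
    intro h0
    apply hdet0
    rw [hN, ← RingHom.mapMatrix_apply, ← RingHom.map_det, h0, map_zero]
  have hMunit : IsUnit M.det := IsUnit.mk0 _ hdetM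
  have hNinv : (M⁻¹).map ι = N⁻¹ := by
    symm
    apply Matrix.inv_eq_right_inv
    rw [hN, ← Matrix.map_mul, Matrix.mul_nonsing_inv M hMunit, Matrix.map_one _ (map_zero ι)
      (map_one ι)]
  have hNunit : IsUnit N := (Matrix.isUnit_iff_isUnit_det N).mpr (IsUnit.mk0 _ hdet0)
  -- key identity
  have hkey : (N⁻¹).charpoly = P.map (starRingEnd ℂ) := by
    rw [Matrix.charpoly_inv N hNunit, ← Matrix.reverse_charpoly, ← hPdef]
    have hmap : P.map (starRingEnd ℂ) =
        (s.map (fun z => X - C ((starRingEnd ℂ) z))).prod := by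
      conv_lhs => rw [hprod]
      rw [Polynomial.map_multiset_prod, Multiset.map_map]
      congr 1
      apply Multiset.map_congr rfl
      intro z _
      simp
    conv_lhs => rw [hprod]
    rw [reverse_prod_roots s hM, hcard, ← hdetN, hmap, Fintype.card_fin,
      Ring.inverse_eq_inv']
    rw [← mul_assoc]
    have : ((-1 : ℂ[X]) ^ r * C (N.det)⁻¹) * C ((-1) ^ r * N.det) = 1 := by
      rw [C_mul, C_pow, C_neg, C_1]
      have h2 : (C (N.det)⁻¹ : ℂ[X]) * C N.det = 1 := by
        rw [← C_mul, inv_mul_cancel₀ hdet0, C_1]
      calc (-1 : ℂ[X]) ^ r * C (N.det)⁻¹ * ((-1) ^ r * C N.det)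
          = ((-1 : ℂ[X]) ^ r * (-1) ^ r) * (C (N.det)⁻¹ * C N.det) := by ring
        _ = 1 := by rw [h2, ← mul_pow]; simp
    rw [this, one_mul]
  -- charpoly of the block matrix
  have hblock : (Matrix.fromBlocks M 0 0 (M⁻¹).transpose).charpoly =
      M.charpoly * (M⁻¹).charpoly := by
    rw [Matrix.charpoly_fromBlocks_zero₁₂, Matrix.charpoly_transpose]
  have hQ : ((Matrix.fromBlocks M 0 0 (M⁻¹).transpose).charpoly).map ι =
      P * P.map (starRingEnd ℂ) := by
    rw [hblock, Polynomial.map_mul, ← Matrix.charpoly_map, ← Matrix.charpoly_map, hNinv, hkey]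
  rw [← Polynomial.coeff_map, hQ]
  -- real coefficients
  have hreal : (P * P.map (starRingEnd ℂ)).map (starRingEnd ℂ) = P * P.map (starRingEnd ℂ) := by
    rw [Polynomial.map_mul, Polynomial.map_map]
    have : (starRingEnd ℂ).comp (starRingEnd ℂ) = RingHom.id ℂ := by
      ext z; simp
    rw [this, Polynomial.map_id, mul_comm]
  have hc := congrArg (fun q => q.coeff n) hreal
  simp only [Polynomial.coeff_map] at hc
  exact Complex.conj_eq_iff_im.mp hc

end Groth.Agent.S15525
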