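import Groth.Statements.S15526
import Mathlib.Algebra.MvPolynomial.Basic
import Mathlib.Algebra.Polynomial.AlgebraMap
import Mathlib.Algebra.Polynomial.Monic
import Mathlib.RingTheory.Ideal.Quotient.Operations
import Mathlib.LinearAlgebra.Span.Basic
import Mathlib.Tactic

set_option autoImplicit false
universe u
open MvPolynomial
open CAlg

namespace Groth.Agent.S15526

section Abstract

variable {R A : Type*} [CommRing R] [CommRing A] [Algebra R A] (g : ℕ)
  (P : Polynomial R) (x y z : A)

/-- powers of `y` and of `z` -/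
def IsU (u : A) : Prop := ∃ n : ℕ, u = y ^ n ∨ u = z ^ n

/-- the generating set -/
def Gen : Set A := {a | ∃ i n : ℕ, i ≤ 2 * g ∧ (a = x ^ i * y ^ n ∨ a = x ^ i * z ^ n)}

variable {g x y z}

theorem mem_Gen_iff (a : A) : a ∈ Gen g x y z ↔ ∃ i u, i ≤ 2 * g ∧ IsU y z u ∧ a = x ^ i * u := by
  constructor
  · rintro ⟨i, n, hi, h | h⟩
    · exact ⟨i, y ^ n, hi, ⟨n, Or.inl rfl⟩, h⟩
    · exact ⟨i, z ^ n, hi, ⟨n, Or.inr rfl⟩, h⟩
  · rintro ⟨i, u, hi, ⟨n, h | h⟩, rfl⟩
    · exact ⟨i, n, hi, Or.inl (by rw [h])⟩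
    · exact ⟨i, n, hi, Or.inr (by rw [h])⟩

theorem isU_y_mul (hyz : y * z = 1) {u : A} (hu : IsU y z u) : IsU y z (y * u) := by
  obtain ⟨n, rfl | rfl⟩ := hu
  · exact ⟨n + 1, Or.inl (by ring)⟩
  · cases n with
    | zero => exact ⟨1, Or.inl (by ring)⟩
    | succ n => exact ⟨n, Or.inr (by rw [pow_succ, ← mul_assoc, mul_comm y, mul_assoc, hyz, mul_one])⟩

theorem isU_z_mul (hyz : y * z = 1) {u : A} (hu : IsU y z u) : IsU y z (z * u) := by
  obtain ⟨n, rfl | rfl⟩ := hu
  · cases n with
    | zero => exact ⟨1, Or.inr (by ring)⟩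
    | succ n =>
      refine ⟨n, Or.inl ?_⟩
      rw [pow_succ, ← mul_assoc, mul_comm z, mul_assoc, mul_comm z y, hyz, mul_one]
  · exact ⟨n + 1, Or.inr (by ring)⟩

theorem y_mul_mem (hyz : y * z = 1) :
    ∀ v ∈ Submodule.span R (Gen g x y z), y * v ∈ Submodule.span R (Gen g x y z) := by
  intro v hv
  have : Submodule.span R (Gen g x y z) ≤
      (Submodule.span R (Gen g x y z)).comap (LinearMap.mulLeft R y) := by
    rw [Submodule.span_le]
    intro a ha
    rw [mem_Gen_iff] at ha
    obtain ⟨i, u, hi, hu, rfl⟩ := ha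
    apply Submodule.subset_span
    rw [mem_Gen_iff]
    exact ⟨i, y * u, hi, isU_y_mul hyz hu, by simp only [LinearMap.mulLeft_apply]; ring⟩
  exact this hv

theorem z_mul_mem (hyz : y * z = 1) :
    ∀ v ∈ Submodule.span R (Gen g x y z), z * v ∈ Submodule.span R (Gen g x y z) := by
  intro v hv
  have : Submodule.span R (Gen g x y z) ≤
      (Submodule.span R (Gen g x y z)).comap (LinearMap.mulLeft R z) := by
    rw [Submodule.span_le]
    intro a ha
    rw [mem_Gen_iff] at ha
    obtain ⟨i, u, hi, hu, rfl⟩ := ha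
    apply Submodule.subset_span
    rw [mem_Gen_iff]
    exact ⟨i, z * u, hi, isU_z_mul hyz hu, by simp only [LinearMap.mulLeft_apply]; ring⟩
  exact this hv

theorem x_mul_mem (hP : P.Monic) (hdeg : P.natDegree = 2 * g + 1) (hyz : y * z = 1)
    (hy2 : y ^ 2 = Polynomial.aeval x P) :
    ∀ v ∈ Submodule.span R (Gen g x y z), x * v ∈ Submodule.span R (Gen g x y z) := by
  intro v hv
  have : Submodule.span R (Gen g x y z) ≤
      (Submodule.span R (Gen g x y z)).comap (LinearMap.mulLeft R x) := by
    rw [Submodule.span_le]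
    intro a ha
    rw [mem_Gen_iff] at ha
    obtain ⟨i, u, hi, hu, rfl⟩ := ha
    change x * (x ^ i * u) ∈ Submodule.span R (Gen g x y z)
    rcases Nat.lt_or_ge i (2 * g) with hlt | hge
    · apply Submodule.subset_span
      rw [mem_Gen_iff]
      exact ⟨i + 1, u, hlt, hu, by ring⟩
    · have hi' : i = 2 * g := le_antisymm hi hge
      subst hi'
      have hx : x ^ (2 * g + 1) =
          y ^ 2 - ∑ j ∈ Finset.range (2 * g + 1), P.coeff j • x ^ j := by
        rw [hy2]
        conv_lhs => rw [← sub_add_cancel (x ^ (2 * g + 1)) (Polynomial.aeval x P)]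
        have has := hP.as_sum
        rw [hdeg] at has
        have : Polynomial.aeval x P = x ^ (2 * g + 1) +
            ∑ j ∈ Finset.range (2 * g + 1), P.coeff j • x ^ j := by
          conv_lhs => rw [has]
          simp [map_sum, Algebra.smul_def]
        rw [this]
        ring
      have : x * (x ^ (2 * g) * u) = y * (y * u) -
          ∑ j ∈ Finset.range (2 * g + 1), P.coeff j • (x ^ j * u) := by
        have : x * (x ^ (2 * g) * u) = x ^ (2 * g + 1) * u := by ring
        rw [this, hx, sub_mul, Finset.sum_mul]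
        congr 1
        · ring
        · apply Finset.sum_congr rfl
          intro j _
          rw [smul_mul_assoc]
      rw [this]
      apply Submodule.sub_mem
      · apply Submodule.subset_span
        rw [mem_Gen_iff]
        exact ⟨0, y * (y * u), Nat.zero_le _, isU_y_mul hyz (isU_y_mul hyz hu), by ring⟩
      · apply Submodule.sum_mem
        intro j hj
        apply Submodule.smul_mem
        apply Submodule.subset_span
        rw [mem_Gen_iff]
        exact ⟨j, u, Nat.lt_succ_iff.mp (Finset.mem_range.mp hj), hu, rfl⟩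
  exact this hv

theorem one_mem_span : (1 : A) ∈ Submodule.span R (Gen g x y z) := by
  apply Submodule.subset_span
  exact ⟨0, 0, Nat.zero_le _, Or.inl (by simp)⟩

end Abstract

/-- Let R be a commutative ring, P ∈ R[x] a monic polynomial of degree 2g + 1, and A = R[x, y, z]/(y^2 −
P(x), yz − 1). Then every element of A is a finite sum Σ_n Q_n(x) y^n over integers n, negative
powers of y meaning powers of z, with each Q_n ∈ R[x] of degree at most 2g: the R-submodule of A
spanned by the classes of x^i y^n and x^i z^n with i ≤ 2g and n ≥ 0 is all of A. (The published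
statement takes for R the ring of Witt vectors of a finite field and for P a lift of a separable
polynomial; the argument uses only that P is monic of degree 2g + 1.) -/
theorem result (R : Type u) [CommRing R] (g : ℕ)
    (P : Polynomial R) (hP : P.Monic) (hdeg : P.natDegree = 2 * g + 1) :
    Submodule.span R {a : MvPolynomial (Fin 3) R ⧸
        Ideal.span ({X 1 ^ 2 - Polynomial.aeval (X 0 : MvPolynomial (Fin 3) R) P, X 1 * X 2 - 1} :
          Set (MvPolynomial (Fin 3) R)) |
        ∃ i n : ℕ, i ≤ 2 * g ∧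
          (a = Ideal.Quotient.mk _ (X 0 ^ i * X 1 ^ n) ∨ a = Ideal.Quotient.mk _ (X 0 ^ i * X 2 ^ n))} =
      ⊤ := by
  set I : Ideal (MvPolynomial (Fin 3) R) :=
    Ideal.span ({X 1 ^ 2 - Polynomial.aeval (X 0 : MvPolynomial (Fin 3) R) P, X 1 * X 2 - 1} :
          Set (MvPolynomial (Fin 3) R)) with hI
  let x : MvPolynomial (Fin 3) R ⧸ I := Ideal.Quotient.mk I (X 0)
  let y : MvPolynomial (Fin 3) R ⧸ I := Ideal.Quotient.mk I (X 1)
  let z : MvPolynomial (Fin 3) R ⧸ I := Ideal.Quotient.mk I (X 2)
  have hset : {a : MvPolynomial (Fin 3) R ⧸ I | ∃ i n : ℕ, i ≤ 2 * g ∧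
      (a = Ideal.Quotient.mk I (X 0 ^ i * X 1 ^ n) ∨ a = Ideal.Quotient.mk I (X 0 ^ i * X 2 ^ n))} =
      Gen g x y z := by
    ext a
    simp only [Gen, Set.mem_ofPred_eq, map_mul, map_pow, x, y, z]
  rw [hset]
  have hyz : y * z = 1 := by
    have : Ideal.Quotient.mk I (X 1 * X 2 - 1) = 0 :=
      Ideal.Quotient.eq_zero_iff_mem.mpr (Ideal.subset_span (by simp))
    rw [map_sub, map_mul, map_one, sub_eq_zero] at this
    exact this
  have hy2 : y ^ 2 = Polynomial.aeval x P := by
    have : Ideal.Quotient.mk I (X 1 ^ 2 - Polynomial.aeval (X 0 : MvPolynomial (Fin 3) R) P) = 0 :=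
      Ideal.Quotient.eq_zero_iff_mem.mpr (Ideal.subset_span (by simp))
    rw [map_sub, map_pow, sub_eq_zero] at this
    rw [this]
    exact (Polynomial.aeval_algHom_apply (Ideal.Quotient.mkₐ R I) (X 0) P).symm
  rw [eq_top_iff]
  rintro a -
  obtain ⟨p, rfl⟩ := Ideal.Quotient.mk_surjective a
  induction p using MvPolynomial.induction_on with
  | C r =>
    have : Ideal.Quotient.mk I (C r) = r • (1 : MvPolynomial (Fin 3) R ⧸ I) := by
      have h : (C r : MvPolynomial (Fin 3) R) = r • (1 : MvPolynomial (Fin 3) R) := by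
        rw [MvPolynomial.smul_eq_C_mul, mul_one]
      rw [h]
      rfl
    rw [this]
    exact Submodule.smul_mem _ _ one_mem_span
  | add p q hp hq =>
    rw [map_add]
    exact Submodule.add_mem _ hp hq
  | mul_X p i hp =>
    rw [map_mul, mul_comm]
    fin_cases i
    · exact x_mul_mem P hP hdeg hyz hy2 _ hp
    · exact y_mul_mem hyz _ hp
    · exact z_mul_mem hyz _ hp

end Groth.Agent.S15526
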