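import Groth.Statements.S1553
import Groth.Agent.Lib.FibreStalkChartLocal
import Groth.Agent.Lib.DimFormulaScheme3
import Groth.Agent.Lib.FibreDimAtFormula

set_option autoImplicit false
universe u
open CategoryTheory CategoryTheory.Limits AlgebraicGeometry
open Variety

namespace Groth.Agent.S1553

/-- The local ring at the generic point of an irreducible component has dimension zero. -/
theorem stalk_dim_zero_of_irreducibleComponent {X : Scheme.{u}} (ξ : X)
    (h : closure {ξ} ∈ irreducibleComponents X) : ringKrullDim (X.presheaf.stalk ξ) = 0 := by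
  rw [ringKrullDim_stalk_eq_coheight]
  have : Order.coheight ξ = 0 := by
    rw [Order.coheight_eq_zero]
    intro b hb
    have hb' : b ⤳ ξ := hb
    change ξ ⤳ b
    have h1 : closure {ξ} ⊆ closure {b} :=
      closure_minimal (Set.singleton_subset_iff.mpr hb'.mem_closure) isClosed_closure
    have h2 : closure {b} ⊆ closure {ξ} := h.2 isIrreducible_singleton.closure h1
    exact specializes_iff_mem_closure.mpr (h2 (subset_closure rfl))
  rw [this]
  rfl

/-- A point whose local ring has dimension zero is the generic point of an irreducible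
component. -/
theorem irreducibleComponent_of_stalk_dim_zero {X : Scheme.{u}} (z : X)
    (h : ringKrullDim (X.presheaf.stalk z) = 0) : closure {z} ∈ irreducibleComponents X := by
  rw [ringKrullDim_stalk_eq_coheight] at h
  have h0 : Order.coheight z = 0 := by exact_mod_cast h
  rw [Order.coheight_eq_zero] at h0
  apply Groth.Agent.Lib.GenericDense68.closure_singleton_mem_irreducibleComponents
  intro y hy
  exact h0 (show z ≤ y from hy)

/-- At a point with zero-dimensional local ring, the fibre local ring is zero-dimensional. -/
theorem fibre_stalk_dim_zero {X Y : Scheme.{u}} (f : X ⟶ Y) (ξ : X)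
    (h : ringKrullDim (X.presheaf.stalk ξ) = 0) :
    ringKrullDim ((f.fiber (f ξ)).presheaf.stalk (f.asFiber ξ)) = 0 := by
  apply le_antisymm
  · have h1 := Groth.Agent.Lib.DimFormulaScheme.ringKrullDim_stalk_fiber_le f (f ξ) (f.asFiber ξ)
    rw [f.fiberι_asFiber, h] at h1
    exact h1
  · exact ringKrullDim_nonneg_of_nontrivial

/-- The transcendence degree at the generic point of an irreducible component is the local fibre
dimension there. -/
theorem trdeg_eq_of_fibreDimAt {X Y : Scheme.{u}} (f : X ⟶ Y) [LocallyOfFiniteType f] (ξ : X)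
    (h : closure {ξ} ∈ irreducibleComponents X) (d : ℕ) (hd : FlatMor.fibreDimAt f ξ = d) :
    letI := (f.residueFieldMap ξ).hom.toAlgebra
    Algebra.trdeg (Y.residueField (f ξ)) (X.residueField ξ) = d := by
  obtain ⟨m, hm⟩ := Groth.Agent.Lib.GenericFibrePoint.exists_nat_trdeg_residueField f ξ
  have h2 := Groth.Agent.Lib.FibreDimAtFormula.fibreDimAt_eq_add f ξ m hm
  rw [fibre_stalk_dim_zero f ξ (stalk_dim_zero_of_irreducibleComponent ξ h), zero_add, hd] at h2
  have h3 : d = m := by exact_mod_cast h2
  rw [hm, h3]

/-- Let f : X → Y be locally of finite type, x a point with image y such that the local ring of Y at y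
is Noetherian, and d a natural number such that at the generic points η of the irreducible
components of X passing through x we have f(η) ≠ y and local fibre dimension d. Then the local
dimension at x of the fibre over y is at most d + dim O_{Y,y} - 1 (written additively). -/
theorem result {X Y : Scheme.{u}} (f : X ⟶ Y) [LocallyOfFiniteType f]
    (x : X) [IsNoetherianRing (Y.presheaf.stalk (f.base x))] (d : ℕ)
    (hgen : ∀ Z ∈ irreducibleComponents (X : Type u), x ∈ Z → ∀ η : X, IsGenericPoint η Z →
      f.base η ≠ f.base x ∧ FlatMor.fibreDimAt f η = d) :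
    FlatMor.fibreDimAt f x + 1 ≤ (d : WithBot ℕ∞) + ringKrullDim (Y.presheaf.stalk (f.base x)) := by
  obtain ⟨n, hn⟩ := Groth.Agent.Lib.GenericFibrePoint.exists_nat_trdeg_residueField f x
  rw [Groth.Agent.Lib.FibreDimAtFormula.fibreDimAt_eq_add f x n hn]
  obtain ⟨z, hzx, hfz, -, hzle⟩ :=
    Groth.Agent.Lib.FibreStalkChartLocal.exists_generization_fibre_generic_local f x
  obtain ⟨a, b, ha, hb, hineq⟩ := Groth.Agent.Lib.DimIneqLocal.stalk_ineq_local f
    Groth.Agent.Lib.DimFormulaScheme.dimIneq x (d : Cardinal.{u}) (fun ξ hirr hspec => by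
      have h1 := hgen (closure {ξ}) hirr hspec.mem_closure ξ isGenericPoint_closure
      exact le_of_eq (trdeg_eq_of_fibreDimAt f ξ hirr d h1.2))
  rw [hn] at hineq
  have h4 : a + n ≤ b + d := by exact_mod_cast hineq
  -- the local ring at `z` has positive dimension
  have hz1 : 1 ≤ ringKrullDim (X.presheaf.stalk z) := by
    by_contra hcon
    have h0 : ringKrullDim (X.presheaf.stalk z) = 0 := by
      rw [ringKrullDim_stalk_eq_coheight] at hcon ⊢
      have : Order.coheight z = 0 := by
        by_contra hne
        exact hcon (by exact_mod_cast ENat.one_le_iff_ne_zero.mpr hne)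
      rw [this]
      rfl
    have h1 := hgen (closure {z}) (irreducibleComponent_of_stalk_dim_zero z h0) hzx.mem_closure z
      isGenericPoint_closure
    exact h1.1 hfz
  rw [ha] at hzle
  rw [hb]
  have h5 : 1 + ringKrullDim ((f.fiber (f.base x)).presheaf.stalk (f.asFiber x)) ≤ a :=
    le_trans (add_le_add_left hz1 _) hzle
  generalize ringKrullDim ((f.fiber (f.base x)).presheaf.stalk (f.asFiber x)) = c at h5 ⊢
  cases c with
  | bot => simp
  | coe c =>
    cases c with
    | top =>
      exfalso
      have h6 : ((1 : ℕ∞) + (⊤ : ℕ∞) : ℕ∞) ≤ (a : ℕ∞) := by exact_mod_cast h5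
      simp at h6
    | coe m =>
      have h6 : 1 + m ≤ a := by exact_mod_cast h5
      have h7 : m + n + 1 ≤ d + b := by omega
      exact_mod_cast h7

end Groth.Agent.S1553
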