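import Groth.Statements.S15536
import Groth.Agent.Lib.H2DeRhamLie
import Groth.Agent.S15293
import Groth.Agent.S15294
import Mathlib

set_option autoImplicit false
universe u
open DeRham

namespace Groth.Agent.S15536

open Groth.Agent.Lib.H2DeRhamD Groth.Agent.Lib.H2DeRhamLie KaehlerDifferential exteriorPower Polynomial

section
variable (R A : Type u) [CommRing R] [CommRing A] [Algebra R A]

/-- the Euler derivation `t ∂/∂t` of `A[t]` over `R` -/
noncomputable def eul : Derivation R A[X] A[X] :=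
  (X : A[X]) • (Polynomial.derivative' (R := A)).restrictScalars R

theorem eul_apply (f : A[X]) : eul R A f = X * derivative f := rfl

theorem eul_monomial (n : ℕ) (a : A) : eul R A (monomial n a) = (n : ℤ) • monomial n a := by
  rw [eul_apply, derivative_monomial]
  rcases n with _ | n
  · simp
  · rw [Nat.add_sub_cancel, X_mul_monomial, mul_comm a, ← C_mul_monomial]
    simp

/-- generators of weight `N` -/
def gset (p : ℕ) (N : ℤ) : Set ↥(⋀[A[X]]^p (Ω[A[X]⁄R])) :=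
  {y | ∃ (n₀ : ℕ) (a₀ : A) (n : Fin p → ℕ) (a : Fin p → A), (n₀ : ℤ) + ∑ i, (n i : ℤ) = N ∧
    y = DeRham.gen (KaehlerDifferential.D R A[X]) p (monomial n₀ a₀)
      (fun i => monomial (n i) (a i))}

/-- the weight `N` part -/
noncomputable def S (p : ℕ) (N : ℤ) : Submodule ℤ ↥(⋀[A[X]]^p (Ω[A[X]⁄R])) :=
  Submodule.span ℤ (gset R A p N)

theorem S_eigen (p : ℕ) (N : ℤ) (y : ↥(⋀[A[X]]^p (Ω[A[X]⁄R]))) (hy : y ∈ S R A p N) :
    lie R A[X] (eul R A) (y : ExteriorAlgebra A[X] (Ω[A[X]⁄R])) =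
      N • (y : ExteriorAlgebra A[X] (Ω[A[X]⁄R])) := by
  induction hy using Submodule.span_induction with
  | mem y hy =>
    obtain ⟨n₀, a₀, n, a, hN, rfl⟩ := hy
    rw [coe_gen, lie_smul_wedgeD R A[X] (eul R A) p _ (n₀ : ℤ) (eul_monomial R A n₀ a₀) _
      (fun i => (n i : ℤ)) (fun i => eul_monomial R A (n i) (a i)), hN]
  | zero => simp
  | add x y _ _ hx hy => rw [Submodule.coe_add, lie_add, hx, hy, smul_add]
  | smul m x _ hx => rw [AddSubgroupClass.coe_zsmul, lie_zsmul, hx, smul_comm]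

theorem gen_expand (p : ℕ) (b₀ : A[X]) (b : Fin p → A[X]) :
    DeRham.gen (KaehlerDifferential.D R A[X]) p b₀ b =
      ∑ n₀ ∈ b₀.support, ∑ r ∈ Fintype.piFinset (fun i => (b i).support),
        DeRham.gen (KaehlerDifferential.D R A[X]) p (monomial n₀ (b₀.coeff n₀))
          (fun i => monomial (r i) ((b i).coeff (r i))) := by
  have h1 : (fun i => KaehlerDifferential.D R A[X] (b i)) =
      fun i => ∑ n ∈ (b i).support, KaehlerDifferential.D R A[X] (monomial n ((b i).coeff n)) := by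
    funext i
    rw [← map_sum, ← (b i).as_sum_support]
  have h2 : ιMulti A[X] p (fun i => KaehlerDifferential.D R A[X] (b i)) =
      ∑ r ∈ Fintype.piFinset (fun i => (b i).support),
        ιMulti A[X] p (fun i => KaehlerDifferential.D R A[X] (monomial (r i) ((b i).coeff (r i)))) := by
    rw [h1]
    exact (ιMulti A[X] p).toMultilinearMap.map_sum_finset
      (fun i n => KaehlerDifferential.D R A[X] (monomial n ((b i).coeff n))) (fun i => (b i).support)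
  unfold DeRham.gen
  rw [h2]
  conv_lhs => rw [b₀.as_sum_support]
  rw [Finset.sum_smul]
  refine Finset.sum_congr rfl fun n₀ _ => ?_
  rw [Finset.smul_sum]

theorem mem_iSup_S (p : ℕ) (y : ↥(⋀[A[X]]^p (Ω[A[X]⁄R]))) : y ∈ ⨆ N : ℤ, S R A p N := by
  refine Groth.Agent.Lib.H79DeRhamGen.gen_induction_kaehler R A[X] p
    (P := fun y => y ∈ ⨆ N : ℤ, S R A p N) (zero_mem _) (fun x y hx hy => add_mem hx hy) ?_ y
  intro b₀ b
  rw [gen_expand]
  refine Submodule.sum_mem _ fun n₀ _ => Submodule.sum_mem _ fun r _ => ?_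
  refine Submodule.mem_iSup_of_mem ((n₀ : ℤ) + ∑ i, (r i : ℤ)) (Submodule.subset_span ?_)
  exact ⟨n₀, _, r, _, rfl, rfl⟩

theorem exists_decomp (p : ℕ) (y : ↥(⋀[A[X]]^p (Ω[A[X]⁄R]))) :
    ∃ (F : Finset ℤ) (z : ℤ → ↥(⋀[A[X]]^p (Ω[A[X]⁄R]))), (∀ N, z N ∈ S R A p N) ∧
      (∀ N, N ∉ F → z N = 0) ∧ y = ∑ N ∈ F, z N := by
  classical
  obtain ⟨f, hf⟩ := (Submodule.mem_iSup_iff_exists_dfinsupp' (S R A p) y).mp (mem_iSup_S R A p y)
  refine ⟨f.support, fun N => (f N : ↥(⋀[A[X]]^p (Ω[A[X]⁄R]))), fun N => (f N).2, fun N hN => ?_, ?_⟩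
  · rw [DFinsupp.notMem_support_iff] at hN
    show ((f N : ↥(S R A p N)) : ↥(⋀[A[X]]^p (Ω[A[X]⁄R]))) = 0
    rw [hN]
    rfl
  · rw [← hf]
    rfl

theorem S_zero_range (p : ℕ) (ψ : ↥(⋀[A]^p (Ω[A⁄R])) →+ ↥(⋀[A[X]]^p (Ω[A[X]⁄R])))
    (hψ : ∀ (b₀ : A) (b : Fin p → A), ψ (DeRham.gen (KaehlerDifferential.D R A) p b₀ b) =
      DeRham.gen (KaehlerDifferential.D R A[X]) p (algebraMap A A[X] b₀)
        (fun i => algebraMap A A[X] (b i)))
    (y : ↥(⋀[A[X]]^p (Ω[A[X]⁄R]))) (hy : y ∈ S R A p 0) : ∃ x, ψ x = y := by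
  induction hy using Submodule.span_induction with
  | mem y hy =>
    obtain ⟨n₀, a₀, n, a, hN, rfl⟩ := hy
    have h0 : n₀ = 0 ∧ ∀ i, n i = 0 := by
      have h1 : (0 : ℤ) ≤ ∑ i, (n i : ℤ) := Finset.sum_nonneg fun i _ => by positivity
      have h2 : (n₀ : ℤ) = 0 := by omega
      have h3 : ∑ i, (n i : ℤ) = 0 := by omega
      refine ⟨by exact_mod_cast h2, fun i => ?_⟩
      have := (Finset.sum_eq_zero_iff_of_nonneg (fun i _ => by positivity)).mp h3 i (Finset.mem_univ i)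
      exact_mod_cast this
    obtain ⟨h00, h0i⟩ := h0
    refine ⟨DeRham.gen (KaehlerDifferential.D R A) p a₀ a, ?_⟩
    rw [hψ, h00]
    simp only [h0i, monomial_zero_left, Polynomial.algebraMap_eq]
  | zero => exact ⟨0, map_zero _⟩
  | add x y _ _ hx hy =>
    obtain ⟨x', rfl⟩ := hx
    obtain ⟨y', rfl⟩ := hy
    exact ⟨x' + y', map_add _ _ _⟩
  | smul m x _ hx =>
    obtain ⟨x', rfl⟩ := hx
    exact ⟨m • x', map_zsmul _ _ _⟩

/-- evaluation at `0` -/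
noncomputable def ev0 : A[X] →+* A := (Polynomial.aeval (0 : A) : A[X] →ₐ[A] A).toRingHom

theorem ev0_C (a : A) : ev0 A (algebraMap A A[X] a) = a := by
  simp [ev0]

theorem exists_ev :
    ∃ ev : ∀ p : ℕ, ↥(⋀[A[X]]^p (Ω[A[X]⁄R])) →+ ↥(⋀[A]^p (Ω[A⁄R])),
      DeRham.IsCxMap (KaehlerDifferential.D R A[X]) (KaehlerDifferential.D R A) (ev0 A) ev ∧
      ∀ (d : ∀ p : ℕ, ↥(⋀[A]^p (Ω[A⁄R])) →ₗ[R] ↥(⋀[A]^(p + 1) (Ω[A⁄R])))
        (_ : DeRham.IsDiff (KaehlerDifferential.D R A) d)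
        (d' : ∀ p : ℕ, ↥(⋀[A[X]]^p (Ω[A[X]⁄R])) →ₗ[R] ↥(⋀[A[X]]^(p + 1) (Ω[A[X]⁄R])))
        (_ : DeRham.IsDiff (KaehlerDifferential.D R A[X]) d') (p : ℕ)
        (x : ↥(⋀[A[X]]^p (Ω[A[X]⁄R]))), ev (p + 1) (d' p x) = d p (ev p x) := by
  letI : Algebra A[X] A := (ev0 A).toAlgebra
  haveI : IsScalarTower R A[X] A := IsScalarTower.of_algebraMap_eq (fun r => by
    rw [IsScalarTower.algebraMap_apply R A A[X]]
    exact (ev0_C A _).symm)
  obtain ⟨ev, hev⟩ := Groth.Agent.S15293.result R R A[X] A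
  refine ⟨ev, hev, fun d hd d' hd' p x => ?_⟩
  exact Groth.Agent.S15294.result R R A[X] A d' hd' d hd ev hev p x

end

set_option maxHeartbeats 1000000 in
theorem result' (R A : Type u) [CommRing R]
    [CommRing A] [Algebra R A] [Algebra ℚ R]
    (d : ∀ p : ℕ, ↥(⋀[A]^p (Ω[A⁄R])) →ₗ[R] ↥(⋀[A]^(p + 1) (Ω[A⁄R])))
    (hd : DeRham.IsDiff (KaehlerDifferential.D R A) d)
    (d' : ∀ p : ℕ, ↥(⋀[A[X]]^p (Ω[A[X]⁄R])) →ₗ[R] ↥(⋀[A[X]]^(p + 1) (Ω[A[X]⁄R])))
    (hd' : DeRham.IsDiff (KaehlerDifferential.D R A[X]) d')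
    (ψ : ∀ p : ℕ, ↥(⋀[A]^p (Ω[A⁄R])) →+ ↥(⋀[A[X]]^p (Ω[A[X]⁄R])))
    (hψ : DeRham.IsCxMap (KaehlerDifferential.D R A) (KaehlerDifferential.D R A[X]) (algebraMap A A[X]) ψ)
    (hcomm : ∀ (p : ℕ) (x : ↥(⋀[A]^p (Ω[A⁄R]))), ψ (p + 1) (d p x) = d' p (ψ p x)) (i : ℕ) :
    (∀ y ∈ DeRham.cocycles d' i, ∃ x ∈ DeRham.cocycles d i, y - ψ i x ∈ DeRham.coboundaries d' i) ∧
      (∀ x ∈ DeRham.cocycles d i, ψ i x ∈ DeRham.coboundaries d' i → x ∈ DeRham.coboundaries d i) := by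
  classical
  obtain ⟨ev, hev, hevd⟩ := exists_ev R A
  -- ev ∘ ψ = id
  have hret : ∀ (p : ℕ) (x : ↥(⋀[A]^p (Ω[A⁄R]))), ev p (ψ p x) = x := by
    intro p x
    have : (ev p).comp (ψ p) = AddMonoidHom.id _ := by
      refine Groth.Agent.Lib.H79DeRhamGen.addMonoidHom_ext (KaehlerDifferential.D R A)
        (KaehlerDifferential.span_range_derivation R A) p _ _ fun b₀ b => ?_
      rw [AddMonoidHom.comp_apply, hψ p b₀ b, hev p, AddMonoidHom.id_apply]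
      simp only [ev0_C]
    exact DFunLike.congr_fun this x
  have hQ : ∀ n : ℤ, n ≠ 0 → IsUnit ((n : ℤ) : R) := by
    intro n hn
    have h1 : IsUnit ((n : ℤ) : ℚ) := (isUnit_iff_ne_zero).mpr (by exact_mod_cast hn)
    have := h1.map (algebraMap ℚ R)
    rwa [map_intCast] at this
  refine ⟨fun y hy => ?_, fun x hx hψx => ?_⟩
  · obtain ⟨F, z, hzS, hzF, hyz⟩ := exists_decomp R A i y
    have hy0 : d' i y = 0 := hy
    have hyz' : y = ∑ N ∈ insert 0 F, z N := by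
      by_cases h0 : (0 : ℤ) ∈ F
      · rw [Finset.insert_eq_of_mem h0]; exact hyz
      · rw [Finset.sum_insert h0, hzF 0 h0, zero_add]; exact hyz
    obtain ⟨hcl, w, hw0, hwq, hwsum⟩ := engine R A[X] (eul R A) hQ i (insert 0 F)
      (fun N => ((z N : ↥(⋀[A[X]]^i (Ω[A[X]⁄R]))) : ExteriorAlgebra A[X] (Ω[A[X]⁄R])))
      (fun N _ => (z N).2) (fun N _ => S_eigen R A i N (z N) (hzS N)) (by
        have h1 : (∑ N ∈ insert 0 F, ((z N : ↥(⋀[A[X]]^i (Ω[A[X]⁄R]))) :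
            ExteriorAlgebra A[X] (Ω[A[X]⁄R]))) = ((y : ↥(⋀[A[X]]^i (Ω[A[X]⁄R]))) :
            ExteriorAlgebra A[X] (Ω[A[X]⁄R])) := by
          rw [hyz', Submodule.coe_sum]
        rw [h1, ← coe_d R A[X] d' hd'.1 i y, hy0]
        rfl)
    obtain ⟨x, hx⟩ := S_zero_range R A i (ψ i) (hψ i) (z 0) (hzS 0)
    have hdz0 : d' i (z 0) = 0 := by
      apply Subtype.ext
      rw [coe_d R A[X] d' hd'.1 i (z 0)]
      exact hcl 0 (Finset.mem_insert_self 0 F)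
    have hxcl : d i x = 0 := by
      rw [← hret (i + 1) (d i x), hcomm, hx, hdz0, map_zero]
    refine ⟨x, hxcl, ?_⟩
    have hdiff : ((y - ψ i x : ↥(⋀[A[X]]^i (Ω[A[X]⁄R]))) : ExteriorAlgebra A[X] (Ω[A[X]⁄R])) =
        dFun R A[X] w := by
      rw [← hwsum, hx, hyz', Finset.sum_erase_eq_sub (Finset.mem_insert_self 0 F),
        Submodule.coe_sub, Submodule.coe_sum]
    rcases Nat.eq_zero_or_pos i with hi0 | hipos
    · subst hi0
      have : y - ψ 0 x = 0 := by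
        apply Subtype.ext
        rw [hdiff, hw0 rfl, dFun_zero]
        rfl
      rw [this]
      exact zero_mem _
    · obtain ⟨q, rfl⟩ : ∃ q, i = q + 1 := ⟨i - 1, by omega⟩
      refine ⟨⟨w, hwq q rfl⟩, ?_⟩
      apply Subtype.ext
      rw [coe_d R A[X] d' hd'.1 q, hdiff]
  · have hx0 : d i x = 0 := hx
    rcases Nat.eq_zero_or_pos i with hi0 | hipos
    · subst hi0
      have h1 : ψ 0 x = 0 := hψx
      have : x = 0 := by rw [← hret 0 x, h1, map_zero]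
      rw [this]
      exact zero_mem _
    · obtain ⟨q, rfl⟩ : ∃ q, i = q + 1 := ⟨i - 1, by omega⟩
      obtain ⟨v, hv⟩ := hψx
      refine ⟨ev q v, ?_⟩
      rw [← hevd d hd d' hd' q v, hv, hret]


open exteriorPower Polynomial in
/-- For a commutative ℚ-algebra R, an R-algebra A, de Rham differentials d on ⋀^• Ω_{A/R} and d' on ⋀^•
Ω_{A[t]/R}, and the map of de Rham complexes ψ induced by the inclusion A → A[t] (pinned by its
values on the elements b₀ db₁ ∧ … ∧ db_p and commuting with d, d'), the map ψ is a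
quasi-isomorphism: in every degree i, each d'-closed form on A[t] is the sum of ψ_i of a d-closed
form on A and a d'-exact form, and a d-closed form on A whose image under ψ_i is d'-exact is d-exact
(in degree 0, exact means zero). -/
theorem result (R A : Type u) [CommRing R]
    [CommRing A] [Algebra R A] [Algebra ℚ R]
    (d : ∀ p : ℕ, ↥(⋀[A]^p (Ω[A⁄R])) →ₗ[R] ↥(⋀[A]^(p + 1) (Ω[A⁄R])))
    (hd : DeRham.IsDiff (KaehlerDifferential.D R A) d)
    (d' : ∀ p : ℕ, ↥(⋀[A[X]]^p (Ω[A[X]⁄R])) →ₗ[R] ↥(⋀[A[X]]^(p + 1) (Ω[A[X]⁄R])))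
    (hd' : DeRham.IsDiff (KaehlerDifferential.D R A[X]) d')
    (ψ : ∀ p : ℕ, ↥(⋀[A]^p (Ω[A⁄R])) →+ ↥(⋀[A[X]]^p (Ω[A[X]⁄R])))
    (hψ : DeRham.IsCxMap (KaehlerDifferential.D R A) (KaehlerDifferential.D R A[X]) (algebraMap A A[X]) ψ)
    (hcomm : ∀ (p : ℕ) (x : ↥(⋀[A]^p (Ω[A⁄R]))), ψ (p + 1) (d p x) = d' p (ψ p x)) (i : ℕ) :
    (∀ y ∈ DeRham.cocycles d' i, ∃ x ∈ DeRham.cocycles d i, y - ψ i x ∈ DeRham.coboundaries d' i) ∧
      (∀ x ∈ DeRham.cocycles d i, ψ i x ∈ DeRham.coboundaries d' i → x ∈ DeRham.coboundaries d i) := by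
  exact result' R A d hd d' hd' ψ hψ hcomm i

end Groth.Agent.S15536
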