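import Groth.Statements.S1554
import Groth.Agent.S1553
import Groth.Agent.S0402

set_option autoImplicit false
universe u
open CategoryTheory CategoryTheory.Limits AlgebraicGeometry
open Variety

namespace Groth.Agent.S1554

/-- Let f : X → Y be locally of finite type, x a point with image y such that the local ring of Y at y
is Noetherian of dimension at most one, and d a natural number such that the local fibre dimension
is d at the generic points of the irreducible components of X passing through x. Then the local
dimension at x of the fibre over y equals d. -/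
theorem result {X Y : Scheme.{u}} (f : X ⟶ Y) [LocallyOfFiniteType f]
    (x : X) [IsNoetherianRing (Y.presheaf.stalk (f.base x))] (hdimY : ringKrullDim (Y.presheaf.stalk (f.base x)) ≤ 1) (d : ℕ)
    (hgen : ∀ Z ∈ irreducibleComponents (X : Type u), x ∈ Z → ∀ η : X, IsGenericPoint η Z → FlatMor.fibreDimAt f η = d) :
    FlatMor.fibreDimAt f x = d := by
  -- notation
  obtain ⟨n, hn⟩ := Groth.Agent.Lib.GenericFibrePoint.exists_nat_trdeg_residueField f x
  have hFD := Groth.Agent.Lib.FibreDimAtFormula.fibreDimAt_eq_add f x n hn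
  letI := Groth.Agent.Lib.H30FibRes.fiberOver f (f x)
  haveI := Groth.Agent.Lib.H30FibRes.lft_fiber f (f x)
  haveI : IsLocallyNoetherian (f.fiber (f x)) :=
    Groth.Agent.Lib.H30DimField.isLocallyNoetherian (Y.residueField (f x)) (f.fiber (f x))
  have hδ := Groth.Agent.Lib.H30DimField.isDimFun (Y.residueField (f x)) (f.fiber (f x))
  obtain ⟨ξ', -, hξx', hdim⟩ := Groth.Agent.Lib.H30DimField.stalk_dim_exists hδ (f.asFiber x)
  have htdx : Groth.Agent.Lib.H30DimField.td (Y.residueField (f x)) (f.fiber (f x)) (f.asFiber x)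
      = (n : ℤ) :=
    (Groth.Agent.Lib.H30DimField.trdeg_eq_iff _ _ _ n).mp
      ((Groth.Agent.Lib.H30FibRes.trdeg_asFiber_eq f x).trans hn)
  obtain ⟨m, hm⟩ := Groth.Agent.Lib.GenericFibrePoint.exists_nat_trdeg_residueField f
    (f.fiberι (f x) ξ')
  have htdξ : Groth.Agent.Lib.H30DimField.td (Y.residueField (f x)) (f.fiber (f x)) ξ' = (m : ℤ) :=
    (Groth.Agent.Lib.H30DimField.trdeg_eq_iff _ _ _ m).mp
      ((Groth.Agent.Lib.H30FibRes.trdeg_fiber_eq f (f x) ξ').trans hm)
  have hmono := Groth.Agent.S6462.delta_le_of_specializes hδ hξx'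
  rw [htdx, htdξ] at hmono hdim
  have hnm : n ≤ m := by exact_mod_cast hmono
  -- the point `ξ` of `X`
  have hfξ : f (f.fiberι (f x) ξ') = f x := by
    have : f.fiberι (f x) ξ' ∈ Set.range (f.fiberι (f x)) := Set.mem_range_self ξ'
    rw [Scheme.Hom.range_fiberι] at this
    exact this
  have hξx : f.fiberι (f x) ξ' ⤳ x := by
    have := hξx'.map (f.fiberι (f x)).continuous
    rwa [f.fiberι_asFiber] at this
  -- the value of the fibre dimension
  have hval : FlatMor.fibreDimAt f x = (m : WithBot ℕ∞) := by
    rw [hFD, hdim]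
    have : ((m : ℤ) - (n : ℤ)).toNat + n = m := by omega
    exact_mod_cast this
  -- `m ≤ d`
  have hmd : m ≤ d := by
    haveI : IsNoetherianRing (Y.presheaf.stalk (f (f.fiberι (f x) ξ'))) := by
      rw [hfξ]; infer_instance
    have hE : ∀ ξ : X, closure {ξ} ∈ irreducibleComponents X → ξ ⤳ f.fiberι (f x) ξ' →
        letI := (f.residueFieldMap ξ).hom.toAlgebra
        Algebra.trdeg (Y.residueField (f ξ)) (X.residueField ξ) = (d : Cardinal.{u}) := by
      intro ξ hirr hspec
      exact Groth.Agent.S1553.trdeg_eq_of_fibreDimAt f ξ hirr d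
        (hgen (closure {ξ}) hirr (hspec.trans hξx).mem_closure ξ isGenericPoint_closure)
    obtain ⟨a, b, ha, hb, hineq⟩ := Groth.Agent.Lib.DimIneqLocal.stalk_ineq_local f
      Groth.Agent.Lib.DimFormulaScheme.dimIneq (f.fiberι (f x) ξ') (d : Cardinal.{u})
      (fun ξ hirr hspec => le_of_eq (hE ξ hirr hspec))
    rw [hm] at hineq
    have h4 : a + m ≤ b + d := by exact_mod_cast hineq
    rw [hfξ] at hb
    rw [hb] at hdimY
    have hb1 : b ≤ 1 := by exact_mod_cast hdimY
    rcases Nat.eq_zero_or_pos a with h0 | hpos
    · -- `ξ` is a generic point of `X`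
      rw [h0] at ha
      have hirr := Groth.Agent.S1553.irreducibleComponent_of_stalk_dim_zero _ ha
      have := hE _ hirr specializes_rfl
      rw [hm] at this
      have : m = d := by exact_mod_cast this
      omega
    · omega
  -- `d ≤ m` by upper semicontinuity
  have hdm : d ≤ m := by
    have hZ := irreducibleComponent_mem_irreducibleComponents x
    obtain ⟨η, hη⟩ := QuasiSober.sober (isIrreducible_irreducibleComponent (x := x))
      isClosed_irreducibleComponent
    have hηx : η ⤳ x := hη.specializes mem_irreducibleComponent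
    have hopen := Groth.Agent.S0402.result f m
    have hxmem : x ∈ {x : X | FlatMor.fibreDimAt f x ≤ m} := le_of_eq hval
    have hηmem := hηx.mem_open hopen hxmem
    change FlatMor.fibreDimAt f η ≤ m at hηmem
    rw [hgen _ hZ mem_irreducibleComponent η hη] at hηmem
    exact_mod_cast hηmem
  rw [hval]
  have : m = d := le_antisymm hmd hdm
  rw [this]

end Groth.Agent.S1554
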