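-- S15544: helper5: proper birational onto normal => connected fibres (Zariski), from S0002+S0058
import Groth.Statements.S15544
import Groth.Agent.Lib.ConnFib5F
import Groth.Agent.S0002
import Groth.Agent.S0058

set_option autoImplicit false
open CategoryTheory AlgebraicGeometry
universe u
open Coherent

namespace Groth.Agent.S15544

/-- Let X and Y be integral schemes, Y locally Noetherian with all local rings integrally closed, and f
: X ⟶ Y a proper birational morphism (the generic point of X maps to that of Y and the stalk map
there is an isomorphism). Then every fibre of f is connected and nonempty. (The published statement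
takes X and Y Noetherian; over a locally Noetherian Y this is the same assertion fibre by fibre.) -/
theorem result {X Y : Scheme.{u}} [IsIntegral X]
    [IsIntegral Y] [IsLocallyNoetherian Y] (hY : Pi1.IsNormalScheme Y) (f : X ⟶ Y) [IsProper f]
    (hgen : f.base (genericPoint X) = genericPoint Y) (hbir : IsIso (f.stalkMap (genericPoint X)))
    (y : Y) : ConnectedSpace ↥(f.fiber y) := by
  exact Groth.Agent.Lib.ConnFib5.connectedSpace_fiber_of_birational
    (fun A _ _ X _ _ M hM n => Groth.Agent.S0002.result A X M hM n)
    (fun A _ _ I X _ _ M hM p => Groth.Agent.S0058.result A I X M hM p) hY f hgen hbir y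

end Groth.Agent.S15544
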