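import Groth.Statements.S15546
import Mathlib

set_option autoImplicit false
open scoped TensorProduct
universe u
open Unram

namespace Groth.Agent.S15546

open Polynomial in
/-- Let E be a finite extension of a field k which is not separable over k, and K an algebraic closure
of k. Then E ⊗_k K has a nonzero nilpotent element. -/
theorem result (k E K : Type u) [Field k] [Field E]
    [Algebra k E] [FiniteDimensional k E] [Field K] [Algebra k K] [IsAlgClosure k K]
    (h : ¬ Algebra.IsSeparable k E) : ∃ x : E ⊗[k] K, x ≠ 0 ∧ IsNilpotent x := by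
  classical
  have : IsAlgClosed K := IsAlgClosure.isAlgClosed k
  rw [Algebra.isSeparable_def] at h
  push Not at h
  obtain ⟨α, hα⟩ := h
  have hint : IsIntegral k α := Algebra.IsIntegral.isIntegral α
  have hirr : Irreducible (minpoly k α) := minpoly.irreducible hint
  have hder : derivative (minpoly k α) = 0 := by
    by_contra hne
    exact hα ((Polynomial.separable_iff_derivative_ne_zero hirr).mpr hne)
  obtain ⟨fK, hfK⟩ : ∃ fK : K[X], fK = (minpoly k α).map (algebraMap k K) := ⟨_, rfl⟩
  have hdeg : fK.degree ≠ 0 := by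
    rw [hfK, Polynomial.degree_map]
    exact (minpoly.degree_pos hint).ne'
  obtain ⟨β, hβ⟩ := IsAlgClosed.exists_root fK hdeg
  obtain ⟨g, hg⟩ := Polynomial.dvd_iff_isRoot.mpr hβ
  have hderK : derivative fK = 0 := by
    rw [hfK, Polynomial.derivative_map, hder, Polynomial.map_zero]
  have hg2 : (X - C β) ∣ g := by
    have := hderK
    rw [hg, derivative_mul, derivative_sub, derivative_X, derivative_C, sub_zero, one_mul] at this
    exact ⟨- derivative g, by linear_combination this⟩
  obtain ⟨h2, hh2⟩ := hg2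
  let incR : K →+* E ⊗[k] K := (Algebra.TensorProduct.includeRight : K →ₐ[k] E ⊗[k] K).toRingHom
  let incL : E →+* E ⊗[k] K := (Algebra.TensorProduct.includeLeft : E →ₐ[k] E ⊗[k] K).toRingHom
  have hinc : incR.comp (algebraMap k K) = incL.comp (algebraMap k E) := by
    ext c
    simp [incR, incL, Algebra.algebraMap_eq_smul_one]
  obtain ⟨a, ha⟩ : ∃ a : E ⊗[k] K, a = α ⊗ₜ[k] (1 : K) := ⟨_, rfl⟩
  have hfa : fK.eval₂ incR a = 0 := by
    rw [hfK, Polynomial.eval₂_map, hinc]
    have : a = incL α := by rw [ha]; rfl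
    rw [this, ← Polynomial.hom_eval₂, ← Polynomial.aeval_def, minpoly.aeval, map_zero]
  obtain ⟨z, hz⟩ : ∃ z : E ⊗[k] K, z = g.eval₂ incR a := ⟨_, rfl⟩
  have hzz : z * z = 0 := by
    have h1 : z = (a - incR β) * h2.eval₂ incR a := by
      rw [hz, hh2, Polynomial.eval₂_mul, Polynomial.eval₂_sub, Polynomial.eval₂_X,
        Polynomial.eval₂_C]
    have h3 : (a - incR β) * z = 0 := by
      rw [← hfa, hg, Polynomial.eval₂_mul, Polynomial.eval₂_sub, Polynomial.eval₂_X,
        Polynomial.eval₂_C, hz]
    calc z * z = ((a - incR β) * h2.eval₂ incR a) * z := by rw [← h1]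
      _ = h2.eval₂ incR a * ((a - incR β) * z) := by ring
      _ = 0 := by rw [h3, mul_zero]
  have hz0 : z ≠ 0 := by
    obtain ⟨d, hd⟩ : ∃ d : ℕ, d = (minpoly k α).natDegree := ⟨_, rfl⟩
    have hdpos : 0 < d := hd ▸ minpoly.natDegree_pos hint
    have hfK0 : fK ≠ 0 := by
      rw [hfK]
      exact (Polynomial.map_ne_zero_iff (algebraMap k K).injective).mpr (minpoly.ne_zero hint)
    have hg0 : g ≠ 0 := by
      rintro rfl
      exact hfK0 (by rw [hg, mul_zero])
    have hgdeg : g.natDegree + 1 = d := by
      have h1 : fK.natDegree = d := by rw [hfK, Polynomial.natDegree_map, hd]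
      rw [← h1, hg, Polynomial.natDegree_mul (Polynomial.X_sub_C_ne_zero β) hg0,
        Polynomial.natDegree_X_sub_C, add_comm]
    have hli : LinearIndependent k (fun i : Fin d => α ^ (i : ℕ)) := by
      subst hd
      exact linearIndependent_pow α
    let ι : (Fin d → k) →ₗ[k] E := Fintype.linearCombination k (fun i : Fin d => α ^ (i : ℕ))
    have hι : LinearMap.ker ι = ⊥ := by
      rw [LinearMap.ker_eq_bot']
      intro c hc
      rw [Fintype.linearIndependent_iff] at hli
      funext i
      exact hli c (by simpa [ι, Fintype.linearCombination_apply] using hc) i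
    obtain ⟨ρ, hρ⟩ := LinearMap.exists_leftInverse_of_injective ι hι
    let ψ : E →ₗ[k] k := (LinearMap.proj (⟨d - 1, by omega⟩ : Fin d)) ∘ₗ ρ
    have hψ : ∀ i : Fin d, ψ (α ^ (i : ℕ)) = if (i : ℕ) = d - 1 then 1 else 0 := by
      intro i
      have h1 : α ^ (i : ℕ) = ι (Pi.single i 1) := by
        simp [ι, Fintype.linearCombination_apply]
      have h2 := LinearMap.congr_fun hρ (Pi.single i 1)
      simp only [LinearMap.comp_apply, LinearMap.id_apply] at h2
      rw [h1]
      simp only [ψ, LinearMap.comp_apply, h2, LinearMap.proj_apply, Pi.single_apply]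
      simp [Fin.ext_iff, eq_comm]
    let Ψ : E ⊗[k] K →ₗ[k] K := (TensorProduct.lid k K).toLinearMap ∘ₗ (ψ.rTensor K)
    have hΨ : ∀ (e : E) (c : K), Ψ (e ⊗ₜ c) = ψ e • c := by
      intro e c
      simp [Ψ]
    intro hzero
    have hΨz : Ψ z = g.coeff (d - 1) := by
      rw [hz, Polynomial.eval₂_eq_sum_range, hgdeg, Finset.sum_range, map_sum]
      have hterm : ∀ i : Fin d, Ψ (incR (g.coeff i) * a ^ (i : ℕ)) =
          if (i : ℕ) = d - 1 then g.coeff (d - 1) else 0 := by
        intro i
        have : incR (g.coeff i) * a ^ (i : ℕ) = (α ^ (i : ℕ)) ⊗ₜ[k] (g.coeff i) := by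
          rw [ha]
          simp [incR, Algebra.TensorProduct.tmul_pow]
        rw [this, hΨ, hψ]
        split_ifs with hi
        · rw [one_smul, hi]
        · rw [zero_smul]
      rw [Finset.sum_congr rfl (fun i _ => hterm i)]
      rw [Finset.sum_eq_single (⟨d - 1, by omega⟩ : Fin d)]
      · simp
      · intro b _ hb
        rw [if_neg]
        intro hb'
        exact hb (Fin.ext hb')
      · intro hnot
        exact absurd (Finset.mem_univ _) hnot
    rw [hzero, map_zero] at hΨz
    have hlead : g.coeff (d - 1) = g.leadingCoeff := by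
      rw [Polynomial.leadingCoeff, ← hgdeg, Nat.add_sub_cancel]
    rw [hlead] at hΨz
    exact hg0 (Polynomial.leadingCoeff_eq_zero.mp hΨz.symm)
  exact ⟨z, hz0, 2, by rw [pow_two, hzz]⟩

end Groth.Agent.S15546
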