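import Groth.Statements.S15547
import Mathlib

set_option autoImplicit false
open CategoryTheory AlgebraicGeometry TopologicalSpace
universe u
open Coherent

namespace Groth.Agent.S15547

section Aux
open IsLocalRing Opposite

section Ring

variable {A B L : Type*} [CommRing A] [CommRing B] [CommRing L] [Algebra A B] [Algebra B L]
  (p : Ideal A) [p.IsPrime]

/-- primes of a localization are determined by their contractions -/
theorem eq_of_comap_eq (M : Submonoid B) [IsLocalization M L] (I I' : Ideal L)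
    (h : I.comap (algebraMap B L) = I'.comap (algebraMap B L)) : I = I' := by
  calc I = (I.comap (algebraMap B L)).map (algebraMap B L) := (IsLocalization.map_comap M L I).symm
    _ = (I'.comap (algebraMap B L)).map (algebraMap B L) := by rw [h]
    _ = I' := IsLocalization.map_comap M L I'

theorem comap_comap_le (hL : IsLocalization (Submonoid.map (algebraMap A B) p.primeCompl) L)
    (N : Ideal L) (hN : N ≠ ⊤) :
    (N.comap (algebraMap B L)).comap (algebraMap A B) ≤ p := by
  intro a ha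
  by_contra hap
  apply hN
  have hu : IsUnit (algebraMap B L (algebraMap A B a)) :=
    IsLocalization.map_units L (⟨algebraMap A B a, a, hap, rfl⟩ :
      Submonoid.map (algebraMap A B) p.primeCompl)
  exact Ideal.eq_top_of_isUnit_mem _ ha hu

theorem isMaximal_iff [Algebra.IsIntegral A B]
    (hL : IsLocalization (Submonoid.map (algebraMap A B) p.primeCompl) L)
    (I : Ideal L) [hI : I.IsPrime] :
    I.IsMaximal ↔ (I.comap (algebraMap B L)).comap (algebraMap A B) = p := by
  set M := Submonoid.map (algebraMap A B) p.primeCompl with hM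
  constructor
  · intro hmax
    have hle := comap_comap_le p hL I hI.ne_top
    obtain ⟨Q, hQge, hQprime, hQp⟩ := Ideal.exists_ideal_over_prime_of_isIntegral_of_isPrime p
      (I.comap (algebraMap B L)) hle
    have hdisj : Disjoint (M : Set B) (Q : Set B) := by
      rw [Set.disjoint_left]
      rintro _ ⟨a, ha, rfl⟩ haQ
      exact ha (hQp ▸ (show a ∈ Q.comap (algebraMap A B) from haQ))
    have hQ' : (Q.map (algebraMap B L)).IsPrime :=
      IsLocalization.isPrime_of_isPrime_disjoint M L Q hQprime hdisj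
    have hcm : (Q.map (algebraMap B L)).comap (algebraMap B L) = Q :=
      IsLocalization.comap_map_of_isPrime_disjoint M L hQprime hdisj
    have hIle : I ≤ Q.map (algebraMap B L) := by
      rw [← IsLocalization.map_comap M L I]
      exact Ideal.map_mono hQge
    have hIeq : I = Q.map (algebraMap B L) := hmax.eq_of_le hQ'.ne_top hIle
    rw [hIeq, hcm, hQp]
  · intro hp
    obtain ⟨N, hNmax, hIN⟩ := Ideal.exists_le_maximal I hI.ne_top
    haveI := hNmax.isPrime
    have h1 : (N.comap (algebraMap B L)).comap (algebraMap A B) ≤ p :=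
      comap_comap_le p hL N hNmax.ne_top
    have h2 : I.comap (algebraMap B L) ≤ N.comap (algebraMap B L) := Ideal.comap_mono hIN
    have h3 : I.comap (algebraMap B L) = N.comap (algebraMap B L) := by
      by_contra hne
      have hlt : I.comap (algebraMap B L) < N.comap (algebraMap B L) := lt_of_le_of_ne h2 hne
      have := Ideal.IsIntegral.comap_lt_comap (R := A) hlt
      rw [hp] at this
      exact absurd h1 (not_le_of_gt this)
    rw [eq_of_comap_eq M I N h3]
    exact hNmax

end Ring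

section Sch

/-- a point of `Spec R` from a prime ideal -/
noncomputable def mkPt (R : CommRingCat.{u}) (q : Ideal R) [q.IsPrime] : ↥(Spec R) :=
  (⟨q, inferInstance⟩ : PrimeSpectrum R)

theorem mkPt_asIdeal (R : CommRingCat.{u}) (q : Ideal R) [q.IsPrime] :
    PrimeSpectrum.asIdeal (mkPt R q) = q := rfl

variable {Z X : Scheme.{u}} (g : Z ⟶ X)

/-- membership in a basic open of an affine open versus the prime ideal of the point. -/
theorem mem_basicOpen_iff {V : X.Opens} (hV : IsAffineOpen V) (x : X) (hxV : x ∈ V) (a : Γ(X, V)) :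
    x ∈ X.basicOpen a ↔ a ∉ (hV.primeIdealOf ⟨x, hxV⟩).asIdeal := by
  letI := TopCat.Presheaf.algebra_section_stalk X.presheaf ⟨x, hxV⟩
  haveI : IsLocalization.AtPrime (X.presheaf.stalk x) (hV.primeIdealOf ⟨x, hxV⟩).asIdeal :=
    hV.isLocalization_stalk ⟨x, hxV⟩
  rw [Scheme.mem_basicOpen X a x hxV]
  exact IsLocalization.AtPrime.isUnit_to_map_iff (X.presheaf.stalk x)
    (hV.primeIdealOf ⟨x, hxV⟩).asIdeal a


/-- restriction of sections of `O_Z` over preimages -/
noncomputable abbrev res {W W' : X.Opens} (h : W' ≤ W) : Γ(Z, g ⁻¹ᵁ W) →+* Γ(Z, g ⁻¹ᵁ W') :=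
  (Z.presheaf.map (homOfLE (g.preimage_mono h)).op).hom

/-- the germ at `x` of a section of `g_* O_Z` -/
noncomputable abbrev gm (x : X) (W : X.Opens) (hx : x ∈ W) :
    Γ(Z, g ⁻¹ᵁ W) →+* (g.base _* Z.presheaf).stalk x :=
  ((g.base _* Z.presheaf).germ W x hx).hom

theorem gm_res (x : X) {W W' : X.Opens} (h : W' ≤ W) (hx : x ∈ W') (s : Γ(Z, g ⁻¹ᵁ W)) :
    gm g x W' hx (res g h s) = gm g x W (h hx) s :=
  (g.base _* Z.presheaf).germ_res_apply (homOfLE h) x hx s

theorem isLocalization_stalk_pushforward [IsAffineHom g] {V : X.Opens} (hV : IsAffineOpen V)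
    (x : X) (hxV : x ∈ V) :
    letI : Algebra Γ(Z, g ⁻¹ᵁ V) ((g.base _* Z.presheaf).stalk x) := (gm g x V hxV).toAlgebra
    IsLocalization (Submonoid.map (g.app V).hom (hV.primeIdealOf ⟨x, hxV⟩).asIdeal.primeCompl)
      ((g.base _* Z.presheaf).stalk x) := by
  letI : Algebra Γ(Z, g ⁻¹ᵁ V) ((g.base _* Z.presheaf).stalk x) := (gm g x V hxV).toAlgebra
  have hU : IsAffineOpen (g ⁻¹ᵁ V) := hV.preimage g
  -- localization on basic opens
  have hloc : ∀ a : Γ(X, V), @IsLocalization.Away _ _ ((g.app V).hom a)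
      Γ(Z, g ⁻¹ᵁ X.basicOpen a) _ (res g (X.basicOpen_le a)).toAlgebra := fun a =>
    IsAffineOpen.isLocalization_of_eq_basicOpen hU _ _ (Scheme.preimage_basicOpen g a)
  refine ⟨⟨?_, ?_, ?_⟩⟩
  · rintro ⟨_, a, ha, rfl⟩
    have hxa : x ∈ X.basicOpen a := (mem_basicOpen_iff hV x hxV a).mpr ha
    letI := (res g (X.basicOpen_le a)).toAlgebra
    haveI := hloc a
    have hu : IsUnit (res g (X.basicOpen_le a) ((g.app V).hom a)) :=
      IsLocalization.Away.algebraMap_isUnit ((g.app V).hom a)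
    have := hu.map (gm g x (X.basicOpen a) hxa)
    rw [gm_res] at this
    exact this
  · intro ξ
    obtain ⟨W, hxW, s, rfl⟩ := (g.base _* Z.presheaf).exists_germ_eq ξ
    obtain ⟨a, haW, hxa⟩ := hV.exists_basicOpen_le ⟨x, hxW⟩ hxV
    letI := (res g (X.basicOpen_le a)).toAlgebra
    haveI := hloc a
    obtain ⟨⟨b, ⟨_, n, rfl⟩⟩, hb⟩ := IsLocalization.surj (Submonoid.powers ((g.app V).hom a))
      (res g haW s)
    have ha : a ∉ (hV.primeIdealOf ⟨x, hxV⟩).asIdeal := (mem_basicOpen_iff hV x hxV a).mp hxa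
    refine ⟨⟨b, ⟨(g.app V).hom (a ^ n), a ^ n, ?_, rfl⟩⟩, ?_⟩
    · exact fun h => ha (Ideal.IsPrime.mem_of_pow_mem inferInstance n h)
    · have h1 := congrArg (gm g x (X.basicOpen a) hxa) hb
      rw [map_mul] at h1
      change gm g x (X.basicOpen a) hxa (res g haW s) *
        gm g x (X.basicOpen a) hxa (res g (X.basicOpen_le a) (((g.app V).hom a) ^ n)) =
        gm g x (X.basicOpen a) hxa (res g (X.basicOpen_le a) b) at h1
      rw [gm_res, gm_res, gm_res] at h1
      change gm g x W hxW s * gm g x V hxV ((g.app V).hom (a ^ n)) = gm g x V hxV b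
      rw [map_pow]
      exact h1
  · intro b1 b2 hb
    change gm g x V hxV b1 = gm g x V hxV b2 at hb
    obtain ⟨W, hxW, iU, iV, hW⟩ := (g.base _* Z.presheaf).germ_eq x hxV hxV b1 b2 hb
    obtain ⟨a, haW, hxa⟩ := hV.exists_basicOpen_le ⟨x, hxW⟩ hxV
    letI := (res g (X.basicOpen_le a)).toAlgebra
    haveI := hloc a
    have ha : a ∉ (hV.primeIdealOf ⟨x, hxV⟩).asIdeal := (mem_basicOpen_iff hV x hxV a).mp hxa
    have hres : res g (X.basicOpen_le a) b1 = res g (X.basicOpen_le a) b2 := by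
      have h1 : res g (X.basicOpen_le a) b1 = res g haW (res g iU.le b1) := by
        simp only [res, ← CommRingCat.comp_apply, ← Functor.map_comp]
        rfl
      have h2 : res g (X.basicOpen_le a) b2 = res g haW (res g iV.le b2) := by
        simp only [res, ← CommRingCat.comp_apply, ← Functor.map_comp]
        rfl
      rw [h1, h2]
      congr 1
    obtain ⟨⟨_, n, rfl⟩, hc⟩ := (IsLocalization.eq_iff_exists (Submonoid.powers ((g.app V).hom a))
      Γ(Z, g ⁻¹ᵁ X.basicOpen a)).mp hres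
    refine ⟨⟨(g.app V).hom (a ^ n), a ^ n, ?_, rfl⟩, ?_⟩
    · exact fun h => ha (Ideal.IsPrime.mem_of_pow_mem inferInstance n h)
    · show (g.app V).hom (a ^ n) * b1 = (g.app V).hom (a ^ n) * b2
      rw [map_pow]; exact hc


/-- the comparison map of the statement -/
noncomputable def psi (x : X) (z : Z) (hz : g.base z = x) :
    (g.base _* Z.presheaf).stalk x ⟶ Z.presheaf.stalk z :=
  ((g.base _* Z.presheaf).stalkCongr (Inseparable.of_eq hz)).inv ≫
    TopCat.Presheaf.stalkPushforward CommRingCat g.base Z.presheaf z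

theorem germ_psi (x : X) (z : Z) (hz : g.base z = x) (W : X.Opens) (hxW : x ∈ W)
    (s : Γ(Z, g ⁻¹ᵁ W)) :
    (psi g x z hz).hom (((g.base _* Z.presheaf).germ W x hxW).hom s) =
      (Z.presheaf.germ (g ⁻¹ᵁ W) z (show g.base z ∈ W from hz ▸ hxW)).hom s := by
  subst hz
  have h1 : (g.base _* Z.presheaf).germ W (g.base z) hxW ≫ psi g (g.base z) z rfl =
      Z.presheaf.germ (g ⁻¹ᵁ W) z hxW := by
    simp [psi]
  exact congrArg (fun f => f.hom s) h1

theorem main [IsFinite g] (x : X) :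
    Set.BijOn (fun z : {z : Z // g.base z = x} =>
        Ideal.comap (psi g x z.1 z.2).hom (IsLocalRing.maximalIdeal (Z.presheaf.stalk z.1)))
      Set.univ {I : Ideal ((g.base _* Z.presheaf).stalk x) | I.IsMaximal} := by
  obtain ⟨_, ⟨V, hV, rfl⟩, hxV, -⟩ :=
    X.isBasis_affineOpens.exists_subset_of_mem_open (Set.mem_univ x) isOpen_univ
  have hU : IsAffineOpen (g ⁻¹ᵁ V) := hV.preimage g
  letI algAB : Algebra Γ(X, V) Γ(Z, g ⁻¹ᵁ V) := (g.app V).hom.toAlgebra
  letI algBL : Algebra Γ(Z, g ⁻¹ᵁ V) ((g.base _* Z.presheaf).stalk x) := (gm g x V hxV).toAlgebra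
  have hL : IsLocalization (Submonoid.map (algebraMap Γ(X, V) Γ(Z, g ⁻¹ᵁ V))
      (hV.primeIdealOf ⟨x, hxV⟩).asIdeal.primeCompl) ((g.base _* Z.presheaf).stalk x) :=
    isLocalization_stalk_pushforward g hV x hxV
  haveI hint : Algebra.IsIntegral Γ(X, V) Γ(Z, g ⁻¹ᵁ V) :=
    ⟨(RingHom.Finite.to_isIntegral (g.finite_app V hV))⟩
  -- the contraction of `J z` to `B`
  have hJB : ∀ (z : Z) (hz : g.base z = x),
      (Ideal.comap (psi g x z hz).hom (IsLocalRing.maximalIdeal (Z.presheaf.stalk z))).comap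
        (algebraMap Γ(Z, g ⁻¹ᵁ V) ((g.base _* Z.presheaf).stalk x)) =
      (hU.primeIdealOf ⟨z, show g.base z ∈ V from hz ▸ hxV⟩).asIdeal := by
    intro z hz
    rw [hU.primeIdealOf_eq_map_closedPoint]
    ext b
    simp only [Ideal.mem_comap]
    change (psi g x z hz).hom (gm g x V hxV b) ∈ _ ↔ _
    rw [germ_psi]
    rfl
  -- the contraction to `A`
  have hJA : ∀ (z : Z) (hz : g.base z = x),
      (hU.primeIdealOf ⟨z, show g.base z ∈ V from hz ▸ hxV⟩).asIdeal.comap
        (algebraMap Γ(X, V) Γ(Z, g ⁻¹ᵁ V)) = (hV.primeIdealOf ⟨x, hxV⟩).asIdeal := by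
    intro z hz
    subst hz
    have := congr($(IsAffineOpen.comap_primeIdealOf_appLE (f := g) (x := z) V hV (g ⁻¹ᵁ V) hU
      le_rfl hxV).1)
    rw [← Scheme.Hom.app_eq_appLE] at this
    exact this
  refine ⟨?_, ?_, ?_⟩
  · rintro ⟨z, hz⟩ -
    haveI : (Ideal.comap (psi g x z hz).hom
        (IsLocalRing.maximalIdeal (Z.presheaf.stalk z))).IsPrime := Ideal.IsPrime.comap _
    show (Ideal.comap (psi g x z hz).hom (IsLocalRing.maximalIdeal (Z.presheaf.stalk z))).IsMaximal
    rw [isMaximal_iff (hV.primeIdealOf ⟨x, hxV⟩).asIdeal hL, hJB z hz, hJA z hz]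
  · rintro ⟨z, hz⟩ - ⟨z', hz'⟩ - h
    have h1 := congrArg (Ideal.comap (algebraMap Γ(Z, g ⁻¹ᵁ V) ((g.base _* Z.presheaf).stalk x))) h
    simp only at h1
    rw [hJB z hz, hJB z' hz'] at h1
    have h2 : hU.primeIdealOf ⟨z, show g.base z ∈ V from hz ▸ hxV⟩ =
        hU.primeIdealOf ⟨z', show g.base z' ∈ V from hz' ▸ hxV⟩ := PrimeSpectrum.ext h1
    have h3 := congrArg hU.fromSpec h2
    rw [hU.fromSpec_primeIdealOf, hU.fromSpec_primeIdealOf] at h3
    exact Subtype.ext h3
  · intro I hI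
    have hI : I.IsMaximal := hI
    haveI := hI.isPrime
    have hq : ((I.comap (algebraMap Γ(Z, g ⁻¹ᵁ V) ((g.base _* Z.presheaf).stalk x))).comap
        (algebraMap Γ(X, V) Γ(Z, g ⁻¹ᵁ V))) = (hV.primeIdealOf ⟨x, hxV⟩).asIdeal :=
      (isMaximal_iff (hV.primeIdealOf ⟨x, hxV⟩).asIdeal hL I).mp hI
    haveI : (I.comap (algebraMap Γ(Z, g ⁻¹ᵁ V) ((g.base _* Z.presheaf).stalk x))).IsPrime :=
      Ideal.IsPrime.comap _
    set q : ↥(Spec Γ(Z, g ⁻¹ᵁ V)) :=
      mkPt _ (I.comap (algebraMap Γ(Z, g ⁻¹ᵁ V) ((g.base _* Z.presheaf).stalk x)))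
      with hqdef
    obtain ⟨⟨z, hzU⟩, hzq⟩ : ∃ z : (g ⁻¹ᵁ V), hU.primeIdealOf z = q :=
      ⟨hU.isoSpec.inv q, by
        unfold IsAffineOpen.primeIdealOf
        rw [← Scheme.Hom.comp_apply, Iso.inv_hom_id]
        rfl⟩
    have hzx : g.base z = x := by
      have h1 := congr($(IsAffineOpen.comap_primeIdealOf_appLE (f := g) (x := z) V hV (g ⁻¹ᵁ V) hU
        le_rfl hzU).1)
      rw [← Scheme.Hom.app_eq_appLE, hzq] at h1
      have h2 : (hV.primeIdealOf ⟨g.base z, hzU⟩).asIdeal = (hV.primeIdealOf ⟨x, hxV⟩).asIdeal :=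
        h1.symm.trans hq
      have h3 : hV.primeIdealOf ⟨g.base z, hzU⟩ = hV.primeIdealOf ⟨x, hxV⟩ := PrimeSpectrum.ext h2
      have h4 := congrArg hV.fromSpec h3
      rw [hV.fromSpec_primeIdealOf, hV.fromSpec_primeIdealOf] at h4
      exact h4
    refine ⟨⟨z, hzx⟩, Set.mem_univ _, ?_⟩
    show Ideal.comap (psi g x z hzx).hom (IsLocalRing.maximalIdeal (Z.presheaf.stalk z)) = I
    apply eq_of_comap_eq (Submonoid.map (algebraMap Γ(X, V) Γ(Z, g ⁻¹ᵁ V))
      (hV.primeIdealOf ⟨x, hxV⟩).asIdeal.primeCompl)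
    rw [hJB z hzx]
    exact congrArg PrimeSpectrum.asIdeal hzq

end Sch

end Aux

/-- Let g : Z ⟶ X be a finite morphism of schemes (Z is the spectrum of the finite quasi-coherent
O_X-algebra C = g_*O_Z) and x a point of X. Then the points of Z over x correspond bijectively to
the maximal ideals of the stalk C_x = (g_*O_Z)_x: the map sending z with g(z) = x to the preimage of
the maximal ideal of O_{Z,z} under the canonical map (g_*O_Z)_x ⟶ O_{Z,z} is a bijection from the
fibre onto the set of maximal ideals. -/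
theorem result {Z X : Scheme.{u}} (g : Z ⟶ X)
    [IsFinite g] (x : X) :
    Set.BijOn (fun z : {z : Z // g.base z = x} =>
        Ideal.comap (((g.base _* Z.presheaf).stalkCongr (Inseparable.of_eq z.2)).inv ≫
            TopCat.Presheaf.stalkPushforward CommRingCat g.base Z.presheaf z.1).hom
          (IsLocalRing.maximalIdeal (Z.presheaf.stalk z.1)))
      Set.univ {I : Ideal ((g.base _* Z.presheaf).stalk x) | I.IsMaximal} := by
  exact main g x

end Groth.Agent.S15547
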