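import Groth.Statements.S15548
import Groth.Agent.Lib.TorNat
import Mathlib.RingTheory.Filtration
import Mathlib.LinearAlgebra.TensorProduct.Quotient

set_option autoImplicit false
universe u
open CategoryTheory
open CAlg

namespace Groth.Agent.S15548

open Groth.Agent.Lib.TorLES Groth.Agent.Lib.TorNat MonoidalCategory TensorProduct

section helpers

variable {R : Type u} [CommRing R]

/-- Artin–Rees in tensor form. -/
lemma artinRees_tensor [IsNoetherianRing R] (I : Ideal R) {F : Type u} [AddCommGroup F] [Module R F]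
    [Module.Finite R F] (K : Submodule R F) (n : ℕ) :
    ∃ m, n ≤ m ∧ ∀ (h : I ^ m ≤ I ^ n) (y : K ⊗[R] (R ⧸ I ^ m)),
      (K.subtype.rTensor (R ⧸ I ^ m)) y = 0 →
      (LinearMap.lTensor K (Submodule.factor h)) y = 0 := by
  obtain ⟨c, hc⟩ := Ideal.exists_pow_inf_eq_pow_smul I K
  refine ⟨n + c, Nat.le_add_right _ _, fun h y hy => ?_⟩
  -- write `y = k ⊗ 1`
  obtain ⟨k, rfl⟩ : ∃ k : K, k ⊗ₜ[R] (1 : R ⧸ I ^ (n + c)) = y := by
    obtain ⟨q, rfl⟩ := (tensorQuotEquivQuotSMul K (I ^ (n + c))).symm.surjective y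
    obtain ⟨k, rfl⟩ := Submodule.Quotient.mk_surjective _ q
    exact ⟨k, rfl⟩
  -- `k ∈ I^(n+c) F`
  have h1 : (k : F) ∈ (I ^ (n + c) • ⊤ : Submodule R F) := by
    have := congrArg (tensorQuotEquivQuotSMul F (I ^ (n + c))) hy
    rw [LinearMap.rTensor_tmul, map_zero] at this
    have h2 : tensorQuotEquivQuotSMul F (I ^ (n + c)) ((K.subtype k) ⊗ₜ[R] (1 : R ⧸ I ^ (n + c))) =
        Submodule.Quotient.mk ((1 : R) • (k : F)) :=
      tensorQuotEquivQuotSMul_tmul_mk (I ^ (n + c)) (k : F) 1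
    rw [h2, one_smul, Submodule.Quotient.mk_eq_zero] at this
    exact this
  have h3 : (k : F) ∈ I ^ n • K := by
    have h4 : (k : F) ∈ I ^ (n + c) • (⊤ : Submodule R F) ⊓ K := ⟨h1, k.2⟩
    rw [hc (n + c) (Nat.le_add_left _ _), Nat.add_sub_cancel] at h4
    exact Submodule.smul_mono le_rfl inf_le_right h4
  have h5 : k ∈ I ^ n • (⊤ : Submodule R K) := (Submodule.mem_smul_top_iff _ _ _).mpr h3
  apply (tensorQuotEquivQuotSMul K (I ^ n)).injective
  rw [LinearMap.lTensor_tmul, map_zero]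
  have h6 : tensorQuotEquivQuotSMul K (I ^ n) (k ⊗ₜ[R] (Submodule.factor h (1 : R ⧸ I ^ (n + c)))) =
      Submodule.Quotient.mk ((1 : R) • k) :=
    tensorQuotEquivQuotSMul_tmul_mk (I ^ n) k 1
  rw [h6, one_smul, Submodule.Quotient.mk_eq_zero]
  exact h5

end helpers

/-- Let R be a Noetherian commutative ring, I an ideal of R and M a finitely generated R-module. Then
for every natural number n there is m ≥ n such that the map Tor_1^R(M, R/I^m) → Tor_1^R(M, R/I^n)
induced by the projection R/I^m → R/I^n is the zero map. Here Tor_1^R(M, -) is the first left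
derived functor of M ⊗_R - (derived in the second variable). -/
theorem result (R : Type u) [CommRing R] [IsNoetherianRing R] (I : Ideal R)
    (M : Type u) [AddCommGroup M] [Module R M] [Module.Finite R M] (n : ℕ) :
    ∃ m : ℕ, n ≤ m ∧ ∀ h : I ^ m ≤ I ^ n,
      ((CategoryTheory.Tor (ModuleCat.{u} R) 1).obj (ModuleCat.of R M)).map
        (ModuleCat.ofHom (Submodule.factor h)) = 0 := by
  obtain ⟨k, f, hf⟩ := Module.Finite.exists_fin' R M
  obtain ⟨m, hnm, hm⟩ := artinRees_tensor I (LinearMap.ker f) n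
  refine ⟨m, hnm, fun h => ?_⟩
  have hS : f.shortComplexKer.ShortExact := LinearMap.shortExact_shortComplexKer hf
  have hflat : Module.Flat R f.shortComplexKer.X₂ := inferInstanceAs (Module.Flat R (Fin k → R))
  let N : ModuleCat.{u} R := ModuleCat.of R (R ⧸ I ^ m)
  let N' : ModuleCat.{u} R := ModuleCat.of R (R ⧸ I ^ n)
  let π : N ⟶ N' := ModuleCat.ofHom (Submodule.factor h)
  have hmono := ι₁_mono hS N'
  change ((CategoryTheory.Tor (ModuleCat.{u} R) (0 + 1)).obj f.shortComplexKer.X₃).map π = 0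
  rw [← cancel_mono ((ι₁ hS).app N'), Limits.zero_comp, (ι₁ hS).naturality π]
  ext x
  have hx : (f.shortComplexKer.f ▷ N).hom (((ι₁ hS).app N).hom x) = 0 := by
    have := ι₁_comp hS N
    exact congrArg (fun φ => φ.hom x) this
  exact hm h _ hx

end Groth.Agent.S15548
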