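import Groth.Statements.S15549
import Groth.Agent.Lib.GrModFT

set_option autoImplicit false
universe u
open CategoryTheory AlgebraicGeometry
open LocCoh

namespace Groth.Agent.S15549

/-- Let R be a Noetherian commutative ring, positively graded by additive subgroups R_d, with irrelevant
ideal R_+ and X = Proj R, and let M be a graded R-module which is the direct sum of its pieces M_i,
i ≥ 0 (non-negatively graded here). For every i and every m ∈ M_i, the global section of M(i)~
defined by m (the value m/1 at every point) is zero if and only if some power of R_+ annihilates m.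
Equivalently, degree by degree, the kernel of the canonical map from M to the direct sum over all n
of Γ(X, M(n)~) is the R_+-power-torsion submodule H^0_{R_+}(M). -/
theorem result {R σ : Type u} [CommRing R] [IsNoetherianRing R] [SetLike σ R] [AddSubgroupClass σ R]
    (𝒜 : ℕ → σ) [GradedRing 𝒜] {M τ : Type u} [AddCommGroup M] [Module R M] [SetLike τ M] [AddSubgroupClass τ M]
    (ℳ : ℕ → τ) [SetLike.GradedSMul 𝒜 ℳ] [DirectSum.Decomposition ℳ]
    (i : ℕ) (m : ℳ i) :
    GrMod.alpha 𝒜 ℳ i m = 0 ↔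
      ∃ k : ℕ, ∀ r : R, r ∈ (HomogeneousIdeal.irrelevant 𝒜).toIdeal ^ k → r • (m : M) = 0 := by
  classical
  have hval : GrMod.alpha 𝒜 ℳ i m = 0 ↔
      ∀ x : ProjectiveSpectrum 𝒜, (LocalizedModule.mk (m : M) 1 : GrMod.LocMod 𝒜 (M := M) x) = 0 := by
    constructor
    · intro h x
      have h1 := congrArg (fun t : Γ(GrMod.tilde 𝒜 ℳ (i : ℤ), (⊤ : (Proj 𝒜).Opens)) =>
        Groth.Agent.Lib.GrModQCoh.tval t (⟨x, trivial⟩ : (⊤ : (Proj 𝒜).Opens))) h
      exact h1
    · intro h
      refine Groth.Agent.Lib.GrModQCoh.tsec_ext fun x => ?_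
      exact h x.1
  rw [hval]
  constructor
  · intro h
    -- the annihilator of `m`
    have hfg : (HomogeneousIdeal.irrelevant 𝒜).toIdeal.FG := IsNoetherian.noetherian _
    obtain ⟨T, hT, hspan⟩ := Groth.Agent.Lib.GrModFT.exists_homogeneous_gens_irrelevant (𝒜 := 𝒜) hfg
    have hle : (HomogeneousIdeal.irrelevant 𝒜).toIdeal ≤
        (Groth.Agent.Lib.GrModFrac.ann (A := R) (m : M)).radical := by
      rw [hspan, Ideal.span_le]
      intro f hf
      obtain ⟨d, hd, hfd⟩ := hT f hf
      obtain ⟨N, hN⟩ := Groth.Agent.Lib.GrModFrac.exists_pow_smul_eq_zero 𝒜 ℳ hd hfd 0 i m (fun x => by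
        have := h x.1
        convert this using 2
        exact Subtype.ext (pow_zero f))
      exact ⟨N, (Groth.Agent.Lib.GrModFrac.mem_ann (m : M) _).mpr hN⟩
    obtain ⟨k, hk⟩ := Ideal.exists_pow_le_of_le_radical_of_fg hle hfg
    exact ⟨k, fun r hr => (Groth.Agent.Lib.GrModFrac.mem_ann (m : M) r).mp (hk hr)⟩
  · rintro ⟨k, hk⟩ x
    obtain ⟨d, hd, f, hfx⟩ := Groth.Agent.Lib.GrModVal.exists_pos_notMem (𝒜 := 𝒜) x
    have hfirr : (f : R) ∈ (HomogeneousIdeal.irrelevant 𝒜).toIdeal := by
      change (f : R) ∈ HomogeneousIdeal.irrelevant 𝒜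
      rw [HomogeneousIdeal.mem_irrelevant_iff, GradedRing.proj_apply,
        DirectSum.decompose_of_mem_ne 𝒜 f.2 (Nat.pos_iff_ne_zero.mp hd)]
    rw [Groth.Agent.Lib.GrModVal.mk_eq_zero_iff]
    exact ⟨(f : R) ^ k, fun h => hfx (x.isPrime.mem_of_pow_mem k h), hk _ (Ideal.pow_mem_pow hfirr k)⟩

end Groth.Agent.S15549
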