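import Mathlib
import Groth.Statements.S15555
import Groth.Agent.Lib.H79NotSmooth

set_option autoImplicit false
universe u
open CategoryTheory AlgebraicGeometry
open Zeta

namespace Groth.Agent.S15555

section comp

variable {k : Type u} [Field k] [Fintype k] {n : ℕ} {S : Type*} [CommRing S] [Algebra k S]

lemma algebraMap_pow_card (a : k) :
    (algebraMap k S a) ^ (Fintype.card k) = algebraMap k S a := by
  rw [← map_pow, FiniteField.pow_card]

lemma add_pow_card' (x y : S) :
    (x + y) ^ (Fintype.card k) = x ^ (Fintype.card k) + y ^ (Fintype.card k) :=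
  map_add (FiniteField.frobeniusAlgHom k S) x y

lemma sum_pow_card' {ι : Type*} (s : Finset ι) (f : ι → S) :
    (∑ i ∈ s, f i) ^ (Fintype.card k) = ∑ i ∈ s, f i ^ (Fintype.card k) :=
  map_sum (FiniteField.frobeniusAlgHom k S) f s

/-- the key computation -/
lemma key (c : Fin (n + 1) ⊕ Fin (n + 1) → k)
    (F L : MvPolynomial (Fin (n + 1) ⊕ Fin (n + 1)) k)
    (hF : F = ∑ i : Fin (n + 1), (MvPolynomial.X (Sum.inl i) * MvPolynomial.X (Sum.inr i) ^ Fintype.card k -
      MvPolynomial.X (Sum.inr i) * MvPolynomial.X (Sum.inl i) ^ Fintype.card k))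
    (hL : L = ∑ v, MvPolynomial.C (c v) * MvPolynomial.X v)
    (t : S) (v j : Fin (n + 1) ⊕ Fin (n + 1) → S)
    (hj1 : ∀ u, j u ^ Fintype.card k = 0) (hj2 : ∀ u, j u * t ^ Fintype.card k = 0)
    (hv : ∑ u, algebraMap k S (c u) * v u = 0)
    (b : Fin (n + 1) ⊕ Fin (n + 1) → k)
    (hb : b = Sum.elim (fun i => - c (Sum.inr i)) (fun i => c (Sum.inl i)))
    (z : Fin (n + 1) ⊕ Fin (n + 1) → S)
    (hz : z = fun u => algebraMap k S (b u) + t * v u + j u) :
    MvPolynomial.aeval z F - MvPolynomial.aeval z L =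
      t ^ (Fintype.card k + 1) * ∑ i, (v (Sum.inl i) * v (Sum.inr i) ^ Fintype.card k -
        v (Sum.inr i) * v (Sum.inl i) ^ Fintype.card k)
    ∧ MvPolynomial.aeval z L = ∑ u, algebraMap k S (c u) * j u := by
  have hzq : ∀ u, z u ^ Fintype.card k =
      algebraMap k S (b u) + t ^ Fintype.card k * v u ^ Fintype.card k := by
    intro u
    rw [hz]
    simp only
    rw [add_pow_card', add_pow_card', algebraMap_pow_card, hj1, mul_pow, add_zero]
  have hvq : ∑ u, algebraMap k S (c u) * v u ^ Fintype.card k = 0 := by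
    have := congrArg (fun x => x ^ Fintype.card k) hv
    simp only [sum_pow_card' (k := k), mul_pow, algebraMap_pow_card] at this
    rw [this, zero_pow Fintype.card_ne_zero]
  have hLz : MvPolynomial.aeval z L = ∑ u, algebraMap k S (c u) * z u := by
    rw [hL]; simp
  have hFz : MvPolynomial.aeval z F = ∑ i, (z (Sum.inl i) * z (Sum.inr i) ^ Fintype.card k -
      z (Sum.inr i) * z (Sum.inl i) ^ Fintype.card k) := by
    rw [hF]; simp
  have hbc : ∑ u, algebraMap k S (c u) * algebraMap k S (b u) = 0 := by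
    rw [Fintype.sum_sum_type, ← Finset.sum_add_distrib]
    apply Finset.sum_eq_zero
    intro i _
    rw [hb]
    simp only [Sum.elim_inl, Sum.elim_inr, map_neg]
    ring
  have hL2 : MvPolynomial.aeval z L = ∑ u, algebraMap k S (c u) * j u := by
    rw [hLz, hz]
    simp only [mul_add, Finset.sum_add_distrib]
    rw [hbc, zero_add]
    have : ∑ u, algebraMap k S (c u) * (t * v u) = t * ∑ u, algebraMap k S (c u) * v u := by
      rw [Finset.mul_sum]
      exact Finset.sum_congr rfl (fun u _ => by ring)
    rw [this, hv, mul_zero, zero_add]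
  refine ⟨?_, hL2⟩
  rw [hFz, hLz]
  simp only [hzq]
  rw [Fintype.sum_sum_type] at hvq
  have hsplit : ∑ u, algebraMap k S (c u) * z u =
      ∑ i, (algebraMap k S (c (Sum.inl i)) * z (Sum.inl i) +
        algebraMap k S (c (Sum.inr i)) * z (Sum.inr i)) := by
    rw [Fintype.sum_sum_type, ← Finset.sum_add_distrib]
  rw [hsplit, ← Finset.sum_sub_distrib, Finset.mul_sum]
  rw [← sub_eq_zero, ← Finset.sum_sub_distrib]
  have hterm : ∀ i : Fin (n + 1),
      (z (Sum.inl i) * (algebraMap k S (b (Sum.inr i)) +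
          t ^ Fintype.card k * v (Sum.inr i) ^ Fintype.card k) -
        z (Sum.inr i) * (algebraMap k S (b (Sum.inl i)) +
          t ^ Fintype.card k * v (Sum.inl i) ^ Fintype.card k) -
        (algebraMap k S (c (Sum.inl i)) * z (Sum.inl i) +
          algebraMap k S (c (Sum.inr i)) * z (Sum.inr i))) -
      t ^ (Fintype.card k + 1) * (v (Sum.inl i) * v (Sum.inr i) ^ Fintype.card k -
        v (Sum.inr i) * v (Sum.inl i) ^ Fintype.card k) =
      (j (Sum.inl i) * t ^ Fintype.card k) * v (Sum.inr i) ^ Fintype.card k -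
      (j (Sum.inr i) * t ^ Fintype.card k) * v (Sum.inl i) ^ Fintype.card k -
      t ^ Fintype.card k * (algebraMap k S (c (Sum.inl i)) * v (Sum.inl i) ^ Fintype.card k +
        algebraMap k S (c (Sum.inr i)) * v (Sum.inr i) ^ Fintype.card k) := by
    intro i
    rw [hz, hb]
    simp only [Sum.elim_inl, Sum.elim_inr, map_neg]
    ring
  rw [Finset.sum_congr rfl (fun i _ => hterm i)]
  simp only [hj2, zero_mul, sub_zero, zero_sub, Finset.sum_neg_distrib, ← Finset.mul_sum,
    Finset.sum_add_distrib, hvq, mul_zero, neg_zero]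

/-- the tangent direction -/
lemma exists_v (c : Fin (n + 1) ⊕ Fin (n + 1) → k) (t : S)
    (v0 : Fin (n + 1) ⊕ Fin (n + 1)) (hv0 : c v0 ≠ 0) (jj : Fin (n + 1))
    (h1 : Sum.inl jj ≠ v0) (h2 : Sum.inr jj ≠ v0) :
    ∃ v : Fin (n + 1) ⊕ Fin (n + 1) → S,
      ∑ u, algebraMap k S (c u) * v u = 0 ∧
      ∑ i, (v (Sum.inl i) * v (Sum.inr i) ^ Fintype.card k -
        v (Sum.inr i) * v (Sum.inl i) ^ Fintype.card k) = t ^ Fintype.card k - t := by
  classical
  set r : S := -(algebraMap k S (c (Sum.inl jj) / c v0) + algebraMap k S (c (Sum.inr jj) / c v0) * t)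
    with hr
  refine ⟨Pi.single (Sum.inl jj) 1 + Pi.single (Sum.inr jj) t + Pi.single v0 r, ?_, ?_⟩
  · simp only [Pi.add_apply, mul_add, Finset.sum_add_distrib, Pi.single_apply, mul_ite, mul_one,
      mul_zero, Finset.sum_ite_eq', Finset.mem_univ, if_true]
    rw [hr]
    have : algebraMap k S (c v0) * algebraMap k S (c (Sum.inl jj) / c v0) =
        algebraMap k S (c (Sum.inl jj)) := by
      rw [← map_mul, mul_div_cancel₀ _ hv0]
    have h' : algebraMap k S (c v0) * algebraMap k S (c (Sum.inr jj) / c v0) =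
        algebraMap k S (c (Sum.inr jj)) := by
      rw [← map_mul, mul_div_cancel₀ _ hv0]
    rw [mul_neg, mul_add, this, ← mul_assoc, h']
    ring
  · rw [Finset.sum_eq_single jj]
    · have e1 : ¬ (v0 = Sum.inl jj) := fun h => h1 h.symm
      have e2 : ¬ (v0 = Sum.inr jj) := fun h => h2 h.symm
      simp [Pi.single_apply, h1, h2, e1, e2]
    · intro i _ hij
      have hij' : ¬ (jj = i) := fun h => hij h.symm
      rcases v0 with i0 | i0
      · simp [Pi.single_apply, hij, hij', Fintype.card_ne_zero]
      · simp [Pi.single_apply, hij, hij', Fintype.card_ne_zero]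
    · intro h; exact absurd (Finset.mem_univ _) h

end comp

/-- Let k be a finite field with q elements and n ≥ 1 a natural number; in the 2n + 2 variables X_0, …,
X_n, Y_0, …, Y_n (indexed by Fin (n+1) ⊕ Fin (n+1), the left summand carrying the X_i) let F = Σ_i
(X_i Y_i^q − Y_i X_i^q), a form of degree q + 1 defining the hypersurface Hyp ⊂ P^{2n+1}_k. Then no
hyperplane of P^{2n+1}_k defined over k meets Hyp transversally: for every linear form L = Σ_v c_v
x_v with a nonzero coefficient vector c over k, the scheme-theoretic intersection Hyp ∩ (L = 0) ⊂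
P^{2n+1}_k is not smooth over k. The intersection is presented through the standard open pieces of
its affine cone: with R = k[X, Y]/(F, L), the piece x_w ≠ 0 of the cone Spec R is (Hyp ∩ (L = 0) ∩
D₊(x_w)) × 𝔾_m, so Hyp ∩ (L = 0) is smooth over k exactly when every localisation R[1/x_w] is a
smooth k-algebra, and the row states that not all of them are. (The published example is stated for
every n ≥ 0; for n = 0 the hypersurface is the set of the q + 1 rational points of P^1_k, it
contains every rational point H, and Hyp ∩ H = H is a reduced point, smooth over k; so this row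
takes n ≥ 1, where no rational hyperplane is contained in Hyp and each one is tangent to Hyp at a
rational point, at which the intersection is singular.) -/
theorem result (k : Type u) [Field k] [Fintype k] (n : ℕ) (hn : 1 ≤ n)
    (F L : MvPolynomial (Fin (n + 1) ⊕ Fin (n + 1)) k)
    (hF : F = ∑ i : Fin (n + 1), (MvPolynomial.X (Sum.inl i) * MvPolynomial.X (Sum.inr i) ^ Fintype.card k -
      MvPolynomial.X (Sum.inr i) * MvPolynomial.X (Sum.inl i) ^ Fintype.card k))
    (c : Fin (n + 1) ⊕ Fin (n + 1) → k) (hc : c ≠ 0)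
    (hL : L = ∑ v, MvPolynomial.C (c v) * MvPolynomial.X v) :
    ¬ ∀ w : Fin (n + 1) ⊕ Fin (n + 1),
      Smooth (Spec.map (CommRingCat.ofHom (algebraMap k
        (Localization.Away (Ideal.Quotient.mk (Ideal.span {F, L}) (MvPolynomial.X w)))))) := by
  classical
  intro hall
  obtain ⟨v0, hv0⟩ : ∃ v0, c v0 ≠ 0 := by
    by_contra h
    apply hc
    funext v
    by_contra hv
    exact h ⟨v, hv⟩
  have hnt : Nontrivial (Fin (n + 1)) := Fin.nontrivial_iff_two_le.mpr (by omega)
  have hq2 : 2 ≤ Fintype.card k := Fintype.one_lt_card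
  obtain ⟨jj, h1, h2⟩ : ∃ jj : Fin (n + 1), Sum.inl jj ≠ v0 ∧ Sum.inr jj ≠ v0 := by
    rcases v0 with i | i
    · obtain ⟨jj, hjj⟩ := exists_ne i
      exact ⟨jj, by simpa using hjj, by simp⟩
    · obtain ⟨jj, hjj⟩ := exists_ne i
      exact ⟨jj, by simp, by simpa using hjj⟩
  set b : Fin (n + 1) ⊕ Fin (n + 1) → k :=
    Sum.elim (fun i => - c (Sum.inr i)) (fun i => c (Sum.inl i)) with hb
  have hbw : b (Sum.swap v0) ≠ 0 := by
    rcases v0 with i | i
    · simpa [hb] using hv0
    · simpa [hb] using hv0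
  -- smoothness ⇒ formal smoothness
  have hsm := hall (Sum.swap v0)
  have h3 := (HasRingHomProperty.Spec_iff (P := @Smooth)).mp hsm
  rw [CommRingCat.hom_ofHom, RingHom.smooth_algebraMap] at h3
  have h5 : Algebra.FormallySmooth k (Localization.Away (Ideal.Quotient.mk (Ideal.span {F, L})
      (MvPolynomial.X (Sum.swap v0)))) := h3.1
  revert h5
  -- the test ring
  let S := Polynomial k ⧸ Ideal.span {(Polynomial.X : Polynomial k) ^ (Fintype.card k + 3)}
  let t : S := Ideal.Quotient.mk _ Polynomial.X
  have ht : t ^ (Fintype.card k + 3) = 0 := by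
    rw [← map_pow]
    exact Ideal.Quotient.eq_zero_iff_mem.mpr (Ideal.mem_span_singleton_self _)
  have ht' : t ^ (Fintype.card k + 2) ≠ 0 := by
    rw [← map_pow, Ne, Ideal.Quotient.eq_zero_iff_mem, Ideal.mem_span_singleton]
    intro h
    have := (pow_dvd_pow_iff Polynomial.X_ne_zero Polynomial.not_isUnit_X).mp h
    omega
  have htle : ∀ m, Fintype.card k + 3 ≤ m → t ^ m = 0 := fun m hm => pow_eq_zero_of_le hm ht
  let J : Ideal S := Ideal.span {t ^ (Fintype.card k + 2)}
  have hJ : J ^ 2 = ⊥ := by
    rw [Ideal.span_singleton_pow, ← pow_mul, htle _ (by nlinarith)]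
    simp
  have hJ1 : ∀ x ∈ J, x ^ Fintype.card k = 0 := by
    intro x hx
    obtain ⟨s, rfl⟩ := Ideal.mem_span_singleton'.mp hx
    rw [mul_pow, ← pow_mul, htle _ (by nlinarith), mul_zero]
  have hJ2 : ∀ x ∈ J, x * t ^ Fintype.card k = 0 := by
    intro x hx
    obtain ⟨s, rfl⟩ := Ideal.mem_span_singleton'.mp hx
    rw [mul_assoc, ← pow_add, htle _ (by omega), mul_zero]
  obtain ⟨v, hv, hFv⟩ := exists_v (S := S) c t v0 hv0 jj h1 h2
  have hval : t ^ (Fintype.card k + 1) * (t ^ Fintype.card k - t) = - t ^ (Fintype.card k + 2) := by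
    rw [mul_sub, ← pow_add, ← pow_succ, htle _ (by omega), zero_sub]
  let y : Fin (n + 1) ⊕ Fin (n + 1) → S := fun u => algebraMap k S (b u) + t * v u + 0
  have hky := key c F L hF hL t v (fun _ => 0) (fun _ => zero_pow Fintype.card_ne_zero)
    (fun _ => zero_mul _) hv b hb y rfl
  apply Groth.Agent.Lib.H79NotSmooth.not_formallySmooth_of_test (Ideal.span {F, L}) (Sum.swap v0) J hJ y
  · -- hy
    have hLy : MvPolynomial.aeval y L = 0 := by rw [hky.2]; simp
    have hFy : MvPolynomial.aeval y F = - t ^ (Fintype.card k + 2) := by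
      have := hky.1
      rw [hLy, sub_zero, hFv, hval] at this
      exact this
    have hle : Ideal.span {F, L} ≤ J.comap (MvPolynomial.aeval y : MvPolynomial _ k →ₐ[k] S) := by
      rw [Ideal.span_le]
      intro f hf
      rcases hf with rfl | rfl
      · change MvPolynomial.aeval y f ∈ J
        rw [hFy]
        exact J.neg_mem (Ideal.mem_span_singleton_self _)
      · change MvPolynomial.aeval y f ∈ J
        rw [hLy]
        exact J.zero_mem
    exact fun f hf => hle hf
  · -- hw
    change IsUnit (algebraMap k S (b (Sum.swap v0)) + t * v (Sum.swap v0) + 0)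
    rw [add_zero]
    apply IsNilpotent.isUnit_add_left_of_commute
    · exact ⟨Fintype.card k + 3, by rw [mul_pow, ht, zero_mul]⟩
    · exact (IsUnit.mk0 _ hbw).map _
    · exact Commute.all _ _
  · -- hno
    intro z hz hzero
    have hkz := key c F L hF hL t v (fun u => z u - y u) (fun u => hJ1 _ (hz u))
      (fun u => hJ2 _ (hz u)) hv b hb z (by funext u; simp only [y]; ring)
    have hF0 := hzero F (Ideal.subset_span (by simp))
    have hL0 := hzero L (Ideal.subset_span (by simp))
    have := hkz.1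
    rw [hF0, hL0, sub_zero, hFv, hval] at this
    exact ht' (neg_eq_zero.mp this.symm)

end Groth.Agent.S15555
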