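import Groth.Statements.S1556
import Groth.Agent.Lib.H14SmoothReg2

set_option autoImplicit false
universe u
open CategoryTheory CategoryTheory.Limits AlgebraicGeometry
attribute [local instance] Curv2.resAlgebra
open Variety

namespace Groth.Agent.S1556

/-- Let X be a curve over k (integral, separated, of finite type, of dimension one) and x a closed point
whose residue field is separable over k. Then the local ring at x is a discrete valuation ring if
and only if x lies in the smooth locus of X → Spec k. -/
theorem result (k : Type u) [Field k] (X : Scheme.{u}) [X.Over (Spec (CommRingCat.of k))] [IsIntegral X]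
    [IsSeparated (X ↘ (Spec (CommRingCat.of k)))] [LocallyOfFinitePresentation (X ↘ (Spec (CommRingCat.of k)))] [QuasiCompact (X ↘ (Spec (CommRingCat.of k)))]
    (hdim : topologicalKrullDim X = 1) (x : X) (hx : IsClosed ({x} : Set X))
    [Algebra.IsSeparable k (X.residueField x)] :
    IsDiscreteValuationRing (X.presheaf.stalk x) ↔ x ∈ (X ↘ (Spec (CommRingCat.of k))).smoothLocus := by
  letI := Curv2.stalkAlgebra k X x
  have heq : (Curv2.resAlgebra k X x : Algebra k (X.residueField x)) =
      (inferInstance : Algebra k (IsLocalRing.ResidueField (X.presheaf.stalk x))) :=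
    Algebra.algebra_ext _ _ (fun _ => rfl)
  haveI hsep : @Algebra.IsSeparable k (IsLocalRing.ResidueField (X.presheaf.stalk x)) _ _
      (inferInstance : Algebra k (IsLocalRing.ResidueField (X.presheaf.stalk x))) := by
    rw [← heq]; exact (inferInstance : Algebra.IsSeparable k (X.residueField x))
  haveI : Algebra.FormallyEtale k (IsLocalRing.ResidueField (X.presheaf.stalk x)) :=
    Algebra.FormallyEtale.of_isSeparable k _
  haveI : Algebra.FormallySmooth k (IsLocalRing.ResidueField (X.presheaf.stalk x)) :=
    inferInstance
  exact Groth.Agent.Lib.H14SmoothReg.dvr_iff_mem_smoothLocus k X hdim x hx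

end Groth.Agent.S1556
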