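import Groth.Statements.S15560
import Groth.Agent.Lib.KronMod88

set_option autoImplicit false
universe u v w
open KronMod

namespace Groth.Agent.S15560

/-- Let f be a Kronecker module with n arrows over a field K, from a space V of dimension d₋₁ > 0 to a
space W of dimension d₀ > 0. If n·d₋₁ < d₀ or n·d₀ < d₋₁, then f is not semistable; that is, there
are no semistable Kronecker modules of dimension vector (d₋₁, d₀). (The published statement assumes
K algebraically closed of characteristic zero and n ≥ 2; this row allows any field K and any number
n of arrows.) -/
theorem result (K : Type u) [Field K] (V : Type v) (W : Type w)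
    [AddCommGroup V] [Module K V] [FiniteDimensional K V]
    [AddCommGroup W] [Module K W] [FiniteDimensional K W]
    (n : ℕ) (f : Fin n → (V →ₗ[K] W))
    (hV : 0 < Module.finrank K V) (hW : 0 < Module.finrank K W)
    (h : n * Module.finrank K V < Module.finrank K W ∨ n * Module.finrank K W < Module.finrank K V) :
    ¬ KronMod.IsSemistable f := by
  intro hss
  obtain ⟨_, hall⟩ := hss
  rcases h with h | h
  · -- use (⊤, range sumMap)
    have h1 := hall ⊤ (LinearMap.range (Lib.KronMod88.sumMap f))
      (Lib.KronMod88.isSubrep_top_range_sumMap f)
      (fun hh => by
        have : (⊤ : Submodule K V) = ⊥ := hh.1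
        have h0 : Module.finrank K V = 0 := by
          rw [← finrank_top K V, this, finrank_bot]
        omega)
      (fun hh => by
        have h2 := Lib.KronMod88.finrank_range_sumMap_le (K := K) f
        rw [hh.2, finrank_top] at h2
        omega)
    rw [finrank_top] at h1
    have h2 := Lib.KronMod88.finrank_range_sumMap_le (K := K) f
    have h3 : Module.finrank K W * Module.finrank K V ≤ Module.finrank K V * (n * Module.finrank K V) :=
      h1.trans (Nat.mul_le_mul_left _ h2)
    have h4 : Module.finrank K W ≤ n * Module.finrank K V := by
      rw [Nat.mul_comm] at h3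
      exact Nat.le_of_mul_le_mul_left h3 hV
    omega
  · -- use (ker prodMap, ⊥)
    have hrn := LinearMap.finrank_range_add_finrank_ker (Lib.KronMod88.prodMap f)
    have hr : Module.finrank K (LinearMap.range (Lib.KronMod88.prodMap f)) ≤ n * Module.finrank K W := by
      rw [← Lib.KronMod88.finrank_pi_const (K := K) (n := n) W]
      exact Submodule.finrank_le _
    have hk : 0 < Module.finrank K (LinearMap.ker (Lib.KronMod88.prodMap f)) := by omega
    have h1 := hall (LinearMap.ker (Lib.KronMod88.prodMap f)) ⊥
      (Lib.KronMod88.isSubrep_ker_prodMap_bot f)
      (fun hh => by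
        rw [hh.1, finrank_bot] at hk
        omega)
      (fun hh => by
        have : (⊥ : Submodule K W) = ⊤ := hh.2
        have h0 : Module.finrank K W = 0 := by
          rw [← finrank_top K W, ← this, finrank_bot]
        omega)
    rw [finrank_bot, Nat.mul_zero] at h1
    have := Nat.mul_pos hW hk
    omega

end Groth.Agent.S15560
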