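import Groth.Statements.S15561
import Groth.Agent.Lib.KronMod88

set_option autoImplicit false
universe u v w
open KronMod

namespace Groth.Agent.S15561

/-- Let f be a Kronecker module with n arrows over a field K, from V of dimension d₋₁ > 0 to W of
dimension n·d₋₁. Then f is semistable if and only if the sum map Vⁿ → W sending (v_j)_j to Σ_j
f_j(v_j) is bijective, i.e. every arrow f_j is injective and W is the direct sum of the images
f_j(V). (The published statement assumes K algebraically closed of characteristic zero and n ≥ 2;
this row allows any field K and any number n of arrows.) -/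
theorem result (K : Type u) [Field K] (V : Type v) (W : Type w)
    [AddCommGroup V] [Module K V] [FiniteDimensional K V]
    [AddCommGroup W] [Module K W] [FiniteDimensional K W]
    (n : ℕ) (f : Fin n → (V →ₗ[K] W))
    (hV : 0 < Module.finrank K V) (hW : Module.finrank K W = n * Module.finrank K V) :
    KronMod.IsSemistable f ↔ Function.Bijective (fun v : Fin n → V => ∑ j, f j (v j)) := by
  have hfun : (fun v : Fin n → V => ∑ j, f j (v j)) = ⇑(Lib.KronMod88.sumMap f) := by
    funext v
    rw [Lib.KronMod88.sumMap_apply]
  rw [hfun]
  have hdim : Module.finrank K (Fin n → V) = Module.finrank K W := by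
    rw [Lib.KronMod88.finrank_pi_const, hW]
  constructor
  · rintro ⟨_, hall⟩
    have hsurj : Function.Surjective (Lib.KronMod88.sumMap f) := by
      by_contra hns
      have hne : LinearMap.range (Lib.KronMod88.sumMap f) ≠ ⊤ := by
        intro h
        exact hns (LinearMap.range_eq_top.mp h)
      have hlt : Module.finrank K (LinearMap.range (Lib.KronMod88.sumMap f)) < Module.finrank K W :=
        Submodule.finrank_lt hne
      have h1 := hall ⊤ (LinearMap.range (Lib.KronMod88.sumMap f))
        (Lib.KronMod88.isSubrep_top_range_sumMap f)
        (fun hh => by
          have : (⊤ : Submodule K V) = ⊥ := hh.1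
          have h0 : Module.finrank K V = 0 := by
            rw [← finrank_top K V, this, finrank_bot]
          omega)
        (fun hh => hne hh.2)
      rw [finrank_top] at h1
      -- W.dim * V.dim ≤ V.dim * range.dim < V.dim * W.dim
      have h2 : Module.finrank K V * Module.finrank K (LinearMap.range (Lib.KronMod88.sumMap f))
          < Module.finrank K V * Module.finrank K W := Nat.mul_lt_mul_of_pos_left hlt hV
      rw [Nat.mul_comm (Module.finrank K W)] at h1
      omega
    exact ⟨(LinearMap.injective_iff_surjective_of_finrank_eq_finrank hdim).mpr hsurj, hsurj⟩
  · rintro ⟨hinj, _⟩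
    refine ⟨by omega, ?_⟩
    intro V' W' hsub _ _
    have h1 := Lib.KronMod88.mul_finrank_le_of_injective_sumMap f hinj hsub
    rw [hW]
    calc n * Module.finrank K V * Module.finrank K V'
        = Module.finrank K V * (n * Module.finrank K V') := by ring
      _ ≤ Module.finrank K V * Module.finrank K W' := Nat.mul_le_mul_left _ h1

end Groth.Agent.S15561
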