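import Groth.Statements.S15563
import Groth.Agent.Lib.KronMod88

set_option autoImplicit false
universe u v w
open KronMod

namespace Groth.Agent.S15563

/-- Let f be a Kronecker module with n arrows over a field K, from V of dimension d₋₁ > 0 to W of
dimension n·d₋₁. Then f is stable if and only if f is semistable and d₋₁ = 1: for d₋₁ = 1 every
semistable module is stable (so the stable locus of K(n; 1, n) is the one point), while for d₋₁ > 1
no module is stable. (The published statement assumes K algebraically closed of characteristic zero
and n ≥ 2; this row allows any field K and any number n of arrows.) -/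
theorem result (K : Type u) [Field K] (V : Type v) (W : Type w)
    [AddCommGroup V] [Module K V] [FiniteDimensional K V]
    [AddCommGroup W] [Module K W] [FiniteDimensional K W]
    (n : ℕ) (f : Fin n → (V →ₗ[K] W))
    (hV : 0 < Module.finrank K V) (hW : Module.finrank K W = n * Module.finrank K V) :
    KronMod.IsStable f ↔ (KronMod.IsSemistable f ∧ Module.finrank K V = 1) := by
  constructor
  · intro hst
    refine ⟨Lib.KronMod88.IsStable.isSemistable hst, ?_⟩
    by_contra hne
    have h2 : 2 ≤ Module.finrank K V := by omega
    obtain ⟨v, hv⟩ := Module.finrank_pos_iff_exists_ne_zero.mp hV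
    have hline : Module.finrank K (K ∙ v) = 1 := finrank_span_singleton hv
    have hle := Lib.KronMod88.finrank_genImage_le f (K ∙ v)
    rw [hline, Nat.mul_one] at hle
    have h1 := hst.2 (K ∙ v) (Lib.KronMod88.genImage f (K ∙ v))
      (Lib.KronMod88.isSubrep_genImage f _)
      (fun hh => by
        rw [hh.1, finrank_bot] at hline
        omega)
      (fun hh => by
        rw [hh.1, finrank_top] at hline
        omega)
    rw [hline, Nat.mul_one, hW] at h1
    have h3 : Module.finrank K V * Module.finrank K (Lib.KronMod88.genImage f (K ∙ v))
        ≤ Module.finrank K V * n := Nat.mul_le_mul_left _ hle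
    rw [Nat.mul_comm n] at h1
    omega
  · rintro ⟨hss, h1⟩
    rw [Lib.KronMod88.isStable_iff_isSemistable_and_ne]
    refine ⟨hss, ?_⟩
    intro V' W' _ hbot htop heq
    rw [h1, Nat.one_mul] at heq
    have hle : Module.finrank K V' ≤ 1 := h1 ▸ Submodule.finrank_le V'
    rcases Nat.le_one_iff_eq_zero_or_eq_one.mp hle with h0 | h0
    · rw [h0, Nat.mul_zero] at heq
      exact hbot ⟨Submodule.finrank_eq_zero.mp h0, Submodule.finrank_eq_zero.mp heq.symm⟩
    · rw [h0, Nat.mul_one] at heq
      exact htop ⟨Submodule.eq_top_of_finrank_eq (h0.trans h1.symm),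
        Submodule.eq_top_of_finrank_eq heq.symm⟩

end Groth.Agent.S15563
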