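import Groth.Statements.S15564
import Groth.Agent.Lib.KronMod88

set_option autoImplicit false
universe u v w
open KronMod

namespace Groth.Agent.S15564

/-- For a Kronecker module f with n arrows over a field K between one-dimensional spaces V and W,
semistability, stability and f ≠ 0 are equivalent: the semistable locus and the stable locus of
dimension vector (1, 1) are both the complement of the zero module. (The published statement assumes
K algebraically closed of characteristic zero and n ≥ 2; this row allows any field K and any n.) -/
theorem result (K : Type u) [Field K] (V : Type v) (W : Type w)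
    [AddCommGroup V] [Module K V] [FiniteDimensional K V]
    [AddCommGroup W] [Module K W] [FiniteDimensional K W]
    (n : ℕ) (f : Fin n → (V →ₗ[K] W))
    (hV : Module.finrank K V = 1) (hW : Module.finrank K W = 1) :
    (KronMod.IsSemistable f ↔ f ≠ 0) ∧ (KronMod.IsStable f ↔ f ≠ 0) := by
  have hA : KronMod.IsSemistable f → f ≠ 0 := by
    rintro ⟨_, hall⟩ rfl
    have h1 := hall ⊤ ⊥
      (by
        rw [Lib.KronMod88.isSubrep_iff]
        intro j x _
        simp)
      (fun hh => by
        have h0 : Module.finrank K V = 0 := by
          rw [← finrank_top K V, hh.1, finrank_bot]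
        omega)
      (fun hh => by
        have h0 : Module.finrank K W = 0 := by
          rw [← finrank_top K W, ← hh.2, finrank_bot]
        omega)
    rw [finrank_top, finrank_bot, hV, hW] at h1
    omega
  have hB : f ≠ 0 → KronMod.IsStable f := by
    intro hf
    obtain ⟨j, hj⟩ : ∃ j, f j ≠ 0 := by
      by_contra hcon
      push Not at hcon
      exact hf (funext hcon)
    refine ⟨by omega, ?_⟩
    intro V' W' hs hbot htop
    rw [hV, hW, Nat.one_mul, Nat.one_mul]
    have hleV : Module.finrank K V' ≤ 1 := hV ▸ Submodule.finrank_le V'
    have hleW : Module.finrank K W' ≤ 1 := hW ▸ Submodule.finrank_le W'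
    by_contra hcon
    have hcases : (Module.finrank K V' = 0 ∧ Module.finrank K W' = 0) ∨
        (Module.finrank K V' = 1 ∧ Module.finrank K W' = 1) ∨
        (Module.finrank K V' = 1 ∧ Module.finrank K W' = 0) := by omega
    rcases hcases with ⟨h1, h2⟩ | ⟨h1, h2⟩ | ⟨h1, h2⟩
    · exact hbot ⟨Submodule.finrank_eq_zero.mp h1, Submodule.finrank_eq_zero.mp h2⟩
    · exact htop ⟨Submodule.eq_top_of_finrank_eq (h1.trans hV.symm),
        Submodule.eq_top_of_finrank_eq (h2.trans hW.symm)⟩
    · have hV' : V' = ⊤ := Submodule.eq_top_of_finrank_eq (h1.trans hV.symm)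
      have hW' : W' = ⊥ := Submodule.finrank_eq_zero.mp h2
      rw [Lib.KronMod88.isSubrep_iff] at hs
      apply hj
      apply LinearMap.ext
      intro x
      have := hs j x (hV' ▸ Submodule.mem_top)
      rw [hW', Submodule.mem_bot] at this
      rw [this]
      rfl
  exact ⟨⟨hA, fun h => Lib.KronMod88.IsStable.isSemistable (hB h)⟩,
    ⟨fun h => hA (Lib.KronMod88.IsStable.isSemistable h), hB⟩⟩

end Groth.Agent.S15564
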