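import Groth.Statements.S15565
import Groth.Agent.Lib.KronMod88
import Mathlib.LinearAlgebra.Eigenspace.Triangularizable

set_option autoImplicit false
universe u v w
open KronMod

namespace Groth.Agent.S15565

/-- Over an algebraically closed field K, a Kronecker module with two arrows between spaces V and W of
the same dimension k ≥ 2 is never stable: the stable locus of dimension vector (k, k) for the
Kronecker quiver with two arrows is empty. (The published statement also assumes characteristic
zero; this row does not.) -/
theorem result (K : Type u) [Field K] [IsAlgClosed K] (V : Type v) (W : Type w)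
    [AddCommGroup V] [Module K V] [FiniteDimensional K V]
    [AddCommGroup W] [Module K W] [FiniteDimensional K W]
    (f : Fin 2 → (V →ₗ[K] W)) (k : ℕ) (hk : 2 ≤ k)
    (hV : Module.finrank K V = k) (hW : Module.finrank K W = k) :
    ¬ KronMod.IsStable f := by
  intro hst
  have hVpos : 0 < Module.finrank K V := by omega
  -- find a nonzero `v` with `f 0 v` and `f 1 v` in a common line
  have key : ∃ v : V, v ≠ 0 ∧ ∃ w : W, ∀ j, f j v ∈ (K ∙ w) := by
    by_cases hinj : Function.Injective (f 0)
    · have hsurj : Function.Surjective (f 0) :=
        (LinearMap.injective_iff_surjective_of_finrank_eq_finrank (hV.trans hW.symm)).mp hinj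
      let e : V ≃ₗ[K] W := LinearEquiv.ofBijective (f 0) ⟨hinj, hsurj⟩
      let T : Module.End K V := e.symm.toLinearMap ∘ₗ f 1
      have : Nontrivial V := Module.finrank_pos_iff.mp hVpos
      obtain ⟨μ, hμ⟩ := Module.End.exists_eigenvalue T
      obtain ⟨v, hv⟩ := hμ.exists_hasEigenvector
      refine ⟨v, hv.2, f 0 v, ?_⟩
      have hT : T v = μ • v := hv.apply_eq_smul
      have h1 : f 1 v = μ • f 0 v := by
        have h2 : e (T v) = f 1 v := by
          change e (e.symm (f 1 v)) = f 1 v
          exact e.apply_symm_apply _
        rw [← h2, hT, map_smul]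
        rfl
      intro j
      fin_cases j
      · exact Submodule.mem_span_singleton_self _
      · change f 1 v ∈ _
        rw [h1]
        exact Submodule.smul_mem _ _ (Submodule.mem_span_singleton_self _)
    · have hker : LinearMap.ker (f 0) ≠ ⊥ := fun h => hinj (LinearMap.ker_eq_bot.mp h)
      obtain ⟨v, hvmem, hv0⟩ := Submodule.exists_mem_ne_zero_of_ne_bot hker
      refine ⟨v, hv0, f 1 v, ?_⟩
      intro j
      fin_cases j
      · change f 0 v ∈ _
        rw [LinearMap.mem_ker.mp hvmem]
        exact Submodule.zero_mem _
      · exact Submodule.mem_span_singleton_self _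
  obtain ⟨v, hv0, w, hw⟩ := key
  have hline : Module.finrank K (K ∙ v) = 1 := finrank_span_singleton hv0
  have hW' : Module.finrank K (K ∙ w) ≤ 1 := by
    by_cases hw0 : w = 0
    · rw [hw0, Submodule.span_zero_singleton, finrank_bot]
      omega
    · rw [finrank_span_singleton hw0]
  have h1 := hst.2 (K ∙ v) (K ∙ w)
    (by
      rw [Lib.KronMod88.isSubrep_iff]
      intro j x hx
      obtain ⟨c, rfl⟩ := Submodule.mem_span_singleton.mp hx
      rw [map_smul]
      exact Submodule.smul_mem _ _ (hw j))
    (fun hh => by
      rw [hh.1, finrank_bot] at hline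
      omega)
    (fun hh => by
      rw [hh.1, finrank_top] at hline
      omega)
  rw [hline, hV, hW, Nat.mul_one] at h1
  have h2 : k * Module.finrank K (K ∙ w) ≤ k * 1 := Nat.mul_le_mul_left _ hW'
  omega

end Groth.Agent.S15565
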