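import Groth.Statements.S15566
import Groth.Agent.Lib.KronMod88

set_option autoImplicit false
universe u v w
open KronMod

namespace Groth.Agent.S15566

section aux

variable {K : Type u} [Field K] {V : Type v} {W : Type w}
  [AddCommGroup V] [Module K V] [FiniteDimensional K V]
  [AddCommGroup W] [Module K W] [FiniteDimensional K W]

theorem rank1 (hV : Module.finrank K V = 2) (hW : Module.finrank K W = 2)
    (g : V →ₗ[K] W) (hg : ¬ Function.Bijective g) (hg0 : g ≠ 0) :
    Module.finrank K (LinearMap.ker g) = 1 ∧ Module.finrank K (LinearMap.range g) = 1 := by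
  have hrn := LinearMap.finrank_range_add_finrank_ker g
  have hker : LinearMap.ker g ≠ ⊥ := by
    intro h
    have hinj : Function.Injective g := LinearMap.ker_eq_bot.mp h
    exact hg ⟨hinj,
      (LinearMap.injective_iff_surjective_of_finrank_eq_finrank (hV.trans hW.symm)).mp hinj⟩
  have hrange : LinearMap.range g ≠ ⊥ := by
    intro h
    exact hg0 (LinearMap.range_eq_bot.mp h)
  have h1 : Module.finrank K (LinearMap.ker g) ≠ 0 := fun h => hker (Submodule.finrank_eq_zero.mp h)
  have h2 : Module.finrank K (LinearMap.range g) ≠ 0 :=
    fun h => hrange (Submodule.finrank_eq_zero.mp h)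
  omega

theorem line_eq {M : Type*} [AddCommGroup M] [Module K M] [FiniteDimensional K M]
    (N N' : Submodule K M) (hN : Module.finrank K N = 1) (hN' : Module.finrank K N' = 1)
    (y : M) (hy : y ≠ 0) (h1 : y ∈ N) (h2 : y ∈ N') : N = N' := by
  have hs : Module.finrank K (K ∙ y) = 1 := finrank_span_singleton hy
  have e1 : (K ∙ y) = N := Submodule.eq_of_le_of_finrank_eq
    ((Submodule.span_singleton_le_iff_mem y N).mpr h1) (hs.trans hN.symm)
  have e2 : (K ∙ y) = N' := Submodule.eq_of_le_of_finrank_eq
    ((Submodule.span_singleton_le_iff_mem y N').mpr h2) (hs.trans hN'.symm)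
  rw [← e1, e2]

theorem claim1 (hV : Module.finrank K V = 2) (hW : Module.finrank K W = 2)
    (g g' : V →ₗ[K] W) (hg : ¬ Function.Bijective g) (hg' : ¬ Function.Bijective g')
    (hgg' : ¬ Function.Bijective (g + g')) (hg0 : g ≠ 0) (hg'0 : g' ≠ 0) :
    LinearMap.ker g = LinearMap.ker g' ∨ LinearMap.range g = LinearMap.range g' := by
  obtain ⟨hk, hr⟩ := rank1 hV hW g hg hg0
  obtain ⟨hk', hr'⟩ := rank1 hV hW g' hg' hg'0
  have hker : LinearMap.ker (g + g') ≠ ⊥ := by
    intro h
    have hinj : Function.Injective (g + g') := LinearMap.ker_eq_bot.mp h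
    exact hgg' ⟨hinj,
      (LinearMap.injective_iff_surjective_of_finrank_eq_finrank (hV.trans hW.symm)).mp hinj⟩
  obtain ⟨u, humem, hu0⟩ := Submodule.exists_mem_ne_zero_of_ne_bot hker
  have hu : g u + g' u = 0 := LinearMap.mem_ker.mp humem
  by_cases hy : g u = 0
  · left
    have hy' : g' u = 0 := by rwa [hy, zero_add] at hu
    exact line_eq _ _ hk hk' u hu0 (LinearMap.mem_ker.mpr hy) (LinearMap.mem_ker.mpr hy')
  · right
    refine line_eq _ _ hr hr' (g u) hy ⟨u, rfl⟩ ⟨-u, ?_⟩
    rw [map_neg]
    exact (eq_neg_of_add_eq_zero_right hu).symm ▸ (neg_neg _)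

end aux

/-- Case of dimension vector (2, 2). Over an algebraically closed field K, if a Kronecker module f with
n arrows between two-dimensional spaces V and W is semistable, then some linear combination Σ_j z_j
f_j of its arrows is a linear isomorphism V → W (equivalently, the determinant of the generic
combination is not identically zero): the semistable locus of dimension vector (2, 2) lies in the
open set of modules whose generic combination is invertible. (The published statement, over an
algebraically closed field of characteristic zero, covers dimension vectors (1, 1) and (2, 2) for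
every n ≥ 2 and (k, k) for two arrows; this row states the (2, 2) case, for any n and without the
characteristic assumption.) -/
theorem result (K : Type u) [Field K] [IsAlgClosed K] (V : Type v) (W : Type w)
    [AddCommGroup V] [Module K V] [FiniteDimensional K V]
    [AddCommGroup W] [Module K W] [FiniteDimensional K W]
    (n : ℕ) (f : Fin n → (V →ₗ[K] W))
    (hV : Module.finrank K V = 2) (hW : Module.finrank K W = 2)
    (hf : KronMod.IsSemistable f) :
    ∃ z : Fin n → K, Function.Bijective ((∑ j, z j • f j : V →ₗ[K] W) : V → W) := by
  classical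
  by_contra hcon
  push Not at hcon
  have sing1 : ∀ i, ¬ Function.Bijective (f i) := by
    intro i
    have h := hcon (Pi.single i 1)
    have e : (∑ j, (Pi.single i (1 : K) : Fin n → K) j • f j : V →ₗ[K] W) = f i := by
      simp [Pi.single_apply, ite_smul]
    rwa [e] at h
  have sing2 : ∀ i k, ¬ Function.Bijective (f i + f k) := by
    intro i k
    have h := hcon (Pi.single i 1 + Pi.single k 1)
    have e : (∑ j, ((Pi.single i (1 : K) + Pi.single k (1 : K) : Fin n → K)) j • f j : V →ₗ[K] W)
        = f i + f k := by
      simp [Pi.single_apply, ite_smul, add_smul, Finset.sum_add_distrib]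
    rwa [e] at h
  obtain ⟨_, hall⟩ := hf
  have hVtop : (⊤ : Submodule K V) ≠ ⊥ := by
    intro h
    have : Module.finrank K V = 0 := by rw [← finrank_top K V, h, finrank_bot]
    omega
  have hWtop : (⊥ : Submodule K W) ≠ ⊤ := by
    intro h
    have : Module.finrank K W = 0 := by rw [← finrank_top K W, ← h, finrank_bot]
    omega
  by_cases hzero : ∀ j, f j = 0
  · have h1 := hall ⊤ ⊥
      (by
        rw [Lib.KronMod88.isSubrep_iff]
        intro j x _
        rw [hzero j]
        simp)
      (fun hh => hVtop hh.1) (fun hh => hWtop hh.2)
    rw [finrank_top, finrank_bot, hV, hW] at h1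
    omega
  · push Not at hzero
    obtain ⟨i, hi⟩ := hzero
    obtain ⟨hki, hri⟩ := rank1 hV hW (f i) (sing1 i) hi
    by_cases hB1 : ∀ j, LinearMap.range (f j) ≤ LinearMap.range (f i)
    · have h1 := hall ⊤ (LinearMap.range (f i))
        (by
          rw [Lib.KronMod88.isSubrep_iff]
          intro j x _
          exact hB1 j ⟨x, rfl⟩)
        (fun hh => hVtop hh.1)
        (fun hh => by
          rw [hh.2, finrank_top] at hri
          omega)
      rw [finrank_top, hri, hV, hW] at h1
      omega
    · push Not at hB1
      obtain ⟨k, hk⟩ := hB1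
      have hk0 : f k ≠ 0 := by
        intro h
        apply hk
        rw [h, LinearMap.range_zero]
        exact bot_le
      have hik : LinearMap.ker (f i) = LinearMap.ker (f k) := by
        rcases claim1 hV hW (f i) (f k) (sing1 i) (sing1 k) (sing2 i k) hi hk0 with h | h
        · exact h
        · exact absurd h.symm.le hk
      have hkey : ∀ j, LinearMap.ker (f i) ≤ LinearMap.ker (f j) := by
        intro j
        by_cases hj0 : f j = 0
        · rw [hj0, LinearMap.ker_zero]
          exact le_top
        · rcases claim1 hV hW (f i) (f j) (sing1 i) (sing1 j) (sing2 i j) hi hj0 with h | h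
          · exact h.le
          · rcases claim1 hV hW (f j) (f k) (sing1 j) (sing1 k) (sing2 j k) hj0 hk0 with h' | h'
            · rw [hik, h']
            · exact absurd (h'.symm.trans h.symm).le hk
      have h1 := hall (LinearMap.ker (f i)) ⊥
        (by
          rw [Lib.KronMod88.isSubrep_iff]
          intro j x hx
          rw [Submodule.mem_bot]
          exact LinearMap.mem_ker.mp (hkey j hx))
        (fun hh => by
          rw [hh.1, finrank_bot] at hki
          omega)
        (fun hh => hWtop hh.2)
      rw [hki, finrank_bot, hV, hW] at h1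
      omega

end Groth.Agent.S15566
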