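import Groth.Statements.S15568
import Mathlib.Analysis.Convex.Topology
import Mathlib.Topology.Order.IntermediateValue
import Mathlib.Analysis.Convex.Segment
import Mathlib.Data.Sign.Basic

set_option autoImplicit false
universe u
open QuiverStab

namespace Groth.Agent.S15568

/-- The pairing `θ · d'`. -/
def pair {I : Type u} [Fintype I] (θ : I → ℝ) (d' : I → ℕ) : ℝ := ∑ i, θ i * (d' i : ℝ)

theorem pair_comb {I : Type u} [Fintype I] (a b : ℝ) (θ θ' : I → ℝ) (d' : I → ℕ) :
    pair (a • θ + b • θ') d' = a * pair θ d' + b * pair θ' d' := by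
  unfold pair
  rw [Finset.mul_sum, Finset.mul_sum, ← Finset.sum_add_distrib]
  refine Finset.sum_congr rfl (fun i _ => ?_)
  simp only [Pi.add_apply, Pi.smul_apply, smul_eq_mul]
  ring

theorem continuous_pair {I : Type u} [Fintype I] (d' : I → ℕ) :
    Continuous (fun θ : I → ℝ => pair θ d') := by
  unfold pair
  exact continuous_finsetSum _ (fun i _ => (continuous_apply i).mul continuous_const)

theorem sign_comb (p q a b : ℝ) (ha : 0 ≤ a) (hb : 0 ≤ b) (hab : a + b = 1)
    (h : SignType.sign p = SignType.sign q) :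
    SignType.sign (a * p + b * q) = SignType.sign p := by
  rcases lt_trichotomy p 0 with hp | hp | hp
  · have hq : q < 0 := by
      rw [sign_neg hp] at h
      exact sign_eq_neg_one_iff.mp h.symm
    rw [sign_neg hp, sign_eq_neg_one_iff]
    rcases eq_or_lt_of_le ha with ha0 | ha0
    · have hb1 : b = 1 := by linarith
      rw [← ha0, hb1]
      linarith
    · have := mul_neg_of_pos_of_neg ha0 hp
      have := mul_nonpos_of_nonneg_of_nonpos hb hq.le
      linarith
  · have hq : q = 0 := by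
      rw [hp, sign_zero] at h
      exact sign_eq_zero_iff.mp h.symm
    rw [hp, hq]
    simp
  · have hq : 0 < q := by
      rw [sign_pos hp] at h
      exact sign_eq_one_iff.mp h.symm
    rw [sign_pos hp, sign_eq_one_iff]
    rcases eq_or_lt_of_le ha with ha0 | ha0
    · have hb1 : b = 1 := by linarith
      rw [← ha0, hb1]
      linarith
    · have := mul_pos ha0 hp
      have := mul_nonneg hb hq.le
      linarith

theorem sign_eq_of_preconnected {α : Type*} [TopologicalSpace α] {C : Set α}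
    (hC : IsPreconnected C) (g : α → ℝ) (hg : Continuous g) (hne : ∀ x ∈ C, g x ≠ 0)
    {x y : α} (hx : x ∈ C) (hy : y ∈ C) :
    SignType.sign (g x) = SignType.sign (g y) := by
  have himg : IsPreconnected (g '' C) := hC.image g hg.continuousOn
  have hgx := hne x hx
  have hgy := hne y hy
  have key : ∀ u v : α, u ∈ C → v ∈ C → g u < 0 → 0 < g v → False := by
    intro u v hu hv hu0 hv0
    have h0 : (0 : ℝ) ∈ g '' C :=
      himg.Icc_subset ⟨u, hu, rfl⟩ ⟨v, hv, rfl⟩ ⟨hu0.le, hv0.le⟩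
    obtain ⟨z, hz, hz0⟩ := h0
    exact hne z hz hz0
  rcases lt_or_gt_of_ne hgx with hx0 | hx0 <;> rcases lt_or_gt_of_ne hgy with hy0 | hy0
  · rw [sign_neg hx0, sign_neg hy0]
  · exact (key x y hx hy hx0 hy0).elim
  · exact (key y x hy hx hy0 hx0).elim
  · rw [sign_pos hx0, sign_pos hy0]

/-- Walls and chambers for stability weights of a quiver. Let I be the finite vertex set, d ∈ ℕ^I a
dimension vector, and call two weights θ₁, θ₂ ∈ ℝ^I orthogonal to d numerically equivalent when, for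
every d′ ≤ d in ℕ^I, the numbers θ₁·d′ and θ₂·d′ are both positive, both negative or both zero. The
walls are the hyperplanes W(d′) = {θ ⊥ d : θ·d′ = 0} of d^⊥ for d′ ≤ d such that d is not a multiple
of d′. Then θ₁ and θ₂ are numerically equivalent if and only if there is a set J₁ of such d′ for
which θ₁ and θ₂ lie in the same connected component of the locally closed subset of d^⊥ consisting
of the weights lying on W(d₁) for every d₁ ∈ J₁ and off W(d₂) for every other wall W(d₂). (Only the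
quiver's vertex set enters; multiples are taken with natural-number factors.) -/
theorem result
    (I : Type u) [Fintype I] (d : I → ℕ) (θ₁ θ₂ : I → ℝ)
    (h₁ : ∑ i, θ₁ i * (d i : ℝ) = 0) (h₂ : ∑ i, θ₂ i * (d i : ℝ) = 0) :
    (∀ d' : I → ℕ, d' ≤ d →
        SignType.sign (∑ i, θ₁ i * (d' i : ℝ)) = SignType.sign (∑ i, θ₂ i * (d' i : ℝ))) ↔
    ∃ J₁ : Set (I → ℕ), J₁ ⊆ {d' | d' ≤ d ∧ ¬ ∃ m : ℕ, d = m • d'} ∧
      θ₂ ∈ connectedComponentIn
        {θ : I → ℝ | ∑ i, θ i * (d i : ℝ) = 0 ∧ (∀ d₁ ∈ J₁, ∑ i, θ i * (d₁ i : ℝ) = 0) ∧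
          ∀ d₂ : I → ℕ, d₂ ≤ d → (¬ ∃ m : ℕ, d = m • d₂) → d₂ ∉ J₁ →
            ∑ i, θ i * (d₂ i : ℝ) ≠ 0} θ₁ := by
  change (∀ d' : I → ℕ, d' ≤ d → SignType.sign (pair θ₁ d') = SignType.sign (pair θ₂ d')) ↔
    ∃ J₁ : Set (I → ℕ), J₁ ⊆ {d' | d' ≤ d ∧ ¬ ∃ m : ℕ, d = m • d'} ∧
      θ₂ ∈ connectedComponentIn
        {θ : I → ℝ | pair θ d = 0 ∧ (∀ d₁ ∈ J₁, pair θ d₁ = 0) ∧
          ∀ d₂ : I → ℕ, d₂ ≤ d → (¬ ∃ m : ℕ, d = m • d₂) → d₂ ∉ J₁ → pair θ d₂ ≠ 0} θ₁
  have h₁' : pair θ₁ d = 0 := h₁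
  have h₂' : pair θ₂ d = 0 := h₂
  constructor
  · intro hsign
    refine ⟨{d' | (d' ≤ d ∧ ¬ ∃ m : ℕ, d = m • d') ∧ pair θ₁ d' = 0}, fun d' hd' => hd'.1, ?_⟩
    have hseg : IsPreconnected (segment ℝ θ₁ θ₂) := (convex_segment θ₁ θ₂).isPreconnected
    refine hseg.subset_connectedComponentIn (left_mem_segment ℝ θ₁ θ₂) ?_
      (right_mem_segment ℝ θ₁ θ₂)
    rintro θ ⟨a, b, ha, hb, hab, rfl⟩
    have hs : ∀ d' : I → ℕ, d' ≤ d →
        SignType.sign (pair (a • θ₁ + b • θ₂) d') = SignType.sign (pair θ₁ d') := by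
      intro d' hd'
      rw [pair_comb]
      exact sign_comb _ _ a b ha hb hab (hsign d' hd')
    refine ⟨?_, ?_, ?_⟩
    · rw [pair_comb, h₁', h₂']
      simp
    · intro d₁ hd₁
      have := hs d₁ hd₁.1.1
      rw [hd₁.2, sign_zero] at this
      exact sign_eq_zero_iff.mp this
    · intro d₂ hd₂ hnm hnJ h0
      have := hs d₂ hd₂
      rw [h0, sign_zero] at this
      exact hnJ ⟨⟨hd₂, hnm⟩, sign_eq_zero_iff.mp this.symm⟩
  · rintro ⟨J₁, hJ₁, hmem⟩
    set S : Set (I → ℝ) := {θ : I → ℝ | pair θ d = 0 ∧ (∀ d₁ ∈ J₁, pair θ d₁ = 0) ∧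
          ∀ d₂ : I → ℕ, d₂ ≤ d → (¬ ∃ m : ℕ, d = m • d₂) → d₂ ∉ J₁ → pair θ d₂ ≠ 0} with hS
    have hθ₁S : θ₁ ∈ S := by
      by_contra hn
      rw [connectedComponentIn_eq_empty hn] at hmem
      exact hmem
    have hθ₁C : θ₁ ∈ connectedComponentIn S θ₁ := mem_connectedComponentIn hθ₁S
    have hCS : connectedComponentIn S θ₁ ⊆ S := connectedComponentIn_subset S θ₁
    have hθ₂S : θ₂ ∈ S := hCS hmem
    intro d' hd'
    by_cases hm : ∃ m : ℕ, d = m • d'
    · obtain ⟨m, hm⟩ := hm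
      have hpair : ∀ θ : I → ℝ, pair θ d = (m : ℝ) * pair θ d' := by
        intro θ
        unfold pair
        rw [Finset.mul_sum]
        refine Finset.sum_congr rfl (fun i _ => ?_)
        rw [hm]
        simp only [Pi.smul_apply, smul_eq_mul, Nat.cast_mul]
        ring
      by_cases hm0 : m = 0
      · have hd0 : d' = 0 := by
          have hd : d = 0 := by rw [hm, hm0, zero_smul]
          exact le_antisymm (hd ▸ hd') (fun i => Nat.zero_le _)
        have hz : ∀ θ : I → ℝ, pair θ d' = 0 := by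
          intro θ
          unfold pair
          rw [hd0]
          simp
        rw [hz, hz]
      · have hmne : (m : ℝ) ≠ 0 := Nat.cast_ne_zero.mpr hm0
        have e1 : pair θ₁ d' = 0 := by
          have := hpair θ₁
          rw [h₁'] at this
          exact (mul_eq_zero.mp this.symm).resolve_left hmne
        have e2 : pair θ₂ d' = 0 := by
          have := hpair θ₂
          rw [h₂'] at this
          exact (mul_eq_zero.mp this.symm).resolve_left hmne
        rw [e1, e2]
    · by_cases hJ : d' ∈ J₁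
      · rw [hθ₁S.2.1 d' hJ, hθ₂S.2.1 d' hJ]
      · exact sign_eq_of_preconnected isPreconnected_connectedComponentIn
          (fun θ => pair θ d') (continuous_pair d')
          (fun θ hθ => (hCS hθ).2.2 d' hd' hm hJ) hθ₁C hmem

end Groth.Agent.S15568
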