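import Groth.Statements.S15572
import Groth.Agent.Lib.KronMod88

set_option autoImplicit false
universe u v w
open KronMod

namespace Groth.Agent.S15572

/-- Let f be a Kronecker module with n arrows over a field K, from V of dimension n·d₀ to W of dimension
d₀ > 0. Then f is semistable if and only if the map V → Wⁿ sending v to (f_j(v))_j is bijective,
i.e. the arrows have zero common kernel. This is the characterisation dual to the one for dimension
vector (d₋₁, n·d₋₁), where the sum map Vⁿ → W is bijective. (The published statement assumes K
algebraically closed of characteristic zero and n ≥ 2; this row allows any field K and any number n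
of arrows.) -/
theorem result (K : Type u) [Field K] (V : Type v) (W : Type w)
    [AddCommGroup V] [Module K V] [FiniteDimensional K V]
    [AddCommGroup W] [Module K W] [FiniteDimensional K W]
    (n : ℕ) (f : Fin n → (V →ₗ[K] W))
    (hW : 0 < Module.finrank K W) (hV : Module.finrank K V = n * Module.finrank K W) :
    KronMod.IsSemistable f ↔ Function.Bijective (fun v : V => fun j : Fin n => f j v) := by
  have hfun : (fun v : V => fun j : Fin n => f j v) = ⇑(Lib.KronMod88.prodMap f) := rfl
  rw [hfun]
  have hdim : Module.finrank K V = Module.finrank K (Fin n → W) := by
    rw [Lib.KronMod88.finrank_pi_const, hV]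
  constructor
  · rintro ⟨_, hall⟩
    have hinj : Function.Injective (Lib.KronMod88.prodMap f) := by
      by_contra hni
      have hne : LinearMap.ker (Lib.KronMod88.prodMap f) ≠ ⊥ := by
        intro h
        exact hni (LinearMap.ker_eq_bot.mp h)
      have hpos : 0 < Module.finrank K (LinearMap.ker (Lib.KronMod88.prodMap f)) :=
        Nat.pos_of_ne_zero (fun h0 => hne (Submodule.finrank_eq_zero.mp h0))
      have h1 := hall (LinearMap.ker (Lib.KronMod88.prodMap f)) ⊥
        (Lib.KronMod88.isSubrep_ker_prodMap_bot f)
        (fun hh => hne hh.1)
        (fun hh => by
          have : (⊥ : Submodule K W) = ⊤ := hh.2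
          have h0 : Module.finrank K W = 0 := by
            rw [← finrank_top K W, ← this, finrank_bot]
          omega)
      rw [finrank_bot, Nat.mul_zero] at h1
      have := Nat.mul_pos hW hpos
      omega
    exact ⟨hinj, (LinearMap.injective_iff_surjective_of_finrank_eq_finrank hdim).mp hinj⟩
  · rintro ⟨hinj, _⟩
    refine ⟨by omega, ?_⟩
    intro V' W' hsub _ _
    have h1 := Lib.KronMod88.finrank_le_mul_of_injective_prodMap f hinj hsub
    rw [hV]
    calc Module.finrank K W * Module.finrank K V'
        ≤ Module.finrank K W * (n * Module.finrank K W') := Nat.mul_le_mul_left _ h1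
      _ = n * Module.finrank K W * Module.finrank K W' := by ring

end Groth.Agent.S15572
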