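import Groth.Statements.S15569
import Groth.Agent.Lib.KronMod88
import Groth.Agent.S15572

set_option autoImplicit false
universe u v w
open KronMod

namespace Groth.Agent.S15569

/-- Over a field K, for W of dimension d₀ > 0 and V of dimension n·d₀, semistable Kronecker modules with
n arrows from V to W exist, and any two of them are isomorphic as Kronecker modules: the moduli
space K(n; n·d₀, d₀) is a single point. This is the case dual to dimension vector (d₋₁, n·d₋₁). (The
published statement assumes K algebraically closed of characteristic zero and n ≥ 2; this row allows
any field K and any number n of arrows.) -/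
theorem result (K : Type u) [Field K] (V : Type v) (W : Type w)
    [AddCommGroup V] [Module K V] [FiniteDimensional K V]
    [AddCommGroup W] [Module K W] [FiniteDimensional K W]
    (n : ℕ) (hW : 0 < Module.finrank K W) (hV : Module.finrank K V = n * Module.finrank K W) :
    (∃ f : Fin n → (V →ₗ[K] W), KronMod.IsSemistable f) ∧
    ∀ f f' : Fin n → (V →ₗ[K] W), KronMod.IsSemistable f → KronMod.IsSemistable f' →
      KronMod.AreIso f f' := by
  have key : ∀ f : Fin n → (V →ₗ[K] W),
      KronMod.IsSemistable f ↔ Function.Bijective (Lib.KronMod88.prodMap f) := by
    intro f
    rw [Groth.Agent.S15572.result K V W n f hW hV]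
    rfl
  constructor
  · obtain ⟨f, hf⟩ := Lib.KronMod88.exists_bijective_prodMap (K := K) (V := V) (W := W) (n := n) hV
    exact ⟨f, (key f).mpr hf⟩
  · intro f f' hf hf'
    exact Lib.KronMod88.areIso_of_bijective_prodMap f f' ((key f).mp hf) ((key f').mp hf')

end Groth.Agent.S15569
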