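import Groth.Statements.S15570
import Groth.Agent.Lib.KronMod88
import Mathlib.LinearAlgebra.Dual.Lemmas

set_option autoImplicit false
universe u v w
open KronMod

namespace Groth.Agent.S15570

/-- Let f be a Kronecker module with n arrows over a field K, from V of dimension n·d₀ to W of dimension
d₀ > 0. Then f is stable if and only if f is semistable and d₀ = 1: for d₀ = 1 every semistable
module is stable (the stable locus of K(n; n, 1) is the one point), while for d₀ > 1 no module is
stable. This is the case dual to dimension vector (d₋₁, n·d₋₁). (The published statement assumes K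
algebraically closed of characteristic zero and n ≥ 2; this row allows any field K and any number n
of arrows.) -/
theorem result (K : Type u) [Field K] (V : Type v) (W : Type w)
    [AddCommGroup V] [Module K V] [FiniteDimensional K V]
    [AddCommGroup W] [Module K W] [FiniteDimensional K W]
    (n : ℕ) (f : Fin n → (V →ₗ[K] W))
    (hW : 0 < Module.finrank K W) (hV : Module.finrank K V = n * Module.finrank K W) :
    KronMod.IsStable f ↔ (KronMod.IsSemistable f ∧ Module.finrank K W = 1) := by
  constructor
  · intro hst
    refine ⟨Lib.KronMod88.IsStable.isSemistable hst, ?_⟩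
    by_contra hne
    have h2 : 2 ≤ Module.finrank K W := by omega
    obtain ⟨w, hw⟩ := Module.finrank_pos_iff_exists_ne_zero.mp hW
    obtain ⟨φ, hφw⟩ := Module.Projective.exists_dual_ne_zero K hw
    have hφ : φ ≠ 0 := by
      rintro rfl
      exact hφw rfl
    have hker := Module.Dual.finrank_ker_add_one_of_ne_zero hφ
    have hle := Lib.KronMod88.finrank_le_finrank_commonComap_add f (LinearMap.ker φ)
    have hsub : Module.finrank K W - Module.finrank K (LinearMap.ker φ) = 1 := by omega
    rw [hsub, Nat.mul_one] at hle
    have h1 := hst.2 (Lib.KronMod88.commonComap f (LinearMap.ker φ)) (LinearMap.ker φ)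
      (Lib.KronMod88.isSubrep_commonComap f _)
      (fun hh => by
        rw [hh.2, finrank_bot] at hker
        omega)
      (fun hh => by
        rw [hh.2, finrank_top] at hker
        omega)
    set c := Module.finrank K (LinearMap.ker φ) with hc
    set dV := Module.finrank K (Lib.KronMod88.commonComap f (LinearMap.ker φ)) with hdV
    have hb : Module.finrank K W = c + 1 := hker.symm
    rw [hV, hb] at h1 hle
    have h3 : n * c ≤ dV := by
      rw [Nat.mul_succ] at hle
      omega
    have h4 : (c + 1) * (n * c) ≤ (c + 1) * dV := Nat.mul_le_mul_left _ h3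
    have h5 : n * (c + 1) * c = (c + 1) * (n * c) := by ring
    omega
  · rintro ⟨hss, h1⟩
    rw [Lib.KronMod88.isStable_iff_isSemistable_and_ne]
    refine ⟨hss, ?_⟩
    intro V' W' _ hbot htop heq
    rw [h1, Nat.one_mul] at heq
    have hle : Module.finrank K W' ≤ 1 := h1 ▸ Submodule.finrank_le W'
    rcases Nat.le_one_iff_eq_zero_or_eq_one.mp hle with h0 | h0
    · rw [h0, Nat.mul_zero] at heq
      exact hbot ⟨Submodule.finrank_eq_zero.mp heq, Submodule.finrank_eq_zero.mp h0⟩
    · rw [h0, Nat.mul_one] at heq
      exact htop ⟨Submodule.eq_top_of_finrank_eq heq,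
        Submodule.eq_top_of_finrank_eq (h0.trans h1.symm)⟩

end Groth.Agent.S15570
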