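import Groth.Statements.S15575
import Groth.Agent.Lib.RInvLoc88
import Groth.Agent.Lib.RInvEtale88
import Groth.Agent.S15573
import Mathlib.RingTheory.Localization.Away.Basic
import Mathlib.RingTheory.Localization.AtPrime.Basic

set_option autoImplicit false
universe u v
open scoped TensorProduct
open RInv

namespace Groth.Agent.S15575

/-- Let `R` be a commutative ring with an involution `lam` and fixed ring `S` (no finiteness assumed).
If the localisation of `R` at a prime `p` of `S` is quadratic etale over `S_p`, then there is `s ∉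
p` with `R[1/s]` quadratic etale over `S[1/s]`; in particular the set of such primes is open in
`Spec S`. Localisations of `R` are written as base changes `S_p ⊗ R` and `S_s ⊗ R`. -/
theorem result (S : Type u) (R : Type v) [CommRing S] [CommRing R]
    [Algebra S R] (lam : R ≃+* R) (hlam : Function.Involutive lam) (hS : RInv.IsFixedRing S R lam)
    (p : PrimeSpectrum S)
    (hp : RInv.IsQuadEtale (Localization.AtPrime p.asIdeal) (Localization.AtPrime p.asIdeal ⊗[S] R)) :
    ∃ s : S, s ∉ p.asIdeal ∧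
      RInv.IsQuadEtale (Localization.Away s) (Localization.Away s ⊗[S] R) := by
  have hsmul1 : ∀ (T : Type u) [CommRing T] [Algebra S T] (s : S),
      s • (1 : T ⊗[S] R) = (1 : T) ⊗ₜ[S] (algebraMap S R s) := by
    intro T _ _ s
    rw [Algebra.TensorProduct.one_def, TensorProduct.smul_tmul', TensorProduct.smul_tmul,
      Algebra.algebraMap_eq_smul_one]
  have hfixp := Lib.RInvLoc88.isFixedRing_lamBC lam hS (Localization.AtPrime p.asIdeal)
    p.asIdeal.primeCompl
  have hinvp := Lib.RInvLoc88.lamBC_involutive lam hlam hS (Localization.AtPrime p.asIdeal)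
  obtain ⟨ρ, hρ⟩ := Lib.RInvEtale88.exists_isUnit_sub_of_isQuadEtale
    (Lib.RInvLoc88.lamBC lam (Localization.AtPrime p.asIdeal) hS) hinvp hfixp hp
  obtain ⟨⟨r, m₁⟩, h1⟩ := IsLocalizedModule.surj p.asIdeal.primeCompl
    (TensorProduct.mk S (Localization.AtPrime p.asIdeal) R 1) ρ
  have h1' : (m₁ : S) • ρ = (1 : Localization.AtPrime p.asIdeal) ⊗ₜ[S] r := h1
  -- `1 ⊗ (r - lam r)` is a unit
  have hu : IsUnit ((1 : Localization.AtPrime p.asIdeal) ⊗ₜ[S] (r - lam r)) := by
    have e : (1 : Localization.AtPrime p.asIdeal) ⊗ₜ[S] (r - lam r)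
        = (m₁ : S) • (ρ - Lib.RInvLoc88.lamBC lam (Localization.AtPrime p.asIdeal) hS ρ) := by
      rw [smul_sub, ← Lib.RInvLoc88.lamBC_smul, h1', Lib.RInvLoc88.lamBC_tmul,
        TensorProduct.tmul_sub]
    rw [e, ← algebraMap_smul (Localization.AtPrime p.asIdeal) (m₁ : S), Algebra.smul_def]
    exact ((IsLocalization.map_units (Localization.AtPrime p.asIdeal) m₁).map _).mul hρ
  obtain ⟨y, hy⟩ := hu.exists_right_inv
  obtain ⟨⟨r', m₂⟩, h2⟩ := IsLocalizedModule.surj p.asIdeal.primeCompl
    (TensorProduct.mk S (Localization.AtPrime p.asIdeal) R 1) y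
  have h2' : (m₂ : S) • y = (1 : Localization.AtPrime p.asIdeal) ⊗ₜ[S] r' := h2
  have h3 : (1 : Localization.AtPrime p.asIdeal) ⊗ₜ[S] ((r - lam r) * r')
      = (1 : Localization.AtPrime p.asIdeal) ⊗ₜ[S] (algebraMap S R m₂) := by
    have e : (1 : Localization.AtPrime p.asIdeal) ⊗ₜ[S] ((r - lam r) * r')
        = ((1 : Localization.AtPrime p.asIdeal) ⊗ₜ[S] (r - lam r))
          * ((1 : Localization.AtPrime p.asIdeal) ⊗ₜ[S] r') := by
      rw [Algebra.TensorProduct.tmul_mul_tmul, one_mul]
    rw [e, ← h2', mul_smul_comm, hy, hsmul1]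
  obtain ⟨c, hc⟩ := IsLocalizedModule.exists_of_eq (S := p.asIdeal.primeCompl)
    (f := TensorProduct.mk S (Localization.AtPrime p.asIdeal) R 1) h3
  have hc' : (c : S) • ((r - lam r) * r') = (c : S) • algebraMap S R m₂ := hc
  refine ⟨(c * m₂ : p.asIdeal.primeCompl), (c * m₂ : p.asIdeal.primeCompl).2, ?_⟩
  set s : S := ((c * m₂ : p.asIdeal.primeCompl) : S) with hs
  have hfixs := Lib.RInvLoc88.isFixedRing_lamBC lam hS (Localization.Away s) (Submonoid.powers s)
  have hinvs := Lib.RInvLoc88.lamBC_involutive lam hlam hS (Localization.Away s)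
  refine Groth.Agent.S15573.result (Localization.Away s) (Localization.Away s ⊗[S] R)
    (Lib.RInvLoc88.lamBC lam (Localization.Away s) hS) hinvs hfixs
    ⟨(1 : Localization.Away s) ⊗ₜ[S] r, ?_⟩
  rw [Lib.RInvLoc88.lamBC_tmul, ← TensorProduct.tmul_sub]
  have hmul : ((1 : Localization.Away s) ⊗ₜ[S] (r - lam r))
      * ((1 : Localization.Away s) ⊗ₜ[S] ((c : S) • r'))
      = algebraMap (Localization.Away s) (Localization.Away s ⊗[S] R)
          (algebraMap S (Localization.Away s) s) := by
    rw [Algebra.TensorProduct.tmul_mul_tmul, one_mul, mul_smul_comm, hc',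
      ← Lib.RInvLoc88.one_tmul_algebraMap, hs, Submonoid.coe_mul, map_mul, Algebra.smul_def]
  have hunit : IsUnit (((1 : Localization.Away s) ⊗ₜ[S] (r - lam r))
      * ((1 : Localization.Away s) ⊗ₜ[S] ((c : S) • r'))) := by
    rw [hmul]
    exact (IsLocalization.Away.algebraMap_isUnit s).map _
  exact isUnit_of_mul_isUnit_left hunit

end Groth.Agent.S15575
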