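import Groth.Statements.S15577
import Groth.Agent.Lib.RInvEtale88
import Mathlib.RingTheory.LocalRing.Basic

set_option autoImplicit false
universe u v
open RInv

namespace Groth.Agent.S15577

/-- Let `R` be a commutative ring with an involution `lam` whose fixed ring `S` is local. If `lam`
induces the identity on `R` modulo its Jacobson radical, then `R` is a local ring and is not a
quadratic etale `S`-algebra. -/
theorem result (S : Type u) (R : Type v) [CommRing S] [CommRing R]
    [Algebra S R] (lam : R ≃+* R) (hlam : Function.Involutive lam) (hS : RInv.IsFixedRing S R lam)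
    [IsLocalRing S] (h : ∀ r : R, lam r - r ∈ Ring.jacobson R) :
    IsLocalRing R ∧ ¬ RInv.IsQuadEtale S R := by
  refine ⟨?_, Lib.RInvEtale88.not_isQuadEtale_of_forall_sub_mem_jacobson lam hS h⟩
  have : Nontrivial R := Lib.RInv88.nontrivial_of_nontrivial lam hS
  obtain ⟨M, hM⟩ := Ideal.exists_maximal R
  apply IsLocalRing.of_unique_max_ideal
  refine ⟨M, hM, ?_⟩
  intro M' hM'
  have hM'max : Ideal.IsMaximal M' := hM'
  rcases Lib.RInv88.eq_or_eq_comap_of_isMaximal lam hlam hS M M' with e | e
  · exact e
  · rw [e]
    ext x
    rw [Ideal.mem_comap]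
    have hJ : lam x - x ∈ M := Ring.jacobson_le_of_isMaximal M (h x)
    constructor
    · intro hx
      have := M.sub_mem hx hJ
      rwa [sub_sub_cancel] at this
    · intro hx
      have := M.add_mem hJ hx
      rwa [sub_add_cancel] at this

end Groth.Agent.S15577
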