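import Groth.Statements.S15579
import Mathlib.RingTheory.Unramified.Field
import Mathlib.RingTheory.LocalRing.Quotient
import Mathlib.RingTheory.Ideal.GoingUp
import Mathlib.RingTheory.KrullDimension.Basic
import Mathlib.RingTheory.HopkinsLevitzki
import Mathlib.RingTheory.Ideal.Quotient.Nilpotent

set_option autoImplicit false
universe u v
open RInv

namespace Groth.Agent.S15579

/-- For a local ring `S` with maximal ideal `m` and a quadratic etale `S`-algebra `R`, the Jacobson
radical of `R` is `mR`. -/
theorem result (S : Type u) (R : Type v) [CommRing S]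
    [CommRing R] [Algebra S R] [IsLocalRing S] (hq : RInv.IsQuadEtale S R) :
    Ring.jacobson R = (IsLocalRing.maximalIdeal S).map (algebraMap S R) := by
  obtain ⟨hfin, _, hunr, _⟩ := hq
  apply le_antisymm
  · -- `Jac R ≤ m R`: the quotient is reduced and zero-dimensional
    apply Ring.jacobson_le_of_eq_bot
    have hrad : ((IsLocalRing.maximalIdeal S).map (algebraMap S R)).IsRadical :=
      Algebra.FormallyUnramified.isRadical_map_isMaximal S R (IsLocalRing.maximalIdeal S)
    have hred : IsReduced (R ⧸ (IsLocalRing.maximalIdeal S).map (algebraMap S R)) :=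
      (Ideal.isRadical_iff_quotient_reduced _).mp hrad
    let _ : Field (S ⧸ IsLocalRing.maximalIdeal S) := Ideal.Quotient.field _
    have hfin' : Module.Finite (S ⧸ IsLocalRing.maximalIdeal S)
        (R ⧸ (IsLocalRing.maximalIdeal S).map (algebraMap S R)) :=
      Module.Finite.of_restrictScalars_finite S _ _
    have hart : IsArtinianRing (R ⧸ (IsLocalRing.maximalIdeal S).map (algebraMap S R)) :=
      IsArtinianRing.of_finite (S ⧸ IsLocalRing.maximalIdeal S) _
    rw [Ring.jacobson_eq_nilradical_of_krullDimLE_zero]
    exact nilradical_eq_zero _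
  · -- `m R ≤ Jac R`: maximal ideals of `R` lie over `m`
    rw [Ring.jacobson_eq_sInf_isMaximal]
    apply le_sInf
    intro M hM
    have hMmax : Ideal.IsMaximal M := hM
    rw [Ideal.map_le_iff_le_comap]
    have : (M.comap (algebraMap S R)).IsMaximal :=
      Ideal.isMaximal_comap_of_isIntegral_of_isMaximal M
    rw [IsLocalRing.eq_maximalIdeal this]

end Groth.Agent.S15579
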