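import Groth.Statements.S1558
import Groth.Agent.S0002
import Groth.Agent.Lib.CurveDeg48d

set_option autoImplicit false
universe u
open CategoryTheory CategoryTheory.Limits AlgebraicGeometry
open Variety

namespace Groth.Agent.S1558

/-- On a proper scheme over a field, if F is coherent with support of dimension at most zero and E is
finite locally free of rank n, then χ(X, F ⊗ E) = n · χ(X, F). -/
theorem result (k : Type u) [Field k] (X : Scheme.{u}) [X.Over (Spec (CommRingCat.of k))] [IsProper (X ↘ (Spec (CommRingCat.of k)))]
    (F : X.Modules) (hF : Coh.IsCoh F) (hsupp : topologicalKrullDim (CohB1.support F) ≤ 0)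
    (n : ℕ) (E : X.Modules) (hE : FlatMod.IsFinLocFreeOfRank n E) :
    Curv2.euler k X (CohB1.tensorMod F E) = n * Curv2.euler k X F :=
  Groth.Agent.Lib.CurveDeg48.euler_tensorMod_of_dim_support_le_zero
    (fun A _ _ X _ _ M hM n => Groth.Agent.S0002.result A X M hM n) k X F hF hsupp n E hE

end Groth.Agent.S1558
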