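import Groth.Statements.S15580
import Groth.Agent.Lib.RInvEtale88

set_option autoImplicit false
universe u v
open RInv

namespace Groth.Agent.S15580

/-- Let `S` be a local ring, `R` a quadratic etale `S`-algebra and `lam` an involution of `R` with fixed
ring `S`. Then every unit `r` of `R` with `lam r * r = 1` can be written `a⁻¹ * lam a` for a unit
`a` of `R`. -/
theorem result (S : Type u) (R : Type v) [CommRing S] [CommRing R]
    [Algebra S R] (lam : R ≃+* R) (hlam : Function.Involutive lam) (hS : RInv.IsFixedRing S R lam)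
    [IsLocalRing S] (hq : RInv.IsQuadEtale S R) (r : Rˣ) (hr : lam r * r = 1) :
    ∃ a : Rˣ, (r : R) = (a⁻¹ : Rˣ) * lam a := by
  have hlam2 : ∀ a, lam (lam a) = a := hlam
  -- it suffices to find a unit `a` with `lam a = r * a`
  suffices hsuff : ∃ a : R, IsUnit a ∧ lam a = r * a by
    obtain ⟨a, ⟨u, rfl⟩, hua⟩ := hsuff
    refine ⟨u, ?_⟩
    rw [hua, mul_comm (r : R), ← mul_assoc, Units.inv_mul, one_mul]
  obtain ⟨ρ, hρ⟩ := Lib.RInvEtale88.exists_isUnit_sub_of_isQuadEtale lam hlam hS hq
  have hrr : (r : R) * lam r = 1 := by rw [mul_comm]; exact hr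
  -- the twisted traces `a(c) = c + lam c * lam r` satisfy `lam (a c) = r * a c`
  have htw : ∀ c : R, lam (c + lam c * lam r) = r * (c + lam c * lam r) := by
    intro c
    rw [map_add, map_mul, hlam2, hlam2, mul_add]
    have : (r : R) * (lam c * lam r) = lam c * ((r : R) * lam r) := by ring
    rw [this, hrr, mul_one]
    ring
  by_cases h1 : IsUnit ((1 : R) + lam 1 * lam r)
  · exact ⟨_, h1, htw 1⟩
  · by_cases h2 : IsUnit (ρ + lam ρ * lam r)
    · exact ⟨_, h2, htw ρ⟩
    · exfalso
      obtain ⟨M, hM, h1M⟩ := exists_max_ideal_of_mem_nonunits h1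
      obtain ⟨M', hM', h2M'⟩ := exists_max_ideal_of_mem_nonunits h2
      have h2M : ρ + lam ρ * lam r ∈ M := by
        rcases Lib.RInv88.eq_or_eq_comap_of_isMaximal lam hlam hS M M' with e | e
        · exact e ▸ h2M'
        · rw [e, Ideal.mem_comap, htw ρ] at h2M'
          have : ρ + lam ρ * lam r = (↑r⁻¹ : R) * ((r : R) * (ρ + lam ρ * lam r)) := by
            rw [← mul_assoc, Units.inv_mul, one_mul]
          rw [this]
          exact M.mul_mem_left _ h2M'
      have hu : ρ - lam ρ ∈ M := by
        have : ρ - lam ρ = (ρ + lam ρ * lam r) - lam ρ * ((1 : R) + lam 1 * lam r) := by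
          rw [map_one]
          ring
        rw [this]
        exact M.sub_mem h2M (M.mul_mem_left _ h1M)
      exact hM.ne_top (Ideal.eq_top_of_isUnit_mem _ hu hρ)

end Groth.Agent.S15580
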