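import Groth.Statements.S15581
import Mathlib.RingTheory.Jacobson.Ideal
import Mathlib.RingTheory.LocalRing.MaximalIdeal.Basic

set_option autoImplicit false
universe u v
open RInv

namespace Groth.Agent.S15581

/-- Let `A` be a commutative ring with an involution `lam` whose fixed ring `B` is local with `2`
invertible. Then `Jac(A)^2 ⊆ Jac(B) A`. -/
theorem result (B : Type u) (A : Type v) [CommRing B]
    [CommRing A] [Algebra B A] (lam : A ≃+* A) (hlam : Function.Involutive lam)
    (hB : RInv.IsFixedRing B A lam) [IsLocalRing B] (h2 : IsUnit (2 : B)) :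
    (Ring.jacobson A) ^ 2 ≤ (IsLocalRing.maximalIdeal B).map (algebraMap B A) := by
  obtain ⟨hinj, hfix⟩ := hB
  have hlam2 : ∀ a, lam (lam a) = a := hlam
  have : Nontrivial A := hinj.nontrivial
  -- membership in the Jacobson radical
  have hmemJ : ∀ x : A, x ∈ Ring.jacobson A ↔ ∀ y, IsUnit (x * y + 1) := by
    intro x
    rw [← Ideal.jacobson_bot]
    exact Ideal.mem_jacobson_bot
  -- `lam` preserves the Jacobson radical
  have hlamJ : ∀ x ∈ Ring.jacobson A, lam x ∈ Ring.jacobson A := by
    intro x hx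
    rw [hmemJ] at hx ⊢
    intro y
    have h1 := hx (lam y)
    have h2 : lam (x * lam y + 1) = lam x * y + 1 := by
      rw [map_add, map_mul, hlam2, map_one]
    rw [← h2]
    exact h1.map lam
  -- elements of `B` in the Jacobson radical of `A` lie in the maximal ideal
  have hBJ : ∀ b : B, algebraMap B A b ∈ Ring.jacobson A → b ∈ IsLocalRing.maximalIdeal B := by
    intro b hb
    rw [IsLocalRing.mem_maximalIdeal]
    intro hu
    have h1 := (hmemJ _).mp hb (algebraMap B A ((hu.unit⁻¹ : Bˣ) : B) * (-1))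
    have h2 : algebraMap B A b * (algebraMap B A ((hu.unit⁻¹ : Bˣ) : B) * (-1)) + 1 = 0 := by
      rw [← mul_assoc, ← map_mul]
      have : b * ((hu.unit⁻¹ : Bˣ) : B) = 1 := hu.mul_val_inv
      rw [this, map_one]
      ring
    rw [h2] at h1
    exact not_isUnit_zero h1
  set I := (IsLocalRing.maximalIdeal B).map (algebraMap B A) with hI
  -- fixed elements of the Jacobson radical lie in `I`
  have hfixI : ∀ x ∈ Ring.jacobson A, lam x = x → x ∈ I := by
    intro x hx hlx
    obtain ⟨b, rfl⟩ := (hfix x).mp hlx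
    exact Ideal.mem_map_of_mem _ (hBJ b hx)
  rw [sq, Ideal.mul_le]
  intro x hx y hy
  have hx' := hlamJ x hx
  have hy' := hlamJ y hy
  have h1 : x + lam x ∈ I := hfixI _ (Ideal.add_mem _ hx hx') (by
    rw [map_add, hlam2, add_comm])
  have h2' : y + lam y ∈ I := hfixI _ (Ideal.add_mem _ hy hy') (by
    rw [map_add, hlam2, add_comm])
  have h3 : (x - lam x) * (y - lam y) ∈ I := hfixI _
    (Ideal.mul_mem_right _ _ (Ideal.sub_mem _ hx hx')) (by
      rw [map_mul, map_sub, map_sub, hlam2, hlam2]
      ring)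
  have h4 : (4 : A) * (x * y) ∈ I := by
    have e : (4 : A) * (x * y) = (x + lam x) * (y + lam y) + (x + lam x) * (y - lam y)
        + (x - lam x) * (y + lam y) + (x - lam x) * (y - lam y) := by ring
    rw [e]
    exact Ideal.add_mem _ (Ideal.add_mem _ (Ideal.add_mem _ (Ideal.mul_mem_right _ _ h1)
      (Ideal.mul_mem_right _ _ h1)) (Ideal.mul_mem_left _ _ h2')) h3
  have h4u : IsUnit (4 : A) := by
    have : (4 : A) = algebraMap B A (2 * 2) := by
      rw [map_mul, map_ofNat]
      norm_num
    rw [this]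
    exact (h2.mul h2).map _
  obtain ⟨u, hu⟩ := h4u
  have : x * y = (↑u⁻¹ : A) * ((4 : A) * (x * y)) := by
    rw [← hu, ← mul_assoc, Units.inv_mul, one_mul]
  rw [this]
  exact Ideal.mul_mem_left _ _ h4

end Groth.Agent.S15581
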