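import Groth.Statements.S15582
import Mathlib.Topology.Sheaves.LocallySurjective
import Mathlib.Topology.Sheaves.SheafCondition.UniqueGluing

set_option autoImplicit false
universe u
open CategoryTheory TopologicalSpace
open CohTop

namespace Groth.Agent.S15582

open Opposite TopCat

/-- Sections of a sheaf of types over the empty open set are unique. -/
theorem eq_of_le_bot {X : TopCat.{u}} (F : TopCat.Sheaf (Type u) X) (N : Opens X) (hN : N ≤ ⊥)
    (a b : F.1.obj (op N)) : a = b := by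
  refine F.eq_of_locally_eq' (fun e : PEmpty.{u + 1} => e.elim) N (fun e => e.elim) ?_ a b
    (fun e => e.elim)
  exact hN.trans bot_le

/-- Core gluing statement: a locally surjective map of sheaves of sets is surjective on sections
over a neighbourhood of any subset whose points have pairwise disjoint open neighbourhoods. -/
theorem core {X : TopCat.{u}} (F G : TopCat.Sheaf (Type u) X) (φ : F ⟶ G)
    (hφ : ∀ (U : Opens X) (t : G.1.obj (op U)), ∀ x ∈ U,
      ∃ (W : Opens X) (hW : W ≤ U), (∃ s : F.1.obj (op W),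
        φ.hom.app (op W) s = G.1.map (homOfLE hW).op t) ∧ x ∈ W)
    (Z : Set X) (Ufun : X → Set X) (hU : ∀ x ∈ Z, IsOpen (Ufun x) ∧ x ∈ Ufun x)
    (hdisj : Z.PairwiseDisjoint Ufun) (P : Opens X) (hZP : Z ⊆ P) (t : G.1.obj (op P)) :
    ∃ (N : Opens X) (hN : N ≤ P), Z ⊆ N ∧
      ∃ s : F.1.obj (op N), φ.hom.app (op N) s = G.1.map (homOfLE hN).op t := by
  have hloc : ∀ x : Z, ∃ (W : Opens X) (hW : W ≤ P), (∃ s : F.1.obj (op W),
        φ.hom.app (op W) s = G.1.map (homOfLE hW).op t) ∧ (x : X) ∈ W :=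
    fun x => hφ P t x (hZP x.2)
  choose W₀ hW₀ hs₀ hxW₀ using hloc
  choose s₀ hs₀ using hs₀
  let N : Z → Opens X := fun x => W₀ x ⊓ ⟨Ufun x, (hU x x.2).1⟩
  let sf : ∀ x : Z, F.1.obj (op (N x)) := fun x => F.1.map (Opens.infLELeft _ _).op (s₀ x)
  have hNU : ∀ x : Z, ((N x : Opens X) : Set X) ⊆ Ufun x := fun x a ha => ha.2
  have hcompat : TopCat.Presheaf.IsCompatible F.1 N sf := by
    intro i j
    by_cases hij : i = j
    · subst hij
      rfl
    · apply eq_of_le_bot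
      intro a ha
      have h1 : a ∈ Ufun i := hNU i ha.1
      have h2 : a ∈ Ufun j := hNU j ha.2
      have hne : (i : X) ≠ (j : X) := fun h => hij (Subtype.ext h)
      exact (Set.disjoint_left.mp (hdisj i.2 j.2 hne) h1 h2).elim
  obtain ⟨s, hs, -⟩ := F.existsUnique_gluing N sf hcompat
  have hNP : ∀ x : Z, N x ≤ P := fun x => inf_le_left.trans (hW₀ x)
  refine ⟨iSup N, iSup_le hNP, ?_, s, ?_⟩
  · intro x hx
    exact Opens.mem_iSup.mpr ⟨⟨x, hx⟩, hxW₀ ⟨x, hx⟩, (hU x hx).2⟩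
  · refine TopCat.Sheaf.eq_app_of_locally_eq hs hNP ?_
    intro i
    change φ.hom.app (op (N i)) (F.1.map (Opens.infLELeft _ _).op (s₀ i)) = _
    have hnat := NatTrans.naturality_apply φ.hom (Opens.infLELeft (W₀ i)
      (⟨Ufun i, (hU i i.2).1⟩ : Opens X)).op (s₀ i)
    rw [hnat, hs₀ i, ← ConcreteCategory.comp_apply, ← G.1.map_comp]
    rfl

/-- Let `π : X → Y` be a continuous map such that every open set containing a fibre `π⁻¹(y)` contains
the preimage of an open neighbourhood of `y`, and such that every fibre is finite with its points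
separated by pairwise disjoint open sets of `X`. Then the direct image of sheaves of sets along `π`
preserves epimorphisms. -/
theorem result
    {X Y : TopCat.{u}} (π : X ⟶ Y)
    (h1 : ∀ (y : Y) (U : Set X), IsOpen U → π ⁻¹' {y} ⊆ U →
      ∃ V : Set Y, IsOpen V ∧ y ∈ V ∧ π ⁻¹' V ⊆ U)
    (h2 : ∀ y : Y, (π ⁻¹' {y}).Finite ∧ ∃ U : X → Set X,
      (∀ x ∈ π ⁻¹' {y}, IsOpen (U x) ∧ x ∈ U x) ∧ (π ⁻¹' {y}).PairwiseDisjoint U) :
    (TopCat.Sheaf.pushforward (Type u) π).PreservesEpimorphisms := by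
  constructor
  intro F G φ hφ
  rw [← TopCat.Sheaf.isLocallySurjective_iff_epi] at hφ ⊢
  rw [TopCat.Presheaf.isLocallySurjective_iff] at hφ ⊢
  intro V t y hy
  obtain ⟨_, Ufun, hU, hdisj⟩ := h2 y
  have hφ' : ∀ (U : Opens X) (t : G.1.obj (op U)), ∀ x ∈ U,
      ∃ (W : Opens X) (hW : W ≤ U), (∃ s : F.1.obj (op W),
        φ.hom.app (op W) s = G.1.map (homOfLE hW).op t) ∧ x ∈ W := hφ
  have hZP : π ⁻¹' {y} ⊆ ((Opens.map π).obj V : Opens X) := by
    intro x hx
    change π x ∈ V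
    rw [Set.mem_preimage, Set.mem_singleton_iff] at hx
    rw [hx]
    exact hy
  obtain ⟨N, hN, hZN, s, hs⟩ := core F G φ hφ' (π ⁻¹' {y}) Ufun hU hdisj
    ((Opens.map π).obj V) hZP t
  obtain ⟨V₀, hV₀open, hyV₀, hV₀N⟩ := h1 y N N.2 hZN
  let V' : Opens Y := ⟨V₀, hV₀open⟩ ⊓ V
  have hV'N : (Opens.map π).obj V' ≤ N := fun x hx => hV₀N hx.1
  refine ⟨V', inf_le_right, ⟨F.1.map (homOfLE hV'N).op s, ?_⟩, ⟨hyV₀, hy⟩⟩
  change φ.hom.app (op ((Opens.map π).obj V')) (F.1.map (homOfLE hV'N).op s) = _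
  have hnat := NatTrans.naturality_apply φ.hom (homOfLE hV'N).op s
  rw [hnat, hs, ← ConcreteCategory.comp_apply, ← G.1.map_comp]
  rfl

end Groth.Agent.S15582
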