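import Groth.Statements.S15585
import Mathlib.RingTheory.Unramified.Field
import Mathlib.RingTheory.LocalRing.Quotient
import Mathlib.RingTheory.LocalRing.Module
import Mathlib.RingTheory.KrullDimension.Basic
import Mathlib.RingTheory.HopkinsLevitzki
import Mathlib.RingTheory.Ideal.Quotient.Nilpotent
import Mathlib.Algebra.Algebra.Prod

set_option autoImplicit false
universe u v
open RInv

namespace Groth.Agent.S15585

section aux

variable {k : Type u} {A : Type v} [Field k] [CommRing A] [Algebra k A] [FiniteDimensional k A]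

theorem finrank_quot_eq_one (h2 : Module.finrank k A = 2) (M : Ideal A) [hM : M.IsMaximal]
    (hne : M ≠ ⊥) : Module.finrank k (A ⧸ M) = 1 := by
  have h := Submodule.finrank_quotient_add_finrank (M.restrictScalars k)
  have e := (Submodule.Quotient.restrictScalarsEquiv k M).finrank_eq
  have : Nontrivial (A ⧸ M) := Ideal.Quotient.nontrivial_iff.mpr hM.ne_top
  have hpos1 : 0 < Module.finrank k (A ⧸ M) := (Module.finrank_pos_iff (R := k)).mpr inferInstance
  have hpos2 : 0 < Module.finrank k (M.restrictScalars k) := by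
    apply Nat.pos_of_ne_zero
    intro h0
    exact hne ((Submodule.restrictScalars_eq_bot_iff k A A).mp (Submodule.finrank_eq_zero.mp h0))
  omega

/-- A nontrivial one-dimensional algebra over a field is the field. -/
noncomputable def equivOfFinrankOne (B : Type v) [CommRing B] [Algebra k B] [Nontrivial B]
    [FiniteDimensional k B] (h : Module.finrank k B = 1) : k ≃ₐ[k] B :=
  AlgEquiv.ofBijective (Algebra.ofId k B) (by
    have hinj : Function.Injective (Algebra.linearMap k B) := (algebraMap k B).injective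
    have hsurj : Function.Surjective (Algebra.linearMap k B) :=
      (LinearMap.injective_iff_surjective_of_finrank_eq_finrank
        (by rw [Module.finrank_self, h])).mp hinj
    exact ⟨hinj, hsurj⟩)

theorem prodEquiv (h2 : Module.finrank k A = 2) (hred : IsReduced A) (hnf : ¬ IsField A) :
    Nonempty (A ≃ₐ[k] k × k) := by
  have : Nontrivial A := (Module.finrank_pos_iff (R := k)).mp (by omega)
  obtain ⟨M₁, hM₁ne, hM₁max⟩ := Ring.exists_maximal_of_not_isField hnf
  obtain ⟨x, hxM₁, hx0⟩ := Submodule.exists_mem_ne_zero_of_ne_bot hM₁ne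
  have hart : IsArtinianRing A := IsArtinianRing.of_finite k A
  have hJ : Ring.jacobson A = ⊥ := by
    rw [Ring.jacobson_eq_nilradical_of_krullDimLE_zero]
    exact nilradical_eq_zero _
  have hxJ : x ∉ Ring.jacobson A := by
    rw [hJ, Submodule.mem_bot]
    exact hx0
  rw [Ring.jacobson_eq_sInf_isMaximal, Submodule.mem_sInf] at hxJ
  push Not at hxJ
  obtain ⟨M₂, hM₂, hxM₂⟩ := hxJ
  have hM₂max : Ideal.IsMaximal M₂ := hM₂
  have hM₂ne : M₂ ≠ ⊥ := by
    intro h
    apply hM₁ne
    have hle : M₂ ≤ M₁ := h ▸ bot_le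
    rw [← hM₂max.eq_of_le hM₁max.ne_top hle, h]
  have : Nontrivial (A ⧸ M₁) := Ideal.Quotient.nontrivial_iff.mpr hM₁max.ne_top
  have : Nontrivial (A ⧸ M₂) := Ideal.Quotient.nontrivial_iff.mpr hM₂max.ne_top
  let e₁ := equivOfFinrankOne (k := k) (A ⧸ M₁) (finrank_quot_eq_one h2 M₁ hM₁ne)
  let e₂ := equivOfFinrankOne (k := k) (A ⧸ M₂) (finrank_quot_eq_one h2 M₂ hM₂ne)
  let ψ₁ : A →ₐ[k] k := (e₁.symm : (A ⧸ M₁) →ₐ[k] k).comp (Ideal.Quotient.mkₐ k M₁)
  let ψ₂ : A →ₐ[k] k := (e₂.symm : (A ⧸ M₂) →ₐ[k] k).comp (Ideal.Quotient.mkₐ k M₂)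
  have hψ₁ : ψ₁ x = 0 := by
    change e₁.symm (Ideal.Quotient.mk M₁ x) = 0
    rw [Ideal.Quotient.eq_zero_iff_mem.mpr hxM₁, map_zero]
  have hψ₂ : ψ₂ x ≠ 0 := by
    change e₂.symm (Ideal.Quotient.mk M₂ x) ≠ 0
    intro h
    have := e₂.symm.injective (h.trans (map_zero e₂.symm).symm)
    exact hxM₂ (Ideal.Quotient.eq_zero_iff_mem.mp this)
  let φ : A →ₐ[k] k × k := AlgHom.prod ψ₁ ψ₂
  have hsurj : Function.Surjective φ := by
    rintro ⟨a, b⟩
    refine ⟨a • (1 : A) + ((b - a) * (ψ₂ x)⁻¹) • x, ?_⟩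
    change (ψ₁ _, ψ₂ _) = (a, b)
    rw [map_add, map_add, map_smul, map_smul, map_smul, map_smul, map_one, map_one, hψ₁]
    simp only [smul_eq_mul, mul_one, mul_zero, add_zero]
    rw [mul_assoc, inv_mul_cancel₀ hψ₂, mul_one]
    congr 1
    ring
  have hinj : Function.Injective φ := by
    have hdim : Module.finrank k A = Module.finrank k (k × k) := by
      rw [h2, Module.finrank_prod, Module.finrank_self]
    exact (LinearMap.injective_iff_surjective_of_finrank_eq_finrank (f := φ.toLinearMap)
      hdim).mpr hsurj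
  exact ⟨AlgEquiv.ofBijective φ ⟨hinj, hsurj⟩⟩

end aux

/-- For a local ring `S` (maximal ideal `m`, residue field `k`) and a quadratic etale `S`-algebra `R`,
the ring `R/mR` is a field that is a separable extension of `k` of degree 2, or else it is
isomorphic as a `k`-algebra to `k × k`. -/
theorem result (S : Type u) (R : Type v) [CommRing S]
    [CommRing R] [Algebra S R] [IsLocalRing S] (hq : RInv.IsQuadEtale S R) :
    (IsField (R ⧸ (IsLocalRing.maximalIdeal S).map (algebraMap S R)) ∧
      Module.finrank (S ⧸ IsLocalRing.maximalIdeal S)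
        (R ⧸ (IsLocalRing.maximalIdeal S).map (algebraMap S R)) = 2 ∧
      Algebra.IsSeparable (S ⧸ IsLocalRing.maximalIdeal S)
        (R ⧸ (IsLocalRing.maximalIdeal S).map (algebraMap S R))) ∨
    Nonempty ((R ⧸ (IsLocalRing.maximalIdeal S).map (algebraMap S R)) ≃ₐ[S ⧸ IsLocalRing.maximalIdeal S]
      ((S ⧸ IsLocalRing.maximalIdeal S) × (S ⧸ IsLocalRing.maximalIdeal S))) := by
  obtain ⟨hfin, hproj, hunr, hrank⟩ := hq
  let _ : Field (S ⧸ IsLocalRing.maximalIdeal S) := Ideal.Quotient.field _
  have hfree : Module.Free S R := Module.free_of_flat_of_isLocalRing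
  have hrk : Module.finrank S R = 2 := by
    have h1 := hrank (IsLocalRing.closedPoint S)
    rw [Module.rankAtStalk_eq_finrank_of_free] at h1
    exact_mod_cast h1
  have h2 : Module.finrank (S ⧸ IsLocalRing.maximalIdeal S)
      (R ⧸ (IsLocalRing.maximalIdeal S).map (algebraMap S R)) = 2 := by
    rw [IsLocalRing.finrank_quotient_map, hrk]
  have hfin' : Module.Finite (S ⧸ IsLocalRing.maximalIdeal S)
      (R ⧸ (IsLocalRing.maximalIdeal S).map (algebraMap S R)) :=
    Module.Finite.of_restrictScalars_finite S _ _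
  have hred : IsReduced (R ⧸ (IsLocalRing.maximalIdeal S).map (algebraMap S R)) :=
    (Ideal.isRadical_iff_quotient_reduced _).mp
      (Algebra.FormallyUnramified.isRadical_map_isMaximal S R (IsLocalRing.maximalIdeal S))
  by_cases hF : IsField (R ⧸ (IsLocalRing.maximalIdeal S).map (algebraMap S R))
  · left
    refine ⟨hF, h2, ?_⟩
    let _ : Field (R ⧸ (IsLocalRing.maximalIdeal S).map (algebraMap S R)) := hF.toField
    exact Algebra.FormallyUnramified.isSeparable (S ⧸ IsLocalRing.maximalIdeal S)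
      (R ⧸ (IsLocalRing.maximalIdeal S).map (algebraMap S R))
  · right
    exact prodEquiv h2 hred hF

end Groth.Agent.S15585
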