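import Groth.Statements.S15586
import Mathlib.RingTheory.Flat.Basic
import Mathlib.RingTheory.TensorProduct.Maps
import Mathlib.LinearAlgebra.TensorProduct.RightExactness

set_option autoImplicit false
universe u v w
open scoped TensorProduct
open RInv

namespace Groth.Agent.S15586

/-- Let `R` be a commutative ring with an involution `lam` and fixed ring `S`, and let `S'` be a
commutative `S`-algebra. If `S'` is flat over `S`, or if `2` is invertible in `S`, then `S'` is the
fixed ring of the base-changed involution `id ⊗ lam` of `S' ⊗_S R`: the structure map `S' → S' ⊗_S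
R` is injective with image the fixed elements. (In general the fixed ring does not commute with base
change.) -/
theorem result (S : Type u) (R : Type v) (S' : Type w)
    [CommRing S] [CommRing R] [Algebra S R] [CommRing S'] [Algebra S S']
    (lam : R ≃ₐ[S] R) (hlam : Function.Involutive lam)
    (hS : RInv.IsFixedRing S R lam.toRingEquiv)
    (h : Module.Flat S S' ∨ IsUnit (2 : S)) :
    RInv.IsFixedRing S' (S' ⊗[S] R)
      (Algebra.TensorProduct.congr (AlgEquiv.refl : S' ≃ₐ[S] S') lam).toRingEquiv := by
  have hlam2 : ∀ a, lam (lam a) = a := hlam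
  obtain ⟨hinj, hfix⟩ := hS
  have hfix' : ∀ r : R, lam r = r ↔ r ∈ Set.range (algebraMap S R) := hfix
  set Λ : (S' ⊗[S] R) ≃ₐ[S] (S' ⊗[S] R) :=
    Algebra.TensorProduct.congr (AlgEquiv.refl : S' ≃ₐ[S] S') lam with hΛ
  have hΛt : ∀ (s' : S') (r : R), Λ (s' ⊗ₜ[S] r) = s' ⊗ₜ[S] lam r := fun s' r => rfl
  let ι : S →ₗ[S] R := Algebra.linearMap S R
  have hιinj : Function.Injective ι := hinj
  let j : S' ⊗[S] S →ₗ[S] S' ⊗[S] R := ι.lTensor S'
  -- the algebra map is `j ∘ rid⁻¹`
  have halg : ∀ s' : S', algebraMap S' (S' ⊗[S] R) s' = j ((TensorProduct.rid S S').symm s') := by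
    intro s'
    rw [Algebra.TensorProduct.algebraMap_apply, TensorProduct.rid_symm_apply]
    change _ = s' ⊗ₜ[S] (algebraMap S R 1)
    rw [map_one]
    rfl
  -- the two key properties of `j`
  have hkey : Function.Injective j ∧ ∀ z : S' ⊗[S] R, Λ z = z → z ∈ Set.range j := by
    rcases h with hflat | h2
    · refine ⟨Module.Flat.lTensor_preserves_injective_linearMap ι hιinj, ?_⟩
      let δ : R →ₗ[S] R := lam.toLinearMap - LinearMap.id
      have hex : Function.Exact ι δ := by
        intro r
        change lam r - r = 0 ↔ r ∈ Set.range (algebraMap S R)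
        rw [sub_eq_zero]
        exact hfix' r
      have hex' := Module.Flat.lTensor_exact S' hex
      intro z hz
      apply (hex' z).mp
      have hδ : ∀ w : S' ⊗[S] R, δ.lTensor S' w = Λ w - w := by
        intro w
        induction w using TensorProduct.induction_on with
        | zero => simp
        | tmul s' r =>
          rw [LinearMap.lTensor_tmul, hΛt]
          change s' ⊗ₜ[S] (lam r - r) = _
          rw [TensorProduct.tmul_sub]
        | add a b ha hb =>
          rw [map_add, ha, hb, map_add]
          abel
      rw [hδ, hz, sub_self]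
    · obtain ⟨u, hu⟩ := h2
      -- the retraction `ρ : R → S`, `x ↦ (x + lam x) / 2`
      let T : R →ₗ[S] R := LinearMap.id + lam.toLinearMap
      have hT : ∀ x, T x ∈ LinearMap.range ι := by
        intro x
        change x + lam x ∈ LinearMap.range ι
        have : lam (x + lam x) = x + lam x := by rw [map_add, hlam2, add_comm]
        exact (hfix' _).mp this
      let ρ₀ : R →ₗ[S] S :=
        (LinearEquiv.ofInjective ι hιinj).symm.toLinearMap ∘ₗ T.codRestrict (LinearMap.range ι) hT
      have hρ₀ : ∀ x, ι (ρ₀ x) = x + lam x := by
        intro x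
        have := (LinearEquiv.ofInjective ι hιinj).apply_symm_apply
          (T.codRestrict (LinearMap.range ι) hT x)
        exact congrArg Subtype.val this
      let ρ : R →ₗ[S] S := (↑u⁻¹ : S) • ρ₀
      have hιρ : ∀ x, ι (ρ x) = (↑u⁻¹ : S) • (x + lam x) := by
        intro x
        change ι ((↑u⁻¹ : S) • ρ₀ x) = _
        rw [map_smul, hρ₀]
      have hρι : ∀ s : S, ρ (ι s) = s := by
        intro s
        apply hιinj
        rw [hιρ]
        have : lam (ι s) = ι s := (hfix' _).mpr ⟨s, rfl⟩
        rw [this, ← two_smul S (ι s), smul_smul, ← hu, Units.inv_mul, one_smul]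
      constructor
      · -- `ρ.lTensor` is a left inverse of `j`
        have hleft : ∀ w : S' ⊗[S] S, ρ.lTensor S' (j w) = w := by
          intro w
          induction w using TensorProduct.induction_on with
          | zero => simp
          | tmul s' s =>
            change ρ.lTensor S' (s' ⊗ₜ[S] ι s) = _
            rw [LinearMap.lTensor_tmul, hρι]
          | add a b ha hb => rw [map_add, map_add, ha, hb]
        exact Function.LeftInverse.injective hleft
      · intro z hz
        refine ⟨ρ.lTensor S' z, ?_⟩
        have hcomp : ∀ w : S' ⊗[S] R, j (ρ.lTensor S' w) = (↑u⁻¹ : S) • (w + Λ w) := by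
          intro w
          induction w using TensorProduct.induction_on with
          | zero => simp
          | tmul s' r =>
            rw [LinearMap.lTensor_tmul]
            change s' ⊗ₜ[S] ι (ρ r) = _
            rw [hιρ, hΛt, TensorProduct.tmul_smul, TensorProduct.tmul_add]
          | add a b ha hb =>
            rw [map_add, map_add, ha, hb, map_add, ← smul_add]
            congr 1
            abel
        rw [hcomp, hz, ← two_smul S z, smul_smul, ← hu, Units.inv_mul, one_smul]
  obtain ⟨hjinj, hjfix⟩ := hkey
  refine ⟨?_, ?_⟩
  · intro a b hab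
    rw [halg, halg] at hab
    exact (TensorProduct.rid S S').symm.injective (hjinj hab)
  · intro z
    constructor
    · intro hz
      obtain ⟨w, hw⟩ := hjfix z hz
      refine ⟨TensorProduct.rid S S' w, ?_⟩
      rw [halg, LinearEquiv.symm_apply_apply, hw]
    · rintro ⟨s', rfl⟩
      rw [Algebra.TensorProduct.algebraMap_apply]
      change Λ (_ ⊗ₜ[S] (1 : R)) = _
      rw [hΛt, map_one]

end Groth.Agent.S15586
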