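import Groth.Statements.S15588
import Groth.Agent.Lib.RInvLoc88
import Groth.Agent.S15573
import Mathlib.RingTheory.Localization.AtPrime.Basic
import Mathlib.RingTheory.Spectrum.Prime.Basic

set_option autoImplicit false
universe u v
open scoped TensorProduct
open RInv

namespace Groth.Agent.S15588

/-- If the norm of `r - lam r` is not in the prime `p'` of `S`, then `S_{p'} ⊗ R` is quadratic
etale over `S_{p'}`. -/
theorem isQuadEtale_atPrime_of_norm_notMem {S : Type u} {R : Type v} [CommRing S] [CommRing R]
    [Algebra S R] (lam : R ≃+* R) (hlam : Function.Involutive lam)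
    (hS : RInv.IsFixedRing S R lam) (p' : Ideal S) [p'.IsPrime] (r : R) (s₀ : S)
    (hs₀ : algebraMap S R s₀ = (r - lam r) * lam (r - lam r)) (hs₀p : s₀ ∉ p') :
    RInv.IsQuadEtale (Localization.AtPrime p') (Localization.AtPrime p' ⊗[S] R) := by
  have hfix := Lib.RInvLoc88.isFixedRing_lamBC lam hS (Localization.AtPrime p') p'.primeCompl
  have hinv := Lib.RInvLoc88.lamBC_involutive lam hlam hS (Localization.AtPrime p')
  refine Groth.Agent.S15573.result _ _ (Lib.RInvLoc88.lamBC lam (Localization.AtPrime p') hS)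
    hinv hfix ⟨(1 : Localization.AtPrime p') ⊗ₜ[S] r, ?_⟩
  rw [Lib.RInvLoc88.lamBC_tmul, ← TensorProduct.tmul_sub]
  have hmul : ((1 : Localization.AtPrime p') ⊗ₜ[S] (r - lam r))
      * ((1 : Localization.AtPrime p') ⊗ₜ[S] (lam (r - lam r)))
      = algebraMap (Localization.AtPrime p') (Localization.AtPrime p' ⊗[S] R)
          (algebraMap S (Localization.AtPrime p') s₀) := by
    rw [Algebra.TensorProduct.tmul_mul_tmul, one_mul, ← hs₀, Lib.RInvLoc88.one_tmul_algebraMap]
  have hu : IsUnit (algebraMap S (Localization.AtPrime p') s₀) :=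
    IsLocalization.map_units (Localization.AtPrime p') (⟨s₀, hs₀p⟩ : p'.primeCompl)
  have hunit : IsUnit (((1 : Localization.AtPrime p') ⊗ₜ[S] (r - lam r))
      * ((1 : Localization.AtPrime p') ⊗ₜ[S] (lam (r - lam r)))) := by
    rw [hmul]
    exact hu.map _
  exact isUnit_of_mul_isUnit_left hunit

/-- Let `R` be a commutative ring with an involution `lam` and fixed ring `S`, let `W ⊆ Spec S` be the
branch locus (the primes `p` with `S_p ⊗_S R` not quadratic etale over `S_p`) and `I` its vanishing
ideal. Then `lam` is the identity on `R/rad(IR)`, i.e. on the reduced closed subscheme `π⁻¹(W)` of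
`Spec R`: `lam r - r ∈ rad(IR)` for all `r`. Affine-local form of the statement for a good quotient
of schemes by an involution. -/
theorem result (S : Type u) (R : Type v) [CommRing S] [CommRing R]
    [Algebra S R] (lam : R ≃+* R) (hlam : Function.Involutive lam) (hS : RInv.IsFixedRing S R lam)
    (W : Set (PrimeSpectrum S))
    (hW : W = {p : PrimeSpectrum S | ¬ RInv.IsQuadEtale (Localization.AtPrime p.asIdeal) (Localization.AtPrime p.asIdeal ⊗[S] R)})
    (r : R) :
    lam r - r ∈ ((PrimeSpectrum.vanishingIdeal W).map (algebraMap S R)).radical := by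
  rw [Ideal.radical_eq_sInf, Submodule.mem_sInf]
  rintro q ⟨hqI, hqprime⟩
  by_contra hx
  obtain ⟨s₀, hs₀⟩ := Lib.RInv88.exists_norm lam hlam hS (r - lam r)
  -- `s₀` vanishes on the branch locus
  have hs₀I : s₀ ∈ PrimeSpectrum.vanishingIdeal W := by
    rw [PrimeSpectrum.mem_vanishingIdeal]
    intro p' hp'
    by_contra hs₀p
    rw [hW] at hp'
    exact hp' (isQuadEtale_atPrime_of_norm_notMem lam hlam hS p'.asIdeal r s₀ hs₀ hs₀p)
  have hs₀q : algebraMap S R s₀ ∈ q := hqI (Ideal.mem_map_of_mem _ hs₀I)
  rw [hs₀] at hs₀q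
  have hy : r - lam r ∈ q := by
    rcases hqprime.mem_or_mem hs₀q with h | h
    · exact h
    · rw [map_sub, hlam r] at h
      have : r - lam r = -(lam r - r) := by ring
      rw [this]
      exact q.neg_mem h
  apply hx
  have : lam r - r = -(r - lam r) := by ring
  rw [this]
  exact q.neg_mem hy

end Groth.Agent.S15588
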