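import Groth.Statements.S15589
import Groth.Agent.Lib.RInvPrime88
import Groth.Agent.Lib.RInvIntegral88
import Groth.Agent.S15588
import Mathlib.RingTheory.Spectrum.Prime.Topology
import Mathlib.Topology.Homeomorph.Lemmas

set_option autoImplicit false
universe u v
open scoped TensorProduct
open RInv

namespace Groth.Agent.S15589

/-- Let `R` be a commutative ring with an involution `lam` and fixed ring `S`, `W ⊆ Spec S` the branch
locus (primes `p` with `S_p ⊗_S R` not quadratic etale over `S_p`), `I` its vanishing ideal and `J =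
rad(IR)`. Then `Spec(R/J) → Spec(S/I)` is a homeomorphism; if `2` is a unit of `S`, the ring map
`S/I → R/J` is moreover bijective, so the reduced preimage of the branch locus maps isomorphically
onto it. Affine-local form of the statement for a good quotient of schemes by an involution (the
hypothesis `I ≤ J ∩ S` holds automatically and only serves to write down the map). -/
theorem result (S : Type u) (R : Type v) [CommRing S] [CommRing R]
    [Algebra S R] (lam : R ≃+* R) (hlam : Function.Involutive lam) (hS : RInv.IsFixedRing S R lam)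
    (W : Set (PrimeSpectrum S))
    (hW : W = {p : PrimeSpectrum S | ¬ RInv.IsQuadEtale (Localization.AtPrime p.asIdeal) (Localization.AtPrime p.asIdeal ⊗[S] R)})
    (J : Ideal R) (hJ : J = ((PrimeSpectrum.vanishingIdeal W).map (algebraMap S R)).radical)
    (hIJ : PrimeSpectrum.vanishingIdeal W ≤ J.comap (algebraMap S R)) :
    IsHomeomorph (PrimeSpectrum.comap (Ideal.quotientMap J (algebraMap S R) hIJ)) ∧
      (IsUnit (2 : S) → Function.Bijective (Ideal.quotientMap J (algebraMap S R) hIJ)) := by
  set φ := Ideal.quotientMap J (algebraMap S R) hIJ with hφ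
  have hφmk : ∀ s : S, φ (Ideal.Quotient.mk _ s) = Ideal.Quotient.mk J (algebraMap S R s) :=
    fun s => Ideal.quotientMap_mk
  -- (1) `lam r - r ∈ J`
  have hsub : ∀ r : R, lam r - r ∈ J := by
    intro r
    rw [hJ]
    exact Groth.Agent.S15588.result S R lam hlam hS W hW r
  have hint0 : (algebraMap S R).IsIntegral := Lib.RInvIntegral88.isIntegral lam hlam hS
  -- (2) `φ` is integral
  have hint : φ.IsIntegral := by
    intro y
    obtain ⟨r, rfl⟩ := Ideal.Quotient.mk_surjective y
    obtain ⟨P, hPm, hP0⟩ := hint0 r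
    refine ⟨P.map (Ideal.Quotient.mk _), hPm.map _, ?_⟩
    rw [Polynomial.eval₂_map]
    have hcomp : φ.comp (Ideal.Quotient.mk (PrimeSpectrum.vanishingIdeal W))
        = (Ideal.Quotient.mk J).comp (algebraMap S R) := by
      ext s
      exact hφmk s
    rw [hcomp, ← Polynomial.hom_eval₂, hP0, map_zero]
  -- (3) `φ` is injective
  have hinj : Function.Injective φ := by
    rw [injective_iff_map_eq_zero]
    intro y hy
    obtain ⟨s, rfl⟩ := Ideal.Quotient.mk_surjective y
    rw [hφmk, Ideal.Quotient.eq_zero_iff_mem] at hy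
    rw [Ideal.Quotient.eq_zero_iff_mem, PrimeSpectrum.mem_vanishingIdeal]
    intro p hp
    obtain ⟨q, hq⟩ := hint0.comap_surjective hS.1 p
    have hIp : PrimeSpectrum.vanishingIdeal W ≤ p.asIdeal := fun s' hs' =>
      (PrimeSpectrum.mem_vanishingIdeal _ _).mp hs' p hp
    have hqp : q.asIdeal.comap (algebraMap S R) = p.asIdeal :=
      congrArg PrimeSpectrum.asIdeal hq
    have hJq : J ≤ q.asIdeal := by
      rw [hJ, q.2.radical_le_iff, Ideal.map_le_iff_le_comap, hqp]
      exact hIp
    have : s ∈ q.asIdeal.comap (algebraMap S R) := hJq hy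
    rwa [hqp] at this
  -- (4) `comap φ` is injective
  have hcinj : Function.Injective (PrimeSpectrum.comap φ) := by
    intro Q₁ Q₂ hQ
    have hc : ∀ Q : PrimeSpectrum (R ⧸ J),
        (Q.asIdeal.comap (Ideal.Quotient.mk J)).comap (algebraMap S R)
          = ((PrimeSpectrum.comap φ Q).asIdeal).comap
              (Ideal.Quotient.mk (PrimeSpectrum.vanishingIdeal W)) := by
      intro Q
      ext s
      simp only [Ideal.mem_comap, PrimeSpectrum.comap_asIdeal]
      rw [hφmk]
    have hJle : ∀ Q : PrimeSpectrum (R ⧸ J), J ≤ Q.asIdeal.comap (Ideal.Quotient.mk J) := by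
      intro Q x hx
      rw [Ideal.mem_comap, Ideal.Quotient.eq_zero_iff_mem.mpr hx]
      exact Q.asIdeal.zero_mem
    have hp1 : (Q₁.asIdeal.comap (Ideal.Quotient.mk J)).IsPrime := Ideal.comap_isPrime _ _
    have hp2 : (Q₂.asIdeal.comap (Ideal.Quotient.mk J)).IsPrime := Ideal.comap_isPrime _ _
    have heq : Q₂.asIdeal.comap (Ideal.Quotient.mk J) = Q₁.asIdeal.comap (Ideal.Quotient.mk J) := by
      rcases Lib.RInvPrime88.eq_or_eq_comap_of_comap_eq lam hlam hS
        (Q₁.asIdeal.comap (Ideal.Quotient.mk J)) (Q₂.asIdeal.comap (Ideal.Quotient.mk J))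
        (by rw [hc, hc, hQ]) with e | e
      · exact e
      · rw [e, Lib.RInvPrime88.comap_lam_eq_self lam _ (fun r => hJle Q₁ (hsub r))]
    apply PrimeSpectrum.ext
    exact Ideal.comap_injective_of_surjective _ Ideal.Quotient.mk_surjective heq.symm
  refine ⟨?_, ?_⟩
  · rw [isHomeomorph_iff_continuous_isClosedMap_bijective]
    exact ⟨PrimeSpectrum.continuous_comap φ, PrimeSpectrum.isClosedMap_comap_of_isIntegral φ hint,
      hcinj, hint.comap_surjective hinj⟩
  · intro h2
    refine ⟨hinj, ?_⟩
    intro y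
    obtain ⟨r, rfl⟩ := Ideal.Quotient.mk_surjective y
    obtain ⟨t, ht⟩ := Lib.RInv88.exists_trace lam hlam hS r
    obtain ⟨u, hu⟩ := h2
    refine ⟨Ideal.Quotient.mk _ ((↑u⁻¹ : S) * t), ?_⟩
    rw [hφmk, Ideal.Quotient.eq, map_mul, ht]
    -- u⁻¹ (r + lam r) - r = u⁻¹ (lam r - r)
    have h2R : algebraMap S R (↑u⁻¹ : S) * 2 = 1 := by
      rw [← map_ofNat (algebraMap S R) 2, ← map_mul, ← hu, Units.inv_mul, map_one]
    have e : algebraMap S R (↑u⁻¹ : S) * (r + lam r) - r
        = algebraMap S R (↑u⁻¹ : S) * (lam r - r) := by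
      linear_combination r * h2R
    rw [e]
    exact J.mul_mem_left _ (hsub r)

end Groth.Agent.S15589
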