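import Groth.Statements.S15590
import Mathlib.RingTheory.Flat.FaithfullyFlat.Algebra
import Mathlib.RingTheory.DedekindDomain.Basic
import Mathlib.RingTheory.Ideal.GoingUp


set_option autoImplicit false
universe u v
open CAlg

namespace Groth.Agent.S15590

/-- Let A → B be an injective homomorphism of commutative rings which makes B a finite flat A-module,
and suppose B is a Dedekind domain (Noetherian, integrally closed, of Krull dimension at most one; a
field is allowed). Then A is a Dedekind domain. -/
theorem result (A : Type u) (B : Type v)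
    [CommRing A] [CommRing B] [Algebra A B] [IsDedekindDomain B]
    (hinj : Function.Injective (algebraMap A B)) [Module.Finite A B] [Module.Flat A B] :
    IsDedekindDomain A := by
  have hdom : IsDomain A := hinj.isDomain (algebraMap A B)
  have hfs : FaithfulSMul A B := (faithfulSMul_iff_algebraMap_injective A B).2 hinj
  have hint : Algebra.IsIntegral A B := inferInstance
  have hff : Module.FaithfullyFlat A B := inferInstance
  -- Noetherian
  have hnoeth : IsNoetherianRing A := by
    rw [isNoetherianRing_iff, isNoetherian_iff']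
    have hmono : StrictMono (Ideal.map (algebraMap A B)) := by
      intro I J hIJ
      refine lt_of_le_of_ne (Ideal.map_mono hIJ.le) ?_
      intro h
      exact hIJ.ne (Ideal.map_injective_of_faithfullyFlat (B := B) h)
    have hB : WellFoundedGT (Ideal B) := (isNoetherian_iff' (R := B) (M := B)).1 inferInstance
    exact hmono.wellFoundedGT
  -- dimension ≤ 1
  have hdim : Ring.DimensionLEOne A := by
    refine ⟨fun {p} hp0 hp => ?_⟩
    obtain ⟨Q, -, hQ, hQp⟩ := Ideal.exists_ideal_over_prime_of_isIntegral p (⊥ : Ideal B)
      (by rw [← RingHom.ker_eq_comap_bot, (RingHom.injective_iff_ker_eq_bot _).1 hinj]; exact bot_le)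
    have hQ0 : Q ≠ ⊥ := by
      rintro rfl
      apply hp0
      rw [← hQp, ← RingHom.ker_eq_comap_bot, (RingHom.injective_iff_ker_eq_bot _).1 hinj]
    have hQmax : Q.IsMaximal := Ring.DimensionLEOne.maximalOfPrime hQ0 hQ
    rw [← hQp]
    exact Ideal.isMaximal_comap_of_isIntegral_of_isMaximal Q
  -- integrally closed
  rw [isDedekindDomain_iff A (FractionRing A)]
  refine ⟨hdom, hnoeth, hdim, ?_⟩
  intro x hx
  let L := FractionRing B
  have hinjL : Function.Injective (algebraMap A L) :=
    (IsFractionRing.injective B L).comp hinj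
  let φ : FractionRing A →ₐ[A] L := IsFractionRing.liftAlgHom (g := Algebra.ofId A L) hinjL
  have hφx : IsIntegral A (φ x) := hx.map φ
  have hφxB : IsIntegral B (φ x) := hφx.tower_top
  obtain ⟨c, hc⟩ := (isIntegrallyClosed_iff L).1 inferInstance hφxB
  obtain ⟨⟨a, b⟩, rfl⟩ := IsLocalization.mk'_surjective (nonZeroDivisors A) x
  have hb0 : (b : A) ≠ 0 := nonZeroDivisors.coe_ne_zero b
  have h1 : φ (IsLocalization.mk' (FractionRing A) a b) * algebraMap A L b = algebraMap A L a := by
    rw [← φ.commutes (b : A), ← φ.commutes a, ← map_mul, IsLocalization.mk'_spec]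
  rw [← hc] at h1
  have h2 : c * algebraMap A B b = algebraMap A B a := by
    apply IsFractionRing.injective B L
    rw [map_mul]
    exact h1
  have h3 : a ∈ (Ideal.span {(b : A)}) := by
    rw [← Ideal.comap_map_eq_self_of_faithfullyFlat (B := B) (Ideal.span {(b : A)}), Ideal.mem_comap,
      Ideal.map_span, Set.image_singleton, Ideal.mem_span_singleton']
    exact ⟨c, h2⟩
  obtain ⟨a', ha'⟩ := Ideal.mem_span_singleton'.1 h3
  refine ⟨a', ?_⟩
  rw [IsLocalization.eq_mk'_iff_mul_eq, ← map_mul, ha']

end Groth.Agent.S15590
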