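import Groth.Statements.S15593
import Groth.Agent.Lib.GrpHomFlat45
import Groth.Agent.Lib.H69SchReduced

set_option autoImplicit false
universe u
open CategoryTheory MonoidalCategory CartesianMonoidalCategory MonObj GrpObj AlgebraicGeometry
open AlgGrp

namespace Groth.Agent.S15593

/-- Let k be a field and f : G ⟶ G' a homomorphism of smooth k-group schemes of finite type. If f is
surjective (on underlying topological spaces) and has trivial kernel, that is, f is a monomorphism,
then f is an isomorphism. No flatness of f is assumed. -/
theorem result (k : Type u) [Field k]
    (G G' : Over (Spec (CommRingCat.of k))) [GrpObj G] [GrpObj G']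
    [Smooth G.hom] [QuasiCompact G.hom] [Smooth G'.hom] [QuasiCompact G'.hom]
    (f : G ⟶ G') [IsMonHom f] [Mono f] [Surjective f.left] : IsIso f := by
  have h1 : IsReduced G'.left := Groth.Agent.Lib.H69SchReduced.isReduced_of_smooth G'.hom
  exact Groth.Agent.Lib.GrpHomFlat45.isIso_of_mono_of_surjective_of_isReduced f

end Groth.Agent.S15593
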