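-- Statement S15595.
import Groth.Statements.S15595
import Groth.Agent.Lib.H56FlatLocal
import Groth.Agent.Lib.H87Serre2
import Mathlib

set_option autoImplicit false
universe u
open TensorProduct
attribute [local instance] RingHom.ker_isPrime
open CAlg

namespace Groth.Agent.S15595

open IsLocalRing

/-- `includeRight : A → K ⊗[k] A` is flat. -/
theorem flat_includeRight (k K A : Type u) [Field k] [Field K] [Algebra k K] [CommRing A]
    [Algebra k A] :
    (Algebra.TensorProduct.includeRight : A →ₐ[k] K ⊗[k] A).toRingHom.Flat := by
  have h1 : (algebraMap A (A ⊗[k] K)).Flat := RingHom.flat_algebraMap_iff.mpr inferInstance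
  have h2 : ((Algebra.TensorProduct.comm k A K).toAlgHom.toRingHom).Flat :=
    RingHom.Flat.of_bijective (Algebra.TensorProduct.comm k A K).bijective
  have h3 := RingHom.Flat.comp h1 h2
  convert h3 using 1
  ext a
  simp

/-- The kernel of `K ⊗ A → K` is generated by the maximal ideal of `A`. -/
theorem ker_eq_map (k K A : Type u) [Field k] [Field K] [Algebra k K] [CommRing A] [Algebra k A]
    [IsLocalRing A] (π : A →ₐ[k] k) (hπ : RingHom.ker π = maximalIdeal A) :
    RingHom.ker ((Algebra.TensorProduct.rid k K K).toAlgHom.comp
        (Algebra.TensorProduct.map (AlgHom.id K K) π)) =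
      (maximalIdeal A).map (Algebra.TensorProduct.includeRight : A →ₐ[k] K ⊗[k] A).toRingHom := by
  set πK := (Algebra.TensorProduct.rid k K K).toAlgHom.comp
        (Algebra.TensorProduct.map (AlgHom.id K K) π) with hπK
  set ψ := (Algebra.TensorProduct.includeRight : A →ₐ[k] K ⊗[k] A).toRingHom with hψ
  have hπK_tmul : ∀ (c : K) (a : A), πK (c ⊗ₜ[k] a) = π a • c := by
    intro c a
    simp [hπK]
  apply le_antisymm
  · -- every x is congruent to (πK x) ⊗ 1 modulo the extended ideal
    have key : ∀ x : K ⊗[k] A, x - (πK x) ⊗ₜ[k] (1 : A) ∈ (maximalIdeal A).map ψ := by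
      intro x
      induction x using TensorProduct.induction_on with
      | zero => simp
      | tmul c a =>
        have hb : a - algebraMap k A (π a) ∈ maximalIdeal A := by
          rw [← hπ, RingHom.mem_ker]
          simp
        have h1 : c ⊗ₜ[k] a - (πK (c ⊗ₜ[k] a)) ⊗ₜ[k] (1 : A) =
            (c ⊗ₜ[k] (1 : A)) * ψ (a - algebraMap k A (π a)) := by
          rw [hπK_tmul, hψ]
          simp only [AlgHom.toRingHom_eq_coe, RingHom.coe_coe,
            Algebra.TensorProduct.includeRight_apply, TensorProduct.tmul_sub, mul_sub,
            Algebra.TensorProduct.tmul_mul_tmul, mul_one, one_mul]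
          congr 1
          rw [Algebra.algebraMap_eq_smul_one, TensorProduct.tmul_smul, TensorProduct.smul_tmul']
        rw [h1]
        exact Ideal.mul_mem_left _ _ (Ideal.mem_map_of_mem _ hb)
      | add x y hx hy =>
        have : x + y - (πK (x + y)) ⊗ₜ[k] (1 : A) =
            (x - (πK x) ⊗ₜ[k] (1 : A)) + (y - (πK y) ⊗ₜ[k] (1 : A)) := by
          rw [map_add, TensorProduct.add_tmul]; ring
        rw [this]
        exact Ideal.add_mem _ hx hy
    intro x hx
    have := key x
    rw [RingHom.mem_ker.mp hx, TensorProduct.zero_tmul, sub_zero] at this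
    exact this
  · rw [Ideal.map_le_iff_le_comap]
    intro a ha
    rw [Ideal.mem_comap, RingHom.mem_ker]
    have : π a = 0 := by rw [← RingHom.mem_ker, hπ]; exact ha
    simp [hψ, hπK, this]

theorem main (k K A : Type u) [Field k] [Field K] [Algebra k K] [CommRing A] [Algebra k A]
    [IsLocalRing A] [IsNoetherianRing A]
    (m' : Ideal (K ⊗[k] A)) [m'.IsPrime]
    (hm' : m' = (maximalIdeal A).map
      (Algebra.TensorProduct.includeRight : A →ₐ[k] K ⊗[k] A).toRingHom)
    [IsNoetherianRing (Localization.AtPrime m')] :
    IsRegularLocalRing A ↔ IsRegularLocalRing (Localization.AtPrime m') := by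
  set ψ := (Algebra.TensorProduct.includeRight : A →ₐ[k] K ⊗[k] A).toRingHom with hψ
  let φ : A →+* Localization.AtPrime m' := (algebraMap (K ⊗[k] A) (Localization.AtPrime m')).comp ψ
  letI : Algebra A (Localization.AtPrime m') := φ.toAlgebra
  have hflat : Module.Flat A (Localization.AtPrime m') := by
    have h1 : ψ.Flat := flat_includeRight k K A
    have h2 : (algebraMap (K ⊗[k] A) (Localization.AtPrime m')).Flat :=
      RingHom.flat_algebraMap_iff.mpr (IsLocalization.flat _ m'.primeCompl)
    exact RingHom.Flat.comp h1 h2
  have hmap : (maximalIdeal A).map (algebraMap A (Localization.AtPrime m')) =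
      maximalIdeal (Localization.AtPrime m') := by
    rw [← Localization.AtPrime.map_eq_maximalIdeal]
    have h1 : Ideal.map (algebraMap (K ⊗[k] A) (Localization.AtPrime m')) m' =
        Ideal.map (algebraMap (K ⊗[k] A) (Localization.AtPrime m')) (Ideal.map ψ (maximalIdeal A)) :=
      congrArg _ hm'
    rw [h1, Ideal.map_map]
    rfl
  haveI hloc : IsLocalHom (algebraMap A (Localization.AtPrime m')) := by
    have h := ((IsLocalRing.local_hom_TFAE (algebraMap A (Localization.AtPrime m'))).out 0 2)
    rw [h, hmap]
  constructor
  · intro h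
    exact Groth.Agent.Lib.H56FlatLocal.isRegularLocalRing_of_flat_of_map_maximalIdeal hmap
  · intro h
    exact Groth.Agent.Lib.H87Serre2.isRegularLocalRing_of_flat A (Localization.AtPrime m')

/-- Let k ⊆ K be a field extension and A a Noetherian local k-algebra with residue field k, recorded by
a k-algebra map π : A → k whose kernel is the maximal ideal. Let π_K : K ⊗_k A → K be the induced
K-algebra map, m' its kernel, and A' the localization of K ⊗_k A at m'. Assume A' is Noetherian.
Then A is a regular local ring if and only if A' is a regular local ring. -/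
theorem result (k K A : Type u) [Field k] [Field K]
    [Algebra k K] [CommRing A] [Algebra k A] [IsLocalRing A] [IsNoetherianRing A]
    (π : A →ₐ[k] k) (hπ : RingHom.ker π = IsLocalRing.maximalIdeal A)
    [IsNoetherianRing (Localization.AtPrime (RingHom.ker
      ((Algebra.TensorProduct.rid k K K).toAlgHom.comp (Algebra.TensorProduct.map (AlgHom.id K K) π))))] :
    IsRegularLocalRing A ↔ IsRegularLocalRing (Localization.AtPrime (RingHom.ker
      ((Algebra.TensorProduct.rid k K K).toAlgHom.comp (Algebra.TensorProduct.map (AlgHom.id K K) π)))) := by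
  exact main k K A _ (ker_eq_map k K A π hπ)

end Groth.Agent.S15595
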