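import Groth.Statements.S15596
import Mathlib.AlgebraicGeometry.AlgClosed.Basic
import Mathlib.Topology.JacobsonSpace

set_option autoImplicit false
universe u
open CategoryTheory MonoidalCategory CartesianMonoidalCategory MonObj GrpObj AlgebraicGeometry
open AlgGrp

namespace Groth.Agent.S15596

section helpers
variable {C : Type*} [Category C] [CartesianMonoidalCategory C]

theorem const_mul_comp {A : C} [GrpObj A] (f g : 𝟙_ C ⟶ A) :
    (lift (toUnit A ≫ f) (𝟙 A) ≫ μ) ≫ (lift (toUnit A ≫ g) (𝟙 A) ≫ μ) =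
      lift (toUnit A ≫ (g * f)) (𝟙 A) ≫ μ := by
  rw [← Hom.mul_def, ← Hom.mul_def, ← Hom.mul_def, MonObj.comp_mul, Category.comp_id,
    ← Category.assoc, toUnit_unique (_ ≫ toUnit A) (toUnit A), MonObj.comp_mul, _root_.mul_assoc]

/-- left translation by a point of a group object -/
def mulLeft {A : C} [GrpObj A] (f : 𝟙_ C ⟶ A) : A ≅ A where
  hom := lift (toUnit _ ≫ f) (𝟙 _) ≫ μ
  inv := lift (toUnit _ ≫ f⁻¹) (𝟙 _) ≫ μ
  hom_inv_id := by
    rw [const_mul_comp, inv_mul_cancel, ← Hom.mul_def, MonObj.comp_one, _root_.one_mul]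
  inv_hom_id := by
    rw [const_mul_comp, mul_inv_cancel, ← Hom.mul_def, MonObj.comp_one, _root_.one_mul]

theorem comp_mulLeft {A : C} [GrpObj A] (f u : 𝟙_ C ⟶ A) : u ≫ (mulLeft f).hom = f * u := by
  show u ≫ (lift (toUnit _ ≫ f) (𝟙 _) ≫ μ) = f * u
  rw [← Hom.mul_def, MonObj.comp_mul, Category.comp_id, ← Category.assoc]
  have : u ≫ toUnit A = 𝟙 _ := toUnit_unique _ _
  rw [this, Category.id_comp]

end helpers


/-- Let k be an algebraically closed field, H a smooth k-group scheme of finite type, and U a dense open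
subset of H. Then every k-rational point h of H is of the form u₂ · u₁⁻¹ for k-rational points u₁,
u₂ of H whose underlying points lie in U. -/
theorem result (k : Type u) [Field k] [IsAlgClosed k]
    (H : Over (Spec (CommRingCat.of k))) [GrpObj H] [Smooth H.hom] [QuasiCompact H.hom]
    (U : H.left.Opens) (hU : Dense (U : Set ↥H.left)) (h : 𝟙_ (Over (Spec (CommRingCat.of k))) ⟶ H) :
    ∃ u₁ u₂ : 𝟙_ (Over (Spec (CommRingCat.of k))) ⟶ H,
      u₁.left.base (IsLocalRing.closedPoint k) ∈ U ∧ u₂.left.base (IsLocalRing.closedPoint k) ∈ U ∧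
        h = u₂ * u₁⁻¹ := by
  have hlft : LocallyOfFiniteType H.hom := inferInstance
  have hJ : JacobsonSpace H.left := LocallyOfFiniteType.jacobsonSpace H.hom
  set τ : H.left ⟶ H.left := (mulLeft h).hom.left with hτ
  have hτiso : IsIso τ := inferInstance
  have hτopen : IsOpenMap τ := τ.homeomorph.isOpenMap
  have hτcont : Continuous τ := τ.continuous
  let W : Set H.left := (U : Set H.left) ∩ τ ⁻¹' (U : Set H.left)
  have hWopen : IsOpen W := U.isOpen.inter (U.isOpen.preimage hτcont)
  have hWdense : Dense W := hU.inter_of_isOpen_left (hU.preimage hτopen) U.isOpen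
  have hne : W.Nonempty := by
    have : Nonempty H.left := ⟨η[H].left (IsLocalRing.closedPoint k)⟩
    exact hWdense.nonempty
  obtain ⟨x, hxW, hxcl⟩ := nonempty_inter_closedPoints hne hWopen.isLocallyClosed
  obtain ⟨⟨p, hp⟩, hpx⟩ := (pointEquivClosedPoint H.hom).surjective ⟨x, hxcl⟩
  have hpx' : p (IsLocalRing.closedPoint k) = x := congrArg Subtype.val hpx
  let u₁ : 𝟙_ (Over (Spec (CommRingCat.of k))) ⟶ H := Over.homMk p hp
  refine ⟨u₁, h * u₁, ?_, ?_, ?_⟩
  · show p (IsLocalRing.closedPoint k) ∈ U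
    rw [hpx']
    exact hxW.1
  · rw [← comp_mulLeft]
    show τ (p (IsLocalRing.closedPoint k)) ∈ U
    rw [hpx']
    exact hxW.2
  · rw [mul_inv_cancel_right]

end Groth.Agent.S15596
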