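import Groth.Statements.S15602
import Groth.Agent.Lib.GaLaw38
import Groth.Agent.Lib.GaPts

set_option autoImplicit false
universe u
open CategoryTheory MonoidalCategory CartesianMonoidalCategory MonObj GrpObj AlgebraicGeometry
open AlgGrp

namespace Groth.Agent.S15602

open Groth.Agent.Lib.UnivPt38 Groth.Agent.Lib.GaLaw38 Groth.Agent.Lib in
/-- The standard coordinate on the affine line. -/
noncomputable def gaC (k : Type u) [CommRing k] : FnCoord (Red.Ga (Spec (CommRingCat.of k))) where
  fn x := Red.gaFn x
  fn_comp g x := GaPts.gaFn_comp g x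
  fn_inj _ _ h := GaPts.gaFn_injective h

/-- Additive case. Let k be a field and consider the affine line over k, taken here as the underlying
k-scheme of the additive group. Any two structures of k-group scheme on it with the same unit
section have the same multiplication; in particular a group law on the affine line whose identity is
the origin is the usual addition. -/
theorem result (k : Type u) [Field k]
    (h₁ h₂ : GrpObj (Red.Ga (Spec (CommRingCat.of k)))) (e : h₁.one = h₂.one) : h₁.mul = h₂.mul := by
  have key : ∀ (h : GrpObj (Red.Ga (Spec (CommRingCat.of k)))),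
      (gaC k).fn h.mul + (gaC k).fn (toUnit _ ≫ h.one) = (gaC k).fn (fst _ _) + (gaC k).fn (snd _ _) := by
    intro h
    have h0 := @Groth.Agent.Lib.GaLaw38.ga_law k _ _ _ (gaC k) h
      (fun T v => ⟨Groth.Agent.Lib.GaPts.ptOfElt v, Groth.Agent.Lib.GaPts.gaFn_ptOfElt v⟩) _ (fst _ _) (snd _ _)
    rw [← @MonObj.mul_eq_mul _ _ _ _ h.toMonObj] at h0
    exact h0
  apply (gaC k).fn_inj
  have k1 := key h₁
  have k2 := key h₂
  rw [e] at k1
  exact add_right_cancel (k1.trans k2.symm)

end Groth.Agent.S15602
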