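import Groth.Statements.S15603
import Groth.Agent.Lib.GmLaw38

set_option autoImplicit false
universe u
open CategoryTheory MonoidalCategory CartesianMonoidalCategory MonObj GrpObj AlgebraicGeometry
open AlgGrp

namespace Groth.Agent.S15603

open Groth.Agent.Lib.UnivPt38 Groth.Agent.Lib.GmLaw38 in
/-- The standard coordinate on the punctured affine line. -/
noncomputable def gmC (k : Type u) [CommRing k] : FnCoord (Red.Gm (Spec (CommRingCat.of k))) where
  fn x := Red.gmFn x
  fn_comp g x := GmPts.gmFn_comp g x
  fn_inj _ _ h := GmPts.gmFn_injective h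

/-- Multiplicative case. Let k be a field and consider the affine line minus the origin over k, taken
here as the underlying k-scheme of the multiplicative group. Any two structures of k-group scheme on
it with the same unit section have the same multiplication; in particular a group law on the
punctured line whose identity is the point 1 is the usual multiplication. -/
theorem result (k : Type u) [Field k]
    (h₁ h₂ : GrpObj (Red.Gm (Spec (CommRingCat.of k)))) (e : h₁.one = h₂.one) : h₁.mul = h₂.mul := by
  have key : ∀ (h : GrpObj (Red.Gm (Spec (CommRingCat.of k)))),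
      (gmC k).fn h.mul * (gmC k).fn (toUnit _ ≫ h.one) = (gmC k).fn (fst _ _) * (gmC k).fn (snd _ _) := by
    intro h
    have h0 := @Groth.Agent.Lib.GmLaw38.gm_law k _ _ _ (gmC k) h (fun x => GmPts.isUnit_gmFn x)
      (fun T v => ⟨GmPts.ptOfUnit v, GmPts.gmFn_ptOfUnit v⟩) _ (fst _ _) (snd _ _)
    rw [← @MonObj.mul_eq_mul _ _ _ _ h.toMonObj] at h0
    exact h0
  apply (gmC k).fn_inj
  have k1 := key h₁
  have k2 := key h₂
  rw [e] at k1
  have hu : IsUnit ((gmC k).fn (toUnit (Red.Gm (Spec (CommRingCat.of k)) ⊗ Red.Gm (Spec (CommRingCat.of k))) ≫ h₂.one)) :=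
    GmPts.isUnit_gmFn _
  exact hu.mul_left_injective (k1.trans k2.symm)

end Groth.Agent.S15603
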