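import Groth.Statements.S15604
import Groth.Agent.Lib.OrbitSmooth45
import Groth.Agent.Lib.GrpHomAction45

set_option autoImplicit false
universe u
open CategoryTheory MonoidalCategory CartesianMonoidalCategory MonObj GrpObj AlgebraicGeometry
open AlgGrp

namespace Groth.Agent.S15604

/-- Let k be a field and f : G ⟶ G' a homomorphism of k-group schemes of finite type, with G smooth over
k. The image of f is closed (not asserted here); with its reduced induced structure it is smooth
over k: every reduced closed subscheme H of G' whose underlying set is the set-theoretic image of f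
is smooth over k. -/
theorem result (k : Type u) [Field k]
    (G G' : Over (Spec (CommRingCat.of k))) [GrpObj G] [GrpObj G'] [Smooth G.hom] [QuasiCompact G.hom]
    [LocallyOfFiniteType G'.hom] [QuasiCompact G'.hom] (f : G ⟶ G') [IsMonHom f]
    (H : Scheme.{u}) (i : H ⟶ G'.left) [IsClosedImmersion i] [IsReduced H]
    (hH : Set.range i.base = Set.range f.left.base) : Smooth (i ≫ G'.hom) := by
  have h : (Groth.Agent.Lib.GrpHomAction45.viaHom f).orbitMap η[G'] = f := by
    unfold AlgGrp.Action.orbitMap
    rw [Groth.Agent.Lib.GrpHomAction45.viaHom_act, MonObj.comp_mul, lift_fst_assoc, lift_snd,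
      Category.id_comp, ← Hom.one_def, _root_.mul_one]
  have hH' : Set.range i = Set.range
      ((Groth.Agent.Lib.GrpHomAction45.viaHom f).orbitMap η[G']).left := by
    rw [h]; exact hH
  exact Groth.Agent.Lib.OrbitSmooth45.smooth_of_orbit
    (Groth.Agent.Lib.GrpHomAction45.viaHom f) η[G'] i hH'

end Groth.Agent.S15604
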