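import Groth.Statements.S15610
import Mathlib.Topology.Connected.Clopen

set_option autoImplicit false
universe u
open SchFin SchFin.RSpace

namespace Groth.Agent.S15610


open SchFin SchFin.RSpace

theorem connectedSpace_iff_idem (R : Type*) [CommRing R] :
    ConnectedSpace (PrimeSpectrum R) ↔
      Nontrivial R ∧ ∀ e : R, IsIdempotentElem e → e = 0 ∨ e = 1 := by
  rw [connectedSpace_iff_clopen]
  constructor
  · rintro ⟨hne, hcl⟩
    have hnt : Nontrivial R := (PrimeSpectrum.nonempty_iff_nontrivial).1 hne
    refine ⟨hnt, fun e he => ?_⟩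
    have h1 : IsClopen (PrimeSpectrum.basicOpen e : Set (PrimeSpectrum R)) :=
      PrimeSpectrum.isClopen_iff.2 ⟨e, he, rfl⟩
    rcases hcl _ h1 with h | h
    · left
      have h2 : IsNilpotent e := by
        rw [← PrimeSpectrum.basicOpen_eq_bot_iff]
        exact TopologicalSpace.Opens.ext h
      obtain ⟨n, hn⟩ := h2
      rcases Nat.eq_zero_or_pos n with h0 | hpos
      · subst h0
        rw [pow_zero] at hn
        exact absurd hn one_ne_zero
      · rw [← he.pow_eq (n := n) (by omega)]
        exact hn
    · right
      have h2 : IsUnit e := by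
        by_contra hu
        obtain ⟨M, hM, heM⟩ := exists_max_ideal_of_mem_nonunits (mem_nonunits_iff.2 hu)
        have hmem : (⟨M, hM.isPrime⟩ : PrimeSpectrum R) ∈
            (PrimeSpectrum.basicOpen e : Set (PrimeSpectrum R)) := by
          rw [h]
          trivial
        exact hmem heM
      obtain ⟨u, rfl⟩ := h2
      have h3 : (u : R) * u = u := he
      have := congrArg (fun t => (↑u⁻¹ : R) * t) h3
      simpa using this
  · rintro ⟨hnt, hidem⟩
    refine ⟨(PrimeSpectrum.nonempty_iff_nontrivial).2 hnt, fun s hs => ?_⟩
    obtain ⟨e, he, rfl⟩ := PrimeSpectrum.isClopen_iff.1 hs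
    rcases hidem e he with h | h
    · left
      rw [h]
      simp
    · right
      rw [h]
      simp


open SchFin in
/-- A schematic finite space is well-connected (the prime spectrum of its ring of global sections is
connected and the prime spectrum of the ring of each point is connected) if and only if its poset of
points is non-empty and connected and the prime spectrum of the ring of each point is connected. -/
theorem result (X : RSpace.{u})
    (hX : X.IsSchematic) : X.IsWellConnected ↔ (X.IsTopConnected ∧ X.IsPwConnected) := by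
  unfold RSpace.IsWellConnected
  refine and_congr_left fun hpw => ?_
  have hnt : ∀ p : X.pt, Nontrivial (X.ring p) := fun p =>
    ((connectedSpace_iff_idem _).1 (hpw p)).1
  have hid : ∀ p : X.pt, ∀ e : X.ring p, IsIdempotentElem e → e = 0 ∨ e = 1 := fun p =>
    ((connectedSpace_iff_idem _).1 (hpw p)).2
  unfold RSpace.IsConnected
  rw [connectedSpace_iff_idem]
  constructor
  · rintro ⟨hΓnt, hΓid⟩
    have hne : Nonempty X.pt := by
      by_contra hemp
      rw [not_nonempty_iff] at hemp
      obtain ⟨a, b, hab⟩ := hΓnt
      exact hab (Subtype.ext (funext fun q => (hemp.false q.1).elim))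
    refine ⟨hne, fun p q => ?_⟩
    by_contra hpq
    classical
    let ev : (z : ↥(Set.univ : Set X.pt)) → X.ring z.1 := fun z =>
      if Relation.EqvGen (fun a b : X.pt => a ≤ b) p z.1 then 1 else 0
    have hev : ev ∈ X.sectRing Set.univ := by
      intro z z' hzz'
      by_cases hz : Relation.EqvGen (fun a b : X.pt => a ≤ b) p z.1
      · have hz' : Relation.EqvGen (fun a b : X.pt => a ≤ b) p z'.1 :=
          Relation.EqvGen.trans _ _ _ hz (Relation.EqvGen.rel _ _ hzz')
        simp only [ev, if_pos hz, if_pos hz', map_one]
      · have hz' : ¬ Relation.EqvGen (fun a b : X.pt => a ≤ b) p z'.1 := fun h' =>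
          hz (Relation.EqvGen.trans _ _ _ h'
            (Relation.EqvGen.symm _ _ (Relation.EqvGen.rel _ _ hzz')))
        simp only [ev, if_neg hz, if_neg hz', map_zero]
    let e : X.sectRing Set.univ := ⟨ev, hev⟩
    have he : IsIdempotentElem e := by
      apply Subtype.ext
      funext z
      show ev z * ev z = ev z
      by_cases hz : Relation.EqvGen (fun a b : X.pt => a ≤ b) p z.1
      · simp only [ev, if_pos hz, mul_one]
      · simp only [ev, if_neg hz, mul_zero]
    rcases hΓid e he with h0 | h1
    · have := congrArg (fun t : X.sectRing Set.univ => t.1 ⟨p, trivial⟩) h0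
      have h2 : ev ⟨p, trivial⟩ = 1 := if_pos (Relation.EqvGen.refl p)
      have h3 : (1 : X.ring p) = 0 := h2.symm.trans this
      exact one_ne_zero h3
    · have := congrArg (fun t : X.sectRing Set.univ => t.1 ⟨q, trivial⟩) h1
      have h2 : ev ⟨q, trivial⟩ = 0 := if_neg hpq
      have h3 : (0 : X.ring q) = 1 := h2.symm.trans this
      exact zero_ne_one h3
  · rintro ⟨hne, hconn⟩
    obtain ⟨p₀⟩ := hne
    refine ⟨⟨0, 1, fun h01 => ?_⟩, fun e he => ?_⟩
    · have := congrArg (fun t : X.sectRing Set.univ => t.1 ⟨p₀, trivial⟩) h01
      exact zero_ne_one (α := X.ring p₀) this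
    · have hpt : ∀ z : ↥(Set.univ : Set X.pt), e.1 z = 0 ∨ e.1 z = 1 := fun z =>
        hid z.1 (e.1 z) (congrArg (fun t : X.sectRing Set.univ => t.1 z) he)
      have hstep : ∀ a b : X.pt, a ≤ b → (e.1 ⟨a, trivial⟩ = 1 ↔ e.1 ⟨b, trivial⟩ = 1) := by
        intro a b hab
        have hres : X.res hab (e.1 ⟨a, trivial⟩) = e.1 ⟨b, trivial⟩ :=
          e.2 ⟨a, trivial⟩ ⟨b, trivial⟩ hab
        constructor
        · intro ha
          rw [← hres, ha, map_one]
        · intro hb
          rcases hpt ⟨a, trivial⟩ with h | h
          · rw [h, map_zero] at hres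
            exact absurd (hres.trans hb) zero_ne_one
          · exact h
      have hall : ∀ a b : X.pt, Relation.EqvGen (fun a b : X.pt => a ≤ b) a b →
          (e.1 ⟨a, trivial⟩ = 1 ↔ e.1 ⟨b, trivial⟩ = 1) := by
        intro a b hab
        induction hab with
        | rel a b h => exact hstep a b h
        | refl a => exact Iff.rfl
        | symm a b _ ih => exact ih.symm
        | trans a b c _ _ ih1 ih2 => exact ih1.trans ih2
      rcases hpt ⟨p₀, trivial⟩ with h | h
      · left
        apply Subtype.ext
        funext z
        rcases hpt z with hz | hz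
        · exact hz
        · have := (hall z.1 p₀ (hconn z.1 p₀)).1 hz
          rw [h] at this
          exact absurd this zero_ne_one
      · right
        apply Subtype.ext
        funext z
        exact (hall p₀ z.1 (hconn p₀ z.1)).1 h

end Groth.Agent.S15610
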