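import Groth.Statements.S15613
import Groth.Agent.Lib.H94SchFinLoc
import Mathlib.RingTheory.TensorProduct.Nontrivial

set_option autoImplicit false
universe u
open SchFin SchFin.GeomPt

namespace Groth.Agent.S15613


open SchFin SchFin.RSpace TensorProduct

theorem false_of_isBCAlong_subsingleton {R S : Type u} [CommRing R] [CommRing S] (g : R →+* S)
    {M N : Type u} [AddCommGroup M] [AddCommGroup N] [Module R M] [Module S N] (f : M →ₛₗ[g] N)
    (hf : IsBCAlong g f) [Subsingleton N] {T : Type u} [CommRing T] (j : S →+* T)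
    (γ : M →+ T) (hγ : ∀ (a : R) (m : M), γ (a • m) = j (g a) * γ m) (m₀ : M)
    (hm₀ : γ m₀ ≠ 0) : False := by
  let _ : Algebra R S := g.toAlgebra
  let _ : Module R N := Module.compHom N g
  have : IsScalarTower R S N := IsScalarTower.of_algebraMap_smul fun _ _ => rfl
  let _ : Module S T := Module.compHom T j
  let _ : Module R T := Module.compHom T (j.comp g)
  have : IsScalarTower R S T := IsScalarTower.of_algebraMap_smul fun _ _ => rfl
  have hbc : IsBaseChange S
      ({ toFun := f, map_add' := f.map_add, map_smul' := f.map_smulₛₗ } : M →ₗ[R] N) := hf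
  let γ' : M →ₗ[R] T :=
    { toFun := fun m => γ m
      map_add' := fun a b => map_add γ a b
      map_smul' := fun a m => hγ a m }
  have h1 := hbc.lift_eq γ' m₀
  have h2 : f m₀ = 0 := Subsingleton.elim _ _
  have h3 : hbc.lift γ' (f m₀) = 0 := by rw [h2, map_zero]
  exact hm₀ (h1.symm.trans h3)


open SchFin in
/-- For a geometric point of a schematic finite space with values in an algebraically closed field,
hitting the point x with ring map from the ring of x to the field, the kernel of that ring map does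
not lift to any point strictly above x: no prime of the ring of such a point contracts to it along
the restriction map. -/
theorem result (X : RSpace.{u}) (hX : X.IsSchematic) {Ω : Type u} [Field Ω]
    [IsAlgClosed Ω] (ξ : GeomPt X Ω) {x' : X.pt} (hx : ξ.base < x') (P : Ideal (X.ring x')) [P.IsPrime] :
    P.comap (X.res hx.le) ≠ RingHom.ker ξ.toField := by
  intro hP
  have hbc := (ξ.isSchematic.2.2 0 PUnit.unit PUnit.unit le_rfl ξ.base x' hx.le).2
  -- the target cohomology vanishes
  have hempty : IsEmpty (Chain (ξ.hom.wedge PUnit.unit x') 0) := ⟨fun σ => by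
    have h1 : x' ≤ ξ.base := (σ 0).2.2
    exact absurd (lt_of_lt_of_le hx h1) (lt_irrefl _)⟩
  have hsub : Subsingleton (H (Coef.ofHom ξ.hom x' (ξ.hom.wedge PUnit.unit x')
      (ξ.hom.wedge_subset_pre PUnit.unit x')) (RSpace.point Ω).str 0) := by
    have h0 : Subsingleton (Cochain (Coef.ofHom ξ.hom x' (ξ.hom.wedge PUnit.unit x')
        (ξ.hom.wedge_subset_pre PUnit.unit x')) (RSpace.point Ω).str 0) := by
      unfold Cochain
      infer_instance
    refine ⟨fun a b => ?_⟩
    obtain ⟨a, rfl⟩ := Submodule.Quotient.mk_surjective _ a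
    obtain ⟨b, rfl⟩ := Submodule.Quotient.mk_surjective _ b
    rw [Subsingleton.elim a b]
  -- the test ring
  let 𝔭 : Ideal (X.ring ξ.base) := RingHom.ker ξ.toField
  let R₀ := X.ring ξ.base ⧸ 𝔭
  let B₀ := X.ring x' ⧸ P
  have hle : 𝔭 ≤ P.comap (X.res hx.le) := hP.ge
  let _ : Algebra R₀ Ω := (RingHom.kerLift ξ.toField).toAlgebra
  let _ : Algebra R₀ B₀ := (Ideal.quotientMap P (X.res hx.le) hle).toAlgebra
  have hinjA : Function.Injective (algebraMap R₀ Ω) := RingHom.kerLift_injective ξ.toField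
  have hinjB : Function.Injective (algebraMap R₀ B₀) :=
    Ideal.quotientMap_injective' hP.le
  have hnt : Nontrivial (Ω ⊗[R₀] B₀) :=
    Algebra.TensorProduct.nontrivial_of_algebraMap_injective_of_isDomain R₀ Ω B₀ hinjA hinjB
  let ι : Ω →+* Ω ⊗[R₀] B₀ := Algebra.TensorProduct.includeLeftRingHom
  let j : X.ring x' →+* Ω ⊗[R₀] B₀ :=
    (Algebra.TensorProduct.includeRight (R := R₀) (A := Ω) (B := B₀)).toRingHom.comp
      (Ideal.Quotient.mk P)
  have hcompat : ∀ a : X.ring ξ.base, ι (ξ.toField a) = j (X.res hx.le a) := by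
    intro a
    show (ξ.toField a) ⊗ₜ[R₀] (1 : B₀) = (1 : Ω) ⊗ₜ[R₀] (Ideal.Quotient.mk P (X.res hx.le a))
    have h1 : ξ.toField a = algebraMap R₀ Ω (Ideal.Quotient.mk 𝔭 a) := rfl
    have h2 : Ideal.Quotient.mk P (X.res hx.le a) = algebraMap R₀ B₀ (Ideal.Quotient.mk 𝔭 a) := rfl
    rw [h1, h2, Algebra.algebraMap_eq_smul_one, Algebra.algebraMap_eq_smul_one,
      TensorProduct.smul_tmul]
  -- the source chain and the evaluation
  let σ₀ : Chain (ξ.hom.wedge PUnit.unit ξ.base) 0 :=
    OrderEmbedding.ofMapLEIff (fun _ => ⟨PUnit.unit, le_refl _, le_refl _⟩) (by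
      intro a b
      have hab : a = b := by
        apply Fin.ext
        have h1 := a.isLt
        have h2 := b.isLt
        omega
      simp [hab])
  let _ : Module (X.ring ξ.base) (Ω ⊗[R₀] B₀) := Module.compHom _ (j.comp (X.res hx.le))
  let evΩ : cocycles (Coef.ofHom ξ.hom ξ.base (ξ.hom.wedge PUnit.unit ξ.base)
      (ξ.hom.wedge_subset_pre PUnit.unit ξ.base)) (RSpace.point Ω).str 0 → Ω := fun c => c.1 σ₀
  let ℓ : cocycles (Coef.ofHom ξ.hom ξ.base (ξ.hom.wedge PUnit.unit ξ.base)
      (ξ.hom.wedge_subset_pre PUnit.unit ξ.base)) (RSpace.point Ω).str 0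
      →ₗ[X.ring ξ.base] Ω ⊗[R₀] B₀ :=
    { toFun := fun c => ι (evΩ c)
      map_add' := fun a b => map_add ι _ _
      map_smul' := fun a c => by
        have h1 : evΩ (a • c) = ξ.toField (X.res (le_refl ξ.base) a) * evΩ c := rfl
        show ι (evΩ (a • c)) = j (X.res hx.le a) * ι (evΩ c)
        rw [h1, X.res_self, map_mul, hcompat] }
  let γ : H (Coef.ofHom ξ.hom ξ.base (ξ.hom.wedge PUnit.unit ξ.base)
      (ξ.hom.wedge_subset_pre PUnit.unit ξ.base)) (RSpace.point Ω).str 0
      →ₗ[X.ring ξ.base] Ω ⊗[R₀] B₀ :=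
    Submodule.liftQ _ ℓ (by
      intro c hc
      have hc' : c.1 = 0 := hc
      show ι (evΩ c) = 0
      have h1 : evΩ c = 0 := by
        show c.1 σ₀ = 0
        rw [hc']
        rfl
      rw [h1]
      exact map_zero ι)
  -- the class of the constant cochain `1`
  have hempty1 : IsEmpty (Chain (ξ.hom.wedge PUnit.unit ξ.base) 1) := ⟨fun τ => by
    have h1 : τ 0 < τ 1 := τ.strictMono (by decide)
    have h2 : τ 0 = τ 1 := Subtype.ext rfl
    exact absurd h1 (by rw [h2]; exact lt_irrefl _)⟩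
  let c₁ : Cochain (Coef.ofHom ξ.hom ξ.base (ξ.hom.wedge PUnit.unit ξ.base)
      (ξ.hom.wedge_subset_pre PUnit.unit ξ.base)) (RSpace.point Ω).str 0 := fun _ => (1 : Ω)
  have hc₁ : c₁ ∈ cocycles (Coef.ofHom ξ.hom ξ.base (ξ.hom.wedge PUnit.unit ξ.base)
      (ξ.hom.wedge_subset_pre PUnit.unit ξ.base)) (RSpace.point Ω).str 0 := by
    show diff _ _ 0 c₁ = 0
    funext τ
    exact (hempty1.false τ).elim
  refine false_of_isBCAlong_subsingleton (X.res hx.le) _ hbc j γ.toAddMonoidHom
    (fun a m => γ.map_smul a m) (H.mk _ _ 0 ⟨c₁, hc₁⟩) ?_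
  show ι (1 : Ω) ≠ 0
  rw [map_one]
  exact one_ne_zero

end Groth.Agent.S15613
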