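import Groth.Statements.S15614
import Groth.Agent.Lib.H94SchFinH0

set_option autoImplicit false
universe u
open SchFin SchFin.RSpace

namespace Groth.Agent.S15614


open SchFin SchFin.RSpace TensorProduct Groth.Agent.Lib.H94SchFin

/-- From an isomorphism of local rings `R_𝔭 ≃ A_P`, a ring map `A → B_Q` compatible over `R` and
pulling the maximal ideal back to `P`. -/
theorem exists_psi {R A B : Type u} [CommRing R] [CommRing A] [CommRing B] (f : R →+* A)
    (g : R →+* B) (P : Ideal A) [P.IsPrime] (Q : Ideal B) [Q.IsPrime]
    (hPQ : P.comap f = Q.comap g)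
    (hbij : Function.Bijective (Localization.localRingHom (P.comap f) P f rfl)) :
    ∃ ψ : A →+* Localization.AtPrime Q,
      ψ.comp f = (algebraMap B (Localization.AtPrime Q)).comp g ∧
      (IsLocalRing.maximalIdeal (Localization.AtPrime Q)).comap ψ = P := by
  let e : Localization.AtPrime (P.comap f) ≃+* Localization.AtPrime P :=
    RingEquiv.ofBijective _ hbij
  let ℓ : Localization.AtPrime (P.comap f) →+* Localization.AtPrime Q :=
    Localization.localRingHom (P.comap f) Q g hPQ
  have hℓ : IsLocalHom ℓ := Localization.isLocalHom_localRingHom (P.comap f) Q g hPQ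
  refine ⟨ℓ.comp (e.symm.toRingHom.comp (algebraMap A (Localization.AtPrime P))), ?_, ?_⟩
  · ext r
    show ℓ (e.symm (algebraMap A (Localization.AtPrime P) (f r))) =
      algebraMap B (Localization.AtPrime Q) (g r)
    have h1 : algebraMap A (Localization.AtPrime P) (f r) =
        e (algebraMap R (Localization.AtPrime (P.comap f)) r) :=
      (Localization.localRingHom_to_map (P.comap f) P f rfl r).symm
    rw [h1, RingEquiv.symm_apply_apply]
    exact Localization.localRingHom_to_map (P.comap f) Q g hPQ r
  · ext a
    show ℓ (e.symm (algebraMap A (Localization.AtPrime P) a)) ∈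
      IsLocalRing.maximalIdeal (Localization.AtPrime Q) ↔ a ∈ P
    rw [IsLocalRing.mem_maximalIdeal, mem_nonunits_iff, isUnit_map_iff ℓ,
      MulEquiv.isUnit_map (f := e.symm), IsLocalization.AtPrime.isUnit_to_map_iff _ P]
    exact not_not


open SchFin in
/-- In a schematic finite space, let x and y be points above a common point s, P a prime of the ring of
x and Q a prime of the ring of y whose contractions to the ring of s agree. Then the pairs (x, P)
and (y, Q) are related: some point above both x and y carries a prime contracting to P and to Q.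
(The published statement does not carry the hypothesis that, for every two points that lie above a
common point and whose minimal open sets meet, the product of the rings over the intersection of
these minimal open sets is faithfully flat over the ring of sections on it; the published proof
obtains this fact from properties of affine schematic spaces recalled there without proof, and this
row carries it explicitly.) -/
theorem result (X : RSpace.{u}) (hX : X.IsSchematic)
    (hff : ∀ s a b : X.pt, s ≤ a → s ≤ b → (X.up a ∩ X.up b).Nonempty →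
      Module.FaithfullyFlat (X.sectRing (X.up a ∩ X.up b)) ((q : ↥(X.up a ∩ X.up b)) → X.ring q.1))
    {s x y : X.pt} (hx : s ≤ x) (hy : s ≤ y) (P : PrimeSpectrum (X.ring x)) (Q : PrimeSpectrum (X.ring y))
    (hPQ : PrimeSpectrum.comap (X.res hx) P = PrimeSpectrum.comap (X.res hy) Q) :
    X.PairRel ⟨x, P⟩ ⟨y, Q⟩ := by
  have hbij := localRingHom_res_bijective X hX hx P.asIdeal
  have hPQ' : P.asIdeal.comap (X.res hx) = Q.asIdeal.comap (X.res hy) :=
    congrArg PrimeSpectrum.asIdeal hPQ
  obtain ⟨ψ, hψ1, hψ2⟩ := exists_psi (X.res hx) (X.res hy) P.asIdeal Q.asIdeal hPQ' hbij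
  obtain ⟨Φ, hΦ1, hΦ2⟩ := exists_lift X hX hx hy ψ
    (algebraMap (X.ring y) (Localization.AtPrime Q.asIdeal)) hψ1
  -- the prime of the ring of sections
  let 𝔯 : PrimeSpectrum (X.sectRing (X.up x ∩ X.up y)) :=
    PrimeSpectrum.comap Φ (IsLocalRing.closedPoint (Localization.AtPrime Q.asIdeal))
  have h𝔯P : PrimeSpectrum.comap (X.resSect x _ Set.inter_subset_left) 𝔯 = P := by
    apply PrimeSpectrum.ext
    show ((IsLocalRing.maximalIdeal (Localization.AtPrime Q.asIdeal)).comap Φ).comap
      (X.resSect x _ Set.inter_subset_left) = P.asIdeal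
    rw [Ideal.comap_comap, hΦ1, hψ2]
  have h𝔯Q : PrimeSpectrum.comap (X.resSect y _ Set.inter_subset_right) 𝔯 = Q := by
    apply PrimeSpectrum.ext
    show ((IsLocalRing.maximalIdeal (Localization.AtPrime Q.asIdeal)).comap Φ).comap
      (X.resSect y _ Set.inter_subset_right) = Q.asIdeal
    rw [Ideal.comap_comap, hΦ2]
    exact Localization.AtPrime.under_maximalIdeal
  -- the intersection is nonempty
  have hne : (X.up x ∩ X.up y).Nonempty := by
    by_contra hemp
    have hsub : ∀ γ γ' : X.sectRing (X.up x ∩ X.up y), γ = γ' := by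
      intro γ γ'
      apply Subtype.ext
      funext q
      exact absurd ⟨q.1, q.2⟩ hemp
    exact 𝔯.2.ne_top ((Ideal.eq_top_iff_one _).2 (by
      rw [hsub 1 0]
      exact Ideal.zero_mem _))
  have hffl := hff s x y hx hy hne
  obtain ⟨𝔮, h𝔮⟩ := PrimeSpectrum.comap_surjective_of_faithfullyFlat
    (A := X.sectRing (X.up x ∩ X.up y)) (B := (q : ↥(X.up x ∩ X.up y)) → X.ring q.1) 𝔯
  obtain ⟨z, r, hr⟩ := PrimeSpectrum.exists_comap_evalRingHom_eq 𝔮
  refine ⟨z.1, z.2.1, z.2.2, r, ?_, ?_⟩
  · rw [← h𝔯P, ← h𝔮, ← hr]
    rfl
  · rw [← h𝔯Q, ← h𝔮, ← hr]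
    rfl

end Groth.Agent.S15614
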