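import Groth.Statements.S15615
import Groth.Agent.S15614

set_option autoImplicit false
universe u
open SchFin SchFin.RSpace

namespace Groth.Agent.S15615


open SchFin SchFin.RSpace

theorem comap_res_self (X : RSpace.{u}) (x : X.pt) (P : PrimeSpectrum (X.ring x)) :
    PrimeSpectrum.comap (X.res (le_refl x)) P = P := by
  apply PrimeSpectrum.ext
  ext a
  show X.res (le_refl x) a ∈ P.asIdeal ↔ a ∈ P.asIdeal
  rw [X.res_self]

theorem comap_res_comp (X : RSpace.{u}) {x y z : X.pt} (h : x ≤ y) (h' : y ≤ z)
    (r : PrimeSpectrum (X.ring z)) :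
    PrimeSpectrum.comap (X.res h) (PrimeSpectrum.comap (X.res h') r) =
      PrimeSpectrum.comap (X.res (h.trans h')) r := by
  apply PrimeSpectrum.ext
  ext a
  show X.res h' (X.res h a) ∈ r.asIdeal ↔ X.res (h.trans h') a ∈ r.asIdeal
  rw [X.res_comp]


open SchFin in
/-- In a schematic finite space, the relation on pairs (a point together with a prime of its ring) under
which two pairs are related when some pair at a point above both restricts to each of them is an
equivalence relation. (The published statement does not carry the hypothesis that, for every two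
points that lie above a common point and whose minimal open sets meet, the product of the rings over
the intersection of these minimal open sets is faithfully flat over the ring of sections on it; the
published proof obtains this fact from properties of affine schematic spaces recalled there without
proof, and this row carries it explicitly.) -/
theorem result (X : RSpace.{u}) (hX : X.IsSchematic)
    (hff : ∀ s a b : X.pt, s ≤ a → s ≤ b → (X.up a ∩ X.up b).Nonempty →
      Module.FaithfullyFlat (X.sectRing (X.up a ∩ X.up b)) ((q : ↥(X.up a ∩ X.up b)) → X.ring q.1)) :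
    Equivalence X.PairRel := by
  refine ⟨?_, ?_, ?_⟩
  · rintro ⟨x, P⟩
    exact ⟨x, le_refl x, le_refl x, P, comap_res_self X x P, comap_res_self X x P⟩
  · rintro a b ⟨z, hx, hy, r, h1, h2⟩
    exact ⟨z, hy, hx, r, h2, h1⟩
  · rintro ⟨x, P⟩ ⟨y, Q⟩ ⟨w, S⟩ ⟨z₁, hx1, hy1, r₁, h1, h2⟩ ⟨z₂, hy2, hw2, r₂, h3, h4⟩
    have hrel : X.PairRel ⟨z₁, r₁⟩ ⟨z₂, r₂⟩ :=
      Groth.Agent.S15614.result X hX hff hy1 hy2 r₁ r₂ (h2.trans h3.symm)
    obtain ⟨t, ht1, ht2, r, h5, h6⟩ := hrel
    refine ⟨t, le_trans hx1 ht1, le_trans hw2 ht2, r, ?_, ?_⟩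
    · rw [← comap_res_comp X hx1 ht1 r]
      show PrimeSpectrum.comap (X.res hx1) (PrimeSpectrum.comap (X.res ht1) r) = P
      rw [h5]
      exact h1
    · rw [← comap_res_comp X hw2 ht2 r]
      show PrimeSpectrum.comap (X.res hw2) (PrimeSpectrum.comap (X.res ht2) r) = S
      rw [h6]
      exact h4

end Groth.Agent.S15615
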