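import Groth.Statements.S15616
import Groth.Agent.S15615

set_option autoImplicit false
universe u
open SchFin SchFin.RSpace

namespace Groth.Agent.S15616


open SchFin SchFin.RSpace

theorem mk_eq_iff (X : RSpace.{u}) (hE : Equivalence X.PairRel) (a b : X.Pair) :
    Quot.mk X.PairRel a = Quot.mk X.PairRel b ↔ X.PairRel a b := by
  rw [Quot.eq]
  exact hE.eqvGen_iff


open SchFin in
/-- In a schematic finite space every schematic point, that is, every class of pairs (a point with a
prime of its ring), has exactly one representative whose point lies above the points of all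
representatives of the class. (The published statement does not carry the hypothesis that, for every
two points that lie above a common point and whose minimal open sets meet, the product of the rings
over the intersection of these minimal open sets is faithfully flat over the ring of sections on it;
the published proof obtains this fact from properties of affine schematic spaces recalled there
without proof, and this row carries it explicitly.) -/
theorem result (X : RSpace.{u}) (hX : X.IsSchematic)
    (hff : ∀ s a b : X.pt, s ≤ a → s ≤ b → (X.up a ∩ X.up b).Nonempty →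
      Module.FaithfullyFlat (X.sectRing (X.up a ∩ X.up b)) ((q : ↥(X.up a ∩ X.up b)) → X.ring q.1))
    (c : X.SchPt) :
    ∃! a : X.Pair, Quot.mk X.PairRel a = c ∧ ∀ b : X.Pair, Quot.mk X.PairRel b = c → b.1 ≤ a.1 := by
  have hE : Equivalence X.PairRel := Groth.Agent.S15615.result X hX hff
  obtain ⟨a₀, rfl⟩ := Quot.exists_rep c
  -- the set of points of representatives
  let S : Set X.pt := {p | ∃ b : X.Pair, Quot.mk X.PairRel b = Quot.mk X.PairRel a₀ ∧ b.1 = p}
  have hSne : S.Nonempty := ⟨a₀.1, a₀, rfl, rfl⟩
  have hSfin : S.Finite := Set.toFinite S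
  obtain ⟨m, hmS, hmax⟩ := hSfin.exists_maximal hSne
  obtain ⟨a, ha, ham⟩ := hmS
  have hgreatest : ∀ b : X.Pair, Quot.mk X.PairRel b = Quot.mk X.PairRel a₀ → b.1 ≤ a.1 := by
    intro b hb
    have hab : X.PairRel a b := (mk_eq_iff X hE a b).1 (ha.trans hb.symm)
    obtain ⟨z, hx, hy, r, h1, h2⟩ := hab
    have hzS : z ∈ S := by
      refine ⟨⟨z, r⟩, ?_, rfl⟩
      rw [← ha]
      apply Quot.sound
      exact ⟨z, le_refl z, hx, r, Groth.Agent.S15615.comap_res_self X z r, h1⟩
    have hmz : m ≤ z := ham ▸ hx
    have hzm : z ≤ m := hmax hzS hmz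
    rw [ham]
    exact le_trans hy hzm
  refine ⟨a, ⟨ha, hgreatest⟩, ?_⟩
  rintro a' ⟨ha', hg'⟩
  have h1 : a'.1 ≤ a.1 := hgreatest a' ha'
  have h2 : a.1 ≤ a'.1 := hg' a ha
  have h3 : a'.1 = a.1 := le_antisymm h1 h2
  have hrel : X.PairRel a' a := (mk_eq_iff X hE a' a).1 (ha'.trans ha.symm)
  obtain ⟨x, P⟩ := a
  obtain ⟨x', P'⟩ := a'
  have h3' : x' = x := h3
  subst h3'
  obtain ⟨z, hx, hy, r, e1, e2⟩ := hrel
  have : P' = P := e1.symm.trans e2
  rw [this]

end Groth.Agent.S15616
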