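import Groth.Statements.S15625
import Groth.Agent.Lib.H94FEt

set_option autoImplicit false
universe u
open SchFin SchFin.FEt

namespace Groth.Agent.S15625


open SchFin SchFin.RSpace CategoryTheory Groth.Agent.Lib.H94FEt


open SchFin CategoryTheory in
/-- Over a schematic finite space, every morphism of étale covers factors, inside the category of étale
covers, as a morphism that is surjective at every point followed by one that is injective at every
point (in particular as an epimorphism followed by a monomorphism; the middle object is the quotient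
by the kernel). -/
theorem result (X : RSpace.{u}) (hX : X.IsSchematic) {A B : FEt X}
    (f : A ⟶ B) :
    ∃ (Q : FEt X) (g : A ⟶ Q) (h : Q ⟶ B), g ≫ h = f ∧ (∀ p : X.pt, Function.Surjective (g.hom.app p)) ∧
      ∀ p : X.pt, Function.Injective (h.hom.app p) := by
  have hfin := hX.1
  let J : ∀ p, Ideal (A.obj.carrier p) := fun p => RingHom.ker (f.hom.app p)
  have hJ : ∀ {p q : X.pt} (h : p ≤ q), J p ≤ (J q).comap (A.obj.res h) := by
    intro p q h a ha
    show f.hom.app q (A.obj.res h a) = 0
    rw [← f.hom.compat h a, (RingHom.mem_ker.1 ha), map_zero]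
  have hidem : ∀ p, ∃ e, IsIdempotentElem e ∧ J p = Ideal.span {e} := by
    intro p
    have := hfin.1 p
    have := (A.property.2 p).1
    have := (A.property.2 p).2
    have := (B.property.2 p).1
    have := (B.property.2 p).2
    exact exists_idem_ker (f.hom.app p)
  have hspan : ∀ {p q : X.pt} (h : p ≤ q), ∀ a' ∈ J q,
      a' ∈ Submodule.span (X.ring q) (A.obj.res h '' (J p : Set (A.obj.carrier p))) := by
    intro p q h a' ha'
    let fA : A.obj.carrier p →ₛₗ[X.res h] A.obj.carrier q := A.obj.toMod.res h
    have hfA : IsBCAlong (X.res h) fA := A.property.1 p q h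
    let fB : B.obj.carrier p →ₛₗ[X.res h] B.obj.carrier q := B.obj.toMod.res h
    have hfB : IsBCAlong (X.res h) fB := B.property.1 p q h
    exact ker_le_span_of_flat (X.res h) (hfin.2 p q h) fA hfA fB hfB
      (f.hom.app p).toLinearMap (f.hom.app q).toLinearMap (fun a => (f.hom.compat h a).symm) ha'
  let Q : FEt X := ⟨quotAlg A.obj J hJ, quotAlg_isEtCover A.obj A.property J hJ hidem hspan⟩
  refine ⟨Q, ObjectProperty.homMk (quotMk A.obj J hJ),
    ObjectProperty.homMk (quotLift A.obj J hJ f.hom (fun p a ha => ha)), ?_, ?_, ?_⟩
  · apply ObjectProperty.hom_ext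
    exact quotMk_quotLift A.obj J hJ f.hom (fun p a ha => ha)
  · intro p
    exact Ideal.Quotient.mk_surjective
  · intro p
    refine (injective_iff_map_eq_zero _).2 fun x hx => ?_
    obtain ⟨a, rfl⟩ := Ideal.Quotient.mk_surjective x
    have h1 : f.hom.app p a = 0 := hx
    exact Ideal.Quotient.eq_zero_iff_mem.2 h1

end Groth.Agent.S15625
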