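import Groth.Statements.S15626
import Groth.Agent.Lib.H94FEt3
import Groth.Agent.S15625

set_option autoImplicit false
universe u
open SchFin SchFin.FEt

namespace Groth.Agent.S15626


open SchFin SchFin.RSpace CategoryTheory CategoryTheory.Limits Groth.Agent.Lib.H94FEt


open SchFin CategoryTheory in
/-- Over a schematic finite space, a monomorphism in the category of étale covers is injective at every
point (the converse implication being elementary). -/
theorem result (X : RSpace.{u}) (hX : X.IsSchematic) {A B : FEt X} (f : A ⟶ B)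
    [Mono f] (p : X.pt) : Function.Injective (f.hom.app p) := by
  obtain ⟨Q, g, h, hgh, hgsurj, hhinj⟩ := Groth.Agent.S15625.result X hX f
  have hmono : Mono g := by
    have : Mono (g ≫ h) := by rw [hgh]; infer_instance
    exact mono_of_mono g h
  obtain ⟨D, π, -, hbij⟩ := exists_complement hX.1 g hgsurj
  let T : FEt X := prodFEt A D
  let u : T ⟶ A := ObjectProperty.homMk (prodFst A.obj D.obj)
  let w : T ⟶ D := ObjectProperty.homMk (prodSnd A.obj D.obj)
  let hl := isLimitOfBijective g π hbij
  let v : T ⟶ A := hl.lift (BinaryFan.mk (u ≫ g) w)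
  have hv1 : v ≫ g = u ≫ g := hl.fac (BinaryFan.mk (u ≫ g) w) ⟨WalkingPair.left⟩
  have hv2 : v ≫ π = w := hl.fac (BinaryFan.mk (u ≫ g) w) ⟨WalkingPair.right⟩
  have hvu : v = u := (cancel_mono g).1 hv1
  have hπ : u ≫ π = w := hvu ▸ hv2
  have hpt : ∀ (a : A.obj.carrier p) (d : D.obj.carrier p), π.hom.app p a = d := by
    intro a d
    have := congrArg (fun k : T ⟶ D => k.hom.app p (a, d)) hπ
    exact this
  refine (injective_iff_map_eq_zero _).2 fun a ha => ?_
  have h1 : h.hom.app p (g.hom.app p a) = 0 := by
    have := congrArg (fun k : A ⟶ B => k.hom.app p a) hgh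
    exact this.trans ha
  have h2 : g.hom.app p a = 0 := (injective_iff_map_eq_zero _).1 (hhinj p) _ h1
  have h3 : π.hom.app p a = 0 := hpt a 0
  apply (hbij p).1
  show (g.hom.app p a, π.hom.app p a) = (g.hom.app p 0, π.hom.app p 0)
  rw [h2, h3, map_zero, map_zero]

end Groth.Agent.S15626
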