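import Groth.Statements.S15627
import Groth.Agent.Lib.H94SchFinPt
import Groth.Agent.S15614

set_option autoImplicit false
universe u
open SchFin SchFin.GeomPt

namespace Groth.Agent.S15627


open SchFin SchFin.RSpace Groth.Agent.Lib.H94SchFin


open SchFin in
/-- Let X be a schematic finite space and Ω an algebraically closed field. Given a pair (x, P) of a
point and a prime of its ring which is the maximal representative of its class (every related pair
sits at a point below x) and a ring map φ from the residue field of P to Ω, there is exactly one
geometric point of X with values in Ω that hits x and whose ring map from the ring of x to Ω is φ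
composed with the passage to the residue field. (The published statement is the resulting bijection
between geometric points with values in Ω and schematic points equipped with an embedding of their
residue field into Ω.) (The published statement does not carry the hypothesis that, for every two
points that lie above a common point and whose minimal open sets meet, the product of the rings over
the intersection of these minimal open sets is faithfully flat over the ring of sections on it; the
published proof obtains this fact from properties of affine schematic spaces recalled there without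
proof, and this row carries it explicitly.) -/
theorem result (X : RSpace.{u}) (hX : X.IsSchematic)
    (hff : ∀ s a b : X.pt, s ≤ a → s ≤ b → (X.up a ∩ X.up b).Nonempty →
      Module.FaithfullyFlat (X.sectRing (X.up a ∩ X.up b)) ((q : ↥(X.up a ∩ X.up b)) → X.ring q.1))
    (Ω : Type u) [Field Ω] [IsAlgClosed Ω] (a : X.Pair) (ha : ∀ b : X.Pair, X.PairRel a b → b.1 ≤ a.1)
    (φ : a.κ →+* Ω) :
    ∃! ξ : GeomPt X Ω, (⟨ξ.base, ξ.toField⟩ : Σ x : X.pt, (X.ring x →+* Ω)) =
      ⟨a.1, φ.comp (algebraMap (X.ring a.1) a.κ)⟩ := by
  obtain ⟨x₀, P⟩ := a
  let ρ : X.ring x₀ →+* Ω := φ.comp (algebraMap (X.ring x₀) P.asIdeal.ResidueField)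
  have hker : RingHom.ker ρ = P.asIdeal := by
    ext r
    rw [RingHom.mem_ker]
    show φ (algebraMap (X.ring x₀) P.asIdeal.ResidueField r) = 0 ↔ r ∈ P.asIdeal
    rw [map_eq_zero_iff φ φ.injective, Ideal.algebraMap_residueField_eq_zero]
  have hsch : (pointHom X x₀ ρ).IsSchematic := by
    apply pointHom_isSchematic X hX x₀ ρ
    intro y y' hy hy0 hy' Q' hQ'
    apply hy'
    have hcomap : PrimeSpectrum.comap (X.res hy0) P = PrimeSpectrum.comap (X.res hy) Q' := by
      apply PrimeSpectrum.ext
      show P.asIdeal.comap (X.res hy0) = Q'.asIdeal.comap (X.res hy)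
      rw [hQ', ← hker]
      rfl
    have hrel : X.PairRel ⟨x₀, P⟩ ⟨y', Q'⟩ :=
      Groth.Agent.S15614.result X hX hff hy0 hy P Q' hcomap
    exact ha ⟨y', Q'⟩ hrel
  refine ⟨⟨pointHom X x₀ ρ, hsch⟩, rfl, ?_⟩
  rintro ⟨⟨fn, mono, app, compat⟩, hs⟩ h
  have h1 : fn PUnit.unit = x₀ := congrArg Sigma.fst h
  have hfn : fn = fun _ => x₀ := funext fun q => h1
  subst hfn
  have h2 : app PUnit.unit = ρ := eq_of_heq (Sigma.mk.inj_iff.1 h).2
  have happ : app = fun _ => ρ := funext fun q => h2
  subst happ
  rfl

end Groth.Agent.S15627
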