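import Groth.Statements.S15629
import Groth.Agent.Lib.H94Inv3
import Mathlib.CategoryTheory.SingleObj

set_option autoImplicit false
universe u
open SchFin SchFin.FEt

namespace Groth.Agent.S15629

section Helpers

open SchFin CategoryTheory CategoryTheory.Limits Groth.Agent.Lib.H94FEt

variable {X : RSpace.{u}} {G : Type u} [Group G] [Finite G]

theorem hasLimit_of (hX : X.IsFinSp) (hlt : LocTriv X) (K : SingleObj G ⥤ FEt X) : HasLimit K := by
  let A : FEt X := K.obj (SingleObj.star G)
  let ρ : G → (A.obj ⟶ A.obj) := fun γ => (K.map (X := SingleObj.star G) (Y := SingleObj.star G) γ).hom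
  have h1 : ρ 1 = 𝟙 A.obj := by
    have := K.map_id (SingleObj.star G)
    exact congrArg (fun k : A ⟶ A => k.hom) this
  have hmul : ∀ g h, ρ (g * h) = ρ h ≫ ρ g := by
    intro g h
    have := K.map_comp (X := SingleObj.star G) (Y := SingleObj.star G) (Z := SingleObj.star G) h g
    exact congrArg (fun k : A ⟶ A => k.hom) this
  obtain ⟨B, n, hB, hiso⟩ := hlt A
  let P : FEt X := ⟨invAlg A.obj ρ, invAlg_isEtCover A.obj ρ hX A.property h1 hmul B n hB hiso⟩
  let c : Cone K :=
    { pt := P
      π :=
        { app := fun _ => ObjectProperty.homMk (invIncl A.obj ρ)
          naturality := by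
            intro j j' γ
            apply ObjectProperty.hom_ext
            show 𝟙 _ ≫ invIncl A.obj ρ = invIncl A.obj ρ ≫ ρ γ
            rw [Category.id_comp, invIncl_comp] } }
  have hs : ∀ (s : Cone K) (γ : G),
      (s.π.app (SingleObj.star G)).hom ≫ ρ γ = (s.π.app (SingleObj.star G)).hom := by
    intro s γ
    have := s.π.naturality (X := SingleObj.star G) (Y := SingleObj.star G) γ
    have h2 := congrArg (fun k : s.pt ⟶ A => k.hom) this
    simp only [Functor.const_obj_obj, Functor.const_obj_map, Category.id_comp] at h2
    exact h2.symm
  refine HasLimit.mk ⟨c, ?_⟩
  refine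
    { lift := fun s => ObjectProperty.homMk
        (invLift A.obj ρ (s.π.app (SingleObj.star G)).hom (hs s))
      fac := ?_
      uniq := ?_ }
  · intro s j
    apply ObjectProperty.hom_ext
    exact invLift_incl A.obj ρ (s.π.app (SingleObj.star G)).hom (hs s)
  · intro s m hm
    apply ObjectProperty.hom_ext
    apply invIncl_mono A.obj ρ
    have h3 : (ObjectProperty.homMk (invLift A.obj ρ (s.π.app (SingleObj.star G)).hom (hs s)) :
        s.pt ⟶ P).hom ≫ invIncl A.obj ρ = (s.π.app (SingleObj.star G)).hom :=
      invLift_incl A.obj ρ (s.π.app (SingleObj.star G)).hom (hs s)
    rw [h3]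
    exact congrArg (fun k : s.pt ⟶ A => k.hom) (hm (SingleObj.star G))

end Helpers


open SchFin CategoryTheory CategoryTheory.Limits in
/-- Over a well-connected schematic finite space, the category of étale covers has, for every finite
group G, limits of diagrams indexed by the one-object category of G; that is, for every action of G
on an étale cover A there is an étale cover (the invariants of A, pointwise) through which exactly
the G-invariant morphisms into A factor. (The published statement speaks of contravariant
categorical quotients by finite subgroups of the automorphism group; an action through a group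
homomorphism has the same invariants as its image.) (This row carries as a hypothesis the local
triviality of étale covers — for every étale cover A there are a quasi-coherent algebra B, finite
and faithfully flat at every point, and a natural number n with B_p ⊗ A_p isomorphic to B_p^n as a
B_p-algebra at every point p — which holds for well-connected schematic spaces, the published proof
of that fact going by way of an equivalence of quasi-coherent modules along qc-isomorphisms recalled
without proof; the published statement does not carry it.) -/
theorem result (X : RSpace.{u}) (hX : X.IsSchematic) (hwc : X.IsWellConnected)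
    (hlt : ∀ A : FEt X, ∃ (B : Alg X) (n : ℕ), B.IsCovering ∧
      ∀ p : X.pt, Nonempty (TensorProduct (X.ring p) (B.carrier p) (A.obj.carrier p) ≃ₐ[B.carrier p] (Fin n → B.carrier p)))
    (G : Type u) [Group G] [Finite G] : HasLimitsOfShape (SingleObj G) (FEt X) := by
  exact ⟨fun K => hasLimit_of hX.1 hlt K⟩

end Groth.Agent.S15629
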