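import Groth.Statements.S15631
import Groth.Agent.Lib.H94FEt7
import Groth.Agent.S15625
import Mathlib.CategoryTheory.Limits.FintypeCat

set_option autoImplicit false
universe u
open SchFin SchFin.GeomPt

namespace Groth.Agent.S15631

section Helpers

open SchFin CategoryTheory Groth.Agent.Lib.H94FEt

theorem bijective_of_fib_bijective (X : RSpace.{u}) (hX : X.IsSchematic)
    (hlt : LocTriv X)
    {Ω : Type u} [Field Ω] [IsAlgClosed Ω] (ξ : GeomPt X Ω) {A B : FEt X} (φ : A ⟶ B)
    (hφ : Function.Bijective (ξ.fibMap φ.hom)) (p : X.pt) : Function.Bijective (φ.hom.app p) := by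
  obtain ⟨Q, g, h, hgh, hg, hh⟩ := Groth.Agent.S15625.result X hX φ
  obtain ⟨nA, hnA⟩ := rank_const hlt A
  obtain ⟨nB, hnB⟩ := rank_const hlt B
  obtain ⟨nQ, hnQ⟩ := rank_const hlt Q
  have hcomp : ξ.fibMap φ.hom = ξ.fibMap g.hom ∘ ξ.fibMap h.hom := by
    rw [← hgh]
    exact ξ.fibMap_comp g.hom h.hom
  have hginj : Function.Injective (ξ.fibMap g.hom) :=
    fibMap_injective_of_surjective ξ A.property Q.property g.hom (hg ξ.base)
  have hgsurj : Function.Surjective (ξ.fibMap g.hom) := by
    have := hφ.2
    rw [hcomp] at this
    exact Function.Surjective.of_comp this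
  have hcardAB : Nat.card (ξ.Fib B.obj) = Nat.card (ξ.Fib A.obj) :=
    Nat.card_congr (Equiv.ofBijective _ hφ)
  have hcardQA : Nat.card (ξ.Fib Q.obj) = Nat.card (ξ.Fib A.obj) :=
    Nat.card_congr (Equiv.ofBijective _ ⟨hginj, hgsurj⟩)
  rw [card_fib ξ _ B.property, card_fib ξ _ A.property, hnA, hnB] at hcardAB
  rw [card_fib ξ _ Q.property, card_fib ξ _ A.property, hnA, hnQ] at hcardQA
  have := (A.property.2 p).1
  have := (A.property.2 p).2
  have := (B.property.2 p).1
  have := (B.property.2 p).2
  have := (Q.property.2 p).1
  have := (Q.property.2 p).2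
  have : Module.Flat (X.ring p) (A.obj.carrier p) := inferInstance
  have : Module.Flat (X.ring p) (B.obj.carrier p) := inferInstance
  have : Module.Flat (X.ring p) (Q.obj.carrier p) := inferInstance
  have hgb : Function.Bijective (g.hom.app p) := by
    have := Module.bijective_of_surjective_of_rankAtStalk_eq (φ := (g.hom.app p).toLinearMap) (hg p)
      (fun m _ => by rw [hnA, hnQ, hcardQA])
    exact this
  have hhb : Function.Bijective (h.hom.app p) :=
    ⟨hh p, surjective_of_injective_of_rankAtStalk_eq (h.hom.app p) (hh p)
      (fun P => by rw [hnQ, hnB, hcardQA, hcardAB])⟩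
  have : φ.hom.app p = (h.hom.app p).comp (g.hom.app p) := by
    rw [← hgh]
    rfl
  rw [this]
  exact hhb.comp hgb

theorem main (X : RSpace.{u}) (hX : X.IsSchematic)
    (hlt : LocTriv X)
    {Ω : Type u} [Field Ω] [IsAlgClosed Ω] (ξ : GeomPt X Ω) : ξ.fibFunctor.ReflectsIsomorphisms := by
  constructor
  intro A B f hf
  have h1 : IsIso (FintypeCat.incl.map (ξ.fibFunctor.map f)) := inferInstance
  rw [isIso_iff_bijective] at h1
  have h2 : Function.Bijective (ξ.fibMap f.unop.hom) := h1
  have h3 : IsIso f.unop :=
    fet_isIso_of_bijective f.unop (bijective_of_fib_bijective X hX hlt ξ f.unop h2)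
  exact (isIso_unop_iff f).1 h3

end Helpers


open SchFin CategoryTheory in
/-- For a well-connected schematic finite space and a geometric point with values in an algebraically
closed field, the fibre functor at that point (an étale cover A goes to the prime spectrum of Ω ⊗
A_x, x the point hit), on the opposite of the category of étale covers, reflects isomorphisms. (This
row carries as a hypothesis the local triviality of étale covers — for every étale cover A there are
a quasi-coherent algebra B, finite and faithfully flat at every point, and a natural number n with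
B_p ⊗ A_p isomorphic to B_p^n as a B_p-algebra at every point p — which holds for well-connected
schematic spaces, the published proof of that fact going by way of an equivalence of quasi-coherent
modules along qc-isomorphisms recalled without proof; the published statement does not carry it.) -/
theorem result (X : RSpace.{u}) (hX : X.IsSchematic)
    (hwc : X.IsWellConnected)
    (hlt : ∀ A : FEt X, ∃ (B : Alg X) (n : ℕ), B.IsCovering ∧
      ∀ p : X.pt, Nonempty (TensorProduct (X.ring p) (B.carrier p) (A.obj.carrier p) ≃ₐ[B.carrier p] (Fin n → B.carrier p)))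
    {Ω : Type u} [Field Ω] [IsAlgClosed Ω] (ξ : GeomPt X Ω) : ξ.fibFunctor.ReflectsIsomorphisms := by
  exact main X hX hlt ξ

end Groth.Agent.S15631
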