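import Groth.Statements.S15633
import Groth.Agent.Lib.H94FEtFib
import Groth.Agent.S15626
import Mathlib.CategoryTheory.Limits.FintypeCat
import Mathlib.CategoryTheory.Limits.Types.Pullbacks
import Mathlib.CategoryTheory.Limits.Types.Coproducts
import Mathlib.CategoryTheory.Limits.Preserves.Shapes.Terminal
import Mathlib.CategoryTheory.Limits.Preserves.Shapes.Pullbacks
import Mathlib.CategoryTheory.Limits.Preserves.Shapes.BinaryProducts
import Mathlib.CategoryTheory.Limits.Constructions.FiniteProductsOfBinaryProducts
import Mathlib.CategoryTheory.Limits.Shapes.Opposites.Products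

set_option autoImplicit false
universe u
open SchFin SchFin.GeomPt

namespace Groth.Agent.S15633

section Helpers

open SchFin CategoryTheory CategoryTheory.Limits Groth.Agent.Lib.H94FEt

variable {X : RSpace.{u}} {Ω : Type u} [Field Ω] [IsAlgClosed Ω] (ξ : GeomPt X Ω)

/-- the fibre functor with values in types -/
noncomputable abbrev G : (FEt X)ᵒᵖ ⥤ Type u := ξ.fibFunctor ⋙ FintypeCat.incl

theorem presTerminal : PreservesLimitsOfShape (Discrete PEmpty.{1}) ξ.fibFunctor := by
  have : PreservesLimitsOfShape (Discrete PEmpty.{1}) (G ξ) := by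
    have hT : IsTerminal (Opposite.op (strFEt X)) := terminalOpOfInitial (IsInitial.ofUnique _)
    have : PreservesLimit (Functor.empty.{0} (FEt X)ᵒᵖ) (G ξ) := by
      apply preservesLimit_of_preserves_limit_cone hT
      refine (isLimitMapConeEmptyConeEquiv (G ξ) _).symm ?_
      obtain ⟨h1, h2⟩ := fib_str_subsingleton_nonempty ξ
      have : Unique (ξ.Fib (Alg.str X)) := ⟨⟨h1.some⟩, fun a => Subsingleton.elim _ _⟩
      exact Types.isTerminalEquivUnique _ |>.symm this
    exact preservesLimitsOfShape_pempty_of_preservesTerminal _
  exact preservesLimitsOfShape_of_reflects_of_preserves ξ.fibFunctor FintypeCat.incl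

theorem presPullback (hX : X.IsFinSp) {A B C : (FEt X)ᵒᵖ} (f' : A ⟶ C) (g' : B ⟶ C) :
    PreservesLimit (cospan f' g') (G ξ) := by
  have hpo : IsPushout f'.unop g'.unop (pushInl f'.unop g'.unop hX) (pushInr f'.unop g'.unop hX) :=
    ⟨⟨push_condition f'.unop g'.unop hX⟩, ⟨pushIsColimit f'.unop g'.unop hX⟩⟩
  have hpb : IsPullback (pushInl f'.unop g'.unop hX).op (pushInr f'.unop g'.unop hX).op f' g' :=
    hpo.flip.op
  apply preservesLimit_of_preserves_limit_cone hpb.isLimit
  refine (isLimitMapConePullbackConeEquiv (G ξ) hpb.w).symm ?_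
  have h2 : IsPullback ((G ξ).map (pushInl f'.unop g'.unop hX).op)
      ((G ξ).map (pushInr f'.unop g'.unop hX).op) ((G ξ).map f') ((G ξ).map g') := by
    rw [Types.isPullback_iff]
    refine ⟨?_, ?_, ?_⟩
    · rw [← Functor.map_comp, ← Functor.map_comp, hpb.w]
    · rintro t t' ⟨h1, h2⟩
      exact fib_push_inj ξ f'.unop g'.unop hX t t' h1 h2
    · intro a b h
      exact fib_push_surj ξ f'.unop g'.unop hX a b h
  exact h2.isLimit

theorem presPullbacks (hX : X.IsFinSp) : PreservesLimitsOfShape WalkingCospan ξ.fibFunctor := by
  have : PreservesLimitsOfShape WalkingCospan (G ξ) := by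
    constructor
    intro K
    have := presPullback ξ hX (K.map WalkingCospan.Hom.inl) (K.map WalkingCospan.Hom.inr)
    exact preservesLimit_of_iso_diagram (G ξ) (diagramIsoCospan K).symm
  exact preservesLimitsOfShape_of_reflects_of_preserves ξ.fibFunctor FintypeCat.incl

/-- the coproduct cofan in the opposite category -/
noncomputable def opCofanIsColimit (A B : FEt X) :
    IsColimit (BinaryCofan.mk (P := Opposite.op (prodFEt A B))
      (ObjectProperty.homMk (prodFst A.obj B.obj) : prodFEt A B ⟶ A).op
      (ObjectProperty.homMk (prodSnd A.obj B.obj) : prodFEt A B ⟶ B).op) := by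
  refine BinaryCofan.IsColimit.mk _
    (fun {T} f g => (BinaryFan.IsLimit.lift' (prodFEtIsLimit A B) f.unop g.unop).1.op) ?_ ?_ ?_
  · intro T f g
    have := (BinaryFan.IsLimit.lift' (prodFEtIsLimit A B) f.unop g.unop).2.1
    exact congrArg Quiver.Hom.op this
  · intro T f g
    have := (BinaryFan.IsLimit.lift' (prodFEtIsLimit A B) f.unop g.unop).2.2
    exact congrArg Quiver.Hom.op this
  · intro T f g m h1 h2
    have e1 := (BinaryFan.IsLimit.lift' (prodFEtIsLimit A B) f.unop g.unop).2.1
    have e2 := (BinaryFan.IsLimit.lift' (prodFEtIsLimit A B) f.unop g.unop).2.2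
    apply Quiver.Hom.unop_inj
    apply BinaryFan.IsLimit.hom_ext (prodFEtIsLimit A B)
    · refine Eq.trans ?_ e1.symm
      exact congrArg Quiver.Hom.unop h1
    · refine Eq.trans ?_ e2.symm
      exact congrArg Quiver.Hom.unop h2

theorem presPair (A B : (FEt X)ᵒᵖ) : PreservesColimit (pair A B) (G ξ) := by
  apply preservesColimit_of_preserves_colimit_cocone (opCofanIsColimit A.unop B.unop)
  refine (isColimitMapCoconeBinaryCofanEquiv (G ξ) _ _).symm ?_
  apply Nonempty.some
  rw [Types.binaryCofan_isColimit_iff]
  refine ⟨?_, ?_, ?_⟩
  · exact fibMap_injective_of_surjective ξ (prodAlg_isEtCover _ _ A.unop.property B.unop.property)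
      A.unop.property (prodFst A.unop.obj B.unop.obj) (fun a => ⟨(a, 0), rfl⟩)
  · exact fibMap_injective_of_surjective ξ (prodAlg_isEtCover _ _ A.unop.property B.unop.property)
      B.unop.property (prodSnd A.unop.obj B.unop.obj) (fun b => ⟨(0, b), rfl⟩)
  · rw [isCompl_iff]
    constructor
    · rw [Set.disjoint_iff]
      rintro t ⟨⟨a, ha⟩, ⟨b, hb⟩⟩
      exact fib_prod_disjoint ξ A.unop.obj B.unop.obj A.unop.property B.unop.property a b
        (ha.trans hb.symm)
    · rw [codisjoint_iff, eq_top_iff]
      rintro t -
      rcases fib_prod_cases ξ A.unop.obj B.unop.obj A.unop.property B.unop.property t with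
        ⟨a, ha⟩ | ⟨b, hb⟩
      · exact Or.inl ⟨a, ha⟩
      · exact Or.inr ⟨b, hb⟩

theorem presInitial : PreservesColimitsOfShape (Discrete PEmpty.{1}) (G ξ) := by
  have hT : IsInitial (Opposite.op (zeroFEt X)) := initialOpOfTerminal (IsTerminal.ofUnique _)
  have : PreservesColimit (Functor.empty.{0} (FEt X)ᵒᵖ) (G ξ) := by
    apply preservesColimit_of_preserves_colimit_cocone hT
    refine (isColimitMapCoconeEmptyCoconeEquiv (G ξ) _).symm ?_
    apply Nonempty.some
    rw [Types.initial_iff_empty]
    exact fib_zero_isEmpty ξ
  exact preservesColimitsOfShape_pempty_of_preservesInitial _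

theorem presFiniteCoproducts : PreservesFiniteCoproducts ξ.fibFunctor := by
  have h1 : PreservesColimitsOfShape (Discrete PEmpty.{1}) ξ.fibFunctor := by
    have := presInitial ξ
    exact preservesColimitsOfShape_of_reflects_of_preserves ξ.fibFunctor FintypeCat.incl
  have h2 : PreservesColimitsOfShape (Discrete WalkingPair) ξ.fibFunctor := by
    have : PreservesColimitsOfShape (Discrete WalkingPair) (G ξ) := by
      constructor
      intro K
      have := presPair ξ (K.obj ⟨WalkingPair.left⟩) (K.obj ⟨WalkingPair.right⟩)
      exact preservesColimit_of_iso_diagram (G ξ) (diagramIsoPair K).symm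
    exact preservesColimitsOfShape_of_reflects_of_preserves ξ.fibFunctor FintypeCat.incl
  have := hasTerminal_FEt X
  have := hasBinaryProducts_FEt X
  have : HasFiniteProducts (FEt X) := hasFiniteProducts_of_has_binary_and_terminal
  have : HasFiniteCoproducts (FEt X)ᵒᵖ := inferInstance
  exact ⟨fun n => PreservesFiniteCoproducts.of_preserves_binary_and_initial ξ.fibFunctor (Fin n)⟩

theorem presEpi (hX : X.IsSchematic) : ξ.fibFunctor.PreservesEpimorphisms := by
  have : (G ξ).PreservesEpimorphisms := by
    constructor
    intro A B f hf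
    have : Mono f.unop := inferInstance
    have hinj := Groth.Agent.S15626.result X hX f.unop ξ.base
    rw [epi_iff_surjective]
    exact fibMap_surjective_of_injective ξ B.unop.property A.unop.property f.unop.hom hinj
  exact Functor.preservesEpimorphisms_of_preserves_of_reflects ξ.fibFunctor FintypeCat.incl

end Helpers


open SchFin CategoryTheory CategoryTheory.Limits in
/-- For a schematic finite space and a geometric point with values in an algebraically closed field Ω,
the fibre functor at that point, from the opposite of the category of étale covers to finite sets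
(an étale cover A goes to the prime spectrum of Ω ⊗ A_x, x the point hit), preserves terminal
objects, pullbacks, finite coproducts and epimorphisms. (The published statement also includes
quotients by finite groups of automorphisms, whose existence rests on local triviality of étale
covers; that clause is part of the Galois-category row and is omitted here. The published statement
sits inside an argument for a well-connected space; these four clauses use no connectedness.) -/
theorem result (X : RSpace.{u}) (hX : X.IsSchematic)
    {Ω : Type u} [Field Ω] [IsAlgClosed Ω] (ξ : GeomPt X Ω) :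
    PreservesLimitsOfShape (Discrete PEmpty.{1}) ξ.fibFunctor ∧ PreservesLimitsOfShape WalkingCospan ξ.fibFunctor ∧
      PreservesFiniteCoproducts ξ.fibFunctor ∧ ξ.fibFunctor.PreservesEpimorphisms := by
  exact ⟨presTerminal ξ, presPullbacks ξ hX.1, presFiniteCoproducts ξ, presEpi ξ hX⟩

end Groth.Agent.S15633
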