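import Groth.Statements.S15632
import Groth.Agent.Lib.H94Inv4
import Groth.Agent.S15633
import Groth.Agent.S15631
import Mathlib.CategoryTheory.SingleObj
import Mathlib.CategoryTheory.Limits.Shapes.SingleObj
import Mathlib.CategoryTheory.Galois.Basic
import Mathlib.CategoryTheory.Limits.Constructions.FiniteProductsOfBinaryProducts
import Mathlib.CategoryTheory.Limits.Shapes.Opposites.Products
import Mathlib.CategoryTheory.Limits.Shapes.Opposites.Pullbacks

set_option autoImplicit false
universe u
open SchFin SchFin.GeomPt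

namespace Groth.Agent.S15632

section Helpers

set_option linter.unusedSectionVars false

open SchFin CategoryTheory CategoryTheory.Limits Groth.Agent.Lib.H94FEt

variable {X : RSpace.{u}} {G : Type u} [Group G]

section Quot

variable (K : SingleObj G ⥤ (FEt X)ᵒᵖ)

/-- the cover acted on -/
abbrev KA : FEt X := (K.obj (SingleObj.star G)).unop

/-- the action (an anti-homomorphism) -/
def Kρ (γ : G) : (KA K).obj ⟶ (KA K).obj :=
  (K.map (X := SingleObj.star G) (Y := SingleObj.star G) γ).unop.hom

/-- the action precomposed with inversion (a homomorphism in the convention of `invAlg_isEtCover`) -/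
def Kρ' (γ : G) : (KA K).obj ⟶ (KA K).obj := Kρ K γ⁻¹

theorem Kρ_one : Kρ K 1 = 𝟙 (KA K).obj := by
  have := K.map_id (SingleObj.star G)
  exact congrArg (fun k : K.obj (SingleObj.star G) ⟶ K.obj (SingleObj.star G) => k.unop.hom) this

theorem Kρ_mul (g h : G) : Kρ K (g * h) = Kρ K g ≫ Kρ K h := by
  have := K.map_comp (X := SingleObj.star G) (Y := SingleObj.star G) (Z := SingleObj.star G) h g
  exact congrArg (fun k : K.obj (SingleObj.star G) ⟶ K.obj (SingleObj.star G) => k.unop.hom) this

theorem Kρ'_one : Kρ' K 1 = 𝟙 (KA K).obj := by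
  unfold Kρ'
  rw [inv_one, Kρ_one]

theorem Kρ'_mul (g h : G) : Kρ' K (g * h) = Kρ' K h ≫ Kρ' K g := by
  unfold Kρ'
  rw [mul_inv_rev, Kρ_mul]

end Quot

section Cocone

variable [Finite G] (K : SingleObj G ⥤ (FEt X)ᵒᵖ) (hX : X.IsFinSp) (hlt : LocTriv X)

include hX hlt in
theorem KP_isEtCover : (invAlg (KA K).obj (Kρ' K)).IsEtCover := by
  obtain ⟨B, n, hB, hiso⟩ := hlt (KA K)
  exact invAlg_isEtCover (KA K).obj (Kρ' K) hX (KA K).property (Kρ'_one K) (Kρ'_mul K) B n hB hiso

/-- the quotient object -/
def KP : FEt X := ⟨invAlg (KA K).obj (Kρ' K), KP_isEtCover K hX hlt⟩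

/-- the inclusion of the invariants -/
def Kι : KP K hX hlt ⟶ KA K := ObjectProperty.homMk (invIncl (KA K).obj (Kρ' K))

theorem Kι_comp (γ : G) : (Kι K hX hlt).hom ≫ Kρ K γ = (Kι K hX hlt).hom := by
  have := invIncl_comp (KA K).obj (Kρ' K) γ⁻¹
  unfold Kρ' at this
  rw [inv_inv] at this
  exact this

/-- the quotient cocone -/
def Kcocone : Cocone K where
  pt := Opposite.op (KP K hX hlt)
  ι :=
    { app := fun _ => (Kι K hX hlt).op
      naturality := by
        intro j j' γ
        apply Quiver.Hom.unop_inj
        apply ObjectProperty.hom_ext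
        show ((Kι K hX hlt).hom ≫ Kρ K γ) = 𝟙 _ ≫ (Kι K hX hlt).hom
        rw [Kι_comp, Category.id_comp] }

theorem Kcocone_hs (s : Cocone K) (γ : G) :
    (s.ι.app (SingleObj.star G)).unop.hom ≫ Kρ' K γ = (s.ι.app (SingleObj.star G)).unop.hom := by
  have := s.ι.naturality (X := SingleObj.star G) (Y := SingleObj.star G) γ⁻¹
  have h2 := congrArg (fun k : K.obj (SingleObj.star G) ⟶ s.pt => k.unop.hom) this
  simp only [Functor.const_obj_obj, Functor.const_obj_map, Category.comp_id] at h2
  exact h2

/-- the quotient cocone is a colimit -/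
def KisColimit : IsColimit (Kcocone K hX hlt) where
  desc s := (ObjectProperty.homMk (invLift (KA K).obj (Kρ' K)
    (s.ι.app (SingleObj.star G)).unop.hom (Kcocone_hs K s)) : s.pt.unop ⟶ KP K hX hlt).op
  fac s j := by
    apply Quiver.Hom.unop_inj
    apply ObjectProperty.hom_ext
    exact invLift_incl (KA K).obj (Kρ' K) (s.ι.app (SingleObj.star G)).unop.hom (Kcocone_hs K s)
  uniq s m hm := by
    apply Quiver.Hom.unop_inj
    apply ObjectProperty.hom_ext
    apply invIncl_mono (KA K).obj (Kρ' K)
    have h3 : (ObjectProperty.homMk (invLift (KA K).obj (Kρ' K)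
        (s.ι.app (SingleObj.star G)).unop.hom (Kcocone_hs K s)) : s.pt.unop ⟶ KP K hX hlt).hom ≫
        invIncl (KA K).obj (Kρ' K) = (s.ι.app (SingleObj.star G)).unop.hom :=
      invLift_incl (KA K).obj (Kρ' K) (s.ι.app (SingleObj.star G)).unop.hom (Kcocone_hs K s)
    refine Eq.trans ?_ h3.symm
    exact congrArg (fun k : K.obj (SingleObj.star G) ⟶ s.pt => k.unop.hom) (hm (SingleObj.star G))

end Cocone

section Pres

variable [Finite G] (K : SingleObj G ⥤ (FEt X)ᵒᵖ) (hX : X.IsFinSp) (hlt : LocTriv X)
  {Ω : Type u} [Field Ω] [IsAlgClosed Ω] (ξ : GeomPt X Ω)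

include hX hlt in
theorem presQuot : PreservesColimit K (Groth.Agent.S15633.G ξ) := by
  apply preservesColimit_of_preserves_colimit_cocone (KisColimit K hX hlt)
  apply Nonempty.some
  rw [Types.isColimit_iff_coconeTypesIsColimit]
  refine ⟨⟨?_, ?_⟩⟩
  · rintro ⟨⟨j, x⟩⟩ ⟨⟨j', y⟩⟩ h
    have h' : ξ.fibMap (invIncl (KA K).obj (Kρ' K)) x = ξ.fibMap (invIncl (KA K).obj (Kρ' K)) y := h
    obtain ⟨γ, hγ⟩ := fib_inv_orbit ξ (KA K).obj (KA K).property (Kρ' K) (Kρ'_one K) (Kρ'_mul K)
      (KP_isEtCover K hX hlt) x y h'
    apply Quot.sound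
    exact ⟨γ⁻¹, hγ.symm⟩
  · intro z
    obtain ⟨x, hx⟩ := fibMap_surjective_of_injective ξ (KP_isEtCover K hX hlt) (KA K).property
      (invIncl (KA K).obj (Kρ' K)) Subtype.val_injective z
    exact ⟨Quot.mk _ ⟨SingleObj.star G, x⟩, hx⟩

end Pres

section Galois

/-- a limit binary fan gives a colimit binary cofan in the opposite category -/
noncomputable def isColimitOpOfIsLimit {C : Type*} [Category C] {A B P : C} (f : P ⟶ A) (g : P ⟶ B)
    (hl : IsLimit (BinaryFan.mk f g)) : IsColimit (BinaryCofan.mk f.op g.op) := by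
  refine BinaryCofan.IsColimit.mk _
    (fun {T} u v => (BinaryFan.IsLimit.lift' hl u.unop v.unop).1.op) ?_ ?_ ?_
  · intro T u v
    have := (BinaryFan.IsLimit.lift' hl u.unop v.unop).2.1
    exact congrArg Quiver.Hom.op this
  · intro T u v
    have := (BinaryFan.IsLimit.lift' hl u.unop v.unop).2.2
    exact congrArg Quiver.Hom.op this
  · intro T u v m h1 h2
    have e1 := (BinaryFan.IsLimit.lift' hl u.unop v.unop).2.1
    have e2 := (BinaryFan.IsLimit.lift' hl u.unop v.unop).2.2
    apply Quiver.Hom.unop_inj
    apply BinaryFan.IsLimit.hom_ext hl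
    · refine Eq.trans ?_ e1.symm
      exact congrArg Quiver.Hom.unop h1
    · refine Eq.trans ?_ e2.symm
      exact congrArg Quiver.Hom.unop h2

theorem preGalois (hX : X.IsSchematic) (hlt : LocTriv X)
    (hepi : ∀ (A B : FEt X) (f : A ⟶ B), Epi f → ∀ p : X.pt, Function.Surjective (f.hom.app p)) :
    PreGaloisCategory (FEt X)ᵒᵖ := by
  have := hasInitial_FEt X
  have := hasTerminal_FEt X
  have := hasBinaryProducts_FEt X
  have := hasPushouts_FEt hX.1
  have : HasFiniteProducts (FEt X) := hasFiniteProducts_of_has_binary_and_terminal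
  exact
    { hasTerminal := inferInstance
      hasPullbacks := inferInstance
      hasFiniteCoproducts := inferInstance
      hasQuotientsByFiniteGroups := fun G _ _ =>
        ⟨fun K => HasColimit.mk ⟨Kcocone K hX.1 hlt, KisColimit K hX.1 hlt⟩⟩
      monoInducesIsoOnDirectSummand := by
        intro A B i hi
        have : Epi i.unop := inferInstance
        obtain ⟨D, π, -, hbij⟩ := exists_complement hX.1 i.unop (hepi _ _ i.unop this)
        exact ⟨Opposite.op D, π.op, ⟨isColimitOpOfIsLimit i.unop π (isLimitOfBijective i.unop π hbij)⟩⟩ }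

end Galois

section Main

theorem main (X : RSpace.{u}) (hX : X.IsSchematic) (hwc : X.IsWellConnected) (hlt : LocTriv X)
    (hepi : ∀ (A B : FEt X) (f : A ⟶ B), Epi f → ∀ p : X.pt, Function.Surjective (f.hom.app p))
    {Ω : Type u} [Field Ω] [IsAlgClosed Ω] (ξ : GeomPt X Ω) :
    ∃ h : PreGaloisCategory (FEt X)ᵒᵖ,
      @PreGaloisCategory.FiberFunctor (FEt X)ᵒᵖ _ h ξ.fibFunctor := by
  refine ⟨preGalois hX hlt hepi, ?_⟩
  obtain ⟨h1, h2, h3, h4⟩ := Groth.Agent.S15633.result X hX ξ
  have h6 := Groth.Agent.S15631.result X hX hwc hlt ξ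
  refine @PreGaloisCategory.FiberFunctor.mk _ _ (preGalois hX hlt hepi) _ h1 h2 h3 h4
    (fun G _ _ => ?_) h6
  have : PreservesColimitsOfShape (SingleObj G) (Groth.Agent.S15633.G ξ) :=
    ⟨fun {K} => presQuot K hX.1 hlt ξ⟩
  exact preservesColimitsOfShape_of_reflects_of_preserves ξ.fibFunctor FintypeCat.incl

end Main

end Helpers


open SchFin CategoryTheory in
/-- For a well-connected schematic finite space and a geometric point with values in an algebraically
closed field, the opposite of the category of étale covers, with the fibre functor at that point (an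
étale cover A goes to the prime spectrum of Ω ⊗ A_x, x the point hit), is a Galois category: a
pre-Galois category for which that functor is a fibre functor. (The published statement assumes the
space only connected and reduces to the well-connected case through a pointwise construction and a
comparison of geometric points resting on a result recalled without proof; this row takes the space
well-connected. It carries two hypotheses the published statement does not: the local triviality of
étale covers — for every étale cover A, a quasi-coherent algebra B, finite and faithfully flat at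
every point, and n with B_p ⊗ A_p isomorphic to B_p^n as B_p-algebras at every point — and the
pointwise surjectivity of epimorphisms of étale covers; both hold for every such space, each being
proved in the published text by way of a result on quasi-coherent modules recalled without proof.) -/
theorem result (X : RSpace.{u}) (hX : X.IsSchematic)
    (hwc : X.IsWellConnected)
    (hlt : ∀ A : FEt X, ∃ (B : Alg X) (n : ℕ), B.IsCovering ∧
      ∀ p : X.pt, Nonempty (TensorProduct (X.ring p) (B.carrier p) (A.obj.carrier p) ≃ₐ[B.carrier p] (Fin n → B.carrier p)))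
    (hepi : ∀ (A B : FEt X) (f : A ⟶ B), Epi f → ∀ p : X.pt, Function.Surjective (f.hom.app p))
    {Ω : Type u} [Field Ω] [IsAlgClosed Ω] (ξ : GeomPt X Ω) :
    ∃ h : PreGaloisCategory (FEt X)ᵒᵖ, @PreGaloisCategory.FiberFunctor (FEt X)ᵒᵖ _ h ξ.fibFunctor := by
  exact main X hX hwc hlt hepi ξ

end Groth.Agent.S15632
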