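import Groth.Statements.S1569
import Groth.Agent.Lib.IdealSheafGeneric
import Groth.Agent.Lib.PrincipalMaximalIdeal

set_option autoImplicit false
universe u
open CategoryTheory CategoryTheory.Limits AlgebraicGeometry
open Divisors

namespace Groth.Agent.S1569

open Groth.Agent.Lib.IdealSheafGeneric Groth.Agent.Lib.PrincipalMaximalIdeal

lemma ideal_isPrime_of_isIntegral_subscheme (X : Scheme.{u}) (D : X.IdealSheafData)
    [IsIntegral D.subscheme] (U : X.affineOpens) (ξ : X) (hξU : ξ ∈ U.1)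
    (hξ : ξ ∈ (D.support : Set X)) : (D.ideal U).IsPrime := by
  have hne : Nonempty (D.subschemeι ⁻¹ᵁ U.1 : D.subscheme.Opens) := by
    have : ξ ∈ Set.range D.subschemeι := by rw [D.range_subschemeι]; exact hξ
    obtain ⟨z, hz⟩ := this
    exact ⟨⟨z, by show D.subschemeι z ∈ U.1; rw [hz]; exact hξU⟩⟩
  have hdom : IsDomain Γ(D.subscheme, D.subschemeι ⁻¹ᵁ U.1) := inferInstance
  have e := (D.subschemeObjIso U).commRingCatIsoToRingEquiv
  have : IsDomain (Γ(X, U.1) ⧸ D.ideal U) := e.symm.toMulEquiv.isDomain _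
  exact (Ideal.Quotient.isDomain_iff_prime _).mp this

/-- On a Noetherian scheme, an effective Cartier divisor which is integral as a closed subscheme has a
discrete valuation ring as the local ring of the ambient scheme at its generic point. -/
theorem result (X : Scheme.{u}) [IsNoetherian X]
    (D : X.IdealSheafData) (hD : BlowUp.IsEffCartierIdeal D) [IsIntegral D.subscheme]
    (ξ : X) (hξ : IsGenericPoint ξ (D.support : Set X)) :
    ∃ _ : IsDomain (X.presheaf.stalk ξ), IsDiscreteValuationRing (X.presheaf.stalk ξ) := by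
  have hξmem : ξ ∈ (D.support : Set X) := hξ.mem
  have hgen : ∀ y ∈ (D.support : Set X), y ⤳ ξ → y = ξ := by
    intro y hy hyξ
    have : ξ ⤳ y := hξ.specializes hy
    exact (this.antisymm hyξ).eq.symm
  obtain ⟨U, hξU, f, hfnzd, hf⟩ := hD ξ
  have hU : IsAffineOpen U.1 := U.2
  have hmin := primeIdealOf_mem_minimalPrimes D U hU ξ hξU hξmem hgen
  have hprime := ideal_isPrime_of_isIntegral_subscheme X D U ξ hξU hξmem
  have hp : (hU.primeIdealOf ⟨ξ, hξU⟩).asIdeal = Ideal.span {f} := by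
    rw [← hf]
    exact le_antisymm (hmin.2 ⟨hprime, le_rfl⟩ hmin.1.2) hmin.1.2
  let := TopCat.Presheaf.algebra_section_stalk X.presheaf (⟨ξ, hξU⟩ : U.1)
  have hloc := hU.isLocalization_stalk ⟨ξ, hξU⟩
  have hmax : IsLocalRing.maximalIdeal (X.presheaf.stalk ξ) =
      Ideal.span {algebraMap Γ(X, U.1) (X.presheaf.stalk ξ) f} := by
    rw [← IsLocalization.AtPrime.map_eq_maximalIdeal (hU.primeIdealOf ⟨ξ, hξU⟩).asIdeal
      (X.presheaf.stalk ξ), hp, Ideal.map_span, Set.image_singleton]
  have hnzd : algebraMap Γ(X, U.1) (X.presheaf.stalk ξ) f ∈ nonZeroDivisors (X.presheaf.stalk ξ) :=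
    IsLocalization.map_nonZeroDivisors_le (hU.primeIdealOf ⟨ξ, hξU⟩).asIdeal.primeCompl
      (X.presheaf.stalk ξ) (Submonoid.mem_map_of_mem _ hfnzd)
  exact isDiscreteValuationRing_of_maximalIdeal_eq_span _ hnzd hmax

end Groth.Agent.S1569
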