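import Groth.Statements.S15697
import Groth.Agent.Lib.NoName18

set_option autoImplicit false
set_option maxHeartbeats 400000
universe u
open InvFld

namespace Groth.Agent.S15697

open IntermediateField

variable {k : Type u} [Field k] {n m : ℕ}

/-- the image of the polynomial ring lies in every subring containing the constants and the variables -/
lemma algebraMap_mem_of (T : Subring (InvFld.Fld (Fin n ⊕ Fin m) k))
    (hC : ∀ c : k, algebraMap k (InvFld.Fld (Fin n ⊕ Fin m) k) c ∈ T)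
    (hX : ∀ i : Fin n ⊕ Fin m, (InvFld.X i : InvFld.Fld (Fin n ⊕ Fin m) k) ∈ T)
    (p : MvPolynomial (Fin n ⊕ Fin m) k) :
    algebraMap (MvPolynomial (Fin n ⊕ Fin m) k) (InvFld.Fld (Fin n ⊕ Fin m) k) p ∈ T := by
  induction p using MvPolynomial.induction_on with
  | C c =>
    have : algebraMap (MvPolynomial (Fin n ⊕ Fin m) k) (InvFld.Fld (Fin n ⊕ Fin m) k) (MvPolynomial.C c) =
        algebraMap k (InvFld.Fld (Fin n ⊕ Fin m) k) c := by
      rw [IsScalarTower.algebraMap_apply k (MvPolynomial (Fin n ⊕ Fin m) k)]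
      rfl
    rw [this]
    exact hC c
  | add p q hp hq => rw [map_add]; exact T.add_mem hp hq
  | mul_X p i hp => rw [map_mul]; exact T.mul_mem hp (hX i)

lemma algIndep_X :
    AlgebraicIndependent k (fun i : Fin n ⊕ Fin m => (InvFld.X i : InvFld.Fld (Fin n ⊕ Fin m) k)) :=
  (MvPolynomial.algebraicIndependent_X (Fin n ⊕ Fin m) k).map'
    (f := IsScalarTower.toAlgHom k (MvPolynomial (Fin n ⊕ Fin m) k) (InvFld.Fld (Fin n ⊕ Fin m) k))
    (IsFractionRing.injective _ _)

open scoped IntermediateField.algebraAdjoinAdjoin in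
lemma isTranscendenceBasis_ys :
    IsTranscendenceBasis
      ↥(adjoin k (Set.range fun j : Fin n => (InvFld.X (Sum.inl j) : InvFld.Fld (Fin n ⊕ Fin m) k)))
      (fun j : Fin m => (InvFld.X (Sum.inr j) : InvFld.Fld (Fin n ⊕ Fin m) k)) := by
  have h1 : AlgebraicIndependent k
      (Sum.elim (fun j : Fin m => (InvFld.X (Sum.inr j) : InvFld.Fld (Fin n ⊕ Fin m) k))
        (fun j : Fin n => (InvFld.X (Sum.inl j) : InvFld.Fld (Fin n ⊕ Fin m) k))) := by
    have := (algIndep_X (k := k) (n := n) (m := m)).comp (Equiv.sumComm (Fin m) (Fin n))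
      (Equiv.sumComm (Fin m) (Fin n)).injective
    convert this using 1
    funext i
    cases i <;> rfl
  have h2 := (AlgebraicIndependent.sumElim_iff.1 h1).2
  have h3 := h2.extendScalars
    ↥(adjoin k (Set.range fun j : Fin n => (InvFld.X (Sum.inl j) : InvFld.Fld (Fin n ⊕ Fin m) k)))
  rw [h3.isTranscendenceBasis_iff_isAlgebraic]
  refine ⟨fun a => ?_⟩
  obtain ⟨p, q, -, rfl⟩ := IsFractionRing.div_surjective (A := MvPolynomial (Fin n ⊕ Fin m) k) a
  set B := Algebra.adjoin
    ↥(adjoin k (Set.range fun j : Fin n => (InvFld.X (Sum.inl j) : InvFld.Fld (Fin n ⊕ Fin m) k)))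
    (Set.range fun j : Fin m => (InvFld.X (Sum.inr j) : InvFld.Fld (Fin n ⊕ Fin m) k)) with hB
  have hmem : ∀ p : MvPolynomial (Fin n ⊕ Fin m) k,
      algebraMap (MvPolynomial (Fin n ⊕ Fin m) k) (InvFld.Fld (Fin n ⊕ Fin m) k) p ∈ B.toSubring := by
    intro p
    apply algebraMap_mem_of
    · intro c
      exact B.algebraMap_mem (algebraMap k _ c)
    · rintro (i | i)
      · exact B.algebraMap_mem ⟨_, subset_adjoin _ _ ⟨i, rfl⟩⟩
      · exact Algebra.subset_adjoin ⟨i, rfl⟩
  have hp : IsAlgebraic B (algebraMap (MvPolynomial (Fin n ⊕ Fin m) k) (InvFld.Fld (Fin n ⊕ Fin m) k) p) :=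
    isAlgebraic_algebraMap (⟨_, hmem p⟩ : B)
  have hq : IsAlgebraic B (algebraMap (MvPolynomial (Fin n ⊕ Fin m) k) (InvFld.Fld (Fin n ⊕ Fin m) k) q) :=
    isAlgebraic_algebraMap (⟨_, hmem q⟩ : B)
  rw [div_eq_mul_inv]
  exact hp.mul hq.inv

end Groth.Agent.S15697

namespace Groth.Agent.S15697

/-- Let k be a characteristic-zero field and suppose a finite group acts k-linearly on
finite-dimensional k-vector spaces V and W, faithfully on V. Then k(V ⊕ W)^G is purely
transcendental over k(V)^G, of transcendence degree dim W. Stated with V = k^n, W = k^m inside L =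
k(x_1, ..., x_n, y_1, ..., y_m): G is a finite group of k-algebra automorphisms of L sending each
x_i into the k-span of the x's and each y_j into the k-span of the y's, such that an element of G
fixing every x_i is trivial; F is the intersection of k(x_1, ..., x_n) with the fixed field of G;
then there are y'_1, ..., y'_m in L, algebraically independent over F, with F(y'_1, ..., y'_m) equal
to the fixed field of G. -/
theorem result (k : Type u) [Field k] [CharZero k] (n m : ℕ)
    (G : Subgroup (InvFld.Fld (Fin n ⊕ Fin m) k ≃ₐ[k] InvFld.Fld (Fin n ⊕ Fin m) k)) [Finite G]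
    (hx : ∀ σ ∈ G, ∀ i : Fin n, σ (InvFld.X (Sum.inl i)) ∈ Submodule.span k (Set.range fun j : Fin n => (InvFld.X (Sum.inl j) : InvFld.Fld (Fin n ⊕ Fin m) k)))
    (hy : ∀ σ ∈ G, ∀ i : Fin m, σ (InvFld.X (Sum.inr i)) ∈ Submodule.span k (Set.range fun j : Fin m => (InvFld.X (Sum.inr j) : InvFld.Fld (Fin n ⊕ Fin m) k)))
    (hfaith : ∀ σ ∈ G, (∀ i : Fin n, σ (InvFld.X (Sum.inl i)) = InvFld.X (Sum.inl i)) → σ = 1) :
    ∃ t : Fin m → InvFld.Fld (Fin n ⊕ Fin m) k,
      AlgebraicIndependent (↥(IntermediateField.adjoin k (Set.range fun j : Fin n => (InvFld.X (Sum.inl j) : InvFld.Fld (Fin n ⊕ Fin m) k)) ⊓ IntermediateField.fixedField G)) t ∧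
      IntermediateField.restrictScalars k (IntermediateField.adjoin (↥(IntermediateField.adjoin k (Set.range fun j : Fin n => (InvFld.X (Sum.inl j) : InvFld.Fld (Fin n ⊕ Fin m) k)) ⊓ IntermediateField.fixedField G)) (Set.range t)) =
        IntermediateField.fixedField G := by
  classical
  set K₀ := IntermediateField.adjoin k
    (Set.range fun j : Fin n => (InvFld.X (Sum.inl j) : InvFld.Fld (Fin n ⊕ Fin m) k)) with hK₀def
  have hxK : ∀ j : Fin n, (InvFld.X (Sum.inl j) : InvFld.Fld (Fin n ⊕ Fin m) k) ∈ K₀ :=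
    fun j => IntermediateField.subset_adjoin _ _ ⟨j, rfl⟩
  -- `K₀` is `G`-stable
  have hK₀ : ∀ σ ∈ G, ∀ a ∈ K₀, σ a ∈ K₀ := by
    intro σ hσ a ha
    have h1 : K₀.map (σ : InvFld.Fld (Fin n ⊕ Fin m) k →ₐ[k] InvFld.Fld (Fin n ⊕ Fin m) k) ≤ K₀ := by
      rw [hK₀def, IntermediateField.adjoin_map, IntermediateField.adjoin_le_iff]
      rintro _ ⟨_, ⟨j, rfl⟩, rfl⟩
      have h2 := hx σ hσ j
      have h3 : Submodule.span k (Set.range fun j : Fin n =>
          (InvFld.X (Sum.inl j) : InvFld.Fld (Fin n ⊕ Fin m) k)) ≤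
          Subalgebra.toSubmodule K₀.toSubalgebra := by
        rw [Submodule.span_le]
        rintro _ ⟨i, rfl⟩
        exact hxK i
      exact h3 h2
    exact h1 ⟨a, ha, rfl⟩
  have hfaith' : ∀ σ ∈ G, (∀ a ∈ K₀, σ a = a) → σ = 1 :=
    fun σ hσ h => hfaith σ hσ (fun i => h _ (hxK i))
  have hyG : ∀ σ ∈ G, ∀ j : Fin m, σ (InvFld.X (Sum.inr j) : InvFld.Fld (Fin n ⊕ Fin m) k) ∈
      Submodule.span K₀ (Set.range fun j : Fin m =>
        (InvFld.X (Sum.inr j) : InvFld.Fld (Fin n ⊕ Fin m) k)) :=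
    fun σ hσ j => Submodule.span_subset_span k K₀ _ (hy σ hσ j)
  have hgen : ∀ T : Subfield (InvFld.Fld (Fin n ⊕ Fin m) k),
      (K₀ : Set (InvFld.Fld (Fin n ⊕ Fin m) k)) ⊆ T →
      (Set.range fun j : Fin m => (InvFld.X (Sum.inr j) : InvFld.Fld (Fin n ⊕ Fin m) k)) ⊆ T →
      T = ⊤ := by
    intro T hT1 hT2
    rw [eq_top_iff]
    intro a _
    obtain ⟨p, q, -, rfl⟩ := IsFractionRing.div_surjective (A := MvPolynomial (Fin n ⊕ Fin m) k) a
    have hmem : ∀ p : MvPolynomial (Fin n ⊕ Fin m) k,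
        algebraMap (MvPolynomial (Fin n ⊕ Fin m) k) (InvFld.Fld (Fin n ⊕ Fin m) k) p ∈ T.toSubring := by
      intro p
      apply algebraMap_mem_of
      · intro c
        exact hT1 (K₀.algebraMap_mem c)
      · rintro (i | i)
        · exact hT1 (hxK i)
        · exact hT2 ⟨i, rfl⟩
    exact T.div_mem (hmem p) (hmem q)
  exact Groth.Agent.Lib.NoName18.noName G K₀ hK₀ hfaith' _ isTranscendenceBasis_ys hyG hgen

end Groth.Agent.S15697
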