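import Groth.Statements.S15698
import Groth.Agent.Lib.InvFldSym38
import Groth.Agent.S15696

set_option autoImplicit false
universe u
open InvFld

namespace Groth.Agent.S15698

/-- Let k be a characteristic-zero field; for each faithful finite-dimensional linear representation V
of the symmetric group S_n over k, the field of invariants k(V)^{S_n} is stably pure over k. Stated
with V = k^m: G is a finite group of k-algebra automorphisms of k(x_1, ..., x_m), each sending every
variable to a k-linear combination of the variables, isomorphic as an abstract group to the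
symmetric group on n letters; then for some r the rational function field in r variables over the
fixed field of G is generated over k by finitely many algebraically independent elements. -/
theorem result (k : Type u) [Field k] [CharZero k] (n m : ℕ)
    (G : Subgroup (InvFld.Fld (Fin m) k ≃ₐ[k] InvFld.Fld (Fin m) k)) [Finite G] (e : G ≃* Equiv.Perm (Fin n))
    (hG : ∀ σ ∈ G, ∀ i : Fin m, σ (InvFld.X i) ∈ Submodule.span k (Set.range fun j : Fin m => (InvFld.X j : InvFld.Fld (Fin m) k))) :
    ∃ (r N : ℕ) (t : Fin N → InvFld.Fld (Fin r) (IntermediateField.fixedField G)),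
      AlgebraicIndependent k t ∧ IntermediateField.adjoin k (Set.range t) = ⊤ := by
  classical
  let H : Subgroup (InvFld.Fld (Fin n) k ≃ₐ[k] InvFld.Fld (Fin n) k) :=
    (Groth.Agent.Lib.InvFldExt38.permHom k n).range
  have : Finite H := Set.finite_range _
  let e' : Equiv.Perm (Fin n) ≃* H :=
    MonoidHom.ofInjective (Groth.Agent.Lib.InvFldExt38.permHom_injective (k := k) (n := n))
  have hH : ∀ τ ∈ H, ∀ i : Fin n, τ (InvFld.X i) ∈
      Submodule.span k (Set.range fun j : Fin n => (InvFld.X j : InvFld.Fld (Fin n) k)) := by
    rintro _ ⟨π, rfl⟩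
    exact Groth.Agent.Lib.InvFldExt38.isLin_permHom π
  obtain ⟨r, s, ⟨E⟩⟩ := Groth.Agent.S15696.result k m n G H (e.trans e') hG hH
  obtain ⟨u, hu, hugen⟩ := Groth.Agent.Lib.InvFldExt38.exists_pure_fixedField_perm k n
  obtain ⟨t, ht, htgen⟩ := Groth.Agent.Lib.InvFldExt38.exists_pure_fld (k := k) (s := s) u hu hugen
  obtain ⟨t', ht', htgen'⟩ := Groth.Agent.Lib.InvFldExt38.exists_pure_of_algEquiv E t ht htgen
  exact ⟨r, s + n, t', ht', htgen'⟩

end Groth.Agent.S15698
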