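import Groth.Statements.S1570
import Groth.Agent.Lib.IdealSheafGeneric
import Groth.Agent.Lib.SpreadPrincipal

set_option autoImplicit false
universe u
open CategoryTheory CategoryTheory.Limits AlgebraicGeometry
open Divisors

namespace Groth.Agent.S1570

open Groth.Agent.Lib.IdealSheafGeneric Groth.Agent.Lib.SpreadPrincipal

/-- Let X be locally Noetherian and D a closed subscheme with ideal sheaf I. If for every point x of D
the ideal generated by I in the local ring at x is generated by one nonzerodivisor, then D is an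
effective Cartier divisor. -/
theorem result (X : Scheme.{u}) [IsLocallyNoetherian X]
    (D : X.IdealSheafData)
    (h : ∀ x ∈ D.support, ∀ (U : X.affineOpens) (hx : x ∈ (U : X.Opens)),
      ∃ g : X.presheaf.stalk x, g ∈ nonZeroDivisors (X.presheaf.stalk x) ∧
        (D.ideal U).map (X.presheaf.germ U x hx).hom = Ideal.span {g}) :
    BlowUp.IsEffCartierIdeal D := by
  intro x
  obtain ⟨_, ⟨U0, hU0, rfl⟩, hxU, -⟩ :=
    X.isBasis_affineOpens.exists_subset_of_mem_open (Set.mem_univ x) isOpen_univ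
  let U : X.affineOpens := ⟨U0, hU0⟩
  have hU : IsAffineOpen U.1 := hU0
  have hx : x ∈ U.1 := hxU
  have hnoeth : IsNoetherianRing Γ(X, U.1) := IsLocallyNoetherian.component_noetherian U
  let p := (hU.primeIdealOf ⟨x, hx⟩).asIdeal
  let := TopCat.Presheaf.algebra_section_stalk X.presheaf (⟨x, hx⟩ : U.1)
  have hloc : IsLocalization.AtPrime (X.presheaf.stalk x) p := hU.isLocalization_stalk ⟨x, hx⟩
  have hg : ∃ g : X.presheaf.stalk x, g ∈ nonZeroDivisors (X.presheaf.stalk x) ∧
      (D.ideal U).map (algebraMap Γ(X, U.1) (X.presheaf.stalk x)) = Ideal.span {g} := by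
    by_cases hxD : x ∈ D.support
    · exact h x hxD U hx
    · rw [mem_support_iff_le_primeIdealOf D U hU x hx, SetLike.not_le_iff_exists] at hxD
      obtain ⟨f, hfD, hfp⟩ := hxD
      refine ⟨1, one_mem _, ?_⟩
      rw [Ideal.span_singleton_one]
      exact Ideal.eq_top_of_isUnit_mem _ (Ideal.mem_map_of_mem _ hfD)
        (IsLocalization.map_units (X.presheaf.stalk x) (⟨f, hfp⟩ : p.primeCompl))
  obtain ⟨g, hgnzd, hgI⟩ := hg
  obtain ⟨h0, hh0, a, haI, h1, h2⟩ := exists_spread (D.ideal U) p (X.presheaf.stalk x) g hgnzd hgI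
  refine ⟨X.affineBasicOpen h0, ?_, ?_⟩
  · show x ∈ X.basicOpen h0
    rw [X.mem_basicOpen h0 x hx]
    exact IsLocalization.map_units (X.presheaf.stalk x) (⟨h0, hh0⟩ : p.primeCompl)
  · have hlocB : IsLocalization.Away h0 Γ(X, X.basicOpen h0) := hU.isLocalization_basicOpen h0
    obtain ⟨hnzd, hspan⟩ := away_principal (D.ideal U) h0 a haI h1 h2 Γ(X, X.basicOpen h0)
    refine ⟨algebraMap Γ(X, U.1) Γ(X, X.basicOpen h0) a, hnzd, ?_⟩
    exact (D.map_ideal_basicOpen U h0).symm.trans hspan

end Groth.Agent.S1570
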