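import Groth.Statements.S15701
-- import your own Groth.Agent.* helpers here

set_option autoImplicit false
universe u
open CategoryTheory AlgebraicGeometry
open RatVar

namespace Groth.Agent.S15701

open Limits

/-- the pointwise fixed locus of an automorphism -/
def Fix {X : Scheme.{u}} (a : X ⟶ X) : Set X :=
  {x | ∃ (K : Type u) (_ : Field K) (y : Spec (CommRingCat.of K) ⟶ X), y ≫ a = y ∧ x ∈ Set.range y.base}

theorem fix_eq_range {S : Scheme.{u}} {X : Scheme.{u}} (f : X ⟶ S) (a : X ⟶ X) (ha : a ≫ f = f) :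
    Fix a = Set.range (equalizer.ι (Over.homMk a ha : Over.mk f ⟶ Over.mk f) (𝟙 (Over.mk f))).left.base := by
  ext x
  constructor
  · rintro ⟨K, _, y, hy, hx⟩
    let y' : Over.mk (y ≫ f) ⟶ Over.mk f := Over.homMk y rfl
    have hy' : y' ≫ (Over.homMk a ha : Over.mk f ⟶ Over.mk f) = y' ≫ 𝟙 (Over.mk f) := by
      ext
      change y ≫ a = y ≫ 𝟙 X
      rw [hy, Category.comp_id]
    have hl : (equalizer.lift y' hy').left ≫ (equalizer.ι (Over.homMk a ha : Over.mk f ⟶ Over.mk f)
        (𝟙 (Over.mk f))).left = y := by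
      rw [← Over.comp_left, equalizer.lift_ι]
      rfl
    obtain ⟨t, rfl⟩ := hx
    refine ⟨(equalizer.lift y' hy').left.base t, ?_⟩
    exact congrArg (fun m : Spec (CommRingCat.of K) ⟶ X => m.base t) hl
  · rintro ⟨e, rfl⟩
    set ι := (equalizer.ι (Over.homMk a ha : Over.mk f ⟶ Over.mk f) (𝟙 (Over.mk f))) with hι
    refine ⟨(equalizer (Over.homMk a ha : Over.mk f ⟶ Over.mk f) (𝟙 (Over.mk f))).left.residueField e,
      inferInstance,
      (equalizer (Over.homMk a ha : Over.mk f ⟶ Over.mk f) (𝟙 (Over.mk f))).left.fromSpecResidueField e ≫ ι.left,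
      ?_, ?_⟩
    · have := congrArg CommaMorphism.left (equalizer.condition (Over.homMk a ha : Over.mk f ⟶ Over.mk f)
        (𝟙 (Over.mk f)))
      simp only [Over.comp_left, Over.homMk_left, Category.comp_id] at this
      rw [Category.assoc, hι, this]
    · obtain ⟨pt⟩ : Nonempty (Spec ((equalizer (Over.homMk a ha : Over.mk f ⟶ Over.mk f)
        (𝟙 (Over.mk f))).left.residueField e)) := inferInstance
      refine ⟨pt, ?_⟩
      rw [Scheme.Hom.comp_base]
      change ι.left.base (((equalizer (Over.homMk a ha : Over.mk f ⟶ Over.mk f)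
        (𝟙 (Over.mk f))).left.fromSpecResidueField e).base pt) = _
      rw [Scheme.fromSpecResidueField_apply]

theorem isClosed_fix {S : Scheme.{u}} {X : Scheme.{u}} (f : X ⟶ S) [IsSeparated f] (a : X ⟶ X)
    (ha : a ≫ f = f) : IsClosed (Fix a) := by
  rw [fix_eq_range f a ha]
  have : IsSeparated (Over.mk f).hom := ‹_›
  exact (Scheme.Hom.isClosedEmbedding
    (equalizer.ι (Over.homMk a ha : Over.mk f ⟶ Over.mk f) (𝟙 (Over.mk f))).left).isClosed_range

theorem eq_id_of_fix_eq_univ {S : Scheme.{u}} {X : Scheme.{u}} (f : X ⟶ S) [IsSeparated f] [IsReduced X]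
    (a : X ⟶ X) (ha : a ≫ f = f) (h : Fix a = Set.univ) : a = 𝟙 X := by
  rw [fix_eq_range f a ha] at h
  have hdom : IsDominant
      (equalizer.ι (Over.homMk a ha : Over.mk f ⟶ Over.mk f) (𝟙 (Over.mk f))).left := by
    constructor
    rw [DenseRange, h]
    exact dense_univ
  refine ext_of_isDominant_of_isSeparated f (by rw [ha, Category.id_comp])
    (equalizer.ι (Over.homMk a ha : Over.mk f ⟶ Over.mk f) (𝟙 (Over.mk f))).left ?_
  exact congrArg CommaMorphism.left
    (equalizer.condition (Over.homMk a ha : Over.mk f ⟶ Over.mk f) (𝟙 (Over.mk f)))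

theorem map_mem_fix {X : Scheme.{u}} (a b binv : X ⟶ X) (h1 : b ≫ binv = 𝟙 X) (x : X)
    (hx : x ∈ Fix a) : b.base x ∈ Fix (binv ≫ a ≫ b) := by
  obtain ⟨K, _, y, hy, t, rfl⟩ := hx
  refine ⟨K, inferInstance, y ≫ b, ?_, t, rfl⟩
  rw [Category.assoc, ← Category.assoc b, h1, Category.id_comp, ← Category.assoc, hy]


/-- A faithful action of a finite group on a geometrically integral variety is almost free. Here k is a
field of characteristic zero, X is an integral separated scheme of finite type over k, and the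
finite group G acts on X by k-automorphisms through an injective homomorphism to Aut X; the
conclusion is a non-empty G-stable open subscheme U of X such that for every field K and every
morphism Spec K → X whose image lies in U, an element of G fixing that K-point is the identity. (X
is taken separated: for the affine line with a doubled origin and the involution exchanging the two
origins the action is faithful while every point off the origins is fixed, so no such U exists;
integrality replaces geometric integrality, which is all the codimension argument uses.) -/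
theorem result (k : Type u) [Field k] [CharZero k]
    (X : Scheme.{u}) (f : X ⟶ Spec (CommRingCat.of k)) [IsIntegral X] [LocallyOfFiniteType f]
    [QuasiCompact f] [IsSeparated f]
    (G : Type u) [Group G] [Finite G] (ρ : G →* Aut X)
    (hρ : ∀ g : G, (ρ g).hom ≫ f = f) (hfaith : Function.Injective ρ) :
    ∃ U : X.Opens, (U : Set X).Nonempty ∧ (∀ g : G, (ρ g).hom ⁻¹ᵁ U = U) ∧
      ∀ (K : Type u) [Field K] (x : Spec (CommRingCat.of K) ⟶ X),
        Set.range x.base ⊆ (U : Set X) → ∀ g : G, x ≫ (ρ g).hom = x → g = 1 := by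
  classical
  have := Fintype.ofFinite G
  have hclosed : ∀ g : G, IsClosed (Fix (ρ g).hom) := fun g => isClosed_fix f _ (hρ g)
  have hne : ∀ g : G, g ≠ 1 → Fix (ρ g).hom ≠ Set.univ := by
    intro g hg h
    have h1 := eq_id_of_fix_eq_univ f _ (hρ g) h
    apply hg
    apply hfaith
    rw [map_one]
    exact Iso.ext h1
  let t : Finset (Set X) := (Finset.univ.filter (fun g : G => g ≠ 1)).image (fun g => Fix (ρ g).hom)
  have ht : ∀ z ∈ t, IsClosed z := by
    intro z hz
    obtain ⟨g, -, rfl⟩ := Finset.mem_image.1 hz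
    exact hclosed g
  have hZclosed : IsClosed (⋃₀ (↑t : Set (Set X))) := by
    rw [Set.sUnion_eq_biUnion]
    exact t.finite_toSet.isClosed_biUnion (fun z hz => ht z (Finset.mem_coe.1 hz))
  have hZ : ∀ x, x ∈ ⋃₀ (↑t : Set (Set X)) ↔ ∃ g : G, g ≠ 1 ∧ x ∈ Fix (ρ g).hom := by
    intro x
    constructor
    · rintro ⟨z, hz, hxz⟩
      obtain ⟨g, hg, rfl⟩ := Finset.mem_image.1 (Finset.mem_coe.1 hz)
      exact ⟨g, (Finset.mem_filter.1 hg).2, hxz⟩
    · rintro ⟨g, hg, hx⟩
      exact ⟨_, Finset.mem_coe.2 (Finset.mem_image.2 ⟨g, Finset.mem_filter.2 ⟨Finset.mem_univ g, hg⟩, rfl⟩), hx⟩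
  refine ⟨⟨(⋃₀ (↑t : Set (Set X)))ᶜ, hZclosed.isOpen_compl⟩, ?_, ?_, ?_⟩
  · -- nonempty
    by_contra hempty
    have huniv : (Set.univ : Set X) ⊆ ⋃₀ (↑t : Set (Set X)) := by
      intro x _
      by_contra hx
      exact hempty ⟨x, hx⟩
    obtain ⟨z, hz, hsub⟩ := (isIrreducible_iff_sUnion_isClosed.1
      (IrreducibleSpace.isIrreducible_univ X)) t ht huniv
    obtain ⟨g, hg, rfl⟩ := Finset.mem_image.1 hz
    exact hne g (Finset.mem_filter.1 hg).2 (Set.univ_subset_iff.1 hsub)
  · -- stability
    intro h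
    have key : ∀ (h : G) (x : X), x ∈ ⋃₀ (↑t : Set (Set X)) →
        (ρ h).hom.base x ∈ ⋃₀ (↑t : Set (Set X)) := by
      intro h x hx
      obtain ⟨g, hg, hxg⟩ := (hZ x).1 hx
      refine (hZ _).2 ⟨h * g * h⁻¹, ?_, ?_⟩
      · intro h0
        apply hg
        have : g = h⁻¹ * (h * g * h⁻¹) * h := by group
        rw [this, h0]; group
      · have := map_mem_fix (ρ g).hom (ρ h).hom (ρ h).inv (ρ h).hom_inv_id x hxg
        have e : (ρ (h * g * h⁻¹)).hom = (ρ h).inv ≫ (ρ g).hom ≫ (ρ h).hom := by
          rw [map_mul, map_mul, map_inv]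
          rfl
        rw [e]
        exact this
    apply TopologicalSpace.Opens.ext
    ext x
    change (ρ h).hom.base x ∉ ⋃₀ (↑t : Set (Set X)) ↔ x ∉ ⋃₀ (↑t : Set (Set X))
    rw [not_iff_not]
    constructor
    · intro hx
      have := key h⁻¹ _ hx
      have e : (ρ h⁻¹).hom.base ((ρ h).hom.base x) = x := by
        rw [map_inv]
        change ((ρ h).hom ≫ (ρ h).inv).base x = x
        rw [(ρ h).hom_inv_id]
        rfl
      rwa [e] at this
    · exact key h x
  · intro K _ x hx g hg
    by_contra hg1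
    obtain ⟨pt⟩ : Nonempty (Spec (CommRingCat.of K)) := inferInstance
    have h1 : x.base pt ∈ (⋃₀ (↑t : Set (Set X)))ᶜ := hx ⟨pt, rfl⟩
    exact h1 ((hZ _).2 ⟨g, hg1, K, inferInstance, x, hg, pt, rfl⟩)

end Groth.Agent.S15701
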