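import Groth.Statements.S15702
import Groth.Agent.Lib.InvFracUFD38

set_option autoImplicit false
universe u
open GLin

namespace Groth.Agent.S15702

/-- Let k be algebraically closed of characteristic zero, let G be a connected linear algebraic group
over k without non-trivial characters acting on an integral affine k-variety Spec B of finite type
with B a unique factorisation domain; then the field of G-invariant rational functions is the
fraction field of the ring of invariants B^G. In coordinate-ring form: A is a commutative Hopf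
algebra of finite type over k, a domain, whose only group-like element is 1; B is a k-algebra of
finite type, a domain and a unique factorisation monoid, with a coaction of A that is an algebra
map; k-points φ : A →ₐ[k] k act on B through the coaction. If f, g ∈ B, g ≠ 0, satisfy (φ·f) g = f
(φ·g) for all φ, then f g' = f' g for some f', g' ∈ B fixed by all φ with g' ≠ 0. (The published
lemma allows G disconnected with character-free identity component; this row is the connected case
treated first in its proof.) -/
theorem result (k : Type u) [Field k] [IsAlgClosed k] [CharZero k]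
    (A : Type u) [CommRing A] [HopfAlgebra k A] [Algebra.FiniteType k A] [IsDomain A]
    (hchar : ∀ a : A, IsGroupLikeElem k a → a = 1)
    (B : Type u) [CommRing B] [Algebra k B] [Algebra.FiniteType k B] [IsDomain B] [UniqueFactorizationMonoid B]
    [HopfRep.Comod k A B] [GLin.IsCoactAlg k A B]
    (f g : B) (hg : g ≠ 0)
    (hinv : ∀ φ : A →ₐ[k] k, HopfRep.Comod.act k A B φ f * g = f * HopfRep.Comod.act k A B φ g) :
    ∃ f' g' : B, (∀ φ : A →ₐ[k] k, HopfRep.Comod.act k A B φ f' = f') ∧
      (∀ φ : A →ₐ[k] k, HopfRep.Comod.act k A B φ g' = g') ∧ g' ≠ 0 ∧ f * g' = f' * g := by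
  classical
  obtain ⟨f₀, g₀, d, hrel, hf, hg'⟩ := UniqueFactorizationMonoid.exists_reduced_factors' f g hg
  have hd : d ≠ 0 := by rintro rfl; exact hg (by rw [← hg', zero_mul])
  have hg₀ : g₀ ≠ 0 := by rintro rfl; exact hg (by rw [← hg', mul_zero])
  have hcross : ∀ φ : A →ₐ[k] k,
      HopfRep.Comod.act k A B φ f₀ * g₀ = f₀ * HopfRep.Comod.act k A B φ g₀ := by
    intro φ
    have h1 := hinv φ
    rw [← hf, ← hg', Groth.Agent.Lib.InvFrac38.act_mul, Groth.Agent.Lib.InvFrac38.act_mul] at h1
    have hne : d * HopfRep.Comod.act k A B φ d ≠ 0 :=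
      mul_ne_zero hd (Groth.Agent.Lib.InvFrac38.act_ne_zero φ hd)
    apply mul_left_cancel₀ hne
    linear_combination h1
  have hgdvd : ∀ φ : A →ₐ[k] k, g₀ ∣ HopfRep.Comod.act k A B φ g₀ := fun φ =>
    hrel.symm.dvd_of_dvd_mul_left ⟨HopfRep.Comod.act k A B φ f₀, by rw [← hcross φ, mul_comm]⟩
  have hfdvd : ∀ φ : A →ₐ[k] k, f₀ ∣ HopfRep.Comod.act k A B φ f₀ := fun φ =>
    hrel.dvd_of_dvd_mul_right ⟨HopfRep.Comod.act k A B φ g₀, hcross φ⟩
  refine ⟨f₀, g₀, ?_, Groth.Agent.Lib.InvFracUFD38.act_eq_self_of_dvd hchar hg₀ hgdvd, hg₀, ?_⟩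
  · by_cases hf₀ : f₀ = 0
    · intro φ
      rw [hf₀, map_zero]
    · exact Groth.Agent.Lib.InvFracUFD38.act_eq_self_of_dvd hchar hf₀ hfdvd
  · rw [← hf, ← hg']
    ring

end Groth.Agent.S15702
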