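import Groth.Statements.S15706
import Mathlib.RingTheory.Ideal.AssociatedPrime.Finiteness
import Mathlib.RingTheory.Ideal.MinimalPrime.Localization
-- import your own Groth.Agent.* helpers here

set_option autoImplicit false
universe u
open CAlg

namespace Groth.Agent.S15706

/-- Coset prime avoidance for a finite set of pairwise incomparable primes (all minimal). -/
theorem exists_add_mul_notMem (A : Type u) [CommRing A] (s : Finset (Ideal A))
    (hmin : ∀ p ∈ s, p ∈ minimalPrimes A) (I : Ideal A) (a₀ : A)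
    (h1 : ∀ p ∈ s, a₀ ∈ p → ¬ I ≤ p) :
    ∃ z ∈ I, ∀ p ∈ s, a₀ + z ∉ p := by
  classical
  have hprime : ∀ p ∈ s, p.IsPrime := fun p hp => (hmin p hp).1.1
  set s₁ := s.filter (fun p => a₀ ∈ p) with hs₁
  set s₂ := s.filter (fun p => a₀ ∉ p) with hs₂
  have hs₁s : ∀ p ∈ s₁, p ∈ s := fun p hp => (Finset.mem_filter.1 hp).1
  have hs₂s : ∀ p ∈ s₂, p ∈ s := fun p hp => (Finset.mem_filter.1 hp).1
  obtain ⟨x, hxI, hx⟩ : ∃ x ∈ I, ∀ p ∈ s₁, x ∉ p := by
    by_contra hcon
    push Not at hcon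
    have hsub : (I : Set A) ⊆ ⋃ p ∈ (↑s₁ : Set (Ideal A)), ((id p : Ideal A) : Set A) := by
      intro x hx
      obtain ⟨p, hp, hxp⟩ := hcon x hx
      exact Set.mem_biUnion (Finset.mem_coe.2 hp) hxp
    rw [Ideal.subset_union_prime (f := id) ⊥ ⊥ (fun p hp _ _ => hprime p (hs₁s p hp))] at hsub
    obtain ⟨p, hp, hIp⟩ := hsub
    exact h1 p (hs₁s p hp) (Finset.mem_filter.1 hp).2 hIp
  obtain ⟨y, hy2, hy1⟩ : ∃ y, (∀ q ∈ s₂, y ∈ q) ∧ ∀ p ∈ s₁, y ∉ p := by
    by_contra hcon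
    push Not at hcon
    have hsub : ((s₂.inf id : Ideal A) : Set A) ⊆ ⋃ p ∈ (↑s₁ : Set (Ideal A)), ((id p : Ideal A) : Set A) := by
      intro y hy
      have hy' : ∀ q ∈ s₂, y ∈ q := fun q hq => (Finset.inf_le hq : s₂.inf id ≤ id q) hy
      obtain ⟨p, hp, hyp⟩ := hcon y hy'
      exact Set.mem_biUnion (Finset.mem_coe.2 hp) hyp
    rw [Ideal.subset_union_prime (f := id) ⊥ ⊥ (fun p hp _ _ => hprime p (hs₁s p hp))] at hsub
    obtain ⟨p, hp, hle⟩ := hsub
    obtain ⟨q, hq, hqp⟩ := ((hprime p (hs₁s p hp)).inf_le').1 hle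
    have hpq : p ≤ q := (hmin p (hs₁s p hp)).2 ⟨hprime q (hs₂s q hq), bot_le⟩ hqp
    have : p = q := le_antisymm hpq hqp
    subst this
    exact (Finset.mem_filter.1 hq).2 (Finset.mem_filter.1 hp).2
  refine ⟨x * y, I.mul_mem_right y hxI, ?_⟩
  intro p hps hmem
  by_cases ha : a₀ ∈ p
  · have hp1 : p ∈ s₁ := Finset.mem_filter.2 ⟨hps, ha⟩
    have hxy : x * y ∈ p := by
      have := p.sub_mem hmem ha
      simpa using this
    rcases (hprime p hps).mem_or_mem hxy with h | h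
    · exact hx p hp1 h
    · exact hy1 p hp1 h
  · have hp2 : p ∈ s₂ := Finset.mem_filter.2 ⟨hps, ha⟩
    have hxy : x * y ∈ p := p.mul_mem_left x (hy2 p hp2)
    exact ha (by simpa using p.sub_mem hmem hxy)


/-- Let A be a Noetherian ring with Serre's property (S_1), stated here in the equivalent form that
every associated prime of A is a minimal prime of A. Let I be an ideal of A and b an element of A/I
which is regular (a non-zero-divisor) in A/I. Then b is the image of a regular element of A. -/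
theorem result (A : Type u) [CommRing A]
    [IsNoetherianRing A] (hS1 : ∀ p ∈ associatedPrimes A A, p ∈ minimalPrimes A) (I : Ideal A)
    (b : A ⧸ I) (hb : b ∈ nonZeroDivisors (A ⧸ I)) :
    ∃ a : A, a ∈ nonZeroDivisors A ∧ Ideal.Quotient.mk I a = b := by
  classical
  obtain ⟨a₀, rfl⟩ := Ideal.Quotient.mk_surjective b
  have hfin := associatedPrimes.finite A A
  have hmin : ∀ p ∈ hfin.toFinset, p ∈ minimalPrimes A :=
    fun p hp => hS1 p (hfin.mem_toFinset.1 hp)
  have h1 : ∀ p ∈ hfin.toFinset, a₀ ∈ p → ¬ I ≤ p := by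
    intro p hp ha hIp
    have hpI : p ∈ I.minimalPrimes :=
      ⟨⟨(hmin p hp).1.1, hIp⟩, fun q hq hqp => (hmin p hp).2 ⟨hq.1, bot_le⟩ hqp⟩
    obtain ⟨y, hyI, hxy⟩ := Ideal.exists_mul_mem_of_mem_minimalPrimes hpI ha
    have h0 : Ideal.Quotient.mk I y * Ideal.Quotient.mk I a₀ = 0 := by
      rw [← map_mul, mul_comm]
      exact Ideal.Quotient.eq_zero_iff_mem.2 hxy
    have := (mem_nonZeroDivisors_iff_right.1 hb) _ h0
    exact hyI (Ideal.Quotient.eq_zero_iff_mem.1 this)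
  obtain ⟨z, hzI, hz⟩ := exists_add_mul_notMem A hfin.toFinset hmin I a₀ h1
  refine ⟨a₀ + z, ?_, ?_⟩
  · by_contra hnz
    have hc : a₀ + z ∈ (nonZeroDivisors A : Set A)ᶜ := hnz
    rw [← biUnion_associatedPrimes_eq_compl_nonZeroDivisors] at hc
    obtain ⟨p, hp, hmem⟩ := Set.mem_iUnion₂.1 hc
    exact hz p (hfin.mem_toFinset.2 hp) hmem
  · rw [map_add, Ideal.Quotient.eq_zero_iff_mem.2 hzI, add_zero]

end Groth.Agent.S15706
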