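import Groth.Statements.S15708
import Groth.Agent.Lib.GradedAvoid
-- import your own Groth.Agent.* helpers here

set_option autoImplicit false
universe u v
open CAlg

namespace Groth.Agent.S15708

/-- Let A be a Noetherian commutative ring graded by the natural numbers, J a homogeneous ideal, and
p_1, ..., p_r finitely many prime ideals such that no p_i contains the irrelevant ideal A_+ and no
p_i contains J. Then there is a homogeneous element z of positive degree with z in J and z in no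
p_i. -/
theorem result {R : Type u} {A : Type v} [CommRing R] [CommRing A]
    [Algebra R A] [IsNoetherianRing A] (𝒜 : ℕ → Submodule R A) [GradedRing 𝒜]
    (J : Ideal A) (hJ : J.IsHomogeneous 𝒜) (P : Finset (Ideal A))
    (hP : ∀ p ∈ P, p.IsPrime ∧ ¬ (HomogeneousIdeal.irrelevant 𝒜).toIdeal ≤ p ∧ ¬ J ≤ p) :
    ∃ (z : A) (n : ℕ), 0 < n ∧ z ∈ 𝒜 n ∧ z ∈ J ∧ ∀ p ∈ P, z ∉ p := by
  refine Groth.Agent.Lib.GradedAvoid.gpa 𝒜 J P.card P rfl ?_
  intro p hp
  obtain ⟨hprime, hirr, hJp⟩ := hP p hp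
  refine ⟨hprime, ?_⟩
  obtain ⟨x, i, hxi, hxJ, hxp⟩ := Groth.Agent.Lib.GradedAvoid.exists_homogeneous_notMem 𝒜 J hJ p hJp
  obtain ⟨y, j, hyj, hyI, hyp⟩ := Groth.Agent.Lib.GradedAvoid.exists_homogeneous_notMem 𝒜
    (HomogeneousIdeal.irrelevant 𝒜).toIdeal (HomogeneousIdeal.irrelevant 𝒜).isHomogeneous p hirr
  have hj : 0 < j := Groth.Agent.Lib.GradedAvoid.pos_of_mem_irrelevant 𝒜 hyj hyI
    (fun h => hyp (h ▸ p.zero_mem))
  refine ⟨x * y, i + j, by omega, SetLike.mul_mem_graded hxi hyj, J.mul_mem_right y hxJ, ?_⟩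
  intro h
  rcases hprime.mem_or_mem h with h | h
  · exact hxp h
  · exact hyp h

end Groth.Agent.S15708
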