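import Groth.Statements.S1571
import Mathlib.AlgebraicGeometry.Morphisms.SchemeTheoreticallyDominant
import Mathlib.AlgebraicGeometry.Morphisms.Affine

set_option autoImplicit false
universe u
open CategoryTheory CategoryTheory.Limits AlgebraicGeometry
open Divisors

namespace Groth.Agent.S1571

lemma compl_inf_eq_basicOpen (S : Scheme.{u}) (D : S.IdealSheafData) (U : S.affineOpens)
    (f : Γ(S, U.1)) (hf : D.ideal U = Ideal.span {f}) :
    D.support.compl ⊓ U.1 = S.basicOpen f := by
  ext x
  have h1 := D.coe_support_inter U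
  rw [hf, Scheme.zeroLocus_span, Scheme.zeroLocus_singleton] at h1
  constructor
  · rintro ⟨hx1, hx2⟩
    by_contra hx3
    have : x ∈ (D.support : Set S) ∩ U.1 := by
      rw [h1]; exact ⟨hx3, hx2⟩
    exact hx1 this.1
  · intro hx
    have hxU : x ∈ U.1 := S.basicOpen_le f hx
    refine ⟨?_, hxU⟩
    intro hx1
    have : x ∈ (D.support : Set S) ∩ U.1 := ⟨hx1, hxU⟩
    rw [h1] at this
    exact this.1 hx

/-- The open complement of an effective Cartier divisor is an affine open immersion and is
scheme-theoretically dense. -/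
theorem result (S : Scheme.{u}) (D : S.IdealSheafData) (hD : BlowUp.IsEffCartierIdeal D) :
    IsAffineHom (Scheme.Opens.ι (X := S) D.support.compl) ∧ IsSchemeTheoreticallyDominant (Scheme.Opens.ι (X := S) D.support.compl) := by
  have haff : IsAffineHom (Scheme.Opens.ι (X := S) D.support.compl) := by
    apply isAffineHom_of_forall_exists_isAffineOpen
    intro x
    obtain ⟨U, hxU, f, hf, hDf⟩ := hD x
    refine ⟨U.1, hxU, U.2, ?_⟩
    rw [← (Scheme.Opens.ι (X := S) D.support.compl).isAffineOpen_iff_of_isOpenImmersion,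
      Scheme.Hom.image_preimage_eq_opensRange_inf, Scheme.Opens.opensRange_ι,
      compl_inf_eq_basicOpen S D U f hDf]
    exact U.2.basicOpen f
  refine ⟨haff, ?_⟩
  rw [isSchemeTheoreticallyDominant_iff]
  choose U hxU f hf hDf using hD
  refine le_antisymm ?_ bot_le
  refine Scheme.IdealSheafData.le_of_iSup_eq_top U ?_ ?_
  · exact top_le_iff.mp (fun x _ ↦ by simpa using ⟨x, hxU x⟩)
  · intro x
    rw [Scheme.Hom.ker_apply]
    simp only [Scheme.IdealSheafData.ideal_bot, Pi.bot_apply, le_bot_iff]
    rw [← RingHom.injective_iff_ker_eq_bot, Scheme.Opens.ι_app]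
    have e : (Scheme.Opens.ι (X := S) D.support.compl) ''ᵁ
        ((Scheme.Opens.ι (X := S) D.support.compl) ⁻¹ᵁ (U x).1) = S.basicOpen (f x) := by
      rw [Scheme.Hom.image_preimage_eq_opensRange_inf, Scheme.Opens.opensRange_ι,
        compl_inf_eq_basicOpen S D (U x) (f x) (hDf x)]
    have hloc := (U x).2.isLocalization_of_eq_basicOpen (f x)
      (homOfLE (Set.image_preimage_subset _ _)) e
    exact @IsLocalization.injective _ _ (Submonoid.powers (f x)) _ _
      (S.presheaf.map (homOfLE (x := (Scheme.Opens.ι (X := S) D.support.compl) ''ᵁ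
        ((Scheme.Opens.ι (X := S) D.support.compl) ⁻¹ᵁ (U x).1)) (y := (U x).1)
        (Set.image_preimage_subset _ _)).op).hom.toAlgebra hloc
      (Submonoid.powers_le.mpr (hf x))

end Groth.Agent.S1571
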