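import Groth.Statements.S1699
import Groth.Agent.Lib.AssPoints
import Mathlib.RingTheory.Ideal.MinimalPrime.Colon

set_option autoImplicit false
universe u
open CategoryTheory CategoryTheory.Limits AlgebraicGeometry TopologicalSpace
open SDiv

namespace Groth.Agent.S1699

open Groth.Agent.Lib.AssPoints

lemma isAss_iff (X : Scheme.{u}) (x : X) :
    IsAssociatedPrime (IsLocalRing.maximalIdeal ↑(X.presheaf.stalk x)) ↑(X.presheaf.stalk x) ↔
      ∃ ξ : X.presheaf.stalk x, (ann (X.presheaf.stalk x) ξ).radical =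
        IsLocalRing.maximalIdeal (X.presheaf.stalk x) := by
  have hcolon : ∀ m : X.presheaf.stalk x,
      (Submodule.colon (⊥ : Submodule (X.presheaf.stalk x) (X.presheaf.stalk x)) {m}) =
        ann (X.presheaf.stalk x) m := by
    intro m
    ext a
    rw [Submodule.mem_colon_singleton, mem_ann, Submodule.mem_bot]
  constructor
  · rintro ⟨-, m, hm⟩
    exact ⟨m, by rw [← hcolon, ← hm]⟩
  · rintro ⟨m, hm⟩
    exact ⟨inferInstance, m, by rw [hcolon, hm]⟩

lemma germ_ne_zero_of_ann_le {X : Scheme.{u}} {W : X.Opens} (hW : IsAffineOpen W) (y : W)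
    (m : Γ(X, W)) (h : ann Γ(X, W) m ≤ (hW.primeIdealOf y).asIdeal) :
    X.presheaf.germ W y.1 y.2 m ≠ 0 := by
  intro h0
  have := hW.isLocalization_stalk y
  have h1 : algebraMap Γ(X, W) (X.presheaf.stalk y.1) m = 0 := h0
  rw [IsLocalization.map_eq_zero_iff (hW.primeIdealOf y).asIdeal.primeCompl] at h1
  obtain ⟨g, hg⟩ := h1
  exact g.2 (h ((mem_ann m g.1).mpr hg))

lemma exists_ann_eq {X : Scheme.{u}} {W : X.Opens} (hW : IsAffineOpen W)
    [IsNoetherianRing Γ(X, W)] (y : W)
    (hy : ∃ ξ : X.presheaf.stalk y.1, (ann (X.presheaf.stalk y.1) ξ).radical =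
        IsLocalRing.maximalIdeal (X.presheaf.stalk y.1)) :
    ∃ m' : Γ(X, W), (hW.primeIdealOf y).asIdeal = ann Γ(X, W) m' := by
  haveI := hW.isLocalization_stalk y
  obtain ⟨ξ, hξ⟩ := hy
  obtain ⟨m, g, rfl⟩ := IsLocalization.exists_mk'_eq
    (hW.primeIdealOf y).asIdeal.primeCompl ξ
  have hann : ann (X.presheaf.stalk y.1) (IsLocalization.mk' (X.presheaf.stalk y.1) m g) =
      ann (X.presheaf.stalk y.1) (Algebra.linearMap Γ(X, W) (X.presheaf.stalk y.1) m) := by
    ext a
    rw [mem_ann, mem_ann, Algebra.linearMap_apply, ← IsLocalization.mk'_spec' _ m g, smul_eq_mul,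
      smul_eq_mul, mul_left_comm]
    exact (IsLocalization.map_units (X.presheaf.stalk y.1) g).mul_right_eq_zero.symm
  rw [hann] at hξ
  have hmin := minimal_of_radical_ann_localized (hW.primeIdealOf y).asIdeal
    (X.presheaf.stalk y.1) (Algebra.linearMap Γ(X, W) (X.presheaf.stalk y.1)) m hξ
  have hcolon : ∀ n : Γ(X, W), ann Γ(X, W) n =
      (⊥ : Submodule Γ(X, W) Γ(X, W)).colon {n} := by
    intro n
    ext a
    rw [Submodule.mem_colon_singleton, mem_ann, Submodule.mem_bot]
  rw [hcolon] at hmin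
  obtain ⟨m', hm'⟩ := Submodule.exists_eq_colon_of_mem_minimalPrimes hmin
  exact ⟨m', by rw [hcolon]; exact hm'⟩

/-- (1) if and only if (3): let X be a locally Noetherian scheme and U an open subscheme. Then U is
scheme-theoretically dense in X if and only if U contains every associated point of X (every point
whose local ring has its maximal ideal as an associated prime). -/
theorem result (X : Scheme.{u}) [IsLocallyNoetherian X] (U : X.Opens) :
    CInt.IsSchematicallyDense U ↔ ∀ x : ↥X, IsAssociatedPrime (IsLocalRing.maximalIdeal ↑(X.presheaf.stalk x)) ↑(X.presheaf.stalk x) → x ∈ U := by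
  constructor
  · intro hdense y hy
    rw [isAss_iff] at hy
    by_contra hyU
    obtain ⟨_, ⟨W, hW, rfl⟩, hyW, -⟩ :=
      X.isBasis_affineOpens.exists_subset_of_mem_open (Set.mem_univ y) isOpen_univ
    haveI : IsNoetherianRing Γ(X, W) := IsLocallyNoetherian.component_noetherian ⟨_, hW⟩
    obtain ⟨m', hm'⟩ := exists_ann_eq hW ⟨y, hyW⟩ hy
    have hne : m' ≠ 0 := by
      rintro rfl
      have htop : ann Γ(X, W) (0 : Γ(X, W)) = ⊤ := by
        ext a
        simp
      rw [htop] at hm'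
      exact (hW.primeIdealOf ⟨y, hyW⟩).2.ne_top hm'
    apply hne
    apply hdense W
    rw [map_zero]
    apply TopCat.Presheaf.section_ext X.sheaf (W ⊓ U) _ 0
    intro z hz
    rw [map_zero]
    have hzW : z ∈ W := hz.1
    have hzU : z ∈ U := hz.2
    change X.presheaf.germ (W ⊓ U) z hz
      (X.presheaf.map (homOfLE (inf_le_left : W ⊓ U ≤ W)).op m') = 0
    rw [TopCat.Presheaf.germ_res_apply X.presheaf (homOfLE (inf_le_left : W ⊓ U ≤ W)) z hz m']
    have hnle : ¬ (hW.primeIdealOf ⟨y, hyW⟩).asIdeal ≤ (hW.primeIdealOf ⟨z, hzW⟩).asIdeal := by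
      intro hle
      have h1 : hW.primeIdealOf ⟨y, hyW⟩ ⤳ hW.primeIdealOf ⟨z, hzW⟩ :=
        (PrimeSpectrum.le_iff_specializes _ _).mp hle
      have h2 := h1.map hW.fromSpec.continuous
      rw [hW.fromSpec_primeIdealOf ⟨y, hyW⟩, hW.fromSpec_primeIdealOf ⟨z, hzW⟩] at h2
      exact hyU (h2.mem_open U.2 hzU)
    obtain ⟨g, hgy, hgz⟩ := SetLike.not_le_iff_exists.mp hnle
    rw [hm', mem_ann] at hgy
    have hu : IsUnit (X.presheaf.germ W z hzW g) := (isUnit_germ_iff hW ⟨z, hzW⟩ g).mpr hgz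
    have h0 : X.presheaf.germ W z hzW g * X.presheaf.germ W z hzW m' = 0 := by
      rw [← map_mul, ← smul_eq_mul, hgy, map_zero]
    exact hu.mul_right_eq_zero.mp h0
  · intro hass V
    rw [injective_iff_map_eq_zero]
    intro c hc
    by_contra hne
    obtain ⟨x, hxV, hx⟩ : ∃ (x : X) (hxV : x ∈ V), X.presheaf.germ V x hxV c ≠ 0 := by
      by_contra hall
      push Not at hall
      apply hne
      apply TopCat.Presheaf.section_ext X.sheaf V c 0
      intro x hx
      rw [map_zero]
      exact hall x hx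
    obtain ⟨_, ⟨W, hW, rfl⟩, hxW, hWV⟩ :=
      X.isBasis_affineOpens.exists_subset_of_mem_open hxV V.2
    replace hWV : W ≤ V := hWV
    set m : Γ(X, W) := X.presheaf.map (homOfLE hWV).op c with hm
    have hmx : X.presheaf.germ W x hxW m ≠ 0 := by
      rw [hm, TopCat.Presheaf.germ_res_apply X.presheaf (homOfLE hWV) x hxW c]
      exact hx
    have hIp : ann Γ(X, W) m ≤ (hW.primeIdealOf ⟨x, hxW⟩).asIdeal := by
      intro a ha
      by_contra hap
      have hu : IsUnit (X.presheaf.germ W x hxW a) := (isUnit_germ_iff hW ⟨x, hxW⟩ a).mpr hap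
      rw [mem_ann] at ha
      have h0 : X.presheaf.germ W x hxW a * X.presheaf.germ W x hxW m = 0 := by
        rw [← map_mul, ← smul_eq_mul, ha, map_zero]
      exact hmx (hu.mul_right_eq_zero.mp h0)
    obtain ⟨q, hqmin, hqp⟩ := Ideal.exists_minimalPrimes_le hIp
    haveI : q.IsPrime := hqmin.1.1
    obtain ⟨y, hyq⟩ : ∃ y : W, hW.primeIdealOf y = ⟨q, inferInstance⟩ :=
      ⟨⟨hW.fromSpec ⟨q, inferInstance⟩, fromSpec_mem hW _⟩, primeIdealOf_fromSpec hW _⟩
    have hyass : IsAssociatedPrime (IsLocalRing.maximalIdeal ↑(X.presheaf.stalk y.1))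
        ↑(X.presheaf.stalk y.1) := by
      rw [isAss_iff]
      haveI := hW.isLocalization_stalk y
      refine ⟨Algebra.linearMap Γ(X, W) (X.presheaf.stalk y.1) m, ?_⟩
      apply radical_ann_localized_of_minimal (hW.primeIdealOf y).asIdeal
        (X.presheaf.stalk y.1) (Algebra.linearMap Γ(X, W) (X.presheaf.stalk y.1)) m
      rw [hyq]
      exact hqmin
    have hyU : y.1 ∈ U := hass y.1 hyass
    have hyVU : y.1 ∈ V ⊓ U := ⟨hWV y.2, hyU⟩
    have h1 : X.presheaf.germ W y.1 y.2 m ≠ 0 := by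
      apply germ_ne_zero_of_ann_le hW y m
      rw [hyq]
      exact hqmin.1.2
    apply h1
    rw [hm, TopCat.Presheaf.germ_res_apply X.presheaf (homOfLE hWV) y.1 y.2 c,
      ← TopCat.Presheaf.germ_res_apply X.presheaf (homOfLE (inf_le_left : V ⊓ U ≤ V)) y.1 hyVU c,
      hc, map_zero]

end Groth.Agent.S1699
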