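import Groth.Statements.S15712
import Groth.Agent.S1699
import Groth.Agent.Lib.SerreSk
import Groth.Agent.Lib.GenericDense68

set_option autoImplicit false
universe u
open CategoryTheory AlgebraicGeometry TopologicalSpace
open RatSing

namespace Groth.Agent.S15712

/-- Let X be a locally Noetherian scheme with Serre's property (S_1), i.e. every local ring O_{X,x} has
depth at least min(1, dim O_{X,x}) (for instance X Cohen–Macaulay), and let U ⊆ X be open. Then
scheme-theoretic density of U in X is equivalent to U being dense as a subset. (The published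
statement assumes every scheme excellent, in particular locally Noetherian.) -/
theorem result (X : Scheme.{u}) [IsLocallyNoetherian X]
    (hS1 : ∀ x : X, min (1 : WithBot ℕ∞) (ringKrullDim (X.presheaf.stalk x)) ≤
      ((LocCoh.depth (X.presheaf.stalk x) (X.presheaf.stalk x) : ℕ∞) : WithBot ℕ∞))
    (U : X.Opens) : CInt.IsSchematicallyDense U ↔ Dense (U : Set X) := by
  constructor
  · intro hU
    rw [dense_iff_inter_open]
    intro O hO hne
    by_contra hcon
    rw [Set.not_nonempty_iff_eq_empty] at hcon
    let O' : X.Opens := ⟨O, hO⟩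
    have hbot : O' ⊓ U = ⊥ := by
      ext z
      simp only [Opens.coe_inf, Opens.coe_bot]
      exact Set.ext_iff.mp hcon z
    have hinj := hU O'
    have hsub : Subsingleton Γ(X, O' ⊓ U) := by
      rw [hbot]
      infer_instance
    have h10 : (1 : Γ(X, O')) = 0 := hinj (Subsingleton.elim _ _)
    have h1 : X.basicOpen (1 : Γ(X, O')) = O' := X.basicOpen_of_isUnit isUnit_one
    rw [h10, Scheme.basicOpen_zero] at h1
    obtain ⟨z, hz⟩ := hne
    have : z ∈ (⊥ : X.Opens) := h1 ▸ (show z ∈ O' from hz)
    exact this
  · intro hU
    rw [Groth.Agent.S1699.result]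
    intro x hass
    apply Groth.Agent.Lib.GenericDense68.mem_of_dense_of_isMax x _ U hU
    have hnd : ¬ (1 : ℕ∞) ≤ LocCoh.depth (X.presheaf.stalk x) (X.presheaf.stalk x) :=
      (Groth.Agent.Lib.SerreSk.maximalIdeal_mem_associatedPrimes_iff (X.presheaf.stalk x)).mp hass
    have hdim : ¬ (1 : WithBot ℕ∞) ≤ ringKrullDim (X.presheaf.stalk x) := by
      intro h1
      apply hnd
      have h2 := hS1 x
      rw [min_eq_left h1] at h2
      exact_mod_cast h2
    rw [ringKrullDim_stalk_eq_coheight] at hdim
    have hco : Order.coheight x = 0 := by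
      by_contra hne
      apply hdim
      have : (1 : ℕ∞) ≤ Order.coheight x := Order.one_le_iff_pos.mpr (pos_iff_ne_zero.mpr hne)
      exact_mod_cast this
    rw [Order.coheight_eq_zero] at hco
    intro y hy
    exact hco hy

end Groth.Agent.S15712
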