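import Groth.Statements.S15715
import Groth.Agent.Lib.SchDenseFlat68
import Groth.Agent.Lib.QCohStalk

set_option autoImplicit false
universe u
open CategoryTheory AlgebraicGeometry TopologicalSpace
open RatSing

namespace Groth.Agent.S15715

open Groth.Agent.Lib.QCohStalk in
theorem key (X : Scheme.{u}) [IsLocallyNoetherian X] (F G : X.Modules) (hF : Coh.IsQCoh F)
    (htf : ∀ V : X.affineOpens, Submodule.torsion Γ(X, V.1) (F.val.obj (Opposite.op V.1)) = ⊥)
    (φ : F ⟶ G) (U : X.Opens) (hU : CInt.IsSchematicallyDense U)
    (hφU : ∀ V : X.Opens, V ≤ U → ∀ t : Γ(F, V), φ.app V t = 0 → t = 0) (V : X.Opens)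
    (s : Γ(F, V)) (hs : φ.app V s = 0) : s = 0 := by
  have hqc : F.IsQuasicoherent := hF
  refine TopCat.Presheaf.IsSheaf.section_ext F.isSheaf (fun x hx => ?_)
  obtain ⟨T, hT, hxT, hTV⟩ := Opens.isBasis_iff_nbhd.mp X.isBasis_affineOpens hx
  refine ⟨T, hTV, hxT, ?_⟩
  obtain ⟨r, hr, hrU⟩ :=
    Groth.Agent.Lib.SchDenseFlat68.exists_nonZeroDivisor_basicOpen_le ⟨T, hT⟩ U hU
  rw [map_zero]
  -- the restriction of `s` to `D(r)` is zero
  have hD : res F ((X.basicOpen_le r).trans hTV) s = 0 := by
    apply hφU (X.basicOpen r) hrU
    have hnat := NatTrans.naturality_apply φ.mapPresheaf (homOfLE ((X.basicOpen_le r).trans hTV)).op s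
    change φ.app _ (F.presheaf.map _ s) = G.presheaf.map _ (φ.app V s) at hnat
    rw [hs, map_zero] at hnat
    exact hnat
  have h1 : res F (X.basicOpen_le r) (res F hTV s) = 0 := by
    rw [res_res]; exact hD
  obtain ⟨n, hn⟩ := exists_pow_smul_eq_zero F hT r (res F hTV s) h1
  have htor : res F hTV s ∈ Submodule.torsion Γ(X, T) (F.val.obj (Opposite.op T)) :=
    ⟨⟨r ^ n, pow_mem hr n⟩, hn⟩
  rw [htf ⟨T, hT⟩] at htor
  exact htor

/-- Let X be a locally Noetherian scheme, φ : F → G a homomorphism of O_X-modules with F quasi-coherent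
and torsion-free (over every affine open V, no nonzero section of F is killed by a regular element
of O_X(V)), and U a scheme-theoretically dense open subset of X such that the restriction of φ to U
is injective. Then φ is injective. (The published statement allows an arbitrary O_X-module F; for
the skyscraper sheaf on the affine line over a field, placed at a closed point with value the local
ring at that point, which is torsion-free in this sense, the zero map to the zero module is
injective over the dense open complement of the point but not injective. This row takes F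
quasi-coherent.) -/
theorem result (X : Scheme.{u})
    [IsLocallyNoetherian X] (F G : X.Modules) (hF : Coh.IsQCoh F)
    (htf : ∀ V : X.affineOpens, Submodule.torsion Γ(X, V.1) (F.val.obj (Opposite.op V.1)) = ⊥)
    (φ : F ⟶ G) (U : X.Opens) (hU : CInt.IsSchematicallyDense U)
    (hφU : ∀ V : X.Opens, V ≤ U → Function.Injective ⇑(ConcreteCategory.hom (φ.val.app (Opposite.op V)))) (V : X.Opens) :
    Function.Injective ⇑(ConcreteCategory.hom (φ.val.app (Opposite.op V))) := by
  rw [injective_iff_map_eq_zero]
  intro s hs
  refine key X F G hF htf φ U hU (fun W hW t ht => ?_) V s hs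
  exact (injective_iff_map_eq_zero _).mp (hφU W hW) t ht

end Groth.Agent.S15715
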