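import Groth.Statements.S15717
import Groth.Agent.Lib.H8CM5

set_option autoImplicit false
universe u
open CAlg

namespace Groth.Agent.S15717

/-- Let R be a Cohen–Macaulay local ring and I an ideal of R with R/I equidimensional (all minimal
primes p over I have the same dim R/p). Then there is a regular sequence r_1, ..., r_n in I such
that the closed subscheme V(r_1, ..., r_n) of Spec R, a local complete intersection, contains V(I),
has the same dimension as V(I), and has the irreducible components of V(I) among its irreducible
components: dim R/(r_1, ..., r_n) = dim R/I and every minimal prime over I is a minimal prime over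
(r_1, ..., r_n). The sequence is asked to be weakly regular (each r_i a non-zero-divisor modulo the
previous ones), which for I proper is the same as regular and which also covers I = R with the
sequence (1). -/
theorem result (R : Type u) [CommRing R]
    [LocCoh.IsCohenMacaulayLocalRing R] (I : Ideal R)
    (hI : ∀ p ∈ I.minimalPrimes, ringKrullDim (R ⧸ p) = ringKrullDim (R ⧸ I)) :
    ∃ rs : List R, RingTheory.Sequence.IsWeaklyRegular R rs ∧ Ideal.ofList rs ≤ I ∧
      ringKrullDim (R ⧸ Ideal.ofList rs) = ringKrullDim (R ⧸ I) ∧
      I.minimalPrimes ⊆ (Ideal.ofList rs).minimalPrimes := by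
  open Groth.Agent.Lib.H8CM RingTheory.Sequence IsLocalRing Module in
  by_cases hI1 : I = ⊤
  · subst hI1
    refine ⟨[1], ?_, ?_, ?_, ?_⟩
    · rw [isWeaklyRegular_cons_iff]
      exact ⟨IsSMulRegular.one _, IsWeaklyRegular.nil R _⟩
    · exact le_top
    · have : Ideal.ofList [(1 : R)] = ⊤ := by
        rw [Ideal.ofList_singleton, Ideal.span_singleton_one]
      rw [this]
    · intro p hp
      exact absurd hp.1.2 (fun h ↦ hp.1.1.ne_top (top_le_iff.mp h))
  · obtain ⟨rs, hreg, hmem, hdim⟩ := exists_isWeaklyRegular_le_of_ne_top hI1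
    have hle : Ideal.ofList rs ≤ I := by
      rw [Ideal.ofList, Ideal.span_le]; exact fun r hr ↦ hmem r hr
    refine ⟨rs, hreg, hle, hdim, ?_⟩
    intro p hp
    have hpprime := hp.1.1
    obtain ⟨p', hp', hp'p⟩ := Ideal.exists_minimalPrimes_le (hle.trans hp.1.2)
    have hp'prime := hp'.1.1
    -- dimensions
    have hnt : Nontrivial (R ⧸ I) := Ideal.Quotient.nontrivial_iff.mpr hI1
    obtain ⟨a, ha⟩ : ∃ a : ℕ, ringKrullDim (R ⧸ I) = (a : WithBot ℕ∞) := by
      have := exists_nat_supportDim (R := R) (M := R ⧸ I)
      rwa [supportDim_quotient_eq_ringKrullDim] at this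
    have h1 : ringKrullDim (R ⧸ p') ≤ ringKrullDim (R ⧸ Ideal.ofList rs) :=
      ringKrullDim_le_of_surjective (Ideal.Quotient.factor hp'.1.2)
        (Ideal.Quotient.factor_surjective hp'.1.2)
    have h2 : ringKrullDim (R ⧸ p) ≤ ringKrullDim (R ⧸ p') :=
      ringKrullDim_le_of_surjective (Ideal.Quotient.factor hp'p)
        (Ideal.Quotient.factor_surjective hp'p)
    have h3 := hI p hp
    have heq : ringKrullDim (R ⧸ p') = ringKrullDim (R ⧸ p) := by
      apply le_antisymm _ h2
      rw [h3, ← hdim]
      exact h1
    have := eq_of_le_of_ringKrullDim_quotient_eq hp'p a (h3.trans ha) heq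
    rwa [← this]

end Groth.Agent.S15717
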