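import Groth.Statements.S1573
import Groth.Agent.Lib.AffineComplDim9

set_option autoImplicit false
universe u
open CategoryTheory CategoryTheory.Limits AlgebraicGeometry
open Divisors

namespace Groth.Agent.S1573


/-- Let X be locally Noetherian and U an open subscheme whose inclusion is an affine morphism. At every
point ξ outside U which is maximal under generisation among points outside U, the local ring of X
has dimension at most one; if U is dense the dimension equals one. -/
theorem result (X : Scheme.{u}) [IsLocallyNoetherian X]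
    (U : X.Opens) [IsAffineHom U.ι] (ξ : X) (hξ : ξ ∉ U) (hgen : ∀ y : X, y ∉ U → y ⤳ ξ → y = ξ) :
    ringKrullDim (X.presheaf.stalk ξ) ≤ 1 ∧ (Dense (U : Set X) → ringKrullDim (X.presheaf.stalk ξ) = 1) := by
  have h1 := Groth.Agent.Lib.AffineComplDim9.ringKrullDim_stalk_le_one X U ξ hξ hgen
  refine ⟨h1, fun hd => ?_⟩
  have h0 := Groth.Agent.Lib.AffineComplDim9.ringKrullDim_stalk_ne_zero_of_dense X U ξ hξ hd
  have hnn : (0 : WithBot ℕ∞) ≤ ringKrullDim (X.presheaf.stalk ξ) := ringKrullDim_nonneg_of_nontrivial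
  apply le_antisymm h1
  obtain ⟨n, hn⟩ : ∃ n : ℕ∞, ringKrullDim (X.presheaf.stalk ξ) = (n : WithBot ℕ∞) := by
    cases h : ringKrullDim (X.presheaf.stalk ξ) with
    | bot => rw [h] at hnn; exact absurd hnn (by simp)
    | coe n => exact ⟨n, rfl⟩
  rw [hn] at h0 ⊢
  have hn0 : n ≠ 0 := fun h => h0 (by rw [h]; rfl)
  have : (1 : ℕ∞) ≤ n := Order.one_le_iff_pos.mpr (pos_iff_ne_zero.mpr hn0)
  exact_mod_cast this

end Groth.Agent.S1573
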