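import Groth.Statements.S1572
import Groth.Agent.Lib.LocFact82
import Groth.Agent.S1570
import Groth.Agent.S1573

set_option autoImplicit false
universe u
open CategoryTheory CategoryTheory.Limits AlgebraicGeometry
open Divisors

namespace Groth.Agent.S1572

open Groth.Agent.Lib.LocFact82

section Alg

variable {S : Type*} [CommRing S] [IsDomain S] [UniqueFactorizationMonoid S]

/-- in a factorial domain, a finite intersection of nonzero principal ideals is a nonzero principal ideal -/
theorem exists_span_eq_sInf_of_finite (𝒬 : Set (Ideal S)) (hfin : 𝒬.Finite)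
    (h : ∀ Q ∈ 𝒬, ∃ t : S, t ≠ 0 ∧ Q = Ideal.span {t}) :
    ∃ g : S, g ≠ 0 ∧ sInf 𝒬 = Ideal.span {g} := by
  classical
  let _ : GCDMonoid S := UniqueFactorizationMonoid.toGCDMonoid S
  induction 𝒬, hfin using Set.Finite.induction_on with
  | empty =>
    refine ⟨1, one_ne_zero, ?_⟩
    rw [sInf_empty, Ideal.span_singleton_one]
  | @insert Q 𝒬' hQ hfin' ih =>
    obtain ⟨g', hg', e'⟩ := ih (fun Q' hQ' => h Q' (Set.mem_insert_of_mem _ hQ'))
    obtain ⟨t, ht, rfl⟩ := h Q (Set.mem_insert _ _)
    refine ⟨lcm t g', ?_, ?_⟩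
    · intro h0
      rcases (lcm_eq_zero_iff t g').mp h0 with h1 | h1
      · exact ht h1
      · exact hg' h1
    · rw [sInf_insert, e']
      ext c
      rw [Ideal.mem_inf, Ideal.mem_span_singleton, Ideal.mem_span_singleton,
        Ideal.mem_span_singleton, lcm_dvd_iff]

/-- a radical ideal of a Noetherian factorial domain all of whose minimal primes have height one is
principal, generated by a nonzero element -/
theorem exists_span_eq_of_isRadical [IsNoetherianRing S] (J : Ideal S) (hJ : J.IsRadical)
    (h : ∀ Q ∈ J.minimalPrimes, Q.height = 1) : ∃ g : S, g ≠ 0 ∧ J = Ideal.span {g} := by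
  have hfin : J.minimalPrimes.Finite := Ideal.finite_minimalPrimes_of_isNoetherianRing S J
  obtain ⟨g, hg, e⟩ := exists_span_eq_sInf_of_finite J.minimalPrimes hfin (fun Q hQ => by
    have : Q.IsPrime := hQ.1.1
    exact exists_span_of_height_eq_one Q (h Q hQ))
  refine ⟨g, hg, ?_⟩
  rw [← e, Ideal.sInf_minimalPrimes, hJ.radical]

end Alg

variable {X : Scheme.{u}}

/-- a germ of a section of the ideal lies in the prime of a generization `ζ` iff ... : membership in `genPrime` -/
theorem germ_mem_genPrime_iff {ζ x : X} (h : ζ ⤳ x) (W : X.Opens) (hxW : x ∈ W) (a : Γ(X, W)) :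
    X.presheaf.germ W x hxW a ∈ genPrime X h ↔ ζ ∉ X.basicOpen a := by
  have hζW : ζ ∈ W := h.mem_open W.2 hxW
  rw [Scheme.mem_basicOpen _ _ _ hζW]
  change (X.presheaf.stalkSpecializes h).hom (X.presheaf.germ W x hxW a) ∈
    IsLocalRing.maximalIdeal (X.presheaf.stalk ζ) ↔ _
  rw [TopCat.Presheaf.germ_stalkSpecializes_apply X.presheaf hxW h a, IsLocalRing.mem_maximalIdeal,
    mem_nonunits_iff]

theorem genPrime_le_of_specializes {y ζ x : X} (hy : y ⤳ ζ) (hζ : ζ ⤳ x) :
    genPrime X (hy.trans hζ) ≤ genPrime X hζ := by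
  intro s hs
  change (X.presheaf.stalkSpecializes (hy.trans hζ)).hom s ∈
    IsLocalRing.maximalIdeal (X.presheaf.stalk y) at hs
  change (X.presheaf.stalkSpecializes hζ).hom s ∈ IsLocalRing.maximalIdeal (X.presheaf.stalk ζ)
  rw [IsLocalRing.mem_maximalIdeal, mem_nonunits_iff] at hs ⊢
  intro hu
  apply hs
  have e : X.presheaf.stalkSpecializes (hy.trans hζ) =
      X.presheaf.stalkSpecializes hζ ≫ X.presheaf.stalkSpecializes hy :=
    (TopCat.Presheaf.stalkSpecializes_comp X.presheaf hy hζ).symm
  rw [e]
  exact hu.map (X.presheaf.stalkSpecializes hy).hom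

/-- the local generator of the reduced ideal of the complement of a dense affine open at a
factorial point -/
theorem exists_stalk_generator [IsNoetherian X] [X.IsSeparated]
    (U : X.Opens) (hU : IsAffineOpen U) (hdense : Dense (U : Set X))
    (x : X) (hdom : IsDomain (X.presheaf.stalk x))
    (hufd : UniqueFactorizationMonoid (X.presheaf.stalk x))
    (W : X.affineOpens) (hxW : x ∈ (W : X.Opens)) :
    ∃ g : X.presheaf.stalk x, g ∈ nonZeroDivisors (X.presheaf.stalk x) ∧
      ((Scheme.IdealSheafData.vanishingIdeal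
        (⟨(U : Set X)ᶜ, U.2.isClosed_compl⟩ : TopologicalSpace.Closeds X)).ideal W).map
          (X.presheaf.germ W x hxW).hom = Ideal.span {g} := by
  set Z : TopologicalSpace.Closeds X := ⟨(U : Set X)ᶜ, U.2.isClosed_compl⟩ with hZ
  set D := Scheme.IdealSheafData.vanishingIdeal Z with hD
  have hsupp : (D.support : Set X) = (U : Set X)ᶜ := Scheme.IdealSheafData.coe_support_vanishingIdeal Z
  -- points of `W` in the support are the points where all sections of the ideal vanish
  have hmem : ∀ y : X, y ∈ (W : X.Opens) → (y ∉ U ↔ ∀ a ∈ D.ideal W, y ∉ X.basicOpen a) := by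
    intro y hyW
    have h1 := Scheme.IdealSheafData.coe_support_inter D W
    have h2 : y ∈ (D.support : Set X) ∩ (W : X.Opens) ↔ y ∈ X.zeroLocus (U := W.1) (D.ideal W) ∩ (W : X.Opens) := by
      rw [h1]
    rw [hsupp] at h2
    constructor
    · intro hy a ha
      have := (h2.mp ⟨hy, hyW⟩).1
      rw [Scheme.mem_zeroLocus_iff] at this
      exact this a ha
    · intro hy
      refine (h2.mpr ⟨?_, hyW⟩).1
      rw [Scheme.mem_zeroLocus_iff]
      exact hy
  -- the localization structure
  let algx : Algebra Γ(X, W.1) (X.presheaf.stalk x) :=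
    TopCat.Presheaf.algebra_section_stalk X.presheaf ⟨x, hxW⟩
  have locx : IsLocalization.AtPrime (X.presheaf.stalk x) (W.2.primeIdealOf ⟨x, hxW⟩).asIdeal :=
    W.2.isLocalization_stalk ⟨x, hxW⟩
  have hrad : (D.ideal W).IsRadical := by
    rw [hD, Scheme.IdealSheafData.vanishingIdeal_ideal]
    exact PrimeSpectrum.isRadical_vanishingIdeal _
  set J : Ideal (X.presheaf.stalk x) := (D.ideal W).map (X.presheaf.germ W x hxW).hom with hJ
  have hJrad : J.IsRadical := by
    have h1 := IsLocalization.map_radical (W.2.primeIdealOf ⟨x, hxW⟩).asIdeal.primeCompl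
      (S := X.presheaf.stalk x) (D.ideal W)
    rw [hrad.radical] at h1
    change J = J.radical at h1
    exact h1.symm ▸ Ideal.radical_isRadical J
  have hN : IsNoetherianRing (X.presheaf.stalk x) := inferInstance
  have haff : IsAffineHom U.ι := by
    have : IsAffine (U : Scheme.{u}) := hU
    have : IsAffineHom (U.ι ≫ terminal.from X) := inferInstance
    exact IsAffineHom.of_comp U.ι (terminal.from X)
  have hheight : ∀ Q ∈ J.minimalPrimes, Q.height = 1 := by
    intro Q hQ
    have hQp : Q.IsPrime := hQ.1.1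
    obtain ⟨ζ, hζ, hζQ⟩ := exists_genPrime_eq X x Q
    have hζW : ζ ∈ (W : X.Opens) := hζ.mem_open W.1.2 hxW
    have hJQ : J ≤ Q := hQ.1.2
    have hζU : ζ ∉ U := by
      rw [hmem ζ hζW]
      intro a ha
      rw [← germ_mem_genPrime_iff hζ W.1 hxW a, hζQ]
      exact hJQ (Ideal.mem_map_of_mem _ ha)
    have hgen : ∀ y : X, y ∉ U → y ⤳ ζ → y = ζ := by
      intro y hyU hyζ
      have hyx : y ⤳ x := hyζ.trans hζ
      have hyW : y ∈ (W : X.Opens) := hyx.mem_open W.1.2 hxW
      have h1 : J ≤ genPrime X hyx := by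
        rw [hJ, Ideal.map_le_iff_le_comap]
        intro a ha
        rw [Ideal.mem_comap, germ_mem_genPrime_iff hyx W.1 hxW a]
        exact (hmem y hyW).mp hyU a ha
      have h2 : genPrime X hyx ≤ Q := hζQ ▸ genPrime_le_of_specializes hyζ hζ
      have h3 : Q ≤ genPrime X hyx := hQ.2 ⟨inferInstance, h1⟩ h2
      have h4 : genPrime X hyx = genPrime X hζ := by rw [hζQ]; exact le_antisymm h2 h3
      exact eq_of_genPrime_eq X hyx hζ h4
    have hdim := (Groth.Agent.S1573.result X U ζ hζU hgen).2 hdense
    rw [ringKrullDim_stalk_eq_height X hζ, hζQ] at hdim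
    exact_mod_cast hdim
  obtain ⟨g, hg, e⟩ := exists_span_eq_of_isRadical J hJrad hheight
  exact ⟨g, mem_nonZeroDivisors_of_ne_zero hg, e⟩


/-- Let X be Noetherian and separated and U a dense affine open such that the local ring of X at every
point outside U is a unique factorisation domain. Then there is an effective Cartier divisor on X
whose support is exactly the complement of U. -/
theorem result (X : Scheme.{u}) [IsNoetherian X] [X.IsSeparated]
    (U : X.Opens) (hU : IsAffineOpen U) (hdense : Dense (U : Set X))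
    (hufd : ∀ x : X, x ∉ U → IsDomain (X.presheaf.stalk x) ∧ UniqueFactorizationMonoid (X.presheaf.stalk x)) :
    ∃ D : X.IdealSheafData, BlowUp.IsEffCartierIdeal D ∧ (D.support : Set X) = (U : Set X)ᶜ := by
  refine ⟨Scheme.IdealSheafData.vanishingIdeal (⟨(U : Set X)ᶜ, U.2.isClosed_compl⟩ : TopologicalSpace.Closeds X),
    Groth.Agent.S1570.result X _ (fun x hx W hxW => ?_),
    Scheme.IdealSheafData.coe_support_vanishingIdeal _⟩
  have hxU : x ∉ U := by
    have h1 : x ∈ ((Scheme.IdealSheafData.vanishingIdeal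
      (⟨(U : Set X)ᶜ, U.2.isClosed_compl⟩ : TopologicalSpace.Closeds X)).support : Set X) := hx
    rw [Scheme.IdealSheafData.coe_support_vanishingIdeal] at h1
    exact h1
  exact exists_stalk_generator U hU hdense x (hufd x hxU).1 (hufd x hxU).2 W hxW

end Groth.Agent.S1572
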