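import Groth.Statements.S15723
import Mathlib
import Groth.Agent.Lib.GeomHeight7
import Groth.Agent.S10915

set_option autoImplicit false
universe u v
open CAlg

namespace Groth.Agent.S15723

section helpers

open W4c2ratsingkovacs Groth.Agent.Lib.GeomHeight7 Groth.Agent.Lib

variable {R : Type u} {A : Type v} [CommRing R] [CommRing A] [Algebra R A]
  (𝒜 : ℕ → Submodule R A) [GradedRing 𝒜]

/-- homogeneous positive-degree element of `J` outside `p` -/
theorem exists_pos_homog_notMem (J : Ideal A) (hJ : J.IsHomogeneous 𝒜) (p : Ideal A) [hp : p.IsPrime]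
    (h1 : ¬ J ≤ p) (h2 : ¬ (HomogeneousIdeal.irrelevant 𝒜).toIdeal ≤ p) :
    ∃ (z : A) (d : ℕ), 0 < d ∧ z ∈ 𝒜 d ∧ z ∈ J ∧ z ∉ p := by
  obtain ⟨x, i, hxi, hxJ, hxp⟩ := GradedAvoid.exists_homogeneous_notMem 𝒜 J hJ p h1
  obtain ⟨w, e, hwe, hwI, hwp⟩ := GradedAvoid.exists_homogeneous_notMem 𝒜 _
    (HomogeneousIdeal.irrelevant 𝒜).isHomogeneous p h2
  have hw0 : w ≠ 0 := fun h => hwp (h ▸ p.zero_mem)
  have he := GradedAvoid.pos_of_mem_irrelevant 𝒜 hwe hwI hw0
  refine ⟨x * w, i + e, by omega, SetLike.mul_mem_graded hxi hwe, J.mul_mem_right _ hxJ, ?_⟩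
  intro h
  rcases hp.mem_or_mem h with h | h
  exacts [hxp h, hwp h]

theorem mem_irrelevant_of_pos {f : A} {n : ℕ} (hn : 0 < n) (hfn : f ∈ 𝒜 n) :
    f ∈ (HomogeneousIdeal.irrelevant 𝒜).toIdeal := by
  classical
  change f ∈ HomogeneousIdeal.irrelevant 𝒜
  rw [HomogeneousIdeal.mem_irrelevant_iff, GradedRing.proj_apply,
    DirectSum.decompose_of_mem_ne 𝒜 hfn hn.ne']

theorem ofList_isHomogeneous (zs : List A) (h : ∀ z ∈ zs, ∃ n : ℕ, z ∈ 𝒜 n) :
    (Ideal.ofList zs).IsHomogeneous 𝒜 := by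
  apply Ideal.homogeneous_span
  intro x hx
  exact h x hx

theorem height_le_length [IsNoetherianRing A] (zs : List A) {Q : Ideal A}
    (hQ : Q ∈ (Ideal.ofList zs).minimalPrimes) : Q.height ≤ zs.length := by
  classical
  have h1 : Ideal.ofList zs = Ideal.span (zs.toFinset : Set A) := by
    rw [List.coe_toFinset]
  rw [h1] at hQ
  refine (Ideal.height_le_card_of_mem_minimalPrimes_span_finset hQ).trans ?_
  exact_mod_cast List.toFinset_card_le zs

theorem step_height [IsNoetherianRing A] (J : Ideal A) (hJ : J.IsHomogeneous 𝒜) (h : ℕ)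
    (hJh : HasUniformGeomHeight 𝒜 J h) (zs : List A) (hzs_hom : ∀ z ∈ zs, ∃ n : ℕ, z ∈ 𝒜 n)
    (hzsJ : ∀ z ∈ zs, z ∈ J) (j : ℕ) (hlen : zs.length = j) (hj : j < h) (z : A)
    (hz_hom : ∃ n : ℕ, z ∈ 𝒜 n) (hzJ : z ∈ J)
    (hz_avoid : ∀ Q ∈ (Ideal.ofList zs).minimalPrimes, ¬ J ≤ Q →
      ¬ (HomogeneousIdeal.irrelevant 𝒜).toIdeal ≤ Q → z ∉ Q)
    (f : A) (n : ℕ) (hn : 0 < n) (hfn : f ∈ 𝒜 n) (hfJ : f ∉ J.radical)
    (hprev : 1 ≤ j → geomHeight 𝒜 (Ideal.ofList zs) f = j) :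
    geomHeight 𝒜 (Ideal.ofList (zs ++ [z])) f = ((j + 1 : ℕ) : ℕ∞) := by
  have hJf : geomHeight 𝒜 J f = h := hJh f n hn hfn hfJ
  unfold geomHeight at *
  have h𝔞'J : Ideal.ofList (zs ++ [z]) ≤ J := by
    rw [Ideal.ofList, Ideal.span_le]
    intro x hx
    rcases List.mem_append.mp hx with hx | hx
    · exact hzsJ x hx
    · rw [List.mem_singleton] at hx
      rw [hx]
      exact hzJ
  have h𝔞𝔞' : Ideal.ofList zs ≤ Ideal.ofList (zs ++ [z]) := by
    rw [Ideal.ofList_append]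
    exact le_sup_left
  have h𝔞hom : (Ideal.ofList zs).IsHomogeneous 𝒜 := ofList_isHomogeneous 𝒜 zs hzs_hom
  have h𝔞'hom : (Ideal.ofList (zs ++ [z])).IsHomogeneous 𝒜 := by
    apply ofList_isHomogeneous
    intro x hx
    rcases List.mem_append.mp hx with hx | hx
    · exact hzs_hom x hx
    · rw [List.mem_singleton] at hx
      rw [hx]
      exact hz_hom
  have hlen' : (zs ++ [z]).length = j + 1 := by
    rw [List.length_append, hlen]
    rfl
  apply le_antisymm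
  · have hne : locIdeal 𝒜 J f ≠ ⊤ := by
      intro h'
      rw [h', Ideal.height_top] at hJf
      exact ENat.top_ne_coe _ hJf
    obtain ⟨M, hM, hJM⟩ := Ideal.exists_le_maximal _ hne
    haveI := hM.isPrime
    obtain ⟨x₀, hx₀p, hx₀h, hfx₀, hx₀eq⟩ := exists_prime_locIdeal_eq 𝒜 hn hfn M
    haveI := hx₀p
    have hJx₀ : J ≤ x₀ := le_of_locIdeal_le 𝒜 hJ hn hfn hfx₀ (hx₀eq ▸ hJM)
    obtain ⟨Q, hQmin, hQx₀⟩ := Ideal.exists_minimalPrimes_le (h𝔞'J.trans hJx₀)
    haveI := hQmin.1.1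
    have hQhom := Groth.Agent.S10915.isHomogeneous_of_mem_minimalPrimes h𝔞'hom hQmin
    have hfQ : f ∉ Q := fun h => hfx₀ (hQx₀ h)
    have hQht : Q.height ≤ ((j + 1 : ℕ) : ℕ∞) := by
      rw [← hlen']
      exact height_le_length (zs ++ [z]) hQmin
    calc (locIdeal 𝒜 (Ideal.ofList (zs ++ [z])) f).height
        ≤ (locIdeal 𝒜 Q f).height := Ideal.height_mono (locIdeal_mono 𝒜 hQmin.1.2 f)
      _ ≤ Q.height := height_locIdeal_le 𝒜 hQhom hn hfn hfQ
      _ ≤ ((j + 1 : ℕ) : ℕ∞) := hQht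
  · rw [Ideal.height_eq_inf_minimalPrimes]
    apply le_iInf₂
    intro q hq
    haveI := hq.1.1
    obtain ⟨y, hyp, hyh, hfy, hyeq⟩ := exists_prime_locIdeal_eq 𝒜 hn hfn q
    haveI := hyp
    have h𝔞'y : Ideal.ofList (zs ++ [z]) ≤ y :=
      le_of_locIdeal_le 𝒜 h𝔞'hom hn hfn hfy (hyeq ▸ hq.1.2)
    obtain ⟨Q, hQmin, hQy⟩ := Ideal.exists_minimalPrimes_le (h𝔞𝔞'.trans h𝔞'y)
    haveI := hQmin.1.1
    have hQhom := Groth.Agent.S10915.isHomogeneous_of_mem_minimalPrimes h𝔞hom hQmin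
    have hfQ : f ∉ Q := fun h => hfy (hQy h)
    have hQht : Q.height ≤ (j : ℕ∞) := by
      rw [← hlen]
      exact height_le_length zs hQmin
    have hQf_le : (locIdeal 𝒜 Q f).height ≤ (j : ℕ∞) :=
      (height_locIdeal_le 𝒜 hQhom hn hfn hfQ).trans hQht
    have hQf_ge : (j : ℕ∞) ≤ (locIdeal 𝒜 Q f).height := by
      rcases Nat.eq_zero_or_pos j with h0 | h0
      · rw [h0]
        exact bot_le
      · rw [← hprev h0]
        exact Ideal.height_mono (locIdeal_mono 𝒜 hQmin.1.2 f)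
    have hJQ : ¬ J ≤ Q := by
      intro hle
      have h1 := Ideal.height_mono (locIdeal_mono 𝒜 hle f)
      rw [hJf] at h1
      have h2 : (h : ℕ∞) ≤ j := h1.trans hQf_le
      have h3 : h ≤ j := by exact_mod_cast h2
      omega
    have hirrQ : ¬ (HomogeneousIdeal.irrelevant 𝒜).toIdeal ≤ Q :=
      fun hle => hfQ (hle (mem_irrelevant_of_pos 𝒜 hn hfn))
    have hzQ : z ∉ Q := hz_avoid Q hQmin hJQ hirrQ
    have hzy : z ∈ y := h𝔞'y (Ideal.subset_span (List.mem_append.mpr (Or.inr (List.mem_singleton.mpr rfl))))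
    have hlt : Q < y := lt_of_le_of_ne hQy (fun heq => hzQ (heq ▸ hzy))
    have hlt' := locIdeal_lt 𝒜 hQhom hn hfn hfQ hfy hyh hlt
    haveI := isPrime_locIdeal 𝒜 Q hfQ
    rw [hyeq] at hlt'
    have h4 := Ideal.height_add_one_le_of_lt_of_isPrime hlt'
    calc ((j + 1 : ℕ) : ℕ∞) = (j : ℕ∞) + 1 := by push_cast; rfl
      _ ≤ (locIdeal 𝒜 Q f).height + 1 := by gcongr
      _ ≤ q.height := h4

theorem exists_seq [IsNoetherianRing A] (J : Ideal A) (hJ : J.IsHomogeneous 𝒜) (h : ℕ)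
    (hJh : HasUniformGeomHeight 𝒜 J h) (P : Finset (Ideal A))
    (hP : ∀ q ∈ P, q.IsPrime ∧ ¬ J ≤ q ∧ ¬ (HomogeneousIdeal.irrelevant 𝒜).toIdeal ≤ q) :
    ∀ j : ℕ, j ≤ h → ∃ zs : List A, zs.length = j ∧
      (∀ z ∈ zs, (∃ n : ℕ, 0 < n ∧ z ∈ 𝒜 n) ∧ z ∈ J ∧ ∀ q ∈ P, z ∉ q) ∧
      ∀ (f : A) (n : ℕ), 0 < n → f ∈ 𝒜 n → f ∉ J.radical →
        ∀ j' : ℕ, 1 ≤ j' → j' ≤ j → geomHeight 𝒜 (Ideal.ofList (zs.take j')) f = j' := by
  classical
  intro j
  induction j with
  | zero =>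
    intro _
    refine ⟨[], rfl, fun z hz => by simp at hz, fun f n _ _ _ j' h1 h2 => ?_⟩
    omega
  | succ j ih =>
    intro hj
    obtain ⟨zs, hlen, hzs, hht⟩ := ih (by omega)
    have hfin := Ideal.finite_minimalPrimes_of_isNoetherianRing A (Ideal.ofList zs)
    set S : Set (Ideal A) := {Q | Q ∈ (Ideal.ofList zs).minimalPrimes ∧ ¬ J ≤ Q ∧
      ¬ (HomogeneousIdeal.irrelevant 𝒜).toIdeal ≤ Q} with hS
    have hSfin : S.Finite := hfin.subset (fun Q hQ => hQ.1)
    set PP : Finset (Ideal A) := P ∪ hSfin.toFinset with hPP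
    obtain ⟨z, d, hd, hzd, hzJ, hzPP⟩ := GradedAvoid.gpa 𝒜 J PP.card PP rfl (by
      intro p hp
      rw [hPP, Finset.mem_union, Set.Finite.mem_toFinset] at hp
      rcases hp with hp | hp
      · obtain ⟨h1, h2, h3⟩ := hP p hp
        haveI := h1
        exact ⟨h1, exists_pos_homog_notMem 𝒜 J hJ p h2 h3⟩
      · obtain ⟨h1, h2, h3⟩ := hp
        haveI := h1.1.1
        exact ⟨h1.1.1, exists_pos_homog_notMem 𝒜 J hJ p h2 h3⟩)
    refine ⟨zs ++ [z], by rw [List.length_append, hlen]; rfl, ?_, ?_⟩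
    · intro x hx
      rcases List.mem_append.mp hx with hx | hx
      · exact hzs x hx
      · rw [List.mem_singleton] at hx
        rw [hx]
        exact ⟨⟨d, hd, hzd⟩, hzJ, fun q hq => hzPP q (Finset.mem_union_left _ hq)⟩
    · intro f n hn hfn hfJ j' h1 h2
      rcases Nat.lt_or_ge j j' with hlt | hle
      · have hj' : j' = j + 1 := by omega
        rw [hj', List.take_of_length_le (by rw [List.length_append, hlen]; rfl)]
        refine step_height 𝒜 J hJ h hJh zs (fun x hx => ?_) (fun x hx => (hzs x hx).2.1) j hlen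
          (by omega) z ⟨d, hzd⟩ hzJ ?_ f n hn hfn hfJ ?_
        · obtain ⟨m, -, hm⟩ := (hzs x hx).1
          exact ⟨m, hm⟩
        · intro Q hQ h3 h4
          exact hzPP Q (Finset.mem_union_right _ ((Set.Finite.mem_toFinset hSfin).mpr ⟨hQ, h3, h4⟩))
        · intro hj1
          have := hht f n hn hfn hfJ j hj1 le_rfl
          rwa [List.take_of_length_le (by rw [hlen])] at this
      · rw [List.take_append_of_le_length (by rw [hlen]; exact hle)]
        exact hht f n hn hfn hfJ j' h1 hle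

theorem main {R : Type u} {A : Type v} [CommRing R] [CommRing A]
    [Algebra R A] [IsNoetherianRing A] (𝒜 : ℕ → Submodule R A) [GradedRing 𝒜]
    (J : Ideal A) (hJ : J.IsHomogeneous 𝒜) (h : ℕ) (hJh : W4c2ratsingkovacs.HasUniformGeomHeight 𝒜 J h)
    (P : Finset (Ideal A)) (hP : ∀ q ∈ P, q.IsPrime ∧ ¬ J ≤ q ∧ ¬ (HomogeneousIdeal.irrelevant 𝒜).toIdeal ≤ q) :
    ∃ zs : List A, zs.length = h ∧
      (∀ z ∈ zs, (∃ n : ℕ, 0 < n ∧ z ∈ 𝒜 n) ∧ z ∈ J ∧ ∀ q ∈ P, z ∉ q) ∧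
      ∀ (f : A) (n : ℕ), 0 < n → f ∈ 𝒜 n → f ∉ J.radical →
        ∀ j : ℕ, 1 ≤ j → j ≤ h → W4c2ratsingkovacs.geomHeight 𝒜 (Ideal.ofList (zs.take j)) f = j :=
  exists_seq 𝒜 J hJ h hJh P hP h le_rfl

end helpers

/-- Let A be a Noetherian commutative ring graded by the natural numbers, J a homogeneous ideal of
uniform geometric height h (the height of the homogeneous localization J_(f) in the degree-zero ring
A_(f) is h for every homogeneous f of positive degree outside the radical of J), and q_1, ..., q_t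
finitely many prime ideals none of which contains J or the irrelevant ideal A_+. Then there are
homogeneous elements z_1, ..., z_h of positive degree, lying in J and in no q_i, such that for every
homogeneous f of positive degree outside the radical of J and every 1 ≤ j ≤ h the ideal (z_1, ...,
z_j) has geometric height j with respect to f. (The published statement lets f range over all
homogeneous elements outside the radical of J, degree 0 included; then it fails: in A = k[t][x] with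
t of degree 0 and x of degree 1, the ideal J = (t) has geometric height 1 with respect to every
homogeneous f outside its radical, f = 1 included, while (z)_(1) = 0 has height 0 for every
homogeneous z of positive degree. This row takes f of positive degree, in the hypothesis and in the
conclusion.) -/
theorem result {R : Type u} {A : Type v} [CommRing R] [CommRing A]
    [Algebra R A] [IsNoetherianRing A] (𝒜 : ℕ → Submodule R A) [GradedRing 𝒜]
    (J : Ideal A) (hJ : J.IsHomogeneous 𝒜) (h : ℕ) (hJh : W4c2ratsingkovacs.HasUniformGeomHeight 𝒜 J h)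
    (P : Finset (Ideal A)) (hP : ∀ q ∈ P, q.IsPrime ∧ ¬ J ≤ q ∧ ¬ (HomogeneousIdeal.irrelevant 𝒜).toIdeal ≤ q) :
    ∃ zs : List A, zs.length = h ∧
      (∀ z ∈ zs, (∃ n : ℕ, 0 < n ∧ z ∈ 𝒜 n) ∧ z ∈ J ∧ ∀ q ∈ P, z ∉ q) ∧
      ∀ (f : A) (n : ℕ), 0 < n → f ∈ 𝒜 n → f ∉ J.radical →
        ∀ j : ℕ, 1 ≤ j → j ≤ h → W4c2ratsingkovacs.geomHeight 𝒜 (Ideal.ofList (zs.take j)) f = j := by
  exact main 𝒜 J hJ h hJh P hP

end Groth.Agent.S15723
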