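import Groth.Statements.S15724
import Groth.Agent.Lib.H8WeightPiece2

set_option autoImplicit false
universe u
open W4c2invhilbsl2

namespace Groth.Agent.S15724

open MvPolynomial Groth.Agent.Lib.H8WeightPiece

/-- Dividing by a variable of the same weight. -/
theorem decomp_var {k : Type*} [CommRing k] (p q m : ℕ) (H : Ideal (MvPolynomial (Fin 5) k))
    (g : Fin 2 → MvPolynomial (Fin 5) k) (j : Fin 2) (i : Fin 5) (hg : g j = X i)
    {d : Fin 5 →₀ ℕ} (hi : 1 ≤ d i) (hw : Finsupp.weight (wt5 p q m) d = wt5 p q m i) :
    ∃ a : Fin 2 → MvPolynomial (Fin 5) k,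
      (∀ j, a j ∈ weightedHomogeneousSubmodule k (wt5 p q m) 0) ∧
      monomial d (1 : k) - ∑ j, a j * g j ∈ H := by
  have hle : Finsupp.single i 1 ≤ d := by
    intro i'
    by_cases h : i' = i
    · subst h; simpa using hi
    · simp [Ne.symm h]
  refine decomp_of_dvd (wt5 p q m) 0 H g j (e := Finsupp.single i 1) hg hle ?_
  rw [weight_sub _ hle, hw, Finsupp.weight_single, one_smul, sub_self]

/-- Grade the polynomial ring k[X₀,…,X₄] over a field k by ℤ × ℤ/m, giving X₀ weight (1,0), X₁ and X₂
weight (−p,−1), and X₃ and X₄ weight (q,1), where 0 < p < q are coprime integers and m ≥ 1, and let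
P be the principal ideal generated by the weight-zero element X₀^(q−p) − X₁X₄ + X₂X₃ (the equation
of an affine hypersurface). Then every polynomial homogeneous of the weight of X₁ is congruent
modulo P to some a·X₁ + b·X₂ with a and b homogeneous of weight zero, and every polynomial
homogeneous of the weight of X₃ is congruent modulo P to some a·X₃ + b·X₄ with a and b homogeneous
of weight zero. Equivalently, in the coordinate ring of the hypersurface the weight pieces of the
weights of X₁ and of X₃ are generated over the weight-zero subring (the ring of invariants of the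
diagonal action of a one-dimensional torus times the group of m-th roots of unity with these
weights) by X₁, X₂ and by X₃, X₄ respectively. (For the weight of X₁ the congruence is already an
equality in the polynomial ring; for the weight of X₃ the hypersurface equation is needed, e.g.
X₀^(q+p)X₁ has that weight when m divides 2.) -/
theorem result (k : Type u) [Field k] (p q m : ℕ) (hp : 0 < p) (hpq : p < q) (hcop : Nat.Coprime p q) (hm : 0 < m) (f : MvPolynomial (Fin 5) k) :
    (f ∈ MvPolynomial.weightedHomogeneousSubmodule k (W4c2invhilbsl2.wt5 p q m) (W4c2invhilbsl2.wt5 p q m 1) →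
      ∃ a b : MvPolynomial (Fin 5) k, a ∈ MvPolynomial.weightedHomogeneousSubmodule k (W4c2invhilbsl2.wt5 p q m) 0 ∧ b ∈ MvPolynomial.weightedHomogeneousSubmodule k (W4c2invhilbsl2.wt5 p q m) 0 ∧
        f - (a * MvPolynomial.X (1 : Fin 5) + b * MvPolynomial.X (2 : Fin 5)) ∈ Ideal.span {MvPolynomial.X (0 : Fin 5) ^ (q - p) - MvPolynomial.X 1 * MvPolynomial.X 4 + MvPolynomial.X 2 * MvPolynomial.X 3}) ∧
    (f ∈ MvPolynomial.weightedHomogeneousSubmodule k (W4c2invhilbsl2.wt5 p q m) (W4c2invhilbsl2.wt5 p q m 3) →
      ∃ a b : MvPolynomial (Fin 5) k, a ∈ MvPolynomial.weightedHomogeneousSubmodule k (W4c2invhilbsl2.wt5 p q m) 0 ∧ b ∈ MvPolynomial.weightedHomogeneousSubmodule k (W4c2invhilbsl2.wt5 p q m) 0 ∧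
        f - (a * MvPolynomial.X (3 : Fin 5) + b * MvPolynomial.X (4 : Fin 5)) ∈ Ideal.span {MvPolynomial.X (0 : Fin 5) ^ (q - p) - MvPolynomial.X 1 * MvPolynomial.X 4 + MvPolynomial.X 2 * MvPolynomial.X 3}) := by
  have hpq' : (p : ℤ) < q := by exact_mod_cast hpq
  have hp' : (0 : ℤ) < p := by exact_mod_cast hp
  set H : Ideal (MvPolynomial (Fin 5) k) := Ideal.span {MvPolynomial.X (0 : Fin 5) ^ (q - p) -
    MvPolynomial.X 1 * MvPolynomial.X 4 + MvPolynomial.X 2 * MvPolynomial.X 3} with hH
  constructor
  · intro hf
    have key := exists_decomp_mod (k := k) (wt5 p q m) (wt5 p q m 1) 0 H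
      (J := Fin 2) ![X (1 : Fin 5), X (2 : Fin 5)] ?_ f hf
    · obtain ⟨a, ha, ha'⟩ := key
      refine ⟨a 0, a 1, ha 0, ha 1, ?_⟩
      rw [Fin.sum_univ_two] at ha'
      exact ha'
    · intro d hd
      have hd' := hd
      rw [weight_wt5] at hd'
      have h1 : (d 0 : ℤ) - p * ((d 1 : ℤ) + d 2) + q * ((d 3 : ℤ) + d 4) = -p := by
        have := congrArg Prod.fst hd'
        simpa [wt5] using this
      by_cases h : 1 ≤ d 1
      · exact decomp_var p q m H _ 0 1 rfl h hd
      · have h2 : 1 ≤ d 2 := by
          by_contra hc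
          have e1 : d 1 = 0 := by omega
          have e2 : d 2 = 0 := by omega
          rw [e1, e2] at h1
          have : (0 : ℤ) ≤ (d 0 : ℤ) + q * ((d 3 : ℤ) + d 4) := by positivity
          simp at h1
          linarith
        exact decomp_var p q m H _ 1 2 rfl h2 hd
  · intro hf
    have key := exists_decomp_mod (k := k) (wt5 p q m) (wt5 p q m 3) 0 H
      (J := Fin 2) ![X (3 : Fin 5), X (4 : Fin 5)] ?_ f hf
    · obtain ⟨a, ha, ha'⟩ := key
      refine ⟨a 0, a 1, ha 0, ha 1, ?_⟩
      rw [Fin.sum_univ_two] at ha'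
      exact ha'
    · intro d hd
      have hd' := hd
      rw [weight_wt5] at hd'
      have h1 : (d 0 : ℤ) - p * ((d 1 : ℤ) + d 2) + q * ((d 3 : ℤ) + d 4) = q := by
        have := congrArg Prod.fst hd'
        simpa [wt5] using this
      by_cases h3 : 1 ≤ d 3
      · exact decomp_var p q m H _ 0 3 rfl h3 hd
      by_cases h4 : 1 ≤ d 4
      · exact decomp_var p q m H _ 1 4 rfl h4 hd
      -- now `d 3 = d 4 = 0` and `q - p ≤ d 0`
      have e3 : d 3 = 0 := by omega
      have e4 : d 4 = 0 := by omega
      rw [e3, e4] at h1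
      have h0 : q - p ≤ d 0 := by
        have : (q : ℤ) - p ≤ d 0 := by
          have : (0 : ℤ) ≤ p * ((d 1 : ℤ) + d 2) := by positivity
          simp at h1
          linarith
        have h' : ((q - p : ℕ) : ℤ) ≤ d 0 := by rwa [Nat.cast_sub hpq.le]
        exact_mod_cast h'
      have hle : Finsupp.single (0 : Fin 5) (q - p) ≤ d := by
        intro i
        by_cases h : i = 0
        · subst h; simpa using h0
        · simp [Ne.symm h]
      -- weight of the quotient monomial
      have hwd' : Finsupp.weight (wt5 p q m) (d - Finsupp.single (0 : Fin 5) (q - p)) =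
          ((p : ℤ), (1 : ZMod m)) := by
        rw [weight_sub _ hle, hd, Finsupp.weight_single]
        simp [wt5, Nat.cast_sub hpq.le]
      set d' := d - Finsupp.single (0 : Fin 5) (q - p) with hd'def
      have hmono : monomial d (1 : k) = monomial d' 1 * X (0 : Fin 5) ^ (q - p) := by
        rw [X_pow_eq_monomial]; exact monomial_eq_mul_of_le hle
      refine ⟨![-(X (2 : Fin 5) * monomial d' 1), X (1 : Fin 5) * monomial d' 1], ?_, ?_⟩
      · intro j
        fin_cases j
        · show -(X (2 : Fin 5) * monomial d' (1 : k)) ∈ _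
          apply Submodule.neg_mem
          rw [mem_weightedHomogeneousSubmodule]
          have := (isWeightedHomogeneous_X k (wt5 p q m) (2 : Fin 5)).mul
            (isWeightedHomogeneous_monomial (wt5 p q m) d' (1 : k) hwd')
          have e : wt5 p q m 2 + ((p : ℤ), (1 : ZMod m)) = 0 := by
            ext <;> simp [wt5]
          rw [e] at this
          exact this
        · show X (1 : Fin 5) * monomial d' (1 : k) ∈ _
          rw [mem_weightedHomogeneousSubmodule]
          have := (isWeightedHomogeneous_X k (wt5 p q m) (1 : Fin 5)).mul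
            (isWeightedHomogeneous_monomial (wt5 p q m) d' (1 : k) hwd')
          have e : wt5 p q m 1 + ((p : ℤ), (1 : ZMod m)) = 0 := by
            ext <;> simp [wt5]
          rw [e] at this
          exact this
      · rw [Fin.sum_univ_two]
        simp only [Matrix.cons_val_zero, Matrix.cons_val_one]
        have : monomial d (1 : k) - (-(X (2 : Fin 5) * monomial d' 1) * X (3 : Fin 5) +
            X (1 : Fin 5) * monomial d' 1 * X (4 : Fin 5)) =
            monomial d' 1 * (X (0 : Fin 5) ^ (q - p) - X 1 * X 4 + X 2 * X 3) := by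
          rw [hmono]; ring
        rw [this]
        exact Ideal.mul_mem_left _ _ (Ideal.subset_span rfl)

end Groth.Agent.S15724
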