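import Groth.Statements.S15725
import Groth.Agent.Lib.H8WeightPiece
import Mathlib.Tactic

set_option autoImplicit false
universe u
open W4c2invhilbsl2

namespace Groth.Agent.S15725

open MvPolynomial Groth.Agent.Lib.H8WeightPiece

theorem weight_wt3 (p q m : ℕ) (d : Fin 3 →₀ ℕ) :
    Finsupp.weight (wt3 p q m) d =
      ((d 0 : ℤ) - p * d 1 + q * d 2, -(d 1 : ZMod m) + (d 2 : ZMod m)) := by
  rw [Finsupp.weight_apply, Finsupp.sum_fintype _ _ (by simp)]
  simp only [Fin.sum_univ_three, wt3]
  ext
  · simp; ring
  · simp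

/-- If `e ≤ d` have the same weight, the quotient monomial has weight zero. -/
theorem monomial_sub_mem {k : Type*} [CommRing k] (p q m : ℕ) {d e : Fin 3 →₀ ℕ} (h : e ≤ d)
    (hw : Finsupp.weight (wt3 p q m) e = Finsupp.weight (wt3 p q m) d) :
    monomial (d - e) (1 : k) ∈ weightedHomogeneousSubmodule k (wt3 p q m) 0 := by
  rw [mem_weightedHomogeneousSubmodule]
  apply isWeightedHomogeneous_monomial
  have := weight_sub_add (w := wt3 p q m) h
  rw [← hw] at this
  exact add_eq_right.mp this

/-- Grade the polynomial ring k[X₀,X₁,X₂] over a field k by ℤ × ℤ/m, giving X₀ weight (1,0), X₁ weight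
(−p,−1) and X₂ weight (q,1), where 0 < p < q are coprime integers and m ≥ 1 (this three-variable
ring stands for the subring k[X₀,X₁,Xⱼ], j = 3 or 4, of the five-variable ring with the same
weights). Then every polynomial homogeneous of weight (q−p, 0) can be written a·X₀^(q−p) + b·X₁X₂
with a and b homogeneous of weight zero; in other words the weight-(q−p, 0) piece is generated by
X₀^(q−p) and X₁X₂ as a module over the weight-zero subring. -/
theorem result (k : Type u) [Field k] (p q m : ℕ) (hp : 0 < p) (hpq : p < q) (hcop : Nat.Coprime p q) (hm : 0 < m) (f : MvPolynomial (Fin 3) k)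
    (hf : f ∈ MvPolynomial.weightedHomogeneousSubmodule k (W4c2invhilbsl2.wt3 p q m) ((q : ℤ) - (p : ℤ), (0 : ZMod m))) :
    ∃ a b : MvPolynomial (Fin 3) k, a ∈ MvPolynomial.weightedHomogeneousSubmodule k (W4c2invhilbsl2.wt3 p q m) 0 ∧ b ∈ MvPolynomial.weightedHomogeneousSubmodule k (W4c2invhilbsl2.wt3 p q m) 0 ∧
      f = a * MvPolynomial.X (0 : Fin 3) ^ (q - p) + b * (MvPolynomial.X (1 : Fin 3) * MvPolynomial.X (2 : Fin 3)) := by
  have hpq' : (p : ℤ) < q := by exact_mod_cast hpq
  have hp' : (0 : ℤ) < p := by exact_mod_cast hp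
  have key := exists_decomp_mod (k := k) (wt3 p q m) ((q : ℤ) - (p : ℤ), (0 : ZMod m)) 0 ⊥
    (J := Fin 2) ![X (0 : Fin 3) ^ (q - p), X (1 : Fin 3) * X (2 : Fin 3)] ?_ f hf
  · obtain ⟨a, ha, ha'⟩ := key
    refine ⟨a 0, a 1, ha 0, ha 1, ?_⟩
    rw [Ideal.mem_bot, sub_eq_zero] at ha'
    rw [ha', Fin.sum_univ_two]
    rfl
  · intro d hd
    rw [weight_wt3, Prod.mk.injEq] at hd
    obtain ⟨hd1, hd2⟩ := hd
    by_cases h0 : q - p ≤ d 0
    · -- divisible by `X 0 ^ (q - p)`
      have hle : Finsupp.single (0 : Fin 3) (q - p) ≤ d := by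
        intro i; fin_cases i <;> simp [h0]
      have hw : Finsupp.weight (wt3 p q m) (Finsupp.single (0 : Fin 3) (q - p)) =
          Finsupp.weight (wt3 p q m) d := by
        rw [weight_wt3, weight_wt3, hd1, hd2]
        simp [Nat.cast_sub hpq.le]
      refine ⟨![monomial (d - Finsupp.single (0 : Fin 3) (q - p)) 1, 0], ?_, ?_⟩
      · intro j; fin_cases j
        · exact monomial_sub_mem p q m hle hw
        · exact Submodule.zero_mem _
      · rw [Ideal.mem_bot, sub_eq_zero, Fin.sum_univ_two]
        simp only [Matrix.cons_val_zero, Matrix.cons_val_one, zero_mul, add_zero]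
        rw [X_pow_eq_monomial]
        exact monomial_eq_mul_of_le hle
    · -- divisible by `X 1 * X 2`
      push Not at h0
      have h0' : (d 0 : ℤ) < q - p := by
        have : ((d 0 : ℕ) : ℤ) < ((q - p : ℕ) : ℤ) := by exact_mod_cast h0
        rwa [Nat.cast_sub hpq.le] at this
      have h1 : 1 ≤ d 1 := by
        by_contra hc
        have : d 1 = 0 := by omega
        rw [this] at hd1
        rcases Nat.eq_zero_or_pos (d 2) with h2 | h2
        · rw [h2] at hd1; simp at hd1; omega
        · have : (1 : ℤ) ≤ d 2 := by exact_mod_cast h2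
          have hd0 : (0 : ℤ) ≤ d 0 := by positivity
          simp at hd1
          nlinarith
      have h2 : 1 ≤ d 2 := by
        by_contra hc
        have : d 2 = 0 := by omega
        rw [this] at hd1
        have : (1 : ℤ) ≤ d 1 := by exact_mod_cast h1
        simp at hd1
        nlinarith
      have hle : Finsupp.single (1 : Fin 3) 1 + Finsupp.single (2 : Fin 3) 1 ≤ d := by
        intro i; fin_cases i <;> simp [h1, h2]
      have hw : Finsupp.weight (wt3 p q m)
          (Finsupp.single (1 : Fin 3) 1 + Finsupp.single (2 : Fin 3) 1) =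
          Finsupp.weight (wt3 p q m) d := by
        rw [weight_wt3, weight_wt3, hd1, hd2]
        simp
        ring
      refine ⟨![0, monomial (d - (Finsupp.single (1 : Fin 3) 1 + Finsupp.single (2 : Fin 3) 1)) 1],
        ?_, ?_⟩
      · intro j; fin_cases j
        · exact Submodule.zero_mem _
        · exact monomial_sub_mem p q m hle hw
      · rw [Ideal.mem_bot, sub_eq_zero, Fin.sum_univ_two]
        simp only [Matrix.cons_val_zero, Matrix.cons_val_one, zero_mul, zero_add]
        have : (X (1 : Fin 3) * X (2 : Fin 3) : MvPolynomial (Fin 3) k) =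
            monomial (Finsupp.single (1 : Fin 3) 1 + Finsupp.single (2 : Fin 3) 1) 1 := by
          rw [X, X, monomial_mul, one_mul]
        rw [this]
        exact monomial_eq_mul_of_le hle

end Groth.Agent.S15725
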