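import Groth.Statements.S15726
import Groth.Agent.Lib.H8WeightPiece2

set_option autoImplicit false
universe u
open W4c2invhilbsl2

namespace Groth.Agent.S15726

open MvPolynomial Groth.Agent.Lib.H8WeightPiece

/-- Dividing by a product of two variables whose weights sum to the weight of the monomial. -/
theorem decomp_var2 {k : Type*} [CommRing k] (p q m : ℕ) (H : Ideal (MvPolynomial (Fin 5) k))
    (g : Fin 4 → MvPolynomial (Fin 5) k) (j : Fin 4) (a b : Fin 5) (hab : a ≠ b)
    (hg : g j = X a * X b)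
    {d : Fin 5 →₀ ℕ} (ha : 1 ≤ d a) (hb : 1 ≤ d b)
    (hw : Finsupp.weight (wt5 p q m) d = wt5 p q m a + wt5 p q m b) :
    ∃ c : Fin 4 → MvPolynomial (Fin 5) k,
      (∀ j, c j ∈ weightedHomogeneousSubmodule k (wt5 p q m) 0) ∧
      monomial d (1 : k) - ∑ j, c j * g j ∈ H := by
  have hle : Finsupp.single a 1 + Finsupp.single b 1 ≤ d := by
    intro i
    by_cases h1 : i = a
    · subst h1; simpa [Finsupp.single_apply, hab] using ha
    · by_cases h2 : i = b
      · subst h2; simpa [Finsupp.single_apply, Ne.symm hab] using hb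
      · simp [Ne.symm h1, Ne.symm h2]
  have hg' : g j = monomial (Finsupp.single a 1 + Finsupp.single b 1) (1 : k) := by
    rw [hg, X, X, monomial_mul, one_mul]
  refine decomp_of_dvd (wt5 p q m) 0 H g j hg' hle ?_
  rw [weight_sub _ hle, hw, map_add, Finsupp.weight_single, Finsupp.weight_single, one_smul,
    one_smul, sub_self]

/-- Grade the polynomial ring k[X₀,…,X₄] over a field k by ℤ × ℤ/m, giving X₀ weight (1,0), X₁ and X₂
weight (−p,−1), and X₃ and X₄ weight (q,1), where 0 < p < q are coprime integers and m ≥ 1. Then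
modulo the principal ideal generated by the weight-zero element X₀^(q−p) − X₁X₄ + X₂X₃ (the equation
of an affine hypersurface), every polynomial homogeneous of weight (q−p, 0) is congruent to a
combination a₁₃X₁X₃ + a₁₄X₁X₄ + a₂₃X₂X₃ + a₂₄X₂X₄ whose four coefficients are homogeneous of weight
zero. Equivalently, in the coordinate ring of the hypersurface the weight-(q−p, 0) piece is
generated over the weight-zero subring (the invariant ring of the diagonal action with these
weights) by the span of the four products XₐX_b with a ∈ {1,2} and b ∈ {3,4}. (The published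
statement is over the complex numbers; this row takes any field.) -/
theorem result (k : Type u) [Field k] (p q m : ℕ) (hp : 0 < p) (hpq : p < q) (hcop : Nat.Coprime p q) (hm : 0 < m) (f : MvPolynomial (Fin 5) k)
    (hf : f ∈ MvPolynomial.weightedHomogeneousSubmodule k (W4c2invhilbsl2.wt5 p q m) ((q : ℤ) - (p : ℤ), (0 : ZMod m))) :
    ∃ a₁₃ a₁₄ a₂₃ a₂₄ : MvPolynomial (Fin 5) k,
      a₁₃ ∈ MvPolynomial.weightedHomogeneousSubmodule k (W4c2invhilbsl2.wt5 p q m) 0 ∧ a₁₄ ∈ MvPolynomial.weightedHomogeneousSubmodule k (W4c2invhilbsl2.wt5 p q m) 0 ∧ a₂₃ ∈ MvPolynomial.weightedHomogeneousSubmodule k (W4c2invhilbsl2.wt5 p q m) 0 ∧ a₂₄ ∈ MvPolynomial.weightedHomogeneousSubmodule k (W4c2invhilbsl2.wt5 p q m) 0 ∧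
      f - (a₁₃ * (MvPolynomial.X (1 : Fin 5) * MvPolynomial.X 3) + a₁₄ * (MvPolynomial.X (1 : Fin 5) * MvPolynomial.X 4) +
          a₂₃ * (MvPolynomial.X (2 : Fin 5) * MvPolynomial.X 3) + a₂₄ * (MvPolynomial.X (2 : Fin 5) * MvPolynomial.X 4)) ∈
        Ideal.span {MvPolynomial.X (0 : Fin 5) ^ (q - p) - MvPolynomial.X 1 * MvPolynomial.X 4 + MvPolynomial.X 2 * MvPolynomial.X 3} := by
  have hpq' : (p : ℤ) < q := by exact_mod_cast hpq
  have hp' : (0 : ℤ) < p := by exact_mod_cast hp
  set H : Ideal (MvPolynomial (Fin 5) k) := Ideal.span {MvPolynomial.X (0 : Fin 5) ^ (q - p) -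
    MvPolynomial.X 1 * MvPolynomial.X 4 + MvPolynomial.X 2 * MvPolynomial.X 3} with hH
  have key := exists_decomp_mod (k := k) (wt5 p q m) ((q : ℤ) - (p : ℤ), (0 : ZMod m)) 0 H
    (J := Fin 4) ![X (1 : Fin 5) * X 3, X (1 : Fin 5) * X 4, X (2 : Fin 5) * X 3,
      X (2 : Fin 5) * X 4] ?_ f hf
  · obtain ⟨a, ha, ha'⟩ := key
    refine ⟨a 0, a 1, a 2, a 3, ha 0, ha 1, ha 2, ha 3, ?_⟩
    rw [Fin.sum_univ_four] at ha'
    exact ha'
  · intro d hd
    have hd' := hd
    rw [weight_wt5] at hd'
    have h1 : (d 0 : ℤ) - p * ((d 1 : ℤ) + d 2) + q * ((d 3 : ℤ) + d 4) = q - p := by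
      have := congrArg Prod.fst hd'
      simpa using this
    have w13 : wt5 p q m 1 + wt5 p q m 3 = ((q : ℤ) - (p : ℤ), (0 : ZMod m)) := by
      ext <;> simp [wt5]; ring
    have w14 : wt5 p q m 1 + wt5 p q m 4 = ((q : ℤ) - (p : ℤ), (0 : ZMod m)) := by
      ext <;> simp [wt5]; ring
    have w23 : wt5 p q m 2 + wt5 p q m 3 = ((q : ℤ) - (p : ℤ), (0 : ZMod m)) := by
      ext <;> simp [wt5]; ring
    have w24 : wt5 p q m 2 + wt5 p q m 4 = ((q : ℤ) - (p : ℤ), (0 : ZMod m)) := by
      ext <;> simp [wt5]; ring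
    -- the case `d 3 = d 4 = 0`: use the hypersurface equation
    have hB : d 3 = 0 → d 4 = 0 → ∃ c : Fin 4 → MvPolynomial (Fin 5) k,
        (∀ j, c j ∈ weightedHomogeneousSubmodule k (wt5 p q m) 0) ∧
        monomial d (1 : k) - ∑ j, c j * (![X (1 : Fin 5) * X 3, X (1 : Fin 5) * X 4,
          X (2 : Fin 5) * X 3, X (2 : Fin 5) * X 4] : Fin 4 → MvPolynomial (Fin 5) k) j ∈ H := by
      intro e3 e4
      rw [e3, e4] at h1
      have h0 : q - p ≤ d 0 := by
        have : (q : ℤ) - p ≤ d 0 := by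
          have : (0 : ℤ) ≤ p * ((d 1 : ℤ) + d 2) := by positivity
          simp at h1
          linarith
        have h' : ((q - p : ℕ) : ℤ) ≤ d 0 := by rwa [Nat.cast_sub hpq.le]
        exact_mod_cast h'
      have hle : Finsupp.single (0 : Fin 5) (q - p) ≤ d := by
        intro i
        by_cases h : i = 0
        · subst h; simpa using h0
        · simp [Ne.symm h]
      have hwd' : Finsupp.weight (wt5 p q m) (d - Finsupp.single (0 : Fin 5) (q - p)) = 0 := by
        rw [weight_sub _ hle, hd, Finsupp.weight_single]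
        ext <;> simp [wt5, Nat.cast_sub hpq.le]
      set d' := d - Finsupp.single (0 : Fin 5) (q - p) with hd'def
      have hmono : monomial d (1 : k) = monomial d' 1 * X (0 : Fin 5) ^ (q - p) := by
        rw [X_pow_eq_monomial]; exact monomial_eq_mul_of_le hle
      have hmem : monomial d' (1 : k) ∈ weightedHomogeneousSubmodule k (wt5 p q m) 0 := by
        rw [mem_weightedHomogeneousSubmodule]
        exact isWeightedHomogeneous_monomial (wt5 p q m) d' (1 : k) hwd'
      refine ⟨![0, monomial d' 1, -monomial d' 1, 0], ?_, ?_⟩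
      · intro j
        fin_cases j
        · exact Submodule.zero_mem _
        · exact hmem
        · exact Submodule.neg_mem _ hmem
        · exact Submodule.zero_mem _
      · rw [Fin.sum_univ_four]
        have : monomial d (1 : k) - ((0 : MvPolynomial (Fin 5) k) * (X (1 : Fin 5) * X 3) +
            monomial d' 1 * (X (1 : Fin 5) * X 4) + -monomial d' 1 * (X (2 : Fin 5) * X 3) +
            0 * (X (2 : Fin 5) * X 4)) =
            monomial d' 1 * (X (0 : Fin 5) ^ (q - p) - X 1 * X 4 + X 2 * X 3) := by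
          rw [hmono]; ring
        show monomial d (1 : k) - ((0 : MvPolynomial (Fin 5) k) * (X (1 : Fin 5) * X 3) +
            monomial d' 1 * (X (1 : Fin 5) * X 4) + -monomial d' 1 * (X (2 : Fin 5) * X 3) +
            0 * (X (2 : Fin 5) * X 4)) ∈ H
        rw [this]
        exact Ideal.mul_mem_left _ _ (Ideal.subset_span rfl)
    -- if `d 1 = d 2 = 0` then `d 3 = d 4 = 0`
    have h12 : d 1 = 0 → d 2 = 0 → d 3 = 0 ∧ d 4 = 0 := by
      intro e1 e2
      rw [e1, e2] at h1
      by_contra hc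
      have h34 : (1 : ℤ) ≤ (d 3 : ℤ) + d 4 := by
        have : 1 ≤ d 3 + d 4 := by omega
        exact_mod_cast this
      have : (q : ℤ) * 1 ≤ q * ((d 3 : ℤ) + d 4) :=
        mul_le_mul_of_nonneg_left h34 (by positivity)
      have hd0 : (0 : ℤ) ≤ d 0 := by positivity
      simp at h1
      linarith
    by_cases c1 : 1 ≤ d 1
    · by_cases c3 : 1 ≤ d 3
      · exact decomp_var2 p q m H _ 0 1 3 (by decide) rfl c1 c3 (hd.trans w13.symm)
      by_cases c4 : 1 ≤ d 4
      · exact decomp_var2 p q m H _ 1 1 4 (by decide) rfl c1 c4 (hd.trans w14.symm)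
      exact hB (by omega) (by omega)
    by_cases c2 : 1 ≤ d 2
    · by_cases c3 : 1 ≤ d 3
      · exact decomp_var2 p q m H _ 2 2 3 (by decide) rfl c2 c3 (hd.trans w23.symm)
      by_cases c4 : 1 ≤ d 4
      · exact decomp_var2 p q m H _ 3 2 4 (by decide) rfl c2 c4 (hd.trans w24.symm)
      exact hB (by omega) (by omega)
    obtain ⟨e3, e4⟩ := h12 (by omega) (by omega)
    exact hB e3 e4

end Groth.Agent.S15726
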