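import Groth.Statements.S15727
import Groth.Agent.Lib.H8WeightPiece3

set_option autoImplicit false
universe u
open W4c2invhilbsl2

namespace Groth.Agent.S15727

open MvPolynomial Groth.Agent.Lib.H8WeightPiece

/-- The key identity in the quotient ring: two monomials in `x₀, x₁, x₄` whose exponents differ
by a combination of `(-(n),1,1)` and `j • (mp, m, 0)` (`j ≥ 0`) are proportional. -/
theorem key_identity {R : Type*} [CommRing R] (x0 x1 x4 σ : R) (n mp m : ℕ)
    (h1 : x0 ^ n = x1 * x4) (h4 : σ = x0 ^ mp * x1 ^ m) (a b c a' b' c' j : ℕ)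
    (hb : (b : ℤ) - c - (b' - c') = m * j)
    (ha : (a : ℤ) + n * c = a' + n * c' + mp * j) :
    x0 ^ a * x1 ^ b * x4 ^ c = σ ^ j * (x0 ^ a' * x1 ^ b' * x4 ^ c') := by
  rcases le_total c' c with hc | hc
  · obtain ⟨δ, rfl⟩ := Nat.exists_eq_add_of_le hc
    have hb' : b = b' + m * j + δ := by push_cast at hb; omega
    have ha' : a + n * δ = a' + mp * j := by push_cast at ha; nlinarith
    calc x0 ^ a * x1 ^ b * x4 ^ (c' + δ)
        = x0 ^ a * (x1 * x4) ^ δ * x1 ^ (b' + m * j) * x4 ^ c' := by rw [hb']; ring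
      _ = x0 ^ (a + n * δ) * x1 ^ (b' + m * j) * x4 ^ c' := by rw [← h1]; ring
      _ = x0 ^ (a' + mp * j) * x1 ^ (b' + m * j) * x4 ^ c' := by rw [ha']
      _ = σ ^ j * (x0 ^ a' * x1 ^ b' * x4 ^ c') := by rw [h4]; ring
  · obtain ⟨δ, rfl⟩ := Nat.exists_eq_add_of_le hc
    have hb' : b' + m * j = b + δ := by push_cast at hb; omega
    have ha' : a = a' + mp * j + n * δ := by push_cast at ha; nlinarith
    calc x0 ^ a * x1 ^ b * x4 ^ c
        = x0 ^ (a' + mp * j) * (x0 ^ n) ^ δ * x1 ^ b * x4 ^ c := by rw [ha']; ring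
      _ = x0 ^ (a' + mp * j) * x1 ^ (b + δ) * x4 ^ (c + δ) := by rw [h1]; ring
      _ = x0 ^ (a' + mp * j) * x1 ^ (b' + m * j) * x4 ^ (c + δ) := by rw [hb']
      _ = σ ^ j * (x0 ^ a' * x1 ^ b' * x4 ^ (c + δ)) := by rw [h4]; ring

/-- Let k be an algebraically closed field, 0 < p < q coprime integers and m ≥ 1, and grade k[X₀,…,X₄]
by ℤ × ℤ/m, giving X₀ weight (1,0), X₁ and X₂ weight (−p,−1), and X₃ and X₄ weight (q,1). For s ∈ k
let I_s be the ideal (X₀^(q−p) − X₁X₄, X₂, X₃, s − X₀^(mp)X₁^m), whose generators are homogeneous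
(the last one of weight zero). Then for every weight ν the image in k[X₀,…,X₄]/I_s of the
homogeneous polynomials of weight ν is a k-vector space of dimension at most 1. (The published
statement asserts that this dimension equals 1 for every ν and every s, namely that the quotient has
the Hilbert function of the regular representation of the grading group; this row states the upper
bound, the half obtained from the monomial analysis of the weight pieces, while the lower bound
there is drawn from the moduli interpretation of these ideals. The published statement is over the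
complex numbers; this row takes any algebraically closed field, which is what the reduction to s =
0, 1 by rescaling the variables uses.) -/
theorem result (k : Type u) [Field k] [IsAlgClosed k] (p q m : ℕ) (hp : 0 < p) (hpq : p < q) (hcop : Nat.Coprime p q) (hm : 0 < m) (s : k) (ν : ℤ × ZMod m) :
    Module.rank k (W4c2invhilbsl2.piece k (W4c2invhilbsl2.wt5 p q m) (W4c2invhilbsl2.idealI k p q m s) ν) ≤ 1 := by
  have hpq' : (p : ℤ) < q := by exact_mod_cast hpq
  have hp' : (0 : ℤ) < p := by exact_mod_cast hp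
  have hm' : (0 : ℤ) < m := by exact_mod_cast hm
  set I := idealI k p q m s with hI
  set π := Ideal.Quotient.mk I with hπ
  -- relations in the quotient
  have r1 : π (X 0) ^ (q - p) = π (X 1) * π (X 4) := by
    have : (X 0 ^ (q - p) - X 1 * X 4 : MvPolynomial (Fin 5) k) ∈ I :=
      Ideal.subset_span (by simp)
    rw [← Ideal.Quotient.eq_zero_iff_mem, map_sub, sub_eq_zero] at this
    simpa using this
  have r2 : π (X 2) = 0 :=
    Ideal.Quotient.eq_zero_iff_mem.mpr (Ideal.subset_span (by simp))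
  have r3 : π (X 3) = 0 :=
    Ideal.Quotient.eq_zero_iff_mem.mpr (Ideal.subset_span (by simp))
  have r4 : π (C s) = π (X 0) ^ (m * p) * π (X 1) ^ m := by
    have : (C s - X 0 ^ (m * p) * X 1 ^ m : MvPolynomial (Fin 5) k) ∈ I :=
      Ideal.subset_span (by simp)
    rw [← Ideal.Quotient.eq_zero_iff_mem, map_sub, sub_eq_zero] at this
    simpa using this
  -- the set of relevant exponents
  set S : Set (Fin 5 →₀ ℕ) := {d | Finsupp.weight (wt5 p q m) d = ν ∧ d 2 = 0 ∧ d 3 = 0} with hS
  by_cases hne : S.Nonempty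
  · -- choose a minimiser of `d 0 + (q - p) * d 4`
    obtain ⟨v, hvS, hvmin⟩ := (InvImage.wf (fun d : Fin 5 →₀ ℕ ↦ d 0 + (q - p) * d 4)
      Nat.lt_wfRel.wf).has_min S hne
    refine rank_piece_le_one _ _ _ (π (monomial v 1)) fun d hd ↦ ?_
    by_cases h2 : d 2 = 0
    swap
    · refine ⟨0, ?_⟩
      rw [zero_smul, mk_monomial_fin5, r2, zero_pow h2]
      ring
    by_cases h3 : d 3 = 0
    swap
    · refine ⟨0, ?_⟩
      rw [zero_smul, mk_monomial_fin5, r3, zero_pow h3]
      ring
    have hdS : d ∈ S := ⟨hd, h2, h3⟩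
    have hmin : v 0 + (q - p) * v 4 ≤ d 0 + (q - p) * d 4 := not_lt.mp (hvmin d hdS)
    obtain ⟨hv, hv2, hv3⟩ := hvS
    -- weight equations
    have wd := hd
    have wv := hv
    rw [weight_wt5] at wd wv
    rw [h2, h3] at wd
    rw [hv2, hv3] at wv
    have E1 : (d 0 : ℤ) - p * d 1 + q * d 4 = (v 0 : ℤ) - p * v 1 + q * v 4 := by
      have := congrArg Prod.fst (wd.trans wv.symm)
      simpa using this
    have E2 : (m : ℤ) ∣ ((d 1 : ℤ) - d 4) - ((v 1 : ℤ) - v 4) := by
      have := congrArg Prod.snd (wd.trans wv.symm)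
      simp only [Nat.cast_zero, add_zero, zero_add] at this
      have h' : (((-(d 1 : ℤ) + d 4 : ℤ)) : ZMod m) = ((-(v 1 : ℤ) + v 4 : ℤ) : ZMod m) := by
        push_cast; exact this
      rw [ZMod.intCast_eq_intCast_iff_dvd_sub] at h'
      convert h' using 1
      ring
    obtain ⟨J, hJ⟩ := E2
    have hmin' : (v 0 : ℤ) + ((q : ℤ) - p) * v 4 ≤ (d 0 : ℤ) + ((q : ℤ) - p) * d 4 := by
      have : ((v 0 + (q - p) * v 4 : ℕ) : ℤ) ≤ ((d 0 + (q - p) * d 4 : ℕ) : ℤ) := by
        exact_mod_cast hmin
      push_cast [Nat.cast_sub hpq.le] at this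
      exact this
    have hJ0 : 0 ≤ J := by
      have : (0 : ℤ) ≤ (p * m) * J := by nlinarith
      by_contra hneg
      push Not at hneg
      have : (p : ℤ) * m * J < 0 := mul_neg_of_pos_of_neg (by positivity) hneg
      linarith
    obtain ⟨j, rfl⟩ := Int.eq_ofNat_of_zero_le hJ0
    refine ⟨s ^ j, ?_⟩
    have hsm : s ^ j • π (monomial v (1 : k)) = π (C s) ^ j * π (monomial v (1 : k)) := by
      rw [← map_pow, ← map_pow, ← map_mul, ← smul_eq_C_mul]
      rfl
    rw [hsm, mk_monomial_fin5, mk_monomial_fin5, h2, h3, hv2, hv3]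
    simp only [pow_zero, mul_one]
    have := key_identity (π (X 0)) (π (X 1)) (π (X 4)) (π (C s)) (q - p) (m * p) m r1 r4
      (d 0) (d 1) (d 4) (v 0) (v 1) (v 4) j hJ ?_
    · exact this
    · push_cast [Nat.cast_sub hpq.le]
      linear_combination E1 + (p : ℤ) * hJ
  · -- no relevant monomial at all
    refine rank_piece_le_one _ _ _ 0 fun d hd ↦ ⟨0, ?_⟩
    rw [zero_smul, mk_monomial_fin5]
    by_cases h2 : d 2 = 0
    swap
    · rw [r2, zero_pow h2]; ring
    by_cases h3 : d 3 = 0
    swap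
    · rw [r3, zero_pow h3]; ring
    exact absurd ⟨d, hd, h2, h3⟩ hne

end Groth.Agent.S15727
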