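import Groth.Statements.S15728
import Groth.Agent.Lib.H8WeightPiece3
import Mathlib.RingTheory.Coprime.Lemmas
import Mathlib.Data.Int.GCD
import Mathlib.RingTheory.Int.Basic

set_option autoImplicit false
universe u
open W4c2invhilbsl2

namespace Groth.Agent.S15728

open MvPolynomial Groth.Agent.Lib.H8WeightPiece

/-- The lattice computation: a difference of exponent vectors of weight zero with small
`X₀`-exponent is a multiple of `(0, aq, ap)`. -/
theorem nt (p q m : ℕ) (hp : 0 < p) (hpq : p < q) (hcop : Nat.Coprime p q) (hm : 0 < m)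
    (α β γ J : ℤ) (hα : α = p * β - q * γ) (hJ : β - γ = m * J)
    (habs : |α| < (Nat.gcd m (q - p) : ℕ)) (hβ : 0 ≤ β) :
    α = 0 ∧ ∃ f : ℕ, β = ((m / Nat.gcd m (q - p) * q : ℕ) : ℤ) * f ∧
      γ = ((m / Nat.gcd m (q - p) * p : ℕ) : ℤ) * f := by
  set g := Nat.gcd m (q - p) with hg
  have hgpos : 0 < g := Nat.gcd_pos_of_pos_left _ hm
  obtain ⟨a, ha⟩ : g ∣ m := Nat.gcd_dvd_left _ _
  obtain ⟨b, hb⟩ : g ∣ (q - p) := Nat.gcd_dvd_right _ _
  have hapos : 0 < a := by
    rcases Nat.eq_zero_or_pos a with h | h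
    · rw [h, mul_zero] at ha; omega
    · exact h
  have hma : m / g = a := by rw [ha, Nat.mul_div_cancel_left _ hgpos]
  have hab : Nat.Coprime a b := by
    have := Nat.coprime_div_gcd_div_gcd (m := m) (n := q - p) hgpos
    rwa [← hg, hma, show (q - p) / g = b by rw [hb, Nat.mul_div_cancel_left _ hgpos]] at this
  have hqp : ((q - p : ℕ) : ℤ) = (q : ℤ) - p := Nat.cast_sub hpq.le
  have hbZ : (q : ℤ) - p = g * b := by rw [← hqp, hb]; push_cast; ring
  have haZ : (m : ℤ) = g * a := by rw [ha]; push_cast; ring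
  -- `g ∣ α`
  have hgα : (g : ℤ) ∣ α := by
    refine ⟨-(b : ℤ) * β + q * a * J, ?_⟩
    have : γ = β - m * J := by linarith
    rw [hα, this, haZ]
    linear_combination (-β) * hbZ
  have hα0 : α = 0 := Int.eq_zero_of_abs_lt_dvd hgα habs
  refine ⟨hα0, ?_⟩
  -- `q ∣ β`
  have hpq1 : (p : ℤ) * β = q * γ := by rw [hα0] at hα; linarith
  have hcop' : IsCoprime (q : ℤ) p := (Nat.isCoprime_iff_coprime.mpr hcop).symm
  obtain ⟨e, he⟩ : (q : ℤ) ∣ β := hcop'.dvd_of_dvd_mul_left ⟨γ, hpq1⟩
  have hq0 : (q : ℤ) ≠ 0 := by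
    have : 0 < q := by omega
    exact_mod_cast this.ne'
  have hγ : γ = p * e := by
    rw [he] at hpq1
    have : (q : ℤ) * (p * e) = q * γ := by linarith
    exact (mul_left_cancel₀ hq0 this).symm
  -- `a ∣ e`
  have h3 : (b : ℤ) * e = a * J := by
    have h4 : ((q : ℤ) - p) * e = m * J := by rw [← hJ, he, hγ]; ring
    rw [hbZ, haZ] at h4
    have hg0 : (g : ℤ) ≠ 0 := by exact_mod_cast hgpos.ne'
    apply mul_left_cancel₀ hg0
    linarith
  have hab' : IsCoprime (a : ℤ) b := Nat.isCoprime_iff_coprime.mpr hab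
  obtain ⟨f, hf⟩ : (a : ℤ) ∣ e := hab'.dvd_of_dvd_mul_left ⟨J, h3⟩
  have hf0 : 0 ≤ f := by
    by_contra hneg
    push Not at hneg
    have hqa : (0 : ℤ) < q * a := by
      have : 0 < q := by omega
      positivity
    have : β = q * a * f := by rw [he, hf]; ring
    have : β < 0 := by rw [this]; exact mul_neg_of_pos_of_neg hqa hneg
    linarith
  obtain ⟨f', rfl⟩ := Int.eq_ofNat_of_zero_le hf0
  refine ⟨f', ?_, ?_⟩
  · rw [hma, he, hf]; push_cast; ring
  · rw [hma, hγ, hf]; push_cast; ring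

/-- Let k be an algebraically closed field, 0 < p < q coprime integers and m ≥ 1; put g = gcd(m, q−p)
and a = m/g, and grade k[X₀,…,X₄] by ℤ × ℤ/m, giving X₀ weight (1,0), X₁ and X₂ weight (−p,−1), and
X₃ and X₄ weight (q,1). For s ∈ k let J_s be the ideal (X₀^g, X₂, X₄, s − X₁^(aq)X₃^(ap)), whose
generators are homogeneous (the last one of weight zero). Then for every weight ν the image in
k[X₀,…,X₄]/J_s of the homogeneous polynomials of weight ν is a k-vector space of dimension at most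
1. (The published statement asserts that this dimension equals 1 for every ν and every s; this row
states the upper bound, the half obtained from the monomial analysis of the weight pieces, while the
lower bound there is drawn from the moduli interpretation of these ideals. The published statement
is over the complex numbers; this row takes any algebraically closed field, which is what the
reduction to s = 0, 1 by rescaling the variables uses.) -/
theorem result (k : Type u) [Field k] [IsAlgClosed k] (p q m : ℕ) (hp : 0 < p) (hpq : p < q) (hcop : Nat.Coprime p q) (hm : 0 < m) (s : k) (ν : ℤ × ZMod m) :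
    Module.rank k (W4c2invhilbsl2.piece k (W4c2invhilbsl2.wt5 p q m) (W4c2invhilbsl2.idealJ k p q m s) ν) ≤ 1 := by
  have hpq' : (p : ℤ) < q := by exact_mod_cast hpq
  set g := Nat.gcd m (q - p) with hg
  set I := idealJ k p q m s with hI
  set π := Ideal.Quotient.mk I with hπ
  -- relations in the quotient
  have r0 : π (X 0) ^ g = 0 := by
    have : (X 0 ^ g : MvPolynomial (Fin 5) k) ∈ I := Ideal.subset_span (by simp [hg])
    rw [← Ideal.Quotient.eq_zero_iff_mem] at this
    simpa using this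
  have r2 : π (X 2) = 0 :=
    Ideal.Quotient.eq_zero_iff_mem.mpr (Ideal.subset_span (by simp))
  have r4 : π (X 4) = 0 :=
    Ideal.Quotient.eq_zero_iff_mem.mpr (Ideal.subset_span (by simp))
  have r5 : π (C s) = π (X 1) ^ (m / g * q) * π (X 3) ^ (m / g * p) := by
    have : (C s - X 1 ^ (m / g * q) * X 3 ^ (m / g * p) : MvPolynomial (Fin 5) k) ∈ I :=
      Ideal.subset_span (by simp [hg])
    rw [← Ideal.Quotient.eq_zero_iff_mem, map_sub, sub_eq_zero] at this
    simpa using this
  -- monomials outside the relevant set vanish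
  have hvanish : ∀ d : Fin 5 →₀ ℕ, ¬ (d 2 = 0 ∧ d 4 = 0 ∧ d 0 < g) → π (monomial d (1 : k)) = 0 := by
    intro d hd
    rw [mk_monomial_fin5]
    by_cases h2 : d 2 = 0
    swap
    · rw [r2, zero_pow h2]; ring
    by_cases h4 : d 4 = 0
    swap
    · rw [r4, zero_pow h4]; ring
    have h0 : g ≤ d 0 := by
      by_contra hc
      exact hd ⟨h2, h4, by omega⟩
    obtain ⟨e, he⟩ := Nat.exists_eq_add_of_le h0
    rw [he, pow_add, r0]; ring
  -- the set of relevant exponents
  set S : Set (Fin 5 →₀ ℕ) :=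
    {d | Finsupp.weight (wt5 p q m) d = ν ∧ d 2 = 0 ∧ d 4 = 0 ∧ d 0 < g} with hS
  by_cases hne : S.Nonempty
  · obtain ⟨v, hvS, hvmin⟩ := (InvImage.wf (fun d : Fin 5 →₀ ℕ ↦ d 1)
      Nat.lt_wfRel.wf).has_min S hne
    refine rank_piece_le_one _ _ _ (π (monomial v 1)) fun d hd ↦ ?_
    by_cases hrel : d 2 = 0 ∧ d 4 = 0 ∧ d 0 < g
    swap
    · exact ⟨0, by rw [zero_smul]; exact hvanish d hrel⟩
    obtain ⟨h2, h4, h0⟩ := hrel
    have hdS : d ∈ S := ⟨hd, h2, h4, h0⟩
    have hmin : v 1 ≤ d 1 := not_lt.mp (hvmin d hdS)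
    obtain ⟨hv, hv2, hv4, hv0⟩ := hvS
    have wd := hd
    have wv := hv
    rw [weight_wt5] at wd wv
    rw [h2, h4] at wd
    rw [hv2, hv4] at wv
    have E1 : (d 0 : ℤ) - p * d 1 + q * d 3 = (v 0 : ℤ) - p * v 1 + q * v 3 := by
      have := congrArg Prod.fst (wd.trans wv.symm)
      simpa using this
    have E2 : (m : ℤ) ∣ ((d 1 : ℤ) - v 1) - ((d 3 : ℤ) - v 3) := by
      have := congrArg Prod.snd (wd.trans wv.symm)
      simp only [Nat.cast_zero, add_zero] at this
      have h' : (((-(d 1 : ℤ) + d 3 : ℤ)) : ZMod m) = ((-(v 1 : ℤ) + v 3 : ℤ) : ZMod m) := by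
        push_cast; exact this
      rw [ZMod.intCast_eq_intCast_iff_dvd_sub] at h'
      convert h' using 1
      ring
    obtain ⟨J, hJ⟩ := E2
    obtain ⟨hα0, f, hβ, hγ⟩ := nt p q m hp hpq hcop hm ((d 0 : ℤ) - v 0) ((d 1 : ℤ) - v 1)
      ((d 3 : ℤ) - v 3) J (by linear_combination E1) hJ
      (by rw [abs_lt]; constructor <;> omega)
      (by have : (v 1 : ℤ) ≤ d 1 := by exact_mod_cast hmin
          linarith)
    have e0 : d 0 = v 0 := by omega
    have e1 : d 1 = v 1 + (m / g * q) * f := by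
      have : (d 1 : ℤ) = v 1 + ((m / g * q : ℕ) : ℤ) * f := by linarith
      exact_mod_cast this
    have e3 : d 3 = v 3 + (m / g * p) * f := by
      have : (d 3 : ℤ) = v 3 + ((m / g * p : ℕ) : ℤ) * f := by linarith
      exact_mod_cast this
    refine ⟨s ^ f, ?_⟩
    have hsm : s ^ f • π (monomial v (1 : k)) = π (C s) ^ f * π (monomial v (1 : k)) := by
      rw [← map_pow, ← map_pow, ← map_mul, ← smul_eq_C_mul]
      rfl
    rw [hsm, mk_monomial_fin5, mk_monomial_fin5, h2, h4, hv2, hv4, e0, e1, e3, r5]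
    ring
  · refine rank_piece_le_one _ _ _ 0 fun d hd ↦ ⟨0, ?_⟩
    rw [zero_smul]
    apply hvanish
    rintro ⟨h2, h4, h0⟩
    exact hne ⟨d, hd, h2, h4, h0⟩

end Groth.Agent.S15728
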