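import Groth.Statements.S15733
import Groth.Agent.Lib.H8HJ2

set_option autoImplicit false
open W4c2invhilbsl2

namespace Groth.Agent.S15733

/-- Let 0 < p < q be coprime integers and m ≥ 1 such that q − p does not divide m; put g = gcd(m, q−p),
b = (q−p)/g, α = ⌊mp/(q−p)⌋, β = the remainder of mp modulo q−p and t = (q−p−β)/g, so that 1 ≤ t <
b, and let b/t = c₁ − 1/(c₂ − 1/(⋯ − 1/c_r)) be the negative-regular (Hirzebruch–Jung) continued
fraction expansion with every cᵢ ≥ 2; set P₀ = 0, P₁ = 1, Q₀ = −1, Q₁ = 0, Pᵢ = cᵢ₋₁Pᵢ₋₁ − Pᵢ₋₂, Qᵢ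
= cᵢ₋₁Qᵢ₋₁ − Qᵢ₋₂ for 2 ≤ i ≤ r+1, and eᵢ = (α+1+m)Pᵢ − Qᵢ, lᵢ = (α+1)Pᵢ − Qᵢ, nᵢ = q·lᵢ − p·eᵢ,
which are non-negative integers for 0 ≤ i ≤ r+1. Then for every 1 < i ≤ r and every integer x with 0
< x < Pᵢ, the remainder of pmx + nᵢ on division by q − p equals nᵢ plus the remainder of pmx on
division by q − p (in particular nᵢ + (pmx mod (q−p)) < q − p). -/
theorem result (p q m : ℕ) (hp : 0 < p) (hpq : p < q) (hcop : Nat.Coprime p q) (hm : 0 < m) (hnt : ¬ (q - p ∣ m)) (c : List ℤ) (hc : W4c2invhilbsl2.IsHJDigits p q m c) (i : ℕ) (hi : 1 < i) (hir : i ≤ c.length)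
    (x : ℤ) (hx0 : 0 < x) (hx : x < W4c2invhilbsl2.hjP c i) :
    Int.emod ((p : ℤ) * m * x + W4c2invhilbsl2.nN p q m c i) ((q : ℤ) - p) = W4c2invhilbsl2.nN p q m c i + Int.emod ((p : ℤ) * m * x) ((q : ℤ) - p) := by
  open Groth.Agent.Lib.H8HJ in
  have hb0 : (0 : ℤ) < bB p q m := by
    have := tT_lt_bB p q m hpq hcop hm hnt
    have h0 : 0 < bB p q m := by omega
    exact_mod_cast h0
  have hg0 : (0 : ℤ) < gcdK p q m := by exact_mod_cast gcdK_pos p q m hm
  set ρ := ((tT p q m : ℤ) * x) % (bB p q m : ℤ) with hρ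
  set k := ((tT p q m : ℤ) * x) / (bB p q m : ℤ) with hk
  have hdiv : (bB p q m : ℤ) * k + ρ = (tT p q m : ℤ) * x := Int.mul_ediv_add_emod _ _
  have hρ0 : 0 ≤ ρ := Int.emod_nonneg _ hb0.ne'
  have hρb : ρ < bB p q m := Int.emod_lt_of_pos _ hb0
  have hlow := tI_pred_le p q m c hpq hcop hm hnt hc i hi hir x ρ k (by linarith) hx0 hx hρ0
  have hlt : tI p q m c i < tI p q m c (i - 1) := by
    have := tI_succ_lt p q m c hpq hcop hm hnt hc (i - 1) (by omega)
    rwa [show i - 1 + 1 = i by omega] at this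
  have hti := tI_nonneg p q m c hpq hcop hm hnt hc i (by omega)
  have hN := sub_eq_gcdK_mul_bB p q m hpq
  have hkey := key_int p q m hpq
  -- the remainder of `p m x`
  have hrem : ((p : ℤ) * m * x) % ((q : ℤ) - p) = (gcdK p q m : ℤ) * ((bB p q m : ℤ) - ρ) := by
    have e : (p : ℤ) * m * x = (gcdK p q m : ℤ) * ((bB p q m : ℤ) - ρ) +
        ((q : ℤ) - p) * (((alpha p q m : ℤ) + 1) * x - k - 1) := by
      linear_combination (-x) * hkey + (gcdK p q m : ℤ) * hdiv + (k + 1) * hN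
    rw [e, Int.add_mul_emod_self_left]
    apply Int.emod_eq_of_lt
    · exact mul_nonneg hg0.le (by linarith)
    · rw [hN]
      exact mul_lt_mul_of_pos_left (by linarith) hg0
  show ((p : ℤ) * m * x + nN p q m c i) % ((q : ℤ) - p) = nN p q m c i + ((p : ℤ) * m * x) % ((q : ℤ) - p)
  rw [Int.add_emod, hrem, nN_eq_gcdK_mul_tI p q m c hpq]
  have h1 : (gcdK p q m : ℤ) * tI p q m c i % ((q : ℤ) - p) = (gcdK p q m : ℤ) * tI p q m c i := by
    apply Int.emod_eq_of_lt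
    · exact mul_nonneg hg0.le hti
    · rw [hN]
      exact mul_lt_mul_of_pos_left (by linarith) hg0
  rw [h1]
  rw [add_comm]
  apply Int.emod_eq_of_lt
  · exact add_nonneg (mul_nonneg hg0.le hti) (mul_nonneg hg0.le (by linarith))
  · rw [hN, ← mul_add]
    exact mul_lt_mul_of_pos_left (by linarith) hg0

end Groth.Agent.S15733
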