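import Groth.Statements.S15729
import Groth.Agent.Lib.H8HJ2
import Groth.Agent.Lib.H8WeightPiece3
import Groth.Agent.S15733

set_option autoImplicit false
universe u
open W4c2invhilbsl2

namespace Groth.Agent.S15729

open MvPolynomial Groth.Agent.Lib.H8WeightPiece Groth.Agent.Lib.H8HJ

theorem eE_sub_lL (p q m : ℕ) (c : List ℤ) (i : ℕ) :
    eE p q m c i - lL p q m c i = (m : ℤ) * hjP c i := by
  rw [eE, lL]; push_cast; ring

/-- The exponent analysis: a monomial `X₀^a X₁^u X₂^v` of weight `(nᵢ, 0)` with `a < nᵢ` has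
`u ≥ eᵢ` and `v ≥ lᵢ`. -/
theorem exponents_ge (p q m : ℕ) (hp : 0 < p) (hpq : p < q) (hcop : Nat.Coprime p q) (hm : 0 < m)
    (hnt : ¬ (q - p ∣ m)) (c : List ℤ) (hc : IsHJDigits p q m c) (i : ℕ) (hi : 1 ≤ i)
    (hir : i ≤ c.length) (a u v : ℕ) (K : ℤ)
    (h1 : (a : ℤ) - p * u + q * v = nN p q m c i) (h2 : (u : ℤ) - v = m * K)
    (ha : (a : ℤ) < nN p q m c i) :
    eE p q m c i ≤ u ∧ lL p q m c i ≤ v := by
  have hpq' : (p : ℤ) < q := by exact_mod_cast hpq
  have hp' : (0 : ℤ) < p := by exact_mod_cast hp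
  have hm' : (0 : ℤ) < m := by exact_mod_cast hm
  have hn_lt := nN_lt p q m c hpq hcop hm hnt hc i hi (by omega)
  have hel := eE_sub_lL p q m c i
  have hn : nN p q m c i = -(p : ℤ) * eE p q m c i + (q : ℤ) * lL p q m c i := rfl
  have hP := hjP_pos c hc.1 i hi (by omega)
  -- `(q - p) v = p m K + n - a`
  have hv : ((q : ℤ) - p) * v = p * m * K + nN p q m c i - a := by
    have : (u : ℤ) = v + m * K := by linarith
    rw [this] at h1
    linear_combination h1
  -- `(q - p) l = p m P + n`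
  have hl : ((q : ℤ) - p) * lL p q m c i = p * m * hjP c i + nN p q m c i := by
    have : eE p q m c i = lL p q m c i + m * hjP c i := by linarith
    rw [hn, this]; ring
  have ha0 : (0 : ℤ) ≤ a := Int.natCast_nonneg a
  have hv0 : (0 : ℤ) ≤ v := Int.natCast_nonneg v
  have hu0 : (0 : ℤ) ≤ u := Int.natCast_nonneg u
  rcases le_or_gt K 0 with hK | hK
  · -- impossible
    exfalso
    have hmK : (m : ℤ) * K ≤ 0 := mul_nonpos_of_nonneg_of_nonpos hm'.le hK
    have hvK : -(m * K) ≤ (v : ℤ) := by linarith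
    have hpmK : (p : ℤ) * m * K ≤ 0 := by
      have := mul_nonpos_of_nonneg_of_nonpos hp'.le hmK
      linarith [mul_assoc (p : ℤ) m K]
    rcases Nat.eq_zero_or_pos v with hv00 | hvpos
    · subst hv00
      simp only [Nat.cast_zero, mul_zero] at hv hvK
      have hK0 : K = 0 := by
        have : 0 ≤ (m : ℤ) * K := by linarith
        have : 0 ≤ K := nonneg_of_mul_nonneg_right this hm'
        omega
      rw [hK0] at hv
      linarith
    · have : (1 : ℤ) ≤ v := by exact_mod_cast hvpos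
      have : ((q : ℤ) - p) * 1 ≤ ((q : ℤ) - p) * v := mul_le_mul_of_nonneg_left this (by linarith)
      linarith
  rcases lt_or_ge K (hjP c i) with hKP | hKP
  · -- impossible by S15733
    exfalso
    have hi1 : 1 < i := by
      by_contra hc1
      have : i = 1 := by omega
      subst this
      rw [hjP_one] at hKP
      omega
    have h33 := Groth.Agent.S15733.result p q m hp hpq hcop hm hnt c hc i hi1 hir K hK hKP
    have h33' : ((p : ℤ) * m * K + nN p q m c i) % ((q : ℤ) - p) =
        nN p q m c i + ((p : ℤ) * m * K) % ((q : ℤ) - p) := h33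
    have hmod : ((p : ℤ) * m * K + nN p q m c i) % ((q : ℤ) - p) = a := by
      have : (p : ℤ) * m * K + nN p q m c i = a + ((q : ℤ) - p) * v := by linarith
      rw [this, Int.add_mul_emod_self_left]
      exact Int.emod_eq_of_lt ha0 (by linarith)
    have : 0 ≤ ((p : ℤ) * m * K) % ((q : ℤ) - p) := Int.emod_nonneg _ (by linarith)
    linarith
  · -- `K ≥ Pᵢ`
    have hdiff : ((q : ℤ) - p) * (v - lL p q m c i) = p * m * (K - hjP c i) - a := by
      linear_combination hv - hl
    have hpm : (0 : ℤ) ≤ p * m * (K - hjP c i) :=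
      mul_nonneg (mul_nonneg hp'.le hm'.le) (by linarith)
    have hvl : lL p q m c i ≤ v := by
      by_contra hcon
      push Not at hcon
      have h1' : (v : ℤ) - lL p q m c i ≤ -1 := by omega
      have : ((q : ℤ) - p) * (v - lL p q m c i) ≤ ((q : ℤ) - p) * (-1) :=
        mul_le_mul_of_nonneg_left h1' (by linarith)
      linarith
    refine ⟨?_, hvl⟩
    have : (m : ℤ) * hjP c i ≤ m * K := mul_le_mul_of_nonneg_left hKP hm'.le
    linarith

/-- Let 0 < p < q be coprime integers and m ≥ 1 such that q − p does not divide m; put g = gcd(m, q−p),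
b = (q−p)/g, α = ⌊mp/(q−p)⌋, β = the remainder of mp modulo q−p and t = (q−p−β)/g, so that 1 ≤ t <
b, and let b/t = c₁ − 1/(c₂ − 1/(⋯ − 1/c_r)) be the negative-regular (Hirzebruch–Jung) continued
fraction expansion with every cᵢ ≥ 2; set P₀ = 0, P₁ = 1, Q₀ = −1, Q₁ = 0, Pᵢ = cᵢ₋₁Pᵢ₋₁ − Pᵢ₋₂, Qᵢ
= cᵢ₋₁Qᵢ₋₁ − Qᵢ₋₂ for 2 ≤ i ≤ r+1, and eᵢ = (α+1+m)Pᵢ − Qᵢ, lᵢ = (α+1)Pᵢ − Qᵢ, nᵢ = q·lᵢ − p·eᵢ,
which are non-negative integers for 0 ≤ i ≤ r+1. Grade the polynomial ring k[X₀,X₁,X₂] over a field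
k by ℤ × ℤ/m with weights (1,0), (−p,−1), (q,1) (it stands for k[X₀,X₁,Xⱼ], j = 3 or 4, inside the
five-variable ring). Then for every 1 ≤ i ≤ r, every polynomial homogeneous of weight (nᵢ, 0) can be
written a·X₀^(nᵢ) + b·X₁^(eᵢ)X₂^(lᵢ) with a and b homogeneous of weight zero; that is, the
weight-(nᵢ,0) piece is generated over the weight-zero subring by X₀^(nᵢ) and X₁^(eᵢ)X₂^(lᵢ). -/
theorem result (k : Type u) [Field k] (p q m : ℕ) (hp : 0 < p) (hpq : p < q) (hcop : Nat.Coprime p q) (hm : 0 < m) (hnt : ¬ (q - p ∣ m)) (c : List ℤ) (hc : W4c2invhilbsl2.IsHJDigits p q m c) (i : ℕ) (hi : 1 ≤ i) (hir : i ≤ c.length)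
    (f : MvPolynomial (Fin 3) k) (hf : f ∈ MvPolynomial.weightedHomogeneousSubmodule k (W4c2invhilbsl2.wt3 p q m) (W4c2invhilbsl2.nN p q m c i, (0 : ZMod m))) :
    ∃ a b : MvPolynomial (Fin 3) k, a ∈ MvPolynomial.weightedHomogeneousSubmodule k (W4c2invhilbsl2.wt3 p q m) 0 ∧ b ∈ MvPolynomial.weightedHomogeneousSubmodule k (W4c2invhilbsl2.wt3 p q m) 0 ∧
      f = a * MvPolynomial.X (0 : Fin 3) ^ (W4c2invhilbsl2.nN p q m c i).toNat +
        b * (MvPolynomial.X (1 : Fin 3) ^ (W4c2invhilbsl2.eE p q m c i).toNat * MvPolynomial.X (2 : Fin 3) ^ (W4c2invhilbsl2.lL p q m c i).toNat) := by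
  have hn0 := nN_pos p q m c hpq hcop hm hnt hc i hir
  -- `lᵢ ≥ 0`, `eᵢ ≥ 0`
  have hpq' : (p : ℤ) < q := by exact_mod_cast hpq
  have hp' : (0 : ℤ) < p := by exact_mod_cast hp
  have hm' : (0 : ℤ) < m := by exact_mod_cast hm
  have hP := hjP_pos c hc.1 i hi (by omega)
  have hel := eE_sub_lL p q m c i
  have hnd : nN p q m c i = -(p : ℤ) * eE p q m c i + (q : ℤ) * lL p q m c i := rfl
  have hl0 : 0 ≤ lL p q m c i := by
    have hl : ((q : ℤ) - p) * lL p q m c i = p * m * hjP c i + nN p q m c i := by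
      have : eE p q m c i = lL p q m c i + m * hjP c i := by linarith
      rw [hnd, this]; ring
    have : 0 < ((q : ℤ) - p) * lL p q m c i := by
      rw [hl]
      have := mul_pos (mul_pos hp' hm') hP
      linarith
    exact (pos_of_mul_pos_right this (by linarith)).le
  have he0 : 0 ≤ eE p q m c i := by
    have := mul_pos hm' hP
    linarith
  set n := (nN p q m c i).toNat with hn
  set e := (eE p q m c i).toNat with he
  set l := (lL p q m c i).toNat with hl
  have hnZ : (n : ℤ) = nN p q m c i := Int.toNat_of_nonneg hn0.le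
  have heZ : (e : ℤ) = eE p q m c i := Int.toNat_of_nonneg he0
  have hlZ : (l : ℤ) = lL p q m c i := Int.toNat_of_nonneg hl0
  have key := exists_decomp_mod (k := k) (wt3 p q m) (nN p q m c i, (0 : ZMod m)) 0 ⊥
    (J := Fin 2) ![X (0 : Fin 3) ^ n, X (1 : Fin 3) ^ e * X (2 : Fin 3) ^ l] ?_ f hf
  · obtain ⟨a, ha, ha'⟩ := key
    refine ⟨a 0, a 1, ha 0, ha 1, ?_⟩
    rw [Fin.sum_univ_two, Ideal.mem_bot, sub_eq_zero] at ha'
    exact ha'
  · intro d hd
    have hd' := hd
    rw [weight_wt3] at hd'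
    have h1 : (d 0 : ℤ) - p * d 1 + q * d 2 = nN p q m c i := congrArg Prod.fst hd'
    have h2 : (m : ℤ) ∣ (d 1 : ℤ) - d 2 := by
      have := congrArg Prod.snd hd'
      have h' : (((-(d 1 : ℤ) + d 2 : ℤ)) : ZMod m) = ((0 : ℤ) : ZMod m) := by
        push_cast; exact this
      rw [ZMod.intCast_eq_intCast_iff_dvd_sub] at h'
      convert h' using 1
      ring
    obtain ⟨K, hK⟩ := h2
    by_cases ha : n ≤ d 0
    · -- divisible by `X₀ ^ n`
      have hle : Finsupp.single (0 : Fin 3) n ≤ d := by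
        intro j
        by_cases h : j = 0
        · subst h; simpa using ha
        · simp [Ne.symm h]
      refine decomp_of_dvd (wt3 p q m) 0 ⊥ _ 0 (e := Finsupp.single 0 n)
        (by simp [X_pow_eq_monomial]) hle ?_
      rw [weight_sub _ hle, hd, Finsupp.weight_single]
      ext
      · simp [wt3, hnZ]
      · simp [wt3]
    · -- divisible by `X₁ ^ e * X₂ ^ l`
      have ha' : (d 0 : ℤ) < nN p q m c i := by
        rw [← hnZ]; exact_mod_cast (not_le.mp ha)
      obtain ⟨hu, hv⟩ := exponents_ge p q m hp hpq hcop hm hnt c hc i hi hir (d 0) (d 1) (d 2) K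
        h1 hK ha'
      have hu' : e ≤ d 1 := by
        have : (e : ℤ) ≤ d 1 := by rw [heZ]; exact hu
        exact_mod_cast this
      have hv' : l ≤ d 2 := by
        have : (l : ℤ) ≤ d 2 := by rw [hlZ]; exact hv
        exact_mod_cast this
      have hle : Finsupp.single (1 : Fin 3) e + Finsupp.single (2 : Fin 3) l ≤ d := by
        intro j
        fin_cases j
        · simp
        · simpa using hu'
        · simpa using hv'
      refine decomp_of_dvd (wt3 p q m) 0 ⊥ _ 1
        (e := Finsupp.single (1 : Fin 3) e + Finsupp.single (2 : Fin 3) l) ?_ hle ?_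
      · show X (1 : Fin 3) ^ e * X (2 : Fin 3) ^ l = _
        rw [X_pow_eq_monomial, X_pow_eq_monomial, monomial_mul, one_mul]
      · rw [weight_sub _ hle, hd, map_add, Finsupp.weight_single, Finsupp.weight_single]
        ext
        · simp only [wt3, Prod.fst_sub, Prod.fst_add, Prod.smul_fst, Prod.fst_zero]
          simp
          rw [heZ, hlZ, hnd]; ring
        · simp only [wt3, Prod.snd_sub, Prod.snd_add, Prod.smul_snd, Prod.snd_zero]
          simp
          have : ((e : ℤ) : ZMod m) - ((l : ℤ) : ZMod m) = 0 := by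
            rw [← Int.cast_sub, heZ, hlZ, hel]
            simp
          push_cast at this
          linear_combination this

end Groth.Agent.S15729
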