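import Groth.Statements.S15732
import Groth.Agent.S15729

set_option autoImplicit false
universe u
open W4c2invhilbsl2

namespace Groth.Agent.S15732

open MvPolynomial Groth.Agent.Lib.H8WeightPiece Groth.Agent.Lib.H8HJ

/-- Let 0 < p < q be coprime integers and m ≥ 1 such that q − p does not divide m; put g = gcd(m, q−p),
b = (q−p)/g, α = ⌊mp/(q−p)⌋, β = the remainder of mp modulo q−p and t = (q−p−β)/g, so that 1 ≤ t <
b, and let b/t = c₁ − 1/(c₂ − 1/(⋯ − 1/c_r)) be the negative-regular (Hirzebruch–Jung) continued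
fraction expansion with every cᵢ ≥ 2; set P₀ = 0, P₁ = 1, Q₀ = −1, Q₁ = 0, Pᵢ = cᵢ₋₁Pᵢ₋₁ − Pᵢ₋₂, Qᵢ
= cᵢ₋₁Qᵢ₋₁ − Qᵢ₋₂ for 2 ≤ i ≤ r+1, and eᵢ = (α+1+m)Pᵢ − Qᵢ, lᵢ = (α+1)Pᵢ − Qᵢ, nᵢ = q·lᵢ − p·eᵢ,
which are non-negative integers for 0 ≤ i ≤ r+1. Grade the polynomial ring k[X₀,…,X₄] over a field k
by ℤ × ℤ/m, giving X₀ weight (1,0), X₁ and X₂ weight (−p,−1), and X₃ and X₄ weight (q,1). Then for
every 1 ≤ i ≤ r, modulo the principal ideal generated by the weight-zero element X₀^(q−p) − X₁X₄ +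
X₂X₃, every polynomial homogeneous of weight (nᵢ, 0) is congruent to a combination a₀·X₀^(nᵢ) + Σ
a_{e,l}·X₁^(eᵢ−e)X₂^e X₃^(lᵢ−l)X₄^l (sum over 0 ≤ e ≤ eᵢ, 0 ≤ l ≤ lᵢ) whose coefficients a₀, a_{e,l}
are homogeneous of weight zero. Equivalently, in the coordinate ring of the hypersurface the
weight-(nᵢ,0) piece is generated over the weight-zero subring (the invariant ring) by X₀^(nᵢ)
together with the products of a degree-eᵢ monomial in X₁, X₂ and a degree-lᵢ monomial in X₃, X₄.
(The published statement is over the complex numbers; this row takes any field.) -/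
theorem result (k : Type u) [Field k] (p q m : ℕ) (hp : 0 < p) (hpq : p < q) (hcop : Nat.Coprime p q) (hm : 0 < m) (hnt : ¬ (q - p ∣ m)) (c : List ℤ) (hc : W4c2invhilbsl2.IsHJDigits p q m c) (i : ℕ) (hi : 1 ≤ i) (hir : i ≤ c.length)
    (f : MvPolynomial (Fin 5) k) (hf : f ∈ MvPolynomial.weightedHomogeneousSubmodule k (W4c2invhilbsl2.wt5 p q m) (W4c2invhilbsl2.nN p q m c i, (0 : ZMod m))) :
    ∃ (a₀ : MvPolynomial (Fin 5) k) (a : ℕ → ℕ → MvPolynomial (Fin 5) k),
      a₀ ∈ MvPolynomial.weightedHomogeneousSubmodule k (W4c2invhilbsl2.wt5 p q m) 0 ∧ (∀ e l : ℕ, a e l ∈ MvPolynomial.weightedHomogeneousSubmodule k (W4c2invhilbsl2.wt5 p q m) 0) ∧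
      f - (a₀ * MvPolynomial.X (0 : Fin 5) ^ (W4c2invhilbsl2.nN p q m c i).toNat +
          ∑ e ∈ Finset.range ((W4c2invhilbsl2.eE p q m c i).toNat + 1), ∑ l ∈ Finset.range ((W4c2invhilbsl2.lL p q m c i).toNat + 1),
            a e l * (MvPolynomial.X (1 : Fin 5) ^ ((W4c2invhilbsl2.eE p q m c i).toNat - e) * MvPolynomial.X (2 : Fin 5) ^ e *
              MvPolynomial.X (3 : Fin 5) ^ ((W4c2invhilbsl2.lL p q m c i).toNat - l) * MvPolynomial.X (4 : Fin 5) ^ l)) ∈
        Ideal.span {MvPolynomial.X (0 : Fin 5) ^ (q - p) - MvPolynomial.X 1 * MvPolynomial.X 4 + MvPolynomial.X 2 * MvPolynomial.X 3} := by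
  classical
  have hn0 := nN_pos p q m c hpq hcop hm hnt hc i hir
  have hpq' : (p : ℤ) < q := by exact_mod_cast hpq
  have hp' : (0 : ℤ) < p := by exact_mod_cast hp
  have hm' : (0 : ℤ) < m := by exact_mod_cast hm
  have hP := hjP_pos c hc.1 i hi (by omega)
  have hel := Groth.Agent.S15729.eE_sub_lL p q m c i
  have hnd : nN p q m c i = -(p : ℤ) * eE p q m c i + (q : ℤ) * lL p q m c i := rfl
  have hl0 : 0 ≤ lL p q m c i := by
    have hl : ((q : ℤ) - p) * lL p q m c i = p * m * hjP c i + nN p q m c i := by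
      have : eE p q m c i = lL p q m c i + m * hjP c i := by linarith
      rw [hnd, this]; ring
    have : 0 < ((q : ℤ) - p) * lL p q m c i := by
      rw [hl]
      have := mul_pos (mul_pos hp' hm') hP
      linarith
    exact (pos_of_mul_pos_right this (by linarith)).le
  have he0 : 0 ≤ eE p q m c i := by
    have := mul_pos hm' hP
    linarith
  set n := (nN p q m c i).toNat with hn
  set E := (eE p q m c i).toNat with hE
  set L := (lL p q m c i).toNat with hL
  have hnZ : (n : ℤ) = nN p q m c i := Int.toNat_of_nonneg hn0.le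
  have heZ : (E : ℤ) = eE p q m c i := Int.toNat_of_nonneg he0
  have hlZ : (L : ℤ) = lL p q m c i := Int.toNat_of_nonneg hl0
  set H : Ideal (MvPolynomial (Fin 5) k) := Ideal.span {MvPolynomial.X (0 : Fin 5) ^ (q - p) -
    MvPolynomial.X 1 * MvPolynomial.X 4 + MvPolynomial.X 2 * MvPolynomial.X 3} with hH
  -- the generators, indexed by `Option (Fin (E+1) × Fin (L+1))`
  set g : Option (Fin (E + 1) × Fin (L + 1)) → MvPolynomial (Fin 5) k := fun j ↦
    match j with
    | none => X (0 : Fin 5) ^ n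
    | some (e, l) => X (1 : Fin 5) ^ (E - (e : ℕ)) * X (2 : Fin 5) ^ (e : ℕ) *
        X (3 : Fin 5) ^ (L - (l : ℕ)) * X (4 : Fin 5) ^ (l : ℕ) with hg
  have key := exists_decomp_mod (k := k) (wt5 p q m) (nN p q m c i, (0 : ZMod m)) 0 H g ?_ f hf
  · obtain ⟨A, hA, hA'⟩ := key
    refine ⟨A none, fun e l ↦ if h : e < E + 1 ∧ l < L + 1 then A (some (⟨e, h.1⟩, ⟨l, h.2⟩)) else 0,
      hA none, fun e l ↦ ?_, ?_⟩
    · beta_reduce
      split_ifs with h
      · exact hA _
      · exact Submodule.zero_mem _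
    · convert hA' using 3
      rw [Fintype.sum_option, Fintype.sum_prod_type]
      congr 1
      rw [Finset.sum_range]
      refine Finset.sum_congr rfl fun e _ ↦ ?_
      rw [Finset.sum_range]
      refine Finset.sum_congr rfl fun l _ ↦ ?_
      beta_reduce
      rw [dif_pos ⟨e.2, l.2⟩]
  · intro d hd
    have hd' := hd
    rw [weight_wt5] at hd'
    have h1 : (d 0 : ℤ) - p * ((d 1 + d 2 : ℕ) : ℤ) + q * ((d 3 + d 4 : ℕ) : ℤ) = nN p q m c i := by
      have := congrArg Prod.fst hd'
      push_cast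
      exact this
    have h2 : (m : ℤ) ∣ ((d 1 + d 2 : ℕ) : ℤ) - ((d 3 + d 4 : ℕ) : ℤ) := by
      have := congrArg Prod.snd hd'
      have h' : (((-((d 1 : ℤ) + d 2) + ((d 3 : ℤ) + d 4) : ℤ)) : ZMod m) = ((0 : ℤ) : ZMod m) := by
        push_cast; exact this
      rw [ZMod.intCast_eq_intCast_iff_dvd_sub] at h'
      convert h' using 1
      push_cast; ring
    obtain ⟨K, hK⟩ := h2
    by_cases ha : n ≤ d 0
    · -- divisible by `X₀ ^ n`
      have hle : Finsupp.single (0 : Fin 5) n ≤ d := by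
        intro j
        by_cases h : j = 0
        · subst h; simpa using ha
        · simp [Ne.symm h]
      refine decomp_of_dvd (wt5 p q m) 0 H g none (e := Finsupp.single 0 n)
        (by simp [hg, X_pow_eq_monomial]) hle ?_
      rw [weight_sub _ hle, hd, Finsupp.weight_single]
      ext
      · simp [wt5, hnZ]
      · simp [wt5]
    · have ha' : (d 0 : ℤ) < nN p q m c i := by
        rw [← hnZ]; exact_mod_cast (not_le.mp ha)
      obtain ⟨hu, hv⟩ := Groth.Agent.S15729.exponents_ge p q m hp hpq hcop hm hnt c hc i hi hir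
        (d 0) (d 1 + d 2) (d 3 + d 4) K h1 hK ha'
      have hu' : E ≤ d 1 + d 2 := by
        have : (E : ℤ) ≤ ((d 1 + d 2 : ℕ) : ℤ) := by rw [heZ]; exact hu
        exact_mod_cast this
      have hv' : L ≤ d 3 + d 4 := by
        have : (L : ℤ) ≤ ((d 3 + d 4 : ℕ) : ℤ) := by rw [hlZ]; exact hv
        exact_mod_cast this
      set e' := min (d 2) E with he'
      set l' := min (d 4) L with hl'
      have he'E : e' < E + 1 := by omega
      have hl'L : l' < L + 1 := by omega
      set ε : Fin 5 →₀ ℕ := Finsupp.single (1 : Fin 5) (E - e') + Finsupp.single (2 : Fin 5) e' +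
        Finsupp.single (3 : Fin 5) (L - l') + Finsupp.single (4 : Fin 5) l' with hε
      have hle : ε ≤ d := by
        intro j
        fin_cases j
        · simp [hε]
        · simp [hε]; omega
        · simp [hε]; omega
        · simp [hε]; omega
        · simp [hε]; omega
      refine decomp_of_dvd (wt5 p q m) 0 H g (some (⟨e', he'E⟩, ⟨l', hl'L⟩)) (e := ε) ?_ hle ?_
      · show X (1 : Fin 5) ^ (E - e') * X (2 : Fin 5) ^ e' * X (3 : Fin 5) ^ (L - l') *
          X (4 : Fin 5) ^ l' = _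
        simp only [X_pow_eq_monomial, monomial_mul, one_mul, hε]
      · rw [weight_sub _ hle, hd, hε, map_add, map_add, map_add, Finsupp.weight_single,
          Finsupp.weight_single, Finsupp.weight_single, Finsupp.weight_single]
        have e1 : ((E - e' : ℕ) : ℤ) = (E : ℤ) - e' := Nat.cast_sub (by omega)
        have l1 : ((L - l' : ℕ) : ℤ) = (L : ℤ) - l' := Nat.cast_sub (by omega)
        ext
        · simp only [wt5, Prod.fst_sub, Prod.fst_add, Prod.smul_fst, Prod.fst_zero]
          simp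
          rw [e1, l1, heZ, hlZ, hnd]; ring
        · simp only [wt5, Prod.snd_sub, Prod.snd_add, Prod.smul_snd, Prod.snd_zero]
          simp
          have : ((E : ℤ) : ZMod m) - ((L : ℤ) : ZMod m) = 0 := by
            rw [← Int.cast_sub, heZ, hlZ, hel]
            simp
          have e2 : ((E - e' : ℕ) : ZMod m) = (E : ZMod m) - (e' : ZMod m) := Nat.cast_sub (by omega)
          have l2 : ((L - l' : ℕ) : ZMod m) = (L : ZMod m) - (l' : ZMod m) := Nat.cast_sub (by omega)
          rw [e2, l2]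
          push_cast at this
          linear_combination this

end Groth.Agent.S15732
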