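import Groth.Statements.S15734
import Groth.Agent.Lib.H8HJ2

set_option autoImplicit false
open W4c2invhilbsl2

namespace Groth.Agent.S15734

/-- Let 0 < p < q be coprime integers and m ≥ 1 such that q − p does not divide m; put g = gcd(m, q−p),
b = (q−p)/g, α = ⌊mp/(q−p)⌋, β = the remainder of mp modulo q−p and t = (q−p−β)/g, so that 1 ≤ t <
b, and let b/t = c₁ − 1/(c₂ − 1/(⋯ − 1/c_r)) be the negative-regular (Hirzebruch–Jung) continued
fraction expansion with every cᵢ ≥ 2; set P₀ = 0, P₁ = 1, Q₀ = −1, Q₁ = 0, Pᵢ = cᵢ₋₁Pᵢ₋₁ − Pᵢ₋₂, Qᵢ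
= cᵢ₋₁Qᵢ₋₁ − Qᵢ₋₂ for 2 ≤ i ≤ r+1, and eᵢ = (α+1+m)Pᵢ − Qᵢ, lᵢ = (α+1)Pᵢ − Qᵢ, nᵢ = q·lᵢ − p·eᵢ,
which are non-negative integers for 0 ≤ i ≤ r+1; moreover g divides every nᵢ, and write tᵢ = nᵢ/g
(so t₁ = t). Then (a) for every 1 ≤ i ≤ r the remainder of t·Pᵢ on division by b equals tᵢ, and (b)
for every 1 < i ≤ r and every integer x with 0 < x < Pᵢ the remainder ρ of t·x on division by b
satisfies tᵢ₋₁ ≤ ρ ≤ b + tᵢ − tᵢ₋₁. -/
theorem result (p q m : ℕ) (hp : 0 < p) (hpq : p < q) (hcop : Nat.Coprime p q) (hm : 0 < m) (hnt : ¬ (q - p ∣ m)) (c : List ℤ) (hc : W4c2invhilbsl2.IsHJDigits p q m c) :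
    (∀ i : ℕ, 1 ≤ i → i ≤ c.length →
      Int.emod ((W4c2invhilbsl2.tT p q m : ℤ) * W4c2invhilbsl2.hjP c i) (W4c2invhilbsl2.bB p q m : ℤ) = W4c2invhilbsl2.nN p q m c i / (W4c2invhilbsl2.gcdK p q m : ℤ)) ∧
    (∀ i : ℕ, 1 < i → i ≤ c.length → ∀ x : ℤ, 0 < x → x < W4c2invhilbsl2.hjP c i →
      W4c2invhilbsl2.nN p q m c (i - 1) / (W4c2invhilbsl2.gcdK p q m : ℤ) ≤ Int.emod ((W4c2invhilbsl2.tT p q m : ℤ) * x) (W4c2invhilbsl2.bB p q m : ℤ) ∧
      Int.emod ((W4c2invhilbsl2.tT p q m : ℤ) * x) (W4c2invhilbsl2.bB p q m : ℤ) ≤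
        (W4c2invhilbsl2.bB p q m : ℤ) + W4c2invhilbsl2.nN p q m c i / (W4c2invhilbsl2.gcdK p q m : ℤ) - W4c2invhilbsl2.nN p q m c (i - 1) / (W4c2invhilbsl2.gcdK p q m : ℤ)) := by
  open Groth.Agent.Lib.H8HJ in
  have hb0 : (0 : ℤ) < bB p q m := by
    have := tT_lt_bB p q m hpq hcop hm hnt
    have h0 : 0 < bB p q m := by omega
    exact_mod_cast h0
  constructor
  · intro i hi1 hir
    rw [nN_ediv_gcdK p q m c hpq hm]
    have h1 := tI_nonneg p q m c hpq hcop hm hnt hc i (by omega)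
    have h2 := tI_lt_bB p q m c hpq hcop hm hnt hc i hi1 (by omega)
    have : (tT p q m : ℤ) * hjP c i = tI p q m c i + hjQ c i * (bB p q m : ℤ) := by
      rw [tI]; ring
    show ((tT p q m : ℤ) * hjP c i) % (bB p q m : ℤ) = _
    rw [this, Int.add_mul_emod_self_right, Int.emod_eq_of_lt h1 h2]
  · intro i hi hir x hx0 hx
    rw [nN_ediv_gcdK p q m c hpq hm, nN_ediv_gcdK p q m c hpq hm]
    show _ ≤ ((tT p q m : ℤ) * x) % (bB p q m : ℤ) ∧ ((tT p q m : ℤ) * x) % (bB p q m : ℤ) ≤ _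
    set ρ := ((tT p q m : ℤ) * x) % (bB p q m : ℤ) with hρ
    set k := ((tT p q m : ℤ) * x) / (bB p q m : ℤ) with hk
    have hdiv : (bB p q m : ℤ) * k + ρ = (tT p q m : ℤ) * x := Int.mul_ediv_add_emod _ _
    have hρ0 : 0 ≤ ρ := Int.emod_nonneg _ hb0.ne'
    have hρb : ρ < bB p q m := Int.emod_lt_of_pos _ hb0
    have hlow := tI_pred_le p q m c hpq hcop hm hnt hc i hi hir x ρ k (by linarith) hx0 hx hρ0
    refine ⟨hlow, ?_⟩
    by_contra hcon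
    push Not at hcon
    have hti := tI_nonneg p q m c hpq hcop hm hnt hc i (by omega)
    have := tI_pred_le p q m c hpq hcop hm hnt hc i hi hir (hjP c i - x)
      (tI p q m c i - ρ + bB p q m) (hjQ c i - k - 1) ?_ (by linarith) (by linarith) (by linarith)
    · linarith
    · rw [tI]
      linear_combination -hdiv

end Groth.Agent.S15734
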