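import Groth.Statements.S15737
import Mathlib.Tactic

set_option autoImplicit false
open W4c2invhilbsl2

namespace Groth.Agent.S15737

/-- For a monomial X₀^d₀X₁^d₁X₂^d₂ of the polynomial ring in X₀, X₁, X₂ (X₂ standing for Xⱼ, j = 3 or 4,
of the five-variable ring) put n = d₀ − p·d₁ + q·d₂ (its weight for the torus diag(t, t^(−p), t^q)),
c = d₁ − d₂ and ω = p·d₁ − q·d₂, so that d₀ = n + ω; here 0 < p < q are coprime integers. Then n + ω
< q − p, that is d₀ < q − p, holds if and only if ω is the least value of ω among all monomials with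
the same pair (n, c). -/
theorem result (p q : ℕ) (hp : 0 < p) (hpq : p < q) (hcop : Nat.Coprime p q) (d0 d1 d2 : ℕ) :
    d0 < q - p ↔
      ∀ e0 e1 e2 : ℕ, (e0 : ℤ) - (p : ℤ) * e1 + (q : ℤ) * e2 = (d0 : ℤ) - (p : ℤ) * d1 + (q : ℤ) * d2 → (e1 : ℤ) - e2 = (d1 : ℤ) - d2 →
        (p : ℤ) * d1 - (q : ℤ) * d2 ≤ (p : ℤ) * e1 - (q : ℤ) * e2 := by
  have hpq' : (p : ℤ) < q := by exact_mod_cast hpq
  have hp' : (0 : ℤ) < p := by exact_mod_cast hp
  constructor
  · intro hd e0 e1 e2 hn hc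
    have hd' : (d0 : ℤ) < q - p := by
      have : ((d0 : ℕ) : ℤ) < ((q - p : ℕ) : ℤ) := by exact_mod_cast hd
      rwa [Nat.cast_sub hpq.le] at this
    -- `e0 - d0 = -(q-p) (e2 - d2)`
    have h1 : (e0 : ℤ) - d0 = -((q : ℤ) - p) * ((e2 : ℤ) - d2) := by
      have he1 : (e1 : ℤ) = e2 + ((d1 : ℤ) - d2) := by linarith
      rw [he1] at hn
      linear_combination hn
    have h2 : (p : ℤ) * e1 - q * e2 - (p * d1 - q * d2) = (e0 : ℤ) - d0 := by
      linear_combination -hn
    have he0 : (0 : ℤ) ≤ e0 := by positivity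
    -- if `e2 > d2` then `e0 < 0`
    by_contra hcon
    push Not at hcon
    have h3 : (e0 : ℤ) - d0 < 0 := by linarith
    have h4 : (0 : ℤ) < (e2 : ℤ) - d2 := by
      by_contra h5
      push Not at h5
      have : 0 ≤ -((q : ℤ) - p) * ((e2 : ℤ) - d2) := by nlinarith
      linarith
    have h5 : (1 : ℤ) ≤ (e2 : ℤ) - d2 := h4
    have : (e0 : ℤ) - d0 ≤ -((q : ℤ) - p) := by
      rw [h1]; nlinarith
    linarith
  · intro h
    by_contra hd
    push Not at hd
    have hd' : (q : ℤ) - p ≤ d0 := by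
      have : ((q - p : ℕ) : ℤ) ≤ ((d0 : ℕ) : ℤ) := by exact_mod_cast hd
      rwa [Nat.cast_sub hpq.le] at this
    have := h (d0 - (q - p)) (d1 + 1) (d2 + 1)
      (by push_cast [Nat.cast_sub hd, Nat.cast_sub hpq.le]; ring)
      (by push_cast; ring)
    push_cast at this
    linarith

end Groth.Agent.S15737
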