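import Groth.Statements.S15738
import Mathlib.Tactic
-- import your own Groth.Agent.* helpers here

set_option autoImplicit false
universe u
open W4c2invhilbsl2

namespace Groth.Agent.S15738

/-- same `(n, c)` ⇒ difference divisible by `x^(q-p) - y z`. -/
theorem key {R : Type*} [CommRing R] (x y z : R) (p q : ℕ) (hpq : p < q)
    (d0 d1 d2 e0 e1 e2 : ℕ)
    (hn : (e0 : ℤ) - (p : ℤ) * e1 + (q : ℤ) * e2 = (d0 : ℤ) - (p : ℤ) * d1 + (q : ℤ) * d2)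
    (hc : (d1 : ℤ) - d2 = (e1 : ℤ) - e2) :
    x ^ (q - p) - y * z ∣ x ^ d0 * y ^ d1 * z ^ d2 - x ^ e0 * y ^ e1 * z ^ e2 := by
  wlog h : d2 ≤ e2 generalizing d0 d1 d2 e0 e1 e2
  · have := this e0 e1 e2 d0 d1 d2 hn.symm hc.symm (le_of_not_ge h)
    exact (dvd_sub_comm).1 this
  obtain ⟨t, rfl⟩ := Nat.exists_eq_add_of_le h
  obtain ⟨N, rfl⟩ := Nat.exists_eq_add_of_le hpq.le
  have he1 : e1 = d1 + t := by push_cast at hc; omega
  subst he1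
  have hd0 : (d0 : ℤ) = e0 + (N : ℤ) * t := by
    push_cast at hn
    linarith
  have hd0' : d0 = e0 + N * t := by exact_mod_cast hd0
  subst hd0'
  have hN : p + N - p = N := by omega
  rw [hN]
  have h1 : x ^ (e0 + N * t) * y ^ d1 * z ^ d2 - x ^ e0 * y ^ (d1 + t) * z ^ (d2 + t)
      = x ^ e0 * y ^ d1 * z ^ d2 * ((x ^ N) ^ t - (y * z) ^ t) := by
    ring
  rw [h1]
  exact Dvd.dvd.mul_left (sub_dvd_pow_sub_pow _ _ _) _

/-- (iii) in the case `c' ≤ c`. -/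
theorem key3 {R : Type*} [CommRing R] (x y z : R) (p q m : ℕ) (hpq : p < q) (hm : 0 < m)
    (d0 d1 d2 e0 e1 e2 : ℕ)
    (hn : (e0 : ℤ) - (p : ℤ) * e1 + (q : ℤ) * e2 = (d0 : ℤ) - (p : ℤ) * d1 + (q : ℤ) * d2)
    (hc : (m : ℤ) ∣ ((d1 : ℤ) - d2) - ((e1 : ℤ) - e2))
    (hle : (e1 : ℤ) - e2 ≤ (d1 : ℤ) - d2) :
    ∃ s : ℕ, ((d1 : ℤ) - d2) - ((e1 : ℤ) - e2) = m * s ∧
      x ^ (q - p) - y * z ∣ x ^ d0 * y ^ d1 * z ^ d2
        - x ^ e0 * y ^ e1 * z ^ e2 * (x ^ (m * p) * y ^ m) ^ s := by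
  obtain ⟨s', hs'⟩ := hc
  have hmpos : (0 : ℤ) < m := by exact_mod_cast hm
  have hs'nn : 0 ≤ s' := by
    by_contra hneg
    rw [not_le] at hneg
    have : (m : ℤ) * s' < 0 := mul_neg_of_pos_of_neg hmpos hneg
    linarith
  obtain ⟨s, rfl⟩ := Int.eq_ofNat_of_zero_le hs'nn
  refine ⟨s, hs', ?_⟩
  have := key x y z p q hpq d0 d1 d2 (e0 + m * p * s) (e1 + m * s) e2
    (by push_cast; linarith) (by push_cast; linarith)
  have h2 : x ^ e0 * y ^ e1 * z ^ e2 * (x ^ (m * p) * y ^ m) ^ s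
      = x ^ (e0 + m * p * s) * y ^ (e1 + m * s) * z ^ e2 := by
    ring
  rw [h2]
  exact this

/-- Let k be a field and m ≥ 1; for a monomial X₀^d₀X₁^d₁X₂^d₂ of the polynomial ring in X₀, X₁, X₂ (X₂
standing for Xⱼ, j = 3 or 4, of the five-variable ring) put n = d₀ − p·d₁ + q·d₂ (its weight for the
torus diag(t, t^(−p), t^q)), c = d₁ − d₂ and ω = p·d₁ − q·d₂, so that d₀ = n + ω; here 0 < p < q are
coprime integers. Take two monomials X₀^d₀X₁^d₁X₂^d₂ and X₀^e₀X₁^e₁X₂^e₂ with the same n and with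
values c, c' of c congruent modulo m (so both lie in the same ℤ × ℤ/m-weight piece for the weights
(1,0), (−p,−1), (q,1)). Then: (i) if c = c', the difference of the two monomials lies in the
principal ideal (X₀^(q−p) − X₁X₂); (ii) if c' < c, the monomial X₀^d₀X₁^d₁X₂^d₂ lies in the ideal
(X₀^(q−p) − X₁X₂, X₀^(mp)X₁^m); (iii) in all cases the difference lies in the ideal (X₀^(q−p) −
X₁X₂, 1 − X₀^(mp)X₁^m). -/
theorem result (k : Type u) [Field k] (p q m : ℕ) (hp : 0 < p) (hpq : p < q) (hcop : Nat.Coprime p q) (hm : 0 < m)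
    (d0 d1 d2 e0 e1 e2 : ℕ) (hn : (e0 : ℤ) - (p : ℤ) * e1 + (q : ℤ) * e2 = (d0 : ℤ) - (p : ℤ) * d1 + (q : ℤ) * d2)
    (hc : (m : ℤ) ∣ ((d1 : ℤ) - d2) - ((e1 : ℤ) - e2)) :
    ((d1 : ℤ) - d2 = (e1 : ℤ) - e2 →
      (MvPolynomial.X (0 : Fin 3) ^ d0 * MvPolynomial.X (1 : Fin 3) ^ d1 * MvPolynomial.X (2 : Fin 3) ^ d2 - MvPolynomial.X (0 : Fin 3) ^ e0 * MvPolynomial.X (1 : Fin 3) ^ e1 * MvPolynomial.X (2 : Fin 3) ^ e2 : MvPolynomial (Fin 3) k) ∈ Ideal.span {MvPolynomial.X (0 : Fin 3) ^ (q - p) - MvPolynomial.X (1 : Fin 3) * MvPolynomial.X (2 : Fin 3)}) ∧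
    ((e1 : ℤ) - e2 < (d1 : ℤ) - d2 →
      (MvPolynomial.X (0 : Fin 3) ^ d0 * MvPolynomial.X (1 : Fin 3) ^ d1 * MvPolynomial.X (2 : Fin 3) ^ d2 : MvPolynomial (Fin 3) k) ∈ Ideal.span {MvPolynomial.X (0 : Fin 3) ^ (q - p) - MvPolynomial.X (1 : Fin 3) * MvPolynomial.X (2 : Fin 3), MvPolynomial.X (0 : Fin 3) ^ (m * p) * MvPolynomial.X (1 : Fin 3) ^ m}) ∧
    ((MvPolynomial.X (0 : Fin 3) ^ d0 * MvPolynomial.X (1 : Fin 3) ^ d1 * MvPolynomial.X (2 : Fin 3) ^ d2 - MvPolynomial.X (0 : Fin 3) ^ e0 * MvPolynomial.X (1 : Fin 3) ^ e1 * MvPolynomial.X (2 : Fin 3) ^ e2 : MvPolynomial (Fin 3) k) ∈ Ideal.span {MvPolynomial.X (0 : Fin 3) ^ (q - p) - MvPolynomial.X (1 : Fin 3) * MvPolynomial.X (2 : Fin 3), 1 - MvPolynomial.X (0 : Fin 3) ^ (m * p) * MvPolynomial.X (1 : Fin 3) ^ m}) := by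
  set x : MvPolynomial (Fin 3) k := MvPolynomial.X (0 : Fin 3) with hx
  set y : MvPolynomial (Fin 3) k := MvPolynomial.X (1 : Fin 3) with hy
  set z : MvPolynomial (Fin 3) k := MvPolynomial.X (2 : Fin 3) with hz
  refine ⟨?_, ?_, ?_⟩
  · intro hceq
    exact Ideal.mem_span_singleton.2 (key x y z p q hpq d0 d1 d2 e0 e1 e2 hn hceq)
  · intro hlt
    obtain ⟨s, hs, hdvd⟩ := key3 x y z p q m hpq hm d0 d1 d2 e0 e1 e2 hn hc hlt.le
    have hspos : 0 < s := by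
      rcases Nat.eq_zero_or_pos s with h0 | h0
      · subst h0; simp at hs; linarith
      · exact h0
    obtain ⟨s', rfl⟩ := Nat.exists_eq_succ_of_ne_zero hspos.ne'
    have h1 : x ^ d0 * y ^ d1 * z ^ d2 =
        (x ^ d0 * y ^ d1 * z ^ d2 - x ^ e0 * y ^ e1 * z ^ e2 * (x ^ (m * p) * y ^ m) ^ (s' + 1))
          + (x ^ e0 * y ^ e1 * z ^ e2 * (x ^ (m * p) * y ^ m) ^ s') * (x ^ (m * p) * y ^ m) := by
      ring
    rw [h1]
    refine Ideal.add_mem _ ?_ ?_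
    · obtain ⟨w, hw⟩ := hdvd
      rw [hw]
      exact Ideal.mul_mem_right _ _ (Ideal.subset_span (by simp))
    · exact Ideal.mul_mem_left _ _ (Ideal.subset_span (by simp))
  · -- (iii)
    have main : ∀ (d0 d1 d2 e0 e1 e2 : ℕ)
        (hn : (e0 : ℤ) - (p : ℤ) * e1 + (q : ℤ) * e2 = (d0 : ℤ) - (p : ℤ) * d1 + (q : ℤ) * d2)
        (hc : (m : ℤ) ∣ ((d1 : ℤ) - d2) - ((e1 : ℤ) - e2))
        (hle : (e1 : ℤ) - e2 ≤ (d1 : ℤ) - d2),
        (x ^ d0 * y ^ d1 * z ^ d2 - x ^ e0 * y ^ e1 * z ^ e2) ∈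
          Ideal.span {x ^ (q - p) - y * z, 1 - x ^ (m * p) * y ^ m} := by
      intro d0 d1 d2 e0 e1 e2 hn hc hle
      obtain ⟨s, hs, hdvd⟩ := key3 x y z p q m hpq hm d0 d1 d2 e0 e1 e2 hn hc hle
      have h1 : x ^ d0 * y ^ d1 * z ^ d2 - x ^ e0 * y ^ e1 * z ^ e2 =
          (x ^ d0 * y ^ d1 * z ^ d2 - x ^ e0 * y ^ e1 * z ^ e2 * (x ^ (m * p) * y ^ m) ^ s)
          - (x ^ e0 * y ^ e1 * z ^ e2) * (1 ^ s - (x ^ (m * p) * y ^ m) ^ s) := by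
        ring
      rw [h1]
      refine Ideal.sub_mem _ ?_ ?_
      · obtain ⟨w, hw⟩ := hdvd
        rw [hw]
        exact Ideal.mul_mem_right _ _ (Ideal.subset_span (by simp))
      · obtain ⟨w, hw⟩ := sub_dvd_pow_sub_pow (1 : MvPolynomial (Fin 3) k) (x ^ (m * p) * y ^ m) s
        rw [hw]
        exact Ideal.mul_mem_left _ _ (Ideal.mul_mem_right _ _ (Ideal.subset_span (by simp)))
    rcases le_total ((e1 : ℤ) - e2) ((d1 : ℤ) - d2) with hle | hle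
    · exact main d0 d1 d2 e0 e1 e2 hn hc hle
    · have := main e0 e1 e2 d0 d1 d2 hn.symm (by
        have : ((e1 : ℤ) - e2) - ((d1 : ℤ) - d2) = -(((d1 : ℤ) - d2) - ((e1 : ℤ) - e2)) := by ring
        rw [this]; exact (dvd_neg).2 hc) hle
      have h2 : x ^ d0 * y ^ d1 * z ^ d2 - x ^ e0 * y ^ e1 * z ^ e2
          = -(x ^ e0 * y ^ e1 * z ^ e2 - x ^ d0 * y ^ d1 * z ^ d2) := by ring
      rw [h2]
      exact Ideal.neg_mem_iff _ |>.2 this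

end Groth.Agent.S15738
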