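import Groth.Statements.S15739
import Mathlib.Tactic
-- import your own Groth.Agent.* helpers here

set_option autoImplicit false
universe u
open W4c2invhilbsl2

namespace Groth.Agent.S15739

theorem arith (p q m : ℕ) (hpq : p < q) (hcop : Nat.Coprime p q) (hm : 0 < m)
    (d0 d1 d2 e0 e1 e2 : ℕ)
    (hn : (e0 : ℤ) - (p : ℤ) * e1 + (q : ℤ) * e2 = (d0 : ℤ) - (p : ℤ) * d1 + (q : ℤ) * d2)
    (hcd : (m : ℤ) ∣ (d1 : ℤ) - d2) (hce : (m : ℤ) ∣ (e1 : ℤ) - e2)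
    (hd0 : d0 < Nat.gcd m (q - p)) (he0 : e0 < Nat.gcd m (q - p))
    (hle : (d1 : ℤ) - d2 ≤ (e1 : ℤ) - e2) :
    d0 = e0 ∧ ∃ k : ℕ, e1 = d1 + (m / Nat.gcd m (q - p) * q) * k ∧
      e2 = d2 + (m / Nat.gcd m (q - p) * p) * k ∧
      ((e1 : ℤ) - e2) - ((d1 : ℤ) - d2) = (m : ℤ) * ((q - p) / Nat.gcd m (q - p) : ℕ) * k := by
  obtain ⟨N, rfl⟩ := Nat.exists_eq_add_of_le hpq.le
  have hN : p + N - p = N := by omega
  rw [hN] at hd0 he0 ⊢
  have hNpos : 0 < N := by omega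
  have hgpos : 0 < Nat.gcd m N := Nat.gcd_pos_of_pos_left _ hm
  have hab : Nat.Coprime (m / Nat.gcd m N) (N / Nat.gcd m N) :=
    Nat.coprime_div_gcd_div_gcd hgpos
  obtain ⟨a, ha⟩ : Nat.gcd m N ∣ m := Nat.gcd_dvd_left m N
  obtain ⟨b, hb⟩ : Nat.gcd m N ∣ N := Nat.gcd_dvd_right m N
  have hma : m / Nat.gcd m N = a := Nat.div_eq_of_eq_mul_right hgpos ha
  have hNb : N / Nat.gcd m N = b := Nat.div_eq_of_eq_mul_right hgpos hb
  rw [hma, hNb] at hab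
  rw [hma, hNb]
  generalize Nat.gcd m N = g at *
  subst ha hb
  have hpN : Nat.Coprime p (g * b) := by
    have := hcop
    rwa [Nat.coprime_self_add_right] at this
  obtain ⟨cd, hcd'⟩ := hcd
  obtain ⟨ce, hce'⟩ := hce
  have hgZ : (0 : ℤ) < g := by exact_mod_cast hgpos
  have hbpos : 0 < b := Nat.pos_of_mul_pos_right hNpos |> fun h => by
    rcases Nat.eq_zero_or_pos b with h0 | h0
    · subst h0; simp at hNpos
    · exact h0
  have hapos : 0 < a := by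
    rcases Nat.eq_zero_or_pos a with h0 | h0
    · subst h0; simp at hm
    · exact h0
  have hbZ : (0 : ℤ) < b := by exact_mod_cast hbpos
  have haZ : (0 : ℤ) < a := by exact_mod_cast hapos
  -- key identity
  have hkey : (d0 : ℤ) - e0 =
      p * (((d1 : ℤ) - d2) - ((e1 : ℤ) - e2)) + ((g : ℤ) * b) * ((e2 : ℤ) - d2) := by
    push_cast at hn; linarith
  have hgd : (g : ℤ) ∣ (d0 : ℤ) - e0 := by
    rw [hkey, hcd', hce']
    push_cast
    exact dvd_add (Dvd.dvd.mul_left (dvd_sub ((dvd_mul_right _ _).mul_right _)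
      ((dvd_mul_right _ _).mul_right _)) _) ((dvd_mul_right _ _).mul_right _)
  have hde : (d0 : ℤ) - e0 = 0 := by
    apply Int.eq_zero_of_abs_lt_dvd hgd
    rw [abs_lt]; constructor <;> omega
  have hde' : d0 = e0 := by omega
  refine ⟨hde', ?_⟩
  have h3 : (p : ℤ) * (((e1 : ℤ) - e2) - ((d1 : ℤ) - d2)) = ((g : ℤ) * b) * ((e2 : ℤ) - d2) := by
    rw [hde] at hkey; linarith
  -- c' - c = m * u
  have hu : ((e1 : ℤ) - e2) - ((d1 : ℤ) - d2) = ((g : ℤ) * a) * (ce - cd) := by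
    rw [hce', hcd']; push_cast; ring
  have hunn : 0 ≤ ce - cd := by
    by_contra hneg
    rw [not_le] at hneg
    have : ((g : ℤ) * a) * (ce - cd) < 0 := mul_neg_of_pos_of_neg (mul_pos hgZ haZ) hneg
    linarith
  have hNdvd : ((g : ℤ) * b) ∣ ((g : ℤ) * a) * (ce - cd) := by
    have hcopZ : IsCoprime (((g * b : ℕ) : ℤ)) (p : ℤ) := Nat.isCoprime_iff_coprime.2 hpN.symm
    have : (((g * b : ℕ) : ℤ)) ∣ (p : ℤ) * (((e1 : ℤ) - e2) - ((d1 : ℤ) - d2)) := by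
      rw [h3]; push_cast; exact dvd_mul_right _ _
    have := hcopZ.dvd_of_dvd_mul_left this
    rw [hu] at this
    exact_mod_cast this
  have hbdvd : (b : ℤ) ∣ ce - cd := by
    rw [mul_assoc] at hNdvd
    have h1 : (b : ℤ) ∣ (a : ℤ) * (ce - cd) := (mul_dvd_mul_iff_left hgZ.ne').1 hNdvd
    have hcopab : IsCoprime (b : ℤ) (a : ℤ) := Nat.isCoprime_iff_coprime.2 hab.symm
    exact hcopab.dvd_of_dvd_mul_left h1
  obtain ⟨k', hk'⟩ := hbdvd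
  have hk'nn : 0 ≤ k' := by
    by_contra hneg
    rw [not_le] at hneg
    have : (b : ℤ) * k' < 0 := mul_neg_of_pos_of_neg hbZ hneg
    linarith
  obtain ⟨k, rfl⟩ := Int.eq_ofNat_of_zero_le hk'nn
  refine ⟨k, ?_, ?_, ?_⟩
  · -- e1
    have h4 : ((g : ℤ) * b) * ((e2 : ℤ) - d2) = ((g : ℤ) * b) * ((a : ℤ) * p * k) := by
      rw [← h3, hu, hk']; ring
    have h5 : (e2 : ℤ) - d2 = (a : ℤ) * p * k :=
      mul_left_cancel₀ (mul_pos hgZ hbZ).ne' h4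
    have h6 : (e1 : ℤ) = d1 + (a : ℤ) * (p + g * b) * k := by
      have := hu
      rw [hk'] at this
      linarith [this, h5, (by ring : (g : ℤ) * a * (b * (k : ℤ)) + a * p * k = a * (p + g * b) * k)]
    exact_mod_cast h6
  · have h4 : ((g : ℤ) * b) * ((e2 : ℤ) - d2) = ((g : ℤ) * b) * ((a : ℤ) * p * k) := by
      rw [← h3, hu, hk']; ring
    have h5 : (e2 : ℤ) - d2 = (a : ℤ) * p * k :=
      mul_left_cancel₀ (mul_pos hgZ hbZ).ne' h4
    have h6 : (e2 : ℤ) = d2 + (a : ℤ) * p * k := by linarith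
    exact_mod_cast h6
  · rw [hu, hk']; push_cast; ring

/-- Let k be a field and m ≥ 1, put g = gcd(m, q−p), a = m/g and b = (q−p)/g; for a monomial
X₀^d₀X₁^d₁X₂^d₂ of the polynomial ring in X₀, X₁, X₂ (X₂ standing for Xⱼ, j = 3 or 4, of the
five-variable ring) put n = d₀ − p·d₁ + q·d₂ (its weight for the torus diag(t, t^(−p), t^q)), c = d₁
− d₂ and ω = p·d₁ − q·d₂, so that d₀ = n + ω; here 0 < p < q are coprime integers. Take two
monomials X₀^d₀X₁^d₁X₂^d₂ and X₀^e₀X₁^e₁X₂^e₂ with the same n, where 0 ≤ n < q − p, whose values c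
and c' of c are both divisible by m, and with d₀ < g and e₀ < g (so each has the least ω for its
pair (n, c), as g ≤ q − p). Then: (i) d₀ = e₀, i.e. the two values of ω agree, and m·b divides c −
c'; (ii) if c < c', then X₀^e₀X₁^e₁X₂^e₂ is a multiple of X₀^d₀X₁^d₁X₂^d₂ · X₁^(aq)X₂^(ap); (iii)
the difference of the two monomials lies in the principal ideal (1 − X₁^(aq)X₂^(ap)). -/
theorem result (k : Type u) [Field k] (p q m : ℕ) (hp : 0 < p) (hpq : p < q) (hcop : Nat.Coprime p q) (hm : 0 < m)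
    (d0 d1 d2 e0 e1 e2 : ℕ) (hn : (e0 : ℤ) - (p : ℤ) * e1 + (q : ℤ) * e2 = (d0 : ℤ) - (p : ℤ) * d1 + (q : ℤ) * d2)
    (hn0 : 0 ≤ (d0 : ℤ) - (p : ℤ) * d1 + (q : ℤ) * d2) (hnq : (d0 : ℤ) - (p : ℤ) * d1 + (q : ℤ) * d2 < (q : ℤ) - p)
    (hcd : (m : ℤ) ∣ (d1 : ℤ) - d2) (hce : (m : ℤ) ∣ (e1 : ℤ) - e2)
    (hd0 : d0 < Nat.gcd m (q - p)) (he0 : e0 < Nat.gcd m (q - p)) :
    (d0 = e0 ∧ ((m : ℤ) * ((q - p) / Nat.gcd m (q - p) : ℕ)) ∣ ((d1 : ℤ) - d2) - ((e1 : ℤ) - e2)) ∧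
    ((d1 : ℤ) - d2 < (e1 : ℤ) - e2 →
      (MvPolynomial.X (0 : Fin 3) ^ d0 * MvPolynomial.X (1 : Fin 3) ^ d1 * MvPolynomial.X (2 : Fin 3) ^ d2 * (MvPolynomial.X (1 : Fin 3) ^ (m / Nat.gcd m (q - p) * q) * MvPolynomial.X (2 : Fin 3) ^ (m / Nat.gcd m (q - p) * p)) : MvPolynomial (Fin 3) k) ∣ MvPolynomial.X (0 : Fin 3) ^ e0 * MvPolynomial.X (1 : Fin 3) ^ e1 * MvPolynomial.X (2 : Fin 3) ^ e2) ∧
    ((MvPolynomial.X (0 : Fin 3) ^ e0 * MvPolynomial.X (1 : Fin 3) ^ e1 * MvPolynomial.X (2 : Fin 3) ^ e2 - MvPolynomial.X (0 : Fin 3) ^ d0 * MvPolynomial.X (1 : Fin 3) ^ d1 * MvPolynomial.X (2 : Fin 3) ^ d2 : MvPolynomial (Fin 3) k) ∈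
      Ideal.span {(1 : MvPolynomial (Fin 3) k) - MvPolynomial.X (1 : Fin 3) ^ (m / Nat.gcd m (q - p) * q) * MvPolynomial.X (2 : Fin 3) ^ (m / Nat.gcd m (q - p) * p)}) := by
  set x : MvPolynomial (Fin 3) k := MvPolynomial.X (0 : Fin 3) with hx
  set y : MvPolynomial (Fin 3) k := MvPolynomial.X (1 : Fin 3) with hy
  set z : MvPolynomial (Fin 3) k := MvPolynomial.X (2 : Fin 3) with hz
  set A : ℕ := m / Nat.gcd m (q - p) with hA
  set u : MvPolynomial (Fin 3) k := y ^ (A * q) * z ^ (A * p) with hu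
  have hmbpos : (0 : ℤ) < (m : ℤ) * ((q - p) / Nat.gcd m (q - p) : ℕ) := by
    have h1 : 0 < Nat.gcd m (q - p) := Nat.gcd_pos_of_pos_left _ hm
    have h2 : 0 < (q - p) / Nat.gcd m (q - p) :=
      Nat.div_pos (Nat.le_of_dvd (by omega) (Nat.gcd_dvd_right _ _)) h1
    have : 0 < m * ((q - p) / Nat.gcd m (q - p)) := Nat.mul_pos hm h2
    exact_mod_cast this
  rcases le_total ((d1 : ℤ) - d2) ((e1 : ℤ) - e2) with hle | hle
  · obtain ⟨h0, κ, h1, h2, h3⟩ := arith p q m hpq hcop hm d0 d1 d2 e0 e1 e2 hn hcd hce hd0 he0 hle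
    have hMe : x ^ e0 * y ^ e1 * z ^ e2 = x ^ d0 * y ^ d1 * z ^ d2 * u ^ κ := by
      rw [h1, h2, h0, hu]; ring
    refine ⟨⟨h0, ?_⟩, ?_, ?_⟩
    · refine ⟨-(κ : ℤ), ?_⟩
      linarith
    · intro hlt
      have hκ : κ ≠ 0 := by
        rintro rfl
        simp at h3
        linarith
      obtain ⟨κ', rfl⟩ := Nat.exists_eq_succ_of_ne_zero hκ
      rw [hMe]
      exact ⟨u ^ κ', by rw [pow_succ]; ring⟩
    · rw [hMe]
      have : x ^ d0 * y ^ d1 * z ^ d2 * u ^ κ - x ^ d0 * y ^ d1 * z ^ d2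
          = -(x ^ d0 * y ^ d1 * z ^ d2) * (1 ^ κ - u ^ κ) := by ring
      rw [this]
      obtain ⟨w, hw⟩ := sub_dvd_pow_sub_pow (1 : MvPolynomial (Fin 3) k) u κ
      rw [hw]
      exact Ideal.mul_mem_left _ _ (Ideal.mul_mem_right _ _ (Ideal.subset_span (by simp)))
  · obtain ⟨h0, κ, h1, h2, h3⟩ := arith p q m hpq hcop hm e0 e1 e2 d0 d1 d2 hn.symm hce hcd he0 hd0 hle
    have hMd : x ^ d0 * y ^ d1 * z ^ d2 = x ^ e0 * y ^ e1 * z ^ e2 * u ^ κ := by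
      rw [h1, h2, h0, hu]; ring
    refine ⟨⟨h0.symm, ?_⟩, ?_, ?_⟩
    · exact ⟨(κ : ℤ), h3⟩
    · intro hlt
      exfalso
      linarith
    · rw [hMd]
      have : x ^ e0 * y ^ e1 * z ^ e2 - x ^ e0 * y ^ e1 * z ^ e2 * u ^ κ
          = (x ^ e0 * y ^ e1 * z ^ e2) * (1 ^ κ - u ^ κ) := by ring
      rw [this]
      obtain ⟨w, hw⟩ := sub_dvd_pow_sub_pow (1 : MvPolynomial (Fin 3) k) u κ
      rw [hw]
      exact Ideal.mul_mem_left _ _ (Ideal.mul_mem_right _ _ (Ideal.subset_span (by simp)))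

end Groth.Agent.S15739
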