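import Groth.Statements.S1574
import Groth.Agent.Lib.AffineComplDim9
import Groth.Agent.Lib.DimOneAff13b

set_option autoImplicit false
universe u
open CategoryTheory CategoryTheory.Limits AlgebraicGeometry
open Divisors

namespace Groth.Agent.S1574


/-- For a Noetherian local ring A, the punctured spectrum (Spec A minus the closed point, as an open
subscheme) is affine if and only if dim A ≤ 1. -/
theorem result (A : Type u) [CommRing A] [IsLocalRing A] [IsNoetherianRing A] :
    IsAffine (FEt.puncturedSpec A : Scheme.{u}) ↔ ringKrullDim A ≤ 1 := by
  constructor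
  · intro h
    have hU : IsAffineOpen (FEt.puncturedSpec A) := h
    have hht := Groth.Agent.S5161.result A (FEt.puncturedSpec A) hU (IsLocalRing.closedPoint A)
      (fun hmem => hmem rfl)
      (fun q _ hq => by
        by_contra hne
        exact hq hne)
    rw [← IsLocalRing.maximalIdeal_height_eq_ringKrullDim]
    exact_mod_cast hht
  · intro h
    haveI : QuasiCompact (FEt.puncturedSpec A).ι := by
      infer_instance
    haveI : IsAffineHom (FEt.puncturedSpec A).ι := by
      apply Groth.Agent.Lib.DimOneAff13.isAffineHom_ι_of_dim_le_one
      intro x
      refine ⟨inferInstance, ?_⟩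
      let y : PrimeSpectrum A := x
      change ringKrullDim ((AlgebraicGeometry.Spec.structureSheaf A).presheaf.stalk y) ≤ 1
      rw [IsLocalization.AtPrime.ringKrullDim_eq_height y.asIdeal
        ((AlgebraicGeometry.Spec.structureSheaf A).presheaf.stalk y)]
      exact (Ideal.height_le_ringKrullDim_of_isPrime).trans h
    exact isAffine_of_isAffineHom (FEt.puncturedSpec A).ι

end Groth.Agent.S1574
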