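import Groth.Statements.S15742
import Groth.Agent.Lib.OmegaDer81I

set_option autoImplicit false
universe u
open CategoryTheory AlgebraicGeometry
open Mor

namespace Groth.Agent.S15742

/-- For a commutative ring `A` and a commutative `A`-algebra `B`, the canonical map from the module of
Kähler differentials `Ω[B⁄A]` to the global sections of the sheaf of relative differentials of `Spec
B ⟶ Spec A`, semilinear along the identification of `B` with the ring of global functions on `Spec
B` and sending `D b` to `d_{X/Y}` of the global function `b`, is bijective. -/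
theorem result (A B : Type u) [CommRing A] [CommRing B] [Algebra A B] :
    Function.Bijective (OmAff.toSpec A B) := by
  let f := Spec.map (CommRingCat.ofHom (algebraMap A B))
  have h : (⊤ : (Spec (CommRingCat.of B)).Opens) ≤ f ⁻¹ᵁ ⊤ := le_refl _
  letI : Algebra Γ(Spec (CommRingCat.of A), ⊤) Γ(Spec (CommRingCat.of B), ⊤) :=
    (f.appLE ⊤ ⊤ h).hom.toAlgebra
  obtain ⟨ε, hε⟩ := Groth.Agent.Lib.OmegaDer81.exists_kaehler_equiv_dSect f
    (isAffineOpen_top (Spec (CommRingCat.of B))) (isAffineOpen_top (Spec (CommRingCat.of A))) h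
  -- the ring isomorphism `B ≃ Γ(Spec B, ⊤)`
  have hτ : Function.Bijective (OmAff.toΓ B) :=
    (ConcreteCategory.isIso_iff_bijective (Scheme.ΓSpecIso (CommRingCat.of B)).inv).mp inferInstance
  have hhi : ∀ s, OmAff.toΓ B ((Scheme.ΓSpecIso (CommRingCat.of B)).hom s) = s := fun s =>
    congr($((Scheme.ΓSpecIso (CommRingCat.of B)).hom_inv_id) s)
  have hih : ∀ b, (Scheme.ΓSpecIso (CommRingCat.of B)).hom (OmAff.toΓ B b) = b := fun b =>
    congr($((Scheme.ΓSpecIso (CommRingCat.of B)).inv_hom_id) b)
  constructor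
  · -- injective: a retraction
    letI : Module Γ(Spec (CommRingCat.of B), ⊤) Ω[B⁄A] :=
      Module.compHom _ (Scheme.ΓSpecIso (CommRingCat.of B)).hom.hom
    let δ : Γ(Spec (CommRingCat.of B), ⊤) →+ Ω[B⁄A] :=
      (KaehlerDifferential.D A B).toLinearMap.toAddMonoidHom.comp
        (Scheme.ΓSpecIso (CommRingCat.of B)).hom.hom.toAddMonoidHom
    have hδ : Groth.Agent.Lib.OmegaDer81.IsLeibniz δ := by
      intro a b
      change KaehlerDifferential.D A B ((Scheme.ΓSpecIso (CommRingCat.of B)).hom (a * b)) = _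
      rw [map_mul, Derivation.leibniz]
      rfl
    have h0 : ∀ a, δ (algebraMap Γ(Spec (CommRingCat.of A), ⊤) Γ(Spec (CommRingCat.of B), ⊤) a) = 0 := by
      intro a
      change KaehlerDifferential.D A B ((Scheme.ΓSpecIso (CommRingCat.of B)).hom
        ((f.appLE ⊤ ⊤ h) a)) = 0
      have h1 : (f.appLE ⊤ ⊤ h) a = f.appTop a := by
        change (f.app ⊤ ≫ (Spec (CommRingCat.of B)).presheaf.map (𝟙 _)) a = _
        rw [(Spec (CommRingCat.of B)).presheaf.map_id]
        rfl
      rw [h1, Groth.Agent.Lib.OmegaDer81.ΓSpecIso_hom_specMap_appTop]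
      exact (KaehlerDifferential.D A B).map_algebraMap _
    obtain ⟨κ, hκ, -⟩ := Groth.Agent.Lib.OmegaDer81.existsUnique_lift_kaehler
      (A := Γ(Spec (CommRingCat.of A), ⊤)) δ hδ h0
    -- the composite `G ∘ T`
    let GT : Ω[B⁄A] →ₗ[B] Ω[B⁄A] :=
      { toFun := fun x => κ (ε.symm (OmAff.toSpec A B x))
        map_add' := fun x y => by rw [map_add, map_add, map_add]
        map_smul' := fun b x => by
          rw [LinearMap.map_smulₛₗ, map_smul, map_smul]
          have : ∀ z : Ω[B⁄A], (OmAff.toΓ B b) • z = b • z := fun z => by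
            change (Scheme.ΓSpecIso (CommRingCat.of B)).hom (OmAff.toΓ B b) • z = b • z
            rw [hih]
          rw [this]
          rfl }
    have hGT : GT = LinearMap.id := by
      refine Groth.Agent.Lib.OmegaDer81.linearMap_ext_D _ _ fun b => ?_
      change κ (ε.symm (OmAff.toSpec A B (KaehlerDifferential.D A B b))) = KaehlerDifferential.D A B b
      rw [OmAff.toSpec_D, ← hε, LinearEquiv.symm_apply_apply, hκ]
      change KaehlerDifferential.D A B ((Scheme.ΓSpecIso (CommRingCat.of B)).hom (OmAff.toΓ B b)) = _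
      rw [hih]
    intro x y hxy
    have hx := LinearMap.congr_fun hGT x
    have hy := LinearMap.congr_fun hGT y
    change κ (ε.symm (OmAff.toSpec A B x)) = x at hx
    change κ (ε.symm (OmAff.toSpec A B y)) = y at hy
    rw [← hx, ← hy, hxy]
  · -- surjective
    intro m
    obtain ⟨w, rfl⟩ := ε.surjective m
    have hw : w ∈ Submodule.span Γ(Spec (CommRingCat.of B), ⊤)
        (Set.range (KaehlerDifferential.D Γ(Spec (CommRingCat.of A), ⊤) Γ(Spec (CommRingCat.of B), ⊤))) := by
      rw [KaehlerDifferential.span_range_derivation]; trivial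
    induction hw using Submodule.span_induction with
    | mem y hy =>
      obtain ⟨s, rfl⟩ := hy
      refine ⟨KaehlerDifferential.D A B ((Scheme.ΓSpecIso (CommRingCat.of B)).hom s), ?_⟩
      rw [OmAff.toSpec_D, hhi, hε]
    | zero => exact ⟨0, by rw [map_zero, map_zero]⟩
    | add y z _ _ hy hz =>
      obtain ⟨a, ha⟩ := hy
      obtain ⟨b, hb⟩ := hz
      exact ⟨a + b, by rw [map_add, map_add, ha, hb]⟩
    | smul s y _ hy =>
      obtain ⟨a, ha⟩ := hy
      refine ⟨(Scheme.ΓSpecIso (CommRingCat.of B)).hom s • a, ?_⟩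
      rw [LinearMap.map_smulₛₗ, map_smul, ha, hhi]

end Groth.Agent.S15742
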