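import Groth.Statements.S15748
import Groth.Agent.S15450

set_option autoImplicit false
universe u v
open CategoryTheory AlgebraicGeometry
open WeilCoh

namespace Groth.Agent.S15748

variable {k : Type u} [Field k] [IsAlgClosed k] {K : Type v} [Field K] [CharZero K]
  (T : WeilCoh.Theory k K)

/-- the action of a correspondence `φ ∈ H^n(P)` on `H^i(X)`: `x ↦ q_*(p^* x ∪ φ)` -/
noncomputable def corr {X Y P : WeilCoh.Var k} (p : P ⟶ X) (q : P ⟶ Y) (i n : ℤ)
    (φ : ↥(T.gr P n)) :
    ↥(T.gr X i) →ₗ[K] ↥(T.gr Y (i + n + 2 * (WeilCoh.dim Y.obj.left : ℤ) -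
      2 * (WeilCoh.dim P.obj.left : ℤ))) :=
  (T.push q (i + n)) ∘ₗ ((LinearMap.mulRight K (φ : T.H P)).restrict (p := T.gr P i)
    (q := T.gr P (i + n)) (fun x hx => SetLike.mul_mem_graded hx φ.2)) ∘ₗ (T.pullDeg p i)

/-- `tr (f_* a * b) = tr (a * f^* b)` for `b` homogeneous of any degree -/
theorem tr_push_mul_any {X Y : WeilCoh.Var k} (f : X ⟶ Y) (i : ℤ) (a : ↥(T.gr X i)) (b : T.H Y)
    (j : ℤ) (hb : b ∈ T.gr Y j) :
    T.tr Y ((T.push f i a : T.H Y) * b) = T.tr X ((a : T.H X) * T.pull f b) := by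
  by_cases h : i + j = 2 * (WeilCoh.dim X.obj.left : ℤ)
  · exact Groth.Agent.Lib.WeilCohPush.tr_push_mul' T f i a b j h hb
  · rw [T.tr_vanish Y _ _ (SetLike.mul_mem_graded (T.push f i a).2 hb) (by omega),
      T.tr_vanish X _ _ (SetLike.mul_mem_graded a.2 (T.pull_mem f j b hb)) h]

theorem tr_corr_mul {X Y P : WeilCoh.Var k} (p : P ⟶ X) (q : P ⟶ Y) (i n : ℤ)
    (φ : ↥(T.gr P n)) (x : ↥(T.gr X i)) (c : T.H Y) (u : ℤ) (hc : c ∈ T.gr Y u) :
    T.tr Y ((corr T p q i n φ x : T.H Y) * c) =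
      T.tr P (T.pull p (x : T.H X) * (φ : T.H P) * T.pull q c) :=
  tr_push_mul_any T q (i + n) _ c u hc

/-- the trace of an endomorphism of `H^r(X)` through a basis and a dual family -/
theorem trace_eq_sum {X : WeilCoh.Var k} (r m : ℤ) {ι : Type} [Fintype ι] [DecidableEq ι]
    (e : Module.Basis ι K ↥(T.gr X r)) (f : ι → ↥(T.gr X m))
    (hef : ∀ i l : ι, T.tr X ((f l : T.H X) * (e i : T.H X)) = if i = l then 1 else 0)
    (g : ↥(T.gr X r) →ₗ[K] ↥(T.gr X r)) :
    LinearMap.trace K ↥(T.gr X r) g =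
      ∑ i : ι, T.tr X ((f i : T.H X) * (g (e i) : T.H X)) := by
  rw [LinearMap.trace_eq_matrix_trace K e, Matrix.trace]
  refine Finset.sum_congr rfl fun i _ => ?_
  rw [Matrix.diag_apply, LinearMap.toMatrix_apply, Groth.Agent.S15450.repr_eq_tr T r m e f hef]

/-- expansion of a homogeneous class in bases, pairing on the right with the dual families -/
theorem expand {X : WeilCoh.Var k}
    (ι : ℕ → Type) [∀ r, Fintype (ι r)] [∀ r, DecidableEq (ι r)]
    (e : (r : ℕ) → Module.Basis (ι r) K ↥(T.gr X (r : ℤ)))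
    (f : (r : ℕ) → ι r → ↥(T.gr X (2 * (WeilCoh.dim X.obj.left : ℤ) - r)))
    (hef : ∀ r, ∀ i l : ι r,
      T.tr X ((f r l : T.H X) * (e r i : T.H X)) = if i = l then 1 else 0)
    (v : ℤ) (d : T.H X) (hd : d ∈ T.gr X v) :
    ∑ r ∈ Finset.range (2 * WeilCoh.dim X.obj.left + 1), ∑ l : ι r,
      T.tr X (d * (f r l : T.H X)) • (e r l : T.H X) = ((-1 : K) ^ v.natAbs) • d := by
  by_cases hv : v < 0 ∨ 2 * (WeilCoh.dim X.obj.left : ℤ) < v
  · have hd0 : d = 0 := Groth.Agent.Lib.H73WeilLef.eq_zero_of_mem_gr T v d hd hv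
    subst hd0
    simp
  · push Not at hv
    obtain ⟨hv0, hv1⟩ := hv
    lift v to ℕ using hv0
    have hv1' : v ≤ 2 * WeilCoh.dim X.obj.left := by exact_mod_cast hv1
    rw [Finset.sum_eq_single v]
    · have hcomm : ∀ l : ι v, T.tr X (d * (f v l : T.H X)) =
          (-1 : K) ^ v * (e v).repr ⟨d, hd⟩ l := by
        intro l
        have hc := T.gradedComm X (v : ℤ) (2 * (WeilCoh.dim X.obj.left : ℤ) - v) d
          (f v l : T.H X) hd (f v l).2
        rw [hc, map_smul, smul_eq_mul,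
          Groth.Agent.S15450.repr_eq_tr T (v : ℤ) _ (e v) (f v) (hef v) ⟨d, hd⟩ l]
        congr 1
        have h1 : (2 * (WeilCoh.dim X.obj.left : ℤ) - v).natAbs =
            2 * WeilCoh.dim X.obj.left - v := by omega
        rw [h1, Int.natAbs_natCast]
        exact Groth.Agent.S15450.neg_one_pow_sub v _ hv1'
      simp only [hcomm, mul_smul]
      rw [← Finset.smul_sum, Int.natAbs_natCast]
      congr 1
      have := congrArg Subtype.val ((e v).sum_repr ⟨d, hd⟩)
      rw [Submodule.coe_sum] at this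
      simp only [Submodule.coe_smul] at this
      exact this
    · intro r _ hrv
      refine Finset.sum_eq_zero fun l _ => ?_
      rw [T.tr_vanish X ((v : ℤ) + (2 * (WeilCoh.dim X.obj.left : ℤ) - r)) _
        (SetLike.mul_mem_graded hd (f r l).2) (by omega), zero_smul]
    · intro hnot
      exfalso
      apply hnot
      rw [Finset.mem_range]
      omega

theorem sign_aux (a b : ℤ) (h : Even (a + b)) :
    (-1 : K) ^ a.natAbs * (-1 : K) ^ (a.natAbs * b.natAbs) = 1 := by
  rcases Int.even_or_odd a with ha | ha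
  · have h1 : Even a.natAbs := Int.natAbs_even.mpr ha
    rw [Even.neg_one_pow h1, Even.neg_one_pow (Even.mul_right h1 _), one_mul]
  · have hb : Odd b := by
      rcases Int.even_or_odd b with hb | hb
      · exfalso
        have : Odd (a + b) := ha.add_even hb
        exact (Int.not_even_iff_odd.mpr this) h
      · exact hb
    have h1 : Odd a.natAbs := Int.natAbs_odd.mpr ha
    have h2 : Odd b.natAbs := Int.natAbs_odd.mpr hb
    rw [Odd.neg_one_pow h1, Odd.neg_one_pow (h1.mul h2)]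
    norm_num


/-- Let `H` be a Weil cohomology theory with coefficients in a field `K` of characteristic zero on
nonsingular connected projective varieties over an algebraically closed field `k`; let `X`, `Y` be
such varieties, `P` a product `X × Y` with projections `p`, `q`, `P'` a product `Y × X` with
projections `p'`, `q'`, and `σ : P ⟶ P'` the swap (`σ p' = q`, `σ q' = p`). For an integer `r`, a
class `φ ∈ H^{2 dim X + r}(P)` acts as the degree-`r` correspondence `x ↦ q_*(p^* x ∪ φ)` from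
`H•(X)` to `H•(Y)`, and `ψ ∈ H^{2 dim Y − r}(P')` as the degree-`(−r)` correspondence `y ↦ q'_*(p'^*
y ∪ ψ)` back. Then `Tr_P(φ ∪ σ^* ψ) = Σ_{i=0}^{2 dim X} (−1)^i tr(ψ ∘ φ | H^i(X))`. The hypothesis
`hdim` is the arithmetic identity expressing `dim P = dim P' = dim X + dim Y` in the form needed to
read the composite `ψ ∘ φ` as an endomorphism of each `H^i(X)` (the push-forward maps are indexed by
the dimensions of the underlying spaces). (The published lemma defines the action of a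
correspondence through the Künneth and Poincaré duality identifications `Hom^r(H•X, H•Y) = H^{2 dim
X + r}(X × Y)` and the transpose through the same identifications; here the action is written as
pull-back, cup product and push-forward, and the transpose as pull-back along the swap, which the
published text identifies with it.) (The published lemma is stated for smooth projective varieties
over an arbitrary base field, pure of their dimensions, with Tate twists; this row is its case of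
connected varieties over an algebraically closed field, without twists.) -/
theorem result (k : Type u) [Field k] [IsAlgClosed k] (K : Type v) [Field K] [CharZero K]
    (T : WeilCoh.Theory k K) (X Y P P' : WeilCoh.Var k)
    (p : P ⟶ X) (q : P ⟶ Y) (hP : WeilCoh.IsProd p q)
    (p' : P' ⟶ Y) (q' : P' ⟶ X) (hP' : WeilCoh.IsProd p' q')
    (σ : P ⟶ P') (hσ₁ : σ ≫ p' = q) (hσ₂ : σ ≫ q' = p) (r : ℤ)
    (hdim : ∀ i : ℤ, ((i + (2 * (WeilCoh.dim X.obj.left : ℤ) + r) + 2 * (WeilCoh.dim Y.obj.left : ℤ) - 2 * (WeilCoh.dim P.obj.left : ℤ)) + (2 * (WeilCoh.dim Y.obj.left : ℤ) - r) + 2 * (WeilCoh.dim X.obj.left : ℤ) - 2 * (WeilCoh.dim P'.obj.left : ℤ)) = i)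
    (φ : ↥(T.gr P (2 * (WeilCoh.dim X.obj.left : ℤ) + r))) (ψ : ↥(T.gr P' (2 * (WeilCoh.dim Y.obj.left : ℤ) - r))) :
    T.tr P ((φ : T.H P) * T.pull σ (ψ : T.H P')) =
      ∑ i ∈ Finset.range (2 * WeilCoh.dim X.obj.left + 1),
        (-1 : K) ^ i * LinearMap.trace K ↥(T.gr X (i : ℤ))
          ((LinearEquiv.ofEq (T.gr X (((i : ℤ) + (2 * (WeilCoh.dim X.obj.left : ℤ) + r) + 2 * (WeilCoh.dim Y.obj.left : ℤ) - 2 * (WeilCoh.dim P.obj.left : ℤ)) + (2 * (WeilCoh.dim Y.obj.left : ℤ) - r) + 2 * (WeilCoh.dim X.obj.left : ℤ) - 2 * (WeilCoh.dim P'.obj.left : ℤ))) (T.gr X (i : ℤ)) (congrArg (T.gr X) (hdim (i : ℤ)))).toLinearMap ∘ₗ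
            ((T.push q' (((i : ℤ) + (2 * (WeilCoh.dim X.obj.left : ℤ) + r) + 2 * (WeilCoh.dim Y.obj.left : ℤ) - 2 * (WeilCoh.dim P.obj.left : ℤ)) + (2 * (WeilCoh.dim Y.obj.left : ℤ) - r))) ∘ₗ ((LinearMap.mulRight K (ψ : T.H P')).restrict (p := T.gr P' ((i : ℤ) + (2 * (WeilCoh.dim X.obj.left : ℤ) + r) + 2 * (WeilCoh.dim Y.obj.left : ℤ) - 2 * (WeilCoh.dim P.obj.left : ℤ))) (q := T.gr P' (((i : ℤ) + (2 * (WeilCoh.dim X.obj.left : ℤ) + r) + 2 * (WeilCoh.dim Y.obj.left : ℤ) - 2 * (WeilCoh.dim P.obj.left : ℤ)) + (2 * (WeilCoh.dim Y.obj.left : ℤ) - r))) (fun y hy => SetLike.mul_mem_graded hy ψ.2)) ∘ₗ (T.pullDeg p' ((i : ℤ) + (2 * (WeilCoh.dim X.obj.left : ℤ) + r) + 2 * (WeilCoh.dim Y.obj.left : ℤ) - 2 * (WeilCoh.dim P.obj.left : ℤ)))) ∘ₗ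
            ((T.push q ((i : ℤ) + (2 * (WeilCoh.dim X.obj.left : ℤ) + r))) ∘ₗ ((LinearMap.mulRight K (φ : T.H P)).restrict (p := T.gr P (i : ℤ)) (q := T.gr P ((i : ℤ) + (2 * (WeilCoh.dim X.obj.left : ℤ) + r))) (fun x hx => SetLike.mul_mem_graded hx φ.2)) ∘ₗ (T.pullDeg p (i : ℤ)))) := by
  classical
  -- bases and dual families
  let ι : ℕ → Type := fun r => Fin (Module.finrank K ↥(T.gr X (r : ℤ)))
  let e : (r : ℕ) → Module.Basis (ι r) K ↥(T.gr X (r : ℤ)) := fun r =>
    Module.finBasis K ↥(T.gr X (r : ℤ))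
  let f : (r : ℕ) → ι r → ↥(T.gr X (2 * (WeilCoh.dim X.obj.left : ℤ) - r)) := fun r l =>
    Groth.Agent.S15450.dualFam T X (r : ℤ) (2 * (WeilCoh.dim X.obj.left : ℤ) - r) (by ring) (e r) l
  have hef : ∀ r, ∀ i l : ι r,
      T.tr X ((f r l : T.H X) * (e r i : T.H X)) = if i = l then 1 else 0 :=
    fun r i l => Groth.Agent.S15450.dualFam_spec T X (r : ℤ) _ (by ring) (e r) i l
  -- Step 2: the Künneth computation, for an arbitrary class on `P'`
  have key : ∀ ψ' : T.H P',
      ∑ i ∈ Finset.range (2 * WeilCoh.dim X.obj.left + 1), ∑ l : ι i,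
        T.tr P' (T.pull p' (corr T p q (i : ℤ) _ φ (e i l) : T.H Y) * ψ' *
          T.pull q' (f i l : T.H X)) = T.tr P ((φ : T.H P) * T.pull σ ψ') := by
    intro ψ'
    refine Groth.Agent.Lib.H73WeilLef.kunneth_induction T p' q' hP' (fun ψ' =>
      ∑ i ∈ Finset.range (2 * WeilCoh.dim X.obj.left + 1), ∑ l : ι i,
        T.tr P' (T.pull p' (corr T p q (i : ℤ) _ φ (e i l) : T.H Y) * ψ' *
          T.pull q' (f i l : T.H X)) = T.tr P ((φ : T.H P) * T.pull σ ψ')) ?_ ?_ ?_ ψ'
    · simp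
    · intro x y hx hy
      simp only [map_add, mul_add, add_mul, Finset.sum_add_distrib, hx, hy]
    · intro u v c d hc hd
      have e1 : T.pull σ (T.pull p' c) = T.pull q c := by
        rw [← AlgHom.comp_apply, ← T.pull_comp, hσ₁]
      have e2 : T.pull σ (T.pull q' d) = T.pull p d := by
        rw [← AlgHom.comp_apply, ← T.pull_comp, hσ₂]
      rw [map_mul (T.pull σ), e1, e2]
      have hterm : ∀ (i : ℕ) (l : ι i),
          T.tr P' (T.pull p' (corr T p q (i : ℤ) _ φ (e i l) : T.H Y) * (T.pull p' c * T.pull q' d) *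
            T.pull q' (f i l : T.H X)) =
          T.tr P (T.pull p (T.tr X (d * (f i l : T.H X)) • (e i l : T.H X)) * (φ : T.H P) *
            T.pull q c) := by
        intro i l
        have h1 : T.pull p' (corr T p q (i : ℤ) _ φ (e i l) : T.H Y) * (T.pull p' c * T.pull q' d) *
            T.pull q' (f i l : T.H X) =
            T.pull p' ((corr T p q (i : ℤ) _ φ (e i l) : T.H Y) * c) *
              T.pull q' (d * (f i l : T.H X)) := by
          simp only [map_mul, mul_assoc]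
        rw [h1, Groth.Agent.Lib.H73WeilLef.tr_prod' T p' q' hP', tr_corr_mul T p q _ _ φ _ c u hc,
          map_smul, smul_mul_assoc, smul_mul_assoc, map_smul, smul_eq_mul, mul_comm]
      simp only [hterm]
      simp only [← map_sum, ← Finset.sum_mul]
      rw [expand T ι e f hef v d hd, map_smul, smul_mul_assoc, smul_mul_assoc, map_smul,
        smul_eq_mul]
      -- now commute `p^* d` to the right
      have hmem : (φ : T.H P) * T.pull q c ∈ T.gr P (2 * (WeilCoh.dim X.obj.left : ℤ) + r + u) :=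
        SetLike.mul_mem_graded φ.2 (T.pull_mem q u c hc)
      by_cases hdeg : v + (2 * (WeilCoh.dim X.obj.left : ℤ) + r + u) =
          2 * (WeilCoh.dim P.obj.left : ℤ)
      · have hc' := T.gradedComm P v _ (T.pull p d) ((φ : T.H P) * T.pull q c)
          (T.pull_mem p v d hd) hmem
        rw [mul_assoc, hc', map_smul, smul_eq_mul, ← mul_assoc, ← mul_assoc,
          sign_aux v _ ⟨(WeilCoh.dim P.obj.left : ℤ), by omega⟩, one_mul]
      · rw [mul_assoc, T.tr_vanish P _ _ (SetLike.mul_mem_graded (T.pull_mem p v d hd) hmem) hdeg,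
          mul_zero, ← mul_assoc]
        have hmem' := SetLike.mul_mem_graded hmem (T.pull_mem p v d hd)
        rw [T.tr_vanish P _ _ hmem' (by omega)]
  -- Step 1: rewrite the traces
  rw [← key (ψ : T.H P')]
  refine Finset.sum_congr rfl fun i hi => ?_
  have hi' : i ≤ 2 * WeilCoh.dim X.obj.left := by
    rw [Finset.mem_range] at hi; omega
  rw [trace_eq_sum T (i : ℤ) _ (e i) (f i) (hef i), Finset.mul_sum]
  refine Finset.sum_congr rfl fun l _ => ?_
  have hM := hdim (i : ℤ)
  change _ = (-1 : K) ^ i * T.tr X ((f i l : T.H X) *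
    (T.push q' _ ⟨T.pull p' (corr T p q (i : ℤ) _ φ (e i l) : T.H Y) * (ψ : T.H P'),
      SetLike.mul_mem_graded (T.pull_mem p' _ _ (corr T p q (i : ℤ) _ φ (e i l)).2) ψ.2⟩ : T.H X))
  have hw := Groth.Agent.Lib.WeilCohPush.push_mem T q' _
    (⟨T.pull p' (corr T p q (i : ℤ) _ φ (e i l) : T.H Y) * (ψ : T.H P'),
      SetLike.mul_mem_graded (T.pull_mem p' _ _ (corr T p q (i : ℤ) _ φ (e i l)).2) ψ.2⟩ :
      ↥(T.gr P' _)) (i : ℤ) (by omega)
  have hc := T.gradedComm X (2 * (WeilCoh.dim X.obj.left : ℤ) - i) (i : ℤ) (f i l : T.H X) _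
    (f i l).2 hw
  rw [hc, map_smul, smul_eq_mul,
    Groth.Agent.Lib.WeilCohPush.tr_push_mul' T q' _ _ (f i l : T.H X)
      (2 * (WeilCoh.dim X.obj.left : ℤ) - i) (by omega) (f i l).2]
  have h1 : (2 * (WeilCoh.dim X.obj.left : ℤ) - i).natAbs = 2 * WeilCoh.dim X.obj.left - i := by
    omega
  rw [h1, Int.natAbs_natCast, mul_comm (2 * WeilCoh.dim X.obj.left - i) i,
    Groth.Agent.S15450.neg_one_pow_sub i _ hi', ← mul_assoc, ← pow_add,
    Even.neg_one_pow ⟨i, rfl⟩, one_mul]

end Groth.Agent.S15748
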