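import Groth.Statements.S15749
import Mathlib.Tactic
-- import your own Groth.Agent.* helpers here

set_option autoImplicit false
universe u
open CAlg

namespace Groth.Agent.S15749

open PowerSeries in
/-- An idempotent power series with zero constant coefficient vanishes. -/
theorem ps_idem_zero {R : Type*} [CommRing R] (φ : PowerSeries R) (h : φ * φ = φ)
    (h0 : PowerSeries.constantCoeff φ = 0) : φ = 0 := by
  ext n
  induction n using Nat.strong_induction_on with
  | _ n ih =>
    rw [map_zero, ← h, PowerSeries.coeff_mul]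
    apply Finset.sum_eq_zero
    rintro ⟨i, j⟩ hij
    rw [Finset.HasAntidiagonal.mem_antidiagonal] at hij
    simp only at hij ⊢
    by_cases hi : i < n
    · have := ih i hi
      rw [map_zero] at this
      rw [this, zero_mul]
    · have hj : j = 0 := by omega
      subst hj
      rw [PowerSeries.coeff_zero_eq_constantCoeff_apply, h0, mul_zero]

open PowerSeries in
/-- An idempotent power series is constant. -/
theorem ps_idem_const {R : Type*} [CommRing R] (ψ : PowerSeries R) (h : ψ * ψ = ψ) :
    ψ = PowerSeries.C (PowerSeries.constantCoeff ψ) := by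
  set c := PowerSeries.constantCoeff ψ with hc
  have hcc : c * c = c := by
    rw [hc, ← map_mul, h]
  have h1 : ψ * (1 - PowerSeries.C c) = 0 := by
    apply ps_idem_zero
    · have hC : (PowerSeries.C c : PowerSeries R) * PowerSeries.C c = PowerSeries.C c := by
        rw [← map_mul, hcc]
      linear_combination (1 - PowerSeries.C c) * (1 - PowerSeries.C c) * h +
        (ψ) * hC
    · rw [map_mul, map_sub, map_one, PowerSeries.constantCoeff_C, ← hc]
      linear_combination -hcc
  have h2 : (1 - ψ) * PowerSeries.C c = 0 := by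
    apply ps_idem_zero
    · have hC : (PowerSeries.C c : PowerSeries R) * PowerSeries.C c = PowerSeries.C c := by
        rw [← map_mul, hcc]
      linear_combination (PowerSeries.C c) * (PowerSeries.C c) * h +
        (1 - ψ) * hC
    · rw [map_mul, map_sub, map_one, PowerSeries.constantCoeff_C, ← hc]
      linear_combination -hcc
  linear_combination h1 - h2

open PowerSeries in
/-- Key lemma: `ψ² = X^M ψ` forces `ψ = C r * X^M`. -/
theorem ps_key (M : ℕ) : ∀ (R : Type u) [CommRing R] (ψ : PowerSeries R),
    ψ * ψ = PowerSeries.X ^ M * ψ → ∃ r : R, ψ = PowerSeries.C r * PowerSeries.X ^ M := by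
  induction M with
  | zero =>
    intro R _ ψ h
    rw [pow_zero, one_mul] at h
    exact ⟨_, by rw [pow_zero, mul_one]; exact ps_idem_const ψ h⟩
  | succ M ih =>
    intro R _ ψ h
    set a := PowerSeries.constantCoeff ψ with ha
    have haa : a * a = 0 := by
      have := congrArg PowerSeries.constantCoeff h
      rw [map_mul, map_mul, map_pow, PowerSeries.constantCoeff_X, zero_pow (Nat.succ_ne_zero M),
        zero_mul] at this
      exact this
    set π := Ideal.Quotient.mk (Ideal.span {a}) with hπ
    set ψb := PowerSeries.map π ψ with hψb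
    have hψb0 : PowerSeries.constantCoeff ψb = 0 := by
      rw [hψb, ← PowerSeries.coeff_zero_eq_constantCoeff_apply, PowerSeries.coeff_map,
        PowerSeries.coeff_zero_eq_constantCoeff_apply, ← ha, hπ, Ideal.Quotient.eq_zero_iff_mem]
      exact Ideal.mem_span_singleton_self a
    obtain ⟨χ, hχ⟩ : PowerSeries.X ∣ ψb := PowerSeries.X_dvd_iff.2 hψb0
    have hb : ψb * ψb = PowerSeries.X ^ (M + 1) * ψb := by
      have := congrArg (PowerSeries.map π) h
      rw [map_mul, map_mul, map_pow, PowerSeries.map_X] at this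
      exact this
    have hχχ : χ * χ = PowerSeries.X ^ M * χ := by
      apply PowerSeries.X_pow_mul_cancel (k := 2)
      rw [hχ] at hb
      linear_combination hb
    obtain ⟨rb, hrb⟩ := ih _ χ hχχ
    obtain ⟨r, rfl⟩ := Ideal.Quotient.mk_surjective rb
    set T : PowerSeries R := PowerSeries.X ^ (M + 1) with hT
    set ν := ψ - PowerSeries.C r * T with hν
    have hνmap : PowerSeries.map π ν = 0 := by
      rw [hν, map_sub, map_mul, ← hψb, hχ, hrb, hT, map_pow, PowerSeries.map_X, PowerSeries.map_C]
      ring
    have hνcoeff : ∀ n, ∃ m : R, PowerSeries.coeff n ν = a * m := by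
      intro n
      have := congrArg (PowerSeries.coeff n) hνmap
      rw [PowerSeries.coeff_map, map_zero, hπ, Ideal.Quotient.eq_zero_iff_mem,
        Ideal.mem_span_singleton] at this
      obtain ⟨m, hm⟩ := this
      exact ⟨m, hm⟩
    choose μ hμ using hνcoeff
    have hνeq : ν = PowerSeries.C a * PowerSeries.mk μ := by
      ext n
      rw [hμ n, PowerSeries.coeff_C_mul, PowerSeries.coeff_mk]
    have hνν : ν * ν = 0 := by
      have : (PowerSeries.C a : PowerSeries R) * PowerSeries.C a = 0 := by
        rw [← map_mul, haa, map_zero]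
      rw [hνeq]
      linear_combination (PowerSeries.mk μ * PowerSeries.mk μ) * this
    have hψ : ψ = PowerSeries.C r * T + ν := by rw [hν]; ring
    set ρ : PowerSeries R := PowerSeries.C r with hρ
    -- (*) (ρ² - ρ) T = (1 - 2ρ) ν
    have hstar : (ρ * ρ - ρ) * T = (1 - 2 * ρ) * ν := by
      apply PowerSeries.X_pow_mul_cancel (k := M + 1)
      rw [← hT]
      rw [hψ] at h
      linear_combination h - hνν
    have hstar2 : (ρ * ρ - ρ) * ν = 0 := by
      apply PowerSeries.X_pow_mul_cancel (k := M + 1)
      rw [← hT, mul_zero]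
      linear_combination ν * hstar + (1 - 2 * ρ) * hνν
    refine ⟨r + (r * r - r) * (1 - 2 * r), ?_⟩
    rw [hψ]
    have : (PowerSeries.C (r + (r * r - r) * (1 - 2 * r)) : PowerSeries R)
        = ρ + (ρ * ρ - ρ) * (1 - 2 * ρ) := by
      simp only [map_add, map_mul, map_sub, map_one, hρ]
      rw [map_ofNat]
    rw [this]
    linear_combination (-(1 - 2 * ρ)) * hstar - 4 * hstar2

/-- For an arbitrary commutative ring R, every idempotent of the ring of formal Laurent series R((t)) is
the constant series attached to a unique idempotent of R. Equivalently, the structure map R → R((t))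
induces a bijection on idempotents, so that the spectrum of R((t)) is connected if and only if the
spectrum of R is. No reducedness is assumed. -/
theorem result (R : Type u) [CommRing R]
    (e : LaurentSeries R) (he : IsIdempotentElem e) :
    ∃! r : R, IsIdempotentElem r ∧ HahnSeries.C r = e := by
  classical
  -- write e = t^{-M} * ψ
  have hrep : ∃ (M : ℕ) (ψ : PowerSeries R),
      e = HahnSeries.single (-(M : ℤ)) (1 : R) * HahnSeries.ofPowerSeries ℤ R ψ := by
    have h := LaurentSeries.single_order_mul_powerSeriesPart e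
    refine ⟨(-e.order).toNat, PowerSeries.X ^ (e.order.toNat) * e.powerSeriesPart, ?_⟩
    rw [map_mul, HahnSeries.ofPowerSeries_X_pow, ← mul_assoc, HahnSeries.single_mul_single, mul_one]
    have : (-(((-e.order).toNat : ℕ) : ℤ) + ((e.order.toNat : ℕ) : ℤ)) = e.order := by omega
    rw [this]
    exact h.symm
  obtain ⟨M, ψ, hψ⟩ := hrep
  have hinv : HahnSeries.single ((M : ℕ) : ℤ) (1 : R) * HahnSeries.single (-(M : ℤ)) (1 : R)
      = (1 : LaurentSeries R) := by
    rw [HahnSeries.single_mul_single, mul_one, add_neg_cancel]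
    rfl
  have hψψ : ψ * ψ = PowerSeries.X ^ M * ψ := by
    apply HahnSeries.ofPowerSeries_injective (Γ := ℤ)
    rw [map_mul, map_mul, HahnSeries.ofPowerSeries_X_pow]
    have he' : e * e = e := he
    rw [hψ] at he'
    have h2 : HahnSeries.single ((M : ℕ) : ℤ) (1 : R) * HahnSeries.single ((M : ℕ) : ℤ) (1 : R) *
          (HahnSeries.single (-(M : ℤ)) 1 * HahnSeries.ofPowerSeries ℤ R ψ *
            (HahnSeries.single (-(M : ℤ)) 1 * HahnSeries.ofPowerSeries ℤ R ψ)) =
        HahnSeries.single ((M : ℕ) : ℤ) (1 : R) * HahnSeries.single ((M : ℕ) : ℤ) (1 : R) *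
          (HahnSeries.single (-(M : ℤ)) 1 * HahnSeries.ofPowerSeries ℤ R ψ) := by
      rw [he']
    calc HahnSeries.ofPowerSeries ℤ R ψ * HahnSeries.ofPowerSeries ℤ R ψ
        = (HahnSeries.single ((M : ℕ) : ℤ) (1 : R) * HahnSeries.single (-(M : ℤ)) (1 : R)) *
          (HahnSeries.single ((M : ℕ) : ℤ) (1 : R) * HahnSeries.single (-(M : ℤ)) (1 : R)) *
          (HahnSeries.ofPowerSeries ℤ R ψ * HahnSeries.ofPowerSeries ℤ R ψ) := by
          rw [hinv, one_mul, one_mul]
      _ = HahnSeries.single ((M : ℕ) : ℤ) (1 : R) * HahnSeries.single ((M : ℕ) : ℤ) (1 : R) *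
          (HahnSeries.single (-(M : ℤ)) 1 * HahnSeries.ofPowerSeries ℤ R ψ *
            (HahnSeries.single (-(M : ℤ)) 1 * HahnSeries.ofPowerSeries ℤ R ψ)) := by ring
      _ = HahnSeries.single ((M : ℕ) : ℤ) (1 : R) * HahnSeries.single ((M : ℕ) : ℤ) (1 : R) *
          (HahnSeries.single (-(M : ℤ)) 1 * HahnSeries.ofPowerSeries ℤ R ψ) := h2
      _ = HahnSeries.single ((M : ℕ) : ℤ) (1 : R) *
          ((HahnSeries.single ((M : ℕ) : ℤ) (1 : R) * HahnSeries.single (-(M : ℤ)) (1 : R)) *
            HahnSeries.ofPowerSeries ℤ R ψ) := by ring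
      _ = HahnSeries.single ((M : ℕ) : ℤ) (1 : R) * HahnSeries.ofPowerSeries ℤ R ψ := by
          rw [hinv, one_mul]
  obtain ⟨r, hr⟩ := ps_key M R ψ hψψ
  have her : HahnSeries.C r = e := by
    rw [hψ, hr, map_mul, HahnSeries.ofPowerSeries_X_pow, HahnSeries.ofPowerSeries_C]
    calc (HahnSeries.C r : LaurentSeries R)
        = HahnSeries.C r * (HahnSeries.single ((M : ℕ) : ℤ) (1 : R) *
            HahnSeries.single (-(M : ℤ)) (1 : R)) := by rw [hinv, mul_one]
      _ = _ := by ring
  refine ⟨r, ⟨?_, her⟩, ?_⟩
  · apply HahnSeries.C_injective (Γ := ℤ)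
    rw [map_mul, her]
    exact he
  · rintro r' ⟨-, hr'⟩
    apply HahnSeries.C_injective (Γ := ℤ)
    rw [hr', her]

end Groth.Agent.S15749
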