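import Groth.Statements.S15750
import Mathlib.Tactic
import Mathlib.RingTheory.Nilpotent.Lemmas
import Mathlib.RingTheory.PowerSeries.Inverse
-- import your own Groth.Agent.* helpers here

set_option autoImplicit false
universe u
open CAlg

namespace Groth.Agent.S15750

theorem perPrime {R : Type u} [CommRing R] (f g : LaurentSeries R) (hfg : f * g = 1)
    (𝔭 : Ideal R) [𝔭.IsPrime] :
    ∃ n : ℤ, (∀ i < n, f.coeff i ∈ 𝔭) ∧ (∀ j < -n, g.coeff j ∈ 𝔭) ∧
      f.coeff n * g.coeff (-n) - 1 ∈ 𝔭 := by
  set π : R →ₙ+* R ⧸ 𝔭 := (Ideal.Quotient.mk 𝔭).toNonUnitalRingHom with hπ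
  have hπa : ∀ x, π x = Ideal.Quotient.mk 𝔭 x := fun _ => rfl
  set fb : LaurentSeries (R ⧸ 𝔭) := f.map π with hfb
  set gb : LaurentSeries (R ⧸ 𝔭) := g.map π with hgb
  have h1 : ((1 : LaurentSeries R).map π) = (1 : LaurentSeries (R ⧸ 𝔭)) := by
    ext i
    simp only [HahnSeries.map_coeff, HahnSeries.coeff_one]
    split_ifs
    · rw [hπa, map_one]
    · rw [hπa, map_zero]
  have hb : fb * gb = 1 := by
    rw [hfb, hgb, ← HahnSeries.map_mul, hfg, h1]
  have hfb0 : fb ≠ 0 := by
    rintro h0
    rw [h0, zero_mul] at hb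
    exact zero_ne_one hb
  have hgb0 : gb ≠ 0 := by
    rintro h0
    rw [h0, mul_zero] at hb
    exact zero_ne_one hb
  have hlc : fb.leadingCoeff * gb.leadingCoeff ≠ 0 :=
    mul_ne_zero (HahnSeries.leadingCoeff_ne_zero.2 hfb0) (HahnSeries.leadingCoeff_ne_zero.2 hgb0)
  have hord : fb.order + gb.order = 0 := by
    rw [← HahnSeries.order_mul_of_ne_zero hlc, hb, HahnSeries.order_one]
  have hgo : gb.order = -fb.order := by omega
  refine ⟨fb.order, ?_, ?_, ?_⟩
  · intro i hi
    have := HahnSeries.coeff_eq_zero_of_lt_order hi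
    rw [hfb, HahnSeries.map_coeff, hπa, Ideal.Quotient.eq_zero_iff_mem] at this
    exact this
  · intro j hj
    rw [← hgo] at hj
    have := HahnSeries.coeff_eq_zero_of_lt_order hj
    rw [hgb, HahnSeries.map_coeff, hπa, Ideal.Quotient.eq_zero_iff_mem] at this
    exact this
  · have h2 := HahnSeries.coeff_mul_order_add_order fb gb
    rw [hb, hord, HahnSeries.coeff_one, if_pos rfl, HahnSeries.leadingCoeff_eq,
      HahnSeries.leadingCoeff_eq, hgo] at h2
    rw [← Ideal.Quotient.eq_zero_iff_mem, map_sub, map_mul, map_one, sub_eq_zero]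
    rw [hfb, hgb, HahnSeries.map_coeff, HahnSeries.map_coeff, hπa, hπa] at h2
    exact h2.symm

theorem key {R : Type u} [CommRing R] [IsReduced R] [Nontrivial R]
    (hconn : ∀ e : R, IsIdempotentElem e → e = 0 ∨ e = 1)
    (f g : LaurentSeries R) (hfg : f * g = 1) :
    ∃ n : ℤ, (∀ i < n, f.coeff i = 0) ∧ IsUnit (f.coeff n) := by
  have hidem : ∀ i : ℤ, IsIdempotentElem (f.coeff i * g.coeff (-i)) := by
    intro i
    have hnil : IsNilpotent ((f.coeff i * g.coeff (-i)) * (f.coeff i * g.coeff (-i) - 1)) := by
      rw [nilpotent_iff_mem_prime]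
      intro 𝔭 h𝔭
      obtain ⟨n, h1, h2, h3⟩ := perPrime f g hfg 𝔭
      rcases lt_trichotomy i n with hi | hi | hi
      · exact Ideal.mul_mem_right _ _ (Ideal.mul_mem_right _ _ (h1 i hi))
      · subst hi
        exact Ideal.mul_mem_left _ _ h3
      · exact Ideal.mul_mem_right _ _ (Ideal.mul_mem_left _ _ (h2 (-i) (by omega)))
    have := hnil.eq_zero
    unfold IsIdempotentElem
    linear_combination this
  obtain ⟨𝔪, h𝔪⟩ := Ideal.exists_maximal R
  have := h𝔪.isPrime
  obtain ⟨n₀, h1, h2, h3⟩ := perPrime f g hfg 𝔪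
  have hone : f.coeff n₀ * g.coeff (-n₀) = 1 := by
    rcases hconn _ (hidem n₀) with h0 | h0
    · exfalso
      rw [h0, zero_sub] at h3
      exact h𝔪.ne_top ((Ideal.eq_top_iff_one _).2 (by simpa using 𝔪.neg_mem h3))
    · exact h0
  refine ⟨n₀, ?_, IsUnit.of_mul_eq_one _ hone⟩
  intro i hi
  have hnil : IsNilpotent (f.coeff i) := by
    rw [nilpotent_iff_mem_prime]
    intro 𝔭 h𝔭
    obtain ⟨n, k1, k2, k3⟩ := perPrime f g hfg 𝔭
    have hn : n = n₀ := by
      rcases lt_trichotomy n₀ n with hlt | heq | hgt
      · exfalso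
        have := Ideal.mul_mem_right (g.coeff (-n₀)) 𝔭 (k1 n₀ hlt)
        rw [hone] at this
        exact h𝔭.ne_top ((Ideal.eq_top_iff_one _).2 this)
      · exact heq.symm
      · exfalso
        have := Ideal.mul_mem_left 𝔭 (f.coeff n₀) (k2 (-n₀) (by omega))
        rw [hone] at this
        exact h𝔭.ne_top ((Ideal.eq_top_iff_one _).2 this)
    subst hn
    exact k1 i hi
  exact hnil.eq_zero

/-- Let R be a nonzero reduced commutative ring with no idempotents other than 0 and 1. Then every unit
of the Laurent series ring R((t)) is t^n · u for a unique integer n and a unique unit u of the power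
series ring R[[t]]. (The published statement is for an arbitrary torus T over a reduced ring R, with
n replaced by a locally constant integer-valued function on Spec R, i.e. a point of the cocharacter
lattice; this row is the case where T is the multiplicative group and Spec R is connected, to which
the published proof reduces.) -/
theorem result (R : Type u) [CommRing R]
    [IsReduced R] [Nontrivial R] (hconn : ∀ e : R, IsIdempotentElem e → e = 0 ∨ e = 1)
    (f : (LaurentSeries R)ˣ) :
    ∃! p : ℤ × (PowerSeries R)ˣ,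
      (f : LaurentSeries R) = HahnSeries.single p.1 (1 : R) * HahnSeries.ofPowerSeries ℤ R (p.2 : PowerSeries R) := by
  classical
  have hfg : (f : LaurentSeries R) * ((f⁻¹ : (LaurentSeries R)ˣ) : LaurentSeries R) = 1 := by
    rw [← Units.val_mul, mul_inv_cancel, Units.val_one]
  obtain ⟨n, hlow, hun⟩ := key hconn (f : LaurentSeries R) _ hfg
  have hne : (f : LaurentSeries R).coeff n ≠ 0 := hun.ne_zero
  have hord : (f : LaurentSeries R).order = n := by
    apply le_antisymm (HahnSeries.order_le_of_coeff_ne_zero hne)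
    by_contra hlt
    rw [not_le] at hlt
    have h0 := hlow _ hlt
    rw [HahnSeries.coeff_order_eq_zero] at h0
    rw [h0] at hne
    exact hne (by simp)
  have hrep := LaurentSeries.single_order_mul_powerSeriesPart (f : LaurentSeries R)
  have hφu : IsUnit (LaurentSeries.powerSeriesPart (f : LaurentSeries R)) := by
    rw [PowerSeries.isUnit_iff_constantCoeff, ← PowerSeries.coeff_zero_eq_constantCoeff_apply,
      LaurentSeries.powerSeriesPart_coeff, hord]
    simpa using hun
  refine ⟨(n, hφu.unit), ?_, ?_⟩
  · simp only [IsUnit.unit_spec]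
    rw [← hord]
    exact hrep.symm
  · rintro ⟨n', u'⟩ h'
    simp only at h'
    have h'' : HahnSeries.single n (1 : R) * HahnSeries.ofPowerSeries ℤ R (hφu.unit : PowerSeries R)
        = HahnSeries.single n' (1 : R) * HahnSeries.ofPowerSeries ℤ R (u' : PowerSeries R) := by
      rw [← h', IsUnit.unit_spec, ← hord]
      exact hrep
    -- general uniqueness
    have uniq : ∀ (a b : ℤ) (v w : (PowerSeries R)ˣ), a ≤ b →
        HahnSeries.single a (1 : R) * HahnSeries.ofPowerSeries ℤ R (v : PowerSeries R)
          = HahnSeries.single b (1 : R) * HahnSeries.ofPowerSeries ℤ R (w : PowerSeries R) →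
        a = b ∧ v = w := by
      intro a b v w hab h
      obtain ⟨k, hk⟩ := Int.eq_ofNat_of_zero_le (sub_nonneg.2 hab)
      have hb : b = a + k := by omega
      have hv : (v : PowerSeries R) = PowerSeries.X ^ k * (w : PowerSeries R) := by
        apply HahnSeries.ofPowerSeries_injective (Γ := ℤ)
        rw [map_mul, HahnSeries.ofPowerSeries_X_pow]
        have hinv : HahnSeries.single (-a) (1 : R) * HahnSeries.single a (1 : R)
            = (1 : LaurentSeries R) := by
          rw [HahnSeries.single_mul_single, mul_one, neg_add_cancel]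
          rfl
        have hinv2 : HahnSeries.single (-a) (1 : R) * HahnSeries.single b (1 : R)
            = (HahnSeries.single (k : ℤ) (1 : R) : LaurentSeries R) := by
          rw [HahnSeries.single_mul_single, mul_one, hb, neg_add_cancel_left]
        calc HahnSeries.ofPowerSeries ℤ R (v : PowerSeries R)
            = (HahnSeries.single (-a) (1 : R) * HahnSeries.single a (1 : R)) *
                HahnSeries.ofPowerSeries ℤ R (v : PowerSeries R) := by rw [hinv, one_mul]
          _ = HahnSeries.single (-a) (1 : R) * (HahnSeries.single a (1 : R) *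
                HahnSeries.ofPowerSeries ℤ R (v : PowerSeries R)) := by ring
          _ = HahnSeries.single (-a) (1 : R) * (HahnSeries.single b (1 : R) *
                HahnSeries.ofPowerSeries ℤ R (w : PowerSeries R)) := by rw [h]
          _ = (HahnSeries.single (-a) (1 : R) * HahnSeries.single b (1 : R)) *
                HahnSeries.ofPowerSeries ℤ R (w : PowerSeries R) := by ring
          _ = _ := by rw [hinv2]
      have hk0 : k = 0 := by
        by_contra hk0
        have hvu : IsUnit (PowerSeries.constantCoeff (v : PowerSeries R)) :=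
          PowerSeries.isUnit_iff_constantCoeff.1 v.isUnit
        rw [hv, map_mul, map_pow, PowerSeries.constantCoeff_X, zero_pow hk0, zero_mul] at hvu
        exact not_isUnit_zero hvu
      subst hk0
      refine ⟨by omega, Units.ext ?_⟩
      rw [hv, pow_zero, one_mul]
    rcases le_total n n' with hle | hle
    · obtain ⟨e1, e2⟩ := uniq n n' _ _ hle h''
      rw [Prod.mk.injEq]
      exact ⟨e1.symm, e2.symm⟩
    · obtain ⟨e1, e2⟩ := uniq n' n _ _ hle h''.symm
      rw [Prod.mk.injEq]
      exact ⟨e1, e2⟩

end Groth.Agent.S15750
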