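import Groth.Statements.S15765
import Mathlib

set_option autoImplicit false
universe u
open CategoryTheory AlgebraicGeometry
open CAlg

namespace Groth.Agent.S15765

open AlgebraicGeometry CategoryTheory Topology Opposite

/-- approximation: a unit combination can be approximated by coefficients from a dense subring -/
theorem exists_approx (B : Type u) [CommRing B] [TopologicalSpace B]
    [IsTopologicalRing B] (hB : IsOpen {b : B | IsUnit b})
    (B₀ : Type u) [CommRing B₀] (φ : B₀ →+* B) (hφ : DenseRange φ) (n : ℕ)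
    (a b : Fin n → B) (hab : IsUnit (∑ i, a i * b i)) :
    ∃ c : Fin n → B₀, IsUnit (∑ i, φ (c i) * b i) := by
  let F : (Fin n → B) → B := fun x => ∑ i, x i * b i
  have hF : Continuous F :=
    continuous_finsetSum _ fun i _ => (continuous_apply i).mul continuous_const
  have hopen : IsOpen (F ⁻¹' {b : B | IsUnit b}) := hB.preimage hF
  have hdense : DenseRange (Pi.map (fun (_ : Fin n) => (φ : B₀ → B))) :=
    DenseRange.piMap fun _ => hφ
  obtain ⟨c, hc⟩ := hdense.exists_mem_open hopen ⟨a, hab⟩
  exact ⟨c, hc⟩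

theorem result' (B : Type u) [CommRing B] [TopologicalSpace B]
    [IsTopologicalRing B] (hB : IsOpen {b : B | IsUnit b})
    (B₀ : Type u) [CommRing B₀] (φ : B₀ →+* B) (hφ : DenseRange φ)
    (X : Scheme.{u}) [X.IsQuasiAffine] (p : X ⟶ Spec (CommRingCat.of B₀))
    (f : Spec (CommRingCat.of B) ⟶ X) (hf : f ≫ p = Spec.map (CommRingCat.ofHom φ)) :
    ∃ U : X.Opens, IsAffineOpen U ∧ Set.range f.base ⊆ (U : Set X) := by
  classical
  -- the ring maps
  let β : Γ(X, ⊤) →+* B :=
    ((Scheme.ΓSpecIso (CommRingCat.of B)).hom).hom.comp f.appTop.hom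
  let γ : B₀ →+* Γ(X, ⊤) :=
    p.appTop.hom.comp ((Scheme.ΓSpecIso (CommRingCat.of B₀)).inv).hom
  have hβγ : ∀ c, β (γ c) = φ c := by
    intro c
    have h1 : (Scheme.ΓSpecIso (CommRingCat.of B₀)).inv ≫ p.appTop ≫ f.appTop ≫
        (Scheme.ΓSpecIso (CommRingCat.of B)).hom = CommRingCat.ofHom φ := by
      have h2 : p.appTop ≫ f.appTop = (Spec.map (CommRingCat.ofHom φ)).appTop := by
        rw [← Scheme.Hom.comp_appTop, hf]
      rw [← Category.assoc p.appTop, h2, Scheme.ΓSpecIso_naturality, Iso.inv_hom_id_assoc]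
    have h3 := congrArg (fun g => g.hom c) h1
    simp only [CommRingCat.hom_comp, RingHom.coe_comp, Function.comp_apply,
      CommRingCat.hom_ofHom] at h3
    exact h3
  let R₀ : Set Γ(X, ⊤) := {r | IsAffineOpen (X.basicOpen r)}
  -- the images of affine basic sections generate the unit ideal of `B`
  have hspan : Ideal.span (β '' R₀) = ⊤ := by
    by_contra hne
    obtain ⟨m, hm, hle⟩ := Ideal.exists_le_maximal _ hne
    let y : Spec (CommRingCat.of B) := ⟨m, hm.isPrime⟩
    obtain ⟨_, ⟨_, ⟨r, hr, rfl⟩, rfl⟩, hxr, -⟩ :=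
      (Scheme.IsQuasiAffine.isBasis_basicOpen X).exists_subset_of_mem_open
        (Set.mem_univ (f.base y)) isOpen_univ
    have h1 : y ∈ f ⁻¹ᵁ X.basicOpen r := hxr
    rw [Scheme.preimage_basicOpen_top, basicOpen_eq_of_affine'] at h1
    have h2 : β r ∉ m := h1
    exact h2 (hle (Ideal.subset_span ⟨r, hr, rfl⟩))
  have h1mem : (1 : B) ∈ Submodule.span B (β '' R₀) := by
    have : (1 : B) ∈ Ideal.span (β '' R₀) := by rw [hspan]; trivial
    exact this
  obtain ⟨n, a, g, hag⟩ := Submodule.mem_span_set'.mp h1mem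
  choose rr hrr hrg using fun i => (g i).2
  have hunit0 : IsUnit (∑ i, a i * β (rr i)) := by
    have : ∑ i, a i * β (rr i) = 1 := by
      rw [← hag]
      refine Finset.sum_congr rfl fun i _ => ?_
      rw [hrg i, smul_eq_mul]
    rw [this]
    exact isUnit_one
  obtain ⟨c, hc⟩ := exists_approx B hB B₀ φ hφ n a (fun i => β (rr i)) hunit0
  let r : Γ(X, ⊤) := ∑ i, γ (c i) * rr i
  have hβr : β r = ∑ i, φ (c i) * β (rr i) := by
    simp only [r, map_sum, map_mul, hβγ]
  have hunit : IsUnit (f.appTop r) := by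
    have h1 : IsUnit (β r) := by rw [hβr]; exact hc
    have h2 : β r = (Scheme.ΓSpecIso (CommRingCat.of B)).hom (f.appTop r) := rfl
    rw [h2] at h1
    exact (isUnit_map_iff ((Scheme.ΓSpecIso (CommRingCat.of B)).commRingCatIsoToRingEquiv) _).mp h1
  refine ⟨X.basicOpen r, ?_, ?_⟩
  · -- affineness
    set U := X.basicOpen r with hU
    let res : Γ(X, ⊤) →+* Γ(X, U) := (X.presheaf.map (homOfLE le_top).op).hom
    refine isAffineOpen_of_isAffineOpen_basicOpen U (Set.range fun i => res (rr i)) ?_ ?_
    · apply Ideal.eq_top_of_isUnit_mem _ (x := res r)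
      · have : res r = ∑ i, res (γ (c i)) * res (rr i) := by
          simp only [r, map_sum, map_mul]
        rw [this]
        refine Ideal.sum_mem _ fun i _ => ?_
        exact Ideal.mul_mem_left _ _ (Ideal.subset_span ⟨i, rfl⟩)
      · exact X.toRingedSpace.isUnit_res_basicOpen r
    · rintro _ ⟨i, rfl⟩
      have h1 : X.basicOpen (res (rr i)) = U ⊓ X.basicOpen (rr i) :=
        Scheme.basicOpen_res _ _ _
      rw [h1, inf_comm]
      have h2 : X.basicOpen (X.presheaf.map (homOfLE (le_top : X.basicOpen (rr i) ≤ ⊤)).op r) =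
          X.basicOpen (rr i) ⊓ X.basicOpen r := Scheme.basicOpen_res _ _ _
      rw [← h2]
      exact IsAffineOpen.basicOpen (hrr i) _
  · rintro _ ⟨y, rfl⟩
    have h1 : f ⁻¹ᵁ X.basicOpen r = ⊤ := by
      rw [Scheme.preimage_basicOpen_top, Scheme.basicOpen_of_isUnit _ hunit]
    have : y ∈ f ⁻¹ᵁ X.basicOpen r := by rw [h1]; trivial
    exact this


/-- Let B be a topological ring in which the units form an open subset, B₀ → B a ring map with dense
image and X a quasi-affine scheme over B₀. Then the image of any B-point Spec B → X over B₀ is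
contained in an affine open of X. (The published statement allows X ind-quasi-affine, i.e. with all
quasi-compact opens quasi-affine; since a B-point lands in a quasi-compact open, this row's
quasi-affine case carries the content.) -/
theorem result (B : Type u) [CommRing B] [TopologicalSpace B]
    [IsTopologicalRing B] (hB : IsOpen {b : B | IsUnit b})
    (B₀ : Type u) [CommRing B₀] (φ : B₀ →+* B) (hφ : DenseRange φ)
    (X : Scheme.{u}) [X.IsQuasiAffine] (p : X ⟶ Spec (CommRingCat.of B₀))
    (f : Spec (CommRingCat.of B) ⟶ X) (hf : f ≫ p = Spec.map (CommRingCat.ofHom φ)) :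
    ∃ U : X.Opens, IsAffineOpen U ∧ Set.range f.base ⊆ (U : Set X) := by
  exact result' B hB B₀ φ hφ X p f hf

end Groth.Agent.S15765
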