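import Groth.Statements.S15768
import Groth.Agent.Lib.PairHenselizationProps
import Mathlib

set_option autoImplicit false
universe u
open Polynomial
open CAlg

namespace Groth.Agent.S15768

section laurent

variable (R : Type u) [CommRing R]

local notation "PS" => PowerSeries R
local notation "LP" => Localization.Away (PowerSeries.X : PowerSeries R)

theorem nilp_coeff_mul (p q : PowerSeries R) (hp : ∀ i, IsNilpotent (PowerSeries.coeff i p))
    (_hq : ∀ i, IsNilpotent (PowerSeries.coeff i q)) (i : ℕ) :
    IsNilpotent (PowerSeries.coeff i (p * q)) := by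
  rw [PowerSeries.coeff_mul, ← mem_nilradical]
  refine Ideal.sum_mem _ fun c _ => ?_
  exact Ideal.mul_mem_right _ _ (mem_nilradical.2 (hp c.1))

/-- `X ^ m - u` is a unit in `R⟦X⟧[1/X]` when all coefficients of `u` are nilpotent. -/
theorem isUnit_X_pow_sub (m : ℕ) (u : PowerSeries R) (hu : ∀ i, IsNilpotent (PowerSeries.coeff i u)) :
    IsUnit (algebraMap (PowerSeries R) LP (PowerSeries.X ^ m - u)) := by
  set w : PowerSeries R := PowerSeries.mk fun i => PowerSeries.coeff (i + m) u with hw
  set low : PowerSeries R := ((PowerSeries.trunc m u : R[X]) : PowerSeries R) with hlow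
  have hdec : u = w * PowerSeries.X ^ m + low := PowerSeries.eq_shift_mul_X_pow_add_trunc m u
  have hlownil : IsNilpotent low := by
    have : IsNilpotent (PowerSeries.trunc m u : R[X]) := by
      rw [Polynomial.isNilpotent_iff]
      intro i
      rw [PowerSeries.coeff_trunc]
      split_ifs
      · exact hu i
      · exact IsNilpotent.zero
    exact this.map (Polynomial.coeToPowerSeries.ringHom (R := R))
  have hunit1 : IsUnit (1 - w) := by
    rw [PowerSeries.isUnit_iff_constantCoeff]
    have : PowerSeries.constantCoeff (1 - w) = 1 - PowerSeries.coeff m u := by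
      rw [map_sub, map_one, ← PowerSeries.coeff_zero_eq_constantCoeff_apply, hw, PowerSeries.coeff_mk,
        zero_add]
    rw [this]
    exact (hu m).isUnit_one_sub
  have hX : IsUnit (algebraMap (PowerSeries R) LP PowerSeries.X) :=
    IsLocalization.Away.algebraMap_isUnit (PowerSeries.X : PowerSeries R)
  have heq : PowerSeries.X ^ m - u = (1 - w) * PowerSeries.X ^ m - low := by
    conv_lhs => rw [hdec]
    ring
  rw [heq, map_sub]
  have hU : IsUnit (algebraMap (PowerSeries R) LP ((1 - w) * PowerSeries.X ^ m)) := by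
    rw [map_mul, map_pow]
    exact (hunit1.map _).mul (hX.pow m)
  have hN : IsNilpotent (algebraMap (PowerSeries R) LP low) := hlownil.map _
  obtain ⟨v, hv⟩ := hU
  rw [← hv]
  have : (v : LP) - algebraMap (PowerSeries R) LP low =
      (v : LP) * (1 - (↑v⁻¹ : LP) * algebraMap (PowerSeries R) LP low) := by
    rw [mul_sub, mul_one, ← mul_assoc, Units.mul_inv, one_mul]
  rw [this]
  exact v.isUnit.mul (IsNilpotent.isUnit_one_sub ((Commute.all _ _).isNilpotent_mul_left hN))

theorem isNilpotent_of_forall_prime {x : R} (h : ∀ (p : Ideal R) [p.IsPrime], x ∈ p) :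
    IsNilpotent x := by
  rw [← mem_nilradical, nilradical_eq_sInf, Ideal.mem_sInf]
  intro p hp
  exact @h p hp

theorem coeff_of_idem (e : LP) (he : IsIdempotentElem e) (n : ℕ) (g : PowerSeries R)
    (hg : e * algebraMap (PowerSeries R) LP PowerSeries.X ^ n = algebraMap (PowerSeries R) LP g) :
    (∀ i, i ≠ n → IsNilpotent (PowerSeries.coeff i g)) ∧
      IsNilpotent (PowerSeries.coeff n g * (PowerSeries.coeff n g - 1)) := by
  have key : ∀ (p : Ideal R) [p.IsPrime], (∀ i, i ≠ n → PowerSeries.coeff i g ∈ p) ∧
      PowerSeries.coeff n g * (PowerSeries.coeff n g - 1) ∈ p := by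
    intro p _
    let κ := p.ResidueField
    let θ0 : PowerSeries R →+* PowerSeries κ := PowerSeries.map (algebraMap R κ)
    let Kp := FractionRing (PowerSeries κ)
    let θ : PowerSeries R →+* Kp := (algebraMap (PowerSeries κ) Kp).comp θ0
    have hθ0X : θ0 PowerSeries.X = PowerSeries.X := PowerSeries.map_X _
    have hθX : θ PowerSeries.X = algebraMap _ Kp (PowerSeries.X : PowerSeries κ) := by
      simp only [θ, RingHom.comp_apply, hθ0X]
    have hXne : (algebraMap (PowerSeries κ) Kp PowerSeries.X) ≠ 0 := by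
      rw [Ne, IsFractionRing.to_map_eq_zero_iff]; exact PowerSeries.X_ne_zero
    have hunit : IsUnit (θ PowerSeries.X) := by rw [hθX]; exact isUnit_iff_ne_zero.2 hXne
    let Θ : LP →+* Kp := IsLocalization.Away.lift (PowerSeries.X : PowerSeries R) hunit
    have hΘ : ∀ a, Θ (algebraMap (PowerSeries R) LP a) = θ a :=
      fun a => IsLocalization.Away.lift_eq _ hunit a
    have hid : IsIdempotentElem (Θ e) := he.map Θ
    have h01 : Θ e = 0 ∨ Θ e = 1 := IsIdempotentElem.iff_eq_zero_or_one.1 hid
    have h2 := congrArg Θ hg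
    rw [map_mul, map_pow, hΘ, hΘ] at h2
    have hinj : Function.Injective (algebraMap (PowerSeries κ) Kp) := IsFractionRing.injective _ _
    have hmem : ∀ x : R, algebraMap R κ x = 0 ↔ x ∈ p := fun x =>
      Ideal.algebraMap_residueField_eq_zero
    rcases h01 with h | h
    · rw [h, zero_mul] at h2
      have h3 : θ0 g = 0 := by
        apply hinj; rw [map_zero]; exact h2.symm
      have hc : ∀ i, PowerSeries.coeff i g ∈ p := by
        intro i
        rw [← hmem, ← PowerSeries.coeff_map, show PowerSeries.map (algebraMap R κ) g = θ0 g from rfl,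
          h3, map_zero]
      exact ⟨fun i _ => hc i, Ideal.mul_mem_right _ _ (hc n)⟩
    · rw [h, one_mul, hθX, ← map_pow] at h2
      have h3 : θ0 g = PowerSeries.X ^ n := by
        apply hinj; exact h2.symm
      have hc : ∀ i, algebraMap R κ (PowerSeries.coeff i g) = if i = n then 1 else 0 := by
        intro i
        rw [← PowerSeries.coeff_map, show PowerSeries.map (algebraMap R κ) g = θ0 g from rfl, h3,
          PowerSeries.coeff_X_pow]
      refine ⟨fun i hi => ?_, ?_⟩
      · rw [← hmem, hc i, if_neg hi]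
      · rw [← hmem, map_mul, map_sub, map_one, hc n, if_pos rfl, sub_self, mul_zero]
  exact ⟨fun i hi => isNilpotent_of_forall_prime R fun p _ => (key p).1 i hi,
    isNilpotent_of_forall_prime R fun p _ => (key p).2⟩

/-- Idempotents of `R⟦X⟧[1/X]` are constants. -/
theorem idem_laurent (e : LP) (he : IsIdempotentElem e) :
    ∃ f : R, IsIdempotentElem f ∧ e = algebraMap (PowerSeries R) LP (PowerSeries.C f) := by
  obtain ⟨n, g, hg⟩ := IsLocalization.Away.surj (PowerSeries.X : PowerSeries R) e
  obtain ⟨hne, hn⟩ := coeff_of_idem R e he n g hg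
  set c := PowerSeries.coeff n g with hc
  have hcid : IsIdempotentElem (Ideal.Quotient.mk (nilradical R) c) := by
    unfold IsIdempotentElem
    rw [← map_mul, ← sub_eq_zero, ← map_sub, Ideal.Quotient.eq_zero_iff_mem, mem_nilradical]
    have : c * c - c = c * (c - 1) := by ring
    rw [this]; exact hn
  obtain ⟨f, hf, hfc⟩ := exists_isIdempotentElem_eq_of_ker_isNilpotent
    (Ideal.Quotient.mk (nilradical R))
    (fun x hx => by rw [Ideal.mk_ker] at hx; exact mem_nilradical.1 hx) _ ⟨c, rfl⟩ hcid
  have hfc' : IsNilpotent (c - f) := by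
    rw [← mem_nilradical, ← Ideal.Quotient.eq]; exact hfc.symm
  refine ⟨f, hf, ?_⟩
  set T := algebraMap (PowerSeries R) LP PowerSeries.X with hT
  set φ := algebraMap (PowerSeries R) LP (PowerSeries.C f) with hφdef
  have hφ : IsIdempotentElem φ := (hf.map PowerSeries.C).map _
  set h : PowerSeries R := g - PowerSeries.C f * PowerSeries.X ^ n with hh
  have hhn : ∀ i, IsNilpotent (PowerSeries.coeff i h) := by
    intro i
    rw [hh, map_sub, PowerSeries.coeff_C_mul, PowerSeries.coeff_X_pow]
    by_cases hi : i = n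
    · subst hi; simpa using hfc'
    · simpa [hi] using hne i hi
  set d := e - φ with hd
  have hdT : d * T ^ n = algebraMap (PowerSeries R) LP h := by
    rw [hd, sub_mul, hg, hh, map_sub, map_mul, map_pow]
  have hd3 : d ^ 3 = d := by
    have h1 : e * e = e := he
    have h2 : φ * φ = φ := hφ
    rw [hd]
    linear_combination (e + 1 - 3 * φ) * h1 + (3 * e - φ - 1) * h2
  have hTu : IsUnit T := IsLocalization.Away.algebraMap_isUnit (PowerSeries.X : PowerSeries R)
  have hu : IsUnit ((1 - d ^ 2) * T ^ (2 * n)) := by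
    have : (1 - d ^ 2) * T ^ (2 * n) =
        algebraMap (PowerSeries R) LP (PowerSeries.X ^ (2 * n) - h * h) := by
      rw [map_sub, map_mul, ← hdT, map_pow]
      ring
    rw [this]
    exact isUnit_X_pow_sub R (2 * n) (h * h) (nilp_coeff_mul R h h hhn hhn)
  have hu' : IsUnit (1 - d ^ 2) := isUnit_of_mul_isUnit_left hu
  have hd0 : d * (1 - d ^ 2) = 0 := by
    have : d * (1 - d ^ 2) = d - d ^ 3 := by ring
    rw [this, hd3, sub_self]
  have : d = 0 := (hu'.mul_left_eq_zero).1 hd0
  rw [hd, sub_eq_zero] at this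
  exact this

end laurent

section main

variable (R : Type u) [CommRing R] (B : Type u) [CommRing B] [Algebra R[X] B]

theorem exists_psi (hB : Hens2.IsPairHenselization R[X] (Ideal.span {(X : R[X])}) B) :
    ∃ ψ : B →+* PowerSeries R,
      ψ.comp (algebraMap R[X] B) = (Polynomial.coeToPowerSeries.ringHom : R[X] →+* PowerSeries R) := by
  have hH : HenselianRing (PowerSeries R) (Ideal.span {PowerSeries.X}) := inferInstance
  obtain ⟨g, hg, -⟩ := hB.2 (PowerSeries R) (Ideal.span {PowerSeries.X})
    Polynomial.coeToPowerSeries.ringHom hH (by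
      rw [Ideal.map_span, Set.image_singleton]
      simp)
  exact ⟨g, hg⟩

variable {R B}

theorem dvd_of_psi (hB : Hens2.IsPairHenselization R[X] (Ideal.span {(X : R[X])}) B)
    (ψ : B →+* PowerSeries R)
    (hψ : ψ.comp (algebraMap R[X] B) = (Polynomial.coeToPowerSeries.ringHom : R[X] →+* PowerSeries R))
    (m : ℕ) (b : B) (hb : PowerSeries.X ^ m ∣ ψ b) : (algebraMap R[X] B X) ^ m ∣ b := by
  have hψa : ∀ a : R[X], ψ (algebraMap R[X] B a) = (a : PowerSeries R) := fun a =>
    RingHom.congr_fun hψ a
  obtain ⟨abar, habar⟩ := (Groth.Agent.Lib.PairHenselization.quotientMap_pow_bijective hB m).2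
    (Ideal.Quotient.mk _ b)
  obtain ⟨a, rfl⟩ := Ideal.Quotient.mk_surjective abar
  rw [Ideal.quotientMap_mk, Ideal.Quotient.eq, Ideal.span_singleton_pow, Ideal.map_span,
    Set.image_singleton, Ideal.mem_span_singleton, map_pow] at habar
  obtain ⟨c, hc⟩ := habar
  -- algebraMap a - b = t^m c
  have hb2 : b = algebraMap R[X] B a - (algebraMap R[X] B X) ^ m * c := by rw [← hc]; ring
  have h1 : PowerSeries.X ^ m ∣ (a : PowerSeries R) := by
    have : (a : PowerSeries R) = ψ b + PowerSeries.X ^ m * ψ c := by
      rw [hb2, map_sub, map_mul, map_pow, hψa, hψa, Polynomial.coe_X]; ring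
    rw [this]
    exact dvd_add hb (dvd_mul_right _ _)
  have h2 : (X : R[X]) ^ m ∣ a := by
    rw [Polynomial.X_pow_dvd_iff]
    intro d hd
    have := (PowerSeries.X_pow_dvd_iff.1 h1) d hd
    rwa [Polynomial.coeff_coe] at this
  rw [hb2]
  refine dvd_sub ?_ (dvd_mul_right _ _)
  obtain ⟨a', rfl⟩ := h2
  rw [map_mul, map_pow]
  exact dvd_mul_right _ _

end main


/-- For any ring R and a henselization B of R[t] along (t), every idempotent of B[1/t] comes from a
unique idempotent of R under R → R[t] → B → B[1/t]. -/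
theorem result (R : Type u) [CommRing R]
    (B : Type u) [CommRing B] [Algebra R[X] B] (hB : Hens2.IsPairHenselization R[X] (Ideal.span {(X : R[X])}) B)
    (e : Localization.Away (algebraMap R[X] B X)) (he : IsIdempotentElem e) :
    ∃! r : R, IsIdempotentElem r ∧
      algebraMap B (Localization.Away (algebraMap R[X] B X)) (algebraMap R[X] B (Polynomial.C r)) = e := by
  obtain ⟨ψ, hψ⟩ := exists_psi R B hB
  let ι := algebraMap (PowerSeries R) (Localization.Away (PowerSeries.X : PowerSeries R))
  have hψa : ∀ a : R[X], ψ (algebraMap R[X] B a) = (a : PowerSeries R) := fun a =>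
    RingHom.congr_fun hψ a
  have hψt : ψ (algebraMap R[X] B X) = PowerSeries.X := by rw [hψa, Polynomial.coe_X]
  have hun : IsUnit ((ι.comp ψ) (algebraMap R[X] B X)) := by
    rw [RingHom.comp_apply, hψt]
    exact IsLocalization.Away.algebraMap_isUnit _
  let Ψ : Localization.Away (algebraMap R[X] B X) →+* Localization.Away (PowerSeries.X : PowerSeries R) :=
    IsLocalization.Away.lift (algebraMap R[X] B X) hun
  have hΨ : ∀ b, Ψ (algebraMap B (Localization.Away (algebraMap R[X] B X)) b) = ι (ψ b) := fun b =>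
    IsLocalization.Away.lift_eq _ hun b
  have hιinj : Function.Injective ι := by
    apply IsLocalization.injective _ (M := Submonoid.powers (PowerSeries.X : PowerSeries R))
    intro x hx
    obtain ⟨k, rfl⟩ := hx
    rw [mem_nonZeroDivisors_iff]
    refine ⟨fun z hz => ?_, fun z hz => ?_⟩
    · exact PowerSeries.X_pow_mul_cancel (by rw [hz, mul_zero])
    · rw [mul_comm] at hz
      exact PowerSeries.X_pow_mul_cancel (by rw [hz, mul_zero])
  have key : ∀ e' : Localization.Away (algebraMap R[X] B X), IsIdempotentElem e' → Ψ e' = 0 → e' = 0 := by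
    intro e' he' h0
    obtain ⟨m, b', hb'⟩ := IsLocalization.Away.surj (algebraMap R[X] B X) e'
    have h1 : ι (ψ b') = 0 := by rw [← hΨ, ← hb', map_mul, h0, zero_mul]
    have h2 : ψ b' = 0 := hιinj (by rw [h1, map_zero])
    obtain ⟨b'', hb''⟩ := dvd_of_psi hB ψ hψ (m + 1) b' (by rw [h2]; exact dvd_zero _)
    set T := algebraMap B (Localization.Away (algebraMap R[X] B X)) (algebraMap R[X] B X) with hTdef
    have hT : IsUnit T := IsLocalization.Away.algebraMap_isUnit (algebraMap R[X] B X)
    have h3 : e' = T * algebraMap B (Localization.Away (algebraMap R[X] B X)) b'' := by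
      have : T ^ m * e' = T ^ m * (T * algebraMap B (Localization.Away (algebraMap R[X] B X)) b'') := by
        rw [mul_comm, hb', hb'', map_mul, map_pow]; ring
      exact (hT.pow m).mul_left_cancel this
    have hjac : (algebraMap R[X] B X) ∈ Ideal.jacobson (⊥ : Ideal B) :=
      hB.1.jac (Ideal.mem_map_of_mem _ (Ideal.subset_span rfl))
    have hunit : IsUnit (1 - (algebraMap R[X] B X) * b'') := by
      have := (Ideal.mem_jacobson_bot.1 hjac) (-b'')
      convert this using 1; ring
    have h4 : e' * (1 - e') = 0 := by rw [mul_sub, mul_one, he'.eq, sub_self]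
    have h5 : IsUnit (1 - e') := by
      rw [h3, hTdef, ← map_mul, ← map_one (algebraMap B (Localization.Away (algebraMap R[X] B X))), ← map_sub]
      exact hunit.map _
    exact (h5.mul_left_eq_zero).1 h4
  have hê : IsIdempotentElem (Ψ e) := he.map Ψ
  obtain ⟨f, hf, hef⟩ := idem_laurent R (Ψ e) hê
  set ε : Localization.Away (algebraMap R[X] B X) := algebraMap B (Localization.Away (algebraMap R[X] B X)) (algebraMap R[X] B (C f)) with hε0
  have hΨε : Ψ ε = Ψ e := by rw [hε0, hΨ, hψa, Polynomial.coe_C, hef]
  have hε : IsIdempotentElem ε := ((hf.map C).map _).map _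
  have he'id : IsIdempotentElem (e + ε - 2 * e * ε) := by
    unfold IsIdempotentElem
    have h1 : e * e = e := he
    have h2 : ε * ε = ε := hε
    linear_combination (1 + 4 * (ε * ε - ε)) * h1 + h2
  have hΨe' : Ψ (e + ε - 2 * e * ε) = 0 := by
    have h1 : Ψ e * Ψ e = Ψ e := hê
    rw [map_sub, map_add, map_mul, map_mul, hΨε, map_ofNat]
    linear_combination (-2) * h1
  have h0 := key _ he'id hΨe'
  have hee : e = ε := by
    have h1 : e * e = e := he
    have h2 : ε * ε = ε := hε
    have h3 : e = e * ε := by linear_combination e * h0 - (1 - 2 * ε) * h1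
    have h4 : ε = e * ε := by linear_combination ε * h0 - (1 - 2 * e) * h2
    rw [h3]; exact h4.symm
  refine ⟨f, ⟨hf, hee.symm⟩, ?_⟩
  rintro r ⟨-, hr⟩
  have h1 : Ψ (algebraMap B (Localization.Away (algebraMap R[X] B X)) (algebraMap R[X] B (C r))) = Ψ ε := by rw [hr, hee]
  rw [hΨ, hψa, hε0, hΨ, hψa, Polynomial.coe_C, Polynomial.coe_C] at h1
  exact PowerSeries.C_injective (hιinj h1)

end Groth.Agent.S15768
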