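import Groth.Statements.S1577
import Groth.Agent.Lib.QCohStalk

set_option autoImplicit false
universe u
open CategoryTheory CategoryTheory.Limits AlgebraicGeometry
open Divisors

namespace Groth.Agent.S1577

open Groth.Agent.Lib.QCohStalk

/-- Let X be locally Noetherian and F quasi-coherent. A point of the support of F which is not a
specialisation of a different point of the support is an associated point of F. -/
theorem result (X : Scheme.{u}) [IsLocallyNoetherian X]
    (F : X.Modules) (hF : Coh.IsQCoh F) (x : X) (hx : x ∈ CohB1.support F)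
    (hmax : ∀ y ∈ CohB1.support F, y ⤳ x → y = x) : Curv2.IsAssPoint F x := by
  have : F.IsQuasicoherent := hF
  obtain ⟨_, ⟨U, hU, rfl⟩, hxU, -⟩ :=
    X.isBasis_affineOpens.exists_subset_of_mem_open (Set.mem_univ x) isOpen_univ
  replace hU : IsAffineOpen U := hU
  replace hxU : x ∈ U := hxU
  -- a nonzero element of the stalk
  have hne : ¬ Subsingleton (F.presheaf.stalk x) := hx
  obtain ⟨m, hm⟩ : ∃ m : F.presheaf.stalk x, m ≠ 0 := by
    by_contra hcon
    push Not at hcon
    exact hne ⟨fun a b ↦ (hcon a).trans (hcon b).symm⟩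
  obtain ⟨g, s, hg, hgs⟩ := exists_germ_smul_eq_germ F hU x hxU m
  have hm' : F.presheaf.germ U x hxU s ≠ 0 := by
    rw [← hgs]
    intro h0
    apply hm
    obtain ⟨u, hu⟩ := hg
    have : (↑u⁻¹ : X.presheaf.stalk x) • (X.presheaf.germ U x hxU g • m) = 0 := by
      rw [h0, smul_zero]
    rwa [← hu, smul_smul, Units.inv_mul, one_smul] at this
  let := TopCat.Presheaf.algebra_section_stalk X.presheaf (⟨x, hxU⟩ : U)
  have hloc : IsLocalization.AtPrime (X.presheaf.stalk x) (hU.primeIdealOf ⟨x, hxU⟩).asIdeal :=
    hU.isLocalization_stalk ⟨x, hxU⟩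
  refine ⟨inferInstance, F.presheaf.germ U x hxU s, ?_⟩
  apply le_antisymm
  · rw [Ideal.radical_eq_sInf]
    apply le_sInf
    rintro Q ⟨hQ2, hQ1⟩
    -- the prime of the affine open under Q
    let q : Spec Γ(X, U) := ⟨Q.comap (algebraMap Γ(X, U) (X.presheaf.stalk x)), inferInstance⟩
    set p := hU.primeIdealOf ⟨x, hxU⟩ with hp
    have hpx : hU.fromSpec p = x := hU.fromSpec_primeIdealOf ⟨x, hxU⟩
    have hpmax : (IsLocalRing.maximalIdeal (X.presheaf.stalk x)).comap
        (algebraMap Γ(X, U) (X.presheaf.stalk x)) = p.asIdeal :=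
      IsLocalization.AtPrime.under_maximalIdeal (X.presheaf.stalk x) p.asIdeal
    have hqp : q.asIdeal ≤ p.asIdeal := by
      rw [← hpmax]
      exact Ideal.comap_mono (IsLocalRing.le_maximalIdeal hQ1.ne_top)
    set y := hU.fromSpec q with hy
    have hyU : y ∈ U := by
      have : y ∈ Set.range hU.fromSpec := ⟨q, rfl⟩
      rwa [hU.range_fromSpec] at this
    have hyx : y ⤳ x := by
      rw [← hpx]
      exact ((PrimeSpectrum.le_iff_specializes q p).mp hqp).map hU.fromSpec.continuous
    have hqy : hU.primeIdealOf ⟨y, hyU⟩ = q :=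
      hU.fromSpec.isOpenEmbedding.injective (hU.fromSpec_primeIdealOf ⟨y, hyU⟩)
    have hysupp : y ∈ CohB1.support F := by
      intro hsub
      have h0 : F.presheaf.germ U y hyU s = 0 := Subsingleton.elim _ _
      obtain ⟨g', hg', hg's⟩ := exists_smul_eq_zero_of_germ_eq_zero F hU y hyU s h0
      have hg'q : g' ∈ q.asIdeal := by
        show algebraMap Γ(X, U) (X.presheaf.stalk x) g' ∈ Q
        apply hQ2
        rw [Submodule.mem_colon_singleton, Submodule.mem_bot]
        show X.presheaf.germ U x hxU g' • F.presheaf.germ U x hxU s = 0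
        rw [← germ_smul, hg's, map_zero]
      let := TopCat.Presheaf.algebra_section_stalk X.presheaf (⟨y, hyU⟩ : U)
      have hlocy := hU.isLocalization_stalk ⟨y, hyU⟩
      have := (IsLocalization.AtPrime.isUnit_to_map_iff (X.presheaf.stalk y)
        (hU.primeIdealOf ⟨y, hyU⟩).asIdeal g').mp hg'
      rw [hqy] at this
      exact this hg'q
    have hyeq : y = x := hmax y hysupp hyx
    have hqeq : q = p := hU.fromSpec.isOpenEmbedding.injective (hyeq.trans hpx.symm)
    have hQ : Q = IsLocalRing.maximalIdeal (X.presheaf.stalk x) := by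
      have e1 := IsLocalization.map_under p.asIdeal.primeCompl (X.presheaf.stalk x) Q
      have e2 := IsLocalization.map_under p.asIdeal.primeCompl (X.presheaf.stalk x)
        (IsLocalRing.maximalIdeal (X.presheaf.stalk x))
      have e3 : Q.under Γ(X, U) = (IsLocalRing.maximalIdeal (X.presheaf.stalk x)).under Γ(X, U) :=
        (congrArg PrimeSpectrum.asIdeal hqeq).trans hpmax.symm
      rw [← e1, ← e2, e3]
    exact hQ.ge
  · have hprime : (IsLocalRing.maximalIdeal (X.presheaf.stalk x)).IsPrime := inferInstance
    rw [hprime.radical_le_iff]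
    apply IsLocalRing.le_maximalIdeal
    intro htop
    have : (1 : X.presheaf.stalk x) ∈ (⊥ : Submodule (X.presheaf.stalk x)
        (F.presheaf.stalk x)).colon {F.presheaf.germ U x hxU s} := by
      rw [htop]; exact Submodule.mem_top
    rw [Submodule.mem_colon_singleton, Submodule.mem_bot, one_smul] at this
    exact hm' this

end Groth.Agent.S1577
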