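import Groth.Statements.S15770
import Mathlib

set_option autoImplicit false
universe u
open CAlg

namespace Groth.Agent.S15770

open Topology

theorem result' (B : Type u) [CommRing B] [TopologicalSpace B]
    [IsTopologicalRing B] (hB : IsOpen {b : B | IsUnit b})
    (M M' : Type u) [AddCommGroup M] [Module B M] [Module.Finite B M] [Module.Projective B M]
    [AddCommGroup M'] [Module B M'] [Module.Finite B M'] [Module.Projective B M']
    [TopologicalSpace (M →ₗ[B] M')] [IsModuleTopology B (M →ₗ[B] M')] :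
    IsOpen {f : M →ₗ[B] M' | Function.Surjective f} := by
  rw [isOpen_iff_mem_nhds]
  intro f₀ hf₀
  obtain ⟨g₀, hg₀⟩ := Module.projective_lifting_property f₀ LinearMap.id hf₀
  obtain ⟨n, f', g', -, -, hfg'⟩ := Module.Finite.exists_comp_eq_id_of_projective B M'
  have hfg'' : ∀ x, f' (g' x) = x := fun x => LinearMap.congr_fun hfg' x
  have hg₀' : ∀ x, f₀ (g₀ x) = x := fun x => LinearMap.congr_fun hg₀ x
  -- the linear part
  let L : (M →ₗ[B] M') →ₗ[B] Matrix (Fin n) (Fin n) B :=
    (LinearMap.toMatrix' (R := B) (m := Fin n) (n := Fin n)).toLinearMap ∘ₗ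
      (LinearMap.compRight B g') ∘ₗ (LinearMap.lcomp B M' (g₀ ∘ₗ f'))
  have hL : ∀ f, L f = LinearMap.toMatrix' (g' ∘ₗ f ∘ₗ g₀ ∘ₗ f') := fun f => rfl
  let C : Matrix (Fin n) (Fin n) B := LinearMap.toMatrix' (LinearMap.id - g' ∘ₗ f')
  let Ψ : (M →ₗ[B] M') → B := fun f => (L f + C).det
  have hΨ : Continuous Ψ :=
    ((IsModuleTopology.continuous_of_linearMap L).add continuous_const).matrix_det
  have hU : IsOpen (Ψ ⁻¹' {b : B | IsUnit b}) := hB.preimage hΨ
  have hsum : ∀ f, L f + C =
      LinearMap.toMatrix' (g' ∘ₗ f ∘ₗ g₀ ∘ₗ f' + (LinearMap.id - g' ∘ₗ f')) := by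
    intro f
    rw [hL, map_add]
  have hf₀U : f₀ ∈ Ψ ⁻¹' {b : B | IsUnit b} := by
    show IsUnit (L f₀ + C).det
    rw [hsum]
    have : g' ∘ₗ f₀ ∘ₗ g₀ ∘ₗ f' + (LinearMap.id - g' ∘ₗ f') = LinearMap.id := by
      ext v i
      simp [hg₀']
    rw [this, LinearMap.toMatrix'_id, Matrix.det_one]
    exact isUnit_one
  refine Filter.mem_of_superset (hU.mem_nhds hf₀U) ?_
  intro f hf
  have hdet : IsUnit (L f + C).det := hf
  rw [hsum] at hdet
  set H : (Fin n → B) →ₗ[B] (Fin n → B) := g' ∘ₗ f ∘ₗ g₀ ∘ₗ f' + (LinearMap.id - g' ∘ₗ f') with hH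
  have hunitM : IsUnit (LinearMap.toMatrix' H) := (Matrix.isUnit_iff_isUnit_det _).mpr hdet
  have hunitH : IsUnit H := by
    have : IsUnit (LinearMap.toMatrixAlgEquiv' (R := B) (n := Fin n) H) := hunitM
    exact (isUnit_map_iff (LinearMap.toMatrixAlgEquiv' (R := B) (n := Fin n)) H).mp this
  have hbij : Function.Bijective H := (Module.End.isUnit_iff H).mp hunitH
  intro m'
  obtain ⟨v, hv⟩ := hbij.2 (g' m')
  refine ⟨g₀ (f' v), ?_⟩
  have h1 : f' (H v) = f (g₀ (f' v)) := by
    rw [hH]
    simp [hfg'']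
  rw [← h1, hv, hfg'']


/-- Let B be a topological ring with Bˣ ⊂ B open and M, M' finitely generated projective B-modules, and
endow Hom_B(M, M') with the module topology (the canonical topology of a finite module). Then the
set of surjective B-linear maps M → M' is open. -/
theorem result (B : Type u) [CommRing B] [TopologicalSpace B]
    [IsTopologicalRing B] (hB : IsOpen {b : B | IsUnit b})
    (M M' : Type u) [AddCommGroup M] [Module B M] [Module.Finite B M] [Module.Projective B M]
    [AddCommGroup M'] [Module B M'] [Module.Finite B M'] [Module.Projective B M']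
    [TopologicalSpace (M →ₗ[B] M')] [IsModuleTopology B (M →ₗ[B] M')] :
    IsOpen {f : M →ₗ[B] M' | Function.Surjective f} := by
  exact result' B hB M M'

end Groth.Agent.S15770
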