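import Groth.Statements.S15771
-- import your own Groth.Agent.* helpers here

set_option autoImplicit false
universe u
open TensorProduct
open CAlg

namespace Groth.Agent.S15771

/-- For a ring map B₀ → B with dense image into a topological ring B, a finitely generated B₀-module M₀
and any topological B-module structure on M = B ⊗_{B₀} M₀, the natural map M₀ → M has dense image. -/
theorem result (B₀ B : Type u) [CommRing B₀] [CommRing B] [Algebra B₀ B]
    [TopologicalSpace B] [IsTopologicalRing B] (hφ : DenseRange (algebraMap B₀ B))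
    (M₀ : Type u) [AddCommGroup M₀] [Module B₀ M₀] [Module.Finite B₀ M₀]
    [TopologicalSpace (B ⊗[B₀] M₀)] [IsTopologicalAddGroup (B ⊗[B₀] M₀)] [ContinuousSMul B (B ⊗[B₀] M₀)] :
    DenseRange (fun m : M₀ => (1 : B) ⊗ₜ[B₀] m) := by
  set ι : M₀ → B ⊗[B₀] M₀ := fun m => (1 : B) ⊗ₜ[B₀] m with hι
  have step1 : ∀ (b : B) (m : M₀), b • ι m ∈ closure (Set.range ι) := by
    intro b m
    have hc : Continuous (fun b : B => b • ι m) :=
      Continuous.smul (f := fun b : B => b) (g := fun _ : B => ι m) continuous_id continuous_const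
    have h1 : (fun b : B => b • ι m) '' closure (Set.range (algebraMap B₀ B)) ⊆
        closure ((fun b : B => b • ι m) '' Set.range (algebraMap B₀ B)) :=
      image_closure_subset_closure_image hc
    have h2 : (fun b : B => b • ι m) '' Set.range (algebraMap B₀ B) ⊆ Set.range ι := by
      rintro _ ⟨_, ⟨b₀, rfl⟩, rfl⟩
      refine ⟨b₀ • m, ?_⟩
      simp only [hι]
      rw [TensorProduct.smul_tmul', TensorProduct.tmul_smul, TensorProduct.smul_tmul']
      simp [Algebra.smul_def]
    have h3 : b ∈ closure (Set.range (algebraMap B₀ B)) := by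
      rw [hφ.closure_range]; exact Set.mem_univ b
    exact closure_mono h2 (h1 ⟨b, h3, rfl⟩)
  have step2 : ∀ (b : B) (x : B ⊗[B₀] M₀), x ∈ closure (Set.range ι) → b • x ∈ closure (Set.range ι) := by
    intro b x hx
    have hc : Continuous (fun x : B ⊗[B₀] M₀ => b • x) := continuous_const_smul b
    have h1 := image_closure_subset_closure_image (s := Set.range ι) hc
    have h2 : (fun x : B ⊗[B₀] M₀ => b • x) '' Set.range ι ⊆ closure (Set.range ι) := by
      rintro _ ⟨_, ⟨m, rfl⟩, rfl⟩
      exact step1 b m
    have h3 := closure_mono h2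
    rw [closure_closure] at h3
    exact h3 (h1 ⟨x, hx, rfl⟩)
  let ιhom : M₀ →+ B ⊗[B₀] M₀ :=
    { toFun := ι
      map_zero' := by simp [hι]
      map_add' := fun x y => by simp [hι, TensorProduct.tmul_add] }
  have hcl : closure (Set.range ι) = (ιhom.range.topologicalClosure : Set (B ⊗[B₀] M₀)) := by
    rw [AddSubgroup.topologicalClosure_coe]
    rfl
  intro z
  induction z using TensorProduct.induction_on with
  | zero =>
    rw [hcl]; exact (ιhom.range.topologicalClosure).zero_mem
  | tmul b m =>
    have : b ⊗ₜ[B₀] m = b • ι m := by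
      simp [hι, TensorProduct.smul_tmul']
    rw [this]
    exact step1 b m
  | add x y hx hy =>
    rw [hcl] at hx hy ⊢
    exact (ιhom.range.topologicalClosure).add_mem hx hy

end Groth.Agent.S15771
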