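import Groth.Statements.S15774
import Mathlib

set_option autoImplicit false
universe u
open CAlg

namespace Groth.Agent.S15774

section helpers
open Polynomial

/-- two idempotents whose difference is the image of an element of the Jacobson radical agree -/
lemma idem_eq_of_sub {R L : Type*} [CommRing R] [CommRing L] (φ : R →+* L) (j : R)
    (hj : j ∈ (⊥ : Ideal R).jacobson) (e₁ e₂ : L) (h₁ : IsIdempotentElem e₁)
    (h₂ : IsIdempotentElem e₂) (z : R) (h : e₁ - e₂ = φ (j * z)) : e₁ = e₂ := by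
  have h1 : e₁ * e₁ = e₁ := h₁
  have h2 : e₂ * e₂ = e₂ := h₂
  have hu : (e₁ - e₂) * (1 - (e₁ - e₂) ^ 2) = 0 := by
    have : (e₁ - e₂) ^ 3 = e₁ - e₂ := by
      have e13 : e₁ ^ 3 = e₁ := by rw [pow_succ, pow_two, h1, h1]
      have e23 : e₂ ^ 3 = e₂ := by rw [pow_succ, pow_two, h2, h2]
      have : (e₁ - e₂) ^ 3 = e₁ ^ 3 - 3 * (e₁ * e₁) * e₂ + 3 * e₁ * (e₂ * e₂) - e₂ ^ 3 := by ring
      rw [this, h1, h2, e13, e23]; ring
    linear_combination (-1 : L) * this
  have hunit : IsUnit (1 - (e₁ - e₂) ^ 2) := by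
    rw [h]
    have : (1 : L) - φ (j * z) ^ 2 = φ (j * (-(z * (j * z))) + 1) := by
      simp only [map_add, map_mul, map_neg, map_one]; ring
    rw [this]
    exact (Ideal.mem_jacobson_bot.mp hj _).map φ
  have := hunit.mul_left_eq_zero.mp hu
  exact sub_eq_zero.mp this

section nw
variable {A : Type u} [CommRing A] (t : A)

lemma newton [HenselianRing A (Ideal.span {t})] (n M : ℕ) (hM : 2 * n < M) (a c : A)
    (h : a ^ 2 - t ^ n * a = t ^ M * c) :
    ∃ b r : A, b ^ 2 = t ^ n * b ∧ b = a + t ^ (M - 2 * n) * r := by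
  have hjac : ∀ x : A, x ∈ Ideal.span {t} → ∀ y, IsUnit (x * y + 1) := fun x hx =>
    Ideal.mem_jacobson_bot.mp (HenselianRing.jac hx)
  have htm : t ^ (M - 2 * n) ∈ Ideal.span {t} := by
    have : M - 2 * n = (M - 2 * n - 1) + 1 := by omega
    rw [this, pow_succ]
    exact Ideal.mul_mem_left _ _ (Ideal.subset_span rfl)
  obtain ⟨v', hv'⟩ := (hjac _ htm (4 * c)).exists_right_inv
  set d := 2 * a - t ^ n with hd
  set w := v' * t ^ (M - 2 * n) * c with hw
  have hMM : t ^ M = t ^ (2 * n) * t ^ (M - 2 * n) := by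
    rw [← pow_add]; congr 1; omega
  have hd2 : d ^ 2 * w = t ^ M * c := by
    have : d ^ 2 = t ^ (2 * n) * (t ^ (M - 2 * n) * (4 * c) + 1) := by
      have : d ^ 2 = 4 * (a ^ 2 - t ^ n * a) + t ^ (2 * n) := by rw [hd]; ring
      rw [this, h, hMM]; ring
    rw [this, hw, hMM]
    linear_combination (t ^ (2 * n) * t ^ (M - 2 * n) * c) * hv'
  have hwI : w ∈ Ideal.span {t} := by
    rw [hw, mul_assoc]; exact Ideal.mul_mem_left _ _ (Ideal.mul_mem_right _ _ htm)
  obtain ⟨y, hy, hyI⟩ := HenselianRing.is_henselian (I := Ideal.span {t}) (X ^ 2 + X + C w)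
    (by
      have : (X ^ 2 + X + C w : A[X]) = X ^ 2 + (X + C w) := by ring
      rw [this]
      apply Polynomial.monic_X_pow_add
      rw [show (X + C w : A[X]) = C 1 * X + C w by simp]
      exact (Polynomial.degree_linear_le).trans_lt (by norm_num)) 0
    (by simpa using hwI) (by simp)
  rw [sub_zero] at hyI
  simp only [IsRoot.def, eval_add, eval_pow, eval_X, eval_C] at hy
  obtain ⟨s, hs⟩ := (hjac y hyI 1).exists_right_inv
  rw [mul_one] at hs
  refine ⟨a + d * y, -(d * v' * c * s), ?_, ?_⟩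
  · have : (a + d * y) ^ 2 - t ^ n * (a + d * y) = (a ^ 2 - t ^ n * a) + d ^ 2 * (y + y ^ 2) := by
      rw [hd]; ring
    have h0 : (a + d * y) ^ 2 - t ^ n * (a + d * y) = 0 := by
      rw [this, h, ← hd2]; linear_combination d ^ 2 * hy
    exact sub_eq_zero.mp h0
  · have : y = -(w * s) := by
      linear_combination (-y) * hs + s * hy
    rw [this, hw]; ring

end nw

lemma core {A A' L L' : Type*} [CommRing A] [CommRing A'] [CommRing L] [CommRing L']
    (ι : A →+* A') (α : A →+* L) (φ : A' →+* L') (ψ : L →+* L') (t : A)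
    [HenselianRing A (Ideal.span {t})]
    (hψ : ∀ a, ψ (α a) = φ (ι a)) (hσ : IsUnit (α t)) (hτ : IsUnit (φ (ι t)))
    (hjac : ι t ∈ (⊥ : Ideal A').jacobson)
    (happ : ∀ (x : A') (M : ℕ), ∃ a z, ι a - x = ι (t ^ M) * z)
    (hmem : ∀ (a : A) (M : ℕ) (z : A'), ι a = ι (t ^ M) * z → ∃ c, a = t ^ M * c)
    (surj' : ∀ z : L', ∃ (n : ℕ) (a : A'), z * φ (ι t) ^ n = φ a)
    (eq' : ∀ x : A', φ x = 0 → ∃ k : ℕ, ι t ^ k * x = 0)
    (surj : ∀ z : L, ∃ (n : ℕ) (a : A), z * α t ^ n = α a)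
    (e : L') (he : IsIdempotentElem e) :
    ∃! e₀ : L, IsIdempotentElem e₀ ∧ ψ e₀ = e := by
  have hee : e * e = e := he
  -- existence
  obtain ⟨n₀, a₀, h₀⟩ := surj' e
  have h1 : φ (a₀ ^ 2 - ι t ^ n₀ * a₀) = 0 := by
    rw [map_sub, map_pow, map_mul, map_pow, ← h₀]
    linear_combination (φ (ι t) ^ n₀) ^ 2 * hee
  obtain ⟨k, hk⟩ := eq' _ h1
  obtain ⟨n, hn⟩ : ∃ n, n = n₀ + k := ⟨_, rfl⟩
  obtain ⟨â, hâ⟩ : ∃ â, â = ι t ^ k * a₀ := ⟨_, rfl⟩
  have hâ2 : â ^ 2 = ι t ^ n * â := by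
    rw [hâ, hn, pow_add]; linear_combination (ι t) ^ k * hk
  have he' : e * φ (ι t) ^ n = φ â := by
    rw [hn, pow_add, ← mul_assoc, h₀, hâ, map_mul, map_pow]; ring
  obtain ⟨a, z, haz⟩ := happ â (3 * n + 1)
  have hιa : ι a = â + ι (t ^ (3 * n + 1)) * z := by linear_combination haz
  have h2 : ι (a ^ 2 - t ^ n * a) = ι (t ^ (3 * n + 1)) *
      (2 * â * z + ι (t ^ (3 * n + 1)) * z ^ 2 - ι t ^ n * z) := by
    rw [map_sub, map_pow, map_mul, map_pow, hιa]; linear_combination hâ2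
  obtain ⟨c, hc⟩ := hmem _ _ _ h2
  obtain ⟨b, r, hb, hbr⟩ := newton t n (3 * n + 1) (by omega) a c hc
  have h3 : 3 * n + 1 - 2 * n = n + 1 := by omega
  rw [h3] at hbr
  obtain ⟨s, hs⟩ := (hσ.pow n).exists_right_inv
  obtain ⟨e₀, he₀⟩ : ∃ e₀, e₀ = α b * s := ⟨_, rfl⟩
  have he₀' : e₀ * α t ^ n = α b := by
    rw [he₀]; linear_combination (α b) * hs
  have hβ : α b ^ 2 = α t ^ n * α b := by
    rw [← map_pow, hb, map_mul, map_pow]
  have hidem : IsIdempotentElem e₀ := by
    have : (e₀ * e₀ - e₀) * (α t ^ n) ^ 2 = 0 := by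
      have : (e₀ * e₀ - e₀) * (α t ^ n) ^ 2 = (e₀ * α t ^ n) ^ 2 - α t ^ n * (e₀ * α t ^ n) := by
        ring
      rw [this, he₀', hβ]; ring
    exact sub_eq_zero.mp (((hσ.pow n).pow 2).mul_left_eq_zero.mp this)
  have himg : ψ e₀ = e := by
    have hψt : ψ (α t) = φ (ι t) := hψ t
    have h4 : ψ e₀ * φ (ι t) ^ n = φ (ι b) := by
      rw [← hψt, ← map_pow, ← map_mul, he₀', hψ]
    have h5 : (ψ e₀ - e - φ (ι t * (ι t ^ (2 * n) * z + ι r))) * φ (ι t) ^ n = 0 := by
      have : ι b = â + ι t ^ n * (ι t * (ι t ^ (2 * n) * z + ι r)) := by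
        rw [hbr, map_add, map_mul, hιa, map_pow, map_pow]; ring
      rw [sub_mul, sub_mul, h4, he', this, map_add, map_mul, map_pow]; ring
    have h6 := (hτ.pow n).mul_left_eq_zero.mp h5
    exact idem_eq_of_sub φ (ι t) hjac (ψ e₀) e (hidem.map ψ) he _ (sub_eq_zero.mp h6)
  refine ⟨e₀, ⟨hidem, himg⟩, ?_⟩
  rintro e₁ ⟨h1idem, h1img⟩
  obtain ⟨m, x, hx⟩ := surj (e₁ - e₀)
  have h7 : φ (ι x) = 0 := by
    rw [← hψ, ← hx, map_mul, map_sub, h1img, himg, sub_self, zero_mul]
  obtain ⟨k', hk'⟩ := eq' _ h7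
  have h8 : ι (t ^ k' * x) = ι (t ^ (m + k' + 1)) * 0 := by
    rw [map_mul, map_pow, hk', mul_zero]
  obtain ⟨c', hc'⟩ := hmem _ _ _ h8
  have h9 : (e₁ - e₀ - α (t * c')) * α t ^ (m + k') = 0 := by
    have : α (t ^ k' * x) = α (t ^ (m + k' + 1) * c') := by rw [hc']
    rw [map_mul, map_mul, map_pow, map_pow] at this
    rw [sub_mul, pow_add, ← mul_assoc, hx, map_mul]
    linear_combination this
  have h10 := (hσ.pow (m + k')).mul_left_eq_zero.mp h9
  exact idem_eq_of_sub α t (HenselianRing.jac (Ideal.subset_span (Set.mem_singleton t))) e₁ e₀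
    h1idem hidem c' (sub_eq_zero.mp h10)


section ad

variable {A : Type u} [CommRing A] (t : A)

lemma fg_span : (Ideal.span {t}).FG := ⟨{t}, by simp⟩


lemma map_t_mem_jacobson :
    algebraMap A (AdicCompletion (Ideal.span {t}) A) t ∈
      (⊥ : Ideal (AdicCompletion (Ideal.span {t}) A)).jacobson := by
  have h1 : IsAdicComplete (Ideal.span {t}) (AdicCompletion (Ideal.span {t}) A) :=
    AdicCompletion.isAdicComplete (fg_span t)
  have h2 : IsAdicComplete ((Ideal.span {t}).map (algebraMap A (AdicCompletion (Ideal.span {t}) A)))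
      (AdicCompletion (Ideal.span {t}) A) :=
    (IsAdicComplete.map_algebraMap_iff (Ideal.span {t}) (AdicCompletion (Ideal.span {t}) A)).mpr h1
  exact IsAdicComplete.le_jacobson_bot ((Ideal.span {t}).map (algebraMap A (AdicCompletion (Ideal.span {t}) A)))
    (Ideal.mem_map_of_mem _ (Ideal.subset_span (Set.mem_singleton t)))

lemma mem_ker_eval_iff (x : AdicCompletion (Ideal.span {t}) A) (M : ℕ) :
    AdicCompletion.eval (Ideal.span {t}) A M x = 0 ↔
      ∃ z : AdicCompletion (Ideal.span {t}) A,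
        x = algebraMap A (AdicCompletion (Ideal.span {t}) A) (t ^ M) * z := by
  rw [← LinearMap.mem_ker, ← AdicCompletion.pow_smul_top_eq_ker_eval (fg_span t),
    Ideal.span_singleton_pow, Submodule.ideal_span_singleton_smul]
  constructor
  · rintro ⟨z, -, hz⟩
    refine ⟨z, ?_⟩
    rw [← hz]
    simp [Algebra.smul_def]
  · rintro ⟨z, rfl⟩
    refine ⟨z, trivial, ?_⟩
    simp [Algebra.smul_def]


lemma exists_approx (x : AdicCompletion (Ideal.span {t}) A) (M : ℕ) :
    ∃ a : A, ∃ z : AdicCompletion (Ideal.span {t}) A,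
      algebraMap A (AdicCompletion (Ideal.span {t}) A) a - x =
        algebraMap A (AdicCompletion (Ideal.span {t}) A) (t ^ M) * z := by
  obtain ⟨a, ha⟩ := Submodule.mkQ_surjective _ (AdicCompletion.eval (Ideal.span {t}) A M x)
  refine ⟨a, (mem_ker_eval_iff t _ M).mp ?_⟩
  rw [map_sub, AdicCompletion.algebraMap_apply, AdicCompletion.eval_of]
  rw [Algebra.algebraMap_self, RingHom.id_apply, ha, sub_self]

lemma exists_of_map_eq (a : A) (M : ℕ) (z : AdicCompletion (Ideal.span {t}) A)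
    (h : algebraMap A (AdicCompletion (Ideal.span {t}) A) a =
        algebraMap A (AdicCompletion (Ideal.span {t}) A) (t ^ M) * z) : ∃ c : A, a = t ^ M * c := by
  have hk := (mem_ker_eval_iff t _ M).mpr ⟨z, h⟩
  rw [AdicCompletion.algebraMap_apply, AdicCompletion.eval_of, Algebra.algebraMap_self,
    RingHom.id_apply, Submodule.mkQ_apply, Submodule.Quotient.mk_eq_zero, smul_eq_mul,
    Ideal.mul_top, Ideal.span_singleton_pow, Ideal.mem_span_singleton] at hk
  obtain ⟨c, hc⟩ := hk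
  exact ⟨c, hc⟩


end ad
end helpers


/-- The instance A[1/t] → Â[1/t]: if (A, tA) is a Henselian pair and the t-power torsion of A is
bounded, then every idempotent of Â[1/t] (Â the t-adic completion) comes from a unique idempotent of
A[1/t]. -/
theorem result (A : Type u) [CommRing A] (t : A) [HenselianRing A (Ideal.span {t})]
    (hbd : ∃ N : ℕ, ∀ a : A, (∃ m : ℕ, t ^ m * a = 0) → t ^ N * a = 0)
    (e : Localization.Away (algebraMap A (AdicCompletion (Ideal.span {t}) A) t)) (he : IsIdempotentElem e) :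
    ∃! e₀ : Localization.Away t, IsIdempotentElem e₀ ∧ Localization.awayMap (algebraMap A (AdicCompletion (Ideal.span {t}) A)) t e₀ = e := by
  classical
  refine core (algebraMap A (AdicCompletion (Ideal.span {t}) A)) (algebraMap A (Localization.Away t))
    (algebraMap (AdicCompletion (Ideal.span {t}) A)
      (Localization.Away (algebraMap A (AdicCompletion (Ideal.span {t}) A) t)))
    (Localization.awayMap (algebraMap A (AdicCompletion (Ideal.span {t}) A)) t) t
    (fun a => by simp [Localization.awayMap, IsLocalization.Away.map, IsLocalization.map_eq])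
    (IsLocalization.Away.algebraMap_isUnit t) (IsLocalization.Away.algebraMap_isUnit _)
    (map_t_mem_jacobson t) (exists_approx t) (exists_of_map_eq t)
    (fun z => IsLocalization.Away.surj _ z) (fun x hx => ?_)
    (fun z => IsLocalization.Away.surj t z) e he
  obtain ⟨⟨_, k, rfl⟩, hk⟩ := (IsLocalization.map_eq_zero_iff
    (Submonoid.powers (algebraMap A (AdicCompletion (Ideal.span {t}) A) t)) _ x).mp hx
  exact ⟨k, hk⟩

end Groth.Agent.S15774
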