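import Groth.Statements.S1578
import Mathlib.RingTheory.Ideal.AssociatedPrime.Localization

set_option autoImplicit false
universe u
open CategoryTheory CategoryTheory.Limits AlgebraicGeometry
open Divisors

namespace Groth.Agent.S1578

open Module.associatedPrimes

/-- Let M be a module over a ring A, F the associated quasi-coherent module on Spec A, and p a prime of
A. If p is an associated prime of M then p is an associated point of F; the converse holds when p is
finitely generated. -/
theorem result (A : CommRingCat.{u}) (M : ModuleCat.{u} A)
    (p : Spec A) :
    (p.asIdeal ∈ associatedPrimes A M → Curv2.IsAssPoint (tilde M) p) ∧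
    (p.asIdeal.FG → Curv2.IsAssPoint (tilde M) p → p.asIdeal ∈ associatedPrimes A M) := by
  let R' := (Spec A).presheaf.stalk p
  let M' := (tilde M).presheaf.stalk p
  let : Algebra A R' := StructureSheaf.stalkAlgebra A p
  have : IsLocalization.AtPrime R' p.asIdeal := StructureSheaf.IsLocalization.to_stalk A p
  let : Module R' M' := FlatMod.moduleStalk (tilde M) p
  let : Module A M' := inferInstanceAs (Module A ((tilde M).presheaf.stalk p))
  have : IsScalarTower A R' M' := inferInstanceAs (IsScalarTower A ((structurePresheafInCommRingCat A).stalk p)
      ↑(TopCat.Presheaf.stalk (moduleStructurePresheaf A M).presheaf p))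
  let f : M →ₗ[A] M' := (tilde.toStalk M p).hom
  have : IsLocalizedModule p.asIdeal.primeCompl f := inferInstanceAs (IsLocalizedModule p.asIdeal.primeCompl (tilde.toStalk M p).hom)
  have hcomap : (IsLocalRing.maximalIdeal R').comap (algebraMap A R') = p.asIdeal :=
    IsLocalization.AtPrime.under_maximalIdeal R' p.asIdeal
  constructor
  · intro h
    have := mem_associatedPrimes_of_comap_mem_associatedPrimes_of_isLocalizedModule
      p.asIdeal.primeCompl f (IsLocalRing.maximalIdeal R') (by rw [hcomap]; exact h)
    exact this
  · intro hfg h
    have := comap_mem_associatedPrimes_of_mem_associatedPrimes_of_isLocalizedModule_of_fg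
      p.asIdeal.primeCompl f (IsLocalRing.maximalIdeal R') h (by rw [hcomap]; exact hfg)
    rwa [hcomap] at this

end Groth.Agent.S1578
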