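import Groth.Statements.S15784
-- import your own Groth.Agent.* helpers here

set_option autoImplicit false
universe u
open Neron

namespace Groth.Agent.S15784


variable {O : Type u} [CommRing O] [IsDomain O] [IsDiscreteValuationRing O]
  {L : Type u} [Field L] [Algebra O L] [IsFractionRing O L]

/-- a power of the uniformizer which is a unit has exponent zero. -/
theorem zpow_eq_unit (ϖ' : O) (hϖ' : Irreducible ϖ') (k : ℤ) (c : Oˣ)
    (h : algebraMap O L ϖ' ^ k = algebraMap O L c) : k = 0 := by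
  have hinj : Function.Injective (algebraMap O L) := IsFractionRing.injective O L
  have hπ : algebraMap O L ϖ' ≠ 0 := by
    rw [Ne, map_eq_zero_iff _ hinj]; exact hϖ'.ne_zero
  obtain ⟨s, rfl | rfl⟩ := Int.eq_nat_or_neg k
  · rw [zpow_natCast, ← map_pow] at h
    have h1 : ϖ' ^ s = c := hinj h
    by_contra hs
    have hs' : s ≠ 0 := by simpa using hs
    have : IsUnit (ϖ' ^ s) := h1 ▸ c.isUnit
    exact hϖ'.not_isUnit ((isUnit_pow_iff hs').1 this)
  · rcases Nat.eq_zero_or_pos s with rfl | hs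
    · simp
    · exfalso
      rw [zpow_neg, zpow_natCast, inv_eq_iff_eq_inv, ← map_pow] at h
      have h2 : algebraMap O L (ϖ' ^ s * c) = 1 := by
        rw [map_mul, h, inv_mul_cancel₀]
        rw [Ne, map_eq_zero_iff _ hinj]; exact c.ne_zero
      have h3 : ϖ' ^ s * c = 1 := hinj (by rw [h2, map_one])
      have : IsUnit (ϖ' ^ s) := .of_mul_eq_one _ h3
      exact hϖ'.not_isUnit ((isUnit_pow_iff hs.ne').1 this)

omit [IsDomain O] [IsDiscreteValuationRing O] [IsFractionRing O L] in
theorem map_zpow_unit (u : Oˣ) (j : ℤ) :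
    algebraMap O L (u : O) ^ j = algebraMap O L ((u ^ j : Oˣ) : O) := by
  have := Units.coe_map (algebraMap O L).toMonoidHom (u ^ j)
  rw [map_zpow, Units.val_zpow_eq_zpow_val] at this
  simpa using this

theorem result' (O : Type u) [CommRing O] [IsDomain O] [IsDiscreteValuationRing O]
    (L : Type u) [Field L] [Algebra O L] [IsFractionRing O L]
    (ϖ' : O) (hϖ' : Irreducible ϖ') (ϖ : O) (hϖ : ϖ ∈ IsLocalRing.maximalIdeal O)
    (n : ℕ) (hn : 1 ≤ n) (u : Oˣ) (q : O) (hq : q = u * ϖ' ^ n)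
    (m : ℕ) (hm : 1 ≤ m) (hmn : m ∣ n) :
    (∃ (w : Oˣ) (a j t : ℤ) (r : O), a = (n / m : ℕ) + t * n ∧
        (algebraMap O L w * algebraMap O L ϖ' ^ a) ^ m * algebraMap O L q ^ j = algebraMap O L (1 + ϖ * r)) ↔
      ∃ y r : O, (u : O) * (y ^ m + ϖ * r) = 1 := by
  have hinj : Function.Injective (algebraMap O L) := IsFractionRing.injective O L
  have hπ : algebraMap O L ϖ' ≠ 0 := by
    rw [Ne, map_eq_zero_iff _ hinj]; exact hϖ'.ne_zero
  have hnm : ((n / m : ℕ) : ℤ) * (m : ℤ) = n := by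
    exact_mod_cast Nat.div_mul_cancel hmn
  have hunit1 : ∀ r : O, IsUnit (1 + ϖ * r) := by
    intro r
    by_contra hnu
    have h1 : 1 + ϖ * r ∈ IsLocalRing.maximalIdeal O := (IsLocalRing.mem_maximalIdeal _).2 hnu
    have h2 : ϖ * r ∈ IsLocalRing.maximalIdeal O := Ideal.mul_mem_right _ _ hϖ
    have h3 : (1 : O) ∈ IsLocalRing.maximalIdeal O := by
      have h4 := Ideal.sub_mem _ h1 h2
      rwa [add_sub_cancel_right] at h4
    exact (IsLocalRing.maximalIdeal.isMaximal O).ne_top ((Ideal.eq_top_iff_one _).2 h3)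
  -- general computation of the left-hand side
  have hcomp : ∀ (w : Oˣ) (a j : ℤ),
      (algebraMap O L w * algebraMap O L ϖ' ^ a) ^ m * algebraMap O L q ^ j =
        algebraMap O L ((w ^ m * u ^ j : Oˣ) : O) * algebraMap O L ϖ' ^ (a * m + n * j) := by
    intro w a j
    rw [hq, map_mul, map_pow, mul_pow, mul_zpow, ← zpow_natCast (algebraMap O L ϖ') n,
      ← zpow_mul, ← zpow_natCast (algebraMap O L ϖ' ^ a) m, ← zpow_mul, zpow_add₀ hπ,
      map_zpow_unit, Units.val_mul, map_mul, Units.val_pow_eq_pow_val, map_pow]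
    ring
  constructor
  · rintro ⟨w, a, j, t, r, ha, hE⟩
    obtain ⟨v, hv⟩ := hunit1 r
    rw [hcomp, ← hv] at hE
    -- the power of the uniformizer is a unit
    have hk : algebraMap O L ϖ' ^ (a * m + n * j) =
        algebraMap O L (((w ^ m * u ^ j)⁻¹ * v : Oˣ) : O) := by
      rw [Units.val_mul, map_mul, ← hE, ← mul_assoc, ← map_mul, ← Units.val_mul, inv_mul_cancel,
        Units.val_one, map_one, one_mul]
    have hk0 := zpow_eq_unit ϖ' hϖ' _ _ hk
    rw [hk0, zpow_zero, mul_one] at hE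
    have hE' : ((w ^ m * u ^ j : Oˣ) : O) = v := hinj hE
    have hE'' : w ^ m * u ^ j = v := Units.ext hE'
    have hj : j = -1 - t * m := by
      have h1 : a * m = n + t * n * m := by rw [ha, add_mul, hnm]
      have h2 : (n : ℤ) * (1 + t * m + j) = 0 := by linear_combination hk0 - h1
      have hn0 : (n : ℤ) ≠ 0 := by exact_mod_cast (by omega : n ≠ 0)
      have := (mul_eq_zero.1 h2).resolve_left hn0
      linarith
    -- y = w⁻¹ u^t
    set y : Oˣ := w⁻¹ * u ^ t with hy
    have huy : u * y ^ m = v⁻¹ := by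
      rw [← hE'', hj, hy, mul_pow, ← zpow_natCast (u ^ t) m, ← zpow_mul, inv_pow, mul_inv,
        ← zpow_neg]
      have : u = u ^ (1 : ℤ) := (zpow_one u).symm
      calc u * ((w ^ m)⁻¹ * u ^ (t * (m : ℤ))) = (w ^ m)⁻¹ * (u ^ (1 : ℤ) * u ^ (t * (m : ℤ))) := by
            rw [zpow_one]; exact mul_left_comm _ _ _
        _ = (w ^ m)⁻¹ * u ^ (-(-1 - t * m)) := by
            rw [← zpow_add]; congr 2; ring
    refine ⟨(y : O), ((u⁻¹ * v⁻¹ : Oˣ) : O) * r, ?_⟩
    have h1 : (u : O) * (y : O) ^ m = ((v⁻¹ : Oˣ) : O) := by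
      rw [← Units.val_pow_eq_pow_val, ← Units.val_mul, huy]
    have h2 : ((v⁻¹ : Oˣ) : O) * (1 + ϖ * r) = 1 := by
      rw [← hv, ← Units.val_mul, inv_mul_cancel, Units.val_one]
    rw [mul_add, h1, Units.val_mul]
    have h3 : (u : O) * (ϖ * (((u⁻¹ : Oˣ) : O) * ((v⁻¹ : Oˣ) : O) * r)) =
        ((v⁻¹ : Oˣ) : O) * (ϖ * r) * ((u : O) * ((u⁻¹ : Oˣ) : O)) := by ring
    rw [h3, Units.mul_inv, mul_one]
    linear_combination h2
  · rintro ⟨y, r, hyr⟩
    -- y is a unit
    have hym : IsUnit (y ^ m) := by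
      by_contra hnu
      have h1 : y ^ m ∈ IsLocalRing.maximalIdeal O := (IsLocalRing.mem_maximalIdeal _).2 hnu
      have h2 : ϖ * r ∈ IsLocalRing.maximalIdeal O := Ideal.mul_mem_right _ _ hϖ
      have h3 : (u : O) * (y ^ m + ϖ * r) ∈ IsLocalRing.maximalIdeal O :=
        Ideal.mul_mem_left _ _ (Ideal.add_mem _ h1 h2)
      rw [hyr] at h3
      exact (IsLocalRing.maximalIdeal.isMaximal O).ne_top ((Ideal.eq_top_iff_one _).2 h3)
    have hyu : IsUnit y := (isUnit_pow_iff (by omega)).1 hym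
    obtain ⟨y, rfl⟩ := hyu
    -- v = u y^m = 1 - u ϖ r
    set v : Oˣ := u * y ^ m with hv
    have hv1 : (v : O) = 1 - u * (ϖ * r) := by
      rw [hv, Units.val_mul, Units.val_pow_eq_pow_val]
      linear_combination hyr
    refine ⟨y⁻¹, (n / m : ℕ), -1, 0, (u : O) * r * ((v⁻¹ : Oˣ) : O), by simp, ?_⟩
    rw [hcomp]
    have hexp : ((n / m : ℕ) : ℤ) * (m : ℤ) + (n : ℤ) * (-1) = 0 := by rw [hnm]; ring
    rw [hexp, zpow_zero, mul_one]
    congr 1
    have h1 : (y⁻¹ ^ m * u ^ (-1 : ℤ) : Oˣ) = v⁻¹ := by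
      rw [hv, mul_inv, zpow_neg, zpow_one, inv_pow, mul_comm]
    rw [h1]
    have h2 : ((v⁻¹ : Oˣ) : O) * (v : O) = 1 := by
      rw [← Units.val_mul, inv_mul_cancel, Units.val_one]
    have : (1 : O) + ϖ * ((u : O) * r * ((v⁻¹ : Oˣ) : O)) =
        ((v⁻¹ : Oˣ) : O) * ((v : O) + u * (ϖ * r)) := by
      rw [mul_add, h2]; ring
    rw [this, hv1]
    ring


/-- Let O be a discrete valuation ring with fraction field L and uniformizer ϖ', let ϖ be an element of
the maximal ideal of O, let q = u·ϖ'^n with u a unit of O and n ≥ 1, and let m ≥ 1 be a divisor of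
n. Then the following are equivalent: (i) there is a nonzero element z = w·ϖ'^a of L, with w a unit
of O and a an integer congruent to n/m modulo n, and an integer j such that z^m·q^j lies in 1 + ϖO;
(ii) ϖ'^n/q is an m-th power in the group of units of O/ϖO, that is, u·(y^m + ϖ·r) = 1 for some y, r
∈ O. (The published statement phrases (i) geometrically, as the existence of a point of order m in
the special fibre of the Néron model of the Weil restriction of the Tate curve with parameter q from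
L down to a subfield over which L is totally ramified with ϖ a uniformizer of the subfield, whose
image in the component group also has order m; this row states the equivalence between (i) and (ii)
that the printed argument establishes.) -/
theorem result
    (O : Type u) [CommRing O] [IsDomain O] [IsDiscreteValuationRing O]
    (L : Type u) [Field L] [Algebra O L] [IsFractionRing O L]
    (ϖ' : O) (hϖ' : Irreducible ϖ') (ϖ : O) (hϖ : ϖ ∈ IsLocalRing.maximalIdeal O)
    (n : ℕ) (hn : 1 ≤ n) (u : Oˣ) (q : O) (hq : q = u * ϖ' ^ n)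
    (m : ℕ) (hm : 1 ≤ m) (hmn : m ∣ n) :
    (∃ (w : Oˣ) (a j t : ℤ) (r : O), a = (n / m : ℕ) + t * n ∧
        (algebraMap O L w * algebraMap O L ϖ' ^ a) ^ m * algebraMap O L q ^ j = algebraMap O L (1 + ϖ * r)) ↔
      ∃ y r : O, (u : O) * (y ^ m + ϖ * r) = 1 := by
  exact result' O L ϖ' hϖ' ϖ hϖ n hn u q hq m hm hmn

end Groth.Agent.S15784
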