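import Groth.Statements.S15789
import Groth.Agent.Lib.H94AS2
import Mathlib

set_option autoImplicit false
universe u
open WildQuot

namespace Groth.Agent.S15789

open Groth.Agent.Lib.H94AS Groth.Agent.Lib.H94Eisen in
theorem main (p : ℕ) [Fact p.Prime] (k : Type u) [Field k] [CharP k p] (n : ℕ)
    (a : Fin n → MvPowerSeries (Fin n) k)
    (ha0 : ∀ i, a i ≠ 0) (ham : ∀ i, MvPowerSeries.constantCoeff (a i) = 0) :
    Nat.card (Q (FF p a) ≃ₐ[RR k n] Q (FF p a)) = p ^ n ∧
      (∀ σ τ : Q (FF p a) ≃ₐ[RR k n] Q (FF p a), σ * τ = τ * σ) ∧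
      (∀ σ : Q (FF p a) ≃ₐ[RR k n] Q (FF p a), σ ^ p = 1) ∧
      (∀ b : Q (FF p a),
        (∀ σ : Q (FF p a) ≃ₐ[RR k n] Q (FF p a), σ b = b) ↔
          b ∈ Set.range (algebraMap (RR k n) (Q (FF p a)))) := by
  have hp : 2 ≤ p := (Fact.out : p.Prime).two_le
  haveI : IsDomain (Q (FF p a)) := isDomain_Q a hp ham
  haveI : IsDomain (RR k n) := Groth.Agent.Lib.RegularLocal.isDomain _
  haveI : Module.Free (RR k n) (Q (FF p a)) := free_Q a hp
  haveI : Module.Finite (RR k n) (Q (FF p a)) := finite (FF p a) (FF_mon a hp) (FF_deg a hp)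
  have hinj : Function.Injective (algebraMap (RR k n) (Q (FF p a))) :=
    injective (FF p a) (FF_mon a hp) (FF_deg a hp)
  haveI : CharP (Q (FF p a)) p :=
    charP_of_injective_algebraMap (algebraMap k (Q (FF p a))).injective p
  have hsurj := sigE_surjective a hinj ha0
  refine ⟨card_aut a hinj ha0, ?_, ?_, ?_⟩
  · intro σ τ
    obtain ⟨v, rfl⟩ := hsurj σ
    obtain ⟨w, rfl⟩ := hsurj τ
    rw [sigE_mul, sigE_mul, add_comm]
  · intro σ
    obtain ⟨v, rfl⟩ := hsurj σ
    exact sigE_pow_p a v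
  · intro b
    constructor
    · intro hb
      refine fixed_mem_range_generic hinj ?_ b hb
      rw [card_aut a hinj ha0, finrank_Q a hp]
    · rintro ⟨r, rfl⟩ σ
      exact σ.commutes r

open MvPolynomial in
/-- Let `k` be a field of characteristic `p > 0`, `n ≥ 2`, `R = k[[x_1, …, x_n]]`, `a_1, …, a_n ∈ R`
nonzero with zero constant term, and `A = R[u_1, …, u_n] / (u_i ^ p - a_i ^ (p-1) u_i - x_i : i =
1..n)`. Then the group of `R`-algebra automorphisms of `A` has exactly `p ^ n` elements, is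
commutative and every element has `p`-th power the identity (it is the elementary abelian group
generated by the substitutions `u_i ↦ u_i + a_i`), and an element of `A` is fixed by every
`R`-algebra automorphism if and only if it comes from `R`. (The published statement says that
`Frac(A)/Frac(R)` is Galois with group `(ℤ/pℤ)^n` and `R = A^H`; this row states it through the
`R`-algebra automorphisms of `A`.) -/
theorem result
    (p : ℕ) [Fact p.Prime] (k : Type u) [Field k] [CharP k p] (n : ℕ) (hn : 2 ≤ n)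
    (a : Fin n → MvPowerSeries (Fin n) k)
    (ha0 : ∀ i, a i ≠ 0) (ham : ∀ i, MvPowerSeries.constantCoeff (a i) = 0) :
    let R := MvPowerSeries (Fin n) k
    let I : Ideal (MvPolynomial (Fin n) R) :=
      Ideal.span (Set.range fun i : Fin n =>
        X i ^ p - C (a i ^ (p - 1)) * X i - C (MvPowerSeries.X i))
    Nat.card ((MvPolynomial (Fin n) R ⧸ I) ≃ₐ[R] (MvPolynomial (Fin n) R ⧸ I)) = p ^ n ∧
      (∀ σ τ : (MvPolynomial (Fin n) R ⧸ I) ≃ₐ[R] (MvPolynomial (Fin n) R ⧸ I), σ * τ = τ * σ) ∧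
      (∀ σ : (MvPolynomial (Fin n) R ⧸ I) ≃ₐ[R] (MvPolynomial (Fin n) R ⧸ I), σ ^ p = 1) ∧
      (∀ b : MvPolynomial (Fin n) R ⧸ I,
        (∀ σ : (MvPolynomial (Fin n) R ⧸ I) ≃ₐ[R] (MvPolynomial (Fin n) R ⧸ I), σ b = b) ↔
          b ∈ Set.range (algebraMap R (MvPolynomial (Fin n) R ⧸ I))) := by
  intro R I
  have h := main p k n a ha0 ham
  have hI : I = Groth.Agent.S4610.Iof (Groth.Agent.Lib.H94AS.FF p a) :=
    (Groth.Agent.Lib.H94AS.Iof_eq (p := p) a).symm
  rw [hI]
  exact h

end Groth.Agent.S15789
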