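import Groth.Statements.S1579
import Groth.Agent.Lib.AssPush
import Groth.Agent.Lib.WeakAssFinite
import Mathlib.AlgebraicGeometry.Morphisms.Finite
-- import your own Groth.Agent.* helpers here

set_option autoImplicit false
universe u
open CategoryTheory CategoryTheory.Limits AlgebraicGeometry
open Divisors

namespace Groth.Agent.S1579

open Groth.Agent.Lib.QCohStalk Groth.Agent.Lib.AssPoints Groth.Agent.Lib.AssPush

theorem ann_smul_eq_colon {R : Type*} [CommRing R] {N : Type*} [AddCommGroup N]
    [Module R N] (y : R) (n : N) : ann R (y • n) = (ann R n).colon {y} := by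
  ext a
  rw [Submodule.mem_colon_singleton, mem_ann, mem_ann, smul_eq_mul, mul_smul]

/-- For a finite morphism `f : X ⟶ S`, the image of a weakly associated point of a quasi-coherent
module `F` is a weakly associated point of `f_* F` (no Noetherian hypotheses). -/
theorem isWeakAssPoint_push_of_isWeakAssPoint {X S : Scheme.{u}} (f : X ⟶ S) [IsFinite f]
    (F : X.Modules) [F.IsQuasicoherent] (x : X) (hx : Curv2.IsWeakAssPoint F x) :
    Curv2.IsWeakAssPoint ((Scheme.Modules.pushforward f).obj F) (f x) := by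
  obtain ⟨_, ⟨V, hV, rfl⟩, hyV, -⟩ :=
    S.isBasis_affineOpens.exists_subset_of_mem_open (Set.mem_univ (f x)) isOpen_univ
  replace hyV : f x ∈ V := hyV
  have hU : IsAffineOpen (f ⁻¹ᵁ V) := hV.preimage f
  have hxU : x ∈ f ⁻¹ᵁ V := hyV
  obtain ⟨m, hmin⟩ := exists_minimal_of_isWeakAssPoint F hU ⟨x, hxU⟩
    (isLocAt_of_isQuasicoherent F hU ⟨x, hxU⟩) hx
  have hfin : (f.app V).hom.Finite := IsFinite.finite_app f V hV
  obtain ⟨y, hy⟩ := Groth.Agent.Lib.WeakAssFinite.exists_comap_mem_minimalPrimes_of_finite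
    (f.app V).hom hfin _ _ hmin
  rw [← ann_smul_eq_colon] at hy
  have hloc := (isLocalizingOn_pushforward f F V hU).isLocAt hV ⟨f x, hyV⟩
  apply isWeakAssPoint_of_minimal _ hV ⟨f x, hyV⟩ hloc
    (show Γ((Scheme.Modules.pushforward f).obj F, V) from y • m)
  rw [ann_pushforward]
  have h1 := IsAffineOpen.comap_primeIdealOf_appLE V hV (f ⁻¹ᵁ V) hU le_rfl hxU
  have h2 : ((hU.primeIdealOf ⟨x, hxU⟩).asIdeal).comap (f.app V).hom =
      (hV.primeIdealOf ⟨f x, hyV⟩).asIdeal := by
    rw [← h1, PrimeSpectrum.comap_asIdeal, Scheme.Hom.appLE_eq_app]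
  rw [← h2]
  exact hy

/-- Let f : X → S be finite and F quasi-coherent on X. Then the weakly associated points of f_* F are
precisely the images under f of the weakly associated points of F. -/
theorem result {X S : Scheme.{u}} (f : X ⟶ S) [IsFinite f] (F : X.Modules) (hF : Coh.IsQCoh F) :
    {s : S | Curv2.IsWeakAssPoint ((Coh.push f).obj F) s} = f.base '' {x : X | Curv2.IsWeakAssPoint F x} := by
  haveI : F.IsQuasicoherent := hF
  ext s
  constructor
  · intro hs
    obtain ⟨x, hxs, hx⟩ := exists_isWeakAssPoint_of_pushforward f F s hs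
    exact ⟨x, hx, hxs⟩
  · rintro ⟨x, hx, rfl⟩
    exact isWeakAssPoint_push_of_isWeakAssPoint f F x hx

end Groth.Agent.S1579
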