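import Groth.Statements.S15791
-- import your own Groth.Agent.* helpers here

set_option autoImplicit false
universe u v
open WildQuot

namespace Groth.Agent.S15791

variable {A : Type*} [CommRing A]

theorem length_quot_mul_le (I : Ideal A) (a b : A) :
    Module.length A (A ⧸ (I ⊔ Ideal.span {a * b})) ≤
      Module.length A (A ⧸ (I ⊔ Ideal.span {a})) + Module.length A (A ⧸ (I ⊔ Ideal.span {b})) := by
  have hle : I ⊔ Ideal.span {a * b} ≤ I ⊔ Ideal.span {b} :=
    sup_le le_sup_left (le_sup_of_le_right
      ((Ideal.span_singleton_le_iff_mem _).2 (Ideal.mul_mem_left _ _ (Ideal.mem_span_singleton_self b))))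
  -- the factor map π
  let π : (A ⧸ (I ⊔ Ideal.span {a * b})) →ₗ[A] (A ⧸ (I ⊔ Ideal.span {b})) :=
    Submodule.mapQ _ _ LinearMap.id (by simpa using hle)
  have hπ : Function.Surjective π := by
    intro y
    obtain ⟨r, rfl⟩ := Submodule.Quotient.mk_surjective _ y
    exact ⟨Submodule.Quotient.mk r, rfl⟩
  -- multiplication by b
  let g : (A ⧸ (I ⊔ Ideal.span {a})) →ₗ[A] (A ⧸ (I ⊔ Ideal.span {a * b})) :=
    Submodule.mapQ _ _ (LinearMap.mulLeft A b) (by
      intro r hr
      rw [Submodule.mem_comap, LinearMap.mulLeft_apply]
      obtain ⟨i, hi, s, hs, rfl⟩ := Submodule.mem_sup.1 hr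
      obtain ⟨t, rfl⟩ := Ideal.mem_span_singleton'.1 hs
      rw [mul_add]
      refine Submodule.add_mem_sup (Ideal.mul_mem_left _ _ hi) ?_
      rw [Ideal.mem_span_singleton']
      exact ⟨t, by ring⟩)
  have hker : LinearMap.ker π ≤ LinearMap.range g := by
    intro y hy
    obtain ⟨r, rfl⟩ := Submodule.Quotient.mk_surjective _ y
    have h1 : r ∈ I ⊔ Ideal.span {b} := by
      have : π (Submodule.Quotient.mk r) = Submodule.Quotient.mk r := rfl
      rw [LinearMap.mem_ker, this, Submodule.Quotient.mk_eq_zero] at hy
      exact hy
    obtain ⟨i, hi, s, hs, rfl⟩ := Submodule.mem_sup.1 h1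
    obtain ⟨t, rfl⟩ := Ideal.mem_span_singleton'.1 hs
    refine ⟨Submodule.Quotient.mk t, ?_⟩
    change Submodule.Quotient.mk (b * t) = _
    rw [Submodule.Quotient.eq]
    have : b * t - (i + t * b) = -i := by ring
    rw [this]
    exact Submodule.neg_mem _ (Submodule.mem_sup_left hi)
  have h1 := Module.length_eq_add_of_exact (LinearMap.ker π).subtype π
    (Submodule.subtype_injective _) hπ (LinearMap.exact_subtype_ker_map π)
  rw [h1]
  gcongr
  calc Module.length A (LinearMap.ker π) ≤ Module.length A (LinearMap.range g) :=
        Module.length_le_of_injective (Submodule.inclusion hker) (Submodule.inclusion_injective hker)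
    _ ≤ _ := Module.length_le_of_surjective g.rangeRestrict g.surjective_rangeRestrict


/-- length of the quotient by an ideal, as a function of the ideal (so that ideals can be rewritten). -/
noncomputable def lenQ (I : Ideal A) : ℕ∞ := Module.length A (A ⧸ I)

theorem lenQ_mul_le (I : Ideal A) (a b : A) :
    lenQ (I ⊔ Ideal.span {a * b}) ≤ lenQ (I ⊔ Ideal.span {a}) + lenQ (I ⊔ Ideal.span {b}) :=
  length_quot_mul_le I a b

theorem lenQ_top : lenQ (⊤ : Ideal A) = 0 := by
  have : Subsingleton (A ⧸ (⊤ : Ideal A)) := Ideal.Quotient.subsingleton_iff.2 rfl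
  exact Module.length_eq_zero

theorem lenQ_prod_le {κ : Type*} (I : Ideal A) (S : Finset κ) (a : κ → A) :
    lenQ (I ⊔ Ideal.span {∏ j ∈ S, a j}) ≤ ∑ j ∈ S, lenQ (I ⊔ Ideal.span {a j}) := by
  classical
  induction S using Finset.induction_on with
  | empty =>
    rw [Finset.prod_empty, Finset.sum_empty, Ideal.span_singleton_one, sup_top_eq, lenQ_top]
  | insert k S hk ih =>
    rw [Finset.prod_insert hk, Finset.sum_insert hk]
    exact (lenQ_mul_le I _ _).trans (by gcongr)

theorem span_range_update {ι : Type*} [DecidableEq ι] (v : ι → A) (k : ι) (y : A) :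
    Ideal.span (Set.range (Function.update v k y)) =
      Ideal.span (v '' {i | i ≠ k}) ⊔ Ideal.span {y} := by
  apply le_antisymm
  · rw [Ideal.span_le]
    rintro _ ⟨i, rfl⟩
    by_cases hik : i = k
    · subst hik
      rw [Function.update_self]
      exact Submodule.mem_sup_right (Ideal.mem_span_singleton_self y)
    · rw [Function.update_of_ne hik]
      exact Submodule.mem_sup_left (Ideal.subset_span ⟨i, hik, rfl⟩)
  · refine sup_le (Ideal.span_le.2 ?_) ((Ideal.span_singleton_le_iff_mem _).2 ?_)
    · rintro _ ⟨i, hik, rfl⟩
      refine Ideal.subset_span ⟨i, ?_⟩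
      rw [Function.update_of_ne hik]
    · refine Ideal.subset_span ⟨k, ?_⟩
      rw [Function.update_self]

theorem main [IsLocalRing A] {G : Type*} [Group G] [Fintype G] [MulSemiringAction G A]
    (n : ℕ) (u : Fin n → A)
    (hu : ∀ τ : Fin n → G,
      Ideal.span (Set.range fun i => τ i • u i) = IsLocalRing.maximalIdeal A) :
    Module.length A (A ⧸ Ideal.span (Set.range fun i => ∏ σ : G, σ • u i)) ≤
      (Fintype.card G ^ n : ℕ) := by
  classical
  have key : ∀ (T : Finset (Fin n)) (τ : Fin n → G),
      lenQ (Ideal.span (Set.range fun i =>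
        if i ∈ T then ∏ σ : G, σ • u i else τ i • u i)) ≤ (Fintype.card G ^ T.card : ℕ) := by
    intro T
    induction T using Finset.induction_on with
    | empty =>
      intro τ
      simp only [Finset.notMem_empty, if_false, Finset.card_empty, pow_zero, Nat.cast_one]
      rw [hu τ]
      have : IsSimpleModule A (A ⧸ IsLocalRing.maximalIdeal A) := by
        rw [isSimpleModule_iff_quot_maximal]
        exact ⟨_, IsLocalRing.maximalIdeal.isMaximal A, ⟨LinearEquiv.refl _ _⟩⟩
      exact (Module.length_eq_one_iff.2 this).le
    | insert k T hk ih =>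
      intro τ
      set v : Fin n → A := fun i => if i ∈ T then ∏ σ : G, σ • u i else τ i • u i with hv
      have h1 : (fun i => if i ∈ insert k T then ∏ σ : G, σ • u i else τ i • u i) =
          Function.update v k (∏ σ : G, σ • u k) := by
        funext i
        by_cases hik : i = k
        · subst hik; simp
        · simp [hv, Finset.mem_insert, hik]
      have h2 : ∀ σ : G, (fun i => if i ∈ T then ∏ σ : G, σ • u i else
          (Function.update τ k σ) i • u i) = Function.update v k (σ • u k) := by
        intro σ
        funext i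
        by_cases hik : i = k
        · subst hik; simp [hk]
        · simp [Function.update_of_ne hik, hv]
      rw [h1, span_range_update]
      refine (lenQ_prod_le _ Finset.univ (fun σ : G => σ • u k)).trans ?_
      calc ∑ σ : G, lenQ (Ideal.span (v '' {i | i ≠ k}) ⊔ Ideal.span {σ • u k})
          ≤ ∑ _σ : G, ((Fintype.card G ^ T.card : ℕ) : ℕ∞) := by
            refine Finset.sum_le_sum fun σ _ => ?_
            rw [← span_range_update, ← h2 σ]
            exact ih _
        _ = (Fintype.card G ^ (insert k T).card : ℕ) := by
            rw [Finset.sum_const, Finset.card_univ, Finset.card_insert_of_notMem hk, pow_succ,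
              nsmul_eq_mul]
            push_cast
            ring
  have h := key Finset.univ (fun _ => 1)
  have h3 : (fun i : Fin n => if i ∈ Finset.univ then ∏ σ : G, σ • u i else (1 : G) • u i) =
      fun i => ∏ σ : G, σ • u i := by
    funext i; simp
  rw [h3, Finset.card_univ, Fintype.card_fin] at h
  exact h


/-- Let `A` be a regular local ring of Krull dimension `n` with maximal ideal `m`, let a finite group
`G` of order `g` act on `A` by ring automorphisms, and let `u_1, …, u_n` be an admissible regular
system of parameters: for every choice `σ_1, …, σ_n ∈ G`, the elements `σ_1 u_1, …, σ_n u_n`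
generate `m`. With `x_i = ∏_{σ ∈ G} σ u_i` the norms, the length of `A / (x_1, …, x_n)` is at most
`g ^ n`. (The published statement is for a complete regular local ring containing a `G`-fixed field
of representatives and asserts that the length equals `g ^ n`; this row states the upper bound for
any regular local ring.) -/
theorem result
    (A : Type u) [CommRing A] [IsRegularLocalRing A]
    (G : Type v) [Group G] [Fintype G] [MulSemiringAction G A]
    (n : ℕ) (hn : ringKrullDim A = n) (u : Fin n → A)
    (hu : ∀ τ : Fin n → G,
      Ideal.span (Set.range fun i => τ i • u i) = IsLocalRing.maximalIdeal A) :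
    Module.length A (A ⧸ Ideal.span (Set.range fun i => ∏ σ : G, σ • u i)) ≤
      (Fintype.card G ^ n : ℕ) := by
  exact main n u hu

end Groth.Agent.S15791
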