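import Groth.Statements.S15793
import Groth.Agent.Lib.GaloisRing89
import Groth.Agent.Lib.InvFinite89
import Groth.Agent.Lib.DenseSubring89
import Groth.Agent.Lib.RegularLocal

set_option autoImplicit false
set_option linter.style.haveILetI false
universe u v w
open WildQuot

namespace Groth.Agent.S15793

/-- Let `A` be a complete regular local ring of Krull dimension at least `2` and prime characteristic
`p`, with maximal ideal `m`; let `k` be a field with a ring map `k → A` whose composite with `A →
A/m` is onto (a field of representatives); let `G` be a group of order `p` acting on `A` by ring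
automorphisms that fix the image of `k`, ramified precisely at the origin: for every prime `P ≠ m`,
the inertia subgroup of `P` (the elements of `G` fixing every element of `A` modulo `P`) is trivial.
Then no element of `m` outside `m ^ 2` is fixed by every element of `G`; in particular the action is
not linear in any regular system of parameters. -/
theorem result
    (p : ℕ) [Fact p.Prime] (A : Type u) [CommRing A] [IsRegularLocalRing A] [CharP A p]
    [IsAdicComplete (IsLocalRing.maximalIdeal A) A] (hdim : 2 ≤ ringKrullDim A)
    (k : Type v) [Field k] [Algebra k A]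
    (hk : Function.Surjective (IsLocalRing.residue A ∘ algebraMap k A))
    (G : Type w) [Group G] [Finite G] [MulSemiringAction G A] (hcard : Nat.card G = p)
    (hGk : ∀ (σ : G) (c : k), σ • algebraMap k A c = algebraMap k A c)
    (hram : ∀ P : Ideal A, P.IsPrime → P ≠ IsLocalRing.maximalIdeal A → P.inertia G = ⊥)
    (v : A) (hv : v ∈ IsLocalRing.maximalIdeal A) (hv2 : v ∉ IsLocalRing.maximalIdeal A ^ 2) :
    ∃ σ : G, σ • v ≠ v := by
  classical
  by_contra hcon
  simp only [not_exists, not_not] at hcon
  have hnt : Nontrivial G := by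
    rw [← Finite.one_lt_card_iff_nontrivial, hcard]
    exact (Fact.out : p.Prime).one_lt
  obtain ⟨σ, hσ⟩ := exists_ne (1 : G)
  -- generators of the maximal ideal containing `v`
  have hfg : ((IsLocalRing.maximalIdeal A).map
      (Ideal.Quotient.mk (Ideal.span ({v} : Set A)))).FG :=
    Ideal.FG.map (IsNoetherian.noetherian _) _
  obtain ⟨s, hs_card, hs_span⟩ := Submodule.FG.exists_span_finset_card_eq_spanFinrank hfg
  have hsurj : Function.Surjective (Ideal.Quotient.mk (Ideal.span ({v} : Set A))) :=
    Ideal.Quotient.mk_surjective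
  let g := Function.surjInv hsurj
  have hg : ∀ x, Ideal.Quotient.mk (Ideal.span ({v} : Set A)) (g x) = x :=
    Function.surjInv_eq hsurj
  let t : Finset A := s.image g
  have htcard : t.card ≤ s.card := Finset.card_image_le
  have hrange : Set.range (fun i : t => Ideal.Quotient.mk (Ideal.span ({v} : Set A)) (i : A)) =
      (s : Set (A ⧸ Ideal.span ({v} : Set A))) := by
    ext x
    constructor
    · rintro ⟨⟨i, hi⟩, rfl⟩
      obtain ⟨x, hx, rfl⟩ := Finset.mem_image.mp hi
      simp only [hg]
      exact hx
    · intro hx
      exact ⟨⟨g x, Finset.mem_image_of_mem g hx⟩, hg x⟩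
  have hm : IsLocalRing.maximalIdeal A =
      Ideal.span (insert v (Set.range (fun i : t => (i : A)))) := by
    apply Groth.Agent.Lib.RegularLocal.eq_span_insert_of_map_eq v (IsLocalRing.maximalIdeal A) hv
    rw [hrange]
    exact hs_span.symm
  have hYrange : Set.range (Subtype.val : {x // x ∈ insert v t} → A) =
      insert v (Set.range (fun i : t => (i : A))) := by
    rw [Subtype.range_coe_subtype, Subtype.range_coe_subtype]
    ext x
    simp
  have hy : Ideal.span (Set.range (Subtype.val : {x // x ∈ insert v t} → A)) =
      IsLocalRing.maximalIdeal A := by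
    rw [hYrange, ← hm]
  have htm : ∀ w ∈ t, w ∈ IsLocalRing.maximalIdeal A := by
    intro w hw
    rw [hm]
    exact Ideal.subset_span (Set.mem_insert_of_mem _ ⟨⟨w, hw⟩, rfl⟩)
  -- the ideal `J`
  let u : Finset A := t.image fun w => σ • w - w
  have hucard : u.card ≤ t.card := Finset.card_image_le
  have hJm : Ideal.span (u : Set A) ≤ IsLocalRing.maximalIdeal A := by
    rw [Ideal.span_le]
    intro x hx
    obtain ⟨w, hw, rfl⟩ := Finset.mem_image.mp hx
    exact Ideal.sub_mem _ (Groth.Agent.Lib.InvFinite89.smul_mem_maximalIdeal σ (htm w hw))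
      (htm w hw)
  have hJtop : Ideal.span (u : Set A) ≠ ⊤ := fun h =>
    (IsLocalRing.maximalIdeal.isMaximal A).ne_top (top_le_iff.mp (h ▸ hJm))
  -- every `σ a - a` lies in `J`
  have hall : ∀ a : A, σ • a - a ∈ Ideal.span (u : Set A) := by
    let E : Subring A := RingHom.eqLocus
      ((Ideal.Quotient.mk (Ideal.span (u : Set A))).comp (MulSemiringAction.toRingHom G A σ))
      (Ideal.Quotient.mk (Ideal.span (u : Set A)))
    have hE : ∀ a : A, a ∈ E ↔ σ • a - a ∈ Ideal.span (u : Set A) := by
      intro a
      rw [← Ideal.Quotient.eq]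
      rfl
    have hyE : ∀ i : {x // x ∈ insert v t}, (i : A) ∈ E := by
      rintro ⟨i, hi⟩
      rw [hE]
      rcases Finset.mem_insert.mp hi with rfl | hit
      · rw [hcon σ, sub_self]
        exact zero_mem _
      · exact Ideal.subset_span (Finset.mem_image_of_mem _ hit)
    have hres : ∀ a : A, ∃ e ∈ E, a - e ∈ IsLocalRing.maximalIdeal A := by
      intro a
      obtain ⟨c, hc⟩ := hk (IsLocalRing.residue A a)
      refine ⟨algebraMap k A c, ?_, ?_⟩
      · rw [hE, hGk, sub_self]
        exact zero_mem _
      · rw [← IsLocalRing.residue_eq_zero_iff, map_sub, sub_eq_zero]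
        exact hc.symm
    intro a
    rw [← Ideal.Quotient.eq_zero_iff_mem]
    apply IsHausdorff.haus' (I := IsLocalRing.maximalIdeal A)
      (Ideal.Quotient.mk (Ideal.span (u : Set A)) (σ • a - a))
    intro n
    rw [SModEq.zero]
    obtain ⟨e, he, hr⟩ := Groth.Agent.Lib.DenseSubring89.exists_approx
      (Subtype.val : {x // x ∈ insert v t} → A) hy E hyE hres n a
    have h1 : σ • a - a = (σ • e - e) + (σ • (a - e) - (a - e)) := by
      rw [smul_sub]; ring
    have h2 : Ideal.Quotient.mk (Ideal.span (u : Set A)) (σ • a - a) =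
        (σ • (a - e) - (a - e)) • (1 : A ⧸ Ideal.span (u : Set A)) := by
      rw [h1, map_add, Ideal.Quotient.eq_zero_iff_mem.mpr ((hE e).mp he), zero_add,
        Algebra.smul_def, mul_one]
      rfl
    rw [h2]
    refine Submodule.smul_mem_smul (Ideal.sub_mem _ ?_ hr) Submodule.mem_top
    exact Groth.Agent.Lib.InvFinite89.smul_mem_maximalIdeal_pow σ n hr
  -- a minimal prime over `J`
  obtain ⟨P, hP⟩ := Ideal.nonempty_minimalPrimes hJtop
  have hPp : P.IsPrime := hP.1.1
  have hJP : Ideal.span (u : Set A) ≤ P := hP.1.2
  have hPh : P.height ≤ u.card := Ideal.height_le_card_of_mem_minimalPrimes_span_finset hP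
  have hspan := Groth.Agent.Lib.RegularLocal.spanFinrank_map_mk_add_one_le hv hv2
  have hPne : P ≠ IsLocalRing.maximalIdeal A := by
    intro hPm
    have h1 := IsLocalRing.maximalIdeal_height_eq_ringKrullDim (R := A)
    have h2 : ((IsLocalRing.maximalIdeal A).spanFinrank : WithBot ℕ∞) = ringKrullDim A :=
      IsRegularLocalRing.spanFinrank_maximalIdeal
    rw [hPm] at hPh
    have h3 : (IsLocalRing.maximalIdeal A).height =
        ((IsLocalRing.maximalIdeal A).spanFinrank : ℕ∞) := by
      apply WithBot.coe_injective
      rw [h1, ← h2]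
      rfl
    rw [h3, Nat.cast_le] at hPh
    omega
  have hin := hram P hPp hPne
  have hσin : σ ∈ P.inertia G := fun a => hJP (hall a)
  rw [hin, Subgroup.mem_bot] at hσin
  exact hσ hσin

end Groth.Agent.S15793
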