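import Groth.Statements.S15794
import Groth.Agent.Lib.GaloisRing89
import Groth.Agent.Lib.InvFinite89
import Groth.Agent.Lib.FTDim

set_option autoImplicit false
set_option linter.style.haveILetI false
universe u v w
open WildQuot

namespace Groth.Agent.S15794

/-- Let `A` be a complete regular local ring of Krull dimension at least `2` and prime characteristic
`p`, with maximal ideal `m`; let `k` be a field with a ring map `k → A` whose composite with `A →
A/m` is onto; let `G` be a group of order `p` acting on `A` by ring automorphisms fixing the image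
of `k` and ramified precisely at the origin (for every prime `P ≠ m`, the inertia subgroup of `P`
(the elements of `G` fixing every element modulo `P`) is trivial). Then `A` is not a flat module
over the ring of invariants `A^G`. (The published statement also asserts that `A^G ⊂ A` is local and
finite of degree `p` with trivial residue field extension; this row omits those clauses.) -/
theorem result
    (p : ℕ) [Fact p.Prime] (A : Type u) [CommRing A] [IsRegularLocalRing A] [CharP A p]
    [IsAdicComplete (IsLocalRing.maximalIdeal A) A] (hdim : 2 ≤ ringKrullDim A)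
    (k : Type v) [Field k] [Algebra k A]
    (hk : Function.Surjective (IsLocalRing.residue A ∘ algebraMap k A))
    (G : Type w) [Group G] [Finite G] [MulSemiringAction G A] (hcard : Nat.card G = p)
    (hGk : ∀ (σ : G) (c : k), σ • algebraMap k A c = algebraMap k A c)
    (hram : ∀ P : Ideal A, P.IsPrime → P ≠ IsLocalRing.maximalIdeal A → P.inertia G = ⊥) :
    ¬ Module.Flat (FixedPoints.subring A G) A := by
  classical
  open Groth.Agent.Lib.GaloisRing89 Groth.Agent.Lib.InvFinite89 in
  intro hflat
  have := Fintype.ofFinite G
  have hcardG : Fintype.card G = p := by rw [← hcard, Nat.card_eq_fintype_card]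
  obtain ⟨hNB, hfinBA, -⟩ := Groth.Agent.Lib.InvFinite89.main (G := G) k hk hGk
  have hlocB : IsLocalRing (FixedPoints.subring A G) := isLocalRing_fixedPoints
  have hint : Algebra.IsIntegral (FixedPoints.subring A G) A := isIntegral_fixedPoints
  have hinj : Function.Injective (algebraMap (FixedPoints.subring A G) A) := Subtype.val_injective
  have hfree : Module.Free (FixedPoints.subring A G) A := Module.free_of_flat_of_isLocalRing
  let e := Module.Free.chooseBasis (FixedPoints.subring A G) A
  have hne : Nonempty (Module.Free.ChooseBasisIndex (FixedPoints.subring A G) A) :=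
    e.index_nonempty
  -- the trace lands in the maximal ideal
  have htr : ∀ a : A, ((tr (G := G) a : FixedPoints.subring A G) : A) ∈
      IsLocalRing.maximalIdeal A := by
    intro a
    obtain ⟨c, hc⟩ := hk (IsLocalRing.residue A a)
    have hm : a - algebraMap k A c ∈ IsLocalRing.maximalIdeal A := by
      rw [← IsLocalRing.residue_eq_zero_iff, map_sub, sub_eq_zero]
      exact hc.symm
    have h1 : ((tr (G := G) a : FixedPoints.subring A G) : A) =
        ∑ σ : G, σ • (a - algebraMap k A c) := by
      rw [coe_tr]
      have h2 : ∀ σ : G, σ • a = σ • (a - algebraMap k A c) + algebraMap k A c := by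
        intro σ
        rw [smul_sub, hGk]
        ring
      rw [Finset.sum_congr rfl (fun σ _ => h2 σ), Finset.sum_add_distrib, Finset.sum_const,
        Finset.card_univ, hcardG, nsmul_eq_mul, CharP.cast_eq_zero A p, zero_mul, add_zero]
    rw [h1]
    exact Ideal.sum_mem _ fun σ _ => smul_mem_maximalIdeal σ hm
  -- the trace form
  let T : Matrix (Module.Free.ChooseBasisIndex (FixedPoints.subring A G) A)
      (Module.Free.ChooseBasisIndex (FixedPoints.subring A G) A) (FixedPoints.subring A G) :=
    fun i j => tr (G := G) (e i * e j)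
  have hDm : ((T.det : FixedPoints.subring A G) : A) ∈ IsLocalRing.maximalIdeal A := by
    rw [← IsLocalRing.residue_eq_zero_iff]
    have h1 : IsLocalRing.residue A ((T.det : FixedPoints.subring A G) : A) =
        ((IsLocalRing.residue A).comp (FixedPoints.subring A G).subtype) T.det := rfl
    rw [h1, RingHom.map_det]
    have h2 : ((IsLocalRing.residue A).comp (FixedPoints.subring A G).subtype).mapMatrix T = 0 := by
      ext i j
      simp only [RingHom.mapMatrix_apply, Matrix.map_apply, Matrix.zero_apply]
      exact (IsLocalRing.residue_eq_zero_iff _).mpr (htr _)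
    rw [h2, Matrix.det_zero]
  have hDnu : ¬ IsUnit T.det := by
    rw [isUnit_fixedPoints_iff]
    exact hDm
  -- a height one prime containing the discriminant
  have hspan : Ideal.span {T.det} ≠ ⊤ := by
    rwa [Ne, Ideal.span_singleton_eq_top]
  obtain ⟨q, hq⟩ := Ideal.nonempty_minimalPrimes hspan
  have hqp : q.IsPrime := hq.1.1
  have hDq : T.det ∈ q := hq.1.2 (Ideal.subset_span rfl)
  have hqh : q.height ≤ 1 :=
    Ideal.height_le_one_of_isPrincipal_of_mem_minimalPrimes (Ideal.span {T.det}) q hq
  have hdimB : ringKrullDim (FixedPoints.subring A G) = ringKrullDim A :=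
    Groth.Agent.Lib.FTDim.ringKrullDim_eq_of_isIntegral_of_injective hinj
  have hqmax : ¬ q.IsMaximal := by
    intro hmax
    have h1 : q = IsLocalRing.maximalIdeal (FixedPoints.subring A G) :=
      IsLocalRing.eq_maximalIdeal hmax
    have h2 := IsLocalRing.maximalIdeal_height_eq_ringKrullDim (R := FixedPoints.subring A G)
    rw [← h1, hdimB] at h2
    have h3 : (2 : WithBot ℕ∞) ≤ ((1 : ℕ∞) : WithBot ℕ∞) := by
      calc (2 : WithBot ℕ∞) ≤ ringKrullDim A := hdim
        _ = (q.height : WithBot ℕ∞) := h2.symm
        _ ≤ ((1 : ℕ∞) : WithBot ℕ∞) := by exact_mod_cast hqh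
    have h4 : ((2 : ℕ∞) : WithBot ℕ∞) ≤ ((1 : ℕ∞) : WithBot ℕ∞) := h3
    rw [WithBot.coe_le_coe] at h4
    exact absurd h4 (by decide)
  -- denominators
  have hQne : ∀ Q : Ideal A, Q.IsPrime → Q.comap (algebraMap (FixedPoints.subring A G) A) = q →
      Q ≠ IsLocalRing.maximalIdeal A := by
    intro Q _ hQc hQm
    apply hqmax
    rw [← hQc, hQm]
    exact Ideal.isMaximal_comap_of_isIntegral_of_isMaximal _
  obtain ⟨f, hfq, hfix⟩ := exists_denominator (A := A) (G := G) q
    (fun Q hQ hQc => hram Q hQ (hQne Q hQ hQc))
  obtain ⟨t, ht⟩ := exists_chr (f : A) hfix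
  obtain ⟨S, hS⟩ := TensorProduct.exists_finset t
  have hsum : ∀ τ : G, ∑ l ∈ S, l.1 * τ • l.2 =
      if τ = 1 then ((f ^ (Fintype.card G - 1) : FixedPoints.subring A G) : A) else 0 := by
    intro τ
    rw [← jmap_sum_tmul, ← hS, ht]
    rfl
  let W : Matrix (Module.Free.ChooseBasisIndex (FixedPoints.subring A G) A)
      (Module.Free.ChooseBasisIndex (FixedPoints.subring A G) A) (FixedPoints.subring A G) :=
    fun i j => ∑ l ∈ S, e.repr l.1 i * e.repr l.2 j
  have hTrow : ∀ (m : Module.Free.ChooseBasisIndex (FixedPoints.subring A G) A) (x : A),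
      ∑ i, T m i * e.repr x i = tr (G := G) (e m * x) := by
    intro m x
    conv_rhs => rw [← e.sum_repr x]
    rw [Finset.mul_sum, map_sum]
    refine Finset.sum_congr rfl fun i _ => ?_
    rw [mul_smul_comm, map_smul, smul_eq_mul, mul_comm]
  have hkey : ∀ m : Module.Free.ChooseBasisIndex (FixedPoints.subring A G) A,
      ∑ l ∈ S, (tr (G := G) (e m * l.1)) • l.2 = (f ^ (Fintype.card G - 1)) • e m := by
    intro m
    have h1 := sum_tr_mul (G := G) S _ hsum (e m)
    rw [Subring.smul_def, smul_eq_mul, ← h1]
    refine Finset.sum_congr rfl fun l _ => ?_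
    rw [Subring.smul_def, smul_eq_mul]
  have hTW : T * W = (f ^ (Fintype.card G - 1)) •
      (1 : Matrix (Module.Free.ChooseBasisIndex (FixedPoints.subring A G) A)
      (Module.Free.ChooseBasisIndex (FixedPoints.subring A G) A) (FixedPoints.subring A G)) := by
    apply Matrix.ext
    intro m j
    rw [Matrix.mul_apply, Matrix.smul_apply, Matrix.one_apply, smul_eq_mul]
    calc ∑ i, T m i * W i j
        = ∑ l ∈ S, (∑ i, T m i * e.repr l.1 i) * e.repr l.2 j := by
          simp only [W, Finset.mul_sum, Finset.sum_mul]
          rw [Finset.sum_comm]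
          refine Finset.sum_congr rfl fun l _ => Finset.sum_congr rfl fun i _ => ?_
          ring
      _ = ∑ l ∈ S, tr (G := G) (e m * l.1) * e.repr l.2 j := by
          refine Finset.sum_congr rfl fun l _ => ?_
          rw [hTrow]
      _ = e.repr (∑ l ∈ S, (tr (G := G) (e m * l.1)) • l.2) j := by
          rw [map_sum, Finsupp.coe_finsetSum, Finset.sum_apply]
          refine Finset.sum_congr rfl fun l _ => ?_
          rw [map_smul, Finsupp.smul_apply, smul_eq_mul]
      _ = f ^ (Fintype.card G - 1) * if m = j then 1 else 0 := by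
          rw [hkey, map_smul, Finsupp.smul_apply, smul_eq_mul, e.repr_self, Finsupp.single_apply]
  have hdet : T.det * W.det = (f ^ (Fintype.card G - 1)) ^
      Fintype.card (Module.Free.ChooseBasisIndex (FixedPoints.subring A G) A) := by
    rw [← Matrix.det_mul, hTW, Matrix.det_smul, Matrix.det_one, mul_one]
  have hmem : (f ^ (Fintype.card G - 1)) ^
      Fintype.card (Module.Free.ChooseBasisIndex (FixedPoints.subring A G) A) ∈ q := by
    rw [← hdet]
    exact Ideal.mul_mem_right _ _ hDq
  exact hfq (hqp.mem_of_pow_mem _ (hqp.mem_of_pow_mem _ hmem))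

end Groth.Agent.S15794
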