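import Groth.Statements.S15795
import Mathlib.RingTheory.RegularLocalRing.Defs
import Mathlib.RingTheory.Nakayama
import Mathlib.RingTheory.Ideal.Operations

set_option autoImplicit false
set_option linter.style.haveILetI false
universe u v
open WildQuot IsLocalRing

namespace Groth.Agent.S15795

section

variable {A : Type u} [CommRing A] [IsLocalRing A] [IsNoetherianRing A]

/-- Nakayama: an ideal `J` with `m ≤ J ⊔ m^2` contains `m`. -/
theorem le_of_le_sup_sq (J : Ideal A) (h : maximalIdeal A ≤ J ⊔ maximalIdeal A ^ 2) :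
    maximalIdeal A ≤ J := by
  have hfg : (maximalIdeal A).FG := IsNoetherian.noetherian _
  have := Submodule.le_of_le_smul_of_le_jacobson_bot (I := maximalIdeal A) (N := J)
    (N' := maximalIdeal A) hfg (IsLocalRing.maximalIdeal_le_jacobson ⊥)
    (by rw [smul_eq_mul, ← pow_two]; exact h)
  exact this

end

section

variable {A : Type u} [CommRing A] [IsLocalRing A]
  {G : Type v} [Group G] [MulSemiringAction G A]

theorem smul_mem_max (hres : ∀ (σ : G) (a : A), σ • a - a ∈ maximalIdeal A) (σ : G) (a : A)
    (ha : a ∈ maximalIdeal A) : σ • a ∈ maximalIdeal A := by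
  have := (maximalIdeal A).add_mem (hres σ a) ha
  simpa using this

theorem smul_mem_sq (hres : ∀ (σ : G) (a : A), σ • a - a ∈ maximalIdeal A) (σ : G) (a : A)
    (ha : a ∈ maximalIdeal A ^ 2) : σ • a ∈ maximalIdeal A ^ 2 := by
  rw [pow_two] at ha ⊢
  induction ha using Submodule.mul_induction_on' with
  | mem_mul_mem x hx y hy =>
    rw [smul_mul']
    exact Ideal.mul_mem_mul (smul_mem_max hres σ x hx) (smul_mem_max hres σ y hy)
  | add x _ y _ hx hy =>
    rw [smul_add]
    exact Ideal.add_mem _ hx hy

/-- stability of the flag ideals -/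
theorem stable {n : ℕ} (u : Fin n → A)
    (hres : ∀ (σ : G) (a : A), σ • a - a ∈ maximalIdeal A)
    (htri : ∀ (σ : G) (i : Fin n),
      σ • u i ∈ Ideal.span (u '' {j | j ≤ i}) ⊔ maximalIdeal A ^ 2)
    (S : Set (Fin n)) (hS : ∀ j ∈ S, ∀ j' ≤ j, j' ∈ S) (σ : G) (x : A)
    (hx : x ∈ Ideal.span (u '' S) ⊔ maximalIdeal A ^ 2) :
    σ • x ∈ Ideal.span (u '' S) ⊔ maximalIdeal A ^ 2 := by
  obtain ⟨y, hy, q, hq, rfl⟩ := Submodule.mem_sup.mp hx
  rw [smul_add]
  refine Ideal.add_mem _ ?_ (Ideal.mem_sup_right (smul_mem_sq hres σ q hq))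
  clear hx
  induction hy using Submodule.span_induction with
  | mem y hy =>
    obtain ⟨j, hj, rfl⟩ := hy
    have hsub : {j' | j' ≤ j} ⊆ S := fun j' hj' => hS j hj j' hj'
    have hle : Ideal.span (u '' {j' | j' ≤ j}) ⊔ maximalIdeal A ^ 2 ≤
        Ideal.span (u '' S) ⊔ maximalIdeal A ^ 2 :=
      sup_le_sup_right (Ideal.span_mono (Set.image_mono hsub)) _
    exact hle (htri σ j)
  | zero => simp
  | add y z _ _ hy hz =>
    rw [smul_add]
    exact Ideal.add_mem _ hy hz
  | smul a y _ hy =>
    rw [smul_eq_mul, smul_mul']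
    exact Ideal.mul_mem_left _ _ hy

end

/-- In a (regular) local ring of dimension `n` whose maximal ideal is generated by `u_1..u_n`, no
`u_i` lies in the ideal generated by the others modulo `m^2`. -/
theorem not_mem_others {A : Type u} [CommRing A] [IsLocalRing A] [IsNoetherianRing A] (n : ℕ)
    (hn : ringKrullDim A = n) (u : Fin n → A)
    (hu : Ideal.span (Set.range u) = maximalIdeal A) (i : Fin n) :
    u i ∉ Ideal.span (u '' {j | j ≠ i}) ⊔ maximalIdeal A ^ 2 := by
  intro hi
  have h1 : maximalIdeal A ≤ Ideal.span (u '' {j | j ≠ i}) ⊔ maximalIdeal A ^ 2 := by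
    conv_lhs => rw [← hu]
    rw [Ideal.span_le]
    rintro _ ⟨j, rfl⟩
    by_cases hj : j = i
    · rw [hj]; exact hi
    · exact Ideal.mem_sup_left (Ideal.subset_span ⟨j, hj, rfl⟩)
  have h2 : maximalIdeal A ≤ Ideal.span (u '' {j | j ≠ i}) := le_of_le_sup_sq _ h1
  have h3 : Ideal.span (u '' {j | j ≠ i}) = maximalIdeal A := by
    apply le_antisymm _ h2
    rw [← hu]
    exact Ideal.span_mono (Set.image_subset_range _ _)
  have hfin : (u '' {j | j ≠ i}).Finite := Set.toFinite _
  have h4 : (maximalIdeal A).spanFinrank ≤ (u '' {j | j ≠ i}).ncard := by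
    rw [← h3]
    exact Submodule.spanFinrank_span_le_ncard_of_finite hfin
  have h5 : (u '' {j | j ≠ i}).ncard ≤ n - 1 := by
    refine (Set.ncard_image_le (Set.toFinite _)).trans ?_
    have : {j : Fin n | j ≠ i} = (Finset.univ.erase i : Finset (Fin n)) := by
      ext j; simp
    rw [this, Set.ncard_coe_finset, Finset.card_erase_of_mem (Finset.mem_univ i), Finset.card_univ,
      Fintype.card_fin]
  have h6 := ringKrullDim_le_spanFinrank_maximalIdeal A
  rw [hn] at h6
  have h7 : (n : WithBot ℕ∞) ≤ ((n - 1 : ℕ) : WithBot ℕ∞) :=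
    h6.trans (by exact_mod_cast h4.trans h5)
  have h8 : n ≤ n - 1 := by exact_mod_cast h7
  have : 0 < n := i.pos
  omega

/-- Let `A` be a regular local ring of Krull dimension `n` with maximal ideal `m`, let a finite group
`G` act on `A` by ring automorphisms inducing the identity on the residue field, and let `u_1, …,
u_n` generate `m`. Suppose that for every `σ ∈ G` and every `i`, `σ u_i ∈ (u_1, …, u_i) + m ^ 2`,
i.e. the induced linear maps of `m / m ^ 2` are upper triangular in the basis given by the `u_i`.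
Then the system `u` is admissible: for every choice `σ_1, …, σ_n ∈ G` the elements `σ_1 u_1, …, σ_n
u_n` generate `m`. (The published statement is for a complete regular local ring containing a
`G`-fixed field of representatives; this row drops completeness and asks only that `G` act trivially
on the residue field.) -/
theorem result
    (A : Type u) [CommRing A] [IsRegularLocalRing A]
    (G : Type v) [Group G] [Finite G] [MulSemiringAction G A]
    (hres : ∀ (σ : G) (a : A), σ • a - a ∈ IsLocalRing.maximalIdeal A)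
    (n : ℕ) (hn : ringKrullDim A = n) (u : Fin n → A)
    (hu : Ideal.span (Set.range u) = IsLocalRing.maximalIdeal A)
    (htri : ∀ (σ : G) (i : Fin n),
      σ • u i ∈ Ideal.span (u '' {j | j ≤ i}) ⊔ IsLocalRing.maximalIdeal A ^ 2) :
    ∀ τ : Fin n → G,
      Ideal.span (Set.range fun i => τ i • u i) = IsLocalRing.maximalIdeal A := by
  intro τ
  have hum : ∀ j, u j ∈ maximalIdeal A := fun j => by
    rw [← hu]; exact Ideal.subset_span ⟨j, rfl⟩
  let J : Ideal A := Ideal.span (Set.range fun i => τ i • u i) ⊔ maximalIdeal A ^ 2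
  -- key claim
  have claim : ∀ k : ℕ, ∀ i : Fin n, i.val = k → u i ∈ J := by
    intro k
    induction k using Nat.strong_induction_on with
    | _ k ih =>
      intro i hik
      -- the lower flag ideal is contained in `J`
      have hlow : Ideal.span (u '' {j | j < i}) ⊔ maximalIdeal A ^ 2 ≤ J := by
        apply sup_le _ le_sup_right
        rw [Ideal.span_le]
        rintro _ ⟨j, hj, rfl⟩
        exact ih j.val (hik ▸ hj) j rfl
      -- decompose `τ i • u i`
      have hw : τ i • u i ∈ Ideal.span {u i} ⊔ (Ideal.span (u '' {j | j < i}) ⊔ maximalIdeal A ^ 2) := by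
        have h1 := htri (τ i) i
        have h2 : Ideal.span (u '' {j | j ≤ i}) ≤
            Ideal.span {u i} ⊔ Ideal.span (u '' {j | j < i}) := by
          rw [Ideal.span_le]
          rintro _ ⟨j, hj, rfl⟩
          rcases lt_or_eq_of_le (show j ≤ i from hj) with h | h
          · exact Ideal.mem_sup_right (Ideal.subset_span ⟨j, h, rfl⟩)
          · rw [h]; exact Ideal.mem_sup_left (Ideal.subset_span rfl)
        have h3 : Ideal.span (u '' {j | j ≤ i}) ⊔ maximalIdeal A ^ 2 ≤
            Ideal.span {u i} ⊔ (Ideal.span (u '' {j | j < i}) ⊔ maximalIdeal A ^ 2) := by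
          rw [← sup_assoc]
          exact sup_le_sup_right h2 _
        exact h3 h1
      obtain ⟨a, y, hy, hay⟩ := Ideal.mem_span_singleton_sup.mp hw
      by_cases ha : IsUnit a
      · -- `u i = a⁻¹ (w_i - y)`
        obtain ⟨b, hb⟩ := ha.exists_left_inv
        have hwJ : τ i • u i ∈ J := Ideal.mem_sup_left (Ideal.subset_span ⟨i, rfl⟩)
        have : u i = b * (τ i • u i - y) := by
          rw [← hay, add_sub_cancel_right, ← mul_assoc, hb, one_mul]
        rw [this]
        exact Ideal.mul_mem_left _ _ (Ideal.sub_mem _ hwJ (hlow hy))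
      · -- contradiction
        exfalso
        have ham : a ∈ maximalIdeal A := (IsLocalRing.mem_maximalIdeal a).mpr ha
        have h1 : τ i • u i ∈ Ideal.span (u '' {j | j < i}) ⊔ maximalIdeal A ^ 2 := by
          rw [← hay]
          refine Ideal.add_mem _ (Ideal.mem_sup_right ?_) hy
          rw [pow_two]
          exact Ideal.mul_mem_mul ham (hum i)
        have hlower : ∀ j ∈ {j : Fin n | j < i}, ∀ j' ≤ j, j' ∈ {j : Fin n | j < i} :=
          fun j hj j' hj' => lt_of_le_of_lt hj' (show j < i from hj)
        have h2 := stable u hres htri {j | j < i} hlower (τ i)⁻¹ _ h1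
        rw [inv_smul_smul] at h2
        have hsub : {j : Fin n | j < i} ⊆ {j | j ≠ i} := fun j hj => ne_of_lt (show j < i from hj)
        have h3 : Ideal.span (u '' {j | j < i}) ⊔ maximalIdeal A ^ 2 ≤
            Ideal.span (u '' {j | j ≠ i}) ⊔ maximalIdeal A ^ 2 :=
          sup_le_sup_right (Ideal.span_mono (Set.image_mono hsub)) _
        exact not_mem_others n hn u hu i (h3 h2)
  -- conclusion by Nakayama
  have hle : maximalIdeal A ≤ J := by
    rw [← hu, Ideal.span_le]
    rintro _ ⟨i, rfl⟩
    exact claim i.val i rfl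
  apply le_antisymm
  · rw [Ideal.span_le]
    rintro _ ⟨i, rfl⟩
    exact smul_mem_max hres (τ i) (u i) (hum i)
  · exact le_of_le_sup_sq _ hle

end Groth.Agent.S15795
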