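import Groth.Statements.S15797
import Groth.Agent.Lib.H8CM5
import Groth.Agent.Lib.H8CM6
-- import your own Groth.Agent.* helpers here

set_option autoImplicit false
universe u v
open WildQuot

namespace Groth.Agent.S15797

variable {A : Type*} [CommRing A]

/-- length of the quotient by an ideal, as a function of the ideal. -/
noncomputable def lenQ (I : Ideal A) : ℕ∞ := Module.length A (A ⧸ I)

theorem lenQ_top : lenQ (⊤ : Ideal A) = 0 := by
  have : Subsingleton (A ⧸ (⊤ : Ideal A)) := Ideal.Quotient.subsingleton_iff.2 rfl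
  exact Module.length_eq_zero

theorem lenQ_add_le (I : Ideal A) (a b : A) (hb : ∀ r, b * r ∈ I → r ∈ I) :
    lenQ (I ⊔ Ideal.span {a}) + lenQ (I ⊔ Ideal.span {b}) ≤ lenQ (I ⊔ Ideal.span {a * b}) := by
  have hle : I ⊔ Ideal.span {a * b} ≤ I ⊔ Ideal.span {b} :=
    sup_le le_sup_left (le_sup_of_le_right
      ((Ideal.span_singleton_le_iff_mem _).2 (Ideal.mul_mem_left _ _ (Ideal.mem_span_singleton_self b))))
  let π : (A ⧸ (I ⊔ Ideal.span {a * b})) →ₗ[A] (A ⧸ (I ⊔ Ideal.span {b})) :=
    Submodule.mapQ _ _ LinearMap.id (by simpa using hle)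
  have hπ : Function.Surjective π := by
    intro y
    obtain ⟨r, rfl⟩ := Submodule.Quotient.mk_surjective _ y
    exact ⟨Submodule.Quotient.mk r, rfl⟩
  let g : (A ⧸ (I ⊔ Ideal.span {a})) →ₗ[A] (A ⧸ (I ⊔ Ideal.span {a * b})) :=
    Submodule.mapQ _ _ (LinearMap.mulLeft A b) (by
      intro r hr
      rw [Submodule.mem_comap, LinearMap.mulLeft_apply]
      obtain ⟨i, hi, s, hs, rfl⟩ := Submodule.mem_sup.1 hr
      obtain ⟨t, rfl⟩ := Ideal.mem_span_singleton'.1 hs
      rw [mul_add]
      refine Submodule.add_mem_sup (Ideal.mul_mem_left _ _ hi) ?_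
      rw [Ideal.mem_span_singleton']
      exact ⟨t, by ring⟩)
  have hg : Function.Injective g := by
    rw [← LinearMap.ker_eq_bot, LinearMap.ker_eq_bot']
    intro y hy
    obtain ⟨r, rfl⟩ := Submodule.Quotient.mk_surjective _ y
    have h1 : b * r ∈ I ⊔ Ideal.span {a * b} := by
      have : g (Submodule.Quotient.mk r) = Submodule.Quotient.mk (b * r) := rfl
      rw [this, Submodule.Quotient.mk_eq_zero] at hy
      exact hy
    obtain ⟨i, hi, s, hs, his⟩ := Submodule.mem_sup.1 h1
    obtain ⟨t, rfl⟩ := Ideal.mem_span_singleton'.1 hs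
    have h2 : r - t * a ∈ I := by
      apply hb
      have : b * (r - t * a) = i := by rw [mul_sub, ← his]; ring
      rw [this]; exact hi
    rw [Submodule.Quotient.mk_eq_zero]
    have : r = (r - t * a) + t * a := by ring
    rw [this]
    exact Submodule.add_mem_sup h2 (Ideal.mem_span_singleton'.2 ⟨t, rfl⟩)
  have hrange : LinearMap.range g ≤ LinearMap.ker π := by
    rintro _ ⟨y, rfl⟩
    obtain ⟨r, rfl⟩ := Submodule.Quotient.mk_surjective _ y
    have : π (g (Submodule.Quotient.mk r)) = Submodule.Quotient.mk (b * r) := rfl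
    rw [LinearMap.mem_ker, this, Submodule.Quotient.mk_eq_zero]
    exact Submodule.mem_sup_right (Ideal.mem_span_singleton'.2 ⟨r, mul_comm _ _⟩)
  have h1 := Module.length_eq_add_of_exact (LinearMap.ker π).subtype π
    (Submodule.subtype_injective _) hπ (LinearMap.exact_subtype_ker_map π)
  unfold lenQ
  rw [h1]
  gcongr
  calc Module.length A (A ⧸ (I ⊔ Ideal.span {a}))
      = Module.length A (LinearMap.range g) := (LinearEquiv.ofInjective g hg).length_eq
    _ ≤ _ := Module.length_le_of_injective (Submodule.inclusion hrange)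
        (Submodule.inclusion_injective hrange)

theorem sum_lenQ_le {κ : Type*} (I : Ideal A) (S : Finset κ) (a : κ → A)
    (ha : ∀ j ∈ S, ∀ r, a j * r ∈ I → r ∈ I) :
    ∑ j ∈ S, lenQ (I ⊔ Ideal.span {a j}) ≤ lenQ (I ⊔ Ideal.span {∏ j ∈ S, a j}) := by
  classical
  induction S using Finset.induction_on with
  | empty => simp
  | insert k S hk ih =>
    rw [Finset.prod_insert hk, Finset.sum_insert hk, mul_comm, add_comm]
    refine le_trans ?_ (lenQ_add_le I _ _ (ha k (Finset.mem_insert_self k S)))
    gcongr
    exact ih fun j hj => ha j (Finset.mem_insert_of_mem hj)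


theorem prod_sup_span_le {κ : Type*} (I : Ideal A) (S : Finset κ) (a : κ → A) :
    ∏ j ∈ S, (I ⊔ Ideal.span {a j}) ≤ I ⊔ Ideal.span {∏ j ∈ S, a j} := by
  classical
  induction S using Finset.induction_on with
  | empty => simp [Ideal.span_singleton_one]
  | insert k S hk ih =>
    rw [Finset.prod_insert hk, Finset.prod_insert hk]
    refine (Ideal.mul_mono_right ih).trans ?_
    rw [Ideal.sup_mul, Ideal.mul_sup, Ideal.mul_sup, Ideal.span_singleton_mul_span_singleton]
    refine sup_le (sup_le (le_sup_of_le_left Ideal.mul_le_left) (le_sup_of_le_left Ideal.mul_le_left))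
      (sup_le (le_sup_of_le_left Ideal.mul_le_right) le_sup_right)

theorem le_radical_sup_span_prod {κ : Type*} [Fintype κ] (I m : Ideal A) (a : κ → A)
    (h : ∀ j, m ≤ (I ⊔ Ideal.span {a j}).radical) :
    m ≤ (I ⊔ Ideal.span {∏ j, a j}).radical := by
  intro x hx
  choose n hn using fun j => h j hx
  refine Ideal.radical_mono (prod_sup_span_le I Finset.univ a) ⟨∑ j, n j, ?_⟩
  rw [← Finset.prod_pow_eq_pow_sum]
  exact Ideal.prod_mem_prod fun j _ => hn j


open RingTheory.Sequence IsLocalRing in
theorem regular_mod_of_sop {A : Type u} [CommRing A] [LocCoh.IsCohenMacaulayLocalRing A]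
    {n : ℕ} (hn : ringKrullDim A = n) (v : Fin n → A) (k : Fin n) (a : A)
    (hv : ∀ i, v i ∈ maximalIdeal A) (ha : a ∈ maximalIdeal A)
    (hrad : maximalIdeal A ≤ (Ideal.span (v '' {i | i ≠ k}) ⊔ Ideal.span {a}).radical) :
    ∀ r, a * r ∈ Ideal.span (v '' {i | i ≠ k}) → r ∈ Ideal.span (v '' {i | i ≠ k}) := by
  classical
  set L : List A := (Finset.univ.erase k).toList.map v with hLdef
  have hL : Ideal.ofList L = Ideal.span (v '' {i | i ≠ k}) := by
    unfold Ideal.ofList
    congr 1
    ext r
    simp only [hLdef, List.mem_map, Finset.mem_toList, Finset.mem_erase, Finset.mem_univ, and_true,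
      Set.mem_ofPred_eq, Set.mem_image]
  have hlen : L.length = n - 1 := by
    rw [hLdef, List.length_map, Finset.length_toList, Finset.card_erase_of_mem (Finset.mem_univ k),
      Finset.card_univ, Fintype.card_fin]
  have hnpos : 1 ≤ n := Nat.one_le_iff_ne_zero.2 (fun h => by subst h; exact k.elim0)
  set Q : Ideal A := Ideal.ofList (L ++ [a]) with hQdef
  have hQ : Q = Ideal.span (v '' {i | i ≠ k}) ⊔ Ideal.span {a} := by
    rw [hQdef, Ideal.ofList_append, Ideal.ofList_singleton, hL]
  have hrs : ∀ r ∈ L ++ [a], r ∈ maximalIdeal A := by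
    intro r hr
    rw [List.mem_append, List.mem_singleton] at hr
    rcases hr with hr | rfl
    · rw [hLdef, List.mem_map] at hr
      obtain ⟨i, _, rfl⟩ := hr
      exact hv i
    · exact ha
  have hQm : Q ≤ maximalIdeal A := by
    rw [hQdef]
    unfold Ideal.ofList
    rw [Ideal.span_le]
    exact fun r hr => hrs r hr
  have hQtop : Q ≠ ⊤ := fun h => (maximalIdeal.isMaximal A).ne_top (top_le_iff.1 (h ▸ hQm))
  have : Nontrivial (A ⧸ Q) := Ideal.Quotient.nontrivial_iff.2 hQtop
  have hdim : ringKrullDim (A ⧸ Q) = 0 := by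
    have h0 : Ring.KrullDimLE 0 (A ⧸ Q) := Ring.krullDimLE_zero_iff.mpr fun J prime ↦
      Ideal.isMaximal_of_isIntegral_of_isMaximal_comap _ <| by
        have hc := prime.comap (Ideal.Quotient.mk Q)
        have h1 : Q ≤ Ideal.comap (Ideal.Quotient.mk Q) J := by
          intro q hq
          rw [Ideal.mem_comap, Ideal.Quotient.eq_zero_iff_mem.2 hq]
          exact Ideal.zero_mem _
        have h2 : maximalIdeal A ≤ Ideal.comap (Ideal.Quotient.mk Q) J := by
          have h1' : Ideal.span (v '' {i | i ≠ k}) ⊔ Ideal.span {a} ≤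
              Ideal.comap (Ideal.Quotient.mk Q) J := hQ ▸ h1
          exact hrad.trans (hc.radical_le_iff.2 h1')
        have h3 : Ideal.comap (Ideal.Quotient.mk Q) J = maximalIdeal A :=
          le_antisymm (le_maximalIdeal hc.ne_top) h2
        change (Ideal.comap (Ideal.Quotient.mk Q) J).IsMaximal
        rw [h3]
        exact maximalIdeal.isMaximal A
    exact le_antisymm (Ring.krullDimLE_iff.1 h0) ringKrullDim_nonneg_of_nontrivial
  have hreg : IsWeaklyRegular A (L ++ [a]) := by
    rw [Groth.Agent.Lib.H8CM.isWeaklyRegular_self_iff _ hrs, hdim, zero_add, hn,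
      List.length_append, hlen, List.length_singleton]
    congr 1
    omega
  rw [isWeaklyRegular_append_iff, isWeaklyRegular_singleton_iff] at hreg
  obtain ⟨_, hreg2⟩ := hreg
  intro r hr
  have hI : (Ideal.ofList L • ⊤ : Submodule A A) = Ideal.span (v '' {i | i ≠ k}) := by
    rw [hL, smul_eq_mul, Ideal.mul_top]
  have h1 : a • (Submodule.Quotient.mk r : A ⧸ (Ideal.ofList L • ⊤ : Submodule A A)) = a • 0 := by
    rw [smul_zero, ← Submodule.Quotient.mk_smul, Submodule.Quotient.mk_eq_zero, hI]
    exact hr
  have h2 := hreg2 h1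
  rwa [Submodule.Quotient.mk_eq_zero, hI] at h2


theorem span_range_update {ι : Type*} [DecidableEq ι] (v : ι → A) (k : ι) (y : A) :
    Ideal.span (Set.range (Function.update v k y)) =
      Ideal.span (v '' {i | i ≠ k}) ⊔ Ideal.span {y} := by
  apply le_antisymm
  · rw [Ideal.span_le]
    rintro _ ⟨i, rfl⟩
    by_cases hik : i = k
    · subst hik
      rw [Function.update_self]
      exact Submodule.mem_sup_right (Ideal.mem_span_singleton_self y)
    · rw [Function.update_of_ne hik]
      exact Submodule.mem_sup_left (Ideal.subset_span ⟨i, hik, rfl⟩)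
  · refine sup_le (Ideal.span_le.2 ?_) ((Ideal.span_singleton_le_iff_mem _).2 ?_)
    · rintro _ ⟨i, hik, rfl⟩
      refine Ideal.subset_span ⟨i, ?_⟩
      rw [Function.update_of_ne hik]
    · refine Ideal.subset_span ⟨k, ?_⟩
      rw [Function.update_self]

section Main
open IsLocalRing
variable {A : Type u} [CommRing A] [IsRegularLocalRing A]
  {G : Type*} [Group G] [Fintype G] [MulSemiringAction G A]

theorem smul_mem_maximalIdeal (σ : G) {a : A} (ha : a ∈ maximalIdeal A) :
    σ • a ∈ maximalIdeal A := by
  rw [mem_maximalIdeal, mem_nonunits_iff] at ha ⊢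
  intro h
  apply ha
  have := h.map (MulSemiringAction.toRingHom G A σ⁻¹)
  simpa using this

/-- mixed family: norms on `T`, translates elsewhere -/
noncomputable def wfam {n : ℕ} (u : Fin n → A) (T : Finset (Fin n)) (τ : Fin n → G) : Fin n → A :=
  fun i => if i ∈ T then ∏ σ : G, σ • u i else τ i • u i

theorem wfam_mem {n : ℕ} (u : Fin n → A) (hu : ∀ i, u i ∈ maximalIdeal A) (T : Finset (Fin n))
    (τ : Fin n → G) (i : Fin n) : wfam u T τ i ∈ maximalIdeal A := by
  unfold wfam
  split_ifs
  · exact Ideal.mem_of_dvd _ (Finset.dvd_prod_of_mem (fun σ : G => σ • u i) (Finset.mem_univ 1))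
      (smul_mem_maximalIdeal 1 (hu i))
  · exact smul_mem_maximalIdeal _ (hu i)

theorem wfam_insert {n : ℕ} (u : Fin n → A) (T : Finset (Fin n)) (k : Fin n)
    (τ : Fin n → G) : wfam u (insert k T) τ = Function.update (wfam u T τ) k (∏ σ : G, σ • u k) := by
  funext i
  by_cases hik : i = k
  · subst hik; simp [wfam]
  · simp [wfam, Finset.mem_insert, hik]

theorem wfam_update {n : ℕ} (u : Fin n → A) (T : Finset (Fin n)) (k : Fin n) (hk : k ∉ T)
    (τ : Fin n → G) (σ : G) :
    wfam u T (Function.update τ k σ) = Function.update (wfam u T τ) k (σ • u k) := by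
  funext i
  by_cases hik : i = k
  · subst hik; simp [wfam, hk]
  · simp [wfam, hik]

theorem le_radical_wfam {n : ℕ} (u : Fin n → A)
    (hwa : ∀ τ : Fin n → G,
      maximalIdeal A ≤ (Ideal.span (Set.range fun i => τ i • u i)).radical) :
    ∀ (T : Finset (Fin n)) (τ : Fin n → G),
      maximalIdeal A ≤ (Ideal.span (Set.range (wfam u T τ))).radical := by
  classical
  intro T
  induction T using Finset.induction_on with
  | empty =>
    intro τ
    have : wfam u ∅ τ = fun i => τ i • u i := by funext i; simp [wfam]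
    rw [this]
    exact hwa τ
  | insert k T hk ih =>
    intro τ
    rw [wfam_insert, span_range_update]
    apply le_radical_sup_span_prod
    intro σ
    rw [← span_range_update, ← wfam_update u T k hk]
    exact ih _

theorem main_lower {n : ℕ} (hn : ringKrullDim A = n) (u : Fin n → A)
    (hu : ∀ i, u i ∈ maximalIdeal A)
    (hwa : ∀ τ : Fin n → G,
      maximalIdeal A ≤ (Ideal.span (Set.range fun i => τ i • u i)).radical) :
    ∀ (T : Finset (Fin n)) (τ : Fin n → G),
      ((Fintype.card G ^ T.card : ℕ) : ℕ∞) ≤ lenQ (Ideal.span (Set.range (wfam u T τ))) := by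
  classical
  have hCM : LocCoh.IsCohenMacaulayLocalRing A :=
    Groth.Agent.Lib.H8CM.isCMLocalRing_of_isRegularLocalRing
  intro T
  induction T using Finset.induction_on with
  | empty =>
    intro τ
    simp only [Finset.card_empty, pow_zero, Nat.cast_one]
    rw [Order.one_le_iff_ne_zero]
    intro h0
    unfold lenQ at h0
    rw [Module.length_eq_zero_iff] at h0
    have hle : Ideal.span (Set.range (wfam u ∅ τ)) ≤ maximalIdeal A := by
      rw [Ideal.span_le]
      rintro _ ⟨i, rfl⟩
      exact wfam_mem u hu ∅ τ i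
    have hne : Ideal.span (Set.range (wfam u ∅ τ)) ≠ ⊤ := fun h =>
      (maximalIdeal.isMaximal A).ne_top (top_le_iff.1 (h ▸ hle))
    have := Ideal.Quotient.nontrivial_iff.2 hne
    exact not_subsingleton _ h0
  | insert k T hk ih =>
    intro τ
    rw [wfam_insert, span_range_update]
    refine le_trans ?_ (sum_lenQ_le _ Finset.univ (fun σ : G => σ • u k) ?_)
    · calc ((Fintype.card G ^ (insert k T).card : ℕ) : ℕ∞)
          = ∑ _σ : G, ((Fintype.card G ^ T.card : ℕ) : ℕ∞) := by
            rw [Finset.sum_const, Finset.card_univ, Finset.card_insert_of_notMem hk, pow_succ,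
              nsmul_eq_mul]
            push_cast
            ring
        _ ≤ _ := by
            refine Finset.sum_le_sum fun σ _ => ?_
            rw [← span_range_update, ← wfam_update u T k hk]
            exact ih _
    · intro σ _
      apply regular_mod_of_sop hn (wfam u T τ) k (σ • u k) (wfam_mem u hu T τ)
        (smul_mem_maximalIdeal σ (hu k))
      rw [← span_range_update, ← wfam_update u T k hk]
      exact le_radical_wfam u hwa T _

end Main


/-- Let `A` be a regular local ring of Krull dimension `n` with maximal ideal `m` generated by `u_1, …,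
u_n`, let a finite group `G` of order `g` act on `A` by ring automorphisms, and suppose `u` is
weakly admissible: for every choice `σ_1, …, σ_n ∈ G` the radical of `(σ_1 u_1, …, σ_n u_n)`
contains `m`. With `x_i = ∏_{σ ∈ G} σ u_i` the norms, the length of `A / (x_1, …, x_n)` is at least
`g ^ n` (so the finite flat map from `k[[x_1, …, x_n]]` has degree at least `g ^ n`). (The published
statement is for a complete regular local ring containing a `G`-fixed field of representatives; this
row does not assume those.) -/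
theorem result
    (A : Type u) [CommRing A] [IsRegularLocalRing A]
    (G : Type v) [Group G] [Fintype G] [MulSemiringAction G A]
    (n : ℕ) (hn : ringKrullDim A = n) (u : Fin n → A)
    (hu : Ideal.span (Set.range u) = IsLocalRing.maximalIdeal A)
    (hwa : ∀ τ : Fin n → G,
      IsLocalRing.maximalIdeal A ≤ (Ideal.span (Set.range fun i => τ i • u i)).radical) :
    ((Fintype.card G ^ n : ℕ) : ℕ∞) ≤
      Module.length A (A ⧸ Ideal.span (Set.range fun i => ∏ σ : G, σ • u i)) := by
  have hu' : ∀ i, u i ∈ IsLocalRing.maximalIdeal A := fun i => by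
    rw [← hu]; exact Ideal.subset_span (Set.mem_range_self i)
  have h := main_lower hn u hu' hwa Finset.univ (fun _ => (1 : G))
  have h3 : wfam u Finset.univ (fun _ => (1 : G)) = fun i => ∏ σ : G, σ • u i := by
    funext i; simp [wfam]
  rw [h3, Finset.card_univ, Fintype.card_fin] at h
  exact h

end Groth.Agent.S15797
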