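import Groth.Statements.S15801
import Groth.Agent.Lib.FinRegFree89
import Groth.Agent.Lib.LengthFinrank97
import Groth.Agent.Lib.H59PowerSeriesDim
import Groth.Agent.Lib.CohenStructure

set_option autoImplicit false
universe u v
open WildQuot

namespace Groth.Agent.S15801

open IsLocalRing in
theorem maximalIdeal_ps (k : Type v) [Field k] (n : ℕ) :
    maximalIdeal (MvPowerSeries (Fin n) k) =
      Ideal.span (Set.range (MvPowerSeries.X : Fin n → MvPowerSeries (Fin n) k)) := by
  rw [Groth.Agent.Lib.H59PowerSeries.maximalIdeal_eq_bigIdeal,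
    Groth.Agent.Lib.H59PowerSeries.bigIdeal, IsLocalRing.maximalIdeal_eq_bot (R := k),
    Ideal.map_bot, sup_bot_eq]


/-- Let `A` be a complete regular local ring of Krull dimension `n`, `k` a field with `k → A` mapping
onto the residue field, `x_1, …, x_n ∈ A` a system of parameters (the radical of `(x_1, …, x_n)` is
the maximal ideal), and `φ : k[[X_1, …, X_n]] → A` the `k`-algebra map with `φ X_i = x_i`. Then `A`
is a finite free module over `k[[X_1, …, X_n]]` through `φ`, of rank the length `d` of `A / (x_1, …,
x_n)`: there are `b_1, …, b_d ∈ A` such that `(r_1, …, r_d) ↦ Σ φ(r_i) b_i` is a bijection from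
`d`-tuples of power series onto `A`. -/
theorem result
    (A : Type u) [CommRing A] [IsRegularLocalRing A]
    [IsAdicComplete (IsLocalRing.maximalIdeal A) A] (n : ℕ) (hn : ringKrullDim A = n)
    (k : Type v) [Field k] [Algebra k A]
    (hk : Function.Surjective (IsLocalRing.residue A ∘ algebraMap k A))
    (x : Fin n → A) (hx : (Ideal.span (Set.range x)).radical = IsLocalRing.maximalIdeal A)
    (φ : MvPowerSeries (Fin n) k →ₐ[k] A) (hφ : ∀ i, φ (MvPowerSeries.X i) = x i) :
    ∃ (d : ℕ) (b : Fin d → A), (d : ℕ∞) = Module.length A (A ⧸ Ideal.span (Set.range x)) ∧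
      Function.Bijective (fun r : Fin d → MvPowerSeries (Fin n) k => ∑ i, φ (r i) * b i) := by
  classical
  have hS : IsRegularLocalRing (MvPowerSeries (Fin n) k) :=
    Groth.Agent.Lib.H59PowerSeriesDim.isRegularLocalRing_psk n
  have hmS := maximalIdeal_ps k n
  have hcompl : IsAdicComplete (IsLocalRing.maximalIdeal (MvPowerSeries (Fin n) k))
      (MvPowerSeries (Fin n) k) := by
    have := Groth.Agent.Lib.H59PowerSeries.isAdicComplete_bigIdeal (σ := Fin n)
      (⊥ : Ideal k)
    rw [Groth.Agent.Lib.H59PowerSeries.maximalIdeal_eq_bigIdeal,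
      IsLocalRing.maximalIdeal_eq_bot (R := k)]
    exact this
  -- the image of the maximal ideal
  have hmap : (IsLocalRing.maximalIdeal (MvPowerSeries (Fin n) k)).map φ.toRingHom =
      Ideal.span (Set.range x) := by
    rw [hmS, Ideal.map_span, ← Set.range_comp]
    congr 2
    ext i
    exact hφ i
  have hxle : Ideal.span (Set.range x) ≤ IsLocalRing.maximalIdeal A := by
    rw [← hx]
    exact Ideal.le_radical
  have hfin : φ.toRingHom.Finite := by
    refine Groth.Agent.Lib.CohenStructure.finite_of_primary φ.toRingHom ?_ ?_ ?_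
    · rw [hmap]; exact hxle
    · rw [hmap, hx]
    · intro y
      obtain ⟨c, hc⟩ := hk y
      refine ⟨algebraMap k _ c, ?_⟩
      rw [← hc]
      show IsLocalRing.residue A (φ (algebraMap k _ c)) = _
      rw [AlgHom.commutes]
      rfl
  -- injectivity by dimension
  have hdimS : ringKrullDim (MvPowerSeries (Fin n) k) = n :=
    Groth.Agent.Lib.H59PowerSeriesDim.ringKrullDim_psk n
  have hinj : Function.Injective φ.toRingHom := by
    rw [RingHom.injective_iff_ker_eq_bot]
    by_contra hne
    obtain ⟨r, hr, hr0⟩ := Submodule.exists_mem_ne_zero_of_ne_bot hne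
    have hdom : IsDomain (MvPowerSeries (Fin n) k) :=
      Groth.Agent.Lib.RegularLocal.isDomain _
    have hr' : r ∈ nonZeroDivisors (MvPowerSeries (Fin n) k) := mem_nonZeroDivisors_of_ne_zero hr0
    have h1 := ringKrullDim_succ_le_of_surjective
      (Ideal.Quotient.mk (RingHom.ker φ.toRingHom)) Ideal.Quotient.mk_surjective hr'
      (Ideal.Quotient.eq_zero_iff_mem.mpr hr)
    -- `S/ker φ → A` injective integral
    let ψ : (MvPowerSeries (Fin n) k ⧸ RingHom.ker φ.toRingHom) →+* A :=
      RingHom.kerLift φ.toRingHom
    have hψinj : Function.Injective ψ := RingHom.kerLift_injective φ.toRingHom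
    have hψfin : ψ.Finite := by
      have : φ.toRingHom = ψ.comp (Ideal.Quotient.mk (RingHom.ker φ.toRingHom)) := by
        ext a; rfl
      rw [this] at hfin
      exact RingHom.Finite.of_comp_finite hfin
    have h2 : ringKrullDim (MvPowerSeries (Fin n) k ⧸ RingHom.ker φ.toRingHom) =
        ringKrullDim A := by
      algebraize [ψ]
      have : Algebra.IsIntegral (MvPowerSeries (Fin n) k ⧸ RingHom.ker φ.toRingHom) A :=
        inferInstance
      exact Groth.Agent.Lib.FTDim.ringKrullDim_eq_of_isIntegral_of_injective hψinj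
    rw [h2, hn, hdimS] at h1
    have h3 : ((n + 1 : ℕ) : WithBot ℕ∞) ≤ ((n : ℕ) : WithBot ℕ∞) := by
      rw [Nat.cast_add, Nat.cast_one]; exact h1
    rw [Nat.cast_le] at h3
    omega
  algebraize [φ.toRingHom]
  have halg : ∀ s : MvPowerSeries (Fin n) k, algebraMap (MvPowerSeries (Fin n) k) A s = φ s :=
    fun s => rfl
  have hfinM : Module.Finite (MvPowerSeries (Fin n) k) A := hfin
  have hfree : Module.Free (MvPowerSeries (Fin n) k) A :=
    Groth.Agent.Lib.FinRegFree89.free_of_finite_of_injective _ A hinj
  let b : Module.Basis (Fin (Module.finrank (MvPowerSeries (Fin n) k) A))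
    (MvPowerSeries (Fin n) k) A := Module.finBasis _ A
  refine ⟨Module.finrank (MvPowerSeries (Fin n) k) A, b, ?_, ?_⟩
  · -- length
    have hmem : ∀ t : MvPowerSeries (Fin n) k, MvPowerSeries.constantCoeff t = 0 →
        φ t ∈ Ideal.span (Set.range x) := by
      intro t ht
      rw [← hmap]
      refine Ideal.mem_map_of_mem _ ?_
      rw [IsLocalRing.mem_maximalIdeal, mem_nonunits_iff, MvPowerSeries.isUnit_iff_constantCoeff,
        ht]
      exact not_isUnit_zero
    let g : (Fin (Module.finrank (MvPowerSeries (Fin n) k) A) → k) →ₗ[k]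
        (A ⧸ Ideal.span (Set.range x)) :=
      Fintype.linearCombination k (fun i => (Ideal.Quotient.mk (Ideal.span (Set.range x)) (b i)))
    have hg : ∀ c, g c = Ideal.Quotient.mk (Ideal.span (Set.range x))
        (∑ i, (MvPowerSeries.C (c i) : MvPowerSeries (Fin n) k) • b i) := by
      intro c
      rw [Fintype.linearCombination_apply, map_sum]
      refine Finset.sum_congr rfl fun i _ => ?_
      rw [Algebra.smul_def]
      have h1 : (MvPowerSeries.C (c i) : MvPowerSeries (Fin n) k) • b i =
          algebraMap k A (c i) * b i := by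
        rw [Algebra.smul_def, halg]
        have : (MvPowerSeries.C (c i) : MvPowerSeries (Fin n) k) = algebraMap k _ (c i) := rfl
        rw [this, AlgHom.commutes]
      rw [h1, map_mul]
      rfl
    have hsurj : Function.Surjective g := by
      intro y
      obtain ⟨a, rfl⟩ := Ideal.Quotient.mk_surjective y
      refine ⟨fun i => MvPowerSeries.constantCoeff (b.repr a i), ?_⟩
      rw [hg]
      have ha : ∑ i, b.repr a i • b i = a := b.sum_repr a
      rw [← sub_eq_zero, ← map_sub, Ideal.Quotient.eq_zero_iff_mem]
      have hsub : (∑ i, (MvPowerSeries.C (MvPowerSeries.constantCoeff (b.repr a i)) :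
            MvPowerSeries (Fin n) k) • b i) - a =
          ∑ i, ((MvPowerSeries.C (MvPowerSeries.constantCoeff (b.repr a i)) :
            MvPowerSeries (Fin n) k) - b.repr a i) • b i := by
        rw [Finset.sum_congr rfl (fun i _ => sub_smul _ _ _), Finset.sum_sub_distrib, ha]
      rw [hsub]
      refine Ideal.sum_mem _ fun i _ => ?_
      rw [Algebra.smul_def, halg]
      refine Ideal.mul_mem_right _ _ (hmem _ ?_)
      rw [map_sub, MvPowerSeries.constantCoeff_C, sub_self]
    have hinjg : Function.Injective g := by
      rw [← LinearMap.ker_eq_bot, LinearMap.ker_eq_bot']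
      intro c hc
      rw [hg, Ideal.Quotient.eq_zero_iff_mem] at hc
      have h1 : (∑ i, (MvPowerSeries.C (c i) : MvPowerSeries (Fin n) k) • b i) ∈
          (IsLocalRing.maximalIdeal (MvPowerSeries (Fin n) k)) •
            Submodule.span (MvPowerSeries (Fin n) k) (Set.range b) := by
        rw [b.span_eq, Ideal.smul_top_eq_map]
        show _ ∈ (IsLocalRing.maximalIdeal (MvPowerSeries (Fin n) k)).map φ.toRingHom
        rw [hmap]
        exact hc
      rw [Submodule.mem_ideal_smul_span_iff_exists_sum] at h1
      obtain ⟨a, ha, hsum⟩ := h1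
      have h2 := congrArg b.repr hsum
      have h3 : (a.sum fun i c => c • b i) = Finsupp.linearCombination _ b a := rfl
      rw [h3, b.repr_linearCombination] at h2
      funext i
      have h4 := DFunLike.congr_fun h2 i
      rw [Module.Basis.repr_sum_self] at h4
      have h5 : (MvPowerSeries.C (c i) : MvPowerSeries (Fin n) k) ∈
          IsLocalRing.maximalIdeal (MvPowerSeries (Fin n) k) := by
        rw [← h4]; exact ha i
      rw [IsLocalRing.mem_maximalIdeal, mem_nonunits_iff, MvPowerSeries.isUnit_iff_constantCoeff,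
        MvPowerSeries.constantCoeff_C] at h5
      by_contra hne
      exact h5 (IsUnit.mk0 _ hne)
    let e := LinearEquiv.ofBijective g ⟨hinjg, hsurj⟩
    have hfinK : Module.Finite k (A ⧸ Ideal.span (Set.range x)) := Module.Finite.of_surjective g hsurj
    have hrank : Module.finrank k (A ⧸ Ideal.span (Set.range x)) =
        Module.finrank (MvPowerSeries (Fin n) k) A := by
      rw [← e.finrank_eq, Module.finrank_fin_fun]
    have hone : Module.finrank k (A ⧸ IsLocalRing.maximalIdeal A) = 1 := by
      rw [finrank_eq_one_iff_of_nonzero' (1 : A ⧸ IsLocalRing.maximalIdeal A) one_ne_zero]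
      intro w
      obtain ⟨c, hc⟩ := hk w
      refine ⟨c, ?_⟩
      rw [← hc, Algebra.smul_def, mul_one]
      rfl
    have := Groth.Agent.Lib.LengthFinrank97.finrank_eq_length_mul k A
      (A ⧸ Ideal.span (Set.range x))
    rw [hone, Nat.cast_one, mul_one, hrank] at this
    exact this
  · have : (fun r : Fin (Module.finrank (MvPowerSeries (Fin n) k) A) → MvPowerSeries (Fin n) k =>
        ∑ i, φ (r i) * b i) = b.equivFun.symm := by
      ext r
      rw [Module.Basis.equivFun_symm_apply]
      refine Finset.sum_congr rfl fun i _ => ?_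
      rw [Algebra.smul_def, halg]
    rw [this]
    exact b.equivFun.symm.bijective

end Groth.Agent.S15801
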