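import Groth.Statements.S15804
import Groth.Agent.Lib.GaloisPurity89b

set_option autoImplicit false
set_option linter.style.haveILetI false
universe u v w
open WildQuot

namespace Groth.Agent.S15804

/-- Let `R` be a regular local ring and `A` a normal local domain, finite over `R` (with `R → A`
injective) and with the same residue field; let a finite group `H` act faithfully on `A` by
`R`-algebra automorphisms with ring of invariants exactly `R` (so `Frac(A)/Frac(R)` is Galois with
group `H`); assume `A` has Krull dimension `2`, `H` has order `p ^ 2` for a prime `p`, and `Γ ≤ H`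
is a subgroup of order `p` whose intersection with the inertia subgroup of every non-maximal prime
of `A` is trivial (the action of `Γ` is ramified precisely at the origin). Then every nontrivial
inertia subgroup of a height-one prime of `A` has order `p`, and `H` is commutative with every
element satisfying `h ^ p = 1`, i.e. elementary abelian of order `p ^ 2`. (The published statement
is for `A` a complete regular local ring with an action ramified precisely at the origin, `R =
k[[x_1, …, x_n]]` a norm subring and `H` the Galois group of `Frac(A)/Frac(R)`, when that extension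
is Galois; this row assumes only the hypotheses listed above.) -/
theorem result
    (p : ℕ) [Fact p.Prime] (R : Type u) [CommRing R] [IsRegularLocalRing R]
    (A : Type v) [CommRing A] [IsDomain A] [IsIntegrallyClosed A] [IsLocalRing A]
    [Algebra R A] [Module.Finite R A] (hinj : Function.Injective (algebraMap R A))
    (hres : Function.Surjective (IsLocalRing.residue A ∘ algebraMap R A))
    (H : Type w) [Group H] [Finite H] [MulSemiringAction H A] [SMulCommClass H R A] [FaithfulSMul H A]
    (hfix : ∀ a : A, (∀ h : H, h • a = a) → a ∈ Set.range (algebraMap R A))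
    (hdim : ringKrullDim A = 2) (hcard : Nat.card H = p ^ 2)
    (Γ : Subgroup H) (hΓ : Nat.card Γ = p)
    (hram : ∀ P : Ideal A, P.IsPrime → P ≠ IsLocalRing.maximalIdeal A → P.inertia H ⊓ Γ = ⊥) :
    (∀ P : Ideal A, P.IsPrime → P.height = 1 → P.inertia H ≠ ⊥ → Nat.card (P.inertia H) = p) ∧
      (∀ g h : H, g * h = h * g) ∧ ∀ h : H, h ^ p = 1 := by
  classical
  have hp : p.Prime := Fact.out
  have := Fintype.ofFinite H
  have hcomm : ∀ a b : H, a * b = b * a := fun a b =>
    (IsPGroup.isMulCommutative_of_card_eq_prime_sq hcard).is_comm.comm a b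
  -- group theory: subgroups meeting `Γ` trivially
  have hGT : ∀ K : Subgroup H, K ⊓ Γ = ⊥ → Nat.card K = 1 ∨ Nat.card K = p := by
    intro K hK
    have hdisj : Disjoint K Γ := disjoint_iff.mpr hK
    have hinj := Subgroup.mul_injective_of_disjoint hdisj
    have hle : Nat.card K * Nat.card Γ ≤ Nat.card H := by
      rw [← Nat.card_prod]
      exact Nat.card_le_card_of_injective _ hinj
    rw [hΓ, hcard] at hle
    have hdvd : Nat.card K ∣ p ^ 2 := hcard ▸ Subgroup.card_subgroup_dvd_card K
    obtain ⟨i, hi, hKi⟩ := (Nat.dvd_prime_pow hp).mp hdvd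
    rw [hKi, ← pow_succ] at hle
    have hi2 : i + 1 ≤ 2 := (Nat.pow_le_pow_iff_right hp.one_lt).mp hle
    have hi01 : i = 0 ∨ i = 1 := by omega
    rcases hi01 with rfl | rfl
    · left; simpa using hKi
    · right; simpa using hKi
  have hGT2 : ∀ K : Subgroup H, K ⊓ Γ = ⊥ → Nat.card K = p → ∀ y : H, y ^ p = 1 := by
    intro K hK hKp y
    have hdisj : Disjoint K Γ := disjoint_iff.mpr hK
    have hinj := Subgroup.mul_injective_of_disjoint hdisj
    have hbij : Function.Bijective (fun g : K × Γ => (g.1 : H) * g.2) := by
      rw [Nat.bijective_iff_injective_and_card]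
      refine ⟨hinj, ?_⟩
      rw [Nat.card_prod, hKp, hΓ, hcard, sq]
    obtain ⟨⟨k, g⟩, rfl⟩ := hbij.2 y
    have hk : (k : H) ^ p = 1 := by
      have h1 : k ^ Nat.card K = 1 := pow_card_eq_one'
      rw [hKp] at h1
      exact_mod_cast congrArg Subtype.val h1
    have hg : (g : H) ^ p = 1 := by
      have h1 : g ^ Nat.card Γ = 1 := pow_card_eq_one'
      rw [hΓ] at h1
      exact_mod_cast congrArg Subtype.val h1
    show ((k : H) * g) ^ p = 1
    rw [(show Commute (k : H) g from hcomm _ _).mul_pow, hk, hg, one_mul]
  -- height one primes are not maximal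
  have hht : ∀ P : Ideal A, P.IsPrime → P.height = 1 → P ≠ IsLocalRing.maximalIdeal A := by
    intro P _ hP1 hPm
    have h1 := IsLocalRing.maximalIdeal_height_eq_ringKrullDim (R := A)
    rw [← hPm, hP1, hdim] at h1
    have h2 : ((1 : ℕ∞) : WithBot ℕ∞) = ((2 : ℕ∞) : WithBot ℕ∞) := h1
    exact absurd (WithBot.coe_injective h2) (by decide)
  refine ⟨?_, hcomm, ?_⟩
  · intro P hP hP1 hne
    rcases hGT _ (hram P hP (hht P hP hP1)) with h | h
    · exact absurd (Subgroup.card_eq_one.mp h) hne
    · exact h
  · by_contra hcon
    simp only [not_forall] at hcon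
    obtain ⟨h0, hh0⟩ := hcon
    have hram' : ∀ P : Ideal A, P.IsPrime → P ≠ IsLocalRing.maximalIdeal A →
        P.inertia H = ⊥ := by
      intro P hP hPm
      rcases hGT _ (hram P hP hPm) with h | h
      · exact Subgroup.card_eq_one.mp h
      · exact absurd (hGT2 _ (hram P hP hPm) h h0) hh0
    have hmem : ∀ r : R, algebraMap R A r ∈ FixedPoints.subring A H :=
      fun r h => smul_algebraMap h r
    let φ : R →+* FixedPoints.subring A H := (algebraMap R A).codRestrict _ hmem
    have hφbij : Function.Bijective φ :=
      ⟨fun x y hxy => hinj (congrArg Subtype.val hxy), fun b => by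
        obtain ⟨r, hr⟩ := hfix b.1 b.2
        exact ⟨r, Subtype.ext hr⟩⟩
    have hregB : IsRegularLocalRing (FixedPoints.subring A H) :=
      IsRegularLocalRing.of_ringEquiv (RingEquiv.ofBijective φ hφbij)
    letI algRB : Algebra R (FixedPoints.subring A H) := φ.toAlgebra
    have tower : IsScalarTower R (FixedPoints.subring A H) A :=
      IsScalarTower.of_algebraMap_eq (fun r => rfl)
    have hfinBA : Module.Finite (FixedPoints.subring A H) A :=
      Module.Finite.of_restrictScalars_finite R _ A
    have hNA : IsNoetherianRing A := IsNoetherianRing.of_finite R A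
    have hresB : ∀ a : A, ∃ b : FixedPoints.subring A H, a - b ∈ IsLocalRing.maximalIdeal A := by
      intro a
      obtain ⟨r, hr⟩ := hres (IsLocalRing.residue A a)
      refine ⟨φ r, ?_⟩
      rw [← IsLocalRing.residue_eq_zero_iff, map_sub, sub_eq_zero]
      exact hr.symm
    have hall := Groth.Agent.Lib.GaloisPurity89.surjective_of_normal_dim_two A hdim hresB hram'
    have h01 : h0 = 1 := by
      apply eq_of_smul_eq_smul (α := A)
      intro a
      obtain ⟨b, rfl⟩ := hall a
      rw [one_smul]
      exact b.2 h0
    exact hh0 (by rw [h01, one_pow])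

end Groth.Agent.S15804
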