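import Groth.Statements.S15805
import Groth.Agent.Lib.CIMonic58c

set_option autoImplicit false
universe u v
open WildQuot

namespace Groth.Agent.S15805



open MvPolynomial in
/-- Let `k` be a field of characteristic `p > 0`, `R = k[[x_1, …, x_n]]`, `a_1, …, a_n ∈ R` with zero
constant term and not all zero, and `A = R[u_1, …, u_n] / (u_i ^ p - a_i ^ (p-1) u_i - x_i : i =
1..n)`. Let `G` be a group of order `p` acting on `A` by `R`-algebra automorphisms, generated by an
element `g` acting by `u_i ↦ u_i + a_i`. Then the skew group ring `A∗G` (free `A`-module on `G` with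
`(a g)(b h) = a g(b) gh`) is a symmetric `R`-algebra: there is an `R`-linear form `φ : A∗G → R` with
`φ(xy) = φ(yx)` for all `x, y`, such that `y ↦ (x ↦ φ(x y))` is injective and reaches every
`R`-linear form on `A∗G` (so `Hom_R(A∗G, R) ≅ A∗G` as bimodules). -/
theorem result
    (p : ℕ) [Fact p.Prime] (k : Type u) [Field k] [CharP k p] (n : ℕ)
    (a : Fin n → MvPowerSeries (Fin n) k)
    (ham : ∀ i, MvPowerSeries.constantCoeff (a i) = 0) (hne : ∃ i, a i ≠ 0) :
    let R := MvPowerSeries (Fin n) k
    let I : Ideal (MvPolynomial (Fin n) R) :=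
      Ideal.span (Set.range fun i : Fin n =>
        X i ^ p - C (a i ^ (p - 1)) * X i - C (MvPowerSeries.X i))
    let A := MvPolynomial (Fin n) R ⧸ I
    ∀ (G : Type v) [Group G] [Finite G] [MulSemiringAction G A] [SMulCommClass G R A]
      (g : G), Nat.card G = p → (∀ h : G, h ∈ Subgroup.zpowers g) →
      (∀ i, g • (Ideal.Quotient.mk I (X i)) = Ideal.Quotient.mk I (X i) + algebraMap R A (a i)) →
      ∃ φ : SkewMonoidAlgebra A G →ₗ[R] R,
        (∀ x y : SkewMonoidAlgebra A G, φ (x * y) = φ (y * x)) ∧
        Function.Injective (fun y : SkewMonoidAlgebra A G => fun x : SkewMonoidAlgebra A G => φ (x * y)) ∧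
        ∀ ψ : SkewMonoidAlgebra A G →ₗ[R] R, ∃ y : SkewMonoidAlgebra A G, ∀ x, ψ x = φ (x * y) := by
  intro R I A G _ _ _ _ g hcard hgen hact
  classical
  have hp2 : 2 ≤ p := (Fact.out : p.Prime).two_le
  let gp : Fin n → Polynomial R := fun i =>
    Polynomial.X ^ p - (Polynomial.C (a i ^ (p - 1)) * Polynomial.X +
      Polynomial.C (MvPowerSeries.X i : R))
  have hlin : ∀ i, (Polynomial.C (a i ^ (p - 1)) * Polynomial.X +
      Polynomial.C (MvPowerSeries.X i : R) : Polynomial R).degree < (p : WithBot ℕ) := fun i =>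
    lt_of_le_of_lt Polynomial.degree_linear_le (by exact_mod_cast hp2)
  have hmon : ∀ i, (gp i).Monic := fun i => Polynomial.monic_X_pow_sub (hlin i)
  have hdeg : ∀ i, 0 < (gp i).natDegree := by
    intro i
    have : (gp i).natDegree = p := by
      have h1 : (gp i).degree = ((Polynomial.X : Polynomial R) ^ p).degree :=
        Polynomial.degree_sub_eq_left_of_degree_lt (by
          rw [Polynomial.degree_X_pow]; exact hlin i)
      rw [Polynomial.degree_X_pow] at h1
      exact Polynomial.natDegree_eq_of_degree_eq_some h1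
    omega
  have hI : I = Groth.Agent.Lib.CIMonic58.ciIdeal gp := by
    show Ideal.span _ = Ideal.span _
    congr 1
    refine congrArg Set.range (funext fun i => ?_)
    simp only [gp, map_sub, map_add, map_mul, map_pow, Polynomial.aeval_X, Polynomial.aeval_C,
      MvPolynomial.algebraMap_eq]
    ring
  exact Groth.Agent.Lib.CIMonic58.skew_symmetric gp hmon hdeg I hI a G g hgen hact

end Groth.Agent.S15805
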