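import Groth.Statements.S15806
import Groth.Agent.Lib.SchDenseFlat68
import Groth.Agent.Lib.SchDense68

set_option autoImplicit false
universe u
open CategoryTheory AlgebraicGeometry
open WildQuot

namespace Groth.Agent.S15806

section Aux
open IsLocalRing TopologicalSpace


/-- ring-level: if `P = Ann(y)` is prime, then in the localization at `P` the maximal ideal is the
annihilator of the image of `y`, and this image is nonzero. -/
theorem maximalIdeal_mem_associatedPrimes {A : Type u} [CommRing A] (P : Ideal A) [P.IsPrime]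
    (y : A) (hP : ∀ a, a ∈ P ↔ a * y = 0)
    (L : Type u) [CommRing L] [Algebra A L] [IsLocalization.AtPrime L P] [IsLocalRing L] :
    algebraMap A L y ≠ 0 ∧ maximalIdeal L ∈ associatedPrimes L L := by
  have hne : algebraMap A L y ≠ 0 := by
    intro h0
    obtain ⟨m, hm⟩ := (IsLocalization.map_eq_zero_iff P.primeCompl L y).mp h0
    exact m.2 ((hP m.1).mpr hm)
  refine ⟨hne, ?_⟩
  have hcol : (⊥ : Submodule L L).colon {algebraMap A L y} = maximalIdeal L := by
    apply le_antisymm
    · apply IsLocalRing.le_maximalIdeal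
      intro htop
      have h1 : (1 : L) ∈ (⊥ : Submodule L L).colon {algebraMap A L y} := htop ▸ Submodule.mem_top
      rw [Submodule.mem_colon_singleton] at h1
      simp at h1
      exact hne h1
    · rw [← IsLocalization.AtPrime.map_eq_maximalIdeal P L, Ideal.map_le_iff_le_comap]
      intro a ha
      rw [Ideal.mem_comap, Submodule.mem_colon_singleton, Submodule.mem_bot, smul_eq_mul,
        ← map_mul, (hP a).mp ha, map_zero]
  refine ⟨inferInstance, algebraMap A L y, ?_⟩
  rw [hcol]
  exact (Ideal.IsPrime.radical inferInstance).symm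


theorem isSchematicallyDense_of_assPoints (S : Scheme.{u}) [IsLocallyNoetherian S] (U : S.Opens)
    (hU : ∀ s : S, IsLocalRing.maximalIdeal (S.presheaf.stalk s) ∈
        associatedPrimes (S.presheaf.stalk s) (S.presheaf.stalk s) → s ∈ U) :
    CInt.IsSchematicallyDense U := by
  intro V
  rw [injective_iff_map_eq_zero]
  intro s hs
  refine S.IsSheaf.section_ext fun x hx => ?_
  obtain ⟨W, hW, hxW, hWV⟩ := Opens.isBasis_iff_nbhd.mp S.isBasis_affineOpens hx
  refine ⟨W, hWV, hxW, ?_⟩
  rw [map_zero]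
  by_contra hne
  haveI : IsNoetherianRing Γ(S, W) := IsLocallyNoetherian.component_noetherian ⟨W, hW⟩
  -- the kernel of restriction to W ⊓ U
  let res : Γ(S, W) →+* Γ(S, W ⊓ U) :=
    (S.presheaf.map (homOfLE (inf_le_left : W ⊓ U ≤ W)).op).hom
  let I : Ideal Γ(S, W) := RingHom.ker res
  set t : Γ(S, W) := (S.presheaf.map (homOfLE hWV).op).hom s with ht
  have htI : t ∈ I := by
    change res t = 0
    have h1 : res t = (S.presheaf.map (homOfLE (inf_le_inf_right U hWV : W ⊓ U ≤ V ⊓ U)).op).hom
        ((S.presheaf.map (homOfLE (inf_le_left : V ⊓ U ≤ V)).op).hom s) := by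
      simp only [res, ht, ← CommRingCat.comp_apply, ← Functor.map_comp]
      rfl
    rw [h1, hs, map_zero]
  haveI : Nontrivial I := ⟨⟨⟨t, htI⟩, 0, fun h => hne (congrArg Subtype.val h)⟩⟩
  obtain ⟨P, hP⟩ := associatedPrimes.nonempty Γ(S, W) I
  rw [AssociatedPrimes.mem_iff, isAssociatedPrime_iff] at hP
  obtain ⟨hPprime, y, hPy⟩ := hP
  haveI := hPprime
  have hPy' : ∀ a, a ∈ P ↔ a * y.1 = 0 := by
    intro a
    rw [hPy, Submodule.mem_colon_singleton, Submodule.mem_bot]
    constructor
    · intro h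
      have := congrArg Subtype.val h
      simpa using this
    · intro h
      apply Subtype.ext
      simpa using h
  -- the point
  set z : S := hW.fromSpec ⟨P, hPprime⟩ with hz
  have hzW : z ∈ W := (hW.isoSpec.inv _).2
  letI : Algebra Γ(S, W) (S.presheaf.stalk z) :=
    TopCat.Presheaf.algebra_section_stalk S.presheaf ⟨z, hzW⟩
  haveI : IsLocalization.AtPrime (S.presheaf.stalk z) P :=
    hW.isLocalization_stalk' ⟨P, hPprime⟩ hzW
  obtain ⟨h1, h2⟩ := maximalIdeal_mem_associatedPrimes P y.1 hPy' (S.presheaf.stalk z)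
  have hzU : z ∈ U := hU z h2
  apply h1
  change (S.presheaf.germ W z hzW).hom y.1 = 0
  have hzWU : z ∈ W ⊓ U := ⟨hzW, hzU⟩
  have h3 : (S.presheaf.germ W z hzW).hom y.1 =
      (S.presheaf.germ (W ⊓ U) z hzWU).hom (res y.1) :=
    (S.presheaf.germ_res_apply (homOfLE (inf_le_left : W ⊓ U ≤ W)) z hzWU y.1).symm
  rw [h3, show res y.1 = 0 from y.2, map_zero]


end Aux

/-- Let `S` be a Noetherian scheme, `G_1 → S` and `G_2 → S` finite flat morphisms, and `U ⊆ S` an open
subset containing every associated point of `S`, i.e. every point whose local ring has the maximal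
ideal as an associated prime (for `S` Noetherian this says exactly that `U` is dense and contains
all points at which `S` does not satisfy Serre's condition `S_1`, which is the printed hypothesis).
If two `S`-morphisms `φ, ψ : G_1 → G_2` agree on the preimage of `U`, then `φ = ψ`. -/
theorem result
    (S G₁ G₂ : Scheme.{u}) [AlgebraicGeometry.IsNoetherian S] (f₁ : G₁ ⟶ S) (f₂ : G₂ ⟶ S)
    [AlgebraicGeometry.IsFinite f₁] [AlgebraicGeometry.Flat f₁]
    [AlgebraicGeometry.IsFinite f₂] [AlgebraicGeometry.Flat f₂]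
    (U : S.Opens)
    (hU : ∀ s : S, IsLocalRing.maximalIdeal (S.presheaf.stalk s) ∈
        associatedPrimes (S.presheaf.stalk s) (S.presheaf.stalk s) → s ∈ U)
    (φ ψ : G₁ ⟶ G₂) (hφ : φ ≫ f₂ = f₁) (hψ : ψ ≫ f₂ = f₁)
    (h : (f₁ ⁻¹ᵁ U).ι ≫ φ = (f₁ ⁻¹ᵁ U).ι ≫ ψ) : φ = ψ := by
  have h1 := isSchematicallyDense_of_assPoints S U hU
  have h2 := Groth.Agent.Lib.SchDenseFlat68.isSchematicallyDense_preimage_of_flat f₁ U h1
  exact Groth.Agent.Lib.SchDense68.ext_of_isSchematicallyDense_of_isSeparated f₂
    (hφ.trans hψ.symm) (f₁ ⁻¹ᵁ U) h2 h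

end Groth.Agent.S15806
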