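import Groth.Statements.S15807
import Groth.Agent.Lib.CIMonic58e
import Mathlib.RingTheory.MvPowerSeries.NoZeroDivisors

set_option autoImplicit false
universe u
open WildQuot

namespace Groth.Agent.S15807



open MvPolynomial in
/-- Let `k` be a field of characteristic `p > 0`, `n ≥ 3`, `R = k[[x_1, …, x_n]]`, `a_1, …, a_n ∈ R`
with zero constant term and pairwise coprime, `μ ∈ R` nonzero and coprime to each `a_i`, and `A =
R[u_1, …, u_n] / (u_i ^ p - (μ a_i) ^ (p-1) u_i - x_i : i = 1..n)`. Fix an index `i₀`. Then the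
`R`-algebra map `R[Z_j : j ≠ i₀] → A` sending `Z_j` to the minor element `z_j = a_{i₀} u_j - a_j
u_{i₀}` has kernel generated by the polynomials `Z_j ^ p - (μ a_{i₀} a_j) ^ (p-1) Z_j - (a_{i₀} ^ p
x_j - a_j ^ p x_{i₀})`; i.e. the complete intersection `R[Z_j] /` (these relations) maps
isomorphically onto the subring of `A` generated over `R` by the minor elements through `u_{i₀}`.
(The published statement uses the first index for `i₀` and allows `n ≥ 2`; this row allows any index
`i₀` and takes `n ≥ 3`.) -/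
theorem result
    (p : ℕ) [Fact p.Prime] (k : Type u) [Field k] [CharP k p] (n : ℕ) (hn : 3 ≤ n)
    (a : Fin n → MvPowerSeries (Fin n) k) (μ : MvPowerSeries (Fin n) k)
    (ham : ∀ i, MvPowerSeries.constantCoeff (a i) = 0) (hcop : ∀ i j, i ≠ j → IsRelPrime (a i) (a j))
    (hμ : μ ≠ 0) (hμa : ∀ i, IsRelPrime μ (a i)) (i₀ : Fin n) :
    let R := MvPowerSeries (Fin n) k
    let I : Ideal (MvPolynomial (Fin n) R) :=
      Ideal.span (Set.range fun i : Fin n =>
        X i ^ p - C ((μ * a i) ^ (p - 1)) * X i - C (MvPowerSeries.X i))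
    let A := MvPolynomial (Fin n) R ⧸ I
    let u : Fin n → A := fun i => Ideal.Quotient.mk I (X i)
    let z : {j : Fin n // j ≠ i₀} → A := fun j =>
      algebraMap R A (a i₀) * u j.1 - algebraMap R A (a j.1) * u i₀
    let r : {j : Fin n // j ≠ i₀} → MvPolynomial {j : Fin n // j ≠ i₀} R := fun j =>
      X j ^ p - C ((μ * a i₀ * a j.1) ^ (p - 1)) * X j
        - C (a i₀ ^ p * MvPowerSeries.X j.1 - a j.1 ^ p * MvPowerSeries.X i₀)
    RingHom.ker (MvPolynomial.aeval z : MvPolynomial {j : Fin n // j ≠ i₀} R →ₐ[R] A) =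
      Ideal.span (Set.range r) := by
  intro R I A u z r
  classical
  have hp2 : 2 ≤ p := (Fact.out : p.Prime).two_le
  have : CharP R p := charP_of_injective_algebraMap (algebraMap k R).injective p
  -- `a i₀ ≠ 0`
  have ha0 : a i₀ ≠ 0 := by
    intro h0
    obtain ⟨j, hj⟩ : ∃ j : Fin n, j ≠ i₀ := by
      by_contra hall
      push Not at hall
      have h1 : (⟨0, by omega⟩ : Fin n) = i₀ := hall _
      have h2 : (⟨1, by omega⟩ : Fin n) = i₀ := hall _
      have := h1.trans h2.symm
      simp [Fin.ext_iff] at this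
    have h1 := hcop i₀ j (Ne.symm hj)
    rw [h0, isRelPrime_zero_left] at h1
    have h2 := MvPowerSeries.isUnit_constantCoeff _ h1
    rw [ham j] at h2
    exact not_isUnit_zero h2
  let gp : Fin n → Polynomial R := fun i =>
    Polynomial.X ^ p - (Polynomial.C ((μ * a i) ^ (p - 1)) * Polynomial.X +
      Polynomial.C (MvPowerSeries.X i : R))
  let rp : {j : Fin n // j ≠ i₀} → Polynomial R := fun j =>
    Polynomial.X ^ p - (Polynomial.C ((μ * a i₀ * a j.1) ^ (p - 1)) * Polynomial.X +
      Polynomial.C (a i₀ ^ p * MvPowerSeries.X j.1 - a j.1 ^ p * MvPowerSeries.X i₀ : R))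
  have hlin : ∀ c d : R, (Polynomial.C c * Polynomial.X + Polynomial.C d : Polynomial R).degree <
      (p : WithBot ℕ) := fun c d =>
    lt_of_le_of_lt Polynomial.degree_linear_le (by exact_mod_cast hp2)
  have hnat : ∀ c d : R, (Polynomial.X ^ p - (Polynomial.C c * Polynomial.X + Polynomial.C d) :
      Polynomial R).natDegree = p := by
    intro c d
    have h1 : (Polynomial.X ^ p - (Polynomial.C c * Polynomial.X + Polynomial.C d) :
        Polynomial R).degree = ((Polynomial.X : Polynomial R) ^ p).degree :=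
      Polynomial.degree_sub_eq_left_of_degree_lt (by
        rw [Polynomial.degree_X_pow]; exact hlin c d)
    rw [Polynomial.degree_X_pow] at h1
    exact Polynomial.natDegree_eq_of_degree_eq_some h1
  have hmon : ∀ i, (gp i).Monic := fun i => Polynomial.monic_X_pow_sub (hlin _ _)
  have hdeg : ∀ i, 0 < (gp i).natDegree := fun i => by
    have : (gp i).natDegree = p := hnat _ _
    omega
  have hrmon : ∀ j, (rp j).Monic := fun j => Polynomial.monic_X_pow_sub (hlin _ _)
  have hrd : ∀ j, (rp j).natDegree ≤ (gp j.1).natDegree := fun j => by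
    have h1 : (rp j).natDegree = p := hnat _ _
    have h2 : (gp j.1).natDegree = p := hnat _ _
    omega
  have hI : I = Groth.Agent.Lib.CIMonic58.ciIdeal gp := by
    show Ideal.span _ = Ideal.span _
    congr 1
    refine congrArg Set.range (funext fun i => ?_)
    simp only [gp, map_sub, map_add, map_mul, map_pow, Polynomial.aeval_X, Polynomial.aeval_C,
      MvPolynomial.algebraMap_eq]
    ring
  have hr : Ideal.span (Set.range r) = Groth.Agent.Lib.CIMonic58.ciIdeal rp := by
    show Ideal.span _ = Ideal.span _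
    congr 1
    refine congrArg Set.range (funext fun j => ?_)
    simp only [r, rp, map_sub, map_add, map_mul, map_pow, Polynomial.aeval_X, Polynomial.aeval_C,
      MvPolynomial.algebraMap_eq]
    ring
  -- the relations in `A`
  have hu : ∀ i, u i ^ p = algebraMap R A ((μ * a i) ^ (p - 1)) * u i +
      algebraMap R A (MvPowerSeries.X i) := by
    intro i
    have h1 : (MvPolynomial.X i ^ p - MvPolynomial.C ((μ * a i) ^ (p - 1)) * MvPolynomial.X i -
        MvPolynomial.C (MvPowerSeries.X i : R) : MvPolynomial (Fin n) R) ∈ I :=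
      Ideal.subset_span ⟨i, rfl⟩
    have h2 := (Ideal.Quotient.eq_zero_iff_mem).mpr h1
    rw [map_sub, map_sub, map_mul, map_pow] at h2
    have h3 : ∀ c : R, Ideal.Quotient.mk I (MvPolynomial.C c) = algebraMap R A c := fun c => rfl
    rw [h3, h3] at h2
    linear_combination h2
  have hzp : ∀ j : {j : Fin n // j ≠ i₀}, z j ^ p =
      algebraMap R A (a i₀) ^ p * u j.1 ^ p - algebraMap R A (a j.1) ^ p * u i₀ ^ p := by
    intro j
    have h1 : (MvPolynomial.C (a i₀) * MvPolynomial.X j.1 -
        MvPolynomial.C (a j.1) * MvPolynomial.X i₀ : MvPolynomial (Fin n) R) ^ p =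
        MvPolynomial.C (a i₀) ^ p * MvPolynomial.X j.1 ^ p -
          MvPolynomial.C (a j.1) ^ p * MvPolynomial.X i₀ ^ p := by
      rw [sub_pow_char, mul_pow, mul_pow]
    have h2 := congrArg (Ideal.Quotient.mk I) h1
    simp only [map_sub, map_mul, map_pow] at h2
    exact h2
  have hz : ∀ j : {j : Fin n // j ≠ i₀}, Polynomial.aeval (z j) (rp j) = 0 := by
    intro j
    simp only [rp, map_sub, map_add, map_mul, map_pow, Polynomial.aeval_X, Polynomial.aeval_C]
    rw [hzp, hu, hu]
    obtain ⟨q, hq⟩ : ∃ q, p = q + 1 := ⟨p - 1, by omega⟩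
    have hq' : p - 1 = q := by omega
    rw [hq', hq]
    simp only [map_mul, map_pow, z]
    ring
  rw [hr]
  exact Groth.Agent.Lib.CIMonic58.ker_aeval_minor_of_eq gp hmon hdeg i₀ (a i₀)
    (fun j => a j.1) I hI (mem_nonZeroDivisors_of_ne_zero ha0) rp hrmon hrd hz

end Groth.Agent.S15807
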