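import Groth.Statements.S1581
import Mathlib.AlgebraicGeometry.Morphisms.FlatDescent
import Mathlib.AlgebraicGeometry.Morphisms.LocalFlatDescent

set_option autoImplicit false
universe u
open CategoryTheory CategoryTheory.Limits AlgebraicGeometry
open Variety

namespace Groth.Agent.S1581

/-- Let X be a scheme over a field k and K a field extension of k. If X_K is proper over K then X is
proper over k. -/
theorem result (k : Type u) [Field k] (X : Scheme.{u}) [X.Over (Spec (CommRingCat.of k))] (K : Type u) [Field K] [Algebra k K]
    [IsProper (Curv2.bcSnd k X K)] : IsProper (X ↘ (Spec (CommRingCat.of k))) := by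
  set f := X ↘ (Spec (CommRingCat.of k)) with hf
  set g := Spec.map (CommRingCat.ofHom (algebraMap k K)) with hg
  have hflat : Flat g := by
    rw [hg, HasRingHomProperty.Spec_iff (P := @Flat)]
    simp only [CommRingCat.hom_ofHom]
    rw [RingHom.flat_algebraMap_iff]
    infer_instance
  have hsurj : Surjective g := by
    constructor
    intro x
    have : Nonempty (Spec (CommRingCat.of K)) := inferInstance
    obtain ⟨y⟩ := this
    exact ⟨y, Subsingleton.elim _ _⟩
  have hQ : (@Surjective ⊓ @Flat ⊓ @QuasiCompact : MorphismProperty Scheme.{u}) g :=
    ⟨⟨hsurj, hflat⟩, inferInstance⟩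
  have h1 : UniversallyClosed f :=
    MorphismProperty.of_pullback_snd_of_descendsAlong (P := @UniversallyClosed)
      (Q := @Surjective ⊓ @Flat ⊓ @QuasiCompact) (f := f) (g := g) hQ inferInstance
  have h2 : LocallyOfFiniteType f :=
    MorphismProperty.of_pullback_snd_of_descendsAlong (P := @LocallyOfFiniteType)
      (Q := @Surjective ⊓ @Flat ⊓ @QuasiCompact) (f := f) (g := g) hQ inferInstance
  have h3 : (MorphismProperty.diagonal @UniversallyClosed) f :=
    MorphismProperty.of_pullback_snd_of_descendsAlong (P := MorphismProperty.diagonal @UniversallyClosed)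
      (Q := @Surjective ⊓ @Flat ⊓ @QuasiCompact) (f := f) (g := g) hQ (by
        show UniversallyClosed (pullback.diagonal (pullback.snd f g))
        infer_instance)
  have h4 : IsSeparated f := by
    have : UniversallyClosed (pullback.diagonal f) := h3
    refine ⟨IsClosedImmersion.of_isPreimmersion _ ?_⟩
    exact (pullback.diagonal f).isClosedMap.isClosed_range
  exact { }

end Groth.Agent.S1581
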