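import Groth.Statements.S15811
import Mathlib.Algebra.Polynomial.Splits
import Mathlib.FieldTheory.Finite.Basic
import Mathlib.RingTheory.IntegralClosure.IntegrallyClosed
import Mathlib.Algebra.CharP.Algebra

set_option autoImplicit false
universe u
open WildQuot

namespace Groth.Agent.S15811

open Polynomial in
theorem splits_of_pow (p : ℕ) [Fact p.Prime] (K : Type u) [Field K] [CharP K p] (a : K)
    (ha : a ≠ 0) : (X ^ p - C (a ^ (p - 1)) * X : K[X]).Splits := by
  classical
  have hp : p.Prime := Fact.out
  have hp2 : 2 ≤ p := hp.two_le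
  set f : K[X] := X ^ p - C (a ^ (p - 1)) * X with hf
  have hdeg : f.natDegree = p := by
    rw [hf, natDegree_sub_eq_left_of_natDegree_lt]
    · exact natDegree_X_pow p
    · rw [natDegree_X_pow]
      exact (natDegree_C_mul_le _ _).trans_lt (by rw [natDegree_X]; omega)
  have hf0 : f ≠ 0 := by
    intro h
    rw [h, natDegree_zero] at hdeg
    omega
  rw [splits_iff_card_roots, hdeg]
  let φ : ZMod p →+* K := ZMod.castHom (dvd_refl p) K
  let S : Finset K := Finset.univ.image (fun c : ZMod p => φ c * a)
  have hinj : Function.Injective (fun c : ZMod p => φ c * a) := by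
    intro c c' h
    exact φ.injective (mul_right_cancel₀ ha h)
  have hS : S.card = p := by
    rw [Finset.card_image_of_injective _ hinj, Finset.card_univ, ZMod.card]
  have hroot : ∀ x ∈ S, x ∈ f.roots := by
    intro x hx
    obtain ⟨c, _, rfl⟩ := Finset.mem_image.mp hx
    rw [mem_roots hf0, IsRoot, hf]
    simp only [eval_sub, eval_pow, eval_X, eval_mul, eval_C]
    have hc : φ c ^ p = φ c := by
      rw [← map_pow, ZMod.pow_card]
    have hpow : a ^ p = a ^ (p - 1) * a := by
      rw [← pow_succ]; congr 1; omega
    rw [mul_pow, hc, hpow]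
    ring
  have hle : S.val ≤ f.roots := by
    rw [Finset.val_le_iff_val_subset]
    intro x hx
    exact hroot x (Finset.mem_val.mp hx)
  have h1 : p ≤ f.roots.card := by
    rw [← hS]
    exact Multiset.card_le_card hle
  have h2 : f.roots.card ≤ p := by
    rw [← hdeg]
    exact card_roots' f
  omega

/-- statement -/
theorem result
    (p : ℕ) [Fact p.Prime] (R : Type u) [CommRing R] [IsDomain R] [IsIntegrallyClosed R]
    [CharP R p] (α : R) :
    (α ≠ 0 ∧ (Polynomial.map (algebraMap R (FractionRing R))
        (Polynomial.X ^ p - Polynomial.C α * Polynomial.X)).Splits) ↔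
      ∃ a : R, a ≠ 0 ∧ α = a ^ (p - 1) := by
  have hp : p.Prime := Fact.out
  have hp2 : 2 ≤ p := hp.two_le
  haveI : CharP (FractionRing R) p :=
    charP_of_injective_algebraMap (IsFractionRing.injective R (FractionRing R)) p
  constructor
  · rintro ⟨hα, hs⟩
    simp only [Polynomial.map_sub, Polynomial.map_pow, Polynomial.map_X, Polynomial.map_mul,
      Polynomial.map_C] at hs
    set α' := algebraMap R (FractionRing R) α with hα'
    have hα'0 : α' ≠ 0 := by
      rw [hα']
      exact (map_ne_zero_iff _ (IsFractionRing.injective R (FractionRing R))).mpr hα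
    have hfac : (Polynomial.X ^ p - Polynomial.C α' * Polynomial.X : Polynomial (FractionRing R)) =
        Polynomial.X * (Polynomial.X ^ (p - 1) - Polynomial.C α') := by
      have : (Polynomial.X : Polynomial (FractionRing R)) ^ p =
          Polynomial.X * Polynomial.X ^ (p - 1) := by
        rw [← pow_succ']; congr 1; omega
      rw [this]; ring
    have hne : (Polynomial.X ^ p - Polynomial.C α' * Polynomial.X :
        Polynomial (FractionRing R)) ≠ 0 := by
      rw [hfac]
      refine mul_ne_zero Polynomial.X_ne_zero ?_
      exact Polynomial.X_pow_sub_C_ne_zero (by omega) α'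
    have hs' : (Polynomial.X ^ (p - 1) - Polynomial.C α' : Polynomial (FractionRing R)).Splits :=
      Polynomial.Splits.of_dvd hs hne ⟨Polynomial.X, by rw [hfac]; ring⟩
    have hdeg : (Polynomial.X ^ (p - 1) - Polynomial.C α' :
        Polynomial (FractionRing R)).degree ≠ 0 := by
      rw [Polynomial.degree_X_pow_sub_C (by omega : 0 < p - 1)]
      exact_mod_cast (by omega : p - 1 ≠ 0)
    obtain ⟨b, hb⟩ := hs'.exists_eval_eq_zero hdeg
    simp only [Polynomial.eval_sub, Polynomial.eval_pow, Polynomial.eval_X,
      Polynomial.eval_C] at hb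
    have hb' : b ^ (p - 1) = α' := sub_eq_zero.mp hb
    have hint : IsIntegral R b := by
      refine ⟨Polynomial.X ^ (p - 1) - Polynomial.C α,
        Polynomial.monic_X_pow_sub_C α (by omega), ?_⟩
      simp only [Polynomial.eval₂_sub, Polynomial.eval₂_pow, Polynomial.eval₂_X,
        Polynomial.eval₂_C]
      rw [hb', hα', sub_self]
    obtain ⟨a, rfl⟩ := IsIntegrallyClosed.isIntegral_iff.mp hint
    refine ⟨a, ?_, ?_⟩
    · rintro rfl
      rw [map_zero, zero_pow (by omega)] at hb'
      exact hα'0 hb'.symm
    · apply IsFractionRing.injective R (FractionRing R)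
      rw [map_pow, hb']
  · rintro ⟨a, ha, rfl⟩
    refine ⟨pow_ne_zero _ ha, ?_⟩
    simp only [Polynomial.map_sub, Polynomial.map_pow, Polynomial.map_X, Polynomial.map_mul,
      Polynomial.map_C, map_pow]
    have := splits_of_pow p (FractionRing R) (algebraMap R (FractionRing R) a)
      ((map_ne_zero_iff _ (IsFractionRing.injective R (FractionRing R))).mpr ha)
    rwa [Polynomial.C_pow] at this

end Groth.Agent.S15811
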