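import Groth.Statements.S15817
import Mathlib.CategoryTheory.Limits.Types.Pullbacks
import Mathlib.Algebra.Category.ModuleCat.Limits

set_option autoImplicit false
universe u v
open CategoryTheory
open CAlg

namespace Groth.Agent.S15817

/-- A square of submodule quotients is a pullback as soon as the elementwise criterion holds. -/
theorem isPullback_of_forall {A : Type u} [CommRing A] {X₁ X₂ X₃ X₄ : ModuleCat.{v} A}
    (t : X₁ ⟶ X₂) (l : X₁ ⟶ X₃) (r : X₂ ⟶ X₄) (b : X₃ ⟶ X₄) (w : t ≫ r = l ≫ b)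
    (h₁ : ∀ x : X₁, t.hom x = 0 → l.hom x = 0 → x = 0)
    (h₂ : ∀ (x₂ : X₂) (x₃ : X₃), r.hom x₂ = b.hom x₃ → ∃ x₁ : X₁, t.hom x₁ = x₂ ∧ l.hom x₁ = x₃) :
    IsPullback t l r b := by
  apply IsPullback.of_map (forget (ModuleCat.{v} A)) w
  rw [Limits.Types.isPullback_iff]
  refine ⟨?_, ?_, ?_⟩
  · rw [← Functor.map_comp, ← Functor.map_comp, w]
  · rintro x y ⟨hxy₁, hxy₂⟩
    have hxy₁' : t.hom x = t.hom y := hxy₁
    have hxy₂' : l.hom x = l.hom y := hxy₂
    have := h₁ (x - y) (by rw [map_sub, hxy₁', sub_self]) (by rw [map_sub, hxy₂', sub_self])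
    exact sub_eq_zero.mp this
  · intro x₂ x₃ h
    exact h₂ x₂ x₃ h

/-- Let A be a commutative ring, M an A-module and P, Q submodules of M. Then the commuting square of
quotient projections with corners M/(P ∩ Q), M/P, M/Q and M/(P + Q) is cartesian in the category of
A-modules: M/(P ∩ Q) is the fibre product of M/P and M/Q over M/(P + Q). -/
theorem result (A : Type u) [CommRing A] (M : Type v) [AddCommGroup M] [Module A M]
    (P Q : Submodule A M) :
    IsPullback (ModuleCat.ofHom (Submodule.factor (inf_le_left : P ⊓ Q ≤ P)))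
      (ModuleCat.ofHom (Submodule.factor (inf_le_right : P ⊓ Q ≤ Q)))
      (ModuleCat.ofHom (Submodule.factor (le_sup_left : P ≤ P ⊔ Q)))
      (ModuleCat.ofHom (Submodule.factor (le_sup_right : Q ≤ P ⊔ Q))) := by
  apply isPullback_of_forall
  · ext x
    rfl
  · intro x hx₁ hx₂
    obtain ⟨m, rfl⟩ := Submodule.Quotient.mk_surjective _ x
    have hP : m ∈ P := by
      have : (Submodule.Quotient.mk m : M ⧸ P) = 0 := hx₁
      rwa [Submodule.Quotient.mk_eq_zero] at this
    have hQ : m ∈ Q := by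
      have : (Submodule.Quotient.mk m : M ⧸ Q) = 0 := hx₂
      rwa [Submodule.Quotient.mk_eq_zero] at this
    exact (Submodule.Quotient.mk_eq_zero _).mpr ⟨hP, hQ⟩
  · intro x₂ x₃ h
    obtain ⟨m₁, rfl⟩ := Submodule.Quotient.mk_surjective _ x₂
    obtain ⟨m₂, rfl⟩ := Submodule.Quotient.mk_surjective _ x₃
    have h' : (Submodule.Quotient.mk m₁ : M ⧸ (P ⊔ Q)) = Submodule.Quotient.mk m₂ := h
    rw [Submodule.Quotient.eq] at h'
    obtain ⟨p, hp, q, hq, hpq⟩ := Submodule.mem_sup.mp h'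
    refine ⟨Submodule.Quotient.mk (m₁ - p), ?_, ?_⟩
    · show (Submodule.Quotient.mk (m₁ - p) : M ⧸ P) = Submodule.Quotient.mk m₁
      rw [Submodule.Quotient.eq]
      simpa using P.neg_mem hp
    · show (Submodule.Quotient.mk (m₁ - p) : M ⧸ Q) = Submodule.Quotient.mk m₂
      rw [Submodule.Quotient.eq]
      have : m₁ - p - m₂ = q := by
        have h3 : m₁ - p - m₂ = (m₁ - m₂) - p := by abel
        rw [h3, ← hpq]; abel
      rw [this]; exact hq

end Groth.Agent.S15817
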