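import Groth.Statements.S15818
import Mathlib.CategoryTheory.Limits.Types.Pullbacks
import Mathlib.Algebra.Category.ModuleCat.Limits
import Mathlib.Algebra.Module.Submodule.Pointwise

set_option autoImplicit false
universe u
open CategoryTheory
open Koszul

namespace Groth.Agent.S15818

/-- A square in `ModuleCat` is a pullback as soon as the elementwise criterion holds. -/
theorem isPullback_of_forall {A : Type u} [CommRing A] {X₁ X₂ X₃ X₄ : ModuleCat.{u} A}
    (t : X₁ ⟶ X₂) (l : X₁ ⟶ X₃) (r : X₂ ⟶ X₄) (b : X₃ ⟶ X₄) (w : t ≫ r = l ≫ b)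
    (h₁ : ∀ x : X₁, t.hom x = 0 → l.hom x = 0 → x = 0)
    (h₂ : ∀ (x₂ : X₂) (x₃ : X₃), r.hom x₂ = b.hom x₃ → ∃ x₁ : X₁, t.hom x₁ = x₂ ∧ l.hom x₁ = x₃) :
    IsPullback t l r b := by
  apply IsPullback.of_map (forget (ModuleCat.{u} A)) w
  rw [Limits.Types.isPullback_iff]
  refine ⟨?_, ?_, ?_⟩
  · rw [← Functor.map_comp, ← Functor.map_comp, w]
  · rintro x y ⟨hxy₁, hxy₂⟩
    have hxy₁' : t.hom x = t.hom y := hxy₁
    have hxy₂' : l.hom x = l.hom y := hxy₂
    have := h₁ (x - y) (by rw [map_sub, hxy₁', sub_self]) (by rw [map_sub, hxy₂', sub_self])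
    exact sub_eq_zero.mp this
  · intro x₂ x₃ h
    exact h₂ x₂ x₃ h

lemma mem_span_singleton_smul {A : Type u} [CommRing A] {N : Type u} [AddCommGroup N] [Module A N]
    (x : A) (S : Submodule A N) (n : N) : n ∈ Ideal.span {x} • S ↔ ∃ s ∈ S, x • s = n := by
  rw [Submodule.ideal_span_singleton_smul, Submodule.mem_smul_pointwise_iff_exists]

theorem general {A : Type u} [CommRing A] {N : Type u} [AddCommGroup N] [Module A N]
    (Z B : Submodule A N) (hBZ : B ≤ Z) (x : A)
    (hxH : IsSMulRegular (↥Z ⧸ Submodule.comap Z.subtype B) x) :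
    IsPullback
      (ModuleCat.ofHom (Submodule.factor (Submodule.comap_mono (Submodule.smul_mono le_rfl hBZ) :
        Submodule.comap Z.subtype (Ideal.span {x} • B) ≤
          Submodule.comap Z.subtype (Ideal.span {x} • Z))))
      (ModuleCat.ofHom (Submodule.factor (Submodule.comap_mono (Submodule.smul_le_right) :
        Submodule.comap Z.subtype (Ideal.span {x} • B) ≤ Submodule.comap Z.subtype B)))
      (ModuleCat.ofHom (Submodule.factor (Submodule.comap_mono le_sup_right :
        Submodule.comap Z.subtype (Ideal.span {x} • Z) ≤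
          Submodule.comap Z.subtype (B ⊔ Ideal.span {x} • Z))))
      (ModuleCat.ofHom (Submodule.factor (Submodule.comap_mono le_sup_left :
        Submodule.comap Z.subtype B ≤ Submodule.comap Z.subtype (B ⊔ Ideal.span {x} • Z)))) := by
  apply isPullback_of_forall
  · ext z
    rfl
  · intro y hy₁ hy₂
    obtain ⟨z, rfl⟩ := Submodule.Quotient.mk_surjective _ y
    have h1 : (z : N) ∈ Ideal.span {x} • Z := by
      have : (Submodule.Quotient.mk z : ↥Z ⧸ Submodule.comap Z.subtype (Ideal.span {x} • Z)) = 0 := hy₁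
      rwa [Submodule.Quotient.mk_eq_zero] at this
    have h2 : (z : N) ∈ B := by
      have : (Submodule.Quotient.mk z : ↥Z ⧸ Submodule.comap Z.subtype B) = 0 := hy₂
      rwa [Submodule.Quotient.mk_eq_zero] at this
    obtain ⟨z', hz', hxz'⟩ := (mem_span_singleton_smul x Z _).mp h1
    -- `x • [z'] = 0` in `Z/B`, hence `[z'] = 0`
    have h3 : x • (Submodule.Quotient.mk ⟨z', hz'⟩ : ↥Z ⧸ Submodule.comap Z.subtype B) = 0 := by
      rw [← Submodule.Quotient.mk_smul, Submodule.Quotient.mk_eq_zero]
      show ((x • (⟨z', hz'⟩ : ↥Z) : ↥Z) : N) ∈ B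
      simpa [hxz'] using h2
    have h4 : (Submodule.Quotient.mk ⟨z', hz'⟩ : ↥Z ⧸ Submodule.comap Z.subtype B) = 0 := by
      apply hxH
      simpa using h3
    rw [Submodule.Quotient.mk_eq_zero] at h4
    have h5 : z' ∈ B := h4
    rw [Submodule.Quotient.mk_eq_zero]
    show (z : N) ∈ Ideal.span {x} • B
    exact (mem_span_singleton_smul x B _).mpr ⟨z', h5, hxz'⟩
  · intro y₂ y₃ h
    obtain ⟨z₁, rfl⟩ := Submodule.Quotient.mk_surjective _ y₂
    obtain ⟨z₂, rfl⟩ := Submodule.Quotient.mk_surjective _ y₃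
    have h' : (Submodule.Quotient.mk z₁ :
        ↥Z ⧸ Submodule.comap Z.subtype (B ⊔ Ideal.span {x} • Z)) = Submodule.Quotient.mk z₂ := h
    rw [Submodule.Quotient.eq] at h'
    have h'' : ((z₁ - z₂ : ↥Z) : N) ∈ B ⊔ Ideal.span {x} • Z := h'
    obtain ⟨b, hb, c, hc, hbc⟩ := Submodule.mem_sup.mp h''
    have hcZ : c ∈ Z := Submodule.smul_le_right hc
    refine ⟨Submodule.Quotient.mk (z₁ - ⟨c, hcZ⟩), ?_, ?_⟩
    · show (Submodule.Quotient.mk (z₁ - ⟨c, hcZ⟩) :
        ↥Z ⧸ Submodule.comap Z.subtype (Ideal.span {x} • Z)) = Submodule.Quotient.mk z₁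
      rw [Submodule.Quotient.eq]
      show ((z₁ - ⟨c, hcZ⟩ - z₁ : ↥Z) : N) ∈ Ideal.span {x} • Z
      have : ((z₁ - ⟨c, hcZ⟩ - z₁ : ↥Z) : N) = -c := by simp
      rw [this]; exact Submodule.neg_mem _ hc
    · show (Submodule.Quotient.mk (z₁ - ⟨c, hcZ⟩) :
        ↥Z ⧸ Submodule.comap Z.subtype B) = Submodule.Quotient.mk z₂
      rw [Submodule.Quotient.eq]
      show ((z₁ - ⟨c, hcZ⟩ - z₂ : ↥Z) : N) ∈ B
      have : ((z₁ - ⟨c, hcZ⟩ - z₂ : ↥Z) : N) = b := by
        have h6 : ((z₁ - z₂ : ↥Z) : N) = (z₁ : N) - z₂ := rfl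
        rw [h6] at hbc
        simp only [Submodule.coe_sub]
        have h7 : (z₁ : N) - c - z₂ = ((z₁ : N) - z₂) - c := by abel
        rw [h7, ← hbc]; abel
      rw [this]; exact hb

/-- Let A be a commutative ring, f = (f_1, …, f_n) a finite sequence in A with Koszul complex K = K(f)
(mapping-cone model) and differentials ∂, q an integer, Z = Ker(∂^q) and B = Im(∂^{q-1}), so B ⊆ Z
inside K^q (this inclusion is carried as the hypothesis hBZ). Let x be a non-zero-divisor of A which
moreover acts injectively on the cohomology module Z/B (for Noetherian A this says that x lies in no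
associated prime of Z/B, which is how the published statement phrases it; the published argument
uses exactly the injectivity). Then the commuting square of quotient projections with corners Z/xB
(top left; it is isomorphic to the q-th cohomology of the Koszul complex of (x f_1, …, x f_n)), Z/xZ
= Z ⊗ A/(x) (top right), Z/B (bottom left) and Z/(B + xZ) = (Z/B) ⊗ A/(x) (bottom right) is
cartesian in the category of A-modules. All four corners are written as quotients of Z by the
preimages of the submodules xB, xZ, B, B + xZ of K^q. -/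
theorem result (A : Type u) [CommRing A] (l : List A) (q : ℤ)
    (K : CochainComplex (ModuleCat.{u} A) ℤ) (hK : K = Koszul.koszul A l)
    (hBZ : LinearMap.range (K.d (q - 1) q).hom ≤ LinearMap.ker (K.d q (q + 1)).hom)
    (x : A) (hx : x ∈ nonZeroDivisors A)
    (hxH : IsSMulRegular (↥(LinearMap.ker (K.d q (q + 1)).hom) ⧸ Submodule.comap (LinearMap.ker (K.d q (q + 1)).hom).subtype (LinearMap.range (K.d (q - 1) q).hom)) x) :
    IsPullback
      (ModuleCat.ofHom (Submodule.factor (Submodule.comap_mono (Submodule.smul_mono le_rfl hBZ) :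
        Submodule.comap (LinearMap.ker (K.d q (q + 1)).hom).subtype (Ideal.span {x} • LinearMap.range (K.d (q - 1) q).hom) ≤
          Submodule.comap (LinearMap.ker (K.d q (q + 1)).hom).subtype (Ideal.span {x} • LinearMap.ker (K.d q (q + 1)).hom))))
      (ModuleCat.ofHom (Submodule.factor (Submodule.comap_mono (Submodule.smul_le_right) :
        Submodule.comap (LinearMap.ker (K.d q (q + 1)).hom).subtype (Ideal.span {x} • LinearMap.range (K.d (q - 1) q).hom) ≤
          Submodule.comap (LinearMap.ker (K.d q (q + 1)).hom).subtype (LinearMap.range (K.d (q - 1) q).hom))))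
      (ModuleCat.ofHom (Submodule.factor (Submodule.comap_mono le_sup_right :
        Submodule.comap (LinearMap.ker (K.d q (q + 1)).hom).subtype (Ideal.span {x} • LinearMap.ker (K.d q (q + 1)).hom) ≤
          Submodule.comap (LinearMap.ker (K.d q (q + 1)).hom).subtype (LinearMap.range (K.d (q - 1) q).hom ⊔ Ideal.span {x} • LinearMap.ker (K.d q (q + 1)).hom))))
      (ModuleCat.ofHom (Submodule.factor (Submodule.comap_mono le_sup_left :
        Submodule.comap (LinearMap.ker (K.d q (q + 1)).hom).subtype (LinearMap.range (K.d (q - 1) q).hom) ≤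
          Submodule.comap (LinearMap.ker (K.d q (q + 1)).hom).subtype (LinearMap.range (K.d (q - 1) q).hom ⊔ Ideal.span {x} • LinearMap.ker (K.d q (q + 1)).hom)))) := by
  exact general _ _ hBZ x hxH

end Groth.Agent.S15818
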