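import Groth.Statements.S15822
import Groth.Agent.Lib.KoszulAppend
import Groth.Agent.Lib.KoszulEuler2

set_option autoImplicit false
universe u
open CategoryTheory
open Koszul

namespace Groth.Agent.S15822

/-- Let A be a commutative ring, M an A-module, x = (x_1, …, x_s) a sequence in A and y_1, …, y_r
elements of the ideal (x_1, …, x_s). Then for every integer m, the m-th cohomology module of the
complex K(x_1, …, x_s, y_1, …, y_r) ⊗_A M (Koszul complex of the concatenated sequence in the
iterated mapping-cone model, tensored termwise with M) is isomorphic as an A-module to the direct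
sum over j = 0, …, r of (r choose j) copies of the (m + j)-th cohomology module of K(x_1, …, x_s)
⊗_A M (existence of an A-linear isomorphism). In the published indexing: H^{-q}(K(x, y) ⊗ M) ≅
⊕_{i+j=q} H^{-i}(K(x) ⊗ M) ⊗ ∧^j A^r. -/
theorem result (A : Type u) [CommRing A] (M : ModuleCat.{u} A)
    (xs ys : List A) (hy : ∀ y ∈ ys, y ∈ Ideal.span {a | a ∈ xs}) (m : ℤ) :
    Nonempty ((DRing.tensorCx (Koszul.koszul A (xs ++ ys)) M).homology m ≅
      ModuleCat.of A ((j : Fin (ys.length + 1)) → Fin (ys.length.choose j) →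
        (DRing.tensorCx (Koszul.koszul A xs) M).homology (m + j))) := by
  have i1 : ∀ (l : List A) (n : ℤ), (DRing.tensorCx (Koszul.koszul A l) M).homology n ≅
      (Groth.Agent.Lib.KoszulCone.kcx M l).homology n := fun l n =>
    (HomologicalComplex.homologyFunctor _ _ n).mapIso
      (Groth.Agent.Lib.KoszulEuler.tensorCxKoszulIso M l)
  obtain ⟨p⟩ := Groth.Agent.Lib.KoszulPerm.nonempty_kcx_iso_of_perm M
    (List.perm_append_comm : (xs ++ ys).Perm (ys ++ xs))
  have i2 : (Groth.Agent.Lib.KoszulCone.kcx M (xs ++ ys)).homology m ≅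
      (Groth.Agent.Lib.KoszulCone.kcx M (ys ++ xs)).homology m :=
    (HomologicalComplex.homologyFunctor _ _ m).mapIso p
  obtain ⟨e⟩ := Groth.Agent.Lib.KoszulAppend.nonempty_homology_append M xs ys hy m
  let e4 : ((p : Groth.Agent.Lib.KoszulAppend.Idx ys.length) →
        (Groth.Agent.Lib.KoszulCone.kcx M xs).homology (m + ((p.1 : ℕ) : ℤ))) ≃ₗ[A]
      ((p : Groth.Agent.Lib.KoszulAppend.Idx ys.length) →
        (DRing.tensorCx (Koszul.koszul A xs) M).homology (m + ((p.1 : ℕ) : ℤ))) :=
    LinearEquiv.piCongrRight (fun p => (i1 xs _).symm.toLinearEquiv)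
  let e5 := LinearEquiv.piCurry A (fun (j : Fin (ys.length + 1)) (_ : Fin (ys.length.choose j)) =>
    (DRing.tensorCx (Koszul.koszul A xs) M).homology (m + ((j : ℕ) : ℤ)))
  exact ⟨i1 (xs ++ ys) m ≪≫ i2 ≪≫ (e.trans (e4.trans e5)).toModuleIso⟩

end Groth.Agent.S15822

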