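import Groth.Statements.S18944
import Groth.Agent.Lib.ClosedImmStalk2

set_option autoImplicit false
universe u
open CategoryTheory AlgebraicGeometry
open RegImm

namespace Groth.Agent.S18944

/-- Let i : Z → X be a regular immersion of schemes (kind: successive non-zero-divisors). Then for every
point z of Z the kernel of the induced map of local rings O_{X, i(z)} → O_{Z, z} is generated by a
regular sequence of O_{X, i(z)}. (No Noetherian hypothesis; over a locally Noetherian X the converse
also holds.) -/
theorem result {Z X : Scheme.{u}} (i : Z ⟶ X)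
    (h : RegImm.IsRegularImmersion RegImm.Kind.regular i) (z : Z) :
    ∃ rs : List (X.presheaf.stalk (i z)),
      RingTheory.Sequence.IsRegular (X.presheaf.stalk (i z)) rs ∧
        RingHom.ker (i.stalkMap z).hom = Ideal.ofList rs := by
  obtain ⟨U, hzU, hcl, rs, hrs, hker⟩ := h.2 z
  haveI := hcl
  have hk := Groth.Agent.Lib.ClosedImmStalk.ker_stalkMap_eq_map_of_restrict i U z hzU
  rw [hker, Ideal.map_ofList] at hk
  have hrs' : RingTheory.Sequence.IsRegular Γ(X, U.1) rs := hrs
  letI alg : Algebra Γ(X, U.1) (X.presheaf.stalk (i z)) :=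
    X.presheaf.algebra_section_stalk ⟨i z, hzU⟩
  haveI hloc : IsLocalization.AtPrime (X.presheaf.stalk (i z))
      (U.2.primeIdealOf ⟨i z, hzU⟩).asIdeal := U.2.isLocalization_stalk ⟨i z, hzU⟩
  haveI : Module.Flat Γ(X, U.1) (X.presheaf.stalk (i z)) :=
    IsLocalization.flat (X.presheaf.stalk (i z)) (U.2.primeIdealOf ⟨i z, hzU⟩).asIdeal.primeCompl
  refine ⟨rs.map (X.presheaf.germ U.1 (i z) hzU).hom, ⟨?_, ?_⟩, hk⟩
  · exact RingTheory.Sequence.IsWeaklyRegular.of_flat (S := X.presheaf.stalk (i z))
      hrs'.toIsWeaklyRegular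
  · intro htop
    rw [← hk, smul_eq_mul, Ideal.mul_top] at htop
    have h1 : (1 : X.presheaf.stalk (i z)) ∈ RingHom.ker (i.stalkMap z).hom := by
      rw [← htop]; trivial
    rw [RingHom.mem_ker, map_one] at h1
    exact one_ne_zero h1

end Groth.Agent.S18944
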