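import Groth.Statements.S15824
import Groth.Agent.S18944
import Groth.Agent.Lib.DepthSurj
import Groth.Agent.Lib.H8CM5

set_option autoImplicit false
universe u
open CategoryTheory AlgebraicGeometry
open RegImm

namespace Groth.Agent.S15824


open IsLocalRing RingTheory.Sequence in
/-- Algebraic core: `R` CM local, `S = R/(rs)` with `rs` regular; if `𝔪_S ∈ Ass S` then
`dim S = 0`. -/
theorem key {R S : Type u} [CommRing R] [CommRing S] [hR : LocCoh.IsCohenMacaulayLocalRing R]
    [IsLocalRing S] (φ : R →+* S) (hφ : Function.Surjective φ) (rs : List R)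
    (hreg : RingTheory.Sequence.IsRegular R rs) (hker : RingHom.ker φ = Ideal.ofList rs)
    (hz : IsAssociatedPrime (IsLocalRing.maximalIdeal S) S) : ringKrullDim S = 0 := by
  haveI : IsNoetherianRing R := inferInstance
  haveI : IsLocalRing R := inferInstance
  letI : Algebra R S := φ.toAlgebra
  have hmem : ∀ r ∈ rs, r ∈ maximalIdeal R := by
    intro r hr
    rw [mem_maximalIdeal, mem_nonunits_iff]
    intro hu
    have h1 : r ∈ RingHom.ker φ := by
      rw [hker]; exact Ideal.subset_span hr
    have := hu.map φ
    rw [RingHom.mem_ker.mp h1] at this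
    exact not_isUnit_zero this
  have hCMq := (Groth.Agent.Lib.H8CM.isWeaklyRegular_iff_of_isCM rs
    (Groth.Agent.Lib.H8CM.isCM_self_of_isCMLocalRing (R := R)) hmem).2 hreg.toIsWeaklyRegular
  -- the linear equivalence `R/(rs) ≃ S`
  have hkerl : LinearMap.ker (Algebra.linearMap R S) = Ideal.ofList rs • (⊤ : Submodule R R) := by
    ext x
    rw [LinearMap.mem_ker, Algebra.linearMap_apply]
    change φ x = 0 ↔ _
    rw [← RingHom.mem_ker, hker]
    simp
  have hsurj : Function.Surjective (Algebra.linearMap R S) := hφ
  let e : (R ⧸ Ideal.ofList rs • (⊤ : Submodule R R)) ≃ₗ[R] S :=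
    (Submodule.quotEquivOfEq _ _ hkerl.symm).trans
      ((Algebra.linearMap R S).quotKerEquivOfSurjective hsurj)
  haveI : Module.Finite R S := Module.Finite.of_surjective (Algebra.linearMap R S) hsurj
  have h1 : LocCoh.depth R (R ⧸ Ideal.ofList rs • (⊤ : Submodule R R)) = LocCoh.depth R S :=
    Groth.Agent.Lib.H8CM.depth_eq_of_equiv e
  have h2 : LocCoh.depth R S ≤ LocCoh.depth S S :=
    Groth.Agent.Lib.DepthSurj.depth_le_depth_of_surjective hφ S
  -- depth of `S` is zero
  have h3 : LocCoh.depth S S = 0 := by
    by_contra hne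
    have h1le : ((1 : ℕ) : ℕ∞) ≤ LocCoh.depth S S := by
      rw [Nat.cast_one]; exact Order.one_le_iff_ne_zero.mpr hne
    obtain ⟨ss, hlen, hmemS, hregS⟩ :=
      (Groth.Agent.Lib.DepthRees.natCast_le_depth_iff S 1).mp h1le
    obtain ⟨s, rfl⟩ := List.length_eq_one_iff.mp hlen
    have hs : s ∈ maximalIdeal S := hmemS s (by simp)
    have hsreg : IsSMulRegular S s := by
      have := (isWeaklyRegular_cons_iff S s []).mp hregS
      exact this.1
    obtain ⟨x, hx⟩ := hz.2
    rw [hx, Ideal.mem_radical_iff] at hs
    obtain ⟨n, hn⟩ := hs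
    rw [Submodule.mem_colon_singleton, Submodule.mem_bot] at hn
    have hx0 : x = 0 := (hsreg.pow n) (by change s ^ n • x = s ^ n • 0; rw [hn, smul_zero])
    have htop : (IsLocalRing.maximalIdeal S) = ⊤ := by
      rw [hx, hx0]
      rw [Ideal.radical_eq_top, Ideal.eq_top_iff_one, Submodule.mem_colon_singleton]
      simp
    exact (IsLocalRing.maximalIdeal.isMaximal S).ne_top htop
  -- dimension
  have h4 : Module.supportDim R (R ⧸ Ideal.ofList rs • (⊤ : Submodule R R)) = ringKrullDim S := by
    rw [Groth.Agent.Lib.H8CM.supportDim_quotient_smul_top_self]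
    have e' : (R ⧸ RingHom.ker φ) ≃+* S := RingHom.quotientKerEquivOfSurjective hφ
    rw [← hker]
    exact ringKrullDim_eq_of_ringEquiv e'
  have h5 : Module.supportDim R (R ⧸ Ideal.ofList rs • (⊤ : Submodule R R)) =
      ((LocCoh.depth R (R ⧸ Ideal.ofList rs • (⊤ : Submodule R R)) : ℕ∞) : WithBot ℕ∞) := hCMq
  have h6 : LocCoh.depth R (R ⧸ Ideal.ofList rs • (⊤ : Submodule R R)) = 0 := by
    rw [h1]; exact le_antisymm (h2.trans h3.le) bot_le
  rw [← h4, h5, h6]
  rfl

/-- Let X be a locally Noetherian scheme all of whose local rings are Cohen–Macaulay, and i : Z → X a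
closed immersion which is regular (around every point, on some affine open of X the ideal of Z is
generated by a regular sequence). Then Z has no embedded points (each associated point of Z is
generic in an irreducible component): for every point z of Z, if the maximal ideal of O_{Z,z} is an
associated prime of O_{Z,z} (as a module over itself), then O_{Z,z} has Krull dimension 0. (The
published statement takes X Noetherian and Z a local complete intersection subscheme; the assertion
is local on X and uses only that the ideal of Z is locally generated by a regular sequence.) -/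
theorem result {X Z : Scheme.{u}}
    [IsLocallyNoetherian X] (hCM : ∀ x : X, LocCoh.IsCohenMacaulayLocalRing (X.presheaf.stalk x))
    (i : Z ⟶ X) [IsClosedImmersion i] (hi : RegImm.IsRegularImmersion RegImm.Kind.regular i) (z : Z)
    (hz : IsAssociatedPrime (IsLocalRing.maximalIdeal (Z.presheaf.stalk z)) (Z.presheaf.stalk z)) :
    ringKrullDim (Z.presheaf.stalk z) = 0 := by
  obtain ⟨rs, hreg, hker⟩ := Groth.Agent.S18944.result i hi z
  haveI hCMi : LocCoh.IsCohenMacaulayLocalRing (X.presheaf.stalk (i z)) := hCM (i z)
  have hsurj : Function.Surjective (i.stalkMap z).hom := i.stalkMap_surjective z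
  exact Groth.Agent.S15824.key (i.stalkMap z).hom hsurj rs hreg hker hz

end Groth.Agent.S15824
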