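import Mathlib
import Groth.Statements.S15832

set_option autoImplicit false
universe u
open TopGrp

namespace Groth.Agent.S15832

section Helpers

open Topology

theorem image_eq {T : Type u} [Group T] (Γ : Subgroup T) (x y : T) :
    (fun g : T => x * g * y) '' (Γ : Set T) = {z | x⁻¹ * z * y⁻¹ ∈ Γ} := by
  ext z
  constructor
  · rintro ⟨g, hg, rfl⟩
    have : x⁻¹ * (x * g * y) * y⁻¹ = g := by group
    rw [Set.mem_ofPred_eq, this]
    exact hg
  · intro h
    exact ⟨x⁻¹ * z * y⁻¹, h, by group⟩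

theorem gen (T : Type u) [Group T] (𝒢 : Set (Subgroup T)) [τ : TopologicalSpace T]
    (hτ : τ = TopologicalSpace.generateFrom
      {S : Set T | ∃ Γ ∈ 𝒢, ∃ x y : T, S = (fun g : T => x * g * y) '' (Γ : Set T)}) :
    NonarchimedeanGroup T := by
  have hopen : ∀ Γ ∈ 𝒢, ∀ x y : T, IsOpen {z | x⁻¹ * z * y⁻¹ ∈ Γ} := by
    intro Γ hΓ x y
    rw [hτ]
    apply TopologicalSpace.isOpen_generateFrom_of_mem
    exact ⟨Γ, hΓ, x, y, (image_eq Γ x y).symm⟩
  have hinv : Continuous (fun a : T => a⁻¹) := by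
    rw [hτ]
    rw [continuous_generateFrom_iff]
    rintro _ ⟨Γ, hΓ, x, y, rfl⟩
    rw [← hτ, image_eq]
    have : (fun a : T => a⁻¹) ⁻¹' {z | x⁻¹ * z * y⁻¹ ∈ Γ} = {z | (y⁻¹)⁻¹ * z * (x⁻¹)⁻¹ ∈ Γ} := by
      ext z
      simp only [Set.mem_preimage, Set.mem_ofPred_eq]
      rw [← inv_mem_iff (x := x⁻¹ * z⁻¹ * y⁻¹)]
      have : (x⁻¹ * z⁻¹ * y⁻¹)⁻¹ = y⁻¹⁻¹ * z * x⁻¹⁻¹ := by group
      rw [this]
    rw [this]
    exact hopen Γ hΓ _ _
  have hmul : Continuous (fun p : T × T => p.1 * p.2) := by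
    rw [hτ]
    rw [continuous_generateFrom_iff]
    rintro _ ⟨Γ, hΓ, x, y, rfl⟩
    rw [← hτ, image_eq, isOpen_prod_iff]
    intro a b hab
    simp only [Set.mem_preimage, Set.mem_ofPred_eq] at hab
    refine ⟨{z | x⁻¹ * z * (y * b⁻¹)⁻¹ ∈ Γ}, {z | (b * y⁻¹)⁻¹ * z * y⁻¹ ∈ Γ}, hopen Γ hΓ _ _,
      hopen Γ hΓ _ _, ?_, ?_, ?_⟩
    · have : x⁻¹ * a * (y * b⁻¹)⁻¹ = x⁻¹ * (a * b) * y⁻¹ := by group
      rw [Set.mem_ofPred_eq, this]; exact hab
    · have : (b * y⁻¹)⁻¹ * b * y⁻¹ = 1 := by group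
      rw [Set.mem_ofPred_eq, this]; exact one_mem _
    · rintro ⟨g, h⟩ ⟨hg, hh⟩
      simp only [Set.mem_ofPred_eq] at hg hh
      simp only [Set.mem_preimage, Set.mem_ofPred_eq]
      have : x⁻¹ * (g * h) * y⁻¹ = (x⁻¹ * g * (y * b⁻¹)⁻¹) * ((b * y⁻¹)⁻¹ * h * y⁻¹) := by group
      rw [this]
      exact mul_mem hg hh
  have hgrp : IsTopologicalGroup T := { continuous_mul := hmul, continuous_inv := hinv }
  refine { toIsTopologicalGroup := hgrp, is_nonarchimedean := ?_ }
  intro U hU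
  obtain ⟨t, ⟨f, ⟨hfin, hfB⟩, rfl⟩, h1, htU⟩ :=
    (TopologicalSpace.isTopologicalBasis_of_subbasis hτ).mem_nhds_iff.1 hU
  suffices h : ∃ V : OpenSubgroup T, (V : Set T) ⊆ ⋂₀ f by
    obtain ⟨V, hV⟩ := h
    exact ⟨V, hV.trans htU⟩
  clear htU hU
  replace h1 : (1 : T) ∈ ⋂₀ f := h1
  induction f, hfin using Set.Finite.induction_on with
  | empty => exact ⟨⊤, by simp⟩
  | @insert s f hs hfin ih =>
    rw [Set.insert_subset_iff] at hfB
    rw [Set.sInter_insert] at h1 ⊢
    obtain ⟨V, hV⟩ := ih hfB.2 h1.2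
    obtain ⟨Γ, hΓ, x, y, rfl⟩ := hfB.1
    rw [image_eq] at h1 ⊢
    have h1' : x⁻¹ * y⁻¹ ∈ Γ := by
      have := h1.1
      simpa using this
    have hset : {z | x⁻¹ * z * y⁻¹ ∈ Γ} = ((Γ.comap (MulAut.conj y).toMonoidHom : Subgroup T) : Set T) := by
      ext z
      simp only [Set.mem_ofPred_eq, Subgroup.coe_comap, Set.mem_preimage, SetLike.mem_coe,
        MulEquiv.coe_toMonoidHom, MulAut.conj_apply]
      have : x⁻¹ * z * y⁻¹ = (x⁻¹ * y⁻¹) * (y * z * y⁻¹) := by group
      rw [this, Subgroup.mul_mem_cancel_left _ h1']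
    have hΔ : IsOpen ((Γ.comap (MulAut.conj y).toMonoidHom : Subgroup T) : Set T) := by
      rw [← hset]; exact hopen Γ hΓ x y
    refine ⟨(⟨Γ.comap (MulAut.conj y).toMonoidHom, hΔ⟩ : OpenSubgroup T) ⊓ V, ?_⟩
    rw [OpenSubgroup.coe_inf, hset]
    exact Set.inter_subset_inter (fun z hz => hz) hV

end Helpers

/-- For a group T with a topology, let B be the family of two-sided translates x Γ y, where Γ runs over
the subgroups of T open in the given topology and x, y over T; the topology generated by B makes T a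
topological group in which every neighbourhood of the identity contains a subgroup open for that
topology. (The published statement is for the free topological product of two Noohi groups whose
open subgroups form a basis of neighbourhoods of the identity; the argument uses only the group
structure and the chosen family of subgroups, so the row is stated for an arbitrary group with a
topology. The published conventions include Hausdorffness in the word topological group; this row
does not assert it, and the published argument does not prove it.) -/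
theorem result (T : Type u) [Group T]
    [TopologicalSpace T] :
    @NonarchimedeanGroup T _ (TopologicalSpace.generateFrom
      {S : Set T | ∃ (Γ : OpenSubgroup T) (x y : T), S = (fun g : T => x * g * y) '' (Γ : Set T)}) := by
  refine @gen T _ {Γ : Subgroup T | IsOpen (Γ : Set T)} (TopologicalSpace.generateFrom _) ?_
  congr 1
  ext S
  constructor
  · rintro ⟨Γ, x, y, rfl⟩
    exact ⟨Γ.toSubgroup, Γ.isOpen, x, y, rfl⟩
  · rintro ⟨Γ, hΓ, x, y, rfl⟩
    exact ⟨⟨Γ, hΓ⟩, x, y, rfl⟩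

end Groth.Agent.S15832
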