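import Groth.Statements.S15833
import Groth.Agent.Lib.IntegralSection

set_option autoImplicit false
universe u
open EtBase

namespace Groth.Agent.S15833

open CategoryTheory CategoryTheory.Limits AlgebraicGeometry in
/-- Lifts in a square over the base change correspond to lifts in the composite square. -/
noncomputable def liftEquiv {X X₀ Y : Scheme.{u}} (i : X₀ ⟶ X) (f : Y ⟶ X)
    {A B : Scheme.{u}} (m : A ⟶ B)
    (a₁ : A ⟶ pullback f i) (a₂ : B ⟶ X₀) (sq₀ : CommSq a₁ m (pullback.snd f i) a₂)
    (b₁ : A ⟶ Y) (b₂ : B ⟶ X) (sq : CommSq b₁ m f b₂)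
    (h₁ : a₁ ≫ pullback.fst f i = b₁) (h₂ : a₂ ≫ i = b₂) :
    sq.LiftStruct ≃ sq₀.LiftStruct where
  toFun l :=
    { l := pullback.lift l.l a₂ (by rw [l.fac_right, h₂])
      fac_left := by
        apply pullback.hom_ext
        · rw [Category.assoc, pullback.lift_fst, l.fac_left, h₁]
        · rw [Category.assoc, pullback.lift_snd, sq₀.w]
      fac_right := pullback.lift_snd _ _ _ }
  invFun l₀ :=
    { l := l₀.l ≫ pullback.fst f i
      fac_left := by rw [← Category.assoc, l₀.fac_left, h₁]
      fac_right := by rw [Category.assoc, pullback.condition, ← Category.assoc, l₀.fac_right, h₂] }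
  left_inv l := by
    ext
    exact pullback.lift_fst _ _ _
  right_inv l₀ := by
    ext
    · exact pullback.lift_fst _ _ _
    · exact (pullback.lift_snd _ _ _).trans l₀.fac_right.symm

open CategoryTheory CategoryTheory.Limits AlgebraicGeometry in
/-- Let i : X₀ ⟶ X be a surjective closed immersion of schemes and f : Y ⟶ X a morphism. Then f
satisfies the valuative criterion (existence and uniqueness of a lift in every valuative square,
over arbitrary valuation rings) if and only if its base change Y ×_X X₀ ⟶ X₀ does. (The published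
statement takes X locally Noetherian and connected, X₀ the reduced closed subscheme with the same
underlying space and f étale, and combines this step with the equivalence between étale schemes over
X and over X₀ to identify the geometric coverings, i.e. the étale morphisms satisfying the valuative
criterion, of X and of X₀; the argument for this step uses only that X₀ ⟶ X is a surjective closed
immersion and that valuation rings are reduced.) -/
theorem result {X X₀ Y : Scheme.{u}} (i : X₀ ⟶ X)
    [IsClosedImmersion i] [Surjective i] (f : Y ⟶ X) :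
    ValuativeCriterion f ↔ ValuativeCriterion (pullback.snd f i) := by
  constructor
  · intro H S₀
    have sq : CommSq (S₀.i₁ ≫ pullback.fst f i)
        (Spec.map (CommRingCat.ofHom (algebraMap S₀.R S₀.K))) f (S₀.i₂ ≫ i) :=
      ⟨by rw [Category.assoc, pullback.condition, ← Category.assoc, S₀.commSq.w, Category.assoc]⟩
    obtain ⟨hu⟩ := H { R := S₀.R, K := S₀.K, i₁ := S₀.i₁ ≫ pullback.fst f i,
                        i₂ := S₀.i₂ ≫ i, commSq := sq }
    exact ⟨(liftEquiv i f _ S₀.i₁ S₀.i₂ S₀.commSq _ _ sq rfl rfl).symm.unique⟩
  · intro H S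
    -- `Spec R` is reduced, so `S.i₂` factors through the surjective closed immersion `i`
    have hker : i.ker ≤ S.i₂.ker := by
      have h1 : i.ker ≤ Scheme.IdealSheafData.vanishingIdeal ⊤ := by
        rw [← Scheme.IdealSheafData.le_support_iff_le_vanishingIdeal]
        intro x _
        show x ∈ ((i.ker).support : Set X)
        rw [Scheme.Hom.support_ker, i.surjective.range_eq, closure_univ]
        trivial
      exact h1.trans (Groth.Agent.Lib.IntegralSection.vanishingIdeal_le_ker S.i₂ ⊤
        (Set.subset_univ _))
    let a₂ : Spec (CommRingCat.of S.R) ⟶ X₀ := IsClosedImmersion.lift i S.i₂ hker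
    have ha₂ : a₂ ≫ i = S.i₂ := IsClosedImmersion.lift_fac _ _ _
    let a₁ : Spec (CommRingCat.of S.K) ⟶ pullback f i :=
      pullback.lift S.i₁ (Spec.map (CommRingCat.ofHom (algebraMap S.R S.K)) ≫ a₂)
        (by rw [Category.assoc, ha₂, S.commSq.w])
    have sq₀ : CommSq a₁ (Spec.map (CommRingCat.ofHom (algebraMap S.R S.K)))
        (pullback.snd f i) a₂ := ⟨pullback.lift_snd _ _ _⟩
    obtain ⟨hu⟩ := H { R := S.R, K := S.K, i₁ := a₁, i₂ := a₂, commSq := sq₀ }
    exact ⟨(liftEquiv i f _ a₁ a₂ sq₀ S.i₁ S.i₂ S.commSq (pullback.lift_fst _ _ _) ha₂).unique⟩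

end Groth.Agent.S15833
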