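import Groth.Statements.S15835
import Mathlib.LinearAlgebra.Matrix.Charpoly.Basic
import Mathlib.Algebra.CharP.Lemmas
import Mathlib.Algebra.Polynomial.Expand
import Mathlib.Data.Nat.Factorization.Basic
import Mathlib.RingTheory.Polynomial.Basic

set_option autoImplicit false
universe u
open SprIso

namespace Groth.Agent.S15835

open Polynomial

/-- `(X - C b) ^ k = X ^ k` forces `k * b = 0`. -/
lemma natCast_mul_eq_zero_of_pow_eq {R : Type u} [CommRing R] (b : R) (k : ℕ) (hk : 0 < k)
    (h : (X - C b) ^ k = (X : R[X]) ^ k) : (k : R) * b = 0 := by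
  have h1 : ((X - C b) ^ k).coeff (k - 1) = ((X : R[X]) ^ k).coeff (k - 1) := by rw [h]
  have h2 : (X - C b : R[X]) = X + C (-b) := by rw [C_neg, sub_eq_add_neg]
  rw [h2, coeff_X_add_C_pow, coeff_X_pow] at h1
  have hne : k - 1 ≠ k := by omega
  rw [if_neg hne] at h1
  have h3 : k - (k - 1) = 1 := by omega
  rw [h3, pow_one] at h1
  have h4 : k.choose (k - 1) = k := by
    obtain ⟨j, rfl⟩ : ∃ j, k = j + 1 := ⟨k - 1, by omega⟩
    simp
  rw [h4] at h1
  have : (k : R) * b = -(-b * (k : R)) := by ring
  rw [this, h1, neg_zero]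

/-- Over a commutative ring R of prime characteristic p, let n ≥ 1 and let p^m be the largest power of p
dividing n. The locus of n × n matrices with characteristic polynomial t^n is stable under adding a
scalar matrix a·1 with n·a = 0 exactly when a^(p^m) = 0: for X with characteristic polynomial t^n
and such an a, the matrix X + a·1 has characteristic polynomial t^n if and only if a^(p^m) = 0.
(Stated on points with values in an arbitrary ring of characteristic p; the scheme-theoretic
assertion about the nilpotent scheme of SL_n is this statement for all such rings.) -/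
theorem result (p : ℕ) [Fact p.Prime] (R : Type u) [CommRing R]
    [CharP R p] (n : ℕ) (hn : 0 < n) (X : Matrix (Fin n) (Fin n) R) (hX : X.charpoly = Polynomial.X ^ n)
    (a : R) (ha : (n : R) * a = 0) :
    (X + Matrix.scalar (Fin n) a).charpoly = Polynomial.X ^ n ↔ a ^ (p ^ padicValNat p n) = 0 := by
  have hp : p.Prime := Fact.out
  have hchar : (X + Matrix.scalar (Fin n) a).charpoly = (Polynomial.X - Polynomial.C a) ^ n := by
    have h1 : X + Matrix.scalar (Fin n) a = X - Matrix.scalar (Fin n) (-a) := by
      rw [map_neg, sub_neg_eq_add]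
    rw [h1, Matrix.charpoly_sub_scalar, hX, Polynomial.pow_comp, Polynomial.X_comp,
      Polynomial.C_neg, sub_eq_add_neg]
  rw [hchar]
  set m := padicValNat p n with hm
  -- write `n = p ^ m * k` with `p ∤ k`
  have hn0 : n ≠ 0 := hn.ne'
  have hfac : n.factorization p = m := Nat.factorization_def n hp
  set k := n / p ^ m with hk
  have hnk : p ^ m * k = n := by
    have := Nat.ordProj_mul_ordCompl_eq_self n p
    rw [hfac] at this
    exact this
  have hpk : ¬ p ∣ k := by
    have := Nat.not_dvd_ordCompl hp hn0
    rw [hfac] at this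
    exact this
  have hk0 : 0 < k := by
    rcases Nat.eq_zero_or_pos k with h | h
    · rw [h, mul_zero] at hnk; exact absurd hnk.symm hn0
    · exact h
  have hq0 : 0 < p ^ m := pow_pos hp.pos m
  -- `k` is a unit in `R`
  have hunit : IsUnit (k : R) := by
    have hcop : Nat.Coprime k p := (Nat.Coprime.symm ((Nat.Prime.coprime_iff_not_dvd hp).mpr hpk))
    have hbez := Nat.gcd_eq_gcd_ab k p
    rw [hcop.gcd_eq_one] at hbez
    have hbez' : (1 : R) = (k : R) * ((Nat.gcdA k p : ℤ) : R) + (p : R) * ((Nat.gcdB k p : ℤ) : R) := by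
      have := congrArg (fun z : ℤ => (z : R)) hbez
      simpa using this
    rw [CharP.cast_eq_zero R p, zero_mul, add_zero] at hbez'
    exact IsUnit.of_mul_eq_one _ hbez'.symm
  have hpow : (Polynomial.X - Polynomial.C a : Polynomial R) ^ n =
      Polynomial.expand R (p ^ m) ((Polynomial.X - Polynomial.C (a ^ p ^ m)) ^ k) := by
    rw [← hnk, pow_mul, sub_pow_char_pow, map_pow, map_sub, Polynomial.expand_X, Polynomial.expand_C,
      ← Polynomial.C_pow]
  have hXn : (Polynomial.X : Polynomial R) ^ n =
      Polynomial.expand R (p ^ m) (Polynomial.X ^ k) := by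
    rw [map_pow, Polynomial.expand_X, ← pow_mul, hnk]
  rw [hpow, hXn, Polynomial.expand_inj hq0]
  constructor
  · intro h
    have := natCast_mul_eq_zero_of_pow_eq (a ^ p ^ m) k hk0 h
    exact (hunit.mul_right_eq_zero).mp this
  · intro h
    rw [h, map_zero, sub_zero]

end Groth.Agent.S15835
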