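import Mathlib
import Groth.Agent.Lib.ClosedCond27i
import Groth.Statements.S15837

set_option autoImplicit false
universe u
open CategoryTheory MonoidalCategory CartesianMonoidalCategory MonObj GrpObj AlgebraicGeometry
open SprIso

namespace Groth.Agent.S15837

section Helpers

variable {C : Type*} [Category C] [CartesianMonoidalCategory C] {G X Y : C}

/-- the stabilizer condition of a point, in terms of the universal test point. -/
theorem stab_iff (act : G ⊗ X ⟶ X) (i : Y ⟶ X) {T : C} (g : T ⟶ G) :
    (Y ◁ g) ≫ (lift (snd Y G) (fst Y G ≫ i) ≫ act) = (Y ◁ g) ≫ (fst Y G ≫ i) ↔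
      ∀ (T' : C) (t : T' ⟶ T) (y : T' ⟶ Y), lift (t ≫ g) (y ≫ i) ≫ act = y ≫ i := by
  have h2 : (Y ◁ g) ≫ lift (snd Y G) (fst Y G ≫ i) = lift (snd Y T ≫ g) (fst Y T ≫ i) := by
    apply CartesianMonoidalCategory.hom_ext
    · rw [Category.assoc, lift_fst, lift_fst, whiskerLeft_snd]
    · rw [Category.assoc, lift_snd, lift_snd, whiskerLeft_fst_assoc]
  constructor
  · intro H T' t y
    have h1 := congrArg (fun k => lift y t ≫ k) H
    simp only [← Category.assoc] at h1
    rw [Category.assoc (lift y t), h2] at h1
    simp only [Category.assoc, whiskerLeft_fst_assoc, lift_fst_assoc] at h1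
    have h3 : lift y t ≫ lift (snd Y T ≫ g) (fst Y T ≫ i) = lift (t ≫ g) (y ≫ i) := by
      apply CartesianMonoidalCategory.hom_ext
      · rw [Category.assoc, lift_fst, lift_fst, lift_snd_assoc]
      · rw [Category.assoc, lift_snd, lift_snd, lift_fst_assoc]
    rw [← Category.assoc, h3] at h1
    exact h1
  · intro H
    rw [← Category.assoc, h2, whiskerLeft_fst_assoc]
    exact H (Y ⊗ T) (snd Y T) (fst Y T)

end Helpers

/-- Let S be a scheme, G an S-group scheme of finite presentation acting on an S-scheme X which is
affine and of finite presentation over S, and Y a closed subscheme of X which is finite, flat and of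
finite presentation over S. Then the functorial stabilizer of Y in G — whose points with values in
an S-scheme T are the points g of G such that g acts as the identity on every point of Y with values
in a scheme over T — is represented by a closed subscheme of G whose inclusion is of finite
presentation. -/
theorem result (S : Scheme.{u}) (G X Y : Over S) [GrpObj G]
    [LocallyOfFinitePresentation G.hom] [QuasiCompact G.hom] [QuasiSeparated G.hom]
    [IsAffineHom X.hom] [LocallyOfFinitePresentation X.hom] (a : AlgGrp.Action G X)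
    (i : Y ⟶ X) [IsClosedImmersion i.left] [IsFinite Y.hom] [Flat Y.hom] [LocallyOfFinitePresentation Y.hom] :
    ∃ (Z : Over S) (j : Z ⟶ G), IsClosedImmersion j.left ∧ LocallyOfFinitePresentation j.left ∧
      ∀ (T : Over S) (g : T ⟶ G), (∃ z : T ⟶ Z, z ≫ j = g) ↔
        ∀ (T' : Over S) (t : T' ⟶ T) (y : T' ⟶ Y), lift (t ≫ g) (y ≫ i) ≫ a.act = y ≫ i := by
  have hsep : IsSeparated X.hom := inferInstance
  have hlft : LocallyOfFiniteType X.hom := inferInstance
  obtain ⟨Z, j, hj, hjfp, h⟩ :=
    Groth.Agent.Lib.ClosedCond27.exists_closedImmersion_of_eq_of_good_fg Y G X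
      (Groth.Agent.Lib.ClosedCond27.good_of_finite_flat_lfp Y)
      (Groth.Agent.Lib.ClosedCond27.goodFG_of_finite_flat_lfp Y)
      (lift (snd Y G) (fst Y G ≫ i) ≫ a.act) (fst Y G ≫ i)
  refine ⟨Z, j, hj, hjfp, fun T g => ?_⟩
  rw [h T g]
  exact Groth.Agent.S15837.stab_iff a.act i g

end Groth.Agent.S15837
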