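import Groth.Statements.S15838
import Mathlib

set_option autoImplicit false
universe u
open scoped TensorProduct
open SprIso

namespace Groth.Agent.S15838

/-- General linear group case: this is the case G = GL(V), to which the general case reduces along a
closed embedding. Let k be a perfect field and V a finite-dimensional k-vector space. If an
invertible endomorphism g of V has multiplicative Jordan decomposition g = t u (t semisimple, u
unipotent, t and u commuting), then the scheme-theoretic centralizer of g in GL(V) is the
centralizer of u inside the centralizer of t: for every commutative k-algebra R, an R-linear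
endomorphism h of R ⊗ V commutes with g_R if and only if it commutes with both t_R and u_R.
Likewise, if an endomorphism X of V has additive Jordan decomposition X = Y + N (Y semisimple, N
nilpotent, commuting), then h commutes with X_R if and only if it commutes with both Y_R and N_R. -/
theorem result (k : Type u) [Field k] [PerfectField k]
    (V : Type u) [AddCommGroup V] [Module k V] [FiniteDimensional k V]
    (R : Type u) [CommRing R] [Algebra k R] (h : Module.End R (R ⊗[k] V)) :
    (∀ (g t u : Module.End k V), IsUnit g → t.IsSemisimple → IsNilpotent (u - 1) → Commute t u → g = t * u →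
      (Commute h (g.baseChange R) ↔ Commute h (t.baseChange R) ∧ Commute h (u.baseChange R))) ∧
    (∀ (X Y N : Module.End k V), Y.IsSemisimple → IsNilpotent N → Commute Y N → X = Y + N →
      (Commute h (X.baseChange R) ↔ Commute h (Y.baseChange R) ∧ Commute h (N.baseChange R))) := by
  classical
  set φ : Module.End k V →ₐ[k] Module.End R (R ⊗[k] V) := Module.End.baseChangeHom k R V with hφ
  have key : ∀ (X c : Module.End k V), c ∈ Algebra.adjoin k {X} →
      Commute h (X.baseChange R) → Commute h (c.baseChange R) := by
    intro X c hc hX
    have h1 : φ c ∈ Algebra.adjoin k {φ X} := by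
      have h2 : φ c ∈ (Algebra.adjoin k {X}).map φ := Subalgebra.mem_map.mpr ⟨c, hc, rfl⟩
      rwa [AlgHom.map_adjoin, Set.image_singleton] at h2
    exact Algebra.commute_of_mem_adjoin_singleton_of_commute h1 hX
  have add_part : ∀ (X Y N : Module.End k V), Y.IsSemisimple → IsNilpotent N → Commute Y N →
      X = Y + N →
      (Commute h (X.baseChange R) ↔ Commute h (Y.baseChange R) ∧ Commute h (N.baseChange R)) := by
    intro X Y N hY hN hYN hX
    obtain ⟨n₀, hn₀, s₀, hs₀, hn₀_nil, hs₀_ss, h₀⟩ := X.exists_isNilpotent_isSemisimple
    have hcomm₀ : Commute n₀ s₀ :=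
      Algebra.commute_of_mem_adjoin_singleton_of_commute hs₀ (Algebra.commute_of_mem_adjoin_self hn₀).symm
    obtain ⟨hNn, hYs⟩ := Module.End.isNilpotent_isSemisimple_unique hN hY hn₀_nil hs₀_ss
      hYN.symm hcomm₀ (by rw [add_comm, ← hX, h₀])
    constructor
    · intro hc
      exact ⟨key X Y (hYs ▸ hs₀) hc, key X N (hNn ▸ hn₀) hc⟩
    · rintro ⟨h1, h2⟩
      rw [hX, LinearMap.baseChange_add]
      exact h1.add_right h2
  refine ⟨?_, add_part⟩
  intro g t u hg ht hu htu hgtu
  have hg' : g = t + t * (u - 1) := by rw [hgtu]; noncomm_ring
  have hcu : Commute t (u - 1) := htu.sub_right (Commute.one_right t)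
  have hnil : IsNilpotent (t * (u - 1)) := hcu.isNilpotent_mul_left hu
  have hc : Commute t (t * (u - 1)) := (Commute.refl t).mul_right hcu
  have hadd := add_part g t (t * (u - 1)) ht hnil hc hg'
  have htunit : IsUnit t := ((htu.isUnit_mul_iff).mp (hgtu ▸ hg)).1
  have htRunit : IsUnit (t.baseChange R) := htunit.map φ
  constructor
  · intro hcg
    have h1 := (hadd.mp hcg).1
    refine ⟨h1, ?_⟩
    have hgR : g.baseChange R = t.baseChange R * u.baseChange R := by
      rw [hgtu, LinearMap.baseChange_mul]
    rw [hgR] at hcg
    have e1 : t.baseChange R * (h * u.baseChange R) = t.baseChange R * (u.baseChange R * h) := by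
      calc t.baseChange R * (h * u.baseChange R)
          = (t.baseChange R * h) * u.baseChange R := by rw [mul_assoc]
        _ = (h * t.baseChange R) * u.baseChange R := by rw [h1.eq]
        _ = h * (t.baseChange R * u.baseChange R) := by rw [mul_assoc]
        _ = (t.baseChange R * u.baseChange R) * h := hcg.eq
        _ = _ := by rw [mul_assoc]
    exact htRunit.mul_left_cancel e1
  · rintro ⟨h1, h2⟩
    rw [hgtu, LinearMap.baseChange_mul]
    exact h1.mul_right h2

end Groth.Agent.S15838
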