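import Groth.Statements.S15839
import Groth.Agent.S4599
import Mathlib.AlgebraicGeometry.Morphisms.Separated
import Mathlib.AlgebraicGeometry.Morphisms.FinitePresentation

set_option autoImplicit false
universe u
open CategoryTheory MonoidalCategory CartesianMonoidalCategory MonObj GrpObj AlgebraicGeometry
open SprIso

namespace Groth.Agent.S15839

set_option backward.isDefEq.respectTransparency false in
open CategoryTheory.Limits in
/-- The equalizer of two `S`-morphisms into a scheme locally of finite type over `S` is locally of
finite presentation over the source. -/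
theorem locallyOfFinitePresentation_equalizer_ι_left {S : Scheme.{u}} {X Y : Over S}
    [LocallyOfFiniteType Y.hom] (f g : X ⟶ Y) :
    LocallyOfFinitePresentation (equalizer.ι f g).left := by
  refine MorphismProperty.of_isPullback
    ((Limits.isPullback_equalizer_prod f g).map (Over.forget _)).flip ?_
  rw [← MorphismProperty.cancel_right_of_respectsIso @LocallyOfFinitePresentation _
    (Over.prodLeftIsoPullback Y Y).hom]
  convert! (Groth.Agent.S4599.result Y.hom : LocallyOfFinitePresentation (pullback.diagonal Y.hom))
  ext1 <;> simp [← Over.comp_left]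

/-- Let S be a scheme, G an S-group scheme which is affine and of finite presentation over S, and g a
section of G over S. Then the centralizer of g — the subfunctor of G whose points with values in an
S-scheme T are the points x of G with x g_T = g_T x — is represented by a closed subscheme of G
whose inclusion is of finite presentation. -/
theorem result (S : Scheme.{u}) (G : Over S) [GrpObj G]
    [IsAffineHom G.hom] [LocallyOfFinitePresentation G.hom] (g : 𝟙_ (Over S) ⟶ G) :
    ∃ (Z : Over S) (j : Z ⟶ G), IsClosedImmersion j.left ∧ LocallyOfFinitePresentation j.left ∧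
      ∀ (T : Over S) (x : T ⟶ G), (∃ z : T ⟶ Z, z ≫ j = x) ↔
        x * (toUnit T ≫ g) = (toUnit T ≫ g) * x := by
  have hlft : LocallyOfFiniteType G.hom := inferInstance
  have hsep : IsSeparated G.hom := inferInstance
  let m₁ : G ⟶ G := 𝟙 G * (toUnit G ≫ g)
  let m₂ : G ⟶ G := (toUnit G ≫ g) * 𝟙 G
  refine ⟨Limits.equalizer m₁ m₂, Limits.equalizer.ι m₁ m₂, inferInstance,
    locallyOfFinitePresentation_equalizer_ι_left m₁ m₂, fun T x => ?_⟩
  have e₁ : x ≫ m₁ = x * (toUnit T ≫ g) := by
    simp only [m₁, comp_mul, Category.comp_id]
    rw [← Category.assoc, toUnit_unique (x ≫ toUnit G) (toUnit T)]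
  have e₂ : x ≫ m₂ = (toUnit T ≫ g) * x := by
    simp only [m₂, comp_mul, Category.comp_id]
    rw [← Category.assoc, toUnit_unique (x ≫ toUnit G) (toUnit T)]
  rw [← e₁, ← e₂]
  constructor
  · rintro ⟨z, rfl⟩
    rw [Category.assoc, Category.assoc, Limits.equalizer.condition]
  · intro h
    exact ⟨Limits.equalizer.lift x h, Limits.equalizer.lift_ι x h⟩

end Groth.Agent.S15839
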