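import Groth.Statements.S15840
import Mathlib

set_option autoImplicit false
universe u
open SprIso

namespace Groth.Agent.S15840

/-- For G = SL_n (n = r + 1) over a field of characteristic p > 0, write n = m p^e with m prime to p, so
that the identity component of the centre of G is μ_{p^e} embedded diagonally. The character of the
i-th exterior power of the standard representation takes the value C(n, i) α^i at a point α of
μ_{p^e}, and this is constant: for every commutative ring R of characteristic p and every α in R
with α^(p^e) = 1 one has C(n, i) α^i = C(n, i) in R, for all i. -/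
theorem result (p : ℕ) [Fact p.Prime] (R : Type u) [CommRing R]
    [CharP R p] (n : ℕ) (hn : 0 < n) (α : R) (hα : α ^ (p ^ padicValNat p n) = 1) (i : ℕ) :
    (n.choose i : R) * α ^ i = (n.choose i : R) := by
  have hp : p.Prime := Fact.out
  by_cases hdvd : p ^ padicValNat p n ∣ i
  · obtain ⟨k, rfl⟩ := hdvd
    rw [pow_mul, hα, one_pow, mul_one]
  · have hpc : p ∣ n.choose i := by
      by_contra hnd
      apply hdvd
      have hi : i ≠ 0 := by
        rintro rfl
        exact hdvd (dvd_zero _)
      obtain ⟨i', rfl⟩ := Nat.exists_eq_succ_of_ne_zero hi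
      obtain ⟨n', rfl⟩ := Nat.exists_eq_succ_of_ne_zero hn.ne'
      have h := Nat.add_one_mul_choose_eq n' i'
      have hcop : (p ^ padicValNat p (n' + 1)).Coprime ((n' + 1).choose (i' + 1)) :=
        Nat.Coprime.pow_left _ ((Nat.Prime.coprime_iff_not_dvd hp).mpr hnd)
      have h2 : p ^ padicValNat p (n' + 1) ∣ (n' + 1).choose (i' + 1) * (i' + 1) := by
        rw [← h]
        exact Dvd.dvd.mul_right pow_padicValNat_dvd _
      rw [mul_comm] at h2
      exact hcop.dvd_of_dvd_mul_right h2
    have h0 : (n.choose i : R) = 0 := (CharP.cast_eq_zero_iff R p _).mpr hpc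
    rw [h0, zero_mul]

end Groth.Agent.S15840
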