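import Groth.Statements.S15841
import Groth.Agent.Lib.CoxeterFixed

set_option autoImplicit false
universe u
open scoped TensorProduct
open SprIso

namespace Groth.Agent.S15841

/-- For a connected reductive group G with maximal torus T whose derived group is simply connected, and
a Coxeter element w (the product of the simple reflections, each once, in any order), an element of
Lie T = k ⊗ X_*(T) fixed by Ad(w) is killed by the differential of every simple root, i.e. lies in
the centre of Lie G. In root-datum form: let P be a root pairing over ℤ with character lattice M and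
cocharacter lattice N, b a base, and suppose each simple coroot has a dual character ω_i in M with
⟨ω_i, α_i^∨⟩ = 1 and ⟨ω_i, α_j^∨⟩ = 0 for every other simple j (the simply connected derived group
hypothesis). If l lists the simple roots without repetition, w^∨ is the composite of the
coreflections along l acting on N, k is a field and H in k ⊗ N satisfies w^∨_k H = H, then (α_i)_k H
= 0 for every simple root α_i, where (α_i)_k is the base change to k of the functional ⟨α_i, −⟩ on
N. (Stated for an arbitrary field k; the published setting is an algebraically closed field, and the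
argument does not depend on k.) -/
theorem result {ι M N : Type u} [AddCommGroup M] [AddCommGroup N]
    (P : RootPairing ι ℤ M N) (b : P.Base)
    (hsc : ∀ i ∈ b.support, ∃ ω : M, P.coroot' i ω = 1 ∧ ∀ j ∈ b.support, j ≠ i → P.coroot' j ω = 0)
    (l : List ι) (hl : l.Nodup) (hlb : ∀ i : ι, i ∈ l ↔ i ∈ b.support)
    (k : Type u) [Field k] (H : k ⊗[ℤ] N)
    (hH : ((l.map (fun i => ((P.coreflection i : N ≃ₗ[ℤ] N) : N →ₗ[ℤ] N))).prod).baseChange k H = H) :
    ∀ i ∈ b.support, (P.root' i).baseChange k H = 0 := by
  classical
  let rid : k ⊗[ℤ] ℤ ≃ₗ[k] k := TensorProduct.AlgebraTensorModule.rid ℤ k k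
  let a : ι → (k ⊗[ℤ] N) →ₗ[k] k := fun i => rid.toLinearMap ∘ₗ (P.root' i).baseChange k
  let c : ι → k ⊗[ℤ] N := fun i => (1 : k) ⊗ₜ[ℤ] P.coroot i
  let S : ι → Module.End k (k ⊗[ℤ] N) :=
    fun i => (((P.coreflection i : N ≃ₗ[ℤ] N) : N →ₗ[ℤ] N)).baseChange k
  have hS : ∀ i y, S i y = y - a i y • c i := by
    intro i y
    induction y using TensorProduct.induction_on with
    | zero => simp
    | tmul r n =>
      simp only [S, a, c, rid, LinearMap.baseChange_tmul, LinearMap.coe_comp, Function.comp_apply,
        LinearEquiv.coe_coe, P.coreflection_apply, TensorProduct.tmul_sub,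
        TensorProduct.AlgebraTensorModule.rid_tmul]
      congr 1
      rw [TensorProduct.smul_tmul', smul_eq_mul, mul_one, TensorProduct.smul_tmul]
    | add x y hx hy =>
      rw [map_add, hx, hy, map_add, add_smul]
      abel
  have hω : ∀ i ∈ (b.support : Set ι), ∃ ω : (k ⊗[ℤ] N) →ₗ[k] k,
      ω (c i) = 1 ∧ ∀ j ∈ (b.support : Set ι), j ≠ i → ω (c j) = 0 := by
    intro i hi
    obtain ⟨ω₀, h1, h0⟩ := hsc i hi
    refine ⟨rid.toLinearMap ∘ₗ (P.toLinearMap ω₀).baseChange k, ?_, ?_⟩
    · simp only [c, rid, LinearMap.coe_comp, Function.comp_apply, LinearEquiv.coe_coe,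
        LinearMap.baseChange_tmul, TensorProduct.AlgebraTensorModule.rid_tmul]
      have : P.toLinearMap ω₀ (P.coroot i) = 1 := h1
      rw [this, one_smul]
    · intro j hj hji
      simp only [c, rid, LinearMap.coe_comp, Function.comp_apply, LinearEquiv.coe_coe,
        LinearMap.baseChange_tmul, TensorProduct.AlgebraTensorModule.rid_tmul]
      have : P.toLinearMap ω₀ (P.coroot j) = 0 := h0 j hj hji
      rw [this, zero_smul]
  have hprod : ((l.map (fun i => ((P.coreflection i : N ≃ₗ[ℤ] N) : N →ₗ[ℤ] N))).prod).baseChange k
      = (l.map S).prod := by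
    have := map_list_prod (Module.End.baseChangeHom ℤ k N)
      (l.map (fun i => ((P.coreflection i : N ≃ₗ[ℤ] N) : N →ₗ[ℤ] N)))
    rw [List.map_map] at this
    exact this
  rw [hprod] at hH
  have key := Groth.Agent.Lib.CoxeterFixed.apply_eq_zero_of_prod_fixed a c (b.support : Set ι) hω S hS
    l hl (fun i hi => (hlb i).mp hi) H hH
  intro i hi
  have h0 := key i ((hlb i).mpr hi)
  simp only [a, LinearMap.coe_comp, Function.comp_apply, LinearEquiv.coe_coe] at h0
  exact (LinearEquiv.map_eq_zero_iff rid).mp h0

end Groth.Agent.S15841
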