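import Groth.Statements.S15845
import Mathlib

set_option autoImplicit false
universe u
open SprIso

namespace Groth.Agent.S15845

/-- General linear group case: this is the case G = GL_n with its upper-triangular Borel subgroup B
(derived group SL_n simply connected, all primes good, so the hypotheses on the characteristic
hold), together with the companion statement for a regular nilpotent element of Lie B. Let k be a
field and u an n × n upper-triangular matrix over k whose diagonal entries are all equal and whose
superdiagonal entries u_{i,i+1} are all non-zero — for diagonal 1 this is a regular unipotent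
element of B(k), for diagonal 0 a regular nilpotent element of Lie B. Then the centralizer of u in
GL_n is contained in B and is the product of the centre with the centralizer in the unipotent
radical: for every commutative k-algebra R and every invertible x ∈ M_n(R) commuting with u_R, x is
upper triangular and its diagonal entries are all equal. (The smoothness of the centralizer in the
unipotent radical, also part of the published statement, is not stated here.) -/
theorem result (k : Type u) [Field k] (n : ℕ)
    (u : Matrix (Fin n) (Fin n) k) (htri : ∀ i j : Fin n, j < i → u i j = 0) (hdiag : ∀ i j : Fin n, u i i = u j j)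
    (hreg : ∀ (i j : Fin n), j.val = i.val + 1 → u i j ≠ 0)
    (R : Type u) [CommRing R] [Algebra k R] (x : Matrix (Fin n) (Fin n) R) (hx : IsUnit x)
    (hxu : x * u.map (algebraMap k R) = u.map (algebraMap k R) * x) :
    (∀ i j : Fin n, j < i → x i j = 0) ∧ (∀ i j : Fin n, x i i = x j j) := by
  set U := u.map (algebraMap k R) with hU
  have hUtri : ∀ i j : Fin n, j < i → U i j = 0 := by
    intro i j hij
    simp [hU, htri i j hij]
  have hUdiag : ∀ i j : Fin n, U i i = U j j := by
    intro i j
    simp [hU, hdiag i j]
  have hUreg : ∀ i j : Fin n, j.val = i.val + 1 → IsUnit (U i j) := by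
    intro i j hij
    simp only [hU, Matrix.map_apply]
    exact (hreg i j hij).isUnit.map _
  have hcomm : ∀ i j : Fin n, ∑ l, x i l * U l j = ∑ l, U i l * x l j := by
    intro i j
    have := congrFun (congrFun hxu i) j
    simpa [Matrix.mul_apply] using this
  have key : ∀ j : Fin n, ∀ i : Fin n, j < i → x i j = 0 := by
    intro j
    refine WellFoundedLT.induction (motive := fun j => ∀ i : Fin n, j < i → x i j = 0) j ?_
    intro j IH1 i
    refine WellFoundedGT.induction (motive := fun i => j < i → x i j = 0) i ?_
    intro i IH2 hji
    have hi0 : i.val - 1 < n := by omega
    set i0 : Fin n := ⟨i.val - 1, hi0⟩ with hi0def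
    have hi0i : i.val = i0.val + 1 := by
      have : j.val < i.val := hji
      simp only [hi0def]
      omega
    have hji0 : j ≤ i0 := by
      have : j.val < i.val := hji
      rw [Fin.le_def]
      omega
    have hc := hcomm i0 j
    have hL : ∑ l, x i0 l * U l j = x i0 j * U j j := by
      apply Finset.sum_eq_single j
      · intro l _ hlj
        rcases lt_or_gt_of_ne hlj with h | h
        · rw [IH1 l h i0 (lt_of_lt_of_le h hji0), zero_mul]
        · rw [hUtri l j h, mul_zero]
      · intro h
        exact absurd (Finset.mem_univ j) h
    have hi0ne : i0 ≠ i := by
      intro h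
      have := congrArg Fin.val h
      omega
    have hR : ∑ l, U i0 l * x l j = U i0 i0 * x i0 j + U i0 i * x i j := by
      apply Finset.sum_eq_add i0 i hi0ne
      · intro l _ hl
        rcases lt_or_gt_of_ne hl.1 with h | h
        · rw [hUtri i0 l h, zero_mul]
        · have hil : i < l := by
            have h1 : i0.val < l.val := h
            have h2 : l.val ≠ i.val := fun h' => hl.2 (Fin.ext h')
            rw [Fin.lt_def]
            omega
          rw [IH2 l hil (lt_trans hji hil), mul_zero]
      · intro h
        exact absurd (Finset.mem_univ _) h
      · intro h
        exact absurd (Finset.mem_univ _) h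
    rw [hL, hR, hUdiag j i0] at hc
    have hz : U i0 i * x i j = 0 := by
      have : x i0 j * U i0 i0 = U i0 i0 * x i0 j := mul_comm _ _
      rw [this] at hc
      exact (add_eq_left.mp hc.symm)
    exact (hUreg i0 i hi0i).mul_right_eq_zero.mp hz
  refine ⟨fun i j hji => key j i hji, ?_⟩
  have hstep : ∀ i i' : Fin n, i'.val = i.val + 1 → x i i = x i' i' := by
    intro i i' hii'
    have hlt : i < i' := by
      rw [Fin.lt_def]
      omega
    have hc := hcomm i i'
    have hL : ∑ l, x i l * U l i' = x i i * U i i' + x i i' * U i' i' := by
      apply Finset.sum_eq_add i i' hlt.ne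
      · intro l _ hl
        rcases lt_or_gt_of_ne hl.1 with h | h
        · rw [key l i h, zero_mul]
        · have hil : i' < l := by
            have h1 : i.val < l.val := h
            have h2 : l.val ≠ i'.val := fun h' => hl.2 (Fin.ext h')
            rw [Fin.lt_def]
            omega
          rw [hUtri l i' hil, mul_zero]
      · intro h
        exact absurd (Finset.mem_univ _) h
      · intro h
        exact absurd (Finset.mem_univ _) h
    have hR : ∑ l, U i l * x l i' = U i i * x i i' + U i i' * x i' i' := by
      apply Finset.sum_eq_add i i' hlt.ne
      · intro l _ hl
        rcases lt_or_gt_of_ne hl.1 with h | h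
        · rw [hUtri i l h, zero_mul]
        · have hil : i' < l := by
            have h1 : i.val < l.val := h
            have h2 : l.val ≠ i'.val := fun h' => hl.2 (Fin.ext h')
            rw [Fin.lt_def]
            omega
          rw [key i' l hil, mul_zero]
      · intro h
        exact absurd (Finset.mem_univ _) h
      · intro h
        exact absurd (Finset.mem_univ _) h
    rw [hL, hR, hUdiag i' i] at hc
    have hz : U i i' * (x i i - x i' i') = 0 := by
      have : x i i * U i i' - U i i' * x i' i' = 0 := by
        have h3 : x i i' * U i i = U i i * x i i' := mul_comm _ _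
        rw [h3] at hc
        linear_combination hc
      rw [← this]
      ring
    exact sub_eq_zero.mp ((hUreg i i' hii').mul_right_eq_zero.mp hz)
  have hall : ∀ (m : ℕ) (hm : m < n), x ⟨m, hm⟩ ⟨m, hm⟩ = x ⟨0, by omega⟩ ⟨0, by omega⟩ := by
    intro m
    induction m with
    | zero => intro _; rfl
    | succ m ih =>
      intro hm
      rw [← ih (by omega)]
      exact (hstep ⟨m, by omega⟩ ⟨m + 1, hm⟩ rfl).symm
  intro i j
  have h1 := hall i.val i.isLt
  have h2 := hall j.val j.isLt
  simp only [Fin.eta] at h1 h2
  rw [h1, h2]

end Groth.Agent.S15845
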