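import Groth.Statements.S15883
-- import your own Groth.Agent.* helpers here

set_option autoImplicit false
universe u
open CategoryTheory AlgebraicGeometry Opposite
open BMCoh

namespace Groth.Agent.S15883

theorem isClosedImmersion_of_compl {X Y W : Scheme.{u}} (f : X ⟶ W) (g : Y ⟶ W)
    [IsOpenImmersion f] [IsOpenImmersion g] (h : Set.range f = (Set.range g)ᶜ) :
    IsClosedImmersion g := by
  apply IsClosedImmersion.of_isPreimmersion
  have : Set.range g = (Set.range f)ᶜ := by rw [h, compl_compl]
  rw [this]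
  exact (IsOpenImmersion.isOpen_range f).isClosed_compl

variable {V : ObjectProperty Scheme.{u}} [BMCoh.IsConstructible V] {R : Type u} [CommRing R]
  {A : BMCoh.Coefs R} (T : BMCoh.TheoryOn V R A)

theorem pull_push_self {Y W : BMCoh.Obj V} (iY : Y ⟶ W) [IsProper iY.hom] (M : A.Cat) (i n : ℤ)
    (hi : i = i + 2 * relCodim Y.scheme W.scheme) (hn : n = n + relCodim Y.scheme W.scheme) :
    T.push iY.hom M i n i n hi hn ≫ T.pull iY M i n = 𝟙 _ := by
  have hpb : IsPullback (𝟙 Y : Y ⟶ Y).hom (𝟙 Y.scheme) iY.hom iY.hom :=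
    IsKernelPair.id_of_mono iY.hom
  have h0 : relCodim Y.scheme Y.scheme = 0 := by unfold relCodim; ring
  have hi' : i = i + 2 * relCodim Y.scheme Y.scheme := by rw [h0]; ring
  have hn' : n = n + relCodim Y.scheme Y.scheme := by rw [h0]; ring
  have := T.push_pull iY.hom (𝟙 Y.scheme) iY (𝟙 Y) hpb M i n i n hi hn hi' hn'
  rw [this, T.push_id, op_id, CategoryTheory.Functor.map_id, NatTrans.id_app, Category.id_comp]

/-- Let T be a twisted Borel–Moore cohomology theory with coefficients in A (a full subcategory of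
R-modules containing R) on a constructible class V of Noetherian schemes, and let i_X : X → W and
i_Y : Y → W be morphisms of V — open immersions with dim X = dim W = dim Y — whose images are
complementary in W, so that W is the disjoint union of X and Y. Then for every coefficient module M
and all integers i, n the map H^i(W, M(n)) → H^i(X, M(n)) × H^i(Y, M(n)) whose components are the
restriction maps along i_X and i_Y is bijective. -/
theorem result (V : ObjectProperty Scheme.{u}) [BMCoh.IsConstructible V] (R : Type u) [CommRing R] (A : BMCoh.Coefs R) (T : BMCoh.TheoryOn V R A) {X Y W : BMCoh.Obj V} (iX : X ⟶ W) (iY : Y ⟶ W) (h : Set.range iX.hom = (Set.range iY.hom)ᶜ) (M : A.Cat) (i n : ℤ) : Function.Bijective (fun a : T.gp W M i n => ((T.pull iX M i n).hom a, (T.pull iY M i n).hom a)) := by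
  obtain ⟨i0, rfl⟩ : ∃ i0, i = i0 + 1 := ⟨i - 1, by ring⟩
  have h' : Set.range iY.hom = (Set.range iX.hom)ᶜ := by rw [h, compl_compl]
  have hcY : relCodim Y.scheme W.scheme = 0 := by unfold relCodim; rw [iY.dim_eq]; ring
  have hcX : relCodim X.scheme W.scheme = 0 := by unfold relCodim; rw [iX.dim_eq]; ring
  haveI : IsClosedImmersion iY.hom := isClosedImmersion_of_compl iX.hom iY.hom h
  haveI : IsClosedImmersion iX.hom := isClosedImmersion_of_compl iY.hom iX.hom h'
  let D : Decomp W := ⟨Y, X, iY.hom, inferInstance, iX, h⟩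
  let D' : Decomp W := ⟨X, Y, iX.hom, inferInstance, iY, h'⟩
  have hiY : i0 + 1 = i0 + 1 + 2 * relCodim Y.scheme W.scheme := by rw [hcY]; ring
  have hnY : n = n + relCodim Y.scheme W.scheme := by rw [hcY]; ring
  have hiX : i0 + 1 = i0 + 1 + 2 * relCodim X.scheme W.scheme := by rw [hcX]; ring
  have hnX : n = n + relCodim X.scheme W.scheme := by rw [hcX]; ring
  have exD := T.exact_push_pull D M i0 n (i0 + 1) n hiY hnY
  have exD' := T.exact_push_pull D' M i0 n (i0 + 1) n hiX hnX
  have ppY := pull_push_self T iY M (i0 + 1) n hiY hnY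
  have ppX := pull_push_self T iX M (i0 + 1) n hiX hnX
  have ppY' : ∀ b, (T.pull iY M (i0 + 1) n).hom ((T.push iY.hom M (i0 + 1) n (i0 + 1) n hiY hnY).hom b) = b := by
    intro b
    have := congrArg (fun φ => φ.hom b) ppY
    simpa using this
  have ppX' : ∀ b, (T.pull iX M (i0 + 1) n).hom ((T.push iX.hom M (i0 + 1) n (i0 + 1) n hiX hnX).hom b) = b := by
    intro b
    have := congrArg (fun φ => φ.hom b) ppX
    simpa using this
  -- cross terms vanish
  have cXY : ∀ b, (T.pull iX M (i0 + 1) n).hom ((T.push iY.hom M (i0 + 1) n (i0 + 1) n hiY hnY).hom b) = 0 :=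
    fun b => (exD _).2 ⟨b, rfl⟩
  have cYX : ∀ b, (T.pull iY M (i0 + 1) n).hom ((T.push iX.hom M (i0 + 1) n (i0 + 1) n hiX hnX).hom b) = 0 :=
    fun b => (exD' _).2 ⟨b, rfl⟩
  constructor
  · intro a b hab
    simp only [Prod.mk.injEq] at hab
    obtain ⟨h1, h2⟩ := hab
    have hX0 : (T.pull iX M (i0 + 1) n).hom (a - b) = 0 := by rw [map_sub, h1, sub_self]
    have hY0 : (T.pull iY M (i0 + 1) n).hom (a - b) = 0 := by rw [map_sub, h2, sub_self]
    obtain ⟨c, hc⟩ := (exD (a - b)).1 hX0
    have : c = 0 := by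
      have := ppY' c
      rw [hc, hY0] at this
      exact this.symm
    rw [this, map_zero] at hc
    exact (sub_eq_zero.1 hc.symm)
  · rintro ⟨aX, aY⟩
    refine ⟨(T.push iX.hom M (i0 + 1) n (i0 + 1) n hiX hnX).hom aX +
      (T.push iY.hom M (i0 + 1) n (i0 + 1) n hiY hnY).hom aY, ?_⟩
    simp only [map_add, ppX', ppY', cXY, cYX, add_zero, zero_add]

end Groth.Agent.S15883
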