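import Groth.Statements.S15893
import Groth.Agent.Lib.H79DualSep

set_option autoImplicit false
universe u v w
open CartDual

namespace Groth.Agent.S15893

open TensorProduct Groth.Agent.Lib.H79DualSep

section Aux

variable (R : Type u) [CommRing R] {A : Type v} {B : Type w}
  [Ring A] [Bialgebra R A] [Module.Finite R A] [Module.Projective R A]
  [Ring B] [Bialgebra R B] [Module.Finite R B] [Module.Projective R B]

/-- The linear map `A → B` whose transpose is a given linear map `D R B → D R A`. -/
noncomputable def untransposeLin (φ : CartDual.D R B →ₗ[R] CartDual.D R A) : A →ₗ[R] B :=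
  (Module.evalEquiv R B).symm.toLinearMap ∘ₗ
    LinearMap.flip ((CartDual.toDual R A).toLinearMap ∘ₗ φ ∘ₗ (CartDual.toDual R B).symm.toLinearMap)

theorem apply_untransposeLin (φ : CartDual.D R B →ₗ[R] CartDual.D R A) (x : CartDual.D R B) (a : A) :
    x (untransposeLin R φ a) = φ x a := by
  change x.ofConv ((Module.evalEquiv R B).symm _) = _
  rw [Module.apply_evalEquiv_symm_apply]
  rfl

/-- Two elements of `B` with the same pairing against all of `D R B` are equal. -/
theorem eq_of_forall_apply_eq (b b' : B) (h : ∀ x : CartDual.D R B, x b = x b') : b = b' := by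
  rw [← sub_eq_zero]
  apply (Module.forall_dual_apply_eq_zero_iff R (b - b')).mp
  intro ξ
  have := h (WithConv.toConv ξ)
  rw [map_sub]
  exact sub_eq_zero.2 this

theorem pair_map (f : A →ₗ[R] B) (x y : B →ₗ[R] R) (t : A ⊗[R] A) :
    pair x y (TensorProduct.map f f t) = pair (x ∘ₗ f) (y ∘ₗ f) t := by
  induction t using TensorProduct.induction_on with
  | zero => simp
  | tmul a b => simp
  | add t t' ht ht' => simp only [map_add, ht, ht']

theorem ev₂_eq_pair (x y : CartDual.D R A) (t : A ⊗[R] A) :
    CartDual.ev₂ R A (x ⊗ₜ y) t = pair x.ofConv y.ofConv t := by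
  induction t using TensorProduct.induction_on with
  | zero => simp
  | tmul a b => simp [CartDual.coe_apply]
  | add t t' ht ht' => simp only [map_add, ht, ht']

end Aux

/-- Let R be a commutative ring and A, B commutative and cocommutative Hopf algebras over R, each
finitely generated and projective as an R-module (finite locally free commutative group schemes G =
Spec A, H = Spec B over Spec R). Then Cartier duality is a fully faithful contravariant functor: the
map sending a bialgebra homomorphism f : A → B (a homomorphism of group schemes H → G) to its
transpose between the dual Hopf algebras, Hom_R(B, R) → Hom_R(A, R) (the dual homomorphism G^D →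
H^D), is a bijection between bialgebra homomorphisms A → B and bialgebra homomorphisms Hom_R(B, R) →
Hom_R(A, R). (The published statement also asserts that the canonical map to the double dual is an
isomorphism, which makes duality an involutory anti-equivalence; that part is not restated here. The
published notes work over a Noetherian base ring; the row allows any commutative base ring.) -/
theorem result (R : Type u) [CommRing R] (A : Type v) (B : Type w)
    [CommRing A] [HopfAlgebra R A] [Coalgebra.IsCocomm R A] [Module.Finite R A] [Module.Projective R A]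
    [CommRing B] [HopfAlgebra R B] [Coalgebra.IsCocomm R B] [Module.Finite R B] [Module.Projective R B] :
    Function.Bijective (fun f : A →ₐc[R] B => CartDual.transpose R f) := by
  constructor
  · intro f g hfg
    apply DFunLike.ext
    intro a
    apply eq_of_forall_apply_eq R
    intro x
    have := congrArg (fun ψ : CartDual.D R B →ₐc[R] CartDual.D R A => ψ x a) hfg
    simpa using this
  · intro φ
    let f₀ : A →ₗ[R] B := untransposeLin R (φ : CartDual.D R B →ₗ[R] CartDual.D R A)
    have hf₀ : ∀ (x : CartDual.D R B) (a : A), x (f₀ a) = φ x a := fun x a =>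
      apply_untransposeLin R (φ : CartDual.D R B →ₗ[R] CartDual.D R A) x a
    have hφ : ∀ x : CartDual.D R B, (φ x).ofConv = x.ofConv ∘ₗ f₀ := fun x =>
      LinearMap.ext fun a => (hf₀ x a).symm
    have h_one : f₀ 1 = 1 := by
      apply eq_of_forall_apply_eq R
      intro x
      rw [hf₀]
      have h1 : Coalgebra.counit (R := R) (φ x) = Coalgebra.counit (R := R) x :=
        CoalgHomClass.counit_comp_apply φ x
      exact h1
    have h_mul : ∀ a b : A, f₀ (a * b) = f₀ a * f₀ b := by
      intro a b
      apply eq_of_forall_apply_eq R
      intro x
      rw [hf₀, ← CartDual.ev₂_coalgebra_comul_tmul, ← CartDual.ev₂_coalgebra_comul_tmul]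
      have h2 : Coalgebra.comul (R := R) (φ x) =
          TensorProduct.map (φ : CartDual.D R B →ₗ[R] CartDual.D R A)
            (φ : CartDual.D R B →ₗ[R] CartDual.D R A) (Coalgebra.comul (R := R) x) :=
        (CoalgHomClass.map_comp_comul_apply φ x).symm
      rw [h2]
      generalize Coalgebra.comul (R := R) x = y
      induction y using TensorProduct.induction_on with
      | zero => simp
      | tmul x₁ x₂ =>
        rw [TensorProduct.map_tmul, CartDual.ev₂_tmul, CartDual.ev₂_tmul]
        change φ x₁ a * φ x₂ b = _
        rw [← hf₀, ← hf₀]
      | add y y' hy hy' => simp only [map_add, LinearMap.add_apply, hy, hy']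
    have h_counit : ∀ a : A, Coalgebra.counit (R := R) (f₀ a) = Coalgebra.counit (R := R) a := by
      intro a
      have h3 : (1 : CartDual.D R B) (f₀ a) = (φ 1) a := hf₀ 1 a
      rw [map_one] at h3
      simpa [LinearMap.convOne_apply] using h3
    have h_comul : ∀ a : A, TensorProduct.map f₀ f₀ (Coalgebra.comul (R := R) a) =
        Coalgebra.comul (R := R) (f₀ a) := by
      intro a
      apply eq_of_forall_pair_eq
      intro ξ η
      rw [pair_map]
      have e1 : pair ξ η (Coalgebra.comul (R := R) (f₀ a)) =
          (WithConv.toConv ξ * WithConv.toConv η : CartDual.D R B) (f₀ a) := by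
        rw [LinearMap.convMul_apply]; rfl
      have e2 : pair (ξ ∘ₗ f₀) (η ∘ₗ f₀) (Coalgebra.comul (R := R) a) =
          (φ (WithConv.toConv ξ) * φ (WithConv.toConv η) : CartDual.D R A) a := by
        rw [LinearMap.convMul_apply, hφ, hφ]; rfl
      rw [e1, e2, hf₀, map_mul]
    let f : A →ₐc[R] B :=
      { toLinearMap := f₀
        counit_comp := LinearMap.ext h_counit
        map_comp_comul := LinearMap.ext h_comul
        map_one' := h_one
        map_mul' := h_mul }
    refine ⟨f, ?_⟩
    apply DFunLike.ext
    intro x
    apply WithConv.ext
    apply LinearMap.ext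
    intro a
    exact hf₀ x a

end Groth.Agent.S15893
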