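import Groth.Statements.S15895
import Groth.Agent.Lib.H79DualSep
import Groth.Prelude.Def_CartDual2

set_option autoImplicit false
universe u
open scoped TensorProduct
open Versch

namespace Groth.Agent.S15895

section Aux

variable (p : ℕ) [Fact p.Prime] (R : Type u) [CommRing R] [CharP R p]

local notation "𝔸" => MonoidAlgebra R (Multiplicative (ZMod p))

instance : CharP 𝔸 p :=
  charP_of_injective_algebraMap (R := R) (A := MonoidAlgebra R (Multiplicative (ZMod p)))
    (by
      rw [MonoidAlgebra.coe_algebraMap]
      exact MonoidAlgebra.single_right_injective.comp (fun _ _ h => h)) p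

theorem pow_p_eq (a : 𝔸) :
    a ^ p = algebraMap R 𝔸 ((Coalgebra.counit (R := R) a) ^ p) := by
  induction a using MonoidAlgebra.induction_on with
  | of g =>
    rw [MonoidAlgebra.of_apply, MonoidAlgebra.single_pow, MonoidAlgebra.counit_single, one_pow]
    have hg : g ^ p = 1 := by
      apply Multiplicative.toAdd.injective
      rw [toAdd_pow, toAdd_one]
      simp
    rw [hg]
    simp
  | add a b ha hb =>
    rw [add_pow_char, ha, hb, map_add, add_pow_char, map_add]
  | smul r a ha =>
    rw [smul_pow, ha, map_smul, smul_eq_mul, mul_pow, map_mul, Algebra.smul_def]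

end Aux

/-- Let p be a prime, R a commutative ring of characteristic p and B = Hom_R(R[ℤ/p], R) the dual Hopf
algebra of the group algebra of the cyclic group of order p: the Hopf algebra of the constant group
scheme ℤ/p over Spec R (the Cartier dual of μ_p). Let v : B → B ⊗_R R^(Frob) be the comorphism of
the Verschiebung V : (ℤ/p)^(p) → ℤ/p (the ring map whose transpose under the canonical pairing is
the relative Frobenius of the dual Hopf algebra of B). Then V is the trivial homomorphism: v is the
composite of the counit ε : B → R, the identity of underlying rings R → R^(Frob) and the inclusion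
of the twisted factor R^(Frob) → B ⊗_R R^(Frob), i.e. v(b) = 1 ⊗ ε(b). -/
theorem result (p : ℕ) [Fact p.Prime] (R : Type u) [CommRing R]
    [CharP R p] (v : CartDual.D R (MonoidAlgebra R (Multiplicative (ZMod p))) →+* FrobAlg.BaseChange p R (CartDual.D R (MonoidAlgebra R (Multiplicative (ZMod p)))))
    (hv : Versch.IsVerschiebung p R (CartDual.D R (MonoidAlgebra R (Multiplicative (ZMod p)))) v) :
    v = ((Algebra.TensorProduct.includeRight (R := R) (A := CartDual.D R (MonoidAlgebra R (Multiplicative (ZMod p))))
            (B := FrobAlg.Twist p R)).toRingHom.comp (FrobAlg.toTwist p R).toRingHom).comp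
          (Bialgebra.counitAlgHom R (CartDual.D R (MonoidAlgebra R (Multiplicative (ZMod p))))).toRingHom := by
  refine Versch.IsVerschiebung.unique p R _ hv ?_
  rw [Versch.isVerschiebung_iff]
  intro b ξ
  -- `ξ` is evaluation at an element `a` of the group algebra
  obtain ⟨a, ha, -⟩ := Groth.Agent.Lib.H79DualSep.existsUnique_eval
    (M := MonoidAlgebra R (Multiplicative (ZMod p)))
    (ξ.ofConv ∘ₗ (CartDual.toDual R (MonoidAlgebra R (Multiplicative (ZMod p)))).symm.toLinearMap)
  have hξ : ξ = CartDual.eval R (MonoidAlgebra R (Multiplicative (ZMod p))) a := by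
    apply WithConv.ext
    apply LinearMap.ext
    intro x
    exact ha x.ofConv
  have h1 : (ξ ^ p) b = b (a ^ p) := by
    rw [hξ, ← map_pow]
    rfl
  have h2 : ξ 1 = Coalgebra.counit (R := R) a := by
    rw [hξ]
    change (1 : CartDual.D R (MonoidAlgebra R (Multiplicative (ZMod p)))) a = _
    rw [LinearMap.convOne_apply]
    rfl
  change Versch.evTw p R _ ξ ((1 : CartDual.D R (MonoidAlgebra R (Multiplicative (ZMod p)))) ⊗ₜ[R]
      FrobAlg.toTwist p R (Coalgebra.counit (R := R) b)) = _
  rw [Versch.evTw_tmul', h1, h2, pow_p_eq, ← map_mul]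
  congr 1
  rw [Algebra.algebraMap_eq_smul_one, CartDual.coe_apply, map_smul, smul_eq_mul]
  rfl

end Groth.Agent.S15895
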