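import Groth.Statements.S15897
import Groth.Agent.Lib.H79DualSep

set_option autoImplicit false
universe u v
open CartDual

namespace Groth.Agent.S15897

/-- Let R be a commutative ring and A a commutative Hopf algebra over R which is finitely generated and
projective as an R-module (a finite locally free R-group scheme G = Spec A, not assumed
commutative). If the convolution product on the dual Hopf algebra Hom_R(A, R) is commutative, then A
is cocommutative, i.e. G is a commutative group scheme. (The dual Hopf algebra is commutative
exactly when A is cocommutative; the other implication is immediate and not stated. The published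
notes work over a Noetherian base ring; the row allows any commutative base ring.) -/
theorem result (R : Type u) [CommRing R] (A : Type v) [CommRing A] [HopfAlgebra R A]
    [Module.Finite R A] [Module.Projective R A] (h : ∀ x y : CartDual.D R A, x * y = y * x) :
    Coalgebra.IsCocomm R A := by
  constructor
  apply LinearMap.ext
  intro a
  apply Groth.Agent.Lib.H79DualSep.eq_of_forall_pair_eq
  intro φ ψ
  have hcomm : ∀ t : TensorProduct R A A,
      Groth.Agent.Lib.H79DualSep.pair φ ψ (TensorProduct.comm R A A t) =
        Groth.Agent.Lib.H79DualSep.pair ψ φ t := by
    intro t
    induction t using TensorProduct.induction_on with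
    | zero => simp
    | tmul x y => simp [mul_comm]
    | add t t' ht ht' => simp only [map_add, ht, ht']
  have h1 : ∀ (f g : A →ₗ[R] R),
      Groth.Agent.Lib.H79DualSep.pair f g (Coalgebra.comul (R := R) a) =
        (WithConv.toConv f * WithConv.toConv g : CartDual.D R A) a := by
    intro f g
    rw [LinearMap.convMul_apply]
    rfl
  change Groth.Agent.Lib.H79DualSep.pair φ ψ
      (TensorProduct.comm R A A (Coalgebra.comul (R := R) a)) =
    Groth.Agent.Lib.H79DualSep.pair φ ψ (Coalgebra.comul (R := R) a)
  rw [hcomm, h1, h1, h]

end Groth.Agent.S15897
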