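import Groth.Statements.S15906
import Groth.Agent.Lib.H72DelPezzo

set_option autoImplicit false
open Surf

namespace Groth.Agent.S15906

open W4c3severiratdp Finset Groth.Agent.Lib.H72DelPezzo

/-- The fifteen types of conic classes for `δ = 8`. -/
def types15 : Set (DP 8) :=
      ({![1, 1, 0, 0, 0, 0, 0, 0, 0],
        ![2, 1, 1, 1, 1, 0, 0, 0, 0],
        ![3, 2, 1, 1, 1, 1, 1, 0, 0],
        ![4, 2, 2, 2, 1, 1, 1, 1, 0],
        ![4, 3, 1, 1, 1, 1, 1, 1, 1],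
        ![5, 2, 2, 2, 2, 2, 2, 1, 0],
        ![5, 3, 2, 2, 2, 1, 1, 1, 1],
        ![6, 3, 3, 2, 2, 2, 2, 1, 1],
        ![7, 3, 3, 3, 3, 2, 2, 2, 1],
        ![7, 4, 3, 2, 2, 2, 2, 2, 2],
        ![8, 4, 3, 3, 3, 3, 2, 2, 2],
        ![8, 3, 3, 3, 3, 3, 3, 3, 1],
        ![9, 4, 4, 3, 3, 3, 3, 3, 2],
        ![10, 4, 4, 4, 4, 3, 3, 3, 3],
        ![11, 4, 4, 4, 4, 4, 4, 4, 3]} : Set (DP 8))

theorem classify (a : ℤ) (b : Fin 8 → ℤ) (hsq : ∑ i, b i ^ 2 = a ^ 2) (hsum : ∑ i, b i = 3 * a - 2) :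
    ∃ t ∈ types15, a = t 0 ∧ ∃ σ : Equiv.Perm (Fin 8), ∀ i, b (σ i) = t i.succ := by
  obtain ⟨⟨ha1, ha11⟩, hb⟩ := bounds (le_refl 8) a b hsq hsum
  have E0 := sum_comp_eq b hb (fun _ => 1)
  have E1 := sum_comp_eq b hb (fun x => x)
  have E2 := sum_comp_eq b hb (fun x => x ^ 2)
  obtain ⟨n0, hn0⟩ : ∃ n, (univ.filter fun i => b i = 0).card = n := ⟨_, rfl⟩
  obtain ⟨n1, hn1⟩ : ∃ n, (univ.filter fun i => b i = 1).card = n := ⟨_, rfl⟩
  obtain ⟨n2, hn2⟩ : ∃ n, (univ.filter fun i => b i = 2).card = n := ⟨_, rfl⟩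
  obtain ⟨n3, hn3⟩ : ∃ n, (univ.filter fun i => b i = 3).card = n := ⟨_, rfl⟩
  obtain ⟨n4, hn4⟩ : ∃ n, (univ.filter fun i => b i = 4).card = n := ⟨_, rfl⟩
  rw [hn0, hn1, hn2, hn3, hn4] at E0 E1 E2
  rw [hsum] at E1
  rw [hsq] at E2
  simp only [Finset.sum_const, Finset.card_univ, Fintype.card_fin, nsmul_eq_mul, mul_one] at E0
  clear hsq hsum
  interval_cases a
  · norm_num at E1 E2
    obtain ⟨h0, h1, h2, h3, h4⟩ : (n0 = 7 ∧ n1 = 1 ∧ n2 = 0 ∧ n3 = 0 ∧ n4 = 0) := by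
      have b3 : n3 ≤ 8 := by omega
      have b4 : n4 ≤ 8 := by omega
      interval_cases n4 <;> interval_cases n3 <;> omega
    obtain ⟨σ, hσ⟩ := exists_perm_of_counts b (fun i => ((![1, 1, 0, 0, 0, 0, 0, 0, 0] : DP 8)) i.succ) hb (by decide)
      (hn0.trans (h0.trans (by decide))) (hn1.trans (h1.trans (by decide)))
      (hn2.trans (h2.trans (by decide))) (hn3.trans (h3.trans (by decide)))
      (hn4.trans (h4.trans (by decide)))
    exact ⟨![1, 1, 0, 0, 0, 0, 0, 0, 0], Set.mem_insert _ _, rfl, σ, hσ⟩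
  · norm_num at E1 E2
    obtain ⟨h0, h1, h2, h3, h4⟩ : (n0 = 4 ∧ n1 = 4 ∧ n2 = 0 ∧ n3 = 0 ∧ n4 = 0) := by
      have b3 : n3 ≤ 8 := by omega
      have b4 : n4 ≤ 8 := by omega
      interval_cases n4 <;> interval_cases n3 <;> omega
    obtain ⟨σ, hσ⟩ := exists_perm_of_counts b (fun i => ((![2, 1, 1, 1, 1, 0, 0, 0, 0] : DP 8)) i.succ) hb (by decide)
      (hn0.trans (h0.trans (by decide))) (hn1.trans (h1.trans (by decide)))
      (hn2.trans (h2.trans (by decide))) (hn3.trans (h3.trans (by decide)))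
      (hn4.trans (h4.trans (by decide)))
    exact ⟨![2, 1, 1, 1, 1, 0, 0, 0, 0], Set.mem_insert_of_mem _ (Set.mem_insert _ _), rfl, σ, hσ⟩
  · norm_num at E1 E2
    obtain ⟨h0, h1, h2, h3, h4⟩ : (n0 = 2 ∧ n1 = 5 ∧ n2 = 1 ∧ n3 = 0 ∧ n4 = 0) := by
      have b3 : n3 ≤ 8 := by omega
      have b4 : n4 ≤ 8 := by omega
      interval_cases n4 <;> interval_cases n3 <;> omega
    obtain ⟨σ, hσ⟩ := exists_perm_of_counts b (fun i => ((![3, 2, 1, 1, 1, 1, 1, 0, 0] : DP 8)) i.succ) hb (by decide)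
      (hn0.trans (h0.trans (by decide))) (hn1.trans (h1.trans (by decide)))
      (hn2.trans (h2.trans (by decide))) (hn3.trans (h3.trans (by decide)))
      (hn4.trans (h4.trans (by decide)))
    exact ⟨![3, 2, 1, 1, 1, 1, 1, 0, 0], Set.mem_insert_of_mem _ (Set.mem_insert_of_mem _ (Set.mem_insert _ _)), rfl, σ, hσ⟩
  · norm_num at E1 E2
    have key : (n0 = 1 ∧ n1 = 4 ∧ n2 = 3 ∧ n3 = 0 ∧ n4 = 0) ∨ (n0 = 0 ∧ n1 = 7 ∧ n2 = 0 ∧ n3 = 1 ∧ n4 = 0) := by
      have b3 : n3 ≤ 8 := by omega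
      have b4 : n4 ≤ 8 := by omega
      interval_cases n4 <;> interval_cases n3 <;> omega
    rcases key with ⟨h0, h1, h2, h3, h4⟩ | ⟨h0, h1, h2, h3, h4⟩
    · obtain ⟨σ, hσ⟩ := exists_perm_of_counts b (fun i => ((![4, 2, 2, 2, 1, 1, 1, 1, 0] : DP 8)) i.succ) hb (by decide)
        (hn0.trans (h0.trans (by decide))) (hn1.trans (h1.trans (by decide)))
        (hn2.trans (h2.trans (by decide))) (hn3.trans (h3.trans (by decide)))
        (hn4.trans (h4.trans (by decide)))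
      exact ⟨![4, 2, 2, 2, 1, 1, 1, 1, 0], Set.mem_insert_of_mem _ (Set.mem_insert_of_mem _ (Set.mem_insert_of_mem _ (Set.mem_insert _ _))), rfl, σ, hσ⟩
    · obtain ⟨σ, hσ⟩ := exists_perm_of_counts b (fun i => ((![4, 3, 1, 1, 1, 1, 1, 1, 1] : DP 8)) i.succ) hb (by decide)
        (hn0.trans (h0.trans (by decide))) (hn1.trans (h1.trans (by decide)))
        (hn2.trans (h2.trans (by decide))) (hn3.trans (h3.trans (by decide)))
        (hn4.trans (h4.trans (by decide)))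
      exact ⟨![4, 3, 1, 1, 1, 1, 1, 1, 1], Set.mem_insert_of_mem _ (Set.mem_insert_of_mem _ (Set.mem_insert_of_mem _ (Set.mem_insert_of_mem _ (Set.mem_insert _ _)))), rfl, σ, hσ⟩
  · norm_num at E1 E2
    have key : (n0 = 1 ∧ n1 = 1 ∧ n2 = 6 ∧ n3 = 0 ∧ n4 = 0) ∨ (n0 = 0 ∧ n1 = 4 ∧ n2 = 3 ∧ n3 = 1 ∧ n4 = 0) := by
      have b3 : n3 ≤ 8 := by omega
      have b4 : n4 ≤ 8 := by omega
      interval_cases n4 <;> interval_cases n3 <;> omega
    rcases key with ⟨h0, h1, h2, h3, h4⟩ | ⟨h0, h1, h2, h3, h4⟩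
    · obtain ⟨σ, hσ⟩ := exists_perm_of_counts b (fun i => ((![5, 2, 2, 2, 2, 2, 2, 1, 0] : DP 8)) i.succ) hb (by decide)
        (hn0.trans (h0.trans (by decide))) (hn1.trans (h1.trans (by decide)))
        (hn2.trans (h2.trans (by decide))) (hn3.trans (h3.trans (by decide)))
        (hn4.trans (h4.trans (by decide)))
      exact ⟨![5, 2, 2, 2, 2, 2, 2, 1, 0], Set.mem_insert_of_mem _ (Set.mem_insert_of_mem _ (Set.mem_insert_of_mem _ (Set.mem_insert_of_mem _ (Set.mem_insert_of_mem _ (Set.mem_insert _ _))))), rfl, σ, hσ⟩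
    · obtain ⟨σ, hσ⟩ := exists_perm_of_counts b (fun i => ((![5, 3, 2, 2, 2, 1, 1, 1, 1] : DP 8)) i.succ) hb (by decide)
        (hn0.trans (h0.trans (by decide))) (hn1.trans (h1.trans (by decide)))
        (hn2.trans (h2.trans (by decide))) (hn3.trans (h3.trans (by decide)))
        (hn4.trans (h4.trans (by decide)))
      exact ⟨![5, 3, 2, 2, 2, 1, 1, 1, 1], Set.mem_insert_of_mem _ (Set.mem_insert_of_mem _ (Set.mem_insert_of_mem _ (Set.mem_insert_of_mem _ (Set.mem_insert_of_mem _ (Set.mem_insert_of_mem _ (Set.mem_insert _ _)))))), rfl, σ, hσ⟩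
  · norm_num at E1 E2
    obtain ⟨h0, h1, h2, h3, h4⟩ : (n0 = 0 ∧ n1 = 2 ∧ n2 = 4 ∧ n3 = 2 ∧ n4 = 0) := by
      have b3 : n3 ≤ 8 := by omega
      have b4 : n4 ≤ 8 := by omega
      interval_cases n4 <;> interval_cases n3 <;> omega
    obtain ⟨σ, hσ⟩ := exists_perm_of_counts b (fun i => ((![6, 3, 3, 2, 2, 2, 2, 1, 1] : DP 8)) i.succ) hb (by decide)
      (hn0.trans (h0.trans (by decide))) (hn1.trans (h1.trans (by decide)))
      (hn2.trans (h2.trans (by decide))) (hn3.trans (h3.trans (by decide)))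
      (hn4.trans (h4.trans (by decide)))
    exact ⟨![6, 3, 3, 2, 2, 2, 2, 1, 1], Set.mem_insert_of_mem _ (Set.mem_insert_of_mem _ (Set.mem_insert_of_mem _ (Set.mem_insert_of_mem _ (Set.mem_insert_of_mem _ (Set.mem_insert_of_mem _ (Set.mem_insert_of_mem _ (Set.mem_insert _ _))))))), rfl, σ, hσ⟩
  · norm_num at E1 E2
    have key : (n0 = 0 ∧ n1 = 1 ∧ n2 = 3 ∧ n3 = 4 ∧ n4 = 0) ∨ (n0 = 0 ∧ n1 = 0 ∧ n2 = 6 ∧ n3 = 1 ∧ n4 = 1) := by
      have b3 : n3 ≤ 8 := by omega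
      have b4 : n4 ≤ 8 := by omega
      interval_cases n4 <;> interval_cases n3 <;> omega
    rcases key with ⟨h0, h1, h2, h3, h4⟩ | ⟨h0, h1, h2, h3, h4⟩
    · obtain ⟨σ, hσ⟩ := exists_perm_of_counts b (fun i => ((![7, 3, 3, 3, 3, 2, 2, 2, 1] : DP 8)) i.succ) hb (by decide)
        (hn0.trans (h0.trans (by decide))) (hn1.trans (h1.trans (by decide)))
        (hn2.trans (h2.trans (by decide))) (hn3.trans (h3.trans (by decide)))
        (hn4.trans (h4.trans (by decide)))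
      exact ⟨![7, 3, 3, 3, 3, 2, 2, 2, 1], Set.mem_insert_of_mem _ (Set.mem_insert_of_mem _ (Set.mem_insert_of_mem _ (Set.mem_insert_of_mem _ (Set.mem_insert_of_mem _ (Set.mem_insert_of_mem _ (Set.mem_insert_of_mem _ (Set.mem_insert_of_mem _ (Set.mem_insert _ _)))))))), rfl, σ, hσ⟩
    · obtain ⟨σ, hσ⟩ := exists_perm_of_counts b (fun i => ((![7, 4, 3, 2, 2, 2, 2, 2, 2] : DP 8)) i.succ) hb (by decide)
        (hn0.trans (h0.trans (by decide))) (hn1.trans (h1.trans (by decide)))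
        (hn2.trans (h2.trans (by decide))) (hn3.trans (h3.trans (by decide)))
        (hn4.trans (h4.trans (by decide)))
      exact ⟨![7, 4, 3, 2, 2, 2, 2, 2, 2], Set.mem_insert_of_mem _ (Set.mem_insert_of_mem _ (Set.mem_insert_of_mem _ (Set.mem_insert_of_mem _ (Set.mem_insert_of_mem _ (Set.mem_insert_of_mem _ (Set.mem_insert_of_mem _ (Set.mem_insert_of_mem _ (Set.mem_insert_of_mem _ (Set.mem_insert _ _))))))))), rfl, σ, hσ⟩
  · norm_num at E1 E2
    have key : (n0 = 0 ∧ n1 = 0 ∧ n2 = 3 ∧ n3 = 4 ∧ n4 = 1) ∨ (n0 = 0 ∧ n1 = 1 ∧ n2 = 0 ∧ n3 = 7 ∧ n4 = 0) := by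
      have b3 : n3 ≤ 8 := by omega
      have b4 : n4 ≤ 8 := by omega
      interval_cases n4 <;> interval_cases n3 <;> omega
    rcases key with ⟨h0, h1, h2, h3, h4⟩ | ⟨h0, h1, h2, h3, h4⟩
    · obtain ⟨σ, hσ⟩ := exists_perm_of_counts b (fun i => ((![8, 4, 3, 3, 3, 3, 2, 2, 2] : DP 8)) i.succ) hb (by decide)
        (hn0.trans (h0.trans (by decide))) (hn1.trans (h1.trans (by decide)))
        (hn2.trans (h2.trans (by decide))) (hn3.trans (h3.trans (by decide)))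
        (hn4.trans (h4.trans (by decide)))
      exact ⟨![8, 4, 3, 3, 3, 3, 2, 2, 2], Set.mem_insert_of_mem _ (Set.mem_insert_of_mem _ (Set.mem_insert_of_mem _ (Set.mem_insert_of_mem _ (Set.mem_insert_of_mem _ (Set.mem_insert_of_mem _ (Set.mem_insert_of_mem _ (Set.mem_insert_of_mem _ (Set.mem_insert_of_mem _ (Set.mem_insert_of_mem _ (Set.mem_insert _ _)))))))))), rfl, σ, hσ⟩
    · obtain ⟨σ, hσ⟩ := exists_perm_of_counts b (fun i => ((![8, 3, 3, 3, 3, 3, 3, 3, 1] : DP 8)) i.succ) hb (by decide)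
        (hn0.trans (h0.trans (by decide))) (hn1.trans (h1.trans (by decide)))
        (hn2.trans (h2.trans (by decide))) (hn3.trans (h3.trans (by decide)))
        (hn4.trans (h4.trans (by decide)))
      exact ⟨![8, 3, 3, 3, 3, 3, 3, 3, 1], Set.mem_insert_of_mem _ (Set.mem_insert_of_mem _ (Set.mem_insert_of_mem _ (Set.mem_insert_of_mem _ (Set.mem_insert_of_mem _ (Set.mem_insert_of_mem _ (Set.mem_insert_of_mem _ (Set.mem_insert_of_mem _ (Set.mem_insert_of_mem _ (Set.mem_insert_of_mem _ (Set.mem_insert_of_mem _ (Set.mem_insert _ _))))))))))), rfl, σ, hσ⟩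
  · norm_num at E1 E2
    obtain ⟨h0, h1, h2, h3, h4⟩ : (n0 = 0 ∧ n1 = 0 ∧ n2 = 1 ∧ n3 = 5 ∧ n4 = 2) := by
      have b3 : n3 ≤ 8 := by omega
      have b4 : n4 ≤ 8 := by omega
      interval_cases n4 <;> interval_cases n3 <;> omega
    obtain ⟨σ, hσ⟩ := exists_perm_of_counts b (fun i => ((![9, 4, 4, 3, 3, 3, 3, 3, 2] : DP 8)) i.succ) hb (by decide)
      (hn0.trans (h0.trans (by decide))) (hn1.trans (h1.trans (by decide)))
      (hn2.trans (h2.trans (by decide))) (hn3.trans (h3.trans (by decide)))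
      (hn4.trans (h4.trans (by decide)))
    exact ⟨![9, 4, 4, 3, 3, 3, 3, 3, 2], Set.mem_insert_of_mem _ (Set.mem_insert_of_mem _ (Set.mem_insert_of_mem _ (Set.mem_insert_of_mem _ (Set.mem_insert_of_mem _ (Set.mem_insert_of_mem _ (Set.mem_insert_of_mem _ (Set.mem_insert_of_mem _ (Set.mem_insert_of_mem _ (Set.mem_insert_of_mem _ (Set.mem_insert_of_mem _ (Set.mem_insert_of_mem _ (Set.mem_insert _ _)))))))))))), rfl, σ, hσ⟩
  · norm_num at E1 E2
    obtain ⟨h0, h1, h2, h3, h4⟩ : (n0 = 0 ∧ n1 = 0 ∧ n2 = 0 ∧ n3 = 4 ∧ n4 = 4) := by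
      have b3 : n3 ≤ 8 := by omega
      have b4 : n4 ≤ 8 := by omega
      interval_cases n4 <;> interval_cases n3 <;> omega
    obtain ⟨σ, hσ⟩ := exists_perm_of_counts b (fun i => ((![10, 4, 4, 4, 4, 3, 3, 3, 3] : DP 8)) i.succ) hb (by decide)
      (hn0.trans (h0.trans (by decide))) (hn1.trans (h1.trans (by decide)))
      (hn2.trans (h2.trans (by decide))) (hn3.trans (h3.trans (by decide)))
      (hn4.trans (h4.trans (by decide)))
    exact ⟨![10, 4, 4, 4, 4, 3, 3, 3, 3], Set.mem_insert_of_mem _ (Set.mem_insert_of_mem _ (Set.mem_insert_of_mem _ (Set.mem_insert_of_mem _ (Set.mem_insert_of_mem _ (Set.mem_insert_of_mem _ (Set.mem_insert_of_mem _ (Set.mem_insert_of_mem _ (Set.mem_insert_of_mem _ (Set.mem_insert_of_mem _ (Set.mem_insert_of_mem _ (Set.mem_insert_of_mem _ (Set.mem_insert_of_mem _ (Set.mem_insert _ _))))))))))))), rfl, σ, hσ⟩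
  · norm_num at E1 E2
    obtain ⟨h0, h1, h2, h3, h4⟩ : (n0 = 0 ∧ n1 = 0 ∧ n2 = 0 ∧ n3 = 1 ∧ n4 = 7) := by
      have b3 : n3 ≤ 8 := by omega
      have b4 : n4 ≤ 8 := by omega
      interval_cases n4 <;> interval_cases n3 <;> omega
    obtain ⟨σ, hσ⟩ := exists_perm_of_counts b (fun i => ((![11, 4, 4, 4, 4, 4, 4, 4, 3] : DP 8)) i.succ) hb (by decide)
      (hn0.trans (h0.trans (by decide))) (hn1.trans (h1.trans (by decide)))
      (hn2.trans (h2.trans (by decide))) (hn3.trans (h3.trans (by decide)))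
      (hn4.trans (h4.trans (by decide)))
    exact ⟨![11, 4, 4, 4, 4, 4, 4, 4, 3], Set.mem_insert_of_mem _ (Set.mem_insert_of_mem _ (Set.mem_insert_of_mem _ (Set.mem_insert_of_mem _ (Set.mem_insert_of_mem _ (Set.mem_insert_of_mem _ (Set.mem_insert_of_mem _ (Set.mem_insert_of_mem _ (Set.mem_insert_of_mem _ (Set.mem_insert_of_mem _ (Set.mem_insert_of_mem _ (Set.mem_insert_of_mem _ (Set.mem_insert_of_mem _ (Set.mem_insert_of_mem _ (Set.mem_singleton _)))))))))))))), rfl, σ, hσ⟩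


open W4c3severiratdp in
/-- Work in the lattice of vectors (a; b_1, …, b_δ), standing for divisor classes a ℓ − Σ b_i e_i on the
blow-up of the projective plane at δ points written in a standard basis, with intersection form a a'
− Σ b_i b_i' and canonical class K = (−3; −1, …, −1); a conic class is a class Q with Q·Q = 0 and
K·Q = −2, an exceptional class (the class of a (−1)-curve) is a class E with E·E = −1 and K·E = −1,
and the Weyl group W_δ is the group of additive automorphisms of the lattice preserving the form and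
fixing K. For δ = 8, a class (a; b_1, …, b_8) is a conic class if and only if, up to a permutation
of b_1, …, b_8, it is one of the fifteen vectors (1; 1, 0, 0, 0, 0, 0, 0, 0), (2; 1, 1, 1, 1, 0, 0,
0, 0), (3; 2, 1, 1, 1, 1, 1, 0, 0), (4; 2, 2, 2, 1, 1, 1, 1, 0), (4; 3, 1, 1, 1, 1, 1, 1, 1), (5; 2,
2, 2, 2, 2, 2, 1, 0), (5; 3, 2, 2, 2, 1, 1, 1, 1), (6; 3, 3, 2, 2, 2, 2, 1, 1), (7; 3, 3, 3, 3, 2,
2, 2, 1), (7; 4, 3, 2, 2, 2, 2, 2, 2), (8; 4, 3, 3, 3, 3, 2, 2, 2), (8; 3, 3, 3, 3, 3, 3, 3, 1), (9;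
4, 4, 3, 3, 3, 3, 3, 2), (10; 4, 4, 4, 4, 3, 3, 3, 3), (11; 4, 4, 4, 4, 4, 4, 4, 3). (One line of
the published table is illegible in the available copy; the fifteen vectors here are the complete
solution set of the two defining equations a² = Σ b_i², 3a − Σ b_i = 2.) -/
theorem result (v : DP 8) :
    IsConic v ↔
      ∃ t ∈ ({![1, 1, 0, 0, 0, 0, 0, 0, 0],
        ![2, 1, 1, 1, 1, 0, 0, 0, 0],
        ![3, 2, 1, 1, 1, 1, 1, 0, 0],
        ![4, 2, 2, 2, 1, 1, 1, 1, 0],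
        ![4, 3, 1, 1, 1, 1, 1, 1, 1],
        ![5, 2, 2, 2, 2, 2, 2, 1, 0],
        ![5, 3, 2, 2, 2, 1, 1, 1, 1],
        ![6, 3, 3, 2, 2, 2, 2, 1, 1],
        ![7, 3, 3, 3, 3, 2, 2, 2, 1],
        ![7, 4, 3, 2, 2, 2, 2, 2, 2],
        ![8, 4, 3, 3, 3, 3, 2, 2, 2],
        ![8, 3, 3, 3, 3, 3, 3, 3, 1],
        ![9, 4, 4, 3, 3, 3, 3, 3, 2],
        ![10, 4, 4, 4, 4, 3, 3, 3, 3],
        ![11, 4, 4, 4, 4, 4, 4, 4, 3]} : Set (DP 8)),
        ∃ σ : Equiv.Perm (Fin 8), v 0 = t 0 ∧ ∀ i : Fin 8, v (σ i).succ = t i.succ := by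
  constructor
  · intro hv
    rw [isConic_iff] at hv
    obtain ⟨t, ht, h0, σ, hσ⟩ := classify (v 0) (fun i => v i.succ) hv.1 hv.2
    exact ⟨t, ht, σ, h0, hσ⟩
  · rintro ⟨t, ht, σ, h0, hσ⟩
    refine isConic_of_perm v t σ h0 hσ ?_
    simp only [Set.mem_insert_iff, Set.mem_singleton_iff] at ht
    rcases ht with rfl | rfl | rfl | rfl | rfl | rfl | rfl | rfl | rfl | rfl | rfl | rfl | rfl | rfl | rfl <;> (rw [isConic_iff]; decide)

end Groth.Agent.S15906
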