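import Groth.Statements.S15908
import Mathlib
import Groth.Agent.Lib.H79DPPairs

set_option autoImplicit false
open Surf

namespace Groth.Agent.S15908

open W4c3severiratdp Groth.Agent.Lib.H79DPWeyl Groth.Agent.Lib.H79DPConic Groth.Agent.Lib.H79DPPairs
  Groth.Agent.Lib.H79DPCls

/-- The reduced conic `(5; 1, 2, 2, 2, 2, 2, 2, 0)`. -/
def P2 : DP 8 := ![5, 1, 2, 2, 2, 2, 2, 2, 0]

/-- The reduced conic `(4; 0, 2, 2, 2, 1, 1, 1, 1)`. -/
def Q2 : DP 8 := ![4, 0, 2, 2, 2, 1, 1, 1, 1]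

lemma conicP2 : IsConic P2 := by
  unfold IsConic form canon P2
  simp [Fin.sum_univ_succ]

lemma conicQ2 : IsConic Q2 := by
  unfold IsConic form canon Q2
  simp [Fin.sum_univ_succ]

lemma cntP2 : cnt P2 0 = 1 ∧ cnt P2 1 = 0 ∧ cnt P2 2 = 6 ∧ cnt P2 3 = 0 ∧ cnt P2 4 = 0 := by
  unfold cnt P2
  decide

lemma cntQ2 : cnt Q2 0 = 0 ∧ cnt Q2 1 = 4 ∧ cnt Q2 2 = 3 ∧ cnt Q2 3 = 0 ∧ cnt Q2 4 = 0 := by
  unfold cnt Q2
  decide

open W4c3severiratdp in
/-- Work in the lattice of vectors (a; b_1, …, b_δ), standing for divisor classes a ℓ − Σ b_i e_i on the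
blow-up of the projective plane at δ points written in a standard basis, with intersection form a a'
− Σ b_i b_i' and canonical class K = (−3; −1, …, −1); a conic class is a class Q with Q·Q = 0 and
K·Q = −2, an exceptional class (the class of a (−1)-curve) is a class E with E·E = −1 and K·E = −1,
and the Weyl group W_δ is the group of additive automorphisms of the lattice preserving the form and
fixing K. For δ = 8 the ordered pairs (Q_1, Q_2) of conic classes with Q_1·Q_2 = 4 form exactly two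
W_8-orbits: there are two such pairs that no element of W_8 carries one to the other, and every such
pair is carried by an element of W_8 to one of these two. -/
theorem result :
    ∃ p₁ p₂ q₁ q₂ : DP 8, IsConic p₁ ∧ IsConic p₂ ∧ IsConic q₁ ∧ IsConic q₂ ∧ form p₁ p₂ = 4 ∧ form q₁ q₂ = 4 ∧
      (¬ ∃ g : DP 8 ≃ₗ[ℤ] DP 8, IsWeyl g ∧ g p₁ = q₁ ∧ g p₂ = q₂) ∧
      ∀ v₁ v₂ : DP 8, IsConic v₁ → IsConic v₂ → form v₁ v₂ = 4 →
        ∃ g : DP 8 ≃ₗ[ℤ] DP 8, IsWeyl g ∧ ((g v₁ = p₁ ∧ g v₂ = p₂) ∨ (g v₁ = q₁ ∧ g v₂ = q₂)) := by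
  refine ⟨Q0 7, P2, Q0 7, Q2, isConic_Q0, conicP2, isConic_Q0, conicQ2, ?_, ?_, ?_, ?_⟩
  · rw [form_Q0]; simp [P2]
  · rw [form_Q0]; simp [Q2]
  · rintro ⟨g, hg, h1, h2⟩
    have h3 : g (Q0 7 + P2) = Q0 7 + Q2 := by rw [map_add, h1, h2]
    have hU : Q0 7 + P2 = (2 : ℤ) • (![3, 1, 1, 1, 1, 1, 1, 1, 0] : DP 8) := by
      funext x
      unfold Q0 P2
      fin_cases x <;> simp [Pi.single_apply]
    rw [hU, map_smul] at h3
    have h4 := congrFun h3 0
    simp only [Pi.smul_apply, Pi.add_apply, smul_eq_mul, Q0_zero] at h4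
    have h5 : Q2 0 = 4 := by simp [Q2]
    rw [h5] at h4
    omega
  · intro v₁ v₂ hv₁ hv₂ hf
    obtain ⟨g, hg, hg1, hred, hm⟩ := exists_to_Q0_reduced (d := 7) (by norm_num) v₁ v₂ hv₁ hv₂
    have cg : IsConic (g v₂) := isConic_weyl g hg v₂ hv₂
    have S := sol_of_reduced (d := 7) (by norm_num) (g v₂) cg hred
    rw [hm, hf] at S
    have hcard := S.hcard
    have hb := S.hb
    obtain ⟨p0, p1, p2, p3, p4⟩ := cntP2
    obtain ⟨q0, q1, q2, q3, q4⟩ := cntQ2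
    rcases cls4 le_rfl S with ⟨ha, h1, h2, h3, h4⟩ | ⟨-, ha, h1, h2, h3, h4⟩
    · obtain ⟨k, hk, hkQ, hkr⟩ := perm_of_counts_eq (d := 7) (by norm_num) (g v₂) P2 cg conicP2
        (by rw [ha]; simp [P2]) (by rw [hb, ha]; simp [P2])
        (by rw [p0]; omega) (by rw [p1, h1]) (by rw [p2, h2]) (by rw [p3, h3]) (by rw [p4, h4])
      refine ⟨g.trans k, IsWeyl.trans hg hk, Or.inl ⟨?_, ?_⟩⟩
      · rw [LinearEquiv.trans_apply, hg1, hkQ]
      · rw [LinearEquiv.trans_apply, hkr]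
    · obtain ⟨k, hk, hkQ, hkr⟩ := perm_of_counts_eq (d := 7) (by norm_num) (g v₂) Q2 cg conicQ2
        (by rw [ha]; simp [Q2]) (by rw [hb, ha]; simp [Q2])
        (by rw [q0]; omega) (by rw [q1, h1]) (by rw [q2, h2]) (by rw [q3, h3]) (by rw [q4, h4])
      refine ⟨g.trans k, IsWeyl.trans hg hk, Or.inr ⟨?_, ?_⟩⟩
      · rw [LinearEquiv.trans_apply, hg1, hkQ]
      · rw [LinearEquiv.trans_apply, hkr]

end Groth.Agent.S15908
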