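import Groth.Statements.S15910
import Mathlib
import Groth.Agent.Lib.H79DPPair2

set_option autoImplicit false
open Surf

namespace Groth.Agent.S15910

open W4c3severiratdp Groth.Agent.Lib.H67DPWeyl Groth.Agent.S15909 Groth.Agent.Lib.H79DPPair2

/-- The class `e_1 - 2K = (6; 1, 2, …, 2)`. -/
def D0 : DP 8 := ![6, 1, 2, 2, 2, 2, 2, 2, 2]

lemma eI1_eq : eI 1 = ![0, -1, 0, 0, 0, 0, 0, 0, 0] := by
  funext j
  fin_cases j <;> rfl

lemma eI2_eq : eI 2 = ![0, 0, -1, 0, 0, 0, 0, 0, 0] := by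
  funext j
  fin_cases j <;> rfl

lemma D0_eq : eI 1 - 2 • canon 8 = D0 := by
  rw [canon8, eI1_eq]
  funext j
  fin_cases j <;> simp [D0]

/-- The four standard triples for `L = e_1`. -/
def std : Fin 4 → Fin 3 → DP 8 :=
  ![![eI 1, eI 1, ![6, 3, 2, 2, 2, 2, 2, 2, 2]],
    ![eI 1, eI 2, ![6, 2, 3, 2, 2, 2, 2, 2, 2]],
    ![eI 1, R1, ![5, 1, 2, 2, 2, 2, 2, 2, 1]],
    ![eI 2, R2v, ![5, 1, 2, 2, 2, 2, 2, 2, 1]]]

lemma isExc_vec (v : DP 8)
    (h1 : v 0 ^ 2 - (v 1 ^ 2 + v 2 ^ 2 + v 3 ^ 2 + v 4 ^ 2 + v 5 ^ 2 + v 6 ^ 2 + v 7 ^ 2 + v 8 ^ 2)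
      = -1)
    (h2 : v 1 + v 2 + v 3 + v 4 + v 5 + v 6 + v 7 + v 8 = 3 * v 0 - 1) : IsExc v :=
  (isExc_iff v).mpr ⟨h1, h2⟩

lemma isExc_R1 : IsExc R1 := isExc_vec _ (by simp [R1]) (by simp [R1])

lemma isExc_R2v : IsExc R2v := isExc_vec _ (by simp [R2v]) (by simp [R2v])

lemma std_exc (j : Fin 4) (i : Fin 3) : IsExc (std j i) := by
  fin_cases j <;> fin_cases i
  · exact isExc_eI 1 (by decide)
  · exact isExc_eI 1 (by decide)
  · exact isExc_vec _ (by simp [std]) (by simp [std])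
  · exact isExc_eI 1 (by decide)
  · exact isExc_eI 2 (by decide)
  · exact isExc_vec _ (by simp [std]) (by simp [std])
  · exact isExc_eI 1 (by decide)
  · exact isExc_R1
  · exact isExc_vec _ (by simp [std]) (by simp [std])
  · exact isExc_eI 2 (by decide)
  · exact isExc_R2v
  · exact isExc_vec _ (by simp [std]) (by simp [std])

lemma std_third (j : Fin 4) : std j 2 = D0 - std j 0 - std j 1 := by
  fin_cases j <;>
  · funext x
    fin_cases x <;> simp [std, D0, eI1_eq, eI2_eq, R1, R2v]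

lemma std_sum (j : Fin 4) : std j 0 + std j 1 + std j 2 = eI 1 - 2 • canon 8 := by
  rw [D0_eq, std_third]; abel

/-- The coordinate `b_1` is invariant under the stabilizer of `e_1`. -/
lemma coord1 (g : DP 8 ≃ₗ[ℤ] DP 8) (hg : IsWeyl g) (hgL : g (eI 1) = eI 1) (x : DP 8) :
    g x 1 = x 1 := by
  have h := hg.1 x (eI 1)
  rw [hgL, form_eI _ _ (by decide), form_eI _ _ (by decide)] at h
  exact h

/-- The invariant `∑ (λ_i·L)²` of a triple. -/
def inv (t : Fin 3 → DP 8) : ℤ := ∑ i, (t i 1) ^ 2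

lemma inv_std (j : Fin 4) : inv (std j) = (![11, 5, 3, 1] : Fin 4 → ℤ) j := by
  unfold inv
  rw [Fin.sum_univ_three]
  fin_cases j <;> simp [std, eI1_eq, eI2_eq, R1, R2v]

lemma vals_inj : ∀ j j' : Fin 4,
    (![11, 5, 3, 1] : Fin 4 → ℤ) j' = (![11, 5, 3, 1] : Fin 4 → ℤ) j → j = j' := by
  decide

lemma std_distinct (j j' : Fin 4)
    (h : ∃ g : DP 8 ≃ₗ[ℤ] DP 8, IsWeyl g ∧ g (eI 1) = eI 1 ∧
      ∃ σ : Equiv.Perm (Fin 3), ∀ i, g (std j (σ i)) = std j' i) : j = j' := by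
  obtain ⟨g, hg, hgL, σ, hσ⟩ := h
  have h1 : inv (std j') = inv (std j) := by
    unfold inv
    rw [← Equiv.sum_comp σ (fun i => (std j i 1) ^ 2)]
    refine Finset.sum_congr rfl (fun i _ => ?_)
    rw [← hσ i, coord1 g hg hgL]
  rw [inv_std, inv_std] at h1
  exact vals_inj j j' h1

lemma form_D0 (x : DP 8) : form D0 x = x 1 - 2 * form (canon 8) x := by
  rw [form8, form8, canon8]
  simp [D0]
  ring

lemma D0_one : D0 1 = 1 := by simp [D0]

lemma form_canon_D0 : form (canon 8) D0 = -3 := by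
  rw [form8, canon8]; simp [D0]

lemma weyl_D0 (g : DP 8 ≃ₗ[ℤ] DP 8) (hg : IsWeyl g) (hgL : g (eI 1) = eI 1) : g D0 = D0 := by
  rw [← D0_eq, map_sub, map_nsmul, hg.2, hgL]

theorem std_cover (t : Fin 3 → DP 8) (ht : ∀ i, IsExc (t i))
    (hsum : t 0 + t 1 + t 2 = eI 1 - 2 • canon 8) :
    ∃ j, ∃ g : DP 8 ≃ₗ[ℤ] DP 8, IsWeyl g ∧ g (eI 1) = eI 1 ∧
      ∃ σ : Equiv.Perm (Fin 3), ∀ i, g (t (σ i)) = std j i := by
  obtain ⟨τ, hτ⟩ : ∃ τ : Equiv.Perm (Fin 3), Monotone (fun i => t (τ i) 1) :=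
    ⟨Tuple.sort (fun i => t i 1), Tuple.monotone_sort (fun i => t i 1)⟩
  have h01 : t (τ 0) 1 ≤ t (τ 1) 1 := hτ (by decide)
  have h12 : t (τ 1) 1 ≤ t (τ 2) 1 := hτ (by decide)
  have hsum' : t (τ 0) + t (τ 1) + t (τ 2) = D0 := by
    have := Equiv.sum_comp τ t
    rw [Fin.sum_univ_three, Fin.sum_univ_three] at this
    rw [this, hsum, D0_eq]
  have hb : ∀ i, -1 ≤ t i 1 ∧ t i 1 ≤ 3 ∧ (t i 1 = -1 → t i = eI 1) := by
    intro i
    obtain ⟨h1, h2⟩ := exc_coord (ht i) 1 (by decide)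
    have h3 := (exc_pair (ht i) (isExc_eI 1 (by decide))).2.1
    rw [form_eI _ _ (by decide)] at h3
    exact ⟨h1, h3, h2⟩
  have hs1 : t (τ 0) 1 + t (τ 1) 1 + t (τ 2) 1 = 1 := by
    have := congrFun hsum' 1
    simpa [D0] using this
  have e2 : t (τ 2) = D0 - t (τ 0) - t (τ 1) := by rw [← hsum']; abel
  -- common finishing step
  have fin : ∀ (j : Fin 4) (g : DP 8 ≃ₗ[ℤ] DP 8), IsWeyl g → g (eI 1) = eI 1 →
      g (t (τ 0)) = std j 0 → g (t (τ 1)) = std j 1 →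
      ∃ j, ∃ g : DP 8 ≃ₗ[ℤ] DP 8, IsWeyl g ∧ g (eI 1) = eI 1 ∧
        ∃ σ : Equiv.Perm (Fin 3), ∀ i, g (t (σ i)) = std j i := by
    intro j g hg hgL h0 h1
    refine ⟨j, g, hg, hgL, τ, fun i => ?_⟩
    fin_cases i
    · exact h0
    · exact h1
    · show g (t (τ 2)) = std j 2
      rw [e2, map_sub, map_sub, weyl_D0 g hg hgL, h0, h1, std_third]
  obtain ⟨l0, u0, z0⟩ := hb (τ 0)
  obtain ⟨l1, u1, z1⟩ := hb (τ 1)
  obtain ⟨l2, u2, z2⟩ := hb (τ 2)
  have hc : (t (τ 0) 1 = -1 ∧ t (τ 1) 1 = -1) ∨ (t (τ 0) 1 = -1 ∧ t (τ 1) 1 = 0) ∨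
      (t (τ 0) 1 = -1 ∧ t (τ 1) 1 = 1) ∨ (t (τ 0) 1 = 0 ∧ t (τ 1) 1 = 0) := by omega
  have hE1 := isExc_eI 1 (by decide)
  have hE2 := isExc_eI 2 (by decide)
  rcases hc with ⟨m0, m1⟩ | ⟨m0, m1⟩ | ⟨m0, m1⟩ | ⟨m0, m1⟩
  · exact fin 0 (LinearEquiv.refl ℤ _) isWeyl_refl rfl (z0 m0) (z1 m1)
  · obtain ⟨g, hg, hgL, hg1⟩ := Groth.Agent.S15909.result (eI 1) (t (τ 1)) (eI 2) hE1 (ht _) hE2
      (by rw [form_eI _ _ (by decide), form_eI _ _ (by decide), m1]; simp [eI])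
    exact fin 1 g hg hgL (by rw [z0 m0, hgL]; rfl) hg1
  · obtain ⟨g, hg, hgL, hg1⟩ := Groth.Agent.S15909.result (eI 1) (t (τ 1)) R1 hE1 (ht _) isExc_R1
      (by rw [form_eI _ _ (by decide), form_eI _ _ (by decide), m1]; simp [R1])
    exact fin 2 g hg hgL (by rw [z0 m0, hgL]; rfl) hg1
  · have hf : form (t (τ 0)) (t (τ 1)) = 1 := by
      have h := (ht (τ 2)).1
      rw [e2] at h
      simp only [form_sub_left, form_sub_right, form_D0, D0_one, form_canon_D0,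
        form_comm (t (τ 0)) D0, form_comm (t (τ 1)) D0, (ht (τ 0)).1, (ht (τ 1)).1,
        (ht (τ 0)).2, (ht (τ 1)).2, m0, m1, form_comm (t (τ 1)) (t (τ 0))] at h
      linarith
    obtain ⟨g1, hg1, hg1L, hg10⟩ := Groth.Agent.S15909.result (eI 1) (t (τ 0)) (eI 2) hE1 (ht _)
      hE2 (by rw [form_eI _ _ (by decide), form_eI _ _ (by decide), m0]; simp [eI])
    have hμ : IsExc (g1 (t (τ 1))) := IsWeyl.isExc hg1 (ht _)
    have hμ1 : g1 (t (τ 1)) 1 = 0 := by rw [coord1 g1 hg1 hg1L, m1]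
    have hμ2 : g1 (t (τ 1)) 2 = 1 := by
      rw [← form_eI (g1 (t (τ 1))) 2 (by decide), ← hg10, hg1.1, form_comm, hf]
    obtain ⟨g2, hg2, hg2a, hg2b, hg2μ⟩ := pair_std _ hμ hμ1 hμ2
    refine fin 3 (g1.trans g2) (IsWeyl.trans hg1 hg2) ?_ ?_ ?_
    · rw [LinearEquiv.trans_apply, hg1L, hg2a]
    · rw [LinearEquiv.trans_apply, hg10, hg2b]; rfl
    · rw [LinearEquiv.trans_apply, hg2μ]; rfl

open W4c3severiratdp in
/-- Work in the lattice of vectors (a; b_1, …, b_δ), standing for divisor classes a ℓ − Σ b_i e_i on the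
blow-up of the projective plane at δ points written in a standard basis, with intersection form a a'
− Σ b_i b_i' and canonical class K = (−3; −1, …, −1); a conic class is a class Q with Q·Q = 0 and
K·Q = −2, an exceptional class (the class of a (−1)-curve) is a class E with E·E = −1 and K·E = −1,
and the Weyl group W_δ is the group of additive automorphisms of the lattice preserving the form and
fixing K. Let δ = 8 and let L be an exceptional class. Let B be the set of unordered triples {λ_1,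
λ_2, λ_3} of exceptional classes (repetitions allowed) with λ_1 + λ_2 + λ_3 = −2K + L. Then the
stabilizer of L in W_8 has exactly four orbits on B. Triples are written as maps Fin 3 → lattice and
compared up to reordering: there are four members of B, no two of which are identified by an element
of the stabilizer followed by a reordering, and every member of B is so identified with one of the
four. -/
theorem result (L : DP 8) (hL : IsExc L) :
    ∃ r : Fin 4 → (Fin 3 → DP 8),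
      (∀ j, (∀ i, IsExc (r j i)) ∧ r j 0 + r j 1 + r j 2 = L - 2 • canon 8) ∧
      (∀ j j', (∃ g : DP 8 ≃ₗ[ℤ] DP 8, IsWeyl g ∧ g L = L ∧ ∃ σ : Equiv.Perm (Fin 3), ∀ i, g (r j (σ i)) = r j' i) → j = j') ∧
      ∀ t : Fin 3 → DP 8, (∀ i, IsExc (t i)) → t 0 + t 1 + t 2 = L - 2 • canon 8 →
        ∃ j, ∃ g : DP 8 ≃ₗ[ℤ] DP 8, IsWeyl g ∧ g L = L ∧ ∃ σ : Equiv.Perm (Fin 3), ∀ i, g (t (σ i)) = r j i := by
  obtain ⟨g₀, hg₀, hg₀L⟩ := descent0 _ L hL rfl
  have hsL : g₀.symm (eI 1) = L := (LinearEquiv.symm_apply_eq g₀).mpr hg₀L.symm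
  have hs₀ : IsWeyl g₀.symm := IsWeyl.symm hg₀
  refine ⟨fun j i => g₀.symm (std j i), ?_, ?_, ?_⟩
  · intro j
    refine ⟨fun i => IsWeyl.isExc hs₀ (std_exc j i), ?_⟩
    rw [← map_add, ← map_add, std_sum, map_sub, map_nsmul, hs₀.2, hsL]
  · rintro j j' ⟨g, hg, hgL, σ, hσ⟩
    apply std_distinct j j'
    refine ⟨(g₀.symm.trans g).trans g₀, IsWeyl.trans (IsWeyl.trans hs₀ hg) hg₀, ?_, σ,
      fun i => ?_⟩
    · simp only [LinearEquiv.trans_apply]
      rw [hsL, hgL, hg₀L]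
    · simp only [LinearEquiv.trans_apply]
      rw [hσ i, LinearEquiv.apply_symm_apply]
  · intro t ht hsum
    obtain ⟨j, g', hg', hg'L, σ, hσ⟩ := std_cover (fun i => g₀ (t i))
      (fun i => IsWeyl.isExc hg₀ (ht i))
      (by
        show g₀ (t 0) + g₀ (t 1) + g₀ (t 2) = _
        rw [← map_add, ← map_add, hsum, map_sub, map_nsmul, hg₀.2, hg₀L])
    refine ⟨j, (g₀.trans g').trans g₀.symm, IsWeyl.trans (IsWeyl.trans hg₀ hg') hs₀, ?_, σ,
      fun i => ?_⟩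
    · simp only [LinearEquiv.trans_apply]
      rw [hg₀L, hg'L, hsL]
    · simp only [LinearEquiv.trans_apply]
      rw [hσ i]

end Groth.Agent.S15910
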