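import Groth.Statements.S15922
import Groth.Agent.S0002
import Groth.Agent.Lib.TwistH0_48

set_option autoImplicit false
universe u
open CategoryTheory CategoryTheory.Limits AlgebraicGeometry
open Curves

namespace Groth.Agent.S15922

/-- Let k be an algebraically closed field, X a curve over k (proper over k, reduced, connected, every
irreducible component of dimension one) and P a closed point of X, with m_P the ideal sheaf of the
reduced point P viewed as an O_X-module. Then m_P is a torsion-free sheaf of rank one and degree -1:
regular elements of each local ring O_{X,x} act injectively on the stalk of m_P at x, the stalk at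
every generic point of an irreducible component has dimension one over the local ring there, and
χ(X, m_P) - χ(X, O_X) = -1. -/
theorem result (k : Type u) [Field k] [IsAlgClosed k] (X : Scheme.{u}) [X.Over (Spec (CommRingCat.of k))] [IsProper (X ↘ (Spec (CommRingCat.of k)))] [IsReduced X] [ConnectedSpace X]
    (hequi : ∀ Z ∈ irreducibleComponents (X : Type u), topologicalKrullDim Z = 1)
    (P : X) (hP : IsClosed ({P} : Set X)) :
    TorSh.IsTorsionFree (ClSub.idealMod (Scheme.IdealSheafData.vanishingIdeal ⟨{P}, hP⟩)) ∧
    (∀ η : X, closure ({η} : Set X) ∈ irreducibleComponents (X : Type u) →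
      Module.finrank (X.presheaf.stalk η) ((ClSub.idealMod (Scheme.IdealSheafData.vanishingIdeal ⟨{P}, hP⟩)).presheaf.stalk η) = 1) ∧
    Curv2.deg k X (ClSub.idealMod (Scheme.IdealSheafData.vanishingIdeal ⟨{P}, hP⟩)) 1 = -1 := by
  classical
  open Groth.Agent.Lib.ModStalkLin Groth.Agent.Lib.FreeModStalk Groth.Agent.Lib.IdealMod in
  set I := Scheme.IdealSheafData.vanishingIdeal (⟨{P}, hP⟩ : TopologicalSpace.Closeds X) with hI
  have hS := idealMod_shortExact I
  have hsuppI : (I.support : Set X) = {P} := by
    rw [hI, Scheme.IdealSheafData.coe_support_vanishingIdeal]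
    rfl
  have hsub : CohB1.support (ClSub.quotMod I) ⊆ ({P} : Set X) := by
    rw [← hsuppI]
    exact Groth.Agent.Lib.CurveIdeal54.support_quotMod_subset X I
  have hZ : topologicalKrullDim (I.support : Set X) ≤ 0 := by
    rw [hsuppI]
    exact topologicalKrullDim_zero_of_discreteTopology _
  refine ⟨fun x => ?_, fun η hη => ?_, ?_⟩
  · -- torsion-free
    let f : (ClSub.idealMod I).presheaf.stalk x →ₗ[X.presheaf.stalk x] X.presheaf.stalk x :=
      (unitStalkEquiv x).symm.toLinearMap.comp (stalkLin (ClSub.idealModι I) x)
    have hf : Function.Injective f :=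
      (unitStalkEquiv x).symm.injective.comp (stalkLin_exact hS x).1
    exact Function.Injective.moduleIsTorsionFree f hf (fun r m => map_smul f r m)
  · -- rank one at the generic points
    have hηP : η ≠ P := by
      intro h
      have h1 := hequi _ hη
      rw [h, hP.closure_eq] at h1
      have h2 : topologicalKrullDim (({P} : Set X)) ≤ 0 :=
        topologicalKrullDim_zero_of_discreteTopology _
      rw [h1] at h2
      exact absurd h2 (not_le.mpr zero_lt_one)
    have hxs : η ∉ CohB1.support (ClSub.quotMod I) := fun h => hηP (hsub h)
    have hss : Subsingleton ((ClSub.quotMod I).presheaf.stalk η) := not_not.mp hxs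
    obtain ⟨hinj, hex, -⟩ := stalkLin_exact hS η
    have hsurj : Function.Surjective (stalkLin (ClSub.idealModι I) η) := by
      intro y
      exact (hex y).mp (Subsingleton.elim _ _)
    have e : (ClSub.idealMod I).presheaf.stalk η ≃ₗ[X.presheaf.stalk η] X.presheaf.stalk η :=
      (LinearEquiv.ofBijective (stalkLin (ClSub.idealModι I) η) ⟨hinj, hsurj⟩).trans
        (unitStalkEquiv η).symm
    rw [e.finrank_eq]
    exact Module.finrank_self _
  · -- degree
    rw [Groth.Agent.Lib.CurveDeg48.deg_idealMod
      (fun A _ _ X _ _ M hM n => Groth.Agent.S0002.result A X M hM n) k X I hZ,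
      Groth.Agent.Lib.PointDeg.finrank_H0_quotMod_point k X P hP]
    rfl

end Groth.Agent.S15922
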