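import Groth.Statements.S15936
import Groth.Agent.Lib.TopDiffInv21
import Groth.Agent.Lib.InvDescend21

set_option autoImplicit false
universe u
open CategoryTheory CategoryTheory.Limits AlgebraicGeometry
open Canon

namespace Groth.Agent.S15936

/-- Let S be a locally Noetherian scheme and f : X ⟶ S a locally projective morphism, smooth of relative
dimension n, whose fibres are non-empty and geometrically connected; let ω be an n-th exterior power
of the sheaf of relative differentials of f (the relative canonical sheaf K_{X/S}) and let m ≥ 1 be
an integer such that the evaluation map f^* f_* K^{⊗m} ⟶ K^{⊗m}, the counit of the adjunction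
between pullback and pushforward of modules, is an isomorphism. Then the direct image f_* K^{⊗m} is
an invertible O_S-module: finite locally free of rank one. (The published statement has f projective
and smooth, of possibly varying relative dimension, and also asserts that the formation of f_*
K^{⊗m} commutes with base change; this row takes f locally projective of constant relative dimension
n and states the invertibility only.) -/
theorem result
    {X S : Scheme.{u}} [IsLocallyNoetherian S] (f : X ⟶ S)
    (hproj : RedSub.IsLocallyProjective (Over.mk f))
    (n : ℕ) [SmoothOfRelativeDimension n f] [GeometricallyConnected f]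
    (ω : X.Modules) (hω : Canon.IsTopDiff f n ω) (m : ℕ) (hm : 1 ≤ m)
    (hev : IsIso ((Scheme.Modules.pullbackPushforwardAdjunction f).counit.app (CohB1.tensorPow ω m))) :
    FlatMod.IsFinLocFreeOfRank 1 ((Scheme.Modules.pushforward f).obj (CohB1.tensorPow ω m)) := by
  have hprop : IsProper f := Groth.Agent.Lib.TopDiffInv21.isProper_of_isLocallyProjective f hproj
  have : Smooth f := SmoothOfRelativeDimension.smooth n f
  have hω' : PicF.IsInvertible ω := Groth.Agent.Lib.TopDiffInv21.isInvertible_of_isTopDiff n f hω
  have hL := Groth.Agent.Lib.H78TensorGen.isInvertible_tensorPow hω' m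
  have hcoh : Coh.IsCoh ((Scheme.Modules.pushforward f).obj (CohB1.tensorPow ω m)) :=
    Groth.Agent.Lib.InvDescend21.isCoh_pushforward_of_isProper f _
      (Groth.Agent.Lib.H90Invertible.isCoh_of_isInvertible hL)
  have hFP := Groth.Agent.Lib.CurveVB67.isFP_of_isCoh hcoh
  haveI : ((Scheme.Modules.pushforward f).obj (CohB1.tensorPow ω m)).IsQuasicoherent := hcoh.1
  exact Groth.Agent.Lib.InvDescend21.isFinLocFreeOfRank_one_of_pullback_iso f _ hFP _ hL
    (asIso ((Scheme.Modules.pullbackPushforwardAdjunction f).counit.app (CohB1.tensorPow ω m)))

end Groth.Agent.S15936
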