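import Groth.Statements.S15938
import Groth.Agent.Lib.TopDiffInv21
import Groth.Agent.Lib.InvDescend21
import Groth.Agent.Lib.SteinLocal21
import Groth.Agent.Lib.H90InvertiblePullback

set_option autoImplicit false
universe u
open CategoryTheory CategoryTheory.Limits AlgebraicGeometry
open Canon

namespace Groth.Agent.S15938

/-- Let S be a locally Noetherian scheme, f : X ⟶ S locally projective and smooth of relative dimension
n with non-empty geometrically connected fibres, ω an n-th exterior power of the relative
differentials (the relative canonical sheaf K_{X/S}), and m ≥ 1 such that the evaluation map f^* f_*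
K^{⊗m} ⟶ K^{⊗m} is an isomorphism. Then the formation of f_* K^{⊗m} commutes with base change: for
every morphism g : S′ ⟶ S with S′ locally Noetherian, writing f′ : X ×_S S′ ⟶ S′ and g′ : X ×_S S′ ⟶
X for the projections, the base-change morphism g^* f_* K^{⊗m} ⟶ f′_* g′^* K^{⊗m} (adjoint to g′^*
of the evaluation map, through the canonical identifications of iterated pullbacks) is an
isomorphism. (The published statement has f projective and smooth, of possibly varying relative
dimension; this row takes f locally projective of constant relative dimension n and base changes by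
locally Noetherian schemes.) -/
theorem result
    {X S : Scheme.{u}} [IsLocallyNoetherian S] (f : X ⟶ S)
    (hproj : RedSub.IsLocallyProjective (Over.mk f))
    (n : ℕ) [SmoothOfRelativeDimension n f] [GeometricallyConnected f]
    (ω : X.Modules) (hω : Canon.IsTopDiff f n ω) (m : ℕ) (hm : 1 ≤ m)
    (hev : IsIso ((Scheme.Modules.pullbackPushforwardAdjunction f).counit.app (CohB1.tensorPow ω m)))
    {S' : Scheme.{u}} [IsLocallyNoetherian S'] (g : S' ⟶ S) :
    IsIso (((Scheme.Modules.pullbackPushforwardAdjunction (pullback.snd f g)).homEquiv _ _)
      ((Scheme.Modules.pullbackComp (pullback.snd f g) g).hom.app _ ≫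
        (Scheme.Modules.pullbackCongr (pullback.condition (f := f) (g := g))).inv.app _ ≫
        (Scheme.Modules.pullbackComp (pullback.fst f g) f).inv.app _ ≫
        (Scheme.Modules.pullback (pullback.fst f g)).map
          ((Scheme.Modules.pullbackPushforwardAdjunction f).counit.app (CohB1.tensorPow ω m)))) := by
  have hprop : IsProper f := Groth.Agent.Lib.TopDiffInv21.isProper_of_isLocallyProjective f hproj
  have : Smooth f := SmoothOfRelativeDimension.smooth n f
  have : GeometricallyReduced f := Groth.Agent.Lib.TopDiffInv21.geometricallyReduced_of_smooth f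
  have hω' : PicF.IsInvertible ω := Groth.Agent.Lib.TopDiffInv21.isInvertible_of_isTopDiff n f hω
  have hL := Groth.Agent.Lib.H78TensorGen.isInvertible_tensorPow hω' m
  -- `f_* K^m` is invertible
  have hcoh : Coh.IsCoh ((Scheme.Modules.pushforward f).obj (CohB1.tensorPow ω m)) :=
    Groth.Agent.Lib.InvDescend21.isCoh_pushforward_of_isProper f _
      (Groth.Agent.Lib.H90Invertible.isCoh_of_isInvertible hL)
  have hFP := Groth.Agent.Lib.CurveVB67.isFP_of_isCoh hcoh
  have hqc : ((Scheme.Modules.pushforward f).obj (CohB1.tensorPow ω m)).IsQuasicoherent := hcoh.1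
  have hM1 : FlatMod.IsFinLocFreeOfRank 1
      ((Scheme.Modules.pushforward f).obj (CohB1.tensorPow ω m)) :=
    Groth.Agent.Lib.InvDescend21.isFinLocFreeOfRank_one_of_pullback_iso f _ hFP _ hL
      (asIso ((Scheme.Modules.pullbackPushforwardAdjunction f).counit.app (CohB1.tensorPow ω m)))
  have hMinv := (Groth.Agent.Lib.H90Invertible.isInvertible_iff_isFinLocFreeOfRank_one _).mpr hM1
  have hPinv := Groth.Agent.Lib.H90Invertible.isInvertible_pullback g hMinv
  have hP : FlatMod.IsFinLocFree ((Scheme.Modules.pullback g).obj
      ((Scheme.Modules.pushforward f).obj (CohB1.tensorPow ω m))) :=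
    Groth.Agent.Lib.CurveVB67.isFinLocFree_of_rank
      ((Groth.Agent.Lib.H90Invertible.isInvertible_iff_isFinLocFreeOfRank_one _).mp hPinv)
  -- the unit at `g^* f_* K^m` for the base change `f'` is an isomorphism
  have hunit := Groth.Agent.Lib.SteinLocal21.isIso_unit_of_isFinLocFree_local (pullback.snd f g)
    (fun y' => Groth.Agent.Lib.SteinLocal21.exists_nhd_bijective_app (pullback.snd f g) y') hP
  rw [Adjunction.homEquiv_unit]
  infer_instance

end Groth.Agent.S15938
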