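import Groth.Statements.S15939
import Mathlib
-- import your own Groth.Agent.* helpers here

set_option autoImplicit false
universe u
open CAlg

namespace Groth.Agent.S15939

open Polynomial

theorem field_case (κ F : Type u) [Field κ] [Field F] [Algebra κ F] [FiniteDimensional κ F]
    (h : ∀ S : Subalgebra κ F, S = ⊥ ∨ S = ⊤) (hne : (⊥ : Subalgebra κ F) ≠ ⊤) :
    Algebra.IsSeparable κ F ∨ ∃ (p : ℕ) (a : κ), p.Prime ∧ CharP κ p ∧ (∀ b : κ, b ^ p ≠ a) ∧
      Nonempty (F ≃ₐ[κ] AdjoinRoot (X ^ p - C a)) := by
  by_cases hsep : Algebra.IsSeparable κ F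
  · exact Or.inl hsep
  right
  obtain ⟨p, hp⟩ := CharP.exists κ
  have hpprime : p.Prime := by
    rcases CharP.char_is_prime_or_zero κ p with h1 | h1
    · exact h1
    · exfalso
      subst h1
      have : CharZero κ := CharP.charP_to_charZero κ
      exact hsep (Algebra.IsAlgebraic.isSeparable_of_perfectField)
  have : Fact p.Prime := ⟨hpprime⟩
  have hexp : ExpChar κ p := ExpChar.prime hpprime
  have hpF : CharP F p := charP_of_injective_algebraMap (algebraMap κ F).injective p
  have hpi : IsPurelyInseparable κ F := by
    rw [← separableClosure.eq_bot_iff]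
    rcases h (separableClosure κ F).toSubalgebra with hb | ht
    · apply IntermediateField.toSubalgebra_injective
      rw [hb, IntermediateField.bot_toSubalgebra]
    · exfalso
      apply hsep
      rw [← separableClosure.eq_top_iff]
      apply IntermediateField.toSubalgebra_injective
      rw [ht, IntermediateField.top_toSubalgebra]
  obtain ⟨x, hx⟩ : ∃ x : F, x ∉ (⊥ : Subalgebra κ F) := by
    by_contra hcon
    push Not at hcon
    exact hne (le_antisymm bot_le fun x _ => hcon x)
  have hex := IsPurelyInseparable.pow_mem κ p x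
  classical
  set n := Nat.find hex with hn
  have hn0 : n ≠ 0 := by
    intro h0
    have := Nat.find_spec hex
    rw [← hn, h0, pow_zero, pow_one] at this
    exact hx (Algebra.mem_bot.mpr this)
  obtain ⟨n', hn'⟩ := Nat.exists_eq_succ_of_ne_zero hn0
  set b := x ^ p ^ n' with hb
  have hbnot : b ∉ (algebraMap κ F).range := Nat.find_min hex (by omega : n' < n)
  have hbp : b ^ p ∈ (algebraMap κ F).range := by
    have := Nat.find_spec hex
    rw [← hn, hn', pow_succ, pow_mul] at this
    exact this
  obtain ⟨c, hc⟩ := hbp
  have hcnp : ∀ d : κ, d ^ p ≠ c := by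
    intro d hd
    apply hbnot
    refine ⟨d, ?_⟩
    have : (b - algebraMap κ F d) ^ p = 0 := by
      rw [sub_pow_char, ← map_pow, hd, hc, sub_self]
    exact (sub_eq_zero.mp (pow_eq_zero_iff hpprime.ne_zero |>.mp this)).symm
  refine ⟨p, c, hpprime, hp, hcnp, ?_⟩
  have hirr : Irreducible (X ^ p - C c : κ[X]) := X_pow_sub_C_irreducible_of_prime hpprime hcnp
  have : Fact (Irreducible (X ^ p - C c : κ[X])) := ⟨hirr⟩
  let φ : AdjoinRoot (X ^ p - C c : κ[X]) →ₐ[κ] F :=
    AdjoinRoot.liftAlgHom (X ^ p - C c : κ[X]) (Algebra.ofId κ F) b (by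
      rw [eval₂_sub, eval₂_X_pow, eval₂_C]
      show b ^ p - algebraMap κ F c = 0
      rw [hc, sub_self])
  have hφroot : φ (AdjoinRoot.root _) = b := AdjoinRoot.liftAlgHom_root _ _ _ _
  have hinj : Function.Injective φ := (φ.toRingHom).injective
  have hsurj : Function.Surjective φ := by
    rw [← AlgHom.range_eq_top]
    rcases h φ.range with hb' | ht
    · exfalso
      apply hbnot
      have : b ∈ φ.range := ⟨_, hφroot⟩
      rw [hb'] at this
      exact Algebra.mem_bot.mp this
    · exact ht
  exact ⟨(AlgEquiv.ofBijective φ ⟨hinj, hsurj⟩).symm⟩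

open Polynomial in
/-- Let κ be a field and A a commutative κ-algebra whose only κ-subalgebras are the image of κ and A
itself, these two being different. Then A is finite-dimensional over κ, and A is isomorphic as a
κ-algebra to the dual numbers over κ, or to κ × κ, or A is a field which is either separable over κ
or isomorphic to κ[X]/(X^p - a) with p the (positive) characteristic of κ and a an element of κ that
is not a p-th power. (The published statement also records that these four cases exclude one
another; that part is not restated.) -/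
theorem result (κ A : Type u) [Field κ] [CommRing A] [Algebra κ A]
    (h : IsSimpleOrder (Subalgebra κ A)) :
    FiniteDimensional κ A ∧
    (Nonempty (A ≃ₐ[κ] DualNumber κ) ∨ Nonempty (A ≃ₐ[κ] (κ × κ)) ∨
      (IsField A ∧ (Algebra.IsSeparable κ A ∨
        ∃ (p : ℕ) (a : κ), p.Prime ∧ CharP κ p ∧ (∀ b : κ, b ^ p ≠ a) ∧
          Nonempty (A ≃ₐ[κ] AdjoinRoot (X ^ p - C a))))) := by
  have hbt : ∀ S : Subalgebra κ A, S = ⊥ ∨ S = ⊤ := fun S => eq_bot_or_eq_top S
  have hne : (⊥ : Subalgebra κ A) ≠ ⊤ := bot_ne_top
  have hnontriv : Nontrivial A := by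
    by_contra hcon
    rw [not_nontrivial_iff_subsingleton] at hcon
    apply hne
    refine le_antisymm bot_le fun x _ => ?_
    exact Algebra.mem_bot.mpr ⟨1, Subsingleton.elim _ _⟩
  have hrange : ∀ (B : Type u) [CommRing B] [Algebra κ B] (φ : B →ₐ[κ] A) (x : B),
      φ x ∉ (⊥ : Subalgebra κ A) → Function.Surjective φ := by
    intro B _ _ φ x hx
    rw [← AlgHom.range_eq_top]
    rcases hbt φ.range with hb | ht
    · exfalso
      apply hx
      rw [← hb]
      exact ⟨x, rfl⟩
    · exact ht
  have hadj : ∀ x : A, x ∉ (⊥ : Subalgebra κ A) → Algebra.adjoin κ {x} = ⊤ := by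
    intro x hx
    rcases hbt (Algebra.adjoin κ {x}) with hb | ht
    · exfalso
      apply hx
      rw [← hb]
      exact Algebra.self_mem_adjoin_singleton κ x
    · exact ht
  have hint : ∀ x : A, IsIntegral κ x := by
    intro x
    by_cases hx : x ∈ (⊥ : Subalgebra κ A)
    · obtain ⟨c, rfl⟩ := Algebra.mem_bot.mp hx
      exact isIntegral_algebraMap
    by_cases hx2 : x ^ 2 ∈ (⊥ : Subalgebra κ A)
    · obtain ⟨c, hc⟩ := Algebra.mem_bot.mp hx2
      refine ⟨X ^ 2 - C c, monic_X_pow_sub_C c (by norm_num), ?_⟩
      rw [eval₂_sub, eval₂_X_pow, eval₂_C, hc, sub_self]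
    · have h2 := hadj (x ^ 2) hx2
      have hxmem : x ∈ Algebra.adjoin κ {x ^ 2} := by rw [h2]; trivial
      rw [Algebra.adjoin_singleton_eq_range_aeval] at hxmem
      obtain ⟨q, hq⟩ := hxmem
      apply IsAlgebraic.isIntegral
      refine ⟨expand κ 2 q - X, ?_, ?_⟩
      · intro h0
        have := congrArg (fun f => coeff f 1) h0
        simp [coeff_expand] at this
      · rw [map_sub, expand_aeval, aeval_X]
        exact sub_eq_zero.mpr hq
  obtain ⟨a, ha⟩ : ∃ a : A, a ∉ (⊥ : Subalgebra κ A) := by
    by_contra hcon
    push Not at hcon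
    exact hne (le_antisymm bot_le fun x _ => hcon x)
  have hfd : FiniteDimensional κ A := by
    have h1 : Module.Finite κ (Algebra.adjoin κ {a}) :=
      Algebra.finite_adjoin_simple_of_isIntegral (hint a)
    rw [hadj a ha] at h1
    exact Module.Finite.equiv (Subalgebra.topEquiv (R := κ) (A := A)).toLinearEquiv
  refine ⟨hfd, ?_⟩
  by_cases hnil : ∃ ν : A, ν ≠ 0 ∧ ν * ν = 0
  · left
    obtain ⟨ν, hν0, hν⟩ := hnil
    have hνbot : ν ∉ (⊥ : Subalgebra κ A) := by
      intro hmem
      obtain ⟨c, hc⟩ := Algebra.mem_bot.mp hmem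
      apply hν0
      rw [← hc, ← map_mul] at hν
      have : c * c = 0 := (algebraMap κ A).injective (by rw [hν, map_zero])
      rw [← hc, mul_self_eq_zero.mp this, map_zero]
    let φ : DualNumber κ →ₐ[κ] A :=
      DualNumber.lift ⟨(Algebra.ofId κ A, ν), hν, fun _ => Commute.all _ _⟩
    have hφ : ∀ z : DualNumber κ, φ z = algebraMap κ A z.fst + algebraMap κ A z.snd * ν :=
      fun z => DualNumber.lift_apply_apply _ z
    have hsurj : Function.Surjective φ := by
      apply hrange _ φ DualNumber.eps
      rw [hφ]
      simpa using hνbot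
    have hinj : Function.Injective φ := by
      rw [injective_iff_map_eq_zero]
      intro z hz
      rw [hφ] at hz
      have hsnd : z.snd = 0 := by
        by_contra hne'
        apply hνbot
        refine Algebra.mem_bot.mpr ⟨-(z.fst / z.snd), ?_⟩
        have h1 : algebraMap κ A z.snd * ν = - algebraMap κ A z.fst := by
          rw [eq_neg_iff_add_eq_zero, add_comm]; exact hz
        have h2 : algebraMap κ A (z.snd)⁻¹ * (algebraMap κ A z.snd * ν) = ν := by
          rw [← mul_assoc, ← map_mul, inv_mul_cancel₀ hne', map_one, one_mul]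
        rw [← h2, h1, map_neg, div_eq_mul_inv, map_mul]
        ring
      rw [hsnd, map_zero, zero_mul, add_zero] at hz
      have hfst : z.fst = 0 := (algebraMap κ A).injective (by rw [hz, map_zero])
      exact TrivSqZeroExt.ext hfst hsnd
    exact ⟨(AlgEquiv.ofBijective φ ⟨hinj, hsurj⟩).symm⟩
  right
  push Not at hnil
  by_cases hidem : ∃ e : A, e * e = e ∧ e ≠ 0 ∧ e ≠ 1
  · left
    obtain ⟨e, hee, he0, he1⟩ := hidem
    have hebot : e ∉ (⊥ : Subalgebra κ A) := by
      intro hmem
      obtain ⟨c, hc⟩ := Algebra.mem_bot.mp hmem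
      rw [← hc, ← map_mul] at hee
      have hcc : c * c = c := (algebraMap κ A).injective hee
      have : c = 0 ∨ c = 1 := by
        have : c * (c - 1) = 0 := by rw [mul_sub, hcc, mul_one, sub_self]
        rcases mul_eq_zero.mp this with h0 | h1
        · exact Or.inl h0
        · exact Or.inr (sub_eq_zero.mp h1)
      rcases this with h0 | h1
      · apply he0; rw [← hc, h0, map_zero]
      · apply he1; rw [← hc, h1, map_one]
    have he' : e * (1 - e) = 0 := by rw [mul_sub, hee, mul_one, sub_self]
    have he'' : (1 - e) * (1 - e) = 1 - e := by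
      rw [sub_mul, one_mul, he', sub_zero]
    let φ : (κ × κ) →ₐ[κ] A :=
      { toFun := fun z => algebraMap κ A z.1 * e + algebraMap κ A z.2 * (1 - e)
        map_one' := by simp
        map_mul' := by
          intro z w
          simp only [Prod.fst_mul, Prod.snd_mul, map_mul]
          have : (algebraMap κ A z.1 * e + algebraMap κ A z.2 * (1 - e)) *
              (algebraMap κ A w.1 * e + algebraMap κ A w.2 * (1 - e)) =
              algebraMap κ A z.1 * algebraMap κ A w.1 * (e * e) +
              algebraMap κ A z.2 * algebraMap κ A w.2 * ((1 - e) * (1 - e)) +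
              (algebraMap κ A z.1 * algebraMap κ A w.2 + algebraMap κ A z.2 * algebraMap κ A w.1) *
                (e * (1 - e)) := by ring
          rw [this, hee, he'', he', mul_zero, add_zero]
        map_zero' := by simp
        map_add' := by
          intro z w
          simp only [Prod.fst_add, Prod.snd_add, map_add]
          ring
        commutes' := by
          intro c
          simp only [Prod.algebraMap_apply, Algebra.algebraMap_self_apply]
          ring }
    have hφ : ∀ z : κ × κ, φ z = algebraMap κ A z.1 * e + algebraMap κ A z.2 * (1 - e) :=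
      fun z => rfl
    have hsurj : Function.Surjective φ := by
      apply hrange _ φ (1, 0)
      rw [hφ]
      simpa using hebot
    have hinj : Function.Injective φ := by
      rw [injective_iff_map_eq_zero]
      intro z hz
      rw [hφ] at hz
      have h1 : algebraMap κ A z.1 * e = 0 := by
        have := congrArg (fun t => t * e) hz
        simp only [add_mul, zero_mul, mul_assoc, hee] at this
        rw [mul_comm (1 - e) e, he', mul_zero, add_zero] at this
        exact this
      have h2 : algebraMap κ A z.2 * (1 - e) = 0 := by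
        rw [h1, zero_add] at hz
        exact hz
      have hz1 : z.1 = 0 := by
        by_contra hne'
        apply he0
        have : algebraMap κ A (z.1)⁻¹ * (algebraMap κ A z.1 * e) = e := by
          rw [← mul_assoc, ← map_mul, inv_mul_cancel₀ hne', map_one, one_mul]
        rw [← this, h1, mul_zero]
      have hz2 : z.2 = 0 := by
        by_contra hne'
        apply he1
        have : algebraMap κ A (z.2)⁻¹ * (algebraMap κ A z.2 * (1 - e)) = 1 - e := by
          rw [← mul_assoc, ← map_mul, inv_mul_cancel₀ hne', map_one, one_mul]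
        rw [h2, mul_zero] at this
        exact (sub_eq_zero.mp this.symm).symm
      exact Prod.ext hz1 hz2
    exact ⟨(AlgEquiv.ofBijective φ ⟨hinj, hsurj⟩).symm⟩
  right
  push Not at hidem
  -- reducedness
  have hred : ∀ (n : ℕ) (x : A), x ^ n = 0 → x = 0 := by
    intro n
    induction n using Nat.strong_induction_on with
    | _ n ih =>
      intro x hx
      rcases Nat.lt_or_ge n 2 with hlt | hge
      · interval_cases n
        · rw [pow_zero] at hx
          exact absurd hx one_ne_zero
        · rwa [pow_one] at hx
      · -- x^(n) = 0, with n ≥ 2; let m = (n+1)/2 < n, then (x^m)^2 = 0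
        have hm : (n + 1) / 2 < n := by omega
        have hxm : x ^ ((n + 1) / 2) = 0 := by
          by_contra hne'
          apply hnil _ hne'
          rw [← pow_add]
          have : n ≤ (n + 1) / 2 + (n + 1) / 2 := by omega
          exact pow_eq_zero_of_le this hx
        exact ih _ hm x hxm
  have hart : IsArtinianRing A := IsArtinianRing.of_finite κ A
  have hfield : IsField A := by
    refine ⟨exists_pair_ne A, mul_comm, ?_⟩
    intro x hx
    obtain ⟨n, y, hy⟩ := IsArtinian.exists_pow_succ_smul_dvd x (1 : A)
    simp only [smul_eq_mul, mul_one] at hy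
    -- hy : x ^ (n+1) * y = x ^ n
    have hiter : ∀ k : ℕ, x ^ (n + k) * y ^ k = x ^ n := by
      intro k
      induction k with
      | zero => simp
      | succ k ih =>
        calc x ^ (n + (k + 1)) * y ^ (k + 1) = (x ^ (n + 1) * y) * x ^ k * y ^ k := by ring
          _ = x ^ (n + k) * y ^ k := by rw [hy]; ring
          _ = x ^ n := ih
    have he : (x ^ n * y ^ n) * (x ^ n * y ^ n) = x ^ n * y ^ n := by
      calc (x ^ n * y ^ n) * (x ^ n * y ^ n) = (x ^ (n + n) * y ^ n) * y ^ n := by ring
        _ = x ^ n * y ^ n := by rw [hiter n]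
    rcases Classical.em (x ^ n * y ^ n = 0) with h0 | h0
    · exfalso
      apply hx
      apply hred n
      calc x ^ n = x ^ (n + n) * y ^ n := (hiter n).symm
        _ = x ^ n * (x ^ n * y ^ n) := by ring
        _ = 0 := by rw [h0, mul_zero]
    · have h1 : x ^ n * y ^ n = 1 := hidem _ he h0
      rcases Nat.eq_zero_or_pos n with hn0 | hnpos
      · subst hn0
        refine ⟨y, ?_⟩
        simpa using hy
      · refine ⟨x ^ (n - 1) * y ^ n, ?_⟩
        rw [← mul_assoc, ← pow_succ', Nat.sub_add_cancel hnpos, h1]
  refine ⟨hfield, ?_⟩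
  let _ : Field A := hfield.toField
  exact field_case κ A hbt hne

end Groth.Agent.S15939
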