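import Groth.Statements.S15940
-- import your own Groth.Agent.* helpers here
import Groth.Agent.Lib.UHSnSchemeH52

set_option autoImplicit false
universe u
open HTop

namespace Groth.Agent.S15940

open CategoryTheory AlgebraicGeometry in
/-- Let ν : X' → X be a seminormalization of the scheme X, that is, a universal homeomorphism inducing
isomorphisms on all residue fields which is initial among such morphisms with target X. If X is
seminormal then ν is an isomorphism. (The published statement is the equivalence: ν is an
isomorphism if and only if X is seminormal; the other direction rests on the source of a
seminormalization being seminormal, which the predicate used here does not record, and is not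
restated.) -/
theorem result {X' X : Scheme.{u}} (ν : X' ⟶ X)
    (hν : HTop.IsSeminormalization ν) (hX : HTop.IsSeminormal X) : IsIso ν := by
  have hid : HTop.IsSeminormalization (𝟙 X) :=
    Groth.Agent.Lib.UHSnSchemeH52.isSeminormalization_of_isSeminormal (𝟙 X)
      (Groth.Agent.Lib.UnivHomeo.of_isIso _)
      (Groth.Agent.Lib.UHSnSchemeH52.resIso_of_surjectiveOnStalks _) hX
  obtain ⟨e, he⟩ := Groth.Agent.Lib.UHSnSchemeH52.isSeminormalization_unique ν (𝟙 X) hν hid
  rw [Category.comp_id] at he
  rw [← he]
  infer_instance

end Groth.Agent.S15940
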