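import Groth.Statements.S15941
import Mathlib.RingTheory.IntegralClosure.IntegrallyClosed

set_option autoImplicit false
universe u
open HTop

namespace Groth.Agent.S15941

/-- An integrally closed integral domain is a seminormal ring, that is, whenever x^3 = y^2 there is
exactly one element a with x = a^2 and y = a^3. (The published statement is for a normal Noetherian
scheme and reduces at once to this affine integral case; the Noetherian hypothesis plays no role.) -/
theorem result (A : Type u) [CommRing A] [IsDomain A]
    [IsIntegrallyClosed A] : HTop.IsSeminormalRing A := by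
  intro x y hxy
  by_cases hx : x = 0
  · subst hx
    have hy : y = 0 := by
      have : y ^ 2 = 0 := by rw [← hxy]; ring
      exact pow_eq_zero_iff (two_ne_zero) |>.mp this
    subst hy
    refine ⟨0, ⟨by ring, by ring⟩, ?_⟩
    rintro a ⟨ha, -⟩
    exact pow_eq_zero_iff (two_ne_zero) |>.mp ha.symm
  · let K := FractionRing A
    have hxK : algebraMap A K x ≠ 0 := by
      rwa [Ne, map_eq_zero_iff _ (IsFractionRing.injective A K)]
    -- the element y / x of the fraction field is integral over A
    set b : K := algebraMap A K y / algebraMap A K x with hb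
    have hb2 : b ^ 2 = algebraMap A K x := by
      rw [hb, div_pow, ← map_pow, ← hxy, map_pow, div_eq_iff (pow_ne_zero 2 hxK)]
      ring
    have hint : IsIntegral A b := by
      refine ⟨Polynomial.X ^ 2 - Polynomial.C x, Polynomial.monic_X_pow_sub_C x two_ne_zero, ?_⟩
      rw [Polynomial.eval₂_sub, Polynomial.eval₂_pow, Polynomial.eval₂_X, Polynomial.eval₂_C, hb2,
        sub_self]
    obtain ⟨a, ha⟩ := IsIntegrallyClosed.algebraMap_eq_of_integral hint
    have hinj := IsFractionRing.injective A K
    have ha2 : x = a ^ 2 := by
      apply hinj
      rw [map_pow, ha, hb2]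
    have ha3 : y = a ^ 3 := by
      apply hinj
      rw [map_pow, ha, pow_succ, hb2, hb, mul_div_cancel₀ _ hxK]
    refine ⟨a, ⟨ha2, ha3⟩, ?_⟩
    rintro a' ⟨h2, h3⟩
    -- a' * x = y = a * x
    have : a' * x = a * x := by
      rw [show a' * x = a' ^ 3 by rw [h2]; ring, ← h3, ha3, ha2]; ring
    exact mul_right_cancel₀ hx this

end Groth.Agent.S15941
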