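import Groth.Statements.S15943
import Groth.Agent.Lib.Ferrand24d

set_option autoImplicit false
universe u
open Pinch

namespace Groth.Agent.S15943

open Groth.Agent.Lib.Ferrand24 in
open CategoryTheory AlgebraicGeometry in
/-- Let Y be a scheme, f : X → Y a morphism, t : T → Y a scheme affine over Y, ξ : Z → T a morphism with
Z affine over Y via ξ followed by t, and ι : Z → X a closed immersion over Y; assume every point of
Y has an affine open neighbourhood U together with an affine open V of X inside the preimage of U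
containing the image under ι of the part of Z over U. Then the push-out of X and T along Z exists in
the category of schemes. (The published statement adds that this push-out is the push-out of ringed
spaces and, with its evident map to Y, the push-out of schemes over Y; those clauses are not
restated.) -/
theorem result {X Y T Z : Scheme.{u}} (f : X ⟶ Y) (t : T ⟶ Y) (ξ : Z ⟶ T) (ι : Z ⟶ X)
    [IsAffineHom t] [IsAffineHom (ξ ≫ t)] [IsClosedImmersion ι] (hsq : ι ≫ f = ξ ≫ t)
    (hstd : ∀ y : Y, ∃ U : Y.Opens, IsAffineOpen U ∧ y ∈ U ∧ ∃ V : X.Opens, IsAffineOpen V ∧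
      V ≤ f ⁻¹ᵁ U ∧ ∀ z : Z, (ξ ≫ t).base z ∈ U → ι.base z ∈ V) :
    ∃ (P : Scheme.{u}) (a : X ⟶ P) (b : T ⟶ P), IsPushout ι ξ a b := by
  classical
  have hpre : ∀ (U : Y.Opens) (V : X.Opens), V ≤ f ⁻¹ᵁ U →
      (∀ z : Z, (ξ ≫ t).base z ∈ U → ι.base z ∈ V) → ι ⁻¹ᵁ V = ξ ⁻¹ᵁ (t ⁻¹ᵁ U) := by
    intro U V hV hz
    ext z
    constructor
    · intro h
      have h1 : f (ι z) ∈ U := hV h
      have h2 : f (ι z) = t (ξ z) := congr($hsq z)
      rw [h2] at h1
      exact h1
    · intro h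
      exact hz z h
  have hXc : ∀ x : X, ∃ j : J ι ξ, x ∈ j.1.G := by
    intro x
    by_cases hx : x ∈ Set.range ι
    · obtain ⟨z, rfl⟩ := hx
      obtain ⟨U, hU, hyU, V, hV, hVU, hz⟩ := hstd ((ξ ≫ t).base z)
      exact ⟨⟨⟨V, t ⁻¹ᵁ U, hpre U V hVU hz⟩,
        Pair.hasGood_of_isAffineOpen _ hV (hU.preimage t)⟩, hz z hyU⟩
    · have hopen : IsOpen (Set.range ι)ᶜ := ι.isClosedEmbedding.isClosed_range.isOpen_compl
      obtain ⟨_, ⟨V, hV, rfl⟩, hxV, hVsub⟩ :=
        X.isBasis_affineOpens.exists_subset_of_mem_open hx hopen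
      have hbot : ι ⁻¹ᵁ V = ξ ⁻¹ᵁ (⊥ : T.Opens) := by
        ext z
        constructor
        · intro h
          exact absurd ⟨z, rfl⟩ (hVsub h)
        · intro h
          exact absurd h (by simp)
      exact ⟨⟨⟨V, ⊥, hbot⟩, Pair.hasGood_of_isAffineOpen _ hV (isAffineOpen_bot T)⟩, hxV⟩
  have hTc : ∀ τ : T, ∃ j : J ι ξ, τ ∈ j.1.H := by
    intro τ
    obtain ⟨U, hU, hyU, V, hV, hVU, hz⟩ := hstd (t τ)
    exact ⟨⟨⟨V, t ⁻¹ᵁ U, hpre U V hVU hz⟩,
      Pair.hasGood_of_isAffineOpen _ hV (hU.preimage t)⟩, hyU⟩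
  obtain ⟨P, a, b, hP, -⟩ := exists_pushout hXc hTc
  exact ⟨P, a, b, hP⟩

end Groth.Agent.S15943
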