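import Groth.Statements.S15954
import Groth.Agent.Lib.Ferrand24n

set_option autoImplicit false
universe u
open Pinch

namespace Groth.Agent.S15954

open Groth.Agent.Lib.Ferrand24 Groth.Agent.Lib.RingFibreSq24 CategoryTheory.Limits in
open CategoryTheory AlgebraicGeometry in
/-- Let Y be a scheme, f : X → Y a morphism, t : T → Y a scheme affine over Y, ξ : Z → T a morphism with
Z affine over Y via ξ followed by t, and ι : Z → X a closed immersion over Y; assume every point of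
Y has an affine open neighbourhood U together with an affine open V of X inside the preimage of U
containing the image under ι of the part of Z over U; assume moreover that Y is locally Noetherian,
f and t are of finite type and ξ is finite, and let X → P ← T be a push-out of ι and ξ in the
category of schemes; assume finally that ξ is faithfully flat and that over every affine open U of Y
the cokernel of the map from functions on t⁻¹(U) to functions on the part of Z over U is a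
projective module over the functions on U. Let p : P → Y be the induced morphism. Then the push-out
commutes with every base change: for every morphism Y' → Y the square obtained by pulling back Z →
X, Z → T, X → P and T → P along Y' → Y is a push-out square in the category of schemes. -/
theorem result {X Y T Z : Scheme.{u}} (f : X ⟶ Y) (t : T ⟶ Y) (ξ : Z ⟶ T) (ι : Z ⟶ X)
    [IsAffineHom t] [IsAffineHom (ξ ≫ t)] [IsClosedImmersion ι] (hsq : ι ≫ f = ξ ≫ t)
    (hstd : ∀ y : Y, ∃ U : Y.Opens, IsAffineOpen U ∧ y ∈ U ∧ ∃ V : X.Opens, IsAffineOpen V ∧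
      V ≤ f ⁻¹ᵁ U ∧ ∀ z : Z, (ξ ≫ t).base z ∈ U → ι.base z ∈ V)
    [IsLocallyNoetherian Y] [LocallyOfFiniteType f] [QuasiCompact f] [LocallyOfFiniteType t] [QuasiCompact t]
    [IsFinite ξ] {P : Scheme.{u}} (a : X ⟶ P) (b : T ⟶ P) (hP : IsPushout ι ξ a b)
    [Flat ξ] [Surjective ξ]
    (hv : ∀ U : Y.affineOpens, @Pinch.CokerProjective Γ(Y, U) Γ(Z, (ξ ≫ t) ⁻¹ᵁ U) Γ(T, t ⁻¹ᵁ U) _ _ _
      ((ξ ≫ t).app U).hom.toAlgebra (ξ.app (t ⁻¹ᵁ U)).hom)
    (p : P ⟶ Y) (hap : a ≫ p = f) (hbp : b ≫ p = t) {Y' : Scheme.{u}} (g : Y' ⟶ Y) :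
    IsPushout ((Over.pullback g).map (Over.homMk ι hsq : Over.mk (ξ ≫ t) ⟶ Over.mk f)).left
      ((Over.pullback g).map (Over.homMk ξ rfl : Over.mk (ξ ≫ t) ⟶ Over.mk t)).left
      ((Over.pullback g).map (Over.homMk a hap : Over.mk f ⟶ Over.mk p)).left
      ((Over.pullback g).map (Over.homMk b hbp : Over.mk t ⟶ Over.mk p)).left := by
  have hint : IsIntegralHom ξ := inferInstance
  obtain ⟨hX, hT⟩ := pinch_charts f t ξ ι hsq hstd
  obtain ⟨hXb, hTb⟩ := pinch_charts_base2 f t ξ ι hsq hstd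
  obtain ⟨-, hb, hjs, -, haint⟩ := props_of_isPushout_of_charts hX hT hP
  haveI : IsClosedImmersion b := hb
  haveI : IsIntegralHom a := haint hint
  have hcomp : ι ≫ a ≫ p = ξ ≫ t := by rw [hap, hsq]
  -- the four base-changed maps
  have ea1 : ((Over.pullback g).map (Over.homMk a hap : Over.mk f ⟶ Over.mk p)).left ≫
      pullback.fst p g = pullback.fst f g ≫ a := by
    simp only [Over.pullback_map_left]
    exact pullback.lift_fst _ _ _
  have ea2 : ((Over.pullback g).map (Over.homMk a hap : Over.mk f ⟶ Over.mk p)).left ≫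
      pullback.snd p g = pullback.snd f g := by
    simp only [Over.pullback_map_left]
    exact pullback.lift_snd _ _ _
  have eb1 : ((Over.pullback g).map (Over.homMk b hbp : Over.mk t ⟶ Over.mk p)).left ≫
      pullback.fst p g = pullback.fst t g ≫ b := by
    simp only [Over.pullback_map_left]
    exact pullback.lift_fst _ _ _
  have eb2 : ((Over.pullback g).map (Over.homMk b hbp : Over.mk t ⟶ Over.mk p)).left ≫
      pullback.snd p g = pullback.snd t g := by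
    simp only [Over.pullback_map_left]
    exact pullback.lift_snd _ _ _
  have ei1 : ((Over.pullback g).map (Over.homMk ι hsq : Over.mk (ξ ≫ t) ⟶ Over.mk f)).left ≫
      pullback.fst f g = pullback.fst (ξ ≫ t) g ≫ ι := by
    simp only [Over.pullback_map_left]
    exact pullback.lift_fst _ _ _
  have ei2 : ((Over.pullback g).map (Over.homMk ι hsq : Over.mk (ξ ≫ t) ⟶ Over.mk f)).left ≫
      pullback.snd f g = pullback.snd (ξ ≫ t) g := by
    simp only [Over.pullback_map_left]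
    exact pullback.lift_snd _ _ _
  have ex1 : ((Over.pullback g).map (Over.homMk ξ rfl : Over.mk (ξ ≫ t) ⟶ Over.mk t)).left ≫
      pullback.fst t g = pullback.fst (ξ ≫ t) g ≫ ξ := by
    simp only [Over.pullback_map_left]
    exact pullback.lift_fst _ _ _
  have ex2 : ((Over.pullback g).map (Over.homMk ξ rfl : Over.mk (ξ ≫ t) ⟶ Over.mk t)).left ≫
      pullback.snd t g = pullback.snd (ξ ≫ t) g := by
    simp only [Over.pullback_map_left]
    exact pullback.lift_snd _ _ _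
  have hP₁ : IsPullback (pullback.fst p g) (pullback.snd p g) p g := IsPullback.of_hasPullback p g
  have bigX : IsPullback (pullback.fst f g)
      (((Over.pullback g).map (Over.homMk a hap : Over.mk f ⟶ Over.mk p)).left ≫ pullback.snd p g)
      (a ≫ p) g := by
    rw [ea2, hap]
    exact IsPullback.of_hasPullback f g
  have hX₁ := IsPullback.of_bot bigX ea1.symm hP₁
  have bigT : IsPullback (pullback.fst t g)
      (((Over.pullback g).map (Over.homMk b hbp : Over.mk t ⟶ Over.mk p)).left ≫ pullback.snd p g)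
      (b ≫ p) g := by
    rw [eb2, hbp]
    exact IsPullback.of_hasPullback t g
  have hT₁ := IsPullback.of_bot bigT eb1.symm hP₁
  have bigZ : IsPullback (pullback.fst (ξ ≫ t) g)
      (((Over.pullback g).map (Over.homMk ι hsq : Over.mk (ξ ≫ t) ⟶ Over.mk f)).left ≫
        pullback.snd f g) (ι ≫ f) g := by
    rw [ei2, hsq]
    exact IsPullback.of_hasPullback (ξ ≫ t) g
  have hZ₁ := IsPullback.of_bot bigZ ei1.symm (IsPullback.of_hasPullback f g)
  have hw₁ : ((Over.pullback g).map (Over.homMk ι hsq : Over.mk (ξ ≫ t) ⟶ Over.mk f)).left ≫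
      ((Over.pullback g).map (Over.homMk a hap : Over.mk f ⟶ Over.mk p)).left =
      ((Over.pullback g).map (Over.homMk ξ rfl : Over.mk (ξ ≫ t) ⟶ Over.mk t)).left ≫
      ((Over.pullback g).map (Over.homMk b hbp : Over.mk t ⟶ Over.mk p)).left := by
    refine pullback.hom_ext (f := p) (g := g) ?_ ?_
    · rw [Category.assoc, Category.assoc, ea1, eb1, reassoc_of% ei1, reassoc_of% ex1, hP.w]
    · rw [Category.assoc, Category.assoc, ea2, eb2, ei2, ex2]
  refine isPushout_baseChange_base hX hT hP p g (pullback.fst p g) (pullback.snd p g) hP₁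
    (pullback.fst f g) (pullback.fst t g) (pullback.fst (ξ ≫ t) g) _ _ _ _ hX₁ hT₁ hZ₁ ex1 hw₁ ?_
  -- local injectivity
  have main : ∀ (k : Pair ι ξ) (R₀ : Y.Opens), IsAffineOpen R₀ → IsAffineOpen k.G →
      IsAffineOpen k.H → k.G ≤ f ⁻¹ᵁ R₀ → (k.H = t ⁻¹ᵁ R₀ ∨ k.H = ⊥) →
      ∃ U : P.Opens, IsAffineOpen U ∧ a ⁻¹ᵁ U = k.G ∧ b ⁻¹ᵁ U = k.H ∧
      ∃ (hUR : U ≤ p ⁻¹ᵁ R₀), ∀ (V : Y'.Opens) (_ : IsAffineOpen V) (hVR : V ≤ g ⁻¹ᵁ R₀),
        TensorInjective (g.appLE R₀ V hVR) (p.appLE R₀ U hUR) (b.appLE U (b ⁻¹ᵁ U) le_rfl)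
          (a.appLE U (a ⁻¹ᵁ U) le_rfl) := by
    intro k R₀ hR₀ hG hH hGR hHtype
    obtain ⟨U, hU, hUa, hUb⟩ := exists_affineOpen_of_pair hX hT hP k hG hH
    have hHR : k.H ≤ t ⁻¹ᵁ R₀ := by
      rcases hHtype with h | h
      · exact h.le
      · rw [h]
        exact bot_le
    have hUR : U ≤ p ⁻¹ᵁ R₀ := by
      intro y hy
      rcases hjs y with ⟨x, rfl⟩ | ⟨τ, rfl⟩
      · have hx : x ∈ k.G := by
          rw [← hUa]
          exact hy
        have h1 : f x = p (a x) := (congr($hap x)).symm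
        show p (a x) ∈ R₀
        rw [← h1]
        exact hGR hx
      · have hτ : τ ∈ k.H := by
          rw [← hUb]
          exact hy
        have h1 : t τ = p (b τ) := (congr($hbp τ)).symm
        show p (b τ) ∈ R₀
        rw [← h1]
        exact hHR hτ
    refine ⟨U, hU, hUa, hUb, hUR, ?_⟩
    intro V hV hVR
    have hh : ι ⁻¹ᵁ a ⁻¹ᵁ U ≤ ξ ⁻¹ᵁ b ⁻¹ᵁ U := by
      rw [← Scheme.Hom.comp_preimage, ← Scheme.Hom.comp_preimage, hP.w]
    have hNeq : ι ⁻¹ᵁ a ⁻¹ᵁ U = ξ ⁻¹ᵁ b ⁻¹ᵁ U := by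
      rw [← Scheme.Hom.comp_preimage, ← Scheme.Hom.comp_preimage, hP.w]
    have hNR : ι ⁻¹ᵁ a ⁻¹ᵁ U ≤ (ξ ≫ t) ⁻¹ᵁ R₀ := by
      rw [hNeq, hUb, Scheme.Hom.comp_preimage]
      exact fun z hz => hHR hz
    have sq := sections_isFibreSq hX hT hP U hU (hU.preimage a) (hU.preimage b) hh
    have hp : Function.Surjective (ι.app (a ⁻¹ᵁ U)).hom := ι.app_surjective _ (hU.preimage a)
    rw [Scheme.Hom.app_eq_appLE, Scheme.Hom.app_eq_appLE, Scheme.Hom.app_eq_appLE] at sq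
    rw [Scheme.Hom.app_eq_appLE] at hp
    have hqproj : Function.Injective (ξ.appLE (b ⁻¹ᵁ U) (ι ⁻¹ᵁ a ⁻¹ᵁ U) hh).hom ∧
        @Pinch.CokerProjective Γ(Y, R₀) Γ(Z, ι ⁻¹ᵁ a ⁻¹ᵁ U) Γ(T, b ⁻¹ᵁ U) _ _ _
          ((ξ ≫ t).appLE R₀ (ι ⁻¹ᵁ a ⁻¹ᵁ U) hNR).hom.toAlgebra
          (ξ.appLE (b ⁻¹ᵁ U) (ι ⁻¹ᵁ a ⁻¹ᵁ U) hh).hom := by
      rcases hHtype with h | h
      · exact coker_caseA t ξ R₀ hR₀ (hv ⟨R₀, hR₀⟩) _ _ (hUb.trans h)
          (by rw [hNeq, hUb, h]; rfl) hh hNR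
      · exact coker_caseB t ξ R₀ _ _ (hUb.trans h) (by rw [hNeq, hUb, h]; rfl) hh hNR
    have hφ : (ξ ≫ t).appLE R₀ (ι ⁻¹ᵁ a ⁻¹ᵁ U) hNR =
        p.appLE R₀ U hUR ≫ a.appLE U (a ⁻¹ᵁ U) le_rfl ≫
          ι.appLE (a ⁻¹ᵁ U) (ι ⁻¹ᵁ a ⁻¹ᵁ U) le_rfl := by
      have hcomp' : ξ ≫ t = (ι ≫ a) ≫ p := by rw [Category.assoc, hcomp]
      have key : ∀ (q : Z ⟶ Y) (_ : q = (ι ≫ a) ≫ p) (e : ι ⁻¹ᵁ a ⁻¹ᵁ U ≤ q ⁻¹ᵁ R₀),
          q.appLE R₀ (ι ⁻¹ᵁ a ⁻¹ᵁ U) e = p.appLE R₀ U hUR ≫ a.appLE U (a ⁻¹ᵁ U) le_rfl ≫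
            ι.appLE (a ⁻¹ᵁ U) (ι ⁻¹ᵁ a ⁻¹ᵁ U) le_rfl := by
        intro q hq e
        subst hq
        rw [Scheme.Hom.appLE_comp_appLE, Scheme.Hom.appLE_comp_appLE]
      exact key _ hcomp' hNR
    exact tensorInjective_of_cokerProjective _ _ _ _ _ _ sq hp hqproj.1 _ hφ hqproj.2
  intro x
  rcases hjs x with ⟨x', rfl⟩ | ⟨τ, rfl⟩
  · obtain ⟨k, R₀, hR₀, hG, hH, hxG, hGR, hHtype⟩ := hXb x'
    obtain ⟨U, hU, hUa, hUb, hUR, hinj⟩ := main k R₀ hR₀ hG hH hGR hHtype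
    refine ⟨R₀, U, hR₀, hU, ?_, hUR, hinj⟩
    show x' ∈ a ⁻¹ᵁ U
    rw [hUa]
    exact hxG
  · obtain ⟨k, R₀, hR₀, hG, hH, hτH, hGR, hHtype⟩ := hTb τ
    obtain ⟨U, hU, hUa, hUb, hUR, hinj⟩ := main k R₀ hR₀ hG hH hGR hHtype
    refine ⟨R₀, U, hR₀, hU, ?_, hUR, hinj⟩
    show τ ∈ b ⁻¹ᵁ U
    rw [hUb]
    exact hτH

end Groth.Agent.S15954
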