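import Groth.Statements.S15955
import Groth.Agent.Lib.Ferrand24l

set_option autoImplicit false
universe u
open Pinch

namespace Groth.Agent.S15955

open Groth.Agent.Lib.Ferrand24 CategoryTheory.Limits in
open CategoryTheory AlgebraicGeometry in
/-- Let Y be a scheme, f : X → Y a morphism, t : T → Y a scheme affine over Y, ξ : Z → T a morphism with
Z affine over Y via ξ followed by t, and ι : Z → X a closed immersion over Y; assume every point of
Y has an affine open neighbourhood U together with an affine open V of X inside the preimage of U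
containing the image under ι of the part of Z over U; assume moreover that Y is locally Noetherian,
f and t are of finite type and ξ is finite, and let X → P ← T be a push-out of ι and ξ in the
category of schemes; assume finally that ξ is faithfully flat and that over every affine open U of Y
the cokernel of the map from functions on t⁻¹(U) to functions on the part of Z over U is a
projective module over the functions on U. Then for every flat morphism q : F → P the scheme F is
recovered as a push-out: the square formed by F ×_P Z → F ×_P X (induced by ι), F ×_P Z → F ×_P T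
(induced by ξ) and the two projections to F is a push-out square in the category of schemes. (The
published statement adds that this persists after any base change Y' → Y, Noetherian or not; that
addendum is not restated.) -/
theorem result {X Y T Z : Scheme.{u}} (f : X ⟶ Y) (t : T ⟶ Y) (ξ : Z ⟶ T) (ι : Z ⟶ X)
    [IsAffineHom t] [IsAffineHom (ξ ≫ t)] [IsClosedImmersion ι] (hsq : ι ≫ f = ξ ≫ t)
    (hstd : ∀ y : Y, ∃ U : Y.Opens, IsAffineOpen U ∧ y ∈ U ∧ ∃ V : X.Opens, IsAffineOpen V ∧
      V ≤ f ⁻¹ᵁ U ∧ ∀ z : Z, (ξ ≫ t).base z ∈ U → ι.base z ∈ V)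
    [IsLocallyNoetherian Y] [LocallyOfFiniteType f] [QuasiCompact f] [LocallyOfFiniteType t] [QuasiCompact t]
    [IsFinite ξ] {P : Scheme.{u}} (a : X ⟶ P) (b : T ⟶ P) (hP : IsPushout ι ξ a b)
    [Flat ξ] [Surjective ξ]
    (hv : ∀ U : Y.affineOpens, @Pinch.CokerProjective Γ(Y, U) Γ(Z, (ξ ≫ t) ⁻¹ᵁ U) Γ(T, t ⁻¹ᵁ U) _ _ _
      ((ξ ≫ t).app U).hom.toAlgebra (ξ.app (t ⁻¹ᵁ U)).hom)
    {F : Scheme.{u}} (q : F ⟶ P) [Flat q] :
    IsPushout ((Over.pullback q).map (Over.homMk ι rfl : Over.mk (ι ≫ a) ⟶ Over.mk a)).left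
      ((Over.pullback q).map (Over.homMk ξ hP.w.symm : Over.mk (ι ≫ a) ⟶ Over.mk b)).left
      ((Over.pullback q).obj (Over.mk a)).hom ((Over.pullback q).obj (Over.mk b)).hom := by
  have hint : IsIntegralHom ξ := inferInstance
  obtain ⟨hX, hT⟩ := pinch_charts f t ξ ι hsq hstd
  obtain ⟨-, hb, hjs, -, haint⟩ := props_of_isPushout_of_charts hX hT hP
  haveI : IsClosedImmersion b := hb
  haveI : IsIntegralHom a := haint hint
  have e1 : ((Over.pullback q).map (Over.homMk ι rfl : Over.mk (ι ≫ a) ⟶ Over.mk a)).left ≫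
      pullback.fst a q = pullback.fst (ι ≫ a) q ≫ ι := by
    simp only [Over.pullback_map_left]
    exact pullback.lift_fst _ _ _
  have e2 : ((Over.pullback q).map (Over.homMk ι rfl : Over.mk (ι ≫ a) ⟶ Over.mk a)).left ≫
      pullback.snd a q = pullback.snd (ι ≫ a) q := by
    simp only [Over.pullback_map_left]
    exact pullback.lift_snd _ _ _
  have e3 : ((Over.pullback q).map (Over.homMk ξ hP.w.symm : Over.mk (ι ≫ a) ⟶ Over.mk b)).left ≫
      pullback.fst b q = pullback.fst (ι ≫ a) q ≫ ξ := by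
    simp only [Over.pullback_map_left]
    exact pullback.lift_fst _ _ _
  have e4 : ((Over.pullback q).map (Over.homMk ξ hP.w.symm : Over.mk (ι ≫ a) ⟶ Over.mk b)).left ≫
      pullback.snd b q = pullback.snd (ι ≫ a) q := by
    simp only [Over.pullback_map_left]
    exact pullback.lift_snd _ _ _
  have hX₁ : IsPullback (pullback.fst a q) (pullback.snd a q) a q := IsPullback.of_hasPullback a q
  have hT₁ : IsPullback (pullback.fst b q) (pullback.snd b q) b q := IsPullback.of_hasPullback b q
  have hbig : IsPullback (pullback.fst (ι ≫ a) q)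
      (((Over.pullback q).map (Over.homMk ι rfl : Over.mk (ι ≫ a) ⟶ Over.mk a)).left ≫
        pullback.snd a q) (ι ≫ a) q := by
    rw [e2]
    exact IsPullback.of_hasPullback _ _
  have hZ₁ : IsPullback (pullback.fst (ι ≫ a) q)
      ((Over.pullback q).map (Over.homMk ι rfl : Over.mk (ι ≫ a) ⟶ Over.mk a)).left ι
      (pullback.fst a q) := IsPullback.of_bot hbig e1.symm hX₁
  show IsPushout ((Over.pullback q).map (Over.homMk ι rfl : Over.mk (ι ≫ a) ⟶ Over.mk a)).left
    ((Over.pullback q).map (Over.homMk ξ hP.w.symm : Over.mk (ι ≫ a) ⟶ Over.mk b)).left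
    (pullback.snd a q) (pullback.snd b q)
  refine isPushout_baseChange_of_local q (pullback.fst a q) (pullback.fst b q)
    (pullback.fst (ι ≫ a) q) (pullback.snd a q) (pullback.snd b q) _ _ hX₁ hT₁ hZ₁ e3
    (e2.trans e4.symm) ?_
  intro t'
  obtain ⟨_, ⟨U, hU, rfl⟩, hqU, -⟩ :=
    P.isBasis_affineOpens.exists_subset_of_mem_open (Set.mem_univ (q t')) isOpen_univ
  obtain ⟨_, ⟨W, hW, rfl⟩, htW, hWU⟩ :=
    F.isBasis_affineOpens.exists_subset_of_mem_open (show t' ∈ q ⁻¹ᵁ U from hqU) (q ⁻¹ᵁ U).2
  have h : ι ⁻¹ᵁ a ⁻¹ᵁ U ≤ ξ ⁻¹ᵁ b ⁻¹ᵁ U := by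
    rw [← Scheme.Hom.comp_preimage, ← Scheme.Hom.comp_preimage, hP.w]
  refine ⟨U, W, hU, hW, htW, hWU, hWU, h, ?_⟩
  have sq := sections_isFibreSq hX hT hP U hU (hU.preimage a) (hU.preimage b) h
  have hp : Function.Surjective (ι.app (a ⁻¹ᵁ U)).hom := ι.app_surjective _ (hU.preimage a)
  rw [Scheme.Hom.app_eq_appLE, Scheme.Hom.app_eq_appLE, Scheme.Hom.app_eq_appLE] at sq
  rw [Scheme.Hom.app_eq_appLE] at hp
  have hflat : (q.appLE U W hWU).hom.Flat :=
    HasRingHomProperty.appLE @Flat q inferInstance ⟨U, hU⟩ ⟨W, hW⟩ hWU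
  exact isBaseChangeGood_of_flat _ _ _ _ _ sq hp hflat

end Groth.Agent.S15955
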