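import Groth.Statements.S15962
-- import your own Groth.Agent.* helpers here
import Groth.Agent.Lib.UHSnSchemeH52

set_option autoImplicit false
universe u
open HTop

namespace Groth.Agent.S15962

open CategoryTheory AlgebraicGeometry in
/-- Let S be a reduced Noetherian scheme, π : S̃ → S its normalisation (S̃ has integrally closed local
domains, π is integral and restricts to an isomorphism over a dense open subset of S whose preimage
is dense in S̃), and ν : X' → S a seminormalization of S (X' seminormal, ν a universal homeomorphism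
inducing isomorphisms on residue fields, initial among such). Then the normalisation factors through
the seminormalisation: there is a morphism g : S̃ → X' with g followed by ν equal to π. -/
theorem result {S Sn X' : Scheme.{u}} [IsNoetherian S] [IsReduced S]
    (π : Sn ⟶ S) [IsIntegralHom π] (hn : Pi1.IsNormalScheme Sn)
    (hbir : ∃ U : S.Opens, Dense (U : Set S) ∧ Dense ((π ⁻¹ᵁ U : Sn.Opens) : Set Sn) ∧ IsIso (π ∣_ U))
    (ν : X' ⟶ S) (hν : HTop.IsSeminormalization ν) (hX' : HTop.IsSeminormal X') :
    ∃ g : Sn ⟶ X', g ≫ ν = π := by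
  have hSn : HTop.IsSeminormal Sn := Groth.Agent.Lib.UHSnSchemeH52.isSeminormal_of_isNormalScheme hn
  have h1 : FlatMor.IsUnivHomeo (Limits.pullback.fst π ν) :=
    MorphismProperty.pullback_fst _ _ hν.1.1
  have h1' : HTop.ResidueFieldsIso (Limits.pullback.fst π ν) :=
    Groth.Agent.Lib.UHSnSchemeH52.resIso_pullback_fst π hν.1.1 hν.1.2
  obtain ⟨Z, i, hZ, hi, hs⟩ := Groth.Agent.Lib.UHAwnSchemeH52.exists_reduced (Limits.pullback π ν)
  have h2 : FlatMor.IsUnivHomeo i := Groth.Agent.Lib.UnivHomeo.of_isImmersion_of_surjective i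
  have h3 : FlatMor.IsUnivHomeo (i ≫ Limits.pullback.fst π ν) :=
    Groth.Agent.Lib.UnivHomeo.comp h2 h1
  have h3' : HTop.ResidueFieldsIso (i ≫ Limits.pullback.fst π ν) :=
    Groth.Agent.Lib.UHSnSchemeH52.resIso_comp
      (Groth.Agent.Lib.UHSnSchemeH52.resIso_of_surjectiveOnStalks i) h1'
  have h4 : IsIso (i ≫ Limits.pullback.fst π ν) :=
    Groth.Agent.Lib.UHSnSchemeH52.isIso_of_isSeminormal hSn _ h3 h3'
  refine ⟨inv (i ≫ Limits.pullback.fst π ν) ≫ i ≫ Limits.pullback.snd π ν, ?_⟩
  rw [Category.assoc, Category.assoc, ← Limits.pullback.condition, ← Category.assoc i,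
    IsIso.inv_hom_id_assoc]

end Groth.Agent.S15962
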