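import Groth.Statements.S15963
-- import your own Groth.Agent.* helpers here
import Groth.Agent.Lib.UHImageH52

set_option autoImplicit false
universe u
open HTop

namespace Groth.Agent.S15963

theorem finite_of_comp_injective {A B C : Type u} [CommRing A] [CommRing B] [CommRing C]
    [IsNoetherianRing A] (φ : A →+* B) (ψ : B →+* C) (hψ : Function.Injective ψ)
    (h : (ψ.comp φ).Finite) : φ.Finite := by
  let _ := φ.toAlgebra
  let _ := (ψ.comp φ).toAlgebra
  have h1 : Module.Finite A C := h
  have h2 : IsNoetherian A C := isNoetherian_of_isNoetherianRing_of_finite A C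
  let l : B →ₗ[A] C :=
    { toFun := ψ
      map_add' := ψ.map_add
      map_smul' := fun a b => by
        simp [Algebra.smul_def, RingHom.algebraMap_toAlgebra] }
  exact Module.Finite.of_injective l hψ

open CategoryTheory AlgebraicGeometry in
/-- Let S be a reduced Noetherian scheme, π : S̃ → S its normalisation (S̃ has integrally closed local
domains, π is integral and an isomorphism over a dense open subset of S with dense preimage), ν : X'
→ S a seminormalization of S (X' seminormal, ν a universal homeomorphism with residue-field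
isomorphisms, initial among such) and g : S̃ → X' a morphism with g followed by ν equal to π. Then ν
and g are scheme-theoretically dominant (the structure sheaf maps injectively into the direct
image), and if π is finite then so are ν and g. -/
theorem result {S Sn X' : Scheme.{u}}
    [IsNoetherian S] [IsReduced S]
    (π : Sn ⟶ S) [IsIntegralHom π] (hn : Pi1.IsNormalScheme Sn)
    (hbir : ∃ U : S.Opens, Dense (U : Set S) ∧ Dense ((π ⁻¹ᵁ U : Sn.Opens) : Set Sn) ∧ IsIso (π ∣_ U))
    (ν : X' ⟶ S) (hν : HTop.IsSeminormalization ν) (hX' : HTop.IsSeminormal X')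
    (g : Sn ⟶ X') (hg : g ≫ ν = π) :
    (IsSchemeTheoreticallyDominant ν ∧ IsSchemeTheoreticallyDominant g) ∧
      (IsFinite π → IsFinite ν ∧ IsFinite g) := by
  classical
  subst hg
  have hνu : FlatMor.IsUnivHomeo ν := hν.1.1
  have hνh : IsHomeomorph ν := Groth.Agent.Lib.UnivHomeo.isHomeomorph hνu
  have hνaff : AlgebraicGeometry.IsAffineHom ν := Groth.Agent.Lib.UnivHomeo.isAffineHom hνu
  have hνsep : AlgebraicGeometry.IsSeparated ν := AlgebraicGeometry.IsSeparated.of_isAffineHom ν
  have hX'red : AlgebraicGeometry.IsReduced X' :=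
    Groth.Agent.Lib.UHSnSchemeH52.isReduced_of_isSeminormal hX'
  -- π is dominant
  have hπd : DenseRange (g ≫ ν) := by
    obtain ⟨U, hU, -, hiso⟩ := hbir
    refine hU.mono ?_
    intro x hx
    have hsurj : Function.Surjective ((g ≫ ν) ∣_ U) := by
      have : CategoryTheory.IsIso ((g ≫ ν) ∣_ U) := hiso
      exact ((g ≫ ν) ∣_ U).surjective
    obtain ⟨y, hy⟩ := hsurj ⟨x, hx⟩
    refine ⟨y.1, ?_⟩
    have := congrArg Subtype.val hy
    rw [AlgebraicGeometry.morphismRestrict_base_coe] at this
    exact this
  have hνdom : AlgebraicGeometry.IsDominant ν := by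
    have : AlgebraicGeometry.Surjective ν := Groth.Agent.Lib.UnivHomeo.surjective hνu
    infer_instance
  have hgd : AlgebraicGeometry.IsDominant g := by
    refine ⟨?_⟩
    intro x
    rw [mem_closure_iff]
    intro O hO hxO
    have hO' : IsOpen (ν '' O) := hνh.isOpenMap O hO
    obtain ⟨y, w, hwO, hw⟩ := hπd.exists_mem_open hO' ⟨ν x, x, hxO, rfl⟩
    refine ⟨g y, ?_, y, rfl⟩
    have : ν (g y) = ν w := by
      rw [hw]; rfl
    rw [hνh.injective this]
    exact hwO
  have hgaff : AlgebraicGeometry.IsAffineHom g := by
    have : AlgebraicGeometry.IsAffineHom (g ≫ ν) := inferInstance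
    exact AlgebraicGeometry.IsAffineHom.of_comp g ν
  have hνs : AlgebraicGeometry.IsSchemeTheoreticallyDominant ν :=
    AlgebraicGeometry.IsSchemeTheoreticallyDominant.of_isDominant ν
  have hgs : AlgebraicGeometry.IsSchemeTheoreticallyDominant g :=
    AlgebraicGeometry.IsSchemeTheoreticallyDominant.of_isDominant g
  refine ⟨⟨hνs, hgs⟩, fun hfin => ?_⟩
  have hνfin : AlgebraicGeometry.IsFinite ν := by
    rw [AlgebraicGeometry.isFinite_iff]
    refine ⟨hνaff, fun U hU => ?_⟩
    have : IsNoetherianRing Γ(S, U) :=
      AlgebraicGeometry.IsLocallyNoetherian.component_noetherian ⟨U, hU⟩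
    apply finite_of_comp_injective (ν.app U).hom (g.app (ν ⁻¹ᵁ U)).hom
      (AlgebraicGeometry.Scheme.Hom.app_injective g _)
    have := AlgebraicGeometry.IsFinite.finite_app (g ≫ ν) U hU
    rw [AlgebraicGeometry.Scheme.Hom.comp_app] at this
    exact this
  exact ⟨hνfin, AlgebraicGeometry.IsFinite.of_comp g ν⟩

end Groth.Agent.S15963
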