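import Groth.Statements.S15987
-- import your own Groth.Agent.* helpers here

set_option autoImplicit false
universe u v
open Deform

namespace Groth.Agent.S15987

section helpers

open TrivSqZeroExt

variable {k : Type u} [Field k] {A : Type u} [CommRing A] [Algebra k A]

/-- The `k`-algebra endomorphism `a + b ε ↦ a + (D a + b) ε` of the dual numbers. -/
def autHom (D : Derivation k A A) : DualNumber A →ₐ[k] DualNumber A where
  toFun x := inl x.fst + inr (D x.fst + x.snd)
  map_one' := by
    ext <;> simp
  map_mul' x y := by
    ext
    · simp
    · simp only [snd_add, snd_inl, snd_inr, zero_add, DualNumber.snd_mul, fst_mul, fst_add,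
        fst_inl, fst_inr, add_zero, Derivation.leibniz, smul_eq_mul]
      ring
  map_zero' := by
    ext <;> simp
  map_add' x y := by
    ext
    · simp
    · simp only [snd_add, snd_inl, snd_inr, zero_add, fst_add, map_add]
      ring
  commutes' r := by
    ext <;> simp [algebraMap_eq_inl']

@[simp] lemma autHom_fst (D : Derivation k A A) (x : DualNumber A) :
    (autHom D x).fst = x.fst := by
  simp [autHom]

@[simp] lemma autHom_snd (D : Derivation k A A) (x : DualNumber A) :
    (autHom D x).snd = D x.fst + x.snd := by
  simp [autHom]

lemma autHom_comp_neg (D : Derivation k A A) :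
    (autHom D).comp (autHom (-D)) = AlgHom.id k (DualNumber A) := by
  ext x <;> simp

lemma autHom_neg_comp (D : Derivation k A A) :
    (autHom (-D)).comp (autHom D) = AlgHom.id k (DualNumber A) := by
  ext x <;> simp

/-- The automorphism of the dual numbers attached to a derivation. -/
def autEquiv (D : Derivation k A A) : DualNumber A ≃ₐ[k] DualNumber A :=
  AlgEquiv.ofAlgHom (autHom D) (autHom (-D)) (autHom_comp_neg D) (by
    have := autHom_neg_comp D
    exact this)

@[simp] lemma autEquiv_apply (D : Derivation k A A) (x : DualNumber A) :
    autEquiv D x = autHom D x := rfl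

/-- The derivation attached to an automorphism of the dual numbers that is the identity
modulo `ε`. -/
def derOf (φ : DualNumber A ≃ₐ[k] DualNumber A) (h : ∀ x, (φ x).fst = x.fst) :
    Derivation k A A :=
  Derivation.mk'
    { toFun := fun a => (φ (inl a : DualNumber A)).snd
      map_add' := fun a b => by
        rw [inl_add, map_add, snd_add]
      map_smul' := fun r a => by
        rw [RingHom.id_apply, inl_smul, map_smul, snd_smul] }
    (fun a b => by
      show (φ (inl (a * b) : DualNumber A)).snd =
        a • (φ (inl b : DualNumber A)).snd + b • (φ (inl a : DualNumber A)).snd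
      rw [inl_mul, map_mul, DualNumber.snd_mul, h, h, fst_inl, fst_inl, smul_eq_mul, smul_eq_mul]
      ring)

@[simp] lemma derOf_apply (φ : DualNumber A ≃ₐ[k] DualNumber A) (h : ∀ x, (φ x).fst = x.fst)
    (a : A) : derOf φ h a = (φ (inl a : DualNumber A)).snd := rfl

lemma apply_inr (φ : DualNumber A ≃ₐ[k] DualNumber A) (h : ∀ x, (φ x).fst = x.fst)
    (he : φ DualNumber.eps = DualNumber.eps) (b : A) :
    φ (inr b : DualNumber A) = inr b := by
  have h1 : (inr b : DualNumber A) = inl b * DualNumber.eps := by
    ext <;> simp
  rw [h1, map_mul, he]
  ext
  · simp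
  · simp [h]

end helpers

open TrivSqZeroExt in
/-- Let k be a field, A a commutative k-algebra and q_i : A → k (i ∈ ι) k-algebra maps (marked k-points
of Spec A). The k-algebra automorphisms φ of the ring of dual numbers A[ε] that fix ε (so are
k[ε]-linear), are the identity modulo ε, and satisfy q_i((φ x)_ε) = q_i(x_ε) for all i and x
(compatibility with the trivial lifts A[ε] → k[ε] of the marked points) are in bijection with the
k-derivations D : A → A such that q_i ∘ D = 0 for every i, the bijection sending φ to a ↦ (φ(a))_ε.
(The source identifies the right-hand side with the global vector fields vanishing at the marked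
points; the condition the computation yields is q_i ∘ D = 0, which is the same for Spec A smooth
over k but is weaker in general, e.g. for A = k[x]/(x^2) with 2 invertible in k.) -/
theorem result
    (k : Type u) [Field k] (A : Type u) [CommRing A] [Algebra k A] {ι : Type v} (q : ι → (A →ₐ[k] k)) :
    ∃ e : {φ : DualNumber A ≃ₐ[k] DualNumber A //
            φ DualNumber.eps = DualNumber.eps ∧ (∀ x, (φ x).fst = x.fst) ∧
              ∀ i x, q i (φ x).snd = q i x.snd} ≃
          {D : Derivation k A A // ∀ i a, q i (D a) = 0},
      ∀ φ (a : A), (e φ).1 a = (φ.1 (inl a : DualNumber A)).snd := by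
  refine ⟨
    { toFun := fun φ => ⟨derOf φ.1 φ.2.2.1, fun i a => by
        rw [derOf_apply, φ.2.2.2 i (inl a), snd_inl, map_zero]⟩
      invFun := fun D => ⟨autEquiv D.1, by
        refine ⟨?_, ?_, ?_⟩
        · ext <;> simp
        · intro x
          simp
        · intro i x
          rw [autEquiv_apply, autHom_snd, map_add, D.2 i, zero_add]⟩
      left_inv := fun φ => by
        apply Subtype.ext
        ext1 x
        show autHom (derOf φ.1 φ.2.2.1) x = φ.1 x
        conv_rhs => rw [← x.inl_fst_add_inr_snd_eq, map_add, apply_inr φ.1 φ.2.2.1 φ.2.1]
        ext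
        · simp [φ.2.2.1]
        · simp
      right_inv := fun D => by
        apply Subtype.ext
        ext a
        show (autHom D.1 (inl a : DualNumber A)).snd = D.1 a
        simp }, ?_⟩
  intro φ a
  rfl

end Groth.Agent.S15987
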