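import Groth.Statements.S15988
import Mathlib.Tactic
import Mathlib.RingTheory.Smooth.Basic
import Mathlib.RingTheory.Ideal.Quotient.Operations
import Mathlib.Algebra.DualNumber

set_option autoImplicit false
universe u v
open Deform

namespace Groth.Agent.S15988

section Helpers

theorem isNilpotent_ker {P Q : Type*} [CommRing P] [CommRing Q] (π : P →+* Q)
    (h : ∀ x y, π x = 0 → π y = 0 → x * y = 0) : IsNilpotent (RingHom.ker π) := by
  refine ⟨2, ?_⟩
  rw [Ideal.zero_eq_bot, eq_bot_iff, pow_two, Ideal.mul_le]
  intro u hu v hv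
  rw [Ideal.mem_bot]
  exact h u v hu hv

end Helpers

open TrivSqZeroExt in
/-- Let k be a field, A a smooth commutative k-algebra, q_i : A → k (i ∈ ι, ι finite) pairwise distinct
k-algebra maps, and q'_i : A[ε] → k[ε] k-algebra maps with q'_i(ε) = ε which reduce to q_i modulo ε
(marked points of a first-order deformation with underlying trivial deformation). Then some
k-algebra automorphism φ of A[ε] with φ(ε) = ε and φ = id modulo ε carries every q'_i to the trivial
lift of q_i: q'_i(φ x) = (q_i(x_0), q_i(x_ε)) for all i and x. Together with the triviality of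
first-order deformations of a smooth affine scheme this gives the source's statement that
first-order deformations of a smooth affine scheme with marked points are trivial. (The published
statement does not say that the finitely many marked points are distinct; for two coincident points
with different lifts no such automorphism exists, so the points are taken pairwise distinct here,
and the source's non-singular is read as smooth over k.) -/
theorem result
    (k : Type u) [Field k] (A : Type u) [CommRing A] [Algebra k A] [Algebra.Smooth k A]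
    {ι : Type v} [Finite ι] (q : ι → (A →ₐ[k] k)) (hq : Function.Injective q)
    (q' : ι → (DualNumber A →ₐ[k] DualNumber k))
    (hε : ∀ i, q' i DualNumber.eps = DualNumber.eps) (hq' : ∀ i x, (q' i x).fst = q i x.fst) :
    ∃ φ : DualNumber A ≃ₐ[k] DualNumber A,
      φ DualNumber.eps = DualNumber.eps ∧ (∀ x, (φ x).fst = x.fst) ∧
        ∀ i x, (q' i (φ x)).fst = q i x.fst ∧ (q' i (φ x)).snd = q i x.snd := by
  -- CRT
  have hqs : ∀ i (c : k), q i (algebraMap k A c) = c := fun i c => by
    rw [AlgHom.commutes]; rfl
  have hmax : ∀ i, (RingHom.ker (q i : A →+* k)).IsMaximal := fun i =>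
    RingHom.ker_isMaximal_of_surjective _ fun c => ⟨algebraMap k A c, hqs i c⟩
  have hne : ∀ i j, i ≠ j → RingHom.ker (q i : A →+* k) ≠ RingHom.ker (q j : A →+* k) := by
    intro i j hij hker
    apply hij
    apply hq
    apply AlgHom.ext
    intro a
    have h1 : a - algebraMap k A (q i a) ∈ RingHom.ker (q i : A →+* k) := by
      rw [RingHom.mem_ker]
      show q i (a - algebraMap k A (q i a)) = 0
      rw [map_sub, hqs, sub_self]
    rw [hker, RingHom.mem_ker] at h1
    have h2 : q j (a - algebraMap k A (q i a)) = 0 := h1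
    rw [map_sub, hqs, sub_eq_zero] at h2
    exact h2.symm
  have hcop : Pairwise (Function.onFun IsCoprime fun i => RingHom.ker (q i : A →+* k)) := by
    intro i j hij
    exact Ideal.isCoprime_of_isMaximal (hne i j hij)
  have hCRT : ∀ c : ι → k, ∃ b : A, ∀ i, q i b = c i := by
    intro c
    obtain ⟨b, hb⟩ := Ideal.exists_forall_sub_mem_ideal hcop (fun i => algebraMap k A (c i))
    refine ⟨b, fun i => ?_⟩
    have h1 := hb i
    rw [RingHom.mem_ker] at h1
    have h2 : q i (b - algebraMap k A (c i)) = 0 := h1
    rw [map_sub, hqs, sub_eq_zero] at h2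
    exact h2
  -- behaviour of `q'` on `inr`
  have hinr : ∀ i (b : A), q' i (inr b) = inr (q i b) := by
    intro i b
    have h1 : (inr b : DualNumber A) = inl b * DualNumber.eps := by
      rw [TrivSqZeroExt.inl_mul_eq_smul, DualNumber.inr_eq_smul_eps]
    rw [h1, map_mul, hε]
    apply TrivSqZeroExt.ext
    · rw [TrivSqZeroExt.fst_mul, DualNumber.fst_eps, mul_zero, TrivSqZeroExt.fst_inr]
    · rw [TrivSqZeroExt.snd_mul, DualNumber.fst_eps, DualNumber.snd_eps, hq',
        TrivSqZeroExt.fst_inl, TrivSqZeroExt.snd_inr, smul_eq_mul, mul_one,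
        MulOpposite.op_zero, zero_smul, add_zero]
  -- the subalgebra `S`
  let S : Subalgebra k (DualNumber A) :=
    { carrier := {x | ∀ i, (q' i x).snd = 0}
      mul_mem' := by
        intro x y hx hy i
        rw [map_mul, TrivSqZeroExt.snd_mul, hx i, hy i]
        simp
      add_mem' := by
        intro x y hx hy i
        rw [map_add, TrivSqZeroExt.snd_add, hx i, hy i, add_zero]
      algebraMap_mem' := by
        intro c i
        rw [AlgHom.commutes]
        rfl }
  have hS : ∀ x : DualNumber A, x ∈ S ↔ ∀ i, (q' i x).snd = 0 := fun x => Iff.rfl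
  let π : S →ₐ[k] A := (TrivSqZeroExt.fstHom k A A).comp S.val
  have hπ : ∀ x : S, π x = (x : DualNumber A).fst := fun x => rfl
  have hπs : Function.Surjective π := by
    intro a
    obtain ⟨b, hb⟩ := hCRT (fun i => - (q' i (inl a)).snd)
    refine ⟨⟨inl a + inr b, ?_⟩, ?_⟩
    · rw [hS]
      intro i
      rw [map_add, hinr, TrivSqZeroExt.snd_add, TrivSqZeroExt.snd_inr, hb]
      exact add_neg_cancel _
    · rw [hπ]
      simp
  have hnil : IsNilpotent (RingHom.ker (π : S →+* A)) := by
    apply isNilpotent_ker
    intro x y hx hy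
    have hx' : (x : DualNumber A).fst = 0 := hx
    have hy' : (y : DualNumber A).fst = 0 := hy
    apply Subtype.ext
    show (x : DualNumber A) * (y : DualNumber A) = 0
    ext
    · rw [TrivSqZeroExt.fst_mul, hx', zero_mul]; rfl
    · rw [TrivSqZeroExt.snd_mul, hx', hy']; simp
  have hfs : Algebra.FormallySmooth k A := inferInstance
  let Φ : A →ₐ[k] S := Algebra.FormallySmooth.liftOfSurjective (AlgHom.id k A) π hπs hnil
  have hΦ : ∀ a : A, ((Φ a : S) : DualNumber A).fst = a := fun a =>
    Algebra.FormallySmooth.liftOfSurjective_apply (AlgHom.id k A) π hπs hnil a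
  have hΦS : ∀ (a : A) i, (q' i (Φ a : S)).snd = 0 := fun a i => (Φ a).2 i
  -- the automorphism
  let Ψ : A →ₐ[k] DualNumber A := S.val.comp Φ
  have hΨ : ∀ a, Ψ a = ((Φ a : S) : DualNumber A) := fun a => rfl
  let φ₀ : DualNumber A →ₐ[k] DualNumber A :=
    DualNumber.lift ⟨(Ψ, DualNumber.eps), DualNumber.eps_mul_eps, fun a => mul_comm _ _⟩
  have hφ₀ : ∀ x : DualNumber A, φ₀ x = Ψ x.fst + Ψ x.snd * DualNumber.eps := fun x => rfl
  have hfst : ∀ x, (φ₀ x).fst = x.fst := by
    intro x
    rw [hφ₀, TrivSqZeroExt.fst_add, TrivSqZeroExt.fst_mul, DualNumber.fst_eps, mul_zero, add_zero,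
      hΨ, hΦ]
  have hsnd : ∀ x, (φ₀ x).snd = (Ψ x.fst).snd + x.snd := by
    intro x
    rw [hφ₀, TrivSqZeroExt.snd_add, TrivSqZeroExt.snd_mul, DualNumber.fst_eps, DualNumber.snd_eps,
      hΨ x.snd, hΦ, smul_eq_mul, mul_one, MulOpposite.op_zero, zero_smul, add_zero]
  have hbij : Function.Bijective φ₀ := by
    constructor
    · rw [injective_iff_map_eq_zero]
      intro x hx
      have h1 : x.fst = 0 := by rw [← hfst, hx]; rfl
      have h2 := hsnd x
      rw [hx, h1, map_zero] at h2
      apply TrivSqZeroExt.ext
      · exact h1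
      · have h3 : (0 : DualNumber A).snd = 0 := rfl
        rw [h3, zero_add] at h2
        exact h2.symm
    · intro y
      refine ⟨inl y.fst + inr (y.snd - (Ψ y.fst).snd), ?_⟩
      apply TrivSqZeroExt.ext
      · rw [hfst]; simp
      · rw [hsnd]; simp
  refine ⟨AlgEquiv.ofBijective φ₀ hbij, ?_, ?_, ?_⟩
  · show φ₀ DualNumber.eps = DualNumber.eps
    exact DualNumber.lift_apply_eps _
  · exact hfst
  · intro i x
    show (q' i (φ₀ x)).fst = q i x.fst ∧ (q' i (φ₀ x)).snd = q i x.snd
    constructor
    · rw [hq', hfst]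
    · rw [hφ₀, map_add, map_mul, hε, TrivSqZeroExt.snd_add, TrivSqZeroExt.snd_mul, hΨ, hΨ, hΦS,
        DualNumber.fst_eps, DualNumber.snd_eps, hq', hΦ, smul_eq_mul, mul_one,
        MulOpposite.op_zero, zero_smul, add_zero, zero_add]

end Groth.Agent.S15988
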