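import Mathlib
import Groth.Statements.S15991
import Groth.Agent.Lib.DefSchAff4
import Groth.Agent.Lib.DefSchMarked1

set_option autoImplicit false
universe u v
open Deform


namespace Groth.Agent.S15991aux

open CategoryTheory CategoryTheory.Limits AlgebraicGeometry ArtFun ArtFun.Art
open Groth.Agent.Lib.DefSchAff

set_option maxHeartbeats 800000 in
theorem main
    (k : Type u) [Field k] (X : Scheme.{u}) (hX : X ⟶ Spec (CommRingCat.of k)) [IsAffine X] [Smooth hX]
    {ι : Type v} [Finite ι] (p : ι → (Spec (CommRingCat.of k) ⟶ X)) (hp : ∀ j, p j ≫ hX = 𝟙 _)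
    (hinj : Function.Injective p)
    (X' : Scheme.{u}) (g : X' ⟶ Spec (CommRingCat.of (DualNumber k))) (hg : Flat g) (i : X ⟶ X')
    (e : DualNumber k →ₐ[k] k) (he : e = TrivSqZeroExt.fstHom k k k)
    (hsq : IsPullback i hX g (Spec.map (CommRingCat.ofHom e.toRingHom)))
    (p' : ι → (Spec (CommRingCat.of (DualNumber k)) ⟶ X')) (hp' : ∀ j, p' j ≫ g = 𝟙 _)
    (hpp' : ∀ j, p j ≫ i = Spec.map (CommRingCat.ofHom e.toRingHom) ≫ p' j) :
    ∃ φ : X' ≅ Limits.pullback hX (Spec.map (CommRingCat.ofHom (algebraMap k (DualNumber k)))),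
      φ.hom ≫ Limits.pullback.snd hX (Spec.map (CommRingCat.ofHom (algebraMap k (DualNumber k)))) = g ∧
        i ≫ φ.hom ≫ Limits.pullback.fst hX (Spec.map (CommRingCat.ofHom (algebraMap k (DualNumber k)))) = 𝟙 X ∧
          ∀ j, p' j ≫ φ.hom ≫
              Limits.pullback.fst hX (Spec.map (CommRingCat.ofHom (algebraMap k (DualNumber k)))) =
            Spec.map (CommRingCat.ofHom (algebraMap k (DualNumber k))) ≫ p j := by
  have hart : IsArtinianRing (DualNumber k) := Art.isArtinianRing_tsze k k
  let _ := algΓ hX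
  have hfs : Algebra.FormallySmooth k Γ(X, ⊤) := formallySmooth_Γ_of_smooth hX
  let ξ := toDefSch hX e g hg i hsq
  let φ : DualNumber k →+* Γ(X', ⊤) := algA ξ
  have hφ : ∀ a, φ a = g.appTop.hom ((Scheme.ΓSpecIso (CommRingCat.of (DualNumber k))).inv.hom a) :=
    fun a => rfl
  let _ : Algebra k Γ(X', ⊤) := (φ.comp (algebraMap k (DualNumber k))).toAlgebra
  have halg : ∀ c : k, algebraMap k Γ(X', ⊤) c = φ (algebraMap k (DualNumber k) c) := fun c => rfl
  have hproj : ∀ r : Γ(X', ⊤), proj ξ r = i.appTop.hom r := proj_toDefSch hX e g hg i hsq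
  have hpa : ∀ a : DualNumber k, i.appTop.hom (φ a) = algebraMap k Γ(X, ⊤) (e a) := fun a =>
    (hproj (φ a)).symm.trans (proj_algA ξ a)
  let π : Γ(X', ⊤) →ₐ[k] Γ(X, ⊤) :=
    { i.appTop.hom with
      commutes' := fun c => by
        change i.appTop.hom (φ (algebraMap k (DualNumber k) c)) = algebraMap k Γ(X, ⊤) c
        rw [hpa, AlgHom.commutes]
        rfl }
  have hπ : ∀ r, π r = i.appTop.hom r := fun r => rfl
  have hπsurj : Function.Surjective π := by
    intro b
    obtain ⟨r, hr⟩ := proj_surjective ξ b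
    exact ⟨r, (hπ r).trans ((hproj r).symm.trans hr)⟩
  let εR : Γ(X', ⊤) := φ DualNumber.eps
  have hε : εR * εR = 0 := by
    change φ _ * φ _ = 0
    rw [← map_mul, DualNumber.eps_mul_eps, map_zero]
  have hεπ : π εR = 0 := by
    rw [hπ, hpa, he]
    change algebraMap k Γ(X, ⊤) (0 : k) = 0
    rw [map_zero]
  have hker : ∀ r, π r = 0 → ∃ r', r = εR * r' := by
    intro r hr
    have h0 : (r : Γ(ξ.total, ⊤)) ∈ RingHom.ker (proj ξ) :=
      (RingHom.mem_ker).2 ((hproj r).trans hr)
    have h1 : r ∈ (IsLocalRing.maximalIdeal (DualNumber k)).map φ := (ker_proj ξ).le h0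
    have h2 : IsLocalRing.maximalIdeal (DualNumber k) = Ideal.span {(DualNumber.eps : DualNumber k)} :=
      Groth.Agent.Lib.DefSchMarked.maximalIdeal_dualNumber k
    rw [h2, Ideal.map_span, Set.image_singleton, Ideal.mem_span_singleton'] at h1
    obtain ⟨a, ha⟩ := h1
    exact ⟨a, by rw [← ha, mul_comm]⟩
  -- the marked points as algebra maps
  let q : ι → (Γ(X, ⊤) →ₐ[k] k) := fun j =>
    { (Scheme.ΓSpecIso (CommRingCat.of k)).hom.hom.comp (p j).appTop.hom with
      commutes' := fun c => by
        change (Scheme.ΓSpecIso (CommRingCat.of k)).hom.hom ((p j).appTop.hom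
          (hX.appTop.hom ((Scheme.ΓSpecIso (CommRingCat.of k)).inv.hom c))) = c
        have h1 : hX.appTop ≫ (p j).appTop = 𝟙 _ := by
          rw [← Scheme.Hom.comp_appTop, hp j]
          rfl
        have h2 := congrArg (fun f => (Scheme.ΓSpecIso (CommRingCat.of k)).hom.hom
          (f.hom ((Scheme.ΓSpecIso (CommRingCat.of k)).inv.hom c))) h1
        refine h2.trans ?_
        change ((Scheme.ΓSpecIso (CommRingCat.of k)).inv ≫ (Scheme.ΓSpecIso (CommRingCat.of k)).hom).hom c = c
        rw [Iso.inv_hom_id]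
        rfl }
  have hqdef : ∀ j b, q j b = (Scheme.ΓSpecIso (CommRingCat.of k)).hom.hom ((p j).appTop.hom b) :=
    fun j b => rfl
  let q' : ι → (Γ(X', ⊤) →ₐ[k] DualNumber k) := fun j =>
    { (Scheme.ΓSpecIso (CommRingCat.of (DualNumber k))).hom.hom.comp (p' j).appTop.hom with
      commutes' := fun c => by
        change (Scheme.ΓSpecIso (CommRingCat.of (DualNumber k))).hom.hom ((p' j).appTop.hom
          (g.appTop.hom ((Scheme.ΓSpecIso (CommRingCat.of (DualNumber k))).inv.hom
            (algebraMap k (DualNumber k) c)))) = algebraMap k (DualNumber k) c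
        have h1 : g.appTop ≫ (p' j).appTop = 𝟙 _ := by
          rw [← Scheme.Hom.comp_appTop, hp' j]
          rfl
        have h2 := congrArg (fun f => (Scheme.ΓSpecIso (CommRingCat.of (DualNumber k))).hom.hom
          (f.hom ((Scheme.ΓSpecIso (CommRingCat.of (DualNumber k))).inv.hom
            (algebraMap k (DualNumber k) c)))) h1
        refine h2.trans ?_
        change ((Scheme.ΓSpecIso (CommRingCat.of (DualNumber k))).inv ≫
          (Scheme.ΓSpecIso (CommRingCat.of (DualNumber k))).hom).hom _ = _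
        rw [Iso.inv_hom_id]
        rfl }
  have hq'def : ∀ j r, q' j r = (Scheme.ΓSpecIso (CommRingCat.of (DualNumber k))).hom.hom
      ((p' j).appTop.hom r) := fun j r => rfl
  have hq'φ : ∀ j a, q' j (φ a) = a := by
    intro j a
    rw [hq'def, hφ]
    have h1 : g.appTop ≫ (p' j).appTop = 𝟙 _ := by
      rw [← Scheme.Hom.comp_appTop, hp' j]
      rfl
    have h2 := congrArg (fun f => (Scheme.ΓSpecIso (CommRingCat.of (DualNumber k))).hom.hom
      (f.hom ((Scheme.ΓSpecIso (CommRingCat.of (DualNumber k))).inv.hom a))) h1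
    refine h2.trans ?_
    change ((Scheme.ΓSpecIso (CommRingCat.of (DualNumber k))).inv ≫
      (Scheme.ΓSpecIso (CommRingCat.of (DualNumber k))).hom).hom _ = _
    rw [Iso.inv_hom_id]
    rfl
  have hq1 : ∀ j r, (q' j r).fst = q j (π r) := by
    intro j r
    rw [hqdef, hq'def, hπ]
    have h1 : i.appTop ≫ (p j).appTop = (p' j).appTop ≫
        (Spec.map (CommRingCat.ofHom e.toRingHom)).appTop := by
      rw [← Scheme.Hom.comp_appTop, ← Scheme.Hom.comp_appTop, hpp' j]
    have h2 := Scheme.ΓSpecIso_naturality (CommRingCat.ofHom e.toRingHom)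
    have h3 : (Scheme.ΓSpecIso (CommRingCat.of k)).hom.hom ((p j).appTop.hom (i.appTop.hom r)) =
        (Scheme.ΓSpecIso (CommRingCat.of k)).hom.hom
          ((Spec.map (CommRingCat.ofHom e.toRingHom)).appTop.hom ((p' j).appTop.hom r)) :=
      congrArg (fun f => (Scheme.ΓSpecIso (CommRingCat.of k)).hom.hom (f.hom r)) h1
    rw [h3]
    have h4 := congrArg (fun f => f.hom ((p' j).appTop.hom r)) h2
    refine Eq.trans ?_ h4.symm
    change _ = e _
    rw [he]
    rfl
  have hq2 : ∀ j, q' j εR = DualNumber.eps := fun j => hq'φ j _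
  have hqinj : Function.Injective q := by
    intro j j' h
    apply hinj
    apply ext_of_isAffine
    have h1 : ∀ b, (Scheme.ΓSpecIso (CommRingCat.of k)).hom.hom ((p j).appTop.hom b) =
        (Scheme.ΓSpecIso (CommRingCat.of k)).hom.hom ((p j').appTop.hom b) := fun b =>
      DFunLike.congr_fun h b
    ext b
    have h2 := congrArg (Scheme.ΓSpecIso (CommRingCat.of k)).inv.hom (h1 b)
    have h3 : ∀ z, (Scheme.ΓSpecIso (CommRingCat.of k)).inv.hom
        ((Scheme.ΓSpecIso (CommRingCat.of k)).hom.hom z) = z := by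
      intro z
      change ((Scheme.ΓSpecIso (CommRingCat.of k)).hom ≫ (Scheme.ΓSpecIso (CommRingCat.of k)).inv).hom z = z
      rw [Iso.hom_inv_id]
      rfl
    rw [h3, h3] at h2
    exact h2
  obtain ⟨s, hs1, hs2⟩ := Groth.Agent.Lib.DefSchMarked.exists_marked_section π hπsurj εR hε hεπ hker
    q hqinj q' hq1 hq2
  obtain ⟨ψ, h1, h2, h3⟩ := exists_iso_of_section hX e g hg i hsq s.toRingHom
    (fun b => hs1 b) (fun c => s.commutes c)
  refine ⟨ψ, h1, h2, fun j => ?_⟩
  rw [h3]
  -- LHS
  have hL : p' j ≫ X'.toSpecΓ = Spec.map ((p' j).appTop ≫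
      (Scheme.ΓSpecIso (CommRingCat.of (DualNumber k))).hom) := by
    rw [Scheme.toSpecΓ_naturality, Spec.map_comp, ← Scheme.isoSpec_Spec_hom]
    rfl
  have hR : p j = Spec.map ((p j).appTop ≫ (Scheme.ΓSpecIso (CommRingCat.of k)).hom) ≫
      X.isoSpec.inv := by
    rw [Iso.eq_comp_inv, Spec.map_comp, ← Scheme.isoSpec_Spec_hom]
    exact Scheme.toSpecΓ_naturality (p j)
  rw [← Category.assoc, hL, ← Category.assoc, ← Spec.map_comp]
  conv_rhs => rw [hR, ← Category.assoc, ← Spec.map_comp]
  congr 2
  refine CommRingCat.hom_ext (RingHom.ext fun b => ?_)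
  change q' j (s b) = algebraMap k (DualNumber k) (q j b)
  rw [hs2]
  rfl

end Groth.Agent.S15991aux

namespace Groth.Agent.S15991

open AlgebraicGeometry CategoryTheory in
/-- Let k be a field and X an affine scheme smooth over k, with finitely many pairwise distinct
k-rational points p_j (j ∈ ι). Let X' → Spec k[ε] be flat, i : X → X' a morphism making X the fibre
over the closed point Spec k → Spec k[ε] (cartesian square), and p'_j : Spec k[ε] → X' sections
restricting to the p_j. Then there is an isomorphism φ : X' ≅ X ×_{Spec k} Spec k[ε] over Spec k[ε]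
such that i followed by φ is the inclusion of X at the closed point (its first component is the
identity of X) and each p'_j followed by φ is the constant section through p_j: every first-order
deformation of a smooth affine scheme with marked points is trivial. (The source says non-singular;
smooth over k is assumed here, and the marked points are taken pairwise distinct and finite in
number.) -/
theorem result
    (k : Type u) [Field k] (X : Scheme.{u}) (hX : X ⟶ Spec (CommRingCat.of k)) [IsAffine X] [Smooth hX]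
    {ι : Type v} [Finite ι] (p : ι → (Spec (CommRingCat.of k) ⟶ X)) (hp : ∀ j, p j ≫ hX = 𝟙 _)
    (hinj : Function.Injective p)
    (X' : Scheme.{u}) (g : X' ⟶ Spec (CommRingCat.of (DualNumber k))) [Flat g] (i : X ⟶ X')
    (hsq : IsPullback i hX g
      (Spec.map (CommRingCat.ofHom (TrivSqZeroExt.fstHom k k k).toRingHom)))
    (p' : ι → (Spec (CommRingCat.of (DualNumber k)) ⟶ X')) (hp' : ∀ j, p' j ≫ g = 𝟙 _)
    (hpp' : ∀ j, p j ≫ i = Spec.map (CommRingCat.ofHom (TrivSqZeroExt.fstHom k k k).toRingHom) ≫ p' j) :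
    ∃ φ : X' ≅ Limits.pullback hX (Spec.map (CommRingCat.ofHom (algebraMap k (DualNumber k)))),
      φ.hom ≫ Limits.pullback.snd hX (Spec.map (CommRingCat.ofHom (algebraMap k (DualNumber k)))) = g ∧
        i ≫ φ.hom ≫ Limits.pullback.fst hX (Spec.map (CommRingCat.ofHom (algebraMap k (DualNumber k)))) = 𝟙 X ∧
          ∀ j, p' j ≫ φ.hom ≫
              Limits.pullback.fst hX (Spec.map (CommRingCat.ofHom (algebraMap k (DualNumber k)))) =
            Spec.map (CommRingCat.ofHom (algebraMap k (DualNumber k))) ≫ p j := by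
  exact Groth.Agent.S15991aux.main k X hX p hp hinj X' g inferInstance i
    (TrivSqZeroExt.fstHom k k k) rfl hsq p' hp' hpp'

end Groth.Agent.S15991
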