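import Groth.Statements.S15993
import Groth.Agent.Lib.SchDense68
import Mathlib.AlgebraicGeometry.Morphisms.FlatMono
import Mathlib.AlgebraicGeometry.Morphisms.SchemeTheoreticallyDominant
import Mathlib.CategoryTheory.Limits.EpiMono
-- import your own Groth.Agent.* helpers here

set_option autoImplicit false
open CategoryTheory AlgebraicGeometry
universe u
open EtHull

namespace Groth.Agent.S15993

/-- Let f : X → S be a morphism of schemes which is faithfully flat (flat and surjective), quasi-compact
and separated, and schematically birational in the following sense: there are schematically dense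
opens U of S and V of X, with the inclusion V → X quasi-compact, such that f maps V into U and the
induced morphism V → U is an isomorphism. Then f is an isomorphism. (The source states this for
algebraic spaces and puts no quasi-compactness condition on the dense opens. Its proof base-changes
along f and uses that the inverse image of V in X ×_S X is again schematically dense, which holds
when V → X is quasi-compact, for instance when X is locally Noetherian, and fails in general: over
the Boolean ring of eventually constant sequences of elements of the field with two elements, the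
spectrum of the ring of eventually two-periodic sequences is faithfully flat and affine, and it is
an isomorphism above the open set of principal points, which is schematically dense on both sides,
yet it is not an isomorphism, the point at infinity being doubled. So V is taken retrocompact in X
here, and X, S are schemes.) -/
theorem result {X S : Scheme.{u}} (f : X ⟶ S)
    [Flat f] [Surjective f] [QuasiCompact f] [IsSeparated f]
    (U : S.Opens) (V : X.Opens) [QuasiCompact V.ι]
    (hU : CInt.IsSchematicallyDense U) (hV : CInt.IsSchematicallyDense V)
    (hle : V ≤ f ⁻¹ᵁ U) (hiso : IsIso (f.resLE U V hle)) : IsIso f := by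
  open CategoryTheory.Limits Groth.Agent.Lib.SchDense68 in
  have hVd : IsSchemeTheoreticallyDominant V.ι := isSchemeTheoreticallyDominant_ι V hV
  -- the open `p₂⁻¹ V` of `X ×_S X`
  let T : (pullback f f).Opens := (pullback.snd f f) ⁻¹ᵁ V
  have hT : IsSchemeTheoreticallyDominant T.ι :=
    IsSchemeTheoreticallyDominant.of_isPullback (isPullback_morphismRestrict (pullback.snd f f) V)
  -- the open `p₁⁻¹ V` of `p₂⁻¹ V`
  let g : (T : Scheme.{u}) ⟶ X := T.ι ≫ pullback.fst f f
  let W : (T : Scheme.{u}).Opens := g ⁻¹ᵁ V
  have hW : IsSchemeTheoreticallyDominant W.ι :=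
    IsSchemeTheoreticallyDominant.of_isPullback (isPullback_morphismRestrict g V)
  let j : (W : Scheme.{u}) ⟶ pullback f f := W.ι ≫ T.ι
  have hj : IsSchemeTheoreticallyDominant j := inferInstance
  -- the two projections agree on `W`
  have h1 : j ≫ pullback.fst f f = (g ∣_ V) ≫ V.ι := by
    rw [Category.assoc]
    exact (morphismRestrict_ι g V).symm
  have h2 : j ≫ pullback.snd f f = (W.ι ≫ (pullback.snd f f ∣_ V)) ≫ V.ι := by
    rw [Category.assoc, Category.assoc, morphismRestrict_ι]
  have hVf : V.ι ≫ f = f.resLE U V hle ≫ U.ι := (Scheme.Hom.resLE_comp_ι f hle).symm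
  have hab : (g ∣_ V) = W.ι ≫ (pullback.snd f f ∣_ V) := by
    rw [← cancel_mono (f.resLE U V hle), ← cancel_mono U.ι]
    calc ((g ∣_ V) ≫ f.resLE U V hle) ≫ U.ι = ((g ∣_ V) ≫ V.ι) ≫ f := by
          simp only [Category.assoc, hVf]
      _ = (j ≫ pullback.fst f f) ≫ f := by rw [h1]
      _ = (j ≫ pullback.snd f f) ≫ f := by simp only [Category.assoc, pullback.condition]
      _ = ((W.ι ≫ (pullback.snd f f ∣_ V)) ≫ V.ι) ≫ f := by rw [h2]
      _ = ((W.ι ≫ (pullback.snd f f ∣_ V)) ≫ f.resLE U V hle) ≫ U.ι := by
          simp only [Category.assoc, hVf]
  have h12 : j ≫ pullback.fst f f = j ≫ pullback.snd f f := by rw [h1, h2, hab]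
  -- hence `j` factors through the diagonal
  have hfac : (j ≫ pullback.fst f f) ≫ pullback.diagonal f = j := by
    apply pullback.hom_ext
    · rw [Category.assoc, pullback.diagonal_fst, Category.comp_id]
    · rw [Category.assoc, pullback.diagonal_snd, Category.comp_id, h12]
  have hker : (pullback.diagonal f).ker = ⊥ := by
    have h3 := Scheme.Hom.le_ker_comp (j ≫ pullback.fst f f) (pullback.diagonal f)
    rw [hfac, j.ker_eq_bot] at h3
    exact le_bot_iff.mp h3
  have hΔ : IsIso (pullback.diagonal f) := isIso_of_isClosedImmersion_of_ker_eq_bot _ hker
  have hpp : pullback.fst f f = pullback.snd f f := by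
    rw [← cancel_epi (pullback.diagonal f), pullback.diagonal_fst, pullback.diagonal_snd]
  have hmono : Mono f := (mono_iff_fst_eq_snd (pullbackIsPullback f f)).mpr hpp
  exact Flat.isIso_of_surjective_of_mono f

end Groth.Agent.S15993
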