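import Groth.Statements.S15995
import Mathlib

set_option autoImplicit false
open CategoryTheory AlgebraicGeometry
universe u
open FrobSch

namespace Groth.Agent.S15995

open CategoryTheory CategoryTheory.Limits AlgebraicGeometry

theorem isIso_relFrob_iff (p : ℕ) [Fact p.Prime] {Y T : Scheme.{u}} [IsCharP T p] [IsCharP Y p]
    (q : Y ⟶ T) : IsIso (relFrob q p) ↔ IsPullback (frob Y p) q q (frob T p) := by
  constructor
  · intro h
    exact IsPullback.of_iso_pullback ⟨frob_comp p q⟩ (asIso (relFrob q p)) (relFrob_fst q p)
      (relFrob_snd q p)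
  · intro h
    have : relFrob q p = h.isoPullback.hom := by
      apply pullback.hom_ext
      · rw [relFrob_fst, h.isoPullback_hom_fst]
      · rw [relFrob_snd, h.isoPullback_hom_snd]
    rw [this]
    infer_instance

/-- base change of a relatively perfect morphism -/
theorem isIso_relFrob_snd (p : ℕ) [Fact p.Prime] {Y T S : Scheme.{u}} [IsCharP S p] [IsCharP T p]
    (r : Y ⟶ S) (f : T ⟶ S) (hr : IsIso (relFrob r p)) : IsIso (relFrob (pullback.snd r f) p) := by
  haveI : IsCharP Y p := IsCharP.of_hom r p
  haveI : IsCharP (pullback r f) p := IsCharP.of_hom (pullback.snd r f) p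
  rw [isIso_relFrob_iff] at hr ⊢
  have hb : IsPullback (pullback.fst r f) (pullback.snd r f) r f := IsPullback.of_hasPullback r f
  -- outer square
  have houter : IsPullback (pullback.fst r f ≫ frob Y p) (pullback.snd r f) r (f ≫ frob S p) :=
    hb.paste_horiz hr
  have houter' : IsPullback (frob (pullback r f) p ≫ pullback.fst r f) (pullback.snd r f) r
      (frob T p ≫ f) := by
    rw [frob_comp, frob_comp]
    exact houter
  exact IsPullback.of_right houter' (frob_comp p _) hb


/-- Coperfection commutes with base restriction. Let S and T be schemes of characteristic p and f : T →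
S a relatively perfect morphism (its relative Frobenius T → T^(p/S) is an isomorphism). Let g : X →
T and let c : X → X' be a T-morphism to a relatively perfect T-scheme π : X' → T which is a
coperfection of X over T: for every relatively perfect T-scheme Y, every T-morphism X → Y factors
uniquely through c. Then X' with structure map π ≫ f is relatively perfect over S and c is a
coperfection of X over S: every S-morphism from X to a relatively perfect S-scheme factors uniquely
through c. (The source works with algebraic spaces; schemes here.) -/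
theorem result (p : ℕ) [Fact p.Prime] {X X' T S : Scheme.{u}}
    [FrobSch.IsCharP S p] [FrobSch.IsCharP T p] (f : T ⟶ S) (hf : IsIso (FrobSch.relFrob f p))
    (g : X ⟶ T) (π : X' ⟶ T) (hπ : IsIso (FrobSch.relFrob π p)) (c : X ⟶ X') (hc : c ≫ π = g)
    (huniv : ∀ (Y : Scheme.{u}) (q : Y ⟶ T), IsIso (FrobSch.relFrob q p) →
      ∀ k : X ⟶ Y, k ≫ q = g → ∃! h : X' ⟶ Y, h ≫ q = π ∧ c ≫ h = k) :
    IsIso (FrobSch.relFrob (π ≫ f) p) ∧
      ∀ (Y : Scheme.{u}) (r : Y ⟶ S), IsIso (FrobSch.relFrob r p) →
        ∀ k : X ⟶ Y, k ≫ r = g ≫ f → ∃! h : X' ⟶ Y, h ≫ r = π ≫ f ∧ c ≫ h = k := by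
  haveI : IsCharP X' p := IsCharP.of_hom π p
  refine ⟨?_, ?_⟩
  · have h1 := (isIso_relFrob_iff p π).mp hπ
    have h2 := (isIso_relFrob_iff p f).mp hf
    exact (isIso_relFrob_iff p (π ≫ f)).mpr (h1.paste_vert h2)
  · intro Y r hr k hk
    have hq : IsIso (relFrob (pullback.snd r f) p) := isIso_relFrob_snd p r f hr
    obtain ⟨h', ⟨hh1, hh2⟩, huniq⟩ := huniv (pullback r f) (pullback.snd r f) hq
      (pullback.lift k g hk) (pullback.lift_snd _ _ _)
    refine ⟨h' ≫ pullback.fst r f, ⟨?_, ?_⟩, ?_⟩
    · rw [Category.assoc, pullback.condition, ← Category.assoc, hh1]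
    · rw [← Category.assoc, hh2, pullback.lift_fst]
    · rintro h₂ ⟨hh3, hh4⟩
      have := huniq (pullback.lift h₂ π hh3) ⟨pullback.lift_snd _ _ _, by
        apply pullback.hom_ext
        · rw [Category.assoc, pullback.lift_fst, pullback.lift_fst, hh4]
        · rw [Category.assoc, pullback.lift_snd, pullback.lift_snd, hc]⟩
      rw [← this, pullback.lift_fst]

end Groth.Agent.S15995
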