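import Groth.Statements.S16000
import Mathlib

set_option autoImplicit false
universe u
open FrobAlg

namespace Groth.Agent.S16000

set_option linter.style.haveILetI false

section helpers
open TensorProduct

universe v w x y

variable {R : Type u} [CommRing R]

/-- Lemma B, part 1: projective `Q`: `Q ⊗ ΠT → Π (Q ⊗ T)` has trivial kernel. -/
theorem projective_tensor_pi (Q : Type v) [AddCommGroup Q] [Module R Q] [Module.Projective R Q]
    {ι : Type w} (T : ι → Type x) [∀ i, AddCommGroup (T i)] [∀ i, Module R (T i)]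
    (z : Q ⊗[R] (Π i, T i))
    (hz : ∀ i, (LinearMap.proj i : (Π i, T i) →ₗ[R] T i).lTensor Q z = 0) : z = 0 := by
  classical
  obtain ⟨s, hs⟩ := (Module.projective_def' (R := R) (P := Q)).mp inferInstance
  -- the embedding `Q ⊗ X → (Q →₀ X)`
  have key : ∀ (X : Type (max w x)) (Y : Type x) [AddCommGroup X] [Module R X] [AddCommGroup Y] [Module R Y]
      (g : X →ₗ[R] Y) (w : Q ⊗[R] X),
      TensorProduct.finsuppScalarLeft R Y Q (s.rTensor Y (g.lTensor Q w)) =
        Finsupp.mapRange.linearMap g (TensorProduct.finsuppScalarLeft R X Q (s.rTensor X w)) := by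
    intro X Y _ _ _ _ g w
    induction w using TensorProduct.induction_on with
    | zero => simp
    | tmul q x =>
      ext a
      simp [TensorProduct.finsuppScalarLeft_apply_tmul_apply]
    | add a b ha hb => simp only [map_add, ha, hb]
  have hinj : Function.Injective (s.rTensor (Π i, T i)) := by
    have h1 : (Finsupp.linearCombination R id).rTensor (Π i, T i) ∘ₗ s.rTensor (Π i, T i) =
        LinearMap.id := by
      rw [← LinearMap.rTensor_comp, hs, LinearMap.rTensor_id]
    exact Function.LeftInverse.injective (g := (Finsupp.linearCombination R id).rTensor (Π i, T i))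
      (fun w => LinearMap.congr_fun h1 w)
  apply hinj
  apply (TensorProduct.finsuppScalarLeft R (Π i, T i) Q).injective
  rw [map_zero, map_zero]
  ext a i
  have := key (Π i, T i) (T i) (LinearMap.proj i) z
  rw [hz i, map_zero, map_zero] at this
  have h2 := DFunLike.congr_fun this a
  simpa using h2.symm


/-- Lemma A. -/
theorem tensor_pi_injective_of_union {M : Type v} [AddCommGroup M] [Module R M]
    (Mn : ℕ → Type w) [∀ n, AddCommGroup (Mn n)] [∀ n, Module R (Mn n)]
    [∀ n, Module.Projective R (Mn n)]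
    (φ : ∀ n, Mn n →ₗ[R] M) (u : ∀ n, Mn n →ₗ[R] Mn (n + 1))
    (hu : ∀ n, φ (n + 1) ∘ₗ u n = φ n)
    (hsurj : ∀ m : M, ∃ n x, φ n x = m)
    {ι : Type x} (T : ι → Type y) [∀ i, AddCommGroup (T i)] [∀ i, Module R (T i)]
    {P : Type*} [AddCommGroup P] [Module R P] (j : P →ₗ[R] Π i, T i)
    (hj : Function.Injective j)
    (hpure : ∀ n i, Function.Injective ((φ n).rTensor (T i))) :
    Function.Injective
      (LinearMap.pi fun i => ((LinearMap.proj i : (Π i, T i) →ₗ[R] T i) ∘ₗ j).lTensor M) := by
  -- ranges are monotone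
  have hmono : ∀ n k, ∃ v : Mn n →ₗ[R] Mn (n + k), φ (n + k) ∘ₗ v = φ n := by
    intro n k
    induction k with
    | zero => exact ⟨LinearMap.id, by simp⟩
    | succ k ih =>
      obtain ⟨v, hv⟩ := ih
      refine ⟨u (n + k) ∘ₗ v, ?_⟩
      rw [← LinearMap.comp_assoc]
      have := hu (n + k)
      change (φ (n + k + 1) ∘ₗ u (n + k)) ∘ₗ v = φ n
      rw [this, hv]
  have hle : ∀ n n', n ≤ n' → ∀ z : Mn n ⊗[R] P, ∃ z' : Mn n' ⊗[R] P,
      (φ n').rTensor P z' = (φ n).rTensor P z := by
    intro n n' h z
    obtain ⟨k, rfl⟩ := Nat.exists_eq_add_of_le h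
    obtain ⟨v, hv⟩ := hmono n k
    refine ⟨v.rTensor P z, ?_⟩
    rw [← LinearMap.comp_apply, ← LinearMap.rTensor_comp, hv]
  have hex : ∀ z : M ⊗[R] P, ∃ n, ∃ zn : Mn n ⊗[R] P, (φ n).rTensor P zn = z := by
    intro z
    induction z using TensorProduct.induction_on with
    | zero => exact ⟨0, 0, map_zero _⟩
    | tmul m q =>
      obtain ⟨n, xx, hx⟩ := hsurj m
      exact ⟨n, xx ⊗ₜ q, by simp [hx]⟩
    | add a b ha hb =>
      obtain ⟨n₁, z₁, h₁⟩ := ha
      obtain ⟨n₂, z₂, h₂⟩ := hb
      obtain ⟨z₁', h₁'⟩ := hle n₁ (max n₁ n₂) (le_max_left _ _) z₁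
      obtain ⟨z₂', h₂'⟩ := hle n₂ (max n₁ n₂) (le_max_right _ _) z₂
      exact ⟨max n₁ n₂, z₁' + z₂', by rw [map_add, h₁', h₂', h₁, h₂]⟩
  rw [injective_iff_map_eq_zero]
  intro z hz
  obtain ⟨n, zn, rfl⟩ := hex z
  have hz' : ∀ i, ((LinearMap.proj i : (Π i, T i) →ₗ[R] T i) ∘ₗ j).lTensor M
      ((φ n).rTensor P zn) = 0 := fun i => congrFun hz i
  have h1 : ∀ i, ((LinearMap.proj i : (Π i, T i) →ₗ[R] T i) ∘ₗ j).lTensor (Mn n) zn = 0 := by
    intro i
    apply hpure n i
    rw [map_zero, ← LinearMap.comp_apply, LinearMap.rTensor_comp_lTensor,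
      ← LinearMap.lTensor_comp_rTensor, LinearMap.comp_apply]
    exact hz' i
  have h2 : (j.lTensor (Mn n)) zn = 0 := by
    apply projective_tensor_pi (Mn n) T
    intro i
    rw [← LinearMap.comp_apply, ← LinearMap.lTensor_comp]
    exact h1 i
  have h3 : Function.Injective (j.lTensor (Mn n)) :=
    Module.Flat.lTensor_preserves_injective_linearMap j hj
  rw [h3 (h2.trans (map_zero _).symm), map_zero]


section B



/-- purity of a faithfully flat algebra map, in tower form -/
theorem pure_of_faithfullyFlat (S : Type v) (B : Type w) [CommRing S] [CommRing B]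
    [Algebra R S] [Algebra S B] [Algebra R B] [IsScalarTower R S B] [Module.FaithfullyFlat S B]
    (T : Type x) [AddCommGroup T] [Module R T] :
    Function.Injective ((IsScalarTower.toAlgHom R S B).toLinearMap.rTensor T) := by
  have h1 : Function.Injective (TensorProduct.mk S B (S ⊗[R] T) 1) :=
    Module.FaithfullyFlat.tensorProduct_mk_injective (A := S) (B := B) (S ⊗[R] T)
  have h2 : ∀ z : S ⊗[R] T, (IsScalarTower.toAlgHom R S B).toLinearMap.rTensor T z =
      TensorProduct.AlgebraTensorModule.cancelBaseChange R S S B T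
        (TensorProduct.mk S B (S ⊗[R] T) 1 z) := by
    intro z
    induction z using TensorProduct.induction_on with
    | zero => simp
    | tmul s t =>
      simp [Algebra.smul_def]
    | add a b ha hb => simp only [map_add, ha, hb]
  intro a b hab
  rw [h2, h2] at hab
  exact h1 ((TensorProduct.AlgebraTensorModule.cancelBaseChange R S S B T).injective hab)

/-- Lemma D: a module which is a directed union of flat modules in the direct-limit sense is
flat. -/
theorem flat_of_directed {M : Type v} [AddCommGroup M] [Module R M]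
    (Mn : ℕ → Type w) [∀ n, AddCommGroup (Mn n)] [∀ n, Module R (Mn n)]
    [∀ n, Module.Flat R (Mn n)]
    (φ : ∀ n, Mn n →ₗ[R] M) (u : ∀ n m, Mn n →ₗ[R] Mn (n + m))
    (hu : ∀ n m, φ (n + m) ∘ₗ u n m = φ n)
    (hsurj : ∀ m : M, ∃ n x, φ n x = m)
    (hker : ∀ n w, φ n w = 0 → ∃ m, u n m w = 0) : Module.Flat R M := by
  have hle : ∀ n n', n ≤ n' → ∀ z : Mn n, ∃ z' : Mn n', φ n' z' = φ n z := by
    intro n n' h z
    obtain ⟨k, rfl⟩ := Nat.exists_eq_add_of_le h
    exact ⟨u n k z, LinearMap.congr_fun (hu n k) z⟩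
  apply Module.Flat.of_forall_isTrivialRelation
  intro l f xx hfx
  -- common level
  have hcommon : ∃ n, ∃ yy : Fin l → Mn n, ∀ i, φ n (yy i) = xx i := by
    choose ni yi hyi using fun i => hsurj (xx i)
    have : ∀ i, ∃ z' : Mn (Finset.univ.sup ni), φ _ z' = φ (ni i) (yi i) :=
      fun i => hle (ni i) _ (Finset.le_sup (f := ni) (Finset.mem_univ i)) (yi i)
    choose yy hyy using this
    exact ⟨_, yy, fun i => (hyy i).trans (hyi i)⟩
  obtain ⟨n, yy, hyy⟩ := hcommon
  have h0 : φ n (∑ i, f i • yy i) = 0 := by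
    rw [map_sum]
    simp only [map_smul, hyy]
    exact hfx
  obtain ⟨m, hm⟩ := hker n _ h0
  rw [map_sum] at hm
  simp only [map_smul] at hm
  obtain ⟨k, a, z, hz1, hz2⟩ := Module.Flat.isTrivialRelation_of_sum_smul_eq_zero hm
  refine ⟨k, a, fun j => φ (n + m) (z j), fun i => ?_, hz2⟩
  have hz1' : u n m (yy i) = ∑ j, a i j • z j := hz1 i
  rw [← hyy i, ← LinearMap.congr_fun (hu n m) (yy i), LinearMap.comp_apply, hz1', map_sum]
  simp only [map_smul]


end B


/-- transitivity of projectivity -/
theorem projective_trans (R : Type u) (S : Type v) (N : Type w) [CommRing R] [CommRing S]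
    [Algebra R S] [AddCommGroup N] [Module R N] [Module S N] [IsScalarTower R S N]
    [Module.Projective R S] [Module.Projective S N] : Module.Projective R N := by
  classical
  obtain ⟨s, hs⟩ := (Module.projective_def' (R := S) (P := N)).mp inferInstance
  haveI : Module.Projective R (N →₀ S) :=
    Module.Projective.of_equiv' (finsuppLequivDFinsupp (ι := N) (M := S) R).symm
  refine Module.Projective.of_split (s.restrictScalars R)
    ((Finsupp.linearCombination S id).restrictScalars R) ?_
  ext z
  exact LinearMap.congr_fun hs z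

section frob
variable (p : ℕ) [Fact p.Prime] (R : Type u) [CommRing R] [CharP R p]

/-- `R` as an `R`-algebra via `x ↦ x ^ p ^ n`. -/
def Rn (_p : ℕ) (R : Type u) (_n : ℕ) : Type u := R

instance (n : ℕ) : CommRing (Rn p R n) := inferInstanceAs (CommRing R)

/-- identity -/
def Rn.mk (n : ℕ) : R ≃+* Rn p R n := RingEquiv.refl R

noncomputable instance (n : ℕ) : Algebra R (Rn p R n) :=
  ((Rn.mk p R n : R →+* Rn p R n).comp (iterateFrobenius R p n)).toAlgebra

theorem Rn.smul_def (n : ℕ) (r : R) (z : Rn p R n) :
    r • z = Rn.mk p R n (r ^ p ^ n) * z := rfl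

/-- transition maps -/
noncomputable def uu (n m : ℕ) : Rn p R n →ₗ[R] Rn p R (n + m) where
  toFun z := Rn.mk p R (n + m) (((Rn.mk p R n).symm z) ^ p ^ m)
  map_add' a b := by
    rw [map_add, ← iterateFrobenius_def, map_add, map_add, iterateFrobenius_def,
      iterateFrobenius_def]
  map_smul' r z := by
    rw [Rn.smul_def, Rn.smul_def, RingHom.id_apply, map_mul, RingEquiv.symm_apply_apply, mul_pow,
      map_mul, ← pow_mul, ← pow_add]

theorem projective_Rn [Module.Projective R (FrobAlg.Twist p R)] (n : ℕ) :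
    Module.Projective R (Rn p R n) := by
  induction n with
  | zero =>
    refine Module.Projective.of_equiv' (M := R) (R := R)
      { toFun := Rn.mk p R 0, invFun := (Rn.mk p R 0).symm, map_add' := map_add _,
        map_smul' := ?_, left_inv := fun z => rfl, right_inv := fun z => rfl }
    intro r z
    rw [Rn.smul_def, pow_zero, pow_one, RingHom.id_apply, smul_eq_mul, map_mul]
  | succ n ih =>
    -- `Rn (n+1)` as a module over `Twist p R`
    letI : Module (FrobAlg.Twist p R) (Rn p R (n + 1)) :=
      Module.compHom _ ((Rn.mk p R (n + 1) : R →+* Rn p R (n + 1)).comp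
        ((iterateFrobenius R p n).comp ((FrobAlg.toTwist p R).symm : FrobAlg.Twist p R →+* R)))
    have hsm : ∀ (t : FrobAlg.Twist p R) (z : Rn p R (n + 1)),
        t • z = Rn.mk p R (n + 1) (((FrobAlg.toTwist p R).symm t) ^ p ^ n) * z := fun t z => rfl
    haveI : IsScalarTower R (FrobAlg.Twist p R) (Rn p R (n + 1)) := by
      refine ⟨fun r t z => ?_⟩
      rw [hsm, hsm, Rn.smul_def, Algebra.smul_def, FrobAlg.algebraMap_twist, map_mul,
        RingEquiv.symm_apply_apply, mul_pow, ← pow_mul, ← pow_succ', map_mul, mul_assoc]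
    haveI : Module.Projective (FrobAlg.Twist p R) (Rn p R (n + 1)) := by
      haveI := RingHomInvPair.of_ringEquiv (FrobAlg.toTwist p R)
      haveI := RingHomInvPair.of_ringEquiv_symm (FrobAlg.toTwist p R)
      refine Module.Projective.of_equiv (R := R) (S := FrobAlg.Twist p R) (M := Rn p R n)
        (σ := (FrobAlg.toTwist p R : R →+* FrobAlg.Twist p R))
        (σ' := ((FrobAlg.toTwist p R).symm : FrobAlg.Twist p R →+* R))
        { toFun := fun z => Rn.mk p R (n + 1) ((Rn.mk p R n).symm z)
          invFun := fun z => Rn.mk p R n ((Rn.mk p R (n + 1)).symm z)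
          map_add' := fun a b => by rw [map_add, map_add]
          map_smul' := ?_
          left_inv := fun z => rfl
          right_inv := fun z => rfl }
      intro r z
      rw [hsm, Rn.smul_def, map_mul, map_mul, RingEquiv.symm_apply_apply, RingEquiv.coe_toRingHom,
        RingEquiv.symm_apply_apply]
    exact projective_trans R (FrobAlg.Twist p R) (Rn p R (n + 1))

end frob

section pc
variable (p : ℕ) [Fact p.Prime] (R : Type u) [CommRing R] [CharP R p]

/-- the algebra structure of the statement -/
noncomputable local instance algPC : Algebra R (PerfectClosure R p) :=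
  (PerfectClosure.of R p).toAlgebra

/-- `x ↦ x^{1/p^n}` -/
noncomputable def psi (n : ℕ) : Rn p R n →+* PerfectClosure R p :=
  ((iterateFrobeniusEquiv (PerfectClosure R p) p n).symm :
      PerfectClosure R p →+* PerfectClosure R p).comp
    ((PerfectClosure.of R p).comp ((Rn.mk p R n).symm : Rn p R n →+* R))

theorem psi_apply (n : ℕ) (z : Rn p R n) : psi p R n z =
    (iterateFrobeniusEquiv (PerfectClosure R p) p n).symm
      (PerfectClosure.of R p ((Rn.mk p R n).symm z)) := rfl

theorem psi_mk (n : ℕ) (z : R) :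
    psi p R n (Rn.mk p R n z) = PerfectClosure.mk R p (n, z) := by
  rw [psi_apply, RingEquiv.symm_apply_apply, RingEquiv.symm_apply_eq, coe_iterateFrobeniusEquiv,
    coe_iterateFrobenius, PerfectClosure.iterate_frobenius_mk]

noncomputable instance algPsi (n : ℕ) : Algebra (Rn p R n) (PerfectClosure R p) :=
  (psi p R n).toAlgebra

instance towerPsi (n : ℕ) : IsScalarTower R (Rn p R n) (PerfectClosure R p) := by
  refine IsScalarTower.of_algebraMap_eq (fun r => ?_)
  change PerfectClosure.of R p r = psi p R n (Rn.mk p R n (r ^ p ^ n))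
  rw [psi_apply, RingEquiv.symm_apply_apply, map_pow, ← iterateFrobeniusEquiv_def,
    RingEquiv.symm_apply_apply]

/-- the maps `R_n → R'` -/
noncomputable def phi (n : ℕ) : Rn p R n →ₗ[R] PerfectClosure R p :=
  (IsScalarTower.toAlgHom R (Rn p R n) (PerfectClosure R p)).toLinearMap

theorem phi_apply (n : ℕ) (z : Rn p R n) : phi p R n z = psi p R n z := rfl

theorem phi_uu (n m : ℕ) : phi p R (n + m) ∘ₗ uu p R n m = phi p R n := by
  ext z
  rw [LinearMap.comp_apply, phi_apply, phi_apply, psi_apply, psi_apply]
  change (iterateFrobeniusEquiv (PerfectClosure R p) p (n + m)).symm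
    (PerfectClosure.of R p (((Rn.mk p R n).symm z) ^ p ^ m)) = _
  rw [iterateFrobeniusEquiv_symm_add_apply, map_pow, ← iterateFrobeniusEquiv_def,
    RingEquiv.symm_apply_apply]

theorem phi_surj (z : PerfectClosure R p) : ∃ n w, phi p R n w = z := by
  obtain ⟨⟨n, w⟩, rfl⟩ := PerfectClosure.mk_surjective R p z
  exact ⟨n, Rn.mk p R n w, psi_mk p R n w⟩

theorem phi_ker (n : ℕ) (w : Rn p R n) (h : phi p R n w = 0) : ∃ m, uu p R n m w = 0 := by
  rw [phi_apply, psi_apply, map_eq_zero_iff _ (RingEquiv.injective _), PerfectClosure.of_apply,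
    PerfectClosure.zero_def, PerfectClosure.mk_eq_iff] at h
  obtain ⟨m, hm⟩ := h
  refine ⟨m, ?_⟩
  simp only [zero_add, ← coe_iterateFrobenius, map_zero] at hm
  change Rn.mk p R (n + m) (((Rn.mk p R n).symm w) ^ p ^ m) = 0
  rw [← iterateFrobenius_def, hm, map_zero]


theorem flat_PC [Module.Projective R (FrobAlg.Twist p R)] :
    Module.Flat R (PerfectClosure R p) := by
  haveI : ∀ n, Module.Projective R (Rn p R n) := projective_Rn p R
  exact flat_of_directed (Rn p R) (phi p R) (uu p R) (phi_uu p R) (phi_surj p R)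
    (phi_ker p R)

theorem ff_PC [Module.Projective R (FrobAlg.Twist p R)] :
    Module.FaithfullyFlat R (PerfectClosure R p) := by
  haveI := flat_PC p R
  refine ⟨fun m hm htop => ?_⟩
  haveI : Nontrivial (R ⧸ m) := Ideal.Quotient.nontrivial_iff.mpr hm.ne_top
  haveI : CharP (R ⧸ m) p := by
    apply ringChar.of_eq
    apply CharP.ringChar_of_prime_eq_zero (Fact.out : p.Prime)
    rw [← map_natCast (Ideal.Quotient.mk m), CharP.cast_eq_zero, map_zero]
  let g : PerfectClosure R p →+* PerfectClosure (R ⧸ m) p :=
    PerfectClosure.lift R p (PerfectClosure (R ⧸ m) p)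
      ((PerfectClosure.of (R ⧸ m) p).comp (Ideal.Quotient.mk m))
  have hg : ∀ a : R, g (PerfectClosure.of R p a) =
      PerfectClosure.of (R ⧸ m) p (Ideal.Quotient.mk m a) := fun a => rfl
  rw [Ideal.smul_top_eq_map, Submodule.restrictScalars_eq_top_iff] at htop
  have hle : Ideal.map (algebraMap R (PerfectClosure R p)) m ≤ RingHom.ker g := by
    rw [Ideal.map_le_iff_le_comap]
    intro a ha
    rw [Ideal.mem_comap, RingHom.mem_ker]
    change g (PerfectClosure.of R p a) = 0
    rw [hg, Ideal.Quotient.eq_zero_iff_mem.mpr ha, map_zero]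
  have h1 : (1 : PerfectClosure R p) ∈ RingHom.ker g := hle (htop ▸ Submodule.mem_top)
  rw [RingHom.mem_ker, map_one, PerfectClosure.one_def, PerfectClosure.zero_def,
    PerfectClosure.mk_eq_iff] at h1
  obtain ⟨k, hk⟩ := h1
  simp only [← coe_iterateFrobenius, map_zero, map_one] at hk
  exact one_ne_zero hk


theorem ff_psi [Module.Projective R (FrobAlg.Twist p R)] (n : ℕ) :
    Module.FaithfullyFlat (Rn p R n) (PerfectClosure R p) := by
  have h0 : Module.FaithfullyFlat R (PerfectClosure R p) := ff_PC p R
  let mOf : Module (Rn p R n) (PerfectClosure R p) :=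
    inferInstanceAs (Module R (PerfectClosure R p))
  have h1 : @Module.FaithfullyFlat (Rn p R n) (PerfectClosure R p) _ _ mOf := h0
  have hsm : ∀ (r : Rn p R n) (z : PerfectClosure R p),
      @HSMul.hSMul _ _ _ (@instHSMul _ _ mOf.toSMul) r z =
        PerfectClosure.of R p ((Rn.mk p R n).symm r) * z := fun r z => rfl
  let e : @LinearEquiv (Rn p R n) (Rn p R n) _ _ (RingHom.id _) (RingHom.id _) _ _
      (PerfectClosure R p) (PerfectClosure R p) _ _ (algPsi p R n).toModule mOf :=
    @LinearEquiv.mk (Rn p R n) (Rn p R n) _ _ (RingHom.id _) (RingHom.id _) _ _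
      (PerfectClosure R p) (PerfectClosure R p) _ _ (algPsi p R n).toModule mOf
      (@LinearMap.mk (Rn p R n) (Rn p R n) _ _ (RingHom.id _)
        (PerfectClosure R p) (PerfectClosure R p) _ _ (algPsi p R n).toModule mOf
        ⟨fun z => iterateFrobeniusEquiv (PerfectClosure R p) p n z, map_add _⟩
        (by
          intro r z
          rw [RingHom.id_apply, hsm]
          change iterateFrobeniusEquiv (PerfectClosure R p) p n (psi p R n r * z) = _
          rw [map_mul, psi_apply, RingEquiv.apply_symm_apply]))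
      (iterateFrobeniusEquiv (PerfectClosure R p) p n).symm
      (fun z => RingEquiv.symm_apply_apply _ z) (fun z => RingEquiv.apply_symm_apply _ z)
  exact @Module.FaithfullyFlat.of_linearEquiv (Rn p R n) (PerfectClosure R p) _ _ mOf
    (PerfectClosure R p) _ (algPsi p R n).toModule h1 e

theorem phi_pure [Module.Projective R (FrobAlg.Twist p R)] (n : ℕ)
    (T : Type x) [AddCommGroup T] [Module R T] :
    Function.Injective ((phi p R n).rTensor T) := by
  haveI := ff_psi p R n
  exact pure_of_faithfullyFlat (R := R) (Rn p R n) (PerfectClosure R p) T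


theorem main (A : Type u) [CommRing A] [Algebra R A] [CharP A p]
    [Module.Projective R (FrobAlg.Twist p R)] :
    Function.Injective
      (LinearMap.pi fun i : ℕ =>
        LinearMap.lTensor (PerfectClosure R p)
          (((Pi.evalAlgHom R (fun k => W4c1imperftorsors.Twist p R A k) i).comp
            (W4c1imperftorsors.prePerf p R A).val).toLinearMap) :
        PerfectClosure R p ⊗[R] ↥(W4c1imperftorsors.prePerf p R A) →ₗ[R]
          (Π i : ℕ, PerfectClosure R p ⊗[R] W4c1imperftorsors.Twist p R A i)) := by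
  haveI : ∀ n, Module.Projective R (Rn p R n) := projective_Rn p R
  have h := tensor_pi_injective_of_union (R := R) (M := PerfectClosure R p) (Rn p R) (phi p R)
    (fun n => uu p R n 1) (fun n => phi_uu p R n 1) (phi_surj p R)
    (fun i : ℕ => W4c1imperftorsors.Twist p R A i)
    ((W4c1imperftorsors.prePerf p R A).val.toLinearMap) Subtype.val_injective
    (fun n i => phi_pure p R n _)
  exact h

end pc

end helpers


open TensorProduct in
/-- Let p be a prime, R a commutative ring of characteristic p such that R is a projective R-module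
through its absolute Frobenius, and A a commutative R-algebra of characteristic p, with Frobenius
twists A^{p^i/R} = R ⊗_{F^i,R} A, relative Frobenius maps A^{p^{i+1}/R} → A^{p^i/R} and
preperfection A^{p^∞/R} = lim_i A^{p^i/R} ⊆ Π_i A^{p^i/R}. Let R' be the direct-limit perfection
colim(R → R → ⋯) of R along Frobenius, an R-module through the canonical map R → R'. Then the
natural map R' ⊗_R A^{p^∞/R} → Π_i (R' ⊗_R A^{p^i/R}), r ⊗ x ↦ (r ⊗ x_i)_i, is injective; in
particular the base-change map R' ⊗_R lim_i A^{p^i/R} → lim_i (R' ⊗_R A^{p^i/R}) is injective. (The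
published statement identifies the target limit with the preperfection of A ⊗_R R' over R'; that
identification is not part of this row.) -/
theorem result
    (p : ℕ) [Fact p.Prime] (R : Type u) [CommRing R] [CharP R p]
    (A : Type u) [CommRing A] [Algebra R A] [CharP A p]
    [Module.Projective R (FrobAlg.Twist p R)] :
    letI : Algebra R (PerfectClosure R p) := (PerfectClosure.of R p).toAlgebra
    Function.Injective
      (LinearMap.pi fun i : ℕ =>
        LinearMap.lTensor (PerfectClosure R p)
          (((Pi.evalAlgHom R (fun k => W4c1imperftorsors.Twist p R A k) i).comp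
            (W4c1imperftorsors.prePerf p R A).val).toLinearMap) :
        PerfectClosure R p ⊗[R] ↥(W4c1imperftorsors.prePerf p R A) →ₗ[R]
          (Π i : ℕ, PerfectClosure R p ⊗[R] W4c1imperftorsors.Twist p R A i)) := by
  exact main p R A

end Groth.Agent.S16000
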