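import Groth.Statements.S16001
import Groth.Agent.S3177

set_option autoImplicit false
universe u
open FrobAlg

namespace Groth.Agent.S16001

open TensorProduct

section

variable (p : ℕ) [Fact p.Prime] (A : Type u) [CommRing A] [CharP A p]
  (B : Type u) [CommRing B] [Algebra A B] [CharP B p]

theorem relFrob_tmul (b : B) (a : FrobAlg.Twist p A) :
    FrobAlg.relFrob p A B (b ⊗ₜ a) = b ^ p * algebraMap A B ((FrobAlg.toTwist p A).symm a) := by
  simp only [FrobAlg.relFrob, FrobAlg.frobHom, FrobAlg.inclHom, AlgHom.toRingHom_eq_coe,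
    RingHom.coe_comp, RingHom.coe_coe, Function.comp_apply, Algebra.TensorProduct.lift_tmul]
  rfl

variable (C : Type u) [CommRing C] [Algebra A C] [CharP C p]

/-- Frobenius of `C` factors through `C ⧸ I` when `I ^ 2 = 0`. -/
noncomputable def phi (I : Ideal C) (hI : I ^ 2 = ⊥) : C ⧸ I →+* C :=
  Ideal.Quotient.lift I (frobenius C p) (fun x hx => by
    have hp : 2 ≤ p := (Fact.out : p.Prime).two_le
    have h1 : x ^ 2 ∈ I ^ 2 := Ideal.pow_mem_pow hx 2
    rw [hI, Ideal.mem_bot] at h1
    rw [frobenius_def, ← Nat.sub_add_cancel hp, pow_add, h1, mul_zero])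

theorem phi_mk (I : Ideal C) (hI : I ^ 2 = ⊥) (c : C) :
    phi p C I hI (Ideal.Quotient.mk I c) = c ^ p := by
  simp [phi, frobenius_def]

theorem mk_phi (I : Ideal C) (hI : I ^ 2 = ⊥) (x : C ⧸ I) :
    Ideal.Quotient.mk I (phi p C I hI x) = x ^ p := by
  obtain ⟨c, rfl⟩ := Ideal.Quotient.mk_surjective x
  rw [phi_mk, map_pow]

/-- The first leg. -/
noncomputable def F1 (I : Ideal C) (hI : I ^ 2 = ⊥) (f : B →ₐ[A] C ⧸ I) :
    B →ₐ[A] FrobAlg.Target p A C where
  toRingHom := (FrobAlg.toTarget p A C : C →+* FrobAlg.Target p A C).comp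
    ((phi p C I hI).comp f.toRingHom)
  commutes' a := by
    change FrobAlg.toTarget p A C (phi p C I hI (f (algebraMap A B a))) =
      FrobAlg.toTarget p A C ((algebraMap A C a) ^ p)
    rw [f.commutes, IsScalarTower.algebraMap_apply A C (C ⧸ I) a, Ideal.Quotient.algebraMap_eq,
      phi_mk]

/-- The ring map out of the twist. -/
noncomputable def G (I : Ideal C) (hI : I ^ 2 = ⊥) (f : B →ₐ[A] C ⧸ I) :
    FrobAlg.BaseChange p A B →+* C :=
  ((FrobAlg.toTarget p A C).symm : FrobAlg.Target p A C →+* C).comp
    (Algebra.TensorProduct.lift (F1 p A B C I hI f) (FrobAlg.inclHom p A C)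
      (fun _ _ => Commute.all _ _)).toRingHom

theorem G_tmul (I : Ideal C) (hI : I ^ 2 = ⊥) (f : B →ₐ[A] C ⧸ I) (b : B)
    (a : FrobAlg.Twist p A) :
    G p A B C I hI f (b ⊗ₜ a) =
      phi p C I hI (f b) * algebraMap A C ((FrobAlg.toTwist p A).symm a) := by
  simp only [G, F1, FrobAlg.inclHom, AlgHom.toRingHom_eq_coe,
    RingHom.coe_comp, RingHom.coe_coe, Function.comp_apply, Algebra.TensorProduct.lift_tmul]
  rfl

theorem mk_G (I : Ideal C) (hI : I ^ 2 = ⊥) (f : B →ₐ[A] C ⧸ I)
    (z : FrobAlg.BaseChange p A B) :
    Ideal.Quotient.mk I (G p A B C I hI f z) = f (FrobAlg.relFrob p A B z) := by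
  induction z using TensorProduct.induction_on with
  | zero => simp
  | tmul b a =>
    rw [G_tmul, relFrob_tmul, map_mul, mk_phi, map_mul, map_pow, f.commutes]
    rfl
  | add x y hx hy => rw [map_add, map_add, hx, hy, map_add, map_add]

theorem lift_exists (h : Function.Bijective (FrobAlg.relFrob p A B)) (I : Ideal C)
    (hI : I ^ 2 = ⊥) (f : B →ₐ[A] C ⧸ I) :
    ∃ g : B →ₐ[A] C, (Ideal.Quotient.mkₐ A I).comp g = f := by
  let e : FrobAlg.BaseChange p A B ≃+* B := RingEquiv.ofBijective (FrobAlg.relFrob p A B) h
  have he : ∀ z, e z = FrobAlg.relFrob p A B z := fun z => rfl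
  let g₀ : B →+* C := (G p A B C I hI f).comp e.symm.toRingHom
  have hg₀ : ∀ z, g₀ (FrobAlg.relFrob p A B z) = G p A B C I hI f z := by
    intro z
    change G p A B C I hI f (e.symm (FrobAlg.relFrob p A B z)) = _
    rw [← he, e.symm_apply_apply]
  refine ⟨{ g₀ with commutes' := fun a => ?_ }, ?_⟩
  · have h1 : algebraMap A B a = FrobAlg.relFrob p A B (1 ⊗ₜ FrobAlg.toTwist p A a) := by
      rw [relFrob_tmul, one_pow, one_mul, RingEquiv.symm_apply_apply]
    change g₀ (algebraMap A B a) = _
    rw [h1, hg₀, G_tmul, map_one, map_one, one_mul, RingEquiv.symm_apply_apply]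
  · ext b
    obtain ⟨z, rfl⟩ := h.2 b
    change Ideal.Quotient.mk I (g₀ (FrobAlg.relFrob p A B z)) = _
    rw [hg₀, mk_G]

end


/-- Let A be a commutative ring of prime characteristic p and B a commutative A-algebra of
characteristic p such that the relative Frobenius B ⊗_{A,Frob} A → B, b ⊗ a ↦ b^p a, is bijective
(that is, Spec B → Spec A is relatively perfect; no finiteness condition is imposed). Then B is
formally étale over A. (The source proves that every perfect algebraic stack over an algebraic space
of characteristic p is formally étale over it; this is the case of an affine scheme over an affine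
base.) -/
theorem result (p : ℕ) [Fact p.Prime] (A : Type u) [CommRing A] [CharP A p]
    (B : Type u) [CommRing B] [Algebra A B] [CharP B p]
    (h : Function.Bijective (FrobAlg.relFrob p A B)) : Algebra.FormallyEtale A B := by
  have hp : p.Prime := Fact.out
  have hu : Algebra.FormallyUnramified A B := by
    refine (Groth.Agent.S3177.result p A B).2 ?_
    let := (FrobAlg.relFrob p A B).toAlgebra
    exact Algebra.FormallyUnramified.of_surjective
      (Algebra.ofId (FrobAlg.BaseChange p A B) B) h.2
  have hs : Algebra.FormallySmooth A B := by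
    apply Algebra.FormallySmooth.of_comp_surjective
    intro C _ _ I hI f
    rcases subsingleton_or_nontrivial C with hC | hC
    · refine ⟨{ toFun := fun _ => 0, map_one' := Subsingleton.elim _ _,
                map_mul' := by intros; simp, map_zero' := rfl,
                map_add' := by intros; simp,
                commutes' := fun _ => Subsingleton.elim _ _ }, ?_⟩
      have : Subsingleton (C ⧸ I) :=
        Function.Surjective.subsingleton Ideal.Quotient.mk_surjective
      ext b
      exact Subsingleton.elim _ _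
    · have hpC : (p : C) = 0 := by
        rw [← map_natCast (algebraMap A C), CharP.cast_eq_zero, map_zero]
      have : CharP C p := by
        have := CharP.ringChar_of_prime_eq_zero hp hpC
        exact ringChar.of_eq this
      exact lift_exists p A B C h I hI f
  exact Algebra.FormallyEtale.of_formallyUnramified_and_formallySmooth

end Groth.Agent.S16001
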