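import Groth.Statements.S16002
import Groth.Agent.Lib.CurveVB67Q
import Groth.Agent.Lib.SmoothCurve67
import Groth.Agent.S0002
import Mathlib
-- import your own Groth.Agent.* helpers here

set_option autoImplicit false
open CategoryTheory AlgebraicGeometry CategoryTheory.Limits
open VBCurve

namespace Groth.Agent.S16002

open Groth.Agent.Lib.CurveVB67 Groth.Agent.Lib.TwistEquiv


/-- Let X be a smooth proper integral curve over the complex numbers and (L_i)_{i ∈ ι} a family of
invertible O_X-modules. A tuple is a finite locally free O_X-module E of rank r ≥ 1 with maps φ_i :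
E → E ⊗ L_i; a submodule j : G → E (a monomorphism) is invariant when for every i some χ : G → G ⊗
L_i followed by j ⊗ L_i equals j followed by φ_i; the tuple is semistable when deg G · r ≤ deg E · n
for every invariant finite locally free submodule G of rank n ≥ 1, degrees being χ − rank · χ(O_X).
If (E, φ) and (F, ψ) are semistable tuples of ranks r ≥ 1 and s ≥ 1 over the same family (L_i) and f
: E → F is a nonzero module map with f followed by ψ_i equal to φ_i followed by f ⊗ L_i for every i,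
then the slope of E is at most that of F: deg E · s ≤ deg F · r. (The published lemma has finitely
many pairwise commuting twisting maps and morphisms compatible up to one nonzero scalar; the
commutation is not used, the index set is arbitrary here, and the scalar case reduces to this one by
rescaling the ψ_i.) -/
theorem result
    (X : Scheme.{0}) [X.Over (Spec (CommRingCat.of ℂ))] [IsIntegral X]
    [IsProper (X ↘ Spec (CommRingCat.of ℂ))] [Smooth (X ↘ Spec (CommRingCat.of ℂ))]
    (hdim : topologicalKrullDim X = 1)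
    (ι : Type) (L : ι → X.Modules) (hL : ∀ i, PicF.IsInvertible (L i))
    (r s : ℕ) (hr : 0 < r) (hs : 0 < s)
    (E F : X.Modules) (hE : FlatMod.IsFinLocFreeOfRank r E) (hF : FlatMod.IsFinLocFreeOfRank s F)
    (φ : ∀ i, E ⟶ CohB1.tensorMod E (L i)) (ψ : ∀ i, F ⟶ CohB1.tensorMod F (L i))
    (hEss : (∀ (G : X.Modules) (n : ℕ) (j : G ⟶ E), Mono j → 0 < n → FlatMod.IsFinLocFreeOfRank n G →
      (∀ i, ∃ χ : G ⟶ CohB1.tensorMod G (L i), χ ≫ (CohB1.sheafifyMod X).map (MonoidalCategoryStruct.whiskerRight (C := CohB1.PMod X) j.val (CohB1.toPMod (L i))) = j ≫ φ i) →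
      Curv2.deg ℂ X G n * (r : ℤ) ≤ Curv2.deg ℂ X E r * (n : ℤ)))
    (hFss : (∀ (G : X.Modules) (n : ℕ) (j : G ⟶ F), Mono j → 0 < n → FlatMod.IsFinLocFreeOfRank n G →
      (∀ i, ∃ χ : G ⟶ CohB1.tensorMod G (L i), χ ≫ (CohB1.sheafifyMod X).map (MonoidalCategoryStruct.whiskerRight (C := CohB1.PMod X) j.val (CohB1.toPMod (L i))) = j ≫ ψ i) →
      Curv2.deg ℂ X G n * (s : ℤ) ≤ Curv2.deg ℂ X F s * (n : ℤ)))
    (f : E ⟶ F) (hf : ∀ i, f ≫ ψ i = φ i ≫ (CohB1.sheafifyMod X).map (MonoidalCategoryStruct.whiskerRight (C := CohB1.PMod X) f.val (CohB1.toPMod (L i)))) (hne : f ≠ 0) :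
    Curv2.deg ℂ X E r * (s : ℤ) ≤ Curv2.deg ℂ X F s * (r : ℤ) := by
  have hpid := Groth.Agent.Lib.SmoothCurve67.isPrincipalIdealRing_stalk_of_smooth ℂ X (le_of_eq hdim)
  have H : Groth.Agent.Lib.ProperFinHyp.Hyp.{0} :=
    fun A _ _ X _ _ M hM n => Groth.Agent.S0002.result A X M hM n
  have := isLocallyNoetherian_of_proper ℂ X
  have hEc : Coh.IsCoh E := isCoh_of_rank hE
  obtain ⟨hIc, hIlf, hIpos⟩ := image_data ℂ X hpid hE hF f hne
  have : (Abelian.image f).IsQuasicoherent := hIc.1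
  have hinv : ∀ i, _ := fun i => ker_im_invariant X (hL i) f (φ i) (ψ i)
    ((hf i).trans (congrArg (fun u => φ i ≫ u) (whisker_eq f (L i))))
  set p := Abelian.factorThruImage f with hp
  set t := rk (Abelian.image f) with ht
  have hKc : Coh.IsCoh (kernel p) := Groth.Agent.Lib.H90OXModExact.isCoh_kernel p hEc
  have hS : (ShortComplex.mk (kernel.ι p) p (kernel.condition p)).ShortExact :=
    { exact := ShortComplex.exact_kernel p }
  have a := rk_add _ hS hKc hIc
  have b := deg_rk_add H ℂ X _ hS hKc hEc hIc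
  dsimp only at a b
  rw [← eq_rk_of_isFinLocFreeOfRank hE] at a b
  have hKlf := locFree_of_mono ℂ X hpid (kernel.ι p) hKc hE
  have hr0 : (0 : ℤ) < r := by exact_mod_cast hr
  have hs0 : (0 : ℤ) < s := by exact_mod_cast hs
  have ht0 : (0 : ℤ) < t := by exact_mod_cast hIpos
  have hI : Curv2.deg ℂ X E r * (t : ℤ) ≤ Curv2.deg ℂ X (Abelian.image f) t * (r : ℤ) := by
    rcases Nat.eq_zero_or_pos (rk (kernel p)) with h0 | hpos
    · have hz : IsZero (kernel p) := isZero_of_tf_of_rk_eq_zero hpid hKc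
        (tf_kernel p (tf_of_isFinLocFree (isFinLocFree_of_rank hE))) h0
      rw [h0, deg_of_isZero ℂ X hz, zero_add] at b
      rw [h0, zero_add] at a
      rw [b, a]
    · have hK := hEss (kernel p) (rk (kernel p)) (kernel.ι p) inferInstance hpos hKlf (fun i => by
        obtain ⟨⟨χ, hχ⟩, -⟩ := hinv i
        exact ⟨χ, (congrArg (fun u => χ ≫ u) (whisker_eq (kernel.ι p) (L i))).trans hχ⟩)
      have hcast : (r : ℤ) = (rk (kernel p) : ℤ) + (t : ℤ) := by exact_mod_cast a
      have e1 : Curv2.deg ℂ X (Abelian.image f) t * (r : ℤ) =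
          Curv2.deg ℂ X E r * (r : ℤ) - Curv2.deg ℂ X (kernel p) (rk (kernel p)) * (r : ℤ) := by
        rw [b]; ring
      have e2 : Curv2.deg ℂ X E r * (t : ℤ) = Curv2.deg ℂ X E r * (r : ℤ) -
          Curv2.deg ℂ X E r * (rk (kernel p) : ℤ) := by
        rw [hcast]; ring
      rw [e1, e2]
      linarith
  have hI2 := hFss (Abelian.image f) t (Abelian.image.ι f) inferInstance hIpos hIlf (fun i => by
    obtain ⟨-, ⟨χ, hχ⟩⟩ := hinv i
    exact ⟨χ, (congrArg (fun u => χ ≫ u) (whisker_eq (Abelian.image.ι f) (L i))).trans hχ⟩)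
  have g1 : Curv2.deg ℂ X E r * (t : ℤ) * (s : ℤ) ≤ Curv2.deg ℂ X (Abelian.image f) t * (r : ℤ) * (s : ℤ) :=
    mul_le_mul_of_nonneg_right hI hs0.le
  have g2 : Curv2.deg ℂ X (Abelian.image f) t * (s : ℤ) * (r : ℤ) ≤ Curv2.deg ℂ X F s * (t : ℤ) * (r : ℤ) :=
    mul_le_mul_of_nonneg_right hI2 hr0.le
  have g3 : Curv2.deg ℂ X E r * (s : ℤ) * (t : ℤ) ≤ Curv2.deg ℂ X F s * (r : ℤ) * (t : ℤ) := by
    have e1 : Curv2.deg ℂ X E r * (s : ℤ) * (t : ℤ) = Curv2.deg ℂ X E r * (t : ℤ) * (s : ℤ) := by ring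
    have e2 : Curv2.deg ℂ X (Abelian.image f) t * (r : ℤ) * (s : ℤ) =
        Curv2.deg ℂ X (Abelian.image f) t * (s : ℤ) * (r : ℤ) := by ring
    have e3 : Curv2.deg ℂ X F s * (t : ℤ) * (r : ℤ) = Curv2.deg ℂ X F s * (r : ℤ) * (t : ℤ) := by ring
    lia
  exact le_of_mul_le_mul_right g3 ht0

end Groth.Agent.S16002
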