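import Groth.Statements.S16003
import Groth.Agent.Lib.CurveVB67Q
import Groth.Agent.Lib.SmoothCurve67
import Groth.Agent.S0002
import Mathlib
-- import your own Groth.Agent.* helpers here

set_option autoImplicit false
open CategoryTheory AlgebraicGeometry CategoryTheory.Limits
open VBCurve

namespace Groth.Agent.S16003

open Groth.Agent.Lib.CurveVB67 Groth.Agent.Lib.TwistEquiv


/-- Let X be a smooth proper integral curve over the complex numbers and L an invertible O_X-module; an
L-valued pair is a finite locally free O_X-module E of rank r ≥ 1 with a map φ : E → E ⊗ L; a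
submodule j : G → E (a monomorphism) is φ-invariant when some χ : G → G ⊗ L followed by j ⊗ L equals
j followed by φ; the pair is semistable when deg G · r ≤ deg E · n for every φ-invariant finite
locally free submodule G of rank n ≥ 1, degrees being χ − rank · χ(O_X). If (E, φ) is a semistable
pair and φ is not zero, then L has non-negative degree. (The published statement is for tuples of
finitely many commuting twisting maps; this is the assertion for the one map φ.) -/
theorem result
    (X : Scheme.{0}) [X.Over (Spec (CommRingCat.of ℂ))] [IsIntegral X]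
    [IsProper (X ↘ Spec (CommRingCat.of ℂ))] [Smooth (X ↘ Spec (CommRingCat.of ℂ))]
    (hdim : topologicalKrullDim X = 1)
    (L : X.Modules) (hL : PicF.IsInvertible L)
    (r : ℕ) (hr : 0 < r) (E : X.Modules) (hE : FlatMod.IsFinLocFreeOfRank r E)
    (φ : E ⟶ CohB1.tensorMod E L)
    (hss : (∀ (G : X.Modules) (n : ℕ) (j : G ⟶ E) (χ : G ⟶ CohB1.tensorMod G L), Mono j → 0 < n →
      FlatMod.IsFinLocFreeOfRank n G →
      χ ≫ (CohB1.sheafifyMod X).map (MonoidalCategoryStruct.whiskerRight (C := CohB1.PMod X) j.val (CohB1.toPMod L)) = j ≫ φ →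
      Curv2.deg ℂ X G n * (r : ℤ) ≤ Curv2.deg ℂ X E r * (n : ℤ)))
    (hφ : φ ≠ 0) :
    0 ≤ Curv2.deg ℂ X L 1 := by
  have hpid := Groth.Agent.Lib.SmoothCurve67.isPrincipalIdealRing_stalk_of_smooth ℂ X (le_of_eq hdim)
  have H : Groth.Agent.Lib.ProperFinHyp.Hyp.{0} :=
    fun A _ _ X _ _ M hM n => Groth.Agent.S0002.result A X M hM n
  have := isLocallyNoetherian_of_proper ℂ X
  have hEc : Coh.IsCoh E := isCoh_of_rank hE
  have hEL : FlatMod.IsFinLocFreeOfRank r (CohB1.tensorMod E L) := isFinLocFreeOfRank_twist hE hL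
  obtain ⟨hIc, hIlf, hIpos⟩ := image_data ℂ X hpid hE hEL φ hφ
  have : (Abelian.image φ).IsQuasicoherent := hIc.1
  set p := Abelian.factorThruImage φ with hp
  set t := rk (Abelian.image φ) with ht
  -- the kernel
  have hKc : Coh.IsCoh (kernel p) := Groth.Agent.Lib.H90OXModExact.isCoh_kernel p hEc
  have hS : (ShortComplex.mk (kernel.ι p) p (kernel.condition p)).ShortExact :=
    { exact := ShortComplex.exact_kernel p }
  have a := rk_add _ hS hKc hIc
  have b := deg_rk_add H ℂ X _ hS hKc hEc hIc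
  dsimp only at a b
  rw [← eq_rk_of_isFinLocFreeOfRank hE] at a b
  have hKlf := locFree_of_mono ℂ X hpid (kernel.ι p) hKc hE
  have hr0 : (0 : ℤ) < r := by exact_mod_cast hr
  have ht0 : (0 : ℤ) < t := by exact_mod_cast hIpos
  -- slope of the image is at least the slope of `E`
  have hI : Curv2.deg ℂ X E r * (t : ℤ) ≤ Curv2.deg ℂ X (Abelian.image φ) t * (r : ℤ) := by
    rcases Nat.eq_zero_or_pos (rk (kernel p)) with h0 | hpos
    · have hz : IsZero (kernel p) := isZero_of_tf_of_rk_eq_zero hpid hKc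
        (tf_kernel p (tf_of_isFinLocFree (isFinLocFree_of_rank hE))) h0
      rw [h0, deg_of_isZero ℂ X hz, zero_add] at b
      rw [h0, zero_add] at a
      rw [b, a]
    · have h1 : kernel.ι p ≫ φ = 0 := by
        have h2 : kernel.ι p ≫ (p ≫ Abelian.image.ι φ) = 0 := by
          rw [← Category.assoc, kernel.condition, zero_comp]
        rwa [Abelian.image.fac] at h2
      have hK := hss (kernel p) (rk (kernel p)) (kernel.ι p) 0 inferInstance hpos hKlf
        (zero_comp.trans h1.symm)
      have hcast : (r : ℤ) = (rk (kernel p) : ℤ) + (t : ℤ) := by exact_mod_cast a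
      have e1 : Curv2.deg ℂ X (Abelian.image φ) t * (r : ℤ) =
          Curv2.deg ℂ X E r * (r : ℤ) - Curv2.deg ℂ X (kernel p) (rk (kernel p)) * (r : ℤ) := by
        rw [b]; ring
      have e2 : Curv2.deg ℂ X E r * (t : ℤ) = Curv2.deg ℂ X E r * (r : ℤ) -
          Curv2.deg ℂ X E r * (rk (kernel p) : ℤ) := by
        rw [hcast]; ring
      rw [e1, e2]
      linarith
  -- untwist the image
  obtain ⟨I', i', θ, hi', hTi', hI'lf, hdI'⟩ := untwist_sub' H ℂ X hdim.le hL hIlf (Abelian.image.ι φ)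
  have hinv : (i' ≫ p ≫ θ.inv) ≫ (tensorRightFunctor L).map i' = i' ≫ φ := by
    rw [hTi']
    have h1 : θ.inv ≫ θ.hom ≫ Abelian.image.ι φ = Abelian.image.ι φ := θ.inv_hom_id_assoc _
    have h2 : p ≫ Abelian.image.ι φ = φ := Abelian.image.fac φ
    calc (i' ≫ p ≫ θ.inv) ≫ θ.hom ≫ Abelian.image.ι φ
        = i' ≫ p ≫ (θ.inv ≫ θ.hom ≫ Abelian.image.ι φ) := by
          exact (Category.assoc _ _ _).trans (congrArg (fun u => i' ≫ u) (Category.assoc _ _ _))
      _ = i' ≫ φ := by rw [h1, h2]
  have h3 := hss I' t i' (i' ≫ p ≫ θ.inv) hi' hIpos hI'lf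
    ((congrArg (fun u => (i' ≫ p ≫ θ.inv) ≫ u) (whisker_eq i' L)).trans hinv)
  rw [hdI'] at h3
  -- (dI - t dL) r ≤ dE t ≤ dI r
  by_contra hneg
  have hL1 : Curv2.deg ℂ X L 1 < 0 := not_le.mp hneg
  have h4 : (t : ℤ) * Curv2.deg ℂ X L 1 * (r : ℤ) < 0 := by
    have : (t : ℤ) * Curv2.deg ℂ X L 1 < 0 := mul_neg_of_pos_of_neg ht0 hL1
    exact mul_neg_of_neg_of_pos this hr0
  have h5 : (Curv2.deg ℂ X (Abelian.image φ) t - (t : ℤ) * Curv2.deg ℂ X L 1) * (r : ℤ) =
      Curv2.deg ℂ X (Abelian.image φ) t * (r : ℤ) - (t : ℤ) * Curv2.deg ℂ X L 1 * (r : ℤ) := by ring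
  lia

end Groth.Agent.S16003
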