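import Groth.Statements.S16004
import Groth.Agent.Lib.CurveVB67P
import Groth.Agent.Lib.SmoothCurve67
import Groth.Agent.S0002
import Mathlib
-- import your own Groth.Agent.* helpers here

set_option autoImplicit false
open CategoryTheory AlgebraicGeometry CategoryTheory.Limits
open VBCurve

namespace Groth.Agent.S16004

open Groth.Agent.Lib.CurveVB67


/-- Let X be a smooth proper integral curve over the complex numbers and L an invertible O_X-module of
degree 0; an L-valued pair is a finite locally free O_X-module E of rank r ≥ 1 with a map φ : E → E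
⊗ L; a submodule j : G → E (a monomorphism) is φ-invariant when some χ : G → G ⊗ L followed by j ⊗ L
equals j followed by φ; the pair is semistable when deg G · r ≤ deg E · n for every φ-invariant
finite locally free submodule G of rank n ≥ 1, degrees being χ − rank · χ(O_X). If (E, φ) is a
semistable pair then E is slope-semistable as a module of rank r: deg G · r ≤ deg E · n for every
finite locally free submodule G of rank n ≥ 1, invariant or not. (The published statement deletes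
one degree-zero twisting map from a tuple of finitely many commuting ones; this is the case of a
single map.) -/
theorem result
    (X : Scheme.{0}) [X.Over (Spec (CommRingCat.of ℂ))] [IsIntegral X]
    [IsProper (X ↘ Spec (CommRingCat.of ℂ))] [Smooth (X ↘ Spec (CommRingCat.of ℂ))]
    (hdim : topologicalKrullDim X = 1)
    (L : X.Modules) (hL : PicF.IsInvertible L) (hL0 : Curv2.deg ℂ X L 1 = 0)
    (r : ℕ) (hr : 0 < r) (E : X.Modules) (hE : FlatMod.IsFinLocFreeOfRank r E)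
    (φ : E ⟶ CohB1.tensorMod E L)
    (hss : (∀ (G : X.Modules) (n : ℕ) (j : G ⟶ E) (χ : G ⟶ CohB1.tensorMod G L), Mono j → 0 < n →
      FlatMod.IsFinLocFreeOfRank n G →
      χ ≫ (CohB1.sheafifyMod X).map (MonoidalCategoryStruct.whiskerRight (C := CohB1.PMod X) j.val (CohB1.toPMod L)) = j ≫ φ →
      Curv2.deg ℂ X G n * (r : ℤ) ≤ Curv2.deg ℂ X E r * (n : ℤ))) :
    ∀ (G : X.Modules) (n : ℕ) (j : G ⟶ E), Mono j → 0 < n → FlatMod.IsFinLocFreeOfRank n G →
      Curv2.deg ℂ X G n * (r : ℤ) ≤ Curv2.deg ℂ X E r * (n : ℤ) := by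
  have hpid := Groth.Agent.Lib.SmoothCurve67.isPrincipalIdealRing_stalk_of_smooth ℂ X (le_of_eq hdim)
  have H : Groth.Agent.Lib.ProperFinHyp.Hyp.{0} :=
    fun A _ _ X _ _ M hM n => Groth.Agent.S0002.result A X M hM n
  intro F r' i hi hr' hF
  obtain ⟨E₁, r₁, i₁, hi₁, hr₁, hE₁, hmax, hmaxrk⟩ := exists_maxSlope_maxRank H ℂ X hdim.le hr hE
  have hquot : ∀ (Q : X.Modules) (s : ℕ) (j : Q ⟶ cokernel i₁), Mono j → 0 < s →
      FlatMod.IsFinLocFreeOfRank s Q →
      Curv2.deg ℂ X Q s * (r₁ : ℤ) < Curv2.deg ℂ X E₁ r₁ * (s : ℤ) := by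
    intro Q s j hj hs hQ
    exact quot_slope_lt H ℂ X hpid hr₁ hE hE₁ i₁ hmax hmaxrk Q s j hs hQ
  obtain ⟨χ, hχ⟩ := invariant_of_maxDestab_twist H ℂ X hpid hdim hL hL0 hr₁ hE hE₁ φ i₁ hmax hquot
  have h1 := hss E₁ r₁ i₁ χ hi₁ hr₁ hE₁ ((congrArg (fun t => χ ≫ t) (whisker_eq i₁ L)).trans hχ)
  have h2 := hmax F r' i hi hr' hF
  have hr₁0 : (0 : ℤ) < r₁ := by exact_mod_cast hr₁
  have hr'0 : (0 : ℤ) ≤ r' := Int.natCast_nonneg _
  have hr0 : (0 : ℤ) ≤ r := Int.natCast_nonneg _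
  have g1 : Curv2.deg ℂ X F r' * (r₁ : ℤ) * (r : ℤ) ≤ Curv2.deg ℂ X E₁ r₁ * (r' : ℤ) * (r : ℤ) :=
    mul_le_mul_of_nonneg_right h2 hr0
  have g2 : Curv2.deg ℂ X E₁ r₁ * (r : ℤ) * (r' : ℤ) ≤ Curv2.deg ℂ X E r * (r₁ : ℤ) * (r' : ℤ) :=
    mul_le_mul_of_nonneg_right h1 hr'0
  have g3 : Curv2.deg ℂ X F r' * (r : ℤ) * (r₁ : ℤ) ≤ Curv2.deg ℂ X E r * (r' : ℤ) * (r₁ : ℤ) := by
    have e1 : Curv2.deg ℂ X F r' * (r : ℤ) * (r₁ : ℤ) = Curv2.deg ℂ X F r' * (r₁ : ℤ) * (r : ℤ) := by ring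
    have e2 : Curv2.deg ℂ X E₁ r₁ * (r' : ℤ) * (r : ℤ) = Curv2.deg ℂ X E₁ r₁ * (r : ℤ) * (r' : ℤ) := by ring
    have e3 : Curv2.deg ℂ X E r * (r₁ : ℤ) * (r' : ℤ) = Curv2.deg ℂ X E r * (r' : ℤ) * (r₁ : ℤ) := by ring
    lia
  exact le_of_mul_le_mul_right g3 hr₁0

end Groth.Agent.S16004
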