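import Groth.Statements.S16005
import Groth.Agent.Lib.CurveVB67T
import Groth.Agent.Lib.SmoothCurve67
import Groth.Agent.S0002
import Mathlib
-- import your own Groth.Agent.* helpers here

set_option autoImplicit false
open CategoryTheory AlgebraicGeometry CategoryTheory.Limits
open VBCurve

namespace Groth.Agent.S16005

open Groth.Agent.Lib.CurveVB67 Groth.Agent.Lib.OXModTensor Groth.Agent.Lib.TwistEquiv
open Groth.Agent.Lib.H90Invertible

lemma arith (dG d₁ dE : ℤ) (r₁ n r : ℤ) (hr₁ : 0 < r₁) (hn : 0 ≤ n) (hr : 0 ≤ r)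
    (h1 : dG * r₁ ≤ d₁ * n) (h2 : d₁ * r ≤ dE * r₁) : dG * r ≤ dE * n := by
  have h3 : (dG * r) * r₁ ≤ (dE * n) * r₁ := by
    calc (dG * r) * r₁ = (dG * r₁) * r := by ring
      _ ≤ (d₁ * n) * r := mul_le_mul_of_nonneg_right h1 hr
      _ = (d₁ * r) * n := by ring
      _ ≤ (dE * r₁) * n := mul_le_mul_of_nonneg_right h2 hn
      _ = (dE * n) * r₁ := by ring
  exact le_of_mul_le_mul_right h3 hr₁

lemma comm_aux {C : Type*} [Category C] [Abelian C] (T : C ⥤ C) {E₁ E : C} (i₁ : E₁ ⟶ E) (φ : E ⟶ T.obj E) (ψ : E ⟶ E)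
    (φ₁ : E₁ ⟶ T.obj E₁) (φ' : cokernel i₁ ⟶ T.obj (cokernel i₁))
    (hcomm : ψ ≫ φ = φ ≫ T.map ψ) (hφ₁ : φ₁ ≫ T.map i₁ = i₁ ≫ φ)
    (hφ' : cokernel.π i₁ ≫ φ' = φ ≫ T.map (cokernel.π i₁)) :
    (i₁ ≫ ψ ≫ cokernel.π i₁) ≫ φ' = φ₁ ≫ T.map (i₁ ≫ ψ ≫ cokernel.π i₁) := by
  calc (i₁ ≫ ψ ≫ cokernel.π i₁) ≫ φ' = i₁ ≫ ψ ≫ (cokernel.π i₁ ≫ φ') := by
        simp only [Category.assoc]
    _ = i₁ ≫ (ψ ≫ φ) ≫ T.map (cokernel.π i₁) := by
        rw [hφ', Category.assoc]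
    _ = (i₁ ≫ φ) ≫ T.map ψ ≫ T.map (cokernel.π i₁) := by
        rw [hcomm]; simp only [Category.assoc]
    _ = φ₁ ≫ T.map i₁ ≫ T.map ψ ≫ T.map (cokernel.π i₁) := by
        rw [← hφ₁, Category.assoc]
    _ = φ₁ ≫ T.map (i₁ ≫ ψ ≫ cokernel.π i₁) := by
        rw [Functor.map_comp, Functor.map_comp]


/-- Let X be a smooth proper integral curve over the complex numbers and L an invertible O_X-module; an
L-valued pair is a finite locally free O_X-module E of rank r ≥ 1 with a map φ : E → E ⊗ L; a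
submodule j : G → E (a monomorphism) is φ-invariant when some χ : G → G ⊗ L followed by j ⊗ L equals
j followed by φ; the pair is semistable when deg G · r ≤ deg E · n for every φ-invariant finite
locally free submodule G of rank n ≥ 1, degrees being χ − rank · χ(O_X). Let (E, φ) be a pair and ψ
: E → E an endomorphism commuting with φ (ψ followed by φ equals φ followed by ψ ⊗ L); a submodule
is ψ-invariant when ψ restricts to an endomorphism of it. Then (E, φ, ψ) is semistable, meaning deg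
G · r ≤ deg E · n for every finite locally free submodule G of rank n ≥ 1 that is both φ-invariant
and ψ-invariant, if and only if the pair (E, φ) is semistable. (The published statement takes L to
be the canonical sheaf; the row allows any invertible L.) -/
theorem result
    (X : Scheme.{0}) [X.Over (Spec (CommRingCat.of ℂ))] [IsIntegral X]
    [IsProper (X ↘ Spec (CommRingCat.of ℂ))] [Smooth (X ↘ Spec (CommRingCat.of ℂ))]
    (hdim : topologicalKrullDim X = 1)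
    (L : X.Modules) (hL : PicF.IsInvertible L)
    (r : ℕ) (hr : 0 < r) (E : X.Modules) (hE : FlatMod.IsFinLocFreeOfRank r E)
    (φ : E ⟶ CohB1.tensorMod E L) (ψ : E ⟶ E)
    (hcomm : ψ ≫ φ = φ ≫ (CohB1.sheafifyMod X).map (MonoidalCategoryStruct.whiskerRight (C := CohB1.PMod X) ψ.val (CohB1.toPMod L))) :
    (∀ (G : X.Modules) (n : ℕ) (j : G ⟶ E) (χ : G ⟶ CohB1.tensorMod G L) (ψ' : G ⟶ G), Mono j → 0 < n →
      FlatMod.IsFinLocFreeOfRank n G →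
      χ ≫ (CohB1.sheafifyMod X).map (MonoidalCategoryStruct.whiskerRight (C := CohB1.PMod X) j.val (CohB1.toPMod L)) = j ≫ φ → ψ' ≫ j = j ≫ ψ →
      Curv2.deg ℂ X G n * (r : ℤ) ≤ Curv2.deg ℂ X E r * (n : ℤ)) ↔
    (∀ (G : X.Modules) (n : ℕ) (j : G ⟶ E) (χ : G ⟶ CohB1.tensorMod G L), Mono j → 0 < n →
      FlatMod.IsFinLocFreeOfRank n G →
      χ ≫ (CohB1.sheafifyMod X).map (MonoidalCategoryStruct.whiskerRight (C := CohB1.PMod X) j.val (CohB1.toPMod L)) = j ≫ φ →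
      Curv2.deg ℂ X G n * (r : ℤ) ≤ Curv2.deg ℂ X E r * (n : ℤ)) := by
  have hpid := Groth.Agent.Lib.SmoothCurve67.isPrincipalIdealRing_stalk_of_smooth ℂ X (le_of_eq hdim)
  have H : Groth.Agent.Lib.ProperFinHyp.Hyp.{0} :=
    fun A _ _ X _ _ M hM n => Groth.Agent.S0002.result A X M hM n
  constructor
  swap
  · intro h G n j χ ψ' hj hn hG hχ _
    exact h G n j χ hj hn hG hχ
  intro h3 G n j χ hj hn hG hχ
  have hcommT : ψ ≫ φ = φ ≫ (tensorRightFunctor L).map ψ :=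
    hcomm.trans (congrArg (fun t => φ ≫ t) (whisker_eq ψ L))
  obtain ⟨E₁, r₁, i₁, hi₁, hr₁, hE₁, hinv₁, hmax, hmaxrk⟩ :=
    exists_maxSlope_maxRank_pred H ℂ X hdim.le hr hE (fun G j => Inv L φ j) (inv_id L φ)
  obtain ⟨hClf, hle⟩ := pair_cokernel_locFree_of_maxSlope H ℂ X hpid hdim hL hr₁ hE hE₁ φ i₁ hinv₁ hmax
  obtain ⟨φ₁, hφ₁⟩ := hinv₁
  obtain ⟨φ', hφ'⟩ := exists_induced_cokernel_aux (C := X.Modules) (tensorRightFunctor L) i₁ φ φ₁ hφ₁
  have hf : (i₁ ≫ ψ ≫ cokernel.π i₁) ≫ φ' = φ₁ ≫ (tensorRightFunctor L).map (i₁ ≫ ψ ≫ cokernel.π i₁) :=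
    comm_aux (C := X.Modules) (tensorRightFunctor L) i₁ φ ψ φ₁ φ' hcommT hφ₁ hφ'
  have hzero : i₁ ≫ ψ ≫ cokernel.π i₁ = 0 :=
    pair_hom_quot_eq_zero H ℂ X hpid hL hr₁ hE hE₁ φ i₁ hClf φ₁ hφ₁ φ' hφ' hmax hmaxrk _ hf
  have hzero' : (i₁ ≫ ψ) ≫ cokernel.π i₁ = 0 := (Category.assoc _ _ _).trans hzero
  have h1 := h3 E₁ r₁ i₁ φ₁ (Abelian.monoLift i₁ (i₁ ≫ ψ) hzero') hi₁ hr₁ hE₁
    ((congrArg (fun t => φ₁ ≫ t) (whisker_eq i₁ L)).trans hφ₁) (Abelian.monoLift_comp i₁ (i₁ ≫ ψ) hzero')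
  have h2 := hmax G n j hj hn hG (inv_of_whisker χ hχ)
  exact arith _ _ _ _ _ _ (by exact_mod_cast hr₁) (Int.natCast_nonneg _) (Int.natCast_nonneg _) h2 h1

end Groth.Agent.S16005
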