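import Groth.Statements.S16006
import Groth.Agent.Lib.CurveVB67R
import Groth.Agent.Lib.SmoothCurve67
import Groth.Agent.S0002
import Mathlib
-- import your own Groth.Agent.* helpers here

set_option autoImplicit false
open CategoryTheory AlgebraicGeometry CategoryTheory.Limits
open VBCurve

namespace Groth.Agent.S16006

open Groth.Agent.Lib.CurveVB67 Groth.Agent.Lib.OXModTensor Groth.Agent.Lib.TwistEquiv
open Groth.Agent.Lib.H90Invertible


/-- Let X be a smooth proper integral curve of genus 1 over the complex numbers (genus = dim H¹(O_X))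
and L an invertible O_X-module of degree 0 such that L ⊗ L is not isomorphic to O_X; an L-valued
pair is a finite locally free O_X-module E of rank r ≥ 1 with a map φ : E → E ⊗ L; a submodule j : G
→ E (a monomorphism) is φ-invariant when some χ : G → G ⊗ L followed by j ⊗ L equals j followed by
φ; the pair is semistable when deg G · r ≤ deg E · n for every φ-invariant finite locally free
submodule G of rank n ≥ 1, degrees being χ − rank · χ(O_X), and it is stable when deg G · r < deg E
· n for every φ-invariant finite locally free submodule G of rank n with 1 ≤ n < r. If (E, φ) is a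
stable pair of rank 2, then E is slope-stable as a module of rank 2: deg G · 2 < deg E · n for every
finite locally free submodule G of rank n with 1 ≤ n < 2, φ-invariant or not. (The published
statement assumes only that L is not isomorphic to O_X. For L of order two and E = O_X ⊕ L, the
isomorphism φ : E → E ⊗ L = (O_X ⊗ L) ⊕ (L ⊗ L) that maps the summand O_X of E onto the summand L ⊗
L ≅ O_X and the summand L onto O_X ⊗ L ≅ L leaves no rank-one submodule of degree 0 invariant, so
(E, φ) is a stable pair while E is not stable; the published argument derives L ⊗ L ≅ O_X in the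
split case, so the row assumes L ⊗ L ≄ O_X.) -/
theorem result
    (X : Scheme.{0}) [X.Over (Spec (CommRingCat.of ℂ))] [IsIntegral X]
    [IsProper (X ↘ Spec (CommRingCat.of ℂ))] [Smooth (X ↘ Spec (CommRingCat.of ℂ))]
    (hdim : topologicalKrullDim X = 1)
    (hg : Curv2.genus ℂ X = 1)
    (L : X.Modules) (hL : PicF.IsInvertible L) (hL0 : Curv2.deg ℂ X L 1 = 0)
    (hL2 : ¬ Nonempty (CohB1.tensorMod L L ≅ Coh.structureModule X))
    (E : X.Modules) (hE : FlatMod.IsFinLocFreeOfRank 2 E)
    (φ : E ⟶ CohB1.tensorMod E L)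
    (hst : (∀ (G : X.Modules) (n : ℕ) (j : G ⟶ E) (χ : G ⟶ CohB1.tensorMod G L), Mono j → 0 < n → n < 2 →
      FlatMod.IsFinLocFreeOfRank n G →
      χ ≫ (CohB1.sheafifyMod X).map (MonoidalCategoryStruct.whiskerRight (C := CohB1.PMod X) j.val (CohB1.toPMod L)) = j ≫ φ →
      Curv2.deg ℂ X G n * (2 : ℤ) < Curv2.deg ℂ X E 2 * (n : ℤ))) :
    ∀ (G : X.Modules) (n : ℕ) (j : G ⟶ E), Mono j → 0 < n → n < 2 → FlatMod.IsFinLocFreeOfRank n G →
      Curv2.deg ℂ X G n * (2 : ℤ) < Curv2.deg ℂ X E 2 * (n : ℤ) := by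
  have hpid := Groth.Agent.Lib.SmoothCurve67.isPrincipalIdealRing_stalk_of_smooth ℂ X (le_of_eq hdim)
  have H : Groth.Agent.Lib.ProperFinHyp.Hyp.{0} :=
    fun A _ _ X _ _ M hM n => Groth.Agent.S0002.result A X M hM n
  intro G n j hj hn hn2 hG
  obtain rfl : n = 1 := by omega
  by_contra hcon
  push Not at hcon
  have hGinv : PicF.IsInvertible G := (isInvertible_iff_isFinLocFreeOfRank_one G).mpr hG
  obtain ⟨N, g, hgm, hN, hQlf, hdeg⟩ :=
    Groth.Agent.Lib.CurveMaxSub.exists_saturated H ℂ X hpid hdim hGinv hE j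
  have hN1 : FlatMod.IsFinLocFreeOfRank 1 N := (isInvertible_iff_isFinLocFreeOfRank_one N).mp hN
  have hQ1 : FlatMod.IsFinLocFreeOfRank 1 (cokernel g) := hQlf
  have hQ : PicF.IsInvertible (cokernel g) := (isInvertible_iff_isFinLocFreeOfRank_one _).mpr hQ1
  have hS : (ShortComplex.mk g (cokernel.π g) (cokernel.condition g)).ShortExact :=
    { exact := ShortComplex.exact_cokernel g }
  have hadd : Curv2.deg ℂ X E 2 = Curv2.deg ℂ X N 1 + Curv2.deg ℂ X (cokernel g) 1 :=
    deg_add H ℂ X _ hS (isCoh_of_rank hN1) (isCoh_of_rank hE) (isCoh_of_rank hQ1) 1 2 1 rfl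
  -- `N` is not invariant
  have hc : g ≫ φ ≫ (tensorRightFunctor L).map (cokernel.π g) ≠ 0 := by
    intro h0
    obtain ⟨χ, hχ⟩ := exists_invariant_of_comp_zero hL g φ h0
    have := hst N 1 g χ hgm one_pos (by norm_num) hN1 hχ
    lia
  have hQL1 : FlatMod.IsFinLocFreeOfRank 1 (CohB1.tensorMod (cokernel g) L) := isFinLocFreeOfRank_twist hQ1 hL
  have hQL : PicF.IsInvertible (CohB1.tensorMod (cokernel g) L) :=
    (isInvertible_iff_isFinLocFreeOfRank_one _).mpr hQL1
  have hdQL : Curv2.deg ℂ X (CohB1.tensorMod (cokernel g) L) 1 = Curv2.deg ℂ X (cokernel g) 1 := by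
    rw [deg_twist H ℂ X hdim.le hQ1 hL, hL0]; simp
  obtain ⟨hle, hiso⟩ := Groth.Agent.Lib.DegCurve54b.deg_le_and_isIso H ℂ X hdim hN hQL _ hc
  rw [hdQL] at hle hiso
  have hNQ : Curv2.deg ℂ X N 1 = Curv2.deg ℂ X (cokernel g) 1 := by lia
  have hci : IsIso (g ≫ φ ≫ (tensorRightFunctor L).map (cokernel.π g)) := hiso hNQ
  -- the splitting
  let c := g ≫ φ ≫ (tensorRightFunctor L).map (cokernel.π g)
  let p : E ⟶ N := (φ ≫ (tensorRightFunctor L).map (cokernel.π g)) ≫ inv c
  have hgp : g ≫ p = 𝟙 N := by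
    change g ≫ (φ ≫ (tensorRightFunctor L).map (cokernel.π g)) ≫ inv c = 𝟙 N
    rw [← Category.assoc]
    exact IsIso.hom_inv_id c
  obtain ⟨σ, hσπ, hσp, hid⟩ := exists_section_of_retraction g p hgp
  have hσm : Mono σ := mono_of_mono_fac hσπ
  have hc' : σ ≫ φ ≫ (tensorRightFunctor L).map p ≠ 0 := by
    intro h0
    obtain ⟨χ, hχ⟩ := exists_invariant_of_split hL g σ p (cokernel.π g) hσπ hid φ h0
    have := hst (cokernel g) 1 σ χ hσm one_pos (by norm_num) hQ1 hχ
    lia
  have hNL1 : FlatMod.IsFinLocFreeOfRank 1 (CohB1.tensorMod N L) := isFinLocFreeOfRank_twist hN1 hL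
  have hNL : PicF.IsInvertible (CohB1.tensorMod N L) :=
    (isInvertible_iff_isFinLocFreeOfRank_one _).mpr hNL1
  have hdNL : Curv2.deg ℂ X (CohB1.tensorMod N L) 1 = Curv2.deg ℂ X N 1 := by
    rw [deg_twist H ℂ X hdim.le hN1 hL, hL0]; simp
  obtain ⟨-, hiso'⟩ := Groth.Agent.Lib.DegCurve54b.deg_le_and_isIso H ℂ X hdim hQ hNL _ hc'
  rw [hdNL] at hiso'
  have hci' : IsIso (σ ≫ φ ≫ (tensorRightFunctor L).map p) := hiso' hNQ.symm
  exact hL2 (nonempty_tensor_self_iso hQ (@asIso _ _ _ _ (σ ≫ φ ≫ (tensorRightFunctor L).map p) hci')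
    (@asIso _ _ _ _ (g ≫ φ ≫ (tensorRightFunctor L).map (cokernel.π g)) hci))

end Groth.Agent.S16006
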