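import Groth.Statements.S16014
import Mathlib.Algebra.BigOperators.Ring.Finset
import Mathlib.Algebra.BigOperators.Intervals
import Mathlib.Data.Int.Interval
import Mathlib.Tactic.Ring
import Mathlib.Tactic.NormNum
import Mathlib.Tactic.Linarith
import Mathlib.Data.Rat.Cast.Defs
import Mathlib.Algebra.Order.Field.Rat

set_option autoImplicit false
universe u
open W4c3ghconstell

namespace Groth.Agent.S16014

theorem key (a : ℤ → ℚ) (N M : ℤ) :
    ∑ n ∈ Finset.Icc (-N) M, (n : ℚ) * a n =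
      ∑ n ∈ Finset.Icc (-N + 1) M, ∑ m ∈ Finset.Icc n M, a m -
        (N : ℚ) * ∑ m ∈ Finset.Icc (-N) M, a m := by
  have h1 : ∑ n ∈ Finset.Icc (-N + 1) M, ∑ m ∈ Finset.Icc n M, a m
      = ∑ m ∈ Finset.Icc (-N) M, ∑ n ∈ Finset.Icc (-N + 1) m, a m := by
    apply Finset.sum_comm'
    intro n m
    simp only [Finset.mem_Icc]
    constructor <;> rintro ⟨⟨h1, h2⟩, h3, h4⟩ <;> refine ⟨⟨?_, ?_⟩, ?_, ?_⟩ <;> omega
  rw [h1, Finset.mul_sum, ← Finset.sum_sub_distrib]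
  refine Finset.sum_congr rfl fun m hm => ?_
  rw [Finset.mem_Icc] at hm
  rw [Finset.sum_const, Int.card_Icc, nsmul_eq_mul]
  have h : ((m + 1 - (-N + 1)).toNat : ℤ) = m + N := by omega
  have h' : (((m + 1 - (-N + 1)).toNat : ℕ) : ℚ) = (m : ℚ) + (N : ℚ) := by
    have := congrArg (Int.cast : ℤ → ℚ) h
    push_cast at this
    exact this
  rw [h']; ring


/-- Let B = ⊕_{n ∈ ℤ} ⊕_τ B^n_τ be a bigraded finite-dimensional vector space, τ running over a finite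
index set, with B^n = 0 for n < −N and for n > M (N, M integers); put d(n, τ) = dim B^n_τ. For
rational numbers φ_τ write φ(C) = Σ_τ φ_τ dim C_τ for a τ-graded piece C, and let B^{≥n} = ⊕_{m ≥ n}
B^m, so that dim B^{≥n}_τ = Σ_{n ≤ m ≤ M} d(m, τ). Then Σ_{−N ≤ n ≤ M} n · φ(B^n) = Σ_{−N+1 ≤ n ≤ M}
φ(B^{≥n}) − N · φ(B). (Stated directly on the dimension function d.) -/
theorem result {τ : Type u} [Fintype τ] (d : ℤ → τ → ℕ) (φ : τ → ℚ) (N M : ℤ)
    (hN : ∀ n, n < -N → d n = 0) (hM : ∀ n, M < n → d n = 0) :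
    ∑ n ∈ Finset.Icc (-N) M, (n : ℚ) * (∑ t, φ t * (d n t : ℚ)) =
      ∑ n ∈ Finset.Icc (-N + 1) M, (∑ t, φ t * (∑ m ∈ Finset.Icc n M, (d m t : ℚ))) -
        (N : ℚ) * (∑ t, φ t * (∑ m ∈ Finset.Icc (-N) M, (d m t : ℚ))) := by
  have hk := key (fun n => ∑ t, φ t * (d n t : ℚ)) N M
  rw [hk]
  congr 1
  · refine Finset.sum_congr rfl fun n _ => ?_
    rw [Finset.sum_comm]
    refine Finset.sum_congr rfl fun t _ => ?_
    rw [Finset.mul_sum]
  · congr 1
    rw [Finset.sum_comm]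
    refine Finset.sum_congr rfl fun t _ => ?_
    rw [Finset.mul_sum]

end Groth.Agent.S16014
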