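import Groth.Statements.S16015
import Mathlib.RingTheory.Finiteness.Projective
import Mathlib.RingTheory.TensorProduct.Maps
import Mathlib.RingTheory.Ideal.Quotient.Operations

set_option autoImplicit false
universe u v w
open W4c3ghconstell

namespace Groth.Agent.S16015

open TensorProduct in
/-- The ideal generated by all `φ (β e)`, `φ` a functional on `F`. -/
def imIdeal {B : Type u} [CommRing B] {E : Type v} [AddCommGroup E] [Module B E]
    {F : Type w} [AddCommGroup F] [Module B F] (β : E →ₗ[B] F) : Ideal B :=
  Ideal.span {b | ∃ (φ : F →ₗ[B] B) (e : E), φ (β e) = b}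

open TensorProduct in
theorem imIdeal_spec {B : Type u} [CommRing B] {E : Type v} [AddCommGroup E] [Module B E]
    {F : Type w} [AddCommGroup F] [Module B F] [Module.Finite B F] [Module.Projective B F]
    (β : E →ₗ[B] F) (C : Type u) [CommRing C] [Algebra B C] :
    LinearMap.baseChange C β = 0 ↔ imIdeal β ≤ RingHom.ker (algebraMap B C) := by
  constructor
  · intro h
    refine Ideal.span_le.mpr ?_
    rintro b ⟨φ, e, rfl⟩
    rw [SetLike.mem_coe, RingHom.mem_ker]
    have h1 : LinearMap.baseChange C β ((1 : C) ⊗ₜ[B] e) = 0 := by rw [h]; rfl
    rw [LinearMap.baseChange_tmul] at h1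
    have h2 := congrArg (fun x => Algebra.TensorProduct.rid B C C (LinearMap.baseChange C φ x)) h1
    simp only [LinearMap.baseChange_tmul, map_zero] at h2
    rw [Algebra.TensorProduct.rid_tmul, Algebra.smul_def, mul_one] at h2
    exact h2
  · intro h
    obtain ⟨n, f, g, -, -, hfg⟩ := Module.Finite.exists_comp_eq_id_of_projective B F
    ext e
    simp only [TensorProduct.AlgebraTensorModule.curry_apply, TensorProduct.curry_apply,
      LinearMap.coe_restrictScalars, LinearMap.baseChange_tmul, LinearMap.zero_apply]
    have h1 : β e = ∑ i : Fin n, (g (β e) i) • f (fun j => if i = j then 1 else 0) := by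
      have : f (g (β e)) = β e := by
        have := congrArg (fun t => t (β e)) hfg
        simpa using this
      rw [← LinearMap.pi_apply_eq_sum_univ f (g (β e)), this]
    rw [h1, TensorProduct.tmul_sum]
    refine Finset.sum_eq_zero fun i _ => ?_
    have h3 : g (β e) i ∈ imIdeal β :=
      Ideal.subset_span ⟨(LinearMap.proj i).comp g, e, rfl⟩
    have h4 : algebraMap B C (g (β e) i) = 0 := h h3
    rw [TensorProduct.tmul_smul, TensorProduct.smul_tmul', Algebra.smul_def, h4, zero_mul,
      TensorProduct.zero_tmul]


/-- Let B be a commutative ring, E a B-module, F a finitely generated projective B-module and β : E → F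
a B-linear map. Then there is a unique ideal I of B such that for every commutative B-algebra C the
base change β_C : C ⊗ E → C ⊗ F is zero if and only if the structure map B → C kills I. (The
published statement is for a homomorphism of modules on a scheme T into a locally free module and
produces a closed subscheme T₀ through which a morphism factors exactly when the pulled-back
homomorphism vanishes; this row is the case of an affine T with affine test schemes and F of finite
rank, to which it reduces.) -/
theorem result {B : Type u} [CommRing B]
    {E : Type v} [AddCommGroup E] [Module B E]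
    {F : Type w} [AddCommGroup F] [Module B F] [Module.Finite B F] [Module.Projective B F]
    (β : E →ₗ[B] F) :
    ∃! I : Ideal B, ∀ (C : Type u) [CommRing C] [Algebra B C],
      LinearMap.baseChange C β = 0 ↔ I ≤ RingHom.ker (algebraMap B C) := by
  refine ⟨imIdeal β, fun C _ _ => imIdeal_spec β C, fun I' hI' => ?_⟩
  have hk : ∀ J : Ideal B, RingHom.ker (algebraMap B (B ⧸ J)) = J := fun J => by
    rw [Ideal.Quotient.algebraMap_eq]; exact Ideal.mk_ker
  apply le_antisymm
  · have h1 : LinearMap.baseChange (B ⧸ imIdeal β) β = 0 :=
      (imIdeal_spec β (B ⧸ imIdeal β)).mpr (hk _).ge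
    have h2 := (hI' (B ⧸ imIdeal β)).mp h1
    rwa [hk] at h2
  · have h1 : LinearMap.baseChange (B ⧸ I') β = 0 := (hI' (B ⧸ I')).mpr (hk _).ge
    have h2 := (imIdeal_spec β (B ⧸ I')).mp h1
    rwa [hk] at h2

end Groth.Agent.S16015
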