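import Groth.Statements.S16016
import Mathlib.Tactic
import Mathlib.LinearAlgebra.Span.Basic
import Mathlib.Algebra.BigOperators.Fin

set_option autoImplicit false
universe u
open W4c3ghconstell

namespace Groth.Agent.S16016

section Aux
variable {k : Type u} [Field k]

lemma entry (A : Matrix (Fin 3 ⊕ Fin 3) (Fin 3 ⊕ Fin 3) k) (i j : Fin 3 ⊕ Fin 3) :
    (A.transpose * Matrix.fromBlocks (0 : Matrix (Fin 3) (Fin 3) k) 1 1 0 +
        Matrix.fromBlocks (0 : Matrix (Fin 3) (Fin 3) k) 1 1 0 * A :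
          Matrix (Fin 3 ⊕ Fin 3) (Fin 3 ⊕ Fin 3) k) i j =
      A (Sum.swap j) i + A (Sum.swap i) j := by
  rcases i with i | i <;> rcases j with j | j <;>
    simp [Matrix.add_apply, Matrix.mul_apply, Fintype.sum_sum_type, Matrix.one_apply,
      Matrix.transpose_apply]

lemma row_eq (A : Matrix (Fin 3 ⊕ Fin 3) (Fin 3 ⊕ Fin 3) k) (i : Fin 3 ⊕ Fin 3) :
    Matrix.mulVecLin A.transpose (Pi.single i 1) = fun j => A i j := by
  ext j
  simp [Matrix.mulVec, dotProduct, Pi.single_apply]

lemma mem_span_zero {v : Fin 3 ⊕ Fin 3 → k}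
    (hv : v ∈ Submodule.span k {Pi.single (Sum.inl 0 : Fin 3 ⊕ Fin 3) (1 : k),
      Pi.single (Sum.inl 1 : Fin 3 ⊕ Fin 3) (1 : k)}) (j : Fin 3 ⊕ Fin 3)
    (h0 : j ≠ Sum.inl 0) (h1 : j ≠ Sum.inl 1) : v j = 0 := by
  rw [Submodule.mem_span_pair] at hv
  obtain ⟨a, b, rfl⟩ := hv
  simp [Pi.single_apply, h0, h1]

theorem main (h2 : (2 : k) ≠ 0)
    (A : Matrix (Fin 3 ⊕ Fin 3) (Fin 3 ⊕ Fin 3) k) :
    (A.transpose * Matrix.fromBlocks (0 : Matrix (Fin 3) (Fin 3) k) 1 1 0 +
        Matrix.fromBlocks (0 : Matrix (Fin 3) (Fin 3) k) 1 1 0 * A = 0 ∧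
      LinearMap.range (Matrix.mulVecLin A.transpose) ≤
        Submodule.span k {Pi.single (Sum.inl 0 : Fin 3 ⊕ Fin 3) (1 : k), Pi.single (Sum.inl 1 : Fin 3 ⊕ Fin 3) (1 : k)}) ↔
    ∃ a : k, A = a • (Matrix.single (Sum.inr 0) (Sum.inl 1) (1 : k) - Matrix.single (Sum.inr 1) (Sum.inl 0) (1 : k)) := by
  constructor
  · rintro ⟨h1, hr⟩
    have hE : ∀ i j, A (Sum.swap j) i + A (Sum.swap i) j = 0 := fun i j => by
      rw [← entry, h1]; rfl
    have hcol : ∀ i j, j ≠ Sum.inl 0 → j ≠ Sum.inl 1 → A i j = 0 := by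
      intro i j h0 h1'
      have := hr (LinearMap.mem_range_self (Matrix.mulVecLin A.transpose) (Pi.single i 1))
      rw [row_eq] at this
      exact mem_span_zero this j h0 h1'
    have hanti : ∀ i j, A i j = - A (Sum.swap j) (Sum.swap i) := fun i j => by
      have := hE j (Sum.swap i)
      rw [Sum.swap_swap] at this
      exact eq_neg_of_add_eq_zero_left this
    have f1 : ∀ i x, A i (Sum.inr x) = 0 := fun i x => hcol i _ (by simp) (by simp)
    have f2 : ∀ i, A i (Sum.inl 2) = 0 := fun i => hcol i _ (by decide) (by decide)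
    have f3 : ∀ x j, A (Sum.inl x) j = 0 := fun x j => by
      rw [hanti]; simp [f1]
    have dbl : ∀ t : k, t = -t → t = 0 := fun t ht => by
      have : (2 : k) * t = 0 := by linear_combination ht
      rcases mul_eq_zero.mp this with h | h
      · exact absurd h h2
      · exact h
    have f4 : A (Sum.inr 0) (Sum.inl 0) = 0 := dbl _ (hanti _ _)
    have f5 : A (Sum.inr 1) (Sum.inl 1) = 0 := dbl _ (hanti _ _)
    have f6 : A (Sum.inr 2) (Sum.inl 0) = 0 := by rw [hanti]; simp [f2]
    have f7 : A (Sum.inr 2) (Sum.inl 1) = 0 := by rw [hanti]; simp [f2]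
    have f8 : A (Sum.inr 1) (Sum.inl 0) = - A (Sum.inr 0) (Sum.inl 1) := hanti _ _
    refine ⟨A (Sum.inr 0) (Sum.inl 1), ?_⟩
    ext i j
    rcases i with i | i <;> rcases j with j | j <;> fin_cases i <;> fin_cases j <;>
      simp [Matrix.single_apply, f1, f2, f3, f4, f5, f6, f7, f8]
  · rintro ⟨a, rfl⟩
    constructor
    · ext i j
      rw [entry]
      rcases i with i | i <;> rcases j with j | j <;> fin_cases i <;> fin_cases j <;>
        simp [Matrix.single_apply]
    · rintro _ ⟨v, rfl⟩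
      rw [Submodule.mem_span_pair]
      refine ⟨-a * v (Sum.inr 1), a * v (Sum.inr 0), ?_⟩
      ext j
      rcases j with j | j <;> fin_cases j <;>
        simp [Matrix.mulVec, dotProduct, Fintype.sum_sum_type, Fin.sum_univ_three,
          Matrix.single_apply, Pi.single_apply]

end Aux

/-- Let k be a field with 2 ≠ 0, index k⁶ by two copies of {0,1,2} (basis vectors p₁, p₂, p₃ in the
first copy and p₄, p₅, p₆ in the second), let Q be the symmetric matrix with blocks ((0, 1), (1,
0)), so that the form it defines pairs pᵢ with pᵢ₊₃, and let W₀ be the span of p₁ and p₂. Then a 6 ×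
6 matrix A satisfies AᵀQ + QA = 0 (A lies in the orthogonal Lie algebra of Q) and has the image of
Aᵀ contained in W₀ if and only if A = a · (E₄₂ − E₅₁) for some scalar a, where Eᵢⱼ is the matrix
unit. (The lemma in the source concludes that the set of such A inside a certain nilpotent orbit
closure of this Lie algebra is one-dimensional; this row is the computation its proof performs,
which determines all such A in the Lie algebra. Characteristic 2 is excluded: there E₁₄ᵀ also
qualifies.) -/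
theorem result (k : Type u) [Field k] (h2 : (2 : k) ≠ 0)
    (A : Matrix (Fin 3 ⊕ Fin 3) (Fin 3 ⊕ Fin 3) k) :
    (A.transpose * Matrix.fromBlocks (0 : Matrix (Fin 3) (Fin 3) k) 1 1 0 +
        Matrix.fromBlocks (0 : Matrix (Fin 3) (Fin 3) k) 1 1 0 * A = 0 ∧
      LinearMap.range (Matrix.mulVecLin A.transpose) ≤
        Submodule.span k {Pi.single (Sum.inl 0 : Fin 3 ⊕ Fin 3) (1 : k), Pi.single (Sum.inl 1 : Fin 3 ⊕ Fin 3) (1 : k)}) ↔
    ∃ a : k, A = a • (Matrix.single (Sum.inr 0) (Sum.inl 1) (1 : k) - Matrix.single (Sum.inr 1) (Sum.inl 0) (1 : k)) := by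
  exact main h2 A

end Groth.Agent.S16016
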