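import Groth.Statements.S16017
import Mathlib.Topology.Algebra.InfiniteSum.Group
import Mathlib.Analysis.Normed.Group.InfiniteSum
import Mathlib.Analysis.SpecificLimits.Basic
import Mathlib.Tactic
import Mathlib.Topology.Algebra.InfiniteSum.Order

set_option autoImplicit false
universe u
open W4c3ghconstell

namespace Groth.Agent.S16017

/-- Let ι index the irreducible representations, θ : ι → ℚ a weight negative at only finitely many
indices (the finite set D₋), h h' : ι → ℕ with h' ≤ h pointwise (the isotypic dimensions of an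
object and of a sub-object) and Σ_i θ_i h_i summable. For a finite set D of indices put S_D = Σ_{i ∉
D} θ_i h_i, d = #(D ∖ D₋), and θ̃_D = Σ_{i ∈ D} θ_i h'_i + (S_D / d) · Σ_{i ∈ D ∖ D₋} h'_i / h_i,
the modified weight attached to the parameters chosen for D (for D ⊇ D₋ the first sum is the
negative part plus the part over D ∖ D₋). Then θ̃_D tends to Σ_i θ_i h'_i as D grows through the
finite subsets of ι. (Here D runs over all finite sets of indices and a quotient by zero is zero;
the source lets D run over the finite subsets of the locus θ ≠ 0 containing D₋, and the same tail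
estimate gives both.) -/
theorem result {ι : Type u} [DecidableEq ι] (θ : ι → ℚ) (h h' : ι → ℕ)
    (hle : ∀ i, h' i ≤ h i) (hfin : {i | θ i < 0}.Finite)
    (hsum : Summable (fun i => (θ i : ℝ) * (h i : ℝ))) :
    Filter.Tendsto
      (fun D : Finset ι =>
        (∑ i ∈ D, (θ i : ℝ) * (h' i : ℝ)) +
          ((∑' i, if i ∈ D then (0 : ℝ) else (θ i : ℝ) * (h i : ℝ)) / ((D \ hfin.toFinset).card : ℝ)) *
            ∑ i ∈ D \ hfin.toFinset, ((h' i : ℝ) / (h i : ℝ)))
      Filter.atTop (nhds (∑' i, (θ i : ℝ) * (h' i : ℝ))) := by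
  classical
  set f : ι → ℝ := fun i => (θ i : ℝ) * (h i : ℝ) with hf
  have hsum' : Summable f := hsum
  set g : ι → ℝ := fun i => (θ i : ℝ) * (h' i : ℝ) with hg
  -- `g` is summable, dominated by `|f|`
  have hgs : Summable g := by
    refine Summable.of_norm_bounded (g := fun i => |f i|) (summable_abs_iff.mpr hsum) (fun i => ?_)
    simp only [hf, hg, Real.norm_eq_abs, abs_mul]
    refine mul_le_mul_of_nonneg_left ?_ (abs_nonneg _)
    simp only [Nat.abs_cast]
    exact_mod_cast hle i
  have h1 : Filter.Tendsto (fun D : Finset ι => ∑ i ∈ D, g i) Filter.atTop (nhds (∑' i, g i)) :=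
    hgs.hasSum
  -- the tails of `f` tend to zero
  have hT : ∀ D : Finset ι, (∑' i, if i ∈ D then (0 : ℝ) else f i) = ∑' b : {x // x ∉ D}, f b := by
    intro D
    have := tsum_subtype {x | x ∉ D} f
    rw [show (∑' b : {x // x ∉ D}, f b) = ∑' x : ({x | x ∉ D} : Set ι), f x from rfl, this]
    congr 1
    funext i
    by_cases hi : i ∈ D <;> simp [Set.indicator, hi]
  have h2 : Filter.Tendsto (fun D : Finset ι => ∑' i, if i ∈ D then (0 : ℝ) else f i)
      Filter.atTop (nhds 0) := by
    simp_rw [hT]
    exact tendsto_tsum_compl_atTop_zero f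
  -- the correction term is bounded by the tail
  have h3 : Filter.Tendsto (fun D : Finset ι =>
      ((∑' i, if i ∈ D then (0 : ℝ) else f i) / ((D \ hfin.toFinset).card : ℝ)) *
        ∑ i ∈ D \ hfin.toFinset, ((h' i : ℝ) / (h i : ℝ))) Filter.atTop (nhds 0) := by
    refine squeeze_zero_norm (fun D => ?_) (tendsto_norm_zero.comp h2)
    simp only [Function.comp]
    set T : ℝ := ∑' i, if i ∈ D then (0 : ℝ) else f i
    set c : ℝ := ((D \ hfin.toFinset).card : ℝ)
    set Rr : ℝ := ∑ i ∈ D \ hfin.toFinset, ((h' i : ℝ) / (h i : ℝ))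
    have hR0 : 0 ≤ Rr := Finset.sum_nonneg fun i _ => by positivity
    have hRc : Rr ≤ c := by
      have : Rr ≤ ∑ _i ∈ D \ hfin.toFinset, (1 : ℝ) := by
        refine Finset.sum_le_sum fun i _ => ?_
        rcases Nat.eq_zero_or_pos (h i) with h0 | hpos
        · simp [h0]
        · rw [div_le_one (by exact_mod_cast hpos)]
          exact_mod_cast hle i
      simpa using this
    have hc0 : 0 ≤ c := Nat.cast_nonneg _
    rcases eq_or_lt_of_le hc0 with hc | hc
    · rw [← hc]; simp
    · rw [norm_mul, norm_div, Real.norm_of_nonneg hc0, Real.norm_of_nonneg hR0, div_mul_eq_mul_div,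
        div_le_iff₀ hc]
      exact mul_le_mul_of_nonneg_left hRc (norm_nonneg _)
  have := h1.add h3
  rw [add_zero] at this
  exact this

end Groth.Agent.S16017
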