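import Groth.Statements.S1602
import Groth.Agent.S1566
import Groth.Agent.Lib.H8DenseDim
import Groth.Agent.Lib.CurveFinite54
import Mathlib.AlgebraicGeometry.ZariskisMainTheorem

set_option autoImplicit false
universe u
open CategoryTheory CategoryTheory.Limits AlgebraicGeometry
open Curves

namespace Groth.Agent.S1602

/-- Let X be proper of dimension at most one over k and f : X' → X a proper morphism which is an
isomorphism over a dense open of X whose preimage is dense in X'. Then the k-dimension of H^1 of the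
structure sheaf of X' is at most that of X. -/
theorem result (k : Type u) [Field k] (X X' : Scheme.{u}) [X.Over (Spec (CommRingCat.of k))] [X'.Over (Spec (CommRingCat.of k))]
    [IsProper (X ↘ (Spec (CommRingCat.of k)))] (hdim : topologicalKrullDim X ≤ 1) (f : X' ⟶ X) [IsProper f] (hf : f ≫ (X ↘ (Spec (CommRingCat.of k))) = X' ↘ (Spec (CommRingCat.of k)))
    (U : X.Opens) (hU : Dense (U : Set X)) (hU' : Dense ((f ⁻¹ᵁ U : X'.Opens) : Set X')) (hfU : IsIso (f ∣_ U)) :
    Curv2.genus k X' ≤ Curv2.genus k X := by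
  -- `X'` is of finite type over `k`
  haveI hlft : LocallyOfFiniteType (X' ↘ (Spec (CommRingCat.of k))) := by
    rw [← hf]
    infer_instance
  haveI hqc : QuasiCompact (X' ↘ (Spec (CommRingCat.of k))) := by
    rw [← hf]
    infer_instance
  haveI hXl' : IsLocallyNoetherian X' :=
    LocallyOfFiniteType.isLocallyNoetherian (X' ↘ (Spec (CommRingCat.of k)))
  haveI hcpt : CompactSpace X' := by
    have := (quasiCompact_iff_compactSpace (X' ↘ (Spec (CommRingCat.of k)))).mp
    exact HasAffineProperty.iff_of_isAffine.mp hqc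
  haveI hXN' : IsNoetherian X' := { }
  -- `dim X' ≤ 1`
  have hdim' : topologicalKrullDim X' ≤ 1 := by
    rw [← Groth.Agent.Lib.H8DenseDim.dim_dense_open k X' ((f ⁻¹ᵁ U : X'.Opens) : Set X')
      (f ⁻¹ᵁ U).isOpen hU']
    have hhomeo : IsHomeomorph (f ∣_ U) := (Scheme.homeoOfIso (asIso (f ∣_ U))).isHomeomorph
    have h1 := IsHomeomorph.topologicalKrullDim_eq (f ∣_ U) hhomeo
    have h2 : topologicalKrullDim ↥(U : Set X) ≤ topologicalKrullDim X :=
      topologicalKrullDim_subspace_le X (U : Set X)
    exact (le_of_eq h1).trans (h2.trans hdim)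
  -- the complement of `f⁻¹ U` is finite
  have hCfin : (((f ⁻¹ᵁ U : X'.Opens) : Set X')ᶜ).Finite := by
    have hCcl : IsClosed (((f ⁻¹ᵁ U : X'.Opens) : Set X')ᶜ) := (f ⁻¹ᵁ U).isOpen.isClosed_compl
    obtain ⟨S, hSf, hScl, hSirr, hSeq⟩ :=
      TopologicalSpace.NoetherianSpace.exists_finite_set_isClosed_irreducible hCcl
    rw [hSeq]
    refine Set.Finite.sUnion hSf fun T hT => ?_
    obtain ⟨ξ, hξ⟩ := QuasiSober.sober (hSirr T hT) (hScl T hT)
    have hξT : ξ ∈ T := hξ.mem
    have hξC : ξ ∉ ((f ⁻¹ᵁ U : X'.Opens) : Set X') := by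
      have : ξ ∈ ((f ⁻¹ᵁ U : X'.Opens) : Set X')ᶜ := by
        rw [hSeq]
        exact Set.mem_sUnion.mpr ⟨T, hT, hξT⟩
      exact this
    have hcl := Groth.Agent.Lib.CurveFinite54.isClosed_singleton_of_not_mem_dense hdim'
      ((f ⁻¹ᵁ U : X'.Opens) : Set X') (f ⁻¹ᵁ U).isOpen hU' ξ hξC
    have hT' : T = {ξ} := by
      have := hξ.def
      rw [hcl.closure_eq] at this
      exact this.symm
    rw [hT']
    exact Set.finite_singleton ξ
  -- fibres are finite
  have hfib : ∀ x : X, (f ⁻¹' {x}).Finite := by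
    intro x
    by_cases hx : x ∈ U
    · refine Set.Subsingleton.finite ?_
      intro a ha b hb
      have haU : a ∈ f ⁻¹ᵁ U := by
        change f a ∈ U
        rw [ha]; exact hx
      have hbU : b ∈ f ⁻¹ᵁ U := by
        change f b ∈ U
        rw [hb]; exact hx
      have hinj : Function.Injective (f ∣_ U) :=
        (Scheme.homeoOfIso (asIso (f ∣_ U))).injective
      have h1 : (f ∣_ U) ⟨a, haU⟩ = (f ∣_ U) ⟨b, hbU⟩ := by
        apply Subtype.ext
        rw [morphismRestrict_base_coe, morphismRestrict_base_coe]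
        exact ha.trans hb.symm
      exact congrArg Subtype.val (hinj h1)
    · refine hCfin.subset fun a ha => ?_
      intro haU
      apply hx
      have : f a ∈ U := haU
      rwa [ha] at this
  haveI : LocallyQuasiFinite f := LocallyQuasiFinite.of_finite_preimage_singleton f hfib
  haveI : IsFinite f := IsFinite.of_isProper_of_locallyQuasiFinite f
  haveI : IsClosedImmersion (f ∣_ U) := inferInstance
  exact Groth.Agent.S1566.result k X X' hdim f hf U hU inferInstance

end Groth.Agent.S1602
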