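import Groth.Statements.S16030
import Mathlib.RingTheory.Ideal.Operations
import Mathlib.RingTheory.Spectrum.Prime.Topology

set_option autoImplicit false
universe u
open CAlg

namespace Groth.Agent.S16030

/-- For a finite set F of points of the spectrum of a commutative ring A and an open subset U containing
F, some basic open D(a) contains F and is contained in U. -/
theorem result
    (A : Type u) [CommRing A] (F : Set (PrimeSpectrum A)) (hF : F.Finite)
    (U : TopologicalSpace.Opens (PrimeSpectrum A)) (hFU : F ⊆ (U : Set (PrimeSpectrum A))) :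
    ∃ a : A, F ⊆ (PrimeSpectrum.basicOpen a : Set (PrimeSpectrum A)) ∧ PrimeSpectrum.basicOpen a ≤ U := by
  classical
  set I : Ideal A := PrimeSpectrum.vanishingIdeal ((U : Set (PrimeSpectrum A))ᶜ) with hI
  have hUc : PrimeSpectrum.zeroLocus (I : Set A) = (U : Set (PrimeSpectrum A))ᶜ := by
    rw [hI, PrimeSpectrum.zeroLocus_vanishingIdeal_eq_closure]
    exact (U.isOpen.isClosed_compl).closure_eq
  have hnot : ∀ p ∈ F, ¬ I ≤ p.asIdeal := by
    intro p hp hle
    have : p ∈ PrimeSpectrum.zeroLocus (I : Set A) := by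
      rw [PrimeSpectrum.mem_zeroLocus]; exact hle
    rw [hUc] at this
    exact this (hFU hp)
  have hex : ∃ a ∈ I, ∀ p ∈ F, a ∉ p.asIdeal := by
    by_contra hcon
    push Not at hcon
    rcases F.eq_empty_or_nonempty with rfl | ⟨p₀, hp₀⟩
    · obtain ⟨p, hp, -⟩ := hcon 0 I.zero_mem
      exact hp
    · have hsub : (I : Set A) ⊆ ⋃ p ∈ (↑hF.toFinset : Set (PrimeSpectrum A)), (p.asIdeal : Set A) := by
        intro a ha
        obtain ⟨p, hp, hap⟩ := hcon a ha
        exact Set.mem_biUnion (by simpa using hp) hap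
      obtain ⟨p, hp, hle⟩ := (Ideal.subset_union_prime (f := fun p : PrimeSpectrum A => p.asIdeal)
        p₀ p₀ (fun p _ _ _ => p.isPrime)).mp hsub
      exact hnot p (by simpa using hp) hle
  obtain ⟨a, haI, haF⟩ := hex
  refine ⟨a, fun p hp => ?_, ?_⟩
  · exact haF p hp
  · intro p hp
    by_contra hpU
    have : p ∈ PrimeSpectrum.zeroLocus (I : Set A) := by rw [hUc]; exact hpU
    rw [PrimeSpectrum.mem_zeroLocus] at this
    exact hp (this haI)

end Groth.Agent.S16030
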