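import Groth.Statements.S16031
import Groth.Agent.Lib.Ferrand24g
import Groth.Agent.Lib.Ferrand24h

set_option autoImplicit false
universe u
open CategoryTheory CategoryTheory.Limits AlgebraicGeometry
open FlatMor

namespace Groth.Agent.S16031

open Groth.Agent.Lib.Ferrand24 in
/-- Let θ₁ : Y ⟶ X₁ and θ₂ : Y ⟶ X₂ be closed immersions of schemes and let X, with φ₁ : X₁ ⟶ X and φ₂ :
X₂ ⟶ X, be their pushout in the category of schemes. If a finite set E of points of X has each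
preimage φᵢ⁻¹(E) contained in an affine open of Xᵢ, then E is contained in an affine open of X. -/
theorem result
    {Y X₁ X₂ X : Scheme.{u}} (θ₁ : Y ⟶ X₁) (θ₂ : Y ⟶ X₂) [IsClosedImmersion θ₁] [IsClosedImmersion θ₂]
    (φ₁ : X₁ ⟶ X) (φ₂ : X₂ ⟶ X) (hX : IsPushout θ₁ θ₂ φ₁ φ₂)
    (E : Set ↥X) (hE : E.Finite)
    (h₁ : ∃ U₁ : X₁.Opens, IsAffineOpen U₁ ∧ φ₁ ⁻¹' E ⊆ (U₁ : Set ↥X₁))
    (h₂ : ∃ U₂ : X₂.Opens, IsAffineOpen U₂ ∧ φ₂ ⁻¹' E ⊆ (U₂ : Set ↥X₂)) :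
    ∃ U : X.Opens, IsAffineOpen U ∧ E ⊆ (U : Set ↥X) := by
  have haff : ∀ y : X₂, ∃ U : X₁.Opens, IsAffineOpen U ∧ θ₂ ⁻¹' {y} ⊆ θ₁ ⁻¹' (U : Set X₁) := by
    intro y
    by_cases hy : ∃ z, θ₂ z = y
    · obtain ⟨z, rfl⟩ := hy
      obtain ⟨_, ⟨U, hU, rfl⟩, hzU, -⟩ :=
        X₁.isBasis_affineOpens.exists_subset_of_mem_open (Set.mem_univ (θ₁ z)) isOpen_univ
      refine ⟨U, hU, ?_⟩
      intro z' hz'
      have : z' = z := θ₂.isClosedEmbedding.injective hz'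
      rw [this]
      exact hzU
    · refine ⟨⊥, isAffineOpen_bot X₁, ?_⟩
      intro z hz
      exact absurd ⟨z, hz⟩ hy
  obtain ⟨hc₁, hc₂⟩ := exists_charts θ₁ θ₂ haff
  obtain ⟨hpb, hb, hjs, ha, -⟩ := props_of_isPushout_of_charts hc₁ hc₂ hX
  have ha' : IsClosedImmersion φ₁ := ha inferInstance
  obtain ⟨U₁, hU₁, hEU₁⟩ := h₁
  obtain ⟨U₂, hU₂, hEU₂⟩ := h₂
  have hfin₁ : (φ₁ ⁻¹' E).Finite := hE.preimage φ₁.isClosedEmbedding.injective.injOn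
  have hfin₂ : (φ₂ ⁻¹' E).Finite := hE.preimage φ₂.isClosedEmbedding.injective.injOn
  have hcompat : ∀ y : Y, θ₁ y ∈ φ₁ ⁻¹' E ↔ θ₂ y ∈ φ₂ ⁻¹' E := by
    intro y
    have h : φ₁ (θ₁ y) = φ₂ (θ₂ y) := congr($(hX.w) y)
    simp only [Set.mem_preimage, h]
  obtain ⟨k, hG, hH, hEG, hEH⟩ := exists_affine_pair_of_finite θ₁ θ₂ _ _ hfin₁ hfin₂ hcompat
    U₁ hU₁ hEU₁ U₂ hU₂ hEU₂
  obtain ⟨W, hW, hWa, hWb⟩ := exists_isAffineOpen_of_pair hc₁ hc₂ hX k hG hH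
  refine ⟨W, hW, ?_⟩
  intro p hp
  rcases hjs p with ⟨x, rfl⟩ | ⟨t, rfl⟩
  · exact hWa x (hEG hp)
  · exact hWb t (hEH hp)

end Groth.Agent.S16031
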