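import Groth.Statements.S16045
import Groth.Agent.Lib.Ferrand24p
import Groth.Agent.Lib.Ferrand24g

set_option autoImplicit false
universe u
open CategoryTheory CategoryTheory.Limits AlgebraicGeometry
open FlatMor

namespace Groth.Agent.S16045

open Groth.Agent.Lib.Ferrand24 in
/-- Let θ₁ : Y ⟶ X₁ and θ₂ : Y ⟶ X₂ be closed immersions of schemes over S and X their pushout in
schemes over S. For a flat morphism g : S' ⟶ S, the square obtained by base change along g is a
pushout in schemes over S': pinching along a closed subscheme commutes with flat base change. -/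
theorem result
    {S S' : Scheme.{u}} (g : S' ⟶ S) [Flat g]
    {Y X₁ X₂ X : Over S} (θ₁ : Y ⟶ X₁) (θ₂ : Y ⟶ X₂) [IsClosedImmersion θ₁.left] [IsClosedImmersion θ₂.left]
    (φ₁ : X₁ ⟶ X) (φ₂ : X₂ ⟶ X) (hX : IsPushout θ₁ θ₂ φ₁ φ₂) :
    IsPushout ((Over.pullback g).map θ₁) ((Over.pullback g).map θ₂)
      ((Over.pullback g).map φ₁) ((Over.pullback g).map φ₂) := by
  have hP : IsPushout θ₁.left θ₂.left φ₁.left φ₂.left := hX.map (Over.forget S)
  haveI : IsIntegralHom θ₂.left := inferInstance
  have haff : ∀ y : X₂.left, ∃ U : X₁.left.Opens, IsAffineOpen U ∧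
      θ₂.left ⁻¹' {y} ⊆ θ₁.left ⁻¹' (U : Set X₁.left) := by
    intro y
    by_cases hy : ∃ z, θ₂.left z = y
    · obtain ⟨z, hz⟩ := hy
      obtain ⟨_, ⟨U, hU, rfl⟩, hzU, -⟩ :=
        X₁.left.isBasis_affineOpens.exists_subset_of_mem_open (Set.mem_univ (θ₁.left z))
          isOpen_univ
      refine ⟨U, hU, ?_⟩
      intro z' hz'
      have : z' = z := θ₂.left.isClosedEmbedding.injective ((hz'.trans hz.symm))
      rw [this]
      exact hzU
    · refine ⟨⊥, isAffineOpen_bot _, ?_⟩
      intro z hz
      exact absurd ⟨z, hz⟩ hy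
  obtain ⟨hXc, hTc⟩ := exists_charts θ₁.left θ₂.left haff
  obtain ⟨-, hb, hjs, -, haint⟩ := props_of_isPushout_of_charts hXc hTc hP
  haveI : IsClosedImmersion φ₂.left := hb
  haveI : IsIntegralHom φ₁.left := haint inferInstance
  haveI : Flat (pullback.fst X.hom g) := MorphismProperty.pullback_fst _ _ inferInstance
  -- the four maps
  have ea1 : ((Over.pullback g).map φ₁).left ≫ pullback.fst X.hom g =
      pullback.fst X₁.hom g ≫ φ₁.left := by
    simp only [Over.pullback_map_left]
    exact pullback.lift_fst _ _ _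
  have ea2 : ((Over.pullback g).map φ₁).left ≫ pullback.snd X.hom g = pullback.snd X₁.hom g := by
    simp only [Over.pullback_map_left]
    exact pullback.lift_snd _ _ _
  have eb1 : ((Over.pullback g).map φ₂).left ≫ pullback.fst X.hom g =
      pullback.fst X₂.hom g ≫ φ₂.left := by
    simp only [Over.pullback_map_left]
    exact pullback.lift_fst _ _ _
  have eb2 : ((Over.pullback g).map φ₂).left ≫ pullback.snd X.hom g = pullback.snd X₂.hom g := by
    simp only [Over.pullback_map_left]
    exact pullback.lift_snd _ _ _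
  have ei1 : ((Over.pullback g).map θ₁).left ≫ pullback.fst X₁.hom g =
      pullback.fst Y.hom g ≫ θ₁.left := by
    simp only [Over.pullback_map_left]
    exact pullback.lift_fst _ _ _
  have ei2 : ((Over.pullback g).map θ₁).left ≫ pullback.snd X₁.hom g = pullback.snd Y.hom g := by
    simp only [Over.pullback_map_left]
    exact pullback.lift_snd _ _ _
  have ex1 : ((Over.pullback g).map θ₂).left ≫ pullback.fst X₂.hom g =
      pullback.fst Y.hom g ≫ θ₂.left := by
    simp only [Over.pullback_map_left]
    exact pullback.lift_fst _ _ _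
  have hP₁ : IsPullback (pullback.fst X.hom g) (pullback.snd X.hom g) X.hom g :=
    IsPullback.of_hasPullback X.hom g
  have bigX : IsPullback (pullback.fst X₁.hom g)
      (((Over.pullback g).map φ₁).left ≫ pullback.snd X.hom g) (φ₁.left ≫ X.hom) g := by
    rw [ea2, Over.w φ₁]
    exact IsPullback.of_hasPullback X₁.hom g
  have hX₁ := IsPullback.of_bot bigX ea1.symm hP₁
  have bigT : IsPullback (pullback.fst X₂.hom g)
      (((Over.pullback g).map φ₂).left ≫ pullback.snd X.hom g) (φ₂.left ≫ X.hom) g := by
    rw [eb2, Over.w φ₂]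
    exact IsPullback.of_hasPullback X₂.hom g
  have hT₁ := IsPullback.of_bot bigT eb1.symm hP₁
  have bigZ : IsPullback (pullback.fst Y.hom g)
      (((Over.pullback g).map θ₁).left ≫ pullback.snd X₁.hom g) (θ₁.left ≫ X₁.hom) g := by
    rw [ei2, Over.w θ₁]
    exact IsPullback.of_hasPullback Y.hom g
  have hZ₁ := IsPullback.of_bot bigZ ei1.symm (IsPullback.of_hasPullback X₁.hom g)
  have hw : (Over.pullback g).map θ₁ ≫ (Over.pullback g).map φ₁ =
      (Over.pullback g).map θ₂ ≫ (Over.pullback g).map φ₂ := by
    rw [← Functor.map_comp, ← Functor.map_comp, hX.w]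
  have hw₁ : ((Over.pullback g).map θ₁).left ≫ ((Over.pullback g).map φ₁).left =
      ((Over.pullback g).map θ₂).left ≫ ((Over.pullback g).map φ₂).left :=
    congrArg (fun m => CommaMorphism.left m) hw
  have key := isPushout_flat_baseChange hXc hTc hP (pullback.fst X.hom g)
    (pullback.fst X₁.hom g) (pullback.fst X₂.hom g) (pullback.fst Y.hom g)
    ((Over.pullback g).map φ₁).left ((Over.pullback g).map φ₂).left
    ((Over.pullback g).map θ₁).left ((Over.pullback g).map θ₂).left hX₁ hT₁ hZ₁ ex1 hw₁
  exact IsPushout.of_map (Over.forget S') hw key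

end Groth.Agent.S16045
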