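import Groth.Statements.S16048
import Groth.Agent.Lib.H59BaseCRing
import Groth.Agent.Lib.H59ArtFunMinimal
import Groth.Agent.Lib.H71ArtFunFormal
import Groth.Agent.S12720

set_option autoImplicit false
universe u v
open CategoryTheory
open ArtFun

namespace Groth.Agent.S16048

/-- Let Λ be a complete local Noetherian ring with residue field k and F a functor on Artinian local
Λ-algebras with residue field k which admits a hull. A family ξ of F over a complete local
Noetherian Λ-algebra R with residue field k such that R is isomorphic over Λ to a power series ring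
Λ[[t_1, …, t_n]] and the induced map on tangent spaces h_R(k[ε]) → F(k[ε]) is bijective is
miniversal. (The source states this for the deformation functor of a rational double point over the
Witt vectors of an algebraically closed field, with the Kodaira–Spencer map as the tangent map and
the existence of a hull taken from Schlessinger's criteria; the argument uses only the existence of
a hull, so the hull is carried as a hypothesis and Λ is any complete local Noetherian ring with
residue field k.) -/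
theorem result {Λ : Type u} {k : Type u}
    [CommRing Λ] [Field k] [Algebra Λ k] [IsNoetherianRing Λ] [Module.Finite Λ k]
    [IsLocalRing Λ] [IsAdicComplete (IsLocalRing.maximalIdeal Λ) Λ]
    (hk : Function.Surjective (algebraMap Λ k))
    {F : ArtFun.Art Λ k ⥤ Type v} (hF : ArtFun.HasHull F)
    (R : ArtFun.CRing Λ k) (n : ℕ) (e : R.carrier ≃ₐ[Λ] MvPowerSeries (Fin n) Λ)
    (ξ : ArtFun.Family R.carrier R.res F)
    (hξ : Function.Bijective (ArtFun.TangentSpace.ofFamily ξ)) :
    ArtFun.IsMiniversal ξ := by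
  classical
  obtain ⟨⟨H, η, hηv, hηt⟩⟩ := hF
  refine ⟨?_, hξ⟩
  -- H0 from the hull
  have h0 : ArtFun.H0 F := by
    apply Groth.Agent.Lib.ArtFunBasic.h0_of_surjective η
    intro x
    obtain ⟨ψ, hψ⟩ := hηt.2 (F.map (ArtFun.Art.baseToDual) x)
    refine ⟨ArtFun.HomSet.map (ArtFun.Art.toBase _) ψ, ?_⟩
    rw [η.natural, hψ, ← Functor.map_comp_apply]
    have : (ArtFun.Art.baseToDual : ArtFun.Art.base Λ k ⟶ _) ≫ ArtFun.Art.toBase _ = 𝟙 _ :=
      (ArtFun.Art.eq_toBase _).trans (ArtFun.Art.eq_toBase _).symm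
    rw [this, Functor.map_id_apply]
  -- the comparison map
  obtain ⟨v, hv, hvξ⟩ := Groth.Agent.S12720.result h0 H η hηv R ξ.toFormalElt
  have hξη : η.along v hv = ξ := Groth.Agent.Lib.H71ArtFunFormal.toFormalElt_injective hvξ
  have hξapp : ∀ (A : ArtFun.Art Λ k) (φ : ArtFun.HomSet R.carrier R.res A),
      ξ.app A φ = η.app A ⟨φ.1.comp v, by rw [← AlgHom.comp_assoc, φ.2, hv]⟩ := by
    intro A φ
    rw [← hξη]
    rfl
  -- v is surjective
  have hvsurj : Function.Surjective v := by
    apply Groth.Agent.Lib.H59ArtFunMinimal.surjective_of_injective_on_dual v hv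
    intro ψ₁ ψ₂ h12
    apply hξ.1
    change ξ.app _ ψ₁ = ξ.app _ ψ₂
    rw [hξapp, hξapp]
    congr 1
    exact Subtype.ext h12
  -- h_R is smooth
  have hRS0 : R.res.comp (Algebra.ofId Λ R.carrier) = Algebra.ofId Λ k :=
    AlgHom.ext (fun l => R.res.commutes l)
  have hHS0 : H.res.comp (Algebra.ofId Λ H.carrier) = Algebra.ofId Λ k :=
    AlgHom.ext (fun l => H.res.commutes l)
  have hst : @IsScalarTower Λ (Groth.Agent.Lib.H59BaseCRing.baseCRing hk).carrier R.carrier _ _ _ :=
    IsScalarTower.left (M := Λ) (α := R.carrier)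
  have hversR : ArtFun.IsVersal ((ArtFun.Family.self Λ (Algebra.ofId Λ k)).along
      (Algebra.ofId Λ R.carrier) hRS0) :=
    @Groth.Agent.Lib.H59PowerSeriesSmooth.isVersal_of_iso Λ k _ _ _ _ _
      (Groth.Agent.Lib.H59BaseCRing.baseCRing hk) R R.algebra hst hRS0 n e
  -- the section
  obtain ⟨s, hs, hvs, _⟩ := Groth.Agent.Lib.H59ArtFunSection.exists_section R H
    (Algebra.ofId Λ R.carrier) hRS0 (Algebra.ofId Λ H.carrier) hHS0 v hv
    (AlgHom.ext (fun l => v.commutes l)) hvsurj hversR
  have hvsx : ∀ r, v (s r) = r := fun r => DFunLike.congr_fun hvs r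
  -- s is surjective
  have hssurj : Function.Surjective s := by
    apply Groth.Agent.Lib.H59ArtFunMinimal.surjective_of_injective_on_dual s hs
    intro ψ₁ ψ₂ h12
    -- ψ_i = θ_i ∘ v for θ_i ∈ h_R(dual)
    have hsurjv : ∀ ψ : ArtFun.HomSet H.carrier H.res (ArtFun.Art.dual Λ k),
        ∃ θ : ArtFun.HomSet R.carrier R.res (ArtFun.Art.dual Λ k), θ.1.comp v = ψ.1 := by
      intro ψ
      obtain ⟨θ, hθ⟩ := hξ.2 (η.app _ ψ)
      refine ⟨θ, ?_⟩
      change ξ.app _ θ = η.app _ ψ at hθ
      rw [hξapp] at hθ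
      exact congrArg Subtype.val (hηt.1 hθ)
    obtain ⟨θ₁, hθ₁⟩ := hsurjv ψ₁
    obtain ⟨θ₂, hθ₂⟩ := hsurjv ψ₂
    have h3 : θ₁.1 = θ₂.1 := by
      apply AlgHom.ext
      intro r
      have := DFunLike.congr_fun h12 r
      change ψ₁.1 (s r) = ψ₂.1 (s r) at this
      rw [← hθ₁, ← hθ₂] at this
      change θ₁.1 (v (s r)) = θ₂.1 (v (s r)) at this
      rwa [hvsx] at this
    apply Subtype.ext
    rw [← hθ₁, ← hθ₂, h3]
  have hsv : ∀ h, s (v h) = h := by
    intro h
    obtain ⟨r, rfl⟩ := hssurj h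
    rw [hvsx]
  -- versality
  intro B A μ hμ φ y hy
  rw [hξapp] at hy
  obtain ⟨ψH, hψH1, hψH2⟩ := hηv μ hμ _ y hy
  have hψH1' : ∀ h, μ (ψH.1 h) = φ.1 (v h) := fun h =>
    congrArg (fun t : ArtFun.HomSet H.carrier H.res A => t.1 h) hψH1
  refine ⟨⟨ψH.1.comp s, by rw [← AlgHom.comp_assoc, ψH.2, hs]⟩, ?_, ?_⟩
  · apply Groth.Agent.Lib.ArtFunBasic.homSet_ext
    intro r
    change μ (ψH.1 (s r)) = φ.1 r
    rw [hψH1', hvsx]
  · rw [hξapp, ← hψH2]
    congr 1
    apply Groth.Agent.Lib.ArtFunBasic.homSet_ext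
    intro h
    change ψH.1 (s (v h)) = ψH.1 h
    rw [hsv]

end Groth.Agent.S16048
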