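import Groth.Statements.S16052
import Groth.Agent.Lib.TameKummer2

set_option autoImplicit false
universe u
open Polynomial
open CAlg

namespace Groth.Agent.S16052

/-- Let O be a henselian discrete valuation ring of characteristic zero with algebraically closed
residue field of characteristic p, ϖ a uniformizer and K the fraction field. Let r_1, …, r_m ≥ 1 and
b_1, …, b_m ≥ 1 be integers with gcd(r_i, b_i) = 1 for each i and r_1 + ⋯ + r_m < p, and let v_1, …,
v_m be units of O. Then the splitting field over K of the polynomial ∏_i (y^{r_i} − v_i ϖ^{b_i}) has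
degree lcm(r_1, …, r_m) over K. (In the source O is complete and this polynomial is the y-part of a
deformation y ↦ x² + z² + f(y) of an A_n-singularity with n + 1 = Σ r_i; the proposition goes on to
identify the monodromy element, which is not stated here.) -/
theorem result (O : Type u) [CommRing O] [IsDomain O]
    [IsDiscreteValuationRing O] [HenselianLocalRing O] [CharZero O] [IsAlgClosed (IsLocalRing.ResidueField O)]
    (p : ℕ) [Fact p.Prime] [CharP (IsLocalRing.ResidueField O) p]
    (ϖ : O) (hϖ : Irreducible ϖ) (m : ℕ) (r b : Fin m → ℕ) (v : Fin m → Oˣ)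
    (hr : ∀ i, 1 ≤ r i) (hb : ∀ i, 1 ≤ b i) (hrb : ∀ i, Nat.Coprime (r i) (b i)) (hp : ∑ i, r i < p) :
    Module.finrank (FractionRing O)
        (∏ i, (X ^ (r i) - C (algebraMap O (FractionRing O) ((v i : O) * ϖ ^ (b i))))).SplittingField =
      Finset.univ.lcm r := by
  have hri : ∀ i, ¬ p ∣ r i := by
    intro i hpi
    have h1 : r i ≤ ∑ j, r j := Finset.single_le_sum (f := r) (fun _ _ => Nat.zero_le _)
      (Finset.mem_univ i)
    exact absurd (Nat.le_of_dvd (hr i) hpi) (not_le.2 (lt_of_le_of_lt h1 hp))
  have hL : ¬ p ∣ Finset.univ.lcm r := by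
    intro hpL
    have h1 : Finset.univ.lcm r ∣ ∏ i, r i :=
      Finset.lcm_dvd fun i _ => Finset.dvd_prod_of_mem r (Finset.mem_univ i)
    have h2 : p ∣ ∏ i, r i := hpL.trans h1
    obtain ⟨i, -, hi⟩ := (Nat.Prime.prime (Fact.out : p.Prime)).exists_mem_finset_dvd h2
    exact hri i hi
  exact Groth.Agent.Lib.TameKummer.prod_main ϖ hϖ m r b v hrb
    (fun i => Groth.Agent.Lib.TameKummer.isUnit_natCast_of_lt p (hri i))
    (Groth.Agent.Lib.TameKummer.isUnit_natCast_of_lt p hL)

end Groth.Agent.S16052
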