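import Groth.Statements.S1607
import Groth.Agent.Lib.DimOneAff13b
import Mathlib.AlgebraicGeometry.Morphisms.QuasiSeparated

set_option autoImplicit false
universe u
open CategoryTheory CategoryTheory.Limits AlgebraicGeometry
open Variety

namespace Groth.Agent.S1607

/-- If X is affine and each of its local rings is Noetherian of dimension at most one, then every
quasi-compact open subscheme of X is affine. -/
theorem result (X : Scheme.{u}) [IsAffine X]
    (hX : ∀ x : X, IsNoetherianRing (X.presheaf.stalk x) ∧ ringKrullDim (X.presheaf.stalk x) ≤ 1)
    (U : X.Opens) (hU : IsCompact (U : Set X)) : IsAffineOpen U := by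
  have : CompactSpace ↥(U : Scheme.{u}) := isCompact_iff_compactSpace.mp hU
  have : QuasiCompact U.ι := quasiCompact_of_compactSpace U.ι
  have := Groth.Agent.Lib.DimOneAff13.isAffineHom_ι_of_dim_le_one hX U
  exact isAffine_of_isAffineHom U.ι

end Groth.Agent.S1607
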