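import Groth.Statements.S16072
import Groth.Agent.Lib.HopfNonIso

set_option autoImplicit false
universe u
open Hopf

namespace Groth.Agent.S16072

theorem exists_nilp_monoidAlgebra (p : ℕ) [Fact p.Prime] (R : Type u) [CommRing R] [CharP R p] :
    ∃ (x : MonoidAlgebra R (Multiplicative (ZMod p))) (φ : MonoidAlgebra R (Multiplicative (ZMod p)) →ₗ[R] R),
      x ^ p = 0 ∧ φ x = 1 := by
  have hp : p.Prime := Fact.out
  have : Nontrivial R := CharP.nontrivial_of_char_ne_one (R := R) hp.ne_one
  have : Fact (1 < p) := ⟨hp.one_lt⟩
  let g : Multiplicative (ZMod p) := Multiplicative.ofAdd 1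
  have hg : g ≠ 1 := by
    intro h
    have h1 : ((1 : ℕ) : ZMod p) = 0 := by
      rw [Nat.cast_one]; exact congrArg Multiplicative.toAdd h
    rw [ZMod.natCast_eq_zero_iff] at h1
    exact hp.one_lt.ne' (Nat.dvd_one.mp h1)
  have hgp : g ^ p = 1 := by
    change Multiplicative.ofAdd (p • (1 : ZMod p)) = 1
    rw [nsmul_one, ZMod.natCast_self]; rfl
  have hinj : Function.Injective (algebraMap R (MonoidAlgebra R (Multiplicative (ZMod p)))) := by
    intro a b h
    have := congrArg (fun f : MonoidAlgebra R (Multiplicative (ZMod p)) => f.coeff 1) h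
    simpa [MonoidAlgebra.coe_algebraMap] using this
  have : CharP (MonoidAlgebra R (Multiplicative (ZMod p))) p :=
    charP_of_injective_algebraMap hinj p
  refine ⟨MonoidAlgebra.single g 1 - 1,
    (Finsupp.lapply g) ∘ₗ (MonoidAlgebra.coeffLinearEquiv R).toLinearMap, ?_, ?_⟩
  · rw [sub_pow_char, MonoidAlgebra.single_pow, hgp, one_pow, one_pow, MonoidAlgebra.one_def,
      sub_self]
  · rw [map_sub]
    simp [MonoidAlgebra.one_def, hg]

/-- Let p be a prime and R a commutative ring of characteristic p (p = 0 in R, R nonzero). Then the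
constant group scheme ℤ/p and the group scheme μ_p of p-th roots of unity over Spec R are not
isomorphic: there is no R-bialgebra isomorphism between the Hopf algebra Maps(ℤ/p, R) of functions
on the cyclic group of order p and the group algebra R[ℤ/p]. (Any nonzero commutative base ring of
characteristic p is allowed. The published statement allows any ring R with p·R = 0; over the zero
ring both Hopf algebras are the zero ring and hence isomorphic, so R is assumed nonzero here.) -/
theorem result (p : ℕ) [Fact p.Prime] (R : Type u) [CommRing R]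
    [CharP R p] :
    IsEmpty (ConstGrp.F R (Multiplicative (ZMod p)) ≃ₐc[R] MonoidAlgebra R (Multiplicative (ZMod p))) := by
  have hp : p.Prime := Fact.out
  have : Nontrivial R := CharP.nontrivial_of_char_ne_one (R := R) hp.ne_one
  obtain ⟨x, φ, hx, hφ⟩ := exists_nilp_monoidAlgebra p R
  have : NeZero p := ⟨hp.ne_zero⟩
  have h := HopfNe.isEmpty_algEquiv (R := R) (G := Multiplicative (ZMod p)) x p hx φ hφ
  exact ⟨fun e => h.false (e : _ ≃ₐ[R] _)⟩

end Groth.Agent.S16072
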