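import Groth.Statements.S16074
import Mathlib
import Groth.Agent.Lib.AlphaPDual97
import Groth.Agent.Lib.GrpAlgDual97
import Groth.Agent.Lib.HopfNonIso
-- import your own Groth.Agent.* helpers here

set_option autoImplicit false
universe u
open Hopf

namespace Groth.Agent.S16074

/-- Let p be a prime and R a commutative ring of characteristic p (p = 0 in R, R nonzero). Then μ_p and
α_p over Spec R are not isomorphic: there is no R-bialgebra isomorphism between the group algebra
R[ℤ/p] of the cyclic group of order p (group elements group-like) and the Hopf algebra R[X]/(X^p) of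
α_p (X primitive), although the underlying R-algebras R[ℤ/p] = R[Y]/(Y^p) and R[X]/(X^p) are
isomorphic. (Any nonzero commutative base ring of characteristic p is allowed. The published
statement allows any ring R with p·R = 0; over the zero ring both Hopf algebras are the zero ring
and hence isomorphic, so R is assumed nonzero here.) -/
theorem result (p : ℕ) [Fact p.Prime] (R : Type u) [CommRing R] [CharP R p] :
    IsEmpty (MonoidAlgebra R (Multiplicative (ZMod p)) ≃ₐc[R] AlphaP.A p R) := by
  have hp : p.Prime := Fact.out
  have : Nontrivial R := CharP.nontrivial_of_char_ne_one (R := R) hp.ne_one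
  have : NeZero p := ⟨hp.ne_zero⟩
  refine ⟨fun e => ?_⟩
  have hφ : (AlphaP.basis p R).coord ⟨1, hp.one_lt⟩ (AlphaP.x p R) = 1 := by
    have e : AlphaP.x p R = AlphaP.basis p R ⟨1, hp.one_lt⟩ := by
      rw [AlphaP.basis_apply, pow_one]
    rw [e, Module.Basis.coord_apply, Module.Basis.repr_self, Finsupp.single_eq_same]
  have h := HopfNe.isEmpty_algEquiv (R := R) (G := Multiplicative (ZMod p)) (AlphaP.x p R) p
    (AlphaP.x_pow p R) ((AlphaP.basis p R).coord ⟨1, hp.one_lt⟩) hφ
  refine h.false ?_
  exact ((Groth.Agent.GrpAlgDual97.evalEquiv R (Multiplicative (ZMod p))).symm.trans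
    (Groth.Agent.GrpAlgDual97.transposeEquiv R e.symm)).trans
    ((Groth.Agent.AlphaPDual97.psiEquiv p R).symm : _ ≃ₐ[R] _)

end Groth.Agent.S16074
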