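import Groth.Statements.S16077
import Groth.Agent.Lib.MonicRelFree
import Mathlib.RingTheory.Ideal.Quotient.Operations
import Mathlib.RingTheory.MvPolynomial.Ideal
import Mathlib.RingTheory.Nilpotent.Lemmas
import Mathlib.Algebra.CharP.Lemmas
import Mathlib.LinearAlgebra.Dimension.Finrank
import Mathlib.LinearAlgebra.Dimension.Free
import Mathlib.Tactic

set_option autoImplicit false
universe u
open CAlg

namespace Groth.Agent.S16077

open MvPolynomial Groth.Agent.Lib.MonicRelFree

section step1

variable {k : Type u} [Field k] {r : ℕ}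

/-- the ideal `(X_i ^ n_i)`. -/
noncomputable abbrev J (k : Type u) [Field k] {r : ℕ} (n : Fin r → ℕ) : Ideal (MvPolynomial (Fin r) k) :=
  Ideal.span (Set.range fun i : Fin r => (X i : MvPolynomial (Fin r) k) ^ n i)

lemma relI_eq (n : Fin r → ℕ) :
    relI (fun i => (Polynomial.X : Polynomial k) ^ n i) = J k n := by
  unfold relI J
  congr 2
  funext i
  simp

lemma card_redSet (n : Fin r → ℕ) :
    Nat.card (redSet (fun i => (Polynomial.X : Polynomial k) ^ n i)) = ∏ i, n i := by
  have e : redSet (fun i => (Polynomial.X : Polynomial k) ^ n i) ≃ (∀ i, Fin (n i)) :=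
    { toFun := fun x i => ⟨x.1 i, by
        have := x.2 i
        simpa using this⟩
      invFun := fun g => ⟨Finsupp.equivFunOnFinite.symm (fun i => (g i : ℕ)), by
        intro i
        simp⟩
      left_inv := by
        rintro ⟨x, hx⟩
        ext i
        simp
      right_inv := by
        intro g
        ext i
        simp }
  rw [Nat.card_congr e, Nat.card_eq_fintype_card, Fintype.card_pi]
  simp

lemma finrank_quot (n : Fin r → ℕ) (hn : ∀ i, 1 ≤ n i) :
    Module.finrank k (MvPolynomial (Fin r) k ⧸ J k n) = ∏ i, n i := by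
  rw [← relI_eq, ← card_redSet (k := k)]
  have hF : ∀ i, ((Polynomial.X : Polynomial k) ^ n i).Monic := fun i => Polynomial.monic_X_pow _
  have hd : ∀ i, 0 < ((Polynomial.X : Polynomial k) ^ n i).natDegree := fun i => by
    rw [Polynomial.natDegree_X_pow]; exact hn i
  rw [← (redEquiv _ hF hd).finrank_eq]
  exact Module.finrank_eq_nat_card_basis (basisRestrictSupport k _)

end step1

section step2

/-- ideal generated by `m`-th powers of nilpotent elements -/
def Ipow (A : Type*) [CommRing A] (m : ℕ) : Ideal A :=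
  Ideal.span ((fun a => a ^ m) '' (nilradical A : Set A))

lemma Ipow_map {A B : Type*} [CommRing A] [CommRing B] (φ : A ≃+* B) (m : ℕ) :
    (Ipow A m).map (φ : A →+* B) = Ipow B m := by
  unfold Ipow
  rw [Ideal.map_span]
  congr 1
  ext b
  constructor
  · rintro ⟨_, ⟨a, ha, rfl⟩, rfl⟩
    refine ⟨φ a, ?_, ?_⟩
    · exact mem_nilradical.2 ((mem_nilradical.1 ha).map φ)
    · simp
  · rintro ⟨b, hb, rfl⟩
    refine ⟨(φ.symm b) ^ m, ⟨φ.symm b, ?_, rfl⟩, ?_⟩
    · exact mem_nilradical.2 ((mem_nilradical.1 hb).map φ.symm)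
    · simp

variable {k : Type u} [Field k] {r : ℕ} (p : ℕ) [Fact p.Prime] [CharP k p]

lemma Ipow_quot (n : Fin r → ℕ) (hn : ∀ i, 1 ≤ n i) (j : ℕ) :
    Ipow (MvPolynomial (Fin r) k ⧸ J k n) (p ^ j) =
      (J k (fun _ => p ^ j)).map (Ideal.Quotient.mkₐ k (J k n)) := by
  apply le_antisymm
  · unfold Ipow
    rw [Ideal.span_le]
    rintro _ ⟨a, ha, rfl⟩
    obtain ⟨g, rfl⟩ := Ideal.Quotient.mk_surjective a
    -- constant coefficient vanishes
    have hJ : J k n ≤ RingHom.ker (constantCoeff : MvPolynomial (Fin r) k →+* k) := by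
      unfold J
      rw [Ideal.span_le]
      rintro _ ⟨i, rfl⟩
      have : n i ≠ 0 := by have := hn i; omega
      simp [RingHom.mem_ker, this]
    let ev0 : (MvPolynomial (Fin r) k ⧸ J k n) →+* k := Ideal.Quotient.lift _ constantCoeff hJ
    have h0 : constantCoeff g = 0 := by
      have h1 : IsNilpotent (ev0 (Ideal.Quotient.mk _ g)) := (mem_nilradical.1 ha).map ev0
      have h2 : ev0 (Ideal.Quotient.mk _ g) = constantCoeff g := Ideal.Quotient.lift_mk _ _ _
      rw [h2] at h1
      exact h1.eq_zero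
    have hg : g ∈ Ideal.span (Set.range (X : Fin r → MvPolynomial (Fin r) k)) := by
      rw [← Set.image_univ, mem_ideal_span_X_image]
      intro m hm
      by_contra hcon
      push Not at hcon
      have hm0 : m = 0 := by
        ext i
        simpa using hcon i
      rw [hm0, mem_support_iff] at hm
      exact hm h0
    obtain ⟨c, rfl⟩ := (Ideal.mem_span_range_iff_exists_fun).1 hg
    change (Ideal.Quotient.mk (J k n) (∑ i, c i * X i)) ^ p ^ j ∈ _
    rw [← map_pow, sum_pow_char_pow]
    refine Ideal.mem_map_of_mem _ (Ideal.sum_mem _ fun i _ => ?_)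
    rw [mul_pow]
    exact Ideal.mul_mem_left _ _ (Ideal.subset_span ⟨i, rfl⟩)
  · rw [Ideal.map_span, Ideal.span_le]
    rintro _ ⟨_, ⟨i, rfl⟩, rfl⟩
    refine Ideal.subset_span ⟨Ideal.Quotient.mk _ (X i), ?_, ?_⟩
    · rw [SetLike.mem_coe, mem_nilradical]
      refine ⟨n i, ?_⟩
      rw [← map_pow, Ideal.Quotient.eq_zero_iff_mem]
      exact Ideal.subset_span ⟨i, rfl⟩
    · simp

lemma J_sup (n m : Fin r → ℕ) : J k n ⊔ J k m = J k (fun i => min (n i) (m i)) := by
  unfold J
  rw [← Ideal.span_union]
  apply le_antisymm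
  · rw [Ideal.span_le]
    rintro _ (⟨i, rfl⟩ | ⟨i, rfl⟩)
    · have : (X i : MvPolynomial (Fin r) k) ^ n i =
          X i ^ (n i - min (n i) (m i)) * X i ^ (min (n i) (m i)) := by
        rw [← pow_add]; congr 1; omega
      beta_reduce
      rw [this]
      exact Ideal.mul_mem_left _ _ (Ideal.subset_span ⟨i, rfl⟩)
    · have : (X i : MvPolynomial (Fin r) k) ^ m i =
          X i ^ (m i - min (n i) (m i)) * X i ^ (min (n i) (m i)) := by
        rw [← pow_add]; congr 1; omega
      beta_reduce
      rw [this]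
      exact Ideal.mul_mem_left _ _ (Ideal.subset_span ⟨i, rfl⟩)
  · rw [Ideal.span_le]
    rintro _ ⟨i, rfl⟩
    rcases le_total (n i) (m i) with h | h
    · simp only [min_eq_left h]
      exact Ideal.subset_span (Or.inl ⟨i, rfl⟩)
    · simp only [min_eq_right h]
      exact Ideal.subset_span (Or.inr ⟨i, rfl⟩)

lemma finrank_quot_Ipow (n : Fin r → ℕ) (hn : ∀ i, 1 ≤ n i) (j : ℕ) :
    Module.finrank k ((MvPolynomial (Fin r) k ⧸ J k n) ⧸
      Ipow (MvPolynomial (Fin r) k ⧸ J k n) (p ^ j)) = ∏ i, min (n i) (p ^ j) := by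
  have hp : 1 ≤ p ^ j := Nat.one_le_pow _ _ (Fact.out : p.Prime).pos
  rw [← finrank_quot (k := k) (fun i => min (n i) (p ^ j)) (fun i => le_min (hn i) hp)]
  rw [← J_sup]
  have e1 : ((MvPolynomial (Fin r) k ⧸ J k n) ⧸ Ipow (MvPolynomial (Fin r) k ⧸ J k n) (p ^ j))
      ≃ₐ[k] ((MvPolynomial (Fin r) k ⧸ J k n) ⧸
        (J k (fun _ => p ^ j)).map (Ideal.Quotient.mkₐ k (J k n))) :=
    Ideal.quotientEquivAlgOfEq k (Ipow_quot p n hn j)
  exact (e1.trans (DoubleQuot.quotQuotEquivQuotSupₐ k (J k n) (J k fun _ => p ^ j))).toLinearEquiv.finrank_eq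

end step2

section comb

lemma sum_min_succ {ι : Type*} [Fintype ι] (e : ι → ℕ) (j : ℕ) :
    ∑ i, min (e i) (j + 1) = ∑ i, min (e i) j + (Finset.univ.filter fun i => j < e i).card := by
  rw [Finset.card_filter, ← Finset.sum_add_distrib]
  refine Finset.sum_congr rfl fun i _ => ?_
  split_ifs <;> omega

lemma card_filter_split {t : ℕ} (g : Fin t → ℕ) (m : ℕ) (hm : 0 < m) :
    (Finset.univ.filter fun i => m - 1 < g i).card =
      (Finset.univ.filter fun i => g i = m).card + (Finset.univ.filter fun i => m < g i).card := by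
  rw [← Finset.card_union_of_disjoint]
  · congr 1
    ext i
    simp only [Finset.mem_filter, Finset.mem_univ, true_and, Finset.mem_union]
    omega
  · rw [Finset.disjoint_filter]
    intro i _ h1 h2
    omega

lemma exists_equiv_of_sum_min {r s : ℕ} (e : Fin r → ℕ) (f : Fin s → ℕ) (he : ∀ i, 1 ≤ e i)
    (hf : ∀ j, 1 ≤ f j) (h : ∀ j, ∑ i, min (e i) j = ∑ i, min (f i) j) :
    ∃ σ : Fin r ≃ Fin s, ∀ i, f (σ i) = e i := by
  have h1 : ∀ j, (Finset.univ.filter fun i => j < e i).card =
      (Finset.univ.filter fun i => j < f i).card := by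
    intro j
    have := h (j + 1)
    rw [sum_min_succ, sum_min_succ, h j] at this
    omega
  have h2 : ∀ m, (Finset.univ.filter fun i => e i = m).card =
      (Finset.univ.filter fun i => f i = m).card := by
    intro m
    rcases Nat.eq_zero_or_pos m with rfl | hm
    · rw [Finset.card_eq_zero.2, Finset.card_eq_zero.2]
      · rw [Finset.filter_eq_empty_iff]
        intro i _ hi
        have := hf i
        omega
      · rw [Finset.filter_eq_empty_iff]
        intro i _ hi
        have := he i
        omega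
    · have k1 := card_filter_split e m hm
      have k2 := card_filter_split f m hm
      rw [h1 (m - 1), h1 m] at k1
      omega
  have h3 : ∀ c, Nonempty ({a // e a = c} ≃ {b // f b = c}) := fun c => by
    apply Fintype.card_eq.1
    rw [Fintype.card_subtype, Fintype.card_subtype]
    exact h2 c
  exact ⟨Equiv.ofFiberEquiv (fun c => (h3 c).some), fun i => Equiv.ofFiberEquiv_map _ i⟩

end comb

/-- Let k be a perfect field of characteristic p > 0 and let e_1, …, e_r ≥ 1 and f_1, …, f_s ≥ 1 be
natural numbers. If the k-algebras k[X_1, …, X_r]/(X_i^{p^{e_i}} : 1 ≤ i ≤ r) and k[X_1, …,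
X_s]/(X_j^{p^{f_j}} : 1 ≤ j ≤ s) are isomorphic, then r = s and (f_j) is a permutation of (e_i):
there is a bijection σ between the index sets with f_{σ(i)} = e_i. Such truncated polynomial
algebras are the coordinate rings of the connected finite k-group schemes, and the row says that the
number of variables and the exponents are invariants of the group, indeed of its algebra. (Only this
invariance is stated here; the existence of such a presentation for every connected finite k-group
is a separate statement.) -/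
theorem result (p : ℕ) [Fact p.Prime] (k : Type u) [Field k]
    [CharP k p] [PerfectField k] (r s : ℕ) (e : Fin r → ℕ) (f : Fin s → ℕ) (he : ∀ i, 1 ≤ e i) (hf : ∀ j, 1 ≤ f j)
    (φ : (MvPolynomial (Fin r) k ⧸ Ideal.span (Set.range fun i : Fin r => (MvPolynomial.X i : MvPolynomial (Fin r) k) ^ p ^ e i)) ≃ₐ[k]
      (MvPolynomial (Fin s) k ⧸ Ideal.span (Set.range fun j : Fin s => (MvPolynomial.X j : MvPolynomial (Fin s) k) ^ p ^ f j))) :
    ∃ σ : Fin r ≃ Fin s, ∀ i : Fin r, f (σ i) = e i := by
  apply exists_equiv_of_sum_min e f he hf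
  intro j
  have hp := (Fact.out : p.Prime)
  have hmap := Ipow_map φ.toRingEquiv (p ^ j)
  have e2 := Ideal.quotientEquivAlg _ _ φ hmap.symm
  have h1 := e2.toLinearEquiv.finrank_eq
  have hone : ∀ a : ℕ, 1 ≤ p ^ a := fun a => Nat.one_le_pow _ _ hp.pos
  have k1 := finrank_quot_Ipow (k := k) p (fun i => p ^ e i) (fun i => hone _) j
  have k2 := finrank_quot_Ipow (k := k) p (fun i => p ^ f i) (fun i => hone _) j
  rw [k1, k2] at h1
  have hmin : ∀ a b : ℕ, min (p ^ a) (p ^ b) = p ^ (min a b) := by
    intro a b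
    rcases le_total a b with hab | hab
    · rw [min_eq_left hab, min_eq_left (Nat.pow_le_pow_right hp.pos hab)]
    · rw [min_eq_right hab, min_eq_right (Nat.pow_le_pow_right hp.pos hab)]
  simp_rw [hmin, Finset.prod_pow_eq_pow_sum] at h1
  exact Nat.pow_right_injective hp.two_le h1

end Groth.Agent.S16077
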