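import Groth.Statements.S16078
import Groth.Agent.Lib.HopfUnitComp61

set_option autoImplicit false
universe u
open scoped TensorProduct
open Hopf

namespace Groth.Agent.S16078

/-- If `K ≤ ker ε`, `A/K` is local, `f` is idempotent modulo `K` and `ε f = 1`, then `1 - f ∈ K`. -/
theorem one_sub_mem_of_local {A S : Type*} [CommRing A] [CommRing S] [Nontrivial S] (ε : A →+* S)
    (K : Ideal A) (hK : K ≤ RingHom.ker ε) [IsLocalRing (A ⧸ K)] (f : A) (hf : f * f - f ∈ K)
    (h1 : ε f = 1) : 1 - f ∈ K := by
  have hidem : IsIdempotentElem (Ideal.Quotient.mk K f) := by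
    change _ * _ = _
    rw [← map_mul, ← sub_eq_zero, ← map_sub, Ideal.Quotient.eq_zero_iff_mem]
    exact hf
  have := Groth.Agent.Lib.HopfUnitComp61.eq_one_of_isIdempotentElem_of_map_eq_one
    (Ideal.Quotient.lift K ε (fun a ha => hK ha)) hidem (by rw [Ideal.Quotient.lift_mk]; exact h1)
  rw [← Ideal.Quotient.eq_zero_iff_mem, map_sub, map_one, this, sub_self]

/-- In a commutative ring, if `1 - a = x (1 - b)` and `1 - b = y (1 - a)` with `a`, `b` idempotent,
then `a = b`. -/
theorem idem_eq_of_dvd {B : Type*} [CommRing B] {a b x y : B} (ha : IsIdempotentElem a)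
    (hb : IsIdempotentElem b) (h1 : 1 - a = x * (1 - b)) (h2 : 1 - b = y * (1 - a)) : a = b := by
  have ha' : a * a = a := ha
  have hb' : b * b = b := hb
  have e1 : (1 - a) * b = 0 := by
    rw [h1]
    have : x * (1 - b) * b = x * (b - b * b) := by ring
    rw [this, hb', sub_self, mul_zero]
  have e2 : (1 - b) * a = 0 := by
    rw [h2]
    have : y * (1 - a) * a = y * (a - a * a) := by ring
    rw [this, ha', sub_self, mul_zero]
  have e3 : b = a * b := by
    have : (1 - a) * b = b - a * b := by ring
    rw [this] at e1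
    exact sub_eq_zero.1 e1
  have e4 : a = a * b := by
    have : (1 - b) * a = a - a * b := by ring
    rw [this] at e2
    exact sub_eq_zero.1 e2
  rw [e4]
  exact e3.symm

/-- Let R be a henselian Noetherian local ring, A and A'' commutative Hopf algebras over R which are
finite and flat as R-modules, and A'' → A an R-algebra homomorphism compatible with
comultiplications and counits making A faithfully flat over A'' (a faithfully flat homomorphism π :
G → G'' of finite flat R-groups); let J ⊆ A be the ideal generated by the image of the augmentation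
ideal of A'' (G' = Spec A/J = ker π, so that 1 → G' → G → G'' → 1 is exact). Let e ∈ A and e'' ∈ A''
be idempotents with ε(e) = 1, ε(e'') = 1 and A/(1 − e), A''/(1 − e'') local rings (the unit
components G⁰ and G''⁰), and let e' ∈ A be an element whose image in A/J is an idempotent, with
ε(e') = 1 and A/(J + (1 − e')) local (so G'⁰ = Spec (A/J)/(1 − e') is the unit component of G').
Suppose g : A''/(1 − e'') → A/(1 − e) is the ring homomorphism induced by A'' → A (the restriction
π⁰ : G⁰ → G''⁰ of π, which exists because G⁰ is connected). Then g is faithfully flat, and e ≡ e'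
modulo J, i.e. J + (1 − e) = J + (1 − e') and the kernel of π⁰, which is cut out in G⁰ by J, is
exactly G'⁰: the sequence 1 → G'⁰ → G⁰ → G''⁰ → 1 is exact. (The published statement also asserts
exactness of the maximal étale quotient G ↦ G^ét, not stated here.) -/
theorem result (R : Type u) [CommRing R] [HenselianLocalRing R]
    [IsNoetherianRing R] (A A'' : Type u) [CommRing A] [HopfAlgebra R A] [Module.Finite R A] [Module.Flat R A]
    [CommRing A''] [HopfAlgebra R A''] [Module.Finite R A''] [Module.Flat R A'']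
    [Algebra A'' A] [IsScalarTower R A'' A] [Module.FaithfullyFlat A'' A]
    (hΔ : (Bialgebra.comulAlgHom R A).comp (IsScalarTower.toAlgHom R A'' A) =
      (Algebra.TensorProduct.map (IsScalarTower.toAlgHom R A'' A) (IsScalarTower.toAlgHom R A'' A)).comp
        (Bialgebra.comulAlgHom R A''))
    (hε : (Bialgebra.counitAlgHom R A).comp (IsScalarTower.toAlgHom R A'' A) = Bialgebra.counitAlgHom R A'')
    (e : A) (he : IsIdempotentElem e) (heε : Bialgebra.counitAlgHom R A e = 1)
    [IsLocalRing (A ⧸ Ideal.span ({1 - e} : Set A))]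
    (e'' : A'') (he'' : IsIdempotentElem e'') (he''ε : Bialgebra.counitAlgHom R A'' e'' = 1)
    [IsLocalRing (A'' ⧸ Ideal.span ({1 - e''} : Set A''))]
    (e' : A) (he' : IsIdempotentElem (Ideal.Quotient.mk ((RingHom.ker (Bialgebra.counitAlgHom R A'')).map (algebraMap A'' A)) e'))
    (he'ε : Bialgebra.counitAlgHom R A e' = 1)
    [IsLocalRing (A ⧸ (((RingHom.ker (Bialgebra.counitAlgHom R A'')).map (algebraMap A'' A)) ⊔ Ideal.span ({1 - e'} : Set A)))]
    (g : (A'' ⧸ Ideal.span ({1 - e''} : Set A'')) →+* (A ⧸ Ideal.span ({1 - e} : Set A)))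
    (hg : g.comp (Ideal.Quotient.mk (Ideal.span ({1 - e''} : Set A''))) =
      (Ideal.Quotient.mk (Ideal.span ({1 - e} : Set A))).comp (algebraMap A'' A)) :
    g.FaithfullyFlat ∧
      Ideal.Quotient.mk ((RingHom.ker (Bialgebra.counitAlgHom R A'')).map (algebraMap A'' A)) e = Ideal.Quotient.mk ((RingHom.ker (Bialgebra.counitAlgHom R A'')).map (algebraMap A'' A)) e' := by
  classical
  have hJε : (RingHom.ker (Bialgebra.counitAlgHom R A'')).map (algebraMap A'' A) ≤
      RingHom.ker ((Bialgebra.counitAlgHom R A : A →ₐ[R] R) : A →+* R) := by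
    rw [Ideal.map_le_iff_le_comap]
    intro x hx
    rw [Ideal.mem_comap, RingHom.mem_ker]
    have := AlgHom.congr_fun hε x
    rw [RingHom.mem_ker] at hx
    change Bialgebra.counitAlgHom R A (algebraMap A'' A x) = 0
    change Bialgebra.counitAlgHom R A (algebraMap A'' A x) = Bialgebra.counitAlgHom R A'' x at this
    rw [this]
    exact hx
  have hspan : ∀ f : A, Bialgebra.counitAlgHom R A f = 1 → Ideal.span ({1 - f} : Set A) ≤
      RingHom.ker ((Bialgebra.counitAlgHom R A : A →ₐ[R] R) : A →+* R) := by
    intro f hf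
    rw [Ideal.span_le]
    intro x hx
    rw [Set.mem_singleton_iff] at hx
    subst hx
    change Bialgebra.counitAlgHom R A (1 - f) = 0
    rw [map_sub, map_one, hf, sub_self]
  constructor
  · -- faithful flatness of `g`
    algebraize [g]
    have hloc : IsLocalization.Away e (A ⧸ Ideal.span ({1 - e} : Set A)) :=
      IsLocalization.Away.quotient_of_isIdempotentElem he
    have hloc'' : IsLocalization.Away e'' (A'' ⧸ Ideal.span ({1 - e''} : Set A'')) :=
      IsLocalization.Away.quotient_of_isIdempotentElem he''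
    have hfl1 : Module.Flat A (A ⧸ Ideal.span ({1 - e} : Set A)) :=
      IsLocalization.flat _ (Submonoid.powers e)
    have hfl2 : Module.Flat A'' (A ⧸ Ideal.span ({1 - e} : Set A)) := Module.Flat.trans A'' A _
    have htower : IsScalarTower A'' (A'' ⧸ Ideal.span ({1 - e''} : Set A''))
        (A ⧸ Ideal.span ({1 - e} : Set A)) := by
      refine IsScalarTower.of_algebraMap_eq (fun x => ?_)
      exact (RingHom.congr_fun hg x).symm
    have hfl3 : Module.Flat (A'' ⧸ Ideal.span ({1 - e''} : Set A''))
        (A ⧸ Ideal.span ({1 - e} : Set A)) :=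
      (Module.flat_iff_of_isLocalization (A'' ⧸ Ideal.span ({1 - e''} : Set A''))
        (Submonoid.powers e'') (A ⧸ Ideal.span ({1 - e} : Set A))).2 hfl2
    have htowerR : IsScalarTower R (A'' ⧸ Ideal.span ({1 - e''} : Set A''))
        (A ⧸ Ideal.span ({1 - e} : Set A)) := by
      refine IsScalarTower.of_algebraMap_eq (fun r => ?_)
      have h1 := RingHom.congr_fun hg (algebraMap R A'' r)
      change g (Ideal.Quotient.mk _ (algebraMap R A'' r)) = _ at h1
      change _ = g (Ideal.Quotient.mk _ (algebraMap R A'' r))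
      rw [h1]
      change Ideal.Quotient.mk _ (algebraMap R A r) = Ideal.Quotient.mk _ (algebraMap A'' A (algebraMap R A'' r))
      rw [← IsScalarTower.algebraMap_apply R A'' A]
    have hfin : Module.Finite R (A ⧸ Ideal.span ({1 - e} : Set A)) :=
      Module.Finite.of_surjective (Ideal.Quotient.mkₐ R (Ideal.span ({1 - e} : Set A))).toLinearMap
        Ideal.Quotient.mk_surjective
    have hint : Algebra.IsIntegral (A'' ⧸ Ideal.span ({1 - e''} : Set A''))
        (A ⧸ Ideal.span ({1 - e} : Set A)) := Algebra.IsIntegral.tower_top (R := R)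
    have hlocal : IsLocalHom (algebraMap (A'' ⧸ Ideal.span ({1 - e''} : Set A''))
        (A ⧸ Ideal.span ({1 - e} : Set A))) :=
      Groth.Agent.Lib.HenselTransfer22.isLocalHom_of_isIntegral
    exact Module.FaithfullyFlat.of_flat_of_isLocalHom
  · -- `e ≡ e'` modulo `J`
    set J := (RingHom.ker (Bialgebra.counitAlgHom R A'')).map (algebraMap A'' A) with hJ
    have hidem' : e' * e' - e' ∈ J := by
      rw [← Ideal.Quotient.eq_zero_iff_mem, map_sub, map_mul, sub_eq_zero]
      exact he'
    -- first membership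
    have m1 : 1 - e ∈ J ⊔ Ideal.span ({1 - e'} : Set A) :=
      one_sub_mem_of_local ((Bialgebra.counitAlgHom R A : A →ₐ[R] R) : A →+* R) _
        (sup_le hJε (hspan e' he'ε)) e (by rw [he.eq, sub_self]; exact Ideal.zero_mem _) heε
    -- the other quotient is local
    have hK : J ⊔ Ideal.span ({1 - e} : Set A) ≤
        RingHom.ker ((Bialgebra.counitAlgHom R A : A →ₐ[R] R) : A →+* R) :=
      sup_le hJε (hspan e heε)
    have hnt : Nontrivial (A ⧸ (J ⊔ Ideal.span ({1 - e} : Set A))) :=
      Ideal.Quotient.nontrivial_iff.2 (fun h => RingHom.ker_ne_top _ (top_le_iff.1 (h ▸ hK)))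
    have hlocK : IsLocalRing (A ⧸ (J ⊔ Ideal.span ({1 - e} : Set A))) :=
      IsLocalRing.of_surjective' (Ideal.Quotient.factor (le_sup_right :
        Ideal.span ({1 - e} : Set A) ≤ J ⊔ Ideal.span ({1 - e} : Set A)))
        (Ideal.Quotient.factor_surjective _)
    have m2 : 1 - e' ∈ J ⊔ Ideal.span ({1 - e} : Set A) :=
      one_sub_mem_of_local ((Bialgebra.counitAlgHom R A : A →ₐ[R] R) : A →+* R) _ hK e'
        (Ideal.mem_sup_left hidem') he'ε
    obtain ⟨j1, hj1, z1, hz1, h1⟩ := Submodule.mem_sup.1 m1
    obtain ⟨a1, rfl⟩ := Ideal.mem_span_singleton'.mp hz1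
    obtain ⟨j2, hj2, z2, hz2, h2⟩ := Submodule.mem_sup.1 m2
    obtain ⟨a2, rfl⟩ := Ideal.mem_span_singleton'.mp hz2
    refine idem_eq_of_dvd (x := Ideal.Quotient.mk J a1) (y := Ideal.Quotient.mk J a2)
      (he.map (Ideal.Quotient.mk J)) he' ?_ ?_
    · rw [← map_one (Ideal.Quotient.mk J), ← map_sub, ← map_sub, ← map_mul, ← h1, map_add,
        Ideal.Quotient.eq_zero_iff_mem.2 hj1, zero_add]
    · rw [← map_one (Ideal.Quotient.mk J), ← map_sub, ← map_sub, ← map_mul, ← h2, map_add,
        Ideal.Quotient.eq_zero_iff_mem.2 hj2, zero_add]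

end Groth.Agent.S16078
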