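import Groth.Statements.S16080
import Groth.Agent.Lib.HomSh53e
import Groth.Agent.Lib.ClosedPt53b
import Groth.Agent.Lib.ZClos5O

set_option autoImplicit false
universe u
open CategoryTheory CategoryTheory.Limits AlgebraicGeometry TopologicalSpace
open SDiv

namespace Groth.Agent.S16080

/-- Let X be an integral locally Noetherian scheme, and suppose F is an O_X-module that is coherent.
Then these three conditions on F are mutually equivalent: (1) F has the reflexive property, i.e. the
canonical map F ⟶ F^** into the reflexive hull is an isomorphism; (2) for every point x the stalk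
F_x is a reflexive O_{X,x}-module; (3) for every closed point x the stalk F_x is a reflexive
O_{X,x}-module. -/
theorem result (X : Scheme.{u}) [IsIntegral X] [IsLocallyNoetherian X] (F : X.Modules)
    (hF : Coh.IsCoh F) :
    [RefHull.IsReflexive F, ∀ x : ↥X, RefHull.IsReflexiveAt F x,
      ∀ x : ↥X, IsClosed ({x} : Set ↥X) → RefHull.IsReflexiveAt F x].TFAE := by
  have h12 := Groth.Agent.Lib.HomSh53.isReflexive_iff_forall_isReflexiveAt hF
  tfae_have 1 ↔ 2 := h12
  tfae_have 2 → 3 := fun h x _ => h x
  tfae_have 3 → 2 := by
    intro h x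
    have hopen := Groth.Agent.Lib.ZClos5.isOpen_setOf_stalkLin_bijective (RefHull.bidualMap F) hF
      (Groth.Agent.Lib.HomSh53.isCoh_ddual hF)
    obtain ⟨z, hz, hxz⟩ := Groth.Agent.Lib.ClosedPt53.exists_isClosed_specializes X x
    have hzmem : z ∈ {x : X | Function.Bijective
        (Groth.Agent.Lib.ModStalkLin.stalkLin (RefHull.bidualMap F) x)} :=
      (Groth.Agent.Lib.HomSh53.bijective_stalkLin_bidualMap_iff hF z).mpr (h z hz)
    have hxmem := hxz.mem_open hopen hzmem
    exact (Groth.Agent.Lib.HomSh53.bijective_stalkLin_bidualMap_iff hF x).mp hxmem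
  tfae_finish

end Groth.Agent.S16080
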