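import Groth.Statements.S16088
import Groth.Agent.Lib.H78CartierSec
import Groth.Agent.Lib.H78Dual
import Groth.Agent.Lib.H90InvertiblePullback
import Groth.Agent.Lib.PullTensor81D
import Groth.Agent.Lib.OXModTensor
import Groth.Agent.Lib.ModPullback

set_option autoImplicit false
universe u
open CategoryTheory CategoryTheory.Limits AlgebraicGeometry TopologicalSpace
open SDiv

namespace Groth.Agent.S16088


section aux

open Groth.Agent.Lib.OXModTensor

/-- Two tensor inverses of the same module are isomorphic. -/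
noncomputable def isoOfInverse {X : Scheme.{u}} {A B M : X.Modules}
    (eA : CohB1.tensorMod A M ≅ Coh.structureModule X) (eB : CohB1.tensorMod B M ≅ Coh.structureModule X) :
    A ≅ B :=
  (rightUnitor A).symm ≪≫ tensorModIso (Iso.refl A) (eB.symm ≪≫ braiding B M) ≪≫
    (associator A M B).symm ≪≫ tensorModIso eA (Iso.refl B) ≪≫ leftUnitor B

theorem main (S : Scheme.{u}) (𝓓 : S.IdealSheafData)
    (hD : BlowUp.IsEffCartierIdeal 𝓓) :
    Nonempty (RefHull.dual (Omega.conormal 𝓓.subschemeι) ≅
      (Scheme.Modules.pullback 𝓓.subschemeι).obj (RefHull.dual (ClSub.idealMod 𝓓))) := by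
  have hI : PicF.IsInvertible (ClSub.idealMod 𝓓) := Groth.Agent.Lib.H78CartierSec.isInvertible_idealMod hD
  have hC : Omega.conormal 𝓓.subschemeι = (Scheme.Modules.pullback 𝓓.subschemeι).obj (ClSub.idealMod 𝓓) := by
    unfold Omega.conormal
    rw [𝓓.ker_subschemeι]
  rw [hC]
  have hM : PicF.IsInvertible ((Scheme.Modules.pullback 𝓓.subschemeι).obj (ClSub.idealMod 𝓓)) :=
    Groth.Agent.Lib.H90Invertible.isInvertible_pullback _ hI
  have eA := Groth.Agent.Lib.H78Dual.dualTensorIso hM
  have eB : CohB1.tensorMod ((Scheme.Modules.pullback 𝓓.subschemeι).obj (RefHull.dual (ClSub.idealMod 𝓓)))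
      ((Scheme.Modules.pullback 𝓓.subschemeι).obj (ClSub.idealMod 𝓓)) ≅ Coh.structureModule _ :=
    (Groth.Agent.Lib.PullTensor81.pullbackTensorIso 𝓓.subschemeι (RefHull.dual (ClSub.idealMod 𝓓))
      (ClSub.idealMod 𝓓)).symm ≪≫
      (Scheme.Modules.pullback 𝓓.subschemeι).mapIso (Groth.Agent.Lib.H78Dual.dualTensorIso hI) ≪≫
      (Groth.Agent.Lib.ModPullback.pullbackUnitIso 𝓓.subschemeι).symm
  exact ⟨isoOfInverse eA eB⟩

end aux

/-- Let S be a scheme, D ⊆ S an effective Cartier divisor with ideal sheaf 𝓓 and i : D ⟶ S its closed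
immersion. The normal sheaf of D in S, the O_D-dual of the conormal sheaf i^*𝓓, is isomorphic to the
restriction i^*(O_S(D)) to D of O_S(D) = 𝓗om_{O_S}(𝓓, O_S), the dual of the invertible ideal 𝓓.
Existence of an isomorphism of O_D-modules only; the canonical identification is not named here. -/
theorem result (S : Scheme.{u}) (𝓓 : S.IdealSheafData)
    (hD : BlowUp.IsEffCartierIdeal 𝓓) :
    Nonempty (RefHull.dual (Omega.conormal 𝓓.subschemeι) ≅
      (Scheme.Modules.pullback 𝓓.subschemeι).obj (RefHull.dual (ClSub.idealMod 𝓓))) := by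
  exact main S 𝓓 hD

end Groth.Agent.S16088
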