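import Groth.Statements.S1609

set_option autoImplicit false
universe u
open CategoryTheory CategoryTheory.Limits AlgebraicGeometry
open Variety

namespace Groth.Agent.S1609

open TensorProduct in
lemma exists_common_ext (k K k' : Type u) [Field k] [Field K] [Field k'] [Algebra k K] [Algebra k k'] :
    ∃ (L : Type u) (_ : Field L) (a : K →+* L) (b : k' →+* L),
      a.comp (algebraMap k K) = b.comp (algebraMap k k') := by
  obtain ⟨m, hm⟩ := Ideal.exists_maximal (K ⊗[k] k')
  let _ := Ideal.Quotient.field m
  refine ⟨(K ⊗[k] k') ⧸ m, inferInstance,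
    (Ideal.Quotient.mk m).comp (Algebra.TensorProduct.includeLeft (R := k) (S := k) (A := K) (B := k')).toRingHom,
    (Ideal.Quotient.mk m).comp (Algebra.TensorProduct.includeRight (R := k) (A := K) (B := k')).toRingHom, ?_⟩
  ext x
  simp only [RingHom.comp_apply]
  congr 1
  simp only [AlgHom.toRingHom_eq_coe, RingHom.coe_coe, Algebra.TensorProduct.includeLeft_apply,
    Algebra.TensorProduct.includeRight_apply]
  rw [Algebra.algebraMap_eq_smul_one, Algebra.algebraMap_eq_smul_one, TensorProduct.smul_tmul]

/-- Geometric irreducibility of a k-scheme can be checked after an arbitrary extension of the base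
field. -/
theorem result (k : Type u) [Field k] (X : Scheme.{u}) [X.Over (Spec (CommRingCat.of k))] (k' : Type u) [Field k'] [Algebra k k']
    [GeometricallyIrreducible (Curv2.bcSnd k X k')] : GeometricallyIrreducible (X ↘ (Spec (CommRingCat.of k))) := by
  set f := X ↘ (Spec (CommRingCat.of k)) with hf
  set g := Spec.map (CommRingCat.ofHom (algebraMap k k')) with hg
  have H : geometrically (IrreducibleSpace ·) (pullback.snd f g) :=
    (geometricallyIrreducible_iff _).mp ‹_›
  refine ⟨?_⟩
  rw [geometrically_iff_of_commRing]
  intro K _ _ W fstW sndW hW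
  -- a common field extension of K and k'
  obtain ⟨L, _, a, b, hab⟩ := exists_common_ext k K k'
  set yK := Spec.map (CommRingCat.ofHom (algebraMap k K)) with hyK
  set sa : Spec (CommRingCat.of L) ⟶ Spec (CommRingCat.of K) := Spec.map (CommRingCat.ofHom a) with hsa
  set sb : Spec (CommRingCat.of L) ⟶ Spec (CommRingCat.of k') := Spec.map (CommRingCat.ofHom b) with hsb
  have hab' : sa ≫ yK = sb ≫ g := by
    rw [hsa, hyK, hsb, hg, ← Spec.map_comp, ← Spec.map_comp, ← CommRingCat.ofHom_comp,
      ← CommRingCat.ofHom_comp, hab]
  have h1 : IsPullback (pullback.fst sndW sa ≫ fstW) (pullback.snd sndW sa) f (sb ≫ g) := by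
    rw [← hab']
    exact (IsPullback.of_hasPullback sndW sa).paste_horiz hW
  have h2 := IsPullback.of_right' h1 (IsPullback.of_hasPullback f g)
  have hZ : IrreducibleSpace ↥(pullback sndW sa) := H sb _ _ h2
  have hsurj : Function.Surjective (pullback.fst sndW sa).base := by
    have : Surjective sa := by
      constructor
      intro x
      obtain ⟨y⟩ : Nonempty (Spec (CommRingCat.of L)) := inferInstance
      exact ⟨y, Subsingleton.elim _ _⟩
    exact (inferInstance : Surjective (pullback.fst sndW sa)).surj
  have := (IrreducibleSpace.isIrreducible_univ ↥(pullback sndW sa)).image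
    (pullback.fst sndW sa).base (pullback.fst sndW sa).continuous.continuousOn
  rw [Set.image_univ, hsurj.range_eq] at this
  exact (irreducibleSpace_def _).mpr this

end Groth.Agent.S1609
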