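import Groth.Statements.S16091
import Groth.Agent.Lib.H60ProjFlat
import Groth.Agent.Lib.FlatOverSections
import Groth.Agent.Lib.H60CanonPhi
import Groth.Agent.Lib.H60RelTwist
import Groth.Agent.Lib.RelTildeLocal
import Groth.Agent.Lib.RelTwistZero
import Groth.Agent.Lib.H72FlatBaseChange2

set_option autoImplicit false
universe u
open CategoryTheory CategoryTheory.Limits AlgebraicGeometry TopologicalSpace Opposite
open scoped HomogeneousIdeal
noncomputable section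
open SDiv

namespace Groth.Agent.S16091


section aux

open Groth.Agent.Lib.H60RelTwist Groth.Agent.Lib.H60CanonPhi

variable {S P : Scheme.{u}} {𝒜 : RelProj.QCGrAlg S} {p : P ⟶ S}
  {chart : ∀ (U : S.Opens) (hU : IsAffineOpen U), (((p ⁻¹ᵁ U : P.Opens) : Scheme.{u}) ≅ Proj (𝒜.deg U hU))}
  {n : ℤ} {L : P.Modules}
  {lam : ∀ (U : S.Opens) (hU : IsAffineOpen U),
    L ⟶ (Scheme.Modules.pushforward (RelProj.emb p chart U hU)).obj (GrTwist.twist (𝒜.deg U hU) n)}

set_option maxHeartbeats 400000 in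
/-- Sections of `O_P(n)` over the image of `D₊(f)` are flat over `Γ(S, U)`. -/
theorem flat_sections (hP : RelProj.IsRelProj 𝒜 p chart) (d₀ : ℕ)
    (hflat : ∀ d : ℕ, d₀ ≤ d → ∀ (U : S.Opens) (hU : IsAffineOpen U),
      letI := (𝒜.str.app (op U)).hom.toAlgebra
      Module.Flat Γ(S, U) ↥(Submodule.span Γ(S, U) (𝒜.deg U hU d : Set (𝒜.presheaf.obj (op U)))))
    (hL : RelProj.IsRelTwist 𝒜 p chart n L lam)
    (U : S.Opens) (hU : IsAffineOpen U) {m : ℕ} (hm : 0 < m) {f : 𝒜.presheaf.obj (op U)}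
    (hf : f ∈ 𝒜.deg U hU m) (W : P.Opens)
    (hW : W = (RelProj.emb p chart U hU) ''ᵁ (Proj.basicOpen (𝒜.deg U hU) f)) (hWU : W ≤ p ⁻¹ᵁ U) :
    @Module.Flat Γ(S, U) Γ(L, W) _ _ (Module.compHom _ (p.appLE U W hWU).hom) := by
  letI alg : Algebra Γ(S, U) (𝒜.presheaf.obj (op U)) := (𝒜.str.app (op U)).hom.toAlgebra
  have hV : RelProj.emb p chart U hU ⁻¹ᵁ W = Proj.basicOpen (𝒜.deg U hU) f := by
    rw [hW, Scheme.Hom.preimage_image_eq]
  let ρ : Γ(S, U) →+* Γ(Proj (𝒜.deg U hU), RelProj.emb p chart U hU ⁻¹ᵁ W) :=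
    ((RelProj.emb p chart U hU).app W).hom.comp (p.appLE U W hWU).hom
  have hρ : ∀ (r : Γ(S, U)) (x : (RelProj.emb p chart U hU ⁻¹ᵁ W : (Proj (𝒜.deg U hU)).Opens)),
      Groth.Agent.Lib.GrModQCoh.oval (ρ r) x =
        algebraMap (𝒜.presheaf.obj (op U)) (GrTwist.Loc (𝒜.deg U hU) x.1)
          (algebraMap Γ(S, U) (𝒜.presheaf.obj (op U)) r) := by
    intro r x
    have h1 := Scheme.Hom.appLE_comp_appLE (RelProj.emb p chart U hU) p U W
      (RelProj.emb p chart U hU ⁻¹ᵁ W) hWU le_rfl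
    rw [Scheme.Hom.appLE_eq_app] at h1
    have h2 : ρ r = (((RelProj.emb p chart U hU ≫ p).appLE U (RelProj.emb p chart U hU ⁻¹ᵁ W)
        (by rw [Scheme.Hom.comp_preimage]; exact (RelProj.emb p chart U hU).preimage_mono hWU)).hom r) := by
      rw [← h1]
      rfl
    rw [h2, appLE_of_eq (emb_comp hP U hU)]
    exact oval_appLE_structure (𝒜.deg U hU) hU (𝒜.strZero U hU) _ _ r x
  have hfl := Groth.Agent.Lib.H60ProjFlat.flat_twist_of_eq (R := Γ(S, U)) hf n hV ρ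
    (fun r => 𝒜.str_mem U hU r) hρ hm d₀ (fun k hk => hflat k hk U hU)
  letI m1 : Module Γ(S, U) Γ(L, W) := Module.compHom _ (p.appLE U W hWU).hom
  letI m2 : Module Γ(S, U) Γ(GrTwist.twist (𝒜.deg U hU) n, RelProj.emb p chart U hU ⁻¹ᵁ W) :=
    Module.compHom _ ρ
  let E : Γ(L, W) ≃ₗ[Γ(S, U)] Γ(GrTwist.twist (𝒜.deg U hU) n, RelProj.emb p chart U hU ⁻¹ᵁ W) :=
    { Equiv.ofBijective _ (lamS_bijective hL U hU W hWU) with
      map_add' := lamS_add U hU W
      map_smul' := fun r s => lamS_smul U hU W ((p.appLE U W hWU).hom r) s }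
  exact Module.Flat.of_linearEquiv E

set_option maxHeartbeats 400000 in
theorem isFlatOver (hP : RelProj.IsRelProj 𝒜 p chart)
    (hflat : ∃ d₀ : ℕ, ∀ d : ℕ, d₀ ≤ d → ∀ (U : S.Opens) (hU : IsAffineOpen U),
      letI := (𝒜.str.app (op U)).hom.toAlgebra
      Module.Flat Γ(S, U) ↥(Submodule.span Γ(S, U) (𝒜.deg U hU d : Set (𝒜.presheaf.obj (op U)))))
    (hL : RelProj.IsRelTwist 𝒜 p chart n L lam) : FlatMod.IsFlatOver p L := by
  obtain ⟨d₀, hd₀⟩ := hflat
  haveI : L.IsQuasicoherent := Groth.Agent.Lib.RelTildeLocal.isQCoh_relTwist n hL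
  intro x
  obtain ⟨_, ⟨U, hU, rfl⟩, hxU, -⟩ :=
    S.isBasis_affineOpens.exists_subset_of_mem_open (Set.mem_univ (p x)) isOpen_univ
  have hx' : x ∈ (RelProj.emb p chart U hU).opensRange := by
    rw [opensRange_emb]; exact hxU
  obtain ⟨y, rfl⟩ := hx'
  obtain ⟨m, hm, f, hfy⟩ := Groth.Agent.Lib.GrModVal.exists_pos_notMem (𝒜 := 𝒜.deg U hU) y
  have hWaff : IsAffineOpen ((RelProj.emb p chart U hU) ''ᵁ (Proj.basicOpen (𝒜.deg U hU) f.1)) :=
    (Proj.isAffineOpen_basicOpen (𝒜.deg U hU) f.1 f.2 hm).image_of_isOpenImmersion _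
  have hWU : (RelProj.emb p chart U hU) ''ᵁ (Proj.basicOpen (𝒜.deg U hU) f.1) ≤ p ⁻¹ᵁ U := by
    rw [← opensRange_emb (chart := chart) U hU]
    exact Scheme.Hom.image_le_opensRange _ _
  exact (Groth.Agent.Lib.FlatOverSections.forall_isFlatOverAt_iff_flat_sections p L hWaff hU hWU).mpr
    (flat_sections hP d₀ hd₀ hL U hU hm f.2 _ rfl hWU) _ ⟨y, hfy, rfl⟩

theorem main (hP : RelProj.IsRelProj 𝒜 p chart)
    (hflat : ∃ d₀ : ℕ, ∀ d : ℕ, d₀ ≤ d → ∀ (U : S.Opens) (hU : IsAffineOpen U),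
      letI := (𝒜.str.app (op U)).hom.toAlgebra
      Module.Flat Γ(S, U) ↥(Submodule.span Γ(S, U) (𝒜.deg U hU d : Set (𝒜.presheaf.obj (op U))))) :
    Flat p ∧
      ∀ (n : ℤ) (L : P.Modules)
        (lam : ∀ (U : S.Opens) (hU : IsAffineOpen U),
          L ⟶ (Scheme.Modules.pushforward (RelProj.emb p chart U hU)).obj (GrTwist.twist (𝒜.deg U hU) n)),
        RelProj.IsRelTwist 𝒜 p chart n L lam → FlatMod.IsFlatOver p L := by
  refine ⟨?_, fun n L lam hL => isFlatOver hP hflat hL⟩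
  rw [Flat.iff_flat_stalkMap]
  intro x
  rw [← Groth.Agent.Lib.H72FlatBaseChange.isFlatOverAt_structureModule_iff]
  exact isFlatOver hP hflat (Groth.Agent.Lib.RelTwistZero.isRelTwist_structure hP) x

end aux

/-- Let S be a scheme and 𝒜 a quasi-coherent graded O_S-algebra such that for all sufficiently large d
the degree-d piece 𝒜_d is a flat O_S-module (over every affine open U the degree-d part of 𝒜(U) is a
flat module over Γ(U, O_S) acting through the structure map). Let p : P ⟶ S be the relative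
homogeneous spectrum of 𝒜, given with its charts. Then p is flat, and for every integer n the
twisting module O_P(n), given with its chart identifications, is flat over S (every stalk O_P(n)_x
is flat over O_{S, p x}). -/
theorem result {S P : Scheme.{u}} (𝒜 : RelProj.QCGrAlg S)
    (hflat : ∃ d₀ : ℕ, ∀ d : ℕ, d₀ ≤ d → ∀ (U : S.Opens) (hU : IsAffineOpen U),
      letI := (𝒜.str.app (op U)).hom.toAlgebra
      Module.Flat Γ(S, U) ↥(Submodule.span Γ(S, U) (𝒜.deg U hU d : Set (𝒜.presheaf.obj (op U)))))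
    (p : P ⟶ S) (chart : ∀ (U : S.Opens) (hU : IsAffineOpen U), (((p ⁻¹ᵁ U : P.Opens) : Scheme.{u}) ≅ Proj (𝒜.deg U hU)))
    (hP : RelProj.IsRelProj 𝒜 p chart) :
    Flat p ∧
      ∀ (n : ℤ) (L : P.Modules)
        (lam : ∀ (U : S.Opens) (hU : IsAffineOpen U),
          L ⟶ (Scheme.Modules.pushforward (RelProj.emb p chart U hU)).obj (GrTwist.twist (𝒜.deg U hU) n)),
        RelProj.IsRelTwist 𝒜 p chart n L lam → FlatMod.IsFlatOver p L := by
  exact main hP hflat

end Groth.Agent.S16091
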