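import Groth.Statements.S16104
import Mathlib

set_option autoImplicit false
universe u v
open LunaSt

namespace Groth.Agent.S16104

open IsLocalRing

/-- `A ⧸ m ^ (n+1)` has finite length over a Noetherian local ring `A`. -/
theorem isFiniteLength_quot_pow (A : Type u) [CommRing A] [IsLocalRing A] [IsNoetherianRing A]
    (n : ℕ) : IsFiniteLength A (A ⧸ maximalIdeal A ^ (n + 1)) := by
  set I := maximalIdeal A ^ (n + 1) with hI
  have hne : I ≠ ⊤ := by
    intro h
    have : (1 : A) ∈ maximalIdeal A ^ (n + 1) := by rw [← hI, h]; trivial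
    exact (Ideal.ne_top_iff_one _).1 (maximalIdeal.isMaximal A).ne_top
      (Ideal.pow_le_self (Nat.succ_ne_zero n) this)
  haveI : Nontrivial (A ⧸ I) := Ideal.Quotient.nontrivial_iff.2 hne
  haveI : IsLocalRing (A ⧸ I) :=
    IsLocalRing.of_surjective' (Ideal.Quotient.mk I) Ideal.Quotient.mk_surjective
  have hle : maximalIdeal (A ⧸ I) ≤ (maximalIdeal A).map (Ideal.Quotient.mk I) := by
    intro x hx
    obtain ⟨a, rfl⟩ := Ideal.Quotient.mk_surjective x
    refine Ideal.mem_map_of_mem _ ?_
    rw [mem_maximalIdeal, mem_nonunits_iff] at hx ⊢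
    exact fun h => hx (h.map _)
  have hnil : IsNilpotent (maximalIdeal (A ⧸ I)) := by
    refine ⟨n + 1, ?_⟩
    rw [Ideal.zero_eq_bot, eq_bot_iff]
    calc maximalIdeal (A ⧸ I) ^ (n + 1) ≤ ((maximalIdeal A).map (Ideal.Quotient.mk I)) ^ (n + 1) :=
          Ideal.pow_right_mono hle _
      _ = (maximalIdeal A ^ (n + 1)).map (Ideal.Quotient.mk I) := (Ideal.map_pow _ _ _).symm
      _ = ⊥ := by rw [← hI, Ideal.map_quotient_self]
  haveI : IsArtinianRing (A ⧸ I) := (isArtinianRing_iff_isNilpotent_maximalIdeal _).2 hnil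
  rw [← Module.length_ne_top_iff,
    Module.length_eq_of_surjective (S := A) (R := A ⧸ I) (M := A ⧸ I)
      Ideal.Quotient.mk_surjective]
  exact Module.length_ne_top

/-- Case of local rings. Let φ : A → B be a local homomorphism of Noetherian local rings whose composite
A → B/m_B² is surjective (the first infinitesimal neighbourhoods give a closed immersion), and
assume that A/m_A^(n+1) and B/m_B^(n+1) have the same length for every n (the associated graded
modules of the two maximal ideals have pieces of the same dimension over the common residue field).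
Then for every n the composite A → B/m_B^(n+1) is surjective with kernel m_A^(n+1): φ identifies all
infinitesimal neighbourhoods. (The published statement is for a pointed morphism of Noetherian local
algebraic stacks; its proof reduces to this case of local rings.) -/
theorem result
    (A : Type u) (B : Type v) [CommRing A] [CommRing B] [IsLocalRing A] [IsLocalRing B]
    [IsNoetherianRing A] [IsNoetherianRing B] (φ : A →+* B) [IsLocalHom φ]
    (h1 : Function.Surjective ((Ideal.Quotient.mk (IsLocalRing.maximalIdeal B ^ 2)).comp φ))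
    (hlen : ∀ n : ℕ, Module.length A (A ⧸ IsLocalRing.maximalIdeal A ^ (n + 1)) =
      Module.length B (B ⧸ IsLocalRing.maximalIdeal B ^ (n + 1))) (n : ℕ) :
    Function.Surjective ((Ideal.Quotient.mk (IsLocalRing.maximalIdeal B ^ (n + 1))).comp φ) ∧
      RingHom.ker ((Ideal.Quotient.mk (IsLocalRing.maximalIdeal B ^ (n + 1))).comp φ) =
        IsLocalRing.maximalIdeal A ^ (n + 1) := by
  set mA := maximalIdeal A with hmA
  set mB := maximalIdeal B with hmB
  have hmap_le : mA.map φ ≤ mB := ((local_hom_TFAE φ).out 0 2).mp ‹IsLocalHom φ›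
  -- lifting modulo `mB ^ 2`
  have hlift2 : ∀ b : B, ∃ a : A, φ a - b ∈ mB ^ 2 := by
    intro b
    obtain ⟨a, ha⟩ := h1 (Ideal.Quotient.mk _ b)
    exact ⟨a, Ideal.Quotient.eq.1 ha⟩
  have hlift_mem : ∀ b ∈ mB, ∃ a ∈ mA, φ a - b ∈ mB ^ 2 := by
    intro b hb
    obtain ⟨a, ha⟩ := hlift2 b
    refine ⟨a, ?_, ha⟩
    have h2 : φ a ∈ mB := by
      have : φ a = (φ a - b) + b := by ring
      rw [this]
      exact mB.add_mem (Ideal.pow_le_self two_ne_zero ha) hb
    rw [hmA, mem_maximalIdeal, mem_nonunits_iff]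
    intro hu
    exact (mem_nonunits_iff.1 ((mem_maximalIdeal _).1 h2)) (hu.map φ)
  -- Step 1: `mB = mA B`
  have hmBeq : mB = mA.map φ := by
    refine le_antisymm ?_ hmap_le
    refine Submodule.le_of_le_smul_of_le_jacobson_bot (I := mB) (IsNoetherian.noetherian mB)
      (maximalIdeal_le_jacobson _) ?_
    intro b hb
    obtain ⟨a, ha, hab⟩ := hlift_mem b hb
    have : b = φ a - (φ a - b) := by ring
    rw [this]
    refine Submodule.sub_mem _ (Submodule.mem_sup_left (Ideal.mem_map_of_mem _ ha))
      (Submodule.mem_sup_right ?_)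
    rwa [smul_eq_mul, ← sq]
  -- Step 2: lifting modulo all powers
  have hpow : ∀ k : ℕ, mB ^ k = (mA ^ k).map φ := by
    intro k; rw [Ideal.map_pow, ← hmBeq]
  have hlift : ∀ k : ℕ, ∀ b : B, ∃ a : A, φ a - b ∈ mB ^ (k + 1) := by
    intro k
    induction k with
    | zero =>
      intro b
      obtain ⟨a, ha⟩ := hlift2 b
      exact ⟨a, Ideal.pow_le_pow_right (by norm_num) ha⟩
    | succ k ih =>
      intro b
      obtain ⟨a₀, ha₀⟩ := ih b
      -- `c = b - φ a₀ ∈ mB^(k+1)`
      have hc : b - φ a₀ ∈ (mA ^ (k + 1)).map φ := by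
        rw [← hpow]
        have : b - φ a₀ = -(φ a₀ - b) := by ring
        rw [this]; exact (mB ^ (k + 1)).neg_mem ha₀
      have key : ∀ c ∈ (mA ^ (k + 1)).map φ,
          ∃ a ∈ mA ^ (k + 1), φ a - c ∈ mB ^ (k + 1 + 1) := by
        intro c hc
        refine Submodule.span_induction (p := fun c _ => ∃ a ∈ mA ^ (k + 1),
          φ a - c ∈ mB ^ (k + 1 + 1)) ?_ ?_ ?_ ?_ hc
        · rintro _ ⟨x, hx, rfl⟩
          exact ⟨x, hx, by rw [sub_self]; exact Ideal.zero_mem _⟩
        · exact ⟨0, Ideal.zero_mem _, by rw [map_zero, sub_self]; exact Ideal.zero_mem _⟩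
        · rintro x y _ _ ⟨a, ha, hax⟩ ⟨a', ha', hay⟩
          refine ⟨a + a', Ideal.add_mem _ ha ha', ?_⟩
          have : φ (a + a') - (x + y) = (φ a - x) + (φ a' - y) := by rw [map_add]; ring
          rw [this]; exact Ideal.add_mem _ hax hay
        · rintro b' x _ ⟨a, ha, hax⟩
          obtain ⟨a', ha'⟩ := hlift2 b'
          refine ⟨a' * a, Ideal.mul_mem_left _ _ ha, ?_⟩
          have hx : x ∈ mB ^ (k + 1) := by
            have : x = φ a - (φ a - x) := by ring
            rw [this]
            refine Ideal.sub_mem _ ?_ (Ideal.pow_le_pow_right (Nat.le_succ _) hax)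
            rw [hpow]; exact Ideal.mem_map_of_mem _ ha
          have : φ (a' * a) - b' • x = φ a' * (φ a - x) + (φ a' - b') * x := by
            rw [map_mul, smul_eq_mul]; ring
          rw [this]
          refine Ideal.add_mem _ (Ideal.mul_mem_left _ _ hax) ?_
          rw [pow_succ' mB (k + 1)]
          exact Ideal.mul_mem_mul (Ideal.pow_le_self two_ne_zero ha') hx
      obtain ⟨a, _, ha⟩ := key _ hc
      refine ⟨a₀ + a, ?_⟩
      have : φ (a₀ + a) - b = φ a - (b - φ a₀) := by rw [map_add]; ring
      rw [this]; exact ha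
  have hsurj : Function.Surjective ((Ideal.Quotient.mk (mB ^ (n + 1))).comp φ) := by
    intro y
    obtain ⟨b, rfl⟩ := Ideal.Quotient.mk_surjective y
    obtain ⟨a, ha⟩ := hlift n b
    exact ⟨a, Ideal.Quotient.eq.2 ha⟩
  refine ⟨hsurj, ?_⟩
  -- Step 3: the kernel
  set K := RingHom.ker ((Ideal.Quotient.mk (mB ^ (n + 1))).comp φ) with hK
  have hKge : mA ^ (n + 1) ≤ K := by
    intro a ha
    rw [hK, RingHom.mem_ker, RingHom.comp_apply, Ideal.Quotient.eq_zero_iff_mem, hpow]
    exact Ideal.mem_map_of_mem _ ha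
  refine le_antisymm ?_ hKge
  by_contra hnot
  letI : Algebra A B := φ.toAlgebra
  set C := B ⧸ mB ^ (n + 1) with hC
  have halg : (algebraMap A C) = (Ideal.Quotient.mk (mB ^ (n + 1))).comp φ := rfl
  have hl1 : Module.length A C = Module.length C C :=
    Module.length_eq_of_surjective (S := A) (R := C) (M := C) (by rw [halg]; exact hsurj)
  have hl2 : Module.length B C = Module.length C C :=
    Module.length_eq_of_surjective (S := B) (R := C) (M := C) Ideal.Quotient.mk_surjective
  have hl3 : Module.length A (A ⧸ mA ^ (n + 1)) = Module.length A C := by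
    rw [hlen n, hl2, hl1]
  -- `A ⧸ K ≃ C`
  have hsurj' : Function.Surjective (Algebra.ofId A C) := by
    intro y; obtain ⟨a, ha⟩ := hsurj y; exact ⟨a, ha⟩
  have hker : RingHom.ker (Algebra.ofId A C : A →ₐ[A] C) = K := rfl
  let e1 : (A ⧸ K) ≃ₗ[A] C :=
    (Ideal.quotientKerAlgEquivOfSurjective hsurj').toLinearEquiv
  have hl4 : Module.length A (A ⧸ K) = Module.length A C := e1.length_eq
  -- the double quotient
  let S : Submodule A A := mA ^ (n + 1)
  let T : Submodule A A := K
  let e2 := Submodule.quotientQuotientEquivQuotient S T hKge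
  have hfl := isFiniteLength_quot_pow A n
  rw [isFiniteLength_iff_isNoetherian_isArtinian] at hfl
  obtain ⟨hN, hAr⟩ := hfl
  have hp : T.map S.mkQ ≠ ⊥ := by
    intro hbot
    apply hnot
    intro a ha
    have : S.mkQ a ∈ T.map S.mkQ := Submodule.mem_map_of_mem ha
    rw [hbot, Submodule.mem_bot, Submodule.mkQ_apply, Submodule.Quotient.mk_eq_zero] at this
    exact this
  have hlt := Submodule.length_quotient_lt (T.map S.mkQ) hp
  rw [e2.length_eq] at hlt
  change Module.length A (A ⧸ K) < Module.length A (A ⧸ mA ^ (n + 1)) at hlt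
  rw [hl4, hl3] at hlt
  exact lt_irrefl _ hlt

end Groth.Agent.S16104
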