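import Groth.Statements.S16124
import Groth.Agent.Lib.ProjOfAmpleH3
import Groth.Agent.Lib.H78SecAdd

set_option autoImplicit false
universe u
open CategoryTheory MonoidalCategory CartesianMonoidalCategory MonObj GrpObj AlgebraicGeometry CategoryTheory.Limits
open AlgGrp

namespace Groth.Agent.S16124

/-- Over an algebraically closed field k, let X be a quasi-projective variety (a reduced separated
k-scheme, quasi-projective over k) with an action of a finite group Γ by k-automorphisms. Then X is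
covered by Γ-stable affine open subschemes: every point x of X lies in an affine open U with σ⁻¹(U)
= U for every σ in Γ. -/
theorem result (k : Type u) [Field k] [IsAlgClosed k]
    (X : Over (Spec (CommRingCat.of k))) [IsReduced X.left] [IsSeparated X.hom] (hX : RelProj.IsQuasiProjective X.hom)
    (Γgrp : Type u) [Group Γgrp] [Finite Γgrp] (ρ : Γgrp →* Aut X.left)
    (hρ : ∀ σ : Γgrp, (ρ σ).hom ≫ X.hom = X.hom) (x : ↥X.left) :
    ∃ U : X.left.Opens, x ∈ U ∧ IsAffineOpen U ∧ ∀ σ : Γgrp, (ρ σ).hom ⁻¹ᵁ U = U := by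
  classical
  obtain ⟨-, hqc, L, hL⟩ := hX
  have hamp : CohB1.IsAmple L := Groth.Agent.Lib.ProjOfAmpleH3.isAmple_of_isRelAmple_of_isAffine X.hom hL
  haveI : CompactSpace X.left := hamp.2.1
  -- `X.left` is separated
  haveI : X.left.IsSeparated := by
    have h1 : IsSeparated (X.hom ≫ terminal.from (Spec (CommRingCat.of k))) := inferInstance
    have h2 : X.hom ≫ terminal.from (Spec (CommRingCat.of k)) = terminal.from X.left :=
      terminal.hom_ext _ _
    rw [h2] at h1
    exact ⟨h1⟩
  -- the orbit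
  let Z : Set X.left := Set.range fun σ : Γgrp => (ρ σ).hom x
  have hZ : Z.Finite := Set.finite_range _
  obtain ⟨n, s, hZs, -, haff⟩ := Groth.Agent.Lib.H78SecAdd.exists_sec_finite hamp Z hZ ⊤ (fun _ _ => trivial)
  set U := CohB1.genLocus _ s with hU
  have hmul : ∀ σ τ : Γgrp, (ρ (σ * τ)).hom = (ρ τ).hom ≫ (ρ σ).hom := by
    intro σ τ
    rw [map_mul]
    rfl
  refine ⟨⨅ σ : Γgrp, (ρ σ).hom ⁻¹ᵁ U, ?_, ?_, ?_⟩
  · rw [← SetLike.mem_coe, TopologicalSpace.Opens.coe_iInf]
    refine Set.mem_iInter.2 (fun σ => ?_)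
    exact hZs ⟨σ, rfl⟩
  · exact IsAffineOpen.iInf (fun σ => haff.preimage_of_isIso (ρ σ).hom)
  · intro τ
    apply TopologicalSpace.Opens.ext
    rw [Scheme.Hom.coe_preimage, TopologicalSpace.Opens.coe_iInf]
    ext y
    simp only [Set.mem_preimage, Set.mem_iInter, SetLike.mem_coe]
    constructor
    · intro h σ
      have h3 := h (σ * τ⁻¹)
      change (ρ (σ * τ⁻¹)).hom ((ρ τ).hom y) ∈ U at h3
      change (ρ σ).hom y ∈ U
      have h4 : (ρ (σ * τ⁻¹)).hom ((ρ τ).hom y) = (ρ σ).hom y := by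
        rw [← Scheme.Hom.comp_apply, ← hmul, inv_mul_cancel_right]
      rwa [h4] at h3
    · intro h σ
      have h3 := h (σ * τ)
      change (ρ (σ * τ)).hom y ∈ U at h3
      change (ρ σ).hom ((ρ τ).hom y) ∈ U
      rwa [hmul, Scheme.Hom.comp_apply] at h3

end Groth.Agent.S16124
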