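import Groth.Statements.S16127
import Groth.Agent.Lib.FpqcCovMore18
import Groth.Agent.Lib.FlatSurj18

set_option autoImplicit false
set_option maxHeartbeats 400000
universe u
open CategoryTheory MonoidalCategory CartesianMonoidalCategory MonObj GrpObj AlgebraicGeometry CategoryTheory.Limits
open AlgGrp

namespace Groth.Agent.S16127

/-- Over an algebraically closed field k, let G be an algebraic group (a smooth k-group scheme of finite
type) acting by σ on a variety X, and let f : X → Y be a principal G-bundle over a variety Y (X, Y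
reduced separated k-schemes of finite type; f flat and surjective, the square σ, p₂ : G × X → X, f,
f cartesian). Then f^* identifies Γ(Y, O_Y) with the invariants Γ(X, O_X)^G: f^* on global sections
is injective and its range is the set of global functions s on X with σ^*(s) = p₂^*(s). -/
theorem result (k : Type u) [Field k] [IsAlgClosed k]
    (G X Y : Over (Spec (CommRingCat.of k))) [GrpObj G] [Smooth G.hom] [QuasiCompact G.hom]
    [IsReduced X.left] [IsSeparated X.hom] [LocallyOfFiniteType X.hom] [QuasiCompact X.hom]
    [IsReduced Y.left] [IsSeparated Y.hom] [LocallyOfFiniteType Y.hom] [QuasiCompact Y.hom]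
    (a : AlgGrp.Action G X) (f : X ⟶ Y) [Flat f.left] [Surjective f.left]
    (hsq : IsPullback a.act.left (snd G X).left f.left f.left) :
    Function.Injective (f.left.appTop) ∧
      Set.range (f.left.appTop) = {s : Γ(X.left, ⊤) | a.act.left.appTop s = (snd G X).left.appTop s} := by
  have qcf : QuasiCompact f.left := by
    have : QuasiCompact (f.left ≫ Y.hom) := by rw [Over.w]; infer_instance
    exact QuasiCompact.of_comp f.left Y.hom
  have cov := Groth.Agent.Lib.FpqcCov18.isFpqcCov_of_fpqc f.left
  constructor
  · exact Groth.Agent.Lib.FlatSurj18.app_injective_of_flat_of_surjective f.left ⊤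
  · ext s
    constructor
    · rintro ⟨t, rfl⟩
      show a.act.left.appTop (f.left.appTop t) = (snd G X).left.appTop (f.left.appTop t)
      have h1 : (a.act.left ≫ f.left).appTop t = ((snd G X).left ≫ f.left).appTop t := by
        rw [hsq.w]
      rw [Scheme.Hom.comp_appTop, Scheme.Hom.comp_appTop] at h1
      exact h1
    · intro hs
      let R := RingHom.eqLocus a.act.left.appTop.hom (snd G X).left.appTop.hom
      let incl : CommRingCat.of R ⟶ Γ(X.left, ⊤) := CommRingCat.ofHom R.subtype
      have hincl : incl ≫ a.act.left.appTop = incl ≫ (snd G X).left.appTop := by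
        ext r
        exact r.2
      let x : X.left ⟶ Spec (CommRingCat.of R) := X.left.toSpecΓ ≫ Spec.map incl
      have hx : a.act.left ≫ x = (snd G X).left ≫ x := by
        simp only [x]
        rw [Scheme.toSpecΓ_naturality_assoc, Scheme.toSpecΓ_naturality_assoc, ← Spec.map_comp,
          ← Spec.map_comp, hincl]
      obtain ⟨ψ, hψ⟩ := cov.exists_desc x (by
        intro A g₁ g₂ hg
        have e1 : g₁ = hsq.lift g₁ g₂ hg ≫ a.act.left := (hsq.lift_fst _ _ _).symm
        have e2 : g₂ = hsq.lift g₁ g₂ hg ≫ (snd G X).left := (hsq.lift_snd _ _ _).symm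
        rw [e1, Category.assoc, hx, ← Category.assoc, ← e2])
      refine ⟨ψ.appTop ((Scheme.ΓSpecIso (CommRingCat.of R)).inv ⟨s, hs⟩), ?_⟩
      have h1 : x.appTop = (Scheme.ΓSpecIso (CommRingCat.of R)).hom ≫ incl := by
        simp only [x]
        rw [Scheme.Hom.comp_appTop, Scheme.toSpecΓ_appTop, Scheme.ΓSpecIso_naturality]
      have h2 : x.appTop = ψ.appTop ≫ f.left.appTop := by
        rw [← hψ, Scheme.Hom.comp_appTop]
      have h3 := congrArg (fun g => g ((Scheme.ΓSpecIso (CommRingCat.of R)).inv ⟨s, hs⟩)) (h2.symm.trans h1)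
      simp only [CommRingCat.comp_apply] at h3
      rw [h3]
      have : (Scheme.ΓSpecIso (CommRingCat.of R)).hom ((Scheme.ΓSpecIso (CommRingCat.of R)).inv ⟨s, hs⟩) = ⟨s, hs⟩ :=
        Iso.inv_hom_id_apply (C := CommRingCat) _ _
      rw [this]
      rfl

end Groth.Agent.S16127
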