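import Groth.Statements.S16137
import Groth.Agent.Lib.StableEnd
import Groth.Agent.Lib.CurveVB67I
import Groth.Agent.Lib.SmoothCurve67
import Groth.Agent.S0002
import Mathlib
-- import your own Groth.Agent.* helpers here

set_option autoImplicit false
universe u
open CategoryTheory CategoryTheory.Limits AlgebraicGeometry
open VBCurve

namespace Groth.Agent.S16137

open Groth.Agent.Lib.CurveVB67


/-- Let k be an algebraically closed field of characteristic zero and X a smooth proper geometrically
connected curve over k (topological dimension one) of genus at least 2 (the text's standing setting: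
a smooth projective complex curve of genus at least 2). Let 0 → F → E → G → 0 be a short exact
sequence of O_X-modules in which E is finite locally free of rank r ≥ 1 and slope-stable (deg F' · r
< deg E · r' for every finite locally free submodule F' of E of rank r' with 0 < r' < r). Then
Hom(G, F) = 0: every morphism from the quotient G to the submodule F is zero. (The published
statement writes the conclusion as h^0(G^* ⊗ F) = 0.) -/
theorem result (k : Type u) [Field k] [IsAlgClosed k] [CharZero k]
    (X : Scheme.{u}) [X.Over (Spec (CommRingCat.of k))]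
    [IsProper (X ↘ Spec (CommRingCat.of k))] [Smooth (X ↘ Spec (CommRingCat.of k))]
    [GeometricallyConnected (X ↘ Spec (CommRingCat.of k))] (hdim : topologicalKrullDim ↥X = 1)
    (hg : 2 ≤ Curv2.genus k X)
    (T : ShortComplex X.Modules) (hT : T.ShortExact)
    (r : ℕ) (hr : 0 < r) (hE : FlatMod.IsFinLocFreeOfRank r T.X₂)
    (hst : ModFun.IsSlopeStable k X T.X₂ r)
    (φ : T.X₃ ⟶ T.X₁) : φ = 0 := by
  obtain ⟨hint, hnoeth, hpid⟩ := Groth.Agent.Lib.SmoothCurve67.curve_setup k X (le_of_eq hdim)
  have H : Groth.Agent.Lib.ProperFinHyp.Hyp.{u} :=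
    fun A _ _ X _ _ M hM n => Groth.Agent.S0002.result A X M hM n
  have hstrict := strictStable_of_slopeStable H k X hdim.le hr hE hst
  have := hT.mono_f
  have := hT.epi_g
  by_contra hφ
  have hψ : T.g ≫ φ ≫ T.f ≠ 0 := by
    intro h0
    apply hφ
    have h1 : φ ≫ T.f = 0 := by
      rw [← cancel_epi T.g, h0, comp_zero]
    rw [← cancel_mono T.f, h1, zero_comp]
  have hiso : IsIso (T.g ≫ φ ≫ T.f) :=
    Groth.Agent.Lib.StableEnd.isIso_of_ne_zero H k X hpid hE hstrict _ hψ
  have hsq : (T.g ≫ φ ≫ T.f) ≫ (T.g ≫ φ ≫ T.f) = 0 := by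
    simp only [Category.assoc]
    rw [T.zero_assoc, zero_comp, comp_zero, comp_zero]
  have hz : T.g ≫ φ ≫ T.f = 0 := by
    rw [← cancel_epi (T.g ≫ φ ≫ T.f), hsq, comp_zero]
  exact hψ hz

end Groth.Agent.S16137
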