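import Groth.Statements.S16149
import Mathlib
import Groth.Agent.Lib.ModStalkLin
import Groth.Agent.Lib.LocFreeFP
import Groth.Agent.Lib.H90OXModExact
import Groth.Agent.Lib.H90DevHub2

set_option autoImplicit false
universe u
open CategoryTheory CategoryTheory.Limits AlgebraicGeometry TopologicalSpace
open SDiv

namespace Groth.Agent.S16149

section Helpers

namespace I1
set_option linter.style.haveILetI false
open CategoryTheory CategoryTheory.Limits AlgebraicGeometry TopologicalSpace Opposite
open Groth.Agent.Lib.ModStalkLin Groth.Agent.Lib.ModStalk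

variable {X : Scheme.{u}}

theorem stalkMapₗ_eq_stalkLin {M N : X.Modules} (φ : M ⟶ N) (x : X) :
    (RefHull.stalkMapₗ φ x : M.presheaf.stalk x → N.presheaf.stalk x) = stalkLin φ x := by
  funext m
  obtain ⟨U, hU, m, rfl⟩ := TopCat.Presheaf.exists_germ_eq M.presheaf m
  rw [RefHull.stalkMapₗ_germ, stalkLin_germ]

theorem injective_stalkLin_iff {M N : X.Modules} (φ : M ⟶ N) (x : X) :
    Function.Injective (stalkLin φ x) ↔ x ∉ CohB1.support (kernel φ) := by
  rw [Groth.Agent.Lib.H90DevHub2.notMem_support_iff]
  have hex : Function.Exact (stalkLin (kernel.ι φ) x) (stalkLin φ x) :=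
    Groth.Agent.Lib.LocFreeFP.function_exact_stalkLin (kernel.ι φ) φ (kernel.condition φ)
      (ShortComplex.exact_of_f_is_kernel _ (kernelIsKernel φ)) x
  have hinj := stalkLin_injective_of_mono (kernel.ι φ) x
  constructor
  · intro h
    refine ⟨fun a b => hinj ?_⟩
    have ha : stalkLin φ x (stalkLin (kernel.ι φ) x a) = 0 := hex.apply_apply_eq_zero a
    have hb : stalkLin φ x (stalkLin (kernel.ι φ) x b) = 0 := hex.apply_apply_eq_zero b
    have ha' := h (ha.trans (map_zero _).symm)
    have hb' := h (hb.trans (map_zero _).symm)
    rw [ha', hb']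
  · intro h
    rw [injective_iff_map_eq_zero]
    intro a ha
    obtain ⟨b, rfl⟩ := (hex a).mp ha
    rw [Subsingleton.elim b 0, map_zero]

theorem surjective_stalkLin_iff {M N : X.Modules} (φ : M ⟶ N) (x : X) :
    Function.Surjective (stalkLin φ x) ↔ x ∉ CohB1.support (cokernel φ) := by
  rw [Groth.Agent.Lib.H90DevHub2.notMem_support_iff]
  have hex : Function.Exact (stalkLin φ x) (stalkLin (cokernel.π φ) x) :=
    Groth.Agent.Lib.LocFreeFP.function_exact_stalkLin φ (cokernel.π φ) (cokernel.condition φ)
      (ShortComplex.exact_of_g_is_cokernel _ (cokernelIsCokernel φ)) x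
  have hsurj := stalkLin_surjective_of_epi (cokernel.π φ) x
  constructor
  · intro h
    have key : ∀ c : (cokernel φ).presheaf.stalk x, c = 0 := by
      intro c
      obtain ⟨b, rfl⟩ := hsurj c
      obtain ⟨a, rfl⟩ := h b
      exact hex.apply_apply_eq_zero a
    exact ⟨fun a b => (key a).trans (key b).symm⟩
  · intro h b
    exact (hex b).mp (Subsingleton.elim _ _)

theorem main (X : Scheme.{u}) [IsLocallyNoetherian X] (F : X.Modules) (hF : Coh.IsCoh F)
    (s : Coh.structureModule X ⟶ F) : IsOpen (RefPow.isoLocus s) := by
  have hO : Coh.IsCoh (Coh.structureModule X) :=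
    Groth.Agent.Lib.H90DevHub2.isCoh_structureModule X
  haveI : F.IsQuasicoherent := hF.1
  haveI : (Coh.structureModule X).IsQuasicoherent := hO.1
  have hK : Coh.IsCoh (kernel s) := Groth.Agent.Lib.H90OXModExact.isCoh_kernel s hO
  have hC : Coh.IsCoh (cokernel s) := Groth.Agent.Lib.H90OXModExact.isCoh_cokernel s hF
  have hKc : IsClosed (CohB1.support (kernel s)) := isClosed_support_of_isFT _ hK.2
  have hCc : IsClosed (CohB1.support (cokernel s)) := isClosed_support_of_isFT _ hC.2
  have heq : RefPow.isoLocus s = (CohB1.support (kernel s))ᶜ ∩ (CohB1.support (cokernel s))ᶜ := by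
    ext x
    rw [RefPow.mem_isoLocus, stalkMapₗ_eq_stalkLin, Set.mem_inter_iff, Set.mem_compl_iff,
      Set.mem_compl_iff, ← injective_stalkLin_iff, ← surjective_stalkLin_iff]
    rfl
  rw [heq]
  exact hKc.isOpen_compl.inter hCc.isOpen_compl

end I1

end Helpers

/-- Let X be a locally Noetherian scheme, F a coherent O_X-module (quasi-coherent of finite type) and s
: O_X → F a global section of F. Then the set of points x of X at which the stalk map (O_X)_x → F_x
of s is bijective is open. (The published statement assumes moreover X integral and normal and F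
reflexive of rank one; the openness assertion uses only that F is coherent on a locally Noetherian
scheme, and it can fail for F quasi-coherent of finite type on a scheme that is not locally
Noetherian.) -/
theorem result (X : Scheme.{u}) [IsLocallyNoetherian X] (F : X.Modules) (hF : Coh.IsCoh F)
    (s : Coh.structureModule X ⟶ F) : IsOpen (RefPow.isoLocus s) := by
  exact I1.main X F hF s

end Groth.Agent.S16149
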