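import Groth.Statements.S1615

set_option autoImplicit false
universe u
open CategoryTheory CategoryTheory.Limits AlgebraicGeometry
open Constr

namespace Groth.Agent.S1615

/-- For a graded ring A, quasi-compactness of Proj A is equivalent to the existence of finitely many
homogeneous elements of positive degree generating an ideal whose radical contains the irrelevant
ideal A_+. -/
theorem result {R A : Type u} [CommRing R] [CommRing A] [Algebra R A] (𝒜 : ℕ → Submodule R A) [GradedAlgebra 𝒜] :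
    CompactSpace ↥(Proj 𝒜) ↔ ∃ s : Finset A, (∀ f ∈ s, ∃ d : ℕ, 0 < d ∧ f ∈ 𝒜 d) ∧
      (HomogeneousIdeal.irrelevant 𝒜).toIdeal ≤ (Ideal.span (s : Set A)).radical := by
  classical
  constructor
  · intro hc
    -- the index type of homogeneous elements of positive degree
    let I := {f : A // ∃ d : ℕ, 0 < d ∧ f ∈ 𝒜 d}
    have hcov : (Set.univ : Set (Proj 𝒜)) ⊆ ⋃ i : I, ((Proj.basicOpen 𝒜 i.1 : (Proj 𝒜).Opens) : Set (Proj 𝒜)) := by
      intro x _
      have hx := x.not_irrelevant_le
      rw [HomogeneousIdeal.irrelevant_le] at hx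
      push Not at hx
      obtain ⟨i, hi, hle⟩ := hx
      obtain ⟨f, hf, hfx⟩ := SetLike.not_le_iff_exists.mp hle
      refine Set.mem_iUnion.mpr ⟨⟨f, i, hi, hf⟩, ?_⟩
      exact hfx
    obtain ⟨t, ht⟩ := isCompact_univ.elim_finite_subcover
      (fun i : I => ((Proj.basicOpen 𝒜 i.1 : (Proj 𝒜).Opens) : Set (Proj 𝒜)))
      (fun i => (Proj.basicOpen 𝒜 i.1).isOpen) hcov
    refine ⟨t.image Subtype.val, ?_, ?_⟩
    · intro f hf
      obtain ⟨i, -, rfl⟩ := Finset.mem_image.mp hf
      exact i.2
    · have hhom : (Ideal.span ((t.image Subtype.val : Finset A) : Set A)).IsHomogeneous 𝒜 := by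
        refine Ideal.homogeneous_span 𝒜 _ ?_
        intro x hx
        obtain ⟨i, -, rfl⟩ := Finset.mem_image.mp (Finset.mem_coe.mp hx)
        obtain ⟨d, -, hd⟩ := i.2
        exact ⟨d, hd⟩
      rw [hhom.radical_eq]
      intro a ha
      rw [Ideal.mem_sInf]
      rintro J ⟨hJh, hJle, hJp⟩
      by_cases hirr : HomogeneousIdeal.irrelevant 𝒜 ≤ ⟨J, hJh⟩
      · exact hirr ha
      · exfalso
        let x : Proj 𝒜 := ⟨⟨J, hJh⟩, hJp, hirr⟩
        obtain ⟨i, hi⟩ := Set.mem_iUnion.mp (ht (Set.mem_univ x))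
        obtain ⟨hit, hxi⟩ := Set.mem_iUnion.mp hi
        apply hxi
        apply hJle
        apply Ideal.subset_span
        exact Finset.mem_coe.mpr (Finset.mem_image.mpr ⟨i, hit, rfl⟩)
  · rintro ⟨s, hs, hle⟩
    have hcov : (Set.univ : Set (Proj 𝒜)) = ⋃ f ∈ s, ((Proj.basicOpen 𝒜 f : (Proj 𝒜).Opens) : Set (Proj 𝒜)) := by
      refine (Set.eq_univ_of_forall fun x => ?_).symm
      by_contra hx
      simp only [Set.mem_iUnion, not_exists] at hx
      apply x.not_irrelevant_le
      have h1 : Ideal.span (s : Set A) ≤ x.asHomogeneousIdeal.toIdeal := by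
        rw [Ideal.span_le]
        intro f hf
        by_contra hfx
        exact hx f (Finset.mem_coe.mp hf) hfx
      have h2 : (Ideal.span (s : Set A)).radical ≤ x.asHomogeneousIdeal.toIdeal :=
        (Ideal.IsPrime.radical_le_iff x.isPrime).mpr h1
      exact hle.trans h2
    refine ⟨?_⟩
    rw [hcov]
    refine s.isCompact_biUnion ?_
    intro f hf
    obtain ⟨d, hd, hfd⟩ := hs f hf
    exact (Proj.isAffineOpen_basicOpen 𝒜 f hfd hd).isCompact

end Groth.Agent.S1615
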