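import Groth.Statements.S16152
import Mathlib
-- import your own Groth.Agent.* helpers here

set_option autoImplicit false
universe u
open WGauss

namespace Groth.Agent.S16152

open MvPolynomial

section
variable {k : Type u} [Field k] {σ : Type} [Fintype σ] [DecidableEq σ]

/-- generator tuple -/
noncomputable def W (a b : ℕ) (s τ : MvPolynomial σ k) : σ → MvPolynomial σ k :=
  fun i => (b : k) • (τ * pderiv i s) - (a : k) • (s * pderiv i τ)

theorem mono_aux (α β : σ →₀ ℕ) (i : σ) (c : k) :
    monomial (β + (α - Finsupp.single i 1)) ((α i : k) * c)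
      = monomial (α + β - Finsupp.single i 1) ((α i : k) * c) := by
  by_cases h : α i = 0
  · simp [h]
  · have : β + (α - Finsupp.single i 1) = α + β - Finsupp.single i 1 := by
      ext l
      by_cases hl : l = i
      · subst hl
        simp only [Finsupp.coe_add, Finsupp.coe_tsub, Pi.add_apply, Pi.sub_apply, Finsupp.single_eq_same]
        omega
      · simp only [Finsupp.coe_add, Finsupp.coe_tsub, Pi.add_apply, Pi.sub_apply, Finsupp.single_apply]
        rw [if_neg (fun h => hl h.symm)]
        omega
    rw [this]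

theorem W_monomial (a b : ℕ) (α β : σ →₀ ℕ) (i : σ) :
    W a b (monomial α (1:k)) (monomial β 1) i
      = monomial (α + β - Finsupp.single i 1) ((b : k) * α i - a * β i) := by
  unfold W
  rw [pderiv_monomial, pderiv_monomial, monomial_mul, monomial_mul, smul_monomial, smul_monomial]
  have e1 := mono_aux α β i (b : k)
  have e2 := mono_aux β α i (a : k)
  rw [add_comm β α] at e2
  have : (monomial (α + β - Finsupp.single i 1)) ((b : k) * α i - a * β i)
      = monomial (α + β - Finsupp.single i 1) ((α i : k) * b) - monomial (α + β - Finsupp.single i 1) ((β i : k) * a) := by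
    rw [← map_sub]; congr 1; ring
  rw [this, ← e1, ← e2]
  congr 2
  · simp; ring
  · simp; ring


/-- the span -/
noncomputable def SS (a b A B : ℕ) : Submodule k (σ → MvPolynomial σ k) :=
  Submodule.span k {g | ∃ s τ : MvPolynomial σ k, s.IsHomogeneous A ∧ τ.IsHomogeneous B ∧
    g = fun i => (b : k) • (τ * pderiv i s) - (a : k) • (s * pderiv i τ)}

omit [Fintype σ] [DecidableEq σ] in
theorem exists_le_degree (γ : σ →₀ ℕ) (m : ℕ) (hm : m ≤ γ.degree) :
    ∃ α : σ →₀ ℕ, α ≤ γ ∧ α.degree = m := by
  classical
  induction m with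
  | zero => exact ⟨0, by simp, by simp⟩
  | succ m ih =>
    obtain ⟨α, hα, hd⟩ := ih (by omega)
    have : ∃ l, α l < γ l := by
      by_contra hcon
      push Not at hcon
      have : γ ≤ α := fun l => hcon l
      have := le_antisymm hα this
      subst this
      omega
    obtain ⟨l, hl⟩ := this
    refine ⟨α + Finsupp.single l 1, ?_, ?_⟩
    · intro x
      by_cases hx : x = l
      · subst hx; simp; omega
      · have := hα x
        simp [Finsupp.single_apply, Ne.symm hx]
        exact this
    · rw [map_add, hd, Finsupp.degree_single]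

theorem W_mem (a b A B : ℕ) (α β : σ →₀ ℕ) (hα : α.degree = A) (hβ : β.degree = B) :
    W a b (monomial α (1:k)) (monomial β 1) ∈ SS (k := k) (σ := σ) a b A B :=
  Submodule.subset_span ⟨_, _, isHomogeneous_monomial _ hα, isHomogeneous_monomial _ hβ, rfl⟩

theorem basic_mem (a b A B : ℕ) (hab : ((a : k) + b) ≠ 0) (hA : 1 ≤ A) (hB : 1 ≤ B)
    (γ : σ →₀ ℕ) (hγ : γ.degree = A + B) (i j : σ) (hij : i ≠ j) (hi : γ i ≠ 0) (hj : γ j ≠ 0) :
    (Pi.single i (monomial (γ - Finsupp.single i 1) (1 : k))
      - Pi.single j (monomial (γ - Finsupp.single j 1) (1 : k)) : σ → MvPolynomial σ k)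
      ∈ SS (k := k) (σ := σ) a b A B := by
  -- γ0
  have hle : Finsupp.single i 1 + Finsupp.single j 1 ≤ γ := by
    intro x
    simp only [Finsupp.coe_add, Pi.add_apply, Finsupp.single_apply]
    by_cases hxi : i = x
    · subst hxi; rw [if_pos rfl, if_neg (Ne.symm hij)]; omega
    · rw [if_neg hxi]
      by_cases hxj : j = x
      · subst hxj; rw [if_pos rfl]; omega
      · rw [if_neg hxj]; omega
  obtain ⟨γ0, hγ0⟩ : ∃ γ0, γ = γ0 + (Finsupp.single i 1 + Finsupp.single j 1) :=
    ⟨γ - (Finsupp.single i 1 + Finsupp.single j 1), (tsub_add_cancel_of_le hle).symm⟩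
  have hdeg0 : γ0.degree = A + B - 2 := by
    have := congrArg Finsupp.degree hγ0
    rw [map_add, map_add, Finsupp.degree_single, Finsupp.degree_single, hγ] at this
    omega
  obtain ⟨α0, hα0, hdα⟩ := exists_le_degree γ0 (A - 1) (by omega)
  obtain ⟨β0, hβ0⟩ : ∃ β0, γ0 = α0 + β0 := ⟨γ0 - α0, (add_tsub_cancel_of_le hα0).symm⟩
  have hdβ : β0.degree = B - 1 := by
    have := congrArg Finsupp.degree hβ0
    rw [map_add, hdeg0, hdα] at this
    omega
  have g1 := W_mem (k := k) a b A B (α0 + Finsupp.single i 1) (β0 + Finsupp.single j 1)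
    (by rw [map_add, hdα, Finsupp.degree_single]; omega)
    (by rw [map_add, hdβ, Finsupp.degree_single]; omega)
  have g2 := W_mem (k := k) a b A B (α0 + Finsupp.single j 1) (β0 + Finsupp.single i 1)
    (by rw [map_add, hdα, Finsupp.degree_single]; omega)
    (by rw [map_add, hdβ, Finsupp.degree_single]; omega)
  have key : (Pi.single i (monomial (γ - Finsupp.single i 1) (1 : k))
      - Pi.single j (monomial (γ - Finsupp.single j 1) (1 : k)) : σ → MvPolynomial σ k)
      = ((a : k) + b)⁻¹ • (W a b (monomial (α0 + Finsupp.single i 1) (1:k)) (monomial (β0 + Finsupp.single j 1) 1)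
        - W a b (monomial (α0 + Finsupp.single j 1) (1:k)) (monomial (β0 + Finsupp.single i 1) 1)) := by
    funext l
    rw [Pi.smul_apply, Pi.sub_apply, Pi.sub_apply, W_monomial, W_monomial]
    have e1 : α0 + Finsupp.single i 1 + (β0 + Finsupp.single j 1) = γ := by
      rw [hγ0, hβ0]; abel
    have e2 : α0 + Finsupp.single j 1 + (β0 + Finsupp.single i 1) = γ := by
      rw [hγ0, hβ0]; abel
    rw [e1, e2, ← map_sub, smul_monomial]
    by_cases hli : l = i
    · subst hli
      rw [Pi.single_eq_same, Pi.single_eq_of_ne hij, sub_zero]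
      congr 1
      simp [Finsupp.single_apply, hij, Ne.symm hij]
      field_simp
      ring
    · by_cases hlj : l = j
      · subst hlj
        rw [Pi.single_eq_same, Pi.single_eq_of_ne hli, zero_sub, ← map_neg]
        congr 1
        simp [Finsupp.single_apply, hij, Ne.symm hij]
        field_simp
        ring
      · rw [Pi.single_eq_of_ne hli, Pi.single_eq_of_ne hlj, sub_zero]
        simp [Finsupp.single_apply, Ne.symm hli, Ne.symm hlj]
  rw [key]
  exact Submodule.smul_mem _ _ (Submodule.sub_mem _ g1 g2)


omit [Fintype σ] [DecidableEq σ] in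
theorem X_mul_mono (γ : σ →₀ ℕ) (i : σ) (hi : γ i ≠ 0) :
    (X i : MvPolynomial σ k) * monomial (γ - Finsupp.single i 1) 1 = monomial γ 1 := by
  classical
  have hle : Finsupp.single i 1 ≤ γ := by
    intro x
    by_cases hx : i = x
    · subst hx; simp; omega
    · simp [Finsupp.single_apply, hx]
  rw [X, monomial_mul, add_tsub_cancel_of_le hle, one_mul]

theorem sum_X_single (i : σ) (m : MvPolynomial σ k) :
    ∑ l, X l * (Pi.single i m : σ → MvPolynomial σ k) l = X i * m := by
  rw [Finset.sum_eq_single i]
  · rw [Pi.single_eq_same]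
  · intro l _ hl
    rw [Pi.single_eq_of_ne hl, mul_zero]
  · intro h; exact absurd (Finset.mem_univ i) h

theorem main (a b A B : ℕ) (hab : ((a:k)+b) ≠ 0) (hA : 1 ≤ A) (hB : 1 ≤ B) :
    ∀ (N : ℕ) (f : σ → MvPolynomial σ k), (∀ i, (f i).IsHomogeneous (A + B - 1)) →
      ∑ i, X i * f i = 0 → ∑ i, (f i).support.card = N → f ∈ SS (k := k) (σ := σ) a b A B := by
  intro N
  induction N using Nat.strong_induction_on with
  | _ N ih =>
    intro f hf hE hN
    by_cases h0 : f = 0
    · rw [h0]; exact Submodule.zero_mem _
    · obtain ⟨i, hi⟩ : ∃ i, f i ≠ 0 := by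
        by_contra hcon; push Not at hcon; exact h0 (funext hcon)
      obtain ⟨μ, hμ⟩ : ∃ μ, coeff μ (f i) ≠ 0 := by
        by_contra hcon; push Not at hcon
        exact hi (MvPolynomial.ext _ _ (by simpa using hcon))
      obtain ⟨c, hc⟩ : ∃ c, c = coeff μ (f i) := ⟨_, rfl⟩
      obtain ⟨γ, hγdef⟩ : ∃ γ, γ = μ + Finsupp.single i 1 := ⟨_, rfl⟩
      have hcoef := congrArg (coeff γ) hE
      rw [coeff_sum, coeff_zero] at hcoef
      simp only [coeff_X_mul'] at hcoef
      have hγi : γ i ≠ 0 := by simp [hγdef]
      have hγsub : γ - Finsupp.single i 1 = μ := by simp [hγdef]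
      obtain ⟨j, hji, hj⟩ : ∃ j, j ≠ i ∧
          (if j ∈ γ.support then coeff (γ - Finsupp.single j 1) (f j) else 0) ≠ 0 := by
        by_contra hcon
        push Not at hcon
        rw [Finset.sum_eq_single i (fun j _ hji => hcon j hji) (by simp)] at hcoef
        rw [if_pos (by simpa using hγi), hγsub] at hcoef
        exact hμ hcoef
      have hjs : j ∈ γ.support := by
        by_contra h; rw [if_neg h] at hj; exact hj rfl
      rw [if_pos hjs] at hj
      have hγj : γ j ≠ 0 := by simpa using hjs
      have hdμ : μ.degree = A + B - 1 := by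
        by_contra h; exact hμ ((hf i).coeff_eq_zero h)
      have hdγ : γ.degree = A + B := by
        rw [hγdef, map_add, hdμ, Finsupp.degree_single]; omega
      have hBm := basic_mem (k := k) a b A B hab hA hB γ hdγ i j (Ne.symm hji) hγi hγj
      rw [hγsub] at hBm
      obtain ⟨ν0, hν0⟩ : ∃ ν0, ν0 = γ - Finsupp.single j 1 := ⟨_, rfl⟩
      rw [← hν0] at hBm hj
      obtain ⟨Bv, hBv⟩ : ∃ Bv : σ → MvPolynomial σ k, Bv =
        Pi.single i (monomial μ (1 : k)) - Pi.single j (monomial ν0 (1 : k)) := ⟨_, rfl⟩
      rw [← hBv] at hBm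
      have hdν0 : ν0.degree = A + B - 1 := by
        by_contra h; exact hj ((hf j).coeff_eq_zero h)
      -- coefficient formula
      have hcf : ∀ l ν, coeff ν ((f - c • Bv) l) = coeff ν (f l)
          - c * ((if l = i ∧ μ = ν then 1 else 0) - (if l = j ∧ ν0 = ν then 1 else 0)) := by
        intro l ν
        rw [Pi.sub_apply, Pi.smul_apply, coeff_sub, coeff_smul, hBv, Pi.sub_apply, coeff_sub, smul_eq_mul]
        congr 2
        congr 1
        · by_cases hl : l = i
          · subst hl; rw [Pi.single_eq_same, coeff_monomial]; simp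
          · rw [Pi.single_eq_of_ne hl, coeff_zero]; simp [hl]
        · by_cases hl : l = j
          · subst hl; rw [Pi.single_eq_same, coeff_monomial]; simp
          · rw [Pi.single_eq_of_ne hl, coeff_zero]; simp [hl]
      have hzero : ∀ l ν, coeff ν (f l) = 0 → coeff ν ((f - c • Bv) l) = 0 := by
        intro l ν h
        rw [hcf, h]
        have h1 : ¬ (l = i ∧ μ = ν) := by
          rintro ⟨rfl, rfl⟩; exact hμ h
        have h2 : ¬ (l = j ∧ ν0 = ν) := by
          rintro ⟨rfl, rfl⟩; exact hj h
        rw [if_neg h1, if_neg h2]; ring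
      have hsub : ∀ l, ((f - c • Bv) l).support ⊆ (f l).support := by
        intro l ν hν
        rw [mem_support_iff] at hν ⊢
        exact fun h => hν (hzero l ν h)
      have hf' : (f - c • Bv) ∈ SS (k := k) (σ := σ) a b A B := by
        refine ih (∑ l, ((f - c • Bv) l).support.card) ?_ (f - c • Bv) ?_ ?_ rfl
        · rw [← hN]
          refine Finset.sum_lt_sum (fun l _ => Finset.card_le_card (hsub l)) ⟨i, Finset.mem_univ _, ?_⟩
          refine Finset.card_lt_card ⟨hsub i, fun hcon => ?_⟩
          have h1 : μ ∈ (f i).support := by rw [mem_support_iff]; exact hμ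
          have h2 := hcon h1
          rw [mem_support_iff, hcf, if_pos ⟨rfl, rfl⟩, if_neg (by rintro ⟨h, -⟩; exact hji h.symm), ← hc] at h2
          apply h2; ring
        · intro l
          have hm1 : ∀ x (ν : σ →₀ ℕ), ν.degree = A + B - 1 →
              ((Pi.single x (monomial ν (1:k)) : σ → MvPolynomial σ k) l).IsHomogeneous (A + B - 1) := by
            intro x ν hν
            by_cases hl : l = x
            · subst hl; rw [Pi.single_eq_same]; exact isHomogeneous_monomial _ hν
            · rw [Pi.single_eq_of_ne hl]; exact isHomogeneous_zero _ _ _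
          rw [Pi.sub_apply, Pi.smul_apply, hBv, Pi.sub_apply]
          have := ((hm1 i μ hdμ).sub (hm1 j ν0 hdν0))
          rw [← mem_homogeneousSubmodule] at this ⊢
          exact Submodule.sub_mem _ ((mem_homogeneousSubmodule _ _).mpr (hf l)) (Submodule.smul_mem _ _ this)
        · simp only [Pi.sub_apply, Pi.smul_apply, mul_sub, Finset.sum_sub_distrib, hE, zero_sub, neg_eq_zero]
          simp only [mul_smul_comm, ← Finset.smul_sum]
          rw [hBv]
          simp only [Pi.sub_apply, mul_sub, Finset.sum_sub_distrib, sum_X_single]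
          rw [← hγsub, X_mul_mono γ i hγi, hν0, X_mul_mono γ j hγj, sub_self, smul_zero]
      have : f = (f - c • Bv) + c • Bv := by abel
      rw [this]; exact Submodule.add_mem _ hf' (Submodule.smul_mem _ _ hBm)


end

open MvPolynomial in
/-- Over a field k of characteristic zero, for e, a, b positive integers with a < b, the weighted
Gaussian map of the line bundle O(e) on projective n-space is surjective. Concretely, identifying
global sections of O(m) with homogeneous polynomials of degree m in X_0, ..., X_n and global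
sections of the twisted cotangent sheaf Omega^1(t) with the (n+1)-tuples of homogeneous polynomials
of degree t - 1 killed by the Euler map (f_i) to sum_i X_i f_i, every such tuple with t = (a+b)e is
a k-linear combination of the tuples (b tau (d sigma / d X_i) - a sigma (d tau / d X_i))_i with
sigma homogeneous of degree ae and tau homogeneous of degree be. (The source works over the complex
numbers; the statement is one of linear algebra and is given here over any field of characteristic
zero.) -/
theorem result
    (k : Type u) [Field k] [CharZero k] (n e a b : ℕ) (he : 0 < e) (ha : 0 < a) (hab : a < b)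
    (f : Fin (n + 1) → MvPolynomial (Fin (n + 1)) k)
    (hf : ∀ i, (f i).IsHomogeneous ((a + b) * e - 1))
    (hEuler : ∑ i, X i * f i = 0) :
    f ∈ Submodule.span k
      {g : Fin (n + 1) → MvPolynomial (Fin (n + 1)) k |
        ∃ σ τ : MvPolynomial (Fin (n + 1)) k, σ.IsHomogeneous (a * e) ∧ τ.IsHomogeneous (b * e) ∧
          g = fun i => (b : k) • (τ * pderiv i σ) - (a : k) • (σ * pderiv i τ)} := by
  have hab' : ((a : k) + b) ≠ 0 := by
    rw [← Nat.cast_add, Nat.cast_ne_zero]; omega
  have hA : 1 ≤ a * e := Nat.mul_pos ha he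
  have hB : 1 ≤ b * e := Nat.mul_pos (by omega) he
  rw [add_mul] at hf
  exact main (k := k) (σ := Fin (n + 1)) a b (a * e) (b * e) hab' hA hB _ f hf hEuler rfl
  

end Groth.Agent.S16152
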