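import Mathlib
import Groth.Statements.S16156

set_option autoImplicit false
universe u
open MukaiVec

namespace Groth.Agent.S16156

section Helpers

theorem mul_ge_two {r q : ℤ} (hr : 2 ≤ r) (hq : 1 ≤ q) : 2 ≤ r * q := by nlinarith

theorem mul_ge_one {a b : ℤ} (ha : 1 ≤ a) (hb : 1 ≤ b) : 1 ≤ a * b := by nlinarith

theorem neg_mul_le {χ p : ℤ} (hχ : χ ≤ -1) (hp : 1 ≤ p) : χ * p ≤ -1 := by nlinarith

theorem sq_ge_one {h : ℤ} (hh : 1 ≤ h) : 1 ≤ h * h := by nlinarith

theorem sq_ge_four {h : ℤ} (hh : 2 ≤ h) : 4 ≤ h * h := by nlinarith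

theorem int_sq_bound {m : ℤ} (h : m ^ 2 ≤ 4) : -2 ≤ m ∧ m ≤ 2 := by
  constructor <;> nlinarith

theorem int_sq_ge_one {m : ℤ} (h : m ≤ -1) : 1 ≤ m ^ 2 := by nlinarith

theorem int_sq_ge_one' {m : ℤ} (h : 1 ≤ m) : 1 ≤ m ^ 2 := by nlinarith

theorem chi_eq {χ p : ℤ} (hχ : χ ≤ -1) (hp : 1 ≤ p) (h : χ * p = -1) : χ = -1 ∧ p = 1 := by
  constructor <;> nlinarith

theorem r_eq {r q : ℤ} (hr : 2 ≤ r) (hq : 1 ≤ q) (h : r * q = 2) : r = 2 ∧ q = 1 := by
  constructor <;> nlinarith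

theorem E_bound {n r d χ : ℤ} (hn : 0 < n) (hr : 2 ≤ r) (hd : 0 < d) (hχ : χ < 0) :
    n + 2 ≤ n * d ^ 2 - r * χ := by
  have h1 : 2 ≤ r * (-χ) := mul_ge_two hr (by linarith)
  have h2 : 1 ≤ d ^ 2 := by nlinarith
  have h3 : n * 1 ≤ n * d ^ 2 := mul_le_mul_of_nonneg_left h2 hn.le
  nlinarith

theorem E_bound' {n r d χ : ℤ} (hn : 0 < n) (hr : 2 ≤ r) (hd : 2 ≤ d) (hχ : χ < 0) :
    4 * n + 2 ≤ n * d ^ 2 - r * χ := by
  have h1 : 2 ≤ r * (-χ) := mul_ge_two hr (by linarith)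
  have h2 : 4 ≤ d ^ 2 := by nlinarith
  have h3 : n * 4 ≤ n * d ^ 2 := mul_le_mul_of_nonneg_left h2 hn.le
  nlinarith

/-- from `E K ≤ 3 n`, `E ≥ n + 2`, `K ≥ 1 + 4n`: contradiction. -/
theorem big_contra {n E K : ℤ} (hn : 0 < n) (hE : n + 2 ≤ E) (hK : 1 + 4 * n ≤ K)
    (hb : E * K ≤ 3 * n) : False := by
  have : (n + 2) * (1 + 4 * n) ≤ E * K := mul_le_mul hE hK (by linarith) (by linarith)
  nlinarith

/-- common consequences of `A C ≤ 0`. -/
theorem common (n r d χ p q h : ℤ) (hn : 0 < n) (hr : 2 ≤ r) (hd : 0 < d) (hχ : χ < 0)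
    (hK : 4 * n * p * q ≤ h * h)
    (hAC : (2 * n * d * p - r * h) * (χ * h - 2 * n * d * q) ≤ 0) :
    (χ * p - r * q) ^ 2 ≤ (d * h - r * q - χ * p) ^ 2 ∧
    (n * d ^ 2 - r * χ) * (h * h - 4 * n * p * q) ≤
      n * ((d * h - r * q - χ * p) ^ 2 - (χ * p - r * q) ^ 2) := by
  have hident : (2 * n * d * p - r * h) * (χ * h - 2 * n * d * q) =
      n * ((χ * p - r * q) ^ 2 - (d * h - r * q - χ * p) ^ 2) +
        (n * d ^ 2 - r * χ) * (h * h - 4 * n * p * q) := by ring
  have hE : n + 2 ≤ n * d ^ 2 - r * χ := E_bound hn hr hd hχ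
  have hEK : 0 ≤ (n * d ^ 2 - r * χ) * (h * h - 4 * n * p * q) :=
    mul_nonneg (by linarith) (by linarith)
  constructor
  · by_contra hlt
    rw [not_le] at hlt
    have : 0 < n * ((χ * p - r * q) ^ 2 - (d * h - r * q - χ * p) ^ 2) :=
      mul_pos hn (by linarith)
    linarith
  · have : n * ((d * h - r * q - χ * p) ^ 2 - (χ * p - r * q) ^ 2) =
        - (n * ((χ * p - r * q) ^ 2 - (d * h - r * q - χ * p) ^ 2)) := by ring
    linarith

theorem caseI (n r d χ p q h : ℤ) (hn : 0 < n) (hr : 2 ≤ r) (hd : 0 < d) (hχ : χ < 0)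
    (hp : 0 ≤ p) (hK : 4 * n * p * q ≤ h * h)
    (hs2 : (d * h - r * q - χ * p) ^ 2 ≤ 4)
    (hexc : ¬ (d = 1 ∧ χ = -1 ∧ h = 1 ∧ 2 * p * q = 0))
    (hr2 : r = 2 → ¬ (p = 0 ∧ h = 0))
    (hA : 0 ≤ 2 * n * d * p - r * h) (hC : χ * h - 2 * n * d * q ≤ -1) : False := by
  have hAC : (2 * n * d * p - r * h) * (χ * h - 2 * n * d * q) ≤ 0 :=
    mul_nonpos_of_nonneg_of_nonpos hA (by linarith)
  obtain ⟨hm2, hbound⟩ := common n r d χ p q h hn hr hd hχ hK hAC
  have hE : n + 2 ≤ n * d ^ 2 - r * χ := E_bound hn hr hd hχ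
  have hsum : χ * (2 * n * d * p - r * h) + r * (χ * h - 2 * n * d * q) =
      2 * (n * d) * (χ * p - r * q) := by ring
  have hnd : 0 < n * d := mul_pos hn hd
  have h1 : χ * (2 * n * d * p - r * h) ≤ 0 := mul_nonpos_of_nonpos_of_nonneg hχ.le hA
  have h2 : r * (χ * h - 2 * n * d * q) < 0 := mul_neg_of_pos_of_neg (by linarith) (by linarith)
  obtain ⟨s, hs⟩ : ∃ s, s = d * h - r * q - χ * p := ⟨_, rfl⟩
  obtain ⟨m, hm⟩ : ∃ m, m = χ * p - r * q := ⟨_, rfl⟩
  obtain ⟨E, hEdef⟩ : ∃ E, E = n * d ^ 2 - r * χ := ⟨_, rfl⟩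
  rw [← hs, ← hm, ← hEdef] at hbound
  rw [← hs, ← hm] at hm2
  rw [← hs] at hs2
  rw [← hm] at hsum
  rw [← hEdef] at hE
  have hmneg : m ≤ -1 := by
    by_contra hge
    rw [not_le] at hge
    have h3 : 0 ≤ 2 * (n * d) * m := by
      have : 0 ≤ m := by linarith
      positivity
    linarith
  have hm4 : m ^ 2 ≤ 4 := le_trans hm2 hs2
  have hmge : -2 ≤ m := (int_sq_bound hm4).1
  have hm1 : 1 ≤ m ^ 2 := int_sq_ge_one hmneg
  have hbound3 : E * (h * h - 4 * n * p * q) ≤ 3 * n := by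
    have : n * (s ^ 2 - m ^ 2) ≤ n * 3 := mul_le_mul_of_nonneg_left (by linarith) hn.le
    linarith
  rcases le_or_gt h 0 with hh | hh
  · -- h ≤ 0
    have hχh : 0 ≤ χ * h := mul_nonneg_of_nonpos_of_nonpos hχ.le hh
    have hq : 1 ≤ q := by
      by_contra hq
      rw [not_le] at hq
      have : n * d * q ≤ 0 := mul_nonpos_of_nonneg_of_nonpos hnd.le (by linarith)
      linarith
    have hrq : 2 ≤ r * q := mul_ge_two hr hq
    have hχp : χ * p ≤ 0 := mul_nonpos_of_nonpos_of_nonneg hχ.le hp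
    have hrq2 : r * q = 2 := by linarith
    have hχp0 : χ * p = 0 := by linarith
    have hp0 : p = 0 := by
      rcases mul_eq_zero.1 hχp0 with h' | h'
      · exact absurd h' hχ.ne
      · exact h'
    have hr2' : r = 2 := (r_eq hr hq hrq2).1
    have hs_ge : -2 ≤ s := (int_sq_bound hs2).1
    have hdh : 0 ≤ d * h := by linarith
    have hh0 : h = 0 := by
      have : 0 ≤ h := by
        by_contra hneg
        rw [not_le] at hneg
        have : d * h < 0 := mul_neg_of_pos_of_neg hd hneg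
        linarith
      linarith
    exact hr2 hr2' ⟨hp0, hh0⟩
  · -- 1 ≤ h
    have hh1 : 1 ≤ h := hh
    have hp1 : 1 ≤ p := by
      by_contra hp'
      rw [not_le] at hp'
      have hp0 : p = 0 := by linarith
      rw [hp0] at hA
      have : 0 < r * h := mul_pos (by linarith) hh
      linarith
    have hχp : χ * p ≤ -1 := neg_mul_le (by linarith) hp1
    have hrq : r * q ≤ 1 := by linarith
    have hq0 : q ≤ 0 := by
      by_contra hq
      rw [not_le] at hq
      have : 2 ≤ r * q := mul_ge_two hr hq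
      linarith
    rcases eq_or_lt_of_le hq0 with hq | hq
    · -- q = 0
      have hKh : h * h - 4 * n * p * q = h * h := by rw [hq]; ring
      rw [hKh] at hbound hbound3
      have hE0 : 0 ≤ E := by linarith
      have hd1 : d = 1 := by
        by_contra hne
        have hd2 : 2 ≤ d := by omega
        have hE' : 4 * n + 2 ≤ E := by rw [hEdef]; exact E_bound' hn hr hd2 hχ
        have hhh : 1 ≤ h * h := sq_ge_one hh1
        have : E * 1 ≤ E * (h * h) := mul_le_mul_of_nonneg_left hhh hE0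
        linarith
      have hh1' : h = 1 := by
        by_contra hne
        have hh2 : 2 ≤ h := by omega
        have hhh : 4 ≤ h * h := sq_ge_four hh2
        have : E * 4 ≤ E * (h * h) := mul_le_mul_of_nonneg_left hhh hE0
        linarith
      rw [hh1'] at hbound
      have hsm : 2 ≤ s ^ 2 - m ^ 2 := by
        by_contra hlt
        rw [not_le] at hlt
        have : n * (s ^ 2 - m ^ 2) ≤ n * 1 := mul_le_mul_of_nonneg_left (by linarith) hn.le
        linarith
      have hmm : m = -1 := by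
        by_contra hne
        have : m = -2 := by omega
        rw [this] at hsm
        linarith
      have hχp1 : χ * p = -1 := by
        have : χ * p = m + r * q := by rw [hm]; ring
        rw [this, hmm, hq]; ring
      obtain ⟨hχ1, -⟩ := chi_eq (by linarith) hp1 hχp1
      exact hexc ⟨hd1, hχ1, hh1', by rw [hq]; ring⟩
    · -- q ≤ -1
      have hq1 : q ≤ -1 := by omega
      have hnpq : 4 * n * p * q ≤ -(4 * n) := by
        have h1 : 1 ≤ p * (-q) := mul_ge_one hp1 (by linarith)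
        have e : 4 * n * p * q = -(4 * n * (p * (-q))) := by ring
        rw [e]
        have : 4 * n * 1 ≤ 4 * n * (p * (-q)) := mul_le_mul_of_nonneg_left h1 (by linarith)
        linarith
      have hK1 : 1 + 4 * n ≤ h * h - 4 * n * p * q := by
        have : 1 ≤ h * h := sq_ge_one hh1
        linarith
      exact big_contra hn hE hK1 hbound3

theorem caseII (n r d χ p q h : ℤ) (hn : 0 < n) (hr : 2 ≤ r) (hd : 0 < d) (hχ : χ < 0)
    (hp : 0 ≤ p) (hK : 4 * n * p * q ≤ h * h)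
    (hs2 : (d * h - r * q - χ * p) ^ 2 ≤ 4)
    (hA : 2 * n * d * p - r * h ≤ -1) (hC : 0 ≤ χ * h - 2 * n * d * q) : False := by
  have hAC : (2 * n * d * p - r * h) * (χ * h - 2 * n * d * q) ≤ 0 :=
    mul_nonpos_of_nonpos_of_nonneg (by linarith) hC
  obtain ⟨hm2, hbound⟩ := common n r d χ p q h hn hr hd hχ hK hAC
  have hE : n + 2 ≤ n * d ^ 2 - r * χ := E_bound hn hr hd hχ
  have hsum : χ * (2 * n * d * p - r * h) + r * (χ * h - 2 * n * d * q) =
      2 * (n * d) * (χ * p - r * q) := by ring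
  have hnd : 0 < n * d := mul_pos hn hd
  have h1 : 0 < χ * (2 * n * d * p - r * h) := mul_pos_of_neg_of_neg hχ (by linarith)
  have h2 : 0 ≤ r * (χ * h - 2 * n * d * q) := mul_nonneg (by linarith) hC
  have hndp : 0 ≤ n * d * p := mul_nonneg hnd.le hp
  have hh1 : 1 ≤ h := by
    by_contra hh
    rw [not_le] at hh
    have : r * h ≤ 0 := mul_nonpos_of_nonneg_of_nonpos (by linarith) (by linarith)
    linarith
  have hχh : χ * h ≤ -1 := neg_mul_le (by linarith) hh1
  have hq1 : q ≤ -1 := by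
    by_contra hq
    rw [not_le] at hq
    have : 0 ≤ n * d * q := mul_nonneg hnd.le (by linarith)
    linarith
  obtain ⟨s, hs⟩ : ∃ s, s = d * h - r * q - χ * p := ⟨_, rfl⟩
  obtain ⟨m, hm⟩ : ∃ m, m = χ * p - r * q := ⟨_, rfl⟩
  obtain ⟨E, hEdef⟩ : ∃ E, E = n * d ^ 2 - r * χ := ⟨_, rfl⟩
  rw [← hs, ← hm, ← hEdef] at hbound
  rw [← hs, ← hm] at hm2
  rw [← hs] at hs2
  rw [← hm] at hsum
  rw [← hEdef] at hE
  have hmpos : 1 ≤ m := by
    by_contra hge
    rw [not_le] at hge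
    have h3 : 2 * (n * d) * m ≤ 0 :=
      mul_nonpos_of_nonneg_of_nonpos (by linarith) (by linarith)
    linarith
  have hm4 : m ^ 2 ≤ 4 := le_trans hm2 hs2
  have hmle : m ≤ 2 := (int_sq_bound hm4).2
  have hm1 : 1 ≤ m ^ 2 := int_sq_ge_one' hmpos
  have hbound3 : E * (h * h - 4 * n * p * q) ≤ 3 * n := by
    have : n * (s ^ 2 - m ^ 2) ≤ n * 3 := mul_le_mul_of_nonneg_left (by linarith) hn.le
    linarith
  rcases eq_or_lt_of_le hp with hp0 | hp1
  · -- p = 0
    have hmr : m = r * (-q) := by rw [hm, ← hp0]; ring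
    have : 2 ≤ r * (-q) := mul_ge_two hr (by linarith)
    have hm2' : m = 2 := by linarith
    have hKh : h * h - 4 * n * p * q = h * h := by rw [← hp0]; ring
    rw [hKh, hm2'] at hbound
    have hs4 : s ^ 2 - 2 ^ 2 ≤ 0 := by linarith
    have : n * (s ^ 2 - 2 ^ 2) ≤ 0 := mul_nonpos_of_nonneg_of_nonpos hn.le hs4
    have hpos : 0 < E * (h * h) := mul_pos (by linarith) (by have := sq_ge_one hh1; linarith)
    linarith
  · -- 1 ≤ p
    have hp1' : 1 ≤ p := hp1
    have hnpq : 4 * n * p * q ≤ -(4 * n) := by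
      have h1 : 1 ≤ p * (-q) := mul_ge_one hp1' (by linarith)
      have e : 4 * n * p * q = -(4 * n * (p * (-q))) := by ring
      rw [e]
      have : 4 * n * 1 ≤ 4 * n * (p * (-q)) := mul_le_mul_of_nonneg_left h1 (by linarith)
      linarith
    have hK1 : 1 + 4 * n ≤ h * h - 4 * n * p * q := by
      have : 1 ≤ h * h := sq_ge_one hh1
      linarith
    exact big_contra hn hE hK1 hbound3

theorem hodge_ineq (N : Type u) [AddCommGroup N] (B : LinearMap.BilinForm ℤ N)
    (hB : ∀ x y : N, B x y = B y x)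
    (H : N) (n : ℤ) (hn : 0 < n) (hH : B H H = 2 * n) (hodge : ∀ x : N, B x H = 0 → B x x ≤ 0)
    (p q : ℤ) (η : N) (hiso : B η η = 2 * p * q) :
    4 * n * p * q ≤ B H η * B H η := by
  have h1 : B ((2 * n) • η - (B H η) • H) H = 0 := by
    simp only [map_sub, map_smul, LinearMap.sub_apply, LinearMap.smul_apply, smul_eq_mul, hH,
      hB η H]
    ring
  have h2 := hodge _ h1
  simp only [map_sub, map_smul, LinearMap.sub_apply, LinearMap.smul_apply, smul_eq_mul, hH,
    hB η H, hiso] at h2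
  have h3 : 2 * n * (4 * n * p * q - B H η * B H η) ≤ 0 := by
    have e : 2 * n * (4 * n * p * q - B H η * B H η) =
        2 * n * (2 * n * (2 * p * q) - B H η * (B H η)) -
          B H η * (2 * n * (B H η) - B H η * (2 * n)) := by ring
    rw [e]; exact h2
  by_contra hlt
  rw [not_le] at hlt
  have : 0 < 2 * n * (4 * n * p * q - B H η * B H η) := mul_pos (by linarith) (by linarith)
  linarith

end Helpers

/-- Let N be an abelian group with a symmetric integer-valued bilinear form and H an element with H·H =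
2n for some n > 0 such that every x with x·H = 0 satisfies x·x ≤ 0 (the Hodge index inequality). Fix
integers r ≥ 2, d > 0 and χ < 0 (a Mukai vector v = (r, dH, χ)) and an isotropic Mukai vector u =
(p, η, q), p ≥ 0, η ∈ N, η·η = 2pq, whose pairing ⟨v, u⟩ = d(H·η) − rq − χp has absolute value 1 or
2. Exclude the case d = 1, χ = −1, H·η = 1, η·η = 0, and when r = 2 also the case p = 0, H·η = 0.
Then the pairings of u∨ = (p, −η, q) with w₀ = (0, rH, −2nd) and with w₁ = (2nd, −χH, 0) are both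
non-negative or both negative: 2ndp − r(H·η) ≥ 0 holds if and only if χ(H·η) − 2ndq ≥ 0 holds. -/
theorem result
    (N : Type u) [AddCommGroup N] (B : LinearMap.BilinForm ℤ N) (hB : ∀ x y : N, B x y = B y x)
    (H : N) (n : ℤ) (hn : 0 < n) (hH : B H H = 2 * n) (hodge : ∀ x : N, B x H = 0 → B x x ≤ 0)
    (r d χ p q : ℤ) (η : N) (hr : 2 ≤ r) (hd : 0 < d) (hχ : χ < 0) (hp : 0 ≤ p)
    (hiso : B η η = 2 * p * q)
    (hvu : 1 ≤ |d * B H η - r * q - χ * p| ∧ |d * B H η - r * q - χ * p| ≤ 2)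
    (hexc : ¬ (d = 1 ∧ χ = -1 ∧ B H η = 1 ∧ B η η = 0))
    (hr2 : r = 2 → ¬ (p = 0 ∧ B H η = 0)) :
    (0 ≤ 2 * n * d * p - r * B H η ↔ 0 ≤ χ * B H η - 2 * n * d * q) := by
  have hK := hodge_ineq N B hB H n hn hH hodge p q η hiso
  have hs2 : (d * B H η - r * q - χ * p) ^ 2 ≤ 4 := by
    have := abs_le.1 hvu.2
    nlinarith
  have hexc' : ¬ (d = 1 ∧ χ = -1 ∧ B H η = 1 ∧ 2 * p * q = 0) := by
    rw [← hiso]; exact hexc
  constructor
  · intro hA
    by_contra hC
    rw [not_le] at hC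
    exact caseI n r d χ p q (B H η) hn hr hd hχ hp hK hs2 hexc' hr2 hA (by omega)
  · intro hC
    by_contra hA
    rw [not_le] at hA
    exact caseII n r d χ p q (B H η) hn hr hd hχ hp hK hs2 (by omega) hC

end Groth.Agent.S16156
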