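import Mathlib
import Groth.Statements.S16158

set_option autoImplicit false
universe u v w
open MadRed

namespace Groth.Agent.S16158

section Helpers

variable {R : Type u} [CommRing R] [IsNoetherianRing R]
  {M : Type v} [AddCommGroup M] [Module R M] [Module.Finite R M]

theorem count_le {ι : Type w} (p : Ideal R) [p.IsPrime] (N : ι → Submodule R M)
    (hind : iSupIndep N) (T : Finset ι) (X : ι → M)
    (hX : ∀ i ∈ T, X i ∈ N i ∧ ∀ r : R, r ∈ p ↔ r • X i = 0) :
    T.card ≤ Module.finrank (R ⧸ p) (Submodule.torsionBySet R M (p : Set R)) := by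
  classical
  have hnoeth : IsNoetherian R M := isNoetherian_of_isNoetherianRing_of_finite R M
  have hfinR : Module.Finite R (Submodule.torsionBySet R M (p : Set R)) :=
    Module.IsNoetherian.finite R _
  have hfin : Module.Finite (R ⧸ p) (Submodule.torsionBySet R M (p : Set R)) :=
    Module.Finite.of_restrictScalars_finite R (R ⧸ p) _
  have hmem : ∀ i ∈ T, X i ∈ Submodule.torsionBySet R M (p : Set R) := by
    intro i hi
    rw [Submodule.mem_torsionBySet_iff]
    rintro ⟨a, ha⟩
    exact ((hX i hi).2 a).1 ha
  let v : ↥T → Submodule.torsionBySet R M (p : Set R) := fun i => ⟨X i.1, hmem i.1 i.2⟩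
  have hli : LinearIndependent (R ⧸ p) v := by
    rw [Fintype.linearIndependent_iff]
    intro g hg i0
    -- lifts
    let σ : R ⧸ p → R := Function.surjInv Ideal.Quotient.mk_surjective
    have hσ : ∀ a, Ideal.Quotient.mk p (σ a) = a := Function.surjInv_eq Ideal.Quotient.mk_surjective
    let c : ι → R := fun i => if h : i ∈ T then σ (g ⟨i, h⟩) else 0
    have hc : ∀ i : ↥T, c i.1 = σ (g i) := fun i => by
      show (if h : i.1 ∈ T then σ (g ⟨i.1, h⟩) else 0) = σ (g i)
      rw [dif_pos i.2]
    have hsum : ∑ i ∈ T, c i • X i = 0 := by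
      have h1 := congrArg (Subtype.val) hg
      rw [Submodule.coe_sum, Submodule.coe_zero] at h1
      rw [← Finset.sum_coe_sort T (fun i => c i • X i), ← h1]
      apply Finset.sum_congr rfl
      intro i _
      rw [hc i]
      conv_rhs => rw [← hσ (g i)]
      rfl
    have h2 := (iSupIndep_iff_finsetSum_eq_zero_imp_eq_zero N).1 hind T (fun i => c i • X i)
      (fun i hi => (N i).smul_mem _ (hX i hi).1) hsum i0.1 i0.2
    have h3 : c i0.1 ∈ p := ((hX i0.1 i0.2).2 _).2 h2
    rw [hc i0] at h3
    rw [← hσ (g i0)]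
    exact Ideal.Quotient.eq_zero_iff_mem.2 h3
  have := hli.fintype_card_le_finrank
  rwa [Fintype.card_coe] at this

end Helpers

/-- Let R be a commutative Noetherian ring and M a finitely generated R-module. Then there is a natural
number n such that in every decomposition of M as an internal direct sum of a family of submodules,
at most n of the summands are nonzero (the nonzero summands are indexed by a finite set of size at
most n). -/
theorem result (R : Type u) [CommRing R] [IsNoetherianRing R]
    (M : Type v) [AddCommGroup M] [Module R M] [Module.Finite R M] :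
    ∃ n : ℕ, ∀ (ι : Type w) [DecidableEq ι] (N : ι → Submodule R M), DirectSum.IsInternal N →
      ∃ s : Finset ι, s.card ≤ n ∧ ∀ i, N i ≠ ⊥ → i ∈ s := by
  classical
  set A : Finset (Ideal R) := (associatedPrimes.finite R M).toFinset with hA
  refine ⟨∑ p ∈ A, Module.finrank (R ⧸ p) (Submodule.torsionBySet R M (p : Set R)), ?_⟩
  intro ι _ N hN
  have hind : iSupIndep N := hN.submodule_iSupIndep
  have hex : ∀ i, N i ≠ ⊥ → ∃ p : Ideal R, ∃ x : M, p ∈ A ∧ p.IsPrime ∧ x ∈ N i ∧
      ∀ r : R, r ∈ p ↔ r • x = 0 := by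
    intro i hi
    have : Nontrivial (N i) := (Submodule.nontrivial_iff_ne_bot).2 hi
    obtain ⟨p, hp⟩ := associatedPrimes.nonempty R (N i)
    have hpM : IsAssociatedPrime p M := hp.map_of_injective (f := (N i).subtype)
      (Submodule.subtype_injective _)
    obtain ⟨hprime, x, hx⟩ := isAssociatedPrime_iff.1 hp
    refine ⟨p, x.1, (associatedPrimes.finite R M).mem_toFinset.2 hpM, hprime, x.2, fun r => ?_⟩
    rw [hx, Submodule.mem_colon_singleton, Submodule.mem_bot]
    constructor
    · intro h; rw [← Submodule.coe_smul, h, Submodule.coe_zero]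
    · intro h; exact Subtype.ext (by rw [Submodule.coe_smul, h, Submodule.coe_zero])
  choose! P X hPX using hex
  have key : ∀ F : Finset ι, (∀ i ∈ F, N i ≠ ⊥) →
      F.card ≤ ∑ p ∈ A, Module.finrank (R ⧸ p) (Submodule.torsionBySet R M (p : Set R)) := by
    intro F hF
    rw [Finset.card_eq_sum_card_fiberwise (f := P) (t := A) (fun i hi => (hPX i (hF i hi)).1)]
    apply Finset.sum_le_sum
    intro p hp
    by_cases hemp : (F.filter (fun i => P i = p)) = ∅
    · rw [hemp, Finset.card_empty]; exact Nat.zero_le _
    obtain ⟨i1, hi1⟩ := Finset.nonempty_iff_ne_empty.2 hemp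
    rw [Finset.mem_filter] at hi1
    have hprime : p.IsPrime := hi1.2 ▸ (hPX i1 (hF i1 hi1.1)).2.1
    refine count_le p N hind _ X ?_
    intro i hi
    rw [Finset.mem_filter] at hi
    have := hPX i (hF i hi.1)
    rw [hi.2] at this
    exact ⟨this.2.2.1, this.2.2.2⟩
  have hfin : {i | N i ≠ ⊥}.Finite := by
    by_contra hinf
    obtain ⟨t, ht, htc⟩ := Set.Infinite.exists_subset_card_eq hinf
      (∑ p ∈ A, Module.finrank (R ⧸ p) (Submodule.torsionBySet R M (p : Set R)) + 1)
    have := key t (fun i hi => ht hi)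
    omega
  exact ⟨hfin.toFinset, key _ (fun i hi => hfin.mem_toFinset.1 hi),
    fun i hi => hfin.mem_toFinset.2 hi⟩

end Groth.Agent.S16158
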