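import Mathlib
import Groth.Statements.S16159

set_option autoImplicit false
universe u v w x
open MadRed

namespace Groth.Agent.S16159

section Helpers

/-- eigen-components of an element of an invariant subspace lie in the subspace. -/
theorem comp_mem {k : Type u} [Field k] {V : Type w} [AddCommGroup V] [Module k V]
    (g : Module.End k V) (U : Submodule k V) (hU : ∀ u ∈ U, g u ∈ U) :
    ∀ (S : Finset k) (wt : k → V), (∀ μ ∈ S, g (wt μ) = μ • wt μ) →
      ∑ μ ∈ S, wt μ ∈ U → ∀ μ ∈ S, wt μ ∈ U := by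
  classical
  intro S
  induction S using Finset.induction_on with
  | empty => intro wt _ _ μ hμ; exact absurd hμ (Finset.notMem_empty μ)
  | insert μ0 S' hμ0 ih =>
    intro wt hw hsum
    rw [Finset.sum_insert hμ0] at hsum
    -- apply g - μ0
    have h1 : g (wt μ0 + ∑ μ ∈ S', wt μ) - μ0 • (wt μ0 + ∑ μ ∈ S', wt μ) ∈ U :=
      U.sub_mem (hU _ hsum) (U.smul_mem _ hsum)
    have h2 : g (wt μ0 + ∑ μ ∈ S', wt μ) - μ0 • (wt μ0 + ∑ μ ∈ S', wt μ) =
        ∑ μ ∈ S', (μ - μ0) • wt μ := by
      rw [map_add, map_sum, hw μ0 (Finset.mem_insert_self _ _), smul_add, Finset.smul_sum]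
      rw [Finset.sum_congr rfl (fun μ hμ => hw μ (Finset.mem_insert_of_mem hμ))]
      simp only [sub_smul, Finset.sum_sub_distrib]
      abel
    rw [h2] at h1
    have h3 := ih (fun μ => (μ - μ0) • wt μ) (fun μ hμ => by
      rw [map_smul, hw μ (Finset.mem_insert_of_mem hμ), smul_comm]) h1
    have h4 : ∀ μ ∈ S', wt μ ∈ U := by
      intro μ hμ
      have hne : μ - μ0 ≠ 0 := by
        intro h
        rw [sub_eq_zero] at h
        exact hμ0 (h ▸ hμ)
      have := U.smul_mem (μ - μ0)⁻¹ (h3 μ hμ)
      rwa [smul_smul, inv_mul_cancel₀ hne, one_smul] at this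
    intro μ hμ
    rcases Finset.mem_insert.1 hμ with rfl | hμ'
    · have : wt μ = (wt μ + ∑ ν ∈ S', wt ν) - ∑ ν ∈ S', wt ν := by abel
      rw [this]
      exact U.sub_mem hsum (U.sum_mem h4)
    · exact h4 μ hμ'

/-- decomposition of an element of an invariant subspace of a diagonalizable operator. -/
theorem inv_decomp {k : Type u} [Field k] {V : Type w} [AddCommGroup V] [Module k V]
    (g : Module.End k V) (hg : ⨆ μ : k, Module.End.eigenspace g μ = ⊤)
    (U : Submodule k V) (hU : ∀ u ∈ U, g u ∈ U) (u : V) (hu : u ∈ U) :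
    ∃ (S : Finset k) (wt : k → V), (∀ μ ∈ S, wt μ ∈ U ∧ g (wt μ) = μ • wt μ) ∧
      u = ∑ μ ∈ S, wt μ := by
  classical
  have hu' : u ∈ ⨆ μ : k, Module.End.eigenspace g μ := hg ▸ Submodule.mem_top
  obtain ⟨S, hS⟩ := (Submodule.mem_iSup_iff_exists_finset).1 hu'
  obtain ⟨wt, hwt⟩ := (Submodule.mem_iSup_finset_iff_exists_sum _ _).1 hS
  have heig : ∀ μ ∈ S, g ((wt μ : V)) = μ • (wt μ : V) := fun μ _ =>
    Module.End.mem_eigenspace_iff.1 (wt μ).2
  have hmem := comp_mem g U hU S (fun μ => (wt μ : V)) heig (hwt ▸ hu)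
  exact ⟨S, fun μ => (wt μ : V), fun μ hμ => ⟨hmem μ hμ, heig μ hμ⟩, hwt.symm⟩

theorem joint_mem (k : Type u) [Field k] (R : Type v) [CommRing R] [Algebra k R]
    (V : Type w) [AddCommGroup V] [Module R V] [Module k V] [IsScalarTower k R V]
    (ι : Type x) (f : ι → Module.End R V) (y : V) (h : ∀ i, ∃ μ : k, f i y = μ • y) :
    y ∈ ⨆ χ : ι → k, ⨅ i, Module.End.eigenspace ((f i).restrictScalars k) (χ i) := by
  choose χ hχ using h
  apply Submodule.mem_iSup_of_mem χ
  rw [Submodule.mem_iInf]
  intro i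
  rw [Module.End.mem_eigenspace_iff, LinearMap.restrictScalars_apply]
  exact hχ i

theorem main_claim (k : Type u) [Field k] (R : Type v) [CommRing R] [Algebra k R]
    (V : Type w) [AddCommGroup V] [Module R V] [Module k V] [IsScalarTower k R V]
    (ι : Type x) (f : ι → Module.End R V)
    (hcomm : ∀ i j, Commute (f i) (f j))
    (hdiag : ∀ i, ⨆ μ : k, Module.End.eigenspace ((f i).restrictScalars k) μ = ⊤)
    (W : Submodule R V) [IsNoetherian R W] :
    ∀ (D : Submodule R W) (C : Submodule R V), C ≤ W → C.comap W.subtype = D →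
      (∀ i, ∀ c ∈ C, f i c ∈ C) → ∀ U : Submodule R V, U ≤ W → (∀ i, ∀ u ∈ U, f i u ∈ U) →
      Disjoint C U → ∀ u ∈ U,
        u ∈ ⨆ χ : ι → k, ⨅ i, Module.End.eigenspace ((f i).restrictScalars k) (χ i) := by
  classical
  intro D
  induction D using WellFoundedGT.induction with
  | ind D ih =>
  intro C hCW hCD hCs U hUW hUs hdisj
  by_cases hA : ∀ i, ∃ μ : k, ∀ u ∈ U, f i u = μ • u
  · intro u hu
    exact joint_mem k R V ι f u (fun i => let ⟨μ, h⟩ := hA i; ⟨μ, h u hu⟩)
  · simp only [not_forall, not_exists] at hA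
    obtain ⟨i, hi⟩ := hA
    -- the pieces
    let Uμ : k → Submodule R V := fun μ =>
      U ⊓ LinearMap.ker (f i - algebraMap k R μ • (LinearMap.id : V →ₗ[R] V))
    have hmemUμ : ∀ μ z, z ∈ Uμ μ ↔ z ∈ U ∧ f i z = μ • z := by
      intro μ z
      simp only [Uμ, Submodule.mem_inf, LinearMap.mem_ker, LinearMap.sub_apply,
        LinearMap.smul_apply, LinearMap.id_apply, sub_eq_zero, algebraMap_smul]
    have hUμs : ∀ μ j, ∀ z ∈ Uμ μ, f j z ∈ Uμ μ := by
      intro μ j z hz
      rw [hmemUμ] at hz ⊢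
      refine ⟨hUs j z hz.1, ?_⟩
      have h1 : f i (f j z) = f j (f i z) := by
        have := congrArg (fun g : Module.End R V => g z) (hcomm i j).eq
        simpa [Module.End.mul_apply] using this
      rw [h1, hz.2, LinearMap.map_smul_of_tower]
    have hdec : ∀ u ∈ U, ∃ (S : Finset k) (wt : k → V), (∀ μ ∈ S, wt μ ∈ Uμ μ) ∧
        u = ∑ μ ∈ S, wt μ := by
      intro u hu
      obtain ⟨S, wt, h1, h2⟩ := inv_decomp ((f i).restrictScalars k) (hdiag i)
        (U.restrictScalars k) (fun z hz => hUs i z hz) u hu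
      refine ⟨S, wt, fun μ hμ => ?_, h2⟩
      rw [hmemUμ]
      exact ⟨(h1 μ hμ).1, (h1 μ hμ).2⟩
    have hgood : ∀ μ, ∀ z ∈ Uμ μ,
        z ∈ ⨆ χ : ι → k, ⨅ i, Module.End.eigenspace ((f i).restrictScalars k) (χ i) := by
      intro μ
      obtain ⟨u0, hu0U, hu0⟩ := hi μ
      obtain ⟨S, wt, hwt, hsum⟩ := hdec u0 hu0U
      have hex : ∃ ν ∈ S, ν ≠ μ ∧ wt ν ≠ 0 := by
        by_contra hcon
        simp only [not_exists, not_and, not_not] at hcon
        apply hu0
        rw [hsum, map_sum, Finset.smul_sum]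
        apply Finset.sum_congr rfl
        intro ν hν
        by_cases hνμ : ν = μ
        · rw [((hmemUμ ν _).1 (hwt ν hν)).2, hνμ]
        · rw [hcon ν hν hνμ, map_zero, smul_zero]
      obtain ⟨ν0, hν0S, hν0μ, hy0⟩ := hex
      have hyU : wt ν0 ∈ Uμ ν0 := hwt ν0 hν0S
      have hUμle : ∀ ν, Uμ ν ≤ U := fun ν => inf_le_left
      set C' : Submodule R V := C ⊔ Uμ ν0 with hC'
      have hC'W : C' ≤ W := sup_le hCW ((hUμle ν0).trans hUW)
      have hC's : ∀ j, ∀ c ∈ C', f j c ∈ C' := by
        intro j c hc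
        rw [hC', Submodule.mem_sup] at hc ⊢
        obtain ⟨c1, hc1, a, ha, rfl⟩ := hc
        exact ⟨f j c1, hCs j c1 hc1, f j a, hUμs ν0 j a ha, (map_add _ _ _).symm⟩
      have hynC : wt ν0 ∉ C := by
        intro h
        exact hy0 ((Submodule.disjoint_def.1 hdisj) _ h (hUμle ν0 hyU))
      have hlt : D < C'.comap W.subtype := by
        rw [← hCD]
        refine lt_of_le_of_ne (Submodule.comap_mono le_sup_left) ?_
        intro heq
        apply hynC
        have hyW : wt ν0 ∈ W := hUW (hUμle ν0 hyU)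
        have : (⟨wt ν0, hyW⟩ : W) ∈ C'.comap W.subtype :=
          Submodule.mem_sup_right hyU
        rw [← heq] at this
        exact this
      have hdisj' : Disjoint C' (Uμ μ) := by
        rw [Submodule.disjoint_def]
        intro z hzC' hzμ
        rw [hC', Submodule.mem_sup] at hzC'
        obtain ⟨c1, hc1, a, ha, rfl⟩ := hzC'
        have haU : a ∈ U := hUμle ν0 ha
        have hzU : c1 + a ∈ U := hUμle μ hzμ
        have hc1U : c1 ∈ U := by
          have : c1 = (c1 + a) - a := by abel
          rw [this]; exact U.sub_mem hzU haU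
        have hc10 : c1 = 0 := (Submodule.disjoint_def.1 hdisj) _ hc1 hc1U
        rw [hc10, zero_add] at hzμ ⊢
        have e1 := ((hmemUμ μ a).1 hzμ).2
        have e2 := ((hmemUμ ν0 a).1 ha).2
        have e3 : (ν0 - μ) • a = 0 := by rw [sub_smul, ← e1, ← e2, sub_self]
        rcases smul_eq_zero.1 e3 with h | h
        · exact absurd (sub_eq_zero.1 h) hν0μ
        · exact h
      exact ih (C'.comap W.subtype) hlt C' hC'W rfl hC's (Uμ μ)
        ((hUμle μ).trans hUW) (hUμs μ) hdisj'
    intro u hu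
    obtain ⟨S, wt, hwt, hsum⟩ := hdec u hu
    rw [hsum]
    exact Submodule.sum_mem _ (fun μ hμ => hgood μ _ (hwt μ hμ))

end Helpers

/-- Let k be a field, R a commutative Noetherian k-algebra and V an R-module, viewed also as a k-vector
space through k → R. Let (f_i) be a family of pairwise commuting R-linear endomorphisms of V such
that each f_i, as a k-linear map, is diagonalizable over k (its eigenspaces span V), and such that
every vector of V lies in a finitely generated R-submodule stable under every f_i. Then the family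
is simultaneously diagonalizable over k: the common eigenspaces ⨅_i Eig(f_i, χ(i)), over all
assignments χ of eigenvalues in k, span V. The source states this for the endomorphisms given by an
abelian group acting R-linearly; the row takes any commuting family, which is what the argument
uses, and neither k algebraically closed nor of characteristic zero is needed. -/
theorem result
    (k : Type u) [Field k] (R : Type v) [CommRing R] [Algebra k R] [IsNoetherianRing R]
    (V : Type w) [AddCommGroup V] [Module R V] [Module k V] [IsScalarTower k R V]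
    (ι : Type x) (f : ι → Module.End R V)
    (hcomm : ∀ i j, Commute (f i) (f j))
    (hdiag : ∀ i, ⨆ μ : k, Module.End.eigenspace ((f i).restrictScalars k) μ = ⊤)
    (hfin : ∀ v : V, ∃ W : Submodule R V, v ∈ W ∧ W.FG ∧ ∀ i, ∀ w ∈ W, f i w ∈ W) :
    ⨆ χ : ι → k, ⨅ i, Module.End.eigenspace ((f i).restrictScalars k) (χ i) = ⊤ := by
  rw [eq_top_iff]
  intro v _
  obtain ⟨W, hvW, hfg, hst⟩ := hfin v
  have : IsNoetherian R W := isNoetherian_of_fg_of_noetherian W hfg
  exact main_claim k R V ι f hcomm hdiag W _ ⊥ bot_le rfl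
    (fun i c hc => by rw [Submodule.mem_bot] at hc ⊢; rw [hc, map_zero])
    W le_rfl hst disjoint_bot_left v hvW

end Groth.Agent.S16159
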