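import Mathlib
import Groth.Agent.S16159
import Groth.Statements.S16160

set_option autoImplicit false
universe u v w
open scoped TensorProduct
open MadRed

namespace Groth.Agent.S16160

section Helpers

open Coalgebra

variable (k : Type u) [Field k] (A : Type v) [CommRing A] [HopfAlgebra k A]
  (R : Type w) [CommRing R] [Algebra k R]

theorem translAux_apply (g : A →ₐ[k] R) (a : A) {ι : Type*} (r : Coalgebra.Repr k a ι) :
    MadRed.translAux k A R g a = ∑ i ∈ r.index, g (r.right i) ⊗ₜ[k] r.left i := by
  simp only [MadRed.translAux, AlgHom.comp_apply, Bialgebra.comulAlgHom_apply]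
  rw [← r.eq, map_sum, map_sum]
  apply Finset.sum_congr rfl
  intro i _
  simp

theorem ptAct_tmul (g : A →ₐ[k] R) (x : R) (a : A) :
    MadRed.ptAct k A R g (x ⊗ₜ[k] a) = x • MadRed.translAux k A R g a := by
  simp only [MadRed.ptAct, Algebra.TensorProduct.lift_tmul, Algebra.TensorProduct.includeLeft_apply]
  rw [Algebra.smul_def]
  rfl

/-- the auxiliary map `x ⊗ (y ⊗ z) ↦ (h y * g z) ⊗ x`. -/
noncomputable def Xi (g h : A →ₐ[k] R) : A ⊗[k] (A ⊗[k] A) →ₗ[k] R ⊗[k] A :=
  (TensorProduct.comm k A R).toLinearMap ∘ₗ
    TensorProduct.map LinearMap.id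
      ((LinearMap.mul' k R) ∘ₗ TensorProduct.map h.toLinearMap g.toLinearMap)

theorem Xi_tmul (g h : A →ₐ[k] R) (x y z : A) :
    Xi k A R g h (x ⊗ₜ[k] (y ⊗ₜ[k] z)) = (h y * g z) ⊗ₜ[k] x := by
  simp [Xi]

theorem conv_apply (g h : A →ₐ[k] R) (y : A) {ι : Type*} (r : Coalgebra.Repr k y ι) :
    (WithConv.toConv h * WithConv.toConv g).ofConv y =
      ∑ j ∈ r.index, h (r.left j) * g (r.right j) := by
  have := AlgHom.convMul_apply (WithConv.toConv h) (WithConv.toConv g) y
  rw [this, ← r.eq, map_sum]
  apply Finset.sum_congr rfl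
  intro j _
  simp

theorem ptAct_translAux (g h : A →ₐ[k] R) (a : A) :
    MadRed.ptAct k A R h (MadRed.translAux k A R g a) =
      MadRed.translAux k A R (WithConv.toConv h * WithConv.toConv g).ofConv a := by
  classical
  set r := ℛ k a with hr
  set a₁ := fun i => ℛ k (r.left i) with ha₁
  set a₂ := fun i => ℛ k (r.right i) with ha₂
  have key := congrArg (Xi k A R g h) (sum_tmul_tmul_eq r a₁ a₂)
  simp only [map_sum, Xi_tmul] at key
  rw [translAux_apply k A R g a r, map_sum, translAux_apply k A R _ a r]
  have hL : ∀ i ∈ r.index, MadRed.ptAct k A R h (g (r.right i) ⊗ₜ[k] r.left i) =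
      ∑ j ∈ (a₁ i).index, (h ((a₁ i).right j) * g (r.right i)) ⊗ₜ[k] (a₁ i).left j := by
    intro i _
    rw [ptAct_tmul, translAux_apply k A R h (r.left i) (a₁ i), Finset.smul_sum]
    apply Finset.sum_congr rfl
    intro j _
    rw [TensorProduct.smul_tmul', smul_eq_mul, mul_comm]
  have hR : ∀ i ∈ r.index,
      ((WithConv.toConv h * WithConv.toConv g).ofConv (r.right i)) ⊗ₜ[k] r.left i =
      ∑ j ∈ (a₂ i).index, (h ((a₂ i).left j) * g ((a₂ i).right j)) ⊗ₜ[k] r.left i := by
    intro i _
    rw [conv_apply k A R g h (r.right i) (a₂ i), TensorProduct.sum_tmul]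
  rw [Finset.sum_congr rfl hL, Finset.sum_congr rfl hR]
  exact key

theorem ptAct_comp (g h : A →ₐ[k] R) (x : R ⊗[k] A) :
    MadRed.ptAct k A R h (MadRed.ptAct k A R g x) =
      MadRed.ptAct k A R (WithConv.toConv h * WithConv.toConv g).ofConv x := by
  induction x using TensorProduct.induction_on with
  | zero => simp
  | tmul r a =>
    rw [ptAct_tmul, ptAct_tmul, map_smul, ptAct_translAux]
  | add x y hx hy => rw [map_add, map_add, map_add, hx, hy]

theorem ptAct_one (x : R ⊗[k] A) :
    MadRed.ptAct k A R ((1 : WithConv (A →ₐ[k] R)).ofConv) x = x := by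
  classical
  induction x using TensorProduct.induction_on with
  | zero => simp
  | tmul r a =>
    rw [ptAct_tmul, translAux_apply k A R _ a (ℛ k a)]
    have h1 := sum_tmul_counit_eq (ℛ k a)
    have h2 := congrArg ((TensorProduct.comm k A R).toLinearMap ∘ₗ
      TensorProduct.map LinearMap.id (Algebra.linearMap k R)) h1
    simp only [map_sum, LinearMap.comp_apply, TensorProduct.map_tmul, LinearMap.id_apply,
      Algebra.linearMap_apply, LinearEquiv.coe_coe, TensorProduct.comm_tmul, map_one] at h2
    have h3 : ∀ i ∈ (ℛ k a).index, ((1 : WithConv (A →ₐ[k] R)).ofConv ((ℛ k a).right i)) ⊗ₜ[k]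
        (ℛ k a).left i = (algebraMap k R) (counit ((ℛ k a).right i)) ⊗ₜ[k] (ℛ k a).left i := by
      intro i _
      rfl
    rw [Finset.sum_congr rfl h3, h2, TensorProduct.smul_tmul', smul_eq_mul, mul_one]
  | add x y hx hy => rw [map_add, hx, hy]

theorem exists_finset_span (x : R ⊗[k] A) :
    ∃ F : Finset A, ∀ g : A →ₐ[k] R, MadRed.ptAct k A R g x ∈
      Submodule.span R ((fun a : A => (1 : R) ⊗ₜ[k] a) '' (F : Set A)) := by
  classical
  induction x using TensorProduct.induction_on with
  | zero => exact ⟨∅, fun g => by simp⟩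
  | tmul r a =>
    refine ⟨(ℛ k a).index.image (ℛ k a).left, fun g => ?_⟩
    rw [ptAct_tmul, translAux_apply k A R g a (ℛ k a)]
    apply Submodule.smul_mem
    apply Submodule.sum_mem
    intro i hi
    have : g ((ℛ k a).right i) ⊗ₜ[k] (ℛ k a).left i =
        g ((ℛ k a).right i) • ((1 : R) ⊗ₜ[k] (ℛ k a).left i) := by
      rw [TensorProduct.smul_tmul', smul_eq_mul, mul_one]
    rw [this]
    apply Submodule.smul_mem
    apply Submodule.subset_span
    exact ⟨(ℛ k a).left i, Finset.mem_coe.2 (Finset.mem_image_of_mem _ hi), rfl⟩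
  | add x y hx hy =>
    obtain ⟨F1, h1⟩ := hx
    obtain ⟨F2, h2⟩ := hy
    refine ⟨F1 ∪ F2, fun g => ?_⟩
    rw [map_add]
    apply Submodule.add_mem
    · refine Submodule.span_mono ?_ (h1 g)
      apply Set.image_mono
      exact_mod_cast Finset.subset_union_left
    · refine Submodule.span_mono ?_ (h2 g)
      apply Set.image_mono
      exact_mod_cast Finset.subset_union_right

end Helpers

/-- Let k be a field, G = Spec A an affine k-group with A a commutative Hopf algebra over k, and R a
commutative Noetherian k-algebra, so that R ⊗ A is the coordinate ring of the base change G_R and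
the k-algebra maps A → R are its R-valued points. Let H be a set of R-valued points which pairwise
commute for the convolution product of G(R) (the case of an abelian subgroup of G(R)). If every g in
H is diagonalizable over k on R ⊗ A, meaning that the eigenspaces of right translation by g, for
eigenvalues in k, span R ⊗ A, then H is simultaneously diagonalizable over k on R ⊗ A: the common
eigenspaces of the right translations by all g in H span R ⊗ A. The standing assumptions of the
source at this point (k algebraically closed of characteristic zero, G reductive) are not used. -/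
theorem result (k : Type u) [Field k]
    (A : Type v) [CommRing A] [HopfAlgebra k A] (R : Type w) [CommRing R] [Algebra k R]
    [IsNoetherianRing R] (H : Set (A →ₐ[k] R))
    (hcomm : ∀ g ∈ H, ∀ h ∈ H,
      WithConv.toConv g * WithConv.toConv h = WithConv.toConv h * WithConv.toConv g)
    (hdiag : ∀ g ∈ H, ⨆ μ : k,
      Module.End.eigenspace (((MadRed.ptAct k A R g).toLinearMap).restrictScalars k) μ = ⊤) :
    ⨆ χ : H → k, ⨅ g : H,
      Module.End.eigenspace (((MadRed.ptAct k A R g.1).toLinearMap).restrictScalars k) (χ g) = ⊤ := by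
  classical
  refine Groth.Agent.S16159.result k R (R ⊗[k] A) H
    (fun g => (MadRed.ptAct k A R g.1).toLinearMap) ?_ (fun g => hdiag g.1 g.2) ?_
  · intro g h
    apply LinearMap.ext
    intro x
    change MadRed.ptAct k A R g.1 (MadRed.ptAct k A R h.1 x) =
      MadRed.ptAct k A R h.1 (MadRed.ptAct k A R g.1 x)
    rw [ptAct_comp, ptAct_comp, hcomm g.1 g.2 h.1 h.2]
  · intro v
    obtain ⟨F, hF⟩ := exists_finset_span k A R v
    refine ⟨Submodule.span R (Set.range fun g : A →ₐ[k] R => MadRed.ptAct k A R g v), ?_, ?_, ?_⟩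
    · apply Submodule.subset_span
      exact ⟨(1 : WithConv (A →ₐ[k] R)).ofConv, ptAct_one k A R v⟩
    · have hle : Submodule.span R (Set.range fun g : A →ₐ[k] R => MadRed.ptAct k A R g v) ≤
          Submodule.span R ((fun a : A => (1 : R) ⊗ₜ[k] a) '' (F : Set A)) := by
        rw [Submodule.span_le]
        rintro _ ⟨g, rfl⟩
        exact hF g
      refine Submodule.FG.of_le ?_ hle
      exact Submodule.fg_span ((Finset.finite_toSet F).image _)
    · intro h w hw
      change MadRed.ptAct k A R h.1 w ∈ _
      induction hw using Submodule.span_induction with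
      | mem y hy =>
        obtain ⟨g, rfl⟩ := hy
        apply Submodule.subset_span
        exact ⟨_, (ptAct_comp k A R g h.1 v).symm⟩
      | zero => rw [map_zero]; exact Submodule.zero_mem _
      | add y z _ _ hy hz => rw [map_add]; exact Submodule.add_mem _ hy hz
      | smul c y _ hy => rw [map_smul]; exact Submodule.smul_mem _ c hy

end Groth.Agent.S16160
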