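import Groth.Statements.S16161
import Mathlib.Tactic
import Mathlib.RingTheory.RootsOfUnity.AlgebraicallyClosed
import Mathlib.RingTheory.Polynomial.Cyclotomic.Basic
import Mathlib.LinearAlgebra.Eigenspace.Basic

set_option autoImplicit false
universe u v
open MadRed

namespace Groth.Agent.S16161

open Polynomial in
theorem ker_aeval_prod_le {K V : Type*} [Field K] [AddCommGroup V] [Module K V]
    (f : Module.End K V) (s : Finset K) :
    LinearMap.ker (aeval f (∏ μ ∈ s, (X - C μ))) ≤ ⨆ μ : K, Module.End.eigenspace f μ := by
  classical
  induction s using Finset.induction_on with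
  | empty =>
    simp only [Finset.prod_empty, map_one]
    rw [Module.End.one_eq_id, LinearMap.ker_id]
    exact bot_le
  | insert a s ha ih =>
    rw [Finset.prod_insert ha]
    have hcop : IsCoprime (X - C a) (∏ μ ∈ s, (X - C μ)) := by
      apply IsCoprime.prod_right
      intro μ hμ
      apply isCoprime_X_sub_C_of_isUnit_sub
      have : a ≠ μ := fun h => ha (h ▸ hμ)
      exact (sub_ne_zero.mpr this).isUnit
    rw [← sup_ker_aeval_eq_ker_aeval_mul_of_coprime f hcop]
    refine sup_le ?_ ih
    refine le_trans ?_ (le_iSup _ a)
    intro v hv
    rw [Module.End.mem_eigenspace_iff]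
    have : (aeval f (X - C a)) v = f v - a • v := by
      simp [Algebra.algebraMap_eq_smul_one]
    rw [LinearMap.mem_ker, this, sub_eq_zero] at hv
    exact hv

open Polynomial in
theorem iSup_eigenspace_eq_top_of_pow_eq_one {K V : Type*} [Field K] [IsAlgClosed K] [CharZero K]
    [AddCommGroup V] [Module K V] (f : Module.End K V) (m : ℕ) (hm : 0 < m) (hf : f ^ m = 1) :
    ⨆ μ : K, Module.End.eigenspace f μ = ⊤ := by
  have : NeZero (m : K) := ⟨by exact_mod_cast hm.ne'⟩
  obtain ⟨ζ, hζ⟩ := HasEnoughRootsOfUnity.exists_primitiveRoot K m
  have h1 := X_pow_sub_one_eq_prod hm hζ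
  have h2 : aeval f (X ^ m - 1 : K[X]) = 0 := by simp [hf]
  rw [h1] at h2
  have h3 := ker_aeval_prod_le f (nthRootsFinset m (1 : K))
  rw [h2] at h3
  rw [eq_top_iff]
  refine le_trans ?_ h3
  intro v _
  simp

/-- Let k be an algebraically closed field of characteristic zero and R a reduced finitely generated
commutative k-algebra whose spectrum is connected (R has no idempotents besides 0 and 1); let W =
R^n be a free R-module of finite rank and g an R-linear endomorphism of W of finite order, g^m = 1
with m > 0 (an element of finite order of GL(W)(R)). Then the action of g on W is diagonalizable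
over k: viewing g as a k-linear map, its eigenspaces for eigenvalues in k span W. The source also
assumes that g is diagonalizable over k on every fibre W ⊗ k(x), x a point of Spec R; for g of
finite order this holds automatically (k is algebraically closed of characteristic zero), as the
source itself notes, so that hypothesis is omitted. -/
theorem result
    (k : Type u) [Field k] [IsAlgClosed k] [CharZero k]
    (R : Type v) [CommRing R] [Algebra k R] [IsReduced R] [Algebra.FiniteType k R]
    (hconn : ∀ e : R, IsIdempotentElem e → e = 0 ∨ e = 1)
    (n : ℕ) (g : Module.End R (Fin n → R)) (m : ℕ) (hm : 0 < m) (hg : g ^ m = 1) :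
    ⨆ μ : k, Module.End.eigenspace (g.restrictScalars k) μ = ⊤ := by
  apply iSup_eigenspace_eq_top_of_pow_eq_one (g.restrictScalars k) m hm
  refine LinearMap.ext fun v => ?_
  have h1 : ∀ j : ℕ, ((g.restrictScalars k) ^ j) v = (g ^ j) v := by
    intro j
    induction j generalizing v with
    | zero => simp
    | succ j ih =>
      rw [pow_succ, pow_succ, Module.End.mul_apply, Module.End.mul_apply, LinearMap.restrictScalars_apply, ih]
  rw [h1, hg]
  simp

end Groth.Agent.S16161
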