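import Groth.Statements.S16162
import Mathlib.AlgebraicGeometry.PullbackCarrier
import Mathlib.AlgebraicGeometry.Morphisms.UniversallyOpen
import Mathlib.AlgebraicGeometry.Morphisms.Flat

set_option autoImplicit false
open CategoryTheory MonoidalCategory CartesianMonoidalCategory MonObj GrpObj AlgebraicGeometry
universe u
open MadRed

namespace Groth.Agent.S16162

/-- Let S be a scheme, G a group scheme over S, and X an S-scheme with an action of G making X → S a
principal G-bundle (a torsor in the representable fppf sense: X → S surjective, flat and locally of
finite presentation, and G ×_S X → X ×_S X, (g, x) ↦ (g·x, x), an isomorphism). Let P be a closed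
subset of X stable under the action: the action map sends into P every point of G ×_S X whose second
projection lies in P. Then the image of P in S is closed, and P is the full preimage of its image.
(The source works with varieties over the complex numbers and an affine algebraic group; the
assertion holds over any base. Its second assertion, that P → image is again a principal bundle for
the induced reduced structures, then comes from base change and is not part of this row.) -/
theorem result {S : Scheme.{u}}
    {G X : Over S} [GrpObj G] (a : AlgGrp.Action G X) (ha : RedSub.IsTorsor a)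
    (P : Set X.left) (hP : IsClosed P)
    (hstab : ∀ w : (G ⊗ X).left, (snd G X).left.base w ∈ P → a.act.left.base w ∈ P) :
    IsClosed (X.hom.base '' P) ∧ X.hom.base ⁻¹' (X.hom.base '' P) = P := by
  obtain ⟨hsurj, hflat, hlfp, hiso⟩ := ha
  -- saturation
  have hsat : X.hom.base ⁻¹' (X.hom.base '' P) = P := by
    apply subset_antisymm
    · rintro x ⟨x', hx'P, hxx'⟩
      obtain ⟨z, hz1, hz2⟩ := Scheme.Pullback.exists_preimage_pullback (f := X.hom) (g := X.hom) x x' hxx'.symm
      let Φ := lift a.act (snd G X)
      have : IsIso Φ := hiso
      have : IsIso Φ.left := inferInstanceAs (IsIso ((Over.forget S).map Φ))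
      let w : (G ⊗ X).left := (inv Φ.left).base z
      have hw : Φ.left.base w = z := by
        change (inv Φ.left ≫ Φ.left).base z = z
        simp
      have h1 : (snd G X).left.base w = x' := by
        have e : Φ ≫ snd X X = snd G X := lift_snd _ _
        have : (snd G X).left = Φ.left ≫ Limits.pullback.snd X.hom X.hom := by
          rw [← e]; rfl
        rw [this]
        change (Limits.pullback.snd X.hom X.hom).base (Φ.left.base w) = x'
        rw [hw]; exact hz2
      have h2 : a.act.left.base w = x := by
        have e : Φ ≫ fst X X = a.act := lift_fst _ _
        have : a.act.left = Φ.left ≫ Limits.pullback.fst X.hom X.hom := by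
          rw [← e]; rfl
        rw [this]
        change (Limits.pullback.fst X.hom X.hom).base (Φ.left.base w) = x
        rw [hw]; exact hz1
      rw [← h2]
      exact hstab w (h1 ▸ hx'P)
    · exact Set.subset_preimage_image _ _
  refine ⟨?_, hsat⟩
  have hopen : IsOpenMap X.hom.base := by
    have : UniversallyOpen X.hom := inferInstance
    exact X.hom.isOpenMap
  have hcompl : (X.hom.base '' P)ᶜ = X.hom.base '' Pᶜ := by
    ext y
    constructor
    · intro hy
      obtain ⟨x, rfl⟩ := hsurj.surj y
      exact ⟨x, fun hxP => hy ⟨x, hxP, rfl⟩, rfl⟩
    · rintro ⟨x, hxP, rfl⟩ hy
      have : x ∈ X.hom.base ⁻¹' (X.hom.base '' P) := hy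
      rw [hsat] at this
      exact hxP this
  rw [← isOpen_compl_iff, hcompl]
  exact hopen _ hP.isOpen_compl

end Groth.Agent.S16162
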