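import Groth.Statements.S16170
import Mathlib.Tactic.Linarith
import Mathlib.Tactic.Ring
import Mathlib.Tactic.Cases
-- import your own Groth.Agent.* helpers here

set_option autoImplicit false
open Neron

namespace Groth.Agent.S16170

open Matrix

section Helpers

variable {ι : Type} [Fintype ι]

theorem symm_form (A : Matrix ι ι ℤ) (hA : A.IsSymm) (u v : ι → ℤ) :
    u ⬝ᵥ A *ᵥ v = v ⬝ᵥ A *ᵥ u := by
  rw [dotProduct_mulVec, ← mulVec_transpose, hA.eq, dotProduct_comm]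

/-- The key inequality `q(χ₁ u) + q(χ₂ u) ≤ q(u)`. -/
theorem key_ineq (M N χ₁ χ₂ : Matrix ι ι ℤ) [DecidableEq ι] (hM : M.IsSymm) (hN : N.IsSymm)
    (hMpos : ∀ v : ι → ℤ, 0 ≤ v ⬝ᵥ M.mulVec v) (hNpos : ∀ v : ι → ℤ, 0 ≤ v ⬝ᵥ N.mulVec v)
    (hsum : χ₁ + χ₂ = 1) (hrel : M * χ₂ = N * χ₁) (u : ι → ℤ) :
    (χ₁ *ᵥ u) ⬝ᵥ (M + N) *ᵥ (χ₁ *ᵥ u) + (χ₂ *ᵥ u) ⬝ᵥ (M + N) *ᵥ (χ₂ *ᵥ u) ≤ u ⬝ᵥ (M + N) *ᵥ u := by
  have hS2 : (M + N) * χ₂ = N := by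
    rw [Matrix.add_mul, hrel, ← Matrix.mul_add, hsum, Matrix.mul_one]
  have hS1 : (M + N) * χ₁ = M := by
    rw [Matrix.add_mul, ← hrel, ← Matrix.mul_add, hsum, Matrix.mul_one]
  have hS : (M + N).IsSymm := hM.add hN
  set a := χ₁ *ᵥ u with ha
  set b := χ₂ *ᵥ u with hb
  have hab : a + b = u := by
    rw [ha, hb, ← add_mulVec, hsum, one_mulVec]
  have e1 : a ⬝ᵥ (M + N) *ᵥ b = a ⬝ᵥ N *ᵥ a + a ⬝ᵥ N *ᵥ b := by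
    rw [hb, mulVec_mulVec, hS2, ← dotProduct_add, ← mulVec_add, ← hb, hab]
  have e2 : b ⬝ᵥ (M + N) *ᵥ a = b ⬝ᵥ M *ᵥ a + b ⬝ᵥ M *ᵥ b := by
    rw [ha, mulVec_mulVec, hS1, ← dotProduct_add, ← mulVec_add, ← ha, hab]
  have e3 : a ⬝ᵥ (M + N) *ᵥ b = b ⬝ᵥ (M + N) *ᵥ a := symm_form _ hS a b
  have e4 : a ⬝ᵥ (M + N) *ᵥ b = a ⬝ᵥ M *ᵥ b + a ⬝ᵥ N *ᵥ b := by
    rw [add_mulVec, dotProduct_add]
  have e5 : b ⬝ᵥ M *ᵥ a = a ⬝ᵥ M *ᵥ b := symm_form _ hM b a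
  have e6 : u ⬝ᵥ (M + N) *ᵥ u = a ⬝ᵥ (M + N) *ᵥ a + a ⬝ᵥ (M + N) *ᵥ b +
      (b ⬝ᵥ (M + N) *ᵥ a + b ⬝ᵥ (M + N) *ᵥ b) := by
    rw [← hab, mulVec_add, dotProduct_add, add_dotProduct, add_dotProduct]
    ring
  have h1 := hNpos a
  have h2 := hMpos b
  linarith

end Helpers


/-- Let M and N be symmetric positive-semidefinite integer matrices on the same finite index set whose
sum M + N is positive definite, and let χ₁, χ₂ be integer matrices with χ₁ + χ₂ = 1 and M χ₂ = N χ₁.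
Then χ₁ and χ₂ are idempotent. (In the intended application M = Pᵀ Ψ₁ P and N = Qᵀ Ψ₂ Q for
surjective integer matrices P, Q and positive-definite Ψ₁, Ψ₂.) -/
theorem result
    {ι : Type} [Fintype ι] [DecidableEq ι]
    (M N χ₁ χ₂ : Matrix ι ι ℤ) (hM : M.IsSymm) (hN : N.IsSymm)
    (hMpos : ∀ v : ι → ℤ, 0 ≤ v ⬝ᵥ M.mulVec v) (hNpos : ∀ v : ι → ℤ, 0 ≤ v ⬝ᵥ N.mulVec v)
    (hpos : ∀ v : ι → ℤ, v ≠ 0 → 0 < v ⬝ᵥ (M + N).mulVec v)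
    (hsum : χ₁ + χ₂ = 1) (hrel : M * χ₂ = N * χ₁) :
    χ₁ * χ₁ = χ₁ ∧ χ₂ * χ₂ = χ₂ := by
  have hS2 : (M + N) * χ₂ = N := by
    rw [Matrix.add_mul, hrel, ← Matrix.mul_add, hsum, Matrix.mul_one]
  have hS1 : (M + N) * χ₁ = M := by
    rw [Matrix.add_mul, ← hrel, ← Matrix.mul_add, hsum, Matrix.mul_one]
  have hS : (M + N).IsSymm := hM.add hN
  have hχ₂ : χ₂ = 1 - χ₁ := by rw [← hsum, add_sub_cancel_left]
  have hcomm : χ₂ * χ₁ = χ₁ * χ₂ := by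
    rw [hχ₂, Matrix.sub_mul, Matrix.mul_sub, Matrix.one_mul, Matrix.mul_one]
  -- `K = S * (χ₁ * χ₂)` is symmetric
  have hK : ((M + N) * (χ₁ * χ₂)).IsSymm := by
    have h1 : (M + N) * (χ₁ * χ₂) = M * χ₂ := by rw [← Matrix.mul_assoc, hS1]
    rw [h1]
    show (M * χ₂)ᵀ = M * χ₂
    have h2 : χ₂ᵀ * (M + N) = N := by
      have := congrArg Matrix.transpose hS2
      rwa [Matrix.transpose_mul, hS.eq, hN.eq] at this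
    calc (M * χ₂)ᵀ = χ₂ᵀ * M := by rw [Matrix.transpose_mul, hM.eq]
      _ = χ₂ᵀ * ((M + N) * χ₁) := by rw [hS1]
      _ = N * χ₁ := by rw [← Matrix.mul_assoc, h2]
      _ = M * χ₂ := hrel.symm
  set q : (ι → ℤ) → ℤ := fun v => v ⬝ᵥ (M + N) *ᵥ v with hq
  have hq0 : ∀ v, 0 ≤ q v := fun v => by
    have h1 := hMpos v
    have h2 := hNpos v
    simp only [hq, add_mulVec, dotProduct_add]
    linarith
  have hqz : ∀ v, q v = 0 → v = 0 := fun v hv => by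
    by_contra hne
    exact absurd hv (hpos v hne).ne'
  have L1 : ∀ u, q (χ₁ *ᵥ u) + q (χ₂ *ᵥ u) ≤ q u :=
    key_ineq M N χ₁ χ₂ hM hN hMpos hNpos hsum hrel
  -- `2 q(T v) ≤ q(v)`
  have L2 : ∀ v, 2 * q ((χ₁ * χ₂) *ᵥ v) ≤ q v := fun v => by
    have a1 := L1 v
    have a2 := L1 (χ₂ *ᵥ v)
    have a3 := L1 (χ₁ *ᵥ v)
    have e2 : χ₁ *ᵥ (χ₂ *ᵥ v) = (χ₁ * χ₂) *ᵥ v := mulVec_mulVec _ _ _
    have e3 : χ₂ *ᵥ (χ₁ *ᵥ v) = (χ₁ * χ₂) *ᵥ v := by rw [mulVec_mulVec, hcomm]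
    rw [e2] at a2
    rw [e3] at a3
    have b2 := hq0 (χ₂ *ᵥ (χ₂ *ᵥ v))
    have b3 := hq0 (χ₁ *ᵥ (χ₁ *ᵥ v))
    linarith
  -- `q(T v) = ⟨v, T (T v)⟩`
  have L3 : ∀ v, q ((χ₁ * χ₂) *ᵥ v) = v ⬝ᵥ (M + N) *ᵥ ((χ₁ * χ₂) *ᵥ ((χ₁ * χ₂) *ᵥ v)) := fun v => by
    simp only [hq]
    rw [mulVec_mulVec ((χ₁ * χ₂) *ᵥ v), mulVec_mulVec v, symm_form _ hK, mulVec_mulVec]
  have hT : ∀ v, (χ₁ * χ₂) *ᵥ v = 0 := by
    intro v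
    induction' hn : (q ((χ₁ * χ₂) *ᵥ v)).toNat using Nat.strong_induction_on with n ih generalizing v
    by_cases h0 : q ((χ₁ * χ₂) *ᵥ v) = 0
    · exact hqz _ h0
    · have hpos' : 0 < q ((χ₁ * χ₂) *ᵥ v) := lt_of_le_of_ne (hq0 _) (Ne.symm h0)
      have hlt : (q ((χ₁ * χ₂) *ᵥ ((χ₁ * χ₂) *ᵥ v))).toNat < n := by
        have := L2 ((χ₁ * χ₂) *ᵥ v)
        have := hq0 ((χ₁ * χ₂) *ᵥ ((χ₁ * χ₂) *ᵥ v))
        omega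
      have hTT := ih _ hlt ((χ₁ * χ₂) *ᵥ v) rfl
      have := L3 v
      rw [hTT, mulVec_zero, dotProduct_zero] at this
      exact absurd this h0
  have hT0 : χ₁ * χ₂ = 0 := by
    apply Matrix.mulVec_injective
    funext v
    rw [hT v, Matrix.zero_mulVec]
  constructor
  · have : χ₁ * χ₁ = χ₁ * (1 - χ₂) := by rw [← hsum, add_sub_cancel_right]
    rw [this, Matrix.mul_sub, Matrix.mul_one, hT0, sub_zero]
  · have : χ₂ * χ₂ = (1 - χ₁) * χ₂ := by rw [← hχ₂]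
    rw [this, Matrix.sub_mul, Matrix.one_mul, hT0, sub_zero]

end Groth.Agent.S16170
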