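import Groth.Statements.S16164
import Groth.Agent.S16170
import Mathlib.Tactic.Linarith
-- import your own Groth.Agent.* helpers here

set_option autoImplicit false
open Neron

namespace Groth.Agent.S16164

open Matrix

section Helpers

variable {ι κ : Type} [Fintype ι] [Fintype κ]

set_option linter.unusedSectionVars false

theorem quad_conj (P : Matrix κ ι ℤ) (Ψ : Matrix κ κ ℤ) (v : ι → ℤ) :
    v ⬝ᵥ (Pᵀ * Ψ * P) *ᵥ v = (P *ᵥ v) ⬝ᵥ Ψ *ᵥ (P *ᵥ v) := by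
  rw [← mulVec_mulVec, ← mulVec_mulVec, dotProduct_mulVec, vecMul_transpose]

theorem conj_isSymm (P : Matrix κ ι ℤ) (Ψ : Matrix κ κ ℤ) (hΨ : Ψ.IsSymm) :
    (Pᵀ * Ψ * P).IsSymm := by
  show (Pᵀ * Ψ * P)ᵀ = Pᵀ * Ψ * P
  rw [Matrix.transpose_mul, Matrix.transpose_mul, Matrix.transpose_transpose, hΨ.eq, Matrix.mul_assoc]

/-- A matrix whose columns are prescribed vectors. -/
theorem exists_matrix_of_columns [DecidableEq ι] (S M : Matrix ι ι ℤ)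
    (h : ∀ i : ι, ∃ c : ι → ℤ, S *ᵥ c = M *ᵥ Pi.single i 1) :
    ∃ χ : Matrix ι ι ℤ, S * χ = M := by
  choose c hc using h
  refine ⟨Matrix.of fun a i => c i a, ?_⟩
  ext a i
  have := congrFun (hc i) a
  rw [mulVec_single_one] at this
  rw [Matrix.mul_apply]
  simpa [mulVec, dotProduct] using this

end Helpers


/-- Let X, Y₁, Y₂ be finitely generated free abelian groups with chosen bases, so that homomorphisms are
integer matrices acting on column vectors and each group is identified with its dual; let P : X → Y₁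
and Q : X → Y₂ be surjective with A = (P over Q) : X → Y₁ ⊕ Y₂ injective, and let Ψ₁, Ψ₂ be
symmetric positive-definite integer matrices on Y₁ and Y₂, Ψ their block-diagonal sum. If the image
of Aᵀ Ψ : Y₁ ⊕ Y₂ → X coincides with the image of Aᵀ Ψ A : X → X (the reverse inclusion always
holds), then A is bijective. (In the source X, Y₁, Y₂ are character groups of maximal tori, P and Q
specialization maps, Ψ₁ and Ψ₂ monodromy pairings, and the hypothesis expresses that two groups of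
components coincide.) -/
theorem result
    {ι κ₁ κ₂ : Type} [Fintype ι] [Fintype κ₁] [Fintype κ₂]
    (P : Matrix κ₁ ι ℤ) (Q : Matrix κ₂ ι ℤ)
    (hP : Function.Surjective P.mulVec) (hQ : Function.Surjective Q.mulVec)
    (hA : Function.Injective (Matrix.fromRows P Q).mulVec)
    (Ψ₁ : Matrix κ₁ κ₁ ℤ) (Ψ₂ : Matrix κ₂ κ₂ ℤ) (hΨ₁ : Ψ₁.IsSymm) (hΨ₂ : Ψ₂.IsSymm)
    (hΨ₁pos : ∀ y : κ₁ → ℤ, y ≠ 0 → 0 < y ⬝ᵥ Ψ₁.mulVec y)
    (hΨ₂pos : ∀ y : κ₂ → ℤ, y ≠ 0 → 0 < y ⬝ᵥ Ψ₂.mulVec y)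
    (himage : LinearMap.range ((Matrix.fromRows P Q).transpose * Matrix.fromBlocks Ψ₁ 0 0 Ψ₂).mulVecLin =
      LinearMap.range ((Matrix.fromRows P Q).transpose * Matrix.fromBlocks Ψ₁ 0 0 Ψ₂ * Matrix.fromRows P Q).mulVecLin) :
    Function.Bijective (Matrix.fromRows P Q).mulVec := by
  classical
  have hAΨ : (fromRows P Q)ᵀ * fromBlocks Ψ₁ 0 0 Ψ₂ = fromCols (Pᵀ * Ψ₁) (Qᵀ * Ψ₂) := by
    rw [transpose_fromRows, fromCols_mul_fromBlocks]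
    simp
  have hAΨA : (fromRows P Q)ᵀ * fromBlocks Ψ₁ 0 0 Ψ₂ * fromRows P Q =
      Pᵀ * Ψ₁ * P + Qᵀ * Ψ₂ * Q := by
    rw [hAΨ, fromCols_mul_fromRows]
  rw [hAΨA, hAΨ] at himage
  set M := Pᵀ * Ψ₁ * P with hMdef
  set N := Qᵀ * Ψ₂ * Q with hNdef
  have hΨ₁nn : ∀ y : κ₁ → ℤ, 0 ≤ y ⬝ᵥ Ψ₁ *ᵥ y := fun y => by
    by_cases hy : y = 0
    · simp [hy]
    · exact (hΨ₁pos y hy).le
  have hΨ₂nn : ∀ y : κ₂ → ℤ, 0 ≤ y ⬝ᵥ Ψ₂ *ᵥ y := fun y => by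
    by_cases hy : y = 0
    · simp [hy]
    · exact (hΨ₂pos y hy).le
  have hMpos : ∀ v : ι → ℤ, 0 ≤ v ⬝ᵥ M *ᵥ v := fun v => by rw [hMdef, quad_conj]; exact hΨ₁nn _
  have hNpos : ∀ v : ι → ℤ, 0 ≤ v ⬝ᵥ N *ᵥ v := fun v => by rw [hNdef, quad_conj]; exact hΨ₂nn _
  have hMs : M.IsSymm := conj_isSymm P Ψ₁ hΨ₁
  have hNs : N.IsSymm := conj_isSymm Q Ψ₂ hΨ₂
  have hpos : ∀ v : ι → ℤ, v ≠ 0 → 0 < v ⬝ᵥ (M + N) *ᵥ v := by
    intro v hv
    have hAv : (fromRows P Q) *ᵥ v ≠ 0 := fun h0 => hv (hA (by rw [h0, mulVec_zero]))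
    rw [fromRows_mulVec] at hAv
    have hor : P *ᵥ v ≠ 0 ∨ Q *ᵥ v ≠ 0 := by
      by_contra hcon
      rw [not_or, not_not, not_not] at hcon
      apply hAv
      rw [hcon.1, hcon.2]
      ext (a | a) <;> rfl
    rw [add_mulVec, dotProduct_add, hMdef, hNdef, quad_conj, quad_conj]
    rcases hor with h | h
    · have := hΨ₁pos _ h
      have := hΨ₂nn (Q *ᵥ v)
      linarith
    · have := hΨ₂pos _ h
      have := hΨ₁nn (P *ᵥ v)
      linarith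
  have hSinj : ∀ v : ι → ℤ, (M + N) *ᵥ v = 0 → v = 0 := by
    intro v h0
    by_contra hv
    have := hpos v hv
    rw [h0, dotProduct_zero] at this
    exact lt_irrefl _ this
  -- columns of `M` and `N` lie in the range of `M + N`
  have hcol₁ : ∀ w : κ₁ → ℤ, ∃ c : ι → ℤ, (M + N) *ᵥ c = (Pᵀ * Ψ₁) *ᵥ w := by
    intro w
    have hmem : (fromCols (Pᵀ * Ψ₁) (Qᵀ * Ψ₂)).mulVecLin (Sum.elim w 0) ∈
        LinearMap.range (fromCols (Pᵀ * Ψ₁) (Qᵀ * Ψ₂)).mulVecLin := ⟨_, rfl⟩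
    rw [himage] at hmem
    obtain ⟨c, hc⟩ := hmem
    refine ⟨c, ?_⟩
    rw [Matrix.mulVecLin_apply, Matrix.mulVecLin_apply, fromCols_mulVec_sumElim, mulVec_zero,
      add_zero] at hc
    exact hc
  have hcol₂ : ∀ w : κ₂ → ℤ, ∃ c : ι → ℤ, (M + N) *ᵥ c = (Qᵀ * Ψ₂) *ᵥ w := by
    intro w
    have hmem : (fromCols (Pᵀ * Ψ₁) (Qᵀ * Ψ₂)).mulVecLin (Sum.elim 0 w) ∈
        LinearMap.range (fromCols (Pᵀ * Ψ₁) (Qᵀ * Ψ₂)).mulVecLin := ⟨_, rfl⟩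
    rw [himage] at hmem
    obtain ⟨c, hc⟩ := hmem
    refine ⟨c, ?_⟩
    rw [Matrix.mulVecLin_apply, Matrix.mulVecLin_apply, fromCols_mulVec_sumElim, mulVec_zero,
      zero_add] at hc
    exact hc
  obtain ⟨χ₁, hχ₁⟩ := exists_matrix_of_columns (M + N) M (fun i => by
    obtain ⟨c, hc⟩ := hcol₁ (P *ᵥ Pi.single i 1)
    exact ⟨c, by rw [hc, mulVec_mulVec]⟩)
  obtain ⟨χ₂, hχ₂⟩ := exists_matrix_of_columns (M + N) N (fun i => by
    obtain ⟨c, hc⟩ := hcol₂ (Q *ᵥ Pi.single i 1)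
    exact ⟨c, by rw [hc, mulVec_mulVec]⟩)
  -- left cancellation by `M + N`
  have hcancel : ∀ X Y : Matrix ι ι ℤ, (M + N) * X = (M + N) * Y → X = Y := by
    intro X Y h
    apply Matrix.mulVec_injective
    funext v
    have h1 : (M + N) *ᵥ (X *ᵥ v - Y *ᵥ v) = 0 := by
      rw [mulVec_sub, mulVec_mulVec, mulVec_mulVec, h, sub_self]
    exact sub_eq_zero.mp (hSinj _ h1)
  have hsum : χ₁ + χ₂ = 1 := by
    apply hcancel
    rw [Matrix.mul_add, hχ₁, hχ₂, Matrix.mul_one]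
  have hrel : M * χ₂ = N * χ₁ := by
    have e1 : M = (M + N) - N := by rw [add_sub_cancel_right]
    have e2 : χ₁ = 1 - χ₂ := by rw [← hsum, add_sub_cancel_right]
    calc M * χ₂ = (M + N) * χ₂ - N * χ₂ := by rw [← Matrix.sub_mul, add_sub_cancel_right]
      _ = N - N * χ₂ := by rw [hχ₂]
      _ = N * χ₁ := by rw [e2, Matrix.mul_sub, Matrix.mul_one]
  obtain ⟨hid₁, hid₂⟩ := Groth.Agent.S16170.result M N χ₁ χ₂ hMs hNs hMpos hNpos hpos hsum hrel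
  have h12 : χ₁ * χ₂ = 0 := by
    have e2 : χ₂ = 1 - χ₁ := by rw [← hsum, add_sub_cancel_left]
    rw [e2, Matrix.mul_sub, Matrix.mul_one, hid₁, sub_self]
  have h21 : χ₂ * χ₁ = 0 := by
    have e1 : χ₁ = 1 - χ₂ := by rw [← hsum, add_sub_cancel_right]
    rw [e1, Matrix.mul_sub, Matrix.mul_one, hid₂, sub_self]
  -- `P χ₂ = 0` and `Q χ₁ = 0`
  have hPχ₂ : ∀ w : ι → ℤ, P *ᵥ (χ₂ *ᵥ w) = 0 := by
    intro w
    by_contra hne
    have hp := hΨ₁pos _ hne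
    rw [← quad_conj, ← hMdef, ← hχ₁, mulVec_mulVec, Matrix.mul_assoc, h12, Matrix.mul_zero,
      zero_mulVec, dotProduct_zero] at hp
    exact lt_irrefl _ hp
  have hQχ₁ : ∀ w : ι → ℤ, Q *ᵥ (χ₁ *ᵥ w) = 0 := by
    intro w
    by_contra hne
    have hp := hΨ₂pos _ hne
    rw [← quad_conj, ← hNdef, ← hχ₂, mulVec_mulVec, Matrix.mul_assoc, h21, Matrix.mul_zero,
      zero_mulVec, dotProduct_zero] at hp
    exact lt_irrefl _ hp
  have hPχ₁ : ∀ w : ι → ℤ, P *ᵥ (χ₁ *ᵥ w) = P *ᵥ w := by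
    intro w
    have : χ₁ *ᵥ w = w - χ₂ *ᵥ w := by
      rw [eq_sub_iff_add_eq, ← add_mulVec, hsum, one_mulVec]
    rw [this, mulVec_sub, hPχ₂, sub_zero]
  have hQχ₂ : ∀ w : ι → ℤ, Q *ᵥ (χ₂ *ᵥ w) = Q *ᵥ w := by
    intro w
    have : χ₂ *ᵥ w = w - χ₁ *ᵥ w := by
      rw [eq_sub_iff_add_eq, ← add_mulVec, add_comm, hsum, one_mulVec]
    rw [this, mulVec_sub, hQχ₁, sub_zero]
  refine ⟨hA, fun y => ?_⟩
  obtain ⟨x₁, hx₁⟩ := hP (y ∘ Sum.inl)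
  obtain ⟨x₂, hx₂⟩ := hQ (y ∘ Sum.inr)
  refine ⟨χ₁ *ᵥ x₁ + χ₂ *ᵥ x₂, ?_⟩
  rw [fromRows_mulVec, mulVec_add, mulVec_add, hPχ₁, hPχ₂, hQχ₁, hQχ₂, add_zero, zero_add, hx₁, hx₂]
  ext (a | a) <;> rfl

end Groth.Agent.S16164
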