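import Groth.Statements.S16174
import Groth.Agent.Lib.HenselQuot
import Groth.Agent.Lib.HenselPair
import Groth.Agent.Lib.HenselizationUP
import Mathlib.RingTheory.Localization.Integral
import Mathlib.Algebra.Polynomial.Identities
import Mathlib.Tactic

set_option autoImplicit false
universe u
open Hensel

namespace Groth.Agent.S16174


open Polynomial in
/-- In a valuation ring, an element of a prime ideal is divisible by any element outside of it,
with quotient in the prime. -/
lemma exists_eq_mul_of_mem_prime {V : Type*} [CommRing V] [IsDomain V] [ValuationRing V]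
    (p : Ideal V) [hp : p.IsPrime] {x u : V} (hx : x ∈ p) (hu : u ∉ p) : ∃ y ∈ p, x = u * y := by
  rcases ValuationRing.dvd_total u x with ⟨y, rfl⟩ | ⟨y, rfl⟩
  · exact ⟨y, (hp.mem_or_mem hx).resolve_left hu, rfl⟩
  · exact absurd (Ideal.mul_mem_right _ _ hx) hu

open Polynomial in
/-- Newton-type Hensel lemma in a valuation ring henselian along a prime `p`: the derivative
only needs to be outside of `p`. -/
lemma exists_root_newton {V : Type u} [CommRing V] [IsDomain V] [ValuationRing V]
    (p : Ideal V) [p.IsPrime] [HenselianRing V p] (g : V[X]) (b₀ : V)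
    (h0 : g.eval b₀ ∈ p) (h1 : g.derivative.eval b₀ ∉ p) :
    ∃ b, g.IsRoot b ∧ b - b₀ ∈ p := by
  set u := g.derivative.eval b₀ with hu
  obtain ⟨y₁, hy₁, e₁⟩ := exists_eq_mul_of_mem_prime p h0 h1
  obtain ⟨y, hy, e₂⟩ := exists_eq_mul_of_mem_prime p hy₁ h1
  obtain ⟨k, hk⟩ := binomExpansion (g.map C) (C b₀) (C u * X)
  have hk' : (g.map C).eval (C b₀ + C u * X) = C (u ^ 2) * (C y + X + k * X ^ 2) := by
    rw [hk, derivative_map, eval_map_apply, eval_map_apply, ← hu, e₁, e₂]
    simp only [map_mul, map_pow]
    ring
  set G : V[X] := C y + X + k * X ^ 2 with hG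
  have hG0 : G.coeff 0 = y := by simp [hG]
  have hG1 : G.coeff 1 = 1 := by simp [hG, coeff_mul_X_pow']
  obtain ⟨z, hz, hroot⟩ := Groth.Agent.Lib.HenselQuot.exists_root_near_zero (I := p) G
    (by rw [hG0]; exact hy) (by rw [hG1]; simp)
  refine ⟨b₀ + u * z, ?_, by simpa using Ideal.mul_mem_left _ _ hz⟩
  have h3 : g.eval (b₀ + u * z) = ((g.map C).eval (C b₀ + C u * X)).eval z := by
    rw [eval_map, ← comp, eval_comp]
    simp
  rw [IsRoot, h3, hk', eval_mul, hroot, mul_zero]

open Polynomial IsLocalRing in
lemma henselian_localization (V : Type u) [CommRing V]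
    [IsDomain V] [ValuationRing V] [HenselianLocalRing V] (p : Ideal V) [hp : p.IsPrime] :
    HenselianLocalRing (Localization.AtPrime p) := by
  have : HenselianRing V p :=
    Groth.Agent.Lib.HenselPair.henselian_of_le (J := maximalIdeal V) (le_maximalIdeal hp.ne_top)
  refine ⟨fun f _ a₀ h₁ h₂ => ?_⟩
  set ι := algebraMap V (Localization.AtPrime p) with hι
  set f₁ := f.comp (X + C a₀) with hf₁
  obtain ⟨s, hs, hF⟩ := IsLocalization.integerNormalization_spec p.primeCompl f₁
  set F := IsLocalization.integerNormalization p.primeCompl f₁ with hFdef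
  have hsu : IsUnit (ι s) :=
    (IsLocalization.AtPrime.isUnit_to_map_iff (Localization.AtPrime p) p s).mpr hs
  have hev : ∀ x : V, ι (F.eval x) = ι s * f.eval (ι x + a₀) := by
    intro x
    rw [← eval_map_apply, hF, eval_smul, Algebra.smul_def, hf₁, eval_comp, eval_add, eval_X,
      eval_C]
  have hder : ι (F.derivative.eval 0) = ι s * f.derivative.eval a₀ := by
    rw [← eval_map_apply, ← derivative_map, hF, derivative_smul, eval_smul, Algebra.smul_def, hf₁,
      derivative_comp, eval_mul, eval_comp]
    simp only [derivative_add, derivative_X, derivative_C, add_zero, eval_one, one_mul, eval_add,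
      eval_X, map_zero, eval_C, zero_add]
    rfl
  have h0 : F.eval 0 ∈ p := by
    rw [← IsLocalization.AtPrime.to_map_mem_maximal_iff (Localization.AtPrime p) p, ← hι, hev,
      map_zero, zero_add]
    exact Ideal.mul_mem_left _ _ h₁
  have h1 : F.derivative.eval 0 ∉ p := by
    have : IsUnit (ι (F.derivative.eval 0)) := by rw [hder]; exact hsu.mul h₂
    exact (IsLocalization.AtPrime.isUnit_to_map_iff (Localization.AtPrime p) p _).mp this
  obtain ⟨z, hz, hz'⟩ := exists_root_newton p F 0 h0 h1
  rw [sub_zero] at hz'
  refine ⟨ι z + a₀, ?_, ?_⟩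
  · have := hev z
    rw [hz, map_zero] at this
    exact (hsu.mul_right_eq_zero.mp this.symm)
  · rw [add_sub_cancel_right]
    exact (IsLocalization.AtPrime.to_map_mem_maximal_iff (Localization.AtPrime p) p z).mpr hz'

/-- Let V be a Henselian valuation ring and p a prime ideal of V. Then the local rings V_p (localisation
at p) and V/p are Henselian. (Both are again valuation rings, which is elementary and not restated.) -/
theorem result (V : Type u) [CommRing V]
    [IsDomain V] [ValuationRing V] [HenselianLocalRing V] (p : Ideal V) [p.IsPrime] :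
    HenselianLocalRing (Localization.AtPrime p) ∧ HenselianLocalRing (V ⧸ p) := by
  refine ⟨henselian_localization V p, ?_⟩
  exact Groth.Agent.Lib.HenselizationUP.henselianLocalRing_of_surjective
    (Ideal.Quotient.mk p) Ideal.Quotient.mk_surjective

end Groth.Agent.S16174
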