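import Groth.Statements.S16188
import Groth.Agent.Lib.ReducedSubscheme
import Mathlib.AlgebraicGeometry.IdealSheaf.Functorial
-- import your own Groth.Agent.* helpers here

set_option autoImplicit false
universe u
open CategoryTheory AlgebraicGeometry TopologicalSpace
open SchMor

namespace Groth.Agent.S16188

/-- Let f : X → Y be a morphism of schemes with X reduced and irreducible. Then f factors through an
irreducible component of Y carrying its reduced closed-subscheme structure: there are an irreducible
component Z of Y and a morphism g from X to the closed subscheme of Y cut out by the vanishing ideal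
sheaf of Z with g followed by the inclusion equal to f; that closed subscheme is integral. -/
theorem result
    {X Y : Scheme.{u}} (f : X ⟶ Y) [IsReduced X] [IrreducibleSpace X] :
    ∃ (Z : Closeds Y) (_ : (Z : Set Y) ∈ irreducibleComponents Y)
      (_ : IsIntegral (Scheme.IdealSheafData.vanishingIdeal Z).subscheme)
      (g : X ⟶ (Scheme.IdealSheafData.vanishingIdeal Z).subscheme),
      g ≫ (Scheme.IdealSheafData.vanishingIdeal Z).subschemeι = f := by
  have hirr : IsIrreducible (Set.range f) := by
    rw [← Set.image_univ]
    exact (IrreducibleSpace.isIrreducible_univ X).image f f.continuous.continuousOn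
  obtain ⟨Z₀, hZ₀, hsub⟩ := exists_mem_irreducibleComponents_subset_of_isIrreducible _ hirr
  let Z : Closeds Y := ⟨Z₀, isClosed_of_mem_irreducibleComponents Z₀ hZ₀⟩
  have hZirr : IsIrreducible (Z₀ : Set Y) := hZ₀.1
  have hred : IsReduced (Scheme.IdealSheafData.vanishingIdeal Z).subscheme :=
    Groth.Agent.Lib.ReducedSubscheme.isReduced_subscheme_vanishingIdeal Z
  have hrange : Set.range (Scheme.IdealSheafData.vanishingIdeal Z).subschemeι = Z₀ := by
    rw [Scheme.IdealSheafData.range_subschemeι, Scheme.IdealSheafData.coe_support_vanishingIdeal]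
    rfl
  have hirrsp : IrreducibleSpace (Scheme.IdealSheafData.vanishingIdeal Z).subscheme := by
    have hemb := (Scheme.IdealSheafData.vanishingIdeal Z).subschemeι.isEmbedding
    have h1 : IrreducibleSpace (Set.range (Scheme.IdealSheafData.vanishingIdeal Z).subschemeι) := by
      rw [hrange]
      exact Subtype.irreducibleSpace hZirr
    exact (hemb.toHomeomorph.irreducibleSpace_iff).mpr h1
  have hint : IsIntegral (Scheme.IdealSheafData.vanishingIdeal Z).subscheme :=
    isIntegral_iff_irreducibleSpace_and_isReduced _ |>.mpr ⟨hirrsp, hred⟩
  have hker : (Scheme.IdealSheafData.vanishingIdeal Z).subschemeι.ker ≤ f.ker := by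
    rw [Scheme.IdealSheafData.ker_subschemeι]
    have h2 : f.ker = Scheme.IdealSheafData.vanishingIdeal (.closure (f '' (⊤ : Closeds X))) := by
      rw [← Scheme.IdealSheafData.map_vanishingIdeal, Scheme.IdealSheafData.vanishingIdeal_top,
        Scheme.nilradical_eq_bot, Scheme.IdealSheafData.map_bot]
    rw [h2]
    apply Scheme.IdealSheafData.vanishingIdeal_antimono
    rw [Closeds.closure_le]
    intro y hy
    obtain ⟨x, -, rfl⟩ := hy
    exact hsub ⟨x, rfl⟩
  exact ⟨Z, hZ₀, hint, IsClosedImmersion.lift _ f hker, IsClosedImmersion.lift_fac _ _ _⟩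

end Groth.Agent.S16188
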