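import Groth.Statements.S16194
-- import your own Groth.Agent.* helpers here

set_option autoImplicit false
universe u
open DivAlg

namespace Groth.Agent.S16194

theorem leftInv {R : Type u} [Ring R] (s : R) (hs : s ∈ Ring.jacobson R) :
    ∃ u : R, u * (1 - s) = 1 := by
  by_contra hcon
  have hne : Ideal.span {1 - s} ≠ (⊤ : Ideal R) := by
    intro h
    rw [Ideal.eq_top_iff_one, Ideal.mem_span_singleton'] at h
    exact hcon h
  obtain ⟨m, hm, hle⟩ := Ideal.exists_le_maximal _ hne
  have h1 : 1 - s ∈ m := hle (Ideal.subset_span rfl)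
  have h2 : s ∈ m := Ring.jacobson_le_of_isMaximal m hs
  have h3 : (1 : R) ∈ m := by
    have := m.add_mem h1 h2
    simpa using this
  exact hm.ne_top ((Ideal.eq_top_iff_one m).2 h3)


/-- In an associative unital ring R, not necessarily commutative, every element r of the Jacobson
radical (the set of elements lying in every maximal left ideal) is quasiregular, i.e. 1 - r is a
two-sided unit. -/
theorem result {R : Type u} [Ring R] (r : R)
    (hr : r ∈ Ring.jacobson R) : IsUnit (1 - r) := by
  obtain ⟨u, hu⟩ := leftInv r hr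
  have hu' : u = 1 - (-(u * r)) := by
    have : u * (1 - r) = u - u * r := by rw [mul_sub, mul_one]
    rw [this] at hu
    rw [sub_neg_eq_add, ← hu]
    abel
  have hur : -(u * r) ∈ Ring.jacobson R :=
    (Ring.jacobson R).neg_mem ((Ring.jacobson R).smul_mem u hr)
  obtain ⟨v, hv⟩ := leftInv _ hur
  rw [← hu'] at hv
  have hv' : v = 1 - r := by
    calc v = v * (u * (1 - r)) := by rw [hu, mul_one]
      _ = (v * u) * (1 - r) := by rw [mul_assoc]
      _ = 1 - r := by rw [hv, one_mul]
  rw [hv'] at hv
  exact ⟨⟨1 - r, u, hv, hu⟩, rfl⟩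

end Groth.Agent.S16194
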