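import Groth.Statements.S16196
-- import your own Groth.Agent.* helpers here

set_option autoImplicit false
universe u v
open DivAlg

namespace Groth.Agent.S16196

/-- Let R be a ring (associative, unital, not necessarily commutative) and M a left R-module which is a
generator, in the form: for some n there is an R-linear surjection from M^n onto R. Then the natural
ring homomorphism from R to the double endomorphism ring BiEnd_R(M) = End_{End_R(M)}(M)
(endomorphisms of M commuting with every R-linear endomorphism), r ↦ multiplication by r, is
bijective. (The printed form takes R an algebra over a commutative ring k, embeds R in E = End_k(M)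
and asserts R = C_E(C_E(R)); the double centralizer there is BiEnd_R(M).) -/
theorem result {R : Type u} [Ring R] (M : Type v)
    [AddCommGroup M] [Module R M]
    (hgen : ∃ (n : ℕ) (f : (Fin n → M) →ₗ[R] R), Function.Surjective f) :
    Function.Bijective (Module.toModuleEnd (Module.End R M) (S := R) M) := by
  classical
  obtain ⟨n, f, hf⟩ := hgen
  obtain ⟨x₀, hx₀⟩ := hf 1
  have hT : ∀ (T : Module.End (Module.End R M) M) (φ : Module.End R M) (m : M),
      T (φ m) = φ (T m) := by
    intro T φ m
    have := T.map_smul φ m
    simpa [Module.End.smul_def] using this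
  have hdecomp : ∀ (ψ : (Fin n → M) →ₗ[R] M) (x : Fin n → M),
      ψ x = ∑ i, (ψ.comp (LinearMap.single R (fun _ : Fin n => M) i)) (x i) := by
    intro ψ x
    conv_lhs => rw [← Finset.univ_sum_single x]
    rw [map_sum]
    rfl
  have hcomm : ∀ (T : Module.End (Module.End R M) M) (ψ : (Fin n → M) →ₗ[R] M) (x : Fin n → M),
      T (ψ x) = ψ (fun i => T (x i)) := by
    intro T ψ x
    rw [hdecomp ψ x, hdecomp ψ (fun i => T (x i)), map_sum]
    refine Finset.sum_congr rfl fun i _ => ?_
    exact hT T _ _
  constructor
  · rw [injective_iff_map_eq_zero]
    intro r hr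
    have h1 : ∀ m : M, r • m = 0 := by
      intro m
      have := congrArg (fun T : Module.End (Module.End R M) M => T m) hr
      simpa using this
    have h2 : r • x₀ = 0 := by
      funext i
      exact h1 (x₀ i)
    have h3 : r * f x₀ = 0 := by
      rw [← smul_eq_mul, ← map_smul, h2, map_zero]
    rwa [hx₀, mul_one] at h3
  · intro T
    refine ⟨f (fun i => T (x₀ i)), ?_⟩
    apply LinearMap.ext
    intro m
    have h := hcomm T ((LinearMap.toSpanSingleton R M m).comp f) x₀
    simp only [LinearMap.comp_apply, LinearMap.toSpanSingleton_apply, hx₀, one_smul] at h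
    rw [h]
    rfl

end Groth.Agent.S16196
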