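import Groth.Statements.S16197
import Mathlib.Tactic.Abel

set_option autoImplicit false
universe u v w
open DivAlg

namespace Groth.Agent.S16197

/-- Let R be a ring (associative, unital, not necessarily commutative) and M a left R-module which is a
generator, used here only through the existence of an R-linear surjection from a direct sum of
copies of M, indexed by an arbitrary type, onto R. Then some finite power M^n decomposes as R × Q
for a submodule Q of M^n. (The published statement is an equivalence; this row states only the
implication from the existence of such a surjection to the splitting.) -/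
theorem result {R : Type u} [Ring R] (M : Type v)
    [AddCommGroup M] [Module R M]
    (hgen : ∃ (ι : Type w) (f : (ι →₀ M) →ₗ[R] R), Function.Surjective f) :
    ∃ (n : ℕ) (Q : Submodule R (Fin n → M)), Nonempty ((Fin n → M) ≃ₗ[R] (R × Q)) := by
  classical
  obtain ⟨ι, f, hf⟩ := hgen
  obtain ⟨x, hx⟩ := hf 1
  set s := x.support with hs
  let emb : Fin s.card → ι := fun j => (s.equivFin.symm j : ι)
  let g : (Fin s.card → M) →ₗ[R] R :=
    ∑ j, (f.comp (Finsupp.lsingle (emb j))).comp (LinearMap.proj j)
  let y₀ : Fin s.card → M := fun j => x (emb j)
  have hg : g y₀ = 1 := by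
    have h1 : g y₀ = ∑ j, f (Finsupp.single (emb j) (x (emb j))) := by
      simp only [g, LinearMap.sum_apply]
      rfl
    have h2 : x = ∑ i ∈ s, Finsupp.single i (x i) := by
      conv_lhs => rw [← Finsupp.sum_single x]
      rfl
    have h3 : f x = ∑ i ∈ s, f (Finsupp.single i (x i)) := by
      conv_lhs => rw [h2]
      rw [map_sum]
    rw [h1, ← hx, h3, ← Finset.sum_coe_sort s]
    exact (Fintype.sum_equiv s.equivFin _ _ (fun i => by simp [emb])).symm
  refine ⟨s.card, LinearMap.ker g, ⟨?_⟩⟩
  have hmem : ∀ y : Fin s.card → M, y - g y • y₀ ∈ LinearMap.ker g := by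
    intro y
    rw [LinearMap.mem_ker, map_sub, map_smul, hg, smul_eq_mul, mul_one, sub_self]
  refine
    { toFun := fun y => (g y, ⟨y - g y • y₀, hmem y⟩)
      map_add' := fun a b => by
        refine Prod.ext ?_ (Subtype.ext ?_)
        · simp
        · simp only [map_add, add_smul, Prod.mk_add_mk, Submodule.coe_add]
          abel
      map_smul' := fun c a => by
        refine Prod.ext ?_ (Subtype.ext ?_)
        · simp
        · simp only [map_smul, smul_eq_mul, RingHom.id_apply, Prod.smul_mk, Submodule.coe_smul,
            mul_smul, smul_sub]
      invFun := fun p => p.1 • y₀ + (p.2 : Fin s.card → M)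
      left_inv := fun y => by simp
      right_inv := fun p => by
        obtain ⟨a, q, hq⟩ := p
        have hq' : g q = 0 := hq
        refine Prod.ext ?_ (Subtype.ext ?_)
        · simp [hg, hq']
        · simp [hg, hq'] }

end Groth.Agent.S16197
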