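import Groth.Statements.S16200
import Mathlib

set_option autoImplicit false
universe u v
open DivAlg

namespace Groth.Agent.S16200

open scoped nonZeroDivisors TensorProduct

section Coprime

variable {R : Type u} [CommRing R]

/-- for comaximal ideals, `I × J ≃ R × (I ⊓ J)` -/
theorem prod_equiv_of_sup_eq_top (I J : Ideal R) (h : I ⊔ J = ⊤) :
    Nonempty ((I × J) ≃ₗ[R] (R × ↥(I ⊓ J))) := by
  have h1 : (1 : R) ∈ I ⊔ J := by rw [h]; exact Submodule.mem_top
  obtain ⟨a₀, ha₀, b₀, hb₀, hab⟩ := Submodule.mem_sup.mp h1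
  have key : ∀ x : I × J, (x.1 : R) - ((x.1 : R) + (x.2 : R)) * a₀ ∈ I ⊓ J := by
    intro x
    refine ⟨I.sub_mem x.1.2 (I.mul_mem_left _ ha₀), ?_⟩
    have : (x.1 : R) - ((x.1 : R) + (x.2 : R)) * a₀
        = ((x.1 : R) + (x.2 : R)) * b₀ - (x.2 : R) := by
      have hb : b₀ = 1 - a₀ := by rw [← hab]; ring
      rw [hb]; ring
    rw [this]
    exact J.sub_mem (J.mul_mem_left _ hb₀) x.2.2
  have hb : b₀ = 1 - a₀ := by rw [← hab]; ring
  refine ⟨
    { toFun := fun x => ((x.1 : R) + (x.2 : R), ⟨_, key x⟩)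
      map_add' := fun x y => by
        refine Prod.ext ?_ (Subtype.ext ?_)
        · simp; ring
        · simp; ring
      map_smul' := fun r x => by
        refine Prod.ext ?_ (Subtype.ext ?_)
        · simp; ring
        · simp; ring
      invFun := fun y => (⟨y.1 * a₀ + (y.2 : R), I.add_mem (I.mul_mem_left _ ha₀) y.2.2.1⟩,
        ⟨y.1 * b₀ - (y.2 : R), J.sub_mem (J.mul_mem_left _ hb₀) y.2.2.2⟩)
      left_inv := fun x => by
        refine Prod.ext (Subtype.ext ?_) (Subtype.ext ?_)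
        · simp
        · simp only
          rw [hb]; ring
      right_inv := fun y => by
        refine Prod.ext ?_ (Subtype.ext ?_)
        · simp only
          rw [hb]; ring
        · simp only
          rw [hb]; ring }⟩

end Coprime

section Dedekind

variable {R : Type u} [CommRing R] [IsDedekindDomain R]

/-- moving lemma: every nonzero ideal is isomorphic to an ideal comaximal with a given nonzero
ideal -/
theorem exists_equiv_sup_eq_top (I J : Ideal R) (hI : I ≠ ⊥) (hJ : J ≠ ⊥) :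
    ∃ I' : Ideal R, Nonempty (I ≃ₗ[R] I') ∧ I' ⊔ J = ⊤ := by
  classical
  let K := FractionRing R
  obtain ⟨x, hx⟩ := IsDedekindDomain.exists_add_spanSingleton_mul_eq (K := K)
    (a := (J : FractionalIdeal R⁰ K)) (b := (I : FractionalIdeal R⁰ K)) (c := 1)
    FractionalIdeal.coeIdeal_le_one (FractionalIdeal.coeIdeal_ne_zero.mpr hJ)
    (FractionalIdeal.coeIdeal_ne_zero.mpr hI)
  have hle : FractionalIdeal.spanSingleton R⁰ x * (I : FractionalIdeal R⁰ K) ≤ 1 := by
    rw [← hx]
    exact le_add_self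
  obtain ⟨I', hI'⟩ := FractionalIdeal.le_one_iff_exists_coeIdeal.mp hle
  have hsup : I' ⊔ J = ⊤ := by
    apply FractionalIdeal.coeIdeal_injective (K := K)
    simp only
    rw [FractionalIdeal.coeIdeal_sup, FractionalIdeal.coeIdeal_top, hI', add_comm, hx]
  by_cases hx0 : x = 0
  · refine ⟨I, ⟨LinearEquiv.refl R I⟩, ?_⟩
    have hI'0 : I' = ⊥ := by
      apply FractionalIdeal.coeIdeal_injective (K := K)
      simp only
      rw [hI', hx0, FractionalIdeal.spanSingleton_zero, zero_mul, FractionalIdeal.coeIdeal_bot]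
    rw [hI'0, bot_sup_eq] at hsup
    rw [hsup, sup_top_eq]
  · refine ⟨I', ⟨?_⟩, hsup⟩
    let ψ : I →ₗ[R] K := (LinearMap.mulLeft R x).comp ((Algebra.linearMap R K).comp I.subtype)
    let ι : I' →ₗ[R] K := (Algebra.linearMap R K).comp I'.subtype
    have hψ : Function.Injective ψ := by
      intro a b hab
      have h1 : x * algebraMap R K a = x * algebraMap R K b := hab
      exact Subtype.ext (IsFractionRing.injective R K (mul_left_cancel₀ hx0 h1))
    have hι : Function.Injective ι := by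
      intro a b hab
      exact Subtype.ext (IsFractionRing.injective R K hab)
    have hrange : LinearMap.range ψ = LinearMap.range ι := by
      have h1 : LinearMap.range ι = ((I' : FractionalIdeal R⁰ K) : Submodule R K) := by
        rw [FractionalIdeal.coe_coeIdeal]
        ext y
        simp only [LinearMap.mem_range, IsLocalization.mem_coeSubmodule]
        constructor
        · rintro ⟨a, rfl⟩
          exact ⟨a, a.2, rfl⟩
        · rintro ⟨a, ha, rfl⟩
          exact ⟨⟨a, ha⟩, rfl⟩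
      rw [h1, hI', FractionalIdeal.coe_mul, FractionalIdeal.coe_spanSingleton,
        FractionalIdeal.coe_coeIdeal]
      ext y
      rw [Submodule.mem_span_singleton_mul]
      simp only [LinearMap.mem_range, IsLocalization.mem_coeSubmodule]
      constructor
      · rintro ⟨a, rfl⟩
        exact ⟨algebraMap R K a, ⟨a, a.2, rfl⟩, rfl⟩
      · rintro ⟨z, ⟨a, ha, rfl⟩, rfl⟩
        exact ⟨⟨a, ha⟩, rfl⟩
    exact (LinearEquiv.ofInjective ψ hψ).trans
      ((LinearEquiv.ofEq _ _ hrange).trans (LinearEquiv.ofInjective ι hι).symm)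

/-- an ideal isomorphic to an invertible module is nonzero -/
theorem ideal_ne_bot_of_equiv {M : Type v} [AddCommGroup M] [Module R M] [Module.Invertible R M]
    (I : Ideal R) (e : M ≃ₗ[R] I) : I ≠ ⊥ := by
  rintro rfl
  have h1 : ∀ m : M, m = 0 := by
    intro m
    apply e.injective
    exact Subsingleton.elim _ _
  have h2 : ∀ m : M, (1 : R) • m = (0 : R) • m := by
    intro m
    rw [h1 m, smul_zero, smul_zero]
  exact one_ne_zero (FaithfulSMul.eq_of_smul_eq_smul h2)

/-- **Steinitz**: `M₁ ⊕ M₂ ≃ R ⊕ (M₁ ⊗ M₂)` for invertible modules over a Dedekind domain -/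
theorem steinitz (M₁ : Type v) (M₂ : Type v) [AddCommGroup M₁] [Module R M₁]
    [Module.Invertible R M₁] [AddCommGroup M₂] [Module R M₂] [Module.Invertible R M₂] :
    Nonempty ((M₁ × M₂) ≃ₗ[R] (R × (M₁ ⊗[R] M₂))) := by
  obtain ⟨I, ⟨e₁⟩⟩ := Module.Invertible.exists_linearEquiv_ideal R M₁
  obtain ⟨J, ⟨e₂⟩⟩ := Module.Invertible.exists_linearEquiv_ideal R M₂
  have hI : I ≠ ⊥ := ideal_ne_bot_of_equiv I e₁
  have hJ : J ≠ ⊥ := ideal_ne_bot_of_equiv J e₂
  obtain ⟨I', ⟨e₃⟩, hsup⟩ := exists_equiv_sup_eq_top I J hI hJ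
  obtain ⟨e₄⟩ := prod_equiv_of_sup_eq_top I' J hsup
  have hmul : I' ⊓ J = I' * J :=
    (Ideal.mul_eq_inf_of_isCoprime ((Ideal.isCoprime_iff_sup_eq).mpr hsup)).symm
  haveI : Module.Invertible R J := .congr e₂
  have hdisj : Submodule.LinearDisjoint (R := R) (S := R) I' J :=
    .of_left_le_one_of_flat I' J (le_top.trans Ideal.one_eq_top.ge)
  let e₅ : (I' ⊗[R] J) ≃ₗ[R] ↥(I' ⊓ J) :=
    hdisj.mulMap.trans (LinearEquiv.ofEq _ _ hmul.symm)
  let e₆ : (M₁ ⊗[R] M₂) ≃ₗ[R] (I' ⊗[R] J) := TensorProduct.congr (e₁.trans e₃) e₂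
  exact ⟨((e₁.trans e₃).prodCongr e₂).trans
    (e₄.trans ((LinearEquiv.refl R R).prodCongr (e₅.symm.trans e₆.symm)))⟩

/-- `N^(m+1) ≃ R^m ⊕ T` with `T` invertible of class `[N]^(m+1)` -/
theorem exists_pi_equiv (N : Type v) [AddCommGroup N] [Module R N] [Module.Invertible R N]
    (m : ℕ) :
    ∃ (T : Type v) (_ : AddCommGroup T) (_ : Module R T) (_ : Module.Invertible R T),
      CommRing.Pic.mk R T = CommRing.Pic.mk R N ^ (m + 1) ∧
        Nonempty ((Fin (m + 1) → N) ≃ₗ[R] ((Fin m → R) × T)) := by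
  induction m with
  | zero =>
    refine ⟨N, inferInstance, inferInstance, inferInstance, by rw [zero_add, pow_one], ⟨?_⟩⟩
    exact (LinearEquiv.funUnique (Fin 1) R N).trans (LinearEquiv.uniqueProd (R := R)).symm
  | succ m ih =>
    obtain ⟨T, _, _, _, hT, ⟨e⟩⟩ := ih
    obtain ⟨es⟩ := steinitz (R := R) T N
    refine ⟨T ⊗[R] N, inferInstance, inferInstance, inferInstance, ?_, ⟨?_⟩⟩
    · rw [CommRing.Pic.mk_tensor, hT, ← pow_succ]
    · let e_a : (Fin (m + 1 + 1) → N) ≃ₗ[R] N × (Fin (m + 1) → N) :=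
        (Fin.consLinearEquiv R (fun _ : Fin (m + 1 + 1) => N)).symm
      let e_b : (N × (Fin (m + 1) → N)) ≃ₗ[R] N × ((Fin m → R) × T) :=
        (LinearEquiv.refl R N).prodCongr e
      let e_c : (N × ((Fin m → R) × T)) ≃ₗ[R] (Fin m → R) × (T × N) :=
        (LinearEquiv.prodComm R N ((Fin m → R) × T)).trans (LinearEquiv.prodAssoc R _ _ _)
      let e_d : ((Fin m → R) × (T × N)) ≃ₗ[R] (Fin m → R) × (R × (T ⊗[R] N)) :=
        (LinearEquiv.refl R (Fin m → R)).prodCongr es
      let e_e : ((Fin m → R) × (R × (T ⊗[R] N))) ≃ₗ[R] ((Fin m → R) × R) × (T ⊗[R] N) :=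
        (LinearEquiv.prodAssoc R _ _ _).symm
      let e_f : ((Fin m → R) × R) ≃ₗ[R] (Fin (m + 1) → R) :=
        (LinearEquiv.prodComm R (Fin m → R) R).trans
          (Fin.consLinearEquiv R (fun _ : Fin (m + 1) => R))
      exact e_a.trans (e_b.trans (e_c.trans (e_d.trans (e_e.trans
        (e_f.prodCongr (LinearEquiv.refl R (T ⊗[R] N)))))))

end Dedekind

/-- Let R be a Dedekind domain, N an invertible R-module and n a natural number with [N]^n = 1 in
Pic(R). Then the direct sum N^n is isomorphic to R^n; thus over a Dedekind domain the invertible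
modules N with N^n ≅ R^n are exactly the n-torsion classes of Pic(R), the other inclusion holding
over any commutative ring. -/
theorem result {R : Type u} [CommRing R]
    [IsDedekindDomain R] (N : Type v) [AddCommGroup N] [Module R N] [Module.Invertible R N]
    (n : ℕ) (h : CommRing.Pic.mk R N ^ n = 1) :
    Nonempty ((Fin n → N) ≃ₗ[R] (Fin n → R)) := by
  cases n with
  | zero => exact ⟨LinearEquiv.ofSubsingleton _ _⟩
  | succ m =>
    obtain ⟨T, _, _, _, hT, ⟨e⟩⟩ := exists_pi_equiv (R := R) N m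
    rw [h] at hT
    obtain ⟨eT⟩ := CommRing.Pic.mk_eq_one_iff.mp hT
    let e_f : ((Fin m → R) × R) ≃ₗ[R] (Fin (m + 1) → R) :=
      (LinearEquiv.prodComm R (Fin m → R) R).trans
        (Fin.consLinearEquiv R (fun _ : Fin (m + 1) => R))
    exact ⟨e.trans (((LinearEquiv.refl R (Fin m → R)).prodCongr eT).trans e_f)⟩

end Groth.Agent.S16200
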