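import Groth.Statements.S16201
import Mathlib.AlgebraicGeometry.Morphisms.FiniteType
import Mathlib.AlgebraicGeometry.Morphisms.QuasiCompact
import Mathlib.AlgebraicGeometry.Morphisms.FinitePresentation
import Mathlib.AlgebraicGeometry.Noetherian
import Mathlib.Analysis.Complex.Basic
import Mathlib.Topology.Irreducible
import Mathlib.Topology.JacobsonSpace
import Mathlib.Topology.Constructible
import Mathlib.Tactic

set_option autoImplicit false
open CategoryTheory AlgebraicGeometry
open Variety

namespace Groth.Agent.S16201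

open Topology


/-- In an irreducible space, a constructible set or its complement contains a nonempty open set. -/
theorem constructible_dichotomy {X : Type*} [TopologicalSpace X] [IrreducibleSpace X] {s : Set X}
    (hs : IsConstructible s) :
    (∃ O : Set X, IsOpen O ∧ O.Nonempty ∧ O ⊆ s) ∨ (∃ O : Set X, IsOpen O ∧ O.Nonempty ∧ O ⊆ sᶜ) := by
  induction hs using IsConstructible.empty_union_induction with
  | open_retrocompact U hUo hUc =>
    by_cases hU : U.Nonempty
    · exact Or.inl ⟨U, hUo, hU, subset_rfl⟩
    · rw [Set.not_nonempty_iff_eq_empty] at hU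
      exact Or.inr ⟨Set.univ, isOpen_univ, Set.univ_nonempty, by rw [hU, Set.compl_empty]⟩
  | union s hs t ht ihs iht =>
    rcases ihs with ⟨O, hO, hOne, hOs⟩ | ⟨O, hO, hOne, hOs⟩
    · exact Or.inl ⟨O, hO, hOne, hOs.trans Set.subset_union_left⟩
    · rcases iht with ⟨O', hO', hOne', hOt⟩ | ⟨O', hO', hOne', hOt⟩
      · exact Or.inl ⟨O', hO', hOne', hOt.trans Set.subset_union_right⟩
      · refine Or.inr ⟨O ∩ O', hO.inter hO', nonempty_preirreducible_inter hO hO' hOne hOne', ?_⟩
        rw [Set.compl_union]
        exact Set.inter_subset_inter hOs hOt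
  | compl s hs ih =>
    rcases ih with h | h
    · exact Or.inr (by rwa [compl_compl])
    · exact Or.inl h

theorem exists_open_subset_of_dense_constructible {X : Type*} [TopologicalSpace X] [IrreducibleSpace X]
    {s : Set X} (hs : IsConstructible s) (hd : Dense s) :
    ∃ O : Set X, IsOpen O ∧ O.Nonempty ∧ O ⊆ s := by
  rcases constructible_dichotomy hs with h | ⟨O, hO, hOne, hOs⟩
  · exact h
  · exfalso
    obtain ⟨x, hxO, hxs⟩ := hd.inter_open_nonempty O hO hOne
    exact hOs hxO hxs

theorem finite_biInter_open_nonempty {X : Type*} [TopologicalSpace X] [IrreducibleSpace X] {ι : Type*}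
    {S : Set ι} (hS : S.Finite) (O : ι → Set X) (hO : ∀ i ∈ S, IsOpen (O i) ∧ (O i).Nonempty) :
    IsOpen (⋂ i ∈ S, O i) ∧ (⋂ i ∈ S, O i).Nonempty := by
  induction S, hS using Set.Finite.induction_on with
  | empty => simp
  | insert hi hfin ih =>
    rename_i a t
    have h1 := hO a (Set.mem_insert a t)
    have h2 := ih (fun i hi => hO i (Set.mem_insert_of_mem a hi))
    rw [Set.biInter_insert]
    exact ⟨h1.1.inter h2.1, nonempty_preirreducible_inter h1.1 h2.1 h1.2 h2.2⟩

theorem result'
    (Y Z : Scheme.{0}) (g : Z ⟶ Spec (CommRingCat.of ℂ)) (f : Y ⟶ Z)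
    [LocallyOfFiniteType g] [QuasiCompact g] [LocallyOfFiniteType f] [QuasiCompact f]
    [IrreducibleSpace Z]
    (hgen : ∃ V : Z.Opens, (V : Set Z).Nonempty ∧
      ∀ z ∈ V, IsClosed ({z} : Set Z) → IsIrreducible (f.base ⁻¹' {z}))
    (hdom : ∀ W ∈ irreducibleComponents Y, Dense (f.base '' W)) :
    IrreducibleSpace Y := by
  obtain ⟨V, hVne, hV⟩ := hgen
  have : IsLocallyNoetherian Z := LocallyOfFiniteType.isLocallyNoetherian g
  have : IsLocallyNoetherian Y := LocallyOfFiniteType.isLocallyNoetherian f
  have : CompactSpace Z := QuasiCompact.compactSpace_of_compactSpace g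
  have : CompactSpace Y := QuasiCompact.compactSpace_of_compactSpace f
  have : IsNoetherian Z := {}
  have : IsNoetherian Y := {}
  have : JacobsonSpace Z := LocallyOfFiniteType.jacobsonSpace g
  have hfin := TopologicalSpace.NoetherianSpace.finite_irreducibleComponents (α := Y)
  let U : Set Y → Set Y := fun W => (⋃₀ (irreducibleComponents Y \ {W}))ᶜ
  have hUopen : ∀ W, IsOpen (U W) := fun W => by
    show IsOpen (⋃₀ (irreducibleComponents Y \ {W}))ᶜ
    rw [Set.sUnion_eq_biUnion, isOpen_compl_iff]
    exact hfin.sdiff.isClosed_biUnion fun W' hW' => isClosed_of_mem_irreducibleComponents W' hW'.1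
  have hUcl : ∀ W ∈ irreducibleComponents Y, closure (U W) = W :=
    closure_sUnion_irreducibleComponents_sdiff_singleton hfin
  have key : ∀ W ∈ irreducibleComponents Y,
      ∃ O : Set Z, IsOpen O ∧ O.Nonempty ∧ O ⊆ f.base '' (U W) := by
    intro W hW
    apply exists_open_subset_of_dense_constructible
    · exact f.isConstructible_image
        ((TopologicalSpace.NoetherianSpace.isCompact (U W)).isConstructible (hUopen W))
    · have hsub : f.base '' W ⊆ closure (f.base '' U W) := by
        have h0 : f.base '' W = f.base '' closure (U W) := by rw [hUcl W hW]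
        rw [h0]
        exact image_closure_subset_closure_image f.continuous
      exact ((hdom W hW).mono hsub).of_closure
  choose! O hOo hOne hOsub using key
  obtain ⟨hTo, hTne⟩ := finite_biInter_open_nonempty hfin O (fun W hW => ⟨hOo W hW, hOne W hW⟩)
  have hVT : ((V : Set Z) ∩ ⋂ W ∈ irreducibleComponents Y, O W).Nonempty :=
    nonempty_preirreducible_inter V.2 hTo hVne hTne
  obtain ⟨z, ⟨hzV, hzT⟩, hzcl⟩ := nonempty_inter_closedPoints hVT (V.2.inter hTo).isLocallyClosed
  have hF : IsIrreducible (f.base ⁻¹' {z}) := hV z hzV hzcl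
  obtain ⟨W₀, hW₀, hFW₀⟩ := exists_mem_irreducibleComponents_subset_of_isIrreducible _ hF
  have all : ∀ W ∈ irreducibleComponents Y, W = W₀ := by
    intro W hW
    have hz : z ∈ O W := Set.mem_iInter₂.mp hzT W hW
    obtain ⟨y, hyU, hyz⟩ := hOsub W hW hz
    have hyW₀ : y ∈ W₀ := hFW₀ hyz
    by_contra hne
    exact hyU (Set.mem_sUnion.mpr ⟨W₀, ⟨hW₀, fun h => hne (Set.mem_singleton_iff.mp h).symm⟩, hyW₀⟩)
  have huniv : (Set.univ : Set Y) = W₀ := by
    rw [← sUnion_irreducibleComponents]
    apply Set.Subset.antisymm
    · rintro y ⟨W, hW, hy⟩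
      rwa [all W hW] at hy
    · exact Set.subset_sUnion_of_mem hW₀
  rw [irreducibleSpace_def, Set.top_eq_univ, huniv]
  exact hW₀.1



/-- Let f : Y → Z be a morphism of schemes of finite type over ℂ, with Z irreducible. Suppose that the
general fibre of f is irreducible, in the sense that there is a nonempty open subset V of Z such
that the fibre of f over every closed point of V is an irreducible topological space, and that each
irreducible component of Y has dense image in Z. Then Y is irreducible. (The published statement is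
for a morphism of projective varieties; only finiteness of type over the field is used, and the row
is stated in that generality.) -/
theorem result
    (Y Z : Scheme.{0}) (g : Z ⟶ Spec (CommRingCat.of ℂ)) (f : Y ⟶ Z)
    [LocallyOfFiniteType g] [QuasiCompact g] [LocallyOfFiniteType f] [QuasiCompact f]
    [IrreducibleSpace Z]
    (hgen : ∃ V : Z.Opens, (V : Set Z).Nonempty ∧
      ∀ z ∈ V, IsClosed ({z} : Set Z) → IsIrreducible (f.base ⁻¹' {z}))
    (hdom : ∀ W ∈ irreducibleComponents Y, Dense (f.base '' W)) :
    IrreducibleSpace Y := by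
  exact result' Y Z g f hgen hdom

end Groth.Agent.S16201
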