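import Groth.Statements.S16206
import Mathlib
-- import your own Groth.Agent.* helpers here

set_option autoImplicit false
open RatCurv

namespace Groth.Agent.S16206

open W4c3cyccovratcurv SimpleGraph

section trees
open Classical

variable {n : ℕ}

theorem reach_of_adj {G H : SimpleGraph (Fin n)} (h : ∀ a b, G.Adj a b → H.Reachable a b)
    {x y : Fin n} (p : G.Walk x y) : H.Reachable x y := by
  induction p with
  | nil => exact Reachable.refl _
  | cons hab p ih => exact (h _ _ hab).trans ih

theorem exists_cross {G : SimpleGraph (Fin n)} (S : Fin n → Prop) {x y : Fin n} (p : G.Walk x y)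
    (hx : S x) (hy : ¬ S y) : ∃ a b, G.Adj a b ∧ S a ∧ ¬ S b := by
  induction p with
  | nil => exact absurd hx hy
  | @cons a b c hab p ih =>
    by_cases hz : S b
    · exact ih hz hy
    · exact ⟨a, b, hab, hx, hz⟩

/-- the re-attached graph -/
def moveG (G : SimpleGraph (Fin n)) (c u w : Fin n) : SimpleGraph (Fin n) :=
  G.deleteEdges {s(u, w)} ⊔ edge c w

theorem moveG_adj (G : SimpleGraph (Fin n)) (c u w x y : Fin n) :
    (moveG G c u w).Adj x y ↔ (G.Adj x y ∧ s(x, y) ≠ s(u, w))
      ∨ ((x = c ∧ y = w ∨ x = w ∧ y = c) ∧ x ≠ y) := by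
  simp only [moveG, sup_adj, deleteEdges_adj, Set.mem_singleton_iff, edge_adj, ne_eq]

theorem moveG_isTree {G : SimpleGraph (Fin n)} (hG : G.IsTree) {c u w : Fin n}
    (hcu : G.Adj c u) (huw : G.Adj u w) (hwc : w ≠ c) : (moveG G c u w).IsTree := by
  have hcune : c ≠ u := hcu.ne
  have hG0 : (G.deleteEdges {s(u, w)}).IsAcyclic := hG.isAcyclic.anti (deleteEdges_le _)
  have hbr : ¬ (G.deleteEdges {s(u, w)}).Reachable u w :=
    isBridge_iff.1 (isAcyclic_iff_forall_adj_isBridge.1 hG.isAcyclic huw)
  have hcu0 : (G.deleteEdges {s(u, w)}).Adj c u := by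
    rw [deleteEdges_adj]
    refine ⟨hcu, ?_⟩
    rw [Set.mem_singleton_iff, Sym2.eq_iff]
    rintro (⟨h1, h2⟩ | ⟨h1, h2⟩)
    · exact hcune h1
    · exact hwc h1.symm
  have hnr : ¬ (G.deleteEdges {s(u, w)}).Reachable c w :=
    fun h => hbr (hcu0.symm.reachable.trans h)
  refine ⟨?_, hG0.sup_edge_of_not_reachable hnr⟩
  have hne := hG.connected.nonempty
  rw [connected_iff]
  refine ⟨?_, hne⟩
  intro x y
  obtain ⟨p⟩ := hG.connected x y
  refine reach_of_adj ?_ p
  intro a b hab
  by_cases he : s(a, b) = s(u, w)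
  · have hu_w : (moveG G c u w).Reachable u w := by
      have h1 : (moveG G c u w).Adj u c := (sup_adj _ _ _ _).2 (Or.inl hcu0.symm)
      have h2 : (moveG G c u w).Adj c w :=
        (sup_adj _ _ _ _).2 (Or.inr (by rw [edge_adj]; exact ⟨Or.inl ⟨rfl, rfl⟩, hwc.symm⟩))
      exact h1.reachable.trans h2.reachable
    rw [Sym2.eq_iff] at he
    rcases he with ⟨rfl, rfl⟩ | ⟨rfl, rfl⟩
    · exact hu_w
    · exact hu_w.symm
  · have : (moveG G c u w).Adj a b :=
      (sup_adj _ _ _ _).2 (Or.inl (by rw [deleteEdges_adj]; exact ⟨hab, he⟩))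
    exact this.reachable

theorem contract_move_adj {G : SimpleGraph (Fin n)} {c u w : Fin n}
    (hcu : G.Adj c u) (huw : G.Adj u w) (hwc : w ≠ c) (a b : {v : Fin n // v ≠ u}) :
    (contract (moveG G c u w) c u).Adj a b ↔ (contract G c u).Adj a b := by
  obtain ⟨a, ha⟩ := a
  obtain ⟨b, hb⟩ := b
  have h1 := hcu.ne
  have h2 := huw.ne
  have hs : ∀ x y, G.Adj x y ↔ G.Adj y x := fun x y => G.adj_comm x y
  simp only [contract, fromRel_adj, moveG_adj, ne_eq, Subtype.mk.injEq, Sym2.eq_iff]
  grind

theorem conic_move {k : ℕ} {G : SimpleGraph (Fin n)} (hG : G.IsTree) (mk : Fin k → Fin n)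
    {c u w : Fin n} (hcu : G.Adj c u) (huw : G.Adj u w) (hwc : w ≠ c) :
    ConicAdj ⟨n, G, hG, mk⟩ ⟨n, moveG G c u w, moveG_isTree hG hcu huw hwc, mk⟩ := by
  have hcu' : (moveG G c u w).Adj c u := by
    rw [moveG_adj]
    refine Or.inl ⟨hcu, ?_⟩
    rw [ne_eq, Sym2.eq_iff]
    rintro (⟨h1, h2⟩ | ⟨h1, h2⟩)
    · exact hcu.ne h1
    · exact hwc h1.symm
  refine ⟨c, u, c, u, hcu, hcu', ⟨Equiv.refl _, ?_⟩, rfl, fun i => rfl⟩
  intro a b
  exact contract_move_adj hcu huw hwc a b

theorem conic_mark {k : ℕ} {G : SimpleGraph (Fin n)} (hG : G.IsTree) (mk : Fin k → Fin n)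
    {c : Fin n} (i : Fin k) (hcw : G.Adj c (mk i)) :
    ConicAdj ⟨n, G, hG, mk⟩ ⟨n, G, hG, Function.update mk i c⟩ := by
  refine ⟨c, mk i, c, mk i, hcw, hcw, Iso.refl, rfl, fun j => ?_⟩
  show contractMark mk c (mk i) hcw.ne j = contractMark (Function.update mk i c) c (mk i) hcw.ne j
  unfold contractMark
  by_cases hj : j = i
  · subst hj
    rw [dif_pos rfl, Function.update_self, dif_neg hcw.ne]
  · rw [Function.update_of_ne hj]

theorem conicAdj_symm {k : ℕ} {T₁ T₂ : MarkedTree k} (h : ConicAdj T₁ T₂) : ConicAdj T₂ T₁ := by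
  obtain ⟨u₁, w₁, u₂, w₂, h₁, h₂, φ, hφ, hm⟩ := h
  refine ⟨u₂, w₂, u₁, w₁, h₂, h₁, φ.symm, ?_, fun i => ?_⟩
  · rw [← hφ]
    exact φ.symm_apply_apply _
  · rw [← hm i]
    exact φ.symm_apply_apply _

theorem rtg_symm {k : ℕ} {a b : MarkedTree k} (h : Relation.ReflTransGen ConicAdj a b) :
    Relation.ReflTransGen ConicAdj b a := by
  induction h with
  | refl => exact Relation.ReflTransGen.refl
  | tail _ hbc ih => exact Relation.ReflTransGen.head (conicAdj_symm hbc) ih

noncomputable def mu (G : SimpleGraph (Fin n)) (c : Fin n) : ℕ :=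
  (Finset.univ.filter fun v => v ≠ c ∧ ¬ G.Adj c v).card

noncomputable def nu {k : ℕ} (mk : Fin k → Fin n) (c : Fin n) : ℕ :=
  (Finset.univ.filter fun i => mk i ≠ c).card

theorem phase1 {k : ℕ} (mk : Fin k → Fin n) (c : Fin n) :
    ∀ (m : ℕ) (G : SimpleGraph (Fin n)) (hG : G.IsTree), mu G c ≤ m →
      ∃ (G' : SimpleGraph (Fin n)) (hG' : G'.IsTree), (∀ v, v ≠ c → G'.Adj c v) ∧
        Relation.ReflTransGen ConicAdj (⟨n, G, hG, mk⟩ : MarkedTree k) ⟨n, G', hG', mk⟩ := by
  intro m
  induction m with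
  | zero =>
    intro G hG hm
    refine ⟨G, hG, ?_, Relation.ReflTransGen.refl⟩
    intro v hv
    by_contra hadj
    have hmem : v ∈ Finset.univ.filter fun v => v ≠ c ∧ ¬ G.Adj c v :=
      Finset.mem_filter.2 ⟨Finset.mem_univ _, hv, hadj⟩
    have h0 : (Finset.univ.filter fun v => v ≠ c ∧ ¬ G.Adj c v).card = 0 := Nat.le_zero.1 hm
    rw [Finset.card_eq_zero] at h0
    rw [h0] at hmem
    exact absurd hmem (Finset.notMem_empty _)
  | succ m ih =>
    intro G hG hm
    by_cases hstar : ∀ v, v ≠ c → G.Adj c v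
    · exact ⟨G, hG, hstar, Relation.ReflTransGen.refl⟩
    · push Not at hstar
      obtain ⟨v, hvc, hv⟩ := hstar
      obtain ⟨p⟩ := hG.connected c v
      obtain ⟨a, b, hab, ha, hb⟩ := exists_cross (fun x => x = c ∨ G.Adj c x) p (Or.inl rfl)
        (by
          rintro (h | h)
          · exact hvc h
          · exact hv h)
      have hac : G.Adj c a := by
        rcases ha with rfl | h
        · exact absurd (Or.inr hab) hb
        · exact h
      have hbc : b ≠ c := fun h => hb (Or.inl h)
      have hcb : ¬ G.Adj c b := fun h => hb (Or.inr h)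
      have hlt : mu (moveG G c a b) c < mu G c := by
        apply Finset.card_lt_card
        have hsub : (Finset.univ.filter fun v => v ≠ c ∧ ¬ (moveG G c a b).Adj c v)
            ⊆ Finset.univ.filter fun v => v ≠ c ∧ ¬ G.Adj c v := by
          intro x hx
          rw [Finset.mem_filter] at hx ⊢
          refine ⟨hx.1, hx.2.1, fun hcx => hx.2.2 ?_⟩
          rw [moveG_adj]
          refine Or.inl ⟨hcx, ?_⟩
          rw [ne_eq, Sym2.eq_iff]
          rintro (⟨h1, h2⟩ | ⟨h1, h2⟩)
          · exact hac.ne h1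
          · exact hbc h1.symm
        rw [Finset.ssubset_iff_of_subset hsub]
        refine ⟨b, Finset.mem_filter.2 ⟨Finset.mem_univ _, hbc, hcb⟩, ?_⟩
        rw [Finset.mem_filter]
        rintro ⟨-, -, h3⟩
        apply h3
        rw [moveG_adj]
        exact Or.inr ⟨Or.inl ⟨rfl, rfl⟩, hbc.symm⟩
      obtain ⟨G', hG', hstar', hrel⟩ :=
        ih (moveG G c a b) (moveG_isTree hG hac hab hbc) (by omega)
      exact ⟨G', hG', hstar', Relation.ReflTransGen.head (conic_move hG mk hac hab hbc) hrel⟩

theorem phase2 {k : ℕ} {G : SimpleGraph (Fin n)} (hG : G.IsTree) (c : Fin n)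
    (hstar : ∀ v, v ≠ c → G.Adj c v) :
    ∀ (m : ℕ) (mk : Fin k → Fin n), nu mk c ≤ m →
      Relation.ReflTransGen ConicAdj (⟨n, G, hG, mk⟩ : MarkedTree k) ⟨n, G, hG, fun _ => c⟩ := by
  intro m
  induction m with
  | zero =>
    intro mk hm
    have hall : mk = fun _ => c := by
      funext i
      by_contra hi
      have hmem : i ∈ Finset.univ.filter fun i => mk i ≠ c :=
        Finset.mem_filter.2 ⟨Finset.mem_univ _, hi⟩
      have h0 : (Finset.univ.filter fun i => mk i ≠ c).card = 0 := Nat.le_zero.1 hm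
      rw [Finset.card_eq_zero] at h0
      rw [h0] at hmem
      exact absurd hmem (Finset.notMem_empty _)
    subst hall
    exact Relation.ReflTransGen.refl
  | succ m ih =>
    intro mk hm
    by_cases hall : ∀ i, mk i = c
    · have : mk = fun _ => c := funext hall
      subst this
      exact Relation.ReflTransGen.refl
    · push Not at hall
      obtain ⟨i, hi⟩ := hall
      have hadj : G.Adj c (mk i) := hstar (mk i) hi
      have hlt : nu (Function.update mk i c) c < nu mk c := by
        apply Finset.card_lt_card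
        have hsub : (Finset.univ.filter fun j => Function.update mk i c j ≠ c)
            ⊆ Finset.univ.filter fun j => mk j ≠ c := by
          intro j hj
          rw [Finset.mem_filter] at hj ⊢
          refine ⟨hj.1, ?_⟩
          by_cases hji : j = i
          · subst hji
            exact absurd (Function.update_self _ _ _) hj.2
          · rw [Function.update_of_ne hji] at hj
            exact hj.2
        rw [Finset.ssubset_iff_of_subset hsub]
        refine ⟨i, Finset.mem_filter.2 ⟨Finset.mem_univ _, hi⟩, ?_⟩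
        rw [Finset.mem_filter]
        rintro ⟨-, h3⟩
        exact h3 (Function.update_self _ _ _)
      exact Relation.ReflTransGen.head (conic_mark hG mk i hadj) (ih _ (by omega))

theorem star_unique {G G' : SimpleGraph (Fin n)} (hG : G.IsTree) (hG' : G'.IsTree) (c : Fin n)
    (h : ∀ v, v ≠ c → G.Adj c v) (h' : ∀ v, v ≠ c → G'.Adj c v) : G = G' := by
  have key : ∀ (H : SimpleGraph (Fin n)), H.IsTree → (∀ v, v ≠ c → H.Adj c v) →
      ∀ a b, H.Adj a b ↔ (a ≠ b ∧ (a = c ∨ b = c)) := by
    intro H hH hs a b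
    constructor
    · intro hab
      refine ⟨hab.ne, ?_⟩
      by_contra hne
      push Not at hne
      have h1 : H.dist c a = 1 := dist_eq_one_iff_adj.2 (hs a hne.1)
      have h2 : H.dist c b = 1 := dist_eq_one_iff_adj.2 (hs b hne.2)
      exact hH.dist_ne_of_adj c hab (h1.trans h2.symm)
    · rintro ⟨hab, rfl | rfl⟩
      · exact hs b hab.symm
      · exact (hs a hab).symm
  ext a b
  rw [key G hG h, key G' hG' h']

end trees

/-- Let G₁ and G₂ be dual graphs of linear trees of the same total degree e and with k marked points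
each, that is finite trees with e vertices, every vertex of degree one, together with a list of k
marked vertices (repetitions allowed). Then a finite chain of conic deformations leads from G₁ to
G₂. Here a conic deformation of such a graph is the marked graph obtained by contracting one edge
(the contracted vertex being the unique vertex of degree two), two marked trees are one step apart
when they have isomorphic conic deformations, the isomorphism matching the contracted vertices and
the i-th marked vertices, and the conclusion is that G₁ and G₂ are related by the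
reflexive-transitive closure of this one-step relation. -/
theorem result (k : ℕ) (T₁ T₂ : W4c3cyccovratcurv.MarkedTree k)
    (h : T₁.n = T₂.n) :
    Relation.ReflTransGen W4c3cyccovratcurv.ConicAdj T₁ T₂ := by
  obtain ⟨n₁, G₁, hG₁, mk₁⟩ := T₁
  obtain ⟨n₂, G₂, hG₂, mk₂⟩ := T₂
  simp only at h
  subst h
  obtain ⟨c⟩ := hG₁.connected.nonempty
  obtain ⟨G₁', hG₁', hs₁, r₁⟩ := phase1 mk₁ c _ G₁ hG₁ le_rfl
  obtain ⟨G₂', hG₂', hs₂, r₂⟩ := phase1 mk₂ c _ G₂ hG₂ le_rfl
  have q₁ := phase2 hG₁' c hs₁ _ mk₁ le_rfl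
  have q₂ := phase2 hG₂' c hs₂ _ mk₂ le_rfl
  have e : G₁' = G₂' := star_unique hG₁' hG₂' c hs₁ hs₂
  subst e
  exact (r₁.trans q₁).trans (rtg_symm (r₂.trans q₂))

end Groth.Agent.S16206
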