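-- Statement S1621.
import Groth.Statements.S1621
import Groth.Agent.Lib.H30DimField
import Mathlib

set_option autoImplicit false
universe u
open CategoryTheory CategoryTheory.Limits AlgebraicGeometry
attribute [local instance] Curv2.stalkAlgebra Curv2.resAlgebra
open Variety

namespace Groth.Agent.S1621

open Groth.Agent.Lib.H30DimField

theorem main (k : Type u) [Field k] (X : Scheme.{u}) [X.Over (Spec (CommRingCat.of k))] [LocallyOfFiniteType (X ↘ (Spec (CommRingCat.of k)))] (x : X) (a b : ℕ)
    (ha : Algebra.trdeg k (X.residueField x) = a) (hb : ringKrullDim (X.presheaf.stalk x) = b) :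
    FlatMor.localDim X x = (a + b : ℕ) := by
  rw [localDim_eq k X x, hb, td_eq_of_trdeg_eq k X x a ha, Int.toNat_natCast, add_comm a b]
  push_cast
  rfl

/-- Let X be locally of finite type over a field k and x a point whose residue field has transcendence
degree a over k and whose local ring has dimension b. Then the local dimension of X at x is a + b. -/
theorem result (k : Type u) [Field k] (X : Scheme.{u}) [X.Over (Spec (CommRingCat.of k))] [LocallyOfFiniteType (X ↘ (Spec (CommRingCat.of k)))] (x : X) (a b : ℕ)
    (ha : Algebra.trdeg k (X.residueField x) = a) (hb : ringKrullDim (X.presheaf.stalk x) = b) :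
    FlatMor.localDim X x = (a + b : ℕ) := by
  exact main k X x a b ha hb

end Groth.Agent.S1621
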