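import Groth.Statements.S16211
import Mathlib.Tactic.LinearCombination
import Mathlib.Tactic.Ring

set_option autoImplicit false
universe u v
open InvTh

namespace Groth.Agent.S16211

/-- Let R be a commutative ring, O a formally smooth R-algebra and G a finite group whose order is
invertible in R, acting on O by R-algebra automorphisms. Then the largest quotient algebra of O on
which G acts trivially, namely the quotient of O by the ideal generated by all g • f - f (the
coordinate ring of the subscheme of G-fixed points of Spec O), is again formally smooth over R: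
invariant homomorphisms lift along square-zero extensions. The published statement is about a scheme
X smooth and of finite presentation over the base and concludes that its fixed-point scheme is
smooth; this row, the affine step of its proof, assumes only that O is formally smooth over R and
concludes only formal smoothness. -/
theorem result (R : Type u) [CommRing R]
    (O : Type u) [CommRing O] [Algebra R O] [Algebra.FormallySmooth R O]
    (G : Type v) [Group G] [Finite G] [MulSemiringAction G O] [SMulCommClass G R O]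
    (hG : IsUnit (Nat.card G : R)) :
    Algebra.FormallySmooth R (O ⧸ Ideal.span {x : O | ∃ (g : G) (f : O), x = g • f - f}) := by
  classical
  have : Fintype G := Fintype.ofFinite G
  set J : Ideal O := Ideal.span {x : O | ∃ (g : G) (f : O), x = g • f - f} with hJ
  apply Algebra.FormallySmooth.of_comp_surjective
  intro B _ _ I hI φ
  have hII : ∀ p ∈ I, ∀ q ∈ I, p * q = 0 := by
    intro p hp q hq
    have h1 : p * q ∈ I ^ 2 := by
      rw [pow_two]
      exact Ideal.mul_mem_mul hp hq
    rw [hI] at h1
    exact h1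
  obtain ⟨ψ₀, hψ₀⟩ := Algebra.FormallySmooth.comp_surjective R O I hI
    (φ.comp (Ideal.Quotient.mkₐ R J))
  let ψ : G → (O →ₐ[R] B) := fun g => ψ₀.comp (MulSemiringAction.toAlgHom R O g)
  have hψapp : ∀ g x, ψ g x = ψ₀ (g • x) := fun g x => rfl
  have hmkJ : ∀ (g : G) (x : O), Ideal.Quotient.mk J (g • x) = Ideal.Quotient.mk J x := by
    intro g x
    rw [Ideal.Quotient.eq]
    exact Ideal.subset_span ⟨g, x, rfl⟩
  have hψ₀mk : ∀ x, Ideal.Quotient.mk I (ψ₀ x) = φ (Ideal.Quotient.mk J x) := by
    intro x
    exact congrArg (fun (F : O →ₐ[R] B ⧸ I) => F x) hψ₀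
  have hψmk : ∀ g x, Ideal.Quotient.mk I (ψ g x) = φ (Ideal.Quotient.mk J x) := by
    intro g x
    rw [hψapp, hψ₀mk, hmkJ]
  have hF1 : ∀ g x, ψ g x - ψ₀ x ∈ I := by
    intro g x
    rw [← Ideal.Quotient.eq, hψmk, hψ₀mk]
  obtain ⟨u, hu⟩ := hG.exists_left_inv
  set nB : B := algebraMap R B (Nat.card G : R) with hnB
  set uB : B := algebraMap R B u with huB
  have huBn : uB * nB = 1 := by rw [huB, hnB, ← map_mul, hu, map_one]
  have hcard : ((Finset.univ : Finset G).card : B) = nB := by
    rw [hnB, map_natCast, Finset.card_univ, Nat.card_eq_fintype_card]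
  have hsumconst : ∀ c : B, ∑ _g : G, c = nB * c := by
    intro c
    rw [Finset.sum_const, nsmul_eq_mul, hcard]
  have hSx : ∀ x, ∑ g, ψ g x = nB * ψ₀ x + ∑ g, (ψ g x - ψ₀ x) := by
    intro x
    rw [Finset.sum_sub_distrib, hsumconst]
    ring
  have hsumI : ∀ x, ∑ g, (ψ g x - ψ₀ x) ∈ I := fun x => Ideal.sum_mem _ fun g _ => hF1 g x
  have hmul : ∀ x y, uB * ∑ g, ψ g (x * y) = (uB * ∑ g, ψ g x) * (uB * ∑ g, ψ g y) := by
    intro x y
    have hSxy : ∑ g, ψ g (x * y) = nB * (ψ₀ x * ψ₀ y) + ψ₀ x * ∑ g, (ψ g y - ψ₀ y) +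
        (∑ g, (ψ g x - ψ₀ x)) * ψ₀ y := by
      have h1 : ∀ g, ψ g (x * y) = ψ₀ x * ψ₀ y + ψ₀ x * (ψ g y - ψ₀ y) +
          (ψ g x - ψ₀ x) * ψ₀ y := by
        intro g
        have h2 := hII _ (hF1 g x) _ (hF1 g y)
        rw [map_mul]
        linear_combination h2
      rw [Finset.sum_congr rfl (fun g _ => h1 g), Finset.sum_add_distrib, Finset.sum_add_distrib,
        hsumconst, ← Finset.mul_sum, ← Finset.sum_mul]
    have hAB := hII _ (hsumI x) _ (hsumI y)
    rw [hSxy, hSx x, hSx y]
    linear_combination (-(ψ₀ x * ψ₀ y * uB * nB) - uB * ψ₀ x * ∑ g, (ψ g y - ψ₀ y) -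
      uB * (∑ g, (ψ g x - ψ₀ x)) * ψ₀ y) * huBn - uB ^ 2 * hAB
  let ψ' : O →ₐ[R] B :=
    { toFun := fun x => uB * ∑ g, ψ g x
      map_one' := by
        simp only [map_one]
        rw [hsumconst, mul_one, huBn]
      map_mul' := hmul
      map_zero' := by simp
      map_add' := fun x y => by
        simp only [map_add, Finset.sum_add_distrib, mul_add]
      commutes' := fun r => by
        simp only [AlgHom.commutes]
        rw [hsumconst, ← mul_assoc, huBn, one_mul] }
  have hψ'app : ∀ x, ψ' x = uB * ∑ g, ψ g x := fun x => rfl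
  have hinv : ∀ (h : G) (x : O), ψ' (h • x) = ψ' x := by
    intro h x
    rw [hψ'app, hψ'app]
    congr 1
    refine Fintype.sum_equiv (Equiv.mulRight h) _ _ fun g => ?_
    rw [hψapp, hψapp, Equiv.coe_mulRight, mul_smul]
  have hJker : ∀ a ∈ J, ψ' a = 0 := by
    intro a ha
    have hle : J ≤ RingHom.ker (ψ' : O →+* B) := by
      rw [hJ, Ideal.span_le]
      rintro _ ⟨g, f, rfl⟩
      change ψ' (g • f - f) = 0
      rw [map_sub, hinv, sub_self]
    exact hle ha
  refine ⟨Ideal.Quotient.liftₐ J ψ' hJker, ?_⟩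
  apply Ideal.Quotient.algHom_ext
  apply AlgHom.ext
  intro x
  change Ideal.Quotient.mk I (ψ' x) = φ (Ideal.Quotient.mk J x)
  rw [hψ'app, map_mul, map_sum, Finset.sum_congr rfl (fun g _ => hψmk g x), Finset.sum_const,
    nsmul_eq_mul, ← map_natCast (Ideal.Quotient.mk I), hcard, ← mul_assoc, ← map_mul, huBn, map_one,
    one_mul]

end Groth.Agent.S16211
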