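import Groth.Statements.S1622
import Groth.Agent.Lib.RegBlowUp84
import Groth.Agent.Lib.BlowUpAmple68
import Groth.Agent.Lib.BlowUpUniv5

set_option autoImplicit false
universe u
open CategoryTheory CategoryTheory.Limits AlgebraicGeometry
open Resolve

namespace Groth.Agent.S1622

set_option maxHeartbeats 800000
set_option linter.style.haveILetI false
open CategoryTheory AlgebraicGeometry

/-- Let A be a regular local ring of dimension two and b : X → Spec A a blowing up of Spec A in the
maximal ideal (characterised by its universal property). Then X is irreducible and all of its local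
rings are regular. -/
theorem result (A : Type u) [CommRing A] [IsRegularLocalRing A] (hA : ringKrullDim A = 2)
    (X : Scheme.{u}) (b : X ⟶ Spec (CommRingCat.of A)) (hb : BlowUp.IsBlowUp b (Curv2.idealSheaf A (IsLocalRing.maximalIdeal A))) :
    IrreducibleSpace X ∧ ∀ x : X, IsRegularLocalRing (X.presheaf.stalk x) := by
  classical
  have hfg : (IsLocalRing.maximalIdeal A).FG := IsNoetherian.noetherian _
  obtain ⟨s, hscard, hsspan⟩ := Submodule.FG.exists_span_finset_card_eq_spanFinrank hfg
  have hrank : (IsLocalRing.maximalIdeal A).spanFinrank = 2 := by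
    have h1 := IsRegularLocalRing.spanFinrank_maximalIdeal (R := A)
    rw [hA] at h1
    exact_mod_cast h1
  rw [hrank] at hscard
  obtain ⟨x, y, -, rfl⟩ := Finset.card_eq_two.1 hscard
  have hm : IsLocalRing.maximalIdeal A = Ideal.span {x, y} := by
    rw [← hsspan]
    simp
  have hm' : IsLocalRing.maximalIdeal A = Ideal.span {y, x} := by
    rw [hm, Set.pair_comm]
  haveI : IsDomain A := Groth.Agent.Lib.RegularLocal.isDomain A
  have hx0 : x ≠ 0 := Groth.Agent.Lib.RegBlowUp84.x_ne_zero hA x y hm
  refine ⟨?_, ?_⟩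
  · apply Groth.Agent.Lib.BlowUpUniv.irreducibleSpace_of_isBlowUp hb
    have hxm : x ∈ IsLocalRing.maximalIdeal A := hm ▸ Ideal.subset_span (by simp)
    have hpt : ((⟨⊥, Ideal.isPrime_bot⟩ : PrimeSpectrum A) : ↥(Spec (CommRingCat.of A))) ∈
        (↑(Curv2.idealSheaf A (IsLocalRing.maximalIdeal A)).support :
          Set ↥(Spec (CommRingCat.of A)))ᶜ := by
      unfold Curv2.idealSheaf
      rw [Scheme.IdealSheafData.coe_support_ofIdealTop, Spec_zeroLocus]
      intro hmem
      have hmem' := (PrimeSpectrum.mem_zeroLocus (⟨⊥, Ideal.isPrime_bot⟩ : PrimeSpectrum A) _).mp hmem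
      have h1 : x ∈ ((⊥ : Ideal A) : Set A) :=
        hmem' (show x ∈ (Scheme.ΓSpecIso (CommRingCat.of A)).inv ⁻¹' _ from
          Ideal.mem_map_of_mem _ hxm)
      exact hx0 (by simpa using h1)
    exact ⟨_, hpt⟩
  · intro z
    have key : ∀ (a a' : A) (hma : IsLocalRing.maximalIdeal A = Ideal.span {a, a'}),
        z ∈ Groth.Agent.Lib.AffineBlowupChart.chartOpen (IsLocalRing.maximalIdeal A) b a →
        IsRegularLocalRing (X.presheaf.stalk z) := by
      intro a a' hma hz
      have ham : a ∈ IsLocalRing.maximalIdeal A := hma ▸ Ideal.subset_span (by simp)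
      have ha'm : a' ∈ IsLocalRing.maximalIdeal A := hma ▸ Ideal.subset_span (by simp)
      obtain ⟨haff, Ψ, -⟩ := Groth.Agent.Lib.BlowUpAmple68.exists_chartRingEquiv hb a ham
      haveI : IsNoetherianRing (Groth.Agent.Lib.AffineBlowupAlg.Bl (IsLocalRing.maximalIdeal A) a) :=
        Groth.Agent.Lib.RegBlowUp84.isNoetherianRing_Bx a a' hma ha'm
      haveI : IsRegularRing (Groth.Agent.Lib.AffineBlowupAlg.Bl (IsLocalRing.maximalIdeal A) a) :=
        ⟨fun q hq => Groth.Agent.Lib.RegBlowUp84.isRegularLocalRing_localization hA a a' hma ha'm q⟩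
      haveI : IsRegularRing Γ(X, Groth.Agent.Lib.AffineBlowupChart.chartOpen
          (IsLocalRing.maximalIdeal A) b a) := IsRegularRing.of_ringEquiv Ψ
      letI := TopCat.Presheaf.algebra_section_stalk X.presheaf ⟨z, hz⟩
      haveI hloc := haff.isLocalization_stalk ⟨z, hz⟩
      exact IsRegularLocalRing.of_ringEquiv
        (IsLocalization.algEquiv (haff.primeIdealOf ⟨z, hz⟩).asIdeal.primeCompl
          (Localization.AtPrime (haff.primeIdealOf ⟨z, hz⟩).asIdeal)
          (X.presheaf.stalk z)).toRingEquiv
    obtain ⟨a, ha, hza⟩ := Groth.Agent.Lib.BlowUpProper68.exists_mem_chartOpen_of_span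
      (I := IsLocalRing.maximalIdeal A) (b := b) (↑({x, y} : Finset A) : Set A) hsspan hb.1 z
    simp only [Finset.coe_insert, Finset.coe_singleton, Set.mem_insert_iff,
      Set.mem_singleton_iff] at ha
    rcases ha with rfl | rfl
    · exact key _ _ hm hza
    · exact key _ _ hm' hza

end Groth.Agent.S1622
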