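import Groth.Statements.S16225
import Mathlib

set_option autoImplicit false
open scoped TensorProduct
universe u v
open CAlg

namespace Groth.Agent.S16225

/-- Let p be a prime, n a natural number and R → R' a faithfully flat homomorphism of commutative rings
in which p is nilpotent. Regard W_n(R') and W_n(R' ⊗_R R') as W_n(R)-algebras through the
componentwise maps induced by R → R' and R → R' ⊗_R R', and let ψ₁, ψ₂ : W_n(R') → W_n(R' ⊗_R R') be
the componentwise maps induced by the two inclusions of R' (these are W_n(R)-algebra maps). Then for
every flat W_n(R)-module M the sequence 0 → M → M ⊗_{W_n(R)} W_n(R') ⇉ M ⊗_{W_n(R)} W_n(R' ⊗_R R')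
is exact: m ↦ m ⊗ 1 is injective and its image is the equalizer of id ⊗ ψ₁ and id ⊗ ψ₂. (This is the
beginning, in degrees 0 and 1, of a complex continued by the higher tensor powers of R', which the
published proof asserts to be exact throughout; W_n(R) → W_n(R') is not flat in general, so this is
not faithfully flat descent.) -/
theorem result (p : ℕ) [Fact p.Prime] (n : ℕ)
    (R R' : Type u) [CommRing R] [CommRing R'] [Algebra R R'] [Module.FaithfullyFlat R R']
    (hp : IsNilpotent (p : R))
    [Algebra (TruncatedWittVector p n R) (TruncatedWittVector p n R')]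
    (h₁ : algebraMap (TruncatedWittVector p n R) (TruncatedWittVector p n R') = WittGrp.truncMap p n (algebraMap R R'))
    [Algebra (TruncatedWittVector p n R) (TruncatedWittVector p n (TensorProduct R R' R'))]
    (h₂ : algebraMap (TruncatedWittVector p n R) (TruncatedWittVector p n (TensorProduct R R' R')) =
      WittGrp.truncMap p n (algebraMap R (TensorProduct R R' R')))
    (ψ₁ ψ₂ : TruncatedWittVector p n R' →ₐ[TruncatedWittVector p n R] TruncatedWittVector p n (TensorProduct R R' R'))
    (hψ₁ : (ψ₁ : TruncatedWittVector p n R' →+* TruncatedWittVector p n (TensorProduct R R' R')) =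
      WittGrp.truncMap p n (Algebra.TensorProduct.includeLeftRingHom : R' →+* TensorProduct R R' R'))
    (hψ₂ : (ψ₂ : TruncatedWittVector p n R' →+* TruncatedWittVector p n (TensorProduct R R' R')) =
      WittGrp.truncMap p n ((Algebra.TensorProduct.includeRight : R' →ₐ[R] TensorProduct R R' R') : R' →+* TensorProduct R R' R'))
    (M : Type v) [AddCommGroup M] [Module (TruncatedWittVector p n R) M] [Module.Flat (TruncatedWittVector p n R) M] :
    Function.Injective (fun m : M => m ⊗ₜ[TruncatedWittVector p n R] (1 : TruncatedWittVector p n R')) ∧
      ∀ x : M ⊗[TruncatedWittVector p n R] TruncatedWittVector p n R',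
        LinearMap.lTensor M ψ₁.toLinearMap x = LinearMap.lTensor M ψ₂.toLinearMap x →
          x ∈ Set.range (fun m : M => m ⊗ₜ[TruncatedWittVector p n R] (1 : TruncatedWittVector p n R')) := by
  classical
  have e1 : ∀ x, ψ₁ x = WittGrp.truncMap p n
      (Algebra.TensorProduct.includeLeftRingHom : R' →+* TensorProduct R R' R') x := by
    intro x
    rw [← hψ₁]
    rfl
  have e2 : ∀ x, ψ₂ x = WittGrp.truncMap p n
      ((Algebra.TensorProduct.includeRight : R' →ₐ[R] TensorProduct R R' R') :
        R' →+* TensorProduct R R' R') x := by
    intro x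
    rw [← hψ₂]
    rfl
  have hinjR : Function.Injective (algebraMap R R') := FaithfulSMul.algebraMap_injective R R'
  have hinj : Function.Injective
      (Algebra.linearMap (TruncatedWittVector p n R) (TruncatedWittVector p n R')) := by
    intro x y hxy
    rw [Algebra.linearMap_apply, Algebra.linearMap_apply, h₁] at hxy
    ext i
    have := congrArg (fun t => TruncatedWittVector.coeff i t) hxy
    simp only [WittGrp.coeff_truncMap] at this
    exact hinjR this
  have hexact : Function.Exact
      (Algebra.linearMap (TruncatedWittVector p n R) (TruncatedWittVector p n R'))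
      (ψ₁.toLinearMap - ψ₂.toLinearMap) := by
    intro x
    constructor
    · intro hx
      have hx' : ψ₁ x = ψ₂ x := sub_eq_zero.mp hx
      have hc : ∀ i, ∃ r : R, algebraMap R R' r = x.coeff i := by
        intro i
        have h1 : (ψ₁ x).coeff i = (ψ₂ x).coeff i := by rw [hx']
        rw [e1, e2, WittGrp.coeff_truncMap, WittGrp.coeff_truncMap] at h1
        have h2 : Algebra.TensorProduct.includeLeftSubRight R R' (x.coeff i) = 0 := by
          rw [Algebra.TensorProduct.includeLeftSubRight_apply, sub_eq_zero]
          exact h1
        obtain ⟨r, hr⟩ := (Algebra.IsEffective.of_faithfullyFlat R R' (x.coeff i)).mp h2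
        exact ⟨r, hr⟩
      choose r hr using hc
      refine ⟨TruncatedWittVector.mk p r, ?_⟩
      rw [Algebra.linearMap_apply, h₁]
      ext i
      rw [WittGrp.coeff_truncMap, TruncatedWittVector.coeff_mk, hr]
    · rintro ⟨y, rfl⟩
      rw [LinearMap.sub_apply, sub_eq_zero]
      simp only [Algebra.linearMap_apply, AlgHom.toLinearMap_apply, AlgHom.commutes]
  constructor
  · have hi := Module.Flat.lTensor_preserves_injective_linearMap (M := M)
      (Algebra.linearMap (TruncatedWittVector p n R) (TruncatedWittVector p n R')) hinj
    intro m m' h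
    have h2 : (Algebra.linearMap (TruncatedWittVector p n R) (TruncatedWittVector p n R')).lTensor M
        (m ⊗ₜ[TruncatedWittVector p n R] (1 : TruncatedWittVector p n R)) =
        (Algebra.linearMap (TruncatedWittVector p n R) (TruncatedWittVector p n R')).lTensor M
        (m' ⊗ₜ[TruncatedWittVector p n R] (1 : TruncatedWittVector p n R)) := by
      simpa using h
    have h3 := hi h2
    simpa using congrArg (TensorProduct.rid (TruncatedWittVector p n R) M) h3
  · intro x hx
    have hex2 := Module.Flat.lTensor_exact M hexact
    have h0 : (ψ₁.toLinearMap - ψ₂.toLinearMap).lTensor M x = 0 := by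
      rw [LinearMap.lTensor_sub, LinearMap.sub_apply, hx, sub_self]
    obtain ⟨y, hy⟩ := (hex2 x).mp h0
    refine ⟨TensorProduct.rid (TruncatedWittVector p n R) M y, ?_⟩
    show TensorProduct.rid (TruncatedWittVector p n R) M y ⊗ₜ[TruncatedWittVector p n R]
      (1 : TruncatedWittVector p n R') = x
    rw [← hy]
    have hy2 : y = (TensorProduct.rid (TruncatedWittVector p n R) M y) ⊗ₜ[TruncatedWittVector p n R]
        (1 : TruncatedWittVector p n R) := by
      rw [← TensorProduct.rid_symm_apply, LinearEquiv.symm_apply_apply]
    conv_rhs => rw [hy2]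
    simp

end Groth.Agent.S16225
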