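import Groth.Statements.S1623
import Groth.Agent.Lib.BlowUpAmple68
import Groth.Agent.S0010

set_option autoImplicit false
universe u
open CategoryTheory CategoryTheory.Limits AlgebraicGeometry
open Resolve

namespace Groth.Agent.S1623

/-- Let A be a regular local ring of dimension two and b : X → Spec A a blowing up in the maximal ideal.
For every quasi-coherent O_X-module F and every p ≥ 2, H^p(X, F) = 0. -/
theorem result (A : Type u) [CommRing A] [IsRegularLocalRing A] (hA : ringKrullDim A = 2)
    (X : Scheme.{u}) (b : X ⟶ Spec (CommRingCat.of A)) (hb : BlowUp.IsBlowUp b (Curv2.idealSheaf A (IsLocalRing.maximalIdeal A)))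
    (F : X.Modules) (hF : Coh.IsQCoh F) (p : ℕ) (hp : 2 ≤ p) : Subsingleton (Coh.HH X F p) := by
  classical
  -- two generators of the maximal ideal
  have hfg : (IsLocalRing.maximalIdeal A).FG := IsNoetherian.noetherian _
  obtain ⟨s, hscard, hsspan⟩ := Submodule.FG.exists_span_finset_card_eq_spanFinrank hfg
  have hrank : (IsLocalRing.maximalIdeal A).spanFinrank = 2 := by
    have h1 := IsRegularLocalRing.spanFinrank_maximalIdeal (R := A)
    rw [hA] at h1
    exact_mod_cast h1
  rw [hrank] at hscard
  obtain ⟨x, y, -, rfl⟩ := Finset.card_eq_two.1 hscard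
  have hxm : x ∈ IsLocalRing.maximalIdeal A := hsspan ▸ Submodule.subset_span (by simp)
  have hym : y ∈ IsLocalRing.maximalIdeal A := hsspan ▸ Submodule.subset_span (by simp)
  have hproper : IsProper b := Groth.Agent.Lib.BlowUpProper68.isProper_affine hb hfg
  have hsep : IsSeparated b := inferInstance
  have hd : ∀ V W : X.Opens, IsAffineOpen V → IsAffineOpen W → IsAffineOpen (V ⊓ W) :=
    fun V W hV hW => (isAffineHom_diagonal_iff (f := b)).mp inferInstance ⊤ (isAffineOpen_top _)
      V (by simp) W (by simp) hV hW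
  have hqc : Coh.IsQCoh F := hF
  refine Groth.Agent.S0010.result X 2
    ![Groth.Agent.Lib.AffineBlowupChart.chartOpen (IsLocalRing.maximalIdeal A) b x,
      Groth.Agent.Lib.AffineBlowupChart.chartOpen (IsLocalRing.maximalIdeal A) b y] ?_ ?_ hd F p hp
  · intro i
    fin_cases i
    · exact Groth.Agent.Lib.BlowUpAmple68.isAffineOpen_chartOpen hb x hxm
    · exact Groth.Agent.Lib.BlowUpAmple68.isAffineOpen_chartOpen hb y hym
  · rw [eq_top_iff]
    intro z _
    obtain ⟨a, ha, hza⟩ := Groth.Agent.Lib.BlowUpProper68.exists_mem_chartOpen_of_span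
      (I := IsLocalRing.maximalIdeal A) (b := b) (↑({x, y} : Finset A) : Set A) hsspan hb.1 z
    rw [TopologicalSpace.Opens.mem_iSup]
    simp only [Finset.coe_insert, Finset.coe_singleton, Set.mem_insert_iff,
      Set.mem_singleton_iff] at ha
    rcases ha with rfl | rfl
    · exact ⟨0, hza⟩
    · exact ⟨1, hza⟩

end Groth.Agent.S1623
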