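import Groth.Statements.S16230
import Mathlib
-- import your own Groth.Agent.* helpers here

set_option autoImplicit false
universe u
open VanCyc

namespace Groth.Agent.S16230

section morse
open Finsupp

variable {k : Type u} [CommRing k] {n : ℕ}

/-- order at least `d` -/
def Lo (d : ℕ) (a : MvPowerSeries (Fin n) k) : Prop :=
  ∀ m : Fin n →₀ ℕ, m.degree < d → MvPowerSeries.coeff m a = 0

theorem Lo.mono {d e : ℕ} {a : MvPowerSeries (Fin n) k} (h : Lo d a) (hed : e ≤ d) : Lo e a :=
  fun m hm => h m (lt_of_lt_of_le hm hed)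

theorem Lo_zero (d : ℕ) : Lo d (0 : MvPowerSeries (Fin n) k) := fun m _ => by simp

theorem Lo.add {d : ℕ} {a b : MvPowerSeries (Fin n) k} (ha : Lo d a) (hb : Lo d b) :
    Lo d (a + b) :=
  fun m hm => by rw [map_add, ha m hm, hb m hm, add_zero]

theorem Lo.sub {d : ℕ} {a b : MvPowerSeries (Fin n) k} (ha : Lo d a) (hb : Lo d b) :
    Lo d (a - b) :=
  fun m hm => by rw [map_sub, ha m hm, hb m hm, sub_zero]

theorem Lo.neg {d : ℕ} {a : MvPowerSeries (Fin n) k} (ha : Lo d a) : Lo d (-a) :=
  fun m hm => by rw [map_neg, ha m hm, neg_zero]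

theorem Lo.smul {d : ℕ} {a : MvPowerSeries (Fin n) k} (ha : Lo d a) (c : k) : Lo d (c • a) :=
  fun m hm => by rw [MvPowerSeries.coeff_smul, ha m hm, mul_zero]

theorem Lo.sum {ι : Type*} (s : Finset ι) (g : ι → MvPowerSeries (Fin n) k) {d : ℕ}
    (h : ∀ i ∈ s, Lo d (g i)) : Lo d (∑ i ∈ s, g i) :=
  fun m hm => by rw [map_sum]; exact Finset.sum_eq_zero fun i hi => h i hi m hm

theorem Lo.mul {p q : ℕ} {a b : MvPowerSeries (Fin n) k} (ha : Lo p a) (hb : Lo q b) :
    Lo (p + q) (a * b) := by
  classical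
  intro m hm
  rw [MvPowerSeries.coeff_mul]
  apply Finset.sum_eq_zero
  rintro ⟨u, v⟩ huv
  rw [Finset.HasAntidiagonal.mem_antidiagonal] at huv
  have hdeg : u.degree + v.degree = m.degree := by
    have := congrArg Finsupp.degree huv
    rw [map_add] at this
    exact this
  by_cases hu : u.degree < p
  · rw [ha u hu, zero_mul]
  · have hv : v.degree < q := by omega
    rw [hb v hv, mul_zero]

theorem eq_zero_of_Lo {a : MvPowerSeries (Fin n) k} (h : ∀ d, Lo d a) : a = 0 := by
  ext m
  rw [h (m.degree + 1) m (Nat.lt_succ_self _)]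
  simp

theorem Lo_one_of_const {a : MvPowerSeries (Fin n) k}
    (h : MvPowerSeries.constantCoeff a = 0) : Lo 1 a := by
  intro m hm
  have hm0 : m = 0 := by
    rw [← Finsupp.degree_eq_zero_iff]
    omega
  subst hm0
  rw [MvPowerSeries.coeff_zero_eq_constantCoeff_apply, h]

theorem Lo.const {d : ℕ} {a : MvPowerSeries (Fin n) k} (h : Lo (d + 1) a) :
    MvPowerSeries.constantCoeff a = 0 := by
  have := h 0 (by simp)
  rwa [MvPowerSeries.coeff_zero_eq_constantCoeff_apply] at this

/-- vector version -/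
def LoV {ι : Type*} (d : ℕ) (ε : ι → MvPowerSeries (Fin n) k) : Prop := ∀ i, Lo d (ε i)

/-! ### division operators -/

noncomputable def Dv (j : Fin n) (h : MvPowerSeries (Fin n) k) : MvPowerSeries (Fin n) k :=
  fun m => if (m + Finsupp.single j 1).support.min = (j : WithTop (Fin n)) then
    MvPowerSeries.coeff (m + Finsupp.single j 1) h else 0

theorem coeff_Dv (j : Fin n) (h : MvPowerSeries (Fin n) k) (m : Fin n →₀ ℕ) :
    MvPowerSeries.coeff m (Dv j h) =
      if (m + Finsupp.single j 1).support.min = (j : WithTop (Fin n)) then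
        MvPowerSeries.coeff (m + Finsupp.single j 1) h else 0 := rfl

theorem Dv_sub (j : Fin n) (h h' : MvPowerSeries (Fin n) k) :
    Dv j (h - h') = Dv j h - Dv j h' := by
  ext m
  simp only [coeff_Dv, map_sub]
  split_ifs <;> simp

theorem Lo_Dv {d : ℕ} {h : MvPowerSeries (Fin n) k} (hh : Lo (d + 1) h) (j : Fin n) :
    Lo d (Dv j h) := by
  intro m hm
  rw [coeff_Dv]
  split_ifs
  · apply hh
    rw [map_add, Finsupp.degree_single]
    omega
  · rfl

theorem sum_X_mul_Dv (h : MvPowerSeries (Fin n) k) (h0 : MvPowerSeries.constantCoeff h = 0) :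
    ∑ j, MvPowerSeries.X j * Dv j h = h := by
  classical
  ext m
  rw [map_sum]
  by_cases hm : m = 0
  · subst hm
    rw [Finset.sum_eq_zero (fun j _ => MvPowerSeries.coeff_zero_X_mul _ _)]
    rw [MvPowerSeries.coeff_zero_eq_constantCoeff_apply, h0]
  · have hne : m.support.Nonempty := by rwa [Finsupp.support_nonempty_iff]
    obtain ⟨j0, hj0⟩ := Finset.min_of_nonempty hne
    have hj0m : j0 ∈ m.support := Finset.mem_of_min hj0
    have hle : Finsupp.single j0 1 ≤ m := by
      rw [Finsupp.single_le_iff]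
      exact Nat.one_le_iff_ne_zero.2 (Finsupp.mem_support_iff.1 hj0m)
    rw [Finset.sum_eq_single j0]
    · rw [show (MvPowerSeries.X j0 : MvPowerSeries (Fin n) k)
        = MvPowerSeries.monomial (Finsupp.single j0 1) 1 from rfl,
        MvPowerSeries.coeff_monomial_mul, if_pos hle, one_mul, coeff_Dv,
        tsub_add_cancel_of_le hle, if_pos hj0]
    · intro j _ hj
      rw [show (MvPowerSeries.X j : MvPowerSeries (Fin n) k)
        = MvPowerSeries.monomial (Finsupp.single j 1) 1 from rfl,
        MvPowerSeries.coeff_monomial_mul]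
      split_ifs with hle'
      · rw [one_mul, coeff_Dv, tsub_add_cancel_of_le hle', if_neg]
        intro hmin
        apply hj
        rw [hj0] at hmin
        exact (WithTop.coe_injective hmin).symm
      · rfl
    · intro hnot
      exact absurd (Finset.mem_univ _) hnot

/-! ### quadratic forms in coordinates -/

noncomputable def Qf (c : Fin n → Fin n → k) (y : Fin n → MvPowerSeries (Fin n) k) :
    MvPowerSeries (Fin n) k := ∑ a, ∑ b, c a b • (y a * y b)

noncomputable def Lf (c : Fin n → Fin n → k) (i : Fin n) (y : Fin n → MvPowerSeries (Fin n) k) :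
    MvPowerSeries (Fin n) k := ∑ a, (c a i + c i a) • y a

theorem Qf_add (c : Fin n → Fin n → k) (y z : Fin n → MvPowerSeries (Fin n) k) :
    Qf c (y + z) = Qf c y + ∑ i, Lf c i y * z i + Qf c z := by
  have h1 : ∑ i, Lf c i y * z i = ∑ a, ∑ b, (c a b • (y a * z b) + c a b • (z a * y b)) := by
    have e : ∀ i, Lf c i y * z i = ∑ a, (c a i • (y a * z i) + c i a • (y a * z i)) := by
      intro i
      rw [Lf, Finset.sum_mul]
      refine Finset.sum_congr rfl fun a _ => ?_
      rw [smul_mul_assoc, add_smul]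
    simp only [e, Finset.sum_add_distrib]
    refine congrArg₂ (· + ·) ?_ ?_
    · exact Finset.sum_comm
    · refine Finset.sum_congr rfl fun i _ => Finset.sum_congr rfl fun a _ => ?_
      rw [mul_comm]
  rw [h1]
  simp only [Qf, Pi.add_apply, ← Finset.sum_add_distrib]
  refine Finset.sum_congr rfl fun a _ => Finset.sum_congr rfl fun b _ => ?_
  simp only [← smul_add]
  congr 1
  ring

theorem Lo_Qf (c : Fin n → Fin n → k) {d : ℕ} {y : Fin n → MvPowerSeries (Fin n) k}
    (hy : LoV d y) : Lo (d + d) (Qf c y) := by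
  apply Lo.sum
  intro a _
  apply Lo.sum
  intro b _
  exact ((hy a).mul (hy b)).smul _

theorem Lo_Lf (c : Fin n → Fin n → k) {d : ℕ} {y : Fin n → MvPowerSeries (Fin n) k}
    (hy : LoV d y) (i : Fin n) : Lo d (Lf c i y) := by
  apply Lo.sum
  intro a _
  exact (hy a).smul _


/-! ### powers and monomials -/

theorem Lo_any_zero (a : MvPowerSeries (Fin n) k) : Lo 0 a := fun _ hm => absurd hm (Nat.not_lt_zero _)

theorem Lo_pow {a : MvPowerSeries (Fin n) k} (ha : Lo 1 a) (r : ℕ) : Lo r (a ^ r) := by
  induction r with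
  | zero => exact Lo_any_zero _
  | succ r ih => rw [pow_succ]; exact ih.mul ha

theorem Lo_pow_sub {u v : MvPowerSeries (Fin n) k} (hu : Lo 1 u) (hv : Lo 1 v) {m' : ℕ}
    (huv : Lo (m' + 1) (u - v)) (r : ℕ) : Lo (r + m') (u ^ r - v ^ r) := by
  induction r with
  | zero => rw [pow_zero, pow_zero, sub_self]; exact Lo_zero _
  | succ r ih =>
    have e : u ^ (r + 1) - v ^ (r + 1) = (u ^ r - v ^ r) * u + v ^ r * (u - v) := by ring
    rw [e]
    exact ((ih.mul hu).mono (by omega)).add (((Lo_pow hv r).mul huv).mono (by omega))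

theorem Lo_monomial {u v : Fin n → MvPowerSeries (Fin n) k} (hu : ∀ s, Lo 1 (u s))
    (hv : ∀ s, Lo 1 (v s)) {m' : ℕ} (huv : ∀ s, Lo (m' + 1) (u s - v s)) (e : Fin n →₀ ℕ) :
    Lo e.degree (e.prod fun s r => u s ^ r) ∧ Lo e.degree (e.prod fun s r => v s ^ r) ∧
      Lo (e.degree + m') ((e.prod fun s r => u s ^ r) - (e.prod fun s r => v s ^ r)) := by
  induction e using Finsupp.induction_linear with
  | zero =>
    simp only [Finsupp.prod_zero_index, map_zero, sub_self]
    exact ⟨Lo_any_zero _, Lo_any_zero _, Lo_zero _⟩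
  | add f g hf hg =>
    obtain ⟨hf1, hf2, hf3⟩ := hf
    obtain ⟨hg1, hg2, hg3⟩ := hg
    rw [Finsupp.prod_add_index' (fun _ => pow_zero _) (fun _ _ _ => pow_add _ _ _),
      Finsupp.prod_add_index' (fun _ => pow_zero _) (fun _ _ _ => pow_add _ _ _), map_add]
    refine ⟨hf1.mul hg1, hf2.mul hg2, ?_⟩
    have e : (f.prod fun s r => u s ^ r) * (g.prod fun s r => u s ^ r)
        - (f.prod fun s r => v s ^ r) * (g.prod fun s r => v s ^ r)
        = ((f.prod fun s r => u s ^ r) - (f.prod fun s r => v s ^ r)) * (g.prod fun s r => u s ^ r)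
          + (f.prod fun s r => v s ^ r)
            * ((g.prod fun s r => u s ^ r) - (g.prod fun s r => v s ^ r)) := by ring
    rw [e]
    exact ((hf3.mul hg1).mono (by omega)).add ((hf2.mul hg3).mono (by omega))
  | single s r =>
    rw [Finsupp.prod_single_index (h := fun s r => u s ^ r) (pow_zero _),
      Finsupp.prod_single_index (h := fun s r => v s ^ r) (pow_zero _), Finsupp.degree_single]
    exact ⟨Lo_pow (hu s) r, Lo_pow (hv s) r, Lo_pow_sub (hu s) (hv s) (huv s) r⟩

/-! ### substitution close to the identity -/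

theorem Lo_subst_sub {a : Fin n → MvPowerSeries (Fin n) k} (ha : MvPowerSeries.HasSubst a)
    (ha1 : ∀ s, Lo 1 (a s)) {m' : ℕ} (hax : ∀ s, Lo (m' + 1) (a s - MvPowerSeries.X s))
    {d : ℕ} {G : MvPowerSeries (Fin n) k} (hG : Lo d G) :
    Lo (d + m') (MvPowerSeries.subst a G - G) := by
  intro u hu
  have e1 := MvPowerSeries.coeff_subst ha G u
  have hXs : MvPowerSeries.subst (fun s : Fin n => (MvPowerSeries.X s : MvPowerSeries (Fin n) k)) G
      = G := congrFun MvPowerSeries.subst_self G
  have e2 := MvPowerSeries.coeff_subst (MvPowerSeries.HasSubst.X (σ := Fin n) (S := k)) G u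
  rw [hXs] at e2
  have hX1 : ∀ s : Fin n, Lo 1 (MvPowerSeries.X s : MvPowerSeries (Fin n) k) :=
    fun s => Lo_one_of_const (MvPowerSeries.constantCoeff_X s)
  rw [map_sub, e1, e2, ← finsum_sub_distrib (MvPowerSeries.coeff_subst_finite ha G u)
    (MvPowerSeries.coeff_subst_finite MvPowerSeries.HasSubst.X G u)]
  apply finsum_eq_zero_of_forall_eq_zero
  intro e
  rw [← smul_sub, ← map_sub, smul_eq_mul]
  by_cases hde : e.degree < d
  · rw [hG e hde, zero_mul]
  · rw [(Lo_monomial ha1 hX1 hax e).2.2 u (by omega), mul_zero]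

theorem subst_injective {a : Fin n → MvPowerSeries (Fin n) k} (ha : MvPowerSeries.HasSubst a)
    (ha1 : ∀ s, Lo 1 (a s)) {m' : ℕ} (hax : ∀ s, Lo (m' + 1 + 1) (a s - MvPowerSeries.X s)) :
    Function.Injective (MvPowerSeries.subst a : MvPowerSeries (Fin n) k → MvPowerSeries (Fin n) k) := by
  intro G G' hGG'
  rw [← sub_eq_zero]
  have hD : MvPowerSeries.subst a (G - G') = 0 := by
    rw [MvPowerSeries.subst_sub ha, hGG', sub_self]
  have hD2 : G - G' = -(MvPowerSeries.subst a (G - G') - (G - G')) := by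
    rw [hD]; abel
  apply eq_zero_of_Lo
  intro d
  induction d with
  | zero => exact Lo_any_zero _
  | succ d ih =>
    rw [hD2]
    exact ((Lo_subst_sub ha ha1 hax ih).mono (by omega)).neg

/-! ### fixed points of contractions -/

theorem fixpt {ι : Type*} (b : ℕ)
    (T : (ι → MvPowerSeries (Fin n) k) → (ι → MvPowerSeries (Fin n) k))
    (hTb : ∀ ε, LoV b ε → LoV b (T ε))
    (hTc : ∀ ε ε' d, LoV b ε → LoV b ε' → LoV (d + b) (ε - ε') → LoV (d + b + 1) (T ε - T ε')) :
    ∃ ε, LoV b ε ∧ T ε = ε := by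
  set seq : ℕ → (ι → MvPowerSeries (Fin n) k) := fun j => T^[j] 0 with hseq
  have seq0 : seq 0 = 0 := rfl
  have seqS : ∀ j, seq (j + 1) = T (seq j) := fun j => Function.iterate_succ_apply' T j 0
  have h2 : ∀ j, LoV b (seq j) := by
    intro j
    induction j with
    | zero => intro i; exact Lo_zero b
    | succ j ih => rw [seqS]; exact hTb _ ih
  have hstep : ∀ j, LoV (j + b) (seq (j + 1) - seq j) := by
    intro j
    induction j with
    | zero =>
      rw [seqS, seq0, sub_zero, Nat.zero_add]
      exact hTb _ (fun i => Lo_zero b)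
    | succ j ih =>
      have := hTc (seq (j + 1)) (seq j) j (h2 _) (h2 _) ih
      rw [← seqS, ← seqS] at this
      intro i
      exact (this i).mono (by omega)
  have hstab : ∀ j j', j ≤ j' → LoV (j + b) (seq j' - seq j) := by
    intro j j' hjj'
    induction j', hjj' using Nat.le_induction with
    | base => rw [sub_self]; intro i; exact Lo_zero _
    | succ j' hj' ih =>
      have : seq (j' + 1) - seq j = (seq (j' + 1) - seq j') + (seq j' - seq j) := by abel
      rw [this]
      intro i
      exact ((hstep j' i).mono (by omega)).add (ih i)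
  let ε : ι → MvPowerSeries (Fin n) k := fun i m => seq (m.degree + 1) i m
  have hεc : ∀ i m, MvPowerSeries.coeff m (ε i) = MvPowerSeries.coeff m (seq (m.degree + 1) i) :=
    fun i m => rfl
  have hlim : ∀ j, LoV (j + b) (ε - seq j) := by
    intro j i m hm
    rw [Pi.sub_apply, map_sub, hεc]
    rcases le_or_gt (m.degree + 1) j with h | h
    · have := hstab (m.degree + 1) j h i m (by omega)
      rw [Pi.sub_apply, map_sub] at this
      rw [sub_eq_zero] at this ⊢
      exact this.symm
    · have := hstab j (m.degree + 1) h.le i m hm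
      rw [Pi.sub_apply, map_sub] at this
      exact this
  have hεb : LoV b ε := by
    intro i
    have : ε i = (ε - seq 0) i + seq 0 i := by rw [Pi.sub_apply]; abel
    rw [this]
    exact ((hlim 0 i).mono (by omega)).add (h2 0 i)
  refine ⟨ε, hεb, ?_⟩
  funext i
  rw [← sub_eq_zero]
  apply eq_zero_of_Lo
  intro d
  have hA : Lo (d + b + 1) ((T ε - T (seq d)) i) := hTc ε (seq d) d hεb (h2 d) (hlim d) i
  have hB : Lo (d + 1 + b) ((ε - seq (d + 1)) i) := hlim (d + 1) i
  have : T ε i - ε i = (T ε - T (seq d)) i - (ε - seq (d + 1)) i := by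
    rw [Pi.sub_apply, Pi.sub_apply, seqS]; abel
  rw [this]
  exact ((hA.mono (by omega)).sub (hB.mono (by omega)) : Lo d _)

theorem subst_surjective {a : Fin n → MvPowerSeries (Fin n) k} (ha : MvPowerSeries.HasSubst a)
    (ha1 : ∀ s, Lo 1 (a s)) {m' : ℕ} (hax : ∀ s, Lo (m' + 1 + 1) (a s - MvPowerSeries.X s)) :
    Function.Surjective (MvPowerSeries.subst a : MvPowerSeries (Fin n) k → MvPowerSeries (Fin n) k) := by
  intro H
  obtain ⟨G, -, hG⟩ := fixpt (ι := Unit) 0
    (fun G _ => H - (MvPowerSeries.subst a (G ()) - G ()))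
    (fun _ _ _ => Lo_any_zero _)
    (by
      intro G G' d _ _ hGG' i
      have e : (fun _ : Unit => H - (MvPowerSeries.subst a (G ()) - G ())) i
          - (fun _ : Unit => H - (MvPowerSeries.subst a (G' ()) - G' ())) i
          = -(MvPowerSeries.subst a (G () - G' ()) - (G () - G' ())) := by
        rw [MvPowerSeries.subst_sub ha]; ring
      rw [Pi.sub_apply, e]
      exact ((Lo_subst_sub ha ha1 hax (hGG' ())).mono (by omega)).neg)
  refine ⟨G (), ?_⟩
  have this : H - (MvPowerSeries.subst a (G ()) - G ()) = G () := congrFun hG ()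
  have h2 : MvPowerSeries.subst a (G ()) = H - (H - (MvPowerSeries.subst a (G ()) - G ())) + G () := by
    ring
  rw [h2, this]
  ring

end morse

/-- Let A be a local ring, n and m natural numbers with 2 ≤ m, q an n × n coefficient table over A whose
quadratic form Q(x) = Σ_{i≤j} q_ij x_i x_j is non-degenerate (the polar bilinear form has unit Gram
determinant, i.e. is a perfect pairing — the reading of non-degeneracy over the local ring A used
here), a an element of A, and F a formal power series in x_1, …, x_n over A all of whose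
coefficients in total degree at most m agree with those of Q + a. Then there are power series h_1,
…, h_n with no terms of total degree less than m such that substituting x_i + h_i for x_i in F gives
exactly Q + a; consequently A[[x]]/(F) and A[[x]]/(Q + a) are isomorphic as A-algebras. -/
theorem result
    (A : Type u) [CommRing A] [IsLocalRing A] (n m : ℕ) (hm : 2 ≤ m)
    (q : Fin n → Fin n → A) (hq : VanCyc.QuadNondeg q) (a : A)
    (F : MvPowerSeries (Fin n) A)
    (hF : ∀ e : Fin n →₀ ℕ, e.degree ≤ m →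
      MvPowerSeries.coeff e F = MvPowerSeries.coeff e ((VanCyc.quadPoly q + MvPolynomial.C a : MvPolynomial (Fin n) A) : MvPowerSeries (Fin n) A)) :
    ∃ h : Fin n → MvPowerSeries (Fin n) A,
      (∀ (i : Fin n) (e : Fin n →₀ ℕ), e.degree < m → MvPowerSeries.coeff e (h i) = 0) ∧
      MvPowerSeries.HasSubst (fun i => MvPowerSeries.X i + h i) ∧
      MvPowerSeries.subst (fun i => MvPowerSeries.X i + h i) F = ((VanCyc.quadPoly q + MvPolynomial.C a : MvPolynomial (Fin n) A) : MvPowerSeries (Fin n) A) ∧
      Nonempty ((MvPowerSeries (Fin n) A ⧸ Ideal.span {F}) ≃ₐ[A]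
        (MvPowerSeries (Fin n) A ⧸ Ideal.span {((VanCyc.quadPoly q + MvPolynomial.C a : MvPolynomial (Fin n) A) : MvPowerSeries (Fin n) A)})) := by
  classical
  obtain ⟨m', rfl⟩ : ∃ m', m = m' + 1 + 1 := ⟨m - 2, by omega⟩
  set Xv : Fin n → MvPowerSeries (Fin n) A := fun i => MvPowerSeries.X i with hXv
  set P : MvPowerSeries (Fin n) A :=
    ((VanCyc.quadPoly q + MvPolynomial.C a : MvPolynomial (Fin n) A) : MvPowerSeries (Fin n) A)
    with hP
  set c : Fin n → Fin n → A := fun i j => if i ≤ j then q i j else 0 with hc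
  set cst : MvPowerSeries (Fin n) A := algebraMap A (MvPowerSeries (Fin n) A) a with hcst
  have haeval : ∀ y : Fin n → MvPowerSeries (Fin n) A,
      MvPolynomial.aeval y (VanCyc.quadPoly q + MvPolynomial.C a) = Qf c y + cst := by
    intro y
    rw [map_add, MvPolynomial.aeval_C]
    congr 1
    simp only [VanCyc.quadPoly, map_sum, Qf, hc]
    refine Finset.sum_congr rfl fun i _ => Finset.sum_congr rfl fun j _ => ?_
    split_ifs with hij
    · rw [map_mul, map_mul, MvPolynomial.aeval_C, MvPolynomial.aeval_X, MvPolynomial.aeval_X,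
        Algebra.smul_def, mul_assoc]
    · rw [map_zero, zero_smul]
  have hPX : P = Qf c Xv + cst := by
    rw [← haeval, ← MvPowerSeries.subst_coe]
    exact (congrFun MvPowerSeries.subst_self _).symm
  -- the polar matrix
  set M : Matrix (Fin n) (Fin n) A := VanCyc.polarMatrix q with hM
  have hMdet : IsUnit M.transpose.det := by rw [Matrix.det_transpose]; exact hq
  set Ai : Matrix (Fin n) (Fin n) A := (M.transpose)⁻¹ with hAi
  have hAM : Ai * M.transpose = 1 := Matrix.nonsing_inv_mul _ hMdet
  have hcM : ∀ x i : Fin n, c x i + c i x = M x i := by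
    intro x i
    simp only [hc, hM, VanCyc.polarMatrix]
    rcases lt_trichotomy x i with h | h | h
    · rw [if_pos h.le, if_neg (not_le.2 h), add_zero, if_neg h.ne, if_pos h]
    · subst h
      rw [if_pos le_rfl, if_pos rfl]
      ring
    · rw [if_neg (not_le.2 h), if_pos h.le, zero_add, if_neg h.ne', if_neg (not_lt.2 h.le)]
  have hAX : ∀ j, ∑ i, Ai j i • Lf c i Xv = MvPowerSeries.X j := by
    intro j
    have h1 : ∀ x : Fin n, ∑ i, Ai j i * M x i = if j = x then 1 else 0 := by
      intro x
      have := congrFun (congrFun hAM j) x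
      rw [Matrix.mul_apply, Matrix.one_apply] at this
      simpa only [Matrix.transpose_apply] using this
    calc ∑ i, Ai j i • Lf c i Xv = ∑ i, ∑ x, (Ai j i * M x i) • Xv x := by
          refine Finset.sum_congr rfl fun i _ => ?_
          rw [Lf, Finset.smul_sum]
          refine Finset.sum_congr rfl fun x _ => ?_
          rw [smul_smul, hcM]
      _ = ∑ x, (∑ i, Ai j i * M x i) • Xv x := by
          rw [Finset.sum_comm]
          refine Finset.sum_congr rfl fun x _ => ?_
          rw [Finset.sum_smul]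
      _ = MvPowerSeries.X j := by
          simp only [h1, ite_smul, one_smul, zero_smul]
          rw [Finset.sum_ite_eq Finset.univ j, if_pos (Finset.mem_univ _)]
  -- the contraction
  have hg : Lo (m' + 1 + 1 + 1) (F - P) := by
    intro e he
    rw [map_sub, hF e (by omega), sub_self]
  set g : MvPowerSeries (Fin n) A := F - P with hgdef
  set T : (Fin n → MvPowerSeries (Fin n) A) → (Fin n → MvPowerSeries (Fin n) A) :=
    fun ε i => ∑ j, Ai j i • Dv j (g - Qf c ε) with hT
  have hTb : ∀ ε, LoV (m' + 1 + 1) ε → LoV (m' + 1 + 1) (T ε) := by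
    intro ε hε i
    apply Lo.sum
    intro j _
    apply Lo.smul
    apply Lo_Dv
    exact hg.sub ((Lo_Qf c hε).mono (by omega))
  have hTc : ∀ ε ε' d, LoV (m' + 1 + 1) ε → LoV (m' + 1 + 1) ε' →
      LoV (d + (m' + 1 + 1)) (ε - ε') → LoV (d + (m' + 1 + 1) + 1) (T ε - T ε') := by
    intro ε ε' d hε hε' hδ i
    have hTs : T ε i - T ε' i = ∑ j, Ai j i • Dv j (Qf c ε' - Qf c ε) := by
      rw [hT]
      beta_reduce
      rw [← Finset.sum_sub_distrib]
      refine Finset.sum_congr rfl fun j _ => ?_
      rw [← smul_sub, ← Dv_sub]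
      congr 2
      abel
    rw [Pi.sub_apply, hTs]
    apply Lo.sum
    intro j _
    apply Lo.smul
    apply Lo_Dv
    have hεeq : Qf c ε = Qf c (ε' + (ε - ε')) := by
      congr 1
      abel
    rw [hεeq, Qf_add]
    have hneg : Qf c ε' - (Qf c ε' + ∑ i, Lf c i ε' * (ε - ε') i + Qf c (ε - ε'))
        = -(∑ i, Lf c i ε' * (ε - ε') i + Qf c (ε - ε')) := by abel
    rw [hneg]
    apply Lo.neg
    apply Lo.add
    · apply Lo.sum
      intro i' _
      exact ((Lo_Lf c hε' i').mul (hδ i')).mono (by omega)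
    · exact (Lo_Qf c hδ).mono (by omega)
  obtain ⟨ε, hεm, hfix⟩ := fixpt (m' + 1 + 1) T hTb hTc
  have hFε : F = Qf c (Xv + ε) + cst := by
    rw [Qf_add]
    have hlin : ∑ i, Lf c i Xv * ε i = g - Qf c ε := by
      have hLo3 : Lo (m' + 1 + 1 + 1) (g - Qf c ε) := hg.sub ((Lo_Qf c hεm).mono (by omega))
      have h0 : MvPowerSeries.constantCoeff (g - Qf c ε) = 0 := hLo3.const
      calc ∑ i, Lf c i Xv * ε i
          = ∑ i, Lf c i Xv * ∑ j, Ai j i • Dv j (g - Qf c ε) := by
            refine Finset.sum_congr rfl fun i _ => ?_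
            exact congrArg (Lf c i Xv * ·) (congrFun hfix i).symm
        _ = ∑ j, (∑ i, Ai j i • Lf c i Xv) * Dv j (g - Qf c ε) := by
            simp only [Finset.mul_sum, Finset.sum_mul]
            rw [Finset.sum_comm]
            refine Finset.sum_congr rfl fun j _ => Finset.sum_congr rfl fun i _ => ?_
            rw [mul_smul_comm, smul_mul_assoc]
        _ = ∑ j, MvPowerSeries.X j * Dv j (g - Qf c ε) := by simp only [hAX]
        _ = g - Qf c ε := sum_X_mul_Dv _ h0
    rw [hlin, hgdef, hPX]
    ring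
  -- the coordinate change `x + ε` is invertible
  set av : Fin n → MvPowerSeries (Fin n) A := fun i => MvPowerSeries.X i + ε i with hav
  have hε0 : ∀ i, MvPowerSeries.constantCoeff (ε i) = 0 := fun i => (hεm i).const
  have hav0 : ∀ i, MvPowerSeries.constantCoeff (av i) = 0 := fun i => by simp [hav, hε0 i]
  have hsubA : MvPowerSeries.HasSubst av := MvPowerSeries.hasSubst_of_constantCoeff_zero hav0
  have hav1 : ∀ s, Lo 1 (av s) := fun s => Lo_one_of_const (hav0 s)
  have havx : ∀ s, Lo (m' + 1 + 1) (av s - MvPowerSeries.X s) := by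
    intro s
    have : av s - MvPowerSeries.X s = ε s := by simp [hav]
    rw [this]
    exact hεm s
  have hinj := subst_injective hsubA hav1 havx
  have hsurj := subst_surjective hsubA hav1 havx
  have hFP : MvPowerSeries.subst av P = F := by
    rw [hP, MvPowerSeries.subst_coe, haeval, hFε]
    rfl
  let φ : MvPowerSeries (Fin n) A →ₐ[A] MvPowerSeries (Fin n) A :=
    MvPowerSeries.substAlgHom hsubA
  have hφ : ∀ G, φ G = MvPowerSeries.subst av G :=
    fun G => MvPowerSeries.substAlgHom_apply hsubA G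
  have hφbij : Function.Bijective φ := by
    constructor
    · intro G G' h
      rw [hφ, hφ] at h
      exact hinj h
    · intro H
      obtain ⟨G, hG⟩ := hsurj H
      exact ⟨G, by rw [hφ, hG]⟩
  let Φ : MvPowerSeries (Fin n) A ≃ₐ[A] MvPowerSeries (Fin n) A := AlgEquiv.ofBijective φ hφbij
  have hΦ : ∀ G, Φ G = MvPowerSeries.subst av G := fun G => hφ G
  set Y : Fin n → MvPowerSeries (Fin n) A := fun i => Φ.symm (MvPowerSeries.X i) with hY
  have hYs : ∀ i, MvPowerSeries.subst av (Y i) = MvPowerSeries.X i := fun i => by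
    rw [← hΦ, hY]
    exact Φ.apply_symm_apply _
  set h : Fin n → MvPowerSeries (Fin n) A := fun i => Y i - MvPowerSeries.X i with hh
  have hY1 : ∀ i, Lo 1 (Y i) := by
    intro i
    apply Lo_one_of_const
    have hE : Lo (0 + (m' + 1)) (MvPowerSeries.subst av (Y i) - Y i) :=
      Lo_subst_sub hsubA hav1 havx (Lo_any_zero _)
    have hc0 : MvPowerSeries.constantCoeff (MvPowerSeries.subst av (Y i) - Y i) = 0 :=
      (hE.mono (by omega) : Lo (0 + 1) _).const
    rw [hYs, map_sub, MvPowerSeries.constantCoeff_X, zero_sub, neg_eq_zero] at hc0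
    exact hc0
  have hhm : ∀ i, Lo (m' + 1 + 1) (h i) := by
    intro i
    have hE : Lo (1 + (m' + 1)) (MvPowerSeries.subst av (Y i) - Y i) :=
      Lo_subst_sub hsubA hav1 havx (hY1 i)
    have e : h i = -(MvPowerSeries.subst av (Y i) - Y i) := by
      rw [hYs, hh]
      ring
    rw [e]
    exact (hE.mono (by omega)).neg
  have hXh : ∀ i, MvPowerSeries.X i + h i = Y i := fun i => by rw [hh]; ring
  have hh0 : ∀ i, MvPowerSeries.constantCoeff (MvPowerSeries.X i + h i) = 0 := fun i => by
    rw [hXh]
    exact (hY1 i).const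
  have hsubH : MvPowerSeries.HasSubst (fun i => MvPowerSeries.X i + h i) :=
    MvPowerSeries.hasSubst_of_constantCoeff_zero hh0
  have hcomp : ∀ G, MvPowerSeries.subst av
      (MvPowerSeries.subst (fun i => MvPowerSeries.X i + h i) G) = G := by
    intro G
    rw [MvPowerSeries.subst_comp_subst_apply hsubH hsubA]
    have e : (fun s => MvPowerSeries.subst av (MvPowerSeries.X s + h s))
        = fun s => (MvPowerSeries.X s : MvPowerSeries (Fin n) A) := by
      funext s
      rw [hXh, hYs]
    rw [e]
    exact congrFun MvPowerSeries.subst_self G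
  refine ⟨h, fun i e he => hhm i e he, hsubH, ?_, ?_⟩
  · apply hinj
    rw [hcomp, hFP]
  · have hΦF : Φ.symm F = P := by
      rw [← hFP, ← hΦ]
      exact Φ.symm_apply_apply _
    refine ⟨Ideal.quotientEquivAlg _ _ Φ.symm ?_⟩
    rw [Ideal.map_span, Set.image_singleton]
    show Ideal.span {P} = Ideal.span {Φ.symm F}
    rw [hΦF]

end Groth.Agent.S16230
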