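import Groth.Statements.S16233
import Mathlib
import Groth.Agent.S4238
import Groth.Agent.S4240

set_option autoImplicit false
open NCTr

namespace Groth.Agent.S16233
set_option backward.isDefEq.respectTransparency.types false

open MonoidAlgebra


/-- Let Λ be a ring, not necessarily commutative, G a finite group, P a left Λ[G]-module with a finite
Λ[G]-basis b, regarded also as a Λ-module by restriction of scalars and equipped with any finite
Λ-basis c, and u a Λ[G]-linear endomorphism of P with diagonal matrix entries u_ii = (b.repr (u (b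
i))) i in Λ[G]. Then the trace of u as a Λ-linear endomorphism, taken in Λ modulo additive
commutators with respect to c, equals |G| times the class of the sum over i of the coefficients of
the identity element of G in the u_ii (that sum of coefficients is the value at the identity class
of the Λ[G]-trace of u, the G-trace of u). The source states this for P finitely generated
projective over Λ[G]; this row is the free case. -/
theorem result
    (Λ : Type*) [Ring Λ] (G : Type*) [Group G] [Fintype G]
    (P : Type*) [AddCommGroup P] [Module Λ P] [Module (MonoidAlgebra Λ G) P]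
    [IsScalarTower Λ (MonoidAlgebra Λ G) P]
    {ι κ : Type*} [Fintype ι] [Fintype κ]
    (b : Module.Basis ι (MonoidAlgebra Λ G) P) (c : Module.Basis κ Λ P)
    (u : P →ₗ[MonoidAlgebra Λ G] P) :
    NCTr.hsTrace c (u.restrictScalars Λ) =
      Fintype.card G • ∑ i, (QuotientAddGroup.mk ((b.repr (u (b i)) i).coeff 1) : NCTr.Abel Λ) := by
  classical
  let τ : Λ →+ NCTr.Abel Λ := QuotientAddGroup.mk' (NCTr.commutatorSubgroup Λ)
  have hτ : ∀ x y, τ (x * y) = τ (y * x) := fun x y => Groth.Agent.S4240.mk_mul_comm x y
  let e : G × ι → P := fun a => MonoidAlgebra.of Λ G a.1 • b a.2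
  let φ : G × ι → P →ₗ[Λ] Λ := fun a =>
    { toFun := fun x => (b.repr x a.2).coeff a.1
      map_add' := fun x y => by
        rw [map_add, Finsupp.add_apply, coeff_add, Finsupp.add_apply]
      map_smul' := fun l x => by
        simp only [RingHom.id_apply]
        have h0 : l • x = (l • (1 : MonoidAlgebra Λ G)) • x := (smul_one_smul _ l x).symm
        rw [h0, map_smul, Finsupp.smul_apply, smul_eq_mul, smul_mul_assoc, one_mul, coeff_smul,
          Finsupp.smul_apply] }
  have hφ : ∀ x, x = ∑ a, φ a x • e a := by
    intro x
    rw [Fintype.sum_prod_type, Finset.sum_comm]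
    conv_lhs => rw [← b.sum_repr x]
    refine Finset.sum_congr rfl fun i _ => ?_
    have h1 : b.repr x i = ∑ g : G, MonoidAlgebra.single g ((b.repr x i).coeff g) := by
      conv_lhs => rw [← MonoidAlgebra.sum_coeff_single (b.repr x i)]
      rw [Finsupp.sum_fintype _ _ (by simp)]
    conv_lhs => rw [h1]
    rw [Finset.sum_smul]
    refine Finset.sum_congr rfl fun g _ => ?_
    show _ = (b.repr x i).coeff g • (MonoidAlgebra.of Λ G g • b i)
    rw [← smul_assoc]
    congr 1
    simp [of_apply]
  have key := Groth.Agent.S4238.trace_dual_family c e φ hφ τ hτ (u.restrictScalars Λ)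
  have hterm : ∀ (g : G) (i : ι), τ (φ (g, i) ((u.restrictScalars Λ) (e (g, i)))) =
      (QuotientAddGroup.mk ((b.repr (u (b i)) i).coeff 1) : NCTr.Abel Λ) := by
    intro g i
    show (QuotientAddGroup.mk ((b.repr (u (MonoidAlgebra.of Λ G g • b i)) i).coeff g) : NCTr.Abel Λ) = _
    rw [map_smul, map_smul, Finsupp.smul_apply, smul_eq_mul, of_apply, coeff_single_mul_apply,
      one_mul, inv_mul_cancel]
  unfold NCTr.hsTrace
  rw [show (∑ i, (QuotientAddGroup.mk (c.repr ((u.restrictScalars Λ) (c i)) i) : NCTr.Abel Λ)) =
    ∑ a, τ (φ a ((u.restrictScalars Λ) (e a))) from key]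
  rw [Fintype.sum_prod_type]
  simp_rw [hterm]
  rw [Finset.sum_const, Finset.card_univ]

end Groth.Agent.S16233
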