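import Groth.Statements.S16234
import Mathlib.RingTheory.HopkinsLevitzki
import Mathlib.RingTheory.KrullDimension.Basic
import Mathlib.Algebra.Module.Torsion.Basic
import Mathlib.RingTheory.Ideal.Quotient.Operations
import Mathlib.RingTheory.Artinian.Ring
import Mathlib.RingTheory.Ideal.Quotient.Noetherian

set_option autoImplicit false
universe u v
open CAlg

namespace Groth.Agent.S16234

/-- For a finitely generated module M over a Noetherian commutative ring A, every prime ideal in the
support of M is a maximal ideal if and only if M has finite length. -/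
theorem result (A : Type u) [CommRing A] [IsNoetherianRing A]
    (M : Type v) [AddCommGroup M] [Module A M] [Module.Finite A M] :
    (∀ p ∈ Module.support A M, p.asIdeal.IsMaximal) ↔ IsFiniteLength A M := by
  classical
  set J := Module.annihilator A M with hJ
  have hsupp : Module.support A M = PrimeSpectrum.zeroLocus (J : Set A) :=
    Module.support_eq_zeroLocus
  have hmksurj : Function.Surjective (Ideal.Quotient.mk J) := Ideal.Quotient.mk_surjective
  constructor
  · intro h
    -- `A ⧸ J` has dimension zero
    have hdim : Ring.KrullDimLE 0 (A ⧸ J) := by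
      rw [Ring.krullDimLE_zero_iff]
      intro P hP
      have hcomap : (P.comap (Ideal.Quotient.mk J)).IsPrime := Ideal.comap_isPrime _ P
      have hmem : (⟨P.comap (Ideal.Quotient.mk J), hcomap⟩ : PrimeSpectrum A) ∈
          Module.support A M := by
        rw [hsupp, PrimeSpectrum.mem_zeroLocus]
        intro a ha
        show Ideal.Quotient.mk J a ∈ P
        rw [Ideal.Quotient.eq_zero_iff_mem.mpr ha]
        exact P.zero_mem
      have hmax : (P.comap (Ideal.Quotient.mk J)).IsMaximal := h _ hmem
      have := Ideal.map_eq_top_or_isMaximal_of_surjective (Ideal.Quotient.mk J) hmksurj hmax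
      rw [Ideal.map_comap_of_surjective _ hmksurj] at this
      exact this.resolve_left hP.ne_top
    have hart : IsArtinianRing (A ⧸ J) := IsNoetherianRing.isArtinianRing_of_krullDimLE_zero
    let _ : Module (A ⧸ J) M := Module.quotientAnnihilator
    have htower : IsScalarTower A (A ⧸ J) M := ⟨by
      intro a b m
      obtain ⟨b, rfl⟩ := hmksurj b
      show (a • Ideal.Quotient.mk J b) • m = a • (Ideal.Quotient.mk J b • m)
      rw [Algebra.smul_def, Ideal.Quotient.algebraMap_eq, ← map_mul]
      show (a * b) • m = a • (b • m)
      rw [mul_smul]⟩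
    have hfin : Module.Finite (A ⧸ J) M := Module.Finite.of_restrictScalars_finite A (A ⧸ J) M
    have hartM : IsArtinian (A ⧸ J) M := inferInstance
    have hartM' : IsArtinian A M := isArtinian_of_surjective_algebraMap (R := A ⧸ J) (S := A)
      (by rw [Ideal.Quotient.algebraMap_eq]; exact hmksurj)
    rw [isFiniteLength_iff_isNoetherian_isArtinian]
    exact ⟨inferInstance, hartM'⟩
  · intro h p hp
    rw [isFiniteLength_iff_isNoetherian_isArtinian] at h
    obtain ⟨-, hartM⟩ := h
    obtain ⟨s, hs⟩ := (Module.Finite.fg_top : (⊤ : Submodule A M).FG)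
    let f : A →ₗ[A] (s → M) := LinearMap.pi (fun i => LinearMap.toSpanSingleton A M (i : M))
    have hker : LinearMap.ker f = J := by
      ext a
      rw [LinearMap.mem_ker, hJ, ← Submodule.annihilator_top, ← hs,
        Submodule.mem_annihilator_span]
      constructor
      · intro h0 n
        have := congrFun h0 n
        simpa [f] using this
      · intro h0
        funext n
        simpa [f] using h0 n
    have hartQ : IsArtinian A (A ⧸ J) := by
      have hle : J ≤ LinearMap.ker f := hker.ge
      refine isArtinian_of_injective (Submodule.liftQ J f hle) ?_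
      rw [← LinearMap.ker_eq_bot, Submodule.ker_liftQ, hker, Submodule.mkQ_map_self]
    have hart : IsArtinianRing (A ⧸ J) := isArtinian_of_tower A hartQ
    have hJp : J ≤ p.asIdeal := by
      rw [hsupp, PrimeSpectrum.mem_zeroLocus] at hp
      exact hp
    have hP : (p.asIdeal.map (Ideal.Quotient.mk J)).IsPrime :=
      Ideal.map_isPrime_of_surjective hmksurj (by rwa [Ideal.mk_ker])
    have hPmax : (p.asIdeal.map (Ideal.Quotient.mk J)).IsMaximal :=
      IsArtinianRing.isMaximal_of_isPrime _
    have := Ideal.comap_isMaximal_of_surjective (Ideal.Quotient.mk J) hmksurj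
      (K := p.asIdeal.map (Ideal.Quotient.mk J))
    rwa [Ideal.comap_map_mk hJp] at this

end Groth.Agent.S16234
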