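import Groth.Statements.S16235
import Groth.Agent.Lib.H8CM8

set_option autoImplicit false
universe u
open CAlg

namespace Groth.Agent.S16235

/-- Let A be a Noetherian commutative ring and x_1, …, x_r a regular sequence on A (each x_i a
non-zero-divisor on A/(x_1, …, x_{i-1})) generating an ideal I ≠ A. Then the height of I, the
infimum of the heights of the minimal primes over I, equals r. -/
theorem result (A : Type u) [CommRing A] [IsNoetherianRing A]
    (r : ℕ) (x : Fin r → A) (hx : RingTheory.Sequence.IsWeaklyRegular A (List.ofFn x))
    (hI : Ideal.span (Set.range x) ≠ ⊤) :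
    (Ideal.span (Set.range x)).height = r := by
  apply le_antisymm
  · obtain ⟨p, hp⟩ := Ideal.nonempty_minimalPrimes hI
    have h1 : (Ideal.span (Set.range x)).height ≤ p.height := by
      rw [Ideal.height_eq_inf_minimalPrimes]
      exact iInf₂_le p hp
    have h2 := Ideal.height_le_card_of_mem_minimalPrimes_span (Set.finite_range x) hp
    have h3 : (Set.range x).ncard ≤ r := by
      have := Set.ncard_image_le (f := x) (Set.finite_univ (α := Fin r))
      simpa [Set.image_univ, Set.ncard_univ] using this
    exact h1.trans (h2.trans (by exact_mod_cast h3))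
  · refine le_trans ?_ (Groth.Agent.Lib.H8CM.idealDepth_le_height hI)
    rw [Groth.Agent.Lib.DepthRees.natCast_le_idealDepth_iff _ A
      (Groth.Agent.Lib.H8CM.smul_top_self_ne_top hI)]
    refine ⟨List.ofFn x, by simp, ?_, hx⟩
    intro y hy
    rw [List.mem_ofFn] at hy
    exact Ideal.subset_span hy

end Groth.Agent.S16235
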