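import Groth.Statements.S1624
import Groth.Agent.Lib.BlowUpH1Van84
import Groth.Agent.Lib.RegBlowUp84
import Groth.Agent.Lib.BlowUpUniv5
import Groth.Agent.Lib.CohLESExact
import Groth.Agent.Lib.H90OXModExact
import Groth.Agent.Lib.QCohBiprod
import Groth.Agent.Lib.CohSigmaNeg
import Groth.Agent.S1623

set_option autoImplicit false
universe u
open CategoryTheory CategoryTheory.Limits AlgebraicGeometry
open Resolve

namespace Groth.Agent.S1624

set_option maxHeartbeats 800000
set_option linter.style.haveILetI false

/-- Let A be a regular local ring of dimension two and b : X → Spec A the blowing up in the maximal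
ideal. If F is a quasi-coherent O_X-module which is globally generated, then H¹(X, F) = 0. -/
theorem result (A : Type u) [CommRing A] [IsRegularLocalRing A] (hA : ringKrullDim A = 2)
    (X : Scheme.{u}) (b : X ⟶ Spec (CommRingCat.of A)) (hb : BlowUp.IsBlowUp b (Curv2.idealSheaf A (IsLocalRing.maximalIdeal A)))
    (F : X.Modules) (hF : Coh.IsQCoh F) (hgg : Curv2.IsGloballyGenerated F) : Subsingleton (Coh.HH X F 1) := by
  classical
  have hfg : (IsLocalRing.maximalIdeal A).FG := IsNoetherian.noetherian _
  obtain ⟨s, hscard, hsspan⟩ := Submodule.FG.exists_span_finset_card_eq_spanFinrank hfg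
  have hrank : (IsLocalRing.maximalIdeal A).spanFinrank = 2 := by
    have h1 := IsRegularLocalRing.spanFinrank_maximalIdeal (R := A)
    rw [hA] at h1
    exact_mod_cast h1
  rw [hrank] at hscard
  obtain ⟨x, y, -, rfl⟩ := Finset.card_eq_two.1 hscard
  have hm : IsLocalRing.maximalIdeal A = Ideal.span {x, y} := by
    rw [← hsspan]
    simp
  haveI : IsDomain A := Groth.Agent.Lib.RegularLocal.isDomain A
  have hx0 : x ≠ 0 := Groth.Agent.Lib.RegBlowUp84.x_ne_zero hA x y hm
  haveI : IrreducibleSpace X := by
    apply Groth.Agent.Lib.BlowUpUniv.irreducibleSpace_of_isBlowUp hb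
    have hxm : x ∈ IsLocalRing.maximalIdeal A := hm ▸ Ideal.subset_span (by simp)
    have hpt : ((⟨⊥, Ideal.isPrime_bot⟩ : PrimeSpectrum A) : ↥(Spec (CommRingCat.of A))) ∈
        (↑(Curv2.idealSheaf A (IsLocalRing.maximalIdeal A)).support :
          Set ↥(Spec (CommRingCat.of A)))ᶜ := by
      unfold Curv2.idealSheaf
      rw [Scheme.IdealSheafData.coe_support_ofIdealTop, Spec_zeroLocus]
      intro hmem
      have hmem' := (PrimeSpectrum.mem_zeroLocus (⟨⊥, Ideal.isPrime_bot⟩ : PrimeSpectrum A) _).mp hmem
      have h1 : x ∈ ((⊥ : Ideal A) : Set A) :=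
        hmem' (show x ∈ (Scheme.ΓSpecIso (CommRingCat.of A)).inv ⁻¹' _ from
          Ideal.mem_map_of_mem _ hxm)
      exact hx0 (by simpa using h1)
    exact ⟨_, hpt⟩
  haveI : IsReduced X := Groth.Agent.Lib.BlowUpUniv.isReduced_of_isBlowUp hb
  haveI : IsIntegral X := isIntegral_of_irreducibleSpace_of_isReduced X
  haveI hprop : IsProper b := Groth.Agent.Lib.BlowUpProper68.isProper_affine hb hfg
  haveI : CompactSpace X := QuasiCompact.compactSpace_of_compactSpace b
  haveI : QuasiSeparatedSpace X := quasiSeparatedSpace_of_quasiSeparated b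
  have hO : Subsingleton (Coh.HH X (Coh.structureModule X) 1) :=
    Groth.Agent.Lib.BlowUpH1Van84.subsingleton_HH_one_structureModule hb x y hm
  obtain ⟨ι, p, hp⟩ := hgg
  have hfree : Subsingleton (Coh.HH X (SheafOfModules.free ι : X.Modules) 1) :=
    Groth.Agent.Lib.CohSigmaNeg.subsingleton_HH_sigma_family
      (fun _ : ι => Coh.structureModule X) 1 (fun _ => hO)
  haveI : (SheafOfModules.free ι : X.Modules).IsQuasicoherent :=
    Groth.Agent.Lib.QCohBiprod.isQuasicoherent_sigmaObj (fun _ : ι => Coh.structureModule X)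
      (fun _ => Groth.Agent.Lib.StructureModule.isQuasicoherent_structureModule X)
  haveI : F.IsQuasicoherent := hF
  haveI hker : (kernel p).IsQuasicoherent := Groth.Agent.Lib.H90OXModExact.isQuasicoherent_kernel p
  let S : ShortComplex X.Modules := ShortComplex.mk (kernel.ι p) p (kernel.condition p)
  have hS : S.ShortExact :=
    { exact := ShortComplex.exact_kernel p
      mono_f := equalizer.ι_mono
      epi_g := hp }
  haveI h2 : Subsingleton (Coh.HH X S.X₂ 1) := hfree
  haveI h1 : Subsingleton (Coh.HH X S.X₁ (1 + 1)) :=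
    Groth.Agent.S1623.result A hA X b hb (kernel p) hker 2 le_rfl
  exact Groth.Agent.Lib.CohLES.subsingleton_right hS 1

end Groth.Agent.S1624
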