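import Groth.Statements.S16240
import Groth.Agent.Lib.H87Syz
import Groth.Agent.Lib.H87GlDim2
import Groth.Agent.Lib.ModStalkLin
import Groth.Agent.Lib.H90OXModExact
import Groth.Agent.Lib.H90InvertibleFP
import Groth.Agent.Lib.H90CohRestrict
import Groth.Agent.Lib.LocFreeFP
import Groth.Agent.Lib.CohFinite
import Groth.Agent.Lib.H90OXModFP
import Groth.Agent.Lib.RegularDimOne

set_option autoImplicit false
universe u
open CategoryTheory CategoryTheory.Limits AlgebraicGeometry
open Coh

namespace Groth.Agent.S16240

open Groth.Agent.Lib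

variable {X : Scheme.{u}}

/-- Coherent, with all stalks of projective dimension `< k`. -/
def PD (k : ℕ) (M : X.Modules) : Prop :=
  Coh.IsCoh M ∧ ∀ x : X, HasProjectiveDimensionLT
    (ModuleCat.of (X.presheaf.stalk x) (M.presheaf.stalk x)) k

theorem PD.of_iso {k : ℕ} {M N : X.Modules} (e : M ≅ N) (h : PD k M) : PD k N := by
  refine ⟨H90CohRestrict.isCoh_of_iso e h.1, fun x => ?_⟩
  have := h.2 x
  exact hasProjectiveDimensionLT_of_iso (ModStalkLin.stalkLinEquiv e x).toModuleIso k

/-- On a locally Noetherian scheme, coherent modules are finitely presented. -/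
theorem isFP_of_isCoh [IsLocallyNoetherian X] (F : X.Modules)
    (hF : Coh.IsCoh F) : CohB1.IsFP F := by
  rw [H90OXModFP.isFP_iff_forall_affine]
  refine ⟨hF.1, fun U => ?_⟩
  have hN : IsNoetherianRing Γ(X, U.1) := IsLocallyNoetherian.component_noetherian U
  have hfin : Module.Finite Γ(X, U.1) Γ(F, U.1) := CohFinite.finite_sections_of_isCoh F hF U.2
  exact Module.finitePresentation_of_finite _ _

theorem pd_step [IsLocallyNoetherian X] (T : ShortComplex X.Modules) (hT : T.ShortExact)
    (hE : FlatMod.IsFinLocFree T.X₂) (k : ℕ) (h : PD (k + 2) T.X₃) : PD (k + 1) T.X₁ := by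
  obtain ⟨hcoh3, hpd3⟩ := h
  have hcoh2 : Coh.IsCoh T.X₂ := H90Invertible.isCoh_of_isFinLocFree hE
  refine ⟨?_, fun x => ?_⟩
  · have : Mono T.f := hT.mono_f
    let e : T.X₁ ≅ kernel T.g :=
      IsLimit.conePointUniqueUpToIso hT.exact.fIsKernel (limit.isLimit (parallelPair T.g 0))
    have : T.X₃.IsQuasicoherent := hcoh3.1
    exact H90CohRestrict.isCoh_of_iso e.symm (H90OXModExact.isCoh_kernel T.g hcoh2)
  · obtain ⟨hinj, hex, hsurj⟩ := ModStalkLin.stalkLin_exact hT x
    let S' : ShortComplex (ModuleCat.{u} (X.presheaf.stalk x)) :=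
      ShortComplex.moduleCatMk (ModStalkLin.stalkLin T.f x) (ModStalkLin.stalkLin T.g x)
        (by ext m; exact hex.apply_apply_eq_zero m)
    have hS' : S'.ShortExact := ModuleCat.shortComplex_shortExact S' hex hinj hsurj
    have hfree := LocFreeFP.free_stalk_of_isFinLocFree hE x
    have hproj : Projective S'.X₂ := by
      have : Module.Projective (X.presheaf.stalk x) (T.X₂.presheaf.stalk x) := inferInstance
      exact (IsProjective.iff_projective _).mp this
    exact (hS'.hasProjectiveDimensionLT_X₃_iff k hproj).mp (hpd3 x)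

/-- Let X be a Noetherian scheme all of whose local rings are regular, of (topological Krull) dimension
at most m, and let S be an exact sequence of O_X-modules G ⟶ E_m ⟶ ⋯ ⟶ E_1 ⟶ F with m + 2 terms (G
in position 0, F in position m + 1), injective at the first map and surjective at the last, in which
F is coherent and E_1, …, E_m are finite locally free. Then G is finite locally free. (The source
asks for p + 1 vector bundles with p ≥ dim X − 1, i.e. at least dim X of them, and finite dimension;
here m bounds the dimension.) -/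
theorem result (X : Scheme.{u}) [IsNoetherian X]
    (hreg : ∀ x : X, IsRegularLocalRing (X.presheaf.stalk x)) (m : ℕ)
    (hdim : topologicalKrullDim ↥X ≤ (m : WithBot ℕ∞))
    (S : ComposableArrows X.Modules (m + 1)) (hS : S.Exact)
    (hmono : Mono (S.map' 0 1 (Nat.zero_le 1) (Nat.le_add_left 1 m)))
    (hepi : Epi (S.map' m (m + 1) (Nat.le_succ m) (le_refl (m + 1))))
    (hE : ∀ i : Fin m, FlatMod.IsFinLocFree (S.obj ⟨i.1 + 1, Nat.succ_lt_succ (Nat.lt_succ_of_lt i.2)⟩))
    (hF : Coh.IsCoh (S.obj (Fin.last (m + 1)))) :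
    FlatMod.IsFinLocFree (S.obj 0) := by
  have hlN : IsLocallyNoetherian X := inferInstance
  have hgl : ∀ (M : X.Modules), Coh.IsCoh M → PD (m + 1) M := by
    intro M hM
    refine ⟨hM, fun x => ?_⟩
    have hregx := hreg x
    have hd : ringKrullDim (X.presheaf.stalk x) =
        ((IsLocalRing.maximalIdeal (X.presheaf.stalk x)).spanFinrank : ℕ) :=
      IsRegularLocalRing.spanFinrank_maximalIdeal.symm
    have hdm : (IsLocalRing.maximalIdeal (X.presheaf.stalk x)).spanFinrank ≤ m := by
      have := (RegularDimOne.dim_stalk_le X x).trans hdim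
      rw [hd] at this
      exact_mod_cast this
    have h1 := H87GlDim2.hasProjectiveDimensionLT_of_isRegularLocalRing
      (A := X.presheaf.stalk x) _ hd (ModuleCat.of _ (M.presheaf.stalk x))
    exact hasProjectiveDimensionLT_of_ge _
      ((IsLocalRing.maximalIdeal (X.presheaf.stalk x)).spanFinrank + 1) (m + 1) (by omega)
  have hfinal : ∀ M : X.Modules, PD 1 M → FlatMod.IsFinLocFree M := by
    rintro M ⟨hM, hpd⟩
    apply LocFreeFP.isFinLocFree_of_isFP_of_free M (isFP_of_isCoh M hM)
    intro x
    have hregx := hreg x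
    have hfin := CohFinite.finite_stalk_of_isCoh M hM x
    have h1 : Projective (ModuleCat.of (X.presheaf.stalk x) (M.presheaf.stalk x)) :=
      projective_iff_hasProjectiveDimensionLT_one.mpr (hpd x)
    have h2 : Module.Projective (X.presheaf.stalk x) (M.presheaf.stalk x) :=
      (IsProjective.iff_projective _).mpr h1
    exact Module.free_of_flat_of_isLocalRing
  apply hfinal
  cases m with
  | zero =>
    have hiso : IsIso (S.map' 0 1 (Nat.zero_le 1) (Nat.le_add_left 1 0)) := by
      have h1 := hmono
      have h2 : Epi (S.map' 0 1 (Nat.zero_le 1) (Nat.le_add_left 1 0)) := hepi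
      exact isIso_of_mono_of_epi _
    let e := asIso (S.map' 0 1 (Nat.zero_le 1) (Nat.le_add_left 1 0))
    exact PD.of_iso e.symm (hgl _ hF)
  | succ m =>
    have hT := hS.δ₀
    have h1 := H87Syz.kernel_prop (C := X.Modules) FlatMod.IsFinLocFree PD
      (fun T hT hE k h => pd_step T hT hE k h) m S.δ₀ hT hepi
      (fun i hi => hE ⟨i, by omega⟩) 0 (by
        have h0 := hgl _ hF
        rw [show 0 + 1 + (m + 1) = m + 1 + 1 by omega]
        exact h0)
    have hex : (S.sc hS.toIsComplex 0).Exact := hS.exact 0
    have : Mono (S.sc hS.toIsComplex 0).f := hmono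
    let e := IsLimit.conePointUniqueUpToIso hex.fIsKernel
      (limit.isLimit (parallelPair (S.sc hS.toIsComplex 0).g 0))
    exact PD.of_iso e.symm h1

end Groth.Agent.S16240
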