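import Groth.Statements.S16244
import Mathlib.AlgebraicGeometry.EllipticCurve.NormalForms
import Mathlib.RingTheory.RootsOfUnity.AlgebraicallyClosed
import Mathlib.RingTheory.RootsOfUnity.EnoughRootsOfUnity
import Mathlib.Tactic.LinearCombination
import Mathlib.Tactic.FieldSimp

set_option autoImplicit false
universe u
open Curves

namespace Groth.Agent.S16244

open WeierstrassCurve

variable {k : Type u} [Field k]

/-- Membership in the stabilizer of a short Weierstrass curve. -/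
theorem mem_stab_iff (h2 : (2 : k) ≠ 0) (h3 : (3 : k) ≠ 0)
    (W : WeierstrassCurve k) [W.IsShortNF] (C : VariableChange k) :
    C ∈ MulAction.stabilizer (VariableChange k) W ↔
      C.r = 0 ∧ C.s = 0 ∧ C.t = 0 ∧ (C.u : k) ^ 4 * W.a₄ = W.a₄ ∧ (C.u : k) ^ 6 * W.a₆ = W.a₆ := by
  rw [MulAction.mem_stabilizer_iff]
  have hu : (C.u : k) ≠ 0 := C.u.ne_zero
  have hui : ((C.u⁻¹ : kˣ) : k) ≠ 0 := (C.u⁻¹).ne_zero
  have huu : ((C.u⁻¹ : kˣ) : k) * (C.u : k) = 1 := by
    rw [← Units.val_mul, inv_mul_cancel, Units.val_one]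
  have key : ∀ (n : ℕ) (x : k), ((C.u⁻¹ : kˣ) : k) ^ n * x = x ↔ (C.u : k) ^ n * x = x := by
    intro n x
    have i : ((C.u⁻¹ : kˣ) : k) ^ n * (C.u : k) ^ n = 1 := by rw [← mul_pow, huu, one_pow]
    constructor
    · intro e
      calc (C.u : k) ^ n * x = (C.u : k) ^ n * (((C.u⁻¹ : kˣ) : k) ^ n * x) := by rw [e]
        _ = x := by linear_combination x * i
    · intro e
      calc ((C.u⁻¹ : kˣ) : k) ^ n * x = ((C.u⁻¹ : kˣ) : k) ^ n * ((C.u : k) ^ n * x) := by rw [e]
        _ = x := by linear_combination x * i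
  constructor
  · intro h
    have e1 := congrArg WeierstrassCurve.a₁ h
    have e2 := congrArg WeierstrassCurve.a₂ h
    have e3 := congrArg WeierstrassCurve.a₃ h
    have e4 := congrArg WeierstrassCurve.a₄ h
    have e6 := congrArg WeierstrassCurve.a₆ h
    rw [variableChange_a₁] at e1
    rw [variableChange_a₂] at e2
    rw [variableChange_a₃] at e3
    rw [variableChange_a₄] at e4
    rw [variableChange_a₆] at e6
    rw [IsShortNF.a₁, IsShortNF.a₂, IsShortNF.a₃] at e4 e6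
    rw [IsShortNF.a₁, IsShortNF.a₂] at e2
    rw [IsShortNF.a₁, IsShortNF.a₃] at e3
    rw [IsShortNF.a₁] at e1
    have hs : C.s = 0 := by
      rcases mul_eq_zero.mp e1 with h | h
      · exact absurd h hui
      · rw [zero_add] at h
        exact (mul_eq_zero.mp h).resolve_left h2
    have hr : C.r = 0 := by
      rw [hs] at e2
      rcases mul_eq_zero.mp e2 with h | h
      · exact absurd (pow_eq_zero_iff (two_ne_zero) |>.mp h) hui
      · have h' : 3 * C.r = 0 := by linear_combination h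
        exact (mul_eq_zero.mp h').resolve_left h3
    have ht : C.t = 0 := by
      rw [hr] at e3
      rcases mul_eq_zero.mp e3 with h | h
      · exact absurd (pow_eq_zero_iff (three_ne_zero) |>.mp h) hui
      · have h' : 2 * C.t = 0 := by linear_combination h
        exact (mul_eq_zero.mp h').resolve_left h2
    simp only [hr, hs, ht] at e4 e6
    refine ⟨hr, hs, ht, (key 4 _).mp ?_, (key 6 _).mp ?_⟩
    · linear_combination e4
    · linear_combination e6
  · rintro ⟨hr, hs, ht, h4, h6⟩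
    ext
    · rw [variableChange_a₁, hs, IsShortNF.a₁]; simp
    · rw [variableChange_a₂, hs, hr, IsShortNF.a₁, IsShortNF.a₂]; simp
    · rw [variableChange_a₃, hr, ht, IsShortNF.a₁, IsShortNF.a₃]; simp
    · rw [variableChange_a₄, hr, hs, ht, IsShortNF.a₁, IsShortNF.a₂, IsShortNF.a₃]
      have := (key 4 W.a₄).mpr h4
      linear_combination this
    · rw [variableChange_a₆, hr, ht, IsShortNF.a₁, IsShortNF.a₂, IsShortNF.a₃]
      have := (key 6 W.a₆).mpr h6
      linear_combination this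


/-- If the stabilizer is cut out by `r = s = t = 0` and `u ^ n = 1`, it is isomorphic to the group
of `n`-th roots of unity. -/
noncomputable def stabEquiv (W : WeierstrassCurve k) (n : ℕ)
    (hn : ∀ C : VariableChange k, C ∈ MulAction.stabilizer (VariableChange k) W ↔
      C.r = 0 ∧ C.s = 0 ∧ C.t = 0 ∧ C.u ^ n = 1) :
    ↥(MulAction.stabilizer (VariableChange k) W) ≃* ↥(rootsOfUnity n k) where
  toFun C := ⟨C.1.u, ((hn C.1).mp C.2).2.2.2⟩
  invFun ζ := ⟨⟨ζ.1, 0, 0, 0⟩, (hn _).mpr ⟨rfl, rfl, rfl, ζ.2⟩⟩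
  left_inv C := by
    obtain ⟨hr, hs, ht, -⟩ := (hn C.1).mp C.2
    apply Subtype.ext
    ext
    · rfl
    · exact hr.symm
    · exact hs.symm
    · exact ht.symm
  right_inv ζ := rfl
  map_mul' C C' := rfl

theorem aux (W : WeierstrassCurve k) (n : ℕ) [NeZero n] [HasEnoughRootsOfUnity k n]
    (hn : ∀ C : VariableChange k, C ∈ MulAction.stabilizer (VariableChange k) W ↔
      C.r = 0 ∧ C.s = 0 ∧ C.t = 0 ∧ C.u ^ n = 1) :
    IsCyclic ↥(MulAction.stabilizer (VariableChange k) W) ∧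
      Nat.card ↥(MulAction.stabilizer (VariableChange k) W) = n := by
  have e := stabEquiv W n hn
  constructor
  · exact isCyclic_of_surjective e.symm e.symm.surjective
  · rw [Nat.card_congr e.toEquiv]
    exact HasEnoughRootsOfUnity.natCard_rootsOfUnity k n

theorem units_pow_eq_one_iff (u : kˣ) (n : ℕ) {x : k} (hx : x ≠ 0) :
    (u : k) ^ n * x = x ↔ u ^ n = 1 := by
  rw [Units.ext_iff, Units.val_pow_eq_pow_val, Units.val_one]
  constructor
  · intro h
    have : ((u : k) ^ n - 1) * x = 0 := by linear_combination h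
    rcases mul_eq_zero.mp this with h | h
    · exact sub_eq_zero.mp h
    · exact absurd h hx
  · intro h; rw [h, one_mul]

theorem result
    (k : Type u) [Field k] [IsAlgClosed k] (h2 : (2 : k) ≠ 0) (h3 : (3 : k) ≠ 0)
    (W : WeierstrassCurve k) [W.IsShortNF] (hΔ : W.Δ ≠ 0) :
    IsCyclic ↥(MulAction.stabilizer (WeierstrassCurve.VariableChange k) W) ∧
      (W.a₄ = 0 → Nat.card ↥(MulAction.stabilizer (WeierstrassCurve.VariableChange k) W) = 6) ∧
      (W.a₆ = 0 → Nat.card ↥(MulAction.stabilizer (WeierstrassCurve.VariableChange k) W) = 4) ∧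
      (W.a₄ ≠ 0 → W.a₆ ≠ 0 → Nat.card ↥(MulAction.stabilizer (WeierstrassCurve.VariableChange k) W) = 2) := by
  have hΔ' : 4 * W.a₄ ^ 3 + 27 * W.a₆ ^ 2 ≠ 0 := by
    intro h
    apply hΔ
    rw [W.Δ_of_isShortNF, h, mul_zero]
  have n2 : NeZero ((2 : ℕ) : k) := ⟨by exact_mod_cast h2⟩
  have n3 : NeZero ((3 : ℕ) : k) := ⟨by exact_mod_cast h3⟩
  have n4 : NeZero ((4 : ℕ) : k) := ⟨by
    have : ((4 : ℕ) : k) = 2 * 2 := by norm_num
    rw [this]; exact mul_ne_zero h2 h2⟩
  have n6 : NeZero ((6 : ℕ) : k) := ⟨by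
    have : ((6 : ℕ) : k) = 2 * 3 := by norm_num
    rw [this]; exact mul_ne_zero h2 h3⟩
  -- the three cases
  have c6 : W.a₄ = 0 → ∀ C : VariableChange k, C ∈ MulAction.stabilizer (VariableChange k) W ↔
      C.r = 0 ∧ C.s = 0 ∧ C.t = 0 ∧ C.u ^ 6 = 1 := by
    intro h4 C
    have h6 : W.a₆ ≠ 0 := by
      intro h6; apply hΔ'; rw [h4, h6]; ring
    rw [mem_stab_iff h2 h3, h4, mul_zero, units_pow_eq_one_iff C.u 6 h6]
    tauto
  have c4 : W.a₆ = 0 → ∀ C : VariableChange k, C ∈ MulAction.stabilizer (VariableChange k) W ↔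
      C.r = 0 ∧ C.s = 0 ∧ C.t = 0 ∧ C.u ^ 4 = 1 := by
    intro h6 C
    have h4 : W.a₄ ≠ 0 := by
      intro h4; apply hΔ'; rw [h4, h6]; ring
    rw [mem_stab_iff h2 h3, h6, mul_zero, units_pow_eq_one_iff C.u 4 h4]
    tauto
  have c2 : W.a₄ ≠ 0 → W.a₆ ≠ 0 → ∀ C : VariableChange k,
      C ∈ MulAction.stabilizer (VariableChange k) W ↔
      C.r = 0 ∧ C.s = 0 ∧ C.t = 0 ∧ C.u ^ 2 = 1 := by
    intro h4 h6 C
    rw [mem_stab_iff h2 h3, units_pow_eq_one_iff C.u 4 h4, units_pow_eq_one_iff C.u 6 h6]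
    have : (C.u ^ 4 = 1 ∧ C.u ^ 6 = 1) ↔ C.u ^ 2 = 1 := by
      constructor
      · rintro ⟨a, b⟩
        have : C.u ^ 6 = C.u ^ 4 * C.u ^ 2 := by rw [← pow_add]
        rw [this, a, one_mul] at b
        exact b
      · intro a
        constructor
        · have : C.u ^ 4 = (C.u ^ 2) ^ 2 := by rw [← pow_mul]
          rw [this, a, one_pow]
        · have : C.u ^ 6 = (C.u ^ 2) ^ 3 := by rw [← pow_mul]
          rw [this, a, one_pow]
    rw [this]
  refine ⟨?_, fun h => (aux W 6 (c6 h)).2, fun h => (aux W 4 (c4 h)).2,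
    fun h h' => (aux W 2 (c2 h h')).2⟩
  by_cases h4 : W.a₄ = 0
  · exact (aux W 6 (c6 h4)).1
  · by_cases h6 : W.a₆ = 0
    · exact (aux W 4 (c4 h6)).1
    · exact (aux W 2 (c2 h4 h6)).1

end Groth.Agent.S16244
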