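import Groth.Statements.S16259
import Mathlib.Algebra.Polynomial.Derivative
import Mathlib.Algebra.Polynomial.FieldDivision
import Mathlib.Data.Nat.Choose.Basic
import Mathlib.Tactic.Ring
import Mathlib.Tactic.LinearCombination

set_option autoImplicit false
open W4c3wronskmg

namespace Groth.Agent.S16259

section Helpers

open Polynomial

variable {k : Type*} [Field k]

lemma coeff_X_mul_d (p : k[X]) (m : ℕ) :
    (X * derivative p).coeff m = (m : k) * p.coeff m := by
  cases m with
  | zero => simp
  | succ m => rw [coeff_X_mul, coeff_derivative]; push_cast; ring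

lemma coeff_X_mul_dd (p : k[X]) (m : ℕ) :
    (X * derivative (derivative p)).coeff m = ((m : k) + 1) * m * p.coeff (m + 1) := by
  cases m with
  | zero => simp
  | succ m => rw [coeff_X_mul, coeff_derivative, coeff_derivative]; push_cast; ring

lemma coeff_X_mul_X_mul_dd (p : k[X]) (m : ℕ) :
    (X * (X * derivative (derivative p))).coeff m = (m : k) * ((m : k) - 1) * p.coeff m := by
  cases m with
  | zero => simp
  | succ m => rw [coeff_X_mul, coeff_X_mul_dd]; push_cast; ring

lemma choose_succ_cast (j m : ℕ) :
    ((j.choose (m + 1) : ℕ) : k) * ((m : k) + 1) = ((j.choose m : ℕ) : k) * ((j : k) - m) := by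
  by_cases h : m ≤ j
  · have := Nat.choose_succ_right_eq j m
    have h2 : ((j.choose (m + 1) * (m + 1) : ℕ) : k) = ((j.choose m * (j - m) : ℕ) : k) := by
      rw [this]
    push_cast [Nat.cast_sub h] at h2
    exact h2
  · have h1 : j.choose m = 0 := Nat.choose_eq_zero_of_lt (by omega)
    have h2 : j.choose (m + 1) = 0 := Nat.choose_eq_zero_of_lt (by omega)
    rw [h1, h2]; simp

/-- the polynomial of the statement -/
noncomputable def h (k : Type*) [Field k] (i j n : ℕ) : k[X] :=
  ∑ l ∈ Finset.range (n + 1), C (((i.choose l) * (j.choose (n - l)) : ℕ) : k) * X ^ (n - l)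

lemma coeff_h (i j n m : ℕ) :
    (h k i j n).coeff m = if m ≤ n then (((i.choose (n - m)) * (j.choose m) : ℕ) : k) else 0 := by
  unfold h
  rw [finset_sum_coeff]
  simp only [coeff_C_mul_X_pow]
  split_ifs with hm
  · rw [Finset.sum_eq_single (n - m)]
    · rw [if_pos (by omega), show n - (n - m) = m by omega]
    · intro l hl hne
      rw [if_neg]
      have := Finset.mem_range.mp hl
      omega
    · intro hn
      exact absurd (Finset.mem_range.mpr (by omega)) hn
  · apply Finset.sum_eq_zero
    intro l _
    rw [if_neg]
    omega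

/-- the two-term recurrence for the coefficients -/
lemma recurrence (i j n m : ℕ) :
    ((m : k) + 1) * ((m : k) + 1 + i - n) * (h k i j n).coeff (m + 1) =
      ((n : k) - m) * ((j : k) - m) * (h k i j n).coeff m := by
  rw [coeff_h, coeff_h]
  by_cases h1 : m + 1 ≤ n
  · rw [if_pos h1, if_pos (by omega)]
    have e1 := choose_succ_cast (k := k) j m
    have e2 := choose_succ_cast (k := k) i (n - (m + 1))
    rw [show n - (m + 1) + 1 = n - m by omega] at e2
    have e3 : ((n - (m + 1) : ℕ) : k) = (n : k) - m - 1 := by
      rw [Nat.cast_sub h1]; push_cast; ring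
    rw [e3] at e2
    push_cast
    linear_combination ((m : k) + 1 + i - n) * (i.choose (n - (m + 1)) : k) * e1 -
      ((j : k) - m) * (j.choose m : k) * e2
  · rw [if_neg h1]
    by_cases h2 : m ≤ n
    · have : m = n := by omega
      subst this
      simp
    · rw [if_neg h2]; simp


/-- the hypergeometric differential equation -/
lemma ode (i j n : ℕ) :
    X * (1 - X) * derivative (derivative (h k i j n)) =
      (C ((1 : k) - n - j) * X - C ((1 : k) + i - n)) * derivative (h k i j n) +
        C ((n : k) * j) * h k i j n := by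
  ext m
  have e1 : X * (1 - X) * derivative (derivative (h k i j n)) =
      X * derivative (derivative (h k i j n)) - X * (X * derivative (derivative (h k i j n))) := by
    ring
  have e2 : (C ((1 : k) - n - j) * X - C ((1 : k) + i - n)) * derivative (h k i j n) =
      C ((1 : k) - n - j) * (X * derivative (h k i j n)) -
        C ((1 : k) + i - n) * derivative (h k i j n) := by ring
  rw [e1, e2, coeff_sub, coeff_add, coeff_sub, coeff_C_mul, coeff_C_mul, coeff_C_mul,
    coeff_X_mul_dd, coeff_X_mul_X_mul_dd, coeff_X_mul_d, coeff_derivative]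
  have := recurrence (k := k) i j n m
  linear_combination this

theorem result_aux [CharZero k] (i j n : ℕ) (c : k) (hc0 : c ≠ 0) (hc1 : c ≠ 1) :
    rootMultiplicity c (h k i j n) ≤ 1 := by
  by_contra hcon
  push Not at hcon
  set p := h k i j n with hp
  have hp0 : p ≠ 0 := by
    intro h0
    rw [h0, rootMultiplicity_zero] at hcon
    omega
  set r := rootMultiplicity c p with hr
  have hroot : p.IsRoot c := (rootMultiplicity_pos hp0).mp (by omega)
  have hr1 : rootMultiplicity c (derivative p) = r - 1 := derivative_rootMultiplicity_of_root hroot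
  have hp'0 : derivative p ≠ 0 := by
    intro h0
    have := natDegree_eq_zero_of_derivative_eq_zero h0
    have h2 : p = C (p.coeff 0) := eq_C_of_natDegree_eq_zero this
    have h3 : p.coeff 0 ≠ 0 := fun h => hp0 (by rw [h2, h, map_zero])
    rw [h2] at hroot
    simp at hroot
    exact h3 hroot
  have hroot' : (derivative p).IsRoot c := (rootMultiplicity_pos hp'0).mp (by omega)
  have hr2 : rootMultiplicity c (derivative (derivative p)) = r - 1 - 1 := by
    rw [derivative_rootMultiplicity_of_root hroot', hr1]
  have hp''0 : derivative (derivative p) ≠ 0 := by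
    intro h0
    have := natDegree_eq_zero_of_derivative_eq_zero h0
    have h2 : derivative p = C ((derivative p).coeff 0) := eq_C_of_natDegree_eq_zero this
    have h3 : (derivative p).coeff 0 ≠ 0 := fun h => hp'0 (by rw [h2, h, map_zero])
    rw [h2] at hroot'
    simp at hroot'
    exact h3 hroot'
  -- divisibility
  have d1 : (X - C c) ^ (r - 1) ∣ p := (pow_dvd_pow _ (by omega)).trans (pow_rootMultiplicity_dvd p c)
  have d2 : (X - C c) ^ (r - 1) ∣ derivative p := by
    rw [← hr1]; exact pow_rootMultiplicity_dvd _ c
  have d3 : (X - C c) ^ (r - 1) ∣ X * (1 - X) * derivative (derivative p) := by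
    rw [hp, ode, ← hp]
    exact dvd_add (Dvd.dvd.mul_left d2 _) (Dvd.dvd.mul_left d1 _)
  have hX : (X : k[X]) ≠ 0 := X_ne_zero
  have h1X : (1 - X : k[X]) ≠ 0 := by
    intro h
    have := congrArg (fun q : k[X] => q.coeff 0) h
    simp at this
  have hne : X * (1 - X) * derivative (derivative p) ≠ 0 := mul_ne_zero (mul_ne_zero hX h1X) hp''0
  have := (le_rootMultiplicity_iff hne).mpr d3
  rw [rootMultiplicity_mul hne, rootMultiplicity_mul (mul_ne_zero hX h1X), hr2] at this
  have m1 : rootMultiplicity c (X : k[X]) = 0 := by
    apply rootMultiplicity_eq_zero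
    simp [hc0]
  have m2 : rootMultiplicity c (1 - X : k[X]) = 0 := by
    apply rootMultiplicity_eq_zero
    simp only [IsRoot.def, eval_sub, eval_one, eval_X]
    intro h
    exact hc1 (sub_eq_zero.mp h).symm
  rw [m1, m2] at this
  omega

end Helpers


open Polynomial in
/-- Over a field of characteristic zero, for positive integers `i, j` and a natural number `n`, the
polynomial `h(W) = ∑_{l=0}^{n} (i choose l) (j choose (n-l)) W^(n-l)`, the coefficient of
`X^(i+j-n)` in `(X+1)^i (X+W)^j`, has no multiple root other than possibly `0` and `1`: every `c ≠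
0, 1` has root multiplicity at most one. -/
theorem result
    (k : Type*) [Field k] [CharZero k] (i j n : ℕ) (hi : 0 < i) (hj : 0 < j) (c : k) (hc0 : c ≠ 0) (hc1 : c ≠ 1) :
    Polynomial.rootMultiplicity c
      (∑ l ∈ Finset.range (n + 1),
        Polynomial.C (((i.choose l) * (j.choose (n - l)) : ℕ) : k) * Polynomial.X ^ (n - l)) ≤ 1 := by
  exact result_aux i j n c hc0 hc1


end Groth.Agent.S16259
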