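import Groth.Statements.S16260
import Groth.Agent.Lib.WronskPoly3

set_option autoImplicit false
open W4c3wronskmg

namespace Groth.Agent.S16260

open Polynomial Groth.Agent.Lib.WronskPoly3 in
/-- Let `k` be a field of characteristic zero, `a, b, i` positive integers with `i ≤ a + b`, and `j = a
+ b + 2 - i`. On the projective line with three marked points `A = 0`, `B = 1`, `C = ∞`, the
`(a+b+1)`-dimensional linear system `V = H⁰(ω((1+a)A)) ⊕ H⁰(ω((1+b)B)) ⊕ H⁰(ω(2C)) ⊆ H⁰(ω((1+a)A +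
(1+b)B + 2C)) ≅ H⁰(O(a+b+2))` becomes, in the affine coordinate, the span of the multiples of
`X^(a+1)` of degree at most `a+b`, the multiples of `(X-1)^(b+1)` of degree at most `a+b`, and
`X^(a+1) (X-1)^(b+1)`; and `V(-iP-jQ)` is the subspace of members divisible by `(X-p)^i (X-q)^j`.
Then there are no points `P = p`, `Q = q` other than `A, B, C` (that is, `p, q ∉ {0, 1}`; `p = q`
allowed) with both `dim V(-iP-jQ) ≥ 1` and `dim V(-(i-1)P-(j-1)Q) ≥ 2`. (The published statement is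
over the complex numbers.) -/
theorem result
    (k : Type*) [Field k] [CharZero k] (a b i j : ℕ) (ha : 0 < a) (hb : 0 < b) (hi : 0 < i) (hiab : i ≤ a + b)
    (hj : i + j = a + b + 2)
    (V : Submodule k (Polynomial k))
    (hV : V = ((Ideal.span {(X : Polynomial k) ^ (a + 1)}).restrictScalars k ⊓ Polynomial.degreeLE k ↑(a + b)) ⊔
      ((Ideal.span {((X : Polynomial k) - 1) ^ (b + 1)}).restrictScalars k ⊓ Polynomial.degreeLE k ↑(a + b)) ⊔
      Submodule.span k {(X : Polynomial k) ^ (a + 1) * (X - 1) ^ (b + 1)})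
    (p q : k) (hp0 : p ≠ 0) (hp1 : p ≠ 1) (hq0 : q ≠ 0) (hq1 : q ≠ 1) :
    ¬ (1 ≤ Module.finrank k ↥(V ⊓ (Ideal.span {(X - C p) ^ i * (X - C q) ^ j}).restrictScalars k) ∧
       2 ≤ Module.finrank k ↥(V ⊓ (Ideal.span {(X - C p) ^ (i - 1) * (X - C q) ^ (j - 1)}).restrictScalars k)) := by
  rintro ⟨-, h2⟩
  have hi1 : i - 1 + 1 = i := by omega
  have hj1 : j - 1 + 1 = j := by omega
  have hVle : V ≤ (degreeLE k ↑(a + b + 1)).map (D k a b) := by rw [hV]; exact V_le a b
  have hH₀mem : H₀ k a b ∈ degreeLE k ↑(a + b + 1) := by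
    rw [mem_degreeLE]
    apply degree_le_of_natDegree_le
    rw [natDegree_H₀]; omega
  suffices Module.finrank k
      ↥(V ⊓ (Ideal.span {(X - C p) ^ (i - 1) * (X - C q) ^ (j - 1)}).restrictScalars k) ≤ 1 by omega
  by_cases hpq : p = q
  · subst hpq
    apply finrank_le_one_of_forall_smul _ (D k a b ((X - C p) ^ (a + b + 1)))
    rintro f ⟨hfV, hfI⟩
    obtain ⟨H, hH, rfl⟩ := hVle hfV
    rw [SetLike.mem_coe, Submodule.restrictScalars_mem, Ideal.mem_span_singleton, ← pow_add] at hfI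
    have e : i - 1 + (j - 1) = a + b := by omega
    rw [e] at hfI
    obtain ⟨d, hd⟩ := regular_point a b p hp0 hp1 H (a + b) hfI
    obtain ⟨c, hc⟩ := eq_smul_of_dvd_of_natDegree_le hd (by
      rw [natDegree_pow, natDegree_X_sub_C, mul_one]
      exact natDegree_sub_smul_H₀_le a b (by omega) hH d)
    refine ⟨c, ?_⟩
    rw [← D_sub_smul_H₀ a b H d, hc, map_smul]
  · have hcop : IsCoprime ((X - C p) ^ i) ((X - C q) ^ j) :=
      (isCoprime_X_sub_C_of_isUnit_sub (IsUnit.mk0 _ (sub_ne_zero.mpr hpq))).pow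
    have hT : ((X - C p) ^ i * (X - C q) ^ j).natDegree = a + b + 2 := by
      rw [natDegree_mul (pow_ne_zero _ (X_sub_C_ne_zero p)) (pow_ne_zero _ (X_sub_C_ne_zero q)),
        natDegree_pow, natDegree_pow, natDegree_X_sub_C, natDegree_X_sub_C]
      omega
    have hzero : ∀ G : k[X], G ∈ degreeLE k ↑(a + b + 1) → (X - C p) ^ i ∣ G → (X - C q) ^ j ∣ G →
        G = 0 := by
      intro G hG h1 h2
      apply eq_zero_of_dvd_of_natDegree_lt (hcop.mul_dvd h1 h2)
      rw [hT]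
      rw [mem_degreeLE] at hG
      have := natDegree_le_of_degree_le hG
      omega
    apply finrank_le_one_of_line _ (D k a b)
      {H' | H' ∈ degreeLE k ↑(a + b + 1) ∧ (X - C p) ^ i ∣ H' ∧
        ∃ d : k, (X - C q) ^ j ∣ H' - d • H₀ k a b}
    · rintro H₁ ⟨hH₁, hp₁, d₁, hq₁⟩ H₂ ⟨hH₂, hp₂, d₂, hq₂⟩
      by_cases hd₁ : d₁ = 0
      · refine ⟨1, 0, Or.inl one_ne_zero, ?_⟩
        rw [hd₁, zero_smul, sub_zero] at hq₁
        rw [hzero H₁ hH₁ hp₁ hq₁, smul_zero, zero_smul, add_zero]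
      · refine ⟨d₂, -d₁, Or.inr (neg_ne_zero.mpr hd₁), ?_⟩
        apply hzero
        · exact Submodule.add_mem _ (Submodule.smul_mem _ _ hH₁) (Submodule.smul_mem _ _ hH₂)
        · rw [smul_eq_C_mul, smul_eq_C_mul]
          exact dvd_add (dvd_mul_of_dvd_right hp₁ _) (dvd_mul_of_dvd_right hp₂ _)
        · have : d₂ • H₁ + (-d₁) • H₂ =
              C d₂ * (H₁ - d₁ • H₀ k a b) - C d₁ * (H₂ - d₂ • H₀ k a b) := by
            simp only [smul_eq_C_mul, map_neg]
            ring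
          rw [this]
          exact dvd_sub (dvd_mul_of_dvd_right hq₁ _) (dvd_mul_of_dvd_right hq₂ _)
    · rintro f ⟨hfV, hfI⟩
      obtain ⟨H, hH, rfl⟩ := hVle hfV
      rw [SetLike.mem_coe, Submodule.restrictScalars_mem, Ideal.mem_span_singleton] at hfI
      obtain ⟨dp, hdp⟩ := regular_point a b p hp0 hp1 H (i - 1)
        (dvd_trans (dvd_mul_right _ _) hfI)
      obtain ⟨dq, hdq⟩ := regular_point a b q hq0 hq1 H (j - 1)
        (dvd_trans (dvd_mul_left _ _) hfI)
      rw [hi1] at hdp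
      rw [hj1] at hdq
      refine ⟨H - dp • H₀ k a b, ⟨?_, hdp, dq - dp, ?_⟩, D_sub_smul_H₀ a b H dp⟩
      · exact Submodule.sub_mem _ hH (Submodule.smul_mem _ _ hH₀mem)
      · have : H - dp • H₀ k a b - (dq - dp) • H₀ k a b = H - dq • H₀ k a b := by
          rw [sub_smul]; abel
        rw [this]
        exact hdq

end Groth.Agent.S16260
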