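import Groth.Statements.S16261
import Groth.Agent.Lib.WronskPoly3

set_option autoImplicit false
open W4c3wronskmg

namespace Groth.Agent.S16261

open Polynomial Groth.Agent.Lib.WronskPoly3 in
/-- With `k` of characteristic zero, `a, b, i` positive, `i ≤ a + b`, `j = a + b + 2 - i` and `V ⊆ k[X]`
the linear system of the first assertion (marked points `A = 0`, `B = 1`, `C = ∞`; `V` spanned by
the multiples of `X^(a+1)` of degree at most `a+b`, the multiples of `(X-1)^(b+1)` of degree at most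
`a+b`, and `X^(a+1) (X-1)^(b+1)`): if the point `P` is put at `A` and `Q = q` is any point other
than `C`, and both `dim V(-iA-jQ) ≥ 1` and `dim V(-(i-1)A-(j-1)Q) ≥ 2` hold, then `i ≥ a + 1`. (The
published statement is over the complex numbers.) -/
theorem result
    (k : Type*) [Field k] [CharZero k] (a b i j : ℕ) (ha : 0 < a) (hb : 0 < b) (hi : 0 < i) (hiab : i ≤ a + b)
    (hj : i + j = a + b + 2)
    (V : Submodule k (Polynomial k))
    (hV : V = ((Ideal.span {(X : Polynomial k) ^ (a + 1)}).restrictScalars k ⊓ Polynomial.degreeLE k ↑(a + b)) ⊔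
      ((Ideal.span {((X : Polynomial k) - 1) ^ (b + 1)}).restrictScalars k ⊓ Polynomial.degreeLE k ↑(a + b)) ⊔
      Submodule.span k {(X : Polynomial k) ^ (a + 1) * (X - 1) ^ (b + 1)})
    (q : k)
    (h1 : 1 ≤ Module.finrank k ↥(V ⊓ (Ideal.span {(X : Polynomial k) ^ i * (X - C q) ^ j}).restrictScalars k))
    (h2 : 2 ≤ Module.finrank k ↥(V ⊓ (Ideal.span {(X : Polynomial k) ^ (i - 1) * (X - C q) ^ (j - 1)}).restrictScalars k)) :
    a + 1 ≤ i := by
  by_contra hcon
  have hia : i ≤ a := by omega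
  have hi1 : i - 1 + 1 = i := by omega
  have hj1 : j - 1 + 1 = j := by omega
  have hVle : V ≤ (degreeLE k ↑(a + b + 1)).map (D k a b) := by rw [hV]; exact V_le a b
  have hH₀mem : H₀ k a b ∈ degreeLE k ↑(a + b + 1) := by
    rw [mem_degreeLE]
    apply degree_le_of_natDegree_le
    rw [natDegree_H₀]; omega
  -- a nonzero member of the first system
  have hex : ∃ f ∈ V ⊓ (Ideal.span {(X : Polynomial k) ^ i * (X - C q) ^ j}).restrictScalars k,
      f ≠ 0 := by
    by_contra hne
    push Not at hne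
    have : V ⊓ (Ideal.span {(X : Polynomial k) ^ i * (X - C q) ^ j}).restrictScalars k = ⊥ :=
      (Submodule.eq_bot_iff _).mpr hne
    rw [this, finrank_bot] at h1
    omega
  by_cases hq0 : q = 0
  · subst hq0
    obtain ⟨f, ⟨hfV, hfI⟩, hfne⟩ := hex
    obtain ⟨H, hH, rfl⟩ := hVle hfV
    rw [SetLike.mem_coe, Submodule.restrictScalars_mem, Ideal.mem_span_singleton, C_0, sub_zero,
      ← pow_add, hj, X_pow_dvd_iff] at hfI
    apply hfne
    have hHc : ∀ n, a + b + 1 < n → H.coeff n = 0 := by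
      intro n hn
      apply coeff_eq_zero_of_degree_lt
      rw [SetLike.mem_coe, mem_degreeLE] at hH
      exact lt_of_le_of_lt hH (by exact_mod_cast hn)
    have hHN : H.coeff (a + b + 1) = 0 := by
      have e := hfI (a + b + 1) (by omega)
      rw [coeff_D_succ] at e
      have e' : ((b : k) + 1) * H.coeff (a + b + 1) = 0 := by
        push_cast at e; linear_combination -e
      exact (mul_eq_zero.mp e').resolve_left (Nat.cast_add_one_ne_zero b)
    ext m
    rw [coeff_zero]
    by_cases hm : m < a + b + 2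
    · exact hfI m hm
    · obtain ⟨n, rfl⟩ : ∃ n, m = n + 1 := ⟨m - 1, by omega⟩
      rw [coeff_D_succ]
      have hn : a + b + 1 ≤ n := by omega
      rcases Nat.eq_or_lt_of_le hn with hn | hn
      · rw [← hn, hHN, hHc _ (by omega)]; ring
      · rw [hHc n hn, hHc (n + 1) (by omega)]; ring
  by_cases hq1 : q = 1
  · subst hq1
    obtain ⟨f, ⟨hfV, hfI⟩, hfne⟩ := hex
    obtain ⟨H, hH, rfl⟩ := hVle hfV
    rw [SetLike.mem_coe, Submodule.restrictScalars_mem, Ideal.mem_span_singleton, C_1] at hfI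
    apply hfne
    have hX : X ^ i ∣ H := singular_point_zero a b H i hia (dvd_trans (dvd_mul_right _ _) hfI)
    have hb1 : (X - 1) ^ b ∣ H := singular_point_one a b H b le_rfl
      (dvd_trans (pow_dvd_pow _ (by omega : b ≤ j)) (dvd_trans (dvd_mul_left _ _) hfI))
    obtain ⟨h, rfl⟩ := hb1
    have hfI2 : (X - 1 : k[X]) ^ j ∣ D k a b ((X - 1) ^ b * h) := dvd_trans (dvd_mul_left _ _) hfI
    rw [D_X_sub_one_pow_mul] at hfI2
    have hjn : j = b + 1 + (a + 1 - i) := by omega
    have hne1 : (X - 1 : k[X]) ≠ 0 := by rw [← C_1]; exact X_sub_C_ne_zero 1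
    rw [hjn, pow_add, mul_dvd_mul_iff_left (pow_ne_zero _ hne1)] at hfI2
    obtain ⟨d, hd⟩ := regular_point_E a h (a + 1 - i) hfI2
    have hG : (X - 1) ^ b * h - d • H₀ k a b = (X - 1) ^ b * (h - d • X ^ a) := by
      rw [H₀]; simp only [smul_eq_C_mul]; ring
    have hGj : (X - 1 : k[X]) ^ j ∣ (X - 1) ^ b * h - d • H₀ k a b := by
      rw [hG]
      have : j = b + (a + 1 - i + 1) := by omega
      rw [this, pow_add]
      exact mul_dvd_mul_left _ hd
    have hGi : (X : k[X]) ^ i ∣ (X - 1) ^ b * h - d • H₀ k a b := by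
      apply dvd_sub hX
      rw [H₀, smul_eq_C_mul]
      exact dvd_mul_of_dvd_right (dvd_mul_of_dvd_left (pow_dvd_pow _ hia) _) _
    have hcop : IsCoprime ((X : k[X]) ^ i) ((X - 1) ^ j) := by
      have := (isCoprime_X_sub_C_of_isUnit_sub (R := k) (a := 0) (b := 1)
        (IsUnit.mk0 _ (by norm_num))).pow (m := i) (n := j)
      rwa [C_0, sub_zero, C_1] at this
    have hT : ((X : k[X]) ^ i * (X - 1) ^ j).natDegree = a + b + 2 := by
      have hnd : ((X : k[X]) - 1) ^ j = (X - C 1) ^ j := by rw [C_1]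
      rw [natDegree_mul (pow_ne_zero _ X_ne_zero) (pow_ne_zero _ hne1), natDegree_X_pow, hnd,
        natDegree_pow, natDegree_X_sub_C]
      omega
    have hz : (X - 1) ^ b * h - d • H₀ k a b = 0 := by
      apply eq_zero_of_dvd_of_natDegree_lt (hcop.mul_dvd hGi hGj)
      rw [hT]
      have := natDegree_sub_smul_H₀_le a b (by omega : a + b ≤ a + b + 1) hH d
      omega
    rw [← D_sub_smul_H₀ a b _ d, hz, map_zero]
  · suffices Module.finrank k
        ↥(V ⊓ (Ideal.span {(X : k[X]) ^ (i - 1) * (X - C q) ^ (j - 1)}).restrictScalars k) ≤ 1 by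
      omega
    apply finrank_le_one_of_forall_smul _ (D k a b (X ^ (i - 1) * (X - C q) ^ j))
    rintro f ⟨hfV, hfI⟩
    obtain ⟨H, hH, rfl⟩ := hVle hfV
    rw [SetLike.mem_coe, Submodule.restrictScalars_mem, Ideal.mem_span_singleton] at hfI
    have hX : X ^ (i - 1) ∣ H := singular_point_zero a b H (i - 1) (by omega)
      (dvd_trans (dvd_mul_right _ _) hfI)
    obtain ⟨d, hd⟩ := regular_point a b q hq0 hq1 H (j - 1) (dvd_trans (dvd_mul_left _ _) hfI)
    rw [hj1] at hd
    have hGi : (X : k[X]) ^ (i - 1) ∣ H - d • H₀ k a b := by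
      apply dvd_sub hX
      rw [H₀, smul_eq_C_mul]
      exact dvd_mul_of_dvd_right (dvd_mul_of_dvd_left (pow_dvd_pow _ (by omega)) _) _
    have hcop : IsCoprime ((X : k[X]) ^ (i - 1)) ((X - C q) ^ j) := by
      have := (isCoprime_X_sub_C_of_isUnit_sub (R := k) (a := 0) (b := q)
        (IsUnit.mk0 _ (by rw [zero_sub]; exact neg_ne_zero.mpr hq0))).pow (m := i - 1) (n := j)
      rwa [C_0, sub_zero] at this
    have hT : ((X : k[X]) ^ (i - 1) * (X - C q) ^ j).natDegree = a + b + 1 := by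
      rw [natDegree_mul (pow_ne_zero _ X_ne_zero) (pow_ne_zero _ (X_sub_C_ne_zero q)),
        natDegree_X_pow, natDegree_pow, natDegree_X_sub_C]
      omega
    obtain ⟨c, hc⟩ := eq_smul_of_dvd_of_natDegree_le (hcop.mul_dvd hGi hd) (by
      rw [hT]
      exact natDegree_sub_smul_H₀_le a b (by omega) hH d)
    refine ⟨c, ?_⟩
    rw [← D_sub_smul_H₀ a b H d, hc, map_smul]

end Groth.Agent.S16261
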