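import Groth.Statements.S16262
import Groth.Agent.Lib.WronskPoly2

set_option autoImplicit false
open W4c3wronskmg

namespace Groth.Agent.S16262

open Groth.Agent.Lib.WronskPoly

open Polynomial in
/-- Let `k` be a field of characteristic zero and `a, b, i` positive integers with `i < a + b`. On the
projective line with `A = 0`, `B = ∞`, `P = -1`, the system `V_{a,b} = H⁰(ω((1+a)A)) ⊕ H⁰(ω((1+b)B))
⊆ H⁰(O(a+b))` is the space of polynomials of degree at most `a+b` with vanishing coefficient of
`X^a`, and `V = V_{a,b}(-iP)` (divided by `(X+1)^i`) is the space of `G` of degree at most `a+b-i`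
such that the coefficient of `X^a` in `(X+1)^i G` vanishes; it is a linear system of dimension and
degree `a+b-i`. Then no point of the projective line other than `A` and `B` is a special
ramification point of `V` (a point of weight at least two); for such a system a point `q` of the
affine line is special exactly when two independent members are divisible by `(X-q)^(a+b-i-1)`, so
the statement is that this fails for every `q ≠ 0`. (The published statement does not except `A` and
`B`, but `A` has weight `max(b-i, 0)` in `V`, which is `2` for `a = 1, b = 3, i = 1`: there `X^3`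
and `X^2` both lie in `V`. It is stated over the complex numbers.) -/
theorem result
    (k : Type*) [Field k] [CharZero k] (a b i : ℕ) (ha : 0 < a) (hb : 0 < b) (hi : 0 < i) (hiab : i < a + b)
    (V : Submodule k (Polynomial k))
    (hV : V = Polynomial.degreeLE k ↑(a + b - i) ⊓
      LinearMap.ker ((Polynomial.lcoeff k a).comp (LinearMap.mulLeft k (((X : Polynomial k) + 1) ^ i))))
    (q : k) (hq : q ≠ 0) :
    Module.finrank k ↥(V ⊓ (Ideal.span {(X - C q) ^ (a + b - i - 1)}).restrictScalars k) ≤ 1 := by
  have hmonic : ((X - C q) ^ (a + b - i - 1) : k[X]).Monic := (monic_X_sub_C q).pow _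
  have hnd : ((X - C q) ^ (a + b - i - 1) : k[X]).natDegree = a + b - i - 1 := by
    rw [natDegree_pow, natDegree_X_sub_C, mul_one]
  have hle : V ⊓ (Ideal.span {(X - C q) ^ (a + b - i - 1)}).restrictScalars k ≤
      U ((X - C q) ^ (a + b - i - 1)) := by
    rintro G ⟨hGV, hGd⟩
    have hGd' : G ∈ Ideal.span {(X - C q) ^ (a + b - i - 1)} := hGd
    apply mem_U_of_dvd hmonic
    · rw [hnd, show a + b - i - 1 + 1 = a + b - i by omega]
      rw [hV] at hGV
      exact mem_degreeLE.mp hGV.1
    · exact Ideal.mem_span_singleton.mp hGd'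
  have hmemV : ∀ G ∈ V, (((X : k[X]) + 1) ^ i * G).coeff a = 0 := by
    intro G hG
    rw [hV] at hG
    exact hG.2
  by_cases hc : (((X : k[X]) + 1) ^ i * (X - C q) ^ (a + b - i - 1)).coeff a = 0
  · have hc' : (((X : k[X]) + 1) ^ i * (X - C q) ^ (a + b - i - 1)).coeff (a - 1) ≠ 0 := by
      intro h
      refine not_consecutive_zero q hq i (a + b - i - 1) (a - 1) (by omega) h ?_
      rwa [Nat.sub_add_cancel ha]
    refine finrank_le_one_of_le hmonic.ne_zero _ hle ((X - C q) ^ (a + b - i - 1) * X) ⟨X, ?_, rfl⟩ ?_
    · show (X : k[X]) ∈ degreeLT k 2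
      rw [mem_degreeLT, degree_X]; exact_mod_cast Nat.one_lt_two
    · rintro ⟨hV', -⟩
      have := hmemV _ hV'
      rw [← mul_assoc] at this
      have h2 := coeff_mul_X (((X : k[X]) + 1) ^ i * (X - C q) ^ (a + b - i - 1)) (a - 1)
      rw [Nat.sub_add_cancel ha] at h2
      rw [h2] at this
      exact hc' this
  · refine finrank_le_one_of_le hmonic.ne_zero _ hle ((X - C q) ^ (a + b - i - 1) * 1) ⟨1, ?_, rfl⟩ ?_
    · show (1 : k[X]) ∈ degreeLT k 2
      rw [mem_degreeLT, degree_one]; exact_mod_cast Nat.zero_lt_two
    · rintro ⟨hV', -⟩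
      have := hmemV _ hV'
      rw [mul_one] at this
      exact hc this


end Groth.Agent.S16262
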