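import Groth.Statements.S16263
import Groth.Agent.Lib.WronskPoly

set_option autoImplicit false
open W4c3wronskmg

namespace Groth.Agent.S16263

open Groth.Agent.Lib.WronskPoly

open Polynomial Groth.Agent.Lib.WronskPoly in
theorem mem_V {k : Type*} [Field k] (a : ℕ) {G : k[X]}
    (hG : G ∈ Submodule.span k {(1 : Polynomial k)} ⊔
      ((Ideal.span {(X : Polynomial k) * (X + 1)}).restrictScalars k ⊓ Polynomial.degreeLE k ↑(a + 1))) :
    G.degree ≤ (a + 1 : ℕ) ∧ G.eval 0 = G.eval (-1) := by
  obtain ⟨y, hy, z, ⟨hz1, hz2⟩, rfl⟩ := Submodule.mem_sup.mp hG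
  obtain ⟨c, rfl⟩ := Submodule.mem_span_singleton.mp hy
  have hz1' : z ∈ Ideal.span {(X : Polynomial k) * (X + 1)} := hz1
  obtain ⟨F, rfl⟩ := Ideal.mem_span_singleton'.mp hz1'
  constructor
  · refine (degree_add_le _ _).trans (max_le ?_ (mem_degreeLE.mp hz2))
    refine (degree_smul_le _ _).trans ?_
    rw [degree_one]
    exact_mod_cast Nat.zero_le _
  · simp [smul_eq_C_mul]



open Polynomial in
/-- Let `k` be a field of characteristic zero and `a` a positive integer. On the projective line with `A
= 0`, `B = -1`, `C = ∞`, the `(a+1)`-dimensional system `V = H⁰(ω((1+a)C)) ⊕ H⁰(ω(A+B)) ⊆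
H⁰(ω((1+a)C + A + B)) ≅ H⁰(O(a+1))` is, in the affine coordinate, the space of polynomials `c + X
(X+1) F` with `c` a constant and `deg F ≤ a - 1`. Then `V` has no special ramification point (no
point of weight at least two): since the members have degree at most `a + 1`, this says that for
every point `p` of the affine line at most a one-dimensional subspace of `V` is divisible by
`(X-p)^a`, and at `C` that at most a one-dimensional subspace has degree at most one (degree less
than two). (The published statement carries two further positive integers `i, j` with `i + j = a -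
1`, used only in its second assertion, and is over the complex numbers.) -/
theorem result
    (k : Type*) [Field k] [CharZero k] (a : ℕ) (ha : 0 < a)
    (V : Submodule k (Polynomial k))
    (hV : V = Submodule.span k {(1 : Polynomial k)} ⊔
      ((Ideal.span {(X : Polynomial k) * (X + 1)}).restrictScalars k ⊓ Polynomial.degreeLE k ↑(a + 1))) :
    (∀ p : k, Module.finrank k ↥(V ⊓ (Ideal.span {(X - C p) ^ a}).restrictScalars k) ≤ 1) ∧
      Module.finrank k ↥(V ⊓ Polynomial.degreeLT k 2) ≤ 1 := by
  have hmem : ∀ G ∈ V, G.degree ≤ (a + 1 : ℕ) ∧ G.eval 0 = G.eval (-1) := by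
    intro G hG
    rw [hV] at hG
    exact mem_V a hG
  constructor
  · intro p
    have hmonic : ((X - C p) ^ a : k[X]).Monic := (monic_X_sub_C p).pow a
    have hnd : ((X - C p) ^ a : k[X]).natDegree = a := by
      rw [natDegree_pow, natDegree_X_sub_C, mul_one]
    have hle : V ⊓ (Ideal.span {(X - C p) ^ a}).restrictScalars k ≤ U ((X - C p) ^ a) := by
      rintro G ⟨hGV, hGd⟩
      have hGd' : G ∈ Ideal.span {(X - C p) ^ a} := hGd
      apply mem_U_of_dvd hmonic
      · rw [hnd]; exact (hmem G hGV).1
      · exact Ideal.mem_span_singleton.mp hGd'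
    by_cases hp : p = -1
    · -- witness `(X - C p)^a * 1`
      refine finrank_le_one_of_le hmonic.ne_zero _ hle ((X - C p) ^ a * 1) ⟨1, ?_, rfl⟩ ?_
      · show (1 : k[X]) ∈ degreeLT k 2
        rw [mem_degreeLT, degree_one]; exact_mod_cast Nat.zero_lt_two
      · rintro ⟨hV', -⟩
        have := (hmem _ hV').2
        subst hp
        simp [ha.ne'] at this
    · -- witness `(X - C p)^a * X`
      refine finrank_le_one_of_le hmonic.ne_zero _ hle ((X - C p) ^ a * X) ⟨X, ?_, rfl⟩ ?_
      · show (X : k[X]) ∈ degreeLT k 2
        rw [mem_degreeLT, degree_X]; exact_mod_cast Nat.one_lt_two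
      · rintro ⟨hV', -⟩
        have := (hmem _ hV').2
        simp only [eval_mul, eval_pow, eval_sub, eval_X, eval_C, mul_zero] at this
        have h1 : (-1 - p : k) ≠ 0 := by
          intro h; exact hp (sub_eq_zero.mp h).symm
        have h2 : (-1 - p : k) ^ a ≠ 0 := pow_ne_zero _ h1
        have h3 : (-1 - p : k) ^ a * -1 ≠ 0 := mul_ne_zero h2 (neg_ne_zero.mpr one_ne_zero)
        exact h3 this.symm
  · have hle : V ⊓ Polynomial.degreeLT k 2 ≤ Submodule.span k {(1 : k[X])} := by
      rintro G ⟨hGV, hGd⟩
      have h1 : G.degree ≤ 1 := by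
        have := mem_degreeLT.mp hGd
        by_cases hG : G = 0
        · subst hG; simp
        rw [degree_eq_natDegree hG] at this ⊢
        have : G.natDegree < 2 := by exact_mod_cast this
        have : G.natDegree ≤ 1 := by omega
        exact_mod_cast this
      have h2 := eq_X_add_C_of_degree_le_one h1
      have h3 := (hmem G hGV).2
      rw [h2] at h3
      simp at h3
      rw [h2, h3]
      simp only [map_zero, zero_mul, zero_add]
      rw [Submodule.mem_span_singleton]
      exact ⟨G.coeff 0, by rw [smul_eq_C_mul, mul_one]⟩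
    refine (Submodule.finrank_mono hle).trans ?_
    exact finrank_span_le_card ({(1 : k[X])} : Set k[X]) |>.trans (by simp)


end Groth.Agent.S16263
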