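import Groth.Statements.S16264
import Mathlib

set_option autoImplicit false
open W4c3wronskmg

namespace Groth.Agent.S16264

open Polynomial

lemma finrank_degreeLT' {k : Type*} [Field k] (n : ℕ) :
    Module.finrank k (degreeLT k n) = n := by
  rw [LinearEquiv.finrank_eq (degreeLTEquiv k n)]; simp

theorem result'
    (k : Type*) [Field k] [CharZero k] (a i j : ℕ) (hi : 0 < i) (hj : 0 < j) (hij : i + j + 1 = a)
    (V : Submodule k (Polynomial k))
    (hV : V = Submodule.span k {(1 : Polynomial k)} ⊔
      ((Ideal.span {(X : Polynomial k) * (X + 1)}).restrictScalars k ⊓ Polynomial.degreeLE k ↑(a + 1)))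
    (p q : k) :
    3 ≤ Module.finrank k ↥(V ⊓ (Ideal.span {(X - C p) ^ i * (X - C q) ^ j}).restrictScalars k) ↔
      (p = 0 ∧ q = -1) ∨ (p = -1 ∧ q = 0) := by
  classical
  subst hV
  set D : k[X] := (X - C p) ^ i * (X - C q) ^ j with hD
  have hDmonic : D.Monic := ((monic_X_sub_C p).pow i).mul ((monic_X_sub_C q).pow j)
  have hDdeg : D.natDegree = i + j := by
    rw [hD, ((monic_X_sub_C p).pow i).natDegree_mul ((monic_X_sub_C q).pow j),
      (monic_X_sub_C p).natDegree_pow, (monic_X_sub_C q).natDegree_pow]
    simp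
  have hD0 : D.eval 0 = 0 ↔ (p = 0 ∨ q = 0) := by
    simp only [hD, eval_mul, eval_pow, eval_sub, eval_X, eval_C, mul_eq_zero, pow_eq_zero_iff hi.ne',
      pow_eq_zero_iff hj.ne', zero_sub, neg_eq_zero]
  have hD1 : D.eval (-1) = 0 ↔ (p = -1 ∨ q = -1) := by
    simp only [hD, eval_mul, eval_pow, eval_sub, eval_X, eval_C, mul_eq_zero, pow_eq_zero_iff hi.ne',
      pow_eq_zero_iff hj.ne', sub_eq_zero]
    constructor
    · rintro (h | h)
      · exact Or.inl h.symm
      · exact Or.inr h.symm
    · rintro (h | h)
      · exact Or.inl h.symm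
      · exact Or.inr h.symm
  clear_value D
  -- the functional
  let lam : degreeLT k 3 →ₗ[k] k :=
    { toFun := fun G => D.eval 0 * (G : k[X]).eval 0 - D.eval (-1) * (G : k[X]).eval (-1)
      map_add' := fun G H => by simp; ring
      map_smul' := fun c G => by simp; ring }
  have hlam : ∀ G : degreeLT k 3, lam G =
      D.eval 0 * (G : k[X]).eval 0 - D.eval (-1) * (G : k[X]).eval (-1) := fun G => rfl
  let Φ : k[X] →ₗ[k] k[X] := LinearMap.mulLeft k D
  have hΦ : ∀ G, Φ G = D * G := fun G => rfl
  have hΦinj : Function.Injective (Φ ∘ₗ (degreeLT k 3).subtype) := by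
    intro G H h
    apply Subtype.ext
    exact mul_left_cancel₀ hDmonic.ne_zero h
  have key : (Submodule.span k {(1 : Polynomial k)} ⊔
      ((Ideal.span {(X : Polynomial k) * (X + 1)}).restrictScalars k ⊓
        Polynomial.degreeLE k ↑(a + 1))) ⊓ (Ideal.span {D}).restrictScalars k =
      Submodule.map (Φ ∘ₗ (degreeLT k 3).subtype) (LinearMap.ker lam) := by
    ext f
    constructor
    · rintro ⟨hfV, hfJ⟩
      obtain ⟨G, rfl⟩ : D ∣ f := Ideal.mem_span_singleton.mp hfJ
      obtain ⟨y, hy, z, hz, hyz⟩ := Submodule.mem_sup.mp hfV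
      obtain ⟨c, rfl⟩ := Submodule.mem_span_singleton.mp hy
      obtain ⟨hzI, hzd⟩ := hz
      obtain ⟨F, rfl⟩ : X * (X + 1) ∣ z := Ideal.mem_span_singleton.mp hzI
      have hzd' : X * (X + 1) * F ∈ degreeLE k ↑(a + 1) := hzd
      rw [mem_degreeLE] at hzd'
      have hzd := hzd'
      have hfdeg : (D * G).degree ≤ ((a + 1 : ℕ) : WithBot ℕ) := by
        rw [← hyz]
        refine (degree_add_le _ _).trans (max_le ?_ hzd)
        rw [smul_eq_C_mul, mul_one]
        exact degree_C_le.trans (by exact_mod_cast Nat.zero_le _)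
      have hGdeg : G.degree < 3 := by
        by_cases hG : G = 0
        · subst hG
          rw [degree_zero]
          exact_mod_cast WithBot.bot_lt_coe (3 : ℕ)
        rw [degree_mul, degree_eq_natDegree hDmonic.ne_zero, degree_eq_natDegree hG,
          hDdeg] at hfdeg
        rw [degree_eq_natDegree hG]
        have : i + j + G.natDegree ≤ a + 1 := by exact_mod_cast hfdeg
        have : G.natDegree < 3 := by omega
        exact_mod_cast this
      refine ⟨⟨G, mem_degreeLT.mpr hGdeg⟩, ?_, rfl⟩
      show _ ∈ LinearMap.ker lam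
      rw [LinearMap.mem_ker, hlam]
      have e0 := congrArg (eval 0) hyz
      have e1 := congrArg (eval (-1)) hyz
      simp only [eval_add, eval_smul, eval_one, smul_eq_mul, mul_one, eval_mul, eval_X, zero_mul,
        add_zero, neg_add_cancel, mul_zero, eval_C] at e0 e1
      show D.eval 0 * G.eval 0 - D.eval (-1) * G.eval (-1) = 0
      rw [← e0, ← e1, sub_self]
    · rintro ⟨G, hG', rfl⟩
      have hG : G ∈ LinearMap.ker lam := hG'
      rw [LinearMap.mem_ker, hlam] at hG
      have hGd : (G : k[X]).degree < 3 := mem_degreeLT.mp G.2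
      show D * (G : k[X]) ∈ _
      refine ⟨?_, Ideal.mem_span_singleton.mpr (dvd_mul_right _ _)⟩
      set f := D * (G : k[X]) with hf
      set c := f.eval 0 with hc
      have hc1 : f.eval (-1) = c := by
        rw [hc, hf, eval_mul, eval_mul]
        exact (sub_eq_zero.mp hG).symm
      have hX : X ∣ f - C c := by
        have : (X - C (0:k)) ∣ f - C c := by
          rw [dvd_iff_isRoot]; simp [hc]
        simpa using this
      have hX1 : (X + 1) ∣ f - C c := by
        have : (X - C (-1:k)) ∣ f - C c := by
          rw [dvd_iff_isRoot]; simp [hc1]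
        simpa using this
      have hcop : IsCoprime (X : k[X]) (X + 1) := ⟨-1, 1, by ring⟩
      have hdvd : X * (X + 1) ∣ f - C c := hcop.mul_dvd hX hX1
      refine Submodule.mem_sup.mpr ⟨C c, ?_, f - C c, ⟨Ideal.mem_span_singleton.mpr hdvd, ?_⟩, by ring⟩
      · rw [Submodule.mem_span_singleton]
        exact ⟨c, by rw [smul_eq_C_mul, mul_one]⟩
      · show f - C c ∈ degreeLE k _
        rw [mem_degreeLE]
        refine (degree_sub_le _ _).trans (max_le ?_ (degree_C_le.trans (by exact_mod_cast Nat.zero_le _)))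
        by_cases hG0 : (G : k[X]) = 0
        · rw [hf, hG0, mul_zero]; simp
        rw [hf, degree_mul, degree_eq_natDegree hDmonic.ne_zero, degree_eq_natDegree hG0,
          hDdeg]
        rw [degree_eq_natDegree hG0] at hGd
        have : (G : k[X]).natDegree < 3 := by exact_mod_cast hGd
        have : i + j + (G : k[X]).natDegree ≤ a + 1 := by omega
        exact_mod_cast this
  rw [key, ← (Submodule.equivMapOfInjective _ hΦinj (LinearMap.ker lam)).finrank_eq]
  have hrn := LinearMap.finrank_range_add_finrank_ker lam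
  rw [finrank_degreeLT'] at hrn
  have hG1 : (X + 1 : k[X]) ∈ degreeLT k 3 := by
    rw [mem_degreeLT]
    have : (X + 1 : k[X]).degree = 1 := by
      rw [show (X + 1 : k[X]) = X + C 1 by simp, degree_X_add_C]
    rw [this]; decide
  have hG2 : (X : k[X]) ∈ degreeLT k 3 := by
    rw [mem_degreeLT, degree_X]; decide
  have hl1 : lam ⟨X + 1, hG1⟩ = D.eval 0 := by
    rw [hlam]; simp
  have hl2 : lam ⟨X, hG2⟩ = D.eval (-1) := by
    rw [hlam]; simp
  have h01 : (0 : k) ≠ -1 := by
    intro h
    have : (1 : k) = 0 := by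
      have := congrArg (fun x => -x) h
      simpa using this.symm
    exact one_ne_zero this
  constructor
  · intro h3
    have hr : Module.finrank k (LinearMap.range lam) = 0 := by omega
    have hbot : LinearMap.range lam = ⊥ := Submodule.finrank_eq_zero.mp hr
    have hz : ∀ G, lam G = 0 := by
      intro G
      have : lam G ∈ LinearMap.range lam := LinearMap.mem_range_self lam G
      rw [hbot] at this
      exact (Submodule.mem_bot k).mp this
    have h0 : D.eval 0 = 0 := by rw [← hl1]; exact hz _
    have h1 : D.eval (-1) = 0 := by rw [← hl2]; exact hz _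
    rcases hD0.mp h0 with hp | hq
    · rcases hD1.mp h1 with hp' | hq'
      · exact absurd (hp.symm.trans hp') h01
      · exact Or.inl ⟨hp, hq'⟩
    · rcases hD1.mp h1 with hp' | hq'
      · exact Or.inr ⟨hp', hq⟩
      · exact absurd (hq.symm.trans hq') h01
  · intro hcond
    have h0 : D.eval 0 = 0 := hD0.mpr (by rcases hcond with ⟨h, -⟩ | ⟨-, h⟩; exact Or.inl h; exact Or.inr h)
    have h1 : D.eval (-1) = 0 := hD1.mpr (by rcases hcond with ⟨-, h⟩ | ⟨h, -⟩; exact Or.inr h; exact Or.inl h)
    have hker : LinearMap.ker lam = ⊤ := by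
      rw [LinearMap.ker_eq_top]
      ext G
      rw [hlam, h0, h1]; simp
    rw [hker, finrank_top, finrank_degreeLT']


open Polynomial in
/-- Let `k` be a field of characteristic zero and `a, i, j` positive integers with `i + j = a - 1`. With
`A = 0`, `B = -1`, `C = ∞` on the projective line and `V` the `(a+1)`-dimensional system of
polynomials `c + X (X+1) F`, `deg F ≤ a - 1` (that is, `H⁰(ω((1+a)C)) ⊕ H⁰(ω(A+B)) ⊆ H⁰(O(a+1))`),
the pairs of points `(P, Q) = (p, q)` of the affine line with `dim V(-iP-jQ) ≥ 3`, i.e. with at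
least a three-dimensional subspace of `V` divisible by `(X-p)^i (X-q)^j`, are exactly `(A, B)` and
`(B, A)`. (Here `P, Q` range over the points other than `C`; when one of them is `C` the dimension
is at most two for degree reasons. The published statement is over the complex numbers.) -/
theorem result
    (k : Type*) [Field k] [CharZero k] (a i j : ℕ) (hi : 0 < i) (hj : 0 < j) (hij : i + j + 1 = a)
    (V : Submodule k (Polynomial k))
    (hV : V = Submodule.span k {(1 : Polynomial k)} ⊔
      ((Ideal.span {(X : Polynomial k) * (X + 1)}).restrictScalars k ⊓ Polynomial.degreeLE k ↑(a + 1)))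
    (p q : k) :
    3 ≤ Module.finrank k ↥(V ⊓ (Ideal.span {(X - C p) ^ i * (X - C q) ^ j}).restrictScalars k) ↔
      (p = 0 ∧ q = -1) ∨ (p = -1 ∧ q = 0) := by
  exact result' k a i j hi hj hij V hV p q

end Groth.Agent.S16264
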