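import Groth.Statements.S16265
import Groth.Agent.Lib.H40FunFldSeries
open Groth.Agent.Lib.H40FunFld

set_option autoImplicit false
open FunFld

namespace Groth.Agent.S16265

/-- Let `K/k` be a function field of one variable over an algebraically closed field `k` of
characteristic zero (the function field of a smooth projective curve), `D` a divisor and `V ⊆ L(D)`
a linear system of dimension `r + 1`; write `V(-mP-nQ) = V ∩ L(D - mP - nQ)` for the members
vanishing to the indicated orders. Assume `V` has no special ramification point, i.e. no place of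
weight at least two: for every place `R`, `dim V(-rR) ≤ 1` and `V(-(r+2)R) = 0`. Let `P ≠ Q` be
places and `a, b ≥ 1` with `a + b = r + 1` (so that `V(-aP)` and `V(-bQ)` have dimensions `b` and
`a`). Then the following are equivalent: (1) the system `V(-aP)` has weight at least two at `Q`,
that is `dim V(-aP-(b-1)Q) ≥ 2` or `dim V(-aP-(b+1)Q) ≥ 1`, and the system `V(-bQ)` has weight at
least two at `P`, that is `dim V(-(a-1)P-bQ) ≥ 2` or `dim V(-(a+1)P-bQ) ≥ 1`; (2) one of (a) `dim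
V(-(a+1)P-(b+1)Q) ≥ 1`, (b) `dim V(-(a-1)P-(b-1)Q) ≥ 3`, (c) `dim V(-aP-(b+1)Q) ≥ 1` and `dim
V(-(a-1)P-bQ) ≥ 2`, (d) `dim V(-(a+1)P-bQ) ≥ 1` and `dim V(-aP-(b-1)Q) ≥ 2`. (The published
statement is for a smooth curve over the complex numbers.) -/
theorem result
    (k K : Type*) [Field k] [IsAlgClosed k] [CharZero k] [Field K] [Algebra k K]
    (hK : FunFld.IsFunctionField k K) (D : FunFld.Divisor k K)
    (V : Submodule k K) (hVD : V ≤ FunFld.L D) (r : ℕ) (hr : Module.finrank k ↥V = r + 1)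
    (hns : ∀ R : FunFld.Place k K,
      Module.finrank k ↥(V ⊓ FunFld.L (D - Finsupp.single R (r : ℤ))) ≤ 1 ∧
        V ⊓ FunFld.L (D - Finsupp.single R ((r : ℤ) + 2)) = ⊥)
    (P Q : FunFld.Place k K) (hPQ : P ≠ Q) (a b : ℕ) (ha : 1 ≤ a) (hb : 1 ≤ b) (hab : a + b = r + 1) :
    ((2 ≤ Module.finrank k ↥(V ⊓ FunFld.L (D - Finsupp.single P (a : ℤ) - Finsupp.single Q ((b : ℤ) - 1 : ℤ))) ∨
        1 ≤ Module.finrank k ↥(V ⊓ FunFld.L (D - Finsupp.single P (a : ℤ) - Finsupp.single Q ((b : ℤ) + 1 : ℤ)))) ∧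
      (2 ≤ Module.finrank k ↥(V ⊓ FunFld.L (D - Finsupp.single P ((a : ℤ) - 1 : ℤ) - Finsupp.single Q (b : ℤ))) ∨
        1 ≤ Module.finrank k ↥(V ⊓ FunFld.L (D - Finsupp.single P ((a : ℤ) + 1 : ℤ) - Finsupp.single Q (b : ℤ))))) ↔
    (1 ≤ Module.finrank k ↥(V ⊓ FunFld.L (D - Finsupp.single P ((a : ℤ) + 1 : ℤ) - Finsupp.single Q ((b : ℤ) + 1 : ℤ))) ∨
      3 ≤ Module.finrank k ↥(V ⊓ FunFld.L (D - Finsupp.single P ((a : ℤ) - 1 : ℤ) - Finsupp.single Q ((b : ℤ) - 1 : ℤ))) ∨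
      (1 ≤ Module.finrank k ↥(V ⊓ FunFld.L (D - Finsupp.single P (a : ℤ) - Finsupp.single Q ((b : ℤ) + 1 : ℤ))) ∧
        2 ≤ Module.finrank k ↥(V ⊓ FunFld.L (D - Finsupp.single P ((a : ℤ) - 1 : ℤ) - Finsupp.single Q (b : ℤ)))) ∨
      (1 ≤ Module.finrank k ↥(V ⊓ FunFld.L (D - Finsupp.single P ((a : ℤ) + 1 : ℤ) - Finsupp.single Q (b : ℤ))) ∧
        2 ≤ Module.finrank k ↥(V ⊓ FunFld.L (D - Finsupp.single P (a : ℤ) - Finsupp.single Q ((b : ℤ) - 1 : ℤ))))) := by
  classical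
  have hPd := deg_eq_one_of_isAlgClosed hK P
  have hQd := deg_eq_one_of_isAlgClosed hK Q
  have hfinV : FiniteDimensional k ↥V := Module.finite_of_finrank_pos (by omega)
  set E : ℤ → ℤ → FunFld.Divisor k K :=
    fun m n => D - Finsupp.single P m - Finsupp.single Q n with hE
  set v : ℤ → ℤ → ℕ := fun m n => Module.finrank k ↥(V ⊓ FunFld.L (E m n)) with hv
  have hEP : ∀ m m' n, m' = m + 1 → E m' n = E m n - Finsupp.single P (1 : ℤ) := by
    intro m m' n h
    simp only [hE]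
    rw [h, Finsupp.single_add]; abel
  have hEQ : ∀ m n n', n' = n + 1 → E m n' = E m n - Finsupp.single Q (1 : ℤ) := by
    intro m n n' h
    simp only [hE]
    rw [h, Finsupp.single_add]; abel
  have hsingle_nonneg : ∀ R : FunFld.Place k K,
      (0 : FunFld.Divisor k K) ≤ Finsupp.single R (1 : ℤ) := by
    intro R
    rw [Finsupp.le_def]; intro S
    rw [Finsupp.zero_apply, Finsupp.single_apply]; split_ifs <;> norm_num
  have hstepP : ∀ m m' n, m' = m + 1 → v m n ≤ v m' n + 1 ∧ v m' n ≤ v m n := by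
    intro m m' n h
    refine ⟨finrank_inf_L_le_sub_single_add_one hK V hPd (hEP m m' n h), ?_⟩
    simp only [hv]
    rw [hEP m m' n h]
    have : FiniteDimensional k ↥(V ⊓ FunFld.L (E m n)) :=
      Submodule.finiteDimensional_of_le inf_le_left
    exact Submodule.finrank_mono (inf_le_inf_left V (L_mono (sub_le_self _ (hsingle_nonneg P))))
  have hstepQ : ∀ m n n', n' = n + 1 → v m n ≤ v m n' + 1 ∧ v m n' ≤ v m n := by
    intro m n n' h
    refine ⟨finrank_inf_L_le_sub_single_add_one hK V hQd (hEQ m n n' h), ?_⟩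
    simp only [hv]
    rw [hEQ m n n' h]
    have : FiniteDimensional k ↥(V ⊓ FunFld.L (E m n)) :=
      Submodule.finiteDimensional_of_le inf_le_left
    exact Submodule.finrank_mono (inf_le_inf_left V (L_mono (sub_le_self _ (hsingle_nonneg Q))))
  have hcount : ∀ m m' n n', m' = m + 1 → n' = n + 1 →
      v m' n + v m n' ≤ v m n + v m' n' := by
    intro m m' n n' h1 h2
    have hfin : FiniteDimensional k ↥(V ⊓ FunFld.L (E m n)) :=
      Submodule.finiteDimensional_of_le inf_le_left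
    apply finrank_add_le_of_inf_eq (Z := V ⊓ FunFld.L (E m n))
    · rw [hEP m m' n h1]
      exact inf_le_inf_left V (L_mono (sub_le_self _ (hsingle_nonneg P)))
    · rw [hEQ m n n' h2]
      exact inf_le_inf_left V (L_mono (sub_le_self _ (hsingle_nonneg Q)))
    · rw [← inf_inf_distrib_left, L_inf]
      congr 2
      ext R
      simp only [hE, h1, h2, Finsupp.inf_apply, Finsupp.sub_apply, Finsupp.single_apply]
      by_cases hRP : P = R
      · have hRQ : ¬ Q = R := fun h => hPQ (hRP.trans h.symm)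
        simp only [if_pos hRP, if_neg hRQ, sub_zero]
        rw [min_eq_left]; linarith
      · by_cases hRQ : Q = R
        · simp only [if_neg hRP, if_pos hRQ, sub_zero]
          rw [min_eq_right]; linarith
        · simp only [if_neg hRP, if_neg hRQ, sub_zero, min_self]
  -- the nine relevant values
  have p0 := hstepP ((a : ℤ) - 1) a ((b : ℤ) - 1) (by ring)
  have p1 := hstepP ((a : ℤ) - 1) a b (by ring)
  have p2 := hstepP ((a : ℤ) - 1) a ((b : ℤ) + 1) (by ring)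
  have p3 := hstepP a ((a : ℤ) + 1) ((b : ℤ) - 1) rfl
  have p4 := hstepP a ((a : ℤ) + 1) b rfl
  have p5 := hstepP a ((a : ℤ) + 1) ((b : ℤ) + 1) rfl
  have q0 := hstepQ ((a : ℤ) - 1) ((b : ℤ) - 1) b (by ring)
  have q1 := hstepQ a ((b : ℤ) - 1) b (by ring)
  have q2 := hstepQ ((a : ℤ) + 1) ((b : ℤ) - 1) b (by ring)
  have q3 := hstepQ ((a : ℤ) - 1) b ((b : ℤ) + 1) rfl
  have q4 := hstepQ a b ((b : ℤ) + 1) rfl
  have q5 := hstepQ ((a : ℤ) + 1) b ((b : ℤ) + 1) rfl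
  have c0 := hcount ((a : ℤ) - 1) a ((b : ℤ) - 1) b (by ring) (by ring)
  have c1 := hcount ((a : ℤ) - 1) a b ((b : ℤ) + 1) (by ring) rfl
  have c2 := hcount a ((a : ℤ) + 1) ((b : ℤ) - 1) b rfl (by ring)
  have c3 := hcount a ((a : ℤ) + 1) b ((b : ℤ) + 1) rfl rfl
  change ((2 ≤ v a ((b : ℤ) - 1) ∨ 1 ≤ v a ((b : ℤ) + 1)) ∧
      (2 ≤ v ((a : ℤ) - 1) b ∨ 1 ≤ v ((a : ℤ) + 1) b)) ↔
    (1 ≤ v ((a : ℤ) + 1) ((b : ℤ) + 1) ∨ 3 ≤ v ((a : ℤ) - 1) ((b : ℤ) - 1) ∨
      (1 ≤ v a ((b : ℤ) + 1) ∧ 2 ≤ v ((a : ℤ) - 1) b) ∨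
      (1 ≤ v ((a : ℤ) + 1) b ∧ 2 ≤ v a ((b : ℤ) - 1)))
  omega

end Groth.Agent.S16265
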