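import Groth.Statements.S16266
import Groth.Agent.Lib.H40FunFldSeries

set_option autoImplicit false
open FunFld

namespace Groth.Agent.S16266

/-- Let `K/k` be a function field of one variable over an algebraically closed field `k` of
characteristic zero, `D` a divisor, `V ⊆ L(D)` a linear system of dimension `r + 1` with `r ≥ 1`,
and `P` a place with `V' = V(-P) = V ∩ L(D - P) ≠ V`, an `r`-dimensional system in `L(D - P)`.
Assume that neither `V` nor `V'` has a special ramification point (a place of weight at least two):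
for every place `R`, `dim V ∩ L(D - rR) ≤ 1`, `V ∩ L(D - (r+2)R) = 0`, `dim V' ∩ L(D - P - (r-1)R) ≤
1` and `V' ∩ L(D - P - (r+1)R) = 0`. Then no place `Q ≠ P` is a ramification point of both `V` and
`V'`: for no such `Q` are both `V ∩ L(D - (r+1)Q)` and `V' ∩ L(D - P - rQ)` nonzero. (The published
statement is for a smooth curve over the complex numbers.) -/
theorem result
    (k K : Type*) [Field k] [IsAlgClosed k] [CharZero k] [Field K] [Algebra k K]
    (hK : FunFld.IsFunctionField k K) (D : FunFld.Divisor k K)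
    (V : Submodule k K) (hVD : V ≤ FunFld.L D) (r : ℕ) (hr : Module.finrank k ↥V = r + 1) (hr1 : 1 ≤ r)
    (P : FunFld.Place k K) (hP : V ⊓ FunFld.L (D - Finsupp.single P 1) ≠ V)
    (hns : ∀ R : FunFld.Place k K,
      Module.finrank k ↥(V ⊓ FunFld.L (D - Finsupp.single R (r : ℤ))) ≤ 1 ∧
        V ⊓ FunFld.L (D - Finsupp.single R ((r : ℤ) + 2)) = ⊥)
    (hns' : ∀ R : FunFld.Place k K,
      Module.finrank k ↥(V ⊓ FunFld.L (D - Finsupp.single P 1 - Finsupp.single R ((r : ℤ) - 1))) ≤ 1 ∧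
        V ⊓ FunFld.L (D - Finsupp.single P 1 - Finsupp.single R ((r : ℤ) + 1)) = ⊥)
    (Q : FunFld.Place k K) (hQP : Q ≠ P) :
    ¬ (V ⊓ FunFld.L (D - Finsupp.single Q ((r : ℤ) + 1)) ≠ ⊥ ∧
       V ⊓ FunFld.L (D - Finsupp.single P 1 - Finsupp.single Q (r : ℤ)) ≠ ⊥) := by
  rintro ⟨h1, h2⟩
  obtain ⟨s₁, hs₁, hs₁0⟩ := Submodule.exists_mem_ne_zero_of_ne_bot h1
  obtain ⟨s₂, hs₂, hs₂0⟩ := Submodule.exists_mem_ne_zero_of_ne_bot h2
  have hfinV : FiniteDimensional k ↥V := Module.finite_of_finrank_pos (by omega)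
  -- both lie in `V(-rQ)`, which has dimension at most one
  set W := V ⊓ FunFld.L (D - Finsupp.single Q (r : ℤ)) with hW
  have hfinW : FiniteDimensional k ↥W := Submodule.finiteDimensional_of_le inf_le_left
  have hm1 : s₁ ∈ W := by
    refine ⟨hs₁.1, Groth.Agent.Lib.H40FunFld.L_mono ?_ hs₁.2⟩
    exact sub_le_sub_left (Groth.Agent.Lib.H40FunFld.single_mono Q (by omega)) D
  have hm2 : s₂ ∈ W := by
    refine ⟨hs₂.1, Groth.Agent.Lib.H40FunFld.L_mono ?_ hs₂.2⟩
    have hnn : (0 : FunFld.Divisor k K) ≤ Finsupp.single P 1 := by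
      have := Groth.Agent.Lib.H40FunFld.single_mono (k := k) (K := K) P (show (0 : ℤ) ≤ 1 by norm_num)
      rwa [Finsupp.single_zero] at this
    have : D - Finsupp.single P 1 - Finsupp.single Q (r : ℤ) ≤ D - Finsupp.single Q (r : ℤ) := by
      have e : D - Finsupp.single P 1 - Finsupp.single Q (r : ℤ) =
          D - Finsupp.single Q (r : ℤ) - Finsupp.single P 1 := by abel
      rw [e]; exact sub_le_self _ hnn
    exact this
  have hle : Module.finrank k ↥W ≤ 1 := (hns Q).1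
  -- `s₁ = c • s₂`
  have hs₂' : (⟨s₂, hm2⟩ : W) ≠ 0 := fun h => hs₂0 (congrArg Subtype.val h)
  have hdim : Module.finrank k ↥W = 1 := by
    have : 0 < Module.finrank k ↥W := Module.finrank_pos_iff.2 ⟨⟨⟨s₂, hm2⟩, 0, hs₂'⟩⟩
    omega
  obtain ⟨c, hc⟩ := (finrank_eq_one_iff_of_nonzero' (⟨s₂, hm2⟩ : W) hs₂').1 hdim ⟨s₁, hm1⟩
  have hc' : c • s₂ = s₁ := congrArg Subtype.val hc
  -- hence `s₁` vanishes at `P` too
  have hs₁P : s₁ ∈ FunFld.L (D - Finsupp.single P 1 - Finsupp.single Q (r : ℤ)) := by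
    rw [← hc']; exact Submodule.smul_mem _ c hs₂.2
  have hmem : s₁ ∈ V ⊓ FunFld.L (D - Finsupp.single P 1 - Finsupp.single Q ((r : ℤ) + 1)) := by
    refine ⟨hs₁.1, ?_⟩
    have hi := Groth.Agent.Lib.H40FunFld.L_inf (D - Finsupp.single P 1 - Finsupp.single Q (r : ℤ))
      (D - Finsupp.single Q ((r : ℤ) + 1))
    have hmem' : s₁ ∈ FunFld.L (D - Finsupp.single P 1 - Finsupp.single Q (r : ℤ)) ⊓
        FunFld.L (D - Finsupp.single Q ((r : ℤ) + 1)) := ⟨hs₁P, hs₁.2⟩
    rw [hi] at hmem'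
    refine Groth.Agent.Lib.H40FunFld.L_mono ?_ hmem'
    classical
    intro R
    simp only [Finsupp.inf_apply, Finsupp.sub_apply, Finsupp.single_apply]
    split_ifs with a b
    · exact absurd (b.trans a.symm) hQP
    · omega
    · omega
    · omega
  rw [(hns' Q).2] at hmem
  exact hs₁0 ((Submodule.mem_bot k).1 hmem)

end Groth.Agent.S16266
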