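import Groth.Statements.S16268
-- import your own Groth.Agent.* helpers here

set_option autoImplicit false
universe u w
open CategoryTheory CategoryTheory.Limits AlgebraicGeometry Opposite
open EtCore

namespace Groth.Agent.S16268

universe v₁ u₁

/-- General form: `T` terminal, `Y ⨯ Y` "injectively covered" by the graphs of the automorphisms `σ g`. -/
theorem aux {C : Type u₁} [Category.{v₁} C] {T Y : C} (hT : IsTerminal T) [HasBinaryProduct Y Y]
    {G : Type*} [Group G] (σ : G →* Aut Y) (P : Cᵒᵖ ⥤ Type w)
    (hinj : Function.Injective (fun s : P.obj (op (Y ⨯ Y)) => fun g : G =>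
      P.map (prod.lift (𝟙 Y) (σ g).hom).op s)) :
    Presieve.IsSheafFor P (Presieve.singleton (hT.from Y)) ↔
      (Function.Injective (P.map (hT.from Y).op) ∧
        Set.range (P.map (hT.from Y).op) = {s | ∀ g : G, P.map (σ g).hom.op s = s}) := by
  -- compatibility is `G`-invariance
  have hcompat : ∀ x : P.obj (op Y),
      (∀ {Z : C} (p₁ p₂ : Z ⟶ Y), p₁ ≫ hT.from Y = p₂ ≫ hT.from Y → P.map p₁.op x = P.map p₂.op x) ↔
        ∀ g : G, P.map (σ g).hom.op x = x := by
    intro x
    constructor
    · intro h g
      have := h (σ g).hom (𝟙 Y) (hT.hom_ext _ _)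
      rw [this, op_id, P.map_id]
      rfl
    · intro h Z p₁ p₂ _
      have hfs : P.map (prod.fst : Y ⨯ Y ⟶ Y).op x = P.map (prod.snd : Y ⨯ Y ⟶ Y).op x := by
        apply hinj
        funext g
        change P.map (prod.lift (𝟙 Y) (σ g).hom).op (P.map (prod.fst : Y ⨯ Y ⟶ Y).op x) =
          P.map (prod.lift (𝟙 Y) (σ g).hom).op (P.map (prod.snd : Y ⨯ Y ⟶ Y).op x)
        rw [← Functor.map_comp_apply, ← Functor.map_comp_apply, ← op_comp, ← op_comp, prod.lift_fst,
          prod.lift_snd, h g, op_id, P.map_id]
        rfl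
      have h1 : P.map p₁.op x = P.map (prod.lift p₁ p₂).op (P.map (prod.fst : Y ⨯ Y ⟶ Y).op x) := by
        rw [← Functor.map_comp_apply, ← op_comp, prod.lift_fst]
      have h2 : P.map p₂.op x = P.map (prod.lift p₁ p₂).op (P.map (prod.snd : Y ⨯ Y ⟶ Y).op x) := by
        rw [← Functor.map_comp_apply, ← op_comp, prod.lift_snd]
      rw [h1, h2, hfs]
  rw [Presieve.isSheafFor_singleton]
  constructor
  · intro h
    refine ⟨?_, ?_⟩
    · intro y y' hyy
      have hc : ∀ {Z : C} (p₁ p₂ : Z ⟶ Y), p₁ ≫ hT.from Y = p₂ ≫ hT.from Y →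
          P.map p₁.op (P.map (hT.from Y).op y) = P.map p₂.op (P.map (hT.from Y).op y) := by
        intro Z p₁ p₂ hp
        rw [← Functor.map_comp_apply, ← Functor.map_comp_apply, ← op_comp, ← op_comp, hp]
      obtain ⟨t, -, ht⟩ := h _ hc
      exact (ht y rfl).trans (ht y' hyy.symm).symm
    · ext x
      constructor
      · rintro ⟨y, rfl⟩ g
        change P.map (σ g).hom.op (P.map (hT.from Y).op y) = P.map (hT.from Y).op y
        rw [← Functor.map_comp_apply, ← op_comp, hT.hom_ext ((σ g).hom ≫ hT.from Y) (hT.from Y)]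
      · intro hx
        obtain ⟨t, ht, -⟩ := h x ((hcompat x).2 hx)
        exact ⟨t, ht⟩
  · rintro ⟨hi, hr⟩ x hx
    have hx' : x ∈ Set.range (P.map (hT.from Y).op) := by
      rw [hr]
      exact (hcompat x).1 hx
    obtain ⟨t, ht⟩ := hx'
    exact ⟨t, ht, fun t' ht' => hi (ht'.trans ht.symm)⟩

/-- Let X be a scheme, Y an etale X-scheme with Y -> X surjective, and G a finite group acting on Y by
X-automorphisms such that the morphisms (id, g) : Y -> Y x_X Y exhibit Y x_X Y as the coproduct of
copies of Y indexed by G (Y -> X is a Galois covering with group G). Let P be a presheaf of sets on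
the small etale site of X which takes this coproduct to a product: s |-> (g |-> (id, g)^* s) is a
bijection from P(Y x_X Y) onto the G-indexed families in P(Y). Then P satisfies the sheaf condition
for the covering consisting of the single morphism Y -> X if and only if the restriction P(X) ->
P(Y) is injective and its image is the set of G-invariant elements of P(Y). -/
theorem result (X : Scheme.{u})
    (Y : X.Etale) (hY : Function.Surjective Y.hom.base)
    {G : Type u} [Group G] [Finite G] (σ : G →* Aut Y)
    (hgal : Nonempty (IsColimit (Cofan.mk (Y ⨯ Y) (fun g : G => prod.lift (𝟙 Y) (σ g).hom))))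
    (P : X.Etaleᵒᵖ ⥤ Type w)
    (hP : Function.Bijective (fun s : P.obj (op (Y ⨯ Y)) => fun g : G => P.map (prod.lift (𝟙 Y) (σ g).hom).op s)) :
    Presieve.IsSheafFor P (Presieve.singleton ((EtCore.topIsTerminal X).from Y)) ↔
      (Function.Injective (P.map ((EtCore.topIsTerminal X).from Y).op) ∧
        Set.range (P.map ((EtCore.topIsTerminal X).from Y).op) = {s | ∀ g : G, P.map (σ g).hom.op s = s}) := by
  exact aux (EtCore.topIsTerminal X) σ P hP.1

end Groth.Agent.S16268
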