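import Groth.Statements.S16269
import Groth.Agent.S16268
import Groth.Agent.Lib.EtCoprod
import Mathlib.CategoryTheory.Sites.Whiskering

set_option autoImplicit false
universe u w
open CategoryTheory CategoryTheory.Limits AlgebraicGeometry Opposite
open EtCore

namespace Groth.Agent.S16269

/-- Let X be a scheme, Y an etale X-scheme with Y -> X surjective, and G a finite group acting on Y by
X-automorphisms such that the morphisms (id, g) : Y -> Y x_X Y exhibit Y x_X Y as the coproduct of
copies of Y indexed by G (a Galois covering with group G). For an abelian sheaf F on the small etale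
site of X, the restriction map F(X) -> F(Y) is injective and its image is the set of sections of F
over Y fixed by every element of G. -/
theorem result (X : Scheme.{u})
    (Y : X.Etale) (hY : Function.Surjective Y.hom.base)
    {G : Type u} [Group G] [Finite G] (σ : G →* Aut Y)
    (hgal : Nonempty (IsColimit (Cofan.mk (Y ⨯ Y) (fun g : G => prod.lift (𝟙 Y) (σ g).hom))))
    (F : EtCoh.Ab X) :
    Function.Injective (F.obj.map ((EtCore.topIsTerminal X).from Y).op) ∧
      Set.range (F.obj.map ((EtCore.topIsTerminal X).from Y).op) =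
        {s : EtCoh.sect F Y | ∀ g : G, F.obj.map (σ g).hom.op s = s} := by
  obtain ⟨hc⟩ := hgal
  let P : X.Etaleᵒᵖ ⥤ Type (u + 1) := F.obj ⋙ forget AddCommGrpCat.{u + 1}
  have hPsh : Presieve.IsSheaf X.smallEtaleTopology P :=
    (isSheaf_iff_isSheaf_of_type _ _).1
      ((sheafCompose X.smallEtaleTopology (forget AddCommGrpCat.{u + 1})).obj F).2
  have h1 : Presieve.IsSheafFor P (Presieve.singleton ((EtCore.topIsTerminal X).from Y)) := by
    rw [Presieve.isSheafFor_iff_generate]
    apply hPsh
    have hcov : Sieve.ofArrows (fun _ : Unit => Y) (fun _ => (EtCore.topIsTerminal X).from Y) ∈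
        X.smallEtaleTopology (EtCoh.top X) := by
      rw [Scheme.ofArrows_mem_smallEtaleTopology_iff]
      apply Set.eq_univ_of_forall
      intro x
      obtain ⟨y, hy⟩ := hY x
      simp only [Set.mem_iUnion, Set.mem_range]
      refine ⟨(), y, ?_⟩
      have e1 : ((EtCore.topIsTerminal X).from Y).left ≫ 𝟙 X = Y.hom :=
        Over.w ((EtCore.topIsTerminal X).from Y).hom
      have e2 : ((EtCore.topIsTerminal X).from Y).left = Y.hom := (Category.comp_id _).symm.trans e1
      rw [e2]
      exact hy
    have e : Sieve.generate (Presieve.singleton ((EtCore.topIsTerminal X).from Y)) =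
        Sieve.ofArrows (fun _ : Unit => Y) (fun _ => (EtCore.topIsTerminal X).from Y) := by
      rw [Sieve.ofArrows, Presieve.ofArrows_pUnit]
    rw [e]
    exact hcov
  have h2 : Function.Injective (fun s : P.obj (op (Y ⨯ Y)) => fun g : G =>
      P.map (prod.lift (𝟙 Y) (σ g).hom).op s) := by
    intro s s' hss
    have hcov : Sieve.ofArrows (fun _ : G => Y) (fun g => prod.lift (𝟙 Y) (σ g).hom) ∈
        X.smallEtaleTopology (Y ⨯ Y) := by
      rw [Scheme.ofArrows_mem_smallEtaleTopology_iff]
      exact Groth.Agent.Lib.EtCoprod.iUnion_range_eq_univ_of_isColimit _ _ hc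
    apply (hPsh _ hcov).isSeparatedFor.ext
    intro Z a ha
    obtain ⟨g, b, rfl⟩ := (Sieve.mem_ofArrows_iff _ _ _).1 ha
    have hg := congrFun hss g
    change P.map (prod.lift (𝟙 Y) (σ g).hom).op s = P.map (prod.lift (𝟙 Y) (σ g).hom).op s' at hg
    rw [op_comp, Functor.map_comp_apply, Functor.map_comp_apply, hg]
  exact (Groth.Agent.S16268.aux (EtCore.topIsTerminal X) σ P h2).1 h1

end Groth.Agent.S16269
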