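import Groth.Statements.S1627
import Groth.Agent.S1625
import Groth.Agent.S1530
import Groth.Agent.Lib.DiscExt42
import Groth.Agent.Lib.AmpleAffineH3
import Groth.Agent.Lib.DegCurve54b
import Groth.Agent.Lib.ProjSpaceProper

set_option autoImplicit false
universe u
open CategoryTheory CategoryTheory.Limits AlgebraicGeometry
open Variety

namespace Groth.Agent.S1627

/-- A curve X over k (integral, separated, of finite type, of dimension one) is either affine or
H-projective, i.e. admits a closed immersion into some P^d_k over k. -/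
theorem result (k : Type u) [Field k] (X : Scheme.{u}) [X.Over (Spec (CommRingCat.of k))] [IsIntegral X] [IsSeparated (X ↘ (Spec (CommRingCat.of k)))] [LocallyOfFiniteType (X ↘ (Spec (CommRingCat.of k)))] [QuasiCompact (X ↘ (Spec (CommRingCat.of k)))] (hdim : topologicalKrullDim X = 1) :
    IsAffine X ∨ ∃ (d : ℕ) (c : X ⟶ CohB1.ProjSpace d k), IsClosedImmersion c ∧ c ≫ CohB1.ProjSpace.toSpec d k = X ↘ (Spec (CommRingCat.of k)) := by
  obtain ⟨d, Y, c, j, hc, hj, hcomp, hdense, hsd, hfin, hclosed⟩ :=
    Groth.Agent.S1625.result k X hdim.le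
  have := hc
  have := hj
  have := hsd
  by_cases hsurj : Function.Surjective j.base
  · right
    have : Surjective j := ⟨hsurj⟩
    have : IsIso j := (isIso_iff_isOpenImmersion_and_surjective j).mpr ⟨inferInstance, inferInstance⟩
    exact ⟨d, j ≫ c, inferInstance, by rw [Category.assoc]; exact hcomp⟩
  · left
    have hproper : IsProper (CohB1.ProjSpace.toSpec d k) :=
      Groth.Agent.Lib.ProjSpaceProper.isProper_toSpec d k
    let : Y.Over (Spec (CommRingCat.of k)) := ⟨c ≫ CohB1.ProjSpace.toSpec d k⟩
    have : IsProper (Y ↘ (Spec (CommRingCat.of k))) := by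
      change IsProper (c ≫ CohB1.ProjSpace.toSpec d k)
      infer_instance
    have : LocallyOfFiniteType (Y ↘ (Spec (CommRingCat.of k))) := inferInstance
    have : IsLocallyNoetherian Y :=
      LocallyOfFiniteType.isLocallyNoetherian (Y ↘ (Spec (CommRingCat.of k)))
    have : QuasiCompact (j ≫ c ≫ CohB1.ProjSpace.toSpec d k) := hcomp ▸ inferInstance
    have : QuasiCompact j := QuasiCompact.of_comp j (c ≫ CohB1.ProjSpace.toSpec d k)
    have : IsReduced Y := IsSchemeTheoreticallyDominant.isReduced j
    have : IrreducibleSpace Y := by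
      rw [irreducibleSpace_def]
      have h1 : IsIrreducible (Set.range j.base) := by
        rw [← Set.image_univ]
        exact (IrreducibleSpace.isIrreducible_univ X).image _ j.continuous.continuousOn
      have h2 := h1.closure
      rwa [hdense.closure_eq] at h2
    have : IsIntegral Y := isIntegral_of_irreducibleSpace_of_isReduced Y
    have hopen : IsOpen (Set.range j.base) := j.isOpenEmbedding.isOpen_range
    have hdimY : topologicalKrullDim Y = 1 := by
      rw [← Groth.Agent.Lib.H8DenseDim.dim_dense_open k Y (Set.range j.base) hopen hdense]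
      have e : X ≃ₜ Set.range j.base := j.isOpenEmbedding.isEmbedding.toHomeomorph
      rw [← e.isHomeomorph.topologicalKrullDim_eq]
      exact hdim
    let U : Y.Opens := j.opensRange
    obtain ⟨z, hz⟩ : ∃ z : Y, z ∉ U := by
      by_contra h
      simp only [not_exists, not_not] at h
      exact hsurj (fun y => h y)
    have hstalk : ∀ x : Y, IsNoetherianRing (Y.presheaf.stalk x) ∧ ringKrullDim (Y.presheaf.stalk x) ≤ 1 :=
      fun x => ⟨inferInstance, (Groth.Agent.Lib.RegularDimOne.dim_stalk_le Y x).trans hdimY.le⟩
    have hUc : ((U : Set Y)ᶜ) = (Set.range j.base)ᶜ := rfl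
    have hfinU : ((U : Set Y)ᶜ).Finite := hfin
    have hdisc : DiscreteTopology ↥((U : Set Y)ᶜ) := by
      have : Finite ↥((U : Set Y)ᶜ) := hfinU.to_subtype
      have : T1Space ↥((U : Set Y)ᶜ) := ⟨fun y => by
        have h1 : IsClosed ({y.1} : Set Y) := hclosed y.1 y.2
        have h2 : ({y} : Set ↥((U : Set Y)ᶜ)) = Subtype.val ⁻¹' ({y.1} : Set Y) := by
          ext w
          simp only [Set.mem_singleton_iff, Set.mem_preimage]
          exact ⟨fun h => congrArg Subtype.val h, fun h => Subtype.ext h⟩
        rw [h2]
        exact h1.preimage continuous_subtype_val⟩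
      infer_instance
    have : CompactSpace Y := QuasiCompact.compactSpace_of_compactSpace (Y ↘ (Spec (CommRingCat.of k)))
    have : IsNoetherian Y := {}
    have : CompactSpace (U : Scheme.{u}) :=
      isCompact_iff_compactSpace.mp (TopologicalSpace.NoetherianSpace.isCompact (U : Set Y))
    have : QuasiCompact U.ι := inferInstance
    obtain ⟨L, s, hL, hgen⟩ := Groth.Agent.Lib.DiscExt42.exists_invertible_genLocus_eq U hdisc
      (fun x _ => hstalk x)
    have H : Groth.Agent.Lib.ProperFinHyp.Hyp.{u} := fun A _ _ X _ _ M hM n =>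
      Groth.Agent.S0002.result A X M hM n
    obtain ⟨x₀⟩ : Nonempty X := inferInstance
    have hs : s ≠ 0 := by
      intro h0
      have hx : j.base x₀ ∈ CohB1.genLocus L s := by
        rw [hgen]
        exact ⟨x₀, rfl⟩
      rw [h0] at hx
      exact Groth.Agent.Lib.CurveAmple54.not_mem_genLocus_zero L _ hx
    have hpos : 0 < Curv2.deg k Y L 1 :=
      Groth.Agent.Lib.DegCurve54b.deg_pos H k Y hdimY hL s hs z (hgen ▸ hz)
    have hamp : CohB1.IsAmple L := (Groth.Agent.S1530.result k Y hdimY L hL).mpr hpos
    have haff := Groth.Agent.Lib.AmpleAffineH3.isAffineOpen_genLocus_of_universallyClosed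
      (Y ↘ (Spec (CommRingCat.of k))) hamp s
    rw [hgen] at haff
    have : IsAffine (U : Scheme.{u}) := haff
    exact IsAffine.of_isIso (j.isoOpensRange).hom

end Groth.Agent.S1627
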