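-- Statement S1628.
import Groth.Statements.S1628
import Groth.Agent.S1535
import Groth.Agent.Lib.RegularLocal
import Mathlib

set_option autoImplicit false
universe u
open CategoryTheory CategoryTheory.Limits AlgebraicGeometry
open Variety

namespace Groth.Agent.S1628

/-- A scheme smooth over a field has regular local rings (S1535 with explicit structure map). -/
theorem regular_stalk_of_smooth (K : Type u) [Field K] (Z : Scheme.{u})
    (g : Z ⟶ Spec (CommRingCat.of K)) [Smooth g] (z : Z) :
    IsRegularLocalRing (Z.presheaf.stalk z) := by
  letI : Z.Over (Spec (CommRingCat.of K)) := ⟨g⟩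
  haveI : Smooth (Z ↘ Spec (CommRingCat.of K)) := ‹Smooth g›
  exact Groth.Agent.S1535.result K Z z

theorem isReduced_of_smooth (K : Type u) [Field K] (Z : Scheme.{u})
    (g : Z ⟶ Spec (CommRingCat.of K)) [Smooth g] : IsReduced Z := by
  haveI : ∀ z : Z, _root_.IsReduced (Z.presheaf.stalk z) := fun z => by
    haveI := regular_stalk_of_smooth K Z g z
    haveI : IsDomain (Z.presheaf.stalk z) := Groth.Agent.Lib.RegularLocal.isDomain _
    infer_instance
  exact isReduced_of_isReduced_stalk Z

/-- If X is smooth over a field k then X is geometrically reduced over k and geometrically regular at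
every point. -/
theorem result (k : Type u) [Field k] (X : Scheme.{u}) [X.Over (Spec (CommRingCat.of k))] [Smooth (X ↘ (Spec (CommRingCat.of k)))] :
    GeometricallyReduced (X ↘ (Spec (CommRingCat.of k))) ∧ ∀ x : X, Curv2.IsGeomRegularAt k X x := by
  constructor
  · refine ⟨fun K _ y Z fst snd h => ?_⟩
    haveI : Smooth snd := MorphismProperty.of_isPullback h inferInstance
    exact isReduced_of_smooth K Z snd
  · intro x k' _ _ _ x' _
    haveI : Smooth (Curv2.bcSnd k X k') := by
      unfold Curv2.bcSnd
      infer_instance
    exact regular_stalk_of_smooth k' _ (Curv2.bcSnd k X k') x'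

end Groth.Agent.S1628
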