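import Groth.Statements.S16283
import Groth.Agent.S11319
import Groth.Agent.S0865
import Groth.Agent.Lib.GrothSS21C
import Groth.Agent.Lib.ModSiteHomAcyc
import Groth.Agent.Lib.CechAcyc5
import Groth.Agent.Lib.RightDerivedPostComp
import Mathlib.Topology.Sheaves.SheafCondition.Sites

set_option autoImplicit false
universe u
open CategoryTheory CategoryTheory.Limits AlgebraicGeometry ZeroObject
open Coherent

namespace Groth.Agent.S16283

section Helpers

/-- a faithful functor preserving zero morphisms reflects zero objects -/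
lemma isZero_of_faithful_map {C D : Type*} [Category C] [Category D] [HasZeroMorphisms C]
    [HasZeroMorphisms D] (F : C ⥤ D) [F.PreservesZeroMorphisms] [F.Faithful] (X : C)
    (h : IsZero (F.obj X)) : IsZero X := by
  rw [IsZero.iff_id_eq_zero]
  apply F.map_injective
  rw [F.map_id, F.map_zero]
  exact (IsZero.iff_id_eq_zero _).1 h

/-- the key acyclicity: `R^{q+1} g_* (f_* Hom(F, Q)) = 0` for `Q` injective. -/
lemma isZero_Rpush_push_sheafHom {X Y Z : Scheme.{u}} (f : X ⟶ Y) (g : Y ⟶ Z)
    (F : X.Modules) [ModSite.HasSheafHom (O := X.sheaf) F] [HasInjectiveResolutions Y.Modules]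
    (Q : ModSite.Mod X.sheaf) (hQ : Injective Q) (q : ℕ) :
    IsZero ((Coh.Rpush g (q + 1)).obj ((Scheme.Modules.pushforward f).obj
      ((ModSite.sheafHom (O := X.sheaf) F).obj Q))) := by
  have hacyc := Groth.Agent.Lib.ModSiteHomAcyc.isTotallyAcyclic_sheafHom_injective X.sheaf F Q
  have : PreservesFiniteLimits (Groth.Agent.Lib.CechAcyc5.us (Opens.grothendieckTopology X)
      (Opens.grothendieckTopology Y) (TopologicalSpace.Opens.map f.base)) := by
    apply Functor.sheafPullbackConstruction.preservesFiniteLimits
  have hpush : CohCx.IsTotallyAcyclic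
      ((CohSite.push (Opens.grothendieckTopology X) (Opens.grothendieckTopology Y)
        (TopologicalSpace.Opens.map f.base)).obj
        (ModSite.toAb ((ModSite.sheafHom (O := X.sheaf) F).obj Q))) :=
    Groth.Agent.Lib.CechAcyc5.isTotallyAcyclic_push _ _ _ _ hacyc
  have hz := Groth.Agent.S0865.result (Opens.grothendieckTopology Y) (Opens.grothendieckTopology Z)
    (TopologicalSpace.Opens.map g.base) _ hpush q
  obtain ⟨e⟩ := Groth.Agent.S11319.result g ((Scheme.Modules.pushforward f).obj
      ((ModSite.sheafHom (O := X.sheaf) F).obj Q)) (q + 1)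
  have hz' : IsZero (Coh.toAb ((Coh.Rpush g (q + 1)).obj ((Scheme.Modules.pushforward f).obj
      ((ModSite.sheafHom (O := X.sheaf) F).obj Q)))) := IsZero.of_iso hz e
  exact isZero_of_faithful_map (SheafOfModules.toSheaf _) _ hz'

end Helpers

/-- Let f : X → Y and g : Y → Z be morphisms of schemes, h = g ∘ f, and F, G O_X-modules. For a morphism
u out of X write Ext^b_u(F, -) for the b-th right derived functor of the left exact functor G ↦ u_*
Hom_{O_X}(F, G) from O_X-modules. Then there is an E₂ spectral sequence of O_Z-modules with E₂^{a,b}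
≅ R^a g_*(Ext^b_f(F, G)) for a, b ≥ 0 (and 0 otherwise), bounded, abutting with finite filtrations
to Ext^n_h(F, G) (n ≥ 0; 0 for n < 0). (Stated for schemes, the published statement being for ringed
spaces. Existence only: the E₂ identifications and the abutment are some isomorphisms. The internal
Hom functor of F, injective resolutions on X and Y and additivity of the composite functors are the
stated instance hypotheses, all true.) -/
theorem result (X Y Z : Scheme.{u}) (f : X ⟶ Y) (g : Y ⟶ Z)
    (F G : X.Modules)
    [ModSite.HasSheafHom (O := X.sheaf) F] [HasInjectiveResolutions (ModSite.Mod X.sheaf)] [HasInjectiveResolutions Y.Modules]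
    [(ModSite.sheafHom (O := X.sheaf) F ⋙ Scheme.Modules.pushforward f).Additive]
    [(ModSite.sheafHom (O := X.sheaf) F ⋙ Scheme.Modules.pushforward (f ≫ g)).Additive] :
    ∃ (E : E₂CohomologicalSpectralSequence Z.Modules)
      (a : SpSeq.Abutment E (fun n : ℤ =>
        if 0 ≤ n then ((ModSite.sheafHom (O := X.sheaf) F ⋙ Scheme.Modules.pushforward (f ≫ g)).rightDerived n.toNat).obj G else (0 : Z.Modules))),
      (∀ n : ℤ, a.IsFinite n) ∧ SpSeq.IsBounded E ∧
      ∀ p q : ℤ, Nonempty ((E.page 2 le_rfl).X (p, q) ≅
        (if 0 ≤ p ∧ 0 ≤ q then (Coh.Rpush g p.toNat).obj (((ModSite.sheafHom (O := X.sheaf) F ⋙ Scheme.Modules.pushforward f).rightDerived q.toNat).obj G)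
          else (0 : Z.Modules))) := by
  have : PreservesFiniteLimits (Scheme.Modules.pushforward g) :=
    have h : PreservesLimitsOfSize.{0, 0} (Scheme.Modules.pushforward g) :=
      (Scheme.Modules.pullbackPushforwardAdjunction g).rightAdjoint_preservesLimits
    h.preservesFiniteLimits
  refine Groth.Agent.Lib.GrothSS21.exists_grothendieck_spectralSequence_gen
    (ModSite.sheafHom (O := X.sheaf) F ⋙ Scheme.Modules.pushforward f)
    (Scheme.Modules.pushforward g) (fun Q hQ q hq => ?_) G (0 : Z.Modules) (isZero_zero _)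
    (fun n => ((ModSite.sheafHom (O := X.sheaf) F ⋙
      Scheme.Modules.pushforward (f ≫ g)).rightDerived n).obj G) (fun n => ?_)
    (fun p q => (Coh.Rpush g p).obj (((ModSite.sheafHom (O := X.sheaf) F ⋙
      Scheme.Modules.pushforward f).rightDerived q).obj G)) (fun p q => ⟨Iso.refl _⟩)
  · obtain ⟨k, rfl⟩ : ∃ k, q = k + 1 := ⟨q - 1, by omega⟩
    exact isZero_Rpush_push_sheafHom f g F Q hQ k
  · exact ⟨(Groth.Agent.Lib.RightDerivedPostComp.rightDerivedIsoOfIso
      (Functor.associator _ _ _ ≪≫ Functor.isoWhiskerLeft (ModSite.sheafHom (O := X.sheaf) F)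
        (Scheme.Modules.pushforwardComp f g)) n).app G⟩

end Groth.Agent.S16283
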