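import Groth.Statements.S16288
import Groth.Agent.Lib.TFunRank2

set_option autoImplicit false
universe u
open CategoryTheory
open FlatCx

namespace Groth.Agent.S16288

/-- Let A be a Noetherian ring and P a chain complex of finitely generated flat A-modules, and for p and
a point x of Spec A let d_p(x) = dim_{k(x)} H_p(P ⊗_A k(x)). Fix p and a point z. If d_{p-1} and
d_{p+1} are constant on some neighbourhood of z, then d_p is constant on some neighbourhood of z.
(The published assertion concerns the function y ↦ dim H^p(X_y, F_y) for a coherent sheaf F flat
over a projective morphism of Noetherian schemes X → Y: if it is not constant near a point, then the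
functions for p - 1 and p + 1 are not both constant near that point. Stated here is the
corresponding property for any chain complex of finitely generated flat modules over a Noetherian
ring, from which the published form follows by applying it to a finite complex of such modules
computing the cohomology of the fibres.) -/
theorem result {A : Type u} [CommRing A] [IsNoetherianRing A]
    (P : ChainComplex (ModuleCat.{u} A) ℤ) (hP : ∀ i, Module.Finite A (P.X i) ∧ Module.Flat A (P.X i))
    (p : ℤ) (z : PrimeSpectrum A)
    (hlo : ∀ᶠ x in nhds z, CohIII.dRank P (p - 1) x = CohIII.dRank P (p - 1) z)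
    (hhi : ∀ᶠ x in nhds z, CohIII.dRank P (p + 1) x = CohIII.dRank P (p + 1) z) :
    ∀ᶠ x in nhds z, CohIII.dRank P p x = CohIII.dRank P p z := by
  have hfin : ∀ i, Module.Finite A (P.X i) := fun i => (hP i).1
  have hflat : ∀ i, Module.Flat A (P.X i) := fun i => (hP i).2
  have hfp : ∀ i, Module.FinitePresentation A (P.X i) :=
    fun i => Module.finitePresentation_of_finite A _
  have r1 : (ComplexShape.down ℤ).Rel (p + 1) p := rfl
  have r2 : (ComplexShape.down ℤ).Rel p (p - 1) := by
    show p - 1 + 1 = p
    ring
  have r3 : (ComplexShape.down ℤ).Rel (p - 1) (p - 1 - 1) := by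
    show p - 1 - 1 + 1 = p - 1
    ring
  have h1 := (Groth.Agent.Lib.TFunRank.eventually_cRank_eq P (p + 1) p r1 z hhi).2
  have h2 := (Groth.Agent.Lib.TFunRank.eventually_cRank_eq P (p - 1) (p - 1 - 1) r3 z hlo).1
  exact Groth.Agent.Lib.TFunRank.eventually_dRank_eq P p (p - 1) r2 z h1 h2

end Groth.Agent.S16288
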