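import Groth.Statements.S1630

set_option autoImplicit false
universe u
open CategoryTheory CategoryTheory.Limits AlgebraicGeometry
open Variety

namespace Groth.Agent.S1630

/-- A space covered by a nonempty family of irreducible open subsets that pairwise meet is irreducible. -/
theorem irreducibleSpace_of_cover {Z : Type*} [TopologicalSpace Z] {ι : Type*} (V : ι → Set Z)
    (hne : Nonempty ι) (hopen : ∀ i, IsOpen (V i)) (hcov : ⋃ i, V i = Set.univ)
    (hirr : ∀ i, IsIrreducible (V i)) (hmeet : ∀ i j, (V i ∩ V j).Nonempty) :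
    IrreducibleSpace Z := by
  have hpre : IsPreirreducible (Set.univ : Set Z) := by
    intro A B hA hB hAne hBne
    obtain ⟨a, -, haA⟩ := hAne
    obtain ⟨b, -, hbB⟩ := hBne
    obtain ⟨i, hai⟩ : ∃ i, a ∈ V i := by
      have : a ∈ ⋃ i, V i := hcov ▸ Set.mem_univ a
      simpa using this
    obtain ⟨j, hbj⟩ : ∃ j, b ∈ V j := by
      have : b ∈ ⋃ i, V i := hcov ▸ Set.mem_univ b
      simpa using this
    -- in V i, the opens A and V j both meet V i
    obtain ⟨c, hci, hcA, hcj⟩ := (hirr i).2 A (V j) hA (hopen j) ⟨a, hai, haA⟩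
      (by obtain ⟨z, hz⟩ := hmeet i j; exact ⟨z, hz.1, hz.2⟩)
    obtain ⟨d, hdj, hdA, hdB⟩ := (hirr j).2 A B hA hB ⟨c, hcj, hcA⟩ ⟨b, hbj, hbB⟩
    exact ⟨d, Set.mem_univ d, hdA, hdB⟩
  have : Nonempty Z := by
    obtain ⟨i⟩ := hne
    obtain ⟨z, -⟩ := (hirr i).1
    exact ⟨z⟩
  have hP : PreirreducibleSpace Z := ⟨hpre⟩
  exact { toPreirreducibleSpace := hP, toNonempty := this }

/-- Let X be a scheme over k. If X has a cover by a nonempty family of open subschemes, each
geometrically irreducible over k and any two of which meet, then X is geometrically irreducible over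
k. -/
theorem result (k : Type u) [Field k] (X : Scheme.{u}) [X.Over (Spec (CommRingCat.of k))]
    (ι : Type u) (U : ι → X.Opens) (hne : Nonempty ι) (hcov : (⨆ i, U i) = ⊤)
    (hmeet : ∀ i j, ((U i : Set X) ∩ (U j : Set X)).Nonempty)
    (hU : ∀ i, GeometricallyIrreducible ((U i).ι ≫ (X ↘ (Spec (CommRingCat.of k))))) : GeometricallyIrreducible (X ↘ (Spec (CommRingCat.of k))) := by
  refine ⟨fun K _ y Z fst snd h => ?_⟩
  -- fst is surjective, as a base change of the surjective `y`
  have hysurj : Surjective y := by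
    refine ⟨fun z => ?_⟩
    have : Nonempty (Spec (CommRingCat.of K)) := inferInstance
    obtain ⟨w⟩ := this
    exact ⟨w, Subsingleton.elim _ _⟩
  have hfst : Surjective fst := MorphismProperty.of_isPullback h.flip hysurj
  refine irreducibleSpace_of_cover (fun i => ((fst ⁻¹ᵁ (U i) : Z.Opens) : Set Z)) hne
    (fun i => (fst ⁻¹ᵁ (U i)).isOpen) ?_ ?_ ?_
  · have : (⨆ i, fst ⁻¹ᵁ (U i)) = (⊤ : Z.Opens) := by
      rw [← Scheme.Hom.preimage_iSup, hcov]; rfl
    have h2 := congrArg (fun W : Z.Opens => (W : Set Z)) this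
    simpa using h2
  · intro i
    have hpb : IsPullback (fst ∣_ (U i)) (fst ⁻¹ᵁ (U i)).ι (U i).ι fst :=
      isPullback_morphismRestrict fst (U i)
    have hpb2 : IsPullback (fst ∣_ (U i)) ((fst ⁻¹ᵁ (U i)).ι ≫ snd)
        ((U i).ι ≫ (X ↘ (Spec (CommRingCat.of k)))) y :=
      hpb.paste_vert h
    have hirr : IrreducibleSpace ↥(fst ⁻¹ᵁ (U i)) :=
      (hU i).geometrically_irreducibleSpace y _ _ hpb2
    have := (IrreducibleSpace.isIrreducible_univ ↥(fst ⁻¹ᵁ (U i))).image Subtype.val
      continuous_subtype_val.continuousOn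
    have himg : Subtype.val '' (Set.univ : Set ↥(fst ⁻¹ᵁ (U i))) = ((fst ⁻¹ᵁ (U i) : Z.Opens) : Set Z) := by
      rw [Set.image_univ, Subtype.range_coe]
    rw [himg] at this
    exact this
  · intro i j
    obtain ⟨x, hxi, hxj⟩ := hmeet i j
    obtain ⟨z, rfl⟩ := hfst.surj x
    exact ⟨z, hxi, hxj⟩

end Groth.Agent.S1630
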