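import Groth.Statements.S16310
import Mathlib.FieldTheory.AlgebraicClosure
import Mathlib.FieldTheory.IntermediateField.Adjoin.Basic
import Mathlib.LinearAlgebra.Dimension.Free
import Mathlib.RingTheory.Algebraic.Integral

set_option autoImplicit false
universe u
open W4c3irrattreebun

namespace Groth.Agent.S16310

section

variable (k K : Type u) [Field k] [Field K] [Algebra k K]

theorem restrict_tower {e : ℕ} (D : CovDiag.{u} (algebraicClosure k K) K e) :
    (algebraMap K D.KC).comp (algebraMap k K) =
      (algebraMap D.KB D.KC).comp ((algebraMap (algebraicClosure k K) D.KB).comp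
        (algebraMap k (algebraicClosure k K))) := by
  have hB := @IsScalarTower.algebraMap_eq _ D.KB D.KC _ _ _ D.algkB D.algBC D.algkC D.towerB
  have hK := @IsScalarTower.algebraMap_eq _ K D.KC _ _ _ _ D.algKC D.algkC D.towerK
  have h3 : ((algebraMap K D.KC).comp (algebraMap (algebraicClosure k K) K)) =
      (algebraMap D.KB D.KC).comp (algebraMap (algebraicClosure k K) D.KB) := hK.symm.trans hB
  ext x
  exact RingHom.congr_fun h3 (algebraMap k (algebraicClosure k K) x)

/-- Restrict a covering diagram over the field of constants to one over `k`. -/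
noncomputable def restrictDiag {e : ℕ} (D : CovDiag.{u} (algebraicClosure k K) K e) :
    CovDiag.{u} k K e :=
  letI algkC : Algebra k D.KC := ((algebraMap K D.KC).comp (algebraMap k K)).toAlgebra
  letI algkB : Algebra k D.KB :=
    ((algebraMap (algebraicClosure k K) D.KB).comp (algebraMap k (algebraicClosure k K))).toAlgebra
  { KC := D.KC
    KB := D.KB
    instFieldC := D.instFieldC
    instFieldB := D.instFieldB
    algKC := D.algKC
    algkC := algkC
    towerK := IsScalarTower.of_algebraMap_eq' rfl
    algkB := algkB
    algBC := D.algBC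
    towerB := IsScalarTower.of_algebraMap_eq' (restrict_tower k K D)
    finiteK := D.finiteK
    t := D.t
    transc := D.transc
    finiteT := D.finiteT
    finrank_eq := D.finrank_eq }

theorem restrictDiag_sep {e : ℕ} (D : CovDiag.{u} (algebraicClosure k K) K e)
    (h : Algebra.IsSeparable K D.KC) : Algebra.IsSeparable K (restrictDiag k K D).KC := h

theorem extend_exists {e : ℕ} (D : CovDiag.{u} k K e) :
    ∃ e' : ℕ, e' ≤ e ∧ ∃ D' : CovDiag.{u} (algebraicClosure k K) K e',
      (Algebra.IsSeparable K D.KC → Algebra.IsSeparable K D'.KC) := by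
  classical
  let ι : (algebraicClosure k K) →+* D.KC :=
    (algebraMap K D.KC).comp (algebraMap (algebraicClosure k K) K)
  let KB' : IntermediateField D.KB D.KC := IntermediateField.adjoin D.KB (Set.range ι)
  -- KB' is algebraic over KB
  have halg : Algebra.IsAlgebraic D.KB KB' := by
    apply IntermediateField.isAlgebraic_adjoin
    rintro _ ⟨x, rfl⟩
    have hx : IsAlgebraic k (x : K) := mem_algebraicClosure_iff.mp x.2
    have hx2 : IsAlgebraic k (algebraMap K D.KC (x : K)) := hx.algebraMap
    exact (hx2.tower_top D.KB).isIntegral
  have htr : Transcendental KB' D.t := D.transc.extendScalars KB'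
  let M : IntermediateField D.KB D.KC := IntermediateField.adjoin D.KB {D.t}
  let M' : IntermediateField KB' D.KC := IntermediateField.adjoin KB' {D.t}
  have hle : ∀ x : D.KC, x ∈ M → x ∈ M' := by
    intro x hx
    have h1 : M ≤ M'.restrictScalars D.KB := by
      rw [IntermediateField.adjoin_le_iff]
      rintro _ rfl
      exact IntermediateField.mem_adjoin_simple_self KB' D.t
    exact h1 hx
  let j : M →+* M' := (M.val : M →+* D.KC).codRestrict M' (fun x => hle x x.2)
  let _ : Algebra M M' := j.toAlgebra
  have : IsScalarTower M M' D.KC := IsScalarTower.of_algebraMap_eq' rfl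
  have hfin : Module.Finite M D.KC := D.finiteT
  have hfin' : Module.Finite M' D.KC := Module.Finite.of_restrictScalars_finite M M' D.KC
  have hmul : Module.finrank M M' * Module.finrank M' D.KC = Module.finrank M D.KC :=
    Module.finrank_mul_finrank M M' D.KC
  have hpos : 0 < Module.finrank M D.KC := Module.finrank_pos
  refine ⟨Module.finrank M' D.KC, ?_, ?_⟩
  · have he : Module.finrank M D.KC = e := D.finrank_eq
    have h0 : 0 < Module.finrank M M' := by
      rcases Nat.eq_zero_or_pos (Module.finrank M M') with h0 | h0
      · rw [h0, zero_mul] at hmul; omega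
      · exact h0
    calc Module.finrank M' D.KC ≤ Module.finrank M M' * Module.finrank M' D.KC :=
          Nat.le_mul_of_pos_left _ h0
      _ = e := hmul.trans he
  · let algkC : Algebra (algebraicClosure k K) D.KC := ι.toAlgebra
    let jB : (algebraicClosure k K) →+* KB' :=
      ι.codRestrict KB' (fun x => IntermediateField.subset_adjoin _ _ ⟨x, rfl⟩)
    let algkB : Algebra (algebraicClosure k K) KB' := jB.toAlgebra
    exact ⟨{
      KC := D.KC
      KB := KB'
      instFieldC := D.instFieldC
      instFieldB := inferInstance
      algKC := D.algKC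
      algkC := algkC
      towerK := IsScalarTower.of_algebraMap_eq' rfl
      algkB := algkB
      algBC := inferInstance
      towerB := IsScalarTower.of_algebraMap_eq' rfl
      finiteK := D.finiteK
      t := D.t
      transc := htr
      finiteT := hfin'
      finrank_eq := rfl }, fun h => h⟩


end

/-- For a field extension K/k with field of constants k' (the relative algebraic closure of k in K), the
covering gonality of K over k equals the covering gonality of K over k'. (The published statement
takes K to be an algebraic function field over k; this row allows any field extension K/k.) -/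
theorem result (k K : Type u) [Field k] [Field K] [Algebra k K] :
    W4c3irrattreebun.cvg k K = W4c3irrattreebun.cvg (algebraicClosure k K) K := by
  unfold W4c3irrattreebun.cvg
  have h1 : {e : ℕ | Nonempty (CovDiag.{u} (algebraicClosure k K) K e)} ⊆
      {e : ℕ | Nonempty (CovDiag.{u} k K e)} := fun e ⟨D⟩ => ⟨restrictDiag k K D⟩
  have h2 : ∀ e ∈ {e : ℕ | Nonempty (CovDiag.{u} k K e)},
      ∃ e' ∈ {e : ℕ | Nonempty (CovDiag.{u} (algebraicClosure k K) K e)}, e' ≤ e := by
    rintro e ⟨D⟩
    obtain ⟨e', hle, D', -⟩ := extend_exists k K D
    exact ⟨e', ⟨D'⟩, hle⟩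
  by_cases hA : {e : ℕ | Nonempty (CovDiag.{u} k K e)}.Nonempty
  · have hmem := Nat.sInf_mem hA
    obtain ⟨e', he', hle⟩ := h2 _ hmem
    apply le_antisymm
    · exact Nat.sInf_le (h1 (Nat.sInf_mem ⟨e', he'⟩))
    · exact (Nat.sInf_le he').trans hle
  · rw [Set.not_nonempty_iff_eq_empty] at hA
    have hA' : {e : ℕ | Nonempty (CovDiag.{u} (algebraicClosure k K) K e)} = ∅ :=
      Set.subset_empty_iff.mp (hA ▸ h1)
    rw [hA, hA']

end Groth.Agent.S16310
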