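import Groth.Statements.S16311
import Groth.Agent.S16310

set_option autoImplicit false
universe u
open W4c3irrattreebun

namespace Groth.Agent.S16311

/-- For a field extension K/k with field of constants k' (the relative algebraic closure of k in K), the
separable covering gonality of K over k equals that of K over k'. (The published statement takes K
to be an algebraic function field over k; this row allows any field extension K/k.) -/
theorem result (k K : Type u) [Field k] [Field K] [Algebra k K] :
    W4c3irrattreebun.scvg k K = W4c3irrattreebun.scvg (algebraicClosure k K) K := by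
  unfold W4c3irrattreebun.scvg
  have h1 : {e : ℕ | ∃ D : CovDiag.{u} (algebraicClosure k K) K e, Algebra.IsSeparable K D.KC} ⊆
      {e : ℕ | ∃ D : CovDiag.{u} k K e, Algebra.IsSeparable K D.KC} :=
    fun e ⟨D, hD⟩ => ⟨Groth.Agent.S16310.restrictDiag k K D,
      Groth.Agent.S16310.restrictDiag_sep k K D hD⟩
  have h2 : ∀ e ∈ {e : ℕ | ∃ D : CovDiag.{u} k K e, Algebra.IsSeparable K D.KC},
      ∃ e' ∈ {e : ℕ | ∃ D : CovDiag.{u} (algebraicClosure k K) K e, Algebra.IsSeparable K D.KC},
        e' ≤ e := by
    rintro e ⟨D, hD⟩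
    obtain ⟨e', hle, D', hD'⟩ := Groth.Agent.S16310.extend_exists k K D
    exact ⟨e', ⟨D', hD' hD⟩, hle⟩
  by_cases hA : {e : ℕ | ∃ D : CovDiag.{u} k K e, Algebra.IsSeparable K D.KC}.Nonempty
  · have hmem := Nat.sInf_mem hA
    obtain ⟨e', he', hle⟩ := h2 _ hmem
    apply le_antisymm
    · exact Nat.sInf_le (h1 (Nat.sInf_mem ⟨e', he'⟩))
    · exact (Nat.sInf_le he').trans hle
  · rw [Set.not_nonempty_iff_eq_empty] at hA
    have hA' : {e : ℕ | ∃ D : CovDiag.{u} (algebraicClosure k K) K e,
        Algebra.IsSeparable K D.KC} = ∅ :=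
      Set.subset_empty_iff.mp (hA ▸ h1)
    rw [hA, hA']

end Groth.Agent.S16311
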