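import Groth.Statements.S16312
import Mathlib.Algebra.Module.ZLattice.Basic

set_option autoImplicit false
universe u
open W4c3irrattreebun

namespace Groth.Agent.S16312

/-- Let N be a closed cone in real n-space, f a function continuous on N, positive at the nonzero points
of N and homogeneous of degree one under scaling by nonnegative reals, and Λ a discrete additive
subgroup. Then for every real c the set of points H of Λ lying in N with f(H) ≤ c is finite. (The
published statement takes Λ to be a lattice; this row allows any discrete additive subgroup.) -/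
theorem result (n : ℕ)
    (N : Set (EuclideanSpace ℝ (Fin n))) (hN : IsClosed N)
    (hcone : ∀ x ∈ N, ∀ r : ℝ, 0 ≤ r → r • x ∈ N)
    (f : EuclideanSpace ℝ (Fin n) → ℝ) (hf : ContinuousOn f N)
    (hpos : ∀ x ∈ N, x ≠ 0 → 0 < f x)
    (hhom : ∀ x ∈ N, ∀ r : ℝ, 0 ≤ r → f (r • x) = r * f x)
    (Λ : Submodule ℤ (EuclideanSpace ℝ (Fin n))) [DiscreteTopology Λ] (c : ℝ) :
    ({x : EuclideanSpace ℝ (Fin n) | x ∈ N ∧ f x ≤ c} ∩ (Λ : Set (EuclideanSpace ℝ (Fin n)))).Finite := by
  have hΛc : IsClosed (Λ : Set (EuclideanSpace ℝ (Fin n))) := by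
    rw [← Submodule.coe_toAddSubgroup]
    have : DiscreteTopology Λ.toAddSubgroup := inferInstanceAs (DiscreteTopology Λ)
    exact AddSubgroup.isClosed_of_discrete
  suffices hb : Bornology.IsBounded {x : EuclideanSpace ℝ (Fin n) | x ∈ N ∧ f x ≤ c} from
    Metric.finite_isBounded_inter_isClosed DiscreteTopology.isDiscrete hb hΛc
  have hS : IsCompact (N ∩ Metric.sphere (0 : EuclideanSpace ℝ (Fin n)) 1) :=
    (isCompact_sphere 0 1).inter_left hN
  -- normalisation of a nonzero point of N lies in N ∩ sphere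
  have hnorm : ∀ x ∈ N, x ≠ 0 → (‖x‖⁻¹ • x) ∈ N ∩ Metric.sphere (0 : EuclideanSpace ℝ (Fin n)) 1 := by
    intro x hx hx0
    refine ⟨hcone x hx _ (inv_nonneg.mpr (norm_nonneg x)), ?_⟩
    rw [mem_sphere_zero_iff_norm, norm_smul, norm_inv, norm_norm,
      inv_mul_cancel₀ (norm_ne_zero_iff.mpr hx0)]
  by_cases hSne : (N ∩ Metric.sphere (0 : EuclideanSpace ℝ (Fin n)) 1).Nonempty
  · obtain ⟨x₀, hx₀, hmin⟩ := hS.exists_isMinOn hSne (hf.mono Set.inter_subset_left)
    have hx₀0 : x₀ ≠ 0 := by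
      intro h
      have := hx₀.2
      rw [h, mem_sphere_zero_iff_norm, norm_zero] at this
      exact zero_ne_one this
    have hm : 0 < f x₀ := hpos x₀ hx₀.1 hx₀0
    refine (Metric.isBounded_closedBall (x := (0 : EuclideanSpace ℝ (Fin n)))
      (r := |c| / f x₀)).subset ?_
    rintro x ⟨hxN, hxc⟩
    rw [mem_closedBall_zero_iff]
    by_cases hx0 : x = 0
    · rw [hx0, norm_zero]; positivity
    · have h1 : f x₀ ≤ f (‖x‖⁻¹ • x) := hmin (hnorm x hxN hx0)
      rw [hhom x hxN _ (inv_nonneg.mpr (norm_nonneg x))] at h1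
      have hnx : 0 < ‖x‖ := norm_pos_iff.mpr hx0
      rw [le_div_iff₀ hm]
      calc ‖x‖ * f x₀ ≤ ‖x‖ * (‖x‖⁻¹ * f x) := mul_le_mul_of_nonneg_left h1 hnx.le
        _ = f x := by rw [← mul_assoc, mul_inv_cancel₀ hnx.ne', one_mul]
        _ ≤ c := hxc
        _ ≤ |c| := le_abs_self c
  · refine (Metric.isBounded_closedBall (x := (0 : EuclideanSpace ℝ (Fin n))) (r := 0)).subset ?_
    rintro x ⟨hxN, -⟩
    by_contra hx
    have hx0 : x ≠ 0 := by
      intro h
      apply hx
      rw [h]
      exact Metric.mem_closedBall_self le_rfl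
    exact hSne ⟨_, hnorm x hxN hx0⟩

end Groth.Agent.S16312
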