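import Groth.Statements.S16325
import Groth.Agent.Lib.H80BiextCx

set_option autoImplicit false
universe u v
open CategoryTheory
open W4c3biextchow

namespace Groth.Agent.S16325

/-- Let f : C ⟶ D be a chain map of ℕ-indexed chain complexes of modules over a ring R, and consider the
functor it induces between the groupoids attached to C and D (objects: degree-0 elements; morphisms
a ⟶ b: degree-1 elements with boundary b - a, modulo boundaries of degree-2 elements). This functor
is faithful if and only if f is injective on homology in degree 1. (The published statement is for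
complexes of abelian groups; this row allows modules over any ring R.) -/
theorem result
    (R : Type u) [Ring R] (C D : ChainComplex (ModuleCat.{v} R) ℕ) (f : C ⟶ D) :
    (W4c3biextchow.cxFunctor f).Faithful ↔ Mono (HomologicalComplex.homologyMap f 1) := by
  rw [Groth.Agent.Lib.H80BiextCx.mono_one_iff]
  constructor
  · intro hF x hx ⟨y, hy⟩
    let a : Obj C := ⟨0⟩
    let φ : a ⟶ a := (⟨Submodule.Quotient.mk x, by simp [a, hx]⟩ : Hom C a a)
    have h : (cxFunctor f).map φ = (cxFunctor f).map (𝟙 a) := by
      apply Hom.ext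
      rw [cxFunctor_map_cl, cxFunctor_map_cl]
      change q1Map f (Submodule.Quotient.mk x) = q1Map f 0
      rw [q1Map_mk, map_zero, Groth.Agent.Lib.H80BiextCx.mk_eq_zero_iff]
      exact ⟨y, hy⟩
    have h2 := hF.map_injective h
    have h3 : (Submodule.Quotient.mk x : Q1 C) = 0 := congrArg Hom.cl h2
    exact (Groth.Agent.Lib.H80BiextCx.mk_eq_zero_iff C x).1 h3
  · intro H
    refine ⟨fun {a b} φ ψ h => ?_⟩
    apply Hom.ext
    have hcl : q1Map f (φ : Hom C a b).cl = q1Map f (ψ : Hom C a b).cl := congrArg Hom.cl h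
    obtain ⟨x, hx⟩ := Submodule.Quotient.mk_surjective _ ((φ : Hom C a b).cl - (ψ : Hom C a b).cl)
    have hd : (C.d 1 0).hom x = 0 := by
      rw [← delta_mk, hx, map_sub, (φ : Hom C a b).delta_cl, (ψ : Hom C a b).delta_cl, sub_self]
    have hq : (Submodule.Quotient.mk ((f.f 1).hom x) : Q1 D) = 0 := by
      rw [← q1Map_mk, hx, map_sub, hcl, sub_self]
    obtain ⟨y, hy⟩ := (Groth.Agent.Lib.H80BiextCx.mk_eq_zero_iff D _).1 hq
    obtain ⟨x₁, hx₁⟩ := H x hd ⟨y, hy⟩
    have : (Submodule.Quotient.mk x : Q1 C) = 0 :=
      (Groth.Agent.Lib.H80BiextCx.mk_eq_zero_iff C x).2 ⟨x₁, hx₁⟩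
    rw [hx] at this
    exact sub_eq_zero.1 this

end Groth.Agent.S16325
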