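import Groth.Statements.S16326
import Groth.Agent.Lib.H80BiextCx

set_option autoImplicit false
universe u v
open CategoryTheory
open W4c3biextchow

namespace Groth.Agent.S16326

/-- Let f : C ⟶ D be a chain map of ℕ-indexed chain complexes of modules over a ring R, and consider the
functor it induces between the groupoids attached to C and D (objects: degree-0 elements; morphisms
a ⟶ b: degree-1 elements with boundary b - a, modulo boundaries of degree-2 elements). This functor
is full if and only if f is surjective on homology in degree 1 and injective on homology in degree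
0. (The published statement is for complexes of abelian groups; this row allows modules over any
ring R.) -/
theorem result
    (R : Type u) [Ring R] (C D : ChainComplex (ModuleCat.{v} R) ℕ) (f : C ⟶ D) :
    (W4c3biextchow.cxFunctor f).Full ↔
      Epi (HomologicalComplex.homologyMap f 1) ∧ Mono (HomologicalComplex.homologyMap f 0) := by
  rw [Groth.Agent.Lib.H80BiextCx.epi_one_iff, Groth.Agent.Lib.H80BiextCx.mono_zero_iff]
  constructor
  · intro hF
    constructor
    · intro y hy
      let a : Obj C := ⟨0⟩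
      let ψ : (cxFunctor f).obj a ⟶ (cxFunctor f).obj a :=
        (⟨Submodule.Quotient.mk y, by rw [delta_mk, hy, sub_self]⟩ : Hom D _ _)
      obtain ⟨φ, hφ⟩ := hF.map_surjective ψ
      obtain ⟨x, hx⟩ := Submodule.Quotient.mk_surjective _ (φ : Hom C a a).cl
      have hd : (C.d 1 0).hom x = 0 := by
        rw [← delta_mk, hx, (φ : Hom C a a).delta_cl, sub_self]
      have hcl : q1Map f (φ : Hom C a a).cl = Submodule.Quotient.mk y := congrArg Hom.cl hφ
      rw [← hx, q1Map_mk, Groth.Agent.Lib.H80BiextCx.mk_eq_mk_iff] at hcl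
      obtain ⟨y₂, hy₂⟩ := hcl
      refine ⟨x, hd, -y₂, ?_⟩
      rw [map_neg, hy₂]
      abel
    · intro x ⟨y, hy⟩
      let a : Obj C := ⟨0⟩
      let b : Obj C := ⟨x⟩
      let ψ : (cxFunctor f).obj a ⟶ (cxFunctor f).obj b :=
        (⟨Submodule.Quotient.mk y, by
          rw [delta_mk, hy, cxFunctor_obj_pt, cxFunctor_obj_pt, map_zero, sub_zero]⟩ : Hom D _ _)
      obtain ⟨φ, -⟩ := hF.map_surjective ψ
      obtain ⟨x₁, hx₁⟩ := Submodule.Quotient.mk_surjective _ (φ : Hom C a b).cl
      refine ⟨x₁, ?_⟩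
      rw [← delta_mk, hx₁, (φ : Hom C a b).delta_cl]
      exact sub_zero _
  · rintro ⟨HE, HM⟩
    refine ⟨fun {a b} ψ => ?_⟩
    obtain ⟨y, hy⟩ := Submodule.Quotient.mk_surjective _ (ψ : Hom D _ _).cl
    have hdy : (D.d 1 0).hom y = (f.f 0).hom (b.pt - a.pt) := by
      rw [← delta_mk, hy, (ψ : Hom D _ _).delta_cl, cxFunctor_obj_pt, cxFunctor_obj_pt, map_sub]
    obtain ⟨x₁, hx₁⟩ := HM (b.pt - a.pt) ⟨y, hdy⟩
    have hcomm : (D.d 1 0).hom ((f.f 1).hom x₁) = (f.f 0).hom ((C.d 1 0).hom x₁) := by
      have h := congrArg (fun t => t.hom x₁) (f.comm 1 0)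
      simpa only [ModuleCat.hom_comp, LinearMap.comp_apply] using h
    have hd0 : (D.d 1 0).hom (y - (f.f 1).hom x₁) = 0 := by
      rw [map_sub, hdy, hcomm, hx₁, sub_self]
    obtain ⟨x', hx', y₂, hy₂⟩ := HE _ hd0
    refine ⟨(⟨Submodule.Quotient.mk (x₁ + x'), ?_⟩ : Hom C a b), ?_⟩
    · rw [delta_mk, map_add, hx₁, hx', add_zero]
    · apply Hom.ext
      rw [cxFunctor_map_cl]
      change q1Map f (Submodule.Quotient.mk (x₁ + x')) = (ψ : Hom D _ _).cl
      rw [q1Map_mk, ← hy, Groth.Agent.Lib.H80BiextCx.mk_eq_mk_iff]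
      refine ⟨-y₂, ?_⟩
      rw [map_neg, map_add]
      have : (D.d 2 1).hom y₂ = y - (f.f 1).hom x₁ - (f.f 1).hom x' := by
        rw [hy₂]; abel
      rw [this]
      abel

end Groth.Agent.S16326
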