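import Groth.Statements.S16328
import Groth.Agent.Lib.H80SplitCxMod

set_option autoImplicit false
universe v
open CategoryTheory
open W4c3biextchow

namespace Groth.Agent.S16328

/-- Let f : A' ⟶ A and p : A ⟶ A'' be chain maps of ℕ-indexed chain complexes of free abelian groups
forming a short exact sequence in every degree (f injective, p surjective, image of f equal to the
kernel of p), and assume f is a quasi-isomorphism. Then there is a chain map h : A'' ⟶ A such that
in every degree q the map (a'', a') ↦ h(a'') + f(a') is a bijection from A''_q × A'_q onto A_q, so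
that A is the direct sum of the subcomplexes f(A') and h(A''). (The source allows complexes indexed
by all integers; stated here for complexes in non-negative degrees.) -/
theorem result
    (A' A A'' : ChainComplex (ModuleCat.{v} ℤ) ℕ) (f : A' ⟶ A) (p : A ⟶ A'')
    [∀ q, Module.Free ℤ (A'.X q)] [∀ q, Module.Free ℤ (A.X q)] [∀ q, Module.Free ℤ (A''.X q)]
    (hf : ∀ q, Function.Injective (f.f q).hom) (hp : ∀ q, Function.Surjective (p.f q).hom)
    (hfp : ∀ q, Function.Exact (f.f q).hom (p.f q).hom) [QuasiIso f] :
    ∃ h : A'' ⟶ A, ∀ q : ℕ,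
      Function.Bijective (fun x : A''.X q × A'.X q => (h.f q).hom x.1 + (f.f q).hom x.2) := by
  obtain ⟨w, hS⟩ := Groth.Agent.Lib.H80SplitCx.shortExact_of_elementwise f p hf hp hfp
  have hproj : ∀ n, Projective ((ShortComplex.mk f p w).X₃.X n) := fun n =>
    inferInstanceAs (Projective (A''.X n))
  obtain ⟨h, g, hhp, hfg, hid⟩ :=
    Groth.Agent.Lib.H80SplitCx.exists_section_retraction (ShortComplex.mk f p w) hS
      (inferInstanceAs (QuasiIso f))
  change h ≫ p = 𝟙 A'' at hhp
  change f ≫ g = 𝟙 A' at hfg
  change g ≫ f + p ≫ h = 𝟙 A at hid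
  refine ⟨h, fun q => ⟨?_, ?_⟩⟩
  · rintro ⟨a, b⟩ ⟨a', b'⟩ hab
    simp only at hab
    have hph : ∀ x, (p.f q).hom ((h.f q).hom x) = x := fun x => by
      have := congrArg (fun t => (t.f q).hom x) hhp
      simpa using this
    have hpf : ∀ x, (p.f q).hom ((f.f q).hom x) = 0 := fun x => (hfp q).apply_apply_eq_zero x
    have h1 := congrArg (p.f q).hom hab
    simp only [map_add, hph, hpf, add_zero] at h1
    subst h1
    have h2 : (f.f q).hom b = (f.f q).hom b' := add_left_cancel hab
    rw [hf q h2]
  · intro y
    refine ⟨((p.f q).hom y, (g.f q).hom y), ?_⟩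
    have := congrArg (fun t => (t.f q).hom y) hid
    simp only [HomologicalComplex.add_f_apply, HomologicalComplex.comp_f, ModuleCat.hom_add,
      ModuleCat.hom_comp, LinearMap.add_apply, LinearMap.comp_apply, HomologicalComplex.id_f,
      ModuleCat.hom_id, LinearMap.id_apply] at this
    exact (add_comm _ _).trans this

end Groth.Agent.S16328
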