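import Groth.Statements.S16331
import Groth.Agent.Lib.H80SplitCxMod
import Groth.Agent.Lib.H80BiextCx

set_option autoImplicit false
universe v
open CategoryTheory
open W4c3biextchow

namespace Groth.Agent.S16331

/-- Let f : A' ⟶ A be a chain map of ℕ-indexed chain complexes of free abelian groups which is injective
in every degree, with free degreewise quotients A_q / f(A'_q), and a quasi-isomorphism; let h' : A'
⟶ B be a chain map to another complex of free abelian groups and g₁, g₂ : A ⟶ A' two chain maps with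
f ≫ g₁ = f ≫ g₂ = 𝟙. Consider the functors induced by g₁ ≫ h' and g₂ ≫ h' between the groupoids
attached to A and B (objects: degree-0 elements; morphisms a ⟶ b: degree-1 elements with boundary b
- a, modulo boundaries of degree-2 elements). Then there is a natural isomorphism between these two
functors whose component at every object of the form f(a'), a' a degree-0 element of A', is the zero
class, i.e. the identity morphism of h'(a'). -/
theorem result
    (A' A B : ChainComplex (ModuleCat.{v} ℤ) ℕ) (f : A' ⟶ A) (h' : A' ⟶ B)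
    [∀ q, Module.Free ℤ (A'.X q)] [∀ q, Module.Free ℤ (A.X q)] [∀ q, Module.Free ℤ (B.X q)]
    (hf : ∀ q, Function.Injective (f.f q).hom)
    (hq : ∀ q, Module.Free ℤ ((A.X q) ⧸ LinearMap.range (f.f q).hom)) [QuasiIso f]
    (g₁ g₂ : A ⟶ A') (h₁ : f ≫ g₁ = 𝟙 A') (h₂ : f ≫ g₂ = 𝟙 A') :
    ∃ N : W4c3biextchow.cxFunctor (g₁ ≫ h') ≅ W4c3biextchow.cxFunctor (g₂ ≫ h'),
      ∀ a : W4c3biextchow.Obj A',
        (N.hom.app ((W4c3biextchow.cxFunctor f).obj a) : W4c3biextchow.Hom B _ _).cl = 0 := by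
  have hm : Mono f := Groth.Agent.Lib.H80SplitCx.mono_of_injective f hf
  have hproj : ∀ n, Projective ((Limits.cokernel f).X n) := fun n =>
    Groth.Agent.Lib.H80SplitCx.projective_cokernel_X_int f n (hq n)
  obtain ⟨Hm, hHm⟩ :=
    Groth.Agent.Lib.H80SplitCx.exists_homotopy_of_retractions f inferInstance g₁ g₂ h₁ h₂
  let K : Homotopy (g₁ ≫ h') (g₂ ≫ h') := Hm.compRight h'
  have hKhom : ∀ i j, K.hom i j = Hm.hom i j ≫ h'.f j := fun i j => rfl
  have hK0 : (g₁ ≫ h').f 0 = K.hom 0 1 ≫ B.d 1 0 + (g₂ ≫ h').f 0 := by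
    have := K.comm 0
    rwa [Homotopy.dNext_zero_chainComplex, Homotopy.prevD_chainComplex, zero_add] at this
  have hK1 : (g₁ ≫ h').f 1 = A.d 1 0 ≫ K.hom 0 1 + K.hom 1 2 ≫ B.d 2 1 + (g₂ ≫ h').f 1 := by
    have := K.comm 1
    rwa [Homotopy.dNext_succ_chainComplex, Homotopy.prevD_chainComplex] at this
  have e0 : ∀ a : A.X 0, ((g₁ ≫ h').f 0).hom a =
      (B.d 1 0).hom ((K.hom 0 1).hom a) + ((g₂ ≫ h').f 0).hom a := by
    intro a
    have := congrArg (fun t => t.hom a) hK0
    simpa using this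
  have e1 : ∀ x : A.X 1, ((g₁ ≫ h').f 1).hom x =
      (K.hom 0 1).hom ((A.d 1 0).hom x) + (B.d 2 1).hom ((K.hom 1 2).hom x) +
        ((g₂ ≫ h').f 1).hom x := by
    intro x
    have := congrArg (fun t => t.hom x) hK1
    simpa using this
  let η : ∀ a : Obj A, (cxFunctor (g₁ ≫ h')).obj a ⟶ (cxFunctor (g₂ ≫ h')).obj a := fun a =>
    (⟨Submodule.Quotient.mk (-(K.hom 0 1).hom a.pt), by
      rw [delta_mk, map_neg, cxFunctor_obj_pt, cxFunctor_obj_pt, e0 a.pt]
      abel⟩ : Hom B _ _)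
  have hηcl : ∀ a : Obj A, (η a : Hom B _ _).cl = Submodule.Quotient.mk (-(K.hom 0 1).hom a.pt) :=
    fun a => rfl
  refine ⟨NatIso.ofComponents (fun a => Groth.Agent.Lib.H80BiextCx.isoOfHom (η a)) ?_, ?_⟩
  · intro a b φ
    apply Hom.ext
    change ((cxFunctor (g₁ ≫ h')).map φ : Hom B _ _).cl + (η b : Hom B _ _).cl =
      (η a : Hom B _ _).cl + ((cxFunctor (g₂ ≫ h')).map φ : Hom B _ _).cl
    rw [cxFunctor_map_cl, cxFunctor_map_cl, hηcl, hηcl]
    obtain ⟨x, hx⟩ := Submodule.Quotient.mk_surjective _ (φ : Hom A a b).cl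
    have hdx : (A.d 1 0).hom x = b.pt - a.pt := by
      rw [← delta_mk, hx, (φ : Hom A a b).delta_cl]
    rw [← hx, q1Map_mk, q1Map_mk, ← Submodule.Quotient.mk_add, ← Submodule.Quotient.mk_add,
      Groth.Agent.Lib.H80BiextCx.mk_eq_mk_iff]
    refine ⟨(K.hom 1 2).hom x, ?_⟩
    rw [e1 x, hdx, map_sub]
    abel
  · intro a
    change (η ((cxFunctor f).obj a) : Hom B _ _).cl = 0
    rw [hηcl, cxFunctor_obj_pt, hKhom]
    have h0 : (Hm.hom 0 1).hom ((f.f 0).hom a.pt) = 0 := by
      have := congrArg (fun t => t.hom a.pt) (hHm 0 1)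
      simpa using this
    rw [ModuleCat.hom_comp, LinearMap.comp_apply, h0, map_zero, neg_zero,
      Submodule.Quotient.mk_zero]

end Groth.Agent.S16331
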