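import Groth.Statements.S16332
import Groth.Agent.Lib.TensorCx35
import Groth.Agent.Lib.ComparisonThm35
import Mathlib.RingTheory.Flat.Basic
import Mathlib.Algebra.Homology.ShortComplex.ModuleCat
import Mathlib.LinearAlgebra.TensorProduct.RightExactness

set_option autoImplicit false
universe v
open CategoryTheory MonoidalCategory
open W4c3biextchow

namespace Groth.Agent.S16332

open Groth.Agent.Lib.TensorCx35 Groth.Agent.Lib.ComparisonThm35 HomologicalComplex

section

variable {R : Type v} [CommRing R] (C P : ChainComplex (ModuleCat.{v} R) ℕ) (G : ModuleCat.{v} R)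
  (π : P ⟶ (ChainComplex.single₀ (ModuleCat.{v} R)).obj G)

lemma isZero_S (n : ℕ) :
    Limits.IsZero (((ChainComplex.single₀ (ModuleCat.{v} R)).obj G).X (n + 1)) :=
  isZero_single_obj_X (ComplexShape.down ℕ) 0 G (n + 1) (by simp)

variable [QuasiIso π]

include π in
lemma surj_π0 : Function.Surjective (π.f 0) :=
  (ModuleCat.epi_iff_surjective _).1 (epi_π_f_zero π)

include π in
lemma exact_π0 : Function.Exact (P.d 1 0) (π.f 0) :=
  (ShortComplex.ShortExact.moduleCat_exact_iff_function_exact _).1 (exact₀ π)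

include π in
lemma exact_P1 : Function.Exact (P.d 2 1) (P.d 1 0) :=
  (ShortComplex.ShortExact.moduleCat_exact_iff_function_exact _).1 (exact_succ π 0)

end

/-- Let R be a commutative ring, C an ℕ-indexed chain complex of R-modules whose degree-0 term C_0 is a
free R-module, G an R-module, and π : P ⟶ G[0] a quasi-isomorphism from an ℕ-indexed chain complex P
of free R-modules onto G placed in degree 0 (a free resolution of G), so that the tensor product of
complexes C ⊗ P represents the derived tensor product of C and G. Then the map induced by π on first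
homology, H_1(C ⊗ P) → H_1(C ⊗ G[0]), is an isomorphism: in degree 1 the derived and the plain
tensor product with G have the same homology. (The published statement is over the integers, for
complexes vanishing in negative degrees with C_0 free abelian; this row allows any commutative ring
R and R-modules in the same universe as R.) -/
theorem result
    (R : Type v) [CommRing R] (C P : ChainComplex (ModuleCat.{v} R) ℕ) (G : ModuleCat.{v} R)
    [Module.Free R (C.X 0)] [∀ q, Module.Free R (P.X q)]
    (π : P ⟶ (ChainComplex.single₀ (ModuleCat.{v} R)).obj G) [QuasiIso π] :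
    IsIso (HomologicalComplex.homologyMap (C ◁ π) 1) := by
  have hs0 := surj_π0 P G π
  have he0 := exact_π0 P G π
  have he1 := exact_P1 P G π
  -- right exactness / flatness consequences
  have lsurj : ∀ X : ModuleCat.{v} R, Function.Surjective (X ◁ π.f 0) := fun X =>
    LinearMap.lTensor_surjective X hs0
  have lex : ∀ X : ModuleCat.{v} R, Function.Exact (X ◁ P.d 1 0) (X ◁ π.f 0) := fun X =>
    lTensor_exact X he0 hs0
  have fex : Function.Exact (C.X 0 ◁ P.d 2 1) (C.X 0 ◁ P.d 1 0) :=
    Module.Flat.lTensor_exact (C.X 0) he1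
  have hmono : Mono (HomologicalComplex.homologyMap (C ◁ π) 1) := by
    refine mono_homologyMap_of_elementwise (C ◁ π) 2 1 0 (by simp) (by simp) ?_
    intro x hx hw
    obtain ⟨w, hw⟩ := hw
    obtain ⟨a, b, rfl⟩ := dec1 C P x
    obtain ⟨c', e', f', rfl⟩ := dec2 C _ w
    obtain rfl := eq_zero_of_isZero_right _ _ (isZero_S G 0) e'
    obtain rfl := eq_zero_of_isZero_right _ _ (isZero_S G 1) f'
    rw [map_add, ι_whiskerLeft_apply, ι_whiskerLeft_apply,
      eq_zero_of_isZero_right _ _ (isZero_S G 0) ((C.X 0 ◁ π.f 1) b)] at hw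
    simp only [map_zero, add_zero] at hw
    rw [ι20_d_apply] at hw
    have h1 := ι_injective _ _ _ _ _ _ hw
    obtain ⟨c, rfl⟩ := lsurj (C.X 2) c'
    have h2 : (C.X 1 ◁ π.f 0) (a - (C.d 2 1 ▷ P.X 0) c) = 0 := by
      rw [map_sub, h1, ← whisker_exchange_apply, sub_self]
    obtain ⟨e, he⟩ := (lex (C.X 1) _).1 h2
    rw [map_add, ι10_d_apply, ι01_d_apply, ← map_add] at hx
    have h3 := ι_injective _ _ _ _ _ _ (hx.trans (map_zero _).symm)
    have h4 : (C.X 0 ◁ P.d 1 0) (b + (C.d 1 0 ▷ P.X 1) e) = 0 := by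
      rw [map_add, ← whisker_exchange_apply, he, map_sub]
      have h5 : (C.d 1 0 ▷ P.X 0) ((C.d 2 1 ▷ P.X 0) c) = 0 := by
        have : (C.d 2 1 ▷ P.X 0) ≫ (C.d 1 0 ▷ P.X 0) = 0 := by
          rw [← comp_whiskerRight, C.d_comp_d, MonoidalPreadditive.zero_whiskerRight]
        exact congrArg (fun g => g.hom c) this
      rw [h5, sub_zero, add_comm]
      exact h3
    obtain ⟨f, hf⟩ := (fex _).1 h4
    refine ⟨ι C P 2 0 2 rfl c - ι C P 1 1 2 rfl e + ι C P 0 2 2 rfl f, ?_⟩
    rw [map_add, map_sub, ι20_d_apply, ι11_d_apply, ι02_d_apply, hf, he, map_add, map_sub]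
    abel
  have hepi : Epi (HomologicalComplex.homologyMap (C ◁ π) 1) := by
    refine epi_homologyMap_of_elementwise (C ◁ π) 2 1 0 (by simp) (by simp) ?_
    intro y hy
    obtain ⟨a', b', rfl⟩ := dec1 C _ y
    obtain rfl := eq_zero_of_isZero_right _ _ (isZero_S G 0) b'
    simp only [map_zero, add_zero] at hy ⊢
    rw [ι10_d_apply] at hy
    have h1 := ι_injective _ _ _ _ _ _ (hy.trans (map_zero _).symm)
    obtain ⟨a, rfl⟩ := lsurj (C.X 1) a'
    have h2 : (C.X 0 ◁ π.f 0) ((C.d 1 0 ▷ P.X 0) a) = 0 := by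
      rw [← whisker_exchange_apply]
      exact h1
    obtain ⟨b, hb⟩ := (lex (C.X 0) _).1 h2
    refine ⟨ι C P 1 0 1 rfl a - ι C P 0 1 1 rfl b, ?_, 0, ?_⟩
    · rw [map_sub, ι10_d_apply, ι01_d_apply, hb, sub_self]
    · rw [map_sub, ι_whiskerLeft_apply, ι_whiskerLeft_apply,
        eq_zero_of_isZero_right _ _ (isZero_S G 0) ((C.X 0 ◁ π.f 1) b)]
      simp only [map_zero, add_zero, sub_zero]
  exact isIso_of_mono_of_epi _

end Groth.Agent.S16332
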