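import Groth.Statements.S16335
import Mathlib

set_option autoImplicit false
universe u v w w'
open TensorProduct
open InvTh

namespace Groth.Agent.S16335

/-- Let `R` be a commutative ring with an action of a finite group `Γ` by ring automorphisms such that
the order of `Γ` is invertible in `R`, and let `A → R` be injective with image exactly the
invariants `R^Γ`, the action being `A`-linear. Then for every commutative `A`-algebra `S`, with `Γ`
acting on `S ⊗_A R` through the factor `R`, the map `S → S ⊗_A R`, `s ↦ s ⊗ 1`, is injective and its
image is exactly the set of `Γ`-fixed elements: `S ≅ (S ⊗_A R)^Γ`. No flatness of `S` over `A` is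
assumed; the invertibility of the order of `Γ` replaces it. This is the affine statement that for a
tame quotient the coarse space commutes with arbitrary base change. (The published lemma is the
statement that the coarse moduli space of a tame Deligne–Mumford stack commutes with arbitrary base
change, whose proof reduces to this ring statement. The published lemma also asserts the analogous
statement for the reduced fibre product when the base-change scheme is reduced; that clause is not
part of this row.) -/
theorem result
    (A : Type u) [CommRing A] (R : Type v) [CommRing R] [Algebra A R]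
    (Γ : Type w) [Group Γ] [Finite Γ] [MulSemiringAction Γ R] [SMulCommClass Γ A R]
    [Algebra.IsInvariant A R Γ] (hinj : Function.Injective (algebraMap A R))
    (hΓ : IsUnit (Nat.card Γ : R))
    (S : Type w') [CommRing S] [Algebra A S] :
    Function.Injective (fun s : S => s ⊗ₜ[A] (1 : R)) ∧
      ∀ x : S ⊗[A] R,
        (∀ γ : Γ, Algebra.TensorProduct.map (AlgHom.id A S) (MulSemiringAction.toAlgHom A R γ) x = x) →
          x ∈ Set.range (fun s : S => s ⊗ₜ[A] (1 : R)) := by
  classical
  have : Fintype Γ := Fintype.ofFinite Γ
  obtain ⟨uR, huR⟩ := hΓ.exists_right_inv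
  -- the inverse of the order is invariant, hence comes from `A`
  have huR_inv : ∀ γ : Γ, γ • uR = uR := by
    intro γ
    have hn : γ • (Nat.card Γ : R) = (Nat.card Γ : R) :=
      map_natCast (MulSemiringAction.toRingHom Γ R γ) _
    have h1 : (Nat.card Γ : R) * (γ • uR) = 1 := by
      have := congrArg (fun t => γ • t) huR
      simpa only [smul_mul', hn, smul_one] using this
    calc γ • uR = (uR * (Nat.card Γ : R)) * (γ • uR) := by rw [mul_comm uR, huR, one_mul]
      _ = uR := by rw [mul_assoc, h1, mul_one]
  obtain ⟨a0, ha0⟩ := Algebra.IsInvariant.isInvariant (A := A) (G := Γ) uR huR_inv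
  have ha0' : (Nat.card Γ : A) * a0 = 1 := by
    apply hinj
    rw [map_mul, map_natCast, ha0, huR, map_one]
  have hcard : (Nat.card Γ : A) = (Fintype.card Γ : A) := by rw [Nat.card_eq_fintype_card]
  -- the averaging operator on `R`
  let E : R →ₗ[A] R := a0 • ∑ γ : Γ, (MulSemiringAction.toAlgHom A R γ).toLinearMap
  have hE : ∀ r, E r = a0 • ∑ γ : Γ, γ • r := by
    intro r
    simp only [E, LinearMap.smul_apply, LinearMap.sum_apply]
    rfl
  have hEfix : ∀ (γ' : Γ) (r : R), γ' • E r = E r := by
    intro γ' r
    rw [hE, smul_comm, Finset.smul_sum]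
    congr 1
    simp only [← mul_smul]
    exact Fintype.sum_bijective (fun γ => γ' * γ) (Group.mulLeft_bijective γ') _ _ (fun _ => rfl)
  have hEalg : ∀ a : A, E (algebraMap A R a) = algebraMap A R a := by
    intro a
    rw [hE]
    simp only [smul_algebraMap, Finset.sum_const, Finset.card_univ]
    rw [← Nat.cast_smul_eq_nsmul A, ← mul_smul, ← hcard, mul_comm, ha0', one_smul]
  -- the Reynolds operator `R → A`
  have hex : ∀ r : R, ∃ a : A, algebraMap A R a = E r := fun r =>
    Algebra.IsInvariant.isInvariant (A := A) (G := Γ) (E r) (fun γ => hEfix γ r)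
  choose ρ0 hρ0 using hex
  let ρ : R →ₗ[A] A :=
    { toFun := ρ0
      map_add' := fun r r' => hinj (by rw [hρ0, map_add, map_add, hρ0, hρ0])
      map_smul' := fun a r => hinj (by
        rw [hρ0, map_smul, RingHom.id_apply, smul_eq_mul, map_mul, hρ0, Algebra.smul_def]) }
  have hρ : ∀ r, algebraMap A R (ρ r) = E r := hρ0
  have hρalg : ∀ a : A, ρ (algebraMap A R a) = a := fun a => hinj (by rw [hρ, hEalg])
  have hEρ : E = (Algebra.linearMap A R).comp ρ := by
    ext r
    exact (hρ r).symm
  -- the retraction
  let T : S ⊗[A] R →ₗ[A] S := (TensorProduct.rid A S).toLinearMap.comp (LinearMap.lTensor S ρ)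
  have hT : ∀ s : S, T (s ⊗ₜ[A] (1 : R)) = s := by
    intro s
    have h1 : ρ (1 : R) = 1 := by
      have := hρalg 1
      rwa [map_one] at this
    simp [T, h1]
  have hkey : ∀ y : S ⊗[A] A,
      LinearMap.lTensor S (Algebra.linearMap A R) y = (TensorProduct.rid A S y) ⊗ₜ[A] (1 : R) := by
    intro y
    induction y using TensorProduct.induction_on with
    | zero => simp
    | tmul s a =>
      simp only [LinearMap.lTensor_tmul, Algebra.linearMap_apply, TensorProduct.rid_tmul]
      rw [Algebra.algebraMap_eq_smul_one, TensorProduct.tmul_smul, TensorProduct.smul_tmul']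
    | add y z hy hz => rw [map_add, map_add, TensorProduct.add_tmul, hy, hz]
  refine ⟨Function.LeftInverse.injective (g := T) hT, fun x hx => ⟨T x, ?_⟩⟩
  -- fixed elements are averaged to themselves
  have hmap : ∀ γ : Γ, LinearMap.lTensor S (MulSemiringAction.toAlgHom A R γ).toLinearMap x = x := by
    intro γ
    have h := hx γ
    have h2 : ∀ z : S ⊗[A] R, Algebra.TensorProduct.map (AlgHom.id A S) (MulSemiringAction.toAlgHom A R γ) z
        = LinearMap.lTensor S (MulSemiringAction.toAlgHom A R γ).toLinearMap z := by
      intro z
      induction z using TensorProduct.induction_on with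
      | zero => simp
      | tmul s r => simp
      | add y z hy hz => rw [map_add, map_add, hy, hz]
    rw [← h2]
    exact h
  have hEx : LinearMap.lTensor S E x = x := by
    have hsum : LinearMap.lTensor S (∑ γ : Γ, (MulSemiringAction.toAlgHom A R γ).toLinearMap) =
        ∑ γ : Γ, LinearMap.lTensor S (MulSemiringAction.toAlgHom A R γ).toLinearMap :=
      map_sum (LinearMap.lTensorHom (R := A) S) _ _
    simp only [E, LinearMap.lTensor_smul, hsum, LinearMap.smul_apply,
      LinearMap.sum_apply, hmap, Finset.sum_const, Finset.card_univ]
    rw [← Nat.cast_smul_eq_nsmul A, ← mul_smul, ← hcard, mul_comm, ha0', one_smul]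
  change (TensorProduct.rid A S (LinearMap.lTensor S ρ x)) ⊗ₜ[A] (1 : R) = x
  rw [← hkey]
  conv_rhs => rw [← hEx, hEρ, LinearMap.lTensor_comp]
  rfl

end Groth.Agent.S16335
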