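import Groth.Statements.S16343
import Mathlib

set_option autoImplicit false
open KatoHom

namespace Groth.Agent.S16343

section
variable {A T : Type*} [AddCommGroup A] [AddCommGroup T]

/-- Decomposition of torsion elements into a `P`-part and a `P'`-part. -/
theorem exists_decomp (P : Set ℕ) (TP T' : AddSubgroup T)
    (hTP : ∀ t, t ∈ TP ↔ ∃ n : ℕ, 0 < n ∧ (∀ p : ℕ, p.Prime → p ∣ n → p ∈ P) ∧ n • t = 0)
    (hT' : ∀ t, t ∈ T' ↔ ∃ n : ℕ, 0 < n ∧ (∀ p : ℕ, p.Prime → p ∣ n → p ∉ P) ∧ n • t = 0)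
    (n : ℕ) : 0 < n → ∀ t : T, n • t = 0 → ∃ a ∈ TP, ∃ b ∈ T', t = a + b := by
  induction n using Nat.recOnPrimeCoprime with
  | zero => intro h; exact absurd h (lt_irrefl _)
  | prime_pow p k hp =>
    intro hpos t ht
    by_cases hpP : p ∈ P
    · refine ⟨t, (hTP t).mpr ⟨p ^ k, hpos, ?_, ht⟩, 0, T'.zero_mem, by simp⟩
      intro q hq hqd
      rw [(Nat.prime_dvd_prime_iff_eq hq hp).mp (hq.dvd_of_dvd_pow hqd)]; exact hpP
    · refine ⟨0, TP.zero_mem, t, (hT' t).mpr ⟨p ^ k, hpos, ?_, ht⟩, by simp⟩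
      intro q hq hqd
      rw [(Nat.prime_dvd_prime_iff_eq hq hp).mp (hq.dvd_of_dvd_pow hqd)]; exact hpP
  | coprime a b ha hb hab iha ihb =>
    intro _ t ht
    have hab' : IsCoprime (a : ℤ) b := Nat.isCoprime_iff_coprime.mpr hab
    obtain ⟨u, v, huv⟩ := hab'
    obtain ⟨a1, ha1, b1, hb1, h1⟩ := iha (by omega) (b • t) (by rw [smul_smul]; exact ht)
    obtain ⟨a2, ha2, b2, hb2, h2⟩ := ihb (by omega) (a • t) (by rw [smul_smul, mul_comm]; exact ht)
    refine ⟨v • a1 + u • a2, TP.add_mem (TP.zsmul_mem ha1 _) (TP.zsmul_mem ha2 _),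
      v • b1 + u • b2, T'.add_mem (T'.zsmul_mem hb1 _) (T'.zsmul_mem hb2 _), ?_⟩
    have : t = u • ((a : ℤ) • t) + v • ((b : ℤ) • t) := by
      rw [smul_smul, smul_smul, ← add_smul, huv, one_smul]
    rw [this, natCast_zsmul, natCast_zsmul, h1, h2, smul_add, smul_add]
    abel

theorem inter_eq_bot (P : Set ℕ) (TP T' : AddSubgroup T)
    (hTP : ∀ t, t ∈ TP ↔ ∃ n : ℕ, 0 < n ∧ (∀ p : ℕ, p.Prime → p ∣ n → p ∈ P) ∧ n • t = 0)
    (hT' : ∀ t, t ∈ T' ↔ ∃ n : ℕ, 0 < n ∧ (∀ p : ℕ, p.Prime → p ∣ n → p ∉ P) ∧ n • t = 0)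
    (t : T) (h1 : t ∈ TP) (h2 : t ∈ T') : t = 0 := by
  obtain ⟨n, -, hn, hnt⟩ := (hTP t).mp h1
  obtain ⟨m, -, hm, hmt⟩ := (hT' t).mp h2
  have hc : Nat.Coprime n m := Nat.Coprime.symm <| Nat.coprime_of_dvd fun p hp hpm hpn => hm p hp hpm (hn p hp hpn)
  obtain ⟨u, v, huv⟩ := Nat.isCoprime_iff_coprime.mpr hc
  have : t = u • ((n : ℤ) • t) + v • ((m : ℤ) • t) := by
    rw [smul_smul, smul_smul, ← add_smul, huv, one_smul]
  rw [this, natCast_zsmul, natCast_zsmul, hnt, hmt]; simp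


theorem exists_section (P : Set ℕ) (hP : ∀ p ∈ P, p.Prime)
    (π : A →+ T) (hπ : Function.Surjective π)
    (hD : ∀ ℓ ∈ P, ∀ x ∈ π.ker, ∃ y ∈ π.ker, ℓ • y = x)
    (TP : AddSubgroup T)
    (hTP : ∀ t, t ∈ TP ↔ ∃ n : ℕ, 0 < n ∧ (∀ p : ℕ, p.Prime → p ∣ n → p ∈ P) ∧ n • t = 0) :
    ∃ s : TP →+ A, ∀ t : TP, π (s t) = (t : T) := by
  classical
  let S : Set (TP →ₗ.[ℤ] A) := {f | ∀ x : f.domain, π (f x) = ((x : TP) : T)}
  have hbot : (⊥ : TP →ₗ.[ℤ] A) ∈ S := by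
    intro x
    have h0 : (x : TP) = 0 := (Submodule.mem_bot ℤ).mp x.2
    have h1 : (⊥ : TP →ₗ.[ℤ] A) x = 0 := rfl
    rw [h1, h0]; simp
  obtain ⟨m, -, hm⟩ := zorn_le_nonempty₀ S (by
    intro c hcS hc y hy
    have hdir : DirectedOn (· ≤ ·) c := hc.directedOn
    refine ⟨LinearPMap.sSup c hdir, ?_, fun z hz => LinearPMap.le_sSup hdir hz⟩
    intro x
    obtain ⟨f, hf, hxf⟩ := (LinearPMap.mem_domain_sSup_iff ⟨y, hy⟩ hdir).mp x.2
    have h2 : (LinearPMap.sSup c hdir) x = f ⟨x, hxf⟩ :=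
      LinearPMap.sSup_apply hdir hf ⟨x, hxf⟩
    rw [h2]; exact hcS hf ⟨x, hxf⟩) ⊥ hbot
  have hm1 : ∀ x : m.domain, π (m x) = ((x : TP) : T) := hm.1
  have hmax : ∀ f ∈ S, m ≤ f → f ≤ m := fun f hf h => hm.2 hf h
  -- prime step
  have hstep : ∀ ℓ ∈ P, ∀ t : TP, ℓ • t ∈ m.domain → t ∈ m.domain := by
    intro ℓ hℓ t ht
    by_contra htn
    have hℓp := hP ℓ hℓ
    have hdvd : ∀ c : ℤ, c • t ∈ m.domain → (ℓ : ℤ) ∣ c := by
      intro c hc
      by_contra hnd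
      obtain ⟨u, v, huv⟩ := ((Nat.prime_iff_prime_int.mp hℓp).coprime_iff_not_dvd.mpr hnd)
      apply htn
      have : t = u • ((ℓ : ℤ) • t) + v • (c • t) := by
        rw [smul_smul, smul_smul, ← add_smul, huv, one_smul]
      rw [this]
      exact m.domain.add_mem (m.domain.smul_mem _ (by rwa [natCast_zsmul]))
        (m.domain.smul_mem _ hc)
    obtain ⟨a₀, ha₀⟩ := hπ (t : T)
    have hk : ℓ • a₀ - m ⟨ℓ • t, ht⟩ ∈ π.ker := by
      rw [AddMonoidHom.mem_ker, map_sub, map_nsmul, ha₀, hm1 ⟨ℓ • t, ht⟩]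
      simp
    obtain ⟨y, hy, hly⟩ := hD ℓ hℓ _ hk
    set a := a₀ - y with ha
    have hπa : π a = t := by rw [ha, map_sub, ha₀, (AddMonoidHom.mem_ker).mp hy, sub_zero]
    have hla : ℓ • a = m ⟨ℓ • t, ht⟩ := by rw [ha, smul_sub, hly]; abel
    have key : ∀ (j : ℤ) (h : (j * ℓ) • t ∈ m.domain), m ⟨(j * ℓ) • t, h⟩ = (j * ℓ) • a := by
      intro j h
      have : (⟨(j * ℓ) • t, h⟩ : m.domain) = j • ⟨ℓ • t, ht⟩ := by
        apply Subtype.ext
        simp [mul_smul]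
      rw [this, m.map_smul, ← hla, mul_smul, natCast_zsmul]
    have H : ∀ c : ℤ, c • t = 0 → (RingHom.id ℤ) c • a = 0 := by
      intro c hc
      obtain ⟨j, rfl⟩ := hdvd c (by rw [hc]; exact m.domain.zero_mem)
      have h' : ((j * ℓ : ℤ)) • t ∈ m.domain := by rw [mul_comm, hc]; exact zero_mem _
      have hk := key j h'
      rw [mul_comm] at hc
      have h0 : (⟨(j * ℓ) • t, h'⟩ : m.domain) = 0 := Subtype.ext hc
      rw [h0, LinearPMap.map_zero] at hk
      rw [RingHom.id_apply, mul_comm, ← hk]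
    let g : TP →ₗ.[ℤ] A := LinearPMap.mkSpanSingleton' t a H
    have hag : ∀ (x : m.domain) (y : g.domain), (x : TP) = y → m x = g y := by
      intro x y hxy
      obtain ⟨c, hc⟩ := Submodule.mem_span_singleton.mp y.2
      have hx : c • t ∈ m.domain := by rw [hc, ← hxy]; exact x.2
      obtain ⟨j, rfl⟩ := hdvd c hx
      have e1 : y = ⟨(ℓ * j : ℤ) • t, by rw [hc]; exact y.2⟩ := Subtype.ext hc.symm
      rw [e1, LinearPMap.mkSpanSingleton'_apply]
      have e2 : x = ⟨(j * ℓ : ℤ) • t, by rw [mul_comm]; exact hx⟩ :=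
        Subtype.ext (hxy.trans (hc.symm.trans (congrArg (· • t) (mul_comm _ _))))
      rw [e2, key, mul_comm]; rfl
    let m' := m.sup g hag
    have hm'S : m' ∈ S := by
      intro z
      obtain ⟨x, hx, y, hy, hxy⟩ := Submodule.mem_sup.mp z.2
      have := LinearPMap.sup_apply hag ⟨x, hx⟩ ⟨y, hy⟩ z hxy
      rw [this, map_add, hm1 ⟨x, hx⟩]
      obtain ⟨c, hc⟩ := Submodule.mem_span_singleton.mp hy
      have e1 : (⟨y, hy⟩ : g.domain) = ⟨c • t, by rw [hc]; exact hy⟩ := Subtype.ext hc.symm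
      rw [e1, LinearPMap.mkSpanSingleton'_apply, RingHom.id_apply, map_zsmul, hπa, ← hxy, ← hc]
      simp
    have hle : m' ≤ m := hmax m' hm'S (LinearPMap.left_le_sup m g hag)
    apply htn
    apply hle.1
    exact Submodule.mem_sup_right (Submodule.mem_span_singleton_self t)
  have hnum : ∀ n : ℕ, 0 < n → (∀ p : ℕ, p.Prime → p ∣ n → p ∈ P) →
      ∀ t : TP, n • t ∈ m.domain → t ∈ m.domain := by
    intro n
    induction n using Nat.recOnMul with
    | zero => intro h; exact absurd h (lt_irrefl _)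
    | one => intro _ _ t ht; simpa using ht
    | prime p hp => intro _ hpP t ht; exact hstep p (hpP p hp dvd_rfl) t ht
    | mul a b iha ihb =>
      intro hpos hpP t ht
      have ha : 0 < a := Nat.pos_of_ne_zero (by rintro rfl; simp at hpos)
      have hb : 0 < b := Nat.pos_of_ne_zero (by rintro rfl; simp at hpos)
      apply ihb hb (fun p hp hpb => hpP p hp (dvd_mul_of_dvd_right hpb a)) t
      apply iha ha (fun p hp hpa => hpP p hp (dvd_mul_of_dvd_left hpa b)) (b • t)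
      rwa [smul_smul]
  have htop : m.domain = ⊤ := by
    rw [eq_top_iff]; intro t _
    obtain ⟨n, hn, hnP, hnt⟩ := (hTP t).mp t.2
    apply hnum n hn hnP t
    have : n • t = 0 := Subtype.ext (by simpa using hnt)
    rw [this]; exact zero_mem _
  refine ⟨(m.toFun.comp (LinearEquiv.ofTop m.domain htop).symm.toLinearMap).toAddMonoidHom, ?_⟩
  intro t
  exact hm1 ⟨t, by rw [htop]; trivial⟩

end


/-- Let P be a set of primes and π : A → T a surjection of abelian groups whose kernel is ℓ-divisible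
for every ℓ ∈ P, with T a torsion group; let T(P) be the subgroup of elements of T killed by a
positive integer all of whose prime factors lie in P, and T' the subgroup of elements killed by a
positive integer none of whose prime factors lies in P. Then the preimage π⁻¹(T') is ℓ-divisible for
every ℓ ∈ P, and π has a section s over T(P) for which (d, t) ↦ d + s(t) is a bijection from π⁻¹(T')
× T(P) onto A, so that A is the direct sum of π⁻¹(T') and a copy of T(P). (The decomposition is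
expressed through a section of π over T(P).) -/
theorem result
    {A T : Type*} [AddCommGroup A] [AddCommGroup T] (P : Set ℕ) (hP : ∀ p ∈ P, p.Prime)
    (π : A →+ T) (hπ : Function.Surjective π) (hT : ∀ t : T, ∃ n : ℕ, 0 < n ∧ n • t = 0)
    (hD : ∀ ℓ ∈ P, ∀ x ∈ π.ker, ∃ y ∈ π.ker, ℓ • y = x)
    (TP T' : AddSubgroup T)
    (hTP : ∀ t, t ∈ TP ↔ ∃ n : ℕ, 0 < n ∧ (∀ p : ℕ, p.Prime → p ∣ n → p ∈ P) ∧ n • t = 0)
    (hT' : ∀ t, t ∈ T' ↔ ∃ n : ℕ, 0 < n ∧ (∀ p : ℕ, p.Prime → p ∣ n → p ∉ P) ∧ n • t = 0) :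
    (∀ ℓ ∈ P, ∀ x ∈ T'.comap π, ∃ y ∈ T'.comap π, ℓ • y = x) ∧
    ∃ s : TP →+ A, (∀ t : TP, π (s t) = (t : T)) ∧
      Function.Bijective (fun q : (T'.comap π) × TP => (q.1 : A) + s q.2) := by
  constructor
  · intro ℓ hℓ x hx
    rw [AddSubgroup.mem_comap] at hx
    obtain ⟨n, hn, hnP, hnx⟩ := (hT' _).mp hx
    have hℓp := hP ℓ hℓ
    have hnd : ¬ (ℓ : ℤ) ∣ (n : ℤ) := by
      rw [Int.natCast_dvd_natCast]; intro h; exact hnP ℓ hℓp h hℓ
    obtain ⟨u, v, huv⟩ := ((Nat.prime_iff_prime_int.mp hℓp).coprime_iff_not_dvd.mpr hnd)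
    have hk : n • x ∈ π.ker := by rw [AddMonoidHom.mem_ker, map_nsmul, hnx]
    obtain ⟨y, hy, hly⟩ := hD ℓ hℓ _ hk
    refine ⟨u • x + v • y, ?_, ?_⟩
    · apply AddSubgroup.add_mem _ (AddSubgroup.zsmul_mem _ (by rwa [AddSubgroup.mem_comap]) _)
        (AddSubgroup.zsmul_mem _ ?_ _)
      rw [AddSubgroup.mem_comap, (AddMonoidHom.mem_ker).mp hy]; exact T'.zero_mem
    · have : x = (u * ℓ + v * n) • x := by rw [huv, one_smul]
      rw [add_smul, mul_smul, mul_smul, natCast_zsmul, natCast_zsmul, ← hly] at this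
      rw [smul_add, smul_comm ℓ u x, smul_comm ℓ v y]; exact this.symm
  · obtain ⟨s, hs⟩ := exists_section P hP π hπ hD TP hTP
    refine ⟨s, hs, ?_, ?_⟩
    · rintro ⟨d, t⟩ ⟨d', t'⟩ h
      simp only at h
      have h1 := congrArg π h
      rw [map_add, map_add, hs, hs] at h1
      have h2 : (t : T) - t' = π d' - π d := by
        rw [sub_eq_sub_iff_add_eq_add, add_comm, h1, add_comm]
      have h3 : (t : T) - t' = 0 :=
        inter_eq_bot P TP T' hTP hT' _ (TP.sub_mem t.2 t'.2)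
          (by rw [h2]; exact T'.sub_mem d'.2 d.2)
      have h4 : t = t' := Subtype.ext (sub_eq_zero.mp h3)
      subst h4
      have : (d : A) = d' := add_right_cancel h
      exact Prod.ext (Subtype.ext this) rfl
    · intro a
      obtain ⟨n, hn, hnt⟩ := hT (π a)
      obtain ⟨tp, htp, t', ht', hdec⟩ := exists_decomp P TP T' hTP hT' n hn (π a) hnt
      refine ⟨(⟨a - s ⟨tp, htp⟩, ?_⟩, ⟨tp, htp⟩), by simp⟩
      rw [AddSubgroup.mem_comap, map_sub, hs, hdec]; simpa using ht'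

end Groth.Agent.S16343
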