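import Groth.Statements.S16344
import Mathlib
-- import your own Groth.Agent.* helpers here

set_option autoImplicit false
universe u v
open IdeleMod

namespace Groth.Agent.S16344

theorem exists_compatible {ι : Type u} [Preorder ι] [IsDirected ι (· ≤ ·)]
    (G : ι → Type v) [∀ i, TopologicalSpace (G i)] [∀ i, CompactSpace (G i)] [∀ i, T2Space (G i)]
    (f : ∀ ⦃i j : ι⦄, i ≤ j → (G j → G i)) (hf : ∀ i j (h : i ≤ j), Continuous (f h))
    (hcomp : ∀ i j k (hij : i ≤ j) (hjk : j ≤ k) (x : G k), f hij (f hjk x) = f (hij.trans hjk) x)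
    (K : ∀ i, Set (G i)) (hK : ∀ i, IsClosed (K i)) (hne : ∀ i, (K i).Nonempty)
    (hmap : ∀ i j (h : i ≤ j), ∀ x ∈ K j, f h x ∈ K i) :
    ∃ z : ∀ i, G i, (∀ i, z i ∈ K i) ∧ ∀ i j (h : i ≤ j), f h (z j) = z i := by
  classical
  rcases isEmpty_or_nonempty ι with hι | hι
  · exact ⟨fun i => isEmptyElim i, fun i => isEmptyElim i, fun i => isEmptyElim i⟩
  let T := {p : ι × ι // p.1 ≤ p.2}
  let t : T → Set (∀ i, G i) := fun p => {z | z p.1.2 ∈ K p.1.2 ∧ f p.2 (z p.1.2) = z p.1.1}
  have htc : ∀ p, IsClosed (t p) := by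
    intro p
    refine IsClosed.inter ?_ ?_
    · exact (hK p.1.2).preimage (continuous_apply p.1.2)
    · exact isClosed_eq ((hf _ _ p.2).comp (continuous_apply p.1.2)) (continuous_apply p.1.1)
  have hfip : ∀ u : Finset T, ((Set.univ : Set (∀ i, G i)) ∩ ⋂ p ∈ u, t p).Nonempty := by
    intro u
    obtain ⟨N, hN⟩ := Finset.exists_le (u.image (fun p : T => p.1.2))
    obtain ⟨y, hy⟩ := hne N
    refine ⟨fun l => if h : l ≤ N then f h y else (hne l).some, Set.mem_univ _, ?_⟩
    simp only [Set.mem_iInter]
    intro p hp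
    have h2 : p.1.2 ≤ N := hN _ (Finset.mem_image_of_mem _ hp)
    have h1 : p.1.1 ≤ N := p.2.trans h2
    refine ⟨?_, ?_⟩
    · simp only [dif_pos h2]
      exact hmap _ _ h2 y hy
    · simp only [dif_pos h2, dif_pos h1]
      exact hcomp _ _ _ p.2 h2 y
  obtain ⟨z, -, hz⟩ := isCompact_univ.inter_iInter_nonempty t htc hfip
  simp only [Set.mem_iInter] at hz
  refine ⟨z, fun i => (hz ⟨(i, i), le_refl i⟩).1, fun i j h => (hz ⟨(i, j), h⟩).2⟩

/-- Let (G_i) be an inverse system, indexed by a directed preorder, of compact Hausdorff topological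
abelian groups with continuous surjective transition maps, let G be its limit (the group of
compatible families) and let m be a natural number. Then the canonical map G/mG → lim G_i/mG_i is
bijective: a compatible family that lies in mG_i at every index is m times a compatible family
(injectivity), and every family that is compatible modulo m agrees modulo m, index by index, with a
compatible family (surjectivity). -/
theorem result
    {ι : Type u} [Preorder ι] [IsDirected ι (· ≤ ·)]
    (G : ι → Type v) [∀ i, AddCommGroup (G i)] [∀ i, TopologicalSpace (G i)]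
    [∀ i, IsTopologicalAddGroup (G i)] [∀ i, CompactSpace (G i)] [∀ i, T2Space (G i)]
    (f : ∀ ⦃i j : ι⦄, i ≤ j → (G j →+ G i)) (hf : ∀ i j (h : i ≤ j), Continuous (f h))
    (hid : ∀ i (x : G i), f (le_refl i) x = x)
    (hcomp : ∀ i j k (hij : i ≤ j) (hjk : j ≤ k) (x : G k), f hij (f hjk x) = f (hij.trans hjk) x)
    (hsurj : ∀ i j (h : i ≤ j), Function.Surjective (f h)) (m : ℕ) :
    (∀ x : ∀ i, G i, (∀ i j (h : i ≤ j), f h (x j) = x i) → (∀ i, ∃ y : G i, m • y = x i) →
        ∃ z : ∀ i, G i, (∀ i j (h : i ≤ j), f h (z j) = z i) ∧ ∀ i, m • z i = x i) ∧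
    (∀ y : ∀ i, G i, (∀ i j (h : i ≤ j), ∃ w : G i, f h (y j) - y i = m • w) →
        ∃ x : ∀ i, G i, (∀ i j (h : i ≤ j), f h (x j) = x i) ∧ ∀ i, ∃ w : G i, x i - y i = m • w) := by
  refine ⟨?_, ?_⟩
  · intro x hx hdiv
    obtain ⟨z, hzK, hz⟩ := exists_compatible G (fun i j h => (f h : G j → G i)) hf hcomp
      (fun i => {y | m • y = x i})
      (fun i => isClosed_eq (continuous_nsmul m) continuous_const)
      (fun i => hdiv i)
      (fun i j h y hy => by
        simp only [Set.mem_ofPred_eq] at hy ⊢
        rw [← map_nsmul, hy, hx])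
    exact ⟨z, hz, hzK⟩
  · intro y hy
    obtain ⟨x, hxK, hx⟩ := exists_compatible G (fun i j h => (f h : G j → G i)) hf hcomp
      (fun i => {x | ∃ w : G i, x - y i = m • w})
      (fun i => by
        have : {x : G i | ∃ w : G i, x - y i = m • w} = Set.range (fun w : G i => y i + m • w) := by
          ext x
          simp only [Set.mem_ofPred_eq, Set.mem_range]
          constructor
          · rintro ⟨w, hw⟩
            exact ⟨w, by rw [← hw]; abel⟩
          · rintro ⟨w, hw⟩
            exact ⟨w, by rw [← hw]; abel⟩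
        rw [this]
        exact (isCompact_range (continuous_const.add (continuous_nsmul m))).isClosed)
      (fun i => ⟨y i, 0, by simp⟩)
      (fun i j h x hx => by
        obtain ⟨w, hw⟩ := hx
        obtain ⟨w', hw'⟩ := hy i j h
        refine ⟨f h w + w', ?_⟩
        have h1 : f h x - f h (y j) = m • f h w := by
          rw [← map_sub, hw, map_nsmul]
        have h2 : f h x - y i = (f h x - f h (y j)) + (f h (y j) - y i) := by abel
        rw [h2, h1, hw', smul_add])
    exact ⟨x, hx, hxK⟩

end Groth.Agent.S16344
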