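import Groth.Statements.S16351
import Mathlib.LinearAlgebra.LinearIndependent.Lemmas
import Mathlib.Algebra.MvPolynomial.Rename
import Mathlib.Tactic

set_option autoImplicit false
universe u
open Cubic

namespace Groth.Agent.S16351

section helpers
variable {K : Type u} [Field K]

lemma bad_subsingleton (b0 b1 x y : Fin 3 → K) (h : LinearIndependent K ![b0, x, y]) :
    {c : K | ¬ LinearIndependent K ![b1 - c • b0, x, y]}.Subsingleton := by
  have h' := (linearIndependent_finCons (K := K) (x := b0) (v := ![x, y])).1 h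
  intro c hc c' hc'
  simp only [Set.mem_ofPred_eq] at hc hc'
  have m1 : b1 - c • b0 ∈ Submodule.span K (Set.range ![x, y]) := by
    by_contra hn
    exact hc ((linearIndependent_finCons (K := K) (x := b1 - c • b0) (v := ![x, y])).2 ⟨h'.1, hn⟩)
  have m2 : b1 - c' • b0 ∈ Submodule.span K (Set.range ![x, y]) := by
    by_contra hn
    exact hc' ((linearIndependent_finCons (K := K) (x := b1 - c' • b0) (v := ![x, y])).2 ⟨h'.1, hn⟩)
  by_contra hne
  have h3 : (c' - c) • b0 ∈ Submodule.span K (Set.range ![x, y]) := by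
    have := Submodule.sub_mem _ m1 m2
    convert this using 1
    module
  rw [Submodule.smul_mem_iff _ (sub_ne_zero.2 (Ne.symm hne))] at h3
  exact h'.2 h3

lemma li3 {x y z : Fin 3 → K} (h : LinearIndependent K ![x, y, z]) {α β γ : K}
    (hr : α • x + β • y + γ • z = 0) : α = 0 ∧ β = 0 ∧ γ = 0 := by
  have := Fintype.linearIndependent_iff.1 h ![α, β, γ] (by simpa [Fin.sum_univ_three] using hr)
  exact ⟨this 0, this 1, this 2⟩

lemma li_of (s : Fin 4 → K) (w : Fin 4 → (Fin 3 → K))
    (H : ∀ g : Fin 4 → K, ∑ i, g i * s i = 0 → ∑ i, g i • w i = 0 → ∀ i, g i = 0) :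
    LinearIndependent K (fun i : Fin 4 => (Fin.cons (s i) (w i) : Fin 4 → K)) := by
  rw [Fintype.linearIndependent_iff]
  intro g hg
  refine H g ?_ ?_
  · have := congrFun hg 0
    simpa [Finset.sum_apply] using this
  · funext m
    have := congrFun hg m.succ
    simpa [Finset.sum_apply] using this

end helpers

/-- Let K be a field of characteristic zero and S = V(F) ⊂ P^3_K a cone over a plane cubic curve C,
normalised so that the vertex is [1 : 0 : 0 : 0], i.e. F is a homogeneous cubic in K[x_0, …, x_3]
not involving x_0 and C = V(F) in the plane P^2 of the coordinates x_1, x_2, x_3. If C has five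
K-rational points no three of which are collinear, then S has five K-rational points in general
position (no four coplanar: any four representing vectors linearly independent). -/
theorem result (K : Type u) [Field K] [CharZero K]
    (G : MvPolynomial (Fin 3) K) (hG : G.IsHomogeneous 3) (F : MvPolynomial (Fin 4) K)
    (hF : F = MvPolynomial.rename Fin.succ G)
    (b : Fin 5 → (Fin 3 → K)) (hb : ∀ j : Fin 5, MvPolynomial.eval (b j) G = 0)
    (h3 : ∀ i j l : Fin 5, i ≠ j → j ≠ l → i ≠ l → LinearIndependent K ![b i, b j, b l]) :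
    ∃ p : Fin 5 → (Fin 4 → K), (∀ j : Fin 5, MvPolynomial.eval (p j) F = 0) ∧
      ∀ j : Fin 5, LinearIndependent K (fun i : Fin 4 => p (j.succAbove i)) := by
  classical
  haveI : Infinite K := Infinite.of_injective (Nat.cast : ℕ → K) Nat.cast_injective
  have hfin : (({0} : Set K) ∪ {c : K | ¬ LinearIndependent K ![b 1 - c • b 0, b 3, b 4]} ∪
      {c : K | ¬ LinearIndependent K ![b 1 - c • b 0, b 2, b 4]} ∪
      {c : K | ¬ LinearIndependent K ![b 1 - c • b 0, b 2, b 3]}).Finite :=
    (((Set.finite_singleton 0).union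
      (bad_subsingleton (b 0) (b 1) (b 3) (b 4) (h3 0 3 4 (by decide) (by decide) (by decide))).finite).union
      (bad_subsingleton (b 0) (b 1) (b 2) (b 4) (h3 0 2 4 (by decide) (by decide) (by decide))).finite).union
      (bad_subsingleton (b 0) (b 1) (b 2) (b 3) (h3 0 2 3 (by decide) (by decide) (by decide))).finite
  obtain ⟨c, hc⟩ := hfin.exists_notMem
  simp only [Set.mem_union, Set.mem_singleton_iff, Set.mem_ofPred_eq, not_or, not_not] at hc
  obtain ⟨⟨⟨hc0, h34⟩, h24⟩, h23⟩ := hc
  let t : Fin 5 → K := ![1, c, 0, 0, 0]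
  refine ⟨fun j => Fin.cons (t j) (b j), ?_, ?_⟩
  · intro j
    rw [hF, MvPolynomial.eval_rename]
    have : (Fin.cons (t j) (b j) : Fin 4 → K) ∘ Fin.succ = b j := by
      funext i; simp
    rw [this]
    exact hb j
  · intro j
    refine li_of (fun i => t (j.succAbove i)) (fun i => b (j.succAbove i)) ?_
    intro g h1 h2
    rw [Fin.sum_univ_four] at h1 h2
    fin_cases j
    · -- omit 0 : indices 1 2 3 4
      simp [t, Fin.succAbove] at h1 h2
      have hg0 : g 0 = 0 := h1.resolve_right hc0
      rw [hg0, zero_smul, zero_add] at h2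
      obtain ⟨e1, e2, e3⟩ := li3 (h3 2 3 4 (by decide) (by decide) (by decide)) h2
      intro i; fin_cases i <;> assumption
    · -- omit 1 : indices 0 2 3 4
      simp [t, Fin.succAbove] at h1 h2
      rw [h1, zero_smul, zero_add] at h2
      obtain ⟨e1, e2, e3⟩ := li3 (h3 2 3 4 (by decide) (by decide) (by decide)) h2
      intro i; fin_cases i <;> assumption
    · -- omit 2 : indices 0 1 3 4
      simp [t, Fin.succAbove] at h1 h2
      have hg0 : g 0 = -(g 1 * c) := by linear_combination h1
      have h2' : g 1 • (b 1 - c • b 0) + g 2 • b 3 + g 3 • b 4 = 0 := by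
        rw [← h2, hg0]; module
      obtain ⟨e1, e2, e3⟩ := li3 h34 h2'
      have e0 : g 0 = 0 := by rw [hg0, e1]; ring
      intro i; fin_cases i <;> assumption
    · -- omit 3 : indices 0 1 2 4
      simp [t, Fin.succAbove] at h1 h2
      have hg0 : g 0 = -(g 1 * c) := by linear_combination h1
      have h2' : g 1 • (b 1 - c • b 0) + g 2 • b 2 + g 3 • b 4 = 0 := by
        rw [← h2, hg0]; module
      obtain ⟨e1, e2, e3⟩ := li3 h24 h2'
      have e0 : g 0 = 0 := by rw [hg0, e1]; ring
      intro i; fin_cases i <;> assumption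
    · -- omit 4 : indices 0 1 2 3
      simp [t, Fin.succAbove] at h1 h2
      have hg0 : g 0 = -(g 1 * c) := by linear_combination h1
      have h2' : g 1 • (b 1 - c • b 0) + g 2 • b 2 + g 3 • b 3 = 0 := by
        rw [← h2, hg0]; module
      obtain ⟨e1, e2, e3⟩ := li3 h23 h2'
      have e0 : g 0 = 0 := by rw [hg0, e1]; ring
      intro i; fin_cases i <;> assumption

end Groth.Agent.S16351
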