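import Groth.Statements.S16353
import Mathlib.Data.Finsupp.Weight
import Mathlib.Data.Nat.Factorial.Basic
import Mathlib.Tactic

set_option autoImplicit false
universe u
open DegLoci

namespace Groth.Agent.S16353

section helpers
open MvPolynomial W4c3degenlocivb

variable {k : Type u} [Field k] {m : ℕ}

/-- the weight appearing in `contract` -/
def w (β α : Fin m →₀ ℕ) : ℕ := β.support.prod fun i => Nat.descFactorial (β i) (α i)

lemma coeff_contract (D G : MvPolynomial (Fin m) k) (γ : Fin m →₀ ℕ) :
    coeff γ (contract D G) =
      ∑ α ∈ D.support, coeff α D * coeff (α + γ) G * (w (α + γ) α : k) := by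
  unfold contract
  rw [coeff_sum]
  refine Finset.sum_congr rfl fun α _ => ?_
  rw [coeff_sum]
  by_cases hmem : α + γ ∈ G.support
  · rw [Finset.sum_eq_single (α + γ)]
    · rw [if_pos (le_self_add), coeff_monomial, if_pos (by simp)]
      rfl
    · intro β _ hβ
      split_ifs with hle
      · rw [coeff_monomial, if_neg]
        intro heq
        apply hβ
        rw [← heq, add_comm, tsub_add_cancel_of_le hle]
      · simp
    · intro h; exact absurd hmem h
  · rw [notMem_support_iff.1 hmem, mul_zero, zero_mul]
    refine Finset.sum_eq_zero fun β hβ => ?_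
    split_ifs with hle
    · rw [coeff_monomial, if_neg]
      intro heq
      apply hmem
      rw [← heq, add_comm, tsub_add_cancel_of_le hle]
      exact hβ
    · simp

lemma w_eq_univ (β α : Fin m →₀ ℕ) (h : α ≤ β) :
    w β α = ∏ i : Fin m, Nat.descFactorial (β i) (α i) := by
  unfold w
  refine Finset.prod_subset (Finset.subset_univ _) fun i _ hi => ?_
  have hβ : β i = 0 := Finsupp.notMem_support_iff.1 hi
  have hα : α i = 0 := by
    have := h i
    omega
  rw [hβ, hα]
  rfl

lemma w_ident (α δ : Fin m →₀ ℕ) :
    w (α + δ) α * w δ δ = (∏ i : Fin m, (α i).factorial) * w (δ + α) δ := by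
  rw [w_eq_univ _ _ (le_self_add), w_eq_univ _ _ le_rfl, w_eq_univ _ _ (le_self_add),
    ← Finset.prod_mul_distrib, ← Finset.prod_mul_distrib]
  refine Finset.prod_congr rfl fun i _ => ?_
  simp only [Finsupp.coe_add, Pi.add_apply]
  have h1 := Nat.factorial_mul_descFactorial (Nat.le_add_right (α i) (δ i))
  have h2 := Nat.factorial_mul_descFactorial (Nat.le_add_right (δ i) (α i))
  rw [Nat.add_sub_cancel_left] at h1 h2
  rw [Nat.descFactorial_self, mul_comm, h1, h2, add_comm]

/-- the contraction of a homogeneous form of degree `d` with one of degree `e` has only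
coefficients of degree `e - d`. -/
lemma coeff_contract_eq_zero (D G : MvPolynomial (Fin m) k) (d e : ℕ) (hD : D.IsHomogeneous d)
    (hG : G.IsHomogeneous e) (γ : Fin m →₀ ℕ) (hγ : γ.degree + d ≠ e) :
    coeff γ (contract D G) = 0 := by
  rw [coeff_contract]
  refine Finset.sum_eq_zero fun α hα => ?_
  have hαd : α.degree = d := by
    by_contra hne
    exact (mem_support_iff.1 hα) (hD.coeff_eq_zero hne)
  rw [hG.coeff_eq_zero, mul_zero, zero_mul]
  rw [map_add, hαd, add_comm]
  exact hγ

end helpers

/-- Let k be a field of characteristic zero, R = k[y_0, …, y_{m−1}] acting on S = k[∂_0, …, ∂_{m−1}] by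
apolarity (y_i acts as the derivative with respect to ∂_i), F ∈ S homogeneous of degree e and d ≤ e.
Then the degree-d part of the apolar ideal of F is the orthogonal complement of the partial
derivatives of F of order e − d: a homogeneous D ∈ R_d satisfies D(F) = 0 if and only if D(y^α(F)) =
0 for every multi-index α with |α| = e − d (each D(y^α(F)) being a constant, the value of the
apolarity pairing of D with y^α(F)). -/
theorem result (k : Type u) [Field k] [CharZero k] (m : ℕ)
    (F : MvPolynomial (Fin m) k) (e : ℕ) (hF : F.IsHomogeneous e) (d : ℕ) (hd : d ≤ e)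
    (D : MvPolynomial (Fin m) k) (hD : D.IsHomogeneous d) :
    W4c3degenlocivb.contract D F = 0 ↔
      ∀ α : Fin m →₀ ℕ, α.degree = e - d → W4c3degenlocivb.contract D (W4c3degenlocivb.contract (MvPolynomial.monomial α 1) F) = 0 := by
  classical
  have hE : ∀ α δ : Fin m →₀ ℕ, MvPolynomial.coeff δ
      (W4c3degenlocivb.contract (MvPolynomial.monomial α (1 : k)) F)
        = MvPolynomial.coeff (α + δ) F * (w (α + δ) α : k) := by
    intro α δ
    rw [coeff_contract, MvPolynomial.support_monomial, if_neg one_ne_zero, Finset.sum_singleton,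
      MvPolynomial.coeff_monomial, if_pos rfl, one_mul]
  have key : ∀ α : Fin m →₀ ℕ, α.degree = e - d →
      W4c3degenlocivb.contract D (W4c3degenlocivb.contract (MvPolynomial.monomial α 1) F)
        = MvPolynomial.C ((∏ i, ((α i).factorial : k)) *
            MvPolynomial.coeff α (W4c3degenlocivb.contract D F)) := by
    intro α hα
    ext γ
    rw [coeff_contract, MvPolynomial.coeff_C]
    by_cases hγ : γ = 0
    · subst hγ
      rw [if_pos rfl, coeff_contract, Finset.mul_sum]
      refine Finset.sum_congr rfl fun δ _ => ?_
      simp only [hE, add_zero]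
      have h1 := w_ident α δ
      have h2 : ((w (α + δ) α : k)) * (w δ δ : k)
          = (∏ i, ((α i).factorial : k)) * (w (δ + α) δ : k) := by exact_mod_cast h1
      rw [add_comm δ α] at h2 ⊢
      linear_combination (MvPolynomial.coeff δ D * MvPolynomial.coeff (α + δ) F) * h2
    · rw [if_neg (Ne.symm hγ)]
      refine Finset.sum_eq_zero fun δ hδ => ?_
      have hδd : δ.degree = d := by
        by_contra hne
        exact (MvPolynomial.mem_support_iff.1 hδ) (hD.coeff_eq_zero hne)
      rw [hE, hF.coeff_eq_zero, zero_mul, mul_zero, zero_mul]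
      rw [map_add, map_add, hα, hδd]
      have : γ.degree ≠ 0 := fun h0 => hγ ((Finsupp.degree_eq_zero_iff γ).1 h0)
      omega
  constructor
  · intro h0 α hα
    rw [key α hα, h0, MvPolynomial.coeff_zero, mul_zero, map_zero]
  · intro hall
    ext γ
    rw [MvPolynomial.coeff_zero]
    by_cases hγ : γ.degree + d = e
    · have hγ' : γ.degree = e - d := by omega
      have h1 := hall γ hγ'
      rw [key γ hγ'] at h1
      have h2 : (∏ i, ((γ i).factorial : k)) *
          MvPolynomial.coeff γ (W4c3degenlocivb.contract D F) = 0 := by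
        have := congrArg (MvPolynomial.coeff 0) h1
        rw [MvPolynomial.coeff_C, if_pos rfl, MvPolynomial.coeff_zero] at this
        exact this
      rcases mul_eq_zero.1 h2 with h3 | h3
      · exfalso
        exact (Finset.prod_ne_zero_iff.2 fun i _ =>
          Nat.cast_ne_zero.2 (Nat.factorial_ne_zero _)) h3
      · exact h3
    · exact coeff_contract_eq_zero D F d e hD hF γ hγ

end Groth.Agent.S16353
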