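import Groth.Statements.S16355
import Groth.Agent.Lib.PfaffSpan75

set_option autoImplicit false
universe u
open DegLoci

namespace Groth.Agent.S16355

section example75

open Groth.Agent.Lib.Pfaff75 Groth.Agent.Lib.PfaffSpan75 W4c3degenlocivb MvPolynomial

variable (k : Type u) [Field k]

/-- the linear form `y_(a mod 2)` -/
noncomputable def ell (a : ℕ) : MvPolynomial (Fin 2) k := if a % 2 = 0 then X 0 else X 1

/-- coefficient array of the tridiagonal example -/
def c0 (r : ℕ) (a b : Fin (2 * r + 1)) (l : Fin 2) : k :=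
  if (b : ℕ) = a + 1 then (if (l : ℕ) = a % 2 then 1 else 0)
  else if (a : ℕ) = b + 1 then (if (l : ℕ) = b % 2 then -1 else 0) else 0

theorem c0_antisymm (r : ℕ) (a b : Fin (2 * r + 1)) (l : Fin 2) :
    c0 k r b a l = - c0 k r a b l := by
  unfold c0
  split_ifs <;> first | (exfalso; omega) | simp

theorem Nmat_c0 (r : ℕ) : Nmat (c0 k r) = tri (ell k) (2 * r + 1) := by
  ext a b
  rw [Nmat_apply, tri_apply, Fin.sum_univ_two]
  unfold c0 ell
  have h2 := Nat.mod_two_eq_zero_or_one (a : ℕ)
  have h3 := Nat.mod_two_eq_zero_or_one (b : ℕ)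
  by_cases h1 : (b : ℕ) = a + 1
  · simp only [if_pos h1]
    rcases h2 with h2 | h2 <;> simp [h2]
  · by_cases h4 : (a : ℕ) = b + 1
    · simp only [if_neg h1, if_pos h4]
      rcases h3 with h3 | h3 <;> simp [h3]
    · simp only [if_neg h1, if_neg h4]
      simp

theorem prod_ite_lt (r s : ℕ) (hs : s ≤ r) (x y : MvPolynomial (Fin 2) k) :
    ∏ j ∈ Finset.range r, (if j < s then x else y) = x ^ s * y ^ (r - s) := by
  rw [← Finset.prod_range_mul_prod_Ico _ hs]
  congr 1
  · rw [Finset.prod_congr rfl (g := fun _ => x)]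
    · simp
    · intro j hj
      rw [if_pos (Finset.mem_range.mp hj)]
  · rw [Finset.prod_congr rfl (g := fun _ => y)]
    · simp
    · intro j hj
      rw [if_neg (not_lt.mpr (Finset.mem_Ico.mp hj).1)]

theorem subPf_c0 (r : ℕ) (s : ℕ) (hs : s ≤ r) (i : Fin (2 * r + 1)) (hi : (i : ℕ) = 2 * s) :
    subPf (c0 k r) i = monomial (mon r s) 1 := by
  unfold subPf
  rw [Nmat_c0, tri_submatrix_succAbove, pf_tri]
  have : ∀ j ∈ Finset.range r, lamDel (ell k) i (2 * j) = if j < s then X 0 else X 1 := by
    intro j _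
    unfold lamDel ell
    rw [hi]
    by_cases hjs : j < s
    · rw [if_pos (by omega), if_pos (by omega), if_pos hjs]
    · rw [if_neg (by omega), if_neg (by omega), if_neg (by omega), if_neg hjs]
  rw [Finset.prod_congr rfl this, prod_ite_lt k r s hs, X_pow_eq_monomial, X_pow_eq_monomial,
    monomial_mul, one_mul]
  rfl

end example75


/-- Let k be an algebraically closed field of characteristic zero and n = 2r + 1 ≥ 3 odd. For a general
n × n alternating matrix N of linear forms in k[y_0, y_1], the n principal sub-Pfaffians of size n −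
1 (delete row i and column i, take the Pfaffian) span the whole space k[y_0, y_1]_r of binary forms
of degree r. Here such matrices are parametrised by antisymmetric coefficient arrays c (entry (i, j)
of N is Σ_l c_{i j l} y_l with c_{j i l} = −c_{i j l}), and 'general' means: outside the zero set of
some polynomial Φ in the coefficients which does not vanish at every antisymmetric array. -/
theorem result (k : Type u) [Field k] [IsAlgClosed k] [CharZero k]
    (r : ℕ) (hr : 1 ≤ r) :
    ∃ Φ : MvPolynomial (Fin (2 * r + 1) × Fin (2 * r + 1) × Fin 2) k,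
      (∃ c : Fin (2 * r + 1) → Fin (2 * r + 1) → Fin 2 → k, (∀ i j l, c j i l = -c i j l) ∧
        MvPolynomial.eval (fun p => c p.1 p.2.1 p.2.2) Φ ≠ 0) ∧
      ∀ c : Fin (2 * r + 1) → Fin (2 * r + 1) → Fin 2 → k, (∀ i j l, c j i l = -c i j l) →
        MvPolynomial.eval (fun p => c p.1 p.2.1 p.2.2) Φ ≠ 0 →
        Submodule.span k (Set.range fun i : Fin (2 * r + 1) =>
            W4c3degenlocivb.pf (2 * r) ((Matrix.of fun a b => ∑ l : Fin 2, MvPolynomial.C (c a b l) * MvPolynomial.X l).submatrix i.succAbove i.succAbove)) =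
          MvPolynomial.homogeneousSubmodule (Fin 2) k r := by
  classical
  -- universal coefficient ring
  let S := MvPolynomial (Fin (2 * r + 1) × Fin (2 * r + 1) × Fin 2) k
  let cU : Fin (2 * r + 1) → Fin (2 * r + 1) → Fin 2 → S := fun a b l => MvPolynomial.X (a, b, l)
  let idx : Fin (r + 1) → Fin (2 * r + 1) := fun s => ⟨2 * (s : ℕ), by have := s.isLt; omega⟩
  let QU : Matrix (Fin (r + 1)) (Fin (r + 1)) S :=
    Matrix.of fun s t => MvPolynomial.coeff (Groth.Agent.Lib.PfaffSpan75.mon r t)
      (Groth.Agent.Lib.PfaffSpan75.subPf cU (idx s))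
  -- evaluation of the universal determinant
  have heval : ∀ c : Fin (2 * r + 1) → Fin (2 * r + 1) → Fin 2 → k,
      MvPolynomial.eval (fun p => c p.1 p.2.1 p.2.2) QU.det =
        (Matrix.of fun s t : Fin (r + 1) => MvPolynomial.coeff (Groth.Agent.Lib.PfaffSpan75.mon r t)
          (Groth.Agent.Lib.PfaffSpan75.subPf c (idx s))).det := by
    intro c
    rw [RingHom.map_det]
    congr 1
    ext s t
    simp only [RingHom.mapMatrix_apply, Matrix.map_apply, Matrix.of_apply, QU]
    rw [← MvPolynomial.coeff_map, Groth.Agent.Lib.PfaffSpan75.subPf_map]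
    congr 2
    funext a b l
    simp [cU]
  refine ⟨QU.det, ⟨c0 k r, fun i j l => c0_antisymm k r i j l, ?_⟩, ?_⟩
  · rw [heval]
    have : (Matrix.of fun s t : Fin (r + 1) => MvPolynomial.coeff (Groth.Agent.Lib.PfaffSpan75.mon r t)
        (Groth.Agent.Lib.PfaffSpan75.subPf (c0 k r) (idx s))) = 1 := by
      ext s t
      rw [Matrix.of_apply, subPf_c0 k r s (Nat.lt_succ_iff.mp s.isLt) (idx s) rfl,
        MvPolynomial.coeff_monomial, Matrix.one_apply]
      by_cases hst : s = t
      · subst hst; simp
      · rw [if_neg hst, if_neg]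
        intro h
        exact hst (Fin.ext (Groth.Agent.Lib.PfaffSpan75.mon_injective r h))
    rw [this, Matrix.det_one]
    exact one_ne_zero
  · intro c _ hc
    rw [heval] at hc
    exact Groth.Agent.Lib.PfaffSpan75.span_eq_of_det_ne_zero r
      (fun i : Fin (2 * r + 1) => Groth.Agent.Lib.PfaffSpan75.subPf c i)
      (fun i => Groth.Agent.Lib.PfaffSpan75.subPf_isHomogeneous c i) idx hc

end Groth.Agent.S16355
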