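import Groth.Statements.S16356
import Mathlib.RingTheory.WittVector.DiscreteValuationRing
import Mathlib.RingTheory.WittVector.Identities
import Mathlib.RingTheory.WittVector.Domain
import Mathlib.Algebra.Ring.GeomSum
import Mathlib.Data.Nat.Choose.Dvd
import Mathlib.Tactic

set_option autoImplicit false
universe u
open OrdAV

namespace Groth.Agent.S16356

section helpers
open WittVector

lemma add_one_pow_prime {p : ℕ} (hp : p.Prime) (hp2 : p ≠ 2) {R : Type*} [CommRing R] (y : R) :
    ∃ E : R, (y + 1) ^ p = (p : R) * y ^ 2 * E + p * y + 1 + y ^ p := by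
  obtain ⟨q, rfl⟩ : ∃ q, p = q + 2 := ⟨p - 2, by have := hp.two_le; omega⟩
  have hdiv : ∀ m, m < q → ∃ t : ℕ, (q + 2).choose (m + 2) = (q + 2) * t := fun m hm =>
    hp.dvd_choose_self (by omega) (by omega)
  choose! t ht using hdiv
  refine ⟨∑ m ∈ Finset.range q, y ^ m * (t m : R), ?_⟩
  rw [add_pow, Finset.sum_range_succ, Finset.sum_range_succ', Finset.sum_range_succ']
  simp only [one_pow, mul_one, Nat.choose_self, Nat.cast_one, pow_zero, Nat.choose_zero_right,
    zero_add, pow_one, Nat.choose_one_right]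
  have : ∑ m ∈ Finset.range q, y ^ (m + 1 + 1) * ((q + 2).choose (m + 1 + 1) : R)
      = ((q + 2 : ℕ) : R) * y ^ 2 * ∑ m ∈ Finset.range q, y ^ m * (t m : R) := by
    rw [Finset.mul_sum]
    refine Finset.sum_congr rfl fun m hm => ?_
    rw [show m + 1 + 1 = m + 2 from rfl, ht m (Finset.mem_range.1 hm)]
    push_cast
    ring
  rw [this]
  push_cast
  ring

variable {p : ℕ} [hp : Fact p.Prime] {k : Type u} [Field k] [CharP k p] [PerfectRing k p]

lemma p_dvd_of_coeff_zero (y : WittVector p k) (hy : y.coeff 0 = 0) :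
    ∃ y', y = (p : WittVector p k) * y' := by
  by_cases h : y = 0
  · exact ⟨0, by simp [h]⟩
  obtain ⟨m, b, hb, rfl⟩ := exists_eq_pow_p_mul y h
  cases m with
  | zero =>
    simp only [pow_zero, one_mul] at hy
    exact absurd hy hb
  | succ m => exact ⟨(p : WittVector p k) ^ m * b, by ring⟩

lemma eq_one_of_pow_p (hp2 : p ≠ 2) (z : WittVector p k) (h0 : z.coeff 0 = 1) (hz : z ^ p = 1) :
    z = 1 := by
  by_contra hne
  set y := z - 1 with hy
  have hy0 : y ≠ 0 := sub_ne_zero.2 hne
  have hyc : y.coeff 0 = 0 := by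
    have : constantCoeff y = constantCoeff z - constantCoeff 1 := map_sub _ _ _
    simp only [constantCoeff_apply] at this
    rw [this, h0]; simp
  obtain ⟨y', hy'⟩ := p_dvd_of_coeff_zero y hyc
  obtain ⟨E, hE⟩ := add_one_pow_prime hp.out hp2 y
  have hz' : (y + 1) ^ p = 1 := by rw [hy, sub_add_cancel, hz]
  rw [hz'] at hE
  obtain ⟨q, hq⟩ : ∃ q, p = q + 3 := ⟨p - 3, by
    have := hp.out.two_le
    omega⟩
  have hfac : y * ((p : WittVector p k) * (y * E + 1 + (p : WittVector p k) * ((p : WittVector p k) ^ q * y' ^ (q + 2)))) = 0 := by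
    have hpow : ∀ n : ℕ, n = q + 3 → y ^ n = y * ((p : WittVector p k) * (p : WittVector p k) *
        ((p : WittVector p k) ^ q * y' ^ (q + 2))) := by
      intro n hn
      subst hn
      have h2 : y ^ (q + 2) = ((p : WittVector p k) * y') ^ (q + 2) := by rw [← hy']
      rw [pow_succ, h2]
      ring
    have := hpow p hq
    linear_combination (-1 : WittVector p k) * hE - this
  rcases mul_eq_zero.1 hfac with h | h
  · exact hy0 h
  rcases mul_eq_zero.1 h with h | h
  · exact WittVector.p_nonzero p k h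
  · have := congrArg constantCoeff h
    simp only [map_add, map_mul, map_one, map_zero, constantCoeff_apply, hyc, zero_mul, zero_add,
      map_natCast] at this
    rw [CharP.cast_eq_zero, zero_mul, add_zero] at this
    exact one_ne_zero this

lemma eq_one_of_pow_coprime (z : WittVector p k) (h0 : z.coeff 0 = 1) (m : ℕ) (hm : ¬ p ∣ m)
    (hz : z ^ m = 1) : z = 1 := by
  have h1 : (∑ i ∈ Finset.range m, z ^ i) * (z - 1) = 0 := by
    rw [geom_sum_mul, hz, sub_self]
  rcases mul_eq_zero.1 h1 with h | h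
  · exfalso
    have := congrArg constantCoeff h
    simp only [map_sum, map_pow, constantCoeff_apply, h0, one_pow, Finset.sum_const,
      Finset.card_range, map_zero, nsmul_eq_mul, mul_one] at this
    exact hm ((CharP.cast_eq_zero_iff k p m).1 this)
  · exact sub_eq_zero.1 h

lemma coeff_zero_pow (z : WittVector p k) (h0 : z.coeff 0 = 1) (n : ℕ) : (z ^ n).coeff 0 = 1 := by
  have : constantCoeff (z ^ n) = (constantCoeff z) ^ n := map_pow _ _ _
  simp only [constantCoeff_apply] at this
  rw [this, h0, one_pow]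

lemma eq_one_of_pow_p_pow (hp2 : p ≠ 2) (a : ℕ) : ∀ (z : WittVector p k), z.coeff 0 = 1 →
    z ^ (p ^ a) = 1 → z = 1 := by
  induction a with
  | zero => intro z _ hz; simpa using hz
  | succ a ih =>
    intro z h0 hz
    rw [pow_succ, pow_mul] at hz
    have := eq_one_of_pow_p hp2 (z ^ (p ^ a)) (coeff_zero_pow z h0 _) hz
    exact ih z h0 this

end helpers

/-- For an odd prime p and a perfect field k of characteristic p, a root of unity in the ring of Witt
vectors W(k) whose residue in k is 1 is itself 1: if x ^ n = 1 with n ≥ 1 and the zeroth Witt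
component of x is 1, then x = 1. (For p = 2 this fails: -1 in W(F_2).) -/
theorem result (p : ℕ) [Fact p.Prime] (hp : p ≠ 2)
    (k : Type u) [Field k] [CharP k p] [PerfectRing k p]
    (x : WittVector p k) (n : ℕ) (hn : 0 < n) (hx : x ^ n = 1) (h0 : x.coeff 0 = 1) : x = 1 := by
  obtain ⟨a, m, hm, rfl⟩ := Nat.exists_eq_pow_mul_and_not_dvd hn.ne' p (Fact.out : p.Prime).ne_one
  rw [pow_mul] at hx
  have h1 := eq_one_of_pow_coprime (x ^ (p ^ a)) (coeff_zero_pow x h0 _) m hm hx
  exact eq_one_of_pow_p_pow hp a x h0 h1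

end Groth.Agent.S16356
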