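import Groth.Statements.S16357
import Mathlib.Tactic

set_option autoImplicit false
universe u
open OrdAV

namespace Groth.Agent.S16357

/-- Over a field L of characteristic zero, a monic polynomial h whose square has rational coefficients
has rational coefficients itself. -/
theorem result (L : Type u) [Field L] [CharZero L]
    (h : Polynomial L) (hm : h.Monic) (f : Polynomial ℚ)
    (hf : h ^ 2 = Polynomial.map (algebraMap ℚ L) f) :
    ∃ g : Polynomial ℚ, Polynomial.map (algebraMap ℚ L) g = h := by
  classical
  set K : Subfield L := (algebraMap ℚ L).fieldRange with hK
  have hsq : ∀ i, (h * h).coeff i ∈ K := by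
    intro i
    rw [← pow_two, hf, Polynomial.coeff_map]
    exact ⟨_, rfl⟩
  have key : ∀ d j : ℕ, h.natDegree ≤ j + d → h.coeff j ∈ K := by
    intro d
    induction d with
    | zero =>
      intro j hj
      rcases Nat.eq_or_lt_of_le (by simpa using hj : h.natDegree ≤ j) with h1 | h1
      · rw [← h1, hm.coeff_natDegree]; exact K.one_mem
      · rw [Polynomial.coeff_eq_zero_of_natDegree_lt h1]; exact K.zero_mem
    | succ d ih =>
      intro j hj
      by_cases hjd : h.natDegree ≤ j + d
      · exact ih j hjd
      · have hjlt : j < h.natDegree := by omega
        have hIH : ∀ i, j < i → h.coeff i ∈ K := fun i hi => ih i (by omega)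
        have hsum := hsq (h.natDegree + j)
        rw [Polynomial.coeff_mul] at hsum
        have hmem1 : (j, h.natDegree) ∈ Finset.antidiagonal (h.natDegree + j) := by
          simp [add_comm]
        have hmem2 : (h.natDegree, j) ∈ (Finset.antidiagonal (h.natDegree + j)).erase
            (j, h.natDegree) := by
          simp only [Finset.mem_erase, Finset.mem_antidiagonal, ne_eq, Prod.mk.injEq, not_and,
            and_true]
          omega
        rw [← Finset.add_sum_erase _ _ hmem1, ← Finset.add_sum_erase _ _ hmem2] at hsum
        have hrest : ∑ x ∈ ((Finset.antidiagonal (h.natDegree + j)).erase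
            (j, h.natDegree)).erase (h.natDegree, j), h.coeff x.1 * h.coeff x.2 ∈ K := by
          refine K.sum_mem fun x hx => ?_
          obtain ⟨a, b⟩ := x
          simp only [Finset.mem_erase, Finset.mem_antidiagonal, ne_eq, Prod.mk.injEq,
            not_and] at hx
          obtain ⟨h1, h2, h3⟩ := hx
          by_cases ha : h.natDegree < a
          · rw [Polynomial.coeff_eq_zero_of_natDegree_lt ha, zero_mul]; exact K.zero_mem
          by_cases hb : h.natDegree < b
          · rw [Polynomial.coeff_eq_zero_of_natDegree_lt hb, mul_zero]; exact K.zero_mem
          have haj : j < a := by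
            by_contra hc
            have e1 : a = j := by omega
            exact h2 e1 (by omega)
          have hbj : j < b := by
            by_contra hc
            have e1 : b = j := by omega
            exact h1 (by omega) e1
          exact K.mul_mem (hIH a haj) (hIH b hbj)
        rw [hm.coeff_natDegree] at hsum
        have h2c : 2 * h.coeff j ∈ K := by
          have e : 2 * h.coeff j = (h.coeff j * 1 + (1 * h.coeff j + ∑ x ∈ ((Finset.antidiagonal
              (h.natDegree + j)).erase (j, h.natDegree)).erase (h.natDegree, j),
              h.coeff x.1 * h.coeff x.2)) - ∑ x ∈ ((Finset.antidiagonal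
              (h.natDegree + j)).erase (j, h.natDegree)).erase (h.natDegree, j),
              h.coeff x.1 * h.coeff x.2 := by ring
          rw [e]
          exact K.sub_mem hsum hrest
        have e2 : h.coeff j = (2 * h.coeff j) / 2 := by field_simp
        rw [e2]
        exact K.div_mem h2c (by exact_mod_cast natCast_mem K 2)
  have hlifts : h ∈ Polynomial.lifts (algebraMap ℚ L) := by
    rw [Polynomial.lifts_iff_coeff_lifts]
    intro i
    have := key h.natDegree i (Nat.le_add_left _ _)
    exact this
  exact (Polynomial.mem_lifts h).mp hlifts

end Groth.Agent.S16357
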