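import Groth.Statements.S16358
import Mathlib.RingTheory.WittVector.Domain
import Mathlib.RingTheory.WittVector.Identities
import Mathlib.LinearAlgebra.TensorProduct.RightExactness
import Mathlib.LinearAlgebra.FreeModule.Basic
import Mathlib.Algebra.Module.Torsion.Free

set_option autoImplicit false
universe u v w
open OrdAV

namespace Groth.Agent.S16358

open TensorProduct in
theorem exists_one_tmul {R : Type*} [CommRing R] (I : Ideal R) {N : Type*} [AddCommGroup N]
    [Module R N] (x : (R ⧸ I) ⊗[R] N) : ∃ n : N, (1 : R ⧸ I) ⊗ₜ[R] n = x := by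
  induction x using TensorProduct.induction_on with
  | zero => exact ⟨0, by simp⟩
  | tmul a' m =>
    obtain ⟨a, rfl⟩ := Ideal.Quotient.mk_surjective a'
    refine ⟨a • m, ?_⟩
    rw [← TensorProduct.smul_tmul]
    congr 1
    rw [← Ideal.Quotient.algebraMap_eq, Algebra.algebraMap_eq_smul_one]
  | add x y hx hy =>
    obtain ⟨m1, rfl⟩ := hx
    obtain ⟨m2, rfl⟩ := hy
    exact ⟨m1 + m2, by rw [TensorProduct.tmul_add]⟩

/-- Let k be a perfect field of characteristic p > 0 and W = W(k); let M be a finitely generated free
W-module on which a finite group G acts W-linearly, with invariant submodule M^G. Then the map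
(W/pW) ⊗ M^G → (W/pW) ⊗ M induced by the inclusion is injective. Since M^G is free, this implies
rank_W M^G ≤ dim_k (M/pM)^G; the published statement is that inequality, and this row states the
stronger injectivity. -/
theorem result (p : ℕ) [Fact p.Prime]
    (k : Type u) [Field k] [CharP k p] [PerfectRing k p]
    (M : Type v) [AddCommGroup M] [Module (WittVector p k) M]
    [Module.Free (WittVector p k) M] [Module.Finite (WittVector p k) M]
    (G : Type w) [Group G] [Finite G] (ρ : Representation (WittVector p k) G M) :
    Function.Injective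
      (LinearMap.lTensor (WittVector p k ⧸ Ideal.span {(p : WittVector p k)}) ρ.invariants.subtype) := by
  set W := WittVector p k
  set I : Ideal W := Ideal.span {(p : W)} with hI
  have hp0 : (p : W) ≠ 0 := WittVector.p_nonzero p k
  rw [injective_iff_map_eq_zero]
  intro x hx
  obtain ⟨n, rfl⟩ := exists_one_tmul I x
  rw [LinearMap.lTensor_tmul] at hx
  have h1 : (n : M) ∈ LinearMap.ker (TensorProduct.mk W (W ⧸ I) M 1) := hx
  rw [LinearMap.ker_tensorProductMk, hI, Submodule.ideal_span_singleton_smul] at h1
  obtain ⟨m, -, hm⟩ := h1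
  have hm' : (p : W) • m = (n : M) := hm
  have hminv : m ∈ ρ.invariants := by
    intro g
    have h2 : (p : W) • (ρ g m - m) = 0 := by
      rw [smul_sub, ← map_smul, hm', n.2 g, sub_self]
    have h3 := (smul_eq_zero.mp h2).resolve_left hp0
    exact sub_eq_zero.mp h3
  have hn : n = (p : W) • (⟨m, hminv⟩ : ρ.invariants) := by
    ext
    exact hm'.symm
  rw [hn, ← TensorProduct.smul_tmul]
  have : (p : W) • (1 : W ⧸ I) = 0 := by
    rw [← Algebra.algebraMap_eq_smul_one, Ideal.Quotient.algebraMap_eq,
      Ideal.Quotient.eq_zero_iff_mem]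
    exact Ideal.mem_span_singleton_self _
  rw [this, TensorProduct.zero_tmul]

end Groth.Agent.S16358
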