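import Groth.Statements.S16360
import Groth.Agent.Lib.DvrResExt57e
import Groth.Agent.Lib.HenselIntegralLocal
-- import your own Groth.Agent.* helpers here

set_option autoImplicit false
universe u
open Hensel

namespace Groth.Agent.S16360

set_option linter.style.haveILetI false

/-- Let R be a discrete valuation ring that is Henselian and excellent, write k for its residue field
and p for the characteristic exponent of k. There is a Henselian discrete valuation ring R' and an
injective ring map R → R' such that the maximal ideal of R generates that of R' (so a uniformizer of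
R is a uniformizer of R'), R' is the directed union of R-subalgebras that are finite free R-modules
of rank a power of p, and the residue field k' of R' is a perfect closure of k: every element of k'
is a p-th power in k', and some p-power-th power of it lies in the image of k. (The published
statement also asserts that R' is excellent; that is not asserted here.) -/
theorem result (R : Type u) [CommRing R] [IsDomain R]
    [IsDiscreteValuationRing R] [HenselianLocalRing R] (hR : EGA4.IsExcellent R) :
    ∃ (R' : Type u) (_ : CommRing R') (_ : IsDomain R') (_ : IsDiscreteValuationRing R')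
      (_ : HenselianLocalRing R') (_ : Algebra R R'),
      Function.Injective (algebraMap R R') ∧
      Ideal.map (algebraMap R R') (IsLocalRing.maximalIdeal R) = IsLocalRing.maximalIdeal R' ∧
      (∀ s : Finset R', ∃ S : Subalgebra R R', (↑s : Set R') ⊆ ↑S ∧ Module.Finite R S ∧ Module.Free R S ∧
        ∃ m : ℕ, Module.finrank R S = ringExpChar (IsLocalRing.ResidueField R) ^ m) ∧
      (∀ y : R', ∃ z : R', z ^ ringExpChar (IsLocalRing.ResidueField R) - y ∈ IsLocalRing.maximalIdeal R') ∧
      (∀ y : R', ∃ (m : ℕ) (z : R),
        algebraMap R R' z - y ^ (ringExpChar (IsLocalRing.ResidueField R) ^ m) ∈ IsLocalRing.maximalIdeal R') := by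
  classical
  open Polynomial IsLocalRing Groth.Agent.Lib.DvrResExt57 in
  obtain ⟨q, hq⟩ : ∃ q, ringExpChar (ResidueField R) = q := ⟨_, rfl⟩
  rw [hq]
  have hexp : ExpChar (ResidueField R) q := ringExpChar.of_eq hq
  rcases hexp with _ | ⟨hprime⟩
  · -- characteristic zero residue field: take R' = R
    refine ⟨R, inferInstance, inferInstance, inferInstance, inferInstance, Algebra.id R,
      Function.injective_id, ?_, ?_, ?_, ?_⟩
    · rw [Algebra.algebraMap_self, Ideal.map_id]
    · intro s
      refine ⟨⊤, fun x _ => Algebra.mem_top, ?_, ?_, 0, ?_⟩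
      · exact Module.Finite.equiv (Subalgebra.topEquiv (R := R) (A := R)).symm.toLinearEquiv
      · exact Module.Free.of_equiv (Subalgebra.topEquiv (R := R) (A := R)).symm.toLinearEquiv
      · rw [(Subalgebra.topEquiv (R := R) (A := R)).toLinearEquiv.finrank_eq, Module.finrank_self,
          pow_zero]
    · intro y
      exact ⟨y, by rw [pow_one, sub_self]; exact Ideal.zero_mem _⟩
    · intro y
      refine ⟨0, y, ?_⟩
      rw [pow_zero, pow_one, Algebra.algebraMap_self, RingHom.id_apply, sub_self]
      exact Ideal.zero_mem _
  · -- residue characteristic q prime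
    haveI : Fact q.Prime := ⟨hprime⟩
    let k := ResidueField R
    let k' := PerfectClosure k q
    let K := FractionRing R
    let Ω := AlgebraicClosure K
    letI algk' : Algebra R k' := ((PerfectClosure.of k q).comp (residue R)).toAlgebra
    obtain ⟨π, hπirr⟩ := IsDiscreteValuationRing.exists_irreducible R
    have hπ0 : maximalIdeal R = Ideal.span {π} :=
      (IsDiscreteValuationRing.irreducible_iff_uniformizer π).1 hπirr
    have hk : ∀ a : R, algebraMap R k' a = 0 ↔ a ∈ maximalIdeal R := by
      intro a
      change PerfectClosure.of k q (residue R a) = 0 ↔ _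
      rw [map_eq_zero, residue_eq_zero_iff]
    have hinj : Function.Injective (algebraMap R Ω) := by
      rw [IsScalarTower.algebraMap_eq R K Ω]
      exact (algebraMap K Ω).injective.comp (IsFractionRing.injective R K)
    haveI : Algebra.IsAlgebraic R Ω :=
      (IsFractionRing.comap_isAlgebraic_iff (A := R) (K := K) (C := Ω)).2 inferInstance
    have hpow : ∀ w : k', ∃ (n : ℕ) (a : R), w ^ (q ^ n) = algebraMap R k' a := by
      intro w
      induction w using PerfectClosure.induction_on with
      | _ x =>
        obtain ⟨n, x⟩ := x
        obtain ⟨a, rfl⟩ := residue_surjective x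
        refine ⟨n, a, ?_⟩
        rw [← iterate_frobenius, PerfectClosure.iterate_frobenius_mk]
        rfl
    obtain ⟨X, hsurj, hLF⟩ := Obj.exists_surjective_locFree_of_pow (Ω := Ω) q hπ0 hk hinj hpow
    have hπ : algebraMap R k' π = 0 := (hk π).2 (Obj.pi_mem hπ0)
    haveI hdvr : IsDiscreteValuationRing X.B :=
      X.isDiscreteValuationRing hπ0 (fun a h => (hk a).1 h) hinj hπ
    have hmax : maximalIdeal X.B = Ideal.span {algebraMap R X.B π} := X.maximalIdeal_eq hπ
    have hker : RingHom.ker X.ι.toRingHom = maximalIdeal X.B := by
      rw [hmax]; exact X.ker_eq hπ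
    have hmemker : ∀ b : X.B, X.ι b = 0 → b ∈ maximalIdeal X.B := by
      intro b hb
      rw [← hker]; exact hb
    haveI hint : Algebra.IsIntegral R X.B := by
      refine ⟨fun x => ?_⟩
      obtain ⟨S, hSle, hsS, hfin, -, -⟩ := hLF {(x : Ω)} (by
        intro y hy
        rw [Finset.coe_singleton, Set.mem_singleton_iff] at hy
        rw [hy]; exact x.2)
      have hxS : (x : Ω) ∈ S := hsS (by simp)
      haveI := hfin
      have h1 : IsIntegral R (⟨(x : Ω), hxS⟩ : S) := Algebra.IsIntegral.isIntegral _
      have h2 := h1.map (Subalgebra.inclusion hSle)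
      have h3 : Subalgebra.inclusion hSle (⟨(x : Ω), hxS⟩ : S) = x := Subtype.ext rfl
      rwa [h3] at h2
    haveI hhens : HenselianLocalRing X.B :=
      Groth.Agent.Lib.HenselIntegralLocal.henselianLocalRing_of_isIntegral R X.B
    refine ⟨X.B, inferInstance, inferInstance, hdvr, hhens, inferInstance,
      X.algebraMap_injective hinj, ?_, ?_, ?_, ?_⟩
    · rw [hπ0, Ideal.map_span, Set.image_singleton, hmax]
    · intro s
      obtain ⟨S₀, hSle, hsS, hfin, hfree, m, hrank⟩ := hLF (s.image (fun x : X.B => (x : Ω))) (by
        intro y hy
        rw [Finset.mem_coe, Finset.mem_image] at hy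
        obtain ⟨x, _, rfl⟩ := hy
        exact x.2)
      let incl : S₀ →ₐ[R] X.B := Subalgebra.inclusion hSle
      let e : S₀ ≃ₐ[R] incl.range :=
        AlgEquiv.ofInjective incl (Subalgebra.inclusion_injective hSle)
      refine ⟨incl.range, ?_, ?_, ?_, m, ?_⟩
      · intro x hx
        have hxS : (x : Ω) ∈ S₀ := hsS (by
          rw [Finset.mem_coe, Finset.mem_image]
          exact ⟨x, hx, rfl⟩)
        exact ⟨⟨(x : Ω), hxS⟩, Subtype.ext rfl⟩
      · haveI := hfin
        exact Module.Finite.equiv e.toLinearEquiv
      · haveI := hfree
        exact Module.Free.of_equiv e.toLinearEquiv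
      · rw [← e.toLinearEquiv.finrank_eq, hrank]
    · intro y
      obtain ⟨w, hw⟩ := surjective_frobenius k' q (X.ι y)
      obtain ⟨z, rfl⟩ := hsurj w
      refine ⟨z, hmemker _ ?_⟩
      rw [map_sub, map_pow, ← hw, frobenius_def, sub_self]
    · intro y
      obtain ⟨n, a, hna⟩ := hpow (X.ι y)
      refine ⟨n, a, hmemker _ ?_⟩
      rw [map_sub, map_pow, hna, AlgHom.commutes, sub_self]

end Groth.Agent.S16360
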