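import Groth.Statements.S16362
import Mathlib.Tactic

set_option autoImplicit false
universe u
open MovLem

namespace Groth.Agent.S16362

theorem pow_mul_div_pow {K : Type*} [Field K] (z v : K) (hv : v ≠ 0) (N k : ℕ) (hk : k ≤ N) :
    v ^ N * (z / v) ^ k = z ^ k * v ^ (N - k) := by
  have : v ^ N = v ^ (N - k) * v ^ k := by rw [← pow_add]; congr 1; omega
  rw [this, div_pow]
  field_simp

/-- Let A be a commutative ring, p a prime ideal of A, and ζ, u elements of A with u not in p. Then the
quotient of the classes of ζ and u in the fraction field of the domain A ⧸ p is integral over A ⧸ p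
if and only if there exist a natural number N and elements a_1, …, a_N of A such that ζ^N + a_1
ζ^(N-1) u + ⋯ + a_N u^N lies in p; equivalently, some binary form of degree N with coefficients in
A, monic in the first variable, evaluated at (ζ, u), lies in p. -/
theorem result
    {A : Type u} [CommRing A] (p : Ideal A) [p.IsPrime] (ζ u : A) (hu : u ∉ p) :
    IsIntegral (A ⧸ p)
        (algebraMap (A ⧸ p) (FractionRing (A ⧸ p)) (Ideal.Quotient.mk p ζ) /
          algebraMap (A ⧸ p) (FractionRing (A ⧸ p)) (Ideal.Quotient.mk p u)) ↔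
      ∃ (N : ℕ) (a : ℕ → A),
        ζ ^ N + ∑ i ∈ Finset.Icc 1 N, a i * ζ ^ (N - i) * u ^ i ∈ p := by
  set R := A ⧸ p with hR
  set K := FractionRing R with hK
  set z : K := algebraMap R K (Ideal.Quotient.mk p ζ) with hz
  set v : K := algebraMap R K (Ideal.Quotient.mk p u) with hv
  have hv0 : v ≠ 0 := by
    rw [hv, Ne, map_eq_zero_iff _ (IsFractionRing.injective R K), Ideal.Quotient.eq_zero_iff_mem]
    exact hu
  constructor
  · rintro ⟨P, hPm, hP⟩
    set N := P.natDegree with hN
    choose a ha using fun i : ℕ => Ideal.Quotient.mk_surjective (P.coeff (N - i))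
    refine ⟨N, a, ?_⟩
    rw [← Ideal.Quotient.eq_zero_iff_mem]
    apply IsFractionRing.injective R K
    rw [map_zero]
    simp only [map_add, map_pow, map_sum, map_mul, ha]
    -- expand P
    have hexp : v ^ N * Polynomial.eval₂ (algebraMap R K) (z / v) P =
        z ^ N + ∑ i ∈ Finset.Icc 1 N, algebraMap R K (P.coeff (N - i)) * z ^ (N - i) * v ^ i := by
      conv_lhs => rw [hPm.as_sum]
      rw [Polynomial.eval₂_add, Polynomial.eval₂_pow, Polynomial.eval₂_X, Polynomial.eval₂_finsetSum,
        mul_add, pow_mul_div_pow z v hv0 N N le_rfl, Nat.sub_self, pow_zero, mul_one,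
        Finset.mul_sum]
      congr 1
      refine Finset.sum_nbij' (fun j => N - j) (fun i => N - i) ?_ ?_ ?_ ?_ ?_
      · intro j hj
        simp only [Finset.mem_range] at hj
        simp only [Finset.mem_Icc]
        omega
      · intro i hi
        simp only [Finset.mem_Icc] at hi
        simp only [Finset.mem_range]
        omega
      · intro j hj
        simp only [Finset.mem_range] at hj
        omega
      · intro i hi
        simp only [Finset.mem_Icc] at hi
        omega
      · intro j hj
        simp only [Finset.mem_range] at hj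
        have e : N - (N - j) = j := by omega
        rw [Polynomial.eval₂_mul, Polynomial.eval₂_C, Polynomial.eval₂_pow, Polynomial.eval₂_X, e,
          mul_left_comm, pow_mul_div_pow z v hv0 N j hj.le]
        ring
    rw [← hexp, hP, mul_zero]
  · rintro ⟨N, a, hmem⟩
    rw [← Ideal.Quotient.eq_zero_iff_mem] at hmem
    have hK0 := congrArg (algebraMap R K) hmem
    simp only [map_add, map_pow, map_sum, map_mul, map_zero] at hK0
    rcases Nat.eq_zero_or_pos N with hN0 | hNpos
    · subst hN0
      exfalso
      simp at hK0
    set P : Polynomial R := Polynomial.X ^ N +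
      ∑ i ∈ Finset.Icc 1 N, Polynomial.C (Ideal.Quotient.mk p (a i)) * Polynomial.X ^ (N - i) with hPdef
    have hdeg : (∑ i ∈ Finset.Icc 1 N,
        Polynomial.C (Ideal.Quotient.mk p (a i)) * Polynomial.X ^ (N - i)).degree < (N : WithBot ℕ) := by
      refine (Polynomial.degree_sum_le _ _).trans_lt ?_
      refine (Finset.sup_lt_iff (WithBot.bot_lt_coe N)).mpr ?_
      intro i hi
      simp only [Finset.mem_Icc] at hi
      refine (Polynomial.degree_C_mul_X_pow_le _ _).trans_lt ?_
      exact WithBot.coe_lt_coe.mpr (by omega : N - i < N)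
    have hPm : P.Monic := Polynomial.monic_X_pow_add hdeg
    refine ⟨P, hPm, ?_⟩
    have hexp : v ^ N * Polynomial.eval₂ (algebraMap R K) (z / v) P =
        z ^ N + ∑ i ∈ Finset.Icc 1 N,
          algebraMap R K (Ideal.Quotient.mk p (a i)) * z ^ (N - i) * v ^ i := by
      rw [hPdef, Polynomial.eval₂_add, Polynomial.eval₂_pow, Polynomial.eval₂_X,
        Polynomial.eval₂_finsetSum, mul_add, pow_mul_div_pow z v hv0 N N le_rfl, Nat.sub_self,
        pow_zero, mul_one, Finset.mul_sum]
      congr 1
      refine Finset.sum_congr rfl fun i hi => ?_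
      simp only [Finset.mem_Icc] at hi
      have e : N - (N - i) = i := by omega
      rw [Polynomial.eval₂_mul, Polynomial.eval₂_C, Polynomial.eval₂_pow, Polynomial.eval₂_X,
        mul_left_comm, pow_mul_div_pow z v hv0 N (N - i) (Nat.sub_le _ _), e]
      ring
    have h0 : v ^ N * Polynomial.eval₂ (algebraMap R K) (z / v) P = 0 := by
      rw [hexp]; exact hK0
    rcases mul_eq_zero.mp h0 with h1 | h1
    · exact absurd h1 (pow_ne_zero N hv0)
    · exact h1

end Groth.Agent.S16362
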