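import Groth.Statements.S16367
import Groth.Agent.Lib.MovLem75
-- import your own Groth.Agent.* helpers here

set_option autoImplicit false
universe u
open MovLem

namespace Groth.Agent.S16367

open Polynomial Groth.Agent.Lib.MovLem75 in
/-- The chart computation of its proof: let k be a commutative ring, P = k[x_1, …, x_d, w_1, …, w_n] a
polynomial ring in two groups of variables, u a polynomial in the x-variables alone, v a vector in
k^d, J a set of indices among the w-variables with ζ = ∏_{j ∈ J} w_j, and N ≤ s natural numbers. Let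
(f_λ) be a finite family of elements of P, each of total degree at most N in the x-variables, and
assume that ζ^N + c_1 ζ^(N-1) u + ⋯ + c_N u^N lies in the ideal generated by the f_λ for some c_1,
…, c_N ∈ P. For each λ let φ_λ ∈ P[τ] be the polynomial τ^N · f_λ(x + u^s v/τ, w), written out
monomial by monomial: a monomial a·x^m·w^m' of x-degree e = |m| contributes a · τ^(N-e) · ∏_i (τ x_i
+ u^s v_i)^(m_i) · w^m'. Then there are c'_1, …, c'_N ∈ P[τ] with (τζ)^N + c'_1 (τζ)^(N-1) u + ⋯ +
c'_N u^N in the ideal of P[τ] generated by the φ_λ. (This identity is what shows that translating a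
cycle by t·u^s·v preserves the modulus condition on the chart whose coordinates are the z_i and the
1/z_j, with τ = 1/t; integrality of ζ/u, resp. τζ/u, is expressed by such monic binary forms.) -/
theorem result
    {k : Type u} [CommRing k] (d n : ℕ) (u : MvPolynomial (Fin d) k) (v : Fin d → k)
    (J : Finset (Fin n)) (N s : ℕ) (hs : N ≤ s)
    {Λ : Type u} [Fintype Λ] (f : Λ → MvPolynomial (Fin d ⊕ Fin n) k)
    (hdeg : ∀ l, ∀ m ∈ (f l).support, ∑ i : Fin d, m (Sum.inl i) ≤ N)
    (c : ℕ → MvPolynomial (Fin d ⊕ Fin n) k)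
    (hE : (∏ j ∈ J, MvPolynomial.X (Sum.inr j)) ^ N +
        ∑ i ∈ Finset.Icc 1 N, c i * (∏ j ∈ J, MvPolynomial.X (Sum.inr j)) ^ (N - i) *
          MvPolynomial.rename Sum.inl u ^ i ∈ Ideal.span (Set.range f)) :
    ∃ c' : ℕ → Polynomial (MvPolynomial (Fin d ⊕ Fin n) k),
      (Polynomial.X * Polynomial.C (∏ j ∈ J, MvPolynomial.X (Sum.inr j))) ^ N +
        ∑ i ∈ Finset.Icc 1 N, c' i *
          (Polynomial.X * Polynomial.C (∏ j ∈ J, MvPolynomial.X (Sum.inr j))) ^ (N - i) *
            Polynomial.C (MvPolynomial.rename Sum.inl u) ^ i ∈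
      Ideal.span (Set.range fun l : Λ =>
        ∑ m ∈ (f l).support,
          Polynomial.C (MvPolynomial.C (MvPolynomial.coeff m (f l))) *
            Polynomial.X ^ (N - ∑ i : Fin d, m (Sum.inl i)) *
            (∏ i : Fin d, (Polynomial.X * Polynomial.C (MvPolynomial.X (Sum.inl i)) +
                Polynomial.C (MvPolynomial.rename Sum.inl u ^ s * MvPolynomial.C (v i))) ^ m (Sum.inl i)) *
            ∏ j : Fin n, Polynomial.C (MvPolynomial.X (Sum.inr j)) ^ m (Sum.inr j)) := by
  classical
  obtain ⟨ζ, hζ⟩ : ∃ ζ : MvPolynomial (Fin d ⊕ Fin n) k, ζ = ∏ j ∈ J, MvPolynomial.X (Sum.inr j) :=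
    ⟨_, rfl⟩
  obtain ⟨U, hU⟩ : ∃ U : MvPolynomial (Fin d ⊕ Fin n) k, U = MvPolynomial.rename Sum.inl u :=
    ⟨_, rfl⟩
  rw [← hζ, ← hU] at hE
  simp only [← hζ, ← hU]
  have hgen : (fun l : Λ =>
        ∑ m ∈ (f l).support,
          Polynomial.C (MvPolynomial.C (MvPolynomial.coeff m (f l))) *
            Polynomial.X ^ (N - ∑ i : Fin d, m (Sum.inl i)) *
            (∏ i : Fin d, (Polynomial.X * Polynomial.C (MvPolynomial.X (Sum.inl i)) +
                Polynomial.C (U ^ s * MvPolynomial.C (v i))) ^ m (Sum.inl i)) *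
            ∏ j : Fin n, Polynomial.C (MvPolynomial.X (Sum.inr j)) ^ m (Sum.inr j)) =
      fun l : Λ => phi U v N s (f l) := rfl
  rw [hgen]
  obtain ⟨a, ha⟩ := Ideal.mem_span_range_iff_exists_fun.1 hE
  have hspan : ∀ N' : ℕ, ∑ l, C (a l) * phi U v N' s (f l) ∈
      Ideal.span (Set.range fun l : Λ => phi U v N' s (f l)) := fun N' =>
    Ideal.sum_mem _ (fun l _ => Ideal.mul_mem_left _ _ (Ideal.subset_span ⟨l, rfl⟩))
  rcases Nat.eq_zero_or_pos N with hN | hN
  · subst hN
    refine ⟨fun _ => 0, ?_⟩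
    have h1 : (1 : Polynomial (MvPolynomial (Fin d ⊕ Fin n) k)) =
        ∑ l, C (a l) * phi U v 0 s (f l) := by
      have h2 : ∀ l, C (a l) * phi U v 0 s (f l) = C (a l * f l) := by
        intro l
        rw [phi_zero U v s (f l) (hdeg l), map_mul]
      simp_rw [h2]
      rw [← map_sum, ha]
      simp
    have h3 : (X * C ζ : Polynomial (MvPolynomial (Fin d ⊕ Fin n) k)) ^ 0 +
        ∑ i ∈ Finset.Icc 1 0, (fun _ : ℕ => (0 : Polynomial (MvPolynomial (Fin d ⊕ Fin n) k))) i *
          (X * C ζ) ^ (0 - i) * C U ^ i = 1 := by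
      simp
    rw [h3, h1]
    exact hspan 0
  · have hmem : ∀ l, ∃ R : Polynomial (MvPolynomial (Fin d ⊕ Fin n) k),
        R * C (U ^ s) = phi U v N s (f l) - X ^ N * C (f l) := fun l =>
      Ideal.mem_span_singleton'.1 (phi_sub_mem U v N s (f l) (hdeg l))
    choose R hR using hmem
    obtain ⟨Rtot, hRtot⟩ : ∃ Rtot : Polynomial (MvPolynomial (Fin d ⊕ Fin n) k),
        Rtot = ∑ l, C (a l) * R l := ⟨_, rfl⟩
    refine ⟨fun i => C (c i) * X ^ i + if i = N then C U ^ (s - N) * Rtot else 0, ?_⟩
    have key : (X * C ζ : Polynomial (MvPolynomial (Fin d ⊕ Fin n) k)) ^ N +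
        ∑ i ∈ Finset.Icc 1 N, (C (c i) * X ^ i + if i = N then C U ^ (s - N) * Rtot else 0) *
          (X * C ζ) ^ (N - i) * C U ^ i = ∑ l, C (a l) * phi U v N s (f l) := by
      have hphi : ∀ l, phi U v N s (f l) = X ^ N * C (f l) + R l * C (U ^ s) := by
        intro l
        rw [hR l]; ring
      have rhs : ∑ l, C (a l) * phi U v N s (f l) =
          X ^ N * C (∑ l, a l * f l) + Rtot * C U ^ s := by
        simp_rw [hphi]
        rw [map_sum, Finset.mul_sum, hRtot, Finset.sum_mul, ← Finset.sum_add_distrib]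
        apply Finset.sum_congr rfl
        intro l _
        rw [map_mul, map_pow]
        ring
      rw [rhs, ha, map_add, map_sum, mul_add, Finset.mul_sum]
      have t1 : ∑ i ∈ Finset.Icc 1 N,
          (C (c i) * X ^ i + if i = N then C U ^ (s - N) * Rtot else 0) *
            (X * C ζ) ^ (N - i) * C U ^ i =
          ∑ i ∈ Finset.Icc 1 N, C (c i) * X ^ i * (X * C ζ) ^ (N - i) * C U ^ i +
            Rtot * C U ^ s := by
        simp_rw [add_mul]
        rw [Finset.sum_add_distrib]
        congr 1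
        simp_rw [ite_mul, zero_mul]
        rw [Finset.sum_ite_eq' (Finset.Icc 1 N) N, if_pos (Finset.mem_Icc.2 ⟨hN, le_refl _⟩),
          Nat.sub_self, pow_zero, mul_one]
        have : s = (s - N) + N := by omega
        conv_rhs => rw [this, pow_add]
        ring
      have e1 : (X * C ζ : Polynomial (MvPolynomial (Fin d ⊕ Fin n) k)) ^ N = X ^ N * C (ζ ^ N) := by
        rw [map_pow, mul_pow]
      have e2 : ∑ i ∈ Finset.Icc 1 N, C (c i) * X ^ i * (X * C ζ) ^ (N - i) * C U ^ i =
          ∑ i ∈ Finset.Icc 1 N,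
            (X ^ N * C (c i * ζ ^ (N - i) * U ^ i) :
              Polynomial (MvPolynomial (Fin d ⊕ Fin n) k)) := by
        apply Finset.sum_congr rfl
        intro i hi
        have hiN : i ≤ N := (Finset.mem_Icc.1 hi).2
        have hX : (X : Polynomial (MvPolynomial (Fin d ⊕ Fin n) k)) ^ N = X ^ i * X ^ (N - i) := by
          rw [← pow_add]; congr 1; omega
        rw [map_mul, map_mul, map_pow, map_pow, hX, mul_pow]
        ring
      rw [t1, e1, e2, add_assoc]
    rw [key]
    exact hspan N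

end Groth.Agent.S16367
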