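import Groth.Statements.S16368
import Groth.Agent.Lib.HopfFlat41

set_option autoImplicit false
universe u v
open TensorProduct
open FrobAlg

namespace Groth.Agent.S16368

open Groth.Agent.Lib.Fitting82 Groth.Agent.Lib.HopfFlat41

/-- Let R be a local ring of prime characteristic p and M a finitely presented R-module. Write R' for R
regarded as an R-algebra through its Frobenius a ↦ a^p, so that R' ⊗_R M is the pull-back of M along
the absolute Frobenius of Spec R, an R'-module. If this pull-back is isomorphic to M — there is a
bijective map e : R' ⊗_R M → M, additive and semilinear for the identification R' = R — then M is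
free. -/
theorem result
    (p : ℕ) [Fact p.Prime] (R : Type u) [CommRing R] [IsLocalRing R] [CharP R p]
    (M : Type v) [AddCommGroup M] [Module R M] [Module.FinitePresentation R M]
    (e : (FrobAlg.Twist p R ⊗[R] M) →ₛₗ[((FrobAlg.toTwist p R).symm : FrobAlg.Twist p R →+* R)] M)
    (he : Function.Bijective e) :
    Module.Free R M := by
  have hp : 2 ≤ p := (Fact.out : p.Prime).two_le
  have hfin : Module.Finite R M := inferInstance
  -- each Fitting ideal satisfies I ≤ I^[p]
  have key : ∀ r, Fitt.ideal R M r ≤ (Fitt.ideal R M r).map (frobenius R p) := by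
    intro r
    let E := Equiv.ofBijective e he
    have hE : ∀ x, e (E.symm x) = x := fun x => Equiv.ofBijective_apply_symm_apply e he x
    let g : M →+ (FrobAlg.Twist p R ⊗[R] M) :=
      { toFun := E.symm
        map_zero' := by
          apply he.1
          rw [hE, map_zero]
        map_add' := fun x y => by
          apply he.1
          rw [hE, map_add, hE, hE] }
    have hg : ∀ (a : R) (m : M), g (a • m) = (FrobAlg.toTwist p R : R →+* FrobAlg.Twist p R) a • g m := by
      intro a m
      apply he.1
      change e (E.symm (a • m)) = e ((FrobAlg.toTwist p R : R →+* FrobAlg.Twist p R) a • E.symm m)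
      rw [hE, e.map_smulₛₗ, hE]
      congr 1
    have hspan : Submodule.span (FrobAlg.Twist p R) (Set.range g) = ⊤ := by
      rw [eq_top_iff]
      intro y _
      exact Submodule.subset_span ⟨e y, E.symm_apply_apply y⟩
    have h1 := fitt_map_le_of_semilinear (FrobAlg.toTwist p R : R →+* FrobAlg.Twist p R) g hg hspan r
    rw [ideal_baseChange (FrobAlg.Twist p R) r] at h1
    intro a ha
    have h2 : (FrobAlg.toTwist p R : R →+* FrobAlg.Twist p R) a ∈
        (Fitt.ideal R M r).map (algebraMap R (FrobAlg.Twist p R)) := h1 (Ideal.mem_map_of_mem _ ha)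
    have h3 : (Fitt.ideal R M r).map (algebraMap R (FrobAlg.Twist p R)) =
        ((Fitt.ideal R M r).map (frobenius R p)).map
          (FrobAlg.toTwist p R : R →+* FrobAlg.Twist p R) := by
      rw [Ideal.map_map]; rfl
    rw [h3] at h2
    have h4 := Ideal.mem_map_of_mem ((FrobAlg.toTwist p R).symm : FrobAlg.Twist p R →+* R) h2
    rw [Ideal.map_map] at h4
    have h5 : ((FrobAlg.toTwist p R).symm : FrobAlg.Twist p R →+* R).comp
        (FrobAlg.toTwist p R : R →+* FrobAlg.Twist p R) = RingHom.id R := by
      ext x; simp
    rw [h5, Ideal.map_id] at h4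
    simpa using h4
  have hbt : ∀ r, Fitt.ideal R M r = ⊥ ∨ Fitt.ideal R M r = ⊤ := by
    intro r
    by_cases htop : Fitt.ideal R M r = ⊤
    · exact Or.inr htop
    left
    set I := Fitt.ideal R M r with hI
    have hIm : I ≤ IsLocalRing.maximalIdeal R := IsLocalRing.le_maximalIdeal htop
    have hfg : I.FG := ideal_fg_of_finitePresentation r
    have hfrob : I.map (frobenius R p) ≤ IsLocalRing.maximalIdeal R • I := by
      rw [Ideal.map_le_iff_le_comap]
      intro a ha
      rw [Ideal.mem_comap, frobenius_def]
      obtain ⟨q, rfl⟩ : ∃ q, p = q + 2 := ⟨p - 2, by omega⟩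
      rw [pow_succ, smul_eq_mul]
      refine Ideal.mul_mem_mul ?_ ha
      rw [pow_succ]
      exact Ideal.mul_mem_left _ _ (hIm ha)
    have hle : I ≤ IsLocalRing.maximalIdeal R • I := (key r).trans hfrob
    exact Submodule.eq_bot_of_le_smul_of_le_jacobson_bot (IsLocalRing.maximalIdeal R) I hfg hle
      (IsLocalRing.maximalIdeal_le_jacobson _)
  have : Module.Flat R M := flat_of_fitt_bot_or_top hbt
  exact Module.free_of_flat_of_isLocalRing

end Groth.Agent.S16368
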