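import Groth.Statements.S16371
import Mathlib.NumberTheory.Basic
-- import your own Groth.Agent.* helpers here

set_option autoImplicit false
universe u v w
open FrobAlg

namespace Groth.Agent.S16371

/-- Let p be a prime, A a commutative ring and B, C commutative A-algebras with p² = 0 in B. If two
A-algebra maps g₁, g₂ : C → B agree modulo p, then they agree on every element of C which is
congruent modulo p to an element of the A-subalgebra generated by the p-th powers. (The source
states this for liftings over a flat ℤ/p²-thickening of two smooth schemes and the subsheaf of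
functions whose reduction lies in the image of the relative Frobenius; the smoothness and lifting
hypotheses are not needed for the identity.) -/
theorem result
    (p : ℕ) [Fact p.Prime] (A : Type u) [CommRing A] (B : Type v) [CommRing B] [Algebra A B]
    (C : Type w) [CommRing C] [Algebra A C] (hp : (p : B) ^ 2 = 0)
    (g₁ g₂ : C →ₐ[A] B) (hg : ∀ x : C, g₁ x - g₂ x ∈ Ideal.span ({(p : B)} : Set B))
    (x y : C) (hy : y ∈ Algebra.adjoin A (Set.range fun c : C => c ^ p))
    (hxy : x - y ∈ Ideal.span ({(p : C)} : Set C)) :
    g₁ x = g₂ x := by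
  have key : ∀ y' ∈ Algebra.adjoin A (Set.range fun c : C => c ^ p), g₁ y' = g₂ y' := by
    intro y' hy'
    induction hy' using Algebra.adjoin_induction with
    | mem z hz =>
      obtain ⟨c, rfl⟩ := hz
      rw [map_pow, map_pow]
      have h1 : (p : B) ∣ g₁ c - g₂ c := Ideal.mem_span_singleton.mp (hg c)
      have h2 := dvd_sub_pow_of_dvd_sub h1 1
      rw [hp, pow_one, zero_dvd_iff] at h2
      exact sub_eq_zero.mp h2
    | algebraMap r => rw [AlgHom.commutes, AlgHom.commutes]
    | add a b _ _ ha hb => rw [map_add, map_add, ha, hb]
    | mul a b _ _ ha hb => rw [map_mul, map_mul, ha, hb]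
  have hy' : g₁ y = g₂ y := key y hy
  obtain ⟨z, hz⟩ := Ideal.mem_span_singleton.mp hxy
  have hx : x = y + (p : C) * z := by rw [← hz]; ring
  obtain ⟨w, hw⟩ := Ideal.mem_span_singleton.mp (hg z)
  rw [hx, map_add, map_add, map_mul, map_mul, hy', map_natCast, map_natCast]
  have : (p : B) * g₁ z = (p : B) * g₂ z := by
    have h3 : (p : B) * (g₁ z - g₂ z) = 0 := by
      rw [hw, ← mul_assoc, ← pow_two, hp, zero_mul]
    rw [mul_sub, sub_eq_zero] at h3
    exact h3
  rw [this]

end Groth.Agent.S16371
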