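import Mathlib
import Groth.Agent.S16372
import Groth.Statements.S16373

set_option autoImplicit false
universe u
open FrobAlg

namespace Groth.Agent.S16373

section Helpers

variable (p : ℕ) [hpp : Fact p.Prime] (m : ℕ) {R : Type u} [CommRing R]

theorem coeff_shift_zero (x : TruncatedWittVector p m R) :
    (WittGrp.shift p (Nat.le_succ m) x).coeff 0 = 0 := by
  rw [WittGrp.coeff_shift]
  rw [dif_neg]
  simp

theorem coeff_shift_succ (x : TruncatedWittVector p m R) (i : Fin m) :
    (WittGrp.shift p (Nat.le_succ m) x).coeff i.succ = x.coeff i := by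
  rw [WittGrp.coeff_shift]
  rw [dif_pos (by simp)]
  congr 1
  ext
  simp

theorem shift_injective :
    Function.Injective (WittGrp.shift p (Nat.le_succ m) : TruncatedWittVector p m R → _) := by
  intro x y h
  ext i
  rw [← coeff_shift_succ p m x i, ← coeff_shift_succ p m y i, h]

theorem exists_eq_shift (w : TruncatedWittVector p (m + 1) R) (hw : w.coeff 0 = 0) :
    ∃ x : TruncatedWittVector p m R, w = WittGrp.shift p (Nat.le_succ m) x := by
  refine ⟨TruncatedWittVector.mk p (fun i => w.coeff i.succ), ?_⟩
  ext i
  refine Fin.cases ?_ (fun j => ?_) i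
  · rw [hw, coeff_shift_zero]
  · rw [coeff_shift_succ, TruncatedWittVector.coeff_mk]

theorem add_coeff_zero (w w' : TruncatedWittVector p (m + 1) R) :
    (w + w').coeff 0 = w.coeff 0 + w'.coeff 0 := by
  obtain ⟨X, rfl⟩ := WittVector.truncate_surjective p (m + 1) R w
  obtain ⟨Y, rfl⟩ := WittVector.truncate_surjective p (m + 1) R w'
  rw [← map_add, WittVector.coeff_truncate, WittVector.coeff_truncate, WittVector.coeff_truncate]
  exact WittVector.add_coeff_zero X Y

variable [CharP R p] (hp : (p : R) = 0)

/-- `p * w = V (F (w|_m))`. -/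
theorem natCast_mul (w : TruncatedWittVector p (m + 1) R) :
    (p : TruncatedWittVector p (m + 1) R) * w =
      WittGrp.shift p (Nat.le_succ m) (WittGrp.frob p m hp
        (TruncatedWittVector.truncate (Nat.le_succ m) w)) := by
  obtain ⟨X, rfl⟩ := WittVector.truncate_surjective p (m + 1) R w
  rw [TruncatedWittVector.truncate_wittVector_truncate, WittGrp.frob_truncate,
    WittGrp.shift_truncate]
  have h1 : m.succ - m = 1 := by omega
  rw [h1, Function.iterate_one, WittVector.verschiebung_frobenius, mul_comm, map_mul, map_natCast]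

end Helpers

/-- Let p be a prime, m ≥ 1, R a commutative ring with p = 0 in R and σ : W_m(R) → R a quasi-F-splitting
of level m (additive, σ(1) = 1, σ(F(x)·y) = x₀·σ(y) with F the componentwise p-th power). Let I ⊆
W_{m+1}(R) be the ideal generated by the shifts V(x) of the x with σ(x) = 0, and Q = W_{m+1}(R)/I.
Then Q is a flat lifting of R modulo p²: an element of Q lies in pQ exactly when the first Witt
component of a representative vanishes (so Q/pQ is R through the first component), and an element of
Q is killed by p exactly when it lies in pQ. (Stated for a ring; the source has a scheme over the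
prime field. For m = 1 this is the lifting attached to a Frobenius splitting.) -/
theorem result
    (p : ℕ) [Fact p.Prime] (m : ℕ) (hm : 0 < m) (R : Type u) [CommRing R] (hp : (p : R) = 0)
    (σ : TruncatedWittVector p m R →+ R) (h1 : σ 1 = 1)
    (hF : ∀ x y : TruncatedWittVector p m R, σ (WittGrp.frob p m hp x * y) = x.coeff ⟨0, hm⟩ * σ y)
    (I : Ideal (TruncatedWittVector p (m + 1) R))
    (hI : I = Ideal.span (WittGrp.shift p (Nat.le_succ m) '' {x : TruncatedWittVector p m R | σ x = 0})) :
    (∀ w : TruncatedWittVector p (m + 1) R,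
        Ideal.Quotient.mk I w ∈ Ideal.span ({(p : TruncatedWittVector p (m + 1) R ⧸ I)} : Set _) ↔
          w.coeff 0 = 0) ∧
    (∀ q : TruncatedWittVector p (m + 1) R ⧸ I,
        (p : TruncatedWittVector p (m + 1) R ⧸ I) * q = 0 ↔
          q ∈ Ideal.span ({(p : TruncatedWittVector p (m + 1) R ⧸ I)} : Set _)) := by
  have hpp : p.Prime := Fact.out
  rcases subsingleton_or_nontrivial R with hR | hR
  · have hsub : Subsingleton (TruncatedWittVector p (m + 1) R) :=
      ⟨fun a b => TruncatedWittVector.ext fun i => Subsingleton.elim _ _⟩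
    have hsubQ : Subsingleton (TruncatedWittVector p (m + 1) R ⧸ I) :=
      ⟨fun a b => by
        obtain ⟨a, rfl⟩ := Ideal.Quotient.mk_surjective a
        obtain ⟨b, rfl⟩ := Ideal.Quotient.mk_surjective b
        rw [Subsingleton.elim a b]⟩
    refine ⟨fun w => ⟨fun _ => Subsingleton.elim _ _, fun _ => ?_⟩, fun q => ⟨fun _ => ?_, fun _ => Subsingleton.elim _ _⟩⟩
    · rw [Subsingleton.elim (Ideal.Quotient.mk I w) 0]; exact zero_mem _
    · rw [Subsingleton.elim q 0]; exact zero_mem _
  have hchar : CharP R p := (CharP.charP_iff_prime_eq_zero hpp).mpr hp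
  -- notation
  set V := WittGrp.shift (R := R) p (Nat.le_succ m) with hV
  set F := WittGrp.frob (R := R) p m hp with hFdef
  set res := TruncatedWittVector.truncate (p := p) (R := R) (Nat.le_succ m) with hres
  -- σ (F a) = a₀
  have hσF : ∀ a : TruncatedWittVector p m R, σ (F a) = a.coeff ⟨0, hm⟩ := by
    intro a
    have := hF a 1
    rwa [mul_one, h1, mul_one] at this
  -- membership in I
  have hImem : ∀ w, w ∈ I ↔ ∃ x : TruncatedWittVector p m R, σ x = 0 ∧ w = V x := by
    intro w
    constructor
    · intro hw
      rw [hI] at hw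
      refine Submodule.span_induction (p := fun w _ => ∃ x : TruncatedWittVector p m R, σ x = 0 ∧ w = V x)
        ?_ ?_ ?_ ?_ hw
      · rintro _ ⟨x, hx, rfl⟩
        exact ⟨x, hx, rfl⟩
      · exact ⟨0, map_zero σ, (map_zero V).symm⟩
      · rintro a b _ _ ⟨x, hx, rfl⟩ ⟨y, hy, rfl⟩
        exact ⟨x + y, by rw [map_add, hx, hy, add_zero], (map_add V x y).symm⟩
      · rintro a b _ ⟨x, hx, rfl⟩
        obtain ⟨x', hx', h⟩ := Groth.Agent.S16372.result p m hm R hp σ h1 hF a x hx
        exact ⟨x', hx', h⟩
    · rintro ⟨x, hx, rfl⟩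
      rw [hI]
      exact Ideal.subset_span ⟨x, hx, rfl⟩
  -- coefficient zero of res
  have hres0 : ∀ w : TruncatedWittVector p (m + 1) R, (res w).coeff ⟨0, hm⟩ = w.coeff 0 := by
    intro w
    rw [hres, TruncatedWittVector.coeff_truncate]
    rfl
  -- p * w has zero 0-th coefficient
  have hpw0 : ∀ w : TruncatedWittVector p (m + 1) R,
      ((p : TruncatedWittVector p (m + 1) R) * w).coeff 0 = 0 := by
    intro w
    rw [natCast_mul p m hp, coeff_shift_zero]
  -- part (1) ⇐ as a lemma
  have part1 : ∀ w : TruncatedWittVector p (m + 1) R, w.coeff 0 = 0 →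
      Ideal.Quotient.mk I w ∈ Ideal.span ({(p : TruncatedWittVector p (m + 1) R ⧸ I)} : Set _) := by
    intro w hw
    obtain ⟨x, rfl⟩ := exists_eq_shift p m w hw
    -- lift of σ x
    set A : WittVector p R := WittVector.teichmuller p (σ x) with hA
    set a : TruncatedWittVector p m R := WittVector.truncate m A with ha
    set a' : TruncatedWittVector p (m + 1) R := WittVector.truncate (m + 1) A with ha'
    have ha0 : a.coeff ⟨0, hm⟩ = σ x := by
      rw [ha, WittVector.coeff_truncate]
      exact WittVector.teichmuller_coeff_zero p (σ x)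
    have hres' : res a' = a := TruncatedWittVector.truncate_wittVector_truncate _ _
    have hker : σ (x - F a) = 0 := by rw [map_sub, hσF, ha0, sub_self]
    have hmemI : V (x - F a) ∈ I := (hImem _).2 ⟨_, hker, rfl⟩
    have hdecomp : V x = V (x - F a) + (p : TruncatedWittVector p (m + 1) R) * a' := by
      rw [natCast_mul p m hp, ← hres, hres', ← hFdef, ← hV, ← map_add, sub_add_cancel]
    rw [Ideal.mem_span_singleton']
    refine ⟨Ideal.Quotient.mk I a', ?_⟩
    rw [hdecomp, map_add, Ideal.Quotient.eq_zero_iff_mem.2 hmemI, zero_add, map_mul, map_natCast,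
      mul_comm]
  constructor
  · intro w
    constructor
    · intro hw
      rw [Ideal.mem_span_singleton'] at hw
      obtain ⟨c, hc⟩ := hw
      obtain ⟨c, rfl⟩ := Ideal.Quotient.mk_surjective c
      have h2 : Ideal.Quotient.mk I (w - (p : TruncatedWittVector p (m + 1) R) * c) = 0 := by
        rw [map_sub, map_mul, map_natCast, ← hc, mul_comm, sub_self]
      rw [Ideal.Quotient.eq_zero_iff_mem, hImem] at h2
      obtain ⟨x, _, hx⟩ := h2
      have h3 : w = V x + (p : TruncatedWittVector p (m + 1) R) * c := by
        rw [← hx]; ring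
      rw [h3, add_coeff_zero, coeff_shift_zero, hpw0, add_zero]
    · exact part1 w
  · intro q
    obtain ⟨w, rfl⟩ := Ideal.Quotient.mk_surjective q
    constructor
    · intro hq
      apply part1
      have h2 : (p : TruncatedWittVector p (m + 1) R) * w ∈ I := by
        rw [← Ideal.Quotient.eq_zero_iff_mem, map_mul, map_natCast]; exact hq
      rw [hImem] at h2
      obtain ⟨x, hx, hx'⟩ := h2
      rw [natCast_mul p m hp] at hx'
      have h3 := shift_injective p m hx'
      have h4 : σ (F (res w)) = 0 := by rw [hFdef, hres, h3, hx]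
      rw [hσF, hres0] at h4
      exact h4
    · intro hq
      rw [Ideal.mem_span_singleton'] at hq
      obtain ⟨c, hc⟩ := hq
      obtain ⟨c, rfl⟩ := Ideal.Quotient.mk_surjective c
      rw [← hc]
      have h2 : (p : TruncatedWittVector p (m + 1) R) * ((p : TruncatedWittVector p (m + 1) R) * c) ∈ I := by
        rw [hImem]
        refine ⟨F (res ((p : TruncatedWittVector p (m + 1) R) * c)), ?_, natCast_mul p m hp _⟩
        rw [hσF, hres0, hpw0]
      rw [← Ideal.Quotient.eq_zero_iff_mem, map_mul, map_mul, map_natCast] at h2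
      rw [mul_comm (Ideal.Quotient.mk I c)]
      exact h2

end Groth.Agent.S16373
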