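import Groth.Statements.S16374
-- import your own Groth.Agent.* helpers here

set_option autoImplicit false
universe u v w
open FrobAlg

namespace Groth.Agent.S16374

/-- Let p be a prime, A a commutative ring, B and C commutative A-algebras with p² = 0 in B, and g : C →
B an A-algebra map such that every g(c) is congruent modulo p to an element of the A-subalgebra of B
generated by the p-th powers (g lifts a relative Frobenius). Then d(g(x)) = 0 in the module of
Kähler differentials of B over A for every x ∈ C that is congruent modulo p to an element of the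
A-subalgebra of C generated by the p-th powers. (The source works with a lifting of the relative
Frobenius of a smooth scheme over a ℤ/p²-thickening and the subsheaf of functions whose reduction
comes from the Frobenius twist; smoothness is not needed for this vanishing.) -/
theorem result
    (p : ℕ) [Fact p.Prime] (A : Type u) [CommRing A] (B : Type v) [CommRing B] [Algebra A B]
    (C : Type w) [CommRing C] [Algebra A C] (hp : (p : B) ^ 2 = 0)
    (g : C →ₐ[A] B)
    (hg : ∀ c : C, ∃ u ∈ Algebra.adjoin A (Set.range fun b : B => b ^ p),
      g c - u ∈ Ideal.span ({(p : B)} : Set B))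
    (x y : C) (hy : y ∈ Algebra.adjoin A (Set.range fun c : C => c ^ p))
    (hxy : x - y ∈ Ideal.span ({(p : C)} : Set C)) :
    KaehlerDifferential.D A B (g x) = 0 := by
  -- the submodule p • Ω
  let P : Submodule B (Ω[B⁄A]) := (Ideal.span ({(p : B)} : Set B)) • ⊤
  have hPmem : ∀ ω : Ω[B⁄A], (p : B) • ω ∈ P := fun ω =>
    Submodule.smul_mem_smul (Ideal.mem_span_singleton_self _) Submodule.mem_top
  have hPkill : ∀ ω ∈ P, (p : B) • ω = 0 := by
    intro ω hω
    refine Submodule.smul_induction_on hω ?_ ?_
    · intro r hr n _
      obtain ⟨r', rfl⟩ := Ideal.mem_span_singleton'.mp hr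
      rw [smul_smul, mul_comm r', ← mul_assoc, ← pow_two, hp, zero_mul, zero_smul]
    · intro a b ha hb
      rw [smul_add, ha, hb, add_zero]
  -- D of the subalgebra generated by p-th powers lies in P
  have hDu : ∀ u ∈ Algebra.adjoin A (Set.range fun b : B => b ^ p), KaehlerDifferential.D A B u ∈ P := by
    intro u hu
    induction hu using Algebra.adjoin_induction with
    | mem z hz =>
      obtain ⟨b, rfl⟩ := hz
      rw [Derivation.leibniz_pow]
      rw [← Nat.cast_smul_eq_nsmul B]
      exact hPmem _
    | algebraMap r => rw [Derivation.map_algebraMap]; exact P.zero_mem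
    | add a b _ _ ha hb => rw [map_add]; exact P.add_mem ha hb
    | mul a b _ _ ha hb =>
      rw [Derivation.leibniz]
      exact P.add_mem (P.smul_mem _ hb) (P.smul_mem _ ha)
  have hDp : KaehlerDifferential.D A B (p : B) = 0 := by
    rw [← map_natCast (algebraMap A B), Derivation.map_algebraMap]
  -- claim 1
  have h1 : ∀ c : C, (p : B) • KaehlerDifferential.D A B (g c) = 0 := by
    intro c
    obtain ⟨u, hu, huc⟩ := hg c
    obtain ⟨w, hw⟩ := Ideal.mem_span_singleton'.mp huc
    have : g c = u + w * (p : B) := by rw [hw]; ring
    apply hPkill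
    rw [this, map_add, Derivation.leibniz]
    refine P.add_mem (hDu u hu) (P.add_mem (P.smul_mem _ ?_) (hPmem _))
    rw [hDp]; exact P.zero_mem
  -- claim 2
  have h2 : ∀ y' ∈ Algebra.adjoin A (Set.range fun c : C => c ^ p), KaehlerDifferential.D A B (g y') = 0 := by
    intro y' hy'
    induction hy' using Algebra.adjoin_induction with
    | mem z hz =>
      obtain ⟨c, rfl⟩ := hz
      rw [map_pow, Derivation.leibniz_pow, ← Nat.cast_smul_eq_nsmul B, smul_comm, h1, smul_zero]
    | algebraMap r => rw [AlgHom.commutes, Derivation.map_algebraMap]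
    | add a b _ _ ha hb => rw [map_add, map_add, ha, hb, add_zero]
    | mul a b _ _ ha hb => rw [map_mul, Derivation.leibniz, ha, hb, smul_zero, smul_zero, add_zero]
  obtain ⟨z, hz⟩ := Ideal.mem_span_singleton'.mp hxy
  have hx : x = y + z * (p : C) := by rw [hz]; ring
  rw [hx, map_add, map_add, h2 y hy, zero_add, map_mul, map_natCast, Derivation.leibniz]
  rw [hDp, smul_zero, zero_add]
  exact h1 z

end Groth.Agent.S16374
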