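import Groth.Statements.S1639
import Groth.Agent.Lib.NormQAffH3
import Groth.Agent.Lib.NormFieldH3
import Groth.Agent.Lib.NormExistsH3
import Groth.Agent.Lib.H78PullAmple

set_option autoImplicit false
universe u
open CategoryTheory CategoryTheory.Limits AlgebraicGeometry
open Divisors

namespace Groth.Agent.S1639

/-- Let π : X → Y be finite and surjective, with Y integral and normal. If X has an ample invertible
module then so does Y. -/
theorem result {X Y : Scheme.{u}} (π : X ⟶ Y) [IsFinite π] [Surjective π]
    [IsIntegral Y] (hY : Pi1.IsNormalScheme Y) (L : X.Modules) (hL : CohB1.IsAmple L) :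
    ∃ M : Y.Modules, CohB1.IsAmple M := by
  -- pass to an integral closed subscheme `Z` of `X` dominating `Y`; `L|_Z` is ample, and the
  -- field norm of `Z ⟶ Y` gives an ample module on `Y`
  obtain ⟨Z, i, hi, hZ, hsurj⟩ :=
    Groth.Agent.Lib.NormQAffH3.exists_integral_closedSubscheme π π.isClosedMap
  haveI := hi
  haveI := hZ
  haveI := hsurj
  have hLZ : CohB1.IsAmple ((Scheme.Modules.pullback i).obj L) :=
    Groth.Agent.Lib.H78PullAmple.isAmple_pullback_of_isAffineHom i hL
  exact Groth.Agent.Lib.NormExistsH3.exists_isAmple_of_norm (i ≫ π)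
    (Groth.Agent.Lib.NormFieldH3.normData (i ≫ π) hY) hLZ

end Groth.Agent.S1639
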