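import Mathlib
import Groth.Statements.S16390

set_option autoImplicit false
open AbVar

namespace Groth.Agent.S16390

section Helpers

theorem pos_quadratic {F : Type*} [Field F] [LinearOrder F] [IsStrictOrderedRing F]
    (p r : ℕ) (hp : 2 ≤ p) (hr : 2 < r) (x : F) :
    0 < x ^ 2 - (p : F) * x + (p : F) ^ r := by
  have hp1 : (1 : F) ≤ (p : F) := by exact_mod_cast (by omega : 1 ≤ p)
  have hp2 : (2 : F) ≤ (p : F) := by exact_mod_cast hp
  have h1 : (p : F) ^ 3 ≤ (p : F) ^ r := pow_le_pow_right₀ hp1 (by omega)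
  have h2 : (p : F) ^ 2 < (p : F) ^ 3 := by
    have : (p : F) ^ 3 = (p : F) ^ 2 * p := by ring
    rw [this]
    have hpos : (0 : F) < (p : F) ^ 2 := by positivity
    nlinarith
  nlinarith [sq_nonneg (2 * x - (p : F))]

theorem irred_part (p r : ℕ) (hp : 2 ≤ p) (hr : 2 < r) :
    Irreducible (Polynomial.X ^ 2 - Polynomial.C (p : ℚ) * Polynomial.X +
      Polynomial.C ((p : ℚ) ^ r)) := by
  set f : Polynomial ℚ := Polynomial.X ^ 2 - Polynomial.C (p : ℚ) * Polynomial.X +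
      Polynomial.C ((p : ℚ) ^ r) with hf
  have hdeg : f.natDegree = 2 := by
    rw [hf]
    compute_degree!
  have hmonic : f.Monic := by
    rw [hf]
    monicity!
  rw [hmonic.irreducible_iff_roots_eq_zero_of_degree_le_three (by omega) (by omega)]
  rw [Multiset.eq_zero_iff_forall_notMem]
  intro x hx
  have hroot := (Polynomial.mem_roots hmonic.ne_zero).mp hx
  rw [Polynomial.IsRoot.def, hf] at hroot
  simp only [Polynomial.eval_add, Polynomial.eval_sub, Polynomial.eval_pow, Polynomial.eval_X,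
    Polynomial.eval_mul, Polynomial.eval_C] at hroot
  have := pos_quadratic (F := ℚ) p r hp hr x
  linarith

theorem complex_part (p r : ℕ) (hp : 2 ≤ p) (hr : 2 < r) (π : ℂ)
    (h : π ^ 2 - (p : ℂ) * π + (p : ℂ) ^ r = 0) : ‖π‖ = Real.sqrt ((p : ℝ) ^ r) := by
  set c := (starRingEnd ℂ) π with hc
  have hcc : c ^ 2 - (p : ℂ) * c + (p : ℂ) ^ r = 0 := by
    have := congrArg (starRingEnd ℂ) h
    simpa using this
  have hprod : (π - c) * (π + c - p) = 0 := by
    linear_combination h - hcc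
  have hsum : π + c = p := by
    rcases mul_eq_zero.mp hprod with h1 | h1
    · exfalso
      have hreal : c = π := (sub_eq_zero.mp h1).symm
      obtain ⟨x, hx⟩ := Complex.conj_eq_iff_real.mp hreal
      rw [hx] at h
      have h' : x ^ 2 - (p : ℝ) * x + (p : ℝ) ^ r = 0 := by exact_mod_cast h
      have := pos_quadratic (F := ℝ) p r hp hr x
      linarith
    · linear_combination h1
  have hmul : π * c = (p : ℂ) ^ r := by
    have : c = p - π := by linear_combination hsum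
    rw [this]
    linear_combination -h
  have hnorm : ‖π‖ ^ 2 = (p : ℝ) ^ r := by
    have h1 : π * c = (Complex.normSq π : ℂ) := Complex.mul_conj π
    rw [h1] at hmul
    have h2 : Complex.normSq π = (p : ℝ) ^ r := by exact_mod_cast hmul
    rw [← h2, Complex.normSq_eq_norm_sq]
  rw [← hnorm, Real.sqrt_sq (norm_nonneg π)]

open Polynomial in
theorem padic_part (p r : ℕ) [Fact p.Prime] (hr : 2 < r) :
    ∃ y0 y1 : ℤ_[p], y0 ^ 2 - y0 + (p : ℤ_[p]) ^ (r - 2) = 0 ∧
      y1 ^ 2 - y1 + (p : ℤ_[p]) ^ (r - 2) = 0 ∧ ‖y0‖ < 1 ∧ ‖y1‖ = 1 := by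
  set F : Polynomial ℤ_[p] := Polynomial.X ^ 2 - Polynomial.X + Polynomial.C ((p : ℤ_[p]) ^ (r - 2)) with hF
  have hev : ∀ a : ℤ_[p], aeval a F = a ^ 2 - a + (p : ℤ_[p]) ^ (r - 2) := by
    intro a; simp [hF]
  have hder : ∀ a : ℤ_[p], aeval a (derivative F) = 2 * a - 1 := by
    intro a
    rw [hF, derivative_add, derivative_sub, derivative_X_pow, derivative_X, derivative_C]
    simp
  have hsmall : ‖(p : ℤ_[p]) ^ (r - 2)‖ < 1 := by
    rw [norm_pow]
    apply pow_lt_one₀ (norm_nonneg _)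
    · rw [PadicInt.norm_p]
      have hp : (1 : ℝ) < p := by exact_mod_cast (Fact.out : p.Prime).one_lt
      exact inv_lt_one_of_one_lt₀ hp
    · omega
  have hn0 : ‖aeval (0 : ℤ_[p]) F‖ < ‖aeval (0 : ℤ_[p]) (derivative F)‖ ^ 2 := by
    rw [hev, hder]
    simpa using hsmall
  have hn1 : ‖aeval (1 : ℤ_[p]) F‖ < ‖aeval (1 : ℤ_[p]) (derivative F)‖ ^ 2 := by
    rw [hev, hder]
    norm_num
    simpa using hsmall
  obtain ⟨y0, hy0, hy0', -, -⟩ := hensels_lemma hn0
  obtain ⟨y1, hy1, hy1', -, -⟩ := hensels_lemma hn1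
  rw [hev] at hy0 hy1
  rw [hder] at hy0' hy1'
  refine ⟨y0, y1, hy0, hy1, ?_, ?_⟩
  · simpa using hy0'
  · have h1 : ‖y1 - 1‖ < 1 := by
      have : ‖(2 : ℤ_[p]) * 1 - 1‖ = 1 := by norm_num
      rwa [this] at hy1'
    have h2 : y1 = 1 + (y1 - 1) := by ring
    rw [h2]
    have h3 : ‖(1 : ℤ_[p])‖ ≠ ‖y1 - 1‖ := by
      rw [norm_one]; exact ne_of_gt h1
    rw [PadicInt.norm_add_eq_max_of_ne h3, norm_one]
    exact max_eq_left h1.le

end Helpers

/-- Let p be a prime number, r > 2 and q = p^r. The polynomial x² − p x + q is irreducible over ℚ, each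
of its complex roots has absolute value √q (so its roots are Weil q-numbers), and it has two
distinct roots in ℚ_p, of p-adic valuations 1 and r − 1. The published lemma also computes the index
of the endomorphism algebra of the simple abelian variety attached to a root; this row does not
state that part. -/
theorem result (p r : ℕ) [Fact p.Prime] (hr : 2 < r) :
    Irreducible (Polynomial.X ^ 2 - Polynomial.C (p : ℚ) * Polynomial.X + Polynomial.C ((p : ℚ) ^ r)) ∧
      (∀ π : ℂ, π ^ 2 - (p : ℂ) * π + (p : ℂ) ^ r = 0 → ‖π‖ = Real.sqrt ((p : ℝ) ^ r)) ∧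
      ∃ a b : ℚ_[p], a ≠ b ∧ a ^ 2 - (p : ℚ_[p]) * a + (p : ℚ_[p]) ^ r = 0 ∧
        b ^ 2 - (p : ℚ_[p]) * b + (p : ℚ_[p]) ^ r = 0 ∧ a.valuation = 1 ∧ b.valuation = (r : ℤ) - 1 := by
  have hp2 : 2 ≤ p := (Fact.out : p.Prime).two_le
  refine ⟨irred_part p r hp2 hr, fun π h => complex_part p r hp2 hr π h, ?_⟩
  obtain ⟨y0, y1, hy0, hy1, hn0, hn1⟩ := padic_part p r hr
  have hne : y0 ≠ y1 := by
    intro h; rw [h, hn1] at hn0; exact lt_irrefl _ hn0
  have hsum : y0 + y1 = 1 := by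
    have h : (y0 - y1) * (y0 + y1 - 1) = 0 := by linear_combination hy0 - hy1
    rcases mul_eq_zero.mp h with h1 | h1
    · exact absurd (sub_eq_zero.mp h1) hne
    · linear_combination h1
  have hprod : y0 * y1 = (p : ℤ_[p]) ^ (r - 2) := by
    have : y1 = 1 - y0 := by linear_combination hsum
    rw [this]; linear_combination -hy0
  have hpQ : (p : ℚ_[p]) ≠ 0 := by
    exact_mod_cast (Fact.out : p.Prime).ne_zero
  have hy1ne : y1 ≠ 0 := by
    intro h; rw [h, norm_zero] at hn1; exact zero_ne_one hn1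
  have hy0ne : y0 ≠ 0 := by
    intro h
    rw [h, zero_mul] at hprod
    exact pow_ne_zero _ (by exact_mod_cast (Fact.out : p.Prime).ne_zero) hprod.symm
  have hY1ne : (y1 : ℚ_[p]) ≠ 0 := fun h => hy1ne (PadicInt.coe_eq_zero.mp h)
  have hY0ne : (y0 : ℚ_[p]) ≠ 0 := fun h => hy0ne (PadicInt.coe_eq_zero.mp h)
  have hv1 : (y1 : ℚ_[p]).valuation = 0 := by
    rw [PadicInt.valuation_coe]
    have h := PadicInt.norm_eq_zpow_neg_valuation hy1ne
    rw [hn1] at h
    have hp1 : (1 : ℝ) < p := by exact_mod_cast (Fact.out : p.Prime).one_lt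
    have h2 := (zpow_eq_one_iff_right₀ (by positivity : (0 : ℝ) ≤ p) hp1.ne').mp h.symm
    omega
  have hv0 : (y0 : ℚ_[p]).valuation = (r : ℤ) - 2 := by
    have h := congrArg (fun z : ℤ_[p] => (z : ℚ_[p]).valuation) hprod
    simp only [PadicInt.coe_mul, PadicInt.coe_pow, PadicInt.coe_natCast] at h
    rw [Padic.valuation_mul hY0ne hY1ne, hv1, add_zero, Padic.valuation_pow,
      Padic.valuation_p] at h
    rw [h]
    push_cast [Nat.cast_sub (by omega : 2 ≤ r)]
    ring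
  have hE0 : (y0 : ℚ_[p]) ^ 2 - y0 + (p : ℚ_[p]) ^ (r - 2) = 0 := by
    have := congrArg (fun z : ℤ_[p] => (z : ℚ_[p])) hy0
    simpa only [PadicInt.coe_add, PadicInt.coe_sub, PadicInt.coe_pow, PadicInt.coe_natCast,
      PadicInt.coe_zero] using this
  have hE1 : (y1 : ℚ_[p]) ^ 2 - y1 + (p : ℚ_[p]) ^ (r - 2) = 0 := by
    have := congrArg (fun z : ℤ_[p] => (z : ℚ_[p])) hy1
    simpa only [PadicInt.coe_add, PadicInt.coe_sub, PadicInt.coe_pow, PadicInt.coe_natCast,
      PadicInt.coe_zero] using this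
  have hpr : (p : ℚ_[p]) ^ r = (p : ℚ_[p]) ^ 2 * (p : ℚ_[p]) ^ (r - 2) := by
    rw [← pow_add]; congr 1; omega
  refine ⟨(p : ℚ_[p]) * y1, (p : ℚ_[p]) * y0, ?_, ?_, ?_, ?_, ?_⟩
  · intro h
    have := mul_left_cancel₀ hpQ h
    exact hne (PadicInt.ext this.symm)
  · rw [hpr]; linear_combination (p : ℚ_[p]) ^ 2 * hE1
  · rw [hpr]; linear_combination (p : ℚ_[p]) ^ 2 * hE0
  · rw [Padic.valuation_mul hpQ hY1ne, Padic.valuation_p, hv1]; ring
  · rw [Padic.valuation_mul hpQ hY0ne, Padic.valuation_p, hv0]; ring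

end Groth.Agent.S16390
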