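import Groth.Statements.S16396
import Mathlib.Algebra.Polynomial.Eval.Degree
import Mathlib.Tactic

set_option autoImplicit false
universe u
open CAlg

namespace Groth.Agent.S16396

section Helpers


open Polynomial

variable {A : Type u} [CommRing A] [Algebra ℚ A]

theorem iterate_derivative_mem (B : Subalgebra ℚ A[X])
    (hD : ∀ P ∈ B, Polynomial.derivative P ∈ B) (P : A[X]) (hP : P ∈ B) (k : ℕ) :
    derivative^[k] P ∈ B := by
  induction k with
  | zero => exact hP
  | succ k ih => rw [Function.iterate_succ_apply']; exact hD _ ih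

/-- the rational scalar `1/n` inverts multiplication by `n` in a `ℚ`-algebra -/
theorem inv_smul_nat_smul (n : ℕ) (hn : n ≠ 0) (x : A[X]) : ((n : ℚ)⁻¹) • ((n : ℕ) • x) = x := by
  rw [← Nat.cast_smul_eq_nsmul ℚ n x, smul_smul, inv_mul_cancel₀ (Nat.cast_ne_zero.mpr hn), one_smul]

theorem C_coeff_mem (B : Subalgebra ℚ A[X]) (hX : (X : A[X]) ∈ B)
    (hD : ∀ P ∈ B, Polynomial.derivative P ∈ B) :
    ∀ (n : ℕ) (Q : A[X]), Q ∈ B → Q.natDegree ≤ n → ∀ j, C (Q.coeff j) ∈ B := by
  intro n
  induction n with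
  | zero =>
    intro Q hQ hdeg j
    have hQC : Q = C (Q.coeff 0) := eq_C_of_natDegree_le_zero hdeg
    rcases Nat.eq_zero_or_pos j with rfl | hj
    · rw [← hQC]; exact hQ
    · rw [hQC, coeff_C, if_neg (by omega), C_0]; exact B.zero_mem
  | succ n ih =>
    intro Q hQ hdeg j
    have hpos : ∀ j, 0 < j → C (Q.coeff j) ∈ B := by
      intro j hj
      obtain ⟨i, rfl⟩ : ∃ i, j = i + 1 := ⟨j - 1, by omega⟩
      have h1 := ih (derivative Q) (hD Q hQ)
        ((natDegree_derivative_le Q).trans (by omega)) i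
      rw [coeff_derivative] at h1
      have h2 : C (Q.coeff (i + 1) * ((i : A) + 1)) = (i + 1 : ℕ) • C (Q.coeff (i + 1)) := by
        rw [nsmul_eq_mul, ← C_eq_natCast, ← C_mul, mul_comm]; push_cast; rfl
      rw [h2] at h1
      have h3 := B.smul_mem h1 (((i + 1 : ℕ) : ℚ)⁻¹)
      rwa [inv_smul_nat_smul (i + 1) (by omega)] at h3
    rcases Nat.eq_zero_or_pos j with rfl | hj
    · have hsum : Q = ∑ i ∈ Finset.range (n + 2), C (Q.coeff i) * X ^ i :=
        Q.as_sum_range_C_mul_X_pow' (by omega)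
      rw [Finset.sum_range_succ'] at hsum
      have h0 : C (Q.coeff 0) = Q - ∑ i ∈ Finset.range (n + 1), C (Q.coeff (i + 1)) * X ^ (i + 1) := by
        rw [eq_sub_iff_add_eq, add_comm]
        conv_rhs => rw [hsum]
        simp
      rw [h0]
      refine B.sub_mem hQ (B.sum_mem (fun i _ => ?_))
      exact B.mul_mem (hpos (i + 1) (by omega)) (B.pow_mem hX _)
    · exact hpos j hj

theorem main (B : Subalgebra ℚ A[X])
    (hX : (X : A[X]) ∈ B) (hD : ∀ P ∈ B, Polynomial.derivative P ∈ B) (P : A[X]) :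
    P ∈ B ↔ ∀ i : ℕ, ∃ Q ∈ B, Polynomial.eval 0 Q = P.coeff i := by
  constructor
  · intro hP i
    refine ⟨C (P.coeff i), C_coeff_mem B hX hD _ P hP le_rfl i, ?_⟩
    rw [eval_C]
  · intro h
    rw [P.as_sum_range_C_mul_X_pow]
    refine B.sum_mem (fun i _ => B.mul_mem ?_ (B.pow_mem hX _))
    obtain ⟨Q, hQ, hQi⟩ := h i
    rw [← hQi, ← coeff_zero_eq_eval_zero]
    exact C_coeff_mem B hX hD _ Q hQ le_rfl 0


end Helpers


open Polynomial in
/-- For a commutative ℚ-algebra A, a ℚ-subalgebra B of the polynomial algebra A[X] that contains X and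
is closed under d/dX consists exactly of the polynomials each of whose coefficients is the value at
0 of some element of B; in other words B = ev(B)[X], with ev the evaluation at 0. -/
theorem result
    (A : Type u) [CommRing A] [Algebra ℚ A] (B : Subalgebra ℚ A[X])
    (hX : (X : A[X]) ∈ B) (hD : ∀ P ∈ B, Polynomial.derivative P ∈ B) (P : A[X]) :
    P ∈ B ↔ ∀ i : ℕ, ∃ Q ∈ B, Polynomial.eval 0 Q = P.coeff i := by
  exact main B hX hD P

end Groth.Agent.S16396
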