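import Groth.Statements.S16400
import Mathlib
-- import your own Groth.Agent.* helpers here

set_option autoImplicit false
universe u v
open CAlgX

namespace Groth.Agent.S16400

open Module

section
variable {K : Type u} [Field K]

/-- column selection: a surjective matrix has a column subset giving a bijective submatrix. -/
lemma exists_cols {m n : Type*} [Fintype m] [Fintype n] [DecidableEq n] (M : Matrix m n K)
    (hM : Function.Surjective M.mulVecLin) :
    ∃ C : Finset n, Function.Bijective (M.submatrix id (Subtype.val : ↥C → n)).mulVecLin := by
  classical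
  obtain ⟨b, -, -, hspan, hli⟩ := exists_linearIndepOn_extension (K := K) (v := M.col)
    (s := (∅ : Set n)) (t := Set.univ) (linearIndepOn_empty K M.col) (Set.empty_subset _)
  refine ⟨b.toFinset, ?_, ?_⟩
  · -- injective
    show Function.Injective (M.submatrix id (Subtype.val : ↥b.toFinset → n)).mulVec
    rw [Matrix.mulVec_injective_iff]
    have h1 : (M.submatrix id (Subtype.val : ↥b.toFinset → n)).col =
        M.col ∘ (Subtype.val : ↥b.toFinset → n) := by
      ext j i; rfl
    rw [h1]
    have : LinearIndepOn K M.col (b.toFinset : Set n) := by simpa using hli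
    exact this
  · -- surjective
    rw [← LinearMap.range_eq_top, Matrix.range_mulVecLin]
    have h1 : Set.range (M.submatrix id (Subtype.val : ↥b.toFinset → n)).col = M.col '' b := by
      ext w
      constructor
      · rintro ⟨j, rfl⟩
        exact ⟨j.1, Set.mem_toFinset.1 j.2, rfl⟩
      · rintro ⟨j, hj, rfl⟩
        exact ⟨⟨j, Set.mem_toFinset.2 hj⟩, rfl⟩
    rw [h1, eq_top_iff]
    have h2 : LinearMap.range M.mulVecLin = ⊤ := LinearMap.range_eq_top.2 hM
    rw [← h2, Matrix.range_mulVecLin, Submodule.span_le]
    rw [Set.image_univ] at hspan
    exact hspan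

/-- transposing a bijective matrix. -/
lemma bijective_of_transpose {a b : Type*} [Fintype a] [Fintype b] [DecidableEq a] [DecidableEq b]
    (B : Matrix a b K) (h : Function.Bijective B.transpose.mulVecLin) :
    Function.Bijective B.mulVecLin := by
  have hcard : Fintype.card a = Fintype.card b := by
    have := (LinearEquiv.ofBijective _ h).finrank_eq
    simpa using this
  have hrank : B.rank = Fintype.card b := by
    rw [← Matrix.rank_transpose, Matrix.rank, LinearMap.range_eq_top.2 h.2, finrank_top]
    simp
  have hsurj : Function.Surjective B.mulVecLin := by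
    rw [← LinearMap.range_eq_top]
    apply Submodule.eq_top_of_finrank_eq
    show B.rank = _
    rw [hrank]; simp [hcard]
  have hfin : finrank K (b → K) = finrank K (a → K) := by simp [hcard]
  exact ⟨(LinearMap.injective_iff_surjective_of_finrank_eq_finrank hfin).2 hsurj, hsurj⟩

/-- row selection: an injective matrix has a row subset giving a bijective submatrix. -/
lemma exists_rows {m n : Type*} [Fintype m] [Fintype n] [DecidableEq m] [DecidableEq n]
    (M : Matrix m n K) (hM : Function.Injective M.mulVecLin) :
    ∃ R : Finset m, Function.Bijective (M.submatrix (Subtype.val : ↥R → m) id).mulVecLin := by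
  have hsurj : Function.Surjective M.transpose.mulVecLin := by
    rw [← LinearMap.range_eq_top]
    apply Submodule.eq_top_of_finrank_eq
    show M.transpose.rank = _
    rw [Matrix.rank_transpose, Matrix.rank]
    have := LinearMap.finrank_range_add_finrank_ker M.mulVecLin
    rw [LinearMap.ker_eq_bot.2 hM, finrank_bot, add_zero] at this
    rw [this]
  obtain ⟨R, hR⟩ := exists_cols M.transpose hsurj
  refine ⟨R, bijective_of_transpose _ ?_⟩
  exact hR

end


/-- Let K be a field, N a finite index set and A a square matrix over K indexed by N whose linear map on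
column vectors has kernel equal to its range (so A composed with A is zero and the three-term
sequence it defines is exact in the middle). Then there are subsets N₁₂, N₂₁, N₃₁ of N such that the
block of A with rows in N₃₁ and columns in N₂₁, and the block of A with rows outside N₂₁ and columns
in N₁₂, both act bijectively on column vectors. (In the original setting K is the prime field and
middle exactness is supplied by the Cartier isomorphism; here exactness is the hypothesis and K is
any field.) -/
theorem result
    {K : Type u} [Field K] {N : Type v} [Fintype N] [DecidableEq N]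
    (A : Matrix N N K)
    (hA : LinearMap.ker A.mulVecLin = LinearMap.range A.mulVecLin) :
    ∃ N₁₂ N₂₁ N₃₁ : Finset N,
      Function.Bijective (A.submatrix (Subtype.val : ↥N₃₁ → N) (Subtype.val : ↥N₂₁ → N)).mulVecLin ∧
      Function.Bijective
        (A.submatrix (Subtype.val : {x : N // x ∉ N₂₁} → N) (Subtype.val : ↥N₁₂ → N)).mulVecLin := by
  classical
  obtain ⟨b, -, -, hspan, hli⟩ := exists_linearIndepOn_extension (K := K) (v := A.col)
    (s := (∅ : Set N)) (t := Set.univ) (linearIndepOn_empty K A.col) (Set.empty_subset _)
  rw [Set.image_univ] at hspan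
  set C : Finset N := b.toFinset with hC
  set B : Matrix N C K := A.submatrix id (Subtype.val : C → N) with hB
  have hBcol : B.col = A.col ∘ (Subtype.val : C → N) := by
    ext j i; rfl
  have hBli : LinearIndependent K B.col := by
    rw [hBcol]
    have : LinearIndepOn K A.col (C : Set N) := by simpa [hC] using hli
    exact this
  have hBinj : Function.Injective B.mulVecLin := Matrix.mulVec_injective_iff.2 hBli
  have hBrange : LinearMap.range B.mulVecLin = LinearMap.range A.mulVecLin := by
    rw [Matrix.range_mulVecLin, Matrix.range_mulVecLin]
    have h1 : Set.range B.col = A.col '' b := by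
      ext w
      constructor
      · rintro ⟨j, rfl⟩
        exact ⟨j.1, Set.mem_toFinset.1 j.2, rfl⟩
      · rintro ⟨j, hj, rfl⟩
        exact ⟨⟨j, Set.mem_toFinset.2 hj⟩, rfl⟩
    rw [h1]
    apply le_antisymm
    · exact Submodule.span_mono (Set.image_subset_range _ _)
    · exact Submodule.span_le.2 hspan
  obtain ⟨R, hR⟩ := exists_rows B hBinj
  set D : Matrix {x : N // x ∉ C} N K := A.submatrix Subtype.val id with hD
  set π := LinearMap.funLeft K K (Subtype.val : {x : N // x ∉ C} → N) with hπ
  have hcomp : D.mulVecLin = π ∘ₗ A.mulVecLin := by
    apply LinearMap.ext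
    intro w
    ext i
    rfl
  have hinj : Function.Injective (π ∘ₗ B.mulVecLin) := by
    rw [← LinearMap.ker_eq_bot, LinearMap.ker_eq_bot']
    intro x hx
    obtain ⟨w, hw⟩ : ∃ w, w = B.mulVecLin x := ⟨_, rfl⟩
    have hw0 : ∀ j, j ∉ C → w j = 0 := fun j hj => by
      rw [hw]; exact congrFun hx ⟨j, hj⟩
    have hwker : A.mulVecLin w = 0 := by
      have : w ∈ LinearMap.range A.mulVecLin := by
        rw [← hBrange, hw]; exact LinearMap.mem_range_self _ x
      rw [← hA] at this; exact this
    have hBw : B.mulVecLin (w ∘ Subtype.val) = A.mulVecLin w := by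
      ext i
      simp only [Matrix.mulVecLin_apply, Matrix.mulVec, dotProduct, hB, Matrix.submatrix_apply, id,
        Function.comp]
      rw [Finset.sum_coe_sort C (fun j => A i j * w j)]
      exact Finset.sum_subset (Finset.subset_univ C) (fun j _ hj => by rw [hw0 j hj, mul_zero])
    have hwC : w ∘ (Subtype.val : C → N) = 0 := hBinj (by rw [hBw, hwker, map_zero])
    have hw00 : w = 0 := by
      ext j
      by_cases hj : j ∈ C
      · exact congrFun hwC ⟨j, hj⟩
      · exact hw0 j hj
    exact hBinj (by rw [← hw, hw00, map_zero])
  have hrangeD : LinearMap.range D.mulVecLin = LinearMap.range (π ∘ₗ B.mulVecLin) := by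
    rw [hcomp, LinearMap.range_comp, LinearMap.range_comp, hBrange]
  have hfr : finrank K (LinearMap.range (π ∘ₗ B.mulVecLin)) = Fintype.card C := by
    rw [LinearMap.finrank_range_of_inj hinj]; simp
  have hcardN : Fintype.card N = 2 * Fintype.card C := by
    have h1 := LinearMap.finrank_range_add_finrank_ker A.mulVecLin
    rw [hA, ← hBrange, LinearMap.finrank_range_of_inj hBinj] at h1
    simp only [finrank_fintype_fun_eq_card] at h1
    omega
  have hcardCc : Fintype.card {x : N // x ∉ C} = Fintype.card C := by
    have := Fintype.card_subtype_compl (fun x : N => x ∈ C)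
    rw [this]
    have h2 : Fintype.card {x : N // x ∈ C} = Fintype.card C := rfl
    omega
  have hDsurj : Function.Surjective D.mulVecLin := by
    rw [← LinearMap.range_eq_top]
    apply Submodule.eq_top_of_finrank_eq
    rw [hrangeD, hfr, finrank_fintype_fun_eq_card, hcardCc]
  obtain ⟨N12, hN12⟩ := exists_cols D hDsurj
  exact ⟨N12, C, R, hR, hN12⟩

end Groth.Agent.S16400
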