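import Mathlib
import Groth.Statements.S16401

set_option autoImplicit false
universe u v
open CAlgX

namespace Groth.Agent.S16401

section Helpers

variable {R : Type u} [CommRing R] {ι : Type v} [AddCommGroup ι]

lemma prod_mem_E (E : ι → AddSubgroup R) (h0 : E 0 = ⊤)
    (hmul : ∀ a b : ι, ∀ x ∈ E a, ∀ y ∈ E b, x * y ∈ E (a + b))
    {κ : Type*} (s : Finset κ) (f : κ → R) (w : κ → ι) (hf : ∀ k ∈ s, f k ∈ E (w k)) :
    ∏ k ∈ s, f k ∈ E (∑ k ∈ s, w k) := by
  classical
  induction s using Finset.induction_on with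
  | empty => simp [h0]
  | insert a s ha ih =>
    rw [Finset.prod_insert ha, Finset.sum_insert ha]
    exact hmul _ _ _ (hf a (Finset.mem_insert_self a s)) _
      (ih (fun k hk => hf k (Finset.mem_insert_of_mem hk)))

lemma det_mem_E (E : ι → AddSubgroup R) (h0 : E 0 = ⊤)
    (hmul : ∀ a b : ι, ∀ x ∈ E a, ∀ y ∈ E b, x * y ∈ E (a + b))
    {r : ℕ} (wβ wγ : Fin r → ι)
    (M : Matrix (Fin r) (Fin r) R) (hM : ∀ i j, M i j ∈ E (wγ i - wβ j)) :
    M.det ∈ E (∑ i, wγ i - ∑ j, wβ j) := by
  rw [Matrix.det_apply]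
  refine AddSubgroup.sum_mem _ (fun σ _ => ?_)
  refine AddSubgroup.zsmul_mem _ ?_ _
  have := prod_mem_E E h0 hmul Finset.univ (fun k => M (σ k) k) (fun k => wγ (σ k) - wβ k)
    (fun k _ => hM (σ k) k)
  rwa [Finset.sum_sub_distrib, Equiv.sum_comp σ wγ] at this

end Helpers

/-- Let R be a commutative ring and (E_a), a ∈ ι, a family of additive subgroups of R indexed by an
additive commutative group ι, with E_0 = R and E_a · E_b ⊆ E_{a+b}. Let β, γ : Fin r → ι be weight
vectors with Σ_j β_j = Σ_i γ_i, and let ϑ be an r × r matrix over R with ϑ_{ij} ∈ E_{γ_i − β_j} for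
all i, j and with unit determinant. Then a column vector u satisfies u_j ∈ E_{β_j} for every j if
and only if (ϑ u)_i ∈ E_{γ_i} for every i; since ϑ is invertible this says that ϑ maps the box Π_j
E_{β_j} bijectively onto the box Π_i E_{γ_i}. -/
theorem result
    {R : Type u} [CommRing R] {ι : Type v} [AddCommGroup ι]
    (E : ι → AddSubgroup R) (h0 : E 0 = ⊤)
    (hmul : ∀ a b : ι, ∀ x ∈ E a, ∀ y ∈ E b, x * y ∈ E (a + b))
    {r : ℕ} (wβ wγ : Fin r → ι) (hsum : ∑ j, wβ j = ∑ i, wγ i)
    (ϑ : Matrix (Fin r) (Fin r) R) (hϑ : ∀ i j, ϑ i j ∈ E (wγ i - wβ j))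
    (hdet : IsUnit ϑ.det) (u : Fin r → R) :
    (∀ j, u j ∈ E (wβ j)) ↔ ∀ i, ϑ.mulVec u i ∈ E (wγ i) := by
  classical
  have hmulvec : ∀ (wa wb : Fin r → ι) (M : Matrix (Fin r) (Fin r) R)
      (hM : ∀ i j, M i j ∈ E (wb i - wa j)) (v : Fin r → R) (hv : ∀ j, v j ∈ E (wa j)) (i : Fin r),
      M.mulVec v i ∈ E (wb i) := by
    intro wa wb M hM v hv i
    rw [Matrix.mulVec, dotProduct]
    refine AddSubgroup.sum_mem _ (fun j _ => ?_)
    have := hmul _ _ _ (hM i j) _ (hv j)
    rwa [sub_add_cancel] at this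
  constructor
  · intro hu i
    exact hmulvec wβ wγ ϑ hϑ u hu i
  · intro hv
    -- adjugate entries
    have hadj : ∀ i j, ϑ.adjugate i j ∈ E (wβ i - wγ j) := by
      intro i j
      rw [Matrix.adjugate_apply]
      have hM' : ∀ k l, (ϑ.updateRow j (Pi.single i 1)) k l ∈
          E (Function.update wγ j (wβ i) k - wβ l) := by
        intro k l
        by_cases hk : k = j
        · subst hk
          rw [Matrix.updateRow_self, Function.update_self]
          by_cases hl : l = i
          · subst hl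
            simp [h0]
          · rw [Pi.single_eq_of_ne hl]
            exact AddSubgroup.zero_mem _
        · rw [Matrix.updateRow_ne hk, Function.update_of_ne hk]
          exact hϑ k l
      have := det_mem_E E h0 hmul wβ (Function.update wγ j (wβ i)) _ hM'
      have hs : ∑ k, Function.update wγ j (wβ i) k - ∑ l, wβ l = wβ i - wγ j := by
        have h1 : ∑ k, Function.update wγ j (wβ i) k = ∑ k, wγ k - wγ j + wβ i := by
          rw [Finset.sum_update_of_mem (Finset.mem_univ j)]
          rw [← Finset.sum_erase_add Finset.univ wγ (Finset.mem_univ j)]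
          simp only [Finset.sdiff_singleton_eq_erase]
          abel
        rw [h1, hsum]; abel
      rwa [hs] at this
    obtain ⟨d, hd⟩ := hdet
    have hu : u = (↑d⁻¹ : R) • ϑ.adjugate.mulVec (ϑ.mulVec u) := by
      rw [Matrix.mulVec_mulVec, Matrix.adjugate_mul, Matrix.smul_mulVec, Matrix.one_mulVec, ← hd,
        smul_smul, Units.inv_mul, one_smul]
    intro j
    rw [hu, Pi.smul_apply, smul_eq_mul]
    have h1 : ϑ.adjugate.mulVec (ϑ.mulVec u) j ∈ E (wβ j) :=
      hmulvec wγ wβ ϑ.adjugate hadj _ hv j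
    have h2 : (↑d⁻¹ : R) ∈ E 0 := by rw [h0]; trivial
    have := hmul _ _ _ h2 _ h1
    rwa [zero_add] at this

end Groth.Agent.S16401
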