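import Groth.Statements.S16402
import Groth.Agent.Lib.ArtinBasis57
-- import your own Groth.Agent.* helpers here

set_option autoImplicit false
open SymBasis

namespace Groth.Agent.S16402

/-- For n ≥ 2, the polynomial ring ℤ[t_1, …, t_n] is a free module of rank n! over ℤ[c_1, …, c_n] acting
through c_i ↦ e_i(t), the i-th elementary symmetric polynomial in the t_j, and the monomials
t_1^{d_1} ⋯ t_n^{d_n} with 0 ≤ d_i ≤ n − i form a basis: every polynomial is in exactly one way a
sum Σ_d f(p_d) · t^d with p_d ∈ ℤ[c_1, …, c_n], f the substitution c_i ↦ e_i(t). The published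
statement is phrased for the Chow ring of the classifying stack of the diagonal torus as a module
over that of the classifying stack of GL_n, identified with ℤ[t_1, …, t_n] ⊇ ℤ[c_1, …, c_n] in this
way. -/
theorem result (n : ℕ) (hn : 2 ≤ n) :
    Function.Bijective (fun p : (Π i : Fin n, Fin (n - (i : ℕ))) → MvPolynomial (Fin n) ℤ =>
      ∑ d : (Π i : Fin n, Fin (n - (i : ℕ))),
        (MvPolynomial.aeval (fun i : Fin n => MvPolynomial.esymm (Fin n) ℤ ((i : ℕ) + 1))) (p d) *
          ∏ i : Fin n, MvPolynomial.X i ^ ((d i : ℕ))) := by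
  -- notation
  set E : MvPolynomial (Fin n) ℤ →ₐ[ℤ] MvPolynomial (Fin n) ℤ :=
    MvPolynomial.aeval (fun i : Fin n => MvPolynomial.esymm (Fin n) ℤ ((i : ℕ) + 1)) with hE
  set ev : MvPolynomial (Fin n) (MvPolynomial (Fin n) ℤ) →+* MvPolynomial (Fin n) ℤ :=
    MvPolynomial.eval₂Hom (E : MvPolynomial (Fin n) ℤ →+* MvPolynomial (Fin n) ℤ)
      MvPolynomial.X with hev
  set ι : MvPolynomial (Fin n) ℤ →+* MvPolynomial (Fin n) (MvPolynomial (Fin n) ℤ) :=
    MvPolynomial.map (MvPolynomial.C : ℤ →+* MvPolynomial (Fin n) ℤ) with hι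
  have hevC : ∀ r, ev (MvPolynomial.C r) = E r := by
    intro r; simp [hev]
  have hevX : ∀ i, ev (MvPolynomial.X i) = MvPolynomial.X i := by
    intro i; simp [hev]
  have hevι : ∀ g, ev (ι g) = g := by
    intro g
    have : ev.comp ι = RingHom.id _ := by
      refine MvPolynomial.ringHom_ext (fun z => ?_) (fun i => ?_)
      · simp [hev, hι, hE]
      · simp [hev, hι]
    exact RingHom.congr_fun this g
  have hevesymm : ∀ k, ev (MvPolynomial.esymm (Fin n) (MvPolynomial (Fin n) ℤ) k) =
      MvPolynomial.esymm (Fin n) ℤ k := by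
    intro k
    simp only [MvPolynomial.esymm, map_sum, map_prod, hevX]
  have hker : Groth.Agent.ArtinBasis57.IIe (MvPolynomial.X : Fin n → MvPolynomial (Fin n) ℤ) ≤ RingHom.ker ev := by
    rw [Groth.Agent.ArtinBasis57.IIe, Ideal.span_le]
    rintro _ ⟨i, rfl⟩
    rw [SetLike.mem_coe, RingHom.mem_ker, map_sub, hevesymm, hevC, hE, MvPolynomial.aeval_X,
      sub_self]
  have hcong : ∀ g, g - ι (ev g) ∈ Groth.Agent.ArtinBasis57.IIe (MvPolynomial.X : Fin n → MvPolynomial (Fin n) ℤ) := by
    intro g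
    have h1 : (Ideal.Quotient.mk (Groth.Agent.ArtinBasis57.IIe (MvPolynomial.X : Fin n → MvPolynomial (Fin n) ℤ))).comp (ι.comp ev) =
        Ideal.Quotient.mk (Groth.Agent.ArtinBasis57.IIe (MvPolynomial.X : Fin n → MvPolynomial (Fin n) ℤ)) := by
      refine MvPolynomial.ringHom_ext (fun r => ?_) (fun i => ?_)
      · have h2 : ((Ideal.Quotient.mk (Groth.Agent.ArtinBasis57.IIe (MvPolynomial.X : Fin n → MvPolynomial (Fin n) ℤ))).comp ι).comp
            (E : MvPolynomial (Fin n) ℤ →+* MvPolynomial (Fin n) ℤ) =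
            (Ideal.Quotient.mk (Groth.Agent.ArtinBasis57.IIe (MvPolynomial.X : Fin n → MvPolynomial (Fin n) ℤ))).comp MvPolynomial.C := by
          refine MvPolynomial.ringHom_ext (fun z => ?_) (fun k => ?_)
          · simp [hι, hE]
          · simp only [RingHom.comp_apply, RingHom.coe_coe, hE, MvPolynomial.aeval_X, hι,
              MvPolynomial.map_esymm]
            rw [Ideal.Quotient.eq]
            exact Ideal.subset_span ⟨k, rfl⟩
        have h3 := RingHom.congr_fun h2 r
        simpa [hevC] using h3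
      · simp [hevX, hι]
    have h4 := RingHom.congr_fun h1 g
    rw [RingHom.comp_apply, RingHom.comp_apply, eq_comm, Ideal.Quotient.eq] at h4
    exact h4
  have hF : ∀ p : Groth.Agent.ArtinBasis57.DD n → MvPolynomial (Fin n) ℤ,
      (∑ d : (Π i : Fin n, Fin (n - (i : ℕ))), E (p d) *
          ∏ i : Fin n, MvPolynomial.X i ^ ((d i : ℕ))) =
        ev (∑ d, MvPolynomial.C (p d) *
          Groth.Agent.ArtinBasis57.mon (R := MvPolynomial (Fin n) ℤ) d) := by
    intro p
    rw [map_sum]
    refine Finset.sum_congr rfl (fun d _ => ?_)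
    rw [map_mul, hevC, Groth.Agent.ArtinBasis57.mon, Groth.Agent.ArtinBasis57.map_monOf]
    simp only [hevX]
    rfl
  constructor
  · intro p p' hpp
    simp only at hpp
    rw [hF p, hF p', ← sub_eq_zero, ← map_sub, ← Finset.sum_sub_distrib] at hpp
    have h1 := hcong (∑ d, (MvPolynomial.C (p d) *
          Groth.Agent.ArtinBasis57.mon (R := MvPolynomial (Fin n) ℤ) d -
        MvPolynomial.C (p' d) * Groth.Agent.ArtinBasis57.mon (R := MvPolynomial (Fin n) ℤ) d))
    rw [hpp, map_zero, sub_zero] at h1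
    have h2 : (∑ d, (MvPolynomial.C (p d) *
          Groth.Agent.ArtinBasis57.mon (R := MvPolynomial (Fin n) ℤ) d -
        MvPolynomial.C (p' d) * Groth.Agent.ArtinBasis57.mon (R := MvPolynomial (Fin n) ℤ) d)) =
        ∑ d, MvPolynomial.C ((p - p') d) *
          Groth.Agent.ArtinBasis57.mon (R := MvPolynomial (Fin n) ℤ) d := by
      refine Finset.sum_congr rfl (fun d _ => ?_)
      rw [Pi.sub_apply, map_sub, sub_mul]
    rw [h2] at h1
    have h3 := Groth.Agent.ArtinBasis57.indepE (MvPolynomial.X : Fin n → MvPolynomial (Fin n) ℤ) _ h1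
    exact sub_eq_zero.mp h3
  · intro g₀
    obtain ⟨r, hr⟩ := Groth.Agent.ArtinBasis57.spanE (MvPolynomial.X : Fin n → MvPolynomial (Fin n) ℤ) (ι g₀)
    refine ⟨r, ?_⟩
    simp only
    rw [hF r]
    have h1 := hker hr
    rw [RingHom.mem_ker, map_sub, hevι, sub_eq_zero] at h1
    exact h1.symm

end Groth.Agent.S16402
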