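import Groth.Statements.S16403
import Groth.Agent.Lib.ArtinBasis57
-- import your own Groth.Agent.* helpers here

set_option autoImplicit false
universe u
open SymBasis

namespace Groth.Agent.S16403

/-- Let R be a commutative ring and a_1, …, a_n ∈ R with n ≥ 2, making R an algebra over ℤ[c_1, …, c_n]
by c_i ↦ a_i. The base change R ⊗ ℤ[t_1, …, t_n] over ℤ[c_1, …, c_n], where c_i ↦ e_i(t) is the i-th
elementary symmetric polynomial, is R[t_1, …, t_n]/I with I the ideal generated by the elements
e_i(t) − a_i, and the extension of an ideal J of R to it is (I + J·R[t])/I. For families (α_d),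
(β_d) of elements of R indexed by the exponent vectors d with 0 ≤ d_i ≤ n − i, the sums Σ_d α_d t^d
and Σ_d β_d t^d agree modulo I + J·R[t] if and only if α_d ≡ β_d mod J for every d. The published
statement takes R positively graded over ℤ[c_1, …, c_n] and each α_d homogeneous of degree k − |d|
for a fixed integer k ≥ 0; this row assumes neither. -/
theorem result {R : Type u} [CommRing R] (n : ℕ) (hn : 2 ≤ n)
    (a : Fin n → R) (J : Ideal R) (α β : (Π i : Fin n, Fin (n - (i : ℕ))) → R) :
    (∑ d : (Π i : Fin n, Fin (n - (i : ℕ))), MvPolynomial.C (α d) * ∏ i : Fin n, MvPolynomial.X i ^ ((d i : ℕ))) -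
        (∑ d : (Π i : Fin n, Fin (n - (i : ℕ))), MvPolynomial.C (β d) * ∏ i : Fin n, MvPolynomial.X i ^ ((d i : ℕ)))
      ∈ Ideal.span (Set.range fun i : Fin n => MvPolynomial.esymm (Fin n) R ((i : ℕ) + 1) - MvPolynomial.C (a i))
        ⊔ Ideal.map (MvPolynomial.C : R →+* MvPolynomial (Fin n) R) J
    ↔ ∀ d : (Π i : Fin n, Fin (n - (i : ℕ))), α d - β d ∈ J := by
  have hdiff : (∑ d : (Π i : Fin n, Fin (n - (i : ℕ))),
        MvPolynomial.C (α d) * ∏ i : Fin n, MvPolynomial.X i ^ ((d i : ℕ))) -
      (∑ d : (Π i : Fin n, Fin (n - (i : ℕ))),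
        MvPolynomial.C (β d) * ∏ i : Fin n, MvPolynomial.X i ^ ((d i : ℕ))) =
      ∑ d : Groth.Agent.ArtinBasis57.DD n, MvPolynomial.C (α d - β d) *
        Groth.Agent.ArtinBasis57.mon (R := R) d := by
    rw [← Finset.sum_sub_distrib]
    refine Finset.sum_congr rfl (fun d _ => ?_)
    rw [map_sub, sub_mul]
    rfl
  rw [hdiff]
  constructor
  · intro h d
    -- reduce modulo J
    set π := Ideal.Quotient.mk J with hπ
    have hle : Ideal.span (Set.range fun i : Fin n =>
          MvPolynomial.esymm (Fin n) R ((i : ℕ) + 1) - MvPolynomial.C (a i)) ⊔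
        Ideal.map (MvPolynomial.C : R →+* MvPolynomial (Fin n) R) J ≤
        Ideal.comap (MvPolynomial.map π)
          (Groth.Agent.ArtinBasis57.IIe (fun i => π (a i))) := by
      refine sup_le ?_ ?_
      · rw [Ideal.span_le]
        rintro _ ⟨i, rfl⟩
        rw [SetLike.mem_coe, Ideal.mem_comap, map_sub, MvPolynomial.map_esymm, MvPolynomial.map_C]
        exact Ideal.subset_span ⟨i, rfl⟩
      · rw [Ideal.map_le_iff_le_comap]
        intro j hj
        rw [Ideal.mem_comap, Ideal.mem_comap, MvPolynomial.map_C, hπ,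
          Ideal.Quotient.eq_zero_iff_mem.mpr hj, map_zero]
        exact zero_mem _
    have h1 := hle h
    rw [Ideal.mem_comap, map_sum] at h1
    have h2 : ∑ d : Groth.Agent.ArtinBasis57.DD n,
        MvPolynomial.map π (MvPolynomial.C (α d - β d) * Groth.Agent.ArtinBasis57.mon (R := R) d) =
        ∑ d : Groth.Agent.ArtinBasis57.DD n, MvPolynomial.C (π (α d - β d)) *
          Groth.Agent.ArtinBasis57.mon (R := R ⧸ J) d := by
      refine Finset.sum_congr rfl (fun d _ => ?_)
      rw [map_mul, MvPolynomial.map_C, Groth.Agent.ArtinBasis57.mon,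
        Groth.Agent.ArtinBasis57.map_monOf]
      simp only [MvPolynomial.map_X]
    rw [h2] at h1
    have h3 := Groth.Agent.ArtinBasis57.indepE _ _ h1
    have h4 := congrFun h3 d
    exact Ideal.Quotient.eq_zero_iff_mem.mp h4
  · intro h
    refine Ideal.mem_sup_right (Ideal.sum_mem _ (fun d _ => ?_))
    exact Ideal.mul_mem_right _ _ (Ideal.mem_map_of_mem _ (h d))

end Groth.Agent.S16403
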