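import Groth.Statements.S16404
import Groth.Agent.Lib.ArtinBasis57
-- import your own Groth.Agent.* helpers here

set_option autoImplicit false
universe u
open SymBasis

namespace Groth.Agent.S16404

/-- Let R be a commutative ring and a_1, …, a_n ∈ R with n ≥ 2; write I for the ideal of R[t_1, …, t_n]
generated by the elements e_i(t) − a_i (e_i the i-th elementary symmetric polynomial), so that
R[t_1, …, t_n]/I is the base change R ⊗ ℤ[t_1, …, t_n] over ℤ[c_1, …, c_n] (c_i ↦ a_i on one side,
c_i ↦ e_i(t) on the other). For an ideal J of R, a polynomial x lies in I + J·R[t], i.e. its class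
lies in the extension of J to R[t]/I, if and only if x ≡ Σ_d j_d t^d mod I for some family (j_d) of
elements of J indexed by the exponent vectors d with 0 ≤ d_i ≤ n − i. With the companion uniqueness
statement this says the extension of J is the direct sum of the submodules t^d · J. The published
statement takes R positively graded over ℤ[c_1, …, c_n]; this row takes any commutative ring R with
chosen elements a_1, …, a_n. -/
theorem result {R : Type u} [CommRing R] (n : ℕ) (hn : 2 ≤ n)
    (a : Fin n → R) (J : Ideal R) (x : MvPolynomial (Fin n) R) :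
    x ∈ Ideal.span (Set.range fun i : Fin n => MvPolynomial.esymm (Fin n) R ((i : ℕ) + 1) - MvPolynomial.C (a i))
        ⊔ Ideal.map (MvPolynomial.C : R →+* MvPolynomial (Fin n) R) J
    ↔ ∃ j : (Π i : Fin n, Fin (n - (i : ℕ))) → R, (∀ d : (Π i : Fin n, Fin (n - (i : ℕ))), j d ∈ J) ∧
        x - (∑ d : (Π i : Fin n, Fin (n - (i : ℕ))), MvPolynomial.C (j d) * ∏ i : Fin n, MvPolynomial.X i ^ ((d i : ℕ)))
          ∈ Ideal.span (Set.range fun i : Fin n => MvPolynomial.esymm (Fin n) R ((i : ℕ) + 1) - MvPolynomial.C (a i)) := by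
  constructor
  · intro hx
    obtain ⟨i, hi, y, hy, rfl⟩ := Submodule.mem_sup.mp hx
    -- the key claim for elements of `map C J`
    have key : ∀ y ∈ Ideal.map (MvPolynomial.C : R →+* MvPolynomial (Fin n) R) J,
        ∀ p : MvPolynomial (Fin n) R, ∃ j : Groth.Agent.ArtinBasis57.DD n → R, (∀ d, j d ∈ J) ∧
          p * y - ∑ d, MvPolynomial.C (j d) * Groth.Agent.ArtinBasis57.mon (R := R) d ∈
            Groth.Agent.ArtinBasis57.IIe a := by
      intro y hy
      rw [Ideal.map] at hy
      induction hy using Submodule.span_induction with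
      | mem z hz =>
        obtain ⟨c, hc, rfl⟩ := hz
        intro p
        obtain ⟨r, hr⟩ := Groth.Agent.ArtinBasis57.spanE a p
        refine ⟨fun d => c * r d, fun d => J.mul_mem_right _ hc, ?_⟩
        have e : p * MvPolynomial.C c - ∑ d, MvPolynomial.C (c * r d) *
            Groth.Agent.ArtinBasis57.mon (R := R) d =
            MvPolynomial.C c * (p - ∑ d, MvPolynomial.C (r d) *
              Groth.Agent.ArtinBasis57.mon (R := R) d) := by
          rw [mul_sub, Finset.mul_sum, mul_comm p]
          congr 1
          refine Finset.sum_congr rfl (fun d _ => ?_)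
          rw [map_mul, mul_assoc]
        rw [e]
        exact Ideal.mul_mem_left _ _ hr
      | zero =>
        intro p
        refine ⟨0, fun d => J.zero_mem, ?_⟩
        simp
      | add y z _ _ ihy ihz =>
        intro p
        obtain ⟨j1, hj1, h1⟩ := ihy p
        obtain ⟨j2, hj2, h2⟩ := ihz p
        refine ⟨j1 + j2, fun d => J.add_mem (hj1 d) (hj2 d), ?_⟩
        have e : p * (y + z) - ∑ d, MvPolynomial.C ((j1 + j2) d) *
            Groth.Agent.ArtinBasis57.mon (R := R) d =
            (p * y - ∑ d, MvPolynomial.C (j1 d) * Groth.Agent.ArtinBasis57.mon (R := R) d) +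
            (p * z - ∑ d, MvPolynomial.C (j2 d) * Groth.Agent.ArtinBasis57.mon (R := R) d) := by
          simp only [Pi.add_apply, map_add, add_mul, Finset.sum_add_distrib]
          ring
        rw [e]
        exact Ideal.add_mem _ h1 h2
      | smul c y _ ihy =>
        intro p
        obtain ⟨j1, hj1, h1⟩ := ihy (p * c)
        refine ⟨j1, hj1, ?_⟩
        rw [smul_eq_mul, ← mul_assoc]
        exact h1
    obtain ⟨j, hj, h1⟩ := key y hy 1
    refine ⟨j, hj, ?_⟩
    rw [one_mul] at h1
    have e : i + y - ∑ d : (Π i : Fin n, Fin (n - (i : ℕ))), MvPolynomial.C (j d) *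
        ∏ i : Fin n, MvPolynomial.X i ^ ((d i : ℕ)) =
        i + (y - ∑ d, MvPolynomial.C (j d) * Groth.Agent.ArtinBasis57.mon (R := R) d) := by
      rw [add_sub_assoc]
      rfl
    rw [e]
    exact Ideal.add_mem _ hi h1
  · rintro ⟨j, hj, h⟩
    have e : x = (x - ∑ d : (Π i : Fin n, Fin (n - (i : ℕ))), MvPolynomial.C (j d) *
        ∏ i : Fin n, MvPolynomial.X i ^ ((d i : ℕ))) +
        ∑ d : (Π i : Fin n, Fin (n - (i : ℕ))), MvPolynomial.C (j d) *
        ∏ i : Fin n, MvPolynomial.X i ^ ((d i : ℕ)) := by ring
    rw [e]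
    refine Submodule.add_mem_sup h (Ideal.sum_mem _ (fun d _ => ?_))
    exact Ideal.mul_mem_right _ _ (Ideal.mem_map_of_mem _ (hj d))

end Groth.Agent.S16404
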