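import Groth.Statements.S16405
import Mathlib

set_option autoImplicit false
universe u v
open InvQ

namespace Groth.Agent.S16405

/-- In weight form. Let b : L → ℤ^r be an injective homomorphism of abelian groups (the case in view: L
the character group of a maximal torus T of a semisimple group over ℂ and b the map dual to the
surjection of the rank-r split torus T' onto T that sends the i-th coordinate cocharacter to the
primitive generator of the i-th ray of the Weyl chamber; only the injectivity of b is used, and ℂ is
replaced by any commutative ring k). Grade the monoid algebra k[L × ℕ^r] (the coordinate ring of T ×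
𝔸^r) by ℤ^r, the monomial (w, n) having weight b(w) + n (the weights of the T'-action u·(t, v) =
(b^∨(u) t, u v)), and grade k[ℕ^r] by ℤ^r/b(L), the monomial n having weight the class of n (the
weights of the action on 𝔸^r of the diagonalizable kernel Z of T' → T, a finite group in the case in
view). For a diagonalizable group acting on an affine scheme the ring of invariants is the
weight-zero part, so the two weight-zero parts are the coordinate rings of the quotients (T ×
𝔸^r)//T' and 𝔸^r//Z. The statement: the algebra map k[L × ℕ^r] → k[ℕ^r] induced by the projection L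
× ℕ^r → ℕ^r (restriction to the slice 1 × 𝔸^r) maps the weight-zero part of k[L × ℕ^r] bijectively
onto the weight-zero part of k[ℕ^r]; hence it induces an isomorphism of k-algebras between them. -/
theorem result
    (k : Type u) [CommRing k] (r : ℕ) (L : Type v) [AddCommGroup L]
    (b : L →+ (Fin r → ℤ)) (hb : Function.Injective b) :
    Set.BijOn
      (AddMonoidAlgebra.mapDomainAlgHom k k (AddMonoidHom.snd L (Fin r → ℕ)))
      (AddMonoidAlgebra.gradeBy k
        (b.comp (AddMonoidHom.fst L (Fin r → ℕ)) +
          (AddMonoidHom.compLeft (Nat.castAddMonoidHom ℤ) (Fin r)).comp (AddMonoidHom.snd L (Fin r → ℕ))) 0 :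
        Set (AddMonoidAlgebra k (L × (Fin r → ℕ))))
      (AddMonoidAlgebra.gradeBy k
        ((QuotientAddGroup.mk' b.range).comp (AddMonoidHom.compLeft (Nat.castAddMonoidHom ℤ) (Fin r))) 0 :
        Set (AddMonoidAlgebra k (Fin r → ℕ))) := by
  classical
  set w : L × (Fin r → ℕ) →+ (Fin r → ℤ) := b.comp (AddMonoidHom.fst L (Fin r → ℕ)) +
          (AddMonoidHom.compLeft (Nat.castAddMonoidHom ℤ) (Fin r)).comp (AddMonoidHom.snd L (Fin r → ℕ)) with hw
  set c : (Fin r → ℕ) →+ (Fin r → ℤ) := AddMonoidHom.compLeft (Nat.castAddMonoidHom ℤ) (Fin r) with hc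
  have hwapp : ∀ p : L × (Fin r → ℕ), w p = b p.1 + c p.2 := fun p => rfl
  have hmap : ∀ x : AddMonoidAlgebra k (L × (Fin r → ℕ)),
      (AddMonoidAlgebra.mapDomainAlgHom k k (AddMonoidHom.snd L (Fin r → ℕ)) x).coeff =
        Finsupp.mapDomain Prod.snd x.coeff := by
    intro x
    simp [AddMonoidAlgebra.mapDomainAlgHom, AddMonoidAlgebra.mapDomainRingHom]
  -- the set of weight-zero exponents
  let Z : Set (L × (Fin r → ℕ)) := {p | w p = 0}
  have hinj : Set.InjOn (Prod.snd : L × (Fin r → ℕ) → (Fin r → ℕ)) Z := by
    rintro ⟨l, n⟩ h1 ⟨l', n'⟩ h2 (h : n = n')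
    subst h
    have h1' : b l + c n = 0 := h1
    have h2' : b l' + c n = 0 := h2
    have : b l = b l' := by
      have := h1'.trans h2'.symm
      exact add_right_cancel this
    rw [hb this]
  refine ⟨?_, ?_, ?_⟩
  · -- maps to
    intro x hx
    rw [SetLike.mem_coe, AddMonoidAlgebra.mem_gradeBy_iff] at hx ⊢
    rw [hmap]
    intro n hn
    rw [Finset.mem_coe] at hn
    have := Finsupp.mapDomain_support hn
    rw [Finset.mem_image] at this
    obtain ⟨p, hp, rfl⟩ := this
    have hp0 : w p = 0 := hx (Finset.mem_coe.mpr hp)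
    rw [hwapp] at hp0
    change (QuotientAddGroup.mk' b.range) (c p.2) = 0
    rw [QuotientAddGroup.mk'_apply, QuotientAddGroup.eq_zero_iff]
    refine ⟨-p.1, ?_⟩
    rw [map_neg]
    exact neg_eq_of_add_eq_zero_right hp0
  · -- injective
    intro x hx y hy hxy
    rw [SetLike.mem_coe, AddMonoidAlgebra.mem_gradeBy_iff] at hx hy
    have h := congrArg AddMonoidAlgebra.coeff hxy
    rw [hmap, hmap] at h
    have := Finsupp.mapDomain_injOn (M := k) Z hinj hx hy h
    exact AddMonoidAlgebra.coeff_injective this
  · -- surjective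
    intro y hy
    rw [SetLike.mem_coe, AddMonoidAlgebra.mem_gradeBy_iff] at hy
    have hex : ∀ n : Fin r → ℕ, ∃ l : L, n ∈ y.coeff.support → b l + c n = 0 := by
      intro n
      by_cases hn : n ∈ y.coeff.support
      · have h0 : (QuotientAddGroup.mk' b.range) (c n) = 0 := hy (Finset.mem_coe.mpr hn)
        rw [QuotientAddGroup.mk'_apply, QuotientAddGroup.eq_zero_iff] at h0
        obtain ⟨l, hl⟩ := h0
        refine ⟨-l, fun _ => ?_⟩
        rw [map_neg, hl, neg_add_cancel]
      · exact ⟨0, fun h => absurd h hn⟩
    choose lf hlf using hex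
    let σ : (Fin r → ℕ) → L × (Fin r → ℕ) := fun n => (lf n, n)
    refine ⟨AddMonoidAlgebra.ofCoeff (Finsupp.mapDomain σ y.coeff), ?_, ?_⟩
    · rw [SetLike.mem_coe, AddMonoidAlgebra.mem_gradeBy_iff]
      intro p hp
      rw [Finset.mem_coe] at hp
      have := Finsupp.mapDomain_support hp
      rw [Finset.mem_image] at this
      obtain ⟨n, hn, rfl⟩ := this
      exact hlf n hn
    · apply AddMonoidAlgebra.coeff_injective
      rw [hmap]
      change Finsupp.mapDomain Prod.snd (Finsupp.mapDomain σ y.coeff) = y.coeff
      rw [← Finsupp.mapDomain_comp]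
      exact Finsupp.mapDomain_id


end Groth.Agent.S16405
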