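import Groth.Statements.S16414
import Mathlib.Tactic.Linarith
import Mathlib.Tactic.Ring
import Mathlib.Tactic.Push
import Mathlib.Tactic.NormNum

set_option autoImplicit false
open Dieud

namespace Groth.Agent.S16414

/-- Let μ be a rational number with 0 < μ ≤ 1 and i an integer, and put f(i,j) = max(−i−j, −j, 0) for
integers j. Then min over all integers j of f(i,j) + jμ exists and equals max(−iμ, 0). -/
theorem result (μ : ℚ) (hμ0 : 0 < μ) (hμ1 : μ ≤ 1) (i : ℤ) :
    IsLeast (Set.range fun j : ℤ => ((max (max (-i - j) (-j)) 0 : ℤ) : ℚ) + (j : ℚ) * μ)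
      (max (-(i : ℚ) * μ) 0) := by
  constructor
  · -- attained
    rcases le_or_gt 0 i with hi | hi
    · refine ⟨0, ?_⟩
      have h1 : max (max (-i - 0) (-(0:ℤ))) 0 = 0 := by
        rw [max_eq_right]; simp; omega
      have h2 : max (-(i : ℚ) * μ) 0 = 0 := by
        apply max_eq_right
        have : (0:ℚ) ≤ (i:ℚ) := by exact_mod_cast hi
        nlinarith
      simp only [h1, h2]; simp
    · refine ⟨-i, ?_⟩
      have h1 : max (max (-i - -i) (-(-i))) 0 = 0 := by
        rw [max_eq_right]; simp; omega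
      have h2 : max (-(i : ℚ) * μ) 0 = -(i:ℚ) * μ := by
        apply max_eq_left
        have : (i:ℚ) < 0 := by exact_mod_cast hi
        nlinarith
      simp only [h1, h2]; push_cast; ring
  · rintro _ ⟨j, rfl⟩
    simp only
    set f : ℤ := max (max (-i - j) (-j)) 0 with hf
    have hf0 : (0:ℤ) ≤ f := le_max_right _ _
    have hf1 : -j ≤ f := le_trans (le_max_right _ _) (le_max_left _ _)
    have hf2 : -i - j ≤ f := le_trans (le_max_left _ _) (le_max_left _ _)
    have hf0' : (0:ℚ) ≤ (f:ℚ) := by exact_mod_cast hf0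
    have hf1' : -(j:ℚ) ≤ (f:ℚ) := by exact_mod_cast hf1
    have hf2' : -(i:ℚ) - (j:ℚ) ≤ (f:ℚ) := by exact_mod_cast hf2
    apply max_le
    · -- f ≥ -(i+j) μ
      rcases le_or_gt 0 ((i:ℚ) + j) with h | h
      · nlinarith
      · nlinarith
    · rcases le_or_gt 0 (j:ℚ) with h | h
      · nlinarith
      · nlinarith

end Groth.Agent.S16414
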