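import Groth.Statements.S16415
import Mathlib.Tactic.Linarith
import Mathlib.Tactic.Ring
import Mathlib.Tactic.Push
import Mathlib.Tactic.NormNum
import Mathlib.Algebra.Order.Floor.Ring

set_option autoImplicit false
open Dieud

namespace Groth.Agent.S16415

/-- Let μ be a rational number with 0 < μ ≤ 1, N a natural number and i an integer. The minimum of m +
jμ over all pairs of integers (m, j) with m ≥ max(−i−j, −j, 0) and 2m + i + 2j ≥ N exists and equals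
μ · max(⌈(N−i)/2⌉, −i, 0). (The published statement prints the value as max(⌈(N−i)/2⌉, −iμ, 0),
without the factor μ on the first term; the printed argument computes μ · max(⌈(N−i)/2⌉, −i, 0),
attained at m = 0, and for N = 2, i = 0, μ = 1/2 the pair (m, j) = (0, 1) gives 1/2 < 1, so the
value with the factor μ is stated here.) -/
theorem result (μ : ℚ) (hμ0 : 0 < μ) (hμ1 : μ ≤ 1)
    (N : ℕ) (i : ℤ) :
    IsLeast {x : ℚ | ∃ m j : ℤ, max (max (-i - j) (-j)) 0 ≤ m ∧ (N : ℤ) ≤ 2 * m + i + 2 * j ∧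
        x = (m : ℚ) + (j : ℚ) * μ}
      (((max (max ⌈((N : ℚ) - i) / 2⌉ (-i)) 0 : ℤ) : ℚ) * μ) := by
  set K : ℤ := max (max ⌈((N : ℚ) - i) / 2⌉ (-i)) 0 with hK
  have hK0 : (0:ℤ) ≤ K := le_max_right _ _
  have hK1 : -i ≤ K := le_trans (le_max_right _ _) (le_max_left _ _)
  have hK2 : ⌈((N : ℚ) - i) / 2⌉ ≤ K := le_trans (le_max_left _ _) (le_max_left _ _)
  constructor
  · refine ⟨0, K, ?_, ?_, by simp⟩
    · apply max_le (max_le ?_ ?_) le_rfl <;> omega
    · have h1 : ((N : ℚ) - i) / 2 ≤ (K : ℚ) := by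
        have := Int.le_ceil (((N : ℚ) - i) / 2)
        have h3 : ((⌈((N : ℚ) - i) / 2⌉ : ℤ) : ℚ) ≤ (K : ℚ) := by exact_mod_cast hK2
        linarith
      have h2 : ((N : ℤ) : ℚ) ≤ ((2 * 0 + i + 2 * K : ℤ) : ℚ) := by
        push_cast; linarith
      exact_mod_cast h2
  · rintro _ ⟨m, j, hm, hN, rfl⟩
    have hf0 : (0:ℤ) ≤ m := le_trans (le_max_right _ _) hm
    have hf1 : -j ≤ m := le_trans (le_trans (le_max_right _ _) (le_max_left _ _)) hm
    have hf2 : -i - j ≤ m := le_trans (le_trans (le_max_left _ _) (le_max_left _ _)) hm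
    have hf0' : (0:ℚ) ≤ (m:ℚ) := by exact_mod_cast hf0
    have hf1' : -(j:ℚ) ≤ (m:ℚ) := by exact_mod_cast hf1
    have hf2' : -(i:ℚ) - (j:ℚ) ≤ (m:ℚ) := by exact_mod_cast hf2
    -- three lower bounds
    have b0 : (0:ℚ) ≤ (m:ℚ) + (j:ℚ) * μ := by
      rcases le_or_gt 0 (j:ℚ) with h | h
      · nlinarith
      · nlinarith
    have b1 : -(i:ℚ) * μ ≤ (m:ℚ) + (j:ℚ) * μ := by
      rcases le_or_gt 0 ((i:ℚ) + j) with h | h
      · nlinarith
      · nlinarith
    have b2 : ((⌈((N : ℚ) - i) / 2⌉ : ℤ) : ℚ) * μ ≤ (m:ℚ) + (j:ℚ) * μ := by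
      have hc : ⌈((N : ℚ) - i) / 2⌉ ≤ m + j := by
        apply Int.ceil_le.2
        have : ((N:ℤ):ℚ) ≤ ((2 * m + i + 2 * j : ℤ) : ℚ) := by exact_mod_cast hN
        push_cast at this ⊢
        linarith
      have hc' : ((⌈((N : ℚ) - i) / 2⌉ : ℤ) : ℚ) ≤ (m:ℚ) + (j:ℚ) := by exact_mod_cast hc
      nlinarith
    -- combine
    rcases max_cases (max ⌈((N : ℚ) - i) / 2⌉ (-i)) 0 with ⟨h, _⟩ | ⟨h, _⟩
    · rcases max_cases ⌈((N : ℚ) - i) / 2⌉ (-i) with ⟨h', _⟩ | ⟨h', _⟩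
      · rw [hK, h, h']; exact b2
      · rw [hK, h, h']; push_cast; exact b1
    · rw [hK, h]; simpa using b0

end Groth.Agent.S16415
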