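import Groth.Statements.S16418
import Mathlib.RingTheory.WittVector.DiscreteValuationRing
import Mathlib.RingTheory.Noetherian.Basic
import Mathlib.Algebra.Group.Hom.Defs

set_option autoImplicit false
universe u v
open Dieud

namespace Groth.Agent.S16418

/-- Step of the proof: for a prime p and a perfect field k of characteristic p, write W = W(k) and σ for
its Frobenius; let M be a W-module with additive maps F (σ-semilinear) and V (with V(σ(a)m) = aV(m))
such that FV = VF = p, V is injective, ⋂_n V^n M = 0 and M/VM is finitely generated over W. Put M₁ =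
{x ∈ M : for every n there is m with V^m x ∈ F^n M} and M₂ = {x ∈ M : F^n x = 0 for some n}. Then M₂
is killed by a single power of F, and F is injective on M₁. (The published text makes these
assertions inside a proof, for the V-reduced Cartier module of a connected smooth formal group of
finite dimension over k; only the listed structure is used, and V-adic completeness is not needed.) -/
theorem result
    (p : ℕ) [Fact p.Prime] (k : Type u) [Field k] [CharP k p] [PerfectRing k p]
    (M : Type v) [AddCommGroup M] [Module (WittVector p k) M]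
    (F V : M →+ M)
    (hF : ∀ (a : WittVector p k) (m : M), F (a • m) = WittVector.frobenius a • F m)
    (hV : ∀ (a : WittVector p k) (m : M), V (WittVector.frobenius a • m) = a • V m)
    (hFV : ∀ m : M, F (V m) = (p : WittVector p k) • m)
    (hVF : ∀ m : M, V (F m) = (p : WittVector p k) • m)
    (hVinj : Function.Injective V)
    (hsep : ∀ x : M, (∀ n : ℕ, ∃ y : M, x = (⇑V)^[n] y) → x = 0)
    (hfin : Module.Finite (WittVector p k) (M ⧸ Submodule.span (WittVector p k) (Set.range V))) :
    (∃ c : ℕ, ∀ x : M, (∃ n : ℕ, (⇑F)^[n] x = 0) → (⇑F)^[c] x = 0) ∧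
    (∀ x : M, (∀ n : ℕ, ∃ (m : ℕ) (y : M), (⇑V)^[m] x = (⇑F)^[n] y) → F x = 0 → x = 0) := by
  classical
  have hsurj : Function.Surjective (WittVector.frobenius : WittVector p k → WittVector p k) :=
    (WittVector.frobenius_bijective p k).surjective
  have hcomm : Function.Commute (⇑F) (⇑V) := fun x => by rw [hFV, hVF]
  have hFit : ∀ (c : ℕ) (a : WittVector p k) (m : M),
      (⇑F)^[c] (a • m) = (⇑(WittVector.frobenius : WittVector p k →+* WittVector p k))^[c] a •
        (⇑F)^[c] m := by
    intro c
    induction c with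
    | zero => intro a m; rfl
    | succ c ih =>
      intro a m
      rw [Function.iterate_succ_apply', Function.iterate_succ_apply', Function.iterate_succ_apply',
        ih, hF]
  have hVinjit : ∀ m : ℕ, Function.Injective ((⇑V)^[m]) := fun m => hVinj.iterate m
  -- kernels of the powers of F
  let K : ℕ → Submodule (WittVector p k) M := fun c =>
    { carrier := {x | (⇑F)^[c] x = 0}
      add_mem' := by
        intro x y hx hy
        simp only [Set.mem_ofPred_eq] at hx hy ⊢
        rw [iterate_map_add, hx, hy, add_zero]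
      zero_mem' := by
        simp only [Set.mem_ofPred_eq]
        exact iterate_map_zero F c
      smul_mem' := by
        intro a x hx
        simp only [Set.mem_ofPred_eq] at hx ⊢
        rw [hFit, hx, smul_zero] }
  have hKmem : ∀ c x, x ∈ K c ↔ (⇑F)^[c] x = 0 := fun c x => Iff.rfl
  have hKmono : ∀ {c c' : ℕ}, c ≤ c' → K c ≤ K c' := by
    intro c c' hcc x hx
    rw [hKmem] at hx ⊢
    obtain ⟨d, rfl⟩ := Nat.exists_eq_add_of_le hcc
    rw [add_comm, Function.iterate_add_apply, hx]
    exact iterate_map_zero F d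
  -- elements of the span of the range of V are in the range of V
  have hspan : ∀ x ∈ Submodule.span (WittVector p k) (Set.range V), ∃ y, x = V y := by
    intro x hx
    refine Submodule.span_induction ?_ ?_ ?_ ?_ hx
    · rintro _ ⟨y, rfl⟩
      exact ⟨y, rfl⟩
    · exact ⟨0, (map_zero V).symm⟩
    · rintro _ _ _ _ ⟨y₁, rfl⟩ ⟨y₂, rfl⟩
      exact ⟨y₁ + y₂, (map_add V y₁ y₂).symm⟩
    · rintro a _ _ ⟨y, rfl⟩
      obtain ⟨b, rfl⟩ := hsurj a
      refine ⟨WittVector.frobenius (WittVector.frobenius b) • y, ?_⟩
      rw [hV]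
  haveI : IsNoetherian (WittVector p k)
      (M ⧸ Submodule.span (WittVector p k) (Set.range V)) :=
    isNoetherian_of_isNoetherianRing_of_finite _ _
  let N := Submodule.span (WittVector p k) (Set.range V)
  let f : ℕ →o Submodule (WittVector p k) (M ⧸ N) :=
    ⟨fun c => (K c).map N.mkQ, fun c c' hcc => Submodule.map_mono (hKmono hcc)⟩
  obtain ⟨c, hc⟩ := monotone_stabilizes_iff_noetherian.2 inferInstance f
  -- decomposition
  have hdecomp : ∀ n, c ≤ n → ∀ x ∈ K n, ∃ x' ∈ K c, ∃ y ∈ K n, x = x' + V y := by
    intro n hn x hx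
    have h1 : N.mkQ x ∈ (K n).map N.mkQ := Submodule.mem_map_of_mem hx
    have h2 : N.mkQ x ∈ (K c).map N.mkQ := by
      have := hc n hn
      simp only [f, OrderHom.coe_mk] at this
      rw [this]; exact h1
    obtain ⟨x', hx', hxx'⟩ := h2
    have h3 : x - x' ∈ N := by
      rw [← Submodule.Quotient.mk_eq_zero, Submodule.Quotient.mk_sub]
      rw [Submodule.mkQ_apply, Submodule.mkQ_apply] at hxx'
      rw [hxx', sub_self]
    obtain ⟨y, hy⟩ := hspan _ h3
    refine ⟨x', hx', y, ?_, ?_⟩
    · have h4 : x - x' ∈ K n := Submodule.sub_mem _ hx (hKmono hn hx')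
      rw [hy, hKmem, (hcomm.iterate_left n) y] at h4
      rw [hKmem]
      exact hVinj (h4.trans (map_zero V).symm)
    · rw [← hy]; abel
  have hdiv : ∀ n, c ≤ n → ∀ j : ℕ, ∀ x ∈ K n, ∃ z, (⇑F)^[c] x = (⇑V)^[j] z := by
    intro n hn j
    induction j with
    | zero => intro x _; exact ⟨(⇑F)^[c] x, rfl⟩
    | succ j ih =>
      intro x hx
      obtain ⟨x', hx', y, hy, rfl⟩ := hdecomp n hn x hx
      obtain ⟨z, hz⟩ := ih y hy
      refine ⟨z, ?_⟩
      rw [iterate_map_add, (hKmem c x').1 hx', zero_add, (hcomm.iterate_left c) y, hz,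
        Function.iterate_succ_apply']
  have hpart1 : ∀ x : M, (∃ n : ℕ, (⇑F)^[n] x = 0) → (⇑F)^[c] x = 0 := by
    rintro x ⟨n, hn⟩
    have hx : x ∈ K (max n c) := hKmono (le_max_left n c) ((hKmem n x).2 hn)
    apply hsep
    intro j
    exact hdiv (max n c) (le_max_right n c) j x hx
  refine ⟨⟨c, hpart1⟩, ?_⟩
  intro x hx hFx
  obtain ⟨m, y, hmy⟩ := hx c
  have h1 : (⇑F)^[c + 1] y = 0 := by
    rw [Function.iterate_succ_apply', ← hmy]
    have := (hcomm.iterate_right m) x
    rw [this, hFx]
    exact iterate_map_zero V m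
  have h2 := hpart1 y ⟨c + 1, h1⟩
  rw [h2] at hmy
  exact hVinjit m (hmy.trans (iterate_map_zero V m).symm)

end Groth.Agent.S16418
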