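import Groth.Statements.S16419
import Groth.Agent.Lib.SqZeroLift35

set_option autoImplicit false
universe u v
open CAlg

namespace Groth.Agent.S16419

open Groth.Agent.Lib.SqZeroLift35

section helper

open TensorProduct

variable {R : Type u} [CommRing R] {H₁ H H₂ : Type v}
  [AddCommGroup H₁] [Module R H₁] [AddCommGroup H] [Module R H] [AddCommGroup H₂] [Module R H₂]
  {f : H₁ →ₗ[R] H} {g : H →ₗ[R] H₂}

lemma main (hf : Function.Injective f) (hg : Function.Surjective g) (hfg : Function.Exact f g)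
    [Module.Projective R H₂]
    (F₁ : Submodule R H₁) (F₂ : Submodule R H₂)
    [Module.Projective R (H₁ ⧸ F₁)] [Module.Projective R (H₂ ⧸ F₂)]
    (𝔫 : Ideal R)
    (Fb : Submodule (R ⧸ 𝔫) ((R ⧸ 𝔫) ⊗[R] H))
    (h1 : Fb ⊓ LinearMap.range (f.baseChange (R ⧸ 𝔫)) =
      Submodule.map (f.baseChange (R ⧸ 𝔫)) (F₁.baseChange (R ⧸ 𝔫)))
    (h2 : Submodule.map (g.baseChange (R ⧸ 𝔫)) Fb = F₂.baseChange (R ⧸ 𝔫)) :
    ∃ F : Submodule R H, (∃ C : Submodule R H, IsCompl F C) ∧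
      F ⊓ LinearMap.range f = Submodule.map f F₁ ∧
      F.baseChange (R ⧸ 𝔫) = Fb ∧ Submodule.map g F = F₂ := by
  have hgf : ∀ h, g (f h) = 0 := hfg.apply_apply_eq_zero
  obtain ⟨ρ, s, hρ, hs, hsplit⟩ := exists_splitting f g hf hg hfg
  obtain ⟨e₁, he₁1, he₁2⟩ := exists_retraction F₁
  obtain ⟨e, he1, he2⟩ := exists_retraction F₂
  let r : H₂ →ₗ[R] F₂ := e.codRestrict F₂ he1
  have hr : ∀ (y : H₂) (hy : y ∈ F₂), r y = ⟨y, hy⟩ := fun y hy => Subtype.ext (he2 y hy)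
  haveI : Module.Projective R F₂ :=
    Module.Projective.of_split F₂.subtype r (LinearMap.ext fun y => hr y.1 y.2)
  -- elements of `H` over `F₂` whose reduction lies in `Fb`
  let Q : Submodule R H :=
    { carrier := {x | g x ∈ F₂ ∧ (1 : R ⧸ 𝔫) ⊗ₜ[R] x ∈ Fb}
      add_mem' := by
        rintro a b ⟨ha1, ha2⟩ ⟨hb1, hb2⟩
        refine ⟨?_, ?_⟩
        · change g (a + b) ∈ F₂
          rw [map_add]; exact add_mem ha1 hb1
        · change (1 : R ⧸ 𝔫) ⊗ₜ[R] (a + b) ∈ Fb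
          rw [tmul_add]; exact add_mem ha2 hb2
      zero_mem' := ⟨by change g 0 ∈ F₂; rw [map_zero]; exact zero_mem _,
        by change (1 : R ⧸ 𝔫) ⊗ₜ[R] (0 : H) ∈ Fb; rw [tmul_zero]; exact zero_mem _⟩
      smul_mem' := by
        rintro k a ⟨ha1, ha2⟩
        refine ⟨?_, ?_⟩
        · change g (k • a) ∈ F₂
          rw [map_smul]; exact Submodule.smul_mem _ _ ha1
        · change (1 : R ⧸ 𝔫) ⊗ₜ[R] (k • a) ∈ Fb
          have : (1 : R ⧸ 𝔫) ⊗ₜ[R] (k • a) = (Ideal.Quotient.mk 𝔫 k) • ((1 : R ⧸ 𝔫) ⊗ₜ[R] a) := by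
            rw [TensorProduct.smul_tmul', ← TensorProduct.smul_tmul]
            congr 1
          rw [this]
          exact Submodule.smul_mem _ _ ha2 }
  let π : Q →ₗ[R] F₂ := (g ∘ₗ Q.subtype).codRestrict F₂ (fun x => x.2.1)
  have hπ : Function.Surjective π := by
    rintro ⟨y, hy⟩
    have hy' : (1 : R ⧸ 𝔫) ⊗ₜ[R] y ∈ Submodule.map (g.baseChange (R ⧸ 𝔫)) Fb := by
      rw [h2]; exact Submodule.tmul_mem_baseChange_of_mem _ hy
    obtain ⟨b, hb, hgb⟩ := hy'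
    obtain ⟨x₀, rfl⟩ := exists_one_tmul 𝔫 b
    rw [LinearMap.baseChange_tmul] at hgb
    have h0 : (1 : R ⧸ 𝔫) ⊗ₜ[R] (g x₀ - y) = 0 := by rw [tmul_sub, hgb, sub_self]
    rw [one_tmul_eq_zero_iff] at h0
    have h3 : g x₀ - y ∈ Submodule.map g (𝔫 • (⊤ : Submodule R H)) := by
      rw [Submodule.map_smul'', Submodule.map_top, LinearMap.range_eq_top.2 hg]
      exact h0
    obtain ⟨n, hn, hgn⟩ := h3
    have hn0 : (1 : R ⧸ 𝔫) ⊗ₜ[R] n = 0 := (one_tmul_eq_zero_iff 𝔫 n).2 hn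
    have hgx : g (x₀ - n) = y := by rw [map_sub, hgn]; abel
    refine ⟨⟨x₀ - n, ?_, ?_⟩, Subtype.ext hgx⟩
    · change g (x₀ - n) ∈ F₂
      rw [hgx]; exact hy
    · change (1 : R ⧸ 𝔫) ⊗ₜ[R] (x₀ - n) ∈ Fb
      rw [tmul_sub, hn0, sub_zero]; exact hb
  obtain ⟨σ, hσ⟩ := Module.projective_lifting_property π LinearMap.id hπ
  have hσ' : ∀ z : F₂, g (σ z).1 = z.1 := fun z =>
    congrArg Subtype.val (congrArg (fun φ => φ z) hσ)
  have hσb : ∀ z : F₂, (1 : R ⧸ 𝔫) ⊗ₜ[R] (σ z).1 ∈ Fb := fun z => (σ z).2.2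
  let t : F₂ →ₗ[R] H := Q.subtype ∘ₗ σ
  have ht : ∀ z : F₂, g (t z) = z.1 := hσ'
  have htb : ∀ z : F₂, (1 : R ⧸ 𝔫) ⊗ₜ[R] (t z) ∈ Fb := hσb
  let F : Submodule R H := Submodule.map f F₁ ⊔ LinearMap.range t
  have hF_mem : ∀ x, x ∈ F ↔ ∃ a ∈ F₁, ∃ z : F₂, x = f a + t z := by
    intro x
    constructor
    · intro hx
      obtain ⟨x₁, ⟨a, ha, rfl⟩, x₂, ⟨z, rfl⟩, rfl⟩ := Submodule.mem_sup.1 hx
      exact ⟨a, ha, z, rfl⟩
    · rintro ⟨a, ha, z, rfl⟩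
      exact Submodule.add_mem_sup (Submodule.mem_map_of_mem ha) ⟨z, rfl⟩
  refine ⟨F, ?_, ?_, ?_, ?_⟩
  · -- complement via a projection
    let p : H →ₗ[R] H := f ∘ₗ e₁ ∘ₗ ρ ∘ₗ (LinearMap.id - t ∘ₗ r ∘ₗ g) + t ∘ₗ r ∘ₗ g
    have hp : ∀ x, p x = f (e₁ (ρ (x - t (r (g x))))) + t (r (g x)) := fun x => rfl
    have hpF : ∀ x, p x ∈ F := fun x => by
      rw [hp, hF_mem]
      exact ⟨_, he₁1 _, _, rfl⟩
    have hpid : ∀ x ∈ F, p x = x := by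
      intro x hx
      obtain ⟨a, ha, z, rfl⟩ := (hF_mem x).1 hx
      have h3 : g (f a + t z) = z.1 := by rw [map_add, hgf, zero_add, ht]
      have h4 : r (g (f a + t z)) = z := by rw [h3, hr z.1 z.2]
      rw [hp, h4]
      have : f a + t z - t z = f a := by abel
      rw [this, hρ, he₁2 a ha]
    let p' : H →ₗ[R] F := p.codRestrict F hpF
    exact ⟨LinearMap.ker p', LinearMap.isCompl_of_proj (f := p')
      (fun x => Subtype.ext (hpid x.1 x.2))⟩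
  · ext x
    constructor
    · rintro ⟨hxF, ⟨h, rfl⟩⟩
      obtain ⟨a, ha, z, hx⟩ := (hF_mem _).1 hxF
      have h3 : z.1 = 0 := by
        have := congrArg g hx
        rw [hgf, map_add, hgf, zero_add, ht] at this
        exact this.symm
      have h4 : z = 0 := Subtype.ext h3
      rw [h4, map_zero, add_zero] at hx
      rw [hx]
      exact Submodule.mem_map_of_mem ha
    · rintro ⟨a, ha, rfl⟩
      exact ⟨(hF_mem _).2 ⟨a, ha, 0, by rw [map_zero, add_zero]⟩, ⟨a, rfl⟩⟩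
  · apply le_antisymm
    · intro b hb
      obtain ⟨x, hx, rfl⟩ := (mem_baseChange_iff 𝔫 F b).1 hb
      obtain ⟨a, ha, z, rfl⟩ := (hF_mem x).1 hx
      rw [tmul_add]
      refine add_mem ?_ (htb z)
      have h3 : (1 : R ⧸ 𝔫) ⊗ₜ[R] f a ∈
          Submodule.map (f.baseChange (R ⧸ 𝔫)) (F₁.baseChange (R ⧸ 𝔫)) :=
        ⟨(1 : R ⧸ 𝔫) ⊗ₜ[R] a, Submodule.tmul_mem_baseChange_of_mem _ ha,
          LinearMap.baseChange_tmul _ _ _⟩
      rw [← h1] at h3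
      exact h3.1
    · intro b hb
      have h3 : g.baseChange (R ⧸ 𝔫) b ∈ F₂.baseChange (R ⧸ 𝔫) := by
        rw [← h2]; exact Submodule.mem_map_of_mem hb
      obtain ⟨y, hy, hgb⟩ := (mem_baseChange_iff 𝔫 F₂ _).1 h3
      obtain ⟨x', hx'⟩ := exists_one_tmul 𝔫 (b - (1 : R ⧸ 𝔫) ⊗ₜ[R] t ⟨y, hy⟩)
      have hb' : (1 : R ⧸ 𝔫) ⊗ₜ[R] x' ∈ Fb := by
        rw [← hx']; exact sub_mem hb (htb _)
      have h4 : (1 : R ⧸ 𝔫) ⊗ₜ[R] g x' = 0 := by
        rw [← LinearMap.baseChange_tmul, ← hx', map_sub, hgb, LinearMap.baseChange_tmul, ht,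
          sub_self]
      rw [one_tmul_eq_zero_iff] at h4
      have h5 : g x' ∈ Submodule.map g (𝔫 • (⊤ : Submodule R H)) := by
        rw [Submodule.map_smul'', Submodule.map_top, LinearMap.range_eq_top.2 hg]
        exact h4
      obtain ⟨n, hn, hgn⟩ := h5
      have hn0 : (1 : R ⧸ 𝔫) ⊗ₜ[R] n = 0 := (one_tmul_eq_zero_iff 𝔫 n).2 hn
      have h6 : g (x' - n) = 0 := by rw [map_sub, hgn, sub_self]
      obtain ⟨h, hh⟩ := (hfg _).1 h6
      have h7 : (1 : R ⧸ 𝔫) ⊗ₜ[R] x' = f.baseChange (R ⧸ 𝔫) ((1 : R ⧸ 𝔫) ⊗ₜ[R] h) := by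
        rw [LinearMap.baseChange_tmul, hh, tmul_sub, hn0, sub_zero]
      have h8 : (1 : R ⧸ 𝔫) ⊗ₜ[R] x' ∈ Fb ⊓ LinearMap.range (f.baseChange (R ⧸ 𝔫)) :=
        ⟨hb', ⟨_, h7.symm⟩⟩
      rw [h1] at h8
      obtain ⟨c, hc, hfc⟩ := h8
      obtain ⟨a, ha, rfl⟩ := (mem_baseChange_iff 𝔫 F₁ c).1 hc
      rw [LinearMap.baseChange_tmul] at hfc
      have h9 : b = (1 : R ⧸ 𝔫) ⊗ₜ[R] (f a + t ⟨y, hy⟩) := by
        rw [tmul_add, hfc, ← hx']; abel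
      rw [h9]
      exact Submodule.tmul_mem_baseChange_of_mem _ ((hF_mem _).2 ⟨a, ha, _, rfl⟩)
  · apply le_antisymm
    · rintro _ ⟨x, hx, rfl⟩
      obtain ⟨a, ha, z, rfl⟩ := (hF_mem x).1 hx
      rw [map_add, hgf, zero_add, ht]
      exact z.2
    · intro y hy
      exact ⟨t ⟨y, hy⟩, (hF_mem _).2 ⟨0, zero_mem _, _, by rw [map_zero, zero_add]⟩, ht _⟩

end helper

open TensorProduct in
/-- For a commutative local Artinian ring R and an exact sequence 0 → H₁ → H → H₂ → 0 of finite free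
R-modules, let F₁ ⊆ H₁ and F₂ ⊆ H₂ be submodules with H₁/F₁ and H₂/F₂ free; let 𝔫 be an ideal of R
of square zero, R̄ = R/𝔫, and F̄ an R̄-submodule of H̄ = R̄ ⊗ H with free quotient such that F̄
meets the image of R̄ ⊗ H₁ in the image of R̄ ⊗ F₁ and the image of F̄ in R̄ ⊗ H₂ is the image of R̄
⊗ F₂. Then there is a direct summand F of H with F ∩ H₁ = F₁, whose image in H̄ is F̄ and whose
image in H₂ is F₂. -/
theorem result
    (R : Type u) [CommRing R] [IsArtinianRing R] [IsLocalRing R]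
    (H₁ : Type v) (H : Type v) (H₂ : Type v)
    [AddCommGroup H₁] [Module R H₁] [AddCommGroup H] [Module R H] [AddCommGroup H₂] [Module R H₂]
    [Module.Free R H₁] [Module.Finite R H₁] [Module.Free R H] [Module.Finite R H]
    [Module.Free R H₂] [Module.Finite R H₂]
    (f : H₁ →ₗ[R] H) (g : H →ₗ[R] H₂) (hf : Function.Injective f) (hg : Function.Surjective g)
    (hfg : Function.Exact f g)
    (F₁ : Submodule R H₁) (F₂ : Submodule R H₂) [Module.Free R (H₁ ⧸ F₁)] [Module.Free R (H₂ ⧸ F₂)]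
    (𝔫 : Ideal R) (hn : 𝔫 * 𝔫 = ⊥)
    (Fb : Submodule (R ⧸ 𝔫) ((R ⧸ 𝔫) ⊗[R] H))
    [Module.Free (R ⧸ 𝔫) (((R ⧸ 𝔫) ⊗[R] H) ⧸ Fb)]
    (h1 : Fb ⊓ LinearMap.range (f.baseChange (R ⧸ 𝔫)) =
      Submodule.map (f.baseChange (R ⧸ 𝔫)) (F₁.baseChange (R ⧸ 𝔫)))
    (h2 : Submodule.map (g.baseChange (R ⧸ 𝔫)) Fb = F₂.baseChange (R ⧸ 𝔫)) :
    ∃ F : Submodule R H, (∃ C : Submodule R H, IsCompl F C) ∧
      F ⊓ LinearMap.range f = Submodule.map f F₁ ∧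
      F.baseChange (R ⧸ 𝔫) = Fb ∧ Submodule.map g F = F₂ := by
  exact main hf hg hfg F₁ F₂ 𝔫 Fb h1 h2

end Groth.Agent.S16419
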