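import Groth.Statements.S1642
import Groth.Agent.Lib.H4Regularity
import Groth.Agent.S0022
import Groth.Agent.Lib.CohFinAmple
import Groth.Agent.Lib.H4ProjSpaceCoh
import Groth.Agent.Lib.H90Invertible
-- import your own Groth.Agent.* helpers here

set_option autoImplicit false
universe u
open CategoryTheory CategoryTheory.Limits AlgebraicGeometry
open Variety

namespace Groth.Agent.S1642

/-- A coherent module on P^n_k which is m-regular in the sense of Castelnuovo–Mumford is also (m +
1)-regular. -/
theorem result (k : Type u) [Field k] (n : ℕ) (F : (CohB1.ProjSpace n k).Modules) (hF : Coh.IsCoh F) (m : ℤ)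
    (h : Curv2.IsMRegular k n F m) : Curv2.IsMRegular k n F (m + 1) := by
  have := hF.1
  have hq : ∀ d : ℤ, Coh.IsQCoh (CohB1.tensorMod F (Twist.twistProjSpace n k d)) := fun d =>
    (Groth.Agent.Lib.CohFinAmple.isCoh_tensorMod hF
      (Groth.Agent.Lib.H90Invertible.isCoh_of_isInvertible
        (Groth.Agent.Lib.H4Twist.isInvertible_twistProjSpace n k d))).1
  have hall : ∀ i : ℕ, 1 ≤ i → Subsingleton (Coh.HH (CohB1.ProjSpace n k)
      (CohB1.tensorMod F (Twist.twistProjSpace n k (m - i))) i) := by
    intro i hi
    by_cases hin : i ≤ n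
    · exact h i hi hin
    · have := hq (m - i)
      exact Groth.Agent.S0022.result n k _ i (by omega)
  intro i hi _
  exact Groth.Agent.Lib.H4Regularity.regular_succ n k F m hall i hi

end Groth.Agent.S1642
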