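import Groth.Statements.S16420
import Groth.Agent.Lib.SqZeroLift35

set_option autoImplicit false
universe u v
open CAlg

namespace Groth.Agent.S16420

open Groth.Agent.Lib.SqZeroLift35

section helpers

variable {R : Type u} [CommRing R] {H₁ H H₂ : Type v}
  [AddCommGroup H₁] [Module R H₁] [AddCommGroup H] [Module R H] [AddCommGroup H₂] [Module R H₂]
  (f : H₁ →ₗ[R] H) (g : H →ₗ[R] H₂)

/-- The unipotent automorphism `x ↦ x + f (u (g x))`. -/
def phi (u : H₂ →ₗ[R] H₁) : H →ₗ[R] H := LinearMap.id + f ∘ₗ u ∘ₗ g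

lemma phi_apply (u : H₂ →ₗ[R] H₁) (x : H) : phi f g u x = x + f (u (g x)) := rfl

variable {f g}

lemma g_phi (hgf : ∀ h, g (f h) = 0) (u : H₂ →ₗ[R] H₁) (x : H) : g (phi f g u x) = g x := by
  rw [phi_apply, map_add, hgf, add_zero]

lemma phi_neg_phi (hgf : ∀ h, g (f h) = 0) (u : H₂ →ₗ[R] H₁) (x : H) :
    phi f g (-u) (phi f g u x) = x := by
  rw [phi_apply, g_phi hgf, phi_apply, LinearMap.neg_apply, map_neg]
  abel

/-- `phi` as a linear equivalence. -/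
def phiEquiv (hgf : ∀ h, g (f h) = 0) (u : H₂ →ₗ[R] H₁) : H ≃ₗ[R] H :=
  LinearEquiv.ofLinear (phi f g u) (phi f g (-u))
    (LinearMap.ext fun x => by
      have := phi_neg_phi hgf (-u) x
      rw [neg_neg] at this
      exact this)
    (LinearMap.ext fun x => phi_neg_phi hgf u x)

lemma isCompl_map_phi (hgf : ∀ h, g (f h) = 0) (u : H₂ →ₗ[R] H₁) {F C : Submodule R H}
    (hFC : IsCompl F C) : IsCompl (F.map (phi f g u)) (C.map (phi f g u)) :=
  (Submodule.orderIsoMapComap (phiEquiv hgf u)).isCompl hFC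

end helpers

section parts

open TensorProduct

variable {R : Type u} [CommRing R] {H₁ H H₂ : Type v}
  [AddCommGroup H₁] [Module R H₁] [AddCommGroup H] [Module R H] [AddCommGroup H₂] [Module R H₂]
  {f : H₁ →ₗ[R] H} {g : H →ₗ[R] H₂}

lemma part1 (hgf : ∀ h, g (f h) = 0) (𝔫 : Ideal R) (u : H₂ →ₗ[R] H₁)
    (hu : ∀ y : H₂, u y ∈ 𝔫 • (⊤ : Submodule R H₁))
    (F : Submodule R H) (F₁ : Submodule R H₁) (F₂ : Submodule R H₂)
    (Fb : Submodule (R ⧸ 𝔫) ((R ⧸ 𝔫) ⊗[R] H))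
    (hF : (∃ C : Submodule R H, IsCompl F C) ∧ F ⊓ LinearMap.range f = Submodule.map f F₁ ∧
      Submodule.baseChange (R ⧸ 𝔫) F = Fb ∧ Submodule.map g F = F₂) :
    (∃ C : Submodule R H, IsCompl (Submodule.map (phi f g u) F) C) ∧
      (Submodule.map (phi f g u) F) ⊓ LinearMap.range f = Submodule.map f F₁ ∧
      Submodule.baseChange (R ⧸ 𝔫) (Submodule.map (phi f g u) F) = Fb ∧
      Submodule.map g (Submodule.map (phi f g u) F) = F₂ := by
  obtain ⟨⟨C, hC⟩, hF1, hF2, hF3⟩ := hF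
  refine ⟨⟨C.map (phi f g u), isCompl_map_phi hgf u hC⟩, ?_, ?_, ?_⟩
  · rw [← hF1]
    ext x
    constructor
    · rintro ⟨⟨x₀, hx₀, rfl⟩, ⟨h, hh⟩⟩
      have h0 : g x₀ = 0 := by rw [← g_phi hgf u x₀, ← hh, hgf]
      have h1 : phi f g u x₀ = x₀ := by rw [phi_apply, h0, map_zero, map_zero, add_zero]
      rw [h1] at hh ⊢
      exact ⟨hx₀, ⟨h, hh⟩⟩
    · rintro ⟨hxF, ⟨h, rfl⟩⟩
      refine ⟨⟨f h, hxF, ?_⟩, ⟨h, rfl⟩⟩
      rw [phi_apply, hgf, map_zero, map_zero, add_zero]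
  · rw [← hF2]
    apply baseChange_eq_of_sup_eq
    apply le_antisymm
    · refine sup_le ?_ le_sup_right
      rintro _ ⟨x, hx, rfl⟩
      rw [phi_apply]
      exact Submodule.add_mem_sup hx (map_smul_top_le f 𝔫 (hu _))
    · refine sup_le ?_ le_sup_right
      intro x hx
      have : x = phi f g u x + (-(f (u (g x)))) := by rw [phi_apply]; abel
      rw [this]
      exact Submodule.add_mem_sup (Submodule.mem_map_of_mem hx)
        (neg_mem (map_smul_top_le f 𝔫 (hu _)))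
  · rw [← hF3, ← Submodule.map_comp]
    congr 1
    ext x
    exact g_phi hgf u x

lemma part2 (hf : Function.Injective f) (hgf : ∀ h, g (f h) = 0) (𝔫 : Ideal R) (u : H₂ →ₗ[R] H₁)
    (hu : ∀ y : H₂, u y ∈ 𝔫 • (⊤ : Submodule R H₁))
    (F : Submodule R H) (F₁ : Submodule R H₁) (F₂ : Submodule R H₂)
    [Module.Projective R (H₁ ⧸ F₁)]
    (hF1 : F ⊓ LinearMap.range f = Submodule.map f F₁) (hF3 : Submodule.map g F = F₂) :
    Submodule.map (phi f g u) F = F ↔ ∀ y ∈ F₂, u y ∈ 𝔫 • F₁ := by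
  constructor
  · intro h y hy
    rw [← hF3] at hy
    obtain ⟨x, hx, rfl⟩ := hy
    have h1 : f (u (g x)) ∈ F ⊓ LinearMap.range f := by
      refine ⟨?_, ⟨_, rfl⟩⟩
      have h2 : phi f g u x ∈ F := by rw [← h]; exact Submodule.mem_map_of_mem hx
      have h3 : f (u (g x)) = phi f g u x - x := by rw [phi_apply]; abel
      rw [h3]
      exact sub_mem h2 hx
    rw [hF1] at h1
    obtain ⟨a, ha, hfa⟩ := h1
    have h4 : a = u (g x) := hf hfa
    exact inf_smul_top_le F₁ 𝔫 ⟨h4 ▸ ha, hu _⟩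
  · intro h
    have key : ∀ x ∈ F, f (u (g x)) ∈ F := by
      intro x hx
      have h1 : g x ∈ F₂ := by rw [← hF3]; exact Submodule.mem_map_of_mem hx
      have h2 : f (u (g x)) ∈ Submodule.map f (𝔫 • F₁) := Submodule.mem_map_of_mem (h _ h1)
      rw [Submodule.map_smul'', ← hF1] at h2
      exact (Submodule.smul_le_right h2).1
    apply le_antisymm
    · rintro _ ⟨x, hx, rfl⟩
      rw [phi_apply]
      exact add_mem hx (key x hx)
    · intro x hx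
      refine ⟨x - f (u (g x)), sub_mem hx (key x hx), ?_⟩
      rw [phi_apply, map_sub, hgf, sub_zero]
      abel

lemma part3 (hg : Function.Surjective g) (hf : Function.Injective f) (hfg : Function.Exact f g)
    (𝔫 : Ideal R)
    (F F' : Submodule R H) (F₁ : Submodule R H₁) (F₂ : Submodule R H₂)
    [Module.Projective R H₂] [Module.Projective R (H₂ ⧸ F₂)]
    (hF1 : F ⊓ LinearMap.range f = Submodule.map f F₁) (hF3 : Submodule.map g F = F₂)
    (hF1' : F' ⊓ LinearMap.range f = Submodule.map f F₁) (hF3' : Submodule.map g F' = F₂)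
    (hbc : Submodule.baseChange (R ⧸ 𝔫) F = Submodule.baseChange (R ⧸ 𝔫) F') :
    ∃ u : H₂ →ₗ[R] H₁, (∀ y : H₂, u y ∈ 𝔫 • (⊤ : Submodule R H₁)) ∧
      F' = Submodule.map (phi f g u) F := by
  have hgf : ∀ h, g (f h) = 0 := hfg.apply_apply_eq_zero
  have hsup := sup_eq_of_baseChange_eq 𝔫 hbc
  obtain ⟨ρ, s, hρ, hs, hsplit⟩ := exists_splitting f g hf hg hfg
  obtain ⟨e, he1, he2⟩ := exists_retraction F₂
  let r : H₂ →ₗ[R] F₂ := e.codRestrict F₂ he1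
  have hr : ∀ (y : H₂) (hy : y ∈ F₂), r y = ⟨y, hy⟩ := fun y hy => Subtype.ext (he2 y hy)
  haveI : Module.Projective R F₂ :=
    Module.Projective.of_split F₂.subtype r (LinearMap.ext fun y => hr y.1 y.2)
  -- the module of compatible triples
  let P : Submodule R (H × H × H₁) :=
    { carrier := {t | t.1 ∈ F ∧ t.2.1 ∈ F' ∧ t.2.2 ∈ 𝔫 • (⊤ : Submodule R H₁) ∧
        t.2.1 - t.1 = f t.2.2}
      add_mem' := by
        rintro ⟨a, b, c⟩ ⟨a', b', c'⟩ ⟨h1, h2, h3, h4⟩ ⟨h1', h2', h3', h4'⟩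
        refine ⟨add_mem h1 h1', add_mem h2 h2', add_mem h3 h3', ?_⟩
        change (b + b') - (a + a') = f (c + c')
        change b - a = f c at h4
        change b' - a' = f c' at h4'
        rw [map_add, ← h4, ← h4']
        abel
      zero_mem' := ⟨zero_mem _, zero_mem _, zero_mem _, by simp⟩
      smul_mem' := by
        rintro k ⟨a, b, c⟩ ⟨h1, h2, h3, h4⟩
        refine ⟨Submodule.smul_mem _ _ h1, Submodule.smul_mem _ _ h2, Submodule.smul_mem _ _ h3, ?_⟩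
        change k • b - k • a = f (k • c)
        change b - a = f c at h4
        rw [map_smul, ← h4, smul_sub] }
  have hP1 : ∀ t : P, g t.1.1 ∈ F₂ := fun t => by
    rw [← hF3]; exact Submodule.mem_map_of_mem t.2.1
  let π : P →ₗ[R] F₂ := (g ∘ₗ LinearMap.fst R H (H × H₁) ∘ₗ P.subtype).codRestrict F₂ hP1
  have hπ : Function.Surjective π := by
    rintro ⟨y, hy⟩
    obtain ⟨x, hx, hgx⟩ : ∃ x ∈ F, g x = y := by rw [← hF3] at hy; exact hy
    have hx' : x ∈ F' ⊔ 𝔫 • (⊤ : Submodule R H) := by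
      rw [← hsup]; exact (le_sup_left : F ≤ _) hx
    obtain ⟨x'', hx'', n, hn, hxn⟩ := Submodule.mem_sup.1 hx'
    have hgn1 : g n ∈ F₂ := by
      have h1 : g n = g x - g x'' := by rw [← hxn, map_add]; abel
      rw [h1, hgx]
      refine sub_mem hy ?_
      rw [← hF3']; exact Submodule.mem_map_of_mem hx''
    have hgn3 : g n ∈ 𝔫 • F₂ := inf_smul_top_le F₂ 𝔫 ⟨hgn1, map_smul_top_le g 𝔫 hn⟩
    rw [← hF3', ← Submodule.map_smul''] at hgn3
    obtain ⟨m, hm, hgm⟩ := hgn3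
    have hmF' : m ∈ F' := Submodule.smul_le_right hm
    have hm𝔫 : m ∈ 𝔫 • (⊤ : Submodule R H) := Submodule.smul_mono le_rfl le_top hm
    have h0 : g ((x'' + m) - x) = 0 := by
      rw [← hxn, map_sub, map_add, map_add, hgm]; abel
    obtain ⟨h, hh⟩ := (hfg _).1 h0
    have hh𝔫 : h ∈ 𝔫 • (⊤ : Submodule R H₁) := by
      rw [← hρ h, hh]
      apply map_smul_top_le ρ 𝔫
      have : (x'' + m) - x = m - n := by rw [← hxn]; abel
      rw [this]
      exact sub_mem hm𝔫 hn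
    exact ⟨⟨(x, x'' + m, h), hx, add_mem hx'' hmF', hh𝔫, hh.symm⟩, Subtype.ext hgx⟩
  obtain ⟨σ, hσ⟩ := Module.projective_lifting_property π LinearMap.id hπ
  have hσ' : ∀ z : F₂, g (σ z).1.1 = z.1 := fun z =>
    congrArg Subtype.val (congrArg (fun φ => φ z) hσ)
  let u : H₂ →ₗ[R] H₁ :=
    (LinearMap.snd R H H₁ ∘ₗ LinearMap.snd R H (H × H₁) ∘ₗ P.subtype ∘ₗ σ) ∘ₗ r
  have hu : ∀ (y : H₂) (hy : y ∈ F₂), u y = (σ ⟨y, hy⟩).1.2.2 := by
    intro y hy
    change (σ (r y)).1.2.2 = _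
    rw [hr y hy]
  refine ⟨u, fun y => (σ (r y)).2.2.2.1, ?_⟩
  ext z
  constructor
  · intro hz
    have hy : g z ∈ F₂ := by rw [← hF3']; exact Submodule.mem_map_of_mem hz
    obtain ⟨hx₀, hx'₀, -, hrel⟩ := (σ ⟨g z, hy⟩).2
    have hgx₀ : g (σ ⟨g z, hy⟩).1.1 = g z := hσ' ⟨g z, hy⟩
    set x₀ := (σ ⟨g z, hy⟩).1.1 with hx₀def
    set x'₀ := (σ ⟨g z, hy⟩).1.2.1 with hx'₀def
    set h₀ := (σ ⟨g z, hy⟩).1.2.2 with hh₀def
    have hgx'₀ : g x'₀ = g z := by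
      have : x'₀ = x₀ + f h₀ := by rw [← hrel]; abel
      rw [this, map_add, hgf, add_zero, hgx₀]
    have h1 : z - x'₀ ∈ F' ⊓ LinearMap.range f := by
      refine ⟨sub_mem hz hx'₀, ?_⟩
      have : g (z - x'₀) = 0 := by rw [map_sub, hgx'₀, sub_self]
      exact (hfg _).1 this
    rw [hF1', ← hF1] at h1
    refine ⟨(z - x'₀) + x₀, add_mem h1.1 hx₀, ?_⟩
    have hgw : g ((z - x'₀) + x₀) = g z := by
      rw [map_add, map_sub, hgx'₀, sub_self, zero_add, hgx₀]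
    rw [phi_apply, hgw, hu (g z) hy, ← hh₀def, ← hrel]
    abel
  · rintro ⟨x, hx, rfl⟩
    have hy : g x ∈ F₂ := by rw [← hF3]; exact Submodule.mem_map_of_mem hx
    obtain ⟨hx₀, hx'₀, -, hrel⟩ := (σ ⟨g x, hy⟩).2
    have hgx₀ : g (σ ⟨g x, hy⟩).1.1 = g x := hσ' ⟨g x, hy⟩
    set x₀ := (σ ⟨g x, hy⟩).1.1 with hx₀def
    set x'₀ := (σ ⟨g x, hy⟩).1.2.1 with hx'₀def
    set h₀ := (σ ⟨g x, hy⟩).1.2.2 with hh₀def
    have h1 : x - x₀ ∈ F ⊓ LinearMap.range f := by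
      refine ⟨sub_mem hx hx₀, ?_⟩
      have : g (x - x₀) = 0 := by rw [map_sub, hgx₀, sub_self]
      exact (hfg _).1 this
    rw [hF1, ← hF1'] at h1
    rw [phi_apply, hu (g x) hy, ← hh₀def, ← hrel]
    have : x + (x'₀ - x₀) = (x - x₀) + x'₀ := by abel
    rw [this]
    exact add_mem h1.1 hx'₀

end parts

open TensorProduct in
/-- For a commutative local Artinian ring R and an exact sequence 0 → H₁ → H → H₂ → 0 of finite free
R-modules, let F₁ ⊆ H₁ and F₂ ⊆ H₂ be submodules with free quotients, 𝔫 an ideal of R of square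
zero, R̄ = R/𝔫, and F̄ ⊆ H̄ = R̄ ⊗ H an R̄-submodule with free quotient meeting the image of R̄ ⊗ H₁
in the image of R̄ ⊗ F₁ and mapping onto the image of R̄ ⊗ F₂; let L be the set of direct summands F
of H with F ∩ H₁ = F₁, with image F̄ in H̄ and with image F₂ in H₂. Then L is a torsor under
Hom_R(F₂, 𝔫(H₁/F₁)), acting as follows: an R-linear u : H₂ → H₁ with u(H₂) ⊆ 𝔫H₁ moves F ∈ L to the
image of F under x ↦ x + f(u(g(x))). Precisely, for F ∈ L: (1) that image again lies in L; (2) it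
equals F if and only if u(F₂) ⊆ 𝔫F₁; (3) every F' ∈ L is obtained from F in this way for some such
u. (The published statement phrases the torsor under the R̄-linear maps from F̄₂ to 𝔫 ⊗ (H̄₁/F̄₁), a
group identified with the maps u as above modulo those with u(F₂) ⊆ 𝔫F₁, and describes the action
through a lift F₂ → 𝔫 ⊗ H₁ composed with F → F/F₁ ≅ F₂; restricted to F this is x ↦ f(u(g(x))).) -/
theorem result
    (R : Type u) [CommRing R] [IsArtinianRing R] [IsLocalRing R]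
    (H₁ : Type v) (H : Type v) (H₂ : Type v)
    [AddCommGroup H₁] [Module R H₁] [AddCommGroup H] [Module R H] [AddCommGroup H₂] [Module R H₂]
    [Module.Free R H₁] [Module.Finite R H₁] [Module.Free R H] [Module.Finite R H]
    [Module.Free R H₂] [Module.Finite R H₂]
    (f : H₁ →ₗ[R] H) (g : H →ₗ[R] H₂) (hf : Function.Injective f) (hg : Function.Surjective g)
    (hfg : Function.Exact f g)
    (F₁ : Submodule R H₁) (F₂ : Submodule R H₂) [Module.Free R (H₁ ⧸ F₁)] [Module.Free R (H₂ ⧸ F₂)]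
    (𝔫 : Ideal R) (hn : 𝔫 * 𝔫 = ⊥)
    (Fb : Submodule (R ⧸ 𝔫) ((R ⧸ 𝔫) ⊗[R] H))
    [Module.Free (R ⧸ 𝔫) (((R ⧸ 𝔫) ⊗[R] H) ⧸ Fb)]
    (h1 : Fb ⊓ LinearMap.range (f.baseChange (R ⧸ 𝔫)) =
      Submodule.map (f.baseChange (R ⧸ 𝔫)) (F₁.baseChange (R ⧸ 𝔫)))
    (h2 : Submodule.map (g.baseChange (R ⧸ 𝔫)) Fb = F₂.baseChange (R ⧸ 𝔫))
    (F F' : Submodule R H)
    (hF : (∃ C : Submodule R H, IsCompl (F) C) ∧
      (F) ⊓ LinearMap.range f = Submodule.map f F₁ ∧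
      Submodule.baseChange (R ⧸ 𝔫) (F) = Fb ∧ Submodule.map g (F) = F₂)
    (hF' : (∃ C : Submodule R H, IsCompl (F') C) ∧
      (F') ⊓ LinearMap.range f = Submodule.map f F₁ ∧
      Submodule.baseChange (R ⧸ 𝔫) (F') = Fb ∧ Submodule.map g (F') = F₂) :
    (∀ u : H₂ →ₗ[R] H₁, (∀ y : H₂, u y ∈ 𝔫 • (⊤ : Submodule R H₁)) →
      (∃ C : Submodule R H, IsCompl (Submodule.map (LinearMap.id + f ∘ₗ u ∘ₗ g) F) C) ∧
      (Submodule.map (LinearMap.id + f ∘ₗ u ∘ₗ g) F) ⊓ LinearMap.range f = Submodule.map f F₁ ∧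
      Submodule.baseChange (R ⧸ 𝔫) (Submodule.map (LinearMap.id + f ∘ₗ u ∘ₗ g) F) = Fb ∧ Submodule.map g (Submodule.map (LinearMap.id + f ∘ₗ u ∘ₗ g) F) = F₂) ∧
    (∀ u : H₂ →ₗ[R] H₁, (∀ y : H₂, u y ∈ 𝔫 • (⊤ : Submodule R H₁)) →
      (Submodule.map (LinearMap.id + f ∘ₗ u ∘ₗ g) F = F ↔ ∀ y ∈ F₂, u y ∈ 𝔫 • F₁)) ∧
    (∃ u : H₂ →ₗ[R] H₁, (∀ y : H₂, u y ∈ 𝔫 • (⊤ : Submodule R H₁)) ∧
      F' = Submodule.map (LinearMap.id + f ∘ₗ u ∘ₗ g) F) := by
  have hgf : ∀ h, g (f h) = 0 := hfg.apply_apply_eq_zero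
  refine ⟨fun u hu => part1 hgf 𝔫 u hu F F₁ F₂ Fb hF,
    fun u hu => part2 hf hgf 𝔫 u hu F F₁ F₂ hF.2.1 hF.2.2.2,
    part3 hg hf hfg 𝔫 F F' F₁ F₂ hF.2.1 hF.2.2.2 hF'.2.1 hF'.2.2.2
      (hF.2.2.1.trans hF'.2.2.1.symm)⟩

end Groth.Agent.S16420
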