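import Groth.Statements.S16421
-- import your own Groth.Agent.* helpers here
import Mathlib

set_option autoImplicit false
set_option linter.style.haveILetI false
universe u
open FrobAlg

namespace Groth.Agent.S16421

/-- a ring hom with a "basis" is flat. -/
lemma flat_of_basis {R S : Type*} [CommRing R] [CommRing S] (φ : R →+* S) (E : Type*) (m : E → S)
    (h : Function.Bijective (fun c : E →₀ R => c.sum (fun e r => φ r * m e))) : φ.Flat := by
  letI := φ.toAlgebra
  have h1 : ⇑(Finsupp.linearCombination R m) = (fun c : E →₀ R => c.sum (fun e r => φ r * m e)) := by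
    funext c
    rw [Finsupp.linearCombination_apply]
    rfl
  have h2 : Function.Bijective (Finsupp.linearCombination R m) := by rw [h1]; exact h
  show Module.Flat R S
  exact Module.Flat.of_linearEquiv (LinearEquiv.ofBijective _ h2).symm

lemma trivial_of_flat {R S : Type*} [CommRing R] [CommRing S] (φ : R →+* S) (hφ : φ.Flat) {l : ℕ}
    (f : Fin l → R) (z : Fin l → S) (h : ∑ i, φ (f i) * z i = 0) :
    ∃ (k : ℕ) (a : Fin l → Fin k → R) (y : Fin k → S),
      (∀ i, z i = ∑ j, φ (a i j) * y j) ∧ ∀ j, ∑ i, f i * a i j = 0 := by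
  letI := φ.toAlgebra
  haveI : Module.Flat R S := hφ
  have h' : ∑ i, f i • z i = 0 := h
  obtain ⟨k, a, y, h1, h2⟩ :=
    Module.Flat.isTrivialRelation_of_sum_smul_eq_zero (R := R) (M := S) h'
  exact ⟨k, a, y, h1, h2⟩

section main
variable (p : ℕ) [Fact p.Prime] (R : Type u) [CommRing R] [CharP R p]

/-- `a ↦ a^(1/p^N)` -/
noncomputable def iN (N : ℕ) : R →+* PerfectClosure R p :=
  ((iterateFrobeniusEquiv (PerfectClosure R p) p N).symm : PerfectClosure R p →+* PerfectClosure R p).comp
    (PerfectClosure.of R p)

lemma iN_pow (N : ℕ) (a : R) : (iN p R N a) ^ p ^ N = PerfectClosure.of R p a := by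
  have := (iterateFrobeniusEquiv (PerfectClosure R p) p N).apply_symm_apply (PerfectClosure.of R p a)
  rw [iterateFrobeniusEquiv_def] at this
  exact this

lemma mk_eq_iN (N : ℕ) (a : R) : PerfectClosure.mk R p (N, a) = iN p R N a := by
  apply (iterateFrobeniusEquiv (PerfectClosure R p) p N).injective
  rw [iterateFrobeniusEquiv_def, iterateFrobeniusEquiv_def, iN_pow, ← iterate_frobenius,
    PerfectClosure.iterate_frobenius_mk]

lemma exists_iN (y : PerfectClosure R p) : ∃ (N : ℕ) (a : R), y = iN p R N a := by
  obtain ⟨⟨N, a⟩, rfl⟩ := PerfectClosure.mk_surjective R p y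
  exact ⟨N, a, mk_eq_iN p R N a⟩

lemma of_eq_iN (N : ℕ) (f : R) : PerfectClosure.of R p f = iN p R N (f ^ p ^ N) := by
  rw [map_pow, iN_pow]

lemma iN_shift (N k : ℕ) (a : R) : iN p R N a = iN p R (N + k) (a ^ p ^ k) := by
  apply (iterateFrobeniusEquiv (PerfectClosure R p) p (N + k)).injective
  rw [iterateFrobeniusEquiv_def, iterateFrobeniusEquiv_def, iN_pow, pow_add, pow_mul, iN_pow, map_pow]

lemma iN_injective [IsReduced R] (N : ℕ) : Function.Injective (iN p R N) := by
  intro a b h
  unfold iN at h
  simp only [RingHom.coe_comp, RingHom.coe_coe, Function.comp_apply, EmbeddingLike.apply_eq_iff_eq] at h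
  rw [PerfectClosure.of_apply, PerfectClosure.of_apply, PerfectClosure.eq_iff] at h
  simpa using h

lemma common_stage {l : ℕ} (x : Fin l → PerfectClosure R p) :
    ∃ (N : ℕ) (z : Fin l → R), ∀ i, x i = iN p R N (z i) := by
  choose n a h using fun i => exists_iN p R (x i)
  refine ⟨∑ i, n i, fun i => (a i) ^ p ^ (∑ j, n j - n i), fun i => ?_⟩
  rw [h i, iN_shift p R (n i) (∑ j, n j - n i)]
  congr 2
  have : n i ≤ ∑ j, n j := Finset.single_le_sum (fun _ _ => Nat.zero_le _) (Finset.mem_univ i)
  omega

end main

/-- Let p be a prime and R a commutative ring of characteristic p with a p-basis (x_i), meaning that the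
monomials ∏ x_i^(e i) with every exponent e i < p form a basis of R as a module over itself through
the Frobenius, i.e. the map sending a finitely supported family of coefficients c to ∑_e (c e)^p · ∏
x_i^(e i) is a bijection onto R. Then the canonical ring map from R to its perfect closure is
faithfully flat. -/
theorem result (p : ℕ) [Fact p.Prime]
    (R : Type u) [CommRing R] [CharP R p] (ι : Type u) (x : ι → R)
    (hx : Function.Bijective
      (fun c : {e : ι →₀ ℕ // ∀ i, e i < p} →₀ R =>
        c.sum (fun e r => r ^ p * e.1.prod (fun i n => x i ^ n)))) :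
    (PerfectClosure.of R p).FaithfullyFlat := by
  classical
  have hp : p.Prime := Fact.out
  -- Frobenius is injective
  have hinj : Function.Injective (frobenius R p) := by
    intro a b hab
    let e0 : {e : ι →₀ ℕ // ∀ i, e i < p} := ⟨0, fun i => by simpa using hp.pos⟩
    have h1 := @hx.1 (Finsupp.single e0 a) (Finsupp.single e0 b) (by
      simp only [e0]
      rw [Finsupp.sum_single_index (by simp [hp.ne_zero]), Finsupp.sum_single_index (by simp [hp.ne_zero])]
      simp only [Finsupp.prod_zero_index, mul_one]
      exact hab)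
    exact Finsupp.single_injective e0 h1
  have hinjN : ∀ N : ℕ, Function.Injective (iterateFrobenius R p N) := by
    intro N
    induction N with
    | zero => intro a b h; simpa [iterateFrobenius_def] using h
    | succ n ih =>
      intro a b h
      apply ih
      apply hinj
      simp only [iterateFrobenius_def, frobenius_def, ← pow_mul, ← pow_succ] at h ⊢
      exact h
  haveI : IsReduced R := ⟨fun a ⟨n, hn⟩ => by
    apply hinjN n
    rw [iterateFrobenius_def, map_zero]
    have : n ≤ p ^ n := (Nat.lt_pow_self hp.one_lt).le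
    rw [← Nat.sub_add_cancel this, pow_add, hn, mul_zero]⟩
  -- flatness of Frobenius and its iterates
  have hF : (frobenius R p).Flat := by
    refine flat_of_basis (frobenius R p) _ (fun e : {e : ι →₀ ℕ // ∀ i, e i < p} =>
      e.1.prod (fun i n => x i ^ n)) ?_
    exact hx
  have hFN : ∀ N : ℕ, (iterateFrobenius R p N).Flat := by
    intro N
    induction N with
    | zero =>
      have : iterateFrobenius R p 0 = RingHom.id R := by ext a; simp [iterateFrobenius_def]
      rw [this]; exact RingHom.Flat.id R
    | succ n ih =>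
      have : iterateFrobenius R p (n + 1) = (frobenius R p).comp (iterateFrobenius R p n) := by
        ext a; simp [iterateFrobenius_def, frobenius_def, pow_succ, pow_mul]
      rw [this]; exact RingHom.Flat.comp ih hF
  -- now the perfect closure
  letI := (PerfectClosure.of R p).toAlgebra
  have hsm : ∀ (r : R) (y : PerfectClosure R p), r • y = PerfectClosure.of R p r * y := fun _ _ => rfl
  show Module.FaithfullyFlat R (PerfectClosure R p)
  haveI hflat : Module.Flat R (PerfectClosure R p) := by
    apply Module.Flat.of_forall_isTrivialRelation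
    intro l f y hrel
    obtain ⟨N, z, hz⟩ := common_stage p R y
    have h1 : ∑ i, iterateFrobenius R p N (f i) * z i = 0 := by
      apply iN_injective p R N
      rw [map_sum, map_zero, ← hrel]
      apply Finset.sum_congr rfl
      intro i _
      rw [map_mul, hsm, hz i, of_eq_iN p R N, iterateFrobenius_def]
    obtain ⟨k, a, w, h2, h3⟩ := trivial_of_flat (iterateFrobenius R p N) (hFN N) f z h1
    refine ⟨k, a, fun j => iN p R N (w j), ?_, h3⟩
    intro i
    rw [hz i, h2 i, map_sum]
    apply Finset.sum_congr rfl
    intro j _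
    rw [map_mul, hsm, of_eq_iN p R N, iterateFrobenius_def]
  refine ⟨?_⟩
  intro m hm htop
  -- the union of the images of m
  let S : Submodule R (PerfectClosure R p) :=
    { carrier := {y | ∃ (N : ℕ) (a : R), a ∈ m ∧ y = iN p R N a}
      add_mem' := by
        rintro _ _ ⟨N, a, ha, rfl⟩ ⟨N', a', ha', rfl⟩
        refine ⟨N + N', a ^ p ^ N' + a' ^ p ^ N, ?_, ?_⟩
        · exact m.add_mem (m.pow_mem_of_mem ha _ (pow_pos hp.pos _))
            (m.pow_mem_of_mem ha' _ (pow_pos hp.pos _))
        · rw [map_add, ← iN_shift, add_comm N N', ← iN_shift]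
      zero_mem' := ⟨0, 0, m.zero_mem, by simp⟩
      smul_mem' := by
        rintro r _ ⟨N, a, ha, rfl⟩
        refine ⟨N, r ^ p ^ N * a, m.mul_mem_left _ ha, ?_⟩
        rw [hsm, of_eq_iN p R N, map_mul] }
  have hle : m • (⊤ : Submodule R (PerfectClosure R p)) ≤ S := by
    rw [Submodule.smul_le]
    intro r hr y _
    obtain ⟨N, a, rfl⟩ := exists_iN p R y
    refine ⟨N, r ^ p ^ N * a, m.mul_mem_right _ (m.pow_mem_of_mem hr _ (pow_pos hp.pos _)), ?_⟩
    rw [hsm, of_eq_iN p R N, map_mul]
  have h1 : (1 : PerfectClosure R p) ∈ S := hle (by rw [htop]; trivial)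
  obtain ⟨N, a, ha, h1a⟩ := h1
  have : a = 1 := by
    apply iN_injective p R N
    rw [← h1a, map_one]
  rw [this] at ha
  exact hm.ne_top ((Ideal.eq_top_iff_one m).mpr ha)

end Groth.Agent.S16421
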