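import Groth.Statements.S16422
import Mathlib
-- import your own Groth.Agent.* helpers here

set_option autoImplicit false
universe u
open GrMod

namespace Groth.Agent.S16422

open DirectSum

section

variable {S : Type u} [CommRing S] (𝒜 : ℤ → AddSubgroup S) [GradedRing 𝒜]
  {M : Type u} [AddCommGroup M] [Module S M] (ℳ : ℤ → AddSubgroup M)
  [DirectSum.Decomposition ℳ] [SetLike.GradedSMul 𝒜 ℳ]

/-- component formula for `s • y` with `y` homogeneous of degree `d`. -/
theorem decompose_smul_of_mem (s : S) {y : M} {d : ℤ} (hy : y ∈ ℳ d) (n : ℤ) :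
    ((decompose ℳ (s • y) n : ℳ n) : M) = ((decompose 𝒜 s (n - d) : 𝒜 (n - d)) : S) • y := by
  induction s using DirectSum.Decomposition.inductionOn 𝒜 with
  | zero => simp
  | @homogeneous j s =>
    have hmem : (s : S) • y ∈ ℳ (j + d) := SetLike.GradedSMul.smul_mem s.2 hy
    by_cases hj : j + d = n
    · subst hj
      rw [decompose_of_mem_same ℳ hmem]
      have : j + d - d = j := by ring
      rw [this, decompose_of_mem_same 𝒜 s.2]
    · rw [decompose_of_mem_ne ℳ hmem hj]
      have hj' : j ≠ n - d := fun h => hj (by rw [h]; ring)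
      rw [decompose_of_mem_ne 𝒜 s.2 hj', zero_smul]
  | add a b ha hb =>
    rw [add_smul, decompose_add, decompose_add]
    simp only [DirectSum.add_apply, AddSubgroup.coe_add, add_smul]
    rw [ha, hb]

/-- finitely many homogeneous generators -/
theorem exists_homogeneous_generators [Module.Finite S M] :
    ∃ T : Finset M, (∀ y ∈ T, ∃ j, y ∈ ℳ j) ∧ Submodule.span S (T : Set M) = ⊤ := by
  classical
  obtain ⟨T, hT⟩ := (Module.Finite.fg_top : (⊤ : Submodule S M).FG)
  refine ⟨T.biUnion (fun t => (DFinsupp.support (decompose ℳ t)).image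
    (fun j => ((decompose ℳ t j : ℳ j) : M))), ?_, ?_⟩
  · intro y hy
    obtain ⟨t, -, hy⟩ := Finset.mem_biUnion.1 hy
    obtain ⟨j, -, rfl⟩ := Finset.mem_image.1 hy
    exact ⟨j, (decompose ℳ t j).2⟩
  · rw [eq_top_iff, ← hT, Submodule.span_le]
    intro t ht
    rw [← DirectSum.sum_support_decompose ℳ t]
    refine Submodule.sum_mem _ fun j hj => Submodule.subset_span ?_
    exact Finset.mem_coe.2 (Finset.mem_biUnion.2 ⟨t, ht, Finset.mem_image.2 ⟨j, hj, rfl⟩⟩)

/-- the structure lemma: coordinates relative to homogeneous generators. -/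
theorem exists_coords [Module.Finite S M] [Module.Projective S M] (n : ℤ) :
    ∃ (ι : Type u) (_ : Fintype ι) (e : ι → M) (d : ι → ℤ) (ψ : ι → M → S),
      (∀ i, e i ∈ ℳ (d i)) ∧
      (∀ i x, ψ i x ∈ 𝒜 (n - d i)) ∧
      (∀ i x y, ψ i (x - y) = ψ i x - ψ i y) ∧
      (∀ x ∈ ℳ n, x = ∑ i, ψ i x • e i) ∧
      (∀ (I : HomogeneousIdeal 𝒜) (i : ι) (x : M),
        x ∈ I.toIdeal • (⊤ : Submodule S M) → ψ i x ∈ I.toIdeal) := by
  classical
  obtain ⟨T, hThom, hTspan⟩ := exists_homogeneous_generators (S := S) ℳ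
  choose! d hd using hThom
  let e : T → M := Subtype.val
  have hsurj : Function.Surjective (Finsupp.linearCombination S e) := by
    rw [← LinearMap.range_eq_top, Finsupp.range_linearCombination]
    simpa [e] using hTspan
  obtain ⟨σ, hσ⟩ := Module.projective_lifting_property (Finsupp.linearCombination S e)
    (LinearMap.id : M →ₗ[S] M) hsurj
  have hσx : ∀ x, x = ∑ i : T, (σ x) i • e i := by
    intro x
    have := LinearMap.congr_fun hσ x
    simp only [LinearMap.coe_comp, Function.comp_apply, LinearMap.id_coe, id_eq] at this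
    rw [Finsupp.linearCombination_apply, Finsupp.sum_fintype] at this
    · exact this.symm
    · intro i; exact zero_smul _ _
  refine ⟨T, inferInstance, e, fun i => d i.1,
    fun i x => ((decompose 𝒜 ((σ x) i) (n - d i.1) : 𝒜 (n - d i.1)) : S),
    fun i => hd i.1 i.2, fun i x => SetLike.coe_mem _, ?_, ?_, ?_⟩
  · intro i x y
    change ((decompose 𝒜 ((σ (x - y)) i) (n - d i.1) : 𝒜 (n - d i.1)) : S) =
      ((decompose 𝒜 ((σ x) i) (n - d i.1) : 𝒜 (n - d i.1)) : S) -
        ((decompose 𝒜 ((σ y) i) (n - d i.1) : 𝒜 (n - d i.1)) : S)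
    rw [map_sub, Finsupp.sub_apply, decompose_sub]
    rfl
  · intro x hx
    have h1 := hσx x
    have h2 : x = ((decompose ℳ x n : ℳ n) : M) := (decompose_of_mem_same ℳ hx).symm
    have h3 : ((decompose ℳ x n : ℳ n) : M) =
        ((decompose ℳ (∑ i : T, (σ x) i • e i) n : ℳ n) : M) := by rw [← h1]
    rw [decompose_sum, DFinsupp.finsetSum_apply, AddSubgroup.val_finsetSum] at h3
    refine h2.trans (h3.trans ?_)
    refine Finset.sum_congr rfl fun i _ => ?_
    exact decompose_smul_of_mem 𝒜 ℳ _ (hd i.1 i.2) n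
  · intro I i x hx
    refine I.isHomogeneous _ ?_
    refine Submodule.smul_induction_on hx ?_ ?_
    · intro v hv y _
      rw [map_smul, Finsupp.smul_apply, smul_eq_mul]
      exact Ideal.mul_mem_right _ _ hv
    · intro a b ha hb
      rw [map_add, Finsupp.add_apply]
      exact Ideal.add_mem _ ha hb

end


/-- Let S be a commutative ring graded by ℤ with pieces 𝒜 n, and V a decreasing sequence of homogeneous
ideals for which S is graded-complete, i.e. for each degree n the map from 𝒜 n to the inverse limit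
of the quotients 𝒜 n / (𝒜 n ∩ V m) is bijective (stated as: a degree-n element in every V m
vanishes, and every sequence in 𝒜 n whose consecutive differences lie in the V m has a limit in 𝒜
n). Then every graded S-module M which is finitely generated and projective as an S-module is
graded-complete in the same sense for the submodules V m · M: for each n the map from ℳ n to the
inverse limit of ℳ n / (ℳ n ∩ V m · M) is bijective. -/
theorem result
    (S : Type u) [CommRing S] (𝒜 : ℤ → AddSubgroup S) [GradedRing 𝒜]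
    (V : ℕ → HomogeneousIdeal 𝒜) (hV : ∀ m, (V (m + 1)).toIdeal ≤ (V m).toIdeal)
    (hsep : ∀ (n : ℤ) (s : S), s ∈ 𝒜 n → (∀ m, s ∈ (V m).toIdeal) → s = 0)
    (hcpl : ∀ (n : ℤ) (f : ℕ → S), (∀ m, f m ∈ 𝒜 n) →
      (∀ m, f (m + 1) - f m ∈ (V m).toIdeal) → ∃ s ∈ 𝒜 n, ∀ m, s - f m ∈ (V m).toIdeal)
    (M : Type u) [AddCommGroup M] [Module S M] (ℳ : ℤ → AddSubgroup M)
    [DirectSum.Decomposition ℳ] [SetLike.GradedSMul 𝒜 ℳ]
    [Module.Finite S M] [Module.Projective S M] :
    (∀ (n : ℤ) (x : M), x ∈ ℳ n → (∀ m, x ∈ (V m).toIdeal • (⊤ : Submodule S M)) → x = 0) ∧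
    (∀ (n : ℤ) (g : ℕ → M), (∀ m, g m ∈ ℳ n) →
      (∀ m, g (m + 1) - g m ∈ (V m).toIdeal • (⊤ : Submodule S M)) →
      ∃ x ∈ ℳ n, ∀ m, x - g m ∈ (V m).toIdeal • (⊤ : Submodule S M)) := by
  classical
  constructor
  · intro n x hx hxV
    obtain ⟨ι, _, e, d, ψ, he, hψmem, hψsub, hψsum, hψV⟩ := exists_coords 𝒜 ℳ n
    rw [hψsum x hx]
    refine Finset.sum_eq_zero fun i _ => ?_
    rw [hsep (n - d i) (ψ i x) (hψmem i x) (fun m => hψV (V m) i x (hxV m)), zero_smul]
  · intro n g hg hgV
    obtain ⟨ι, _, e, d, ψ, he, hψmem, hψsub, hψsum, hψV⟩ := exists_coords 𝒜 ℳ n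
    have key : ∀ i, ∃ s ∈ 𝒜 (n - d i), ∀ m, s - ψ i (g m) ∈ (V m).toIdeal := by
      intro i
      refine hcpl (n - d i) (fun m => ψ i (g m)) (fun m => hψmem i _) (fun m => ?_)
      rw [← hψsub]
      exact hψV (V m) i _ (hgV m)
    choose s hs hsV using key
    refine ⟨∑ i, s i • e i, ?_, fun m => ?_⟩
    · refine AddSubgroup.sum_mem _ fun i _ => ?_
      have := SetLike.GradedSMul.smul_mem (A := 𝒜) (B := ℳ) (hs i) (he i)
      have h2 : ((n - d i) +ᵥ (d i) : ℤ) = n := by rw [vadd_eq_add]; ring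
      rwa [h2] at this
    · rw [hψsum (g m) (hg m), ← Finset.sum_sub_distrib]
      refine Submodule.sum_mem _ fun i _ => ?_
      rw [← sub_smul]
      exact Submodule.smul_mem_smul (hsV i m) Submodule.mem_top

end Groth.Agent.S16422
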