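import Groth.Statements.S16438
import Groth.Agent.Lib.ShSub6

set_option autoImplicit false
universe u
open EGA4loc

namespace Groth.Agent.S16438

open IsLocalRing in
/-- Let A be a Noetherian local ring with maximal ideal m, S a strict henselization of A, and D an
A-subalgebra of S which is a local ring dominated by S (the inclusion is local), essentially of
finite type over A, and such that m D is the maximal ideal of D. Then D is an essentially etale
local A-algebra: A-isomorphic to the localization of an etale A-algebra at a prime over m. (The
published statement also assumes the total ring of fractions of D finitely generated over that of A;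
for D essentially of finite type over A and dominated by S this is automatic, D then lying in a
local etale subextension of S, so that hypothesis is omitted here.) -/
theorem result
    (A S : Type u) [CommRing A] [IsLocalRing A] [IsNoetherianRing A]
    [CommRing S] [IsLocalRing S] [Algebra A S] [IsLocalHom (algebraMap A S)]
    [Hensel.IsStrictHenselization A S] (D : Subalgebra A S) [IsLocalRing D]
    [IsLocalHom (algebraMap D S)] [Algebra.EssFiniteType A D]
    (hm : Ideal.map (algebraMap A D) (maximalIdeal A) = maximalIdeal D) :
    EGA4loc.IsEssentiallyEtale A D := by
  have : Module.FaithfullyFlat A S :=
    Groth.Agent.Lib.StrictHenselization.faithfullyFlat_of_isStrictHenselization A S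
  have hAD : IsLocalHom (algebraMap A D) := ⟨fun a ha => by
    have h1 : IsUnit (algebraMap D S (algebraMap A D a)) := ha.map (algebraMap D S)
    rw [← IsScalarTower.algebraMap_apply A D S] at h1
    exact (isUnit_map_iff (algebraMap A S) a).mp h1⟩
  have hsep : Algebra.IsSeparable (ResidueField A) (ResidueField D) := by
    have h1 : Algebra.IsSeparable (ResidueField A) (ResidueField S) :=
      (Hensel.IsStrictHenselization.isSepClosure (R := A) (S := S)).separable
    exact Algebra.isSeparable_tower_bot_of_isSeparable (ResidueField A) (ResidueField D)
      (ResidueField S)
  have : Algebra.FormallyUnramified A D := Algebra.FormallyUnramified.of_map_maximalIdeal hm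
  exact Groth.Agent.Lib.ShSub6.essEtale_of_unramified D

end Groth.Agent.S16438
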