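import Groth.Statements.S16439
import Groth.Agent.S16441
import Groth.Agent.S16438
import Groth.Agent.Lib.ShSub6
import Groth.Agent.Lib.EssFiniteTypeSubB61

set_option autoImplicit false
universe u
open EGA4loc

namespace Groth.Agent.S16439

open IsLocalRing in
/-- Let A be an excellent reduced local ring with maximal ideal m, S a strict henselization of A, and D
an A-subalgebra of S which is a Noetherian local ring dominated by S (the inclusion is local), whose
total ring of fractions K_D is finitely generated over that of A — there is a finite subset t of K_D
such that every element of K_D, after multiplication by (the image of) a non-zero-divisor of A, is a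
polynomial expression in t with coefficients from A — and such that m D is the maximal ideal of D.
Then D is an essentially etale local A-algebra: A-isomorphic to the localization of an etale
A-algebra at a prime over m. -/
theorem result
    (A S : Type u) [CommRing A] [IsLocalRing A] [IsReduced A] (hA : EGA4.IsExcellent A)
    [CommRing S] [IsLocalRing S] [Algebra A S] [IsLocalHom (algebraMap A S)]
    [Hensel.IsStrictHenselization A S] (D : Subalgebra A S) [IsLocalRing D]
    [IsLocalHom (algebraMap D S)] [IsNoetherianRing D]
    (hfg : ∃ t : Finset (FractionRing D), ∀ x : FractionRing D, ∃ a ∈ nonZeroDivisors A,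
      algebraMap A (FractionRing D) a * x ∈ Algebra.adjoin A (t : Set (FractionRing D)))
    (hm : Ideal.map (algebraMap A D) (maximalIdeal A) = maximalIdeal D) :
    EGA4loc.IsEssentiallyEtale A D := by
  have hAn : IsNoetherianRing A := hA.1
  have hmin : (minimalPrimes A).Finite := minimalPrimes.finite_of_isNoetherianRing A
  obtain ⟨E, hDE, hElocal, hE⟩ := (Groth.Agent.S16441.result A S hmin D).mp hfg
  have hES : IsLocalHom (algebraMap E S) := Groth.Agent.Lib.ShSub6.isLocalHom_of_essEtale_sub E hE
  let _ : Algebra D E := (Subalgebra.inclusion hDE).toRingHom.toAlgebra
  have hDEmap : ∀ d : D, ((algebraMap D E d : E) : S) = (d : S) := fun d => rfl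
  have : IsScalarTower A D E := IsScalarTower.of_algebraMap_eq fun a => by
    apply Subtype.ext
    rw [hDEmap]
    rfl
  have hAD : IsLocalHom (algebraMap A D) := ⟨fun a ha => by
    have h1 : IsUnit (algebraMap D S (algebraMap A D a)) := ha.map (algebraMap D S)
    rw [← IsScalarTower.algebraMap_apply A D S] at h1
    exact (isUnit_map_iff (algebraMap A S) a).mp h1⟩
  have hDEloc : IsLocalHom (algebraMap D E) := ⟨fun d hd => by
    have h1 : IsUnit (algebraMap E S (algebraMap D E d)) := hd.map (algebraMap E S)
    have h2 : algebraMap E S (algebraMap D E d) = algebraMap D S d := rfl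
    rw [h2] at h1
    exact (isUnit_map_iff (algebraMap D S) d).mp h1⟩
  have : Algebra.EssFiniteType A D :=
    Groth.Agent.Lib.EssFiniteTypeSubB61.essFiniteType_of_essEtale A D E hE hm hfg
  exact Groth.Agent.S16438.result A S D hm

end Groth.Agent.S16439
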