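import Groth.Statements.S16443
import Groth.Agent.Lib.FracEssEtale6

set_option autoImplicit false
universe u
open EGA4loc

namespace Groth.Agent.S16443


open Groth.Agent.Lib.FracEssEtale6

/-- The inclusion of an intermediate ring `L` (containing inverses of the nzd of `A`) into `K_E`
is a local homomorphism. -/
theorem isLocalHom_val {A : Type u} (E : Type u) [CommRing A] [IsReduced A]
    (hmin : (minimalPrimes A).Finite)
    [CommRing E] [Algebra A E] [Algebra.EssFiniteType A E] [Algebra.FormallyUnramified A E]
    [Module.Flat A E] (L : Subalgebra A (FractionRing E))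
    (hL : ∀ s ∈ nonZeroDivisors A, ∃ y ∈ L, algebraMap A (FractionRing E) s * y = 1) :
    IsLocalHom (algebraMap L (FractionRing E)) := by
  obtain ⟨hloc, -⟩ := main E hmin
  have hunitL : ∀ s : nonZeroDivisors A, IsUnit (algebraMap A L s) := by
    intro s
    obtain ⟨y, hy, hsy⟩ := hL s s.2
    exact IsUnit.of_mul_eq_one ⟨y, hy⟩ (Subtype.ext hsy)
  let _ : Algebra (FractionRing A) L :=
    (IsLocalization.lift (M := nonZeroDivisors A) (g := algebraMap A L) hunitL).toAlgebra
  have : IsScalarTower A (FractionRing A) L :=
    .of_algebraMap_eq fun x => (IsLocalization.lift_eq hunitL x).symm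
  let _ : Algebra (FractionRing A) (FractionRing E) :=
    ((algebraMap L (FractionRing E)).comp (algebraMap (FractionRing A) L)).toAlgebra
  have : IsScalarTower (FractionRing A) L (FractionRing E) := .of_algebraMap_eq fun x => rfl
  have : IsScalarTower A (FractionRing A) (FractionRing E) := .of_algebraMap_eq fun x => by
    rw [IsScalarTower.algebraMap_apply (FractionRing A) L (FractionRing E),
      ← IsScalarTower.algebraMap_apply A (FractionRing A) L,
      ← IsScalarTower.algebraMap_apply A L (FractionRing E)]
  have hfin : Module.Finite (FractionRing A) (FractionRing E) :=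
    finite_fractionRing_tower E hmin _ _
  have : Algebra.IsIntegral (FractionRing A) (FractionRing E) := inferInstance
  have : Algebra.IsIntegral L (FractionRing E) := Algebra.IsIntegral.tower_top (FractionRing A)
  exact RingHom.IsIntegral.isLocalHom (algebraMap_isIntegral_iff.mpr this) Subtype.val_injective


/-- Let A be a reduced local ring with finitely many minimal prime ideals, E a local ring which is an
essentially etale local A-algebra with local structure map, K_E the total ring of fractions of E,
and L an A-subalgebra of K_E containing an inverse of the image of every non-zero-divisor of A (so L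
is an intermediate ring between the total rings of fractions of A and of E). Then the preimage D of
L in E is (the underlying set of) an A-subalgebra of E which is a local ring with local inclusion
into E — its maximal ideal lies under that of E — and L is the total ring of fractions of D in the
sense that every element of L is the image of an element of D times the inverse of the image of a
non-zero-divisor of A. -/
theorem result
    (A E : Type u) [CommRing A] [IsLocalRing A] [IsReduced A] (hmin : (minimalPrimes A).Finite)
    [CommRing E] [IsLocalRing E] [Algebra A E] [IsLocalHom (algebraMap A E)]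
    (hE : EGA4loc.IsEssentiallyEtale A E) (L : Subalgebra A (FractionRing E))
    (hL : ∀ s ∈ nonZeroDivisors A, ∃ y ∈ L, algebraMap A (FractionRing E) s * y = 1) :
    ∃ D : Subalgebra A E, (D : Set E) = (algebraMap E (FractionRing E)) ⁻¹' (L : Set (FractionRing E)) ∧
      ∃ _ : IsLocalRing D, IsLocalHom (algebraMap D E) ∧
        ∀ l ∈ L, ∃ d ∈ D, ∃ s ∈ nonZeroDivisors A, ∃ y ∈ L,
          algebraMap A (FractionRing E) s * y = 1 ∧ l = algebraMap E (FractionRing E) d * y := by
  obtain ⟨h1, h2, h3⟩ := instances_of_essEtale A E hE
  obtain ⟨hloc, -⟩ := main E hmin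
  have hlocal := isLocalHom_val E hmin L hL
  let D : Subalgebra A E := L.comap (IsScalarTower.toAlgHom A E (FractionRing E))
  have hD : ∀ e : E, e ∈ D ↔ algebraMap E (FractionRing E) e ∈ L := fun e => Iff.rfl
  have hDE : IsLocalHom (algebraMap D E) := by
    refine ⟨fun d hd => ?_⟩
    have hd' : IsUnit (d : E) := hd
    let l : L := ⟨algebraMap E (FractionRing E) d, (hD _).mp d.2⟩
    have hl : IsUnit (algebraMap L (FractionRing E) l) := hd'.map (algebraMap E (FractionRing E))
    have hl' : IsUnit l := hlocal.map_nonunit l hl
    obtain ⟨l', hll'⟩ := hl'.exists_right_inv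
    obtain ⟨d', hdd'⟩ := hd'.exists_right_inv
    have h3 : algebraMap E (FractionRing E) d' = l' := by
      have e1 : algebraMap E (FractionRing E) d * algebraMap E (FractionRing E) d' = 1 := by
        rw [← map_mul, hdd', map_one]
      have e2 : algebraMap E (FractionRing E) d * (l' : FractionRing E) = 1 :=
        congrArg Subtype.val hll'
      calc algebraMap E (FractionRing E) d'
          = (algebraMap E (FractionRing E) d * (l' : FractionRing E)) *
              algebraMap E (FractionRing E) d' := by rw [e2, one_mul]
        _ = (algebraMap E (FractionRing E) d * algebraMap E (FractionRing E) d') * l' := by ring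
        _ = l' := by rw [e1, one_mul]
    have hd'D : d' ∈ D := (hD _).mpr (h3 ▸ l'.2)
    exact IsUnit.of_mul_eq_one ⟨d', hd'D⟩ (Subtype.ext hdd')
  refine ⟨D, rfl, (algebraMap D E).domain_isLocalRing, hDE, ?_⟩
  intro l hl
  obtain ⟨⟨e, s'⟩, hes⟩ := IsLocalization.surj ((nonZeroDivisors A).map (algebraMap A E)) l
  obtain ⟨s, hs, hs'⟩ := s'.2
  obtain ⟨y, hy, hsy⟩ := hL s hs
  have hes' : l * algebraMap A (FractionRing E) s = algebraMap E (FractionRing E) e := by
    rw [IsScalarTower.algebraMap_apply A E (FractionRing E), hs']; exact hes
  refine ⟨e, ?_, s, hs, y, hy, hsy, ?_⟩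
  · rw [hD, ← hes', mul_comm, ← Algebra.smul_def]
    exact L.smul_mem hl s
  · rw [← hes']
    calc l = l * (algebraMap A (FractionRing E) s * y) := by rw [hsy, mul_one]
      _ = l * algebraMap A (FractionRing E) s * y := by ring

end Groth.Agent.S16443
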