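import Groth.Statements.S16444
import Groth.Agent.Lib.FiniteEtaleLocalIso61
import Groth.Agent.Lib.FiniteEtaleLiftLocal

set_option autoImplicit false
universe u
open scoped TensorProduct
open Hensel

namespace Groth.Agent.S16444

open IsLocalRing in
/-- Let A be a complete Noetherian local ring and R → A a local homomorphism from a henselian Noetherian
local ring R inducing a bijection on residue fields. Then every local ring E which is an essentially
etale local A-algebra with local structure map is A-isomorphic to A ⊗_R S for some local ring S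
which is a finite etale R-algebra (its residue field is then that of E). (The published statement
takes R to be a coefficient ring of A, that is a field or an image of a complete p-ring with the
same residue field; its proof uses only that R is henselian with the same residue field as A, which
is the hypothesis made here.) -/
theorem result
    (R A E : Type u) [CommRing R] [HenselianLocalRing R] [IsNoetherianRing R]
    [CommRing A] [IsLocalRing A] [IsNoetherianRing A] [IsAdicComplete (maximalIdeal A) A]
    [Algebra R A] [IsLocalHom (algebraMap R A)]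
    (hres : Function.Bijective (ResidueField.map (algebraMap R A)))
    [CommRing E] [IsLocalRing E] [Algebra A E] [IsLocalHom (algebraMap A E)]
    (hE : EGA4loc.IsEssentiallyEtale A E) :
    ∃ (S : Type u) (_ : CommRing S) (_ : IsLocalRing S) (_ : Algebra R S),
      Module.Finite R S ∧ Algebra.Etale R S ∧ Nonempty (E ≃ₐ[A] A ⊗[R] S) := by
  classical
  have hA : HenselianLocalRing A :=
    Groth.Agent.Lib.FiniteEtaleLocalIso61.henselianLocalRing_of_isAdicComplete A
  obtain ⟨hEfin, hEet⟩ :=
    Groth.Agent.Lib.FiniteEtaleLocalIso61.finite_etale_of_isEssentiallyEtale A E hE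
  -- `E` as an `R`-algebra
  let algRE : Algebra R E := ((algebraMap A E).comp (algebraMap R A)).toAlgebra
  have towRAE : IsScalarTower R A E := IsScalarTower.of_algebraMap_eq fun _ => rfl
  have locRE : IsLocalHom (algebraMap R E) :=
    RingHom.isLocalHom_comp (algebraMap A E) (algebraMap R A)
  -- the residue field of `E` is finite separable over that of `R`
  have towres : IsScalarTower (ResidueField R) (ResidueField A) (ResidueField E) :=
    IsScalarTower.of_algebraMap_eq fun x => by
      obtain ⟨r, rfl⟩ := residue_surjective x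
      rfl
  have hbij : Function.Bijective (algebraMap (ResidueField R) (ResidueField A)) := hres
  have finRA : Module.Finite (ResidueField R) (ResidueField A) :=
    Module.Finite.of_surjective (Algebra.linearMap (ResidueField R) (ResidueField A)) hbij.2
  have sepRA : Algebra.IsSeparable (ResidueField R) (ResidueField A) :=
    Algebra.IsSeparable.of_algHom (ResidueField R) (ResidueField R)
      ((AlgEquiv.ofBijective (Algebra.ofId (ResidueField R) (ResidueField A)) hbij).symm :
        ResidueField A →ₐ[ResidueField R] ResidueField R)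
  have finAE : Module.Finite (ResidueField A) (ResidueField E) := inferInstance
  have sepAE : Algebra.IsSeparable (ResidueField A) (ResidueField E) := inferInstance
  have finRE : FiniteDimensional (ResidueField R) (ResidueField E) :=
    Module.Finite.trans (ResidueField A) (ResidueField E)
  have sepRE : Algebra.IsSeparable (ResidueField R) (ResidueField E) :=
    Algebra.IsSeparable.trans (ResidueField R) (ResidueField A) (ResidueField E)
  obtain ⟨S, hSring, hSloc, hSalg, hSlochom, hSfin, hSet, ⟨ι⟩⟩ :=
    Groth.Agent.Lib.FiniteEtaleLiftLocal.exists_local_finite_etale R (ResidueField E)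
  refine ⟨S, hSring, hSloc, hSalg, hSfin, hSet, ?_⟩
  -- the two surjections onto the residue field of `E`
  let p₁ : E →ₐ[A] ResidueField E := IsScalarTower.toAlgHom A E (ResidueField E)
  have hp₁ : Function.Surjective p₁ := residue_surjective
  have hk₁ : RingHom.ker (p₁ : E →+* ResidueField E) ≤ Ideal.jacobson ⊥ := by
    have h : RingHom.ker (p₁ : E →+* ResidueField E) = maximalIdeal E := ker_residue
    rw [h, IsLocalRing.jacobson_eq_maximalIdeal ⊥ bot_ne_top]
  let σ : S →ₐ[R] ResidueField E :=
    { toRingHom := (ι : ResidueField S →+* ResidueField E).comp (residue S)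
      commutes' := fun r => by
        change ι (residue S (algebraMap R S r)) = algebraMap R (ResidueField E) r
        have h : residue S (algebraMap R S r) =
            algebraMap (ResidueField R) (ResidueField S) (residue R r) := rfl
        rw [h, ι.commutes]
        rfl }
  have hσ : ∀ s, σ s = ι (residue S s) := fun _ => rfl
  have towRAl : IsScalarTower R A (ResidueField E) :=
    IsScalarTower.of_algebraMap_eq fun _ => rfl
  let p₂ : A ⊗[R] S →ₐ[A] ResidueField E :=
    Algebra.TensorProduct.lift (Algebra.ofId A (ResidueField E)) σ (fun _ _ => Commute.all _ _)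
  have hp₂tmul : ∀ (a : A) (s : S), p₂ (a ⊗ₜ[R] s) = algebraMap A (ResidueField E) a * σ s :=
    fun a s => by
      simp only [p₂, Algebra.TensorProduct.lift_tmul]
      rfl
  have hp₂ : Function.Surjective p₂ := by
    intro y
    obtain ⟨z, rfl⟩ := ι.surjective y
    obtain ⟨s, rfl⟩ := residue_surjective z
    exact ⟨1 ⊗ₜ[R] s, by rw [hp₂tmul, map_one, one_mul, hσ]⟩
  -- `R → κ(A)` is surjective
  have F1 : ∀ a : A, ∃ r : R, a - algebraMap R A r ∈ maximalIdeal A := by
    intro a
    obtain ⟨x, hx⟩ := hbij.2 (residue A a)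
    obtain ⟨r, rfl⟩ := residue_surjective x
    refine ⟨r, ?_⟩
    have h : residue A (algebraMap R A r) = residue A a := hx
    exact Ideal.Quotient.eq.mp h.symm
  set I : Ideal (A ⊗[R] S) := Ideal.map (algebraMap A (A ⊗[R] S)) (maximalIdeal A) with hI
  have F2 : ∀ x ∈ I, p₂ x = 0 := by
    have h : I ≤ RingHom.ker (p₂ : A ⊗[R] S →+* ResidueField E) := by
      rw [hI, Ideal.map_le_iff_le_comap]
      intro a ha
      rw [Ideal.mem_comap, RingHom.mem_ker]
      change p₂ (algebraMap A _ a) = 0
      rw [p₂.commutes]
      change residue E (algebraMap A E a) = 0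
      rw [residue_eq_zero_iff]
      exact map_nonunit (algebraMap A E) a ha
    intro x hx
    exact h hx
  have hmtmul : ∀ (m : A) (s : S), m ∈ maximalIdeal A → m ⊗ₜ[R] s ∈ I := by
    intro m s hm
    have h : m ⊗ₜ[R] s = algebraMap A (A ⊗[R] S) m * ((1 : A) ⊗ₜ[R] s) := by
      rw [Algebra.TensorProduct.algebraMap_apply, Algebra.TensorProduct.tmul_mul_tmul]
      simp
    rw [h]
    exact Ideal.mul_mem_right _ _ (Ideal.mem_map_of_mem _ hm)
  have F3 : ∀ x : A ⊗[R] S, ∃ s : S, x - (1 : A) ⊗ₜ[R] s ∈ I := by
    intro x
    induction x using TensorProduct.induction_on with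
    | zero => exact ⟨0, by simp⟩
    | tmul a s =>
      obtain ⟨r, hr⟩ := F1 a
      refine ⟨r • s, ?_⟩
      have h : a ⊗ₜ[R] s - (1 : A) ⊗ₜ[R] (r • s) = (a - algebraMap R A r) ⊗ₜ[R] s := by
        rw [TensorProduct.tmul_smul, TensorProduct.smul_tmul', TensorProduct.sub_tmul,
          Algebra.smul_def, mul_one]
      rw [h]
      exact hmtmul _ _ hr
    | add x y hx hy =>
      obtain ⟨s₁, h₁⟩ := hx
      obtain ⟨s₂, h₂⟩ := hy
      refine ⟨s₁ + s₂, ?_⟩
      have h : x + y - (1 : A) ⊗ₜ[R] (s₁ + s₂) =
          (x - (1 : A) ⊗ₜ[R] s₁) + (y - (1 : A) ⊗ₜ[R] s₂) := by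
        rw [TensorProduct.tmul_add]; ring
      rw [h]
      exact I.add_mem h₁ h₂
  have F5 : ∀ s ∈ maximalIdeal S, (1 : A) ⊗ₜ[R] s ∈ I := by
    have hmS : maximalIdeal S = Ideal.map (algebraMap R S) (maximalIdeal R) :=
      (Algebra.FormallyUnramified.map_maximalIdeal (R := R) (S := S)).symm
    have h : Ideal.map (algebraMap R S) (maximalIdeal R) ≤
        I.comap (Algebra.TensorProduct.includeRight : S →ₐ[R] A ⊗[R] S).toRingHom := by
      rw [Ideal.map_le_iff_le_comap]
      intro r hr
      rw [Ideal.mem_comap, Ideal.mem_comap]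
      change (1 : A) ⊗ₜ[R] (algebraMap R S r) ∈ I
      have h1 : (1 : A) ⊗ₜ[R] (algebraMap R S r) = (algebraMap R A r) ⊗ₜ[R] (1 : S) := by
        rw [Algebra.algebraMap_eq_smul_one, TensorProduct.tmul_smul, TensorProduct.smul_tmul',
          ← Algebra.algebraMap_eq_smul_one]
      rw [h1]
      exact hmtmul _ _ (map_nonunit (algebraMap R A) r hr)
    intro s hs
    rw [hmS] at hs
    exact h hs
  have hk₂ : RingHom.ker (p₂ : A ⊗[R] S →+* ResidueField E) ≤ Ideal.jacobson ⊥ := by
    refine le_trans ?_ (Groth.Agent.Lib.FiniteEtaleHom.map_maximalIdeal_le_jacobson A (A ⊗[R] S))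
    intro x hx
    rw [RingHom.mem_ker] at hx
    obtain ⟨s, hs⟩ := F3 x
    have h1 : p₂ (x - (1 : A) ⊗ₜ[R] s) = 0 := F2 _ hs
    have hx' : p₂ x = 0 := hx
    rw [map_sub, hx', zero_sub, neg_eq_zero, hp₂tmul, map_one, one_mul, hσ] at h1
    have h2 : residue S s = 0 := by
      have := congr(ι.symm $h1)
      rwa [AlgEquiv.symm_apply_apply, map_zero] at this
    have h3 : s ∈ maximalIdeal S := (residue_eq_zero_iff s).mp h2
    have h4 := I.add_mem hs (F5 s h3)
    rwa [sub_add_cancel] at h4
  obtain ⟨e, -⟩ := Groth.Agent.Lib.FiniteEtaleLocalIso61.exists_algEquiv_of_surjective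
    E (A ⊗[R] S) p₁ p₂ hp₁ hp₂ hk₁ hk₂
  exact ⟨e⟩

end Groth.Agent.S16444
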