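import Groth.Statements.S16446
import Groth.Agent.Lib.ShFracInter25

set_option autoImplicit false
universe u
open Hensel

namespace Groth.Agent.S16446

/-- Let A be an excellent henselian reduced local ring, S a strict henselization of A and Q a minimal
prime ideal of S with contraction q to A; let K be the fraction field of S/Q and L the subfield of K
generated over the image of A by a finite subset t of K. Then there is an A-subalgebra E of S, a
local ring and an essentially etale local A-algebra, such that (i) every minimal prime ideal of S
over the ideal qS is generated by its contraction to E, and (ii) every element of S/Q whose image in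
K lies in L is the class of an element of E — so that the intersection of L with S/Q equals its
intersection with the image of E. -/
theorem result
    (A S : Type u) [CommRing A] [HenselianLocalRing A] [IsReduced A] (hA : EGA4.IsExcellent A)
    [CommRing S] [IsLocalRing S] [Algebra A S] [IsLocalHom (algebraMap A S)]
    [Hensel.IsStrictHenselization A S] (Q : Ideal S) (hQ : Q ∈ minimalPrimes S) [Q.IsPrime]
    (t : Finset (FractionRing (S ⧸ Q))) :
    ∃ E : Subalgebra A S, ∃ _ : IsLocalRing E, EGA4loc.IsEssentiallyEtale A E ∧
      (∀ Q' ∈ ((Q.comap (algebraMap A S)).map (algebraMap A S)).minimalPrimes,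
        Q' = Ideal.map (algebraMap E S) (Q'.comap (algebraMap E S))) ∧
      ∀ x : S, algebraMap (S ⧸ Q) (FractionRing (S ⧸ Q)) (Ideal.Quotient.mk Q x) ∈
          Subfield.closure (Set.range (algebraMap A (FractionRing (S ⧸ Q))) ∪
            (t : Set (FractionRing (S ⧸ Q)))) →
        ∃ e ∈ E, Ideal.Quotient.mk Q e = Ideal.Quotient.mk Q x := by
  have hN : IsNoetherianRing A := hA.1
  obtain ⟨E, -, hloc, hdom, hE, hwe, hff, hmin, hcl⟩ :=
    Groth.Agent.Lib.ShFracInter25.exists_essEtale_sub_frac A S Q t ∅
  refine ⟨E, hloc, hE, ?_, ?_⟩
  · intro Q' hQ'
    have : Module.Flat A S :=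
      (Groth.Agent.Lib.StrictHenselization.faithfullyFlat_of_isStrictHenselization A S).toFlat
    have hq : Q.comap (algebraMap A S) ∈ minimalPrimes A :=
      Groth.Agent.S9243.comap_mem_minimalPrimes hQ
    rw [Groth.Agent.S9243.minimalPrimes_map_eq hq] at hQ'
    exact hmin Q' hQ'.1
  · intro x hx
    exact Groth.Agent.Lib.ShFracInter25.exists_mem_of_toK_mem_fracSub Q E (hmin Q hQ) x (hcl hx)

end Groth.Agent.S16446
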