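import Groth.Statements.S16447
import Groth.Agent.Lib.NormFiniteMax61
import Groth.Agent.Lib.InterNormSemilocal61
import Groth.Agent.Lib.FracEssEtale6

set_option autoImplicit false
universe u
open EGA4loc

namespace Groth.Agent.S16447

/-- Let A be a Noetherian reduced local ring, E a local ring which is an essentially etale local
A-algebra with local structure map, K_E the total ring of fractions of E, E' the integral closure of
E in K_E (viewed as an A-subalgebra of K_E), and L an A-subalgebra of K_E containing an inverse of
the image of every non-zero-divisor of A. Let C be the A-subalgebra L ⊓ E' of K_E. Then C is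
integrally closed in L, C has only finitely many maximal ideals, the maximal ideals of C are exactly
the contractions of the maximal ideals of E', and every element of L is an element of C times the
inverse of the image of a non-zero-divisor of A. (The published statement assumes only that A is
reduced; its proof uses that the integral closure of E in K_E has finitely many maximal ideals,
which holds when A is Noetherian and can fail otherwise, so A is taken Noetherian here.) -/
theorem result
    (A E : Type u) [CommRing A] [IsLocalRing A] [IsReduced A] [IsNoetherianRing A]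
    [CommRing E] [IsLocalRing E] [Algebra A E] [IsLocalHom (algebraMap A E)]
    (hE : EGA4loc.IsEssentiallyEtale A E) (L : Subalgebra A (FractionRing E))
    (hL : ∀ s ∈ nonZeroDivisors A, ∃ y ∈ L, algebraMap A (FractionRing E) s * y = 1)
    (C : Subalgebra A (FractionRing E))
    (hC : C = L ⊓ (integralClosure E (FractionRing E)).restrictScalars A) :
    (∀ x ∈ L, IsIntegral C x → x ∈ C) ∧
      {N : Ideal C | N.IsMaximal}.Finite ∧
      (∀ N : Ideal C, N.IsMaximal ↔ ∃ M : Ideal ((integralClosure E (FractionRing E)).restrictScalars A),
          M.IsMaximal ∧ N = M.comap (Subalgebra.inclusion (hC.trans_le inf_le_right))) ∧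
      ∀ l ∈ L, ∃ c ∈ C, ∃ s ∈ nonZeroDivisors A, ∃ y ∈ L,
        algebraMap A (FractionRing E) s * y = 1 ∧ l = c * y := by
  subst hC
  obtain ⟨hft, hfe, hflat⟩ := Groth.Agent.Lib.FracEssEtale6.instances_of_essEtale A E hE
  have hmin : (minimalPrimes A).Finite := minimalPrimes.finite_of_isNoetherianRing A
  have hNE : IsNoetherianRing E := Algebra.EssFiniteType.isNoetherianRing A E
  have hredE : IsReduced E := Groth.Agent.Lib.NormFiniteMax61.isReduced_of_essEtale A E hE
  obtain ⟨hloc, -⟩ := Groth.Agent.Lib.FracEssEtale6.main E hmin
  have hunits : ∀ s : nonZeroDivisors A, IsUnit (algebraMap A (FractionRing E) s) := by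
    intro s
    rw [IsScalarTower.algebraMap_apply A E (FractionRing E)]
    exact IsLocalization.map_units (FractionRing E)
      (⟨algebraMap A E s, Submonoid.mem_map_of_mem _ s.2⟩ :
        (nonZeroDivisors A).map (algebraMap A E))
  let _ : Algebra (FractionRing A) (FractionRing E) :=
    (IsLocalization.lift (M := nonZeroDivisors A) (g := algebraMap A (FractionRing E))
      hunits).toAlgebra
  have hst : IsScalarTower A (FractionRing A) (FractionRing E) :=
    IsScalarTower.of_algebraMap_eq fun a => (IsLocalization.lift_eq _ a).symm
  have hart : IsArtinianRing (FractionRing A) :=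
    Groth.Agent.Lib.FracEssEtale6.isArtinianRing_fractionRing hmin _
  have hfinK : Module.Finite (FractionRing A) (FractionRing E) :=
    Groth.Agent.Lib.FracEssEtale6.finite_fractionRing_tower E hmin (FractionRing E)
      (FractionRing A)
  have hfinMax : Finite (MaximalSpectrum (integralClosure E (FractionRing E))) :=
    Groth.Agent.Lib.NormFiniteMax61.finite_maximalSpectrum_integralClosure E
  have hfinMax' : Finite (MaximalSpectrum
      ↥((integralClosure E (FractionRing E)).restrictScalars A)) := hfinMax
  have hj : ∀ x : ↥(L ⊓ (integralClosure E (FractionRing E)).restrictScalars A),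
      IsUnit ((Subalgebra.inclusion (inf_le_right :
        L ⊓ (integralClosure E (FractionRing E)).restrictScalars A ≤ _)).toRingHom x) →
        IsUnit x := by
    intro x hx
    obtain ⟨u, hu⟩ := hx.exists_right_inv
    have h1 : (x : FractionRing E) * (u : FractionRing E) = 1 := congrArg Subtype.val hu
    have huL : (u : FractionRing E) ∈ L :=
      Groth.Agent.Lib.InterNormSemilocal61.inv_mem_of_artinian (FractionRing A) L hL x.2.1 h1
    exact IsUnit.of_mul_eq_one ⟨u.1, huL, u.2⟩ (Subtype.ext h1)
  let φ : E →+* ↥((integralClosure E (FractionRing E)).restrictScalars A) :=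
    (algebraMap E (FractionRing E)).codRestrict
      ((integralClosure E (FractionRing E)).restrictScalars A)
      (fun e => (integralClosure E (FractionRing E)).algebraMap_mem e)
  have hφ : φ.IsIntegral := by
    intro y
    obtain ⟨p, hp, hpy⟩ := y.2
    refine ⟨p, hp, Subtype.ext ?_⟩
    have h1 := Polynomial.hom_eval₂ p φ
      ((integralClosure E (FractionRing E)).restrictScalars A).val.toRingHom y
    exact h1.trans hpy
  have hmaxcomap : ∀ M : Ideal ↥((integralClosure E (FractionRing E)).restrictScalars A),
      M.IsMaximal → (M.comap (Subalgebra.inclusion (inf_le_right :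
        L ⊓ (integralClosure E (FractionRing E)).restrictScalars A ≤ _)).toRingHom).IsMaximal := by
    intro M hM
    have h := Groth.Agent.Lib.InterNormSemilocal61.isIntegral_quotient_of_local (A := A) φ hφ M
    refine Groth.Agent.Lib.InterNormSemilocal61.isMaximal_comap_of_comp_isIntegral
      (algebraMap A ↥(L ⊓ (integralClosure E (FractionRing E)).restrictScalars A)) _ M ?_
    convert h using 2
    ext a
    exact IsScalarTower.algebraMap_apply A E (FractionRing E) a
  refine ⟨?_, ?_, ?_, ?_⟩
  · intro x hxL hint
    refine ⟨hxL, ?_⟩
    obtain ⟨p, hp, hpx⟩ := hint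
    let ι : ↥(L ⊓ (integralClosure E (FractionRing E)).restrictScalars A) →+*
        ↥(integralClosure E (FractionRing E)) :=
      (Subalgebra.inclusion (inf_le_right :
        L ⊓ (integralClosure E (FractionRing E)).restrictScalars A ≤ _)).toRingHom
    have hx' : IsIntegral (integralClosure E (FractionRing E)) x := by
      refine ⟨p.map ι, hp.map ι, ?_⟩
      rw [Polynomial.eval₂_map]
      exact hpx
    exact isIntegral_trans (R := E) x hx'
  · have hfinset : {M : Ideal ↥((integralClosure E (FractionRing E)).restrictScalars A) |
        M.IsMaximal}.Finite := by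
      have : Finite {M : Ideal ↥((integralClosure E (FractionRing E)).restrictScalars A) |
          M.IsMaximal} :=
        Finite.of_injective (fun M => (⟨M.1, M.2⟩ : MaximalSpectrum
          ↥((integralClosure E (FractionRing E)).restrictScalars A)))
          (fun M M' h => Subtype.ext (congrArg MaximalSpectrum.asIdeal h))
      exact Set.toFinite _
    refine (hfinset.image (Ideal.comap (Subalgebra.inclusion (inf_le_right :
        L ⊓ (integralClosure E (FractionRing E)).restrictScalars A ≤ _)).toRingHom)).subset ?_
    intro N hN
    have hN' : N.IsMaximal := hN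
    obtain ⟨M, hM, hNM⟩ := Groth.Agent.Lib.InterNormSemilocal61.exists_maximal_comap_eq _ hj N
    exact ⟨M, hM, hNM.symm⟩
  · intro N
    constructor
    · intro hN
      obtain ⟨M, hM, hNM⟩ := Groth.Agent.Lib.InterNormSemilocal61.exists_maximal_comap_eq _ hj N
      exact ⟨M, hM, hNM⟩
    · rintro ⟨M, hM, rfl⟩
      exact hmaxcomap M hM
  · intro l hl
    obtain ⟨⟨e, s⟩, h⟩ := IsLocalization.surj ((nonZeroDivisors A).map (algebraMap A E)) l
    obtain ⟨a, ha, has⟩ := s.2
    obtain ⟨y, hyL, hy⟩ := hL a ha
    refine ⟨l * algebraMap A (FractionRing E) a, ⟨L.mul_mem hl (L.algebraMap_mem a), ?_⟩, a, ha,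
      y, hyL, hy, ?_⟩
    · have h2 : l * algebraMap A (FractionRing E) a = algebraMap E (FractionRing E) e := by
        rw [IsScalarTower.algebraMap_apply A E (FractionRing E), has]; exact h
      rw [h2]; exact (integralClosure E (FractionRing E)).algebraMap_mem e
    · rw [mul_assoc, hy, mul_one]

end Groth.Agent.S16447
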