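import Groth.Statements.S16460
-- import your own Groth.Agent.* helpers here

set_option autoImplicit false
universe u
open AdicGr

namespace Groth.Agent.S16460

/-- Let A be a commutative ring with a decreasing filtration by ideals A = F₀ ⊇ F₁ ⊇ F₂ ⊇ … satisfying
F_m·F_n ⊆ F_{m+n}, and assume the filtration is separated, ⋂ₙ Fₙ = 0. If the associated graded ring
⊕ₙ Fₙ/Fₙ₊₁ is an integral domain, then A is an integral domain. -/
theorem result (A : Type u) [CommRing A]
    (𝓕 : FiltBl.IdealFiltration A) (hsep : ⨅ n, 𝓕.F n = ⊥) [IsDomain (AssocGr.GrRing 𝓕)] :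
    IsDomain A := by
  classical
  -- every nonzero element has an order
  have hord : ∀ a : A, a ≠ 0 → ∃ m : ℕ, ∃ ha : a ∈ 𝓕.F m, AssocGr.inDeg 𝓕 m ⟨a, ha⟩ ≠ 0 := by
    intro a ha0
    have hex : ∃ N : ℕ, a ∉ 𝓕.F N := by
      by_contra hcon
      push Not at hcon
      apply ha0
      have : a ∈ ⨅ n, 𝓕.F n := (Ideal.mem_iInf).mpr hcon
      rw [hsep] at this
      exact this
    have h0 : a ∈ 𝓕.F 0 := by rw [𝓕.zero_eq]; trivial
    have hpos : Nat.find hex ≠ 0 := by
      intro h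
      exact (h ▸ Nat.find_spec hex) h0
    obtain ⟨m, hm⟩ := Nat.exists_eq_succ_of_ne_zero hpos
    have hmem : a ∈ 𝓕.F m := by
      by_contra hcon
      have := Nat.find_min' hex hcon
      omega
    refine ⟨m, hmem, fun h => ?_⟩
    rw [AssocGr.inDeg_eq_zero_iff] at h
    have := Nat.find_spec hex
    rw [hm] at this
    exact this h
  have hnt : Nontrivial A := by
    by_contra hcon
    rw [not_nontrivial_iff_subsingleton] at hcon
    have : (1 : AssocGr.GrRing 𝓕) = 0 := by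
      rw [← map_one (algebraMap A (AssocGr.GrRing 𝓕)), Subsingleton.elim (1 : A) 0, map_zero]
    exact one_ne_zero this
  have hnzd : NoZeroDivisors A := by
    refine ⟨fun {a b} hab => ?_⟩
    by_contra hcon
    push Not at hcon
    obtain ⟨m, ha, ha'⟩ := hord a hcon.1
    obtain ⟨n, hb, hb'⟩ := hord b hcon.2
    have hmul := AssocGr.coe_inDeg_mul 𝓕 m n ⟨a, ha⟩ ⟨b, hb⟩
    have h1 : (AssocGr.inDeg 𝓕 m ⟨a, ha⟩ : AssocGr.GrRing 𝓕) ≠ 0 := fun h => ha' (Subtype.ext h)
    have h2 : (AssocGr.inDeg 𝓕 n ⟨b, hb⟩ : AssocGr.GrRing 𝓕) ≠ 0 := fun h => hb' (Subtype.ext h)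
    have h3 := mul_ne_zero h1 h2
    rw [hmul] at h3
    apply h3
    have : (⟨a * b, 𝓕.mul_le m n (Ideal.mul_mem_mul ha hb)⟩ : 𝓕.F (m + n)) = 0 :=
      Subtype.ext hab
    rw [this, map_zero]
    rfl
  exact NoZeroDivisors.to_isDomain A

end Groth.Agent.S16460
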