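import Groth.Statements.S16462
import Groth.Agent.Lib.EdgeOutIso
import Groth.Agent.Lib.RpushQCoh
import Groth.Agent.Lib.RpushRestrict
import Groth.Agent.Lib.AffMorAcyclic
import Groth.Agent.Lib.CechAcyc5
import Groth.Agent.Lib.ModAcyc
import Groth.Agent.S11319
import Groth.Agent.S0865
import Mathlib.CategoryTheory.Sites.Pullback

set_option autoImplicit false
universe u
open Coherent

namespace Groth.Agent.S16462

open CategoryTheory AlgebraicGeometry AlgebraicGeometry.Scheme.Modules in
/-- Let f : X → Y be a quasi-compact quasi-separated morphism of schemes, g : Y → Z an affine morphism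
and M a quasi-coherent O_X-module. Then for every p ≥ 0 the canonical edge morphism R^p (g ∘ f)_* M
→ g_*(R^p f_* M) is an isomorphism (higher direct images as right derived functors of direct image
on O-modules). (The published statement assumes f separated; this row assumes only f
quasi-separated.) -/
theorem result {X Y Z : Scheme.{u}} (f : X ⟶ Y) (g : Y ⟶ Z)
    [QuasiCompact f] [QuasiSeparated f] [IsAffineHom g] [HasInjectiveResolutions X.Modules]
    (M : X.Modules) [Coh.IsQCoh M] (p : ℕ) :
    IsIso (CohBC.lerayEdgeOut f g p M) := by
  have hY : HasInjectiveResolutions Y.Modules :=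
    Groth.Agent.Lib.RpushRestrict.hasInjectiveResolutions Y
  -- module-level acyclicity from the abelian level
  have key : ∀ N : Y.Modules, (∀ q, Limits.IsZero ((Coh.RpushAb g (q + 1)).obj (Coh.toAb N))) →
      Groth.Agent.Lib.DegenComposite.Acyc (pushforward g) N := by
    intro N hN q
    apply Groth.Agent.Lib.RpushRestrict.isZero_of_isZero_toAb
    obtain ⟨e⟩ := Groth.Agent.S11319.result g N (q + 1)
    exact (hN q).of_iso e
  have hpull : Limits.PreservesFiniteLimits
      (Groth.Agent.Lib.CechAcyc5.us (Opens.grothendieckTopology X) (Opens.grothendieckTopology Y)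
        (TopologicalSpace.Opens.map f.base)) :=
    Functor.SmallCategories.instPreservesFiniteLimitsSheafSheafPullbackOfRepresentablyFlat _ _ _ _
  have h1 : ∀ (I : X.Modules) [Injective I],
      Groth.Agent.Lib.DegenComposite.Acyc (pushforward g) ((pushforward f).obj I) := by
    intro I hI
    apply key
    intro q
    exact Groth.Agent.S0865.result (Opens.grothendieckTopology Y) (Opens.grothendieckTopology Z)
      (TopologicalSpace.Opens.map g.base) (Coh.toAb ((pushforward f).obj I))
      (Groth.Agent.Lib.CechAcyc5.isTotallyAcyclic_push (Opens.grothendieckTopology X)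
        (Opens.grothendieckTopology Y) (TopologicalSpace.Opens.map f.base) (Coh.toAb I)
        (@Groth.Agent.Lib.ModAcyc.isTotallyAcyclic_of_injective _ _ _ X.ringCatSheaf I hI)) q
  have h2 : ∀ n, Groth.Agent.Lib.DegenComposite.Acyc (pushforward g)
      (((pushforward f).rightDerived n).obj M) := by
    intro n
    apply key
    intro q
    have hq : ((Coh.Rpush f n).obj M).IsQuasicoherent :=
      Groth.Agent.Lib.RpushQCoh.isQuasicoherent_Rpush f M n inferInstance
    exact Groth.Agent.Lib.AffMorAcyclic.isZero_RpushAb_succ _
      (Groth.Agent.Lib.AffMorAcyclic.isAcyclicOver_toAb (f := g) _ hq) q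
  have h3 : IsIso (RDer.edgeOut (pushforward f) (pushforward g) p M) :=
    Groth.Agent.Lib.EdgeOutIso.isIso_edgeOut' (pushforward f) (pushforward g) M h1 h2 p
  unfold CohBC.lerayEdgeOut
  exact IsIso.comp_isIso' inferInstance h3

end Groth.Agent.S16462
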