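import Groth.Statements.S16474
import Groth.Agent.Lib.TensSummand55b
import Mathlib.Analysis.Complex.Polynomial.Basic

set_option autoImplicit false
open LaurentPolynomial
open ComodTens

namespace Groth.Agent.S16474

open Groth.Agent.Lib.TensSummand55 Groth.Agent.Lib.CoefSubquot Groth.Agent.Lib.GLnInt38

/-- Let r ≥ 1 and let V be a finite-dimensional rational representation of the general linear group GL_r
over the complex numbers (a finite-dimensional comodule over its coordinate Hopf algebra) which is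
homogeneous of some integer degree h, i.e. restricted to the scalar one-parameter subgroup t ↦ t·1
every vector of V has weight h. Then there are natural numbers a, b, c with c > 0 such that V is a
direct summand, as a representation, of ((ℂ^r)^(⊗a))^(⊕b) ⊗ det^(-c): there are equivariant linear
maps i : V → E and p : E → V with p ∘ i the identity, where E is the direct sum of b copies of the
a-th tensor power of the standard representation on ℂ^r, twisted by the (−c)-th power of the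
determinant character. -/
theorem result (r : ℕ) (hr : 0 < r)
    (V : Type) [AddCommGroup V] [Module ℂ V] [Module.Finite ℂ V] (ρ : HopfRep.Comod ℂ (CoordGrp.GLn r ℂ) V)
    (h : ℤ)
    (hh : @HopfRep.eigenspace ℂ ℂ[T;T⁻¹] _ _ _ V _ _
      (GLin.comodAlong (CoordGrp.GLn.diag r ℂ (fun _ => 1)) ρ) (T h) = ⊤) :
    ∃ (a b c : ℕ), 0 < c ∧
      ∃ (i : V →ₗ[ℂ] (Fin b → TensorPower ℂ a (Fin r → ℂ)))
        (p : (Fin b → TensorPower ℂ a (Fin r → ℂ)) →ₗ[ℂ] V),
        p ∘ₗ i = LinearMap.id ∧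
        @Hoch.IsComodHom ℂ _ (CoordGrp.GLn r ℂ) _ _ _ V _ _ ρ (Fin b → TensorPower ℂ a (Fin r → ℂ)) _ _
          (ComodTens.Comod.twist
            (ComodTens.Comod.pi fun _ : Fin b =>
              ComodTens.Comod.tpow (GLin.comodAlong (CoordGrp.Mat.toGLn r ℂ) (ComodTens.stdVec r ℂ)) a)
            (CoordGrp.GLn.Dinv ^ c) (IsGroupLikeElem.pow ⟨CoordGrp.GLn.counit_Dinv, CoordGrp.GLn.comul_Dinv⟩)) i ∧
        @Hoch.IsComodHom ℂ _ (CoordGrp.GLn r ℂ) _ _ _ (Fin b → TensorPower ℂ a (Fin r → ℂ)) _ _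
          (ComodTens.Comod.twist
            (ComodTens.Comod.pi fun _ : Fin b =>
              ComodTens.Comod.tpow (GLin.comodAlong (CoordGrp.Mat.toGLn r ℂ) (ComodTens.stdVec r ℂ)) a)
            (CoordGrp.GLn.Dinv ^ c) (IsGroupLikeElem.pow ⟨CoordGrp.GLn.counit_Dinv, CoordGrp.GLn.comul_Dinv⟩)) V _ _ ρ p := by
  have hh' : ∀ v : V,
      (GLin.comodAlong (CoordGrp.GLn.diag r ℂ fun _ => 1) ρ).coact v = v ⊗ₜ[ℂ] T h := by
    intro v
    have hv : v ∈ @HopfRep.eigenspace ℂ ℂ[T;T⁻¹] _ _ _ V _ _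
        (GLin.comodAlong (CoordGrp.GLn.diag r ℂ (fun _ => 1)) ρ) (T h) := by
      rw [hh]; trivial
    exact hv
  obtain ⟨a, c, hc, hle⟩ := exists_twist_le hr ρ h hh'
  have hdet : IsGroupLikeElem ℂ ((CoordGrp.GLn.det : CoordGrp.GLn r ℂ) ^ c) :=
    IsGroupLikeElem.pow ⟨CoordGrp.GLn.counit_det, CoordGrp.GLn.comul_det⟩
  have hDinv : IsGroupLikeElem ℂ ((CoordGrp.GLn.Dinv : CoordGrp.GLn r ℂ) ^ c) :=
    IsGroupLikeElem.pow ⟨CoordGrp.GLn.counit_Dinv, CoordGrp.GLn.comul_Dinv⟩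
  have hgg : (CoordGrp.GLn.det : CoordGrp.GLn r ℂ) ^ c * CoordGrp.GLn.Dinv ^ c = 1 := by
    rw [← mul_pow, CoordGrp.GLn.det_mul_Dinv, one_pow]
  have hσ : cfS (ComodTens.Comod.twist ρ _ hdet) ≤ cfS (ComodTens.Comod.tpow (stdU r ℂ) a) :=
    cfS_twist_le ρ _ hdet _ hle
  obtain ⟨b, E', τ, q, hq, h1, h2⟩ :=
    exists_subquot_tpow_fixed (stdU r ℂ) a (ComodTens.Comod.twist ρ _ hdet) hσ
  have hss : @HopfRep.IsSemisimpleComod ℂ (CoordGrp.GLn r ℂ) _ _ _ _
      (Fin b → TensorPower ℂ a (Fin r → ℂ)) _ _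
      (ComodTens.Comod.pi fun _ : Fin b => ComodTens.Comod.tpow (stdU r ℂ) a) :=
    @isLinearlyReductive_GLn r ℂ _ _ _ (Fin b → TensorPower ℂ a (Fin r → ℂ)) _ _
      (ComodTens.Comod.pi fun _ : Fin b => ComodTens.Comod.tpow (stdU r ℂ) a) inferInstance
  obtain ⟨i, p, hpi, hi, hp⟩ := exists_section_retraction
    (ComodTens.Comod.pi fun _ : Fin b => ComodTens.Comod.tpow (stdU r ℂ) a) hss
    (ComodTens.Comod.twist ρ _ hdet) E' τ q hq h1 h2
  refine ⟨a, b, c, hc, i, p, hpi, ?_, ?_⟩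
  · exact isComodHom_twist_right ρ _ _ _ hdet hDinv hgg i hi
  · exact isComodHom_twist_left ρ _ _ _ hdet hDinv hgg p hp

end Groth.Agent.S16474
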