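import Groth.Statements.S16478
import Groth.Agent.S13374
import Groth.Agent.Lib.FormalCharP

set_option autoImplicit false
universe u
open GaDual
open scoped TensorProduct

namespace Groth.Agent.S16478

/-- Let A be a commutative ring of prime characteristic p and n ≥ 1, and let φ be the comorphism of the
closed immersion α_{p^n} → G_a over A: the bialgebra map from the Hopf algebra of the additive group
(generator t primitive) to A[x]/(x^(p^n)) (x primitive) sending t to x. Then the restriction map on
characters, from those of the additive group over A to those of α_{p^n} over A, is surjective: every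
group-like element of A[x]/(x^(p^n)) is the image under φ of a group-like element of the Hopf
algebra of the additive group. -/
theorem result (p : ℕ) [Fact p.Prime] (A : Type u) [CommRing A] [CharP A p]
    (n : ℕ) (hn : 1 ≤ n) (φ : SekSuwa.A A 0 →ₐc[A] AlphaPn.A p n A) (hφ : φ SekSuwa.A.t = AlphaPn.x p n A)
    (u : AlphaPn.A p n A) (hu : IsGroupLikeElem A u) :
    ∃ g : SekSuwa.A A 0, IsGroupLikeElem A g ∧ φ g = u := by
  classical
  rcases subsingleton_or_nontrivial A with hA | hA
  · have : Subsingleton (AlphaPn.A p n A) := Module.subsingleton A _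
    exact ⟨1, IsGroupLikeElem.one, Subsingleton.elim _ _⟩
  -- a representative of degree `< p ^ n`
  obtain ⟨f0, rfl⟩ := AlphaPn.mk_surjective p n A u
  have hmonic : ((Polynomial.X : Polynomial A) ^ (p ^ n)).Monic := Polynomial.monic_X_pow _
  have hpn : p ^ n ≠ 0 := pow_ne_zero n (Fact.out : p.Prime).ne_zero
  have hne1 : ((Polynomial.X : Polynomial A) ^ (p ^ n)) ≠ 1 := by
    intro h
    have := congrArg Polynomial.natDegree h
    rw [Polynomial.natDegree_X_pow, Polynomial.natDegree_one] at this
    exact hpn this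
  set f : Polynomial A := f0 %ₘ (Polynomial.X ^ (p ^ n)) with hf
  have hdeg : f.natDegree < p ^ n := by
    have := Polynomial.natDegree_modByMonic_lt f0 hmonic hne1
    rwa [Polynomial.natDegree_X_pow] at this
  have hmk : AlphaPn.mk p n A f0 = AlphaPn.mk p n A f := by
    have h1 := Polynomial.modByMonic_add_div f0 (q := (Polynomial.X : Polynomial A) ^ (p ^ n))
    have h2 : AlphaPn.mk p n A ((Polynomial.X : Polynomial A) ^ (p ^ n)) = 0 := by
      rw [map_pow, AlphaPn.mk_X, AlphaPn.x_pow]
    conv_lhs => rw [← h1]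
    rw [map_add, map_mul, h2, zero_mul, add_zero]
  rw [hmk] at hu ⊢
  have hx : AlphaPn.mk p n A f = Polynomial.aeval (AlphaPn.x p n A) f := (AlphaPn.aeval_x p n A f).symm
  -- counit
  have h0 : f.eval 0 = 1 := by
    have h1 := hu.counit_eq_one
    rw [hx] at h1
    have h2 := Polynomial.aeval_algHom_apply (Bialgebra.counitAlgHom A (AlphaPn.A p n A))
      (AlphaPn.x p n A) f
    rw [Bialgebra.counitAlgHom_apply, Bialgebra.counitAlgHom_apply, AlphaPn.counit_x, h1] at h2
    rw [← h2, Polynomial.coe_aeval_eq_eval]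
  -- comultiplication, transported to the quotient of the polynomial ring
  have hmul : Ideal.Quotient.mk
        (Ideal.span {(MvPolynomial.X 0 ^ p ^ n : MvPolynomial (Fin 2) A), MvPolynomial.X 1 ^ p ^ n})
        (Polynomial.aeval (MvPolynomial.X 0 + MvPolynomial.X 1 : MvPolynomial (Fin 2) A) f) =
      Ideal.Quotient.mk
        (Ideal.span {(MvPolynomial.X 0 ^ p ^ n : MvPolynomial (Fin 2) A), MvPolynomial.X 1 ^ p ^ n})
        (Polynomial.aeval (MvPolynomial.X 0 : MvPolynomial (Fin 2) A) f *
          Polynomial.aeval (MvPolynomial.X 1 : MvPolynomial (Fin 2) A) f) := by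
    set I : Ideal (MvPolynomial (Fin 2) A) :=
      Ideal.span {(MvPolynomial.X 0 ^ p ^ n : MvPolynomial (Fin 2) A), MvPolynomial.X 1 ^ p ^ n}
      with hI
    have hI0 : (Ideal.Quotient.mkₐ A I (MvPolynomial.X 0)) ^ (p ^ n) = 0 := by
      rw [← map_pow, Ideal.Quotient.mkₐ_eq_mk]
      exact Ideal.Quotient.eq_zero_iff_mem.mpr (Ideal.subset_span (by simp))
    have hI1 : (Ideal.Quotient.mkₐ A I (MvPolynomial.X 1)) ^ (p ^ n) = 0 := by
      rw [← map_pow, Ideal.Quotient.mkₐ_eq_mk]
      exact Ideal.Quotient.eq_zero_iff_mem.mpr (Ideal.subset_span (by simp))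
    let ψ0 := AlphaPn.lift p n A (Ideal.Quotient.mkₐ A I (MvPolynomial.X 0)) hI0
    let ψ1 := AlphaPn.lift p n A (Ideal.Quotient.mkₐ A I (MvPolynomial.X 1)) hI1
    let Ψ := Algebra.TensorProduct.productMap ψ0 ψ1
    have h1 := congrArg Ψ hu.comul_eq_tmul_self
    rw [Algebra.TensorProduct.productMap_apply_tmul, hx] at h1
    have h2 := Polynomial.aeval_algHom_apply (Bialgebra.comulAlgHom A (AlphaPn.A p n A))
      (AlphaPn.x p n A) f
    rw [Bialgebra.comulAlgHom_apply, Bialgebra.comulAlgHom_apply, AlphaPn.comul_x] at h2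
    rw [← h2, ← Polynomial.aeval_algHom_apply, ← Polynomial.aeval_algHom_apply,
      ← Polynomial.aeval_algHom_apply, map_add, Algebra.TensorProduct.productMap_apply_tmul,
      Algebra.TensorProduct.productMap_apply_tmul, map_one, map_one, mul_one, one_mul,
      AlphaPn.lift_x, AlphaPn.lift_x, ← map_add, Polynomial.aeval_algHom_apply,
      Polynomial.aeval_algHom_apply, Polynomial.aeval_algHom_apply, ← map_mul] at h1
    exact h1
  obtain ⟨a, ha, hfa⟩ := Groth.Agent.S13374.result p A n f hdeg h0 hmul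
  have hrel : Groth.Agent.Lib.FormalChar.Rel (fun k => f.coeff k) := by
    have := Groth.Agent.Lib.FormalCharP.rel_prod a ha n
    rw [hfa]
    exact this
  refine ⟨Polynomial.aeval (SekSuwa.A.t : SekSuwa.A A 0) f, ⟨?_, ?_⟩, ?_⟩
  · have h2 := Polynomial.aeval_algHom_apply (Bialgebra.counitAlgHom A (SekSuwa.A A 0))
      (SekSuwa.A.t : SekSuwa.A A 0) f
    rw [Bialgebra.counitAlgHom_apply, Bialgebra.counitAlgHom_apply, SekSuwa.A.counit_t] at h2
    rw [← h2, Polynomial.coe_aeval_eq_eval, h0]
  · have h2 := Polynomial.aeval_algHom_apply (Bialgebra.comulAlgHom A (SekSuwa.A A 0))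
      (SekSuwa.A.t : SekSuwa.A A 0) f
    rw [Bialgebra.comulAlgHom_apply, Bialgebra.comulAlgHom_apply, SekSuwa.A.comul_t, zero_smul,
      add_zero] at h2
    rw [← h2, Groth.Agent.Lib.FormalChar.aeval_add_of_rel f hrel]
    have e1 : (SekSuwa.A.t : SekSuwa.A A 0) ⊗ₜ[A] (1 : SekSuwa.A A 0) =
        Algebra.TensorProduct.includeLeft (R := A) (S := A) (SekSuwa.A.t : SekSuwa.A A 0) := rfl
    have e2 : (1 : SekSuwa.A A 0) ⊗ₜ[A] (SekSuwa.A.t : SekSuwa.A A 0) =
        Algebra.TensorProduct.includeRight (R := A) (SekSuwa.A.t : SekSuwa.A A 0) := rfl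
    rw [e1, e2, Polynomial.aeval_algHom_apply, Polynomial.aeval_algHom_apply,
      Algebra.TensorProduct.includeLeft_apply, Algebra.TensorProduct.includeRight_apply,
      Algebra.TensorProduct.tmul_mul_tmul, mul_one, one_mul]
  · rw [← Polynomial.aeval_algHom_apply, hφ, hx]

end Groth.Agent.S16478
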