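import Mathlib
import Groth.Statements.S16482
-- import your own Groth.Agent.* helpers here

set_option autoImplicit false
open CategoryTheory CategoryTheory.Limits AlgebraicGeometry
universe u
open FrobSch

namespace Groth.Agent.S16482

/-- On a reduced scheme of characteristic `p`, the absolute Frobenius is an epimorphism: the
equalizer of `g₁, g₂` is an immersion through which the (surjective) Frobenius factors, hence a
surjective closed immersion into a reduced scheme, hence an isomorphism. -/
theorem eq_of_frob_comp_eq (p : ℕ) [Fact p.Prime] {Y Z : Scheme.{u}} [FrobSch.IsCharP Y p]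
    [IsReduced Y] (g₁ g₂ : Y ⟶ Z) (key : FrobSch.frob Y p ≫ g₁ = FrobSch.frob Y p ≫ g₂) :
    g₁ = g₂ := by
  have hsurj : Surjective (equalizer.ι g₁ g₂) := by
    refine ⟨fun y => ⟨(equalizer.lift (FrobSch.frob Y p) key) y, ?_⟩⟩
    rw [← Scheme.Hom.comp_apply, equalizer.lift_ι]
    rfl
  have hcl : IsClosedImmersion (equalizer.ι g₁ g₂) := by
    refine .of_isPreimmersion _ ?_
    rw [(equalizer.ι g₁ g₂).surjective.range_eq]
    exact isClosed_univ
  have := isIso_of_isClosedImmersion_of_surjective (equalizer.ι g₁ g₂)
  rw [← cancel_epi (equalizer.ι g₁ g₂)]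
  exact equalizer.condition _ _

/-- Let p be a prime and S a reduced scheme on which p = 0 whose absolute Frobenius is flat; let Y be a
reduced S-scheme with structure map a, Z an S-scheme with structure map b, and g₁, g₂ : Y ⟶ Z two
S-morphisms. For i = 1, 2 let h_i : Y ⟶ Z^(p) be the relative Frobenius F_{Y/S} : Y ⟶ Y^(p) followed
by the base change Y^(p) ⟶ Z^(p) of g_i along the absolute Frobenius of S. If h₁ = h₂, then g₁ = g₂.
(The published statement works over the reduced special fibre of a flat formal scheme of finite type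
over the Witt vectors of a perfect field; only reducedness of S and flatness of its absolute
Frobenius are kept here.) -/
theorem result (p : ℕ) [Fact p.Prime]
    {Y Z S : Scheme.{u}} [FrobSch.IsCharP S p] [IsReduced S] [Flat (FrobSch.frob S p)]
    [IsReduced Y] (a : Y ⟶ S) (b : Z ⟶ S) (g₁ g₂ : Y ⟶ Z) (hg₁ : g₁ ≫ b = a) (hg₂ : g₂ ≫ b = a)
    (h : FrobSch.relFrob a p ≫ pullback.map a (FrobSch.frob S p) b (FrobSch.frob S p) g₁ (𝟙 S) (𝟙 S)
        ((Category.comp_id a).trans hg₁.symm) ((Category.comp_id _).trans (Category.id_comp _).symm) =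
      FrobSch.relFrob a p ≫ pullback.map a (FrobSch.frob S p) b (FrobSch.frob S p) g₂ (𝟙 S) (𝟙 S)
        ((Category.comp_id a).trans hg₂.symm) ((Category.comp_id _).trans (Category.id_comp _).symm)) :
    g₁ = g₂ := by
  have : FrobSch.IsCharP Y p := FrobSch.IsCharP.of_hom a p
  apply eq_of_frob_comp_eq p
  have := congrArg (· ≫ pullback.fst b (FrobSch.frob S p)) h
  simp only [Category.assoc, pullback.map] at this
  rw [pullback.lift_fst, pullback.lift_fst, relFrob_fst_assoc, relFrob_fst_assoc] at this
  exact this

end Groth.Agent.S16482
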