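import Groth.Statements.S16483
import Mathlib

set_option autoImplicit false
open CategoryTheory CategoryTheory.Limits AlgebraicGeometry
universe u
open FrobSch

namespace Groth.Agent.S16483

/-- Let p be a prime, k a perfect field of characteristic p, T a k-scheme and X a k-scheme with
Frobenius twist X^(p) = X ×_{Spec k, F} Spec k and relative Frobenius F_{X/k} : X ⟶ X^(p). For m ≥ 0
write T^(m) for the closed subscheme of T cut out by the sections whose p^m-th power vanishes (the
scheme-theoretic image of the m-fold absolute Frobenius F_T^m), and T_0 for the reduced closed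
subscheme of T; the inclusions T_0 ⟶ T^(n+1) and T_0 ⟶ T^(n) over T are the given morphisms i and j.
Then for every k-morphism w : T^(n+1) ⟶ X there is a k-morphism v : T^(n) ⟶ X^(p) whose restriction
to T_0 is F_{X/k} composed with the restriction of w to T_0. (The published statement takes T to be
the special fibre of a flat p-adic formal scheme of finite type over the Witt vectors of k, is
phrased for categories of such objects, and takes X locally of finite type over k; none of this is
used, so T and X are arbitrary k-schemes here.) -/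
theorem result (p : ℕ) [Fact p.Prime]
    (k : Type u) [Field k] [CharP k p] [PerfectField k] (n : ℕ)
    {T X : Scheme.{u}} [FrobSch.IsCharP T p] (t : T ⟶ Spec (CommRingCat.of k))
    (x : X ⟶ Spec (CommRingCat.of k))
    (i : T.nilradical.subscheme ⟶ (FrobSch.frobIter T p (n + 1)).ker.subscheme)
    (hi : i ≫ (FrobSch.frobIter T p (n + 1)).ker.subschemeι = T.nilradical.subschemeι)
    (j : T.nilradical.subscheme ⟶ (FrobSch.frobIter T p n).ker.subscheme)
    (hj : j ≫ (FrobSch.frobIter T p n).ker.subschemeι = T.nilradical.subschemeι)
    (w : (FrobSch.frobIter T p (n + 1)).ker.subscheme ⟶ X)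
    (hw : w ≫ x = (FrobSch.frobIter T p (n + 1)).ker.subschemeι ≫ t) :
    ∃ v : (FrobSch.frobIter T p n).ker.subscheme ⟶ FrobSch.frobTwist x p,
      v ≫ pullback.snd x (FrobSch.frob (Spec (CommRingCat.of k)) p) =
          (FrobSch.frobIter T p n).ker.subschemeι ≫ t ∧
        j ≫ v = i ≫ w ≫ FrobSch.relFrob x p := by
  haveI : IsCharP X p := IsCharP.of_hom x p
  haveI : IsCharP T.nilradical.subscheme p := IsCharP.of_hom T.nilradical.subschemeι p
  haveI : IsCharP (FrobSch.frobIter T p n).ker.subscheme p :=
    IsCharP.of_hom (FrobSch.frobIter T p n).ker.subschemeι p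
  haveI : IsCharP (FrobSch.frobIter T p (n + 1)).ker.subscheme p :=
    IsCharP.of_hom (FrobSch.frobIter T p (n + 1)).ker.subschemeι p
  have H : (FrobSch.frobIter T p (n + 1)).ker ≤ (FrobSch.frobIter T p n).ker.map (frob T p) := by
    rw [Scheme.IdealSheafData.map_ker, ← frob_comp, ← frobIter_succ]
  let φ := Scheme.IdealSheafData.subschemeMap (FrobSch.frobIter T p n).ker
    (FrobSch.frobIter T p (n + 1)).ker (frob T p) H
  have hφ : φ ≫ (FrobSch.frobIter T p (n + 1)).ker.subschemeι =
      (FrobSch.frobIter T p n).ker.subschemeι ≫ frob T p :=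
    Scheme.IdealSheafData.subschemeMap_subschemeι _ _ _ _
  have hcond : (φ ≫ w) ≫ x = ((FrobSch.frobIter T p n).ker.subschemeι ≫ t) ≫
      frob (Spec (CommRingCat.of k)) p := by
    rw [Category.assoc, hw, ← Category.assoc, hφ, Category.assoc, Category.assoc, frob_comp]
  refine ⟨pullback.lift (φ ≫ w) ((FrobSch.frobIter T p n).ker.subschemeι ≫ t) hcond,
    pullback.lift_snd _ _ _, ?_⟩
  have hjφ : j ≫ φ = frob T.nilradical.subscheme p ≫ i := by
    rw [← cancel_mono (FrobSch.frobIter T p (n + 1)).ker.subschemeι, Category.assoc, hφ,
      ← Category.assoc, hj, Category.assoc, hi, frob_comp]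
  apply pullback.hom_ext
  · rw [Category.assoc, pullback.lift_fst, Category.assoc, Category.assoc, relFrob_fst,
      ← Category.assoc, hjφ, Category.assoc, ← frob_comp p w, frob_comp_assoc]
  · rw [Category.assoc, pullback.lift_snd, Category.assoc, Category.assoc, relFrob_snd, hw,
      ← Category.assoc, hj, ← Category.assoc, hi]

end Groth.Agent.S16483
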