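import Groth.Statements.S16488
import Groth.Agent.Lib.HomSh53e
import Groth.Agent.Lib.H87Reflexive
import Groth.Agent.Lib.FibreFreeSch88

set_option autoImplicit false
universe u
open CategoryTheory CategoryTheory.Limits AlgebraicGeometry TopologicalSpace
open VBPn

namespace Groth.Agent.S16488

theorem le_two_of_not_three_le (d : WithBot ℕ∞) (h : ¬ (3 : WithBot ℕ∞) ≤ d) : d ≤ 2 := by
  induction d using WithBot.recBotCoe with
  | bot => exact bot_le
  | coe n =>
    rw [show (2 : WithBot ℕ∞) = ((2 : ℕ∞) : WithBot ℕ∞) from rfl, WithBot.coe_le_coe]
    rw [show (3 : WithBot ℕ∞) = ((3 : ℕ∞) : WithBot ℕ∞) from rfl, WithBot.coe_le_coe] at h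
    induction n using ENat.recTopCoe with
    | top => exact absurd le_top h
    | coe n =>
      have h' : ¬ (3 : ℕ) ≤ n := by
        intro h3
        apply h
        exact_mod_cast h3
      have h'' : n ≤ 2 := by omega
      exact_mod_cast h''


/-- Let X be an integral locally Noetherian scheme all of whose local rings are regular, and F a
coherent O_X-module which is reflexive, i.e. the canonical map F → F^** is an isomorphism. Then the
singularity set of F (the set of points at which the stalk of F is not free) has codimension at
least 3: for every point x such that F_x is not a free O_{X,x}-module, the local ring O_{X,x} has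
dimension at least 3. The published statement is for reflexive coherent analytic sheaves on a
complex manifold; this row is its statement for coherent sheaves on a regular integral locally
Noetherian scheme, where the same argument (a reflexive sheaf is locally a second syzygy sheaf)
applies. -/
theorem result (X : Scheme.{u}) [IsIntegral X] [IsLocallyNoetherian X]
    (hreg : ∀ x : X, IsRegularLocalRing (X.presheaf.stalk x)) (F : X.Modules) (hF : Coh.IsCoh F)
    (hrefl : RefHull.IsReflexive F) (x : X) (hx : ¬ Module.Free (X.presheaf.stalk x) (F.presheaf.stalk x)) :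
    (3 : WithBot ℕ∞) ≤ ringKrullDim (X.presheaf.stalk x) := by
  by_contra hdim
  have hdim2 : ringKrullDim (X.presheaf.stalk x) ≤ 2 := le_two_of_not_three_le _ hdim
  have hFP : CohB1.IsFP F := Groth.Agent.Lib.HomSh53.isFP_of_isCoh hF
  have hreflAt := (Groth.Agent.Lib.HomSh53.isReflexive_iff_forall_isReflexiveAt hF).mp hrefl
  haveI := hreg x
  haveI : Module.Finite (X.presheaf.stalk x) (F.presheaf.stalk x) := by
    have := Groth.Agent.Lib.FibreFreeSch88.finitePresentation_stalk_of_isFP F hFP x
    infer_instance
  haveI : Module.IsReflexive (X.presheaf.stalk x) (F.presheaf.stalk x) := hreflAt x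
  exact hx (Groth.Agent.Lib.H87Reflexive.free_of_isReflexive_of_dim_le_two _ hdim2 _)

end Groth.Agent.S16488
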