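import Groth.Statements.S16498
import Mathlib.Tactic
import Mathlib.Data.Nat.Choose.Lucas
import Mathlib.Algebra.CharP.Basic
import Mathlib.Algebra.Polynomial.Degree.Support
-- import your own Groth.Agent.* helpers here

set_option autoImplicit false
universe u
open Curves

namespace Groth.Agent.S16498

section Helpers

open Polynomial

theorem coeff_comp_X_add_C {k : Type u} [Field k] (F : Polynomial k) (α : k) (m M : ℕ)
    (hM : F.natDegree < M) :
    (F.comp (X + C α)).coeff m =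
      ∑ l ∈ Finset.range M, F.coeff l * ((l.choose m : ℕ) : k) * α ^ (l - m) := by
  conv_lhs => rw [F.as_sum_range' M hM]
  rw [Polynomial.sum_comp, Polynomial.finsetSum_coeff]
  apply Finset.sum_congr rfl
  intro l _
  rw [Polynomial.monomial_comp, Polynomial.coeff_C_mul, Polynomial.coeff_X_add_C_pow]
  ring

theorem digits_div (p I J : ℕ) (hp : 0 < p) (hJ : J + 1 ≤ p) :
    ((I + 1) * p - (J + 1)) / p = I ∧ ((I + 1) * p - (J + 1)) % p = p - (J + 1) := by
  have h : (I + 1) * p - (J + 1) = (p - (J + 1)) + I * p := by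
    rw [Nat.add_mul, one_mul]
    omega
  have hlt : p - (J + 1) < p := by omega
  rw [h]
  constructor
  · rw [Nat.add_mul_div_right _ _ hp, Nat.div_eq_of_lt hlt, zero_add]
  · rw [Nat.add_mul_mod_self_right, Nat.mod_eq_of_lt hlt]

theorem lucas_cast (k : Type u) [Field k] (p : ℕ) [Fact p.Prime] [CharP k p] (l m : ℕ) :
    ((l.choose m : ℕ) : k) =
      (((l % p).choose (m % p) : ℕ) : k) * (((l / p).choose (m / p) : ℕ) : k) := by
  rw [← Nat.cast_mul]
  exact (CharP.natCast_eq_natCast k p).mpr Choose.choose_modEq_choose_mod_mul_choose_div_nat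

end Helpers

/-- Let k be a field of odd characteristic p, g ≤ p a natural number, f ∈ k[x] of degree at most 2g + 2,
and α ∈ k. Write f^((p-1)/2) = Σ_l c_l x^l and f(x + α)^((p-1)/2) = Σ_l d_l x^l, and form the g × g
Cartier–Manin matrices (c_{ip-j}) and (d_{ip-j}), indices i, j = 1, …, g (below written with i, j
ranging over Fin g, so that the entry at (i, j) is the coefficient of x^((i+1)p-(j+1))). Then
(d_{ip-j}) = L · (c_{ip-j}) · U with L_{i,I} = binom(I-1, i-1) α^((I-i)p) and U_{J,j} = binom(p-J,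
p-j) α^(j-J); both L and U are unitriangular since a binomial coefficient vanishes when its lower
index exceeds its upper index. (The source works over a perfect field, with f separable of degree 2g
+ 2 and α ∈ k^* a root of f, hypotheses this identity does not use.) -/
theorem result (k : Type u) [Field k] (p : ℕ) [Fact p.Prime] (hp : p ≠ 2) [CharP k p]
    (g : ℕ) (hg : g ≤ p) (f : Polynomial k) (hf : f.natDegree ≤ 2 * g + 2) (α : k) :
    (Matrix.of fun i j : Fin g =>
        ((f.comp (Polynomial.X + Polynomial.C α)) ^ ((p - 1) / 2)).coeff (((i : ℕ) + 1) * p - ((j : ℕ) + 1))) =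
      (Matrix.of fun i I : Fin g => (((I : ℕ).choose (i : ℕ) : ℕ) : k) * α ^ (((I : ℕ) - (i : ℕ)) * p)) *
        (Matrix.of fun i j : Fin g => (f ^ ((p - 1) / 2)).coeff (((i : ℕ) + 1) * p - ((j : ℕ) + 1))) *
        (Matrix.of fun J j : Fin g => (((p - ((J : ℕ) + 1)).choose (p - ((j : ℕ) + 1)) : ℕ) : k) * α ^ ((j : ℕ) - (J : ℕ))) := by
  classical
  have hp0 : 0 < p := (Fact.out : p.Prime).pos
  have hdeg : (f ^ ((p - 1) / 2)).natDegree < (g + 1) * p := by
    calc (f ^ ((p - 1) / 2)).natDegree ≤ ((p - 1) / 2) * f.natDegree := Polynomial.natDegree_pow_le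
      _ ≤ ((p - 1) / 2) * (2 * g + 2) := Nat.mul_le_mul_left _ hf
      _ = (((p - 1) / 2) * 2) * (g + 1) := by ring
      _ ≤ (p - 1) * (g + 1) := Nat.mul_le_mul_right _ (Nat.div_mul_le_self _ _)
      _ < p * (g + 1) := Nat.mul_lt_mul_of_pos_right (by omega) (by omega)
      _ = (g + 1) * p := by ring
  ext i j
  rw [Matrix.of_apply, ← Polynomial.pow_comp,
    coeff_comp_X_add_C (f ^ ((p - 1) / 2)) α _ ((g + 1) * p) hdeg]
  have hR : ((Matrix.of fun i I : Fin g => (((I : ℕ).choose (i : ℕ) : ℕ) : k) * α ^ (((I : ℕ) - (i : ℕ)) * p)) *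
        (Matrix.of fun i j : Fin g => (f ^ ((p - 1) / 2)).coeff (((i : ℕ) + 1) * p - ((j : ℕ) + 1))) *
        (Matrix.of fun J j : Fin g => (((p - ((J : ℕ) + 1)).choose (p - ((j : ℕ) + 1)) : ℕ) : k) * α ^ ((j : ℕ) - (J : ℕ)))) i j =
      ∑ x : Fin g × Fin g, ((((x.1 : ℕ).choose (i : ℕ) : ℕ) : k) * α ^ (((x.1 : ℕ) - (i : ℕ)) * p)) *
        (f ^ ((p - 1) / 2)).coeff (((x.1 : ℕ) + 1) * p - ((x.2 : ℕ) + 1)) *
        ((((p - ((x.2 : ℕ) + 1)).choose (p - ((j : ℕ) + 1)) : ℕ) : k) * α ^ ((j : ℕ) - (x.2 : ℕ))) := by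
    simp only [Matrix.mul_apply, Matrix.of_apply, Finset.sum_mul]
    rw [Finset.sum_comm, Fintype.sum_prod_type]
  rw [hR]
  symm
  have hdeg' : (f ^ ((p - 1) / 2)).natDegree + (g + 1) ≤ g * p + p := by
    have h1 : (f ^ ((p - 1) / 2)).natDegree ≤ (p - 1) * (g + 1) := by
      calc (f ^ ((p - 1) / 2)).natDegree ≤ ((p - 1) / 2) * f.natDegree := Polynomial.natDegree_pow_le
        _ ≤ ((p - 1) / 2) * (2 * g + 2) := Nat.mul_le_mul_left _ hf
        _ = (((p - 1) / 2) * 2) * (g + 1) := by ring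
        _ ≤ (p - 1) * (g + 1) := Nat.mul_le_mul_right _ (Nat.div_mul_le_self _ _)
    have h2 : (p - 1) * (g + 1) + (g + 1) = g * p + p := by
      have : (p - 1 + 1) * (g + 1) = g * p + p := by
        rw [Nat.sub_add_cancel hp0]; ring
      rw [← this]; ring
    omega
  have hi : (i : ℕ) < g := i.2
  have hj : (j : ℕ) < g := j.2
  have hm := digits_div p i j hp0 (by omega)
  apply Finset.sum_of_injOn (fun x : Fin g × Fin g => ((x.1 : ℕ) + 1) * p - ((x.2 : ℕ) + 1))
  · -- InjOn
    intro x _ y _ hxy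
    simp only at hxy
    have hx := digits_div p x.1 x.2 hp0 (by have := x.2.2; omega)
    have hy := digits_div p y.1 y.2 hp0 (by have := y.2.2; omega)
    rw [hxy] at hx
    have h1 : (x.1 : ℕ) = y.1 := hx.1.symm.trans hy.1
    have h2 : p - ((x.2 : ℕ) + 1) = p - ((y.2 : ℕ) + 1) := hx.2.symm.trans hy.2
    have h3 : (x.2 : ℕ) = y.2 := by have := x.2.2; have := y.2.2; omega
    exact Prod.ext (Fin.ext h1) (Fin.ext h3)
  · -- MapsTo
    intro x _
    simp only [Finset.coe_range, Set.mem_Iio]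
    have h1 : ((x.1 : ℕ) + 1) * p ≤ g * p := Nat.mul_le_mul_right _ (by have := x.1.2; omega)
    have h2 : (g + 1) * p = g * p + p := by ring
    omega
  · -- vanishing outside the image
    intro l hl hnot
    by_contra hne
    apply hnot
    have hc : (f ^ ((p - 1) / 2)).coeff l ≠ 0 := by
      intro h0; apply hne; rw [h0]; ring
    have hch : (((l.choose (((i : ℕ) + 1) * p - ((j : ℕ) + 1)) : ℕ) : k)) ≠ 0 := by
      intro h0; apply hne; rw [h0]; ring
    rw [lucas_cast k p, hm.1, hm.2] at hch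
    have hch1 : (l % p).choose (p - ((j : ℕ) + 1)) ≠ 0 := by
      intro h0; apply hch; rw [h0]; simp
    have hmod : p - ((j : ℕ) + 1) ≤ l % p := by
      by_contra hlt
      exact hch1 (Nat.choose_eq_zero_of_lt (by omega))
    have hle : l ≤ (f ^ ((p - 1) / 2)).natDegree := Polynomial.le_natDegree_of_ne_zero hc
    have hdm : l = (l / p) * p + l % p := (Nat.div_add_mod' l p).symm
    have hmodlt : l % p < p := Nat.mod_lt _ hp0
    have hI : l / p < g := by
      by_contra hge
      have hge' : g * p ≤ (l / p) * p := Nat.mul_le_mul_right _ (by omega)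
      omega
    have hJ : p - 1 - l % p < g := by omega
    refine ⟨(⟨l / p, hI⟩, ⟨p - 1 - l % p, hJ⟩), Finset.mem_coe.2 (Finset.mem_univ _), ?_⟩
    simp only
    have h2 : (l / p + 1) * p = (l / p) * p + p := by ring
    omega
  · -- equality of terms
    intro x _
    have hxI : (x.1 : ℕ) < g := x.1.2
    have hxJ : (x.2 : ℕ) < g := x.2.2
    have hx := digits_div p x.1 x.2 hp0 (by omega)
    rw [lucas_cast k p (((x.1 : ℕ) + 1) * p - ((x.2 : ℕ) + 1)), hm.1, hm.2, hx.1, hx.2]
    by_cases h1 : (x.1 : ℕ) < i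
    · rw [Nat.choose_eq_zero_of_lt h1]; simp
    by_cases h2 : (j : ℕ) < x.2
    · rw [Nat.choose_eq_zero_of_lt (show p - ((x.2 : ℕ) + 1) < p - ((j : ℕ) + 1) by omega)]; simp
    have hexp : ((x.1 : ℕ) + 1) * p - ((x.2 : ℕ) + 1) - (((i : ℕ) + 1) * p - ((j : ℕ) + 1)) =
        ((x.1 : ℕ) - (i : ℕ)) * p + ((j : ℕ) - (x.2 : ℕ)) := by
      have e1 : ((x.1 : ℕ) + 1) * p = (x.1 : ℕ) * p + p := by ring
      have e2 : ((i : ℕ) + 1) * p = (i : ℕ) * p + p := by ring
      have e3 : ((x.1 : ℕ) - (i : ℕ)) * p = (x.1 : ℕ) * p - (i : ℕ) * p := Nat.sub_mul _ _ _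
      have e4 : (i : ℕ) * p ≤ (x.1 : ℕ) * p := Nat.mul_le_mul_right _ (by omega)
      omega
    rw [hexp, pow_add]
    ring

end Groth.Agent.S16498
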