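import Groth.Statements.S16500
import Mathlib.Algebra.Polynomial.Reverse
import Mathlib.Tactic
-- import your own Groth.Agent.* helpers here

set_option autoImplicit false
universe u
open Curves

namespace Groth.Agent.S16500

theorem reflect_pow' {R : Type*} [CommSemiring R] (N : ℕ) (f : Polynomial R) (hf : f.natDegree ≤ N)
    (e : ℕ) : (Polynomial.reflect N f) ^ e = Polynomial.reflect (N * e) (f ^ e) := by
  induction e with
  | zero =>
    simp only [pow_zero, Nat.mul_zero]
    rw [← Polynomial.C_1, Polynomial.reflect_C, pow_zero, mul_one]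
  | succ e ih =>
    rw [pow_succ, pow_succ, ih, Nat.mul_succ]
    refine (Polynomial.reflect_mul _ _ ?_ hf).symm
    calc (f ^ e).natDegree ≤ e * f.natDegree := Polynomial.natDegree_pow_le
      _ ≤ e * N := Nat.mul_le_mul_left _ hf
      _ = N * e := Nat.mul_comm _ _


/-- Let k be a field of odd characteristic p, g ≤ p a natural number and f ∈ k[x] of degree at most 2g +
2. Let F be f with its coefficients reversed in degrees 0, …, 2g + 2, i.e. F(X) = X^(2g+2) f(1/X)
(Mathlib's reflect (2g+2) f), and write f^((p-1)/2) = Σ_l c_l x^l and F^((p-1)/2) = Σ_l C_l X^l.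
Then C_{ip-j} = c_{(g+1-i)p-(g+1-j)} for all i, j = 1, …, g; that is, the g × g Cartier–Manin matrix
of F is that of f with the order of both rows and columns reversed (below the indices run over Fin
g, the entry at (i, j) being the coefficient of degree (i+1)p-(j+1), and reversal is Fin.rev). In
particular the two matrices have the same determinant. (The source applies this to f with f(0) = 0,
separable of degree 2g + 2 over a perfect field, so that F has odd degree 2g + 1; the identity uses
none of that.) -/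
theorem result (k : Type u) [Field k] (p : ℕ) [Fact p.Prime] (hp : p ≠ 2) [CharP k p]
    (g : ℕ) (hg : g ≤ p) (f : Polynomial k) (hf : f.natDegree ≤ 2 * g + 2) :
    (Matrix.of fun i j : Fin g =>
        ((Polynomial.reflect (2 * g + 2) f) ^ ((p - 1) / 2)).coeff (((i : ℕ) + 1) * p - ((j : ℕ) + 1))) =
      Matrix.of fun i j : Fin g =>
        (f ^ ((p - 1) / 2)).coeff (((Fin.rev i : ℕ) + 1) * p - ((Fin.rev j : ℕ) + 1)) := by
  have hp2 : 2 ≤ p := (Fact.out : p.Prime).two_le
  have hodd : p % 2 = 1 := (Fact.out : p.Prime).eq_two_or_odd.resolve_left hp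
  have he : 2 * ((p - 1) / 2) = p - 1 := by omega
  have hN : (2 * g + 2) * ((p - 1) / 2) = (g + 1) * (p - 1) := by
    calc (2 * g + 2) * ((p - 1) / 2) = (g + 1) * (2 * ((p - 1) / 2)) := by ring
      _ = (g + 1) * (p - 1) := by rw [he]
  ext i j
  simp only [Matrix.of_apply]
  rw [reflect_pow' _ _ hf, Polynomial.coeff_reflect, hN]
  congr 1
  obtain ⟨i, hi⟩ := i
  obtain ⟨j, hj⟩ := j
  simp only [Fin.rev, Fin.val_mk]
  obtain ⟨q, rfl⟩ : ∃ q, p = q + 2 := ⟨p - 2, by omega⟩
  have h1 : (i + 1) * (q + 2) - (j + 1) ≤ (g + 1) * (q + 2 - 1) := by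
    have : (i + 1) * (q + 2) ≤ g * (q + 2) := Nat.mul_le_mul_right _ (by omega)
    have h3 : (g + 1) * (q + 2 - 1) = g * (q + 2) + (q + 2) - g - 1 := by
      have : q + 2 - 1 = q + 1 := by omega
      rw [this]
      have : (g + 1) * (q + 1) = g * (q + 2) + (q + 2) - g - 1 := by
        have e1 : (g + 1) * (q + 1) + g + 1 = g * (q + 2) + (q + 2) := by ring
        omega
      exact this
    omega
  rw [Polynomial.revAt_le h1]
  have h2 : (g + 1) * (q + 2 - 1) + (j + 1) = (g - (i + 1) + 1) * (q + 2) + (i + 1) * (q + 2) - (g - (j + 1) + 1) - (j+1) + (j + 1) := by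
    have hgi : g - (i + 1) + 1 = g - i := by omega
    have hgj : g - (j + 1) + 1 = g - j := by omega
    rw [hgi, hgj]
    have e1 : (g - i) * (q + 2) + (i + 1) * (q + 2) = (g + 1) * (q + 2) := by
      rw [← Nat.add_mul]
      congr 1
      omega
    rw [e1]
    have : q + 2 - 1 = q + 1 := by omega
    rw [this]
    have e2 : (g + 1) * (q + 2) = (g + 1) * (q + 1) + (g + 1) := by ring
    omega
  have h4 : (j + 1) ≤ (i + 1) * (q + 2) := by
    calc j + 1 ≤ g := hj
      _ ≤ q + 2 := hg
      _ ≤ (i + 1) * (q + 2) := Nat.le_mul_of_pos_left _ (by omega)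
  have h5 : g - (j + 1) + 1 ≤ (g - (i + 1) + 1) * (q + 2) := by
    calc g - (j + 1) + 1 ≤ g := by omega
      _ ≤ q + 2 := hg
      _ ≤ (g - (i + 1) + 1) * (q + 2) := Nat.le_mul_of_pos_left _ (by omega)
  omega

end Groth.Agent.S16500
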