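import Groth.Statements.S16515
import Mathlib
-- import your own Groth.Agent.* helpers here

set_option autoImplicit false
universe u
open RatCurv

namespace Groth.Agent.S16515

open MvPolynomial Module

/-- exponent vectors of degree `m` in two variables correspond to `Fin (m+1)`. -/
noncomputable def degEquiv (m : ℕ) : {d : Fin 2 →₀ ℕ | d.degree = m} ≃ Fin (m + 1) where
  toFun d := ⟨d.1 0, by
    have h : d.1.degree = m := d.2
    rw [Finsupp.degree_eq_sum, Fin.sum_univ_two] at h
    omega⟩
  invFun i := ⟨Finsupp.single 0 (i : ℕ) + Finsupp.single 1 (m - i), by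
    show Finsupp.degree _ = m
    rw [map_add, Finsupp.degree_single, Finsupp.degree_single]
    have := i.2
    omega⟩
  left_inv d := by
    have h : d.1.degree = m := d.2
    rw [Finsupp.degree_eq_sum, Fin.sum_univ_two] at h
    apply Subtype.ext
    ext j
    fin_cases j
    · simp
    · simp only [Finsupp.coe_add, Pi.add_apply]
      simp
      omega
  right_inv i := by
    apply Fin.ext
    simp

lemma finrank_homog (K : Type u) [Field K] (m : ℕ) :
    finrank K (homogeneousSubmodule (Fin 2) K m) = m + 1 := by
  rw [homogeneousSubmodule_eq_finsupp_supported]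
  have : Fintype {d : Fin 2 →₀ ℕ | d.degree = m} := Fintype.ofEquiv _ (degEquiv m).symm
  rw [(AddMonoidAlgebra.supportedEquivFinsupp (R := K) (S := K)
    {d : Fin 2 →₀ ℕ | d.degree = m}).finrank_eq, Module.finrank_finsupp_self,
    Fintype.card_congr (degEquiv m), Fintype.card_fin]

section
variable (K : Type u) [Field K]

/-- multiplication of binary forms as a bilinear map `S_a × S_b → S_c` when `a + b = c`. -/
noncomputable def mulForms (a b c : ℕ) (h : a + b = c) :
    homogeneousSubmodule (Fin 2) K a →ₗ[K] homogeneousSubmodule (Fin 2) K b →ₗ[K]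
      homogeneousSubmodule (Fin 2) K c :=
  LinearMap.mk₂ K (fun g f => ⟨g.1 * f.1, h ▸ (IsHomogeneous.mul g.2 f.2)⟩)
    (fun g₁ g₂ f => Subtype.ext (by simp [add_mul]))
    (fun c g f => Subtype.ext (by simp))
    (fun g f₁ f₂ => Subtype.ext (by simp [mul_add]))
    (fun c g f => Subtype.ext (by simp))

lemma mulForms_apply (a b c : ℕ) (h : a + b = c) (g : homogeneousSubmodule (Fin 2) K a)
    (f : homogeneousSubmodule (Fin 2) K b) : (mulForms K a b c h g f).1 = g.1 * f.1 := rfl

end


/-- If C ⊂ P^n is a rational normal curve and P ⊂ P^n a linear r-plane with (r + 2) k ≥ (r + 1)(n + 1),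
then P is contained in a k-secant (k − 1)-plane of C, i.e. in the span of some effective divisor of
degree k on C. Stated through the identification of the linear forms on P^n with the binary forms of
degree n on C ≅ P^1: the r-plane P is recorded by the space U of degree-n binary forms vanishing on
it (of codimension r + 1), an effective divisor of degree k on C by a nonzero binary form g of
degree k, and P ⊂ span(div g) says that every degree-n form divisible by g lies in U. Here k ≤ n,
and the ground field is arbitrary (the source works over the complex numbers). -/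
theorem result (K : Type u) [Field K] (n r k : ℕ)
    (hkn : k ≤ n) (hineq : (r + 1) * (n + 1) ≤ (r + 2) * k)
    (U : Submodule K (MvPolynomial (Fin 2) K))
    (hU : U ≤ MvPolynomial.homogeneousSubmodule (Fin 2) K n)
    (hcodim : Module.finrank K ↥U + (r + 1) = n + 1) :
    ∃ g ∈ MvPolynomial.homogeneousSubmodule (Fin 2) K k, g ≠ 0 ∧
      ∀ h ∈ MvPolynomial.homogeneousSubmodule (Fin 2) K (n - k), g * h ∈ U := by
  classical
  have fin_S : ∀ m, FiniteDimensional K (homogeneousSubmodule (Fin 2) K m) := fun m =>
    Module.finite_of_finrank_pos (by rw [finrank_homog]; omega)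
  set Sn := homogeneousSubmodule (Fin 2) K n with hSn
  set U' : Submodule K Sn := U.comap Sn.subtype with hU'
  have hfinU' : finrank K U' = finrank K U :=
    (Submodule.comapSubtypeEquivOfLe hU).finrank_eq
  have hquot : finrank K (Sn ⧸ U') = r + 1 := by
    have h1 := Submodule.finrank_quotient_add_finrank U'
    rw [hfinU', finrank_homog] at h1
    omega
  set Φ : homogeneousSubmodule (Fin 2) K k →ₗ[K]
      homogeneousSubmodule (Fin 2) K (n - k) →ₗ[K] (Sn ⧸ U') :=
    (mulForms K k (n - k) n (by omega)).compr₂ U'.mkQ with hΦ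
  have hlt : finrank K (homogeneousSubmodule (Fin 2) K (n - k) →ₗ[K] (Sn ⧸ U')) <
      finrank K (homogeneousSubmodule (Fin 2) K k) := by
    rw [Module.finrank_linearMap, hquot, finrank_homog, finrank_homog]
    have h1 : (r + 1) * (n + 1) = (r + 1) * (n - k + 1) + (r + 1) * k := by
      rw [← mul_add]; congr 1; omega
    have h2 : (r + 2) * k = (r + 1) * k + k := by ring
    have h3 : (n - k + 1) * (r + 1) = (r + 1) * (n - k + 1) := by ring
    omega
  obtain ⟨g, hgker, hg0⟩ := Submodule.exists_mem_ne_zero_of_ne_bot
    (LinearMap.ker_ne_bot_of_finrank_lt (f := Φ) hlt)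
  refine ⟨g.1, g.2, fun h0 => hg0 (Subtype.ext h0), fun h hh => ?_⟩
  have h1 : Φ g ⟨h, hh⟩ = 0 := by
    rw [LinearMap.mem_ker.1 hgker]; rfl
  have h2 : mulForms K k (n - k) n (by omega) g ⟨h, hh⟩ ∈ U' :=
    (Submodule.Quotient.mk_eq_zero U').1 h1
  exact h2

end Groth.Agent.S16515
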