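import Groth.Statements.S16516
import Groth.Agent.S16515
-- import your own Groth.Agent.* helpers here

set_option autoImplicit false
universe u
open RatCurv

namespace Groth.Agent.S16516

/-- A smooth nondegenerate rational quintic curve C ⊂ P^4 has exactly one 3-secant line. Stated for C
given as the image of P^1 under a 5-dimensional linear series V of binary quintic forms which
separates every length-2 subscheme of P^1 (for every nonzero quadratic form e the forms of V
together with the multiples of e span all quintic forms), so that P^1 → P(V^*) = P^4 is a closed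
embedding with nondegenerate image; the linear forms on P^4 are the elements of V, a line L ⊂ P^4 is
recorded by the 3-dimensional space of linear forms vanishing on it, and L ∩ C has length at least 3
exactly when that space consists of the multiples g · K[s,t]_2 of a cubic form g. The conclusion: a
nonzero cubic g with g · K[s,t]_2 ⊆ V exists and is unique up to a scalar. (That such a line meets C
in length exactly 3, i.e. is not 4-secant, is immediate in this description and is not restated; the
ground field is algebraically closed of characteristic zero in place of the complex numbers.) -/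
theorem result (K : Type u) [Field K] [IsAlgClosed K]
    [CharZero K] (V : Submodule K (MvPolynomial (Fin 2) K))
    (hV : V ≤ MvPolynomial.homogeneousSubmodule (Fin 2) K 5) (hdim : Module.finrank K ↥V = 5)
    (hsep : ∀ e ∈ MvPolynomial.homogeneousSubmodule (Fin 2) K 2, e ≠ 0 →
      ∀ F ∈ MvPolynomial.homogeneousSubmodule (Fin 2) K 5, ∃ v ∈ V,
        ∃ h ∈ MvPolynomial.homogeneousSubmodule (Fin 2) K 3, F = v + e * h) :
    ∃ g ∈ MvPolynomial.homogeneousSubmodule (Fin 2) K 3, g ≠ 0 ∧
      (∀ h ∈ MvPolynomial.homogeneousSubmodule (Fin 2) K 2, g * h ∈ V) ∧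
      ∀ g' ∈ MvPolynomial.homogeneousSubmodule (Fin 2) K 3,
        (∀ h ∈ MvPolynomial.homogeneousSubmodule (Fin 2) K 2, g' * h ∈ V) → ∃ c : K, g' = c • g := by
  classical
  have hpos : ∀ d : ℕ, FiniteDimensional K (MvPolynomial.homogeneousSubmodule (Fin 2) K d) := by
    intro d
    apply Module.finite_of_finrank_pos
    rw [Groth.Agent.S16515.finrank_homog]
    omega
  have := hpos 2
  have := hpos 3
  have := hpos 5
  let S2 := MvPolynomial.homogeneousSubmodule (Fin 2) K 2
  let S3 := MvPolynomial.homogeneousSubmodule (Fin 2) K 3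
  let S5 := MvPolynomial.homogeneousSubmodule (Fin 2) K 5
  let V' : Submodule K S5 := V.comap S5.subtype
  have hV' : Module.finrank K V' = 5 :=
    (Submodule.comapSubtypeEquivOfLe hV).finrank_eq.trans hdim
  have hQ : Module.finrank K (S5 ⧸ V') = 1 := by
    have := Submodule.finrank_quotient_add_finrank V'
    rw [Groth.Agent.S16515.finrank_homog, hV'] at this
    omega
  let eQ : (S5 ⧸ V') ≃ₗ[K] K := LinearEquiv.ofFinrankEq _ _ (by rw [hQ, Module.finrank_self])
  let lam : S5 →ₗ[K] K := eQ.toLinearMap ∘ₗ V'.mkQ
  have hlam : ∀ F : S5, lam F = 0 ↔ F.1 ∈ V := by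
    intro F
    show eQ (V'.mkQ F) = 0 ↔ _
    rw [LinearEquiv.map_eq_zero_iff, Submodule.mkQ_apply, Submodule.Quotient.mk_eq_zero]
    rfl
  let B : S3 →ₗ[K] S2 →ₗ[K] K := (Groth.Agent.S16515.mulForms K 3 2 5 rfl).compr₂ lam
  have hB : ∀ (g : S3) (h : S2), B g h = 0 ↔ g.1 * h.1 ∈ V := by
    intro g h
    show lam (Groth.Agent.S16515.mulForms K 3 2 5 rfl g h) = 0 ↔ _
    rw [hlam]
    rfl
  have hinj : Function.Injective B.flip := by
    rw [injective_iff_map_eq_zero]
    intro e he
    by_contra hne
    have hne' : e.1 ≠ 0 := fun h => hne (Subtype.ext h)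
    have hall : ∀ F : S5, F.1 ∈ V := by
      intro F
      obtain ⟨v, hv, h, hh, hF⟩ := hsep e.1 e.2 hne' F.1 F.2
      have h1 : e.1 * h ∈ V := by
        have h2 : B ⟨h, hh⟩ e = 0 := by
          have := LinearMap.congr_fun he ⟨h, hh⟩
          exact this
        have h3 := (hB ⟨h, hh⟩ e).1 h2
        rw [mul_comm]
        exact h3
      rw [hF]
      exact V.add_mem hv h1
    have htop : V' = ⊤ := eq_top_iff.2 fun F _ => hall F
    rw [htop, finrank_top, Groth.Agent.S16515.finrank_homog] at hV'
    omega
  have hsurj : Function.Surjective B := LinearMap.flip_injective_iff₁.1 hinj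
  have hker : Module.finrank K (LinearMap.ker B) = 1 := by
    have h1 := LinearMap.finrank_range_add_finrank_ker B
    have h2 : Module.finrank K (S2 →ₗ[K] K) = 3 := by
      have := Subspace.dual_finrank_eq (K := K) (V := S2)
      rw [Groth.Agent.S16515.finrank_homog] at this
      exact this
    rw [LinearMap.range_eq_top.2 hsurj, finrank_top, h2, Groth.Agent.S16515.finrank_homog] at h1
    omega
  obtain ⟨g₀, hg₀⟩ := (Module.finrank_pos_iff_exists_ne_zero (R := K) (M := LinearMap.ker B)).1
    (by rw [hker]; exact Nat.one_pos)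
  have hg₀ker : B g₀.1 = 0 := g₀.2
  refine ⟨g₀.1.1, g₀.1.2, fun h => hg₀ (Subtype.ext (Subtype.ext h)), ?_, ?_⟩
  · intro h hh
    refine (hB g₀.1 ⟨h, hh⟩).1 ?_
    rw [hg₀ker]
    rfl
  · intro g' hg' hprop
    have hmem : (⟨g', hg'⟩ : S3) ∈ LinearMap.ker B := by
      rw [LinearMap.mem_ker]
      ext h
      exact (hB ⟨g', hg'⟩ h).2 (hprop h.1 h.2)
    obtain ⟨c, hc⟩ := (finrank_eq_one_iff_of_nonzero' g₀ hg₀).1 hker ⟨⟨g', hg'⟩, hmem⟩
    refine ⟨c, ?_⟩
    have := congrArg (fun w : LinearMap.ker B => w.1.1) hc
    exact this.symm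

end Groth.Agent.S16516
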