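import Groth.Statements.S16517
import Mathlib.Tactic
import Groth.Agent.Lib.H26Liaison
import Groth.Agent.Lib.DimFibre33
import Groth.Agent.Lib.FlatDimFormula
import Groth.Agent.Lib.H87Nagata2
import Groth.Agent.S2082
import Groth.Agent.S5777

set_option autoImplicit false
universe u
open CAlg

namespace Groth.Agent.S16517

/-- Let R be a regular local ring, A a Gorenstein local ring which is a flat R-algebra through a local
homomorphism, I ⊂ A an ideal of codimension zero (the Krull dimension of A/I equals that of A) with
A/I Cohen–Macaulay, and J = (0 : I) the annihilator of I in A (the ideal of the residual subscheme).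
Then A/I and A/J are flat over R. -/
theorem result (R A : Type u)
    [CommRing R] [IsRegularLocalRing R] [CommRing A] [Algebra R A] [LocCoh.IsGorensteinLocalRing A]
    [IsLocalHom (algebraMap R A)] [Module.Flat R A] (I : Ideal A)
    (hI : ringKrullDim (A ⧸ I) = ringKrullDim A) [LocCoh.IsCohenMacaulayLocalRing (A ⧸ I)] :
    Module.Flat R (A ⧸ I) ∧ Module.Flat R (A ⧸ (Submodule.annihilator I)) := by
  haveI : IsNoetherianRing A := inferInstance
  haveI : IsLocalRing A := inferInstance
  constructor
  · -- `A ⧸ I` by miracle flatness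
    haveI : IsLocalHom (algebraMap A (A ⧸ I)) :=
      IsLocalHom.of_surjective _ Ideal.Quotient.mk_surjective
    haveI : IsLocalHom (algebraMap R (A ⧸ I)) := by
      rw [IsScalarTower.algebraMap_eq R A (A ⧸ I)]
      exact RingHom.isLocalHom_comp _ _
    apply Groth.Agent.S2082.result (R := R) (S := A ⧸ I)
    have h1 : ringKrullDim A = ringKrullDim R +
        ringKrullDim (A ⧸ (IsLocalRing.maximalIdeal R).map (algebraMap R A)) :=
      Groth.Agent.Lib.FlatDimFormula.ringKrullDim_eq_add_of_hasGoingDown R A
    have h2 : ringKrullDim (A ⧸ I) ≤ ringKrullDim R +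
        ringKrullDim ((A ⧸ I) ⧸ (IsLocalRing.maximalIdeal R).map (algebraMap R (A ⧸ I))) :=
      Groth.Agent.Lib.DimFibre33.ringKrullDim_le_add
    have hle : (IsLocalRing.maximalIdeal R).map (algebraMap R A) ≤
        ((IsLocalRing.maximalIdeal R).map (algebraMap R (A ⧸ I))).comap (Ideal.Quotient.mk I) := by
      rw [IsScalarTower.algebraMap_eq R A (A ⧸ I), ← Ideal.map_map]
      exact Ideal.le_comap_map
    have h3 : ringKrullDim ((A ⧸ I) ⧸ (IsLocalRing.maximalIdeal R).map (algebraMap R (A ⧸ I))) ≤
        ringKrullDim (A ⧸ (IsLocalRing.maximalIdeal R).map (algebraMap R A)) :=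
      ringKrullDim_le_of_surjective (Ideal.quotientMap _ (Ideal.Quotient.mk I) hle)
        (Ideal.quotientMap_surjective Ideal.Quotient.mk_surjective)
    apply le_antisymm h2
    rw [hI, h1]
    exact add_le_add le_rfl h3
  · -- `A ⧸ (0 : I)` by linkage
    obtain ⟨rs, hrs, hrsm⟩ := Groth.Agent.Lib.H87Nagata.isRegularIdeal_maximalIdeal R
    have hregA : RingTheory.Sequence.IsWeaklyRegular A (rs.map (algebraMap R A)) :=
      hrs.toIsWeaklyRegular.of_flat
    have hregM := Groth.Agent.Lib.H26Liaison.isWeaklyRegular_quotient_annihilator A I hI _ hregA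
    have hregM' : RingTheory.Sequence.IsWeaklyRegular (A ⧸ Submodule.annihilator I) rs :=
      (RingTheory.Sequence.isWeaklyRegular_map_algebraMap_iff A (A ⧸ Submodule.annihilator I)
        rs).mp hregM
    have hmem : ∀ f ∈ rs, f ∈ IsLocalRing.maximalIdeal R := by
      intro f hf
      rw [← hrsm]
      exact Ideal.subset_span hf
    haveI : Module.Finite A (A ⧸ Submodule.annihilator I) :=
      Module.Finite.of_surjective (Submodule.mkQ _) (Submodule.mkQ_surjective _)
    refine (Groth.Agent.S5777.result R A (A ⧸ Submodule.annihilator I) rs hmem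
      hrs.toIsWeaklyRegular).mpr ⟨?_, hregM'⟩
    haveI : (Ideal.ofList rs).IsMaximal := hrsm ▸ inferInstance
    letI := Ideal.Quotient.field (Ideal.ofList rs)
    infer_instance


end Groth.Agent.S16517
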