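import Groth.Statements.S16519
import Groth.Agent.Lib.H72SumSqCount

set_option autoImplicit false
set_option exponentiation.threshold 1000000
open CubicSurf

namespace Groth.Agent.S16519

open Finset Groth.Agent.Lib.H72ConicCount Groth.Agent.Lib.H72SumSqCount

theorem bounds (a : ℤ) (b : Fin 6 → ℤ) (h1 : 3 * a - ∑ i, b i = 3) (h2 : a ^ 2 - ∑ i, b i ^ 2 = 1) :
    (1 ≤ a ∧ a ≤ 5) ∧ ∀ j, -1 ≤ b j ∧ b j ≤ 3 := by
  have hsum : ∑ i, b i = 3 * a - 3 := by linarith
  have hsq : ∑ i, b i ^ 2 = a ^ 2 - 1 := by linarith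
  have ha : 1 ≤ a ∧ a ≤ 5 := by
    have h := sq_sum_le_card_mul_sum_sq (s := (univ : Finset (Fin 6))) (f := b)
    rw [hsum, hsq, Finset.card_univ, Fintype.card_fin] at h
    push_cast at h
    constructor <;> nlinarith
  refine ⟨ha, fun j => ?_⟩
  have h := sq_sum_le_card_mul_sum_sq (s := (univ : Finset (Fin 6)).erase j) (f := b)
  have hs1 : ∑ i ∈ univ.erase j, b i = 3 * a - 3 - b j := by
    rw [← hsum, ← Finset.add_sum_erase _ _ (Finset.mem_univ j)]; ring
  have hs2 : ∑ i ∈ univ.erase j, b i ^ 2 = a ^ 2 - 1 - b j ^ 2 := by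
    rw [← hsq, ← Finset.add_sum_erase _ _ (Finset.mem_univ j)]; ring
  have hcard : (((univ : Finset (Fin 6)).erase j).card : ℤ) = 5 := by
    rw [Finset.card_erase_of_mem (Finset.mem_univ j), Finset.card_univ, Fintype.card_fin]; norm_num
  rw [hs1, hs2, hcard] at h
  obtain ⟨ha1, ha5⟩ := ha
  generalize b j = x at h
  clear hs1 hs2 hcard hsum hsq h1 h2
  interval_cases a <;> constructor <;> nlinarith

/-- The vector attached to `(a, f)`. -/
def vec (p : ℕ × (Fin 6 → Fin 5)) : ℤ × (Fin 6 → ℤ) :=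
  ((p.1 : ℤ), fun i => ((p.2 i : ℕ) : ℤ) - 1)

theorem vec_injective : Function.Injective vec := by
  rintro ⟨a, f⟩ ⟨a', f'⟩ h
  simp only [vec, Prod.mk.injEq] at h
  obtain ⟨h0, hs⟩ := h
  have ha : a = a' := by exact_mod_cast h0
  have hf : f = f' := by
    funext i
    have := congrFun hs i
    apply Fin.ext
    have h' : ((f i : ℕ) : ℤ) = ((f' i : ℕ) : ℤ) := by linarith
    exact_mod_cast h'
  rw [ha, hf]

/-- The finite parameter set. -/
def P : Finset (ℕ × (Fin 6 → Fin 5)) :=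
  (Finset.Icc 1 5 ×ˢ (univ : Finset (Fin 6 → Fin 5))).filter fun p =>
    ∑ i, (p.2 i : ℕ) = 3 * p.1 + 3 ∧ (∑ i, (p.2 i : ℕ) ^ 2) + 1 = p.1 ^ 2 + 6 * p.1

theorem set_eq_image :
    {p : ℤ × (Fin 6 → ℤ) | 3 * p.1 - (Finset.univ.sum fun i => p.2 i) = 3 ∧
        p.1 ^ 2 - (Finset.univ.sum fun i => p.2 i ^ 2) = 1} = vec '' (P : Set _) := by
  ext ⟨a, b⟩
  simp only [Set.mem_ofPred_eq, Set.mem_image, Finset.mem_coe]
  constructor
  · rintro ⟨h1, h2⟩
    obtain ⟨⟨ha1, ha5⟩, hb⟩ := bounds a b h1 h2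
    have hf : ∀ i : Fin 6, (b i + 1).toNat < 5 := fun i => by have := hb i; omega
    have hcast : ∀ i : Fin 6, (((b i + 1).toNat : ℕ) : ℤ) = b i + 1 := fun i =>
      Int.toNat_of_nonneg (by have := hb i; omega)
    have hacast : ((a.toNat : ℕ) : ℤ) = a := Int.toNat_of_nonneg (by omega)
    refine ⟨(a.toNat, fun i => ⟨(b i + 1).toNat, hf i⟩), ?_, ?_⟩
    · simp only [P, Finset.mem_filter, Finset.mem_product, Finset.mem_Icc, Finset.mem_univ,
        and_true]
      refine ⟨by omega, ?_, ?_⟩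
      · have : ((∑ i : Fin 6, (b i + 1).toNat : ℕ) : ℤ) = ((3 * a.toNat + 3 : ℕ) : ℤ) := by
          push_cast
          rw [Finset.sum_congr rfl (fun i _ => hcast i), hacast, Finset.sum_add_distrib]
          simp only [Finset.sum_const, Finset.card_univ, Fintype.card_fin, nsmul_eq_mul]
          push_cast
          linarith
        exact_mod_cast this
      · have : (((∑ i : Fin 6, (b i + 1).toNat ^ 2) + 1 : ℕ) : ℤ) =
            ((a.toNat ^ 2 + 6 * a.toNat : ℕ) : ℤ) := by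
          push_cast
          rw [Finset.sum_congr rfl (fun i _ => by rw [hcast i]), hacast]
          have : ∑ i : Fin 6, (b i + 1) ^ 2 = ∑ i : Fin 6, b i ^ 2 + 2 * ∑ i : Fin 6, b i + 6 := by
            simp only [add_sq, Finset.sum_add_distrib, Finset.mul_sum, Finset.sum_const,
              Finset.card_univ, Fintype.card_fin, nsmul_eq_mul]
            ring_nf
          rw [this]
          linarith
        exact_mod_cast this
    · simp only [vec, Prod.mk.injEq]
      refine ⟨hacast, ?_⟩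
      funext i
      show (((b i + 1).toNat : ℕ) : ℤ) - 1 = b i
      rw [hcast i]; ring
  · rintro ⟨⟨a', f⟩, hp, he⟩
    simp only [P, Finset.mem_filter, Finset.mem_product, Finset.mem_Icc, Finset.mem_univ,
      and_true] at hp
    obtain ⟨-, h1, h2⟩ := hp
    simp only [vec, Prod.mk.injEq] at he
    obtain ⟨rfl, rfl⟩ := he
    have e1 : ((∑ i : Fin 6, (f i : ℕ) : ℕ) : ℤ) = ((3 * a' + 3 : ℕ) : ℤ) := by rw [h1]
    have e2 : (((∑ i : Fin 6, (f i : ℕ) ^ 2) + 1 : ℕ) : ℤ) = ((a' ^ 2 + 6 * a' : ℕ) : ℤ) := by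
      rw [h2]
    push_cast at e1 e2
    constructor
    · show 3 * (a' : ℤ) - ∑ i : Fin 6, (((f i : ℕ) : ℤ) - 1) = 3
      rw [Finset.sum_sub_distrib, e1]
      simp only [Finset.sum_const, Finset.card_univ, Fintype.card_fin, nsmul_eq_mul]
      ring
    · show (a' : ℤ) ^ 2 - ∑ i : Fin 6, (((f i : ℕ) : ℤ) - 1) ^ 2 = 1
      have : ∑ i : Fin 6, (((f i : ℕ) : ℤ) - 1) ^ 2 =
          ∑ i : Fin 6, ((f i : ℕ) : ℤ) ^ 2 - 2 * ∑ i : Fin 6, ((f i : ℕ) : ℤ) + 6 := by
        simp only [sub_sq, Finset.sum_add_distrib, Finset.sum_sub_distrib, Finset.mul_sum,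
          Finset.sum_const, Finset.card_univ, Fintype.card_fin, nsmul_eq_mul]
        ring_nf
      rw [this, e1]
      linarith



/-- On a smooth cubic surface there are exactly 72 divisor classes L with L² = 1 and L · K = −3. Stated
in the lattice ℤ^{1,6} with basis l, e_1, …, e_6 (l² = 1, e_i² = −1, K = −3l + Σ e_i): the integer
vectors (a, b) ∈ ℤ × ℤ^6, standing for a·l − Σ b_i e_i, with 3a − Σ b_i = 3 and a² − Σ b_i² = 1 form
a set of exactly 72 elements. -/
theorem result :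
    {p : ℤ × (Fin 6 → ℤ) | 3 * p.1 - (Finset.univ.sum fun i => p.2 i) = 3 ∧
        p.1 ^ 2 - (Finset.univ.sum fun i => p.2 i ^ 2) = 1}.ncard = 72 := by
  rw [set_eq_image, Set.ncard_image_of_injective _ vec_injective, Set.ncard_coe_finset]
  rw [P, Finset.card_filter, Finset.sum_product]
  have : ∀ a ∈ Finset.Icc 1 5, (∑ f : Fin 6 → Fin 5,
      if (∑ i, (f i : ℕ) = 3 * a + 3 ∧ (∑ i, (f i : ℕ) ^ 2) + 1 = a ^ 2 + 6 * a) then 1 else 0) =
      Gk ^ 6 / Bk ^ ((3 * a + 3) + 33 * (a ^ 2 + 6 * a - 1)) % Bk := by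
    intro a ha
    rw [Finset.mem_Icc] at ha
    rw [← card_sum_sq (by norm_num) (3 * a + 3) (a ^ 2 + 6 * a - 1) (by omega), Finset.card_filter]
    refine Finset.sum_congr rfl fun f _ => ?_
    have : ((∑ i, (f i : ℕ) ^ 2) + 1 = a ^ 2 + 6 * a) ↔
        (∑ i, (f i : ℕ) ^ 2 = a ^ 2 + 6 * a - 1) := by
      generalize (∑ i, (f i : ℕ) ^ 2) = Q
      generalize a ^ 2 = A
      omega
    simp only [this]
  rw [Finset.sum_congr rfl this]
  decide +kernel

end Groth.Agent.S16519
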