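-- Statement S3449.
import Groth.Statements.S3449
import Groth.Agent.Lib.H30DimRel
import Mathlib

set_option autoImplicit false
open CategoryTheory AlgebraicGeometry
universe u
open EGA43

namespace Groth.Agent.S3449

open Groth.Agent.Lib.H30DimRel Groth.Agent.Lib.H30FibRes Groth.Agent.Lib.H30EquiDim

/-- the dimension of the generic fibre of a morphism from an irreducible scheme -/
theorem krullDim_fiber_generic {X Y : Scheme.{u}} (f : X ⟶ Y) [LocallyOfFiniteType f]
    [IrreducibleSpace X] :
    topologicalKrullDim ↥(f.fiber (f (genericPoint X))) =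
      ((rt f (genericPoint X) : ℕ) : WithBot ℕ∞) := by
  rw [← krullDim_closure_asFiber f (genericPoint X) _ (trdeg_eq_rt f (genericPoint X))]
  have huniv : closure ({f.asFiber (genericPoint X)} : Set (f.fiber (f (genericPoint X)))) =
      Set.univ := by
    rw [Set.eq_univ_iff_forall]
    intro w
    rw [← specializes_iff_mem_closure]
    apply (f.fiberι (f (genericPoint X))).isEmbedding.isInducing.specializes_iff.mp
    rw [f.fiberι_asFiber]
    exact genericPoint_specializes _
  rw [huniv]
  exact (IsHomeomorph.topologicalKrullDim_eq _
    (Homeomorph.Set.univ (f.fiber (f (genericPoint X)))).isHomeomorph).symm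

theorem genericPoint_map {X Y : Scheme.{u}} (f : X ⟶ Y) [IrreducibleSpace X] [IrreducibleSpace Y]
    [IsDominant f] : f (genericPoint X) = genericPoint Y := by
  have h1 : IsGenericPoint (f (genericPoint X)) (Set.univ : Set Y) := by
    have := (genericPoint_spec X).image f.continuous
    rw [Set.image_univ, f.denseRange.closure_range] at this
    exact this
  exact h1.eq (genericPoint_spec Y)

theorem main {X Y S : Scheme.{u}} [IsLocallyNoetherian S]
    [JacobsonSpace S] (h2 : ∀ s : S, CAlg.IsUniversallyCatenary (S.presheaf.stalk s))
    (h3 : ∀ S' ∈ irreducibleComponents (S : Type u), ∀ s ∈ S', IsClosed ({s} : Set S) →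
      topologicalKrullDim (↥S' : Type u) = topologicalKrullDim ↥{t : S | t ∈ S' ∧ t ⤳ s})
    (p : X ⟶ S) (q : Y ⟶ S) [LocallyOfFiniteType p] [LocallyOfFiniteType q] (f : X ⟶ Y) (hf : f ≫ q = p)
    [IrreducibleSpace X] [IrreducibleSpace Y] [IsDominant f] :
    topologicalKrullDim (X : Type u) =
      topologicalKrullDim (Y : Type u) + topologicalKrullDim ↥(f.fiber (genericPoint Y)) := by
  obtain ⟨δ, hS, h0⟩ := exists_isSetup S h2 h3
  subst hf
  haveI : LocallyOfFiniteType f := locallyOfFiniteType_of_comp f q
  have hη := genericPoint_map f
  rw [← hη, krullDim_fiber_generic f, krullDim_eq_ind (f ≫ q) δ hS h0, krullDim_eq_ind q δ hS h0,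
    ← hη, ind_comp f q δ]
  haveI : JacobsonSpace Y := LocallyOfFiniteType.jacobsonSpace q
  have hnn : 0 ≤ ind q δ (f (genericPoint X)) :=
    Groth.Agent.S6462.delta_nonneg (isDimFun_ind q δ hS) (ind_closed q δ h0) _
  have : (ind q δ (f (genericPoint X)) + (rt f (genericPoint X) : ℤ)).toNat =
      (ind q δ (f (genericPoint X))).toNat + rt f (genericPoint X) := by omega
  rw [this]
  push_cast
  rfl

/-- Let S be a locally Noetherian scheme which is Jacobson, whose local rings are universally catenary,
and whose irreducible components S' are equidimensional in the sense that for every closed point s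
of S' the dimension of S' equals the dimension of S' at s (the Krull dimension of the set of
generizations of s inside S'). Let X and Y be S-schemes, each locally of finite type over the base
S, and let f : X ⟶ Y be a morphism over S, with X irreducible and f dominant; let η be the generic
point of Y and e the dimension of the fibre over η. Then dim X = dim Y + e. -/
theorem result {X Y S : Scheme.{u}} [IsLocallyNoetherian S]
    [JacobsonSpace S] (h2 : ∀ s : S, CAlg.IsUniversallyCatenary (S.presheaf.stalk s))
    (h3 : ∀ S' ∈ irreducibleComponents (S : Type u), ∀ s ∈ S', IsClosed ({s} : Set S) →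
      topologicalKrullDim (↥S' : Type u) = topologicalKrullDim ↥{t : S | t ∈ S' ∧ t ⤳ s})
    (p : X ⟶ S) (q : Y ⟶ S) [LocallyOfFiniteType p] [LocallyOfFiniteType q] (f : X ⟶ Y) (hf : f ≫ q = p)
    [IrreducibleSpace X] [IrreducibleSpace Y] [IsDominant f] :
    topologicalKrullDim (X : Type u) =
      topologicalKrullDim (Y : Type u) + topologicalKrullDim ↥(f.fiber (genericPoint Y)) := by
  exact main h2 h3 p q f hf

end Groth.Agent.S3449
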