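-- Statement S1653.
import Groth.Statements.S1653
import Groth.Agent.S0402
import Groth.Agent.S3449
import Groth.Agent.Lib.H56FibDimSup
import Groth.Agent.Lib.H30LocDimTop
import Groth.Agent.Lib.H30FibRes
import Groth.Agent.Lib.H30DimRel
import Mathlib

set_option autoImplicit false
universe u
open CategoryTheory CategoryTheory.Limits AlgebraicGeometry
open Variety

namespace Groth.Agent.S1653

open Groth.Agent.Lib.H30LocDimTop Groth.Agent.Lib.H30DimField Groth.Agent.Lib.H30FibRes
  Groth.Agent.Lib.H30DimRel

/-- local fibre dimension at the generic point -/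
theorem fibreDimAt_generic {X Y : Scheme.{u}} (f : X ⟶ Y) [LocallyOfFiniteType f]
    [IrreducibleSpace X] :
    FlatMor.fibreDimAt f (genericPoint X) = ((rt f (genericPoint X) : ℕ) : WithBot ℕ∞) := by
  rw [← Groth.Agent.S3449.krullDim_fiber_generic f]
  letI := fiberOver f (f (genericPoint X))
  haveI := lft_fiber f (f (genericPoint X))
  have huniv : closure ({f.asFiber (genericPoint X)} : Set (f.fiber (f (genericPoint X)))) =
      Set.univ := by
    rw [Set.eq_univ_iff_forall]
    intro w
    rw [← specializes_iff_mem_closure]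
    apply (f.fiberι (f (genericPoint X))).isEmbedding.isInducing.specializes_iff.mp
    rw [f.fiberι_asFiber]
    exact genericPoint_specializes _
  haveI : IrreducibleSpace ↥(f.fiber (f (genericPoint X))) := by
    have h1 : IsIrreducible (Set.univ : Set ↥(f.fiber (f (genericPoint X)))) := by
      rw [← huniv]; exact isIrreducible_singleton.closure
    exact @IrreducibleSpace.mk _ _ ⟨h1.isPreirreducible⟩ ⟨f.asFiber (genericPoint X)⟩
  unfold FlatMor.fibreDimAt FlatMor.localDim
  rw [krullDim_eq_td (Y.residueField (f (genericPoint X))) (f.fiber (f (genericPoint X)))]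
  haveI : Nonempty {U : TopologicalSpace.Opens ↥(f.fiber (f (genericPoint X))) //
      f.asFiber (genericPoint X) ∈ U} := ⟨⟨⊤, trivial⟩⟩
  have : ∀ U : {U : TopologicalSpace.Opens ↥(f.fiber (f (genericPoint X))) //
      f.asFiber (genericPoint X) ∈ U}, topologicalKrullDim ↥(U.1 : Set ↥(f.fiber (f (genericPoint X)))) =
      (((td (Y.residueField (f (genericPoint X))) (f.fiber (f (genericPoint X)))
        (genericPoint _)).toNat : ℕ) : WithBot ℕ∞) := fun U =>
    krullDim_open_eq (Y.residueField (f (genericPoint X))) (f.fiber (f (genericPoint X)))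
      (U.1 : Set _) U.1.2 ⟨_, U.2⟩
  simp_rw [this]
  exact ciInf_const


theorem td_eq_rt (k : Type u) [Field k] (X : Scheme.{u}) [X.Over (Spec (CommRingCat.of k))]
    [LocallyOfFiniteType (X ↘ (Spec (CommRingCat.of k)))] (x : X) :
    td k X x = (rt (X ↘ (Spec (CommRingCat.of k))) x : ℤ) := by
  apply td_eq_of_trdeg_eq
  rw [trdeg_eq k X x]
  exact trdeg_eq_rt _ x

theorem main (k : Type u) [Field k] (X Y : Scheme.{u}) [X.Over (Spec (CommRingCat.of k))] [Y.Over (Spec (CommRingCat.of k))]
    [LocallyOfFiniteType (X ↘ (Spec (CommRingCat.of k)))] [LocallyOfFiniteType (Y ↘ (Spec (CommRingCat.of k)))] [IrreducibleSpace X]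
    (f : X ⟶ Y) (hf : f ≫ (Y ↘ (Spec (CommRingCat.of k))) = X ↘ (Spec (CommRingCat.of k))) (a b : ℕ) (ha : topologicalKrullDim X = a)
    (hb : topologicalKrullDim (closure (Set.range f.base)) = b) :
    (∀ x : X, ((a - b : ℕ) : WithBot ℕ∞) ≤ FlatMor.fibreDimAt f x) ∧
      IsOpen {x : X | FlatMor.fibreDimAt f x = (a - b : ℕ)} ∧ Dense {x : X | FlatMor.fibreDimAt f x = (a - b : ℕ)} := by
  haveI hlft : LocallyOfFiniteType f := by
    have : LocallyOfFiniteType (f ≫ (Y ↘ (Spec (CommRingCat.of k)))) := by rw [hf]; infer_instance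
    exact locallyOfFiniteType_of_comp f (Y ↘ (Spec (CommRingCat.of k)))
  set η := genericPoint X with hη
  -- a = td η
  have ha' : a = (td k X η).toNat := by
    have h1 := krullDim_eq_td k X
    rw [ha] at h1
    exact_mod_cast h1
  -- b = td (f η)
  have hcl : closure (Set.range f.base) = closure ({f.base η} : Set Y) := by
    apply subset_antisymm
    · apply closure_minimal _ isClosed_closure
      rintro _ ⟨x, rfl⟩
      have h1 : η ⤳ x := genericPoint_specializes x
      exact (h1.map f.continuous).mem_closed isClosed_closure (subset_closure rfl)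
    · exact closure_mono (Set.singleton_subset_iff.mpr ⟨η, rfl⟩)
  have hδY := isDimensionFunction_of_isDimFun (isDimFun k Y)
  haveI := jacobsonSpace k Y
  have hb' : b = (td k Y (f.base η)).toNat := by
    have h1 := krullDim_closure (td k Y) hδY (td_eq_zero_of_isClosed k Y) (f.base η)
    rw [← hcl, hb] at h1
    exact_mod_cast h1
  -- additivity
  have hadd : rt (X ↘ (Spec (CommRingCat.of k))) η =
      rt (Y ↘ (Spec (CommRingCat.of k))) (f.base η) + rt f η := by
    rw [← rt_comp f (Y ↘ (Spec (CommRingCat.of k))) η]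
    congr 1
    exact hf.symm
  have hrt : rt f η = a - b := by
    have h1 := td_eq_rt k X η
    have h2 := td_eq_rt k Y (f.base η)
    omega
  have hgen : FlatMor.fibreDimAt f η = ((a - b : ℕ) : WithBot ℕ∞) := by
    rw [fibreDimAt_generic f, hrt]
  have hopen : ∀ n : ℕ, IsOpen {x : X | FlatMor.fibreDimAt f x ≤ (n : WithBot ℕ∞)} :=
    fun n => Groth.Agent.S0402.result f n
  have hlower : ∀ x : X, ((a - b : ℕ) : WithBot ℕ∞) ≤ FlatMor.fibreDimAt f x := by
    intro x
    by_contra hcon
    rw [not_le] at hcon
    rcases Nat.eq_zero_or_pos (a - b) with h0 | hpos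
    · rw [h0] at hcon
      exact absurd (Groth.Agent.Lib.H56LocDim.fibreDimAt_nonneg f x) (not_le.mpr (by simpa using hcon))
    · have h1 : FlatMor.fibreDimAt f x ≤ ((a - b - 1 : ℕ) : WithBot ℕ∞) := by
        apply (Groth.Agent.Lib.H56LocDim.lt_succ_iff_le _ _).mp
        have : a - b - 1 + 1 = a - b := by omega
        rw [this]; exact hcon
      have h2 : η ∈ {x : X | FlatMor.fibreDimAt f x ≤ ((a - b - 1 : ℕ) : WithBot ℕ∞)} :=
        (genericPoint_specializes x).mem_open (hopen _) h1
      have h3 : FlatMor.fibreDimAt f η ≤ ((a - b - 1 : ℕ) : WithBot ℕ∞) := h2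
      rw [hgen] at h3
      have h4 : a - b ≤ a - b - 1 := by exact_mod_cast h3
      omega
  have hset : {x : X | FlatMor.fibreDimAt f x = ((a - b : ℕ) : WithBot ℕ∞)} =
      {x : X | FlatMor.fibreDimAt f x ≤ ((a - b : ℕ) : WithBot ℕ∞)} := by
    ext x
    exact ⟨fun h => le_of_eq h, fun h => le_antisymm h (hlower x)⟩
  refine ⟨hlower, ?_, ?_⟩
  · rw [hset]; exact hopen _
  · intro x
    have h1 : η ∈ {x : X | FlatMor.fibreDimAt f x = ((a - b : ℕ) : WithBot ℕ∞)} := hgen
    have h2 : η ⤳ x := genericPoint_specializes x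
    exact closure_mono (Set.singleton_subset_iff.mpr h1) (specializes_iff_mem_closure.mp h2)

/-- Let f : X → Y be a k-morphism of schemes locally of finite type over a field k, with X irreducible
of dimension a, and let the closure of the image of f have dimension b. Then the local fibre
dimension of f at every point of X is at least a - b, and the set of points where it equals a - b is
open and dense. -/
theorem result (k : Type u) [Field k] (X Y : Scheme.{u}) [X.Over (Spec (CommRingCat.of k))] [Y.Over (Spec (CommRingCat.of k))]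
    [LocallyOfFiniteType (X ↘ (Spec (CommRingCat.of k)))] [LocallyOfFiniteType (Y ↘ (Spec (CommRingCat.of k)))] [IrreducibleSpace X]
    (f : X ⟶ Y) (hf : f ≫ (Y ↘ (Spec (CommRingCat.of k))) = X ↘ (Spec (CommRingCat.of k))) (a b : ℕ) (ha : topologicalKrullDim X = a)
    (hb : topologicalKrullDim (closure (Set.range f.base)) = b) :
    (∀ x : X, ((a - b : ℕ) : WithBot ℕ∞) ≤ FlatMor.fibreDimAt f x) ∧
      IsOpen {x : X | FlatMor.fibreDimAt f x = (a - b : ℕ)} ∧ Dense {x : X | FlatMor.fibreDimAt f x = (a - b : ℕ)} := by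
  exact main k X Y f hf a b ha hb

end Groth.Agent.S1653
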