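import Groth.Statements.S19416
import Groth.Agent.Lib.H87DiagReg
import Groth.Agent.Lib.H87FirstSeqSmooth
import Groth.Agent.Lib.H71EquiDimSch
import Groth.Agent.Lib.H56FibDimGen
import Groth.Agent.Lib.H56LocDimSch
import Groth.Agent.Lib.FTDim
import Groth.Agent.Lib.ReducedSubscheme

set_option autoImplicit false
universe u
open CategoryTheory AlgebraicGeometry
open IntMult

namespace Groth.Agent.S19416


/-- algebra: dimension drop bounded by number of equations -/
theorem alg_dim_le (k : Type u) [Field k] (C : Type u) [CommRing C] [Algebra k C]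
    [Algebra.FiniteType k C]
    (q P : Ideal C) [hq : q.IsPrime] [hP : P.IsPrime] (hqP : q ≤ P) (S : Set C) (hS : S.Finite)
    (n : ℕ) (hSn : S.ncard ≤ n) (hSP : S ⊆ P)
    (hmin : ∀ q' : Ideal C, q'.IsPrime → q ≤ q' → S ⊆ q' → q' ≤ P → P ≤ q') :
    ringKrullDim (C ⧸ q) ≤ ringKrullDim (C ⧸ P) + n := by
  let π : C →+* C ⧸ q := Ideal.Quotient.mk q
  have hπ : Function.Surjective π := Ideal.Quotient.mk_surjective
  let Pb : Ideal (C ⧸ q) := P.map π
  haveI hPb : Pb.IsPrime := Ideal.isPrime_map_quotientMk_of_isPrime hqP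
  haveI : IsNoetherianRing (C ⧸ q) := Algebra.FiniteType.isNoetherianRing k (C ⧸ q)
  have h1 := Groth.Agent.Lib.FTDim.height_add_ringKrullDim_quotient k (C ⧸ q) Pb
  have h2 : ringKrullDim ((C ⧸ q) ⧸ Pb) = ringKrullDim (C ⧸ P) :=
    ringKrullDim_eq_of_ringEquiv (DoubleQuot.quotQuotEquivQuotOfLE hqP)
  have hcomap : Pb.comap π = P := by
    rw [Ideal.comap_map_of_surjective π hπ]
    have : Ideal.comap π ⊥ = q := by
      rw [← RingHom.ker_eq_comap_bot]; exact Ideal.mk_ker
    rw [this]
    exact sup_eq_left.mpr hqP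
  have h3 : Pb.height ≤ n := by
    have hmem : Pb ∈ (Ideal.span (π '' S)).minimalPrimes := by
      refine ⟨⟨hPb, ?_⟩, ?_⟩
      · rw [Ideal.span_le]
        rintro _ ⟨x, hx, rfl⟩
        exact Ideal.mem_map_of_mem _ (hSP hx)
      · rintro J ⟨hJ, hJS⟩ hJP
        have h4 := hmin (J.comap π) (Ideal.comap_isPrime π J) ?_ ?_ ?_
        · intro x hx
          obtain ⟨y, rfl⟩ := hπ x
          have hy : y ∈ P := by
            rw [← hcomap]; exact hx
          exact h4 hy
        · intro x hx
          show π x ∈ J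
          have : π x = 0 := Ideal.Quotient.eq_zero_iff_mem.mpr hx
          rw [this]; exact J.zero_mem
        · intro x hx
          exact hJS (Ideal.subset_span ⟨x, hx, rfl⟩)
        · rw [← hcomap]
          exact Ideal.comap_mono hJP
    calc Pb.height ≤ ((π '' S).ncard : ℕ∞) :=
          Ideal.height_le_card_of_mem_minimalPrimes_span (hS.image π) hmem
      _ ≤ (S.ncard : ℕ∞) := by exact_mod_cast Set.ncard_image_le hS
      _ ≤ n := by exact_mod_cast hSn
  rw [← h1, h2, add_comm]
  gcongr
  exact_mod_cast h3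



open CategoryTheory.Limits in
/-- dimension of the closure of a point in terms of an affine chart -/
theorem dim_closure_eq_quotient {κ : Type u} [Field κ] {X : Scheme.{u}}
    (g : X ⟶ Spec (CommRingCat.of κ)) [LocallyOfFiniteType g]
    (U : X.Opens) (hU : IsAffineOpen U) (x : X) (hx : x ∈ U) :
    topologicalKrullDim ↥(closure ({x} : Set X)) =
      ringKrullDim (Γ(X, U) ⧸ (hU.primeIdealOf ⟨x, hx⟩).asIdeal) := by
  rw [← Groth.Agent.Lib.H71EquiDimSch.dim_closure_inter_open g x (U : Set X) U.isOpen hx]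
  have hemb : Topology.IsOpenEmbedding hU.fromSpec := hU.fromSpec.isOpenEmbedding
  let s : ↥(Spec Γ(X, U)) := hU.primeIdealOf ⟨x, hx⟩
  have hs : hU.fromSpec s = x := hU.fromSpec_primeIdealOf ⟨x, hx⟩
  have hrange : Set.range hU.fromSpec = (U : Set X) := hU.range_fromSpec
  have himg : closure ({x} : Set X) ∩ (U : Set X) =
      hU.fromSpec '' closure ({s} : Set ↥(Spec Γ(X, U))) := by
    ext p
    constructor
    · rintro ⟨hp1, hp2⟩
      rw [← hrange] at hp2
      obtain ⟨t, rfl⟩ := hp2
      refine ⟨t, ?_, rfl⟩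
      rw [← hs] at hp1
      rw [← specializes_iff_mem_closure] at hp1 ⊢
      exact hemb.isInducing.specializes_iff.mp hp1
    · rintro ⟨t, ht, rfl⟩
      refine ⟨?_, ?_⟩
      · rw [← hs]
        rw [← specializes_iff_mem_closure] at ht ⊢
        exact ht.map hU.fromSpec.continuous
      · rw [← hrange]; exact ⟨t, rfl⟩
  rw [himg]
  have e1 : topologicalKrullDim
      ↥(hU.fromSpec '' closure ({s} : Set ↥(Spec Γ(X, U)))) =
      topologicalKrullDim ↥(closure ({s} : Set ↥(Spec Γ(X, U)))) :=
    (IsHomeomorph.topologicalKrullDim_eq _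
      (hemb.isEmbedding.homeomorphImage _).isHomeomorph).symm
  rw [e1]
  exact Groth.Agent.Lib.H71EquiDimSch.dim_closure_primeSpectrum Γ(X, U) (hU.primeIdealOf ⟨x, hx⟩)

open CategoryTheory.Limits in
/-- **Products of closed irreducible subsets**: a point of `X ×_k Y` lying over `V × W` with no
proper generization over `V × W` has closure of dimension `dim V + dim W`. -/
theorem dim_closure_eq_of_maximal_over_prod {k : Type u} [Field k] {X Y : Scheme.{u}}
    (f : X ⟶ Spec (CommRingCat.of k)) (g : Y ⟶ Spec (CommRingCat.of k))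
    [LocallyOfFiniteType f] [LocallyOfFiniteType g]
    (V : Set X) (hVc : IsClosed V) (hVi : IsIrreducible V)
    (W : Set Y) (hWc : IsClosed W) (hWi : IsIrreducible W)
    (w : ↥(pullback f g)) (hwV : pullback.fst f g w ∈ V) (hwW : pullback.snd f g w ∈ W)
    (hmax : ∀ t : ↥(pullback f g), pullback.fst f g t ∈ V → pullback.snd f g t ∈ W →
      t ⤳ w → t = w) :
    topologicalKrullDim ↥(closure ({w} : Set ↥(pullback f g))) =
      topologicalKrullDim ↥V + topologicalKrullDim ↥W := by
  let I := Scheme.IdealSheafData.vanishingIdeal ⟨V, hVc⟩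
  let J := Scheme.IdealSheafData.vanishingIdeal ⟨W, hWc⟩
  have hrI : Set.range I.subschemeι = V := by
    rw [Scheme.IdealSheafData.range_subschemeι, Scheme.IdealSheafData.coe_support_vanishingIdeal]
    rfl
  have hrJ : Set.range J.subschemeι = W := by
    rw [Scheme.IdealSheafData.range_subschemeι, Scheme.IdealSheafData.coe_support_vanishingIdeal]
    rfl
  haveI : IsReduced I.subscheme :=
    Groth.Agent.Lib.ReducedSubscheme.isReduced_subscheme_vanishingIdeal ⟨V, hVc⟩
  haveI : IsReduced J.subscheme :=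
    Groth.Agent.Lib.ReducedSubscheme.isReduced_subscheme_vanishingIdeal ⟨W, hWc⟩
  haveI : IrreducibleSpace ↥I.subscheme := by
    rw [Groth.Agent.Lib.GenerizationIrred.irreducibleSpace_iff_isIrreducible_range
      I.subschemeι.isClosedEmbedding.isEmbedding, hrI]
    exact hVi
  haveI : IrreducibleSpace ↥J.subscheme := by
    rw [Groth.Agent.Lib.GenerizationIrred.irreducibleSpace_iff_isIrreducible_range
      J.subschemeι.isClosedEmbedding.isEmbedding, hrJ]
    exact hWi
  haveI : IsIntegral I.subscheme := isIntegral_of_irreducibleSpace_of_isReduced _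
  haveI : IsIntegral J.subscheme := isIntegral_of_irreducibleSpace_of_isReduced _
  have e₁ : (I.subschemeι ≫ f) ≫ 𝟙 _ = I.subschemeι ≫ f := Category.comp_id _
  have e₂ : (J.subschemeι ≫ g) ≫ 𝟙 _ = J.subschemeι ≫ g := Category.comp_id _
  let m := pullback.map (I.subschemeι ≫ f) (J.subschemeι ≫ g) f g I.subschemeι J.subschemeι (𝟙 _)
    e₁ e₂
  haveI : IsClosedImmersion m :=
    MorphismProperty.pullbackMap (P := @IsClosedImmersion) (f := I.subschemeι ≫ f)
      (g := J.subschemeι ≫ g) (f' := f) (g' := g) (i₁ := I.subschemeι) (i₂ := J.subschemeι)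
      inferInstance inferInstance rfl rfl
  have hrm : Set.range m = pullback.fst f g ⁻¹' V ∩ pullback.snd f g ⁻¹' W := by
    rw [← hrI, ← hrJ]
    exact Scheme.Pullback.range_map (I.subschemeι ≫ f) (J.subschemeι ≫ g) f g I.subschemeι
      J.subschemeι (𝟙 _) e₁ e₂
  have hmemb : Topology.IsClosedEmbedding m := m.isClosedEmbedding
  obtain ⟨w', hw'⟩ : w ∈ Set.range m := by
    rw [hrm]
    exact ⟨hwV, hwW⟩
  have hmax' : ∀ t, t ⤳ w' → t = w' := by
    intro t ht
    apply hmemb.injective
    rw [hw']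
    have : m t ∈ Set.range m := ⟨t, rfl⟩
    rw [hrm] at this
    apply hmax _ this.1 this.2
    rw [← hw']
    exact ht.map m.continuous
  haveI : LocallyOfFiniteType (I.subschemeι ≫ f) := inferInstance
  haveI : LocallyOfFiniteType (J.subschemeι ≫ g) := inferInstance
  have key := Groth.Agent.Lib.H71EquiDimSch.dim_closure_maximal_point_prod
    (I.subschemeι ≫ f) (J.subschemeι ≫ g) w' hmax'
  have e1 : closure ({w} : Set ↥(pullback f g)) = m '' closure ({w'} : Set _) := by
    rw [← hmemb.closure_image_eq, Set.image_singleton, hw']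
  rw [e1]
  have e2 : topologicalKrullDim ↥(m '' closure ({w'} : Set _)) =
      topologicalKrullDim ↥(closure ({w'} : Set _)) :=
    (IsHomeomorph.topologicalKrullDim_eq _
      (hmemb.isEmbedding.homeomorphImage _).isHomeomorph).symm
  rw [e2, key, ← hrI, ← hrJ]
  congr 1
  · exact IsHomeomorph.topologicalKrullDim_eq _
      I.subschemeι.isClosedEmbedding.isEmbedding.toHomeomorph.isHomeomorph
  · exact IsHomeomorph.topologicalKrullDim_eq _
      J.subschemeι.isClosedEmbedding.isEmbedding.toHomeomorph.isHomeomorph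


/-- over a field, the fibre dimension of the structure morphism is the local dimension
(copied from helper87's S12422) -/
theorem fibreDimAt_over_field (k : Type u) [Field k] (X : Scheme.{u})
    [X.Over (Spec (CommRingCat.of k))] (x : X) :
    FlatMor.fibreDimAt (X ↘ (Spec (CommRingCat.of k))) x = FlatMor.localDim X x := by
  rw [Groth.Agent.Lib.H56LocDim.fibreDimAt_eq_fibLocDim]
  unfold Groth.Agent.Lib.H56LocDim.fibLocDim
  have huniv : ((X ↘ (Spec (CommRingCat.of k))).base ⁻¹'
      {(X ↘ (Spec (CommRingCat.of k))).base x} : Set X) = Set.univ := by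
    ext z
    simp only [Set.mem_preimage, Set.mem_singleton_iff, Set.mem_univ, iff_true]
    exact Subsingleton.elim (α := PrimeSpectrum k) _ _
  have hopen : IsOpen ((X ↘ (Spec (CommRingCat.of k))).base ⁻¹'
      {(X ↘ (Spec (CommRingCat.of k))).base x} : Set X) := by
    rw [huniv]
    exact isOpen_univ
  exact Groth.Agent.Lib.H56LocDim.localDim_eq_of_isOpenEmbedding
    hopen.isOpenEmbedding_subtypeVal ⟨x, rfl⟩

/-- points of an affine open whose prime contains the kernel of a closed immersion lie in the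
range -/
theorem mem_range_of_ker_le {X P : Scheme.{u}} (Δ : X ⟶ P) [IsClosedImmersion Δ] (U : P.Opens)
    (hU : IsAffineOpen U) (p : ↥(Spec Γ(P, U)))
    (hp : (RingHom.ker (Δ.app U).hom : Set Γ(P, U)) ⊆ (p : PrimeSpectrum Γ(P, U)).asIdeal) :
    hU.fromSpec p ∈ Set.range Δ := by
  have hpU : hU.fromSpec p ∈ U := by
    rw [← SetLike.mem_coe, ← hU.range_fromSpec]; exact ⟨p, rfl⟩
  have h1 : hU.fromSpec p ∈ (Δ.ker.support : Set P) := by
    rw [SetLike.mem_coe, Scheme.IdealSheafData.mem_support_iff_of_mem (U := ⟨U, hU⟩) hpU,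
      Scheme.Hom.ker_apply]
    have : p ∈ hU.fromSpec ⁻¹' P.zeroLocus (U := U) (RingHom.ker (Δ.app U).hom : Set Γ(P, U)) := by
      rw [hU.fromSpec_preimage_zeroLocus]; exact hp
    exact this
  rw [Scheme.Hom.support_ker] at h1
  rwa [Δ.isClosedEmbedding.isClosed_range.closure_eq] at h1

/-- generic points of irreducible components of a closed subset are maximal for generization -/
theorem eq_of_specializes_generic {Y : Type*} [TopologicalSpace Y] [T0Space Y] (T : Set Y)
    (Z : Set ↥T) (hZ : Z ∈ irreducibleComponents ↥T) (z0 : ↥T) (hz0 : IsGenericPoint z0 Z)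
    (x : Y) (hxT : x ∈ T) (hx : x ⤳ z0.1) : x = z0.1 := by
  have h1 : (⟨x, hxT⟩ : ↥T) ⤳ z0 := Topology.IsInducing.subtypeVal.specializes_iff.mp hx
  have h2 : Z ⊆ closure {(⟨x, hxT⟩ : ↥T)} := by
    rw [← hz0.def]
    exact closure_minimal (Set.singleton_subset_iff.mpr (specializes_iff_mem_closure.mp h1))
      isClosed_closure
  have h3 := hZ.2 isIrreducible_singleton.closure h2
  have h4 : z0 ⤳ (⟨x, hxT⟩ : ↥T) := by
    rw [specializes_iff_mem_closure, hz0.def]
    exact h3 (subset_closure rfl)
  exact congrArg Subtype.val (h1.antisymm h4).eq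

/-- every point of a closed subset of a quasi-sober space is a specialization of a maximal point -/
theorem exists_maximal_generization {Y : Type*} [TopologicalSpace Y] [T0Space Y] [QuasiSober Y]
    (T : Set Y) (hT : IsClosed T) (y : Y) (hy : y ∈ T) :
    ∃ t ∈ T, t ⤳ y ∧ ∀ t' ∈ T, t' ⤳ t → t' = t := by
  haveI : QuasiSober ↥T := hT.isClosedEmbedding_subtypeVal.quasiSober
  have hc := irreducibleComponent_mem_irreducibleComponents (⟨y, hy⟩ : ↥T)
  obtain ⟨t0, ht0⟩ := QuasiSober.sober hc.1 (isClosed_of_mem_irreducibleComponents _ hc)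
  refine ⟨t0.1, t0.2, ?_, fun t' ht' h => eq_of_specializes_generic T _ hc t0 ht0 t' ht' h⟩
  have : t0 ⤳ (⟨y, hy⟩ : ↥T) := by
    rw [specializes_iff_mem_closure, ht0.def]
    exact mem_irreducibleComponent
  exact this.map continuous_subtype_val


open CategoryTheory.Limits in
theorem main (k : Type u) [Field k] (X : Scheme.{u})
    (f : X ⟶ Spec (CommRingCat.of k)) [Smooth f] [IsSeparated f] [QuasiCompact f] [IsIntegral X]
    (n r s : ℕ) (hn : topologicalKrullDim X = n) (V W : Set X) (hVc : IsClosed V)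
    (hVi : IsIrreducible V) (hWc : IsClosed W) (hWi : IsIrreducible W)
    (hr : topologicalKrullDim ↥V = r) (hs : topologicalKrullDim ↥W = s) (Z : Set ↥(V ∩ W))
    (hZ : Z ∈ irreducibleComponents ↥(V ∩ W)) :
    ((r + s : ℕ) : WithBot ℕ∞) ≤ topologicalKrullDim ↥Z + n := by
  -- Step 1: relative dimension
  haveI : SmoothOfRelativeDimension n f := by
    letI : X.Over (Spec (CommRingCat.of k)) := ⟨f⟩
    haveI : LocallyOfFiniteType (X ↘ Spec (CommRingCat.of k)) :=
      (inferInstance : LocallyOfFiniteType f)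
    apply Groth.Agent.Lib.H87FirstSeqSmooth.smoothOfRelativeDimension_of_fibreDimAt
    intro x
    have h1 := fibreDimAt_over_field k X x
    have h2 := Groth.Agent.Lib.H56LocDim.localDim_eq_dim_of_irreducible k X x
    change FlatMor.fibreDimAt f x = _ at h1
    rw [h1, h2, hn]
  -- Step 2: the generic point of `Z`
  have hVWc : IsClosed (V ∩ W) := hVc.inter hWc
  have hZi : IsIrreducible Z := hZ.1
  have hZc : IsClosed Z := isClosed_of_mem_irreducibleComponents Z hZ
  haveI : QuasiSober ↥(V ∩ W) := hVWc.isClosedEmbedding_subtypeVal.quasiSober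
  obtain ⟨z0, hz0⟩ := QuasiSober.sober hZi hZc
  have hdimZ : topologicalKrullDim ↥Z = topologicalKrullDim ↥(closure ({z0.1} : Set X)) := by
    rw [Groth.Agent.Lib.H30LocDimTop.dim_image_val, ← hz0.def,
      ← hVWc.isClosedEmbedding_subtypeVal.closure_image_eq, Set.image_singleton]
  have hzmax : ∀ x : X, x ∈ V ∩ W → x ⤳ z0.1 → x = z0.1 :=
    fun x hx h => eq_of_specializes_generic (V ∩ W) Z hZ z0 hz0 x hx h
  -- Step 3: the product
  have hfstΔ : ∀ x : X, pullback.fst f f (pullback.diagonal f x) = x := by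
    intro x
    rw [← Scheme.Hom.comp_apply, pullback.diagonal_fst]; rfl
  have hsndΔ : ∀ x : X, pullback.snd f f (pullback.diagonal f x) = x := by
    intro x
    rw [← Scheme.Hom.comp_apply, pullback.diagonal_snd]; rfl
  have hTc : IsClosed (pullback.fst f f ⁻¹' V ∩ pullback.snd f f ⁻¹' W) :=
    (hVc.preimage (pullback.fst f f).continuous).inter (hWc.preimage (pullback.snd f f).continuous)
  have hΔT : pullback.diagonal f z0.1 ∈ pullback.fst f f ⁻¹' V ∩ pullback.snd f f ⁻¹' W := by
    refine ⟨?_, ?_⟩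
    · show pullback.fst f f (pullback.diagonal f z0.1) ∈ V
      rw [hfstΔ]; exact z0.2.1
    · show pullback.snd f f (pullback.diagonal f z0.1) ∈ W
      rw [hsndΔ]; exact z0.2.2
  obtain ⟨t, htT, htz, htmax⟩ := exists_maximal_generization _ hTc _ hΔT
  have hdimt := dim_closure_eq_of_maximal_over_prod f f V hVc hVi W hWc hWi t htT.1 htT.2
    (fun t' h1 h2 h3 => htmax t' ⟨h1, h2⟩ h3)
  rw [hr, hs] at hdimt
  -- Step 4: the regular chart at the diagonal
  obtain ⟨U, hΔU, -, rs, hlen, -, hker⟩ :=
    Groth.Agent.Lib.H87DiagReg.exists_regular_at_diagonal f n z0.1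
  have htU : t ∈ U.1 := htz.mem_open U.1.isOpen hΔU
  -- the structure morphism of the product
  haveI : LocallyOfFiniteType (pullback.fst f f) := MorphismProperty.pullback_fst _ _ inferInstance
  haveI : LocallyOfFiniteType (pullback.fst f f ≫ f) := inferInstance
  obtain ⟨φ, hφ⟩ := Spec.map_surjective (U.2.fromSpec ≫ pullback.fst f f ≫ f)
  letI : Algebra k Γ(pullback f f, U.1) := φ.hom.toAlgebra
  haveI : Algebra.FiniteType k Γ(pullback f f, U.1) := by
    have h1 : LocallyOfFiniteType (Spec.map φ) := by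
      rw [hφ]
      infer_instance
    exact (HasRingHomProperty.Spec_iff (P := @LocallyOfFiniteType)).mp h1
  -- the two primes
  have hdq := dim_closure_eq_quotient (pullback.fst f f ≫ f) U.1 U.2 t htU
  have hdP := dim_closure_eq_quotient (pullback.fst f f ≫ f) U.1 U.2 (pullback.diagonal f z0.1) hΔU
  have hjt : U.2.fromSpec (U.2.primeIdealOf ⟨t, htU⟩) = t := U.2.fromSpec_primeIdealOf ⟨t, htU⟩
  have hjz : U.2.fromSpec (U.2.primeIdealOf ⟨pullback.diagonal f z0.1, hΔU⟩) =
      pullback.diagonal f z0.1 := U.2.fromSpec_primeIdealOf ⟨_, hΔU⟩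
  have hemb : Topology.IsOpenEmbedding U.2.fromSpec := U.2.fromSpec.isOpenEmbedding
  have hqP : (U.2.primeIdealOf ⟨t, htU⟩).asIdeal ≤
      (U.2.primeIdealOf ⟨pullback.diagonal f z0.1, hΔU⟩).asIdeal := by
    change U.2.primeIdealOf ⟨t, htU⟩ ≤ U.2.primeIdealOf ⟨pullback.diagonal f z0.1, hΔU⟩
    rw [PrimeSpectrum.le_iff_specializes]
    apply hemb.isInducing.specializes_iff.mp
    rw [hjt, hjz]
    exact htz
  -- Step 5: the algebraic estimate
  have hS : {x | x ∈ rs}.Finite := rs.finite_toSet
  have hSn : {x | x ∈ rs}.ncard ≤ n := by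
    classical
    have h1 : {x | x ∈ rs} = (rs.toFinset : Set Γ(pullback f f, U.1)) := by
      ext x; simp
    rw [h1, Set.ncard_coe_finset, ← hlen]
    exact rs.toFinset_card_le
  have hSker : ∀ I : Ideal Γ(pullback f f, U.1), {x | x ∈ rs} ⊆ (I : Set Γ(pullback f f, U.1)) →
      (RingHom.ker ((pullback.diagonal f).app U.1).hom : Set Γ(pullback f f, U.1)) ⊆ I := by
    intro I hI
    rw [hker]
    exact Ideal.span_le.mpr hI
  have hkerP : (RingHom.ker ((pullback.diagonal f).app U.1).hom : Set Γ(pullback f f, U.1)) ⊆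
      (U.2.primeIdealOf ⟨pullback.diagonal f z0.1, hΔU⟩).asIdeal := by
    have h1 : U.2.fromSpec (U.2.primeIdealOf ⟨pullback.diagonal f z0.1, hΔU⟩) ∈
        ((pullback.diagonal f).ker.support : Set ↥(pullback f f)) := by
      rw [hjz]
      exact (pullback.diagonal f).range_subset_ker_support ⟨z0.1, rfl⟩
    rw [SetLike.mem_coe, Scheme.IdealSheafData.mem_support_iff_of_mem (U := U) (by rw [hjz]; exact hΔU),
      Scheme.Hom.ker_apply] at h1
    have h2 : U.2.primeIdealOf ⟨pullback.diagonal f z0.1, hΔU⟩ ∈ U.2.fromSpec ⁻¹'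
        (pullback f f).zeroLocus (U := U.1)
          (RingHom.ker ((pullback.diagonal f).app U.1).hom : Set Γ(pullback f f, U.1)) := h1
    rw [U.2.fromSpec_preimage_zeroLocus] at h2
    exact h2
  have hSP : {x | x ∈ rs} ⊆
      ((U.2.primeIdealOf ⟨pullback.diagonal f z0.1, hΔU⟩).asIdeal : Set Γ(pullback f f, U.1)) := by
    intro x hx
    apply hkerP
    rw [hker]
    exact Ideal.subset_span hx
  have hmin : ∀ q' : Ideal Γ(pullback f f, U.1), q'.IsPrime →
      (U.2.primeIdealOf ⟨t, htU⟩).asIdeal ≤ q' → {x | x ∈ rs} ⊆ (q' : Set Γ(pullback f f, U.1)) →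
      q' ≤ (U.2.primeIdealOf ⟨pullback.diagonal f z0.1, hΔU⟩).asIdeal →
      (U.2.primeIdealOf ⟨pullback.diagonal f z0.1, hΔU⟩).asIdeal ≤ q' := by
    intro q' hq' h1 h2 h3
    let p : ↥(Spec Γ(pullback f f, U.1)) := (⟨q', hq'⟩ : PrimeSpectrum Γ(pullback f f, U.1))
    -- `y = j p` lies in the range of the diagonal
    obtain ⟨x, hx⟩ := mem_range_of_ker_le (pullback.diagonal f) U.1 U.2 p (hSker q' h2)
    -- `t ⤳ y`
    have hty : t ⤳ U.2.fromSpec p := by
      rw [← hjt]
      have h1' : (U.2.primeIdealOf ⟨t, htU⟩ : PrimeSpectrum Γ(pullback f f, U.1)) ⤳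
          (⟨q', hq'⟩ : PrimeSpectrum Γ(pullback f f, U.1)) :=
        (PrimeSpectrum.le_iff_specializes _ _).mp h1
      exact Specializes.map h1' U.2.fromSpec.continuous
    have hyz : U.2.fromSpec p ⤳ pullback.diagonal f z0.1 := by
      rw [← hjz]
      have h3' : (⟨q', hq'⟩ : PrimeSpectrum Γ(pullback f f, U.1)) ⤳
          (U.2.primeIdealOf ⟨pullback.diagonal f z0.1, hΔU⟩ : PrimeSpectrum Γ(pullback f f, U.1)) :=
        (PrimeSpectrum.le_iff_specializes _ _).mp h3
      exact Specializes.map h3' U.2.fromSpec.continuous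
    have hyT : U.2.fromSpec p ∈ pullback.fst f f ⁻¹' V ∩ pullback.snd f f ⁻¹' W :=
      hty.mem_closed hTc htT
    rw [← hx] at hyT hyz
    have hxVW : x ∈ V ∩ W := by
      refine ⟨?_, ?_⟩
      · have := hyT.1
        rwa [Set.mem_preimage, hfstΔ] at this
      · have := hyT.2
        rwa [Set.mem_preimage, hsndΔ] at this
    have hxz : x ⤳ z0.1 := by
      have := hyz.map (pullback.fst f f).continuous
      rwa [hfstΔ, hfstΔ] at this
    have hxeq := hzmax x hxVW hxz
    have hpeq : p = U.2.primeIdealOf ⟨pullback.diagonal f z0.1, hΔU⟩ := by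
      apply hemb.injective
      rw [hjz, ← hx, hxeq]
    rw [← hpeq]
  have key := alg_dim_le k Γ(pullback f f, U.1) (U.2.primeIdealOf ⟨t, htU⟩).asIdeal
    (U.2.primeIdealOf ⟨pullback.diagonal f z0.1, hΔU⟩).asIdeal hqP {x | x ∈ rs} hS n hSn hSP hmin
  rw [← hdq, ← hdP, hdimt] at key
  -- Step 6: the diagonal is a closed embedding
  have hΔemb : Topology.IsClosedEmbedding (pullback.diagonal f) :=
    (pullback.diagonal f).isClosedEmbedding
  have e1 : closure ({pullback.diagonal f z0.1} : Set ↥(pullback f f)) =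
      pullback.diagonal f '' closure ({z0.1} : Set X) := by
    rw [← hΔemb.closure_image_eq, Set.image_singleton]
  have e2 : topologicalKrullDim ↥(pullback.diagonal f '' closure ({z0.1} : Set X)) =
      topologicalKrullDim ↥(closure ({z0.1} : Set X)) :=
    (IsHomeomorph.topologicalKrullDim_eq _
      (hΔemb.isEmbedding.homeomorphImage _).isHomeomorph).symm
  rw [e1, e2, ← hdimZ] at key
  exact_mod_cast key



/-- Let k be a field and X a smooth variety over k (the structure morphism X → Spec k smooth, separated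
and quasi-compact, X integral) of dimension n, and let V, W ⊆ X be closed irreducible subsets of
dimensions r and s. Then every irreducible component Z of V ∩ W has dimension at least r + s − n,
stated as r + s ≤ dim Z + n with Krull dimensions of the subspaces; equivalently the codimension of
Z is at most the sum of the codimensions of V and W. The base field is arbitrary here; the same
statement over an algebraically closed field is the classical dimension count for intersections on a
nonsingular variety. -/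
theorem result (k : Type u) [Field k] (X : Scheme.{u})
    (f : X ⟶ Spec (CommRingCat.of k)) [Smooth f] [IsSeparated f] [QuasiCompact f] [IsIntegral X]
    (n r s : ℕ) (hn : topologicalKrullDim X = n) (V W : Set X) (hVc : IsClosed V)
    (hVi : IsIrreducible V) (hWc : IsClosed W) (hWi : IsIrreducible W)
    (hr : topologicalKrullDim ↥V = r) (hs : topologicalKrullDim ↥W = s) (Z : Set ↥(V ∩ W))
    (hZ : Z ∈ irreducibleComponents ↥(V ∩ W)) :
    ((r + s : ℕ) : WithBot ℕ∞) ≤ topologicalKrullDim ↥Z + n := by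
  exact main k X f n r s hn V W hVc hVi hWc hWi hr hs Z hZ

end Groth.Agent.S19416
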