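import Groth.Statements.S6555
import Groth.Agent.Lib.H87CurveDs

set_option autoImplicit false
universe u
open CategoryTheory CategoryTheory.Limits AlgebraicGeometry
attribute [local instance] Curv2.resAlgebra Curv2.stalkAlgebra
open Curves

namespace Groth.Agent.S6555

/-- chart: an affine open `V'` of `X` containing `x` such that `Γ(Spec k, ⊤) → Γ(X, V')` is standard
smooth of relative dimension `n`. -/
theorem exists_chart (k : Type u) [Field k] (X : Scheme.{u}) (p : X ⟶ Spec (CommRingCat.of k))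
    (x : X) (n : ℕ)
    (hsm : ∃ U : X.Opens, x ∈ U ∧ SmoothOfRelativeDimension n (U.ι ≫ p)) :
    ∃ (V' : X.Opens) (_ : IsAffineOpen V') (_ : x ∈ V'),
      RingHom.IsStandardSmoothOfRelativeDimension n (p.appLE ⊤ V' le_top).hom := by
  obtain ⟨U, hxU, hsmU⟩ := hsm
  obtain ⟨U₀, hU₀, V, hV, hxV, e, hstd⟩ :=
    hsmU.exists_isStandardSmoothOfRelativeDimension ⟨x, hxU⟩
  have hU₀top : U₀ = ⊤ := by
    ext y
    simp only [TopologicalSpace.Opens.coe_top, Set.mem_univ, iff_true]
    have hy : y = (U.ι ≫ p) ⟨x, hxU⟩ :=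
      Subsingleton.elim (α := PrimeSpectrum k) _ _
    rw [hy]
    exact e hxV
  subst hU₀top
  refine ⟨U.ι ''ᵁ V, hV.image_of_isOpenImmersion U.ι, ⟨⟨x, hxU⟩, hxV, rfl⟩, ?_⟩
  have e2 : V ≤ U.ι ⁻¹ᵁ (U.ι ''ᵁ V) := by
    rw [Scheme.Hom.preimage_image_eq]
  have hcomp : (U.ι ≫ p).appLE ⊤ V e =
      p.appLE ⊤ (U.ι ''ᵁ V) le_top ≫ U.ι.appLE (U.ι ''ᵁ V) V e2 := by
    rw [Scheme.Hom.appLE_comp_appLE]
  have hiso : U.ι.appLE (U.ι ''ᵁ V) V e2 = (U.ι.appIso V).hom := by
    have := Scheme.Hom.appIso_inv_appLE U.ι (U := V) (V := V) e2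
    rw [Iso.inv_comp_eq] at this
    rw [this]
    convert Category.comp_id _
    exact (U : Scheme).presheaf.map_id _
  rw [hcomp, hiso] at hstd
  exact (RingHom.isStandardSmoothOfRelativeDimension_respectsIso (n := n)).cancel_right_isIso _ _ |>.mp hstd


/-- Let X be a scheme over the field k and x ∈ X a closed point near which X → Spec k is smooth of
relative dimension 1 (on some open neighbourhood of x), with κ(x)/k separable. If s is an
irreducible element of the local ring O_{X,x} (a discrete valuation ring, so s generates its maximal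
ideal), then Ω_{O_{X,x}/k}, which is the stalk of Ω_{X/k} at x, is free of rank one with basis d s:
the map a ↦ a · d s from O_{X,x} to Ω_{O_{X,x}/k} is bijective. -/
theorem result (k : Type u) [Field k] (X : Scheme.{u}) [X.Over (Spec (CommRingCat.of k))]
    (x : X) (hx : IsClosed ({x} : Set X))
    (hsm : ∃ U : X.Opens, x ∈ U ∧ SmoothOfRelativeDimension 1 (U.ι ≫ (X ↘ (Spec (CommRingCat.of k)))))
    (hsep : Algebra.IsSeparable k (X.residueField x))
    (s : X.presheaf.stalk x) (hs : Irreducible s) :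
    Function.Bijective (fun a : X.presheaf.stalk x => a • KaehlerDifferential.D k (X.presheaf.stalk x) s) := by
  obtain ⟨V', hV', hxV', hstd⟩ := exists_chart k X (X ↘ (Spec (CommRingCat.of k))) x 1 hsm
  set p := X ↘ (Spec (CommRingCat.of k)) with hp
  letI a1 : Algebra Γ(Spec (CommRingCat.of k), ⊤) Γ(X, V') := (p.appLE ⊤ V' le_top).hom.toAlgebra
  letI a2 : Algebra Γ(X, V') (X.presheaf.stalk x) := X.presheaf.algebra_section_stalk ⟨x, hxV'⟩
  letI a3 : Algebra k Γ(Spec (CommRingCat.of k), ⊤) :=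
    (Scheme.ΓSpecIso (CommRingCat.of k)).inv.hom.toAlgebra
  letI a4 : Algebra Γ(Spec (CommRingCat.of k), ⊤) (X.presheaf.stalk x) :=
    ((algebraMap Γ(X, V') (X.presheaf.stalk x)).comp
      (algebraMap Γ(Spec (CommRingCat.of k), ⊤) Γ(X, V'))).toAlgebra
  haveI t1 : IsScalarTower Γ(Spec (CommRingCat.of k), ⊤) Γ(X, V') (X.presheaf.stalk x) :=
    IsScalarTower.of_algebraMap_eq (fun _ => rfl)
  haveI t2 : IsScalarTower k Γ(Spec (CommRingCat.of k), ⊤) (X.presheaf.stalk x) := by
    refine IsScalarTower.of_algebraMap_eq (fun c => ?_)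
    change (X.presheaf.germ ⊤ x trivial).hom (p.appTop.hom
        ((Scheme.ΓSpecIso (CommRingCat.of k)).inv.hom c)) =
      (X.presheaf.germ V' x hxV').hom ((p.appLE ⊤ V' le_top).hom
        ((Scheme.ΓSpecIso (CommRingCat.of k)).inv.hom c))
    generalize (Scheme.ΓSpecIso (CommRingCat.of k)).inv.hom c = c'
    have h1 : p.appLE ⊤ V' le_top = p.appTop ≫ X.presheaf.map (homOfLE le_top).op := rfl
    rw [h1]
    change _ = (X.presheaf.germ V' x hxV').hom ((X.presheaf.map (homOfLE le_top).op).hom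
      (p.appTop.hom c'))
    exact (TopCat.Presheaf.germ_res_apply X.presheaf (homOfLE le_top) x hxV' _).symm
  have hk : Function.Surjective (algebraMap k Γ(Spec (CommRingCat.of k), ⊤)) :=
    (ConcreteCategory.bijective_of_isIso (Scheme.ΓSpecIso (CommRingCat.of k)).inv).2
  haveI s1 : Algebra.IsStandardSmoothOfRelativeDimension 1 Γ(Spec (CommRingCat.of k), ⊤) Γ(X, V') :=
    hstd
  haveI l1 : IsLocalization.AtPrime (X.presheaf.stalk x) (hV'.primeIdealOf ⟨x, hxV'⟩).asIdeal :=
    hV'.isLocalization_stalk ⟨x, hxV'⟩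
  obtain ⟨hfree, hfin, hrank⟩ := Groth.Agent.Lib.H87CurveDs.free_kaehler_localization k
    Γ(Spec (CommRingCat.of k), ⊤) Γ(X, V') (X.presheaf.stalk x) hk 1
    (hV'.primeIdealOf ⟨x, hxV'⟩).asIdeal
  -- Noetherian
  haveI n0 : IsNoetherianRing Γ(Spec (CommRingCat.of k), ⊤) :=
    isNoetherianRing_of_surjective k _ (algebraMap k Γ(Spec (CommRingCat.of k), ⊤)) hk
  haveI s2 : Algebra.IsStandardSmooth Γ(Spec (CommRingCat.of k), ⊤) Γ(X, V') :=
    Algebra.IsStandardSmoothOfRelativeDimension.isStandardSmooth 1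
  haveI n1 : IsNoetherianRing Γ(X, V') :=
    Algebra.FiniteType.isNoetherianRing Γ(Spec (CommRingCat.of k), ⊤) Γ(X, V')
  haveI n2 : IsNoetherianRing (X.presheaf.stalk x) :=
    IsLocalization.isNoetherianRing (hV'.primeIdealOf ⟨x, hxV'⟩).asIdeal.primeCompl _ n1
  -- separability
  haveI sep : Algebra.IsSeparable k (IsLocalRing.ResidueField (X.presheaf.stalk x)) := by
    have halg : ∀ (i1 i2 : Algebra k (IsLocalRing.ResidueField (X.presheaf.stalk x))),
        (∀ r, @algebraMap _ _ _ _ i1 r = @algebraMap _ _ _ _ i2 r) →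
        @Algebra.IsSeparable k _ _ _ i1 → @Algebra.IsSeparable k _ _ _ i2 := by
      intro i1 i2 h hs
      have : i1 = i2 := Algebra.algebra_ext _ _ h
      subst this
      exact hs
    exact halg (Curv2.resAlgebra k X x) _ (fun r => rfl) hsep
  exact Groth.Agent.Lib.H87CurveDs.bijective_smul_D_of_irreducible k (X.presheaf.stalk x) hrank s hs

end Groth.Agent.S6555
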