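import Groth.Statements.S16548
import Groth.Agent.S6555
import Groth.Agent.S19416
import Groth.Agent.Lib.H87CurveDs
import Groth.Agent.Lib.H87FirstSeqSmooth
import Groth.Agent.Lib.H30DimField
import Groth.Agent.Lib.H73FibDim

set_option autoImplicit false
universe u
open CategoryTheory CategoryTheory.Limits AlgebraicGeometry
attribute [local instance] Curv2.resAlgebra
open Curves

namespace Groth.Agent.S16548

open TensorProduct KaehlerDifferential IsLocalRing


/-- functoriality of `KaehlerDifferential.map` (same base). -/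
theorem map_map (k A B C : Type u) [CommRing k] [CommRing A] [CommRing B] [CommRing C]
    [Algebra k A] [Algebra k B] [Algebra k C] [Algebra A B] [Algebra B C] [Algebra A C]
    [IsScalarTower k A B] [IsScalarTower k B C] [IsScalarTower k A C] [IsScalarTower A B C]
    (ω : Ω[A⁄k]) :
    KaehlerDifferential.map k k B C (KaehlerDifferential.map k k A B ω) =
      KaehlerDifferential.map k k A C ω := by
  have hspan := KaehlerDifferential.span_range_derivation k A
  have hω : ω ∈ Submodule.span A (Set.range (D k A)) := by rw [hspan]; trivial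
  induction hω using Submodule.span_induction with
  | mem x hx =>
    obtain ⟨a, rfl⟩ := hx
    simp only [KaehlerDifferential.map_D]
    rw [← IsScalarTower.algebraMap_apply]
  | zero => simp
  | add x y _ _ hx hy => simp only [map_add, hx, hy]
  | smul a x _ hx =>
    rw [map_smul, ← algebraMap_smul B a ((KaehlerDifferential.map k k A B) x), map_smul,
      algebraMap_smul, hx, map_smul]


theorem eq_bot_of_eq_pow {T : Type u} [CommRing T] [IsLocalRing T] [IsNoetherianRing T]
    (e : ℕ) (h2 : 2 ≤ e) (h : maximalIdeal T = maximalIdeal T ^ e) : maximalIdeal T = ⊥ := by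
  have hle : maximalIdeal T ≤ maximalIdeal T • maximalIdeal T := by
    calc maximalIdeal T = maximalIdeal T ^ e := h
      _ ≤ maximalIdeal T ^ 2 := Ideal.pow_le_pow_right h2
      _ = maximalIdeal T • maximalIdeal T := by rw [pow_two, smul_eq_mul]
  exact Submodule.eq_bot_of_le_smul_of_le_jacobson_bot (maximalIdeal T) (maximalIdeal T)
    (IsNoetherian.noetherian _) hle (maximalIdeal_le_jacobson ⊥)

set_option maxHeartbeats 800000 in
theorem alg_main (k T' T : Type u) [Field k] [CommRing T'] [CommRing T] [IsLocalRing T']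
    [IsLocalRing T] [Algebra k T'] [Algebra k T] [Algebra T' T] [IsScalarTower k T' T]
    [IsLocalHom (algebraMap T' T)] [IsNoetherianRing T]
    [Module.Free T' Ω[T'⁄k]] [Module.Finite T' Ω[T'⁄k]] (h1' : Module.finrank T' Ω[T'⁄k] = 1)
    [Module.Free T Ω[T⁄k]] [Module.Finite T Ω[T⁄k]] (h1 : Module.finrank T Ω[T⁄k] = 1)
    [Algebra.EssFiniteType T' T] [Algebra.EssFiniteType k T']
    [Algebra.IsSeparable (ResidueField T') (ResidueField T)]
    (e : ℕ) (he : (maximalIdeal T').map (algebraMap T' T) = maximalIdeal T ^ e) (h2 : 2 ≤ e)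
    (hm : maximalIdeal T ≠ ⊥) :
    Algebra.IsSeparable k (ResidueField T) := by
  classical
  haveI tw : IsScalarTower k (ResidueField T') (ResidueField T) :=
    IsScalarTower.of_algebraMap_eq (fun c => by
      rw [IsScalarTower.algebraMap_apply k T' (ResidueField T'),
        IsScalarTower.algebraMap_apply k T (ResidueField T),
        IsScalarTower.algebraMap_apply k T' T]
      rfl)
  by_cases hsep' : Algebra.IsSeparable k (ResidueField T')
  · exact Algebra.IsSeparable.trans k (ResidueField T') (ResidueField T)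
  exfalso
  haveI ess1 : Algebra.FiniteType T' (ResidueField T') :=
    Algebra.FiniteType.of_surjective (Algebra.ofId T' (ResidueField T')) residue_surjective
  haveI ess' : Algebra.EssFiniteType k (ResidueField T') :=
    Algebra.EssFiniteType.comp k T' (ResidueField T')
  have hnu : ¬ Algebra.FormallyUnramified k (ResidueField T') := fun h =>
    hsep' ((Algebra.FormallyUnramified.iff_isSeparable k (ResidueField T')).mp h)
  have hnt : Nontrivial Ω[ResidueField T'⁄k] := by
    by_contra hh
    rw [not_nontrivial_iff_subsingleton] at hh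
    exact hnu ⟨hh⟩
  -- bases
  let b' := Module.finBasisOfFinrankEq T' Ω[T'⁄k] h1'
  let b := Module.finBasisOfFinrankEq T Ω[T⁄k] h1
  -- the residue field of `T'`
  have hs' : Function.Surjective (mapBaseChange k T' (ResidueField T')) :=
    mapBaseChange_surjective k T' (ResidueField T') residue_surjective
  have hr' : Module.finrank (ResidueField T') ((ResidueField T') ⊗[T'] Ω[T'⁄k]) = 1 := by
    rw [Module.finrank_baseChange, h1']
  haveI : Module.Finite (ResidueField T') Ω[ResidueField T'⁄k] :=
    Module.Finite.of_surjective _ hs'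
  have hfr' : Module.finrank (ResidueField T') Ω[ResidueField T'⁄k] = 1 := by
    have hle := LinearMap.finrank_le_finrank_of_surjective hs'
    have hpos : 0 < Module.finrank (ResidueField T') Ω[ResidueField T'⁄k] :=
      Module.finrank_pos
    omega
  have hinj' : Function.Injective (mapBaseChange k T' (ResidueField T')) :=
    (LinearMap.injective_iff_surjective_of_finrank_eq_finrank (hr'.trans hfr'.symm)).mpr hs'
  have hne' : KaehlerDifferential.map k k T' (ResidueField T') (b' 0) ≠ 0 := by
    have h1 : mapBaseChange k T' (ResidueField T') (1 ⊗ₜ (b' 0)) =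
        KaehlerDifferential.map k k T' (ResidueField T') (b' 0) := by
      rw [mapBaseChange_tmul, one_smul]
    rw [← h1]
    intro h0
    have h2 := hinj' (h0.trans (map_zero _).symm)
    have hb := (b'.baseChange (ResidueField T')).ne_zero 0
    rw [Module.Basis.baseChange_apply] at hb
    exact hb h2
  -- from `κ(T')` to `κ(T)`
  haveI : Algebra.FormallyEtale (ResidueField T') (ResidueField T) :=
    Algebra.FormallyEtale.of_isSeparable (ResidueField T') (ResidueField T)
  have hinjK : Function.Injective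
      (KaehlerDifferential.map k k (ResidueField T') (ResidueField T)) := by
    have hcomp : ∀ y, KaehlerDifferential.map k k (ResidueField T') (ResidueField T) y =
        tensorKaehlerEquivOfFormallyEtale k (ResidueField T') (ResidueField T)
          ((1 : ResidueField T) ⊗ₜ[ResidueField T'] y) := by
      intro y
      rw [tensorKaehlerEquivOfFormallyEtale_apply, mapBaseChange_tmul, one_smul]
    intro y1 y2 h
    rw [hcomp, hcomp] at h
    have h' := (tensorKaehlerEquivOfFormallyEtale k (ResidueField T') (ResidueField T)).injective h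
    exact Module.FaithfullyFlat.tensorProduct_mk_injective (A := ResidueField T')
      (B := ResidueField T) Ω[ResidueField T'⁄k] h'
  -- the differential of `T' → T`
  obtain ⟨a, ha⟩ : ∃ a : T, KaehlerDifferential.map k k T' T (b' 0) = a • b 0 := by
    refine ⟨b.repr (KaehlerDifferential.map k k T' T (b' 0)) 0, ?_⟩
    conv_lhs => rw [← b.sum_repr (KaehlerDifferential.map k k T' T (b' 0))]
    simp
  have hau : IsUnit a := by
    by_contra hna
    have h0 : KaehlerDifferential.map k k T (ResidueField T)
        (KaehlerDifferential.map k k T' T (b' 0)) = 0 := by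
      rw [ha, map_smul, ← algebraMap_smul (ResidueField T) a, ResidueField.algebraMap_eq,
        (residue_eq_zero_iff a).mpr ((mem_maximalIdeal a).mpr hna), zero_smul]
    rw [map_map k T' T (ResidueField T), ← map_map k T' (ResidueField T') (ResidueField T)] at h0
    exact hne' (hinjK (h0.trans (map_zero _).symm))
  -- `T` is formally unramified over `T'`
  have hsurj : Function.Surjective (mapBaseChange k T' T) := by
    intro z
    obtain ⟨c, hc⟩ : ∃ c : T, z = c • b 0 := by
      refine ⟨b.repr z 0, ?_⟩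
      conv_lhs => rw [← b.sum_repr z]
      simp
    obtain ⟨a', ha'⟩ := hau.exists_right_inv
    refine ⟨(c * a') ⊗ₜ (b' 0), ?_⟩
    rw [mapBaseChange_tmul, ha, hc, smul_smul, mul_assoc, mul_comm a' a, ha', mul_one]
  haveI : Algebra.FormallyUnramified T' T := by
    refine ⟨⟨fun z1 z2 => ?_⟩⟩
    have hz : ∀ z : Ω[T⁄T'], z = 0 := by
      intro z
      obtain ⟨w, rfl⟩ := KaehlerDifferential.map_surjective k T' T z
      obtain ⟨v, rfl⟩ := hsurj w
      exact (KaehlerDifferential.exact_mapBaseChange_map k T' T _).mpr ⟨v, rfl⟩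
    rw [hz z1, hz z2]
  have hmm := Algebra.FormallyUnramified.map_maximalIdeal (R := T') (S := T)
  rw [he] at hmm
  exact hm (eq_bot_of_eq_pow e h2 hmm.symm)


attribute [local instance] Curv2.stalkAlgebra

/-- the local ring of a scheme smooth of relative dimension `1` over a field: Noetherian,
essentially of finite type, with free differentials of rank one -/
theorem stalk_data (k : Type u) [Field k] (X : Scheme.{u}) [X.Over (Spec (CommRingCat.of k))]
    [SmoothOfRelativeDimension 1 (X ↘ Spec (CommRingCat.of k))] (x : X) :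
    Module.Free (X.presheaf.stalk x) Ω[X.presheaf.stalk x⁄k] ∧
    Module.Finite (X.presheaf.stalk x) Ω[X.presheaf.stalk x⁄k] ∧
    Module.finrank (X.presheaf.stalk x) Ω[X.presheaf.stalk x⁄k] = 1 ∧
    IsNoetherianRing (X.presheaf.stalk x) ∧ Algebra.EssFiniteType k (X.presheaf.stalk x) := by
  have hsm : ∃ U : X.Opens, x ∈ U ∧
      SmoothOfRelativeDimension 1 (U.ι ≫ (X ↘ (Spec (CommRingCat.of k)))) :=
    ⟨⊤, trivial, inferInstanceAs <| SmoothOfRelativeDimension (0 + 1)
      ((⊤ : X.Opens).ι ≫ (X ↘ (Spec (CommRingCat.of k))))⟩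
  obtain ⟨V', hV', hxV', hstd⟩ :=
    Groth.Agent.S6555.exists_chart k X (X ↘ (Spec (CommRingCat.of k))) x 1 hsm
  set p := X ↘ (Spec (CommRingCat.of k)) with hp
  letI a1 : Algebra Γ(Spec (CommRingCat.of k), ⊤) Γ(X, V') := (p.appLE ⊤ V' le_top).hom.toAlgebra
  letI a2 : Algebra Γ(X, V') (X.presheaf.stalk x) := X.presheaf.algebra_section_stalk ⟨x, hxV'⟩
  letI a3 : Algebra k Γ(Spec (CommRingCat.of k), ⊤) :=
    (Scheme.ΓSpecIso (CommRingCat.of k)).inv.hom.toAlgebra
  letI a4 : Algebra Γ(Spec (CommRingCat.of k), ⊤) (X.presheaf.stalk x) :=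
    ((algebraMap Γ(X, V') (X.presheaf.stalk x)).comp
      (algebraMap Γ(Spec (CommRingCat.of k), ⊤) Γ(X, V'))).toAlgebra
  haveI t1 : IsScalarTower Γ(Spec (CommRingCat.of k), ⊤) Γ(X, V') (X.presheaf.stalk x) :=
    IsScalarTower.of_algebraMap_eq (fun _ => rfl)
  haveI t2 : IsScalarTower k Γ(Spec (CommRingCat.of k), ⊤) (X.presheaf.stalk x) := by
    refine IsScalarTower.of_algebraMap_eq (fun c => ?_)
    change (X.presheaf.germ ⊤ x trivial).hom (p.appTop.hom
        ((Scheme.ΓSpecIso (CommRingCat.of k)).inv.hom c)) =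
      (X.presheaf.germ V' x hxV').hom ((p.appLE ⊤ V' le_top).hom
        ((Scheme.ΓSpecIso (CommRingCat.of k)).inv.hom c))
    generalize (Scheme.ΓSpecIso (CommRingCat.of k)).inv.hom c = c'
    have h1 : p.appLE ⊤ V' le_top = p.appTop ≫ X.presheaf.map (homOfLE le_top).op := rfl
    rw [h1]
    change _ = (X.presheaf.germ V' x hxV').hom ((X.presheaf.map (homOfLE le_top).op).hom
      (p.appTop.hom c'))
    exact (TopCat.Presheaf.germ_res_apply X.presheaf (homOfLE le_top) x hxV' _).symm
  have hk : Function.Surjective (algebraMap k Γ(Spec (CommRingCat.of k), ⊤)) :=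
    (ConcreteCategory.bijective_of_isIso (Scheme.ΓSpecIso (CommRingCat.of k)).inv).2
  haveI s1 : Algebra.IsStandardSmoothOfRelativeDimension 1 Γ(Spec (CommRingCat.of k), ⊤) Γ(X, V') :=
    hstd
  haveI l1 : IsLocalization.AtPrime (X.presheaf.stalk x) (hV'.primeIdealOf ⟨x, hxV'⟩).asIdeal :=
    hV'.isLocalization_stalk ⟨x, hxV'⟩
  obtain ⟨hfree, hfin, hrank⟩ := Groth.Agent.Lib.H87CurveDs.free_kaehler_localization k
    Γ(Spec (CommRingCat.of k), ⊤) Γ(X, V') (X.presheaf.stalk x) hk 1
    (hV'.primeIdealOf ⟨x, hxV'⟩).asIdeal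
  haveI n0 : IsNoetherianRing Γ(Spec (CommRingCat.of k), ⊤) :=
    isNoetherianRing_of_surjective k _ (algebraMap k Γ(Spec (CommRingCat.of k), ⊤)) hk
  haveI s2 : Algebra.IsStandardSmooth Γ(Spec (CommRingCat.of k), ⊤) Γ(X, V') :=
    Algebra.IsStandardSmoothOfRelativeDimension.isStandardSmooth 1
  haveI n1 : IsNoetherianRing Γ(X, V') :=
    Algebra.FiniteType.isNoetherianRing Γ(Spec (CommRingCat.of k), ⊤) Γ(X, V')
  haveI n2 : IsNoetherianRing (X.presheaf.stalk x) :=
    IsLocalization.isNoetherianRing (hV'.primeIdealOf ⟨x, hxV'⟩).asIdeal.primeCompl _ n1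
  refine ⟨hfree, hfin, hrank, n2, ?_⟩
  haveI e1 : Algebra.EssFiniteType Γ(X, V') (X.presheaf.stalk x) :=
    Algebra.EssFiniteType.of_isLocalization _ (hV'.primeIdealOf ⟨x, hxV'⟩).asIdeal.primeCompl
  haveI e2 : Algebra.FiniteType k Γ(Spec (CommRingCat.of k), ⊤) :=
    Algebra.FiniteType.of_surjective (Algebra.ofId k _) hk
  haveI e3 : Algebra.EssFiniteType Γ(Spec (CommRingCat.of k), ⊤) (X.presheaf.stalk x) :=
    Algebra.EssFiniteType.comp _ Γ(X, V') _
  exact Algebra.EssFiniteType.comp k Γ(Spec (CommRingCat.of k), ⊤) _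


theorem dim_stalk (k : Type u) [Field k] (X : Scheme.{u}) [X.Over (Spec (CommRingCat.of k))]
    [SmoothOfRelativeDimension 1 (X ↘ Spec (CommRingCat.of k))] (x : X)
    (hx : IsClosed ({x} : Set X)) : ringKrullDim (X.presheaf.stalk x) = 1 := by
  haveI : Smooth (X ↘ Spec (CommRingCat.of k)) :=
    SmoothOfRelativeDimension.smooth 1 _
  haveI : LocallyOfFiniteType (X ↘ Spec (CommRingCat.of k)) := inferInstance
  have h1 := Groth.Agent.Lib.H87FirstSeqSmooth.fibreDimAt_eq_of_smoothOfRelativeDimension 1
    (X ↘ Spec (CommRingCat.of k)) x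
  rw [Groth.Agent.S19416.fibreDimAt_over_field k X x] at h1
  have h2 := Groth.Agent.Lib.H30DimField.localDim_eq k X x
  rw [Groth.Agent.Lib.H30DimField.td_eq_zero_of_isClosed k X x hx, h1] at h2
  simpa using h2.symm


theorem stalkMap_tower (k : Type u) [Field k]
    (X Y : Scheme.{u}) [X.Over (Spec (CommRingCat.of k))] [Y.Over (Spec (CommRingCat.of k))]
    (f : X ⟶ Y) (hf : f ≫ (Y ↘ Spec (CommRingCat.of k)) = X ↘ Spec (CommRingCat.of k))
    (x : X) (c : k) :
    (f.stalkMap x).hom (Curv2.stalkMap k Y (f.base x) c) = Curv2.stalkMap k X x c := by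
  haveI : f.IsOver (Spec (CommRingCat.of k)) := ⟨hf⟩
  have h1 : Coh.toGlobal (X ↘ Spec (CommRingCat.of k)) c =
      f.appTop.hom (Coh.toGlobal (Y ↘ Spec (CommRingCat.of k)) c) :=
    (Groth.Agent.Lib.H73FibDim.toGlobal_comp k f c).symm
  change (f.stalkMap x).hom ((Y.presheaf.germ ⊤ (f.base x) trivial).hom
      (Coh.toGlobal (Y ↘ Spec (CommRingCat.of k)) c)) =
    (X.presheaf.germ ⊤ x trivial).hom (Coh.toGlobal (X ↘ Spec (CommRingCat.of k)) c)
  rw [h1]
  exact Scheme.Hom.germ_stalkMap_apply f ⊤ x trivial _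

theorem main (k : Type u) [Field k]
    (X Y : Scheme.{u}) [X.Over (Spec (CommRingCat.of k))] [Y.Over (Spec (CommRingCat.of k))]
    [SmoothOfRelativeDimension 1 (X ↘ Spec (CommRingCat.of k))]
    [SmoothOfRelativeDimension 1 (Y ↘ Spec (CommRingCat.of k))]
    (f : X ⟶ Y) (hf : f ≫ (Y ↘ Spec (CommRingCat.of k)) = X ↘ Spec (CommRingCat.of k))
    (x : X) (hx : IsClosed ({x} : Set X)) (e : ℕ)
    (he : (IsLocalRing.maximalIdeal (Y.presheaf.stalk (f.base x))).map (f.stalkMap x).hom =
      IsLocalRing.maximalIdeal (X.presheaf.stalk x) ^ e)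
    (h2 : 2 ≤ e)
    (hsep : @Algebra.IsSeparable (Y.residueField (f.base x)) (X.residueField x) _ _
      (f.residueFieldMap x).hom.toAlgebra) :
    Algebra.IsSeparable k (X.residueField x) := by
  obtain ⟨hfreeX, hfinX, hrankX, hnoethX, hessX⟩ := stalk_data k X x
  obtain ⟨hfreeY, hfinY, hrankY, hnoethY, hessY⟩ := stalk_data k Y (f.base x)
  letI alg : Algebra (Y.presheaf.stalk (f.base x)) (X.presheaf.stalk x) :=
    (f.stalkMap x).hom.toAlgebra
  haveI tw : IsScalarTower k (Y.presheaf.stalk (f.base x)) (X.presheaf.stalk x) :=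
    IsScalarTower.of_algebraMap_eq (fun c => (stalkMap_tower k X Y f hf x c).symm)
  haveI loc : IsLocalHom (algebraMap (Y.presheaf.stalk (f.base x)) (X.presheaf.stalk x)) :=
    inferInstanceAs (IsLocalHom (f.stalkMap x).hom)
  haveI ess : Algebra.EssFiniteType (Y.presheaf.stalk (f.base x)) (X.presheaf.stalk x) :=
    Algebra.EssFiniteType.of_comp k _ _
  haveI sep : Algebra.IsSeparable (ResidueField (Y.presheaf.stalk (f.base x)))
      (ResidueField (X.presheaf.stalk x)) := by
    have halg : ∀ (i1 i2 : Algebra (ResidueField (Y.presheaf.stalk (f.base x)))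
        (ResidueField (X.presheaf.stalk x))),
        (∀ r, @algebraMap _ _ _ _ i1 r = @algebraMap _ _ _ _ i2 r) →
        @Algebra.IsSeparable _ _ _ _ i1 → @Algebra.IsSeparable _ _ _ _ i2 := by
      intro i1 i2 h hs
      have : i1 = i2 := Algebra.algebra_ext _ _ h
      subst this
      exact hs
    exact halg (f.residueFieldMap x).hom.toAlgebra _ (fun r => rfl) hsep
  have hm : maximalIdeal (X.presheaf.stalk x) ≠ ⊥ := by
    intro h
    have hd := dim_stalk k X x hx
    have hfield : IsField (X.presheaf.stalk x) := (isField_iff_maximalIdeal_eq).mpr h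
    rw [ringKrullDim_eq_zero_of_isField hfield] at hd
    exact zero_ne_one hd
  have key := alg_main k (Y.presheaf.stalk (f.base x)) (X.presheaf.stalk x) hrankY hrankX e he h2 hm
  have halg : ∀ (i1 i2 : Algebra k (ResidueField (X.presheaf.stalk x))),
      (∀ r, @algebraMap _ _ _ _ i1 r = @algebraMap _ _ _ _ i2 r) →
      @Algebra.IsSeparable k _ _ _ i1 → @Algebra.IsSeparable k _ _ _ i2 := by
    intro i1 i2 h hs
    have : i1 = i2 := Algebra.algebra_ext _ _ h
    subst this
    exact hs
  exact halg _ (Curv2.resAlgebra k X x) (fun r => rfl) key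


/-- Let k be a field, X and Y smooth over k of relative dimension one (not necessarily proper), f : X ->
Y a finite k-morphism and x a closed point of X, with y = f(x). Suppose f is tamely ramified at x:
m_y O_{X,x} = m_x^e for an integer e ≥ 2 prime to the characteristic of k, and κ(x) is separable
over κ(y). Then κ(x) is separable over k. (Consequently the field generated over k by the residue
fields of all such points is Galois over k.) -/
theorem result (k : Type u) [Field k]
    (X Y : Scheme.{u}) [X.Over (Spec (CommRingCat.of k))] [Y.Over (Spec (CommRingCat.of k))]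
    [SmoothOfRelativeDimension 1 (X ↘ Spec (CommRingCat.of k))]
    [SmoothOfRelativeDimension 1 (Y ↘ Spec (CommRingCat.of k))]
    (f : X ⟶ Y) [IsFinite f] (hf : f ≫ (Y ↘ Spec (CommRingCat.of k)) = X ↘ Spec (CommRingCat.of k))
    (x : X) (hx : IsClosed ({x} : Set X)) (e : ℕ)
    (he : (IsLocalRing.maximalIdeal (Y.presheaf.stalk (f.base x))).map (f.stalkMap x).hom =
      IsLocalRing.maximalIdeal (X.presheaf.stalk x) ^ e)
    (h2 : 2 ≤ e) (hp : ¬ ringChar k ∣ e)
    (hsep : @Algebra.IsSeparable (Y.residueField (f.base x)) (X.residueField x) _ _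
      (f.residueFieldMap x).hom.toAlgebra) :
    Algebra.IsSeparable k (X.residueField x) := by
  exact main k X Y f hf x hx e he h2 hsep

end Groth.Agent.S16548
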