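import Groth.Statements.S16573
import Mathlib
import Groth.Agent.S16572
import Groth.Agent.Lib.SpecResidueH52
-- import your own Groth.Agent.* helpers here

set_option autoImplicit false
universe u
open CategoryTheory AlgebraicGeometry
open EtCore

namespace Groth.Agent.S16573

open CategoryTheory AlgebraicGeometry Limits Groth.Agent.S16572

def GoodAt {X' X : Scheme.{u}} (f : X' ⟶ X) (x' : X') : Prop :=
  IsAlgClosed (X'.residueField x') ∧ (f.residueFieldMap x').hom.IsIntegral

theorem isIntegral_of_isIso {K L : CommRingCat.{u}} (m : K ⟶ L) [IsIso m] : m.hom.IsIntegral :=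
  RingHom.isIntegral_of_surjective _ (ConcreteCategory.bijective_of_isIso m).2

theorem goodAt_comp {X' X Z : Scheme.{u}} (g : X' ⟶ X) (u : X ⟶ Z) (y : X')
    [IsIso (u.residueFieldMap (g y))] (h : GoodAt g y) : GoodAt (g ≫ u) y := by
  refine ⟨h.1, ?_⟩
  have key : ((g ≫ u).residueFieldMap y).hom =
      (g.residueFieldMap y).hom.comp (u.residueFieldMap (g y)).hom :=
    congrArg CommRingCat.Hom.hom (Scheme.residueFieldMap_comp g u y)
  rw [key]
  exact RingHom.IsIntegral.trans _ _ (isIntegral_of_isIso _) h.2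

theorem goodAt_of_comp {Y X' X : Scheme.{u}} (ι : Y ⟶ X') (f : X' ⟶ X) (y : Y)
    [IsIso (ι.residueFieldMap y)] (h : GoodAt (ι ≫ f) y) : GoodAt f (ι y) := by
  have hac := h.1
  refine ⟨?_, ?_⟩
  · exact IsAlgClosed.of_ringEquiv (Y.residueField y) (X'.residueField (ι y))
      (asIso (ι.residueFieldMap y)).symm.commRingCatIsoToRingEquiv
  · have h2 := h.2
    have key : ((ι ≫ f).residueFieldMap y).hom =
        (ι.residueFieldMap y).hom.comp (f.residueFieldMap (ι y)).hom :=
      congrArg CommRingCat.Hom.hom (Scheme.residueFieldMap_comp ι f y)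
    rw [key, ← CommRingCat.hom_comp] at h2
    have h3 : f.residueFieldMap (ι y) =
        (f.residueFieldMap (ι y) ≫ ι.residueFieldMap y) ≫ inv (ι.residueFieldMap y) := by
      rw [Category.assoc, IsIso.hom_inv_id, Category.comp_id]
    rw [h3, CommRingCat.hom_comp, CommRingCat.hom_comp]
    exact RingHom.IsIntegral.trans _ _ h2 (isIntegral_of_isIso _)

theorem good_spec (R : CommRingCat.{u}) (y : Spec (CommRingCat.of (TT R))) :
    GoodAt (Spec.map (CommRingCat.ofHom (algebraMap R (TT R)))) y := by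
  have h0 := resField R y.asIdeal
  have hac := h0.1
  refine ⟨?_, ?_⟩
  · exact IsAlgClosed.of_ringEquiv y.asIdeal.ResidueField _
      (Scheme.Spec.residueFieldIso (CommRingCat.of (TT R)) y).symm.commRingCatIsoToRingEquiv
  · rw [Groth.Agent.Lib.SpecResidueH52.residueFieldMap_eq, CommRingCat.hom_comp,
      CommRingCat.hom_comp]
    refine RingHom.IsIntegral.trans _ _ (isIntegral_of_isIso _) ?_
    refine RingHom.IsIntegral.trans _ _ ?_ (isIntegral_of_isIso _)
    exact h0.2

/-- For a quasi-compact quasi-separated scheme X there are an affine scheme X' and a quasi-compact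
surjective morphism f : X' → X such that for every point x' of X' the residue field of x' is
algebraically closed and integral over the residue field of f(x') under the induced map of residue
fields, that is, an algebraic closure of it. -/
theorem result
    (X : Scheme.{u}) [CompactSpace X] [QuasiSeparatedSpace X] :
    ∃ (X' : Scheme.{u}) (f : X' ⟶ X), IsAffine X' ∧ QuasiCompact f ∧ Surjective f ∧
      ∀ x' : X', IsAlgClosed (X'.residueField x') ∧ (f.residueFieldMap x').hom.IsIntegral := by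
  classical
  let 𝒰 := X.affineOpenCover
  have hcov : (Set.univ : Set X) ⊆ ⋃ j, ((𝒰.f j).opensRange : Set X) :=
    fun x _ => Set.mem_iUnion.mpr ⟨𝒰.idx x, 𝒰.covers x⟩
  obtain ⟨t, ht⟩ := isCompact_univ.elim_finite_subcover
    (fun j => ((𝒰.f j).opensRange : Set X)) (fun j => (𝒰.f j).opensRange.isOpen) hcov
  let Y : t → Scheme.{u} := fun j => Spec (CommRingCat.of (TT (𝒰.X j.1)))
  let φ : ∀ j : t, 𝒰.X j.1 ⟶ CommRingCat.of (TT (𝒰.X j.1)) :=
    fun j => CommRingCat.ofHom (algebraMap (𝒰.X j.1) (TT (𝒰.X j.1)))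
  let fj : ∀ j : t, Y j ⟶ X := fun j => Spec.map (φ j) ≫ 𝒰.f j.1
  let f : (∐ Y) ⟶ X := Sigma.desc fj
  have hf : ∀ j, Sigma.ι Y j ≫ f = fj j := fun j => Sigma.ι_desc fj j
  refine ⟨∐ Y, f, inferInstance, inferInstance, ⟨?_⟩, ?_⟩
  · intro x
    have hx := ht (Set.mem_univ x)
    simp only [Set.mem_iUnion] at hx
    obtain ⟨j, hjt, z, rfl⟩ := hx
    obtain ⟨y, hy⟩ := surj (𝒰.X j) z
    refine ⟨Sigma.ι Y ⟨j, hjt⟩ y, ?_⟩
    rw [← Scheme.Hom.comp_apply, hf]
    show (𝒰.f j) ((Spec.map (φ ⟨j, hjt⟩)) y) = (𝒰.f j) z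
    congr 1
  · intro x'
    obtain ⟨⟨j, y⟩, rfl⟩ := (sigmaMk Y).surjective x'
    rw [sigmaMk_mk]
    have h1 : GoodAt (fj j) y := goodAt_comp (Spec.map (φ j)) (𝒰.f j.1) y (good_spec (𝒰.X j.1) y)
    have h2 : GoodAt (Sigma.ι Y j ≫ f) y := by rw [hf j]; exact h1
    exact goodAt_of_comp (Sigma.ι Y j) f y h2

end Groth.Agent.S16573
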