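import Groth.Statements.S16575
import Groth.Agent.Lib.C2Cond98
import Groth.Agent.Lib.CompletionBranchesD98
import Groth.Agent.Lib.LocalEtaleNbhd
import Groth.Agent.Lib.HenselizationFlat
import Groth.Agent.Lib.H56ShGen
import Groth.Agent.Lib.StrictHenselization
import Groth.Agent.Lib.HenselizationNoeth
import Groth.Agent.Lib.HznWeaklyEtale96
import Groth.Agent.Lib.HenselizationUP
import Groth.Agent.Lib.DiagFlat
import Groth.Agent.Lib.AdicNoeth
import Groth.Agent.Lib.H14AdicLocal

set_option autoImplicit false
universe u
open CAlg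

namespace Groth.Agent.S16575

open IsLocalRing Groth.Agent.Lib.C2Cond98 Groth.Agent.Lib.CompletionBranches98

set_option maxHeartbeats 400000

/-- (i) ⇔ components of `S` have dimension at least two, for `S` henselian local, faithfully flat
and ind-étale over `A`. -/
theorem normRed_iff (A S : Type u) [CommRing A] [IsLocalRing A] [CommRing S] [IsLocalRing S]
    [Algebra A S] [IsLocalHom (algebraMap A S)] [HenselianLocalRing S] [Module.FaithfullyFlat A S]
    (hfin : (minimalPrimes A).Finite)
    (hS : ∀ F : Finset S, ∃ (E : Type u) (_ : CommRing E) (_ : Algebra A E)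
      (_ : Algebra.Etale A E) (φ : E →ₐ[A] S), ∀ x ∈ F, x ∈ φ.range) :
    (∀ m' : MaximalSpectrum (CAlg2.normRed A),
        (2 : WithBot ℕ∞) ≤ ringKrullDim (Localization.AtPrime m'.asIdeal)) ↔
      (∀ p ∈ minimalPrimes S, (2 : WithBot ℕ∞) ≤ ringKrullDim (S ⧸ p)) := by
  constructor
  · intro h p hp
    haveI := hp.1.1
    rw [two_le_dim_quotient_iff]
    apply exists_chain_of_forall_maximal A S hfin hS _ p hp
    intro n hn
    haveI : n.IsPrime := hn.isPrime
    have h1 := h ⟨n, hn⟩
    exact (two_le_dim_localization_iff n).mp h1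
  · intro h m'
    rw [two_le_dim_localization_iff]
    apply exists_chain_of_forall_minimal A S hS _ m'.asIdeal m'.isMaximal
    intro p hp
    haveI := hp.1.1
    exact (two_le_dim_quotient_iff p).mp (h p hp)

/-- Components of `S` versus components of a completion-like extension `T`. -/
theorem forall_chain_iff {S T : Type*} [CommRing S] [HenselianLocalRing S] [IsNoetherianRing S]
    [CommRing T] [IsLocalRing T] [IsNoetherianRing T] [Algebra S T] [Module.Flat S T]
    [IsLocalHom (algebraMap S T)]
    (hs : ∀ t : T, ∃ d : S, t - algebraMap S T d ∈ (maximalIdeal S).map (algebraMap S T)) :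
    (∀ p ∈ minimalPrimes S, ∃ p₁ p₂ : Ideal S, p₁.IsPrime ∧ p₂.IsPrime ∧ p < p₁ ∧ p₁ < p₂) ↔
      (∀ q ∈ minimalPrimes T, ∃ q₁ q₂ : Ideal T, q₁.IsPrime ∧ q₂.IsPrime ∧ q < q₁ ∧ q₁ < q₂) := by
  have hm : (maximalIdeal S).map (algebraMap S T) = maximalIdeal T :=
    map_maximalIdeal_eq_of_surj hs
  have hff : Module.FaithfullyFlat S T := Module.FaithfullyFlat.of_flat_of_isLocalHom
  constructor
  · intro h q hq
    by_contra hno
    push Not at hno
    have hqprime : q.IsPrime := hq.1.1
    have hdim : ∀ Q : Ideal T, Q.IsPrime → q < Q → Q = maximalIdeal T := by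
      intro Q hQ hqQ
      by_contra hne
      exact hno Q (maximalIdeal T) hQ inferInstance hqQ
        (lt_of_le_of_ne (le_maximalIdeal hQ.ne_top) hne)
    have hq0 : q ∈ ((⊥ : Ideal S).map (algebraMap S T)).minimalPrimes := by
      rw [Ideal.map_bot]; exact hq
    have hp : q.comap (algebraMap S T) ∈ minimalPrimes S :=
      comap_mem_minimalPrimes_of_mem_minimalPrimes_map ⊥ hq0
    have hdimS := coheight_comap_of_coheight hs ⊥ hq0 hdim
    obtain ⟨p₁, p₂, hp₁, hp₂, h01, h12⟩ := h _ hp
    have h1 := hdimS p₁ hp₁ h01
    rw [h1] at h12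
    exact absurd (le_maximalIdeal hp₂.ne_top) (not_le_of_gt h12)
  · intro h p hp
    by_contra hno
    push Not at hno
    have hpprime : p.IsPrime := hp.1.1
    have hdimS : ∀ P : Ideal S, P.IsPrime → p < P → P = maximalIdeal S := by
      intro P hP hpP
      by_contra hne
      exact hno P (maximalIdeal S) hP inferInstance hpP
        (lt_of_le_of_ne (le_maximalIdeal hP.ne_top) hne)
    have hinj : Function.Injective (algebraMap S T) := FaithfulSMul.algebraMap_injective S T
    have hp' : p ∈ ((⊥ : Ideal T).comap (algebraMap S T)).minimalPrimes := by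
      rw [Ideal.comap_bot_of_injective _ hinj]; exact hp
    obtain ⟨q, hq, hqp⟩ := Ideal.exists_minimalPrimes_comap_eq (algebraMap S T) p hp'
    have hqprime : q.IsPrime := hq.1.1
    have hdimT := coheight_of_coheight_comap hm q (by rw [hqp]; exact hdimS)
    obtain ⟨q₁, q₂, hq₁, hq₂, h01, h12⟩ := h q hq
    have h1 := hdimT q₁ hq₁ h01
    rw [h1] at h12
    exact absurd (le_maximalIdeal hq₂.ne_top) (not_le_of_gt h12)

theorem forall_dim_iff {S T : Type*} [CommRing S] [HenselianLocalRing S] [IsNoetherianRing S]
    [CommRing T] [IsLocalRing T] [IsNoetherianRing T] [Algebra S T] [Module.Flat S T]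
    [IsLocalHom (algebraMap S T)]
    (hs : ∀ t : T, ∃ d : S, t - algebraMap S T d ∈ (maximalIdeal S).map (algebraMap S T)) :
    (∀ p ∈ minimalPrimes S, (2 : WithBot ℕ∞) ≤ ringKrullDim (S ⧸ p)) ↔
      (∀ q ∈ minimalPrimes T, (2 : WithBot ℕ∞) ≤ ringKrullDim (T ⧸ q)) := by
  have h := forall_chain_iff hs
  constructor
  · intro h1 q hq
    haveI := hq.1.1
    rw [two_le_dim_quotient_iff]
    refine h.mp (fun p hp => ?_) q hq
    haveI := hp.1.1
    exact (two_le_dim_quotient_iff p).mp (h1 p hp)
  · intro h1 p hp
    haveI := hp.1.1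
    rw [two_le_dim_quotient_iff]
    refine h.mpr (fun q hq => ?_) p hp
    haveI := hq.1.1
    exact (two_le_dim_quotient_iff q).mp (h1 q hq)

/-- Let A be a Noetherian local ring, S a henselization of A, S' a strict henselization of A, A' the
integral closure of the reduction of A in its total ring of fractions, and Â the completion of A at
its maximal ideal. The following are equivalent: (i) for every maximal ideal m' of A' the local ring
of A' at m' has Krull dimension at least 2; (ii) every irreducible component of Spec S has dimension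
at least 2; (ii bis) every irreducible component of Spec S' has dimension at least 2; (iii) every
irreducible component of Spec Â has dimension at least 2. (A closed subscheme Z of a Noetherian
scheme X is called c_2 when these hold at the local ring of every point of Z; condition (i) at all
points of Z says that the preimage of Z in the normalization has codimension at least 2.) -/
theorem result
    (A : Type u) [CommRing A] [IsNoetherianRing A] [IsLocalRing A]
    (S : Type u) [CommRing S] [IsLocalRing S] [Algebra A S] [IsLocalHom (algebraMap A S)]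
    [Hensel.IsHenselization A S]
    (S' : Type u) [CommRing S'] [IsLocalRing S'] [Algebra A S'] [IsLocalHom (algebraMap A S')]
    [Hensel.IsStrictHenselization A S'] :
    List.TFAE [
      ∀ m' : MaximalSpectrum (CAlg2.normRed A), (2 : WithBot ℕ∞) ≤ ringKrullDim (Localization.AtPrime m'.asIdeal),
      ∀ p ∈ minimalPrimes S, (2 : WithBot ℕ∞) ≤ ringKrullDim (S ⧸ p),
      ∀ p ∈ minimalPrimes S', (2 : WithBot ℕ∞) ≤ ringKrullDim (S' ⧸ p),
      ∀ q ∈ minimalPrimes (AdicCompletion (IsLocalRing.maximalIdeal A) A), (2 : WithBot ℕ∞) ≤ ringKrullDim (AdicCompletion (IsLocalRing.maximalIdeal A) A ⧸ q)] := by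
  classical
  have hfin : (minimalPrimes A).Finite := minimalPrimes.finite_of_isNoetherianRing A
  have hflatA : Module.Flat A (AdicCompletion (maximalIdeal A) A) :=
    AdicCompletion.flat_of_isNoetherian (maximalIdeal A)
  have hN : IsNoetherianRing (AdicCompletion (maximalIdeal A) A) :=
    Groth.Agent.Lib.AdicNoeth.isNoetherianRing_adicCompletion _
  have hH : HenselianLocalRing (AdicCompletion (maximalIdeal A) A) :=
    Groth.Agent.Lib.HenselizationNoeth.henselianLocalRing_of_henselianRing _
  have hSh : HenselianLocalRing S := Hensel.IsHenselization.henselian (R := A)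
  have hS'h : HenselianLocalRing S' := Hensel.IsStrictHenselization.henselian (R := A)
  have hffS : Module.FaithfullyFlat A S :=
    Groth.Agent.Lib.HenselizationFlat.faithfullyFlat_of_isHenselization A S
  have hffS' : Module.FaithfullyFlat A S' :=
    Groth.Agent.Lib.StrictHenselization.faithfullyFlat_of_isStrictHenselization A S'
  have hNS : IsNoetherianRing S :=
    (Groth.Agent.Lib.HenselizationNoeth.isNoetherianRing_iff_of_isHenselization A S).mp
      inferInstance
  have hSet : ∀ F : Finset S, ∃ (E : Type u) (_ : CommRing E) (_ : Algebra A E)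
      (_ : Algebra.Etale A E) (φ : E →ₐ[A] S), ∀ x ∈ F, x ∈ φ.range := by
    intro F
    obtain ⟨E, i1, i2, hE, -, φ, hφ⟩ :=
      Groth.Agent.Lib.LocalEtaleNbhd.exists_etale_of_finset A S F
    exact ⟨E, i1, i2, hE, φ, hφ⟩
  have hS'et : ∀ F : Finset S', ∃ (E : Type u) (_ : CommRing E) (_ : Algebra A E)
      (_ : Algebra.Etale A E) (φ : E →ₐ[A] S'), ∀ x ∈ F, x ∈ φ.range :=
    fun F => Groth.Agent.Lib.H56ShGen.exists_etale_of_finset A S' F
  have h12 := normRed_iff A S hfin hSet
  have h13 := normRed_iff A S' hfin hS'et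
  -- the map from the henselization to the completion
  obtain ⟨ψ, hψ, -⟩ := Hensel.IsHenselization.universal (R := A) (S := S)
    (AdicCompletion (maximalIdeal A) A) (algebraMap A (AdicCompletion (maximalIdeal A) A))
    inferInstance
  letI algSA : Algebra S (AdicCompletion (maximalIdeal A) A) := ψ.toAlgebra
  have htower : IsScalarTower A S (AdicCompletion (maximalIdeal A) A) :=
    IsScalarTower.of_algebraMap_eq (fun a => (RingHom.congr_fun hψ a).symm)
  have hwe : Algebra.WeaklyEtale A S :=
    Groth.Agent.Lib.HznWeaklyEtale96.weaklyEtale_of_isHenselization A S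
  have hflatS : Module.Flat S (AdicCompletion (maximalIdeal A) A) :=
    Groth.Agent.Lib.DiagFlat.flat_of_flat_lmul' (Algebra.WeaklyEtale.flat_lmul' A S)
      (AdicCompletion (maximalIdeal A) A)
  have hmS : (maximalIdeal A).map (algebraMap A S) = maximalIdeal S :=
    Groth.Agent.Lib.HenselizationUP.map_maximalIdeal_eq A S
  have hloc : IsLocalHom (algebraMap S (AdicCompletion (maximalIdeal A) A)) := by
    refine ((local_hom_TFAE (algebraMap S (AdicCompletion (maximalIdeal A) A))).out 2 0).mp ?_
    rw [← hmS, Ideal.map_map, ← IsScalarTower.algebraMap_eq]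
    exact map_maximalIdeal_le (algebraMap A (AdicCompletion (maximalIdeal A) A))
  have hcomp : (algebraMap S (AdicCompletion (maximalIdeal A) A)).comp (algebraMap A S)
      = algebraMap A (AdicCompletion (maximalIdeal A) A) := hψ
  have hs : ∀ t : AdicCompletion (maximalIdeal A) A, ∃ d : S,
      t - algebraMap S (AdicCompletion (maximalIdeal A) A) d ∈
        (maximalIdeal S).map (algebraMap S (AdicCompletion (maximalIdeal A) A)) := by
    intro t
    obtain ⟨a, ha⟩ := Groth.Agent.Lib.H14AdicLocal.exists_sub_mem_map A (maximalIdeal A)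
      (IsNoetherian.noetherian _) t
    refine ⟨algebraMap A S a, ?_⟩
    have h1 : algebraMap S (AdicCompletion (maximalIdeal A) A) (algebraMap A S a)
        = algebraMap A (AdicCompletion (maximalIdeal A) A) a := RingHom.congr_fun hcomp a
    rw [h1, ← hmS, Ideal.map_map, hcomp]
    exact ha
  have h24 := forall_dim_iff (S := S) (T := AdicCompletion (maximalIdeal A) A) hs
  tfae_have 1 ↔ 2 := h12
  tfae_have 1 ↔ 3 := h13
  tfae_have 2 ↔ 4 := h24
  tfae_finish

end Groth.Agent.S16575
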