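import Groth.Statements.S16577
import Groth.Agent.Lib.H56WEtalePrimes
import Groth.Agent.Lib.HznWeaklyEtale96
import Groth.Agent.S0539
import Mathlib.RingTheory.RingHom.Flat

set_option autoImplicit false
universe u
open Hensel

namespace Groth.Agent.S16577

/-- Let A be a Noetherian local ring with a strict henselization S', and p a prime ideal of A. Call p an
immediate étale generization of the closed point when the strict henselization S'/pS' of A/p has an
irreducible component of dimension 1, that is, some minimal prime P over pS' has dim S'/P = 1. Then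
p is an immediate étale generization of the closed point if and only if p is the contraction of some
prime ideal P of S' with dim S'/P = 1. -/
theorem result
    (A : Type u) [CommRing A] [IsNoetherianRing A] [IsLocalRing A]
    (S' : Type u) [CommRing S'] [IsLocalRing S'] [Algebra A S'] [IsLocalHom (algebraMap A S')]
    [Hensel.IsStrictHenselization A S']
    (p : Ideal A) [p.IsPrime] :
    (∃ P ∈ (p.map (algebraMap A S')).minimalPrimes, ringKrullDim (S' ⧸ P) = 1) ↔
    (∃ P : Ideal S', P.IsPrime ∧ P.comap (algebraMap A S') = p ∧ ringKrullDim (S' ⧸ P) = 1) := by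
  have hff : Module.FaithfullyFlat A S' := Groth.Agent.S0539.result A S'
  have hwe : Algebra.WeaklyEtale A S' :=
    Groth.Agent.Lib.HznWeaklyEtale96.weaklyEtale_of_isStrictHenselization A S'
  constructor
  · rintro ⟨P, hP, hdim⟩
    have hPprime : P.IsPrime := hP.isPrime
    refine ⟨P, hPprime, ?_, hdim⟩
    have hle : p ≤ P.under A := by
      rw [Ideal.under, ← Ideal.map_le_iff_le_comap]; exact hP.1.2
    have : P.LiesOver (P.under A) := ⟨rfl⟩
    obtain ⟨Q, hQP, hQprime, hQover⟩ :=
      Ideal.exists_ideal_le_liesOver_of_le (p := p) (q := P.under A) P hle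
    have hpQ : p.map (algebraMap A S') ≤ Q := by
      rw [Ideal.map_le_iff_le_comap]; exact (hQover.over).le
    have hPQ : P ≤ Q := hP.2 ⟨hQprime, hpQ⟩ hQP
    have hQeq : Q = P := le_antisymm hQP hPQ
    rw [← hQeq]
    exact hQover.over.symm
  · rintro ⟨P, hPprime, hPp, hdim⟩
    refine ⟨P, ?_, hdim⟩
    have := Groth.Agent.Lib.H56WEtalePrimes.mem_minimalPrimes (R := A) P
    rwa [Ideal.under, hPp] at this

end Groth.Agent.S16577
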