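import Groth.Statements.S16578
import Groth.Agent.Lib.C2Dim98
import Groth.Agent.Lib.CompletionBranchesD98
import Groth.Agent.S0540
import Groth.Agent.Lib.AdicNoeth
import Groth.Agent.Lib.H14AdicLocal
import Groth.Agent.Lib.StrictHenselization

set_option autoImplicit false
universe u
open Hensel

namespace Groth.Agent.S16578

open IsLocalRing Groth.Agent.Lib.C2Cond98 Groth.Agent.Lib.CompletionBranches98

set_option maxHeartbeats 800000

/-- Let A be a Noetherian local ring with completion Â at its maximal ideal, S' a strict henselization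
of A, T' a strict henselization of Â, and p a prime ideal of A. Say that a prime p of a Noetherian
local ring with strict henselization S is an immediate étale generization of the closed point when
some minimal prime P over pS has dim S/P = 1. Then p is an immediate étale generization of the
closed point of A if and only if some minimal prime q over pÂ (a maximal point of the fibre over p
of Spec Â → Spec A) is an immediate étale generization of the closed point of Â. -/
theorem result
    (A : Type u) [CommRing A] [IsNoetherianRing A] [IsLocalRing A]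
    (S' : Type u) [CommRing S'] [IsLocalRing S'] [Algebra A S'] [IsLocalHom (algebraMap A S')]
    [Hensel.IsStrictHenselization A S']
    (T' : Type u) [CommRing T'] [IsLocalRing T'] [Algebra (AdicCompletion (IsLocalRing.maximalIdeal A) A) T'] [IsLocalHom (algebraMap (AdicCompletion (IsLocalRing.maximalIdeal A) A) T')]
    [Hensel.IsStrictHenselization (AdicCompletion (IsLocalRing.maximalIdeal A) A) T']
    (p : Ideal A) [p.IsPrime] :
    (∃ P ∈ (p.map (algebraMap A S')).minimalPrimes, ringKrullDim (S' ⧸ P) = 1) ↔
    (∃ q ∈ (p.map (algebraMap A (AdicCompletion (IsLocalRing.maximalIdeal A) A))).minimalPrimes,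
      ∃ Q ∈ (q.map (algebraMap (AdicCompletion (IsLocalRing.maximalIdeal A) A) T')).minimalPrimes, ringKrullDim (T' ⧸ Q) = 1) := by
  classical
  have hflatA : Module.Flat A (AdicCompletion (maximalIdeal A) A) :=
    AdicCompletion.flat_of_isNoetherian (maximalIdeal A)
  have hN : IsNoetherianRing (AdicCompletion (maximalIdeal A) A) :=
    Groth.Agent.Lib.AdicNoeth.isNoetherianRing_adicCompletion _
  have hNS' : IsNoetherianRing S' := (Groth.Agent.S0540.result A S').mp inferInstance
  have hNT' : IsNoetherianRing T' :=
    (Groth.Agent.S0540.result (AdicCompletion (maximalIdeal A) A) T').mp hN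
  have hS'h : HenselianLocalRing S' := Hensel.IsStrictHenselization.henselian (R := A)
  have hmC : (maximalIdeal A).map (algebraMap A (AdicCompletion (maximalIdeal A) A))
      = maximalIdeal (AdicCompletion (maximalIdeal A) A) :=
    AdicCompletion.maximalIdeal_eq_map.symm
  have hresC : ∀ b : AdicCompletion (maximalIdeal A) A, ∃ a : A,
      b - algebraMap A (AdicCompletion (maximalIdeal A) A) a
        ∈ maximalIdeal (AdicCompletion (maximalIdeal A) A) := by
    intro b
    obtain ⟨a, ha⟩ := Groth.Agent.Lib.H14AdicLocal.exists_sub_mem_map A (maximalIdeal A)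
      (IsNoetherian.noetherian _) b
    exact ⟨a, hmC ▸ ha⟩
  obtain ⟨g, hg1, hlocg, hgflat, hmST, hs⟩ :=
    exists_strict_map A (AdicCompletion (maximalIdeal A) A) S' T' hmC hresC
  letI algST : Algebra S' T' := g.toAlgebra
  have hflatST : Module.Flat S' T' := hgflat
  have hloc : IsLocalHom (algebraMap S' T') := hlocg
  have hm : (maximalIdeal S').map (algebraMap S' T') = maximalIdeal T' := hmST
  have hs' : ∀ t : T', ∃ d : S',
      t - algebraMap S' T' d ∈ (maximalIdeal S').map (algebraMap S' T') := hs
  have hff : Module.FaithfullyFlat S' T' := Module.FaithfullyFlat.of_flat_of_isLocalHom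
  have hffC : Module.FaithfullyFlat (AdicCompletion (maximalIdeal A) A) T' :=
    Groth.Agent.Lib.StrictHenselization.faithfullyFlat_of_isStrictHenselization _ T'
  have hflatC : Module.Flat (AdicCompletion (maximalIdeal A) A) T' := inferInstance
  have hmcomap : (maximalIdeal T').comap (algebraMap S' T') = maximalIdeal S' :=
    ((local_hom_TFAE (algebraMap S' T')).out 0 4).mp hloc
  have hcomp : (algebraMap S' T').comp (algebraMap A S') =
      (algebraMap (AdicCompletion (maximalIdeal A) A) T').comp
        (algebraMap A (AdicCompletion (maximalIdeal A) A)) := hg1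
  have hIJ : (p.map (algebraMap A S')).map (algebraMap S' T') =
      (p.map (algebraMap A (AdicCompletion (maximalIdeal A) A))).map
        (algebraMap (AdicCompletion (maximalIdeal A) A) T') := by
    rw [Ideal.map_map, Ideal.map_map, hcomp]
  have hmid : (∃ P ∈ (p.map (algebraMap A S')).minimalPrimes, ringKrullDim (S' ⧸ P) = 1) ↔
      (∃ Q ∈ ((p.map (algebraMap A S')).map (algebraMap S' T')).minimalPrimes,
        ringKrullDim (T' ⧸ Q) = 1) := by
    constructor
    · rintro ⟨P, hP, hdimP⟩
      have hPprime : P.IsPrime := hP.1.1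
      obtain ⟨hPne, hPco⟩ := (dim_quotient_eq_one_iff P).mp hdimP
      have hP' : P ∈ (((p.map (algebraMap A S')).map (algebraMap S' T')).comap
          (algebraMap S' T')).minimalPrimes := by
        rw [Ideal.comap_map_eq_self_of_faithfullyFlat]; exact hP
      obtain ⟨Q, hQ, hQP⟩ := Ideal.exists_minimalPrimes_comap_eq (algebraMap S' T') P hP'
      have hQprime : Q.IsPrime := hQ.1.1
      refine ⟨Q, hQ, (dim_quotient_eq_one_iff Q).mpr ⟨?_, ?_⟩⟩
      · intro hQm
        apply hPne
        rw [← hQP, hQm, hmcomap]
      · exact coheight_of_coheight_comap hm Q (by rw [hQP]; exact hPco)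
    · rintro ⟨Q, hQ, hdimQ⟩
      have hQprime : Q.IsPrime := hQ.1.1
      obtain ⟨hQne, hQco⟩ := (dim_quotient_eq_one_iff Q).mp hdimQ
      have hP := comap_mem_minimalPrimes_of_mem_minimalPrimes_map _ hQ
      have hPprime : (Q.comap (algebraMap S' T')).IsPrime := hP.1.1
      refine ⟨_, hP, (dim_quotient_eq_one_iff _).mpr
        ⟨?_, coheight_comap_of_coheight hs' _ hQ hQco⟩⟩
      intro hPm
      apply hQne
      refine le_antisymm (le_maximalIdeal hQprime.ne_top) ?_
      rw [← hm, Ideal.map_le_iff_le_comap, hPm]
  rw [hmid, hIJ]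
  constructor
  · rintro ⟨Q, hQ, hdimQ⟩
    obtain ⟨q, hq, hQq⟩ := (mem_minimalPrimes_map_iff _ Q).mp hQ
    exact ⟨q, hq, Q, hQq, hdimQ⟩
  · rintro ⟨q, hq, Q, hQq, hdimQ⟩
    exact ⟨Q, (mem_minimalPrimes_map_iff _ Q).mpr ⟨q, hq, hQq⟩, hdimQ⟩

end Groth.Agent.S16578
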