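import Groth.Statements.S1658
import Groth.Agent.Lib.EffDiff82a
import Groth.Agent.Lib.GlueExt82a

set_option autoImplicit false
universe u
open CategoryTheory CategoryTheory.Limits AlgebraicGeometry
open Divisors

namespace Groth.Agent.S1658

open Groth.Agent.Lib.H90Invertible Groth.Agent.Lib.StructureModule Groth.Agent.Lib.H78TensorGen
  Groth.Agent.Lib.H78SecCoord Groth.Agent.Lib.H78Atlas Groth.Agent.Lib.H78AtlasOps
  Groth.Agent.Lib.H78KeyLemma Groth.Agent.Lib.H78SecAdd Groth.Agent.Lib.QAffSec82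
  Groth.Agent.Lib.EffDiff82 Groth.Agent.Lib.GlueExt82 TopologicalSpace


/-- Let X be Noetherian with an ample invertible module and N any invertible O_X-module. For every
finite set E of points of X there are effective Cartier divisors D and D', whose supports miss E,
with N ⊗ I_D ≅ I_{D'} (that is, N ≅ O_X(D) ⊗ O_X(D')^{-1}), where I_D, I_{D'} are the ideal sheaves
as O_X-modules. -/
theorem result (X : Scheme.{u}) [IsNoetherian X] (L : X.Modules) (hL : CohB1.IsAmple L)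
    (N : X.Modules) (hN : PicF.IsInvertible N) (E : Set X) (hE : E.Finite) :
    ∃ D D' : X.IdealSheafData, BlowUp.IsEffCartierIdeal D ∧ BlowUp.IsEffCartierIdeal D' ∧
      Disjoint E (D.support : Set X) ∧ Disjoint E (D'.support : Set X) ∧
      Nonempty (CohB1.tensorMod N (ClSub.idealMod D) ≅ ClSub.idealMod D') := by
  classical
  haveI : CompactSpace X := hL.2.1
  have hZfin : (E ∪ assPts X).Finite := hE.union finite_assPts
  obtain ⟨P, hP, s, hZs, haff⟩ : ∃ (P : X.Modules) (_ : PicF.IsInvertible P)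
      (s : Coh.structureModule X ⟶ P), E ∪ assPts X ⊆ CohB1.genLocus P s ∧
        IsAffineOpen (CohB1.genLocus P s) := by
    obtain ⟨n, s, hZs, -, haff⟩ := exists_sec_finite hL (E ∪ assPts X) hZfin ⊤ (fun _ _ => trivial)
    exact ⟨_, isInvertible_tensorPow hL.1 (n + 1), s, hZs, haff⟩
  obtain ⟨V, hV⟩ : ∃ V : X.Opens, V = CohB1.genLocus P s := ⟨_, rfl⟩
  rw [← hV] at hZs haff
  haveI : IsAffine (V : Scheme.{u}) := haff
  have hNV : PicF.IsInvertible (N.restrict V.ι) := isInvertible_restrict V.ι hN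
  let Zf : Finset (V : Scheme.{u}) := hZfin.toFinset.attach.image
    (fun z => ⟨z.1, hZs ((hZfin.mem_toFinset).1 z.2)⟩)
  obtain ⟨τ'', hτ''⟩ := exists_sec_quasiAffine hNV _ Zf rfl
  obtain ⟨τ', hτ'def⟩ : ∃ τ' : Γ(N, V.ι ''ᵁ ⊤), τ' = secX V N τ'' := ⟨_, rfl⟩
  have hVtop : V.ι ''ᵁ ⊤ = V := V.ι_image_top
  -- `τ'` generates `N` near the points of `E ∪ Ass`
  have hgen : ∀ z ∈ E ∪ assPts X, ∃ (W : X.Opens) (hW : W ≤ V.ι ''ᵁ ⊤), z ∈ W ∧
      IsGen N W (rs N hW τ') := by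
    intro z hz
    have hzV : z ∈ V := hZs hz
    have hz' : (⟨z, hzV⟩ : (V : Scheme.{u})) ∈ CohB1.genLocus (N.restrict V.ι) (ofSection τ'') := by
      apply hτ''
      rw [Finset.mem_coe, Finset.mem_image]
      exact ⟨⟨z, (hZfin.mem_toFinset).2 hz⟩, Finset.mem_attach _ _, rfl⟩
    obtain ⟨W', hzW', hW'⟩ := (mem_genLocus_iff _ _).1 hz'
    rw [sec_ofSection] at hW'
    refine ⟨V.ι ''ᵁ W', V.ι.image_mono le_top, ⟨⟨z, hzV⟩, hzW', rfl⟩, ?_⟩
    rw [hτ'def]
    exact (isGen_restrict_iff V.ι N W' _).1 hW'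
  -- a common finite affine atlas
  obtain ⟨ι, _, Vc, hVc, hVaff, ⟨A⟩, ⟨AN⟩⟩ := exists_finite_atlas₂ hP hN
  have hbo : ∀ i, X.basicOpen (A.co (sec s) i) = V ⊓ Vc i := by
    intro i
    rw [← A.genLocus_inf, ofSection_sec, hV]
  have hD : ∀ i, X.basicOpen (A.co (sec s) i) ≤ V.ι ''ᵁ ⊤ := by
    intro i
    rw [hbo, hVtop]
    exact inf_le_left
  haveI : N.IsQuasicoherent := Groth.Agent.Lib.H90Invertible.isQCoh_of_isInvertible hN
  obtain ⟨m, x, hx1, hx2⟩ := key_ext (qcLike_of_isQuasicoherent N) hVaff A (sec s) hD τ'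
  obtain ⟨c, hcdef⟩ : ∃ c : ∀ i, Γ(X, Vc i), ∀ i, c i = coord (AN.gen i) le_rfl (x i) :=
    ⟨_, fun i => rfl⟩
  have hcx : ∀ i, c i • AN.E i = x i := by
    intro i
    have := coord_spec (AN.gen i) le_rfl (x i)
    rw [rs_self] at this
    rw [hcdef i, this]
  -- the atlases of `P^m` and `N ⊗ P^m`
  let AQ := A.pow m
  let AR := AN.tmul AQ
  have hQ : PicF.IsInvertible (CohB1.tensorPow P m) := isInvertible_tensorPow hP m
  have hR : PicF.IsInvertible (CohB1.tensorMod N (CohB1.tensorPow P m)) :=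
    isInvertible_tensorMod hN hQ
  -- the section `s^m`
  obtain ⟨σm, hσm, -⟩ := exists_sec_pow hVc A AQ m (fun i j => Atlas.pow_trans A m i j) (sec s)
  -- the section `t`
  have hccompat : ∀ i j, rf (inf_le_left : Vc i ⊓ Vc j ≤ Vc i) (c i) =
      rf inf_le_right (c j) * AR.trans i j := by
    intro i j
    have h1 := hx2 i j
    rw [← hcx i, ← hcx j, Groth.Agent.Lib.H78Atlas.rs_smul, Groth.Agent.Lib.H78Atlas.rs_smul, ← AN.trans_spec i j, ← mul_smul,
      ← mul_smul] at h1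
    have h2 : rf (inf_le_left : Vc i ⊓ Vc j ≤ Vc i) (c i) =
        A.trans i j ^ m * rf (inf_le_right : Vc i ⊓ Vc j ≤ Vc j) (c j) * AN.trans i j := by
      apply ((AN.gen i).mono (inf_le_left : Vc i ⊓ Vc j ≤ Vc i) _ le_rfl).1
      change _ • rs N le_rfl (rs N inf_le_left (AN.E i)) = _ • rs N le_rfl (rs N inf_le_left (AN.E i))
      rw [rs_self]
      exact h1
    rw [h2, Atlas.tmul_trans, Atlas.pow_trans]
    ring
  obtain ⟨t, ht⟩ := AR.exists_sec hVc c hccompat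
  -- generating loci contain `E ∪ Ass`
  have hZσ : ∀ z ∈ E ∪ assPts X, z ∈ CohB1.genLocus _ (ofSection σm) := by
    intro z hz
    have hzV : z ∈ V := hZs hz
    have hzc : z ∈ ⨆ i, Vc i := by rw [hVc]; trivial
    obtain ⟨i, hi⟩ := Opens.mem_iSup.1 hzc
    have h1 : z ∈ X.basicOpen (AQ.co σm i) := by
      rw [hσm i, X.mem_basicOpen _ z hi, map_pow]
      have h2 : z ∈ X.basicOpen (A.co (sec s) i) := by rw [hbo]; exact ⟨hzV, hi⟩
      rw [X.mem_basicOpen _ z hi] at h2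
      exact h2.pow m
    rw [← AQ.genLocus_inf] at h1
    exact h1.1
  have hZt : ∀ z ∈ E ∪ assPts X, z ∈ CohB1.genLocus _ (ofSection t) := by
    intro z hz
    have hzV : z ∈ V := hZs hz
    have hzc : z ∈ ⨆ i, Vc i := by rw [hVc]; trivial
    obtain ⟨i, hi⟩ := Opens.mem_iSup.1 hzc
    obtain ⟨W, hW, hzW, hWgen⟩ := hgen z hz
    have hza : z ∈ X.basicOpen (A.co (sec s) i) := by rw [hbo]; exact ⟨hzV, hi⟩
    -- the small neighbourhood
    obtain ⟨W₂, hW₂⟩ : ∃ W₂ : X.Opens, W₂ = W ⊓ X.basicOpen (A.co (sec s) i) := ⟨_, rfl⟩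
    have hzW₂ : z ∈ W₂ := by rw [hW₂]; exact ⟨hzW, hza⟩
    have hW₂W : W₂ ≤ W := by rw [hW₂]; exact inf_le_left
    have hW₂a : W₂ ≤ X.basicOpen (A.co (sec s) i) := by rw [hW₂]; exact inf_le_right
    have hW₂i : W₂ ≤ Vc i := hW₂a.trans (X.basicOpen_le _)
    have h1 := congrArg (rs N hW₂a) (hx1 i)
    rw [rs_rs, Groth.Agent.Lib.H78Atlas.rs_smul, rs_rs] at h1
    -- `x i` generates on `W₂`
    have hu : IsUnit (rf hW₂a (rf (X.basicOpen_le (A.co (sec s) i)) (A.co (sec s) i) ^ m)) := by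
      rw [rf_pow, rf_rf]
      exact ((isUnit_map_iff hW₂i _).2 hW₂a).pow m
    have hg1 : IsGen N W₂ (rs N hW₂i (x i)) := by
      rw [h1]
      have hg0 : IsGen N W₂ (rs N (hW₂W.trans hW) τ') := by
        have h5 : IsGen N W₂ (rs N hW₂W (rs N hW τ')) := hWgen.mono hW₂W
        rwa [rs_rs] at h5
      exact (isGen_smul_iff hg0 _).2 hu
    rw [← hcx i, Groth.Agent.Lib.H78Atlas.rs_smul] at hg1
    have hu2 : IsUnit (rf hW₂i (c i)) := (isGen_smul_iff ((AN.gen i).mono hW₂i) _).1 hg1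
    have h3 : W₂ ≤ X.basicOpen (c i) := (isUnit_map_iff hW₂i _).1 hu2
    have h4 : z ∈ X.basicOpen (AR.co t i) := by rw [ht i]; exact h3 hzW₂
    rw [← AR.genLocus_inf] at h4
    exact h4.1
  refine ⟨PicF2.zeroScheme _ (ofSection t), PicF2.zeroScheme _ (ofSection σm),
    isEffCartierIdeal_zeroScheme hR t (fun y hy => hZt y (Set.mem_union_right _ hy)),
    isEffCartierIdeal_zeroScheme hQ σm (fun y hy => hZσ y (Set.mem_union_right _ hy)),
    Set.disjoint_left.2 (fun y hyE hys =>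
      notMem_support_zeroScheme hR t (hZt y (Set.mem_union_left _ hyE)) hys),
    Set.disjoint_left.2 (fun y hyE hys =>
      notMem_support_zeroScheme hQ σm (hZσ y (Set.mem_union_left _ hyE)) hys),
    exists_iso_tensor_idealMod hQ hR hVc hVaff AN AQ AR (fun i j => Atlas.tmul_trans AN AQ i j)
      t σm (fun y hy => hZt y (Set.mem_union_right _ hy))
      (fun y hy => hZσ y (Set.mem_union_right _ hy))⟩

end Groth.Agent.S1658
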