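import Groth.Statements.S16583
import Groth.Agent.Lib.EtLocSection39
import Groth.Agent.Lib.HenselPair

set_option autoImplicit false
universe u
open CategoryTheory AlgebraicGeometry
open EtCore

namespace Groth.Agent.S16583

lemma isStrictlyHenselian_of_isField (X : Scheme.{u}) (x : X)
    (hx : IsField (X.presheaf.stalk x)) (hx' : IsAlgClosed (X.residueField x)) :
    EtCoh.IsStrictlyHenselianLocalRing (X.presheaf.stalk x) := by
  have hH : HenselianRing (X.presheaf.stalk x) (IsLocalRing.maximalIdeal _) :=
    Groth.Agent.Lib.HenselPair.henselian_of_nilpotent _ (fun a ha => by
      have hnu : ¬ IsUnit a := (IsLocalRing.mem_maximalIdeal a).1 ha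
      have h0 : a = 0 := by
        by_contra hne
        obtain ⟨b, hb⟩ := hx.mul_inv_cancel hne
        exact hnu (IsUnit.of_mul_eq_one b hb)
      rw [h0]
      exact IsNilpotent.zero)
  refine ⟨{ is_henselian := fun f hf a₀ h₁ h₂ => hH.is_henselian f hf a₀ h₁ (h₂.map _) }, ?_⟩
  have : IsAlgClosed (IsLocalRing.ResidueField (X.presheaf.stalk x)) := hx'
  infer_instance

/-- Let X be a scheme such that every local ring of X is a field and every residue field of X is
algebraically closed, and let f : Y → X be an étale morphism. Then f is Zariski-locally trivial: for
every point y of Y there exist an open V of X containing f(y) and a section s : V → Y of f over V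
whose image contains y. (The published lemma is stated for a specific scheme X^c attached to a
coherent scheme — the constructible topology of a suitable integral cover, which has these two
properties by construction; the row states the assertion for every scheme with these two properties,
which is all the printed proof uses. The lemma's further assertions about the étale and Zariski
topoi, torsors and gerbes on X^c are not included.) -/
theorem result
    (X Y : Scheme.{u}) (hX : ∀ x : X, IsField (X.presheaf.stalk x))
    (hX' : ∀ x : X, IsAlgClosed (X.residueField x))
    (f : Y ⟶ X) [Etale f] (y : Y) :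
    ∃ (V : X.Opens) (s : (V : Scheme.{u}) ⟶ Y), f.base y ∈ V ∧ s ≫ f = V.ι ∧ y ∈ Set.range s.base := by
  obtain ⟨N, hN, s, hs, hsy⟩ := Groth.Agent.Lib.EtLocSection39.exists_local_section f y
    (isStrictlyHenselian_of_isField X (f y) (hX _) (hX' _))
  exact ⟨N, s, hN, hs, ⟨⟨f y, hN⟩, hsy⟩⟩

end Groth.Agent.S16583
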