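import Groth.Statements.S4362
import Mathlib.Data.DFinsupp.WellFounded
import Mathlib.AlgebraicGeometry.Morphisms.QuasiCompact

set_option autoImplicit false
universe u
open FinCond

namespace Groth.Agent.S4362

open AlgebraicGeometry in
open CategoryTheory in
/-- If X is a Noetherian scheme, every increasing sequence of quasi-coherent sheaves of ideals of the
structure sheaf is eventually constant; equivalently the ordered set of quasi-coherent ideal sheaves
of X is well-founded for the reverse order. (On a locally Noetherian scheme quasi-coherent and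
coherent ideal sheaves coincide.) -/
theorem result
    (X : Scheme.{u}) [IsNoetherian X] : WellFoundedGT X.IdealSheafData := by
  obtain ⟨s, hs, e⟩ := (isCompact_iff_finite_and_eq_biUnion_affineOpens (U := (⊤ : X.Opens))).mp
    (by simpa using CompactSpace.isCompact_univ)
  have : Finite s := hs
  have hcov : ⨆ i : s, (i.1 : X.Opens) = ⊤ := by rw [e, iSup_subtype]
  have hN : ∀ i : s, IsNoetherianRing Γ(X, i.1) :=
    fun i ↦ IsLocallyNoetherian.component_noetherian i.1
  let f : X.IdealSheafData → (∀ i : s, (Ideal Γ(X, i.1))ᵒᵈ) :=
    fun I i ↦ OrderDual.toDual (I.ideal i.1)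
  have hf : StrictAnti f := by
    intro I J hIJ
    refine lt_of_le_not_ge (fun i ↦ ?_) (fun h ↦ ?_)
    · exact OrderDual.toDual_le_toDual.mpr (hIJ.le i.1)
    · refine hIJ.not_ge (Scheme.IdealSheafData.le_of_iSup_eq_top (fun i : s ↦ i.1) hcov fun i ↦ ?_)
      exact OrderDual.toDual_le_toDual.mp (h i)
  exact hf.wellFoundedGT

end Groth.Agent.S4362
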