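import Groth.Statements.S1659
import Groth.Agent.S4362
import Groth.Agent.Lib.IdealColon68
import Groth.Agent.Lib.BlowUpSeparate68
import Groth.Agent.Lib.IdealExt68

set_option autoImplicit false
universe u
open CategoryTheory CategoryTheory.Limits AlgebraicGeometry
open Divisors

namespace Groth.Agent.S1659

open Groth.Agent.Lib.BlowUpSeparate68 Groth.Agent.Lib.IdealColon68

/-- If `g` is a nonzerodivisor generating a prime ideal, `𝔭` is a minimal prime over `(f)` and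
`g ∈ 𝔭`, then `f ∈ (g)`. -/
theorem mem_span_of_mem_minimalPrimes {R : Type*} [CommRing R] (f g : R)
    (hg : g ∈ nonZeroDivisors R) (hgp : (Ideal.span {g}).IsPrime) (𝔭 : Ideal R)
    (h𝔭 : 𝔭 ∈ (Ideal.span {f}).minimalPrimes) (hg𝔭 : g ∈ 𝔭) : f ∈ Ideal.span {g} := by
  have h𝔭prime : 𝔭.IsPrime := h𝔭.1.1
  have hf𝔭 : f ∈ 𝔭 := h𝔭.1.2 (Ideal.mem_span_singleton_self f)
  have key : ∀ (n : ℕ) (h s : R), s ∉ 𝔭 → g ^ n * s = h * f → f ∈ Ideal.span {g} := by
    intro n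
    induction n with
    | zero =>
      intro h s hs heq
      exfalso
      apply hs
      rw [pow_zero, one_mul] at heq
      rw [heq]
      exact 𝔭.mul_mem_left _ hf𝔭
    | succ n ih =>
      intro h s hs heq
      have hmem : h * f ∈ Ideal.span {g} := by
        rw [← heq, Ideal.mem_span_singleton']
        exact ⟨g ^ n * s, by ring⟩
      rcases hgp.mem_or_mem hmem with hh | hf
      · obtain ⟨h', rfl⟩ := Ideal.mem_span_singleton'.1 hh
        apply ih h' s hs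
        have h1 : g * (g ^ n * s) = g * (h' * f) := by
          rw [← mul_assoc, ← pow_succ', heq]; ring
        exact (mul_cancel_left_mem_nonZeroDivisors hg).1 h1
      · exact hf
  by_contra hcon
  have hdisj : Disjoint ((Ideal.span {f} : Ideal R) : Set R)
      ((Submonoid.powers g ⊔ 𝔭.primeCompl : Submonoid R) : Set R) := by
    rw [Set.disjoint_left]
    intro x hxf hxS
    obtain ⟨h, rfl⟩ := Ideal.mem_span_singleton'.1 hxf
    obtain ⟨y, ⟨n, rfl⟩, s, hs, heq⟩ := Submonoid.mem_sup.1 hxS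
    exact hcon (key n h s hs heq)
  obtain ⟨p, hp, hfp, hpS⟩ := Ideal.exists_le_prime_disjoint _ _ hdisj
  have hp𝔭 : p ≤ 𝔭 := by
    intro x hx
    by_contra hx𝔭
    exact Set.disjoint_left.1 hpS hx
      ((le_sup_right : 𝔭.primeCompl ≤ Submonoid.powers g ⊔ 𝔭.primeCompl) hx𝔭)
  have h𝔭p : 𝔭 ≤ p := h𝔭.2 ⟨hp, hfp⟩ hp𝔭
  exact Set.disjoint_left.1 hpS (h𝔭p hg𝔭)
    ((le_sup_left : Submonoid.powers g ≤ Submonoid.powers g ⊔ 𝔭.primeCompl)
      (Submonoid.mem_powers g))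

variable {X : Scheme.{u}}

/-- The ideal of an integral closed subscheme on an affine open meeting it is prime. -/
theorem isPrime_ideal_of_isIntegral (𝓟 : X.IdealSheafData) [IsIntegral 𝓟.subscheme]
    (W : X.affineOpens) (x : X) (hxW : x ∈ W.1) (hx : x ∈ 𝓟.support) : (𝓟.ideal W).IsPrime := by
  rw [← 𝓟.ker_subschemeι_app W]
  have hne : Nonempty (𝓟.subschemeι ⁻¹ᵁ W.1) := by
    have h1 : x ∈ Set.range 𝓟.subschemeι := by rw [𝓟.range_subschemeι]; exact hx
    obtain ⟨z, hz⟩ := h1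
    exact ⟨⟨z, by show 𝓟.subschemeι z ∈ W.1; rw [hz]; exact hxW⟩⟩
  have : IsDomain Γ(𝓟.subscheme, 𝓟.subschemeι ⁻¹ᵁ W.1) := IsIntegral.component_integral _
  exact RingHom.ker_isPrime _

/-- Containment in the ideal of an integral closed subscheme can be checked on one affine open
meeting it. -/
theorem le_of_isIntegral (𝓔 𝓟 : X.IdealSheafData) [IsIntegral 𝓟.subscheme] (W : X.affineOpens)
    (x : X) (hxW : x ∈ W.1) (hx : x ∈ 𝓟.support) (hle : 𝓔.ideal W ≤ 𝓟.ideal W) : 𝓔 ≤ 𝓟 := by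
  intro U s hs
  by_cases hU : Disjoint (𝓟.support : Set X) (U.1 : Set X)
  · rw [Groth.Agent.Lib.IdealExt68.ideal_eq_top_of_disjoint_support 𝓟 U hU]; trivial
  · rw [Set.not_disjoint_iff] at hU
    obtain ⟨y, hy, hyU⟩ := hU
    obtain ⟨zx, hzx⟩ : x ∈ Set.range 𝓟.subschemeι := by rw [𝓟.range_subschemeι]; exact hx
    obtain ⟨zy, hzy⟩ : y ∈ Set.range 𝓟.subschemeι := by rw [𝓟.range_subschemeι]; exact hy
    obtain ⟨z, hzU, hzW⟩ : ∃ z : 𝓟.subscheme, 𝓟.subschemeι z ∈ U.1 ∧ 𝓟.subschemeι z ∈ W.1 := by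
      obtain ⟨z, hz1, hz2⟩ := nonempty_preirreducible_inter (𝓟.subschemeι ⁻¹ᵁ U.1).2
        (𝓟.subschemeι ⁻¹ᵁ W.1).2 ⟨zy, by show 𝓟.subschemeι zy ∈ U.1; rw [hzy]; exact hyU⟩
        ⟨zx, by show 𝓟.subschemeι zx ∈ W.1; rw [hzx]; exact hxW⟩
      exact ⟨z, hz1, hz2⟩
    obtain ⟨_, ⟨V, hV, rfl⟩, hzV, hVUW⟩ := X.isBasis_affineOpens.exists_subset_of_mem_open
      (show 𝓟.subschemeι z ∈ ((U.1 ⊓ W.1 : X.Opens) : Set X) from ⟨hzU, hzW⟩) (U.1 ⊓ W.1).2
    have hVU : (⟨V, hV⟩ : X.affineOpens) ≤ U := fun a ha => (hVUW ha).1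
    have hVW : (⟨V, hV⟩ : X.affineOpens) ≤ W := fun a ha => (hVUW ha).2
    have hsV := 𝓔.ideal_le_comap_ideal hVU hs
    have hEV : 𝓔.ideal ⟨V, hV⟩ ≤ 𝓟.ideal ⟨V, hV⟩ := by
      rw [← 𝓔.map_ideal hVW, ← 𝓟.map_ideal hVW]
      exact Ideal.map_mono hle
    have h0 := hEV hsV
    rw [← 𝓟.ker_subschemeι_app ⟨V, hV⟩, RingHom.mem_ker] at h0
    rw [← 𝓟.ker_subschemeι_app U, RingHom.mem_ker]
    have hne : Nonempty (𝓟.subschemeι ⁻¹ᵁ V) := ⟨⟨z, hzV⟩⟩
    have hinj := map_injective_of_isIntegral 𝓟.subscheme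
      ((TopologicalSpace.Opens.map 𝓟.subschemeι.base).map (homOfLE hVU))
    apply hinj
    rw [map_zero]
    have hnat := 𝓟.subschemeι.naturality (homOfLE hVU).op
    have := congr($(hnat).hom s)
    simp only [CommRingCat.hom_comp, RingHom.comp_apply] at this
    exact this.symm.trans h0

/-- Local step: an effective Cartier ideal with a point in its support, supported in the union of
integral effective Cartier divisors, is contained in one of them. -/
theorem exists_le (𝓔 : X.IdealSheafData) (hE : BlowUp.IsEffCartierIdeal 𝓔) (r : ℕ)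
    (Ds : Fin r → X.IdealSheafData) (hDs : ∀ i, BlowUp.IsEffCartierIdeal (Ds i))
    (hint : ∀ i, IsIntegral (Ds i).subscheme)
    (hsub : (𝓔.support : Set X) ⊆ ⋃ i, ((Ds i).support : Set X)) (z : X) (hz : z ∈ 𝓔.support) :
    ∃ i, 𝓔 ≤ Ds i := by
  obtain ⟨_, ⟨U, hU, rfl⟩, hzU, -⟩ :=
    X.isBasis_affineOpens.exists_subset_of_mem_open (Set.mem_univ z) isOpen_univ
  obtain ⟨f₀, hzf₀, hprin⟩ := exists_basicOpen_forall_principal
    (fun o : Option (Fin r) => o.elim 𝓔 Ds) (fun o => by cases o <;> simp [hE, hDs]) ⟨U, hU⟩ z hzU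
  obtain ⟨f, hf, hEf⟩ := hprin none
  simp only [Option.elim_none] at hEf
  have hzW : z ∈ (X.affineBasicOpen f₀).1 := hzf₀
  have h1 : Ideal.span {f} ≤ P (X.affineBasicOpen f₀) z hzW :=
    hEf ▸ ideal_le_P_of_mem_support 𝓔 (X.affineBasicOpen f₀) z hzW hz
  obtain ⟨𝔭, h𝔭, h𝔭z⟩ := Ideal.exists_minimalPrimes_le h1
  have h𝔭prime : 𝔭.IsPrime := h𝔭.1.1
  have hξW : (X.affineBasicOpen f₀).2.fromSpec ⟨𝔭, h𝔭prime⟩ ∈ (X.affineBasicOpen f₀).1 := by
    have h2 : (X.affineBasicOpen f₀).2.fromSpec ⟨𝔭, h𝔭prime⟩ ∈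
        Set.range (X.affineBasicOpen f₀).2.fromSpec := Set.mem_range_self _
    rw [(X.affineBasicOpen f₀).2.range_fromSpec] at h2
    exact h2
  have hinj : Function.Injective (X.affineBasicOpen f₀).2.fromSpec :=
    (Scheme.Hom.isOpenEmbedding (X.affineBasicOpen f₀).2.fromSpec).injective
  have hPξ' : (X.affineBasicOpen f₀).2.primeIdealOf ⟨_, hξW⟩ = ⟨𝔭, h𝔭prime⟩ :=
    hinj ((X.affineBasicOpen f₀).2.fromSpec_primeIdealOf ⟨_, hξW⟩)
  have hPξ : P (X.affineBasicOpen f₀) _ hξW = 𝔭 := congrArg PrimeSpectrum.asIdeal hPξ'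
  have hξE : (X.affineBasicOpen f₀).2.fromSpec ⟨𝔭, h𝔭prime⟩ ∈ 𝓔.support :=
    mem_support_of_span_singleton 𝓔 (X.affineBasicOpen f₀) f hEf _ hξW
      (hPξ.symm ▸ h𝔭.1.2 (Ideal.mem_span_singleton_self f))
  obtain ⟨i, hi⟩ := Set.mem_iUnion.1 (hsub hξE)
  obtain ⟨g, hg, hDg⟩ := hprin (some i)
  simp only [Option.elim_some] at hDg
  have hg𝔭 : g ∈ 𝔭 := by
    rw [← hPξ]
    exact ideal_le_P_of_mem_support (Ds i) (X.affineBasicOpen f₀) _ hξW hi
      (hDg ▸ Ideal.mem_span_singleton_self g)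
  have := hint i
  have hprime : (Ideal.span {g}).IsPrime :=
    hDg ▸ isPrime_ideal_of_isIntegral (Ds i) (X.affineBasicOpen f₀) _ hξW hi
  have hfg := mem_span_of_mem_minimalPrimes f g hg hprime 𝔭 h𝔭 hg𝔭
  refine ⟨i, le_of_isIntegral 𝓔 (Ds i) (X.affineBasicOpen f₀) _ hξW hi ?_⟩
  rw [hEf, hDg, Ideal.span_singleton_le_iff_mem]
  exact hfg

/-- Multiplying an effective Cartier ideal by an effective Cartier ideal with nonempty support
changes it. -/
theorem mul_ne_self (𝓒 𝓟 : X.IdealSheafData) (hC : BlowUp.IsEffCartierIdeal 𝓒)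
    (hP : BlowUp.IsEffCartierIdeal 𝓟) (z : X) (hz : z ∈ 𝓟.support) : 𝓒 * 𝓟 ≠ 𝓒 := by
  intro heq
  obtain ⟨_, ⟨U, hU, rfl⟩, hzU, -⟩ :=
    X.isBasis_affineOpens.exists_subset_of_mem_open (Set.mem_univ z) isOpen_univ
  obtain ⟨f₀, hzf₀, hprin⟩ := exists_basicOpen_forall_principal
    (fun i : Bool => if i then 𝓒 else 𝓟) (fun i => by cases i <;> simpa) ⟨U, hU⟩ z hzU
  obtain ⟨c, hc, hCc⟩ := hprin true
  obtain ⟨b, hb, hPb⟩ := hprin false
  simp only [if_true] at hCc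
  simp only [Bool.false_eq_true, if_false] at hPb
  have hzW : z ∈ (X.affineBasicOpen f₀).1 := hzf₀
  have h1 : (𝓒 * 𝓟).ideal (X.affineBasicOpen f₀) = Ideal.span {c * b} := by
    rw [Scheme.IdealSheafData.ideal_mul, Pi.mul_apply, hCc, hPb,
      Ideal.span_singleton_mul_span_singleton]
  rw [heq, hCc] at h1
  have h2 : c ∈ Ideal.span {c * b} := h1 ▸ Ideal.mem_span_singleton_self c
  obtain ⟨t, ht⟩ := Ideal.mem_span_singleton'.1 h2
  have h3 : c * (t * b) = c * 1 := by rw [mul_one]; nth_rewrite 2 [← ht]; ring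
  have h4 : t * b = 1 := (mul_cancel_left_mem_nonZeroDivisors hc).1 h3
  have h5 : b ∈ P (X.affineBasicOpen f₀) z hzW :=
    ideal_le_P_of_mem_support 𝓟 (X.affineBasicOpen f₀) z hzW hz
      (hPb ▸ Ideal.mem_span_singleton_self b)
  have h6 : (1 : Γ(X, (X.affineBasicOpen f₀).1)) ∈ P (X.affineBasicOpen f₀) z hzW :=
    h4 ▸ Ideal.mul_mem_left _ t h5
  exact (Ideal.ne_top_iff_one _).1
    ((X.affineBasicOpen f₀).2.primeIdealOf ⟨z, hzW⟩).isPrime.ne_top h6

/-- The main induction. -/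
theorem main (X : Scheme.{u}) [IsNoetherian X] (r : ℕ) (Ds : Fin r → X.IdealSheafData)
    (hDs : ∀ i, BlowUp.IsEffCartierIdeal (Ds i)) (hint : ∀ i, IsIntegral (Ds i).subscheme)
    (𝓔 : X.IdealSheafData) :
    BlowUp.IsEffCartierIdeal 𝓔 → (𝓔.support : Set X) ⊆ ⋃ i, ((Ds i).support : Set X) →
      ∃ a : Fin r → ℕ, 𝓔 = ∏ i, Ds i ^ a i := by
  have hwf : WellFoundedGT X.IdealSheafData := Groth.Agent.S4362.result X
  induction 𝓔 using hwf.induction with
  | ind 𝓔 ih =>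
    intro hE hsub
    by_cases htop : 𝓔 = ⊤
    · refine ⟨fun _ => 0, ?_⟩
      rw [htop]
      simp only [pow_zero, Finset.prod_const_one]
      rfl
    · have hne : 𝓔.support ≠ ⊥ := fun h => htop ((Scheme.IdealSheafData.support_eq_bot_iff _).1 h)
      obtain ⟨z, hz⟩ : ∃ z, z ∈ 𝓔.support := by
        by_contra hcon
        push Not at hcon
        apply hne
        ext x
        simp only [TopologicalSpace.Closeds.coe_bot, Set.mem_empty_iff_false, iff_false]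
        exact hcon x
      obtain ⟨i, hi⟩ := exists_le 𝓔 hE r Ds hDs hint hsub z hz
      obtain ⟨hC, hmul⟩ := exists_mul_eq_of_le 𝓔 (Ds i) hE (hDs i) hi
      set 𝓒 := colon 𝓔 (Ds i) (isFiniteTypeIdeal_of_isEffCartier (Ds i) (hDs i)) with h𝓒
      have := hint i
      obtain ⟨zi⟩ : Nonempty (Ds i).subscheme := IsIntegral.nonempty
      have hzi : (Ds i).subschemeι zi ∈ (Ds i).support := by
        have h1 : (Ds i).subschemeι zi ∈ Set.range (Ds i).subschemeι := Set.mem_range_self _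
        rw [(Ds i).range_subschemeι] at h1
        exact h1
      have hle : 𝓔 ≤ 𝓒 := by
        rw [hmul]
        exact mul_le_of_le_one_right' (le_top : Ds i ≤ ⊤)
      have hlt : 𝓔 < 𝓒 := lt_of_le_of_ne hle (fun h => by
        have h2 := mul_ne_self 𝓒 (Ds i) hC (hDs i) _ hzi
        apply h2
        rw [← hmul, h])
      have hsub' : (𝓒.support : Set X) ⊆ ⋃ i, ((Ds i).support : Set X) :=
        fun w hw => hsub (Scheme.IdealSheafData.support_antitone hle hw)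
      obtain ⟨a, ha⟩ := ih 𝓒 hlt hC hsub'
      refine ⟨fun j => a j + if i = j then 1 else 0, ?_⟩
      rw [hmul, ha]
      simp only [pow_add, Finset.prod_mul_distrib]
      congr 1
      rw [Finset.prod_pow_boole]
      simp

theorem result (X : Scheme.{u}) [IsNoetherian X] (D : X.IdealSheafData) (hD : BlowUp.IsEffCartierIdeal D)
    (r : ℕ) (Ds : Fin r → X.IdealSheafData) (hDs : ∀ i, BlowUp.IsEffCartierIdeal (Ds i)) (hint : ∀ i, IsIntegral (Ds i).subscheme)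
    (hsub : (D.support : Set X) ⊆ ⋃ i, ((Ds i).support : Set X)) :
    ∃ a : Fin r → ℕ, D = ∏ i, Ds i ^ a i :=
  main X r Ds hDs hint D hD hsub

end Groth.Agent.S1659
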