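import Groth.Statements.S16597
import Groth.Agent.Lib.LGRingUnimodular
import Mathlib.RingTheory.Spectrum.Prime.FreeLocus

set_option autoImplicit false
universe u v
open LGRing

namespace Groth.Agent.S16597

/-- splitting off a unimodular element -/
noncomputable def splitEquiv {R : Type u} [CommRing R] {M : Type v} [AddCommGroup M] [Module R M]
    (m₀ : M) (f : Module.Dual R M) (hf : f m₀ = 1) : M ≃ₗ[R] R × LinearMap.ker f :=
  LinearEquiv.ofLinearMap
    (LinearMap.prod f (LinearMap.codRestrict (LinearMap.ker f)
      (LinearMap.id - f.smulRight m₀) (by
        intro x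
        rw [LinearMap.mem_ker]
        simp [hf])))
    (LinearMap.coprod (LinearMap.toSpanSingleton R M m₀) (LinearMap.ker f).subtype)
    (by
      apply LinearMap.ext
      rintro ⟨a, k, hk⟩
      rw [LinearMap.mem_ker] at hk
      apply Prod.ext
      · simp [hf, hk]
      · apply Subtype.ext
        simp [hf, hk])
    (by
      apply LinearMap.ext
      intro x
      simp)

theorem free_of_rank {R : Type u} [CommRing R] [Nontrivial R] (hR : LGRing.IsLGRing R) :
    ∀ (d : ℕ) (M : Type v) [AddCommGroup M] [Module R M] [Module.Finite R M]
      [Module.Projective R M],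
      (∀ p : PrimeSpectrum R, Module.rankAtStalk M p = d) → Module.Free R M := by
  intro d
  induction d with
  | zero =>
    intro M _ _ _ _ hd
    have : Subsingleton M := Module.rankAtStalk_eq_zero_iff_subsingleton.mp (funext hd)
    exact Module.Free.of_subsingleton R M
  | succ d ih =>
    intro M _ _ _ _ hd
    have hM : ∀ m : Ideal R, m.IsMaximal →
        ¬ (⊤ : Submodule R M) ≤ m • (⊤ : Submodule R M) := by
      intro m hm htop
      obtain ⟨r, hr1, hr2⟩ :=
        Submodule.exists_sub_one_mem_and_smul_eq_zero_of_fg_of_le_smul m ⊤
          (Module.Finite.fg_top) htop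
      have hrm : r ∉ m := by
        intro hr
        have h1 : (1 : R) ∈ m := by
          have := m.sub_mem hr hr1
          simpa using this
        exact hm.ne_top ((Ideal.eq_top_iff_one m).mpr h1)
      have hmp : m.IsPrime := hm.isPrime
      have hsupp : (⟨m, hmp⟩ : PrimeSpectrum R) ∉ Module.support R M := by
        rw [Module.notMem_support_iff']
        intro x
        exact ⟨r, hrm, hr2 x Submodule.mem_top⟩
      have h0 := (Module.rankAtStalk_eq_zero_iff_notMem_support (M := M) ⟨m, hmp⟩).mpr hsupp
      rw [hd] at h0
      exact Nat.succ_ne_zero d h0
    obtain ⟨m₀, f, hf⟩ := Groth.Agent.Lib.LGRingUnimodular.exists_unimodular hR M hM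
    let e := splitEquiv m₀ f hf
    have hfin : Module.Finite R (R × LinearMap.ker f) := Module.Finite.equiv e
    have hproj : Module.Projective R (R × LinearMap.ker f) := Module.Projective.of_equiv e
    have hKfin : Module.Finite R (LinearMap.ker f) :=
      Module.Finite.of_surjective (LinearMap.snd R R (LinearMap.ker f)) LinearMap.snd_surjective
    have hKproj : Module.Projective R (LinearMap.ker f) :=
      Module.Projective.of_split (LinearMap.inr R R (LinearMap.ker f))
        (LinearMap.snd R R (LinearMap.ker f)) (by ext; simp)
    have hKrank : ∀ p : PrimeSpectrum R, Module.rankAtStalk (LinearMap.ker f) p = d := by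
      intro p
      have h1 := Module.rankAtStalk_eq_of_equiv e
      have h2 := Module.rankAtStalk_prod (R := R) R (LinearMap.ker f)
      have h3 := congrFun (h1.trans h2) p
      rw [hd p, Pi.add_apply, Module.rankAtStalk_self, Pi.one_apply] at h3
      omega
    have hKfree : Module.Free R (LinearMap.ker f) := ih (LinearMap.ker f) hKrank
    exact Module.Free.of_equiv e.symm

/-- Let R be an LG-ring and M a finite locally free (finitely generated projective) R-module of constant
rank. Then M is free. In particular invertible R-modules are trivial: Pic(R) = 0. -/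
theorem result {R : Type u} [CommRing R] (hR : LGRing.IsLGRing R)
    (M : Type v) [AddCommGroup M] [Module R M] [Module.Finite R M] [Module.Projective R M] (d : ℕ)
    (hd : ∀ p : PrimeSpectrum R, Module.rankAtStalk M p = d) : Module.Free R M := by
  cases subsingleton_or_nontrivial R with
  | inl h =>
    have : Subsingleton M := Module.subsingleton R M
    exact Module.Free.of_subsingleton R M
  | inr h => exact free_of_rank hR d M hd

end Groth.Agent.S16597
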