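import Groth.Statements.S16598
import Mathlib.RingTheory.Finiteness.Projective
import Mathlib.RingTheory.Nakayama
import Mathlib.LinearAlgebra.Dual.Defs

set_option autoImplicit false
universe u v
open LGRing

namespace Groth.Agent.S16598

/-- Let R be an LG-ring and M a faithfully projective R-module (finitely generated projective and
faithful). Then M contains a unimodular element: there are m ∈ M and a linear form f on M with f(m)
= 1 (so R·m is a free direct summand of M of rank one). -/
theorem result {R : Type u} [CommRing R] (hR : LGRing.IsLGRing R)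
    (M : Type v) [AddCommGroup M] [Module R M] [Module.Finite R M] [Module.Projective R M] [FaithfulSMul R M] :
    ∃ (m : M) (f : Module.Dual R M), f m = 1 := by
  classical
  obtain ⟨n, π, ι, hπ, hι, hπι⟩ := Module.Finite.exists_comp_eq_id_of_projective R M
  have hπι' : ∀ x : M, π (ι x) = x := fun x => LinearMap.congr_fun hπι x
  let E : Fin n → Fin n → R := fun i j => ι (π (Pi.single j 1)) i
  have hdecomp : ∀ x : Fin n → R, x = ∑ j, x j • (Pi.single j 1 : Fin n → R) := by
    intro x
    ext k
    simp [Finset.sum_apply, Pi.single_apply]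
  have hE : ∀ (x : Fin n → R) (i : Fin n), ι (π x) i = ∑ j, E i j * x j := by
    intro x i
    conv_lhs => rw [hdecomp x]
    simp only [map_sum, map_smul, Finset.sum_apply, Pi.smul_apply, smul_eq_mul, E]
    exact Finset.sum_congr rfl fun j _ => mul_comm _ _
  let f : MvPolynomial (Fin (n + n)) R := ∑ i, ∑ j,
    MvPolynomial.X (Fin.natAdd n i) * MvPolynomial.C (E i j) * MvPolynomial.X (Fin.castAdd n j)
  have hf_eval : ∀ (S : Type u) [CommRing S] [Algebra R S] (s : Fin (n + n) → S),
      MvPolynomial.aeval s f = ∑ i, ∑ j,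
        s (Fin.natAdd n i) * algebraMap R S (E i j) * s (Fin.castAdd n j) := by
    intro S _ _ s
    simp only [f, map_sum, map_mul, MvPolynomial.aeval_X, MvPolynomial.aeval_C]
  have hres : ∀ (m : Ideal R) [m.IsMaximal], LGRing.RepresentsUnit f (R ⧸ m) := by
    intro m hm
    have hex : ∃ i j, E i j ∉ m := by
      by_contra hall
      push Not at hall
      have htop : (⊤ : Submodule R M) ≤ m • (⊤ : Submodule R M) := by
        intro x _
        have hx : x = ∑ i, (ι x i) • π (Pi.single i 1) := by
          conv_lhs => rw [← hπι' x, hdecomp (ι x)]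
          simp only [map_sum, map_smul]
        rw [hx]
        apply Submodule.sum_mem
        intro i _
        apply Submodule.smul_mem_smul _ Submodule.mem_top
        have h3 : ι x i = ∑ j, E i j * ι x j := by
          conv_lhs => rw [← hπι' x]
          rw [hπι' x, ← hE (ι x) i, hπι' x]
        rw [h3]
        exact Submodule.sum_mem _ fun j _ => Ideal.mul_mem_right _ _ (hall i j)
      obtain ⟨r, hr1, hr2⟩ :=
        Submodule.exists_sub_one_mem_and_smul_eq_zero_of_fg_of_le_smul m ⊤
          (Module.Finite.fg_top) htop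
      have hr0 : r = 0 := by
        apply FaithfulSMul.eq_of_smul_eq_smul (α := M)
        intro x
        rw [hr2 x Submodule.mem_top, zero_smul]
      rw [hr0, zero_sub] at hr1
      have h1 : (1 : R) ∈ m := by simpa using m.neg_mem hr1
      exact hm.ne_top ((Ideal.eq_top_iff_one m).mpr h1)
    obtain ⟨i₀, j₀, hij⟩ := hex
    refine ⟨Fin.addCases (fun j => if j = j₀ then 1 else 0) (fun i => if i = i₀ then 1 else 0), ?_⟩
    rw [hf_eval]
    simp only [Fin.addCases_left, Fin.addCases_right]
    have : (∑ i, ∑ j, (if i = i₀ then (1 : R ⧸ m) else 0) * algebraMap R (R ⧸ m) (E i j) *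
        (if j = j₀ then (1 : R ⧸ m) else 0)) = algebraMap R (R ⧸ m) (E i₀ j₀) := by
      simp [Finset.sum_ite_eq']
    rw [this]
    obtain ⟨y, k, hk, hyk⟩ := hm.exists_inv hij
    rw [Ideal.Quotient.algebraMap_eq]
    refine IsUnit.of_mul_eq_one (Ideal.Quotient.mk m y) ?_
    rw [mul_comm, ← map_mul, ← map_one (Ideal.Quotient.mk m), ← hyk, map_add,
      Ideal.Quotient.eq_zero_iff_mem.mpr hk, add_zero]
  obtain ⟨s, hs⟩ := hR (n + n) f hres
  rw [hf_eval R s] at hs
  simp only [Algebra.algebraMap_self, RingHom.id_apply] at hs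
  let x : Fin n → R := fun j => s (Fin.castAdd n j)
  let g : M →ₗ[R] R := ∑ i, s (Fin.natAdd n i) • ((LinearMap.proj i : (Fin n → R) →ₗ[R] R) ∘ₗ ι)
  have hg : g (π x) = ∑ i, ∑ j, s (Fin.natAdd n i) * E i j * s (Fin.castAdd n j) := by
    simp only [g, LinearMap.sum_apply, LinearMap.smul_apply, LinearMap.comp_apply,
      LinearMap.proj_apply, smul_eq_mul, hE, Finset.mul_sum, x]
    refine Finset.sum_congr rfl fun i _ => Finset.sum_congr rfl fun j _ => ?_
    ring
  refine ⟨π x, (↑hs.unit⁻¹ : R) • g, ?_⟩
  rw [LinearMap.smul_apply, hg, smul_eq_mul]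
  exact hs.val_inv_mul

end Groth.Agent.S16598
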