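import Groth.Statements.S16599
import Groth.Agent.Lib.LGRingIso
import Mathlib.AlgebraicGeometry.Scheme
import Mathlib.RingTheory.Spectrum.Prime.Topology

set_option autoImplicit false
open AlgebraicGeometry
universe u
open LGRing

namespace Groth.Agent.S16599

/-- Let R be an LG-ring, n ≥ 0, and U an open quasi-compact subscheme of affine n-space Spec R[X₁, …,
Xₙ]. If U has an (R ⧸ m)-valued point over R for every maximal ideal m of R, then U has an R-valued
point: some n-tuple x over R defines a section Spec R ⟶ Spec R[X₁, …, Xₙ] with image inside U. -/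
theorem result {R : Type u} [CommRing R] (hR : LGRing.IsLGRing R)
    (n : ℕ) (U : (Spec (CommRingCat.of (MvPolynomial (Fin n) R))).Opens)
    (hU : IsCompact (U : Set ↥(Spec (CommRingCat.of (MvPolynomial (Fin n) R)))))
    (h : ∀ (m : Ideal R) [m.IsMaximal], ∃ x : Fin n → R ⧸ m,
      Set.range (Spec.map (CommRingCat.ofHom (MvPolynomial.eval₂Hom (Ideal.Quotient.mk m) x))).base ⊆
        (U : Set ↥(Spec (CommRingCat.of (MvPolynomial (Fin n) R))))) :
    ∃ x : Fin n → R, Set.range (Spec.map (CommRingCat.ofHom (MvPolynomial.eval x))).base ⊆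
      (U : Set ↥(Spec (CommRingCat.of (MvPolynomial (Fin n) R)))) := by
  classical
  obtain ⟨t, ht⟩ := PrimeSpectrum.isCompact_isOpen_iff.mp ⟨hU, U.isOpen⟩
  have key : ∀ {S : Type u} [CommRing S] (φ : MvPolynomial (Fin n) R →+* S),
      Set.range (Spec.map (CommRingCat.ofHom φ)).base ⊆
        (U : Set ↥(Spec (CommRingCat.of (MvPolynomial (Fin n) R)))) ↔
      ∀ q : PrimeSpectrum S, ∃ f ∈ t, φ f ∉ q.asIdeal := by
    intro S _ φ
    constructor
    · intro hsub q
      have hq : PrimeSpectrum.comap φ q ∈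
          (U : Set ↥(Spec (CommRingCat.of (MvPolynomial (Fin n) R)))) := hsub ⟨q, rfl⟩
      rw [← ht] at hq
      have hq' : ¬ ((t : Set (MvPolynomial (Fin n) R)) ⊆
          ((PrimeSpectrum.comap φ q).asIdeal : Set (MvPolynomial (Fin n) R))) := hq
      rw [Set.not_subset] at hq'
      obtain ⟨f, hf, hfq⟩ := hq'
      exact ⟨f, hf, hfq⟩
    · rintro hall _ ⟨q, rfl⟩
      obtain ⟨f, hf, hfq⟩ := hall q
      rw [← ht]
      intro hsub
      exact hfq (hsub hf)
  let e := t.equivFin
  let F : MvPolynomial (Fin n ⊕ Fin t.card) R :=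
    ∑ j : Fin t.card, MvPolynomial.X (Sum.inr j) *
      MvPolynomial.rename Sum.inl ((e.symm j : MvPolynomial (Fin n) R))
  have hF : ∀ {S : Type u} [CommRing S] [Algebra R S] (s : Fin n ⊕ Fin t.card → S),
      MvPolynomial.aeval s F = ∑ j : Fin t.card, s (Sum.inr j) *
        MvPolynomial.aeval (s ∘ Sum.inl) ((e.symm j : MvPolynomial (Fin n) R)) := by
    intro S _ _ s
    simp only [F, map_sum, map_mul, MvPolynomial.aeval_X, MvPolynomial.aeval_rename]
  have hres : ∀ (m : Ideal R) [m.IsMaximal], LGRing.RepresentsUnit F (R ⧸ m) := by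
    intro m hm
    let _ : Field (R ⧸ m) := Ideal.Quotient.field m
    obtain ⟨x, hx⟩ := h m
    rw [key] at hx
    obtain ⟨f, hf, hfx⟩ := hx ⟨⊥, Ideal.isPrime_bot⟩
    refine ⟨Sum.elim x (fun j => if j = e ⟨f, hf⟩ then 1 else 0), ?_⟩
    rw [hF]
    simp only [Sum.elim_inr, ite_mul, one_mul, zero_mul, Finset.sum_ite_eq', Finset.mem_univ,
      if_true, Equiv.symm_apply_apply]
    have hcomp : (Sum.elim x (fun j => if j = e ⟨f, hf⟩ then (1 : R ⧸ m) else 0)) ∘ Sum.inl = x := by
      funext i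
      simp
    rw [hcomp]
    have : MvPolynomial.aeval x f = MvPolynomial.eval₂Hom (Ideal.Quotient.mk m) x f := rfl
    rw [this]
    exact isUnit_iff_ne_zero.mpr (fun h0 => hfx (by simpa using h0))
  obtain ⟨s, hs⟩ := Groth.Agent.Lib.LGRingIso.representsUnit_of_fintype hR F hres
  rw [hF] at hs
  refine ⟨s ∘ Sum.inl, ?_⟩
  have h2 := (key (MvPolynomial.eval (s ∘ Sum.inl))).mpr
  apply h2
  intro q
  by_contra hall
  push Not at hall
  have hmem : (∑ j : Fin t.card, s (Sum.inr j) *
      MvPolynomial.aeval (s ∘ Sum.inl) ((e.symm j : MvPolynomial (Fin n) R))) ∈ q.asIdeal := by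
    refine Ideal.sum_mem _ fun j _ => Ideal.mul_mem_left _ _ ?_
    have h3 : MvPolynomial.aeval (s ∘ Sum.inl) ((e.symm j : MvPolynomial (Fin n) R)) =
        MvPolynomial.eval (s ∘ Sum.inl) ((e.symm j : MvPolynomial (Fin n) R)) := by
      rfl
    rw [h3]
    exact hall _ (e.symm j).2
  exact q.isPrime.ne_top (Ideal.eq_top_of_isUnit_mem _ hmem hs)

end Groth.Agent.S16599
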