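import Groth.Statements.S16600
import Groth.Agent.Lib.LGRingIso
import Mathlib.AlgebraicGeometry.Scheme
import Mathlib.RingTheory.Spectrum.Prime.Topology
import Mathlib.LinearAlgebra.SymmetricAlgebra.Basic
import Mathlib.LinearAlgebra.Dual.Lemmas

set_option autoImplicit false
open AlgebraicGeometry
universe u
open LGRing

namespace Groth.Agent.S16600

/-- Let R be an LG-ring, M a finite locally free R-module, W(M) = Spec Sym(M^∨) the vector bundle of M
(its points with values in an R-algebra R' are the R-algebra maps Sym(M^∨) → R', i.e. the R-linear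
maps M^∨ → R'), and U ⊆ W(M) an open quasi-compact subscheme. Then U(R) is non-empty if and only if
U(R ⧸ m) is non-empty for every maximal ideal m of R. -/
theorem result {R : Type u} [CommRing R]
    (hR : LGRing.IsLGRing R) (M : Type u) [AddCommGroup M] [Module R M] [Module.Finite R M] [Module.Projective R M]
    (U : (Spec (CommRingCat.of (SymmetricAlgebra R (Module.Dual R M)))).Opens)
    (hU : IsCompact (U : Set ↥(Spec (CommRingCat.of (SymmetricAlgebra R (Module.Dual R M)))))) :
    (∃ φ : Module.Dual R M →ₗ[R] R,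
      Set.range (Spec.map (CommRingCat.ofHom (SymmetricAlgebra.lift φ).toRingHom)).base ⊆
        (U : Set ↥(Spec (CommRingCat.of (SymmetricAlgebra R (Module.Dual R M)))))) ↔
    ∀ (m : Ideal R) [m.IsMaximal], ∃ φ : Module.Dual R M →ₗ[R] (R ⧸ m),
      Set.range (Spec.map (CommRingCat.ofHom (SymmetricAlgebra.lift φ).toRingHom)).base ⊆
        (U : Set ↥(Spec (CommRingCat.of (SymmetricAlgebra R (Module.Dual R M))))) := by
  classical
  obtain ⟨t, ht⟩ := PrimeSpectrum.isCompact_isOpen_iff.mp ⟨hU, U.isOpen⟩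
  have key : ∀ {S : Type u} [CommRing S] (φ : SymmetricAlgebra R (Module.Dual R M) →+* S),
      Set.range (Spec.map (CommRingCat.ofHom φ)).base ⊆
        (U : Set ↥(Spec (CommRingCat.of (SymmetricAlgebra R (Module.Dual R M))))) ↔
      ∀ q : PrimeSpectrum S, ∃ f ∈ t, φ f ∉ q.asIdeal := by
    intro S _ φ
    constructor
    · intro hsub q
      have hq : PrimeSpectrum.comap φ q ∈
          (U : Set ↥(Spec (CommRingCat.of (SymmetricAlgebra R (Module.Dual R M))))) :=
        hsub ⟨q, rfl⟩
      rw [← ht] at hq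
      have hq' : ¬ ((t : Set (SymmetricAlgebra R (Module.Dual R M))) ⊆
          ((PrimeSpectrum.comap φ q).asIdeal : Set (SymmetricAlgebra R (Module.Dual R M)))) := hq
      rw [Set.not_subset] at hq'
      obtain ⟨f, hf, hfq⟩ := hq'
      exact ⟨f, hf, hfq⟩
    · rintro hall _ ⟨q, rfl⟩
      obtain ⟨f, hf, hfq⟩ := hall q
      rw [← ht]
      intro hsub
      exact hfq (hsub hf)
  constructor
  · -- easy direction
    rintro ⟨φ, hφ⟩ m hm
    rw [key] at hφ
    refine ⟨(Algebra.linearMap R (R ⧸ m)) ∘ₗ φ, ?_⟩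
    rw [key]
    intro q
    obtain ⟨f, hf, hfq⟩ := hφ (PrimeSpectrum.comap (algebraMap R (R ⧸ m)) q)
    refine ⟨f, hf, ?_⟩
    have hcomp : SymmetricAlgebra.lift ((Algebra.linearMap R (R ⧸ m)) ∘ₗ φ) =
        (Algebra.ofId R (R ⧸ m)).comp (SymmetricAlgebra.lift φ) := by
      apply SymmetricAlgebra.algHom_ext
      ext x
      simp [SymmetricAlgebra.lift_ι_apply]
    intro hmem
    apply hfq
    rw [PrimeSpectrum.comap_asIdeal, Ideal.mem_comap]
    have h2 : (SymmetricAlgebra.lift ((Algebra.linearMap R (R ⧸ m)) ∘ₗ φ)).toRingHom f =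
        algebraMap R (R ⧸ m) ((SymmetricAlgebra.lift φ).toRingHom f) := by
      rw [hcomp]
      rfl
    rw [h2] at hmem
    exact hmem
  · intro h
    obtain ⟨n, π, ι, -, -, hπι⟩ :=
      Module.Finite.exists_comp_eq_id_of_projective R (Module.Dual R M)
    have hπι' : ∀ x, π (ι x) = x := fun x => LinearMap.congr_fun hπι x
    -- the point of the vector bundle attached to a tuple
    let pt : ∀ {S : Type u} [CommRing S] [Algebra R S], (Fin n → S) →
        (Module.Dual R M →ₗ[R] S) := fun {S} _ _ x =>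
      ∑ j : Fin n, (LinearMap.toSpanSingleton R S (x j)) ∘ₗ (LinearMap.proj j) ∘ₗ ι
    have hpt : ∀ {S : Type u} [CommRing S] [Algebra R S] (x : Fin n → S)
        (ξ : Module.Dual R M), pt x ξ = ∑ j : Fin n, (ι ξ j) • x j := by
      intro S _ _ x ξ
      simp [pt, LinearMap.sum_apply]
    let Θ : SymmetricAlgebra R (Module.Dual R M) →ₐ[R] MvPolynomial (Fin n) R :=
      SymmetricAlgebra.lift (pt (MvPolynomial.X : Fin n → MvPolynomial (Fin n) R))
    have hΘ : ∀ {S : Type u} [CommRing S] [Algebra R S] (x : Fin n → S),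
        (MvPolynomial.aeval x).comp Θ = SymmetricAlgebra.lift (pt x) := by
      intro S _ _ x
      apply SymmetricAlgebra.algHom_ext
      ext ξ
      change (MvPolynomial.aeval x) (Θ (SymmetricAlgebra.ι R _ ξ)) =
        SymmetricAlgebra.lift (pt x) (SymmetricAlgebra.ι R _ ξ)
      rw [SymmetricAlgebra.lift_ι_apply,
        SymmetricAlgebra.lift_ι_apply, hpt, hpt, map_sum]
      refine Finset.sum_congr rfl fun j _ => ?_
      rw [map_smul, MvPolynomial.aeval_X]
    let e := t.equivFin
    let F : MvPolynomial (Fin n ⊕ Fin t.card) R :=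
      ∑ j : Fin t.card, MvPolynomial.X (Sum.inr j) *
        MvPolynomial.rename Sum.inl (Θ (e.symm j : SymmetricAlgebra R (Module.Dual R M)))
    have hF : ∀ {S : Type u} [CommRing S] [Algebra R S] (s : Fin n ⊕ Fin t.card → S),
        MvPolynomial.aeval s F = ∑ j : Fin t.card, s (Sum.inr j) *
          SymmetricAlgebra.lift (pt (s ∘ Sum.inl))
            (e.symm j : SymmetricAlgebra R (Module.Dual R M)) := by
      intro S _ _ s
      simp only [F, map_sum, map_mul, MvPolynomial.aeval_X, MvPolynomial.aeval_rename]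
      refine Finset.sum_congr rfl fun j _ => ?_
      rw [← hΘ (s ∘ Sum.inl)]
      rfl
    have hres : ∀ (m : Ideal R) [m.IsMaximal], LGRing.RepresentsUnit F (R ⧸ m) := by
      intro m hm
      let _ : Field (R ⧸ m) := Ideal.Quotient.field m
      obtain ⟨φ, hφ⟩ := h m
      rw [key] at hφ
      obtain ⟨f, hf, hfx⟩ := hφ ⟨⊥, Ideal.isPrime_bot⟩
      let x : Fin n → R ⧸ m := fun j => φ (π (Pi.single j 1))
      have hx : pt x = φ := by
        apply LinearMap.ext
        intro ξ
        rw [hpt]
        simp only [x]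
        conv_rhs => rw [← hπι' ξ]
        have hdecomp : ι ξ = ∑ j, (ι ξ j) • (Pi.single j 1 : Fin n → R) := by
          ext k
          simp [Finset.sum_apply, Pi.single_apply]
        conv_rhs => rw [hdecomp]
        simp only [map_sum, map_smul]
      refine ⟨Sum.elim x (fun j => if j = e ⟨f, hf⟩ then 1 else 0), ?_⟩
      rw [hF]
      simp only [Sum.elim_inr, ite_mul, one_mul, zero_mul, Finset.sum_ite_eq', Finset.mem_univ,
        if_true, Equiv.symm_apply_apply]
      have hcomp : (Sum.elim x (fun j => if j = e ⟨f, hf⟩ then (1 : R ⧸ m) else 0)) ∘ Sum.inl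
          = x := by
        funext i
        simp
      rw [hcomp, hx]
      exact isUnit_iff_ne_zero.mpr (fun h0 => hfx (by simpa using h0))
    obtain ⟨s, hs⟩ := Groth.Agent.Lib.LGRingIso.representsUnit_of_fintype hR F hres
    rw [hF] at hs
    refine ⟨pt (s ∘ Sum.inl), ?_⟩
    rw [key]
    intro q
    by_contra hall
    push Not at hall
    have hmem : (∑ j : Fin t.card, s (Sum.inr j) *
        SymmetricAlgebra.lift (pt (s ∘ Sum.inl))
          (e.symm j : SymmetricAlgebra R (Module.Dual R M))) ∈ q.asIdeal := by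
      refine Ideal.sum_mem _ fun j _ => Ideal.mul_mem_left _ _ ?_
      exact hall _ (e.symm j).2
    exact q.isPrime.ne_top (Ideal.eq_top_of_isUnit_mem _ hmem hs)

end Groth.Agent.S16600
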