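import Groth.Statements.S16601
import Groth.Agent.S16600
import Mathlib.Algebra.MvPolynomial.Funext
import Mathlib.RingTheory.Polynomial.Basic

set_option autoImplicit false
open AlgebraicGeometry
universe u
open LGRing

namespace Groth.Agent.S16601

/-- Let R be an LG-ring whose residue fields at maximal ideals are all infinite (R satisfies the
primitive criterion), M a finite locally free R-module with vector bundle W(M) = Spec Sym(M^∨), and
U ⊆ W(M) an open quasi-compact subscheme which is fibrewise dense over the closed points of Spec R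
(for every maximal ideal m, the trace of U on the closed fibre Spec (Sym(M^∨) ⧸ m Sym(M^∨)) is
dense). Then U has an R-valued point. (The source asks U to be R-dense in W(M); only density of the
closed fibres is used, which is what is assumed here.) -/
theorem result {R : Type u} [CommRing R]
    (hR : LGRing.IsLGRing R) (hinf : ∀ (m : Ideal R) [m.IsMaximal], Infinite (R ⧸ m))
    (M : Type u) [AddCommGroup M] [Module R M] [Module.Finite R M] [Module.Projective R M]
    (U : (Spec (CommRingCat.of (SymmetricAlgebra R (Module.Dual R M)))).Opens)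
    (hU : IsCompact (U : Set ↥(Spec (CommRingCat.of (SymmetricAlgebra R (Module.Dual R M))))))
    (hdense : ∀ (m : Ideal R) [m.IsMaximal],
      Dense ((Spec.map (CommRingCat.ofHom (Ideal.Quotient.mk
        (Ideal.map (algebraMap R (SymmetricAlgebra R (Module.Dual R M))) m)))).base ⁻¹'
          (U : Set ↥(Spec (CommRingCat.of (SymmetricAlgebra R (Module.Dual R M))))))) :
    ∃ φ : Module.Dual R M →ₗ[R] R,
      Set.range (Spec.map (CommRingCat.ofHom (SymmetricAlgebra.lift φ).toRingHom)).base ⊆
        (U : Set ↥(Spec (CommRingCat.of (SymmetricAlgebra R (Module.Dual R M))))) := by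
  classical
  refine (Groth.Agent.S16600.result hR M U hU).mpr ?_
  intro m hm
  let _ : Field (R ⧸ m) := Ideal.Quotient.field m
  have hinfm : Infinite (R ⧸ m) := hinf m
  obtain ⟨t, ht⟩ := PrimeSpectrum.isCompact_isOpen_iff.mp ⟨hU, U.isOpen⟩
  -- (a) some `f ∈ t` is not in `m Sym`
  have ha : ∃ f ∈ t, f ∉ Ideal.map (algebraMap R (SymmetricAlgebra R (Module.Dual R M))) m := by
    set J := Ideal.map (algebraMap R (SymmetricAlgebra R (Module.Dual R M))) m with hJ
    have hJtop : J ≠ ⊤ := by
      intro htop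
      let χ : SymmetricAlgebra R (Module.Dual R M) →+* R ⧸ m :=
        (Ideal.Quotient.mk m).comp
          (SymmetricAlgebra.algebraMapInv (R := R) (M := Module.Dual R M)).toRingHom
      have hle : J ≤ RingHom.ker χ := by
        rw [hJ, Ideal.map_le_iff_le_comap]
        intro r hr
        rw [Ideal.mem_comap, RingHom.mem_ker]
        simp only [χ, RingHom.comp_apply, AlgHom.toRingHom_eq_coe, RingHom.coe_coe,
          AlgHom.commutes, Algebra.algebraMap_self, RingHom.id_apply]
        exact Ideal.Quotient.eq_zero_iff_mem.mpr hr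
      have h1 : (1 : SymmetricAlgebra R (Module.Dual R M)) ∈ RingHom.ker χ := by
        apply hle
        rw [htop]
        exact Submodule.mem_top
      rw [RingHom.mem_ker, map_one] at h1
      exact one_ne_zero h1
    have hnt : Nontrivial (SymmetricAlgebra R (Module.Dual R M) ⧸ J) :=
      Ideal.Quotient.nontrivial_iff.mpr hJtop
    have hne : Nonempty ↥(Spec (CommRingCat.of (SymmetricAlgebra R (Module.Dual R M) ⧸ J))) :=
      (inferInstance : Nonempty (PrimeSpectrum (SymmetricAlgebra R (Module.Dual R M) ⧸ J)))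
    obtain ⟨q, hq⟩ := (hdense m).nonempty
    have hq1 : PrimeSpectrum.comap (Ideal.Quotient.mk J) q ∈
        (U : Set ↥(Spec (CommRingCat.of (SymmetricAlgebra R (Module.Dual R M))))) := hq
    rw [← ht] at hq1
    have hq' : ¬ ((t : Set (SymmetricAlgebra R (Module.Dual R M))) ⊆
        ((PrimeSpectrum.comap (Ideal.Quotient.mk J) q).asIdeal :
          Set (SymmetricAlgebra R (Module.Dual R M)))) := hq1
    rw [Set.not_subset] at hq'
    obtain ⟨f, hf, hfq⟩ := hq'
    refine ⟨f, hf, fun hfJ => hfq ?_⟩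
    change f ∈ (PrimeSpectrum.comap (Ideal.Quotient.mk J) q).asIdeal
    rw [PrimeSpectrum.comap_asIdeal, Ideal.mem_comap, Ideal.Quotient.eq_zero_iff_mem.mpr hfJ]
    exact Ideal.zero_mem _
  obtain ⟨f, hft, hfJ⟩ := ha
  have key : ∀ {S : Type u} [CommRing S] (φ : SymmetricAlgebra R (Module.Dual R M) →+* S),
      (∀ q : PrimeSpectrum S, ∃ f ∈ t, φ f ∉ q.asIdeal) →
      Set.range (Spec.map (CommRingCat.ofHom φ)).base ⊆
        (U : Set ↥(Spec (CommRingCat.of (SymmetricAlgebra R (Module.Dual R M))))) := by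
    intro S _ φ
    rintro hall _ ⟨q, rfl⟩
    obtain ⟨f, hf, hfq⟩ := hall q
    rw [← ht]
    intro hsub
    exact hfq (hsub hf)
  obtain ⟨n, π, ι, -, -, hπι⟩ :=
    Module.Finite.exists_comp_eq_id_of_projective R (Module.Dual R M)
  have hπι' : ∀ x, π (ι x) = x := fun x => LinearMap.congr_fun hπι x
  let pt : ∀ {S : Type u} [CommRing S] [Algebra R S], (Fin n → S) →
      (Module.Dual R M →ₗ[R] S) := fun {S} _ _ x =>
    ∑ j : Fin n, (LinearMap.toSpanSingleton R S (x j)) ∘ₗ (LinearMap.proj j) ∘ₗ ι
  have hpt : ∀ {S : Type u} [CommRing S] [Algebra R S] (x : Fin n → S)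
      (ξ : Module.Dual R M), pt x ξ = ∑ j : Fin n, (ι ξ j) • x j := by
    intro S _ _ x ξ
    simp [pt, LinearMap.sum_apply]
  let Θ : SymmetricAlgebra R (Module.Dual R M) →ₐ[R] MvPolynomial (Fin n) R :=
    SymmetricAlgebra.lift (pt (MvPolynomial.X : Fin n → MvPolynomial (Fin n) R))
  have hΘ : ∀ {S : Type u} [CommRing S] [Algebra R S] (x : Fin n → S),
      (MvPolynomial.aeval x).comp Θ = SymmetricAlgebra.lift (pt x) := by
    intro S _ _ x
    apply SymmetricAlgebra.algHom_ext
    ext ξ
    change (MvPolynomial.aeval x) (Θ (SymmetricAlgebra.ι R _ ξ)) =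
      SymmetricAlgebra.lift (pt x) (SymmetricAlgebra.ι R _ ξ)
    rw [SymmetricAlgebra.lift_ι_apply,
      SymmetricAlgebra.lift_ι_apply, hpt, hpt, map_sum]
    refine Finset.sum_congr rfl fun j _ => ?_
    rw [map_smul, MvPolynomial.aeval_X]
  -- the retraction
  let Ψ : MvPolynomial (Fin n) R →ₐ[R] SymmetricAlgebra R (Module.Dual R M) :=
    MvPolynomial.aeval (fun j => SymmetricAlgebra.ι R (Module.Dual R M) (π (Pi.single j 1)))
  have hΨΘ : ∀ g, Ψ (Θ g) = g := by
    have : Ψ.comp Θ = AlgHom.id R _ := by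
      apply SymmetricAlgebra.algHom_ext
      ext ξ
      change Ψ (Θ (SymmetricAlgebra.ι R _ ξ)) = SymmetricAlgebra.ι R _ ξ
      rw [SymmetricAlgebra.lift_ι_apply, hpt, map_sum]
      simp only [map_smul, Ψ, MvPolynomial.aeval_X]
      conv_rhs => rw [← hπι' ξ]
      have hdecomp : ι ξ = ∑ j, (ι ξ j) • (Pi.single j 1 : Fin n → R) := by
        ext k
        simp [Finset.sum_apply, Pi.single_apply]
      conv_rhs => rw [hdecomp]
      simp only [map_sum, map_smul]
    intro g
    exact AlgHom.congr_fun this g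
  -- (b) the polynomial of `f` is nonzero mod `m`
  have hb : MvPolynomial.map (Ideal.Quotient.mk m) (Θ f) ≠ 0 := by
    intro h0
    have h1 : Θ f ∈ RingHom.ker (MvPolynomial.map (Ideal.Quotient.mk m) :
        MvPolynomial (Fin n) R →+* MvPolynomial (Fin n) (R ⧸ m)) := h0
    rw [MvPolynomial.ker_map, Ideal.mk_ker] at h1
    have h2 := Ideal.mem_map_of_mem Ψ.toRingHom h1
    rw [Ideal.map_map] at h2
    have h3 : Ψ.toRingHom.comp (MvPolynomial.C : R →+* MvPolynomial (Fin n) R) =
        algebraMap R (SymmetricAlgebra R (Module.Dual R M)) := by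
      ext r
      simp [Ψ]
    rw [h3] at h2
    apply hfJ
    have h4 : Ψ.toRingHom (Θ f) = f := hΨΘ f
    rw [h4] at h2
    exact h2
  -- (c) a point where it does not vanish
  obtain ⟨x, hx⟩ : ∃ x : Fin n → R ⧸ m,
      MvPolynomial.eval x (MvPolynomial.map (Ideal.Quotient.mk m) (Θ f)) ≠ 0 := by
    by_contra hall
    push Not at hall
    exact hb (MvPolynomial.funext (fun x => by rw [hall x, map_zero]))
  refine ⟨pt x, key _ ?_⟩
  intro q
  refine ⟨f, hft, ?_⟩
  have hq : q.asIdeal = ⊥ := Ideal.eq_bot_of_prime q.asIdeal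
  rw [hq, Ideal.mem_bot]
  have h5 : (SymmetricAlgebra.lift (pt x)).toRingHom f = MvPolynomial.aeval x (Θ f) := by
    rw [← hΘ x]
    rfl
  rw [h5]
  rw [MvPolynomial.eval_map] at hx
  exact hx

end Groth.Agent.S16601
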