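import Groth.Statements.S16602
import Groth.Agent.Lib.LGAzumaya16d
set_option autoImplicit false
universe u v w
open Brauer

namespace Groth.Agent.S16602

/-- Let R be an LG-ring with Spec R connected and A an Azumaya R-algebra. Then any two indecomposable
finitely generated projective left A-modules are isomorphic (a module is indecomposable when it is
non-zero and the only idempotents of its endomorphism ring are 0 and 1). (This extends the semilocal
case.) -/
theorem result {R : Type u} [CommRing R]
    (hR : LGRing.IsLGRing R) [ConnectedSpace (PrimeSpectrum R)] {A : Type v} [Ring A] [Algebra R A] [IsAzumaya R A]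
    (P Q : Type w) [AddCommGroup P] [Module A P] [Module.Finite A P] [Module.Projective A P] [Nontrivial P]
    [AddCommGroup Q] [Module A Q] [Module.Finite A Q] [Module.Projective A Q] [Nontrivial Q]
    (hP : ∀ e : Module.End A P, IsIdempotentElem e → e = 0 ∨ e = 1)
    (hQ : ∀ e : Module.End A Q, IsIdempotentElem e → e = 0 ∨ e = 1) : Nonempty (P ≃ₗ[A] Q) := by
  classical
  let _ : Module R P := Module.compHom P (algebraMap R A)
  let _ : Module R Q := Module.compHom Q (algebraMap R A)
  have : IsScalarTower R A P := ⟨fun r a p => by
    change (r • a) • p = (algebraMap R A r) • (a • p)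
    rw [Algebra.smul_def, mul_smul]⟩
  have : IsScalarTower R A Q := ⟨fun r a p => by
    change (r • a) • p = (algebraMap R A r) • (a • p)
    rw [Algebra.smul_def, mul_smul]⟩
  have hfP : Module.Finite R P := Module.Finite.trans A P
  have hfQ : Module.Finite R Q := Module.Finite.trans A Q
  have hpP : Module.Projective R P := Groth.Agent.Lib.LGAzumaya16.projective_of_tower R A P
  have hpQ : Module.Projective R Q := Groth.Agent.Lib.LGAzumaya16.projective_of_tower R A Q
  have hfpP : Module.FinitePresentation R P := Module.finitePresentation_of_projective R P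
  have hfpQ : Module.FinitePresentation R Q := Module.finitePresentation_of_projective R Q
  have hcP : IsLocallyConstant (Module.rankAtStalk (R := R) P) := Module.isLocallyConstant_rankAtStalk
  have hcQ : IsLocallyConstant (Module.rankAtStalk (R := R) Q) := Module.isLocallyConstant_rankAtStalk
  obtain ⟨p₀⟩ : Nonempty (PrimeSpectrum R) := inferInstance
  rcases le_total (Module.rankAtStalk Q p₀) (Module.rankAtStalk P p₀) with hle | hle
  · have h : ∀ p : PrimeSpectrum R, Module.rankAtStalk Q p ≤ Module.rankAtStalk P p := by
      intro p
      rw [hcP.apply_eq_of_preconnectedSpace p p₀, hcQ.apply_eq_of_preconnectedSpace p p₀]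
      exact hle
    obtain ⟨φ, ψ, hφψ⟩ := Groth.Agent.Lib.LGAzumaya16.exists_comp_eq_id_of_rankAtStalk_le
      (A := A) (M := P) (N := Q) hR h
    exact Groth.Agent.Lib.LGAzumaya16.nonempty_linearEquiv_of_indecomposable hP φ ψ hφψ
  · have h : ∀ p : PrimeSpectrum R, Module.rankAtStalk P p ≤ Module.rankAtStalk Q p := by
      intro p
      rw [hcP.apply_eq_of_preconnectedSpace p p₀, hcQ.apply_eq_of_preconnectedSpace p p₀]
      exact hle
    obtain ⟨φ, ψ, hφψ⟩ := Groth.Agent.Lib.LGAzumaya16.exists_comp_eq_id_of_rankAtStalk_le
      (A := A) (M := Q) (N := P) hR h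
    obtain ⟨e⟩ := Groth.Agent.Lib.LGAzumaya16.nonempty_linearEquiv_of_indecomposable hQ φ ψ hφψ
    exact ⟨e.symm⟩

end Groth.Agent.S16602
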