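import Groth.Statements.S16607
import Groth.Agent.Lib.LGAzumaya16h
set_option autoImplicit false
universe u v
open Brauer

namespace Groth.Agent.S16607

/-- Let R be an LG-ring, A and B Azumaya R-algebras and n ≥ 1. If Mₙ(A) ≅ Mₙ(B) as R-algebras then A ≅ B
as R-algebras (cancellation of Azumaya algebras). -/
theorem result {R : Type u} [CommRing R]
    (hR : LGRing.IsLGRing R) (A B : Type v) [Ring A] [Algebra R A] [IsAzumaya R A] [Ring B] [Algebra R B]
    [IsAzumaya R B] (n : ℕ) (hn : 0 < n)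
    (e : Matrix (Fin n) (Fin n) A ≃ₐ[R] Matrix (Fin n) (Fin n) B) : Nonempty (A ≃ₐ[R] B) := by
  classical
  have : Nonempty (Fin n) := ⟨⟨0, hn⟩⟩
  have hEnd : IsAzumaya R (Module.End R (Fin n → R)) :=
    Groth.Agent.Lib.Azumaya16.isAzumaya_end R (Fin n → R)
  let t : Matrix (Fin n) (Fin n) R ≃ₐ[R] Module.End R (Fin n → R) := Matrix.toLinAlgEquiv'
  let eA : Matrix (Fin n) (Fin n) A ≃ₐ[R] TensorProduct R A (Module.End R (Fin n → R)) :=
    (matrixEquivTensor (Fin n) R A).trans (Algebra.TensorProduct.congr AlgEquiv.refl t)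
  let eB : Matrix (Fin n) (Fin n) B ≃ₐ[R] TensorProduct R B (Module.End R (Fin n → R)) :=
    (matrixEquivTensor (Fin n) R B).trans (Algebra.TensorProduct.congr AlgEquiv.refl t)
  let e' : TensorProduct R A (Module.End R (Fin n → R)) ≃ₐ[R] TensorProduct R B (Module.End R (Fin n → R)) :=
    eA.symm.trans (e.trans eB)
  have hAB : ∀ p : PrimeSpectrum R, Module.rankAtStalk A p = Module.rankAtStalk B p :=
    Groth.Agent.Lib.LGAzumaya16.rankAtStalk_eq_of_tensor_equiv A B (Module.End R (Fin n → R))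
      (Module.End R (Fin n → R)) (fun _ => rfl) e'.toLinearEquiv
  exact Groth.Agent.Lib.LGAzumaya16.nonempty_algEquiv_of_tensor_end_equiv A B (Fin n → R)
    (Fin n → R) hR e' (fun p => by rw [hAB p])

end Groth.Agent.S16607
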