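import Groth.Statements.S16608
import Groth.Agent.Lib.LGAzumaya16h
set_option autoImplicit false
open scoped TensorProduct
universe u v
open Brauer

namespace Groth.Agent.S16608

/-- Let R be an LG-ring and A, B, C Azumaya R-algebras. If A ⊗_R C ≅ B ⊗_R C as R-algebras then A ≅ B as
R-algebras. -/
theorem result {R : Type u} [CommRing R]
    (hR : LGRing.IsLGRing R) (A B C : Type v) [Ring A] [Algebra R A] [IsAzumaya R A] [Ring B] [Algebra R B]
    [IsAzumaya R B] [Ring C] [Algebra R C] [IsAzumaya R C]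
    (e : A ⊗[R] C ≃ₐ[R] B ⊗[R] C) : Nonempty (A ≃ₐ[R] B) := by
  classical
  have bij : Function.Bijective (AlgHom.mulLeftRight R C) := IsAzumaya.bij
  let t : C ⊗[R] Cᵐᵒᵖ ≃ₐ[R] Module.End R C := AlgEquiv.ofBijective (AlgHom.mulLeftRight R C) bij
  let eA : A ⊗[R] Module.End R C ≃ₐ[R] (A ⊗[R] C) ⊗[R] Cᵐᵒᵖ :=
    (Algebra.TensorProduct.congr AlgEquiv.refl t.symm).trans
      (Algebra.TensorProduct.assoc R R R A C Cᵐᵒᵖ).symm
  let eB : B ⊗[R] Module.End R C ≃ₐ[R] (B ⊗[R] C) ⊗[R] Cᵐᵒᵖ :=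
    (Algebra.TensorProduct.congr AlgEquiv.refl t.symm).trans
      (Algebra.TensorProduct.assoc R R R B C Cᵐᵒᵖ).symm
  let e' : A ⊗[R] Module.End R C ≃ₐ[R] B ⊗[R] Module.End R C :=
    eA.trans ((Algebra.TensorProduct.congr e AlgEquiv.refl).trans eB.symm)
  have hAB : ∀ p : PrimeSpectrum R, Module.rankAtStalk A p = Module.rankAtStalk B p :=
    Groth.Agent.Lib.LGAzumaya16.rankAtStalk_eq_of_tensor_equiv A B C C (fun _ => rfl)
      e.toLinearEquiv
  exact Groth.Agent.Lib.LGAzumaya16.nonempty_algEquiv_of_tensor_end_equiv A B C C hR e'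
    (fun p => by rw [hAB p])

end Groth.Agent.S16608
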