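import Groth.Statements.S16609
import Groth.Agent.Lib.LGAzumaya16h
set_option autoImplicit false
open scoped TensorProduct
universe u v
open Brauer

namespace Groth.Agent.S16609

/-- Let R be an LG-ring and A, B two Azumaya R-algebras of the same degree (the same rank function on
Spec R). Then A ≅ B as R-algebras as soon as A and B have the same class in the Brauer group of R,
i.e. A ⊗_R End_R(P) ≅ B ⊗_R End_R(Q) for some faithfully projective R-modules P, Q (the converse
being clear). -/
theorem result {R : Type u} [CommRing R]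
    (hR : LGRing.IsLGRing R) (A B : Type u) [Ring A] [Algebra R A] [IsAzumaya R A] [Ring B] [Algebra R B]
    [IsAzumaya R B] (hdeg : ∀ p : PrimeSpectrum R, Module.rankAtStalk A p = Module.rankAtStalk B p)
    (P Q : Type u) [AddCommGroup P] [Module R P] [Module.Finite R P] [Module.Projective R P] [FaithfulSMul R P]
    [AddCommGroup Q] [Module R Q] [Module.Finite R Q] [Module.Projective R Q] [FaithfulSMul R Q]
    (e : A ⊗[R] Module.End R P ≃ₐ[R] B ⊗[R] Module.End R Q) : Nonempty (A ≃ₐ[R] B) := by
  classical
  have hEP : IsAzumaya R (Module.End R P) := Groth.Agent.Lib.Azumaya16.isAzumaya_end R P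
  have hEQ : IsAzumaya R (Module.End R Q) := Groth.Agent.Lib.Azumaya16.isAzumaya_end R Q
  refine Groth.Agent.Lib.LGAzumaya16.nonempty_algEquiv_of_tensor_end_equiv A B P Q hR e ?_
  intro p
  have h1 := congrFun (Module.rankAtStalk_eq_of_equiv e.toLinearEquiv) p
  rw [Module.rankAtStalk_tensorProduct, Module.rankAtStalk_tensorProduct] at h1
  simp only [Pi.mul_apply] at h1
  rw [Groth.Agent.Lib.LGAzumaya16.rankAtStalk_end, Groth.Agent.Lib.LGAzumaya16.rankAtStalk_end,
    hdeg p] at h1
  have hpos : 0 < Module.rankAtStalk B p :=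
    Groth.Agent.Lib.LGAzumaya16.rankAtStalk_pos_of_faithful B p
  have h2 := Nat.eq_of_mul_eq_mul_left hpos h1
  have h3 : Module.rankAtStalk P p = Module.rankAtStalk Q p := by
    rw [← pow_two, ← pow_two] at h2
    exact Nat.pow_left_injective (by norm_num : 2 ≠ 0) h2
  rw [hdeg p, h3]

end Groth.Agent.S16609
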