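import Groth.Statements.S1661
import Groth.Agent.Lib.IdealComap
import Mathlib.RingTheory.Regular.Flat
import Mathlib.RingTheory.Regular.RegularSequence
-- import your own Groth.Agent.* helpers here

set_option autoImplicit false
universe u
open CategoryTheory CategoryTheory.Limits AlgebraicGeometry
open Divisors

namespace Groth.Agent.S1661

open RingTheory.Sequence in
theorem isWeaklyRegular_append_of_surjective {B C : Type*} [CommRing B] [CommRing C] (π : B →+* C)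
    (hπ : Function.Surjective π) (fs gs : List B) (hker : RingHom.ker π = Ideal.ofList fs)
    (hfs : IsWeaklyRegular B fs) (hgs : IsWeaklyRegular C (gs.map π)) :
    IsWeaklyRegular B (fs ++ gs) := by
  rw [isWeaklyRegular_append_iff]
  refine ⟨hfs, ?_⟩
  let _ : Algebra B C := π.toAlgebra
  have h1 : IsWeaklyRegular C gs := (isWeaklyRegular_map_algebraMap_iff C C gs).mp hgs
  let l : B →ₗ[B] C := Algebra.linearMap B C
  have hl : Function.Surjective l := hπ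
  have hkerl : LinearMap.ker l = (Ideal.ofList fs • ⊤ : Submodule B B) := by
    rw [smul_eq_mul, Ideal.mul_top, ← hker]
    ext x
    simp only [LinearMap.mem_ker, RingHom.mem_ker]
    rfl
  let e : (B ⧸ (Ideal.ofList fs • ⊤ : Submodule B B)) ≃ₗ[B] C :=
    (Submodule.quotEquivOfEq _ _ hkerl.symm).trans (l.quotKerEquivOfSurjective hl)
  exact (e.isWeaklyRegular_congr gs).mpr h1

theorem ideal_restrict {X : Scheme.{u}} (I : X.IdealSheafData) (U : X.Opens) (hU : IsAffineOpen U)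
    (U' : X.Opens) (hU' : IsAffineOpen U') (hle : U' ≤ (𝟙 X) ⁻¹ᵁ U) :
    I.ideal ⟨U', hU'⟩ = Ideal.map (Scheme.Hom.appLE (𝟙 X) U U' hle).hom (I.ideal ⟨U, hU⟩) := by
  have := Groth.Agent.Lib.IdealComap.ideal_comap I (𝟙 X) U hU U' hU' hle
  rwa [Scheme.IdealSheafData.comap_id] at this

/-- If i : Z → Y and j : Y → X are regular closed immersions then so is their composite Z → X. This is
the closed-immersion case of the published statement. -/
theorem result {Z Y X : Scheme.{u}} (i : Z ⟶ Y) (j : Y ⟶ X)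
    (hi : Mor2.IsRegularClosedImmersion i) (hj : Mor2.IsRegularClosedImmersion j) : Mor2.IsRegularClosedImmersion (i ≫ j) := by
  obtain ⟨hicl, hireg⟩ := hi
  obtain ⟨hjcl, hjreg⟩ := hj
  have := hicl
  have := hjcl
  refine ⟨inferInstance, fun z => ?_⟩
  obtain ⟨V, hV, hzV, gs, hgs, hgker⟩ := hireg z
  obtain ⟨U, hU, hyU, fs, hfs, hfker⟩ := hjreg (i z)
  obtain ⟨O, hO⟩ : ∃ O : X.Opens, j ⁻¹ᵁ O = V := by
    obtain ⟨t, ht, hts⟩ := j.isEmbedding.isInducing.isOpen_iff.mp V.isOpen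
    exact ⟨⟨t, ht⟩, TopologicalSpace.Opens.ext hts⟩
  have hxO : j (i z) ∈ O := by
    have : i z ∈ j ⁻¹ᵁ O := hO ▸ hzV
    exact this
  have hxUO : j (i z) ∈ (U ⊓ O : X.Opens) := ⟨hyU, hxO⟩
  obtain ⟨_, ⟨U', hU', rfl⟩, hxU', hU'le⟩ :=
    X.isBasis_affineOpens.exists_subset_of_mem_open hxUO (U ⊓ O).isOpen
  have hU'a : IsAffineOpen U' := hU'
  have hU'U : U' ≤ (𝟙 X) ⁻¹ᵁ U := fun y hy => (hU'le hy).1
  have hjU'a : IsAffineOpen (j ⁻¹ᵁ U') := hU'a.preimage j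
  have hjU'V : j ⁻¹ᵁ U' ≤ (𝟙 Y) ⁻¹ᵁ V := by
    intro y hy
    have : y ∈ j ⁻¹ᵁ O := (hU'le hy).2
    rw [hO] at this
    exact this
  -- restricted sequences
  have hfker' := ideal_restrict j.ker U hU U' hU'a hU'U
  rw [hfker, Ideal.map_ofList] at hfker'
  have hgker' := ideal_restrict i.ker V hV (j ⁻¹ᵁ U') hjU'a hjU'V
  rw [hgker, Ideal.map_ofList] at hgker'
  have hfs' : RingTheory.Sequence.IsWeaklyRegular Γ(X, U')
      (fs.map (Scheme.Hom.appLE (𝟙 X) U U' hU'U).hom) := by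
    have hflat := Scheme.Hom.flat_appLE (𝟙 X) hU hU'a hU'U
    let _ := (Scheme.Hom.appLE (𝟙 X) U U' hU'U).hom.toAlgebra
    have : Module.Flat Γ(X, U) Γ(X, U') := hflat
    exact hfs.toIsWeaklyRegular.of_flat
  have hgs' : RingTheory.Sequence.IsWeaklyRegular Γ(Y, j ⁻¹ᵁ U')
      (gs.map (Scheme.Hom.appLE (𝟙 Y) V (j ⁻¹ᵁ U') hjU'V).hom) := by
    have hflat := Scheme.Hom.flat_appLE (𝟙 Y) hV hjU'a hjU'V
    let _ := (Scheme.Hom.appLE (𝟙 Y) V (j ⁻¹ᵁ U') hjU'V).hom.toAlgebra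
    have : Module.Flat Γ(Y, V) Γ(Y, j ⁻¹ᵁ U') := hflat
    exact hgs.toIsWeaklyRegular.of_flat
  have hπ : Function.Surjective (j.app U').hom := j.app_surjective U' hU'a
  have hkerπ : RingHom.ker (j.app U').hom = Ideal.ofList (fs.map (Scheme.Hom.appLE (𝟙 X) U U' hU'U).hom) := by
    rw [← Scheme.Hom.ker_apply j ⟨U', hU'a⟩, hfker']
  obtain ⟨gs'', hgs''⟩ := (List.map_surjective_iff.mpr hπ)
    (gs.map (Scheme.Hom.appLE (𝟙 Y) V (j ⁻¹ᵁ U') hjU'V).hom)
  have hideal : (i ≫ j).ker.ideal ⟨U', hU'a⟩ =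
      Ideal.ofList (fs.map (Scheme.Hom.appLE (𝟙 X) U U' hU'U).hom ++ gs'') := by
    have hk : RingHom.ker ((i ≫ j).app U').hom =
        Ideal.comap (j.app U').hom (RingHom.ker (i.app (j ⁻¹ᵁ U')).hom) := by
      rw [Scheme.Hom.comp_app]
      ext x
      simp only [RingHom.mem_ker, Ideal.mem_comap]
      rfl
    have hki : RingHom.ker (i.app (j ⁻¹ᵁ U')).hom = i.ker.ideal ⟨j ⁻¹ᵁ U', hjU'a⟩ :=
      (Scheme.Hom.ker_apply i ⟨j ⁻¹ᵁ U', hjU'a⟩).symm
    rw [Scheme.Hom.ker_apply (i ≫ j) ⟨U', hU'a⟩]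
    show RingHom.ker ((i ≫ j).app U').hom = _
    rw [hk, hki, hgker', ← hgs'', ← Ideal.map_ofList,
      Ideal.comap_map_of_surjective _ hπ, Ideal.ofList_append, ← RingHom.ker_eq_comap_bot, hkerπ,
      sup_comm]
  refine ⟨U', hU'a, hxU', fs.map (Scheme.Hom.appLE (𝟙 X) U U' hU'U).hom ++ gs'', ⟨?_, ?_⟩, hideal⟩
  · exact isWeaklyRegular_append_of_surjective (j.app U').hom hπ _ _ hkerπ hfs' (hgs'' ▸ hgs')
  · intro htop
    have hid : (i ≫ j).ker.ideal ⟨U', hU'a⟩ = ⊤ := by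
      rw [hideal]
      have := htop.symm
      rwa [smul_eq_mul, Ideal.mul_top] at this
    have hmem : (i ≫ j) z ∈ (i ≫ j).ker.support := (i ≫ j).range_subset_ker_support ⟨z, rfl⟩
    have hzU'' : (i ≫ j) z ∈ U' := hxU'
    rw [Scheme.IdealSheafData.mem_support_iff_of_mem (U := ⟨U', hU'a⟩) hzU'', hid] at hmem
    simp at hmem
    exact hmem hzU''

end Groth.Agent.S1661
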