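import Groth.Statements.S1663
import Groth.Agent.Lib.DimOneAff13b
import Groth.Agent.S0028
import Groth.Agent.S11319

set_option autoImplicit false
universe u
open CategoryTheory CategoryTheory.Limits AlgebraicGeometry
open Variety

namespace Groth.Agent.S1663

/-- Let X be a scheme whose local rings are Noetherian of Krull dimension at most one, j : U → X the
inclusion of a retrocompact open (j quasi-compact) and F a quasi-coherent O_U-module. Then R^p j_* F
vanishes for all p > 0. -/
theorem result (X : Scheme.{u})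
    (hX : ∀ x : X, IsNoetherianRing (X.presheaf.stalk x) ∧ ringKrullDim (X.presheaf.stalk x) ≤ 1)
    (U : X.Opens) [QuasiCompact U.ι] [HasInjectiveResolutions (U : Scheme.{u}).Modules]
    (F : (U : Scheme.{u}).Modules) (hF : Coh.IsQCoh F) (p : ℕ) (hp : 0 < p) :
    IsZero ((Coh.Rpush U.ι p).obj F) := by
  have : IsAffineHom U.ι := Groth.Agent.Lib.DimOneAff13.isAffineHom_ι_of_dim_le_one hX U
  have : Coh.IsQCoh F := hF
  have h0 : IsZero ((Coh.RpushAb U.ι p).obj (Coh.toAb F)) := Groth.Agent.S0028.result U.ι F p hp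
  obtain ⟨e⟩ := Groth.Agent.S11319.result U.ι F p
  have h1 : IsZero (Coh.toAb ((Coh.Rpush U.ι p).obj F)) := h0.of_iso e
  rw [IsZero.iff_id_eq_zero] at h1 ⊢
  apply (SheafOfModules.toSheaf X.ringCatSheaf).map_injective
  exact ((SheafOfModules.toSheaf X.ringCatSheaf).map_id _).trans
    (h1.trans ((SheafOfModules.toSheaf X.ringCatSheaf).map_zero _ _).symm)

end Groth.Agent.S1663
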