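import Groth.Statements.S16644
import Mathlib
-- import your own Groth.Agent.* helpers here

set_option autoImplicit false
open QuadZ

namespace Groth.Agent.S16644

/-- A symmetric matrix with zero diagonal over a commutative ring of characteristic two and odd size
has determinant zero. -/
theorem det_eq_zero_of_symm_zero_diag {R : Type*} [CommRing R] [CharP R 2] (n : ℕ) (hn : Odd n)
    (N : Matrix (Fin n) (Fin n) R) (hsymm : ∀ i j, N i j = N j i) (hdiag : ∀ i, N i i = 0) :
    N.det = 0 := by
  classical
  rw [Matrix.det_apply']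
  have h2 : ∀ x : R, x + x = 0 := fun x => CharTwo.add_self_eq_zero x
  refine Finset.sum_involution (fun σ _ => σ⁻¹) ?_ ?_ (fun _ _ => Finset.mem_univ _)
    (fun σ _ => inv_inv σ)
  · intro σ _
    have : (∏ i, N (σ⁻¹ i) i) = ∏ i, N (σ i) i := by
      rw [← Equiv.prod_comp σ (fun i => N (σ⁻¹ i) i)]
      refine Finset.prod_congr rfl fun i _ => ?_
      have h1 : σ⁻¹ (σ i) = i := by simp
      rw [h1]
      exact hsymm _ _
    rw [Equiv.Perm.sign_inv, this]
    exact h2 _
  · intro σ _ hne hσ
    apply hne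
    have hσ2 : σ ^ 2 ^ 1 = 1 := by
      rw [pow_one, sq]
      calc σ * σ = σ⁻¹ * σ := by rw [hσ]
        _ = 1 := inv_mul_cancel σ
    have : Fact (Nat.Prime 2) := ⟨Nat.prime_two⟩
    obtain ⟨a, ha⟩ := Equiv.Perm.exists_fixed_point_of_prime (p := 2) (n := 1)
      (by rw [Fintype.card_fin]; exact fun h => (Nat.not_even_iff_odd.mpr hn) (even_iff_two_dvd.mpr h)) hσ2
    have : (∏ i, N (σ i) i) = 0 := Finset.prod_eq_zero (Finset.mem_univ a) (by rw [ha]; exact hdiag a)
    rw [this, mul_zero]

/-- For odd n, the discriminant of the universal quadratic form Σ_{i ≤ j} A_{ij} x_i x_j in n variables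
(variables A_{ij} indexed by unordered pairs), i.e. the determinant of the symmetric matrix with
diagonal entries 2 A_{ii} and off-diagonal entries A_{ij}, is divisible by 2 in the integral
polynomial ring ℤ[A_{ij}] (so the half-discriminant is an integral polynomial). -/
theorem result (n : ℕ) (hn : Odd n) :
    (2 : MvPolynomial (Sym2 (Fin n)) ℤ) ∣
      (Matrix.of fun i j : Fin n =>
        if i = j then 2 * MvPolynomial.X (R := ℤ) (σ := Sym2 (Fin n)) (Sym2.mk i j)
        else MvPolynomial.X (R := ℤ) (σ := Sym2 (Fin n)) (Sym2.mk i j)).det := by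
  classical
  have hC : (2 : MvPolynomial (Sym2 (Fin n)) ℤ) = MvPolynomial.C ((2 : ℕ) : ℤ) := by
    simp
  generalize hM : (Matrix.of fun i j : Fin n =>
        if i = j then 2 * MvPolynomial.X (R := ℤ) (σ := Sym2 (Fin n)) (Sym2.mk i j)
        else MvPolynomial.X (R := ℤ) (σ := Sym2 (Fin n)) (Sym2.mk i j)) = M
  rw [hC, MvPolynomial.C_dvd_iff_zmod, RingHom.map_det]
  subst hM
  have : CharP (MvPolynomial (Sym2 (Fin n)) (ZMod 2)) 2 := inferInstance
  apply det_eq_zero_of_symm_zero_diag n hn
  · intro i j
    simp only [RingHom.mapMatrix_apply, Matrix.map_apply, Matrix.of_apply]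
    by_cases h : i = j
    · subst h; rfl
    · rw [if_neg h, if_neg (Ne.symm h), Sym2.eq_swap]
  · intro i
    simp only [RingHom.mapMatrix_apply, Matrix.map_apply, Matrix.of_apply, if_true, map_mul]
    have : (MvPolynomial.map (Int.castRingHom (ZMod 2))) (2 : MvPolynomial (Sym2 (Fin n)) ℤ) = 0 := by
      rw [map_ofNat]
      exact CharTwo.two_eq_zero
    rw [this, zero_mul]

end Groth.Agent.S16644
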