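import Groth.Statements.S16647
import Groth.Agent.Lib.FpqcCovMore18
import Groth.Agent.Lib.PtsPullback18
import Groth.Agent.Lib.FpqcDescent

set_option autoImplicit false
set_option maxHeartbeats 800000
open CategoryTheory MonoidalCategory CartesianMonoidalCategory MonObj GrpObj AlgebraicGeometry
universe u
open GrpSch

namespace Groth.Agent.S16647

/-- In a commutative diagram of short exact sequences of S-group schemes that are flat, separated and of
finite presentation over a scheme S (in each row the first homomorphism is the kernel of the second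
and the second is a flat surjection), if the two outer vertical homomorphisms are closed immersions
then so is the middle one. -/
theorem result {S : Scheme.{u}}
    {H₁' H₁ H₁'' H₂' H₂ H₂'' : Over S} [GrpObj H₁'] [GrpObj H₁] [GrpObj H₁''] [GrpObj H₂'] [GrpObj H₂] [GrpObj H₂'']
    [Flat H₁'.hom] [Flat H₁.hom] [Flat H₁''.hom] [Flat H₂'.hom] [Flat H₂.hom] [Flat H₂''.hom]
    [IsSeparated H₁'.hom] [IsSeparated H₁.hom] [IsSeparated H₁''.hom]
    [IsSeparated H₂'.hom] [IsSeparated H₂.hom] [IsSeparated H₂''.hom]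
    [QuasiCompact H₁'.hom] [QuasiCompact H₁.hom] [QuasiCompact H₁''.hom]
    [QuasiCompact H₂'.hom] [QuasiCompact H₂.hom] [QuasiCompact H₂''.hom]
    [LocallyOfFinitePresentation H₁'.hom] [LocallyOfFinitePresentation H₁.hom] [LocallyOfFinitePresentation H₁''.hom]
    [LocallyOfFinitePresentation H₂'.hom] [LocallyOfFinitePresentation H₂.hom] [LocallyOfFinitePresentation H₂''.hom]
    (a₁ : H₁' ⟶ H₁) (b₁ : H₁ ⟶ H₁'') (a₂ : H₂' ⟶ H₂) (b₂ : H₂ ⟶ H₂'')
    [IsMonHom a₁] [IsMonHom b₁] [IsMonHom a₂] [IsMonHom b₂]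
    (h₁ : AlgGrp.IsKernel a₁ b₁) (hb₁ : Flat b₁.left ∧ Surjective b₁.left)
    (h₂ : AlgGrp.IsKernel a₂ b₂) (hb₂ : Flat b₂.left ∧ Surjective b₂.left)
    (j' : H₁' ⟶ H₂') (j : H₁ ⟶ H₂) (j'' : H₁'' ⟶ H₂'') [IsMonHom j'] [IsMonHom j] [IsMonHom j'']
    (sq₁ : a₁ ≫ j = j' ≫ a₂) (sq₂ : b₁ ≫ j'' = j ≫ b₂)
    (hj' : IsClosedImmersion j'.left) (hj'' : IsClosedImmersion j''.left) :
    IsClosedImmersion j.left := by
  obtain ⟨flatb₁, surjb₁⟩ := hb₁
  have qcb₁ : QuasiCompact b₁.left := by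
    have : QuasiCompact (b₁.left ≫ H₁''.hom) := by rw [Over.w]; infer_instance
    exact QuasiCompact.of_comp b₁.left H₁''.hom
  have covb₁ := Groth.Agent.Lib.FpqcCov18.isFpqcCov_of_fpqc b₁.left
  have monoa₁ : Mono a₁ := ⟨fun x y h => h₁.hom_ext h (toUnit_unique _ _)⟩
  have monoa₂ : Mono a₂ := ⟨fun x y h => h₂.hom_ext h (toUnit_unique _ _)⟩
  -- kernel facts
  have ka₁ : ∀ {T : Over S} (n : T ⟶ H₁'), (n ≫ a₁) ≫ b₁ = 1 := by
    intro T n
    rw [Category.assoc, h₁.w, ← Category.assoc, toUnit_unique (n ≫ toUnit H₁') (toUnit T),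
      Hom.one_def]
  have ka₂ : ∀ {T : Over S} (n : T ⟶ H₂'), (n ≫ a₂) ≫ b₂ = 1 := by
    intro T n
    rw [Category.assoc, h₂.w, ← Category.assoc, toUnit_unique (n ≫ toUnit H₂') (toUnit T),
      Hom.one_def]
  have la₁ : ∀ {T : Over S} (g : T ⟶ H₁), g ≫ b₁ = 1 → ∃ n : T ⟶ H₁', n ≫ a₁ = g := by
    intro T g hg
    exact ⟨h₁.lift g (toUnit T) (by rw [hg, Hom.one_def]), h₁.lift_fst _ _ _⟩
  have la₂ : ∀ {T : Over S} (g : T ⟶ H₂), g ≫ b₂ = 1 → ∃ n : T ⟶ H₂', n ≫ a₂ = g := by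
    intro T g hg
    exact ⟨h₂.lift g (toUnit T) (by rw [hg, Hom.one_def]), h₂.lift_fst _ _ _⟩
  -- the fibre product P and the maps φ, ψ
  have hφ : j ≫ b₂ = b₁ ≫ j'' := sq₂.symm
  let φ : H₁ ⟶ Limits.pullback b₂ j'' := Limits.pullback.lift j b₁ hφ
  have hφ1 : φ ≫ Limits.pullback.fst b₂ j'' = j := Limits.pullback.lift_fst _ _ _
  have hφ2 : φ ≫ Limits.pullback.snd b₂ j'' = b₁ := Limits.pullback.lift_snd _ _ _
  have hψ : ((fst H₁ H₂' ≫ j) * (snd H₁ H₂' ≫ a₂)) ≫ b₂ = (fst H₁ H₂' ≫ b₁) ≫ j'' := by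
    rw [MonObj.mul_comp, ka₂, _root_.mul_one, Category.assoc, Category.assoc, hφ]
  let ψ : H₁ ⊗ H₂' ⟶ Limits.pullback b₂ j'' :=
    Limits.pullback.lift ((fst H₁ H₂' ≫ j) * (snd H₁ H₂' ≫ a₂)) (fst H₁ H₂' ≫ b₁) hψ
  have hψ1 : ψ ≫ Limits.pullback.fst b₂ j'' = (fst H₁ H₂' ≫ j) * (snd H₁ H₂' ≫ a₂) :=
    Limits.pullback.lift_fst _ _ _
  have hψ2 : ψ ≫ Limits.pullback.snd b₂ j'' = fst H₁ H₂' ≫ b₁ := Limits.pullback.lift_snd _ _ _
  let m₁ : H₁ ⊗ H₁' ⟶ H₁ := (fst H₁ H₁') * (snd H₁ H₁' ≫ a₁)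
  -- Square A
  have sqA : IsPullback ψ (fst H₁ H₂') (Limits.pullback.snd b₂ j'') b₁ := by
    refine Groth.Agent.Lib.PtsPullback18.isPullback_of_points hψ2 ?_ ?_
    · intro T p h hph
      have h1 : ((h ≫ j)⁻¹ * (p ≫ Limits.pullback.fst b₂ j'')) ≫ b₂ = 1 := by
        rw [MonObj.mul_comp, GrpObj.inv_comp, Category.assoc p, Limits.pullback.condition,
          ← Category.assoc p, hph, Category.assoc h, Category.assoc h, hφ, inv_mul_cancel]
      obtain ⟨n₂, hn₂⟩ := la₂ _ h1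
      refine ⟨lift h n₂, ?_, lift_fst _ _⟩
      apply Limits.pullback.hom_ext
      · rw [Category.assoc, hψ1, MonObj.comp_mul, ← Category.assoc, ← Category.assoc, lift_fst,
          lift_snd, hn₂, mul_inv_cancel_left]
      · rw [Category.assoc, hψ2, ← Category.assoc, lift_fst, hph]
    · intro T t₁ t₂ e1 e2
      apply CartesianMonoidalCategory.hom_ext _ _ e2
      have e3 := congrArg (· ≫ Limits.pullback.fst b₂ j'') e1
      simp only [Category.assoc, hψ1, MonObj.comp_mul] at e3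
      rw [← Category.assoc, ← Category.assoc, ← Category.assoc, ← Category.assoc, e2,
        mul_right_inj, cancel_mono] at e3
      exact e3
  -- Square B
  have sqB : IsPullback (H₁ ◁ j') m₁ ψ φ := by
    refine Groth.Agent.Lib.PtsPullback18.isPullback_of_points ?_ ?_ ?_
    · apply Limits.pullback.hom_ext
      · rw [Category.assoc, hψ1, Category.assoc, hφ1, MonObj.comp_mul, MonObj.mul_comp,
          ← Category.assoc, ← Category.assoc, whiskerLeft_fst, whiskerLeft_snd]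
        simp only [Category.assoc, sq₁]
      · rw [Category.assoc, hψ2, Category.assoc, hφ2, MonObj.mul_comp, ka₁, _root_.mul_one,
          ← Category.assoc, whiskerLeft_fst]
    · intro T t g htg
      have e1 : (t ≫ fst H₁ H₂') ≫ b₁ = g ≫ b₁ := by
        have := congrArg (· ≫ Limits.pullback.snd b₂ j'') htg
        simpa only [Category.assoc, hψ2, hφ2] using this
      have e2 : ((t ≫ fst H₁ H₂') ≫ j) * ((t ≫ snd H₁ H₂') ≫ a₂) = g ≫ j := by
        have := congrArg (· ≫ Limits.pullback.fst b₂ j'') htg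
        simpa only [Category.assoc, hψ1, hφ1, MonObj.comp_mul] using this
      have e3 : ((t ≫ fst H₁ H₂')⁻¹ * g) ≫ b₁ = 1 := by
        rw [MonObj.mul_comp, GrpObj.inv_comp, e1, inv_mul_cancel]
      obtain ⟨n₁, hn₁⟩ := la₁ _ e3
      have e4 : n₁ ≫ j' = t ≫ snd H₁ H₂' := by
        rw [← cancel_mono a₂, Category.assoc, ← sq₁, ← Category.assoc, hn₁, MonObj.mul_comp,
          GrpObj.inv_comp, ← e2, inv_mul_cancel_left]
      refine ⟨lift (t ≫ fst H₁ H₂') n₁, ?_, ?_⟩
      · apply CartesianMonoidalCategory.hom_ext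
        · rw [Category.assoc, whiskerLeft_fst, lift_fst]
        · rw [Category.assoc, whiskerLeft_snd, ← Category.assoc, lift_snd, e4]
      · show lift (t ≫ fst H₁ H₂') n₁ ≫ ((fst H₁ H₁') * (snd H₁ H₁' ≫ a₁)) = g
        rw [MonObj.comp_mul, lift_fst, ← Category.assoc, lift_snd, hn₁, mul_inv_cancel_left]
    · intro T p₁ p₂ e1 e2
      have e3 : p₁ ≫ fst H₁ H₁' = p₂ ≫ fst H₁ H₁' := by
        have := congrArg (· ≫ fst H₁ H₂') e1
        simpa only [Category.assoc, whiskerLeft_fst] using this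
      apply CartesianMonoidalCategory.hom_ext _ _ e3
      have e4 : p₁ ≫ ((fst H₁ H₁') * (snd H₁ H₁' ≫ a₁)) = p₂ ≫ ((fst H₁ H₁') * (snd H₁ H₁' ≫ a₁)) :=
        e2
      rw [MonObj.comp_mul, MonObj.comp_mul, e3, mul_right_inj, ← Category.assoc, ← Category.assoc,
        cancel_mono] at e4
      exact e4
  -- conclusion
  have covψ : Groth.Agent.Lib.FpqcCov18.IsFpqcCov ψ.left :=
    covb₁.of_isPullback ((sqA.map (Over.forget _)).flip)
  have hcl : IsClosedImmersion (H₁ ◁ j').left := by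
    have sq : IsPullback (H₁ ◁ j').left (snd H₁ H₁').left (snd H₁ H₂').left j'.left :=
      (Groth.Agent.Lib.CartPull18.isPullback_whiskerLeft_snd H₁ j').map (Over.forget S)
    exact MorphismProperty.of_isPullback (P := @IsClosedImmersion) sq.flip hj'
  have hφcl : IsClosedImmersion φ.left :=
    Groth.Agent.Lib.FpqcCov18.IsFpqcCov.descends @IsClosedImmersion
      (sqB.map (Over.forget _)) covψ hcl
  have hfstcl : IsClosedImmersion (Limits.pullback.fst b₂ j'').left := by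
    have sq : IsPullback (Limits.pullback.fst b₂ j'').left (Limits.pullback.snd b₂ j'').left
        b₂.left j''.left := (IsPullback.of_hasPullback b₂ j'').map (Over.forget _)
    exact MorphismProperty.of_isPullback (P := @IsClosedImmersion) sq.flip hj''
  have : j.left = φ.left ≫ (Limits.pullback.fst b₂ j'').left := by
    rw [← Over.comp_left, hφ1]
  rw [this]
  infer_instance

end Groth.Agent.S16647
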