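import Groth.Statements.S1665
import Groth.Agent.Lib.KrullAkizuki
import Mathlib.RingTheory.Ideal.MinimalPrime.Noetherian
import Mathlib.RingTheory.Ideal.GoingUp
import Mathlib.RingTheory.KrullDimension.Field
import Mathlib.RingTheory.IntegralClosure.IntegrallyClosed
import Mathlib.RingTheory.Localization.Integral
import Mathlib.Tactic.FieldSimp

set_option autoImplicit false
universe u
open Variety

namespace Groth.Agent.S1665

section helpers

variable (B : Type u) [CommRing B] [IsDomain B] [IsNoetherianRing B]

lemma dimLEOne (hdim : ringKrullDim B = 1) : Ring.DimensionLEOne B := by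
  have h1 : Ring.KrullDimLE 1 B := by
    rw [Ring.krullDimLE_iff, hdim]; rfl
  exact ⟨fun {p} hp hp' => Ring.krullDimLE_one_iff_of_noZeroDivisors.mp h1 p hp hp'⟩

lemma isDedekind (hdim : ringKrullDim B = 1) :
    IsDedekindDomain (integralClosure B (FractionRing B)) := by
  haveI := dimLEOne B hdim
  have h1 : Ring.KrullDimLE 1 B := by
    rw [Ring.krullDimLE_iff, hdim]; rfl
  have hN : IsNoetherianRing (integralClosure B (FractionRing B)) :=
    Groth.Agent.Lib.KrullAkizuki.isNoetherianRing_of_between (R := B) (K := FractionRing B)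
      (L := FractionRing B) (A := integralClosure B (FractionRing B))
      Subtype.val_injective
  have hIC : IsIntegrallyClosed (integralClosure B (FractionRing B)) :=
    integralClosure.isIntegrallyClosedOfFiniteExtension (FractionRing B)
  exact { toIsDomain := inferInstance, toIsDedekindRing := { toIsNoetherian := hN, toDimensionLEOne := inferInstance, toIsIntegralClosure := hIC } }

lemma exists_mem_all_maximal (hdim : ringKrullDim B = 1) (hsl : Finite (MaximalSpectrum B)) :
    ∃ x : B, x ≠ 0 ∧ ∀ m : Ideal B, m.IsMaximal → x ∈ m := by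
  classical
  haveI := Fintype.ofFinite (MaximalSpectrum B)
  have hnf : ¬ IsField B := by
    intro hf
    have := ringKrullDim_eq_zero_of_isField hf
    rw [hdim] at this; exact one_ne_zero this
  have hne : ∀ m : MaximalSpectrum B, ∃ y : B, y ∈ m.asIdeal ∧ y ≠ 0 := by
    intro m
    have : m.asIdeal ≠ ⊥ := Ring.ne_bot_of_isMaximal_of_not_isField m.isMaximal hnf
    exact Submodule.exists_mem_ne_zero_of_ne_bot this
  choose y hy hy0 using hne
  refine ⟨∏ m, y m, Finset.prod_ne_zero_iff.2 fun m _ => hy0 m, fun m hm => ?_⟩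
  exact Ideal.mem_of_dvd _ (Finset.dvd_prod_of_mem y (Finset.mem_univ ⟨m, hm⟩)) (hy ⟨m, hm⟩)

lemma finite_max (hdim : ringKrullDim B = 1) (hsl : Finite (MaximalSpectrum B)) :
    Finite (MaximalSpectrum (integralClosure B (FractionRing B))) := by
  haveI := isDedekind B hdim
  obtain ⟨x, hx0, hx⟩ := exists_mem_all_maximal B hdim hsl
  set B' := integralClosure B (FractionRing B) with hB'
  set x' : B' := algebraMap B B' x with hx'
  have hinj : Function.Injective (algebraMap B B') := FaithfulSMul.algebraMap_injective B B'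
  have hx'0 : x' ≠ 0 := (map_ne_zero_iff _ hinj).2 hx0
  have hfin : (Ideal.span {x'}).minimalPrimes.Finite :=
    Ideal.finite_minimalPrimes_of_isNoetherianRing _ _
  have key : ∀ M : MaximalSpectrum B', M.asIdeal ∈ (Ideal.span {x'}).minimalPrimes := by
    intro M
    have hxM : x' ∈ M.asIdeal := by
      have : (M.asIdeal.comap (algebraMap B B')).IsMaximal :=
        Ideal.isMaximal_comap_of_isIntegral_of_isMaximal _
      exact hx _ this
    obtain ⟨P, hP, hPM⟩ := Ideal.exists_minimalPrimes_le
      (show Ideal.span {x'} ≤ M.asIdeal from (Ideal.span_singleton_le_iff_mem _).2 hxM)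
    have hPprime : P.IsPrime := hP.1.1
    have hPne : P ≠ ⊥ := by
      rintro rfl
      have : x' ∈ (⊥ : Ideal B') := hP.1.2 (Ideal.mem_span_singleton_self x')
      exact hx'0 (by simpa using this)
    have hPmax : P.IsMaximal := hPprime.isMaximal hPne
    have : P = M.asIdeal := hPmax.eq_of_le M.isMaximal.ne_top hPM
    rw [← this]; exact hP
  haveI := hfin.to_subtype
  exact Finite.of_injective
    (fun M : MaximalSpectrum B' => (⟨M.asIdeal, key M⟩ : (Ideal.span {x'}).minimalPrimes))
    (fun M N h => MaximalSpectrum.ext (congrArg Subtype.val h))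

lemma exists_pow_mem_span (R : Type*) [CommRing R] [Ring.DimensionLEOne R] (x c : R)
    (hc : c ≠ 0) (hx : ∀ m : Ideal R, m.IsMaximal → x ∈ m) : ∃ N : ℕ, x ^ N ∈ Ideal.span {c} := by
  have : x ∈ (Ideal.span {c}).radical := by
    rw [Ideal.radical_eq_sInf, Ideal.mem_sInf]
    rintro P ⟨hcP, hP⟩
    have : P ≠ ⊥ := by
      rintro rfl
      exact hc (by simpa using hcP (Ideal.mem_span_singleton_self c))
    exact hx P (hP.isMaximal this)
  exact this

lemma claimA [Ring.DimensionLEOne B] (x₀ : B) (hx₀ : ∀ m : Ideal B, m.IsMaximal → x₀ ∈ m)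
    (v : FractionRing B) :
    ∃ N : ℕ, ∀ n, N ≤ n → ∃ b : B, algebraMap B (FractionRing B) b
      = algebraMap B (FractionRing B) x₀ ^ n * v := by
  obtain ⟨b, c, hc, rfl⟩ := IsFractionRing.div_surjective (A := B) v
  have hc0 : c ≠ 0 := nonZeroDivisors.ne_zero hc
  obtain ⟨N, hN⟩ := exists_pow_mem_span B x₀ c hc0 hx₀
  obtain ⟨d, hd⟩ := Ideal.mem_span_singleton'.1 hN
  refine ⟨N, fun n hn => ⟨x₀ ^ (n - N) * d * b, ?_⟩⟩
  have hcK : algebraMap B (FractionRing B) c ≠ 0 :=
    (map_ne_zero_iff _ (IsFractionRing.injective B (FractionRing B))).2 hc0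
  have : algebraMap B (FractionRing B) x₀ ^ n
      = algebraMap B (FractionRing B) (x₀ ^ (n - N) * d) * algebraMap B (FractionRing B) c := by
    rw [← map_pow, ← map_mul, mul_assoc, hd, ← pow_add, Nat.sub_add_cancel hn]
  rw [this, map_mul (algebraMap B (FractionRing B)) _ b]
  field_simp

end helpers

/-- Let B be a Noetherian domain of dimension one with finitely many maximal ideals and B' its integral
closure in its fraction field. Then B' is a Dedekind domain with finitely many maximal ideals, and
for every nonzero x in the Jacobson radical of B' and every y ∈ B' some power x^n satisfies x^n y ∈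
B. -/
theorem result (B : Type u) [CommRing B] [IsDomain B] [IsNoetherianRing B]
    (hdim : ringKrullDim B = 1) (hsl : Finite (MaximalSpectrum B)) :
    IsDedekindDomain (integralClosure B (FractionRing B)) ∧ Finite (MaximalSpectrum (integralClosure B (FractionRing B))) ∧
      ∀ x : integralClosure B (FractionRing B), x ≠ 0 → x ∈ (⊥ : Ideal (integralClosure B (FractionRing B))).jacobson →
        ∀ y : integralClosure B (FractionRing B), ∃ n : ℕ, (x ^ n * y).1 ∈ (algebraMap B (FractionRing B)).range := by
  classical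
  refine ⟨isDedekind B hdim, finite_max B hdim hsl, ?_⟩
  intro x _ hxJ y
  haveI := isDedekind B hdim
  haveI := dimLEOne B hdim
  obtain ⟨x₀, hx₀0, hx₀⟩ := exists_mem_all_maximal B hdim hsl
  have hinj : Function.Injective (algebraMap B (integralClosure B (FractionRing B))) :=
    FaithfulSMul.algebraMap_injective B _
  have hx₀'0 : algebraMap B (integralClosure B (FractionRing B)) x₀ ≠ 0 :=
    (map_ne_zero_iff _ hinj).2 hx₀0
  obtain ⟨M, hM⟩ := exists_pow_mem_span (integralClosure B (FractionRing B)) x
    (algebraMap B (integralClosure B (FractionRing B)) x₀) hx₀'0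
    (fun m hm => Ideal.mem_sInf.1 hxJ ⟨bot_le, hm⟩)
  obtain ⟨z, hz⟩ := Ideal.mem_span_singleton'.1 hM
  have hzK : (z : FractionRing B) * algebraMap B (FractionRing B) x₀ = (x : FractionRing B) ^ M := by
    have := congrArg Subtype.val hz
    simpa using this
  -- the finite algebra
  have hfg : (Algebra.adjoin B {(z : FractionRing B), (y : FractionRing B)}).toSubmodule.FG :=
    fg_adjoin_of_finite (Set.toFinite _) (by
      rintro v (rfl | rfl)
      · exact z.2
      · exact y.2)
  obtain ⟨S, hS⟩ := hfg
  have hunif : ∃ N : ℕ, ∀ s ∈ S, ∃ b : B, algebraMap B (FractionRing B) b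
      = algebraMap B (FractionRing B) x₀ ^ N * s := by
    choose Ns hNs using fun s : FractionRing B => claimA B x₀ hx₀ s
    exact ⟨S.sup Ns, fun s hs => hNs s _ (Finset.le_sup hs)⟩
  obtain ⟨N, hN⟩ := hunif
  have hall : ∀ c ∈ Submodule.span B (S : Set (FractionRing B)), ∃ b : B,
      algebraMap B (FractionRing B) b = algebraMap B (FractionRing B) x₀ ^ N * c := by
    intro c hc
    induction hc using Submodule.span_induction with
    | mem s hs => exact hN s hs
    | zero => exact ⟨0, by simp⟩
    | add c d _ _ hc hd =>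
      obtain ⟨b1, h1⟩ := hc
      obtain ⟨b2, h2⟩ := hd
      exact ⟨b1 + b2, by rw [map_add, h1, h2, mul_add]⟩
    | smul a c _ hc =>
      obtain ⟨b1, h1⟩ := hc
      exact ⟨a * b1, by rw [map_mul, h1, Algebra.smul_def]; ring⟩
  have hmem : (z : FractionRing B) ^ N * (y : FractionRing B)
      ∈ Submodule.span B (S : Set (FractionRing B)) := by
    rw [hS]
    exact Subalgebra.mul_mem _ (Subalgebra.pow_mem _ (Algebra.subset_adjoin (by simp)) N)
      (Algebra.subset_adjoin (by simp))
  obtain ⟨b, hb⟩ := hall _ hmem
  refine ⟨M * N, b, ?_⟩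
  rw [hb]
  have : ((x ^ (M * N) * y : integralClosure B (FractionRing B)) : FractionRing B)
      = ((x : FractionRing B) ^ M) ^ N * (y : FractionRing B) := by
    rw [pow_mul]; simp
  rw [this, ← hzK]
  ring

end Groth.Agent.S1665
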