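import Groth.Statements.S16661
import Groth.Agent.Lib.ConnAlongH44

set_option autoImplicit false
universe v u
open TensorProduct
open Conn

namespace Groth.Agent.S16661

/-- Let B be an A-algebra with a receptacle of differentials (Ω, δ), Ω a finite free B-module (the
affine-local form of differentials locally free of finite type), let M be a finite free B-module
(the local form of a vector bundle) with a connection ∇ : M → M ⊗ Ω, and let ∇_E be the induced
connection on the B-linear endomorphisms of M, the one with (ev_m ⊗ 1)(∇_E φ) = ∇(φ m) − (φ ⊗ 1)(∇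
m). Give B the connection b ↦ 1 ⊗ δ b. Then the trace map End_B(M) → B is horizontal: 1 ⊗ δ(tr φ) =
(tr ⊗ 1)(∇_E φ) for every endomorphism φ. -/
theorem result {A : Type v} {B Ω M : Type u}
    [CommRing A] [CommRing B] [Algebra A B]
    [AddCommGroup Ω] [Module B Ω] [Module A Ω] [IsScalarTower A B Ω] [Module.Finite B Ω] [Module.Free B Ω]
    [AddCommGroup M] [Module B M] [Module A M] [IsScalarTower A B M] [Module.Finite B M] [Module.Free B M]
    (δ : Derivation A B Ω) (nabla : M →ₗ[A] M ⊗[B] Ω) (hc : Conn.IsConn δ nabla)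
    (nablaE : (M →ₗ[B] M) →ₗ[A] (M →ₗ[B] M) ⊗[B] Ω) (hE : Conn.IsHomConn nabla nabla nablaE) :
    Conn.IsHorizontal nablaE (Conn.triv δ) (LinearMap.trace B M) := by
  classical
  intro φ
  let bΩ := Module.Free.chooseBasis B Ω
  apply Groth.Agent.Lib.ConnAlongH44.eq_of_components bΩ
  intro q
  rw [Groth.Agent.Lib.ConnAlongH44.rid_map_natural, Conn.triv_apply, TensorProduct.map_tmul,
    TensorProduct.rid_tmul]
  let D : B →+ B := ((bΩ.coord q : Ω →ₗ[B] B).toAddMonoidHom).comp (δ : B →ₗ[A] Ω).toAddMonoidHom
  have key := Groth.Agent.Lib.ConnAlongH44.trace_comm_eq (Module.Free.chooseBasis B M)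
    (Conn.along nabla (bΩ.coord q)) D
    (fun x m => Groth.Agent.Lib.ConnAlongH44.along_smul δ nabla hc (bΩ.coord q) x m)
    φ (Conn.along nablaE (bΩ.coord q) φ)
    (fun m => Groth.Agent.Lib.ConnAlongH44.along_hom nabla nabla nablaE hE (bΩ.coord q) φ m)
  rw [Conn.along_apply] at key
  rw [key]
  simp [D]

end Groth.Agent.S16661
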