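import Groth.Statements.S16662
import Groth.Agent.Lib.ConnAlongH44

set_option autoImplicit false
universe v u
open TensorProduct
open Conn

namespace Groth.Agent.S16662

section Helpers

variable {B Ω E F G : Type u} [CommRing B] [AddCommGroup Ω] [Module B Ω]
  [AddCommGroup E] [Module B E] [AddCommGroup F] [Module B F] [AddCommGroup G] [Module B G]

theorem comp_swapR (θ : Ω →ₗ[B] B) (y : (F →ₗ[B] G) ⊗[B] Ω) (φ : E →ₗ[B] F) :
    TensorProduct.rid B (E →ₗ[B] G) (TensorProduct.map LinearMap.id θ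
      (TensorProduct.map (TensorProduct.lift (LinearMap.llcomp B E F G)) (LinearMap.id : Ω →ₗ[B] Ω)
        (Conn.swapR (y ⊗ₜ[B] φ)))) =
      (TensorProduct.rid B (F →ₗ[B] G) (TensorProduct.map LinearMap.id θ y)) ∘ₗ φ := by
  induction y using TensorProduct.induction_on with
  | zero => simp
  | tmul χ ω =>
    rw [Conn.swapR_tmul, TensorProduct.map_tmul, TensorProduct.map_tmul, TensorProduct.map_tmul,
      TensorProduct.rid_tmul, TensorProduct.rid_tmul, TensorProduct.lift.tmul]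
    rfl
  | add x y hx hy =>
    rw [TensorProduct.add_tmul, map_add, map_add, map_add, map_add, hx, hy, map_add, map_add,
      LinearMap.add_comp]

theorem comp_assoc_symm (θ : Ω →ₗ[B] B) (ψ : F →ₗ[B] G) (z : (E →ₗ[B] F) ⊗[B] Ω) :
    TensorProduct.rid B (E →ₗ[B] G) (TensorProduct.map LinearMap.id θ
      (TensorProduct.map (TensorProduct.lift (LinearMap.llcomp B E F G)) (LinearMap.id : Ω →ₗ[B] Ω)
        ((TensorProduct.assoc B (F →ₗ[B] G) (E →ₗ[B] F) Ω).symm (ψ ⊗ₜ[B] z)))) =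
      ψ ∘ₗ (TensorProduct.rid B (E →ₗ[B] F) (TensorProduct.map LinearMap.id θ z)) := by
  induction z using TensorProduct.induction_on with
  | zero => simp
  | tmul χ ω =>
    rw [TensorProduct.assoc_symm_tmul, TensorProduct.map_tmul, TensorProduct.map_tmul,
      TensorProduct.map_tmul, TensorProduct.rid_tmul, TensorProduct.rid_tmul,
      TensorProduct.lift.tmul, LinearMap.comp_smul]
    rfl
  | add x y hx hy =>
    rw [TensorProduct.tmul_add, map_add, map_add, map_add, map_add, hx, hy, map_add, map_add,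
      LinearMap.comp_add]

end Helpers

/-- Let B be an A-algebra with a receptacle of differentials (Ω, δ), Ω a finite free B-module, and let
E, F, G be B-modules with connections ∇_E, ∇_F, ∇_G, with E and F finitely presented. Equip
Hom_B(E,F), Hom_B(F,G) and Hom_B(E,G) with the induced connections (the connection ∇'' on Hom_B(X,Y)
being the one with (ev_x ⊗ 1)(∇'' φ) = ∇_Y(φ x) − (φ ⊗ 1)(∇_X x)), and Hom_B(F,G) ⊗ Hom_B(E,F) with
the tensor product of these connections. Then the composition map Hom_B(F,G) ⊗ Hom_B(E,F) →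
Hom_B(E,G), ψ ⊗ φ ↦ ψ ∘ φ, is horizontal. -/
theorem result {A : Type v} {B Ω E F G : Type u}
    [CommRing A] [CommRing B] [Algebra A B]
    [AddCommGroup Ω] [Module B Ω] [Module A Ω] [IsScalarTower A B Ω] [Module.Finite B Ω] [Module.Free B Ω]
    [AddCommGroup E] [Module B E] [Module A E] [IsScalarTower A B E] [Module.FinitePresentation B E]
    [AddCommGroup F] [Module B F] [Module A F] [IsScalarTower A B F] [Module.FinitePresentation B F]
    [AddCommGroup G] [Module B G] [Module A G] [IsScalarTower A B G]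
    (δ : Derivation A B Ω)
    (nE : E →ₗ[A] E ⊗[B] Ω) (hcE : Conn.IsConn δ nE)
    (nF : F →ₗ[A] F ⊗[B] Ω) (hcF : Conn.IsConn δ nF)
    (nG : G →ₗ[A] G ⊗[B] Ω) (hcG : Conn.IsConn δ nG)
    (nEF : (E →ₗ[B] F) →ₗ[A] (E →ₗ[B] F) ⊗[B] Ω) (hEF : Conn.IsHomConn nE nF nEF)
    (nFG : (F →ₗ[B] G) →ₗ[A] (F →ₗ[B] G) ⊗[B] Ω) (hFG : Conn.IsHomConn nF nG nFG)
    (nEG : (E →ₗ[B] G) →ₗ[A] (E →ₗ[B] G) ⊗[B] Ω) (hEG : Conn.IsHomConn nE nG nEG)
    (nT : (F →ₗ[B] G) ⊗[B] (E →ₗ[B] F) →ₗ[A] ((F →ₗ[B] G) ⊗[B] (E →ₗ[B] F)) ⊗[B] Ω)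
    (hT : Conn.IsTensorConn nFG nEF nT) :
    Conn.IsHorizontal nT nEG (TensorProduct.lift (LinearMap.llcomp B E F G)) := by
  classical
  intro t
  induction t using TensorProduct.induction_on with
  | zero => simp
  | tmul ψ φ =>
    let bΩ := Module.Free.chooseBasis B Ω
    apply Groth.Agent.Lib.ConnAlongH44.eq_of_components bΩ
    intro q
    rw [hT ψ φ, map_add, map_add, map_add, comp_swapR, comp_assoc_symm, TensorProduct.lift.tmul]
    ext e
    have h1 := Groth.Agent.Lib.ConnAlongH44.along_hom nE nG nEG hEG (bΩ.coord q) (ψ ∘ₗ φ) e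
    have h2 := Groth.Agent.Lib.ConnAlongH44.along_hom nF nG nFG hFG (bΩ.coord q) ψ (φ e)
    have h3 := Groth.Agent.Lib.ConnAlongH44.along_hom nE nF nEF hEF (bΩ.coord q) φ e
    rw [Conn.along_apply] at h1 h2 h3
    rw [LinearMap.add_apply, LinearMap.comp_apply, LinearMap.comp_apply, h2, h3, map_sub]
    have h4 : (LinearMap.llcomp B E F G) ψ φ = ψ ∘ₗ φ := rfl
    rw [h4, h1, LinearMap.comp_apply]
    abel
  | add x y hx hy =>
    rw [map_add, map_add, map_add, map_add, hx, hy]

end Groth.Agent.S16662
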