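import Groth.Statements.S16663
import Groth.Agent.Lib.ConnAlongH44

set_option autoImplicit false
universe v u
open TensorProduct
open Conn

namespace Groth.Agent.S16663

section Helpers

variable {B ι : Type u} [CommRing B] [Fintype ι] [DecidableEq ι] (s : ι → B) (M : ι → Type u)
  [∀ i, AddCommGroup (M i)] [∀ i, Module B (M i)]

theorem eps_apply (y : Π k, M k) (k : ι) :
    (∑ i : ι, (LinearMap.single B M i) ∘ₗ ((s i) • (LinearMap.proj i : (Π k, M k) →ₗ[B] M i))) y k
      = s k • y k := by
  simp only [LinearMap.sum_apply, LinearMap.comp_apply, LinearMap.smul_apply, LinearMap.proj_apply,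
    LinearMap.single_apply, Finset.sum_apply]
  rw [Finset.sum_eq_single k]
  · simp
  · intro j _ hj
    exact Pi.single_eq_of_ne (Ne.symm hj) _
  · intro h
    exact absurd (Finset.mem_univ k) h

end Helpers

/-- Let B be an A-algebra with a receptacle of differentials (Ω, δ), Ω a finite free B-module (the local
form of a weakly smooth scheme), and let M be a finitely ℤ-graded B-module presented as a finite
family of finite free B-modules M_i with integer degrees deg i (the local form of a graded vector
bundle), with total module Π_i M_i. Let ∇ be a connection on Π_i M_i preserving the grading, in the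
sense that (pr_j ⊗ 1)(∇(ι_i m)) = 0 for m ∈ M_i whenever deg i ≠ deg j, and let ∇_E be the induced
connection on the B-linear endomorphisms, the one with (ev_m ⊗ 1)(∇_E φ) = ∇(φ m) − (φ ⊗ 1)(∇ m).
Give B the connection b ↦ 1 ⊗ δ b. Then the supertrace, φ ↦ tr(ε ∘ φ) with ε = Σ_i (−1)^{deg i} ι_i
∘ pr_i the grading involution, is a horizontal map End_B(Π_i M_i) → B. -/
theorem result {A : Type v} {B Ω ι : Type u}
    [CommRing A] [CommRing B] [Algebra A B]
    [AddCommGroup Ω] [Module B Ω] [Module A Ω] [IsScalarTower A B Ω] [Module.Finite B Ω] [Module.Free B Ω]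
    [Fintype ι] [DecidableEq ι] (deg : ι → ℤ) (M : ι → Type u)
    [∀ i, AddCommGroup (M i)] [∀ i, Module B (M i)] [∀ i, Module A (M i)] [∀ i, IsScalarTower A B (M i)]
    [∀ i, Module.Free B (M i)] [∀ i, Module.Finite B (M i)]
    (δ : Derivation A B Ω) (nabla : (Π k, M k) →ₗ[A] (Π k, M k) ⊗[B] Ω) (hc : Conn.IsConn δ nabla)
    (hgr : ∀ i j : ι, deg i ≠ deg j → ∀ m : M i,
      TensorProduct.map (LinearMap.proj j : (Π k, M k) →ₗ[B] M j) LinearMap.id (nabla (LinearMap.single B M i m)) = 0)
    (nablaE : ((Π k, M k) →ₗ[B] (Π k, M k)) →ₗ[A] ((Π k, M k) →ₗ[B] (Π k, M k)) ⊗[B] Ω)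
    (hE : Conn.IsHomConn nabla nabla nablaE) :
    Conn.IsHorizontal nablaE (Conn.triv δ)
      (LinearMap.trace B (Π k, M k) ∘ₗ LinearMap.llcomp B (Π k, M k) (Π k, M k) (Π k, M k)
        (∑ i : ι, (LinearMap.single B M i) ∘ₗ (((-1 : B) ^ (deg i).natAbs) • (LinearMap.proj i : (Π k, M k) →ₗ[B] M i)))) := by
  classical
  intro φ
  let bΩ := Module.Free.chooseBasis B Ω
  apply Groth.Agent.Lib.ConnAlongH44.eq_of_components bΩ
  intro q
  rw [Groth.Agent.Lib.ConnAlongH44.rid_map_natural, Conn.triv_apply, TensorProduct.map_tmul,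
    TensorProduct.rid_tmul]
  set θ : Ω →ₗ[B] B := bΩ.coord q with hθ
  set s : ι → B := fun i => (-1 : B) ^ (deg i).natAbs with hs
  set ε : (Π k, M k) →ₗ[B] (Π k, M k) :=
    ∑ i : ι, (LinearMap.single B M i) ∘ₗ ((s i) • (LinearMap.proj i : (Π k, M k) →ₗ[B] M i)) with hε
  let d : (Π k, M k) →ₗ[A] (Π k, M k) := Conn.along nabla θ
  let D : B →+ B := (θ.toAddMonoidHom).comp (δ : B →ₗ[A] Ω).toAddMonoidHom
  have hd : ∀ (x : B) (m : Π k, M k), d (x • m) = x • d m + D x • m :=
    fun x m => Groth.Agent.Lib.ConnAlongH44.along_smul δ nabla hc θ x m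
  -- the grading is preserved by `d`
  have hproj : ∀ i j : ι, deg i ≠ deg j → ∀ m : M i, d (Pi.single i m) j = 0 := by
    intro i j hij m
    have h1 := Groth.Agent.Lib.ConnAlongH44.rid_map_natural
      (LinearMap.proj j : (Π k, M k) →ₗ[B] M j) θ (nabla (LinearMap.single B M i m))
    rw [hgr i j hij m, map_zero, map_zero] at h1
    exact h1.symm
  have hs_eq : ∀ i j : ι, deg i = deg j → s i = s j := by
    intro i j h
    simp only [hs, h]
  -- `d` commutes with the grading involution
  have hcomm : ∀ x : Π k, M k, ε (d x) = d (ε x) := by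
    have : (ε.restrictScalars A) ∘ₗ d = d ∘ₗ (ε.restrictScalars A) := by
      apply LinearMap.pi_ext
      intro i m
      simp only [LinearMap.comp_apply, LinearMap.restrictScalars_apply]
      have e1 : ε (Pi.single i m) = s i • Pi.single i m := by
        funext k
        rw [hε, eps_apply s M, Pi.smul_apply]
        by_cases hk : k = i
        · subst hk; rfl
        · rw [Pi.single_eq_of_ne hk, smul_zero, smul_zero]
      have e2 : ε (d (Pi.single i m)) = s i • d (Pi.single i m) := by
        funext k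
        rw [hε, eps_apply s M, Pi.smul_apply]
        by_cases hk : deg i = deg k
        · rw [hs_eq i k hk]
        · rw [hproj i k hk m, smul_zero, smul_zero]
      rw [e1, e2]
      rcases neg_one_pow_eq_or B (deg i).natAbs with h | h
      · simp only [hs, h, one_smul]
      · simp only [hs, h, neg_smul, one_smul, map_neg]
    intro x
    exact LinearMap.congr_fun this x
  have key := Groth.Agent.Lib.ConnAlongH44.trace_comm_eq (Module.Free.chooseBasis B (Π k, M k))
    d D hd (ε ∘ₗ φ) (ε ∘ₗ Conn.along nablaE θ φ) (by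
      intro m
      rw [LinearMap.comp_apply, LinearMap.comp_apply,
        Groth.Agent.Lib.ConnAlongH44.along_hom nabla nabla nablaE hE θ φ m, map_sub, hcomm]
      rfl)
  rw [LinearMap.comp_apply, LinearMap.comp_apply]
  have e3 : ∀ χ : (Π k, M k) →ₗ[B] (Π k, M k),
      LinearMap.llcomp B (Π k, M k) (Π k, M k) (Π k, M k) ε χ = ε ∘ₗ χ := fun _ => rfl
  rw [e3, e3]
  rw [Conn.along_apply] at key
  rw [key]
  simp [D]

end Groth.Agent.S16663
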