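import Groth.Statements.S16664
import Groth.Agent.Lib.ConnAlongH44

set_option autoImplicit false
universe v u
open TensorProduct
open Conn

namespace Groth.Agent.S16664

/-- Let B be an A-algebra with a receptacle of differentials (Ω, δ), Ω free on a finite basis ω_1, …,
ω_n, let M be a finitely presented B-module with a connection ∇, let ∇_E be the induced connection
on the B-linear endomorphisms of M (the one with (ev_m ⊗ 1)(∇_E φ) = ∇(φ m) − (φ ⊗ 1)(∇ m)), and for
each q let ∇_q = (1 ⊗ ω_q^*) ∘ ∇_E be the covariant derivative on End_B(M) along the q-th vector of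
the dual basis. If an endomorphism φ satisfies φ ∘ ∇_q(φ) + ∇_q(φ) ∘ φ = 0 for every q, then for all
q, r one has φ ∘ ∇_q(∇_r(φ)) + ∇_q(∇_r(φ)) ∘ φ + ∇_q(φ) ∘ ∇_r(φ) + ∇_r(φ) ∘ ∇_q(φ) = 0. (The
published statement takes M graded with ∇ preserving the grading and φ of odd degree, and is written
with supercommutators; for such φ the supercommutators in question are exactly these
anticommutators, and the identity holds for an arbitrary endomorphism.) -/
theorem result {A : Type v} {B Ω M : Type u}
    [CommRing A] [CommRing B] [Algebra A B]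
    [AddCommGroup Ω] [Module B Ω] [Module A Ω] [IsScalarTower A B Ω] {n : ℕ} (bΩ : Module.Basis (Fin n) B Ω)
    [AddCommGroup M] [Module B M] [Module A M] [IsScalarTower A B M] [Module.FinitePresentation B M]
    (δ : Derivation A B Ω) (nabla : M →ₗ[A] M ⊗[B] Ω) (hc : Conn.IsConn δ nabla)
    (nablaE : (M →ₗ[B] M) →ₗ[A] (M →ₗ[B] M) ⊗[B] Ω) (hE : Conn.IsHomConn nabla nabla nablaE)
    (φ : M →ₗ[B] M)
    (hφ : ∀ q : Fin n, φ ∘ₗ Conn.along nablaE (bΩ.coord q) φ + Conn.along nablaE (bΩ.coord q) φ ∘ₗ φ = 0)
    (q r : Fin n) :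
    φ ∘ₗ Conn.along nablaE (bΩ.coord q) (Conn.along nablaE (bΩ.coord r) φ)
      + Conn.along nablaE (bΩ.coord q) (Conn.along nablaE (bΩ.coord r) φ) ∘ₗ φ
      + Conn.along nablaE (bΩ.coord q) φ ∘ₗ Conn.along nablaE (bΩ.coord r) φ
      + Conn.along nablaE (bΩ.coord r) φ ∘ₗ Conn.along nablaE (bΩ.coord q) φ = 0 := by
  have key : ∀ (θ : Ω →ₗ[B] B) (ψ : M →ₗ[B] M),
      (Conn.along nablaE θ ψ).restrictScalars A =
        (Conn.along nabla θ : Module.End A M) * (ψ.restrictScalars A : Module.End A M)
          - (ψ.restrictScalars A : Module.End A M) * (Conn.along nabla θ : Module.End A M) := by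
    intro θ ψ
    ext m
    simp [Groth.Agent.Lib.ConnAlongH44.along_hom nabla nabla nablaE hE θ ψ m]
  have hcomp : ∀ (ψ χ : M →ₗ[B] M), (ψ ∘ₗ χ).restrictScalars A =
      (ψ.restrictScalars A : Module.End A M) * (χ.restrictScalars A : Module.End A M) := by
    intro ψ χ
    rfl
  apply LinearMap.restrictScalars_injective A
  have h := congrArg (LinearMap.restrictScalars A) (hφ r)
  simp only [LinearMap.restrictScalars_add, hcomp, key, LinearMap.restrictScalars_zero] at h ⊢
  generalize (Conn.along nabla (bΩ.coord q) : Module.End A M) = a at h ⊢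
  generalize (Conn.along nabla (bΩ.coord r) : Module.End A M) = b at h ⊢
  generalize (φ.restrictScalars A : Module.End A M) = f at h ⊢
  have e : f * (a * (b * f - f * b) - (b * f - f * b) * a)
      + (a * (b * f - f * b) - (b * f - f * b) * a) * f
      + (a * f - f * a) * (b * f - f * b) + (b * f - f * b) * (a * f - f * a)
      = a * (f * (b * f - f * b) + (b * f - f * b) * f)
        - (f * (b * f - f * b) + (b * f - f * b) * f) * a := by
    noncomm_ring
  rw [e, h, mul_zero, zero_mul, sub_zero]

end Groth.Agent.S16664
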