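import Groth.Statements.S16665
-- import your own Groth.Agent.* helpers here

set_option autoImplicit false
universe v u
open TensorProduct
open Conn

namespace Groth.Agent.S16665

section Helpers

variable {B Ω E F : Type u} [CommRing B] [AddCommGroup Ω] [Module B Ω]
  [AddCommGroup E] [Module B E] [AddCommGroup F] [Module B F]

/-- the evaluation map -/
noncomputable abbrev ev : (E →ₗ[B] F) ⊗[B] E →ₗ[B] F :=
  TensorProduct.lift (LinearMap.id : (E →ₗ[B] F) →ₗ[B] (E →ₗ[B] F))

theorem ev_swapR (z : (E →ₗ[B] F) ⊗[B] Ω) (e : E) :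
    TensorProduct.map (ev (E := E) (F := F)) (LinearMap.id : Ω →ₗ[B] Ω)
      (Conn.swapR (z ⊗ₜ[B] e)) =
      TensorProduct.map (LinearMap.applyₗ e) LinearMap.id z := by
  induction z using TensorProduct.induction_on with
  | zero => simp
  | tmul ψ ω =>
    rw [Conn.swapR_tmul, TensorProduct.map_tmul, TensorProduct.map_tmul]
    rfl
  | add x y hx hy =>
    rw [TensorProduct.add_tmul, map_add, map_add, hx, hy, map_add]

theorem ev_assoc_symm (φ : E →ₗ[B] F) (z : E ⊗[B] Ω) :
    TensorProduct.map (ev (E := E) (F := F)) (LinearMap.id : Ω →ₗ[B] Ω)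
      ((TensorProduct.assoc B (E →ₗ[B] F) E Ω).symm (φ ⊗ₜ[B] z)) =
      TensorProduct.map φ LinearMap.id z := by
  induction z using TensorProduct.induction_on with
  | zero => simp
  | tmul e ω =>
    rw [TensorProduct.assoc_symm_tmul, TensorProduct.map_tmul, TensorProduct.map_tmul]
    rfl
  | add x y hx hy =>
    rw [TensorProduct.tmul_add, map_add, map_add, hx, hy, map_add]

end Helpers

/-- Let B be an A-algebra with a receptacle of differentials (Ω, δ), Ω a finite free B-module, and let E
and F be B-modules with connections ∇_E and ∇_F, E finitely presented. Equip Hom_B(E,F) with the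
induced connection ∇'' (the one with (ev_e ⊗ 1)(∇'' φ) = ∇_F(φ e) − (φ ⊗ 1)(∇_E e)) and Hom_B(E,F) ⊗
E with the tensor product of ∇'' and ∇_E. Then the evaluation map Hom_B(E,F) ⊗ E → F, φ ⊗ e ↦ φ(e),
is horizontal. (The published statement is for bounded complexes with termwise connections, the Hom
complex and the tensor-product complex; this row is the case of single modules, that is, complexes
concentrated in one degree.) -/
theorem result {A : Type v} {B Ω E F : Type u}
    [CommRing A] [CommRing B] [Algebra A B]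
    [AddCommGroup Ω] [Module B Ω] [Module A Ω] [IsScalarTower A B Ω] [Module.Finite B Ω] [Module.Free B Ω]
    [AddCommGroup E] [Module B E] [Module A E] [IsScalarTower A B E] [Module.FinitePresentation B E]
    [AddCommGroup F] [Module B F] [Module A F] [IsScalarTower A B F]
    (δ : Derivation A B Ω)
    (nE : E →ₗ[A] E ⊗[B] Ω) (hcE : Conn.IsConn δ nE)
    (nF : F →ₗ[A] F ⊗[B] Ω) (hcF : Conn.IsConn δ nF)
    (nEF : (E →ₗ[B] F) →ₗ[A] (E →ₗ[B] F) ⊗[B] Ω) (hEF : Conn.IsHomConn nE nF nEF)
    (nT : (E →ₗ[B] F) ⊗[B] E →ₗ[A] ((E →ₗ[B] F) ⊗[B] E) ⊗[B] Ω) (hT : Conn.IsTensorConn nEF nE nT) :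
    Conn.IsHorizontal nT nF (TensorProduct.lift (LinearMap.id : (E →ₗ[B] F) →ₗ[B] (E →ₗ[B] F))) := by
  intro x
  induction x using TensorProduct.induction_on with
  | zero => simp
  | tmul φ e =>
    rw [hT φ e, map_add, ev_swapR, ev_assoc_symm, hEF φ e]
    simp
  | add x y hx hy =>
    rw [map_add, map_add, map_add, map_add, hx, hy]

end Groth.Agent.S16665
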