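import Groth.Statements.S16666
import Mathlib.LinearAlgebra.TensorProduct.Basis
import Mathlib.LinearAlgebra.FreeModule.Basic
-- import your own Groth.Agent.* helpers here

set_option autoImplicit false
universe v u
open TensorProduct
open Conn

namespace Groth.Agent.S16666

section Helpers

variable {B Ω E F G Y Y' : Type u} [CommRing B] [AddCommGroup Ω] [Module B Ω]
  [AddCommGroup E] [Module B E] [AddCommGroup F] [Module B F] [AddCommGroup G] [Module B G]
  [AddCommGroup Y] [Module B Y] [AddCommGroup Y'] [Module B Y']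

theorem equivFinsupp_natural {ι : Type*} [DecidableEq ι] (b : Module.Basis ι B Ω) (g : Y →ₗ[B] Y')
    (z : Y ⊗[B] Ω) (i : ι) :
    TensorProduct.equivFinsuppOfBasisRight b (TensorProduct.map g LinearMap.id z) i =
      g (TensorProduct.equivFinsuppOfBasisRight b z i) := by
  induction z using TensorProduct.induction_on with
  | zero => simp
  | tmul m n =>
    rw [TensorProduct.map_tmul, TensorProduct.equivFinsuppOfBasisRight_apply_tmul_apply,
      TensorProduct.equivFinsuppOfBasisRight_apply_tmul_apply, map_smul]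
    rfl
  | add x y hx hy =>
    rw [map_add, map_add, Finsupp.add_apply, hx, hy, map_add, Finsupp.add_apply, map_add]

/-- Elements of `Hom(E, Y) ⊗ Ω` are detected by evaluations when `Ω` is free. -/
theorem eq_zero_of_apply [Module.Free B Ω] (z : (E →ₗ[B] Y) ⊗[B] Ω)
    (h : ∀ e : E, TensorProduct.map (LinearMap.applyₗ e) (LinearMap.id : Ω →ₗ[B] Ω) z = 0) :
    z = 0 := by
  classical
  let b := Module.Free.chooseBasis B Ω
  apply (TensorProduct.equivFinsuppOfBasisRight b).injective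
  rw [map_zero]
  ext i e
  have h1 := equivFinsupp_natural b (LinearMap.applyₗ e : (E →ₗ[B] Y) →ₗ[B] Y) z i
  rw [h e, map_zero, Finsupp.zero_apply] at h1
  rw [Finsupp.zero_apply, LinearMap.zero_apply]
  exact h1.symm

theorem eq_of_apply [Module.Free B Ω] (z z' : (E →ₗ[B] Y) ⊗[B] Ω)
    (h : ∀ e : E, TensorProduct.map (LinearMap.applyₗ e) (LinearMap.id : Ω →ₗ[B] Ω) z =
      TensorProduct.map (LinearMap.applyₗ e) (LinearMap.id : Ω →ₗ[B] Ω) z') :
    z = z' := by
  rw [← sub_eq_zero]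
  apply eq_zero_of_apply
  intro e
  rw [map_sub, h e, sub_self]

/-- the canonical map -/
noncomputable abbrev kap : (E →ₗ[B] F) ⊗[B] G →ₗ[B] (E →ₗ[B] F ⊗[B] G) :=
  TensorProduct.rTensorHomToHomRTensor (RingHom.id B) E F G

theorem apply_comp_kap (e : E) :
    (LinearMap.applyₗ e : (E →ₗ[B] F ⊗[B] G) →ₗ[B] F ⊗[B] G) ∘ₗ kap =
      LinearMap.rTensor G (LinearMap.applyₗ e : (E →ₗ[B] F) →ₗ[B] F) := by
  apply TensorProduct.ext'
  intro φ g
  rfl

theorem lem1 (e : E) (φ : E →ₗ[B] F) (w : G ⊗[B] Ω) :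
    TensorProduct.map (LinearMap.rTensor G (LinearMap.applyₗ e : (E →ₗ[B] F) →ₗ[B] F))
      (LinearMap.id : Ω →ₗ[B] Ω) ((TensorProduct.assoc B (E →ₗ[B] F) G Ω).symm (φ ⊗ₜ[B] w)) =
      (TensorProduct.assoc B F G Ω).symm (φ e ⊗ₜ[B] w) := by
  induction w using TensorProduct.induction_on with
  | zero => simp
  | tmul g ω => rfl
  | add x y hx hy =>
    rw [TensorProduct.tmul_add, map_add, map_add, hx, hy, TensorProduct.tmul_add, map_add]

theorem lem2 (e : E) (z : (E →ₗ[B] F) ⊗[B] Ω) (g : G) :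
    TensorProduct.map (LinearMap.rTensor G (LinearMap.applyₗ e : (E →ₗ[B] F) →ₗ[B] F))
      (LinearMap.id : Ω →ₗ[B] Ω) (Conn.swapR (z ⊗ₜ[B] g)) =
      Conn.swapR ((TensorProduct.map (LinearMap.applyₗ e) LinearMap.id z) ⊗ₜ[B] g) := by
  induction z using TensorProduct.induction_on with
  | zero => simp
  | tmul ψ ω => rfl
  | add x y hx hy =>
    rw [TensorProduct.add_tmul, map_add, map_add, hx, hy, map_add, TensorProduct.add_tmul, map_add]

theorem lem3 (φ : E →ₗ[B] F) (w : E ⊗[B] Ω) (g : G) :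
    Conn.swapR ((TensorProduct.map φ (LinearMap.id : Ω →ₗ[B] Ω) w) ⊗ₜ[B] g) =
      TensorProduct.map (kap (φ ⊗ₜ[B] g)) LinearMap.id w := by
  induction w using TensorProduct.induction_on with
  | zero => simp
  | tmul e ω => rfl
  | add x y hx hy =>
    rw [map_add, TensorProduct.add_tmul, map_add, hx, hy, map_add]

end Helpers

/-- Let B be an A-algebra with a receptacle of differentials (Ω, δ), Ω a finite free B-module, and let
E, F, G be B-modules with connections ∇_E, ∇_F, ∇_G, E finitely presented. Equip Hom_B(E,F) and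
Hom_B(E, F ⊗ G) with the induced connections (the connection ∇'' on Hom_B(E,Y) being the one with
(ev_e ⊗ 1)(∇'' φ) = ∇_Y(φ e) − (φ ⊗ 1)(∇_E e)), and F ⊗ G and Hom_B(E,F) ⊗ G with the tensor-product
connections. Then the canonical map Hom_B(E,F) ⊗ G → Hom_B(E, F ⊗ G), φ ⊗ g ↦ (e ↦ φ(e) ⊗ g), is
horizontal. (The published statement is for bounded complexes with termwise connections, the Hom
complex and the tensor-product complex; this row is the case of single modules, that is, complexes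
concentrated in one degree.) -/
theorem result {A : Type v} {B Ω E F G : Type u}
    [CommRing A] [CommRing B] [Algebra A B]
    [AddCommGroup Ω] [Module B Ω] [Module A Ω] [IsScalarTower A B Ω] [Module.Finite B Ω] [Module.Free B Ω]
    [AddCommGroup E] [Module B E] [Module A E] [IsScalarTower A B E] [Module.FinitePresentation B E]
    [AddCommGroup F] [Module B F] [Module A F] [IsScalarTower A B F]
    [AddCommGroup G] [Module B G] [Module A G] [IsScalarTower A B G]
    (δ : Derivation A B Ω)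
    (nE : E →ₗ[A] E ⊗[B] Ω) (hcE : Conn.IsConn δ nE)
    (nF : F →ₗ[A] F ⊗[B] Ω) (hcF : Conn.IsConn δ nF)
    (nG : G →ₗ[A] G ⊗[B] Ω) (hcG : Conn.IsConn δ nG)
    (nEF : (E →ₗ[B] F) →ₗ[A] (E →ₗ[B] F) ⊗[B] Ω) (hEF : Conn.IsHomConn nE nF nEF)
    (nFG : F ⊗[B] G →ₗ[A] (F ⊗[B] G) ⊗[B] Ω) (hFG : Conn.IsTensorConn nF nG nFG)
    (nH : (E →ₗ[B] F ⊗[B] G) →ₗ[A] (E →ₗ[B] F ⊗[B] G) ⊗[B] Ω) (hH : Conn.IsHomConn nE nFG nH)
    (nS : (E →ₗ[B] F) ⊗[B] G →ₗ[A] ((E →ₗ[B] F) ⊗[B] G) ⊗[B] Ω) (hS : Conn.IsTensorConn nEF nG nS) :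
    Conn.IsHorizontal nS nH (TensorProduct.rTensorHomToHomRTensor (RingHom.id B) E F G) := by
  intro x
  apply eq_of_apply
  intro e
  rw [← LinearMap.comp_apply (TensorProduct.map (LinearMap.applyₗ e) LinearMap.id),
    ← TensorProduct.map_comp, apply_comp_kap, LinearMap.comp_id]
  induction x using TensorProduct.induction_on with
  | zero => simp
  | tmul φ g =>
    rw [hH, hS φ g, map_add, lem1, lem2, hEF φ e, TensorProduct.sub_tmul, map_sub, lem3]
    have h1 : (TensorProduct.rTensorHomToHomRTensor (RingHom.id B) E F G (φ ⊗ₜ[B] g)) e =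
        φ e ⊗ₜ[B] g := rfl
    rw [h1, hFG (φ e) g]
    abel
  | add x y hx hy =>
    simp only [map_add] at hx hy ⊢
    rw [hx, hy]

end Groth.Agent.S16666
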