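import Groth.Statements.S16675
import Groth.Agent.Lib.FpqcCovMore18
import Groth.Agent.Lib.KerSq18

set_option autoImplicit false
set_option maxHeartbeats 400000
universe u
open CategoryTheory CategoryTheory.Limits MonoidalCategory CartesianMonoidalCategory MonObj GrpObj AlgebraicGeometry
open AbVar

namespace Groth.Agent.S16675

/-- The equivalence of its second and third conditions. Let X and Y be abelian varieties over a field k
(proper, geometrically integral k-group schemes), f : X → Y a homomorphism which is finite, flat and
surjective (an isogeny), and i : N → X the kernel of f (the square formed by i, f, the unit section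
of Y and the structure map of N is cartesian). Then f is étale if and only if the structure morphism
N → Spec k is étale. (The published item also includes the equivalent condition that the function
field of X is separable over that of Y; that clause is not part of this statement.) -/
theorem result (k : Type u) [Field k]
    (X Y : Over (Spec (CommRingCat.of k)))
    [GrpObj X] [IsProper X.hom] [GeometricallyIntegral X.hom]
    [GrpObj Y] [IsProper Y.hom] [GeometricallyIntegral Y.hom]
    (f : X ⟶ Y) [IsMonHom f] [IsFinite f.left] [Flat f.left] [Surjective f.left]
    (N : Over (Spec (CommRingCat.of k))) (i : N ⟶ X) (hN : AlgGrp.IsKernel i f) :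
    Etale f.left ↔ Etale N.hom := by
  have hunit : (toUnit N).left = N.hom := by
    have := Over.w (toUnit N)
    rw [← this]
    exact (Category.comp_id _).symm
  have sqK : IsPullback i.left (toUnit N).left f.left η[Y].left := hN.map (Over.forget _)
  have sqQ : IsPullback ((X ◁ i) ≫ μ[X]).left (fst X N).left f.left f.left :=
    (Groth.Agent.Lib.KerSq18.isPullback_mul_fst_of_isKernel f i hN).map (Over.forget _)
  have hcov := Groth.Agent.Lib.FpqcCov18.isFpqcCov_of_fpqc f.left
  constructor
  · intro h
    rw [← hunit]
    exact MorphismProperty.of_isPullback (P := @Etale) sqK h
  · intro h
    have h1 : Etale (fst X N).left := by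
      show Etale (Limits.pullback.fst X.hom N.hom)
      infer_instance
    exact Groth.Agent.Lib.FpqcCov18.IsFpqcCov.descends @Etale sqQ.flip hcov h1

end Groth.Agent.S16675
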