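import Groth.Statements.S16676
import Groth.Agent.Lib.FpqcCovMore18
import Groth.Agent.Lib.KerSq18

set_option autoImplicit false
set_option maxHeartbeats 400000
universe u
open CategoryTheory CategoryTheory.Limits MonoidalCategory CartesianMonoidalCategory MonObj GrpObj AlgebraicGeometry
open AbVar

namespace Groth.Agent.S16676

/-- If `g` is surjective and `g ≫ f` is universally injective, so is `f`. -/
lemma universallyInjective_of_comp_surjective {A B C : Scheme.{u}} (g : A ⟶ B) (f : B ⟶ C)
    [Surjective g] [UniversallyInjective (g ≫ f)] : UniversallyInjective f := by
  constructor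
  intro B' C' i₁ i₂ f' sq
  have sq1 : IsPullback (pullback.snd g i₁) (pullback.fst g i₁) i₁ g :=
    (IsPullback.of_hasPullback g i₁).flip
  have sq2 := sq1.paste_horiz sq
  have hinj : Function.Injective (pullback.snd g i₁ ≫ f') :=
    (UniversallyInjective.universally_injective (f := g ≫ f)) _ _ _ sq2
  have hsurj : Function.Surjective (pullback.snd g i₁) := (inferInstance : Surjective (pullback.snd g i₁)).surj
  intro a b hab
  obtain ⟨a', rfl⟩ := hsurj a
  obtain ⟨b', rfl⟩ := hsurj b
  have : a' = b' := by
    apply hinj
    simpa [Scheme.Hom.comp_apply] using hab
  rw [this]

/-- The equivalence of its second and third conditions. Let X and Y be abelian varieties over a field k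
(proper, geometrically integral k-group schemes), f : X → Y a homomorphism which is finite, flat and
surjective (an isogeny), and i : N → X the kernel of f (the square formed by i, f, the unit section
of Y and the structure map of N is cartesian). Then f is universally injective (a purely inseparable
morphism) if and only if the scheme N is connected. (The published item also includes the equivalent
condition that the function field of X is purely inseparable over that of Y; that clause is not part
of this statement.) -/
theorem result (k : Type u) [Field k]
    (X Y : Over (Spec (CommRingCat.of k)))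
    [GrpObj X] [IsProper X.hom] [GeometricallyIntegral X.hom]
    [GrpObj Y] [IsProper Y.hom] [GeometricallyIntegral Y.hom]
    (f : X ⟶ Y) [IsMonHom f] [IsFinite f.left] [Flat f.left] [Surjective f.left]
    (N : Over (Spec (CommRingCat.of k))) (i : N ⟶ X) (hN : AlgGrp.IsKernel i f) :
    UniversallyInjective f.left ↔ ConnectedSpace ↥N.left := by
  have hunit : (toUnit N).left = N.hom := by
    have := Over.w (toUnit N)
    rw [← this]
    exact (Category.comp_id _).symm
  have sqK : IsPullback i.left (toUnit N).left f.left η[Y].left := hN.map (Over.forget _)
  have sqQ : IsPullback ((X ◁ i) ≫ μ[X]).left (fst X N).left f.left f.left :=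
    (Groth.Agent.Lib.KerSq18.isPullback_mul_fst_of_isKernel f i hN).map (Over.forget _)
  have hcov := Groth.Agent.Lib.FpqcCov18.isFpqcCov_of_fpqc f.left
  -- the unit section of N
  let e : 𝟙_ (Over (Spec (CommRingCat.of k))) ⟶ N :=
    hN.lift η[X] (𝟙 _) (by rw [Category.id_comp]; exact IsMonHom.one_hom f)
  have he : e.left ≫ N.hom = 𝟙 _ := by
    rw [← hunit, ← Over.comp_left]
    have : e ≫ toUnit N = 𝟙 _ := toUnit_unique _ _
    rw [this]; rfl
  constructor
  · intro h
    have h1 : UniversallyInjective N.hom := by
      rw [← hunit]
      exact MorphismProperty.of_isPullback (P := @UniversallyInjective) sqK h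
    have hinj : Function.Injective N.hom := N.hom.injective
    have : Subsingleton ↥N.left := hinj.subsingleton
    have : Nonempty ↥N.left := by
      obtain ⟨x⟩ : Nonempty ↥(Spec (CommRingCat.of k)) := inferInstance
      exact ⟨e.left x⟩
    infer_instance
  · intro hconn
    have hfin : IsFinite N.hom := by
      rw [← hunit]
      exact MorphismProperty.of_isPullback (P := @IsFinite) sqK inferInstance
    have hdisc : DiscreteTopology ↥N.left := by
      rw [← isDiscrete_univ_iff]
      obtain ⟨y⟩ : Nonempty ↥(Spec (CommRingCat.of k)) := inferInstance
      have := N.hom.isDiscrete_preimage_singleton y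
      convert this
      ext x
      simp only [Set.mem_univ, Set.mem_preimage, Set.mem_singleton_iff, true_iff]
      exact Subsingleton.elim _ _
    have : Subsingleton ↥N.left := PreconnectedSpace.trivial_of_discrete
    have hsurj : Surjective e.left := by
      constructor
      intro y
      obtain ⟨x⟩ : Nonempty ↥(Spec (CommRingCat.of k)) := inferInstance
      exact ⟨x, Subsingleton.elim _ _⟩
    have hcomp : UniversallyInjective (e.left ≫ N.hom) := by
      rw [he]; infer_instance
    have h1 : UniversallyInjective N.hom := universallyInjective_of_comp_surjective e.left N.hom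
    have h2 : UniversallyInjective (fst X N).left := by
      show UniversallyInjective (Limits.pullback.fst X.hom N.hom)
      exact MorphismProperty.pullback_fst _ _ h1
    exact Groth.Agent.Lib.FpqcCov18.IsFpqcCov.descends @UniversallyInjective sqQ.flip hcov h2

end Groth.Agent.S16676
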