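-- Statement S7599.
import Groth.Statements.S7599
import Groth.Agent.Lib.H30GeomNormalPt
import Mathlib

set_option autoImplicit false
universe u
open CategoryTheory CategoryTheory.Limits AlgebraicGeometry
attribute [local instance] Curv2.stalkAlgebra
open scoped TensorProduct
open Variety

namespace Groth.Agent.S7599

open Groth.Agent.Lib.H71GeomRedAt Groth.Agent.Lib.H30GeomNormalPt in
theorem of_tensor (k : Type u) [Field k] (X : Scheme.{u}) [X.Over (Spec (CommRingCat.of k))] (x : ↥X)
    (h3 : ∀ (k' : Type u) [Field k'] [Algebra k k'], EGA4.IsNormalRing (k' ⊗[k] ↥(X.presheaf.stalk x)))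
    (k' : Type u) [Field k'] [Algebra k k'] (x' : ↥(Curv2.bc k X k')) (hx' : Curv2.bcFst k X k' x' = x) :
    IsDomain ↥((Curv2.bc k X k').presheaf.stalk x') ∧
      IsIntegrallyClosed ↥((Curv2.bc k X k').presheaf.stalk x') := by
  have hR : EGA4.IsNormalRing (X.presheaf.stalk x ⊗[k] k') :=
    Groth.Agent.Lib.H30GeomNormal.isNormalRing_of_ringEquiv
      (Algebra.TensorProduct.comm k k' (X.presheaf.stalk x)).toRingEquiv (h3 k')
  obtain ⟨w, hw1, hw2⟩ := Scheme.Pullback.exists_preimage_pullback
    (f := X.fromSpecStalk x) (g := Curv2.bcFst k X k')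
    (IsLocalRing.closedPoint (X.presheaf.stalk x)) x'
    (by rw [Scheme.fromSpecStalk_closedPoint, hx'])
  subst hw2
  let p : PrimeSpectrum (X.presheaf.stalk x ⊗[k] k') := (isoSpecTensor k X x k').hom w
  haveI := p.isPrime
  obtain ⟨eq⟩ := nonempty_stalk_equiv k X x k' w p.asIdeal rfl
  exact Groth.Agent.Lib.H30NormalSmooth.normal_of_ringEquiv eq.symm (hR p.asIdeal)

open Groth.Agent.Lib.H71GeomRedAt Groth.Agent.Lib.H30GeomNormalPt in
theorem tensor_of_pi (k : Type u) [Field k] (X : Scheme.{u}) [X.Over (Spec (CommRingCat.of k))] (x : ↥X)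
    (h2 : ∀ (k' : Type u) [Field k'] [Algebra k k'] [FiniteDimensional k k'] [IsPurelyInseparable k k'] (x' : ↥(Curv2.bc k X k')), Curv2.bcFst k X k' x' = x →
          IsDomain ↥((Curv2.bc k X k').presheaf.stalk x') ∧ IsIntegrallyClosed ↥((Curv2.bc k X k').presheaf.stalk x'))
    (k' : Type u) [Field k'] [Algebra k k'] : EGA4.IsNormalRing (k' ⊗[k] ↥(X.presheaf.stalk x)) := by
  have hG : EGA4.IsGeomNormal k (X.presheaf.stalk x) := by
    apply isGeomNormal_of_forall_pi
    intro K _ _ hfin hpi
    haveI : FiniteDimensional k K := hfin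
    haveI : IsPurelyInseparable k K := hpi
    haveI : Algebra.IsAlgebraic k K := Algebra.IsAlgebraic.of_finite k K
    suffices hR : EGA4.IsNormalRing (X.presheaf.stalk x ⊗[k] K) from
      Groth.Agent.Lib.H30GeomNormal.isNormalRing_of_ringEquiv
        (Algebra.TensorProduct.comm k (X.presheaf.stalk x) K).toRingEquiv hR
    apply isNormalRing_of_forall_maximal
    intro M hM
    set e := isoSpecTensor k X x K
    let p : ↥(Spec (CommRingCat.of (X.presheaf.stalk x ⊗[k] K))) := ⟨M, hM.isPrime⟩
    set w := e.inv p with hw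
    have hfst : pullback.fst (X.fromSpecStalk x) (Curv2.bcFst k X K) w =
        IsLocalRing.closedPoint (X.presheaf.stalk x) :=
      fst_isoSpecTensor_inv_of_isMaximal k X x K M
    have hx' : Curv2.bcFst k X K (pullback.snd (X.fromSpecStalk x) (Curv2.bcFst k X K) w) = x := by
      rw [← Scheme.Hom.comp_apply, ← pullback.condition, Scheme.Hom.comp_apply, hfst,
        Scheme.fromSpecStalk_closedPoint]
    have hnorm := h2 K (pullback.snd (X.fromSpecStalk x) (Curv2.bcFst k X K) w) hx'
    haveI := hM.isPrime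
    have hwp : e.hom w = (⟨M, hM.isPrime⟩ : PrimeSpectrum (X.presheaf.stalk x ⊗[k] K)) := by
      rw [hw, ← Scheme.Hom.comp_apply, Iso.inv_hom_id]
      rfl
    obtain ⟨eq⟩ := nonempty_stalk_equiv k X x K w M hwp
    exact Groth.Agent.Lib.H30NormalSmooth.normal_of_ringEquiv eq hnorm
  exact Groth.Agent.Lib.H30GeomNormalTensor.isNormalRing_field_tensor k _ k' hG

/-- Let X be a scheme over a field k and x a point of X. These conditions are equivalent: (1) the scheme
X is geometrically normal at x (meaning: for any extension field k' and any point x' of X_{k'} over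
x the local ring O_{X_{k'}, x'} is an integrally closed domain); (2) the same for the finite purely
inseparable extensions k' of k only; (3) for every extension field k' of k the ring k' ⊗_k O_{X, x}
is normal (all its localisations at primes are integrally closed domains). Stated as (1) ↔ (2)
together with (2) ↔ (3). -/
theorem result (k : Type u) [Field k] (X : Scheme.{u}) [X.Over (Spec (CommRingCat.of k))] (x : ↥X) :
    ((∀ (k' : Type u) [Field k'] [Algebra k k'] (x' : ↥(Curv2.bc k X k')), Curv2.bcFst k X k' x' = x →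
          IsDomain ↥((Curv2.bc k X k').presheaf.stalk x') ∧ IsIntegrallyClosed ↥((Curv2.bc k X k').presheaf.stalk x')) ↔
      (∀ (k' : Type u) [Field k'] [Algebra k k'] [FiniteDimensional k k'] [IsPurelyInseparable k k'] (x' : ↥(Curv2.bc k X k')), Curv2.bcFst k X k' x' = x →
          IsDomain ↥((Curv2.bc k X k').presheaf.stalk x') ∧ IsIntegrallyClosed ↥((Curv2.bc k X k').presheaf.stalk x'))) ∧
    ((∀ (k' : Type u) [Field k'] [Algebra k k'] [FiniteDimensional k k'] [IsPurelyInseparable k k'] (x' : ↥(Curv2.bc k X k')), Curv2.bcFst k X k' x' = x →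
          IsDomain ↥((Curv2.bc k X k').presheaf.stalk x') ∧ IsIntegrallyClosed ↥((Curv2.bc k X k').presheaf.stalk x')) ↔
      ∀ (k' : Type u) [Field k'] [Algebra k k'], EGA4.IsNormalRing (k' ⊗[k] ↥(X.presheaf.stalk x))) := by
  refine ⟨⟨fun h1 k' _ _ _ _ x' hx' => h1 k' x' hx', fun h2 k' _ _ x' hx' => ?_⟩,
    ⟨fun h2 k' _ _ => tensor_of_pi k X x h2 k', fun h3 k' _ _ _ _ x' hx' => of_tensor k X x h3 k' x' hx'⟩⟩
  exact of_tensor k X x (fun K _ _ => tensor_of_pi k X x h2 K) k' x' hx'

end Groth.Agent.S7599
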