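import Groth.Statements.S16684
import Groth.Agent.Lib.FppfQuotConj18
import Groth.Agent.Lib.GeomQuotLoc18

set_option autoImplicit false
set_option maxHeartbeats 400000
universe u
open CategoryTheory CategoryTheory.Limits MonoidalCategory CartesianMonoidalCategory MonObj AlgebraicGeometry
open GIT

namespace Groth.Agent.S16684

open Groth.Agent.Lib.FpqcCov18 Groth.Agent.Lib.GammaFpqc Groth.Agent.Lib.GeomQuotFpqc18
  Groth.Agent.Lib.FppfQuotConj18

variable {S : Scheme.{u}}

lemma exists_mem_sieve_point {T : Over S} (𝒮 : Sieve T) (h𝒮 : 𝒮 ∈ AlgSp.J S T) (t₀ : T.left) :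
    ∃ (T' : Over S) (t : T' ⟶ T), 𝒮 t ∧ t₀ ∈ Set.range t.left := by
  rw [GrothendieckTopology.mem_over_iff,
    Precoverage.mem_toGrothendieck_iff_of_isStableUnderComposition] at h𝒮
  obtain ⟨R, hR, hle⟩ := h𝒮
  have hR' : R ∈ Scheme.precoverage (@Flat ⊓ @LocallyOfFinitePresentation) T.left := hR
  obtain ⟨hsurj, -⟩ := hR'
  rw [Presieve.mem_comap_jointlySurjectivePrecoverage_iff] at hsurj
  obtain ⟨U, g, hg, hx⟩ := hsurj t₀
  have h1 := hle _ _ hg
  rw [Sieve.overEquiv_iff] at h1
  exact ⟨Over.mk (g ≫ T.hom), Over.homMk g, h1, hx⟩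

end Groth.Agent.S16684

namespace Groth.Agent.S16684

open Groth.Agent.Lib.FpqcCov18 Groth.Agent.Lib.GammaFpqc Groth.Agent.Lib.GeomQuotFpqc18
  Groth.Agent.Lib.FppfQuotConj18

/-- Let S be a scheme, G a group scheme over S acting through σ : G ×_S X → X on an S-scheme X, and q :
X → Y an S-morphism which is an fppf quotient of X by G: q coequalises σ and the second projection
and the induced map from the quotient sheaf G\X (coequalizer of the two maps h_{G × X} ⇉ h_X of fppf
sheaves of sets on schemes over S) to h_Y is an isomorphism. Then q is also a geometric quotient: q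
is invariant and surjective, the map G ×_S X → X ×_Y X is surjective, q is universally submersive,
and for every open U of Y the sections of O_Y over U map injectively onto the G-invariant sections
of O_X over q⁻¹U. No freeness of the action is assumed. -/
theorem result {S : Scheme.{u}} (G X Y : Over S) [GrpObj G]
    (a : AlgGrp.Action G X) (q : X ⟶ Y)
    (hq : QuotSh.IsQuotient Scheme.fppfPrecoverage a.act (snd G X) q) :
    GIT.IsGeomQuot a q := by
  have hinv : GIT.IsInvariant a q := hq.choose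
  have hcov : IsFpqcCov q.left := isFpqcCov_of_isQuotient hq
  have hsurj : Surjective q.left := hcov.surjective
  refine ⟨hinv, q.left.surjective, ?_, hcov.isUnivSubmersive, ?_⟩
  · -- orbits
    intro z
    obtain ⟨jz, hjz⟩ : ∃ jz : Spec ((pullback q.left q.left).residueField z) ⟶ pullback q.left q.left,
        jz = (pullback q.left q.left).fromSpecResidueField z := ⟨_, rfl⟩
    have hw : (jz ≫ pullback.snd q.left q.left) ≫ X.hom = (jz ≫ pullback.fst q.left q.left) ≫ X.hom := by
      rw [← Over.w q, Category.assoc, Category.assoc, ← Category.assoc (pullback.snd _ _),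
        ← pullback.condition, Category.assoc]
    let T : Over S := Over.mk ((jz ≫ pullback.fst q.left q.left) ≫ X.hom)
    let x₁ : T ⟶ X := Over.homMk (jz ≫ pullback.fst q.left q.left) rfl
    let x₂ : T ⟶ X := Over.homMk (jz ≫ pullback.snd q.left q.left) hw
    have h12 : x₂ ≫ q = x₁ ≫ q := by
      ext1
      simp only [Over.comp_left, x₁, x₂, Over.homMk_left, Category.assoc, pullback.condition]
    obtain ⟨𝒮, h𝒮, hconj⟩ := exists_local_conj hq x₂ x₁ h12
    have t₀ : T.left := IsLocalRing.closedPoint ((pullback q.left q.left).residueField z)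
    obtain ⟨T', t, ht, p', hp'⟩ := exists_mem_sieve_point 𝒮 h𝒮 t₀
    obtain ⟨g, hg⟩ := hconj t ht
    refine ⟨(lift g (t ≫ x₂)).left p', ?_⟩
    have e : (lift g (t ≫ x₂)).left ≫ GIT.PsiY a q hinv = t.left ≫ jz := by
      apply pullback.hom_ext
      · rw [Category.assoc, GIT.PsiY, pullback.lift_fst, ← Over.comp_left, hg]
        simp [x₁]
      · rw [Category.assoc, GIT.PsiY, pullback.lift_snd, ← Over.comp_left, lift_snd]
        simp [x₂]
    rw [← Scheme.Hom.comp_apply, e, Scheme.Hom.comp_apply, hjz]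
    exact (pullback q.left q.left).fromSpecResidueField_apply z _
  · -- sections
    intro U
    refine ⟨app_injective_of_isFpqcCov q.left hcov U, Set.Subset.antisymm ?_ ?_⟩
    · rintro _ ⟨s, rfl⟩
      exact isInvSection_app a q hinv U s
    · intro f hf
      have cov : IsFpqcCov (q.left ∣_ U) :=
        hcov.of_isPullback (isPullback_morphismRestrict q.left U).flip
      refine mem_range_of_key q U f cov ?_
      intro A g₁ g₂ hg
      have hg' : (g₁ ≫ (q.left ⁻¹ᵁ U).ι) ≫ q.left = (g₂ ≫ (q.left ⁻¹ᵁ U).ι) ≫ q.left := by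
        rw [Category.assoc, Category.assoc, ← morphismRestrict_ι, ← Category.assoc, hg,
          Category.assoc]
      have hw : (g₂ ≫ (q.left ⁻¹ᵁ U).ι) ≫ X.hom = (g₁ ≫ (q.left ⁻¹ᵁ U).ι) ≫ X.hom := by
        rw [← Over.w q, ← Category.assoc, ← hg', Category.assoc]
      let T : Over S := Over.mk ((g₁ ≫ (q.left ⁻¹ᵁ U).ι) ≫ X.hom)
      let x₁ : T ⟶ X := Over.homMk (g₁ ≫ (q.left ⁻¹ᵁ U).ι) rfl
      let x₂ : T ⟶ X := Over.homMk (g₂ ≫ (q.left ⁻¹ᵁ U).ι) hw
      have h12 : x₂ ≫ q = x₁ ≫ q := by
        ext1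
        simp only [Over.comp_left, x₁, x₂, Over.homMk_left]
        exact hg'.symm
      obtain ⟨𝒮, h𝒮, hconj⟩ := exists_local_conj hq x₂ x₁ h12
      have h𝒮' : Sieve.overEquiv T 𝒮 ∈ Scheme.fppfTopology T.left :=
        (GrothendieckTopology.mem_over_iff _ _).1 h𝒮
      refine hom_ext_of_fppfTopology _ _ (Sieve.overEquiv T 𝒮) h𝒮' ?_
      intro T'' t ht
      rw [Sieve.overEquiv_iff] at ht
      obtain ⟨g, hgc⟩ := hconj _ ht
      rw [← Category.assoc, ← Category.assoc]
      refine fn_eq_of_conj a q U f hf (t ≫ g₁) (t ≫ g₂)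
        (lift g ((Over.homMk t : Over.mk (t ≫ T.hom) ⟶ T) ≫ x₂)).left ?_ ?_
      · rw [← Over.comp_left, hgc]
        simp [x₁]
      · rw [← Over.comp_left, lift_snd]
        simp [x₂]

end Groth.Agent.S16684
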