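import Groth.Statements.S16688
import Mathlib.RingTheory.HopfAlgebra.Convolution
import Mathlib.RingTheory.Bialgebra.TensorProduct
import Mathlib.RingTheory.HopfAlgebra.Basic
-- import your own Groth.Agent.* helpers here

set_option autoImplicit false
universe u v w
open ComodSub

namespace Groth.Agent.S16688

section Helpers

open TensorProduct WithConv

variable (k : Type u) (A : Type v) [CommRing k] [CommRing A] [HopfAlgebra k A]

/-- The antipode of a commutative Hopf algebra is anti-comultiplicative (as algebra maps). -/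
theorem comulAlgHom_comp_antipode :
    (Bialgebra.comulAlgHom k A).comp (HopfAlgebra.antipodeAlgHom k A) =
      (Algebra.TensorProduct.map (HopfAlgebra.antipodeAlgHom k A) (HopfAlgebra.antipodeAlgHom k A)).comp
        ((Algebra.TensorProduct.comm k A A : A ⊗[k] A →ₐ[k] A ⊗[k] A).comp
          (Bialgebra.comulAlgHom k A)) := by
  let i₁ : WithConv (A →ₐ[k] A ⊗[k] A) := toConv Algebra.TensorProduct.includeLeft
  let i₂ : WithConv (A →ₐ[k] A ⊗[k] A) := toConv Algebra.TensorProduct.includeRight
  let d : WithConv (A →ₐ[k] A ⊗[k] A) := toConv (Bialgebra.comulAlgHom k A)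
  have hd : d = i₁ * i₂ := by
    rw [AlgHom.convMul_def]
    apply congrArg toConv
    have : (Algebra.TensorProduct.lmul' k (S := A ⊗[k] A)).comp
        (Algebra.TensorProduct.map (Algebra.TensorProduct.includeLeft : A →ₐ[k] A ⊗[k] A)
          (Algebra.TensorProduct.includeRight : A →ₐ[k] A ⊗[k] A)) = AlgHom.id k _ := by
      ext <;> simp
    change Bialgebra.comulAlgHom k A = (Algebra.TensorProduct.lmul' k (S := A ⊗[k] A)).comp
      ((Algebra.TensorProduct.map (Algebra.TensorProduct.includeLeft : A →ₐ[k] A ⊗[k] A)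
          (Algebra.TensorProduct.includeRight : A →ₐ[k] A ⊗[k] A)).comp (Bialgebra.comulAlgHom k A))
    rw [← AlgHom.comp_assoc, this, AlgHom.id_comp]
  have h1 : d⁻¹ = i₂⁻¹ * i₁⁻¹ := by rw [hd]; exact mul_inv_rev i₁ i₂
  have h2 : d⁻¹ = toConv ((Bialgebra.comulAlgHom k A).comp (HopfAlgebra.antipodeAlgHom k A)) := rfl
  have h3 : i₂⁻¹ * i₁⁻¹ = toConv ((Algebra.TensorProduct.map (HopfAlgebra.antipodeAlgHom k A)
      (HopfAlgebra.antipodeAlgHom k A)).comp
        ((Algebra.TensorProduct.comm k A A : A ⊗[k] A →ₐ[k] A ⊗[k] A).comp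
          (Bialgebra.comulAlgHom k A))) := by
    rw [AlgHom.convMul_def]
    apply congrArg toConv
    have : (Algebra.TensorProduct.lmul' k (S := A ⊗[k] A)).comp
        (Algebra.TensorProduct.map (i₂⁻¹).ofConv (i₁⁻¹).ofConv) =
        (Algebra.TensorProduct.map (HopfAlgebra.antipodeAlgHom k A)
          (HopfAlgebra.antipodeAlgHom k A)).comp
          (Algebra.TensorProduct.comm k A A : A ⊗[k] A →ₐ[k] A ⊗[k] A) := by
      ext a
      · change (Algebra.TensorProduct.lmul' k)
          ((Algebra.TensorProduct.map (i₂⁻¹).ofConv (i₁⁻¹).ofConv) (a ⊗ₜ 1)) = _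
        have e2 : (i₂⁻¹).ofConv = (Algebra.TensorProduct.includeRight : A →ₐ[k] A ⊗[k] A).comp
          (HopfAlgebra.antipodeAlgHom k A) := rfl
        simp [e2]
      · change (Algebra.TensorProduct.lmul' k)
          ((Algebra.TensorProduct.map (i₂⁻¹).ofConv (i₁⁻¹).ofConv) (1 ⊗ₜ a)) = _
        have e1 : (i₁⁻¹).ofConv = (Algebra.TensorProduct.includeLeft : A →ₐ[k] A ⊗[k] A).comp
          (HopfAlgebra.antipodeAlgHom k A) := rfl
        simp [e1]
    rw [← AlgHom.comp_assoc, this, AlgHom.comp_assoc]
  rw [h2, h3] at h1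
  exact WithConv.toConv_injective h1

/-- The antipode of a commutative Hopf algebra is anti-comultiplicative. -/
theorem comul_antipode (a : A) :
    CoalgebraStruct.comul (R := k) (HopfAlgebraStruct.antipode (R := k) a) =
      TensorProduct.map (HopfAlgebraStruct.antipode (R := k) (A := A))
        (HopfAlgebraStruct.antipode (R := k) (A := A))
        (TensorProduct.comm k A A (CoalgebraStruct.comul (R := k) a)) := by
  have := congrArg (fun f : A →ₐ[k] A ⊗[k] A => f a) (comulAlgHom_comp_antipode k A)
  exact this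

section Main

variable {k : Type u} {A : Type v} [CommRing k] [CommRing A] [HopfAlgebra k A]
  {M : Type w} [AddCommGroup M] [Module k M]

/-- `a ⊗ m ↦ m ⊗ S a` -/
noncomputable def Pmap : A ⊗[k] M →ₗ[k] M ⊗[k] A :=
  (TensorProduct.comm k A M).toLinearMap ∘ₗ
    (HopfAlgebraStruct.antipode (R := k) (A := A)).rTensor M

theorem Pmap_tmul (a : A) (m : M) :
    Pmap (k := k) (a ⊗ₜ[k] m) = m ⊗ₜ[k] HopfAlgebraStruct.antipode (R := k) a := rfl

theorem rcoactOfLeft_eq (l : ComodSub.LComod k A M) (m : M) :
    ComodSub.rcoactOfLeft l m = Pmap (l.coact m) := rfl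

/-- `a ⊗ (b ⊗ m) ↦ (m ⊗ S b) ⊗ S a` -/
noncomputable def Phimap : A ⊗[k] (A ⊗[k] M) →ₗ[k] (M ⊗[k] A) ⊗[k] A :=
  (TensorProduct.comm k A (M ⊗[k] A)).toLinearMap ∘ₗ
    TensorProduct.map (HopfAlgebraStruct.antipode (R := k) (A := A)) (Pmap (k := k) (A := A) (M := M))

theorem Phimap_tmul (a : A) (x : A ⊗[k] M) :
    Phimap (k := k) (a ⊗ₜ[k] x) = Pmap x ⊗ₜ[k] HopfAlgebraStruct.antipode (R := k) a := rfl

theorem claim1 (l : ComodSub.LComod k A M) (y : A ⊗[k] M) :
    (ComodSub.rcoactOfLeft l).rTensor A (Pmap y) = Phimap (l.coact.lTensor A y) := by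
  induction y using TensorProduct.induction_on with
  | zero => simp
  | tmul a m =>
    rw [Pmap_tmul, LinearMap.rTensor_tmul, LinearMap.lTensor_tmul, Phimap_tmul, rcoactOfLeft_eq]
  | add x y hx hy => rw [map_add, map_add, hx, hy, map_add, map_add]

theorem key2 (m : M) (x : A ⊗[k] A) :
    TensorProduct.assoc k M A A (Phimap (TensorProduct.assoc k A A M (x ⊗ₜ[k] m))) =
      m ⊗ₜ[k] TensorProduct.map (HopfAlgebraStruct.antipode (R := k) (A := A))
        (HopfAlgebraStruct.antipode (R := k) (A := A)) (TensorProduct.comm k A A x) := by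
  induction x using TensorProduct.induction_on with
  | zero => simp
  | tmul a b => rfl
  | add x y hx hy =>
    rw [TensorProduct.add_tmul, map_add, map_add, map_add, hx, hy, map_add, map_add,
      TensorProduct.tmul_add]

theorem claim2 (y : A ⊗[k] M) :
    TensorProduct.assoc k M A A (Phimap (TensorProduct.assoc k A A M
      ((CoalgebraStruct.comul (R := k) (A := A)).rTensor M y))) =
      (CoalgebraStruct.comul (R := k) (A := A)).lTensor M (Pmap y) := by
  induction y using TensorProduct.induction_on with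
  | zero => simp
  | tmul a m =>
    rw [LinearMap.rTensor_tmul, key2, Pmap_tmul, LinearMap.lTensor_tmul, comul_antipode]
  | add x y hx hy => simp only [map_add, hx, hy]

theorem counit_Pmap (y : A ⊗[k] M) :
    (CoalgebraStruct.counit (R := k) (A := A)).lTensor M (Pmap y) =
      TensorProduct.comm k k M ((CoalgebraStruct.counit (R := k) (A := A)).rTensor M y) := by
  induction y using TensorProduct.induction_on with
  | zero => simp
  | tmul a m =>
    rw [Pmap_tmul, LinearMap.lTensor_tmul, LinearMap.rTensor_tmul, TensorProduct.comm_tmul,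
      HopfAlgebra.counit_antipode]
  | add x y hx hy => simp only [map_add, hx, hy]

end Main

end Helpers

/-- Let `k` be a commutative ring, `A` a commutative Hopf algebra over `k` with antipode `S`, and `M` a
`k`-module with a left `A`-comodule structure `m ↦ Σ m₋₁ ⊗ m₀`. Then the map `M → M ⊗ A`, `m ↦ Σ m₀
⊗ S(m₋₁)`, is coassociative and counital: it is the coaction of a right `A`-comodule structure on
`M` (a right structure is determined by its coaction, so this structure is unique). -/
theorem result (k : Type u) [CommRing k]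
    (A : Type v) [CommRing A] [HopfAlgebra k A]
    (M : Type w) [AddCommGroup M] [Module k M] (l : ComodSub.LComod k A M) :
    ∃ c : HopfRep.Comod k A M, c.coact = ComodSub.rcoactOfLeft l := by
  refine ⟨{ coact := ComodSub.rcoactOfLeft l, coassoc := ?_, counit_comp := ?_ }, rfl⟩
  · apply LinearMap.ext
    intro m
    simp only [LinearMap.comp_apply, LinearEquiv.coe_coe]
    rw [rcoactOfLeft_eq, claim1, ← claim2]
    have h := LinearMap.congr_fun l.coassoc m
    simp only [LinearMap.comp_apply, LinearEquiv.coe_coe] at h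
    rw [h]
  · apply LinearMap.ext
    intro m
    simp only [LinearMap.comp_apply]
    rw [rcoactOfLeft_eq, counit_Pmap]
    have h := LinearMap.congr_fun l.counit_comp m
    simp only [LinearMap.comp_apply] at h
    rw [h]
    rfl

end Groth.Agent.S16688
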