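import Groth.Statements.S16689
import Groth.Agent.S16688
-- import your own Groth.Agent.* helpers here

set_option autoImplicit false
universe u v w
open ComodSub

namespace Groth.Agent.S16689

section Main

open TensorProduct

variable {k : Type u} {A : Type v} [CommRing k] [CommRing A] [HopfAlgebra k A]
  {M : Type w} [AddCommGroup M] [Module k M]

/-- `m ⊗ a ↦ S a ⊗ m` -/
noncomputable def Qmap : M ⊗[k] A →ₗ[k] A ⊗[k] M :=
  (TensorProduct.comm k M A).toLinearMap ∘ₗ
    (HopfAlgebraStruct.antipode (R := k) (A := A)).lTensor M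

theorem Qmap_tmul (m : M) (a : A) :
    Qmap (k := k) (m ⊗ₜ[k] a) = HopfAlgebraStruct.antipode (R := k) a ⊗ₜ[k] m := rfl

theorem lcoactOfRight_eq (c : HopfRep.Comod k A M) (m : M) :
    ComodSub.lcoactOfRight c m = Qmap (c.coact m) := rfl

/-- `(m ⊗ b) ⊗ a ↦ S a ⊗ (S b ⊗ m)` -/
noncomputable def Phimap' : (M ⊗[k] A) ⊗[k] A →ₗ[k] A ⊗[k] (A ⊗[k] M) :=
  TensorProduct.map (HopfAlgebraStruct.antipode (R := k) (A := A)) (Qmap (k := k) (A := A) (M := M)) ∘ₗ
    (TensorProduct.comm k (M ⊗[k] A) A).toLinearMap

theorem Phimap'_tmul (x : M ⊗[k] A) (a : A) :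
    Phimap' (k := k) (x ⊗ₜ[k] a) = HopfAlgebraStruct.antipode (R := k) a ⊗ₜ[k] Qmap x := rfl

theorem claim1' (c : HopfRep.Comod k A M) (y : M ⊗[k] A) :
    (ComodSub.lcoactOfRight c).lTensor A (Qmap y) = Phimap' (c.coact.rTensor A y) := by
  induction y using TensorProduct.induction_on with
  | zero => simp
  | tmul m a =>
    rw [Qmap_tmul, LinearMap.lTensor_tmul, LinearMap.rTensor_tmul, Phimap'_tmul, lcoactOfRight_eq]
  | add x y hx hy => rw [map_add, map_add, hx, hy, map_add, map_add]

theorem key2' (m : M) (x : A ⊗[k] A) :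
    Phimap' ((TensorProduct.assoc k M A A).symm (m ⊗ₜ[k] x)) =
      TensorProduct.assoc k A A M
        ((TensorProduct.map (HopfAlgebraStruct.antipode (R := k) (A := A))
          (HopfAlgebraStruct.antipode (R := k) (A := A)) (TensorProduct.comm k A A x)) ⊗ₜ[k] m) := by
  induction x using TensorProduct.induction_on with
  | zero => simp
  | tmul a b => rfl
  | add x y hx hy =>
    rw [TensorProduct.tmul_add, map_add, map_add, hx, hy, map_add, map_add,
      TensorProduct.add_tmul, map_add]

theorem claim2' (y : M ⊗[k] A) :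
    Phimap' ((TensorProduct.assoc k M A A).symm
      ((CoalgebraStruct.comul (R := k) (A := A)).lTensor M y)) =
      TensorProduct.assoc k A A M
        ((CoalgebraStruct.comul (R := k) (A := A)).rTensor M (Qmap y)) := by
  induction y using TensorProduct.induction_on with
  | zero => simp
  | tmul m a =>
    rw [LinearMap.lTensor_tmul, key2', Qmap_tmul, LinearMap.rTensor_tmul,
      Groth.Agent.S16688.comul_antipode]
  | add x y hx hy => simp only [map_add, hx, hy]

theorem counit_Qmap (y : M ⊗[k] A) :
    (CoalgebraStruct.counit (R := k) (A := A)).rTensor M (Qmap y) =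
      TensorProduct.comm k M k ((CoalgebraStruct.counit (R := k) (A := A)).lTensor M y) := by
  induction y using TensorProduct.induction_on with
  | zero => simp
  | tmul m a =>
    rw [Qmap_tmul, LinearMap.lTensor_tmul, LinearMap.rTensor_tmul, TensorProduct.comm_tmul,
      HopfAlgebra.counit_antipode]
  | add x y hx hy => simp only [map_add, hx, hy]

end Main

/-- Let `k` be a commutative ring, `A` a commutative Hopf algebra over `k` with antipode `S`, and `M` a
`k`-module with a right `A`-comodule structure `m ↦ Σ m₀ ⊗ m₁`. Then the map `M → A ⊗ M`, `m ↦ Σ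
S(m₁) ⊗ m₀`, is coassociative and counital: it is the coaction of a left `A`-comodule structure on
`M` (a left structure is determined by its coaction, so this structure is unique). -/
theorem result (k : Type u) [CommRing k]
    (A : Type v) [CommRing A] [HopfAlgebra k A]
    (M : Type w) [AddCommGroup M] [Module k M] (c : HopfRep.Comod k A M) :
    ∃ l : ComodSub.LComod k A M, l.coact = ComodSub.lcoactOfRight c := by
  refine ⟨{ coact := ComodSub.lcoactOfRight c, coassoc := ?_, counit_comp := ?_ }, rfl⟩
  · apply LinearMap.ext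
    intro m
    simp only [LinearMap.comp_apply, LinearEquiv.coe_coe]
    rw [lcoactOfRight_eq, claim1', ← claim2']
    have h := LinearMap.congr_fun c.coassoc m
    simp only [LinearMap.comp_apply, LinearEquiv.coe_coe] at h
    rw [← h, LinearEquiv.symm_apply_apply]
  · apply LinearMap.ext
    intro m
    simp only [LinearMap.comp_apply]
    rw [lcoactOfRight_eq, counit_Qmap]
    have h := LinearMap.congr_fun c.counit_comp m
    simp only [LinearMap.comp_apply] at h
    rw [h]
    rfl

end Groth.Agent.S16689
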