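import Groth.Statements.S1669
import Groth.Agent.Lib.H30GeomNormalPt
import Groth.Agent.Lib.H14GeomP5
import Groth.Agent.Lib.H87Serre2
import Mathlib

set_option autoImplicit false
universe u
open CategoryTheory CategoryTheory.Limits AlgebraicGeometry
open Variety
attribute [local instance] Curv2.stalkAlgebra
open scoped TensorProduct

namespace Groth.Agent.S1669

open Groth.Agent.Lib.H71GeomRedAt Groth.Agent.Lib.H30GeomNormalPt Groth.Agent.Lib.H14GeomP in
theorem tensor_of_pi (k : Type u) [Field k] (X : Scheme.{u}) [X.Over (Spec (CommRingCat.of k))]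
    [IsLocallyNoetherian X] (x : ↥X)
    (h2 : ∀ (k' : Type u) [Field k'] [Algebra k k'] [FiniteDimensional k k'] [IsPurelyInseparable k k']
      (x' : ↥(Curv2.bc k X k')), IsRegularLocalRing ↥((Curv2.bc k X k').presheaf.stalk x')) :
    G0 (fun (R : Type u) [CommRing R] => IsRegularRing R) k ↥(X.presheaf.stalk x) := by
  rw [g0_iff_pi good_regular]
  intro K _ _ hfin hpi
  haveI : FiniteDimensional k K := hfin
  haveI : IsPurelyInseparable k K := hpi
  haveI : Algebra.IsAlgebraic k K := Algebra.IsAlgebraic.of_finite k K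
  haveI : IsNoetherianRing (X.presheaf.stalk x ⊗[k] K) :=
    IsNoetherianRing.of_finite (X.presheaf.stalk x) _
  suffices hR : IsRegularRing (X.presheaf.stalk x ⊗[k] K) from
    good_regular.of_equiv (Algebra.TensorProduct.comm k (X.presheaf.stalk x) K).toRingEquiv hR
  apply Groth.Agent.Lib.H87Serre2.isRegularRing_of_maximal
  intro M hM
  set e := isoSpecTensor k X x K
  let p : ↥(Spec (CommRingCat.of (X.presheaf.stalk x ⊗[k] K))) := ⟨M, hM.isPrime⟩
  set w := e.inv p with hw
  have hreg := h2 K (pullback.snd (X.fromSpecStalk x) (Curv2.bcFst k X K) w)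
  haveI := hM.isPrime
  have hwp : e.hom w = (⟨M, hM.isPrime⟩ : PrimeSpectrum (X.presheaf.stalk x ⊗[k] K)) := by
    rw [hw, ← Scheme.Hom.comp_apply, Iso.inv_hom_id]
    rfl
  obtain ⟨eq⟩ := nonempty_stalk_equiv k X x K w M hwp
  exact @IsRegularLocalRing.of_ringEquiv _ _ hreg _ _ eq


open Groth.Agent.Lib.H71GeomRedAt Groth.Agent.Lib.H30GeomNormalPt Groth.Agent.Lib.H14GeomP in
theorem of_tensor (k : Type u) [Field k] (X : Scheme.{u}) [X.Over (Spec (CommRingCat.of k))] (x : ↥X)
    (k' : Type u) [Field k'] [Algebra k k']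
    (h3 : IsRegularRing (k' ⊗[k] ↥(X.presheaf.stalk x)))
    (x' : ↥(Curv2.bc k X k')) (hx' : Curv2.bcFst k X k' x' = x) :
    IsRegularLocalRing ↥((Curv2.bc k X k').presheaf.stalk x') := by
  have hR : IsRegularRing (X.presheaf.stalk x ⊗[k] k') :=
    good_regular.of_equiv (Algebra.TensorProduct.comm k k' (X.presheaf.stalk x)).toRingEquiv h3
  obtain ⟨w, hw1, hw2⟩ := Scheme.Pullback.exists_preimage_pullback
    (f := X.fromSpecStalk x) (g := Curv2.bcFst k X k')
    (IsLocalRing.closedPoint (X.presheaf.stalk x)) x'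
    (by rw [Scheme.fromSpecStalk_closedPoint, hx'])
  subst hw2
  let p : PrimeSpectrum (X.presheaf.stalk x ⊗[k] k') := (isoSpecTensor k X x k').hom w
  haveI := p.isPrime
  obtain ⟨eq⟩ := nonempty_stalk_equiv k X x k' w p.asIdeal rfl
  have h4 : IsRegularLocalRing (Localization.AtPrime p.asIdeal) :=
    (isRegularRing_iff.mp hR) p.asIdeal
  exact @IsRegularLocalRing.of_ringEquiv _ _ h4 _ _ eq.symm

theorem essFiniteType_of_top_fg (k k' : Type u) [Field k] [Field k'] [Algebra k k']
    (h : (⊤ : IntermediateField k k').FG) : Algebra.EssFiniteType k k' := by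
  haveI : Algebra.EssFiniteType k (⊤ : IntermediateField k k') :=
    IntermediateField.essFiniteType_iff.mpr h
  exact Algebra.EssFiniteType.of_surjective (IntermediateField.topEquiv (F := k) (E := k')).toAlgHom
    (IntermediateField.topEquiv (F := k) (E := k')).surjective


/-- Let X be a locally Noetherian scheme over k such that X_{k'} has regular local rings for every
finite purely inseparable extension k' of k. Then X is geometrically regular over k at every point
(its base change to any finitely generated field extension has regular local rings). -/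
theorem result (k : Type u) [Field k] (X : Scheme.{u}) [X.Over (Spec (CommRingCat.of k))] [IsLocallyNoetherian X]
    (h : ∀ (k' : Type u) [Field k'] [Algebra k k'] [FiniteDimensional k k'] [IsPurelyInseparable k k']
      (x' : Curv2.bc k X k'), IsRegularLocalRing ((Curv2.bc k X k').presheaf.stalk x'))
    (x : X) : Curv2.IsGeomRegularAt k X x := by
  intro k' _ _ hfg x' hx'
  haveI : Algebra.EssFiniteType k k' := essFiniteType_of_top_fg k k' hfg
  have hG := tensor_of_pi k X x (fun K _ _ _ _ y => h K y)
  haveI : IsNoetherianRing ↥(X.presheaf.stalk x) := inferInstance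
  have h3 : IsRegularRing (k' ⊗[k] ↥(X.presheaf.stalk x)) :=
    (Groth.Agent.Lib.H14GeomP.g0_iff_fg Groth.Agent.Lib.H14GeomP.good_regular k _).mp hG k' inferInstance
  exact of_tensor k X x k' h3 x' hx'

end Groth.Agent.S1669
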