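import Groth.Statements.S16691
import Groth.Agent.Lib.ComodHomFix
import Groth.Agent.Lib.DualTensorFlat

set_option autoImplicit false
universe u v w w'
open scoped TensorProduct
open ComodTens

namespace Groth.Agent.S16691

open Groth.Agent.Lib.ComodHomFix in
theorem psi_injective_of {k : Type u} [CommRing k] {A : Type v} [CommRing A] [HopfAlgebra k A]
    {M : Type w'} [AddCommGroup M] [Module k M] {B : Type w} [AddCommGroup B] [Module k B]
    (h1 : Function.Injective (dualTensorHom k M (B ⊗[k] A))) :
    Function.Injective (psi k A M B) := by
  have h2 : Function.Injective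
      ((TensorProduct.assoc k (Module.Dual k M) B A).toLinearMap ∘ₗ
        ((TensorProduct.comm k B (Module.Dual k M)).toLinearMap).rTensor A) := by
    have : ((TensorProduct.comm k B (Module.Dual k M)).toLinearMap).rTensor A =
        ((TensorProduct.comm k B (Module.Dual k M)).rTensor A).toLinearMap := rfl
    rw [this]
    exact (TensorProduct.assoc k (Module.Dual k M) B A).injective.comp
      ((TensorProduct.comm k B (Module.Dual k M)).rTensor A).injective
  exact h1.comp h2

/-- Let `k` be a commutative ring, `A` a commutative Hopf algebra over `k`, flat over `k`, `B` a flat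
`k`-module with a right `A`-comodule structure, and `M` a finitely presented `k`-module with a right
`A`-comodule structure; let `M^*` carry the contragredient structure `d` (for each form `f`, `d f`
read as a map `M → A` is `m ↦ Σ f(m₀) S(m₁)`) and `B ⊗ M^*` the tensor-product coaction `b ⊗ φ ↦ Σ
(b₀ ⊗ φ₀) ⊗ b₁ φ₁`. Then `b ⊗ φ ↦ (m ↦ φ(m) b)` restricts to a bijection from the invariants `(B ⊗
M^*)^A` (elements with coaction `x ⊗ 1`) onto the `A`-comodule maps `M → B`. (The published
statement assumes `B` only finitely presented over `k`; for `k = ℤ`, `A = ℤ` the Hopf algebra of the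
trivial group and `B = M = ℤ/2` with trivial coactions, `M^* = 0` so the invariants vanish while the
identity of `ℤ/2` is a comodule map, and the published proof uses that `B ⊗ M^* → Hom(M, B)` is
bijective, which holds for `B` flat; so `B` is taken flat here.) -/
theorem result (k : Type u) [CommRing k]
    (A : Type v) [CommRing A] [HopfAlgebra k A] [Module.Flat k A]
    (B : Type w) [AddCommGroup B] [Module k B] [Module.Flat k B] (cB : HopfRep.Comod k A B)
    (M : Type w') [AddCommGroup M] [Module k M] [Module.FinitePresentation k M]
    (cM : HopfRep.Comod k A M)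
    (d : HopfRep.Comod k A (Module.Dual k M)) (hd : ComodTens.Comod.IsDual cM d) :
    Set.BijOn
      (fun x : B ⊗[k] Module.Dual k M => dualTensorHom k M B (TensorProduct.comm k B (Module.Dual k M) x))
      ((@HopfRep.fixedPts k A _ _ _ (B ⊗[k] Module.Dual k M) _ _ (ComodTens.Comod.tensor cB d)) :
        Set (B ⊗[k] Module.Dual k M))
      {h : M →ₗ[k] B | @Hoch.IsComodHom k _ A _ _ _ M _ _ cM B _ _ cB h} := by
  have hpsi : Function.Injective (Groth.Agent.Lib.ComodHomFix.psi k A M B) :=
    psi_injective_of
      (Groth.Agent.Lib.DualTensorFlat.dualTensorHom_injective_of_finite_flat k M (B ⊗[k] A))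
  have hbij := Groth.Agent.Lib.DualTensorFlat.dualTensorHom_bijective_of_finitePresentation_flat k M B
  have hiff := Groth.Agent.Lib.ComodHomFix.mem_fixedPts_iff_isComodHom cM cB d hd hpsi
  refine ⟨?_, ?_, ?_⟩
  · intro x hx
    exact (hiff x).mp hx
  · intro x _ y _ hxy
    exact (TensorProduct.comm k B (Module.Dual k M)).injective (hbij.1 hxy)
  · intro h hh
    obtain ⟨y, hy⟩ := hbij.2 h
    refine ⟨(TensorProduct.comm k B (Module.Dual k M)).symm y, ?_, ?_⟩
    · apply (hiff _).mpr
      have : Groth.Agent.Lib.ComodHomFix.phi k M B
          ((TensorProduct.comm k B (Module.Dual k M)).symm y) = h := by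
        show dualTensorHom k M B ((TensorProduct.comm k B (Module.Dual k M))
          ((TensorProduct.comm k B (Module.Dual k M)).symm y)) = h
        rw [LinearEquiv.apply_symm_apply, hy]
      rw [this]
      exact hh
    · show dualTensorHom k M B ((TensorProduct.comm k B (Module.Dual k M))
        ((TensorProduct.comm k B (Module.Dual k M)).symm y)) = h
      rw [LinearEquiv.apply_symm_apply, hy]

end Groth.Agent.S16691
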