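import Groth.Statements.S16699
import Groth.Agent.Lib.AlgStRepC
import Groth.Agent.Lib.AlgStDiagSch
import Groth.Agent.Lib.AlgStEquiv
import Groth.Agent.Lib.AlgStFp

set_option autoImplicit false
universe u
open AlgSt AlgSt.IsWellNighAffine

namespace Groth.Agent.S16699

open CategoryTheory AlgebraicGeometry in
/-- An algebraic stack affine over a well-nigh affine algebraic stack is well-nigh affine. -/
theorem result (S : Scheme.{u}) (𝒳 𝒳' : AlgSt.Cat S)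
    (h𝒳 : AlgSt.IsAlgStack Scheme.fppfPrecoverage 𝒳) (h𝒳' : AlgSt.IsAlgStack Scheme.fppfPrecoverage 𝒳')
    (hw : AlgSt.IsWellNighAffine 𝒳) (f : 𝒳' ⥤ᵇ 𝒳) (hf : AlgSt.RepByAlgSpWith AlgSp.IsAffineMor f) :
    AlgSt.IsWellNighAffine 𝒳' := by
  obtain ⟨U, x, hU, hx⟩ := hw
  obtain ⟨F, e, he, hP⟩ := hf U x
  obtain ⟨W, i, fst, hpb, hW⟩ := hP hU (𝟙 _)
  haveI : IsIso fst := hpb.isIso_fst_of_isIso
  let c : FibCat.overCat W ⥤ᵇ FibCat.fp x f :=
    BasedFunctor.comp (AlgSt.ofOverCat W) (BasedFunctor.comp (AlgSt.ofSpMap fst) e)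
  have hc : FibCat.IsEquivOver c :=
    Groth.Agent.Lib.FpEquiv.isEquivOver_comp (Groth.Agent.Lib.AlgStFp.ofOverCat_isEquivOver W)
      (Groth.Agent.Lib.FpEquiv.isEquivOver_comp
        (Groth.Agent.Lib.AlgStDiagSch.ofSpMap_isEquivOver (asIso fst)) he)
  refine ⟨W, BasedFunctor.comp c (FibCat.fpSnd x f), hW, ?_⟩
  exact (Groth.Agent.Lib.AlgStEquiv.repByAlgSpWith_equiv_comp_iff _ c hc _).1
    (Groth.Agent.Lib.AlgStRepC.repByAlgSpWith_fpSnd _ x f hx)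

end Groth.Agent.S16699
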