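import Groth.Statements.S1670
import Groth.Agent.Lib.GalAct13f

set_option autoImplicit false
universe u
open CategoryTheory CategoryTheory.Limits AlgebraicGeometry
open Variety

namespace Groth.Agent.S1670

/-- Let X be locally of finite type over k, K a separable closure of k, and T an irreducible component
of X. Then the inverse image of T in X_K is the union of the finitely many irreducible components of
X_K mapping into T, and these form a single orbit under the action of the k-automorphisms of K on
X_K. -/
theorem result (k : Type u) [Field k] (X : Scheme.{u}) [X.Over (Spec (CommRingCat.of k))] [LocallyOfFiniteType (X ↘ (Spec (CommRingCat.of k)))]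
    (T : Set X) (hT : T ∈ irreducibleComponents (X : Type u)) :
    {T' : Set (Curv2.bc k X (SeparableClosure k)) | T' ∈ irreducibleComponents (Curv2.bc k X (SeparableClosure k) : Type u) ∧
        (Curv2.bcFst k X (SeparableClosure k)).base '' T' ⊆ T}.Finite ∧
      (Curv2.bcFst k X (SeparableClosure k)).base ⁻¹' T = ⋃₀ {T' : Set (Curv2.bc k X (SeparableClosure k)) | T' ∈ irreducibleComponents (Curv2.bc k X (SeparableClosure k) : Type u) ∧
        (Curv2.bcFst k X (SeparableClosure k)).base '' T' ⊆ T} ∧
      ∀ T' T'' : Set (Curv2.bc k X (SeparableClosure k)), T' ∈ irreducibleComponents (Curv2.bc k X (SeparableClosure k) : Type u) →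
        T'' ∈ irreducibleComponents (Curv2.bc k X (SeparableClosure k) : Type u) →
        (Curv2.bcFst k X (SeparableClosure k)).base '' T' ⊆ T → (Curv2.bcFst k X (SeparableClosure k)).base '' T'' ⊆ T →
        ∃ σ : (SeparableClosure k) ≃ₐ[k] (SeparableClosure k), (Curv2.galAct k X (SeparableClosure k) σ).base '' T' = T'' := by
  have himg : ∀ T' : Set (Curv2.bc k X (SeparableClosure k)),
      T' ∈ irreducibleComponents (Curv2.bc k X (SeparableClosure k) : Type u) →
      (Curv2.bcFst k X (SeparableClosure k)).base '' T' ⊆ T →
      (Curv2.bcFst k X (SeparableClosure k)).base '' T' = T := by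
    intro T' hT' hsub
    have h1 := Groth.Agent.Lib.GalAct13.image_mem_irreducibleComponents (SeparableClosure k)
      (X ↘ Spec (CommRingCat.of k)) T' hT'
    exact subset_antisymm hsub (h1.2 hT.1 hsub)
  refine ⟨Groth.Agent.Lib.GalAct13.finite_irreducibleComponents_over (SeparableClosure k)
    (X ↘ Spec (CommRingCat.of k)) T hT, ?_, ?_⟩
  · ext z
    constructor
    · intro hz
      obtain ⟨T', hT', hzT', hT'T⟩ :=
        Groth.Agent.Lib.GalAct13.exists_irreducibleComponent_of_mem_preimage (SeparableClosure k)
          (X ↘ Spec (CommRingCat.of k)) T hT z hz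
      exact ⟨T', ⟨hT', hT'T.le⟩, hzT'⟩
    · rintro ⟨T', ⟨-, hsub⟩, hzT'⟩
      exact hsub ⟨z, hzT', rfl⟩
  · intro T' T'' hT' hT'' hsub' hsub''
    exact Groth.Agent.Lib.GalAct13.exists_act_image_eq_of_image_eq (SeparableClosure k)
      (X ↘ Spec (CommRingCat.of k)) T' T'' (isClosed_of_mem_irreducibleComponents _ hT') hT'.1
      (isClosed_of_mem_irreducibleComponents _ hT'') hT''.1
      ((himg T' hT' hsub').trans (himg T'' hT'' hsub'').symm)

end Groth.Agent.S1670
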