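import Groth.Statements.S16707
import Mathlib.RingTheory.Flat.Equalizer
import Mathlib.LinearAlgebra.TensorProduct.Quotient
import Mathlib.LinearAlgebra.TensorProduct.RightExactness

set_option autoImplicit false
universe u v
open CAlg

namespace Groth.Agent.S16707

open TensorProduct in
theorem subsingleton_of_tensor_quot {A : Type*} [CommRing A] (I : Ideal A) (hI : IsNilpotent I)
    (C : Type*) [AddCommGroup C] [Module A C] (h : Subsingleton ((A ⧸ I) ⊗[A] C)) :
    Subsingleton C := by
  have htop : I • (⊤ : Submodule A C) = ⊤ := by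
    have : Subsingleton (C ⧸ I • (⊤ : Submodule A C)) :=
      (TensorProduct.quotTensorEquivQuotSMul C I).symm.toEquiv.subsingleton
    exact Submodule.Quotient.subsingleton_iff.mp this
  obtain ⟨n, hn⟩ := hI
  have hpow : ∀ m : ℕ, I ^ m • (⊤ : Submodule A C) = ⊤ := by
    intro m
    induction m with
    | zero => rw [pow_zero, Ideal.one_eq_top, Submodule.top_smul]
    | succ m ih => rw [pow_succ, Submodule.mul_smul, htop, ih]
  have h0 : (⊤ : Submodule A C) = ⊥ := by
    rw [← hpow n, hn]
    exact Submodule.bot_smul _
  exact (Submodule.subsingleton_iff A).mp (subsingleton_iff_bot_eq_top.mp h0.symm)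

open TensorProduct in
/-- Let A be a commutative ring, I a nilpotent ideal of A and f : M → N a homomorphism of A-modules with
N flat over A (no finiteness assumption on M or N). If the base change of f to A/I, that is M/IM →
N/IN, is bijective, then f is bijective. -/
theorem result (A : Type u) [CommRing A] (I : Ideal A)
    (hI : IsNilpotent I) (M N : Type v) [AddCommGroup M] [Module A M] [AddCommGroup N] [Module A N]
    [Module.Flat A N] (f : M →ₗ[A] N)
    (hf : Function.Bijective (f.baseChange (A ⧸ I))) :
    Function.Bijective f := by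
  have hbc : ∀ x, f.baseChange (A ⧸ I) x = f.lTensor (A ⧸ I) x := fun x => rfl
  have hsurj : Function.Surjective f := by
    rw [← LinearMap.range_eq_top]
    have hex : Function.Exact f (LinearMap.range f).mkQ := LinearMap.exact_map_mkQ_range f
    have hex' := lTensor_exact (A ⧸ I) hex (Submodule.mkQ_surjective _)
    have hss : Subsingleton ((A ⧸ I) ⊗[A] (N ⧸ LinearMap.range f)) := by
      constructor
      intro x y
      obtain ⟨x', rfl⟩ := LinearMap.lTensor_surjective (A ⧸ I) (Submodule.mkQ_surjective (LinearMap.range f)) x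
      obtain ⟨y', rfl⟩ := LinearMap.lTensor_surjective (A ⧸ I) (Submodule.mkQ_surjective (LinearMap.range f)) y
      obtain ⟨x'', rfl⟩ := hf.2 x'
      obtain ⟨y'', rfl⟩ := hf.2 y'
      rw [hbc, hbc, (hex' _).mpr ⟨x'', rfl⟩, (hex' _).mpr ⟨y'', rfl⟩]
    have := subsingleton_of_tensor_quot I hI (N ⧸ LinearMap.range f) hss
    exact Submodule.Quotient.subsingleton_iff.mp this
  refine ⟨?_, hsurj⟩
  rw [← LinearMap.ker_eq_bot]
  have hinj := LinearMap.lTensor_injective_of_exact_of_flat f hsurj (LinearMap.ker f).subtype
    (LinearMap.ker f).subtype_injective (LinearMap.exact_subtype_ker_map f) (A ⧸ I)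
  have hss : Subsingleton ((A ⧸ I) ⊗[A] LinearMap.ker f) := by
    constructor
    intro x y
    apply hinj
    apply hf.1
    rw [hbc, hbc, ← LinearMap.comp_apply, ← LinearMap.comp_apply, ← LinearMap.lTensor_comp]
    have : f ∘ₗ (LinearMap.ker f).subtype = 0 := by
      apply LinearMap.ext
      intro z
      exact z.2
    rw [this, LinearMap.lTensor_zero, LinearMap.zero_apply, LinearMap.zero_apply]
  have := subsingleton_of_tensor_quot I hI (LinearMap.ker f) hss
  exact (Submodule.subsingleton_iff_eq_bot).mp this

end Groth.Agent.S16707
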