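import Groth.Statements.S16708
import Groth.Agent.Lib.ComodFP
import Groth.Agent.Lib.ComodDualAlg

set_option autoImplicit false
universe u
open HopfRep

namespace Groth.Agent.S16708

open TensorProduct Groth.Agent.Lib.Comod ConstGrp

section Aux

variable {k : Type u} [Field k] {G : Type u} [Group G] [Fintype G] [DecidableEq G]

/-- The functional "evaluation at `g`". -/
noncomputable def evL (g : G) : ConstGrp.F k G →ₗ[k] k := (ConstGrp.ev k g).toLinearMap

theorem evL_apply (g : G) (f : ConstGrp.F k G) : evL g f = f g := rfl

/-- Every functional is a combination of evaluations. -/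
theorem functional_eq_sum (φ : ConstGrp.F k G →ₗ[k] k) :
    φ = ∑ g : G, φ (ConstGrp.e k g) • evL g := by
  apply ConstGrp.linearMap_ext
  intro t
  rw [LinearMap.sum_apply, Finset.sum_eq_single t]
  · rw [LinearMap.smul_apply, evL_apply, ConstGrp.e_apply_self, smul_eq_mul, mul_one]
  · intro g _ hg
    rw [LinearMap.smul_apply, evL_apply, ConstGrp.e_apply_of_ne hg, smul_zero]
  · intro ht
    exact absurd (Finset.mem_univ t) ht

/-- Convolution of evaluations. -/
theorem evL_conv (h g : G) :
    (WithConv.toConv (evL (k := k) h) * WithConv.toConv (evL g) : DualAlg k (ConstGrp.F k G)) =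
      WithConv.toConv (evL (h * g)) := by
  apply WithConv.ofConv_injective
  apply ConstGrp.linearMap_ext
  intro t
  show ((WithConv.toConv (evL (k := k) h) * WithConv.toConv (evL g) :
    DualAlg k (ConstGrp.F k G))) (ConstGrp.e k t) = _
  rw [LinearMap.convMul_apply, ConstGrp.comul_e, map_sum, map_sum]
  simp only [TensorProduct.map_tmul, LinearMap.mul'_apply, WithConv.ofConv_toConv, evL_apply]
  rw [Finset.sum_eq_single h]
  · rw [ConstGrp.e_apply_self, one_mul, ConstGrp.e_apply, ConstGrp.e_apply]
    congr 1
    apply propext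
    constructor
    · intro h1; rw [h1, mul_inv_cancel_left]
    · intro h1; rw [← h1, inv_mul_cancel_left]
  · intro a _ ha
    rw [ConstGrp.e_apply_of_ne (Ne.symm ha), zero_mul]
  · intro hh
    exact absurd (Finset.mem_univ h) hh

variable {X : Type u} [AddCommGroup X] [Module k X] [HopfRep.Comod k (ConstGrp.F k G) X]

theorem act_evL_mul (h g : G) (x : X) :
    act X (evL (k := k) h) (act X (evL (k := k) g) x) = act X (evL (k := k) (h * g)) x := by
  have := act_mul (k := k) (C := ConstGrp.F k G) (V := X) (WithConv.toConv (evL (k := k) h))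
    (WithConv.toConv (evL (k := k) g)) x
  rw [evL_conv] at this
  exact this.symm

/-- A vector fixed by every group element is fixed. -/
theorem mem_fixedPts_of_forall_act (x : X) (hx : ∀ g : G, act X (evL (k := k) g) x = x) :
    x ∈ HopfRep.fixedPts k (ConstGrp.F k G) X := by
  show HopfRep.Comod.coact (k := k) (A := ConstGrp.F k G) x = x ⊗ₜ[k] (1 : ConstGrp.F k G)
  apply Groth.Agent.Lib.ComodFP.eq_of_forall_contr_eq
  intro φ
  rw [contr_tmul]
  have h1 : contr X φ (HopfRep.Comod.coact (k := k) (A := ConstGrp.F k G) x) =
      ∑ g : G, φ (ConstGrp.e k g) • x := by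
    conv_lhs => rw [functional_eq_sum φ]
    have hsum : ∀ (s : Finset G) (y : X ⊗[k] ConstGrp.F k G),
        contr X (∑ g ∈ s, φ (ConstGrp.e k g) • evL g) y =
          ∑ g ∈ s, φ (ConstGrp.e k g) • contr X (evL g) y := by
      intro s y
      induction s using Finset.induction_on with
      | empty => simp [contr_zero]
      | insert a s ha ih => rw [Finset.sum_insert ha, Finset.sum_insert ha, contr_add, contr_smul, ih]
    rw [hsum]
    refine Finset.sum_congr rfl fun g _ => ?_
    rw [← act_apply, hx g]
  rw [h1, ← Finset.sum_smul, ← map_sum, ConstGrp.sum_e]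

end Aux

/-- Let G be a finite group and k a field in which the order of G is a nonzero element. Then the
constant group scheme of G over k is linearly reductive: every finite-dimensional comodule over its
coordinate Hopf algebra (the algebra of functions G → k with the Hopf structure of the constant
group) is semisimple, i.e. every subcomodule admits a complementary subcomodule. -/
theorem result (k : Type u) [Field k] (G : Type u) [Group G]
    [Fintype G] [DecidableEq G] (hG : ((Fintype.card G : ℕ) : k) ≠ 0) :
    HopfRep.IsLinearlyReductive k (ConstGrp.F k G) := by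
  intro V _ _ cV hfin W hW
  refine Groth.Agent.Lib.ComodFP.exists_isCompl_of_FP cV W hW ?_
  intro X _ _ cX hXfin π hπ hπc
  obtain ⟨m, hm⟩ := hπ 1
  let cT := HopfRep.Comod.trivial k (ConstGrp.F k G) k
  have hπhom : @Hoch.IsComodHom k _ (ConstGrp.F k G) _ _ _ X _ _ _ k _ _ cT π := hπc.symm
  have hπact : ∀ (g : G) (y : X), π (Groth.Agent.Lib.Comod.act X (evL (k := k) g) y) = π y := by
    intro g y
    have := @Groth.Agent.Lib.Comod.IsComodHom.act_comm k (ConstGrp.F k G) _ _ _ _ X _ _ _ k _ _ cT π
      hπhom (evL g) y
    rw [← this]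
    have h2 := Groth.Agent.Lib.ComodFP.act_trivial (k := k) (A := ConstGrp.F k G) (evL g) (π y)
    rw [h2, evL_apply, ConstGrp.one_apply, one_smul]
  refine ⟨∑ g : G, Groth.Agent.Lib.Comod.act X (evL (k := k) g) m, ?_, ?_⟩
  · apply mem_fixedPts_of_forall_act
    intro h
    rw [map_sum]
    simp only [act_evL_mul]
    exact Fintype.sum_equiv (Equiv.mulLeft h) _ _ fun g => rfl
  · rw [map_sum]
    simp only [hπact, hm]
    rw [Finset.sum_const, Finset.card_univ, nsmul_eq_mul, mul_one]
    exact hG

end Groth.Agent.S16708
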