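import Groth.Statements.S16715
import Groth.Agent.Lib.Ferrand24m

set_option autoImplicit false
universe u
open FlatMor

namespace Groth.Agent.S16715

open Groth.Agent.Lib.Ferrand24 Groth.Agent.Lib.RingFibreSq24 in
open CategoryTheory CategoryTheory.Limits AlgebraicGeometry in
/-- Base change of pushouts along a closed immersion and an affine morphism. Let i : X₀ → X be a closed
immersion and f₀ : X₀ → Y₀ an affine morphism of schemes, and let Y together with an affine morphism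
f : X → Y and a closed immersion j : Y₀ → Y be a pushout of i and f₀ in the category of schemes
whose square is also cartesian. Let Y be a scheme over S such that X₀ is flat over S, and let S' → S
be any morphism. Then the base-changed square over S' is again a pushout in the category of schemes:
Y ×_S S' is the pushout of X ×_S S' and Y₀ ×_S S' along X₀ ×_S S'. -/
theorem result {X₀ X Y₀ Y S S' : Scheme.{u}}
    (i : X₀ ⟶ X) [IsClosedImmersion i] (f₀ : X₀ ⟶ Y₀) [IsAffineHom f₀] (f : X ⟶ Y) [IsAffineHom f]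
    (j : Y₀ ⟶ Y) [IsClosedImmersion j] (hpo : IsPushout i f₀ f j) (hpb : IsPullback i f₀ f j)
    (q : Y ⟶ S) [Flat ((i ≫ f) ≫ q)] (g : S' ⟶ S) :
    IsPushout
      (pullback.map ((i ≫ f) ≫ q) g (f ≫ q) g i (𝟙 S') (𝟙 S)
        ((Category.comp_id _).trans (Category.assoc i f q))
        ((Category.comp_id g).trans (Category.id_comp g).symm))
      (pullback.map ((i ≫ f) ≫ q) g (j ≫ q) g f₀ (𝟙 S') (𝟙 S)
        ((Category.comp_id _).trans ((congrArg (fun t => t ≫ q) hpo.w).trans (Category.assoc f₀ j q)))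
        ((Category.comp_id g).trans (Category.id_comp g).symm))
      (pullback.map (f ≫ q) g q g f (𝟙 S') (𝟙 S)
        (Category.comp_id _) ((Category.comp_id g).trans (Category.id_comp g).symm))
      (pullback.map (j ≫ q) g q g j (𝟙 S') (𝟙 S)
        (Category.comp_id _) ((Category.comp_id g).trans (Category.id_comp g).symm)) := by
  haveI : IsAffineHom j := inferInstance
  have hpair : ∀ V : Y.Opens, i ⁻¹ᵁ f ⁻¹ᵁ V = f₀ ⁻¹ᵁ j ⁻¹ᵁ V := by
    intro V
    rw [← Scheme.Hom.comp_preimage, ← Scheme.Hom.comp_preimage, hpo.w]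
  have hX : ∀ x : X, ∃ k : Pair i f₀, IsAffineOpen k.G ∧ IsAffineOpen k.H ∧ x ∈ k.G := by
    intro x
    obtain ⟨_, ⟨V, hV, rfl⟩, hxV, -⟩ :=
      Y.isBasis_affineOpens.exists_subset_of_mem_open (Set.mem_univ (f x)) isOpen_univ
    exact ⟨⟨f ⁻¹ᵁ V, j ⁻¹ᵁ V, hpair V⟩, hV.preimage f, hV.preimage j, hxV⟩
  have hT : ∀ y : Y₀, ∃ k : Pair i f₀, IsAffineOpen k.G ∧ IsAffineOpen k.H ∧ y ∈ k.H := by
    intro y
    obtain ⟨_, ⟨V, hV, rfl⟩, hyV, -⟩ :=
      Y.isBasis_affineOpens.exists_subset_of_mem_open (Set.mem_univ (j y)) isOpen_univ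
    exact ⟨⟨f ⁻¹ᵁ V, j ⁻¹ᵁ V, hpair V⟩, hV.preimage f, hV.preimage j, hyV⟩
  haveI hcorner : Flat (i ≫ f ≫ q) := by
    rw [← Category.assoc]
    infer_instance
  -- the four maps
  have ea1 : pullback.map (f ≫ q) g q g f (𝟙 S') (𝟙 S)
      (Category.comp_id _) ((Category.comp_id g).trans (Category.id_comp g).symm) ≫
      pullback.fst q g = pullback.fst (f ≫ q) g ≫ f := pullback.lift_fst _ _ _
  have ea2 : pullback.map (f ≫ q) g q g f (𝟙 S') (𝟙 S)
      (Category.comp_id _) ((Category.comp_id g).trans (Category.id_comp g).symm) ≫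
      pullback.snd q g = pullback.snd (f ≫ q) g :=
    (pullback.lift_snd _ _ _).trans (Category.comp_id _)
  have eb1 : pullback.map (j ≫ q) g q g j (𝟙 S') (𝟙 S)
      (Category.comp_id _) ((Category.comp_id g).trans (Category.id_comp g).symm) ≫
      pullback.fst q g = pullback.fst (j ≫ q) g ≫ j := pullback.lift_fst _ _ _
  have eb2 : pullback.map (j ≫ q) g q g j (𝟙 S') (𝟙 S)
      (Category.comp_id _) ((Category.comp_id g).trans (Category.id_comp g).symm) ≫
      pullback.snd q g = pullback.snd (j ≫ q) g :=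
    (pullback.lift_snd _ _ _).trans (Category.comp_id _)
  have ei1 : pullback.map ((i ≫ f) ≫ q) g (f ≫ q) g i (𝟙 S') (𝟙 S)
        ((Category.comp_id _).trans (Category.assoc i f q))
        ((Category.comp_id g).trans (Category.id_comp g).symm) ≫
      pullback.fst (f ≫ q) g = pullback.fst ((i ≫ f) ≫ q) g ≫ i := pullback.lift_fst _ _ _
  have ei2 : pullback.map ((i ≫ f) ≫ q) g (f ≫ q) g i (𝟙 S') (𝟙 S)
        ((Category.comp_id _).trans (Category.assoc i f q))
        ((Category.comp_id g).trans (Category.id_comp g).symm) ≫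
      pullback.snd (f ≫ q) g = pullback.snd ((i ≫ f) ≫ q) g :=
    (pullback.lift_snd _ _ _).trans (Category.comp_id _)
  have ex1 : pullback.map ((i ≫ f) ≫ q) g (j ≫ q) g f₀ (𝟙 S') (𝟙 S)
        ((Category.comp_id _).trans ((congrArg (fun t => t ≫ q) hpo.w).trans
          (Category.assoc f₀ j q)))
        ((Category.comp_id g).trans (Category.id_comp g).symm) ≫
      pullback.fst (j ≫ q) g = pullback.fst ((i ≫ f) ≫ q) g ≫ f₀ := pullback.lift_fst _ _ _
  have ex2 : pullback.map ((i ≫ f) ≫ q) g (j ≫ q) g f₀ (𝟙 S') (𝟙 S)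
        ((Category.comp_id _).trans ((congrArg (fun t => t ≫ q) hpo.w).trans
          (Category.assoc f₀ j q)))
        ((Category.comp_id g).trans (Category.id_comp g).symm) ≫
      pullback.snd (j ≫ q) g = pullback.snd ((i ≫ f) ≫ q) g :=
    (pullback.lift_snd _ _ _).trans (Category.comp_id _)
  have hP₁ : IsPullback (pullback.fst q g) (pullback.snd q g) q g := IsPullback.of_hasPullback q g
  have bigX : IsPullback (pullback.fst (f ≫ q) g)
      (pullback.map (f ≫ q) g q g f (𝟙 S') (𝟙 S)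
        (Category.comp_id _) ((Category.comp_id g).trans (Category.id_comp g).symm) ≫
        pullback.snd q g) (f ≫ q) g := by
    rw [ea2]
    exact IsPullback.of_hasPullback (f ≫ q) g
  have hX₁ := IsPullback.of_bot bigX ea1.symm hP₁
  have bigT : IsPullback (pullback.fst (j ≫ q) g)
      (pullback.map (j ≫ q) g q g j (𝟙 S') (𝟙 S)
        (Category.comp_id _) ((Category.comp_id g).trans (Category.id_comp g).symm) ≫
        pullback.snd q g) (j ≫ q) g := by
    rw [eb2]
    exact IsPullback.of_hasPullback (j ≫ q) g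
  have hT₁ := IsPullback.of_bot bigT eb1.symm hP₁
  have bigZ : IsPullback (pullback.fst ((i ≫ f) ≫ q) g)
      (pullback.map ((i ≫ f) ≫ q) g (f ≫ q) g i (𝟙 S') (𝟙 S)
        ((Category.comp_id _).trans (Category.assoc i f q))
        ((Category.comp_id g).trans (Category.id_comp g).symm) ≫
        pullback.snd (f ≫ q) g) (i ≫ f ≫ q) g := by
    rw [ei2, ← Category.assoc]
    exact IsPullback.of_hasPullback ((i ≫ f) ≫ q) g
  have hZ₁ := IsPullback.of_bot bigZ ei1.symm (IsPullback.of_hasPullback (f ≫ q) g)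
  have hw₁ : pullback.map ((i ≫ f) ≫ q) g (f ≫ q) g i (𝟙 S') (𝟙 S)
        ((Category.comp_id _).trans (Category.assoc i f q))
        ((Category.comp_id g).trans (Category.id_comp g).symm) ≫
      pullback.map (f ≫ q) g q g f (𝟙 S') (𝟙 S)
        (Category.comp_id _) ((Category.comp_id g).trans (Category.id_comp g).symm) =
      pullback.map ((i ≫ f) ≫ q) g (j ≫ q) g f₀ (𝟙 S') (𝟙 S)
        ((Category.comp_id _).trans ((congrArg (fun t => t ≫ q) hpo.w).trans
          (Category.assoc f₀ j q)))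
        ((Category.comp_id g).trans (Category.id_comp g).symm) ≫
      pullback.map (j ≫ q) g q g j (𝟙 S') (𝟙 S)
        (Category.comp_id _) ((Category.comp_id g).trans (Category.id_comp g).symm) := by
    apply pullback.hom_ext
    · calc (_ ≫ _) ≫ pullback.fst q g = _ ≫ (_ ≫ pullback.fst q g) := Category.assoc _ _ _
        _ = _ ≫ (pullback.fst (f ≫ q) g ≫ f) := congrArg (_ ≫ ·) ea1
        _ = (_ ≫ pullback.fst (f ≫ q) g) ≫ f := (Category.assoc _ _ _).symm
        _ = (pullback.fst ((i ≫ f) ≫ q) g ≫ i) ≫ f := congrArg (· ≫ f) ei1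
        _ = pullback.fst ((i ≫ f) ≫ q) g ≫ (i ≫ f) := Category.assoc _ _ _
        _ = pullback.fst ((i ≫ f) ≫ q) g ≫ (f₀ ≫ j) :=
          congrArg (pullback.fst ((i ≫ f) ≫ q) g ≫ ·) hpo.w
        _ = (pullback.fst ((i ≫ f) ≫ q) g ≫ f₀) ≫ j := (Category.assoc _ _ _).symm
        _ = (_ ≫ pullback.fst (j ≫ q) g) ≫ j := congrArg (· ≫ j) ex1.symm
        _ = _ ≫ (pullback.fst (j ≫ q) g ≫ j) := Category.assoc _ _ _
        _ = _ ≫ (_ ≫ pullback.fst q g) := congrArg (_ ≫ ·) eb1.symm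
        _ = (_ ≫ _) ≫ pullback.fst q g := (Category.assoc _ _ _).symm
    · calc (_ ≫ _) ≫ pullback.snd q g = _ ≫ (_ ≫ pullback.snd q g) := Category.assoc _ _ _
        _ = _ ≫ pullback.snd (f ≫ q) g := congrArg (_ ≫ ·) ea2
        _ = pullback.snd ((i ≫ f) ≫ q) g := ei2
        _ = _ ≫ pullback.snd (j ≫ q) g := ex2.symm
        _ = _ ≫ (_ ≫ pullback.snd q g) := congrArg (_ ≫ ·) eb2.symm
        _ = (_ ≫ _) ≫ pullback.snd q g := (Category.assoc _ _ _).symm
  refine isPushout_baseChange_base hX hT hpo q g (pullback.fst q g) (pullback.snd q g) hP₁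
    (pullback.fst (f ≫ q) g) (pullback.fst (j ≫ q) g) (pullback.fst ((i ≫ f) ≫ q) g) _ _ _ _
    hX₁ hT₁ hZ₁ ex1 hw₁ ?_
  intro x
  obtain ⟨_, ⟨R₀, hR₀, rfl⟩, hxR, -⟩ :=
    S.isBasis_affineOpens.exists_subset_of_mem_open (Set.mem_univ (q x)) isOpen_univ
  obtain ⟨_, ⟨U, hU, rfl⟩, hxU, hUR⟩ :=
    Y.isBasis_affineOpens.exists_subset_of_mem_open (show x ∈ q ⁻¹ᵁ R₀ from hxR) (q ⁻¹ᵁ R₀).2
  have hh : i ⁻¹ᵁ f ⁻¹ᵁ U ≤ f₀ ⁻¹ᵁ j ⁻¹ᵁ U := (hpair U).le
  have sq := sections_isFibreSq hX hT hpo U hU (hU.preimage f) (hU.preimage j) hh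
  have hp : Function.Surjective (i.app (f ⁻¹ᵁ U)).hom := i.app_surjective _ (hU.preimage f)
  rw [Scheme.Hom.app_eq_appLE, Scheme.Hom.app_eq_appLE, Scheme.Hom.app_eq_appLE] at sq
  rw [Scheme.Hom.app_eq_appLE] at hp
  refine ⟨R₀, U, hR₀, hU, hxU, hUR, ?_⟩
  intro V hV hVR
  refine tensorInjective_of_flat_corner _ _ _ _ _ _ sq hp ?_
  rw [Scheme.Hom.appLE_comp_appLE, Scheme.Hom.appLE_comp_appLE]
  exact HasRingHomProperty.appLE @Flat (i ≫ f ≫ q) hcorner ⟨R₀, hR₀⟩
    ⟨i ⁻¹ᵁ f ⁻¹ᵁ U, (hU.preimage f).preimage i⟩ _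

end Groth.Agent.S16715
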