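import Groth.Statements.S16717
import Groth.Agent.Lib.Reynolds38
import Groth.Agent.Lib.ComodFP2

set_option autoImplicit false
universe u v
open HopfRep

namespace Groth.Agent.S16717

open TensorProduct in
/-- Equivalence of the exactness of invariants with complete reducibility of finite-dimensional
representations. Let k be a field and A a finitely generated commutative Hopf algebra over k (the
coordinate ring of an affine algebraic group G). Then every finite-dimensional A-comodule is
semisimple if and only if taking fixed vectors is exact, i.e. for every surjective comodule map φ :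
V → W between A-comodules (of any dimension; φ k-linear with (φ ⊗ id) ∘ ρ_V = ρ_W ∘ φ) every fixed
vector of W is the image of a fixed vector of V. -/
theorem result (k : Type u) [Field k] (A : Type v)
    [CommRing A] [HopfAlgebra k A] (hA : Algebra.FiniteType k A) :
    HopfRep.IsLinearlyReductive k A ↔
      ∀ (V W : Type v) [AddCommGroup V] [Module k V] [HopfRep.Comod k A V]
        [AddCommGroup W] [Module k W] [HopfRep.Comod k A W] (φ : V →ₗ[k] W),
        LinearMap.rTensor A φ ∘ₗ HopfRep.Comod.coact (k := k) (A := A) (V := V) =
            HopfRep.Comod.coact (k := k) (A := A) (V := W) ∘ₗ φ →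
          Function.Surjective φ →
            ∀ w ∈ HopfRep.fixedPts k A W, ∃ v ∈ HopfRep.fixedPts k A V, φ v = w := by
  constructor
  · intro hG V W _ _ _ _ _ _ φ hφ hsurj w hw
    exact Groth.Agent.Lib.Reynolds38.exists_fixedPts_map_eq hG φ hφ.symm hsurj w hw
  · intro h
    -- the fixed-vector property
    have hFP : Groth.Agent.Lib.ComodFP2.FPat.{u, v, v} k A := by
      intro X _ _ cX _ π hπsurj hπ
      -- a one-dimensional trivial comodule in the universe of `A`
      let W : Submodule k A := Submodule.span k {(1 : A)}
      let w₀ : W := ⟨1, Submodule.mem_span_singleton_self 1⟩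
      have hw₀ : w₀ ≠ 0 := by
        intro h0
        have h1 : (1 : A) = 0 := congrArg Subtype.val h0
        have h2 := congrArg (CoalgebraStruct.counit (R := k) (A := A)) h1
        rw [Bialgebra.counit_one, map_zero] at h2
        exact one_ne_zero h2
      let ι : k →ₗ[k] W := LinearMap.toSpanSingleton k W w₀
      let φ : X →ₗ[k] W := ι ∘ₗ π
      have hφsurj : Function.Surjective φ := by
        rintro ⟨a, ha⟩
        obtain ⟨c, rfl⟩ := Submodule.mem_span_singleton.mp ha
        obtain ⟨x, rfl⟩ := hπsurj c
        refine ⟨x, Subtype.ext ?_⟩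
        simp [φ, ι, w₀]
      have hφ : LinearMap.rTensor A φ ∘ₗ cX.coact =
          (HopfRep.Comod.trivial k A W).coact ∘ₗ φ := by
        apply LinearMap.ext
        intro x
        have hx := LinearMap.congr_fun hπ x
        simp only [LinearMap.coe_comp, Function.comp_apply] at hx ⊢
        show LinearMap.rTensor A (ι ∘ₗ π) (cX.coact x) = _
        rw [LinearMap.rTensor_comp, LinearMap.comp_apply, hx]
        show LinearMap.rTensor A ι ((π x) ⊗ₜ[k] (1 : A)) = (ι (π x)) ⊗ₜ[k] (1 : A)
        rw [LinearMap.rTensor_tmul]
      obtain ⟨x, hx, hxw⟩ := @h X W _ _ cX _ _ (HopfRep.Comod.trivial k A W) φ hφ hφsurj w₀ rfl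
      refine ⟨x, hx, ?_⟩
      intro h0
      apply hw₀
      rw [← hxw]
      show ι (π x) = 0
      rw [h0, map_zero]
    intro V _ _ c hfin W hW
    have := hfin
    exact Groth.Agent.Lib.ComodFP2.exists_isCompl_of_FPat c W hW hFP

end Groth.Agent.S16717
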