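import Groth.Statements.S16718
import Groth.Agent.Lib.ComodHom
import Mathlib.RingTheory.Polynomial.Basic
import Mathlib.RingTheory.FiniteType
import Mathlib.RingTheory.Noetherian.Basic

set_option autoImplicit false
universe u v w
open TensorProduct
open GLin

namespace Groth.Agent.S16718

/-- Let k be a field, A a finitely generated commutative Hopf algebra over k (an affine algebraic group
G), R a finitely generated commutative k-algebra carrying an A-comodule structure whose coaction is
an algebra homomorphism (an action of G on X = Spec R), and I an ideal of R which is a subcomodule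
(a G-invariant closed subscheme Z of X). Then there is a finite-dimensional subcomodule W of R with
W ⊆ I generating I as an ideal; equivalently there is a G-equivariant morphism f from X to the
affine space of a finite-dimensional G-representation with f⁻¹(0) = Z as closed subschemes. -/
theorem result (k : Type u) [Field k]
    (A : Type v) [CommRing A] [HopfAlgebra k A] (hA : Algebra.FiniteType k A)
    (R : Type w) [CommRing R] [Algebra k R] [HopfRep.Comod k A R] [GLin.IsCoactAlg k A R]
    (hR : Algebra.FiniteType k R) (I : Ideal R)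
    (hI : HopfRep.IsSubcomod (k := k) (A := A) (I.restrictScalars k)) :
    ∃ W : Submodule k R, Module.Finite k W ∧ HopfRep.IsSubcomod (k := k) (A := A) W ∧
      W ≤ I.restrictScalars k ∧ Ideal.span (W : Set R) = I := by
  have hnoeth : IsNoetherianRing R := Algebra.FiniteType.isNoetherianRing k R
  obtain ⟨s, hs⟩ := (isNoetherianRing_iff_ideal_fg R).mp hnoeth I
  -- for each generator choose a finite-dimensional subcomodule inside `I`
  have hchoose : ∀ g : R, g ∈ I → ∃ W : Submodule k R, Module.Finite k W ∧
      HopfRep.IsSubcomod (k := k) (A := A) W ∧ W ≤ I.restrictScalars k ∧ g ∈ W := by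
    intro g hg
    obtain ⟨W₀, hfin, hgW, hsub⟩ := Groth.Agent.Lib.Comod.exists_finite_subcomod_mem (k := k) (C := A) g
    refine ⟨W₀ ⊓ I.restrictScalars k, ?_, Groth.Agent.Lib.Comod.isSubcomod_inf hsub hI,
      inf_le_right, ⟨hgW, hg⟩⟩
    exact Submodule.finiteDimensional_inf_left W₀ _
  classical
  have hsI : ∀ g ∈ s, g ∈ I := by
    intro g hg
    rw [← hs]
    exact Ideal.subset_span hg
  choose! Wf hWf using hchoose
  have hfin : ∀ g : {g // g ∈ s}, Module.Finite k (Wf g.1) := fun g => (hWf g.1 (hsI g.1 g.2)).1
  have hle : (⨆ g : {g // g ∈ s}, Wf g.1) ≤ I.restrictScalars k :=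
    iSup_le fun g => (hWf g.1 (hsI g.1 g.2)).2.2.1
  refine ⟨⨆ g : {g // g ∈ s}, Wf g.1, ?_, ?_, hle, ?_⟩
  · exact Submodule.finite_iSup _
  · apply Groth.Agent.Lib.Comod.isSubcomod_iSup
    intro g
    exact (hWf g.1 (hsI g.1 g.2)).2.1
  · apply le_antisymm
    · rw [Ideal.span_le]
      intro x hx
      exact hle hx
    · rw [← hs, Ideal.span_le]
      intro g hg
      apply Ideal.subset_span
      have : Wf g ≤ ⨆ g : {g // g ∈ s}, Wf g.1 :=
        le_iSup (fun g : {g // g ∈ s} => Wf g.1) ⟨g, hg⟩
      exact this (hWf g (hsI g hg)).2.2.2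

end Groth.Agent.S16718
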