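import Groth.Statements.S16737
import Mathlib.Tactic
import Mathlib.Algebra.CharP.Invertible
import Mathlib.Algebra.MvPolynomial.Expand
import Mathlib.RingTheory.Kaehler.Polynomial

set_option autoImplicit false
universe u v
open DeRham

namespace Groth.Agent.S16737

open MvPolynomial

theorem D_eq_zero_iff (R : Type u) [CommRing R] (σ : Type v) (f : MvPolynomial σ R) :
    KaehlerDifferential.D R (MvPolynomial σ R) f = 0 ↔ ∀ i, MvPolynomial.pderiv i f = 0 := by
  rw [← (KaehlerDifferential.mvPolynomialBasis R σ).repr.map_eq_zero_iff]
  constructor
  · intro h i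
    rw [← KaehlerDifferential.mvPolynomialBasis_repr_apply, h]
    rfl
  · intro h
    ext i : 1
    rw [KaehlerDifferential.mvPolynomialBasis_repr_apply, h i]
    rfl

/-- The case of affine space over an affine base of characteristic p, in degree zero. Let p be a prime
and R a commutative ring with p = 0 in R. For a polynomial f over R in any set of variables t_i, the
Kähler differential df in Ω_{R[t]/R} vanishes if and only if f is a polynomial in the p-th powers of
the variables, f = g(t_i^p). Equivalently, the functions on affine space over R killed by the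
differential of the de Rham complex are exactly the functions on its Frobenius twist. (The published
computation is for finitely many variables over a noetherian base of characteristic p; the statement
here allows any commutative ring with p = 0 and any set of variables.) -/
theorem result (p : ℕ) [Fact p.Prime]
    (R : Type u) [CommRing R] [CharP R p] (σ : Type v) (f : MvPolynomial σ R) :
    KaehlerDifferential.D R (MvPolynomial σ R) f = 0 ↔
      ∃ g : MvPolynomial σ R, f = MvPolynomial.expand p g := by
  have hp : p.Prime := Fact.out
  have hp0 : p ≠ 0 := hp.ne_zero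
  rw [D_eq_zero_iff]
  constructor
  · intro h
    -- every monomial in the support has exponents divisible by p
    have hdvd : ∀ m : σ →₀ ℕ, coeff m f ≠ 0 → ∀ i, p ∣ m i := by
      intro m hm i
      by_contra hndvd
      have hmi : m i ≠ 0 := fun h0 => hndvd (h0 ▸ dvd_zero p)
      have hm' : m = (m - Finsupp.single i 1) + Finsupp.single i 1 := by
        ext j
        by_cases hj : j = i
        · subst hj
          simp only [Finsupp.coe_add, Finsupp.coe_tsub, Pi.add_apply, Pi.sub_apply,
            Finsupp.single_eq_same]
          omega
        · simp [Finsupp.single_apply, Ne.symm hj]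
      have h1 := congrArg (coeff (m - Finsupp.single i 1)) (h i)
      rw [coeff_pderiv, ← hm', coeff_zero] at h1
      have h2 : (((m - Finsupp.single i 1 : σ →₀ ℕ) i : ℕ) : R) + 1 = ((m i : ℕ) : R) := by
        have : (m - Finsupp.single i 1 : σ →₀ ℕ) i + 1 = m i := by
          simp only [Finsupp.coe_tsub, Pi.sub_apply, Finsupp.single_eq_same]
          omega
        rw [← this]
        push_cast
        rfl
      rw [h2] at h1
      have hu : IsUnit ((m i : ℕ) : R) := (CharP.isUnit_natCast_iff hp).mpr hndvd
      exact hm (hu.mul_left_eq_zero.mp h1)
    have hinj : Function.Injective (fun m' : σ →₀ ℕ => p • m') := fun a b hab =>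
      (nsmul_right_inj hp0).mp hab
    refine ⟨AddMonoidAlgebra.ofCoeff (Finsupp.comapDomain (fun m' : σ →₀ ℕ => p • m')
      (AddMonoidAlgebra.coeff f) hinj.injOn), ?_⟩
    ext m
    by_cases hall : ∀ i, p ∣ m i
    · -- m = p • m'
      have : ∃ m' : σ →₀ ℕ, m = p • m' := by
        refine ⟨m.mapRange (· / p) (by simp), ?_⟩
        ext i
        simp only [Finsupp.coe_smul, Pi.smul_apply, Finsupp.mapRange_apply, smul_eq_mul]
        exact (Nat.mul_div_cancel' (hall i)).symm
      obtain ⟨m', rfl⟩ := this
      rw [coeff_expand_smul p hp0]
      rfl
    · push Not at hall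
      obtain ⟨i, hi⟩ := hall
      rw [coeff_expand_of_not_dvd _ hi]
      by_contra hne
      exact hi (hdvd m hne i)
  · rintro ⟨g, rfl⟩ i
    ext m
    rw [coeff_pderiv, coeff_zero]
    by_cases hdvd : p ∣ (m + Finsupp.single i 1 : σ →₀ ℕ) i
    · have : ((m i : R) + 1) = (((m + Finsupp.single i 1 : σ →₀ ℕ) i : ℕ) : R) := by
        simp
      rw [this, (CharP.cast_eq_zero_iff R p _).mpr hdvd, mul_zero]
    · rw [coeff_expand_of_not_dvd _ hdvd, zero_mul]

end Groth.Agent.S16737
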