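import Groth.Statements.S16742
import Groth.Agent.Lib.FlatCrit
import Mathlib.RingTheory.TensorProduct.Quotient
import Mathlib.RingTheory.Flat.EquationalCriterion

set_option autoImplicit false
universe u
open CAlg

namespace Groth.Agent.S16742

open TensorProduct Function in
/-- In a flat module over a ring where `Ann(c) = (c)`, the elements killed by `c` are multiples
of `c`. -/
theorem exists_smul_of_smul_eq_zero {R : Type*} [CommRing R] {M : Type*} [AddCommGroup M]
    [Module R M] [Module.Flat R M] (c : R) (hc : ∀ a : R, c * a = 0 → ∃ a', a = c * a')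
    (m : M) (hm : c • m = 0) : ∃ m' : M, m = c • m' := by
  have h : ∑ i : Unit, (fun _ => c) i • (fun _ => m) i = 0 := by simpa using hm
  obtain ⟨k, a, y, hx, ha⟩ := Module.Flat.isTrivialRelation_of_sum_smul_eq_zero h
  have ha' : ∀ j, c * a () j = 0 := by
    intro j
    simpa using ha j
  choose a' ha'' using fun j => hc (a () j) (ha' j)
  refine ⟨∑ j, a' j • y j, ?_⟩
  have hx' : m = ∑ j, a () j • y j := hx ()
  rw [hx', Finset.smul_sum]
  refine Finset.sum_congr rfl fun j _ => ?_
  rw [ha'' j, mul_smul]

theorem zmod_sq_ann (p : ℕ) [Fact p.Prime] (a : ZMod (p ^ 2)) (h : (p : ZMod (p ^ 2)) * a = 0) :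
    ∃ a', a = (p : ZMod (p ^ 2)) * a' := by
  have hp : 0 < p := (Fact.out : p.Prime).pos
  have : NeZero (p ^ 2) := ⟨by positivity⟩
  obtain ⟨n, rfl⟩ : ∃ n : ℕ, (n : ZMod (p ^ 2)) = a := ⟨a.val, ZMod.natCast_zmod_val a⟩
  rw [← Nat.cast_mul, ZMod.natCast_eq_zero_iff] at h
  have : p ∣ n := by
    rw [pow_two] at h
    exact Nat.dvd_of_mul_dvd_mul_left hp h
  obtain ⟨m, rfl⟩ := this
  exact ⟨m, by push_cast; ring⟩

open TensorProduct Function in
/-- Every element of `(c) ⊗ M` is of the form `c ⊗ m`. -/
theorem exists_tmul_eq {R : Type*} [CommRing R] {M : Type*} [AddCommGroup M] [Module R M]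
    (c : R) (x : (Ideal.span {c} : Ideal R) ⊗[R] M) :
    ∃ m : M, x = (⟨c, Ideal.mem_span_singleton_self c⟩ : (Ideal.span {c} : Ideal R)) ⊗ₜ[R] m := by
  induction x using TensorProduct.induction_on with
  | zero => exact ⟨0, by simp⟩
  | tmul i m =>
    obtain ⟨i, hi⟩ := i
    obtain ⟨a, rfl⟩ := Ideal.mem_span_singleton'.mp hi
    refine ⟨a • m, ?_⟩
    rw [TensorProduct.tmul_smul, TensorProduct.smul_tmul']
    rfl
  | add x y hx hy =>
    obtain ⟨m, rfl⟩ := hx
    obtain ⟨m', rfl⟩ := hy
    exact ⟨m + m', by rw [TensorProduct.tmul_add]⟩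

open TensorProduct Function in
/-- `Tor₁(R/(c), M) = 0` when `c² = 0` and the `c`-torsion of `M` is `cM`. -/
theorem rTensor_injective_of_sq_zero {R : Type*} [CommRing R] {M : Type*} [AddCommGroup M]
    [Module R M] (c : R) (hc : c * c = 0) (hM : ∀ m : M, c • m = 0 → ∃ m', m = c • m') :
    Injective ((Ideal.span {c} : Ideal R).subtype.rTensor M) := by
  rw [injective_iff_map_eq_zero]
  intro x hx
  obtain ⟨m, rfl⟩ := exists_tmul_eq c x
  have h1 : c • m = 0 := by
    have := congrArg (TensorProduct.lid R M) hx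
    simpa using this
  obtain ⟨m', rfl⟩ := hM m h1
  rw [TensorProduct.tmul_smul, TensorProduct.smul_tmul']
  have : c • (⟨c, Ideal.mem_span_singleton_self c⟩ : (Ideal.span {c} : Ideal R)) = 0 := by
    ext
    simpa using hc
  rw [this, TensorProduct.zero_tmul]

/-- The equivalence in affine form, with flatness of the reduction in place of smoothness. Let p be a
prime, A~ a commutative ring flat over Z/p^2 and B~ an A~-algebra such that B~/pB~ is flat over
A~/pA~. Then B~ is flat over A~ if and only if every element of B~ killed by p is a multiple of p;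
equivalently multiplication by p identifies B~/pB~ with pB~. (The published statement assumes the
reduction smooth over A~/pA~ and the schemes noetherian, and phrases (b) as B~ being a lifting, that
is flat over A~; the statement here assumes only that the reduction is flat, where the equivalence
still holds by the local flatness criterion for the square-zero ideal generated by p.) -/
theorem result (p : ℕ) [Fact p.Prime]
    (Al : Type u) [CommRing Al] [Algebra (ZMod (p ^ 2)) Al] [Module.Flat (ZMod (p ^ 2)) Al]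
    (Bl : Type u) [CommRing Bl] [Algebra Al Bl]
    (hB : Module.Flat (Al ⧸ Ideal.span {(p : Al)})
      (Bl ⧸ (Ideal.span {(p : Al)}).map (algebraMap Al Bl))) :
    Module.Flat Al Bl ↔ ∀ b : Bl, (p : Bl) * b = 0 → b ∈ Ideal.span {(p : Bl)} := by
  have hp2 : (p : Al) * (p : Al) = 0 := by
    have h0 : ((p ^ 2 : ℕ) : ZMod (p ^ 2)) = 0 := ZMod.natCast_self _
    have := congrArg (algebraMap (ZMod (p ^ 2)) Al) h0
    rw [map_natCast, map_zero] at this
    rw [← this]
    push_cast
    ring
  have hAl : ∀ a : Al, (p : Al) * a = 0 → ∃ a', a = (p : Al) * a' := by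
    intro a ha
    have h1 : (p : ZMod (p ^ 2)) • a = 0 := by
      rw [Algebra.smul_def, map_natCast]
      exact ha
    obtain ⟨a', ha'⟩ := exists_smul_of_smul_eq_zero (R := ZMod (p ^ 2)) (M := Al)
      (p : ZMod (p ^ 2)) (zmod_sq_ann p) a h1
    refine ⟨a', ?_⟩
    rw [ha', Algebra.smul_def, map_natCast]
  constructor
  · intro hflat b hb
    have h1 : (p : Al) • b = 0 := by
      rw [Algebra.smul_def, map_natCast]
      exact hb
    obtain ⟨b', hb'⟩ := exists_smul_of_smul_eq_zero (R := Al) (M := Bl) (p : Al) hAl b h1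
    rw [Ideal.mem_span_singleton']
    refine ⟨b', ?_⟩
    rw [hb', Algebra.smul_def, map_natCast, mul_comm]
  · intro h
    have hM : ∀ m : Bl, (p : Al) • m = 0 → ∃ m', m = (p : Al) • m' := by
      intro m hm
      rw [Algebra.smul_def, map_natCast] at hm
      obtain ⟨m', hm'⟩ := Ideal.mem_span_singleton'.mp (h m hm)
      refine ⟨m', ?_⟩
      rw [Algebra.smul_def, map_natCast, ← hm', mul_comm]
    have hinj := rTensor_injective_of_sq_zero (R := Al) (M := Bl) (p : Al) hp2 hM
    have : Module.Flat (Al ⧸ Ideal.span {(p : Al)})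
        (TensorProduct Al (Al ⧸ Ideal.span {(p : Al)}) Bl) :=
      Module.Flat.of_linearEquiv
        (Algebra.TensorProduct.quotIdealMapEquivQuotTensor Bl
          (Ideal.span {(p : Al)})).symm.toLinearEquiv
    refine Groth.Agent.Lib.FlatCrit.flat_of_isNilpotent (Ideal.span {(p : Al)}) ⟨2, ?_⟩ hinj
    rw [pow_two, Ideal.span_singleton_mul_span_singleton, hp2]
    simp

end Groth.Agent.S16742
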