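import Groth.Statements.S16762
-- import your own Groth.Agent.* helpers here

set_option autoImplicit false
universe u
open CAlgX

namespace Groth.Agent.S16762

section helpers

open TensorProduct

variable (A A' : Type u) [CommRing A] [CommRing A'] [Algebra A A']
  {M N : Type u} [AddCommGroup M] [Module A M] [AddCommGroup N] [Module A N] (u : M →ₗ[A] N)

lemma baseChange_of_univInj (h : CAlgX.UniversallyInjective A u) :
    CAlgX.UniversallyInjective A' (u.baseChange A') := by
  intro Q _ _
  let _ : Module A Q := Module.compHom Q (algebraMap A A')
  have : IsScalarTower A A' Q := IsScalarTower.of_algebraMap_smul fun _ _ => rfl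
  -- comparison isomorphisms
  let eM : (A' ⊗[A] M) ⊗[A'] Q ≃ₗ[A'] Q ⊗[A] M :=
    (TensorProduct.comm A' (A' ⊗[A] M) Q) ≪≫ₗ
      (TensorProduct.AlgebraTensorModule.cancelBaseChange A A' A' Q M)
  let eN : (A' ⊗[A] N) ⊗[A'] Q ≃ₗ[A'] Q ⊗[A] N :=
    (TensorProduct.comm A' (A' ⊗[A] N) Q) ≪≫ₗ
      (TensorProduct.AlgebraTensorModule.cancelBaseChange A A' A' Q N)
  have hl : Function.Injective (u.lTensor Q) := by
    have : u.lTensor Q = (TensorProduct.comm A N Q).toLinearMap ∘ₗ u.rTensor Q ∘ₗ
        (TensorProduct.comm A Q M).toLinearMap := by
      ext q m
      simp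
    rw [this]
    exact (TensorProduct.comm A N Q).injective.comp ((h Q).comp (TensorProduct.comm A Q M).injective)
  have hsq : ∀ x : (A' ⊗[A] M) ⊗[A'] Q,
      eN ((u.baseChange A').rTensor Q x) = u.lTensor Q (eM x) := by
    intro x
    induction x using TensorProduct.induction_on with
    | zero => simp
    | add x y hx hy => simp only [map_add, hx, hy]
    | tmul t q =>
      induction t using TensorProduct.induction_on with
      | zero => simp
      | add x y hx hy =>
        simp only [TensorProduct.add_tmul, map_add, hx, hy]
      | tmul a m =>
        simp [eM, eN, TensorProduct.AlgebraTensorModule.cancelBaseChange_tmul]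
  intro x y hxy
  apply eM.injective
  apply hl
  rw [← hsq, ← hsq, hxy]

lemma univInj_of_baseChange [Module.FaithfullyFlat A A']
    (h : CAlgX.UniversallyInjective A' (u.baseChange A')) :
    CAlgX.UniversallyInjective A u := by
  intro Q _ _
  rw [← Module.FaithfullyFlat.lTensor_injective_iff_injective A A']
  let dM := TensorProduct.AlgebraTensorModule.distribBaseChange A A' M Q
  let dN := TensorProduct.AlgebraTensorModule.distribBaseChange A A' N Q
  have hsq : ∀ x : A' ⊗[A] (M ⊗[A] Q),
      dN ((u.rTensor Q).lTensor A' x) = (u.baseChange A').rTensor (A' ⊗[A] Q) (dM x) := by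
    intro x
    induction x using TensorProduct.induction_on with
    | zero => simp
    | add x y hx hy => simp only [map_add, hx, hy]
    | tmul a t =>
      induction t using TensorProduct.induction_on with
      | zero => simp
      | add x y hx hy =>
        simp only [TensorProduct.tmul_add, map_add, hx, hy]
      | tmul m q =>
        simp [dM, dN]
  intro x y hxy
  apply dM.injective
  apply h (A' ⊗[A] Q)
  rw [← hsq, ← hsq, hxy]

end helpers

/-- Let A → A' be faithfully flat and u : M → N a map of A-modules. Then u is universally injective (u ⊗
id_Q injective for every A-module Q) if and only if its base change A' ⊗_A M → A' ⊗_A N is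
universally injective as a map of A'-modules. -/
theorem result (A A' : Type u) [CommRing A] [CommRing A']
    [Algebra A A'] [Module.FaithfullyFlat A A'] {M N : Type u} [AddCommGroup M] [Module A M]
    [AddCommGroup N] [Module A N] (u : M →ₗ[A] N) :
    CAlgX.UniversallyInjective A u ↔ CAlgX.UniversallyInjective A' (u.baseChange A') := by
  constructor
  · exact baseChange_of_univInj A A' u
  · exact univInj_of_baseChange A A' u

end Groth.Agent.S16762
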