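import Groth.Statements.S16765
import Groth.Agent.Lib.UnramifiedLocusBC

set_option autoImplicit false
universe u
open Unram17

namespace Groth.Agent.S16765

section helpers
open AlgebraicGeometry CategoryTheory CategoryTheory.Limits

/-- The square `X_z → Y_z` over `X → Y` is cartesian. -/
lemma isPullback_fiberMapOver {X Y S : Scheme.{u}} (g : Y ⟶ S) (h : X ⟶ S) (f : X ⟶ Y)
    (w : f ≫ g = h) (z : S) :
    IsPullback (h.fiberι z) (CohIII.fiberMapOver f h g w z) f (g.fiberι z) := by
  have t : IsPullback (pullback.snd g (S.fromSpecResidueField z)) (g.fiberι z)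
      (S.fromSpecResidueField z) g := (IsPullback.of_hasPullback g (S.fromSpecResidueField z)).flip
  have s : IsPullback (CohIII.fiberMapOver f h g w z ≫ pullback.snd g (S.fromSpecResidueField z))
      (h.fiberι z) (S.fromSpecResidueField z) (f ≫ g) := by
    have e : CohIII.fiberMapOver f h g w z ≫ pullback.snd g (S.fromSpecResidueField z) =
        pullback.snd h (S.fromSpecResidueField z) :=
      (pullback.lift_snd _ _ _).trans (Category.comp_id _)
    rw [e, w]
    exact (IsPullback.of_hasPullback h (S.fromSpecResidueField z)).flip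
  have p : CohIII.fiberMapOver f h g w z ≫ g.fiberι z = h.fiberι z ≫ f :=
    pullback.lift_fst _ _ _
  exact (IsPullback.of_right s p t).flip

theorem main {X Y S : Scheme.{u}} (g : Y ⟶ S) (h : X ⟶ S)
    [LocallyOfFinitePresentation g] [LocallyOfFinitePresentation h] (f : X ⟶ Y) (w : f ≫ g = h)
    (x : ↥X)
    (x' : ↥(h.fiber (h x))) (hx' : (h.fiberι (h x)) x' = x) :
    (∃ U : X.Opens, x ∈ U ∧ FormallyUnramified (U.ι ≫ f)) ↔
      ∃ V : (h.fiber (h x)).Opens, x' ∈ V ∧ FormallyUnramified (V.ι ≫ CohIII.fiberMapOver f h g w (h x)) := by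
  have : LocallyOfFiniteType (f ≫ g) := by rw [w]; infer_instance
  have : LocallyOfFiniteType f := locallyOfFiniteType_of_comp f g
  have key := Groth.Agent.Lib.UnramifiedLocusBC.exists_nhds_formallyUnramified_iff_of_isPullback
    (isPullback_fiberMapOver g h f w (h x)) x'
  rw [hx'] at key
  exact key.symm

end helpers

open AlgebraicGeometry CategoryTheory CategoryTheory.Limits in
/-- Let g : Y → S and h : X → S be locally of finite presentation, f : X → Y an S-morphism (f ≫ g = h;
in particular f is locally of finite presentation, so unramified amounts to formally unramified),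
and x a point of X with image s = h(x). Then f is unramified at x (formally unramified on an open
neighbourhood of x) if and only if the induced morphism of fibres X_s → Y_s is unramified at the
point of X_s lying over x. No flatness is needed. -/
theorem result {X Y S : Scheme.{u}} (g : Y ⟶ S) (h : X ⟶ S)
    [LocallyOfFinitePresentation g] [LocallyOfFinitePresentation h] (f : X ⟶ Y) (w : f ≫ g = h)
    (x : ↥X)
    (x' : ↥(h.fiber (h x))) (hx' : (h.fiberι (h x)) x' = x) :
    (∃ U : X.Opens, x ∈ U ∧ FormallyUnramified (U.ι ≫ f)) ↔
      ∃ V : (h.fiber (h x)).Opens, x' ∈ V ∧ FormallyUnramified (V.ι ≫ CohIII.fiberMapOver f h g w (h x)) :=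
  main g h f w x x' hx'

end Groth.Agent.S16765
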