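import Groth.Statements.S8660
import Groth.Agent.Lib.CIBridge32
import Groth.Agent.Lib.KoszulLocusBC
import Groth.Agent.S9758
import Groth.Agent.S9365

set_option autoImplicit false
universe u
open CategoryTheory CategoryTheory.Limits AlgebraicGeometry
open Synt

namespace Groth.Agent.S8660

/-- Let f : X ⟶ Y be flat and locally of finite presentation. Then f is a local complete intersection
morphism in the factorisation sense (around each point of X, f is locally of finite type and factors
as a Koszul-regular immersion followed by a smooth morphism) if and only if f is a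
complete-intersection morphism in the fibrewise sense: flat, locally of finite presentation, and
every local ring of every fibre is a complete intersection (its completion is a regular local ring
modulo a regular sequence). -/
theorem result {X Y : Scheme.{u}} (f : X ⟶ Y) [Flat f] [LocallyOfFinitePresentation f] :
    (∀ x : X, Synt.IsKoszulAt f x) ↔ CInt.IsCIMorphism f := by
  have hlft : ∀ s : Y, LocallyOfFiniteType (f.fiberToSpecResidueField s) := fun s =>
    MorphismProperty.pullback_snd (P := @LocallyOfFiniteType) _ _ inferInstance
  have hflat : ∀ s : Y, Flat (f.fiberToSpecResidueField s) := fun s =>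
    MorphismProperty.pullback_snd (P := @Flat) _ _ inferInstance
  constructor
  · intro hK
    refine ⟨inferInstance, inferInstance, fun x => ?_⟩
    -- the fibre through `x`
    let p : f.fiber (f x) ⟶ Spec (CommRingCat.of (Y.residueField (f x))) :=
      f.fiberToSpecResidueField (f x)
    have : LocallyOfFiniteType p := hlft (f x)
    -- the Koszul locus commutes with base change
    have hsq : IsPullback (f.fiberι (f x)) (f.fiberToSpecResidueField (f x)) f
        (Y.fromSpecResidueField (f x)) := IsPullback.of_hasPullback _ _
    have hkl := Groth.Agent.Lib.KoszulLocusBC.kLocus_baseChange f (𝟙 Y)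
      (Y.fromSpecResidueField (f x)) (Y.fromSpecResidueField (f x)) (𝟙 _)
      (IsPullback.of_vert_isIso ⟨by simp⟩) (f.fiberι (f x)) (f.fiberToSpecResidueField (f x))
      (by simpa using hsq) (by simpa using hsq.w)
    have hKp : ∀ x' : f.fiber (f x), Synt.IsKoszulAt p x' := by
      intro x'
      rw [← Groth.Agent.Lib.KoszulLocusBC.mem_kLocus_iff]
      show x' ∈ Groth.Agent.Lib.KoszulLocusBC.kLocus (f.fiberToSpecResidueField (f x))
      rw [hkl, Set.mem_preimage, Groth.Agent.Lib.KoszulLocusBC.mem_kLocus_iff]
      exact hK _
    have hsynt : Synt.IsSyntomicMor p := (Groth.Agent.S9758.result p).mp ⟨hflat (f x), hKp⟩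
    obtain ⟨U, hxU, hU⟩ := Groth.Agent.Lib.CIOverSch.exists_isGlobalCI_of_isSyntomicMor
      (Y.residueField (f x)) p hsynt (f.asFiber x)
    have h1 := Groth.Agent.Lib.CIOverSch.isCIOver_stalk_of_isGlobalCI
      (Y.residueField (f x)) p U.2 (f.asFiber x) hxU hU
    exact (Groth.Agent.Lib.CIBridge32.isCIOver_stalk_iff (Y.residueField (f x)) p (f.asFiber x)).mp h1
  · rintro ⟨-, -, hCI⟩
    have key : ∀ (s : Y) (y : f ⁻¹' {s}),
        Pi1.IsCompleteIntersection ((f.fiber s).presheaf.stalk ((f.fiberHomeo s).symm y)) := by
      rintro s ⟨x, hx⟩
      have hx' : f x = s := hx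
      subst hx'
      exact hCI x
    have hfib : ∀ s : Y, Synt.IsSyntomicMor (f.fiberToSpecResidueField s) := by
      intro s
      let p : f.fiber s ⟶ Spec (CommRingCat.of (Y.residueField s)) := f.fiberToSpecResidueField s
      have : LocallyOfFiniteType p := hlft s
      refine Groth.Agent.Lib.CIOverSch.isSyntomicMor_of_forall_isCIOver_stalk
        (Y.residueField s) p fun x' => ?_
      refine (Groth.Agent.Lib.CIBridge32.isCIOver_stalk_iff (Y.residueField s) p x').mpr ?_
      have h1 := key s (f.fiberHomeo s x')
      rw [Homeomorph.symm_apply_apply] at h1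
      exact h1
    exact ((Groth.Agent.S9758.result f).mpr (Groth.Agent.S9365.result f hfib)).2

end Groth.Agent.S8660
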