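import Groth.Statements.S1677
import Groth.Agent.Lib.KRegNoeth19
import Groth.Agent.Lib.KoszulLocusBC
import Groth.Agent.S2890
import Groth.Agent.S8660
import Groth.Agent.S9729
import Groth.Agent.S8656

set_option autoImplicit false
set_option linter.style.haveILetI false
universe u
open CategoryTheory CategoryTheory.Limits AlgebraicGeometry TopologicalSpace
open SDiv

namespace Groth.Agent.S1677

open Groth.Agent.Lib

/-- Let X ⟶ S be smooth, Y ⟶ S flat, locally of finite presentation with complete-intersection fibre
local rings (syntomic), and i : Y ⟶ X a closed immersion over S. Then i is a regular closed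
immersion. -/
theorem result {X Y S : Scheme.{u}} (p : X ⟶ S) [Smooth p] (i : Y ⟶ X)
    [IsClosedImmersion i] (hY : CInt.IsCIMorphism (i ≫ p)) : Mor2.IsRegularClosedImmersion i := by
  haveI hflat : Flat (i ≫ p) := hY.1
  haveI hlfp : LocallyOfFinitePresentation (i ≫ p) := hY.2.1
  have hK : ∀ x, Synt.IsKoszulAt (i ≫ p) x := (Groth.Agent.S8660.result (i ≫ p)).mpr hY
  have hKi : ∀ x, Synt.IsKoszulAt i x := fun x => Groth.Agent.S9729.result i p hK x
  refine ((Groth.Agent.S2890.result i p).mpr ⟨?_, hflat, ?_⟩).2
  · intro y
    exact Flat.stalkMap p (i y)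
  · intro s
    have hsq1 := Groth.Agent.S1459.isPullback_map_aux i p (i ≫ p) rfl (S.fromSpecResidueField s)
      (by simp) (by simp)
    haveI hcl : IsClosedImmersion (CInt.fiberMap i p s) :=
      MorphismProperty.of_isPullback (P := @IsClosedImmersion) hsq1 inferInstance
    haveI : LocallyOfFiniteType (pullback.snd p (S.fromSpecResidueField s)) := inferInstance
    have hN : IsLocallyNoetherian (pullback p (S.fromSpecResidueField s)) :=
      LocallyOfFiniteType.isLocallyNoetherian (pullback.snd p (S.fromSpecResidueField s))
    haveI : IsLocallyNoetherian (p.fiber s) := hN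
    have hcomp : pullback.map (i ≫ p) (S.fromSpecResidueField s) p (S.fromSpecResidueField s) i
        (𝟙 _) (𝟙 _) (by simp) (by simp) ≫ pullback.snd p (S.fromSpecResidueField s) =
        pullback.snd (i ≫ p) (S.fromSpecResidueField s) := by
      rw [pullback.lift_snd, Category.comp_id]
    have hloc := KoszulLocusBC.kLocus_baseChange i p (S.fromSpecResidueField s)
      (pullback.fst p (S.fromSpecResidueField s)) (pullback.snd p (S.fromSpecResidueField s))
      (IsPullback.of_hasPullback _ _)
      (pullback.fst (i ≫ p) (S.fromSpecResidueField s)) (CInt.fiberMap i p s)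
      (by
        have h := IsPullback.of_hasPullback (i ≫ p) (S.fromSpecResidueField s)
        rw [← hcomp] at h
        exact h) hsq1.w
    have hKs : ∀ z, Synt.IsKoszulAt (CInt.fiberMap i p s) z := by
      intro z
      rw [← KoszulLocusBC.mem_kLocus_iff]
      exact (Set.ext_iff.mp hloc z).mpr ((KoszulLocusBC.mem_kLocus_iff i _).mpr (hKi _))
    have hreg : RegImm.IsRegularImmersion RegImm.Kind.koszul (CInt.fiberMap i p s) :=
      Groth.Agent.S8656.result (CInt.fiberMap i p s) hKs (𝟙 _) (CInt.fiberMap i p s)
        (Category.comp_id _)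
    exact KRegNoeth19.isRegularClosedImmersion_of_koszul _ hreg

end Groth.Agent.S1677
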