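import Mathlib
import Groth.Agent.Lib.ClosedCond27i
import Groth.Agent.Lib.SchLfpCancel
import Groth.Statements.S16771

set_option autoImplicit false
open CategoryTheory MonoidalCategory CartesianMonoidalCategory MonObj GrpObj AlgebraicGeometry
universe u
open SGA3x

namespace Groth.Agent.S16771

section Helpers

variable {C : Type*} [Category C] [CartesianMonoidalCategory C] {G Y Y' : C} [GrpObj G]

/-- transporter condition of a point, in terms of the universal test point. -/
theorem transp_iff (y : Y ⟶ G) (y' : Y' ⟶ G) {T : C} (g : T ⟶ G) :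
    (∃ w : Y ⊗ T ⟶ Y', w ≫ y' =
      (Y ◁ g) ≫ ((snd Y G) * (fst Y G ≫ y) * (snd Y G)⁻¹)) ↔
      ∀ (T' : C) (s : T' ⟶ T) (a : T' ⟶ Y),
        ∃ a' : T' ⟶ Y', (s ≫ g) * (a ≫ y) * (s ≫ g)⁻¹ = a' ≫ y' := by
  constructor
  · rintro ⟨w, hw⟩ T' s x
    refine ⟨lift x s ≫ w, ?_⟩
    rw [Category.assoc, hw]
    simp only [MonObj.comp_mul, GrpObj.comp_inv, whiskerLeft_snd, whiskerLeft_fst_assoc,
      lift_fst_assoc, lift_snd_assoc]
  · intro H
    obtain ⟨w, hw⟩ := H (Y ⊗ T) (snd Y T) (fst Y T)
    refine ⟨w, ?_⟩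
    rw [← hw]
    simp only [MonObj.comp_mul, GrpObj.comp_inv, whiskerLeft_snd, whiskerLeft_fst_assoc]

end Helpers

/-- Let G be an affine group scheme of finite presentation over a scheme S, Y ⊆ G a closed subscheme
which is finite, flat and of finite presentation over S, and Y' ⊆ G a closed subscheme of finite
presentation over S. Then the transporter of Y into Y' (points g of G such that g y g⁻¹ is a point
of Y' for every point y of Y after any base change) is representable by a closed subscheme of G of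
finite presentation over S. -/
theorem result {S : Scheme.{u}} (G Y Y' : Over S) [GrpObj G]
    (hGa : IsAffineHom G.hom) (hGfp : LocallyOfFinitePresentation G.hom)
    (y : Y ⟶ G) (hy : IsClosedImmersion y.left) (hYf : IsFinite Y.hom) (hYfl : Flat Y.hom)
    (hYfp : LocallyOfFinitePresentation Y.hom)
    (y' : Y' ⟶ G) (hy' : IsClosedImmersion y'.left) (hY'fp : LocallyOfFinitePresentation Y'.hom) :
    ∃ (C : Over S) (c : C ⟶ G), IsClosedImmersion c.left ∧ LocallyOfFinitePresentation C.hom ∧
      ∀ (X : Over S) (g : X ⟶ G), (∃ z : X ⟶ C, z ≫ c = g) ↔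
        ∀ (X' : Over S) (x : X' ⟶ X) (a : X' ⟶ Y), ∃ a' : X' ⟶ Y', (x ≫ g) * (a ≫ y) * (x ≫ g)⁻¹ = a' ≫ y' := by
  have : IsAffineHom G.hom := hGa
  have : LocallyOfFinitePresentation G.hom := hGfp
  have : IsFinite Y.hom := hYf
  have : Flat Y.hom := hYfl
  have : LocallyOfFinitePresentation Y.hom := hYfp
  have : IsClosedImmersion y'.left := hy'
  have hy'fp : LocallyOfFinitePresentation y'.left := by
    have h1 : LocallyOfFinitePresentation (y'.left ≫ G.hom) := by
      rw [Over.w y']
      exact hY'fp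
    exact Groth.Agent.Lib.SchLfpCancel.lfp_of_comp_of_lft h1 inferInstance
  obtain ⟨Z, i, hi, hifp, h⟩ :=
    Groth.Agent.Lib.ClosedCond27.exists_closedImmersion_of_factors_of_good_fg Y G G
      (Groth.Agent.Lib.ClosedCond27.good_of_finite_flat_lfp Y)
      (Groth.Agent.Lib.ClosedCond27.goodFG_of_finite_flat_lfp Y)
      ((snd Y G) * (fst Y G ≫ y) * (snd Y G)⁻¹) y'
  refine ⟨Z, i, hi, ?_, fun T g => ?_⟩
  · rw [← Over.w i]
    infer_instance
  · rw [h T g]
    exact Groth.Agent.S16771.transp_iff y y' g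

end Groth.Agent.S16771
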