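import Mathlib
import Groth.Agent.Lib.ClosedCond27f
import Groth.Statements.S16772

set_option autoImplicit false
open CategoryTheory MonoidalCategory CartesianMonoidalCategory MonObj GrpObj AlgebraicGeometry
universe u
open SGA3x

namespace Groth.Agent.S16772

section Helpers

variable {C : Type*} [Category C] [CartesianMonoidalCategory C] {G Y : C} [GrpObj G]

/-- centralizer condition of a point, in terms of the universal test point. -/
theorem central_iff (y : Y ⟶ G) {T : C} (g : T ⟶ G) :
    (Y ◁ g) ≫ ((snd Y G) * (fst Y G ≫ y)) = (Y ◁ g) ≫ ((fst Y G ≫ y) * (snd Y G)) ↔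
      ∀ (T' : C) (s : T' ⟶ T) (a : T' ⟶ Y), (s ≫ g) * (a ≫ y) = (a ≫ y) * (s ≫ g) := by
  constructor
  · intro H T' s a
    have h1 := congrArg (fun k => lift a s ≫ k) H
    simp only [MonObj.comp_mul, whiskerLeft_snd, whiskerLeft_fst_assoc,
      lift_fst_assoc, lift_snd_assoc] at h1
    exact h1
  · intro H
    simp only [MonObj.comp_mul, whiskerLeft_snd, whiskerLeft_fst_assoc]
    exact H (Y ⊗ T) (snd Y T) (fst Y T)

end Helpers

/-- Let G be an affine group scheme of finite presentation over a scheme S and Y ⊆ G a closed subscheme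
which is finite, flat and of finite presentation over S. Then the centralizer of Y in G (points of G
commuting with every point of Y after any base change) is representable by a closed subscheme of G. -/
theorem result {S : Scheme.{u}} (G Y : Over S) [GrpObj G]
    (hGa : IsAffineHom G.hom) (hGfp : LocallyOfFinitePresentation G.hom)
    (y : Y ⟶ G) (hy : IsClosedImmersion y.left) (hYf : IsFinite Y.hom) (hYfl : Flat Y.hom)
    (hYfp : LocallyOfFinitePresentation Y.hom) :
    ∃ (C : Over S) (c : C ⟶ G), IsClosedImmersion c.left ∧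
      ∀ (X : Over S) (g : X ⟶ G), (∃ z : X ⟶ C, z ≫ c = g) ↔
        ∀ (X' : Over S) (x : X' ⟶ X) (a : X' ⟶ Y), (x ≫ g) * (a ≫ y) = (a ≫ y) * (x ≫ g) := by
  have : IsAffineHom G.hom := hGa
  have : IsFinite Y.hom := hYf
  have : Flat Y.hom := hYfl
  have : LocallyOfFinitePresentation Y.hom := hYfp
  have hsep : IsSeparated G.hom := inferInstance
  obtain ⟨Z, i, hi, h⟩ := Groth.Agent.Lib.ClosedCond27.exists_closedImmersion_of_eq_of_good Y G G
    (Groth.Agent.Lib.ClosedCond27.good_of_finite_flat_lfp Y)
    ((snd Y G) * (fst Y G ≫ y)) ((fst Y G ≫ y) * (snd Y G))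
  refine ⟨Z, i, hi, fun T g => ?_⟩
  rw [h T g]
  exact Groth.Agent.S16772.central_iff y g

end Groth.Agent.S16772
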