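import Groth.Statements.S1678
import Groth.Agent.S1676
import Groth.Agent.S2886
import Groth.Agent.S1661

set_option autoImplicit false
universe u
open CategoryTheory CategoryTheory.Limits AlgebraicGeometry TopologicalSpace
open SDiv

namespace Groth.Agent.S1678

/-- Let X ⟶ S be smooth and let i : Y ⟶ X and j : Y ⟶ S be closed immersions with i ≫ (X ⟶ S) = j. If j
is a regular closed immersion then so is i. -/
theorem result {X Y S : Scheme.{u}} (p : X ⟶ S) [Smooth p] (i : Y ⟶ X) (j : Y ⟶ S)
    [IsClosedImmersion i] [IsClosedImmersion j] (h : i ≫ p = j) (hj : Mor2.IsRegularClosedImmersion j) :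
    Mor2.IsRegularClosedImmersion i := by
  subst h
  -- the graph of `i`
  let Γ : Y ⟶ pullback (i ≫ p) p := pullback.lift (𝟙 Y) i (by simp)
  have h1 : Γ ≫ pullback.fst (i ≫ p) p = 𝟙 Y := pullback.lift_fst _ _ _
  have h2 : Γ ≫ pullback.snd (i ≫ p) p = i := pullback.lift_snd _ _ _
  have hsnd : Mor2.IsRegularClosedImmersion (pullback.snd (i ≫ p) p) :=
    Groth.Agent.S2886.result (i ≫ p) p hj
  have : IsClosedImmersion (pullback.snd (i ≫ p) p) := hsnd.1
  have : IsClosedImmersion (Γ ≫ pullback.snd (i ≫ p) p) := by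
    rw [h2]
    infer_instance
  have : IsClosedImmersion Γ := IsClosedImmersion.of_comp Γ (pullback.snd (i ≫ p) p)
  have hΓ : Mor2.IsRegularClosedImmersion Γ :=
    Groth.Agent.S1676.result (pullback.fst (i ≫ p) p) Γ h1
  have := Groth.Agent.S1661.result Γ (pullback.snd (i ≫ p) p) hΓ hsnd
  rwa [h2] at this

end Groth.Agent.S1678
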