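import Groth.Statements.S1679
import Groth.Agent.Lib.RegSpreadGeom

set_option autoImplicit false
universe u
open CategoryTheory CategoryTheory.Limits AlgebraicGeometry TopologicalSpace
open SDiv

namespace Groth.Agent.S1679


open RingTheory.Sequence in
/-- Regular sequences in an affine open give regular sequences in the stalk. -/
theorem forward {X Z : Scheme.{u}} (i : Z ⟶ X) [IsClosedImmersion i] (z : Z) (W : X.affineOpens)
    (hzW : i z ∈ W.1) (rs : List Γ(X, W.1)) (hrs : IsRegular Γ(X, W.1) rs)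
    (hker : i.ker.ideal W = Ideal.ofList rs) :
    ∃ rs : List ↑(X.presheaf.stalk (i z)), IsRegular ↑(X.presheaf.stalk (i z)) rs ∧
      RingHom.ker (i.stalkMap z).hom = Ideal.ofList rs := by
  have hk := Groth.Agent.Lib.ClosedImmStalk.ker_stalkMap_eq_map i W z hzW
  rw [hker, Ideal.map_ofList] at hk
  letI alg : Algebra Γ(X, W.1) (X.presheaf.stalk (i z)) :=
    X.presheaf.algebra_section_stalk ⟨i z, hzW⟩
  haveI hloc : IsLocalization.AtPrime (X.presheaf.stalk (i z))
      (W.2.primeIdealOf ⟨i z, hzW⟩).asIdeal := W.2.isLocalization_stalk ⟨i z, hzW⟩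
  haveI : Module.Flat Γ(X, W.1) (X.presheaf.stalk (i z)) :=
    IsLocalization.flat (X.presheaf.stalk (i z)) (W.2.primeIdealOf ⟨i z, hzW⟩).asIdeal.primeCompl
  refine ⟨rs.map (X.presheaf.germ W.1 (i z) hzW).hom, ⟨?_, ?_⟩, hk⟩
  · exact IsWeaklyRegular.of_flat (S := X.presheaf.stalk (i z)) hrs.toIsWeaklyRegular
  · intro htop
    rw [← hk, smul_eq_mul, Ideal.mul_top] at htop
    have h1 : (1 : X.presheaf.stalk (i z)) ∈ RingHom.ker (i.stalkMap z).hom := by
      rw [← htop]; trivial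
    rw [RingHom.mem_ker, map_one] at h1
    exact one_ne_zero h1

open RingTheory.Sequence in
/-- Transport of the spread-out sequence to an equal open. -/
theorem spread_of_eq {X Z : Scheme.{u}} (i : Z ⟶ X) (U₀ : X.affineOpens) (g : Γ(X, U₀.1))
    (as : List Γ(X, U₀.1))
    (hwreg : IsWeaklyRegular Γ(X, X.basicOpen g)
      (as.map (X.presheaf.map (homOfLE (X.basicOpen_le g)).op).hom))
    (hkerg : RingHom.ker (i.app (X.basicOpen g)).hom =
      Ideal.ofList (as.map (X.presheaf.map (homOfLE (X.basicOpen_le g)).op).hom))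
    (W : X.Opens) (hW : W = X.basicOpen g) (hle : W ≤ U₀.1) :
    IsWeaklyRegular Γ(X, W) (as.map (X.presheaf.map (homOfLE hle).op).hom) ∧
      RingHom.ker (i.app W).hom = Ideal.ofList (as.map (X.presheaf.map (homOfLE hle).op).hom) := by
  subst hW
  exact ⟨hwreg, hkerg⟩

/-- Equivalence of (1), (5) and (9) (the regular-sequence variants only): let X be a locally Noetherian
scheme, i : Z ⟶ X a closed immersion and z a point of Z. Then i is a regular closed immersion over
some open neighbourhood of i z if and only if the kernel of O_{X, i z} → O_{Z, z} is generated by a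
regular sequence of O_{X, i z}. -/
theorem result {X Z : Scheme.{u}} [IsLocallyNoetherian X] (i : Z ⟶ X) [IsClosedImmersion i] (z : ↥Z) :
    (∃ V : X.Opens, i z ∈ V ∧ Mor2.IsRegularClosedImmersion (i ∣_ V)) ↔
      ∃ rs : List ↑(X.presheaf.stalk (i z)), RingTheory.Sequence.IsRegular ↑(X.presheaf.stalk (i z)) rs ∧
        RingHom.ker (i.stalkMap z).hom = Ideal.ofList rs := by
  constructor
  · rintro ⟨V, hzV, hcl, hloc⟩
    obtain ⟨U', hU', hz'U', rs, hrs, hkerU'⟩ := hloc ⟨z, hzV⟩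
    rw [Scheme.ker_morphismRestrict_ideal i V ⟨U', hU'⟩] at hkerU'
    refine forward i z ⟨V.ι ''ᵁ U', hU'.image_of_isOpenImmersion _⟩ ?_ rs hrs hkerU'
    refine ⟨(i ∣_ V) ⟨z, hzV⟩, hz'U', ?_⟩
    exact morphismRestrict_base_coe i V ⟨z, hzV⟩
  · rintro ⟨rs, hreg, hker⟩
    obtain ⟨_, ⟨U₀, hU₀, rfl⟩, hzU₀, -⟩ :=
      X.isBasis_affineOpens.exists_subset_of_mem_open (Set.mem_univ (i z)) isOpen_univ
    haveI hcl₀ : IsClosedImmersion (i ∣_ U₀) :=
      IsZariskiLocalAtTarget.restrict (P := @IsClosedImmersion) (f := i) inferInstance _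
    obtain ⟨g, as, hzg, hwreg, hkerg⟩ := Groth.Agent.Lib.RegSpreadGeom.exists_spread_geom i
      ⟨U₀, hU₀⟩ z hzU₀ rs hreg.toIsWeaklyRegular hker
    refine ⟨X.basicOpen g, hzg,
      IsZariskiLocalAtTarget.restrict (P := @IsClosedImmersion) (f := i) inferInstance _,
      fun z' => ?_⟩
    haveI : IsAffine (X.basicOpen g).toScheme := hU₀.basicOpen g
    have hW : (X.basicOpen g).ι ''ᵁ ⊤ = X.basicOpen g := (X.basicOpen g).ι_image_top
    have hle : (X.basicOpen g).ι ''ᵁ ⊤ ≤ U₀ := hW.le.trans (X.basicOpen_le g)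
    obtain ⟨h1, h2⟩ := spread_of_eq i ⟨U₀, hU₀⟩ g as hwreg hkerg _ hW hle
    refine ⟨⊤, isAffineOpen_top _, trivial,
      as.map (X.presheaf.map (homOfLE hle).op).hom, ⟨h1, ?_⟩, ?_⟩
    · intro htop
      have hk' : RingHom.ker (i.app ((X.basicOpen g).ι ''ᵁ ⊤)).hom = ⊤ := by
        rw [h2]
        have := htop.symm
        rwa [smul_eq_mul, Ideal.mul_top] at this
      have h3 : (1 : Γ(X, (X.basicOpen g).ι ''ᵁ ⊤)) ∈
          RingHom.ker (i.app ((X.basicOpen g).ι ''ᵁ ⊤)).hom := by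
        rw [hk']; trivial
      rw [RingHom.mem_ker, map_one] at h3
      have hz'W : z'.1 ∈ i ⁻¹ᵁ ((X.basicOpen g).ι ''ᵁ ⊤) := by
        rw [hW]; exact z'.2
      have h4 := congrArg (Z.presheaf.germ (i ⁻¹ᵁ ((X.basicOpen g).ι ''ᵁ ⊤)) z'.1 hz'W).hom h3
      rw [map_one, map_zero] at h4
      exact one_ne_zero h4
    · rw [Scheme.ker_morphismRestrict_ideal i (X.basicOpen g) ⟨⊤, isAffineOpen_top _⟩,
        Scheme.Hom.ker_apply]
      exact h2

end Groth.Agent.S1679
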