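import Groth.Statements.S16794
import Groth.Agent.Lib.ConnAlongH44
import Groth.Agent.Lib.HochschildH44

set_option autoImplicit false
universe v u
open PCurv

namespace Groth.Agent.S16794

open Groth.Agent.Lib.HochschildH44 Groth.Agent.Lib.ConnAlongH44

section

open TensorProduct

variable {A : Type v} {B M : Type u} [CommRing A] [CommRing B] [Algebra A B]
    [AddCommGroup M] [Module B M] [Module A M] [IsScalarTower A B M]

theorem along_add (nabla : M →ₗ[A] M ⊗[B] KaehlerDifferential A B)
    (φ ψ : KaehlerDifferential A B →ₗ[B] B) :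
    Conn.along nabla (φ + ψ) = Conn.along nabla φ + Conn.along nabla ψ := by
  ext m
  simp only [Conn.along_apply, LinearMap.add_apply, TensorProduct.map_add_right, map_add]

theorem along_smul_left (nabla : M →ₗ[A] M ⊗[B] KaehlerDifferential A B)
    (c : B) (φ : KaehlerDifferential A B →ₗ[B] B) :
    Conn.along nabla (c • φ) = Module.toModuleEnd A (S := B) M c * Conn.along nabla φ := by
  ext m
  simp only [Conn.along_apply, TensorProduct.map_smul_right, LinearMap.smul_apply, map_smul,
    Module.End.mul_apply, Module.toModuleEnd_apply]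
  rfl

/-- the `p`-th iterate of a derivation in characteristic `p`, as a derivation -/
noncomputable def iterDer (p : ℕ) [Fact p.Prime] [CharP B p] (θ : Derivation A B B) :
    Derivation A B B :=
  Derivation.mk' ((θ : B →ₗ[A] B) ^ p) (by
    intro a b
    rw [Module.End.pow_apply, Module.End.pow_apply, Module.End.pow_apply]
    have := iterate_prime_mul (θ : B →ₗ[A] B).toAddMonoidHom (by
      intro a b
      change θ (a * b) = θ a * b + a * θ b
      rw [Derivation.leibniz, smul_eq_mul, smul_eq_mul]; ring) p a b
    change θ^[p] (a * b) = a • θ^[p] b + b • θ^[p] a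
    change θ^[p] (a * b) = θ^[p] a * b + a * θ^[p] b at this
    rw [this, smul_eq_mul, smul_eq_mul]; ring)

theorem iterDer_isIterPow (p : ℕ) [Fact p.Prime] [CharP B p] (θ : Derivation A B B) :
    Conn.IsIterPow θ p (iterDer p θ) := by
  intro b
  change ((θ : B →ₗ[A] B) ^ p) b = _
  rw [Module.End.pow_apply]
  rfl

end

open TensorProduct in
/-- Let p be a prime number and B a commutative algebra of characteristic p over a commutative ring A
whose module Ω of Kähler differentials over A is free of rank one on a form ω; let θ₀ be the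
A-derivation of B dual to ω (its B-linear functional Ω → B takes the value 1 on ω), and let ∇ be a
connection on a finite free B-module M. Then the p-curvature of ∇ vanishes identically — for every
A-derivation θ of B and every derivation θ' that agrees with the p-fold iterate of θ, the
endomorphism (∇_θ)^p − ∇_{θ'} of M is zero — if and only if it vanishes for the single derivation
θ₀. -/
theorem result {A : Type v} {B M : Type u} [CommRing A] [CommRing B]
    [Algebra A B] (p : ℕ) [Fact p.Prime] [CharP B p]
    [AddCommGroup M] [Module B M] [Module A M] [IsScalarTower A B M] [Module.Finite B M] [Module.Free B M]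
    (bΩ : Module.Basis (Fin 1) B (KaehlerDifferential A B)) (θ₀ : Derivation A B B)
    (hθ₀ : θ₀.liftKaehlerDifferential (bΩ 0) = 1)
    (nabla : M →ₗ[A] M ⊗[B] KaehlerDifferential A B)
    (hc : Conn.IsConn (KaehlerDifferential.D A B) nabla) :
    (∀ θ θp : Derivation A B B, Conn.IsIterPow θ p θp → Conn.pCurv p nabla θ θp = 0) ↔
      (∀ θp : Derivation A B B, Conn.IsIterPow θ₀ p θp → Conn.pCurv p nabla θ₀ θp = 0) := by
  constructor
  · intro h θp hθp
    exact h θ₀ θp hθp
  intro h₀ θ θp hθp
  -- the function `f` with `θ = f θ₀`
  set f : B := θ.liftKaehlerDifferential (bΩ 0) with hf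
  have hθ : ∀ b, θ b = f * θ₀ b := by
    intro b
    have hb : KaehlerDifferential.D A B b = bΩ.repr (KaehlerDifferential.D A B b) 0 • bΩ 0 := by
      conv_lhs => rw [← bΩ.sum_repr (KaehlerDifferential.D A B b)]
      rw [Fin.sum_univ_one]
    rw [← Derivation.liftKaehlerDifferential_comp_D θ, ← Derivation.liftKaehlerDifferential_comp_D θ₀,
      hb, map_smul, map_smul, hθ₀, ← hf, smul_eq_mul, smul_eq_mul]
    ring
  let ε : Derivation ℤ B B := θ.restrictScalars ℤ
  have hε : ∀ b, ε b = f * θ₀ b := hθ
  set g : B := (Gpoly ε f p).coeff 1 with hg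
  let θ₀p := iterDer p θ₀
  have hθ₀p : Conn.IsIterPow θ₀ p θ₀p := iterDer_isIterPow p θ₀
  -- Hochschild in `End_A(M)`
  let μ : B →+* Module.End A M := Module.toModuleEnd A (S := B) M
  let N : Module.End A M := Conn.alongDer nabla θ₀
  have hN : ∀ b, N * μ b = μ b * N + μ (θ₀ b) := by
    intro b
    ext m
    change Conn.along nabla θ₀.liftKaehlerDifferential (b • m) =
      b • Conn.along nabla θ₀.liftKaehlerDifferential m + θ₀ b • m
    rw [along_smul (KaehlerDifferential.D A B) nabla hc, Derivation.liftKaehlerDifferential_comp_D]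
  have H1 := hochschild ε f μ N θ₀ hN hε p
  -- Hochschild in `End_A(B)`
  let μ' : B →+* Module.End A B := Module.toModuleEnd A (S := B) B
  let N' : Module.End A B := (θ₀ : B →ₗ[A] B)
  have hN' : ∀ b, N' * μ' b = μ' b * N' + μ' (θ₀ b) := by
    intro b
    ext c
    change θ₀ (b • c) = b • θ₀ c + θ₀ b • c
    rw [smul_eq_mul, Derivation.leibniz]
    simp only [smul_eq_mul]
    ring
  have H2 := hochschild ε f μ' N' θ₀ hN' hε p
  have hθp' : ∀ b, θp b = g * θ₀ b + f ^ p * θ₀p b := by
    intro b
    have e1 : μ' f * N' = (θ : B →ₗ[A] B) := by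
      ext c
      change f • θ₀ c = θ c
      rw [hθ, smul_eq_mul]
    rw [e1] at H2
    have := LinearMap.congr_fun H2 b
    rw [Module.End.pow_apply] at this
    rw [hθp b]
    change θ^[p] b = _ at this
    rw [this]
    change g • θ₀ b + f ^ p • ((θ₀ : B →ₗ[A] B) ^ p) b = _
    rfl
  -- translate to covariant derivatives
  have e2 : Conn.alongDer nabla θ = μ f * N := by
    change Conn.along nabla θ.liftKaehlerDifferential =
      Module.toModuleEnd A (S := B) M f * Conn.along nabla θ₀.liftKaehlerDifferential
    rw [← along_smul_left]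
    congr 1
    apply Derivation.liftKaehlerDifferential_unique
    ext b
    change θ.liftKaehlerDifferential (KaehlerDifferential.D A B b) =
      f • θ₀.liftKaehlerDifferential (KaehlerDifferential.D A B b)
    rw [Derivation.liftKaehlerDifferential_comp_D, Derivation.liftKaehlerDifferential_comp_D, hθ,
      smul_eq_mul]
  have e3 : Conn.alongDer nabla θp = μ g * N + μ (f ^ p) * Conn.alongDer nabla θ₀p := by
    change Conn.along nabla θp.liftKaehlerDifferential =
      Module.toModuleEnd A (S := B) M g * Conn.along nabla θ₀.liftKaehlerDifferential +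
      Module.toModuleEnd A (S := B) M (f ^ p) * Conn.along nabla θ₀p.liftKaehlerDifferential
    rw [← along_smul_left, ← along_smul_left, ← along_add]
    congr 1
    apply Derivation.liftKaehlerDifferential_unique
    ext b
    change θp.liftKaehlerDifferential (KaehlerDifferential.D A B b) =
      g • θ₀.liftKaehlerDifferential (KaehlerDifferential.D A B b) +
        f ^ p • θ₀p.liftKaehlerDifferential (KaehlerDifferential.D A B b)
    rw [Derivation.liftKaehlerDifferential_comp_D, Derivation.liftKaehlerDifferential_comp_D,
      Derivation.liftKaehlerDifferential_comp_D, hθp', smul_eq_mul, smul_eq_mul]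
  have h0 := h₀ θ₀p hθ₀p
  unfold Conn.pCurv at h0 ⊢
  rw [e2, e3, H1]
  have : N ^ p = Conn.alongDer nabla θ₀p := sub_eq_zero.1 h0
  rw [this]
  abel

end Groth.Agent.S16794
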