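import Groth.Statements.S16795
import Groth.Agent.Lib.LogConnH44

set_option autoImplicit false
universe v u
open LogConn

namespace Groth.Agent.S16795

open Groth.Agent.Lib.LogConnH44

section

open TensorProduct

variable {A : Type v} {B L E : Type u} [CommRing A] [CommRing B]
    [Algebra A B] [AddCommGroup L] [Module B L] [Module A L] [IsScalarTower A B L]
    [AddCommGroup E] [Module B E] [Module A E] [IsScalarTower A B E]

/-- The `B`-span of the elements `t_{I∖J} ∇_J (e k)`. -/
noncomputable def F (nabla : E →ₗ[A] E ⊗[B] L) {n : ℕ} (ω : Module.Basis (Fin n) B L)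
    (t : Fin n → B) {m : ℕ} (e : Fin m → E) (I : Finset (Fin n)) : Submodule B E :=
  Submodule.span B (⋃ J ∈ I.powerset, Set.range (fun k : Fin m =>
        (∏ i ∈ I \ J, t i) • LogConn.compProd nabla ω J (e k)))

omit [Module A L] [IsScalarTower A B L] in
theorem gen_mem_F (nabla : E →ₗ[A] E ⊗[B] L) {n : ℕ} (ω : Module.Basis (Fin n) B L)
    (t : Fin n → B) {m : ℕ} (e : Fin m → E) {I J : Finset (Fin n)} (hJ : J ⊆ I) (k : Fin m) :
    (∏ i ∈ I \ J, t i) • LogConn.compProd nabla ω J (e k) ∈ F nabla ω t e I := by
  refine Submodule.subset_span ?_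
  simp only [Set.mem_iUnion, Set.mem_range]
  exact ⟨J, Finset.mem_powerset.2 hJ, k, rfl⟩

omit [Module A L] [IsScalarTower A B L] in
theorem prod_smul_mem_F (nabla : E →ₗ[A] E ⊗[B] L) {n : ℕ} (ω : Module.Basis (Fin n) B L)
    (t : Fin n → B) {m : ℕ} (e : Fin m → E) {I J : Finset (Fin n)} (hJ : J ⊆ I) {x : E}
    (hx : x ∈ F nabla ω t e J) : (∏ i ∈ I \ J, t i) • x ∈ F nabla ω t e I := by
  classical
  have : F nabla ω t e J ≤ (F nabla ω t e I).comap (LinearMap.lsmul B E (∏ i ∈ I \ J, t i)) := by
    unfold F
    rw [Submodule.span_le]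
    intro y hy
    simp only [Set.mem_iUnion, Set.mem_range] at hy
    obtain ⟨K, hK, k, rfl⟩ := hy
    have hK := Finset.mem_powerset.1 hK
    rw [SetLike.mem_coe, Submodule.mem_comap, LinearMap.lsmul_apply, smul_smul, ← Finset.prod_union (by
      rw [Finset.disjoint_left]
      intro a ha hb
      exact (Finset.mem_sdiff.1 ha).2 (Finset.mem_sdiff.1 hb).1)]
    have : I \ J ∪ J \ K = I \ K := by
      ext a
      simp only [Finset.mem_union, Finset.mem_sdiff]
      constructor
      · rintro (⟨h1, h2⟩ | ⟨h1, h2⟩)
        · exact ⟨h1, fun h => h2 (hK h)⟩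
        · exact ⟨hJ h1, h2⟩
      · rintro ⟨h1, h2⟩
        by_cases h3 : a ∈ J
        · exact Or.inr ⟨h3, h2⟩
        · exact Or.inl ⟨h1, h3⟩
    rw [this]
    exact gen_mem_F nabla ω t e (hK.trans hJ) k
  exact this hx

variable (lam : B) {n : ℕ} (t : Fin n → B) (bΩ : Module.Basis (Fin n) B (KaehlerDifferential A B))
    (hbΩ : ∀ i, bΩ i = KaehlerDifferential.D A B (t i))
    (ω : Module.Basis (Fin n) B L) (ι : KaehlerDifferential A B →ₗ[B] L)
    (hι : ∀ i, ι (KaehlerDifferential.D A B (t i)) = t i • ω i)
    (nabla : E →ₗ[A] E ⊗[B] L)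
    (hc : Conn.IsLamConn (ι.compDer (KaehlerDifferential.D A B)) lam nabla)
    {m : ℕ} (e : Fin m → E)

include hbΩ hι hc in
theorem comp_mem_F_insert (a : Fin n) (s : Finset (Fin n)) (h : ∀ x ∈ s, a < x) {y : E}
    (hy : y ∈ F nabla ω t e s) :
    LogConn.comp nabla ω a y ∈ F nabla ω t e (insert a s) ∧ t a • y ∈ F nabla ω t e (insert a s) := by
  classical
  have h2 : a ∉ s := fun ha => lt_irrefl _ (h a ha)
  have hta : ∏ i ∈ insert a s \ s, t i = t a := by
    have : insert a s \ s = {a} := by
      ext b
      simp only [Finset.mem_sdiff, Finset.mem_insert, Finset.mem_singleton]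
      constructor
      · rintro ⟨h5 | h5, h6⟩
        · exact h5
        · exact absurd h5 h6
      · rintro rfl
        exact ⟨Or.inl rfl, h2⟩
    rw [this, Finset.prod_singleton]
  unfold F at hy
  induction hy using Submodule.span_induction with
  | mem y hy =>
    simp only [Set.mem_iUnion, Set.mem_range] at hy
    obtain ⟨K, hK, k, rfl⟩ := hy
    have hK := Finset.mem_powerset.1 hK
    constructor
    · rw [comp_smul _ lam nabla hc]
      have h0 : ω.coord a ((ι.compDer (KaehlerDifferential.D A B)) (∏ i ∈ s \ K, t i)) = 0 :=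
        coord_iota_D_prod t ω ι hι a (s \ K) (fun h => h2 (Finset.mem_sdiff.1 h).1)
      rw [h0, mul_zero, zero_smul, add_zero]
      have h3 : LogConn.comp nabla ω a (LogConn.compProd nabla ω K (e k)) =
          LogConn.compProd nabla ω (insert a K) (e k) := by
        rw [compProd_insert nabla ω a K (fun x hx => h x (hK hx))]; rfl
      have h4 : s \ K = insert a s \ insert a K := by
        ext b
        simp only [Finset.mem_sdiff, Finset.mem_insert]
        constructor
        · rintro ⟨h5, h6⟩
          refine ⟨Or.inr h5, ?_⟩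
          rintro (rfl | h7)
          · exact h2 h5
          · exact h6 h7
        · rintro ⟨h5 | h5, h6⟩
          · exact absurd (Or.inl h5) h6
          · exact ⟨h5, fun h7 => h6 (Or.inr h7)⟩
      rw [h3, h4]
      exact gen_mem_F nabla ω t e (Finset.insert_subset_insert a hK) k
    · rw [← hta]
      exact prod_smul_mem_F nabla ω t e (Finset.subset_insert a s) (gen_mem_F nabla ω t e hK k)
  | zero => simp
  | add x y _ _ hx hy =>
    rw [map_add, smul_add]
    exact ⟨Submodule.add_mem _ hx.1 hy.1, Submodule.add_mem _ hx.2 hy.2⟩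
  | smul c x _ hx =>
    constructor
    · rw [comp_smul _ lam nabla hc]
      have e0 : (ι.compDer (KaehlerDifferential.D A B)) c = ι (KaehlerDifferential.D A B c) := rfl
      rw [e0, coord_iota_D t bΩ hbΩ ω ι hι]
      refine Submodule.add_mem _ (Submodule.smul_mem _ _ hx.1) ?_
      rw [show (lam * (t a * bΩ.coord a (KaehlerDifferential.D A B c))) • x =
        (lam * bΩ.coord a (KaehlerDifferential.D A B c)) • (t a • x) by rw [smul_smul]; congr 1; ring]
      exact Submodule.smul_mem _ _ hx.2
    · rw [smul_comm]
      exact Submodule.smul_mem _ _ hx.2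

include hbΩ hι hc in
theorem compProd_mem_F (he : Submodule.span B (Set.range e) = ⊤) (J : Finset (Fin n)) :
    ∀ x : E, LogConn.compProd nabla ω J x ∈ F nabla ω t e J := by
  classical
  induction J using Finset.induction_on_min with
  | empty =>
    intro x
    have : F nabla ω t e ∅ = ⊤ := by
      rw [eq_top_iff, ← he, Submodule.span_le]
      rintro _ ⟨k, rfl⟩
      have := gen_mem_F nabla ω t e (Finset.Subset.refl (∅ : Finset (Fin n))) k
      simpa [compProd_empty] using this
    rw [this]; trivial
  | insert a s h ih =>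
    intro x
    rw [compProd_insert nabla ω a s h, LinearMap.comp_apply]
    exact (comp_mem_F_insert lam t bΩ hbΩ ω ι hι nabla hc e a s h (ih x)).1

end

open TensorProduct in
/-- Let B be a commutative algebra over a commutative ring A, λ ∈ B, and t₁, …, tₙ ∈ B elements whose
differentials dt₁, …, dtₙ form a basis of the Kähler differentials Ω of B over A; let L be a
B-module free on ω₁, …, ωₙ with a B-linear ι : Ω → L sending dtᵢ to tᵢ ωᵢ (ωᵢ playing the role of
dlog tᵢ), and E a B-module with an A-linear ∇ : E → E ⊗ L obeying the λ-twisted Leibniz rule ∇(b e)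
= b ∇e + λ e ⊗ ι(db); write ∇ᵢ for the components of ∇ in the basis ω, ∇_J for their composite over
a finite index set J in increasing order, and E_I = Σ_{J ⊆ I} (∏_{i ∈ I∖J} tᵢ) · ∇_J(E) (an
A-submodule of E) for a finite index set I. Suppose E is generated over B by finitely many elements
e₁, …, e_m. Then for every finite index set I the piece E_I is the B-span of the finitely many
elements (∏_{i ∈ I∖J} tᵢ) · ∇_J(e_k), J ⊆ I, 1 ≤ k ≤ m; in particular E_I is a finitely generated
B-module. (The published statement is phrased for sheaves — E_w is quasi-coherent, resp. coherent,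
when E is — and its proof exhibits these generators; flatness of ∇ is not used.) -/
theorem result {A : Type v} {B L E : Type u} [CommRing A] [CommRing B]
    [Algebra A B] [AddCommGroup L] [Module B L] [Module A L] [IsScalarTower A B L]
    [AddCommGroup E] [Module B E] [Module A E] [IsScalarTower A B E]
    (lam : B) {n : ℕ} (t : Fin n → B) (bΩ : Module.Basis (Fin n) B (KaehlerDifferential A B))
    (hbΩ : ∀ i, bΩ i = KaehlerDifferential.D A B (t i))
    (ω : Module.Basis (Fin n) B L) (ι : KaehlerDifferential A B →ₗ[B] L)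
    (hι : ∀ i, ι (KaehlerDifferential.D A B (t i)) = t i • ω i)
    (nabla : E →ₗ[A] E ⊗[B] L)
    (hc : Conn.IsLamConn (ι.compDer (KaehlerDifferential.D A B)) lam nabla)
    {m : ℕ} (e : Fin m → E) (he : Submodule.span B (Set.range e) = ⊤) (I : Finset (Fin n)) :
    (Submodule.span B (⋃ J ∈ I.powerset, Set.range (fun k : Fin m =>
        (∏ i ∈ I \ J, t i) • LogConn.compProd nabla ω J (e k)))).restrictScalars A =
      LogConn.piece nabla ω t I := by
  change (F nabla ω t e I).restrictScalars A = _
  apply le_antisymm
  · let P : Submodule B E :=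
      { carrier := LogConn.piece nabla ω t I
        add_mem' := fun ha hb => Submodule.add_mem _ ha hb
        zero_mem' := Submodule.zero_mem _
        smul_mem' := fun b x hx => smul_mem_piece lam t bΩ hbΩ ω ι hι nabla hc I b hx }
    have : F nabla ω t e I ≤ P := by
      unfold F
      rw [Submodule.span_le]
      intro y hy
      simp only [Set.mem_iUnion, Set.mem_range] at hy
      obtain ⟨K, hK, k, rfl⟩ := hy
      exact mem_piece_of_subset nabla ω t (Finset.mem_powerset.1 hK) (e k)
    intro x hx
    exact this hx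
  · refine piece_le_of_forall nabla ω t I _ fun J hJ x => ?_
    exact prod_smul_mem_F nabla ω t e hJ (compProd_mem_F lam t bΩ hbΩ ω ι hι nabla hc e he J x)

end Groth.Agent.S16795
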