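import Groth.Statements.S16801
import Groth.Agent.Lib.RelHilbert

set_option autoImplicit false
universe u
open LunaSt

namespace Groth.Agent.S16801

open TensorProduct
open Groth.Agent.Lib.Comod Groth.Agent.Lib.Reynolds38 Groth.Agent.Lib.HilbertFin38
  Groth.Agent.Lib.RelHilbert

/-- Let `k` be a field and `H` a commutative Hopf algebra of finite type over `k` all of whose
finite-dimensional comodules are semisimple (a linearly reductive affine group `G = Spec H` of
finite type). Let `A` be a Noetherian commutative `k`-algebra with a coaction of `H` that is an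
algebra map (an action of `G` on `Spec A`), and `C` a commutative `A`-algebra of finite type with a
coaction of `H` that is an algebra map, such that the structure map `A → C` is a comodule map (a
finitely generated `G`-equivariant quasi-coherent algebra on `Spec A`). Then the invariants `C^G`
form a finitely generated algebra over `A^G`: there is a finite subset `s` of `C` such that `C^G` is
the `k`-subalgebra generated by the image of `A^G` and `s`. (The published statement is that for a
Noetherian algebraic stack with a good moduli space `π`, pushforward along `π` preserves finitely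
generated algebras; this row is its case `[Spec A/G] → Spec A^G`, for which the pushforward of the
algebra given by `C` has global sections `C^G`. All of `k`, `H`, `A`, `C` are taken in one
universe.) -/
theorem result
    (k : Type u) [Field k] (H : Type u) [CommRing H] [HopfAlgebra k H] [Algebra.FiniteType k H]
    (hG : HopfRep.IsLinearlyReductive k H)
    (A : Type u) [CommRing A] [Algebra k A] [IsNoetherianRing A]
    [HopfRep.Comod k H A] [GLin.IsCoactAlg k H A]
    (C : Type u) [CommRing C] [Algebra k C] [HopfRep.Comod k H C] [GLin.IsCoactAlg k H C]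
    [Algebra A C] [IsScalarTower k A C] [Algebra.FiniteType A C]
    (hAC : Hoch.IsComodHom H (IsScalarTower.toAlgHom k A C).toLinearMap) :
    ∃ s : Finset C, GLin.invariants k H C =
      Algebra.adjoin k (⇑(algebraMap A C) '' ↑(GLin.invariants k H A) ∪ ↑s) := by
  classical
  obtain ⟨t, ht⟩ := (Algebra.FiniteType.out : (⊤ : Subalgebra A C).FG)
  obtain ⟨V, hVfin, htV, hVsub⟩ := exists_finite_subcomod_span (k := k) (C := H) (V := C) t
  let ι : Type u := ULift.{u} (Fin (Module.finrank k V))
  let b : Module.Basis ι k V := (Module.finBasis k V).reindex Equiv.ulift.symm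
  obtain ⟨m, hm, hΔ, hε⟩ := exists_matrix_coeff V hVsub b
  letI cB : HopfRep.Comod k H (MvPolynomial ι A) := relComod m hΔ hε
  haveI : GLin.IsCoactAlg k H (MvPolynomial ι A) := relComod_isCoactAlg m hΔ hε
  obtain ⟨T, hTinv, hTgen⟩ := exists_finset_invariants_adjoin_rel (k := k) (H := H) (A := A)
    (ι := ι) hG (relCoact_X_mem m) (relCoact_C_mem m)
    (fun a ha => mem_invariants_of_relCoact_C m a ((GLin.mem_invariants_iff k H _ _).1 ha))
  let φ : MvPolynomial ι A →ₐ[A] C := MvPolynomial.aeval (fun i => (b i : C))
  let φk : MvPolynomial ι A →ₐ[k] C := φ.restrictScalars k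
  have hφX : ∀ i, φk (MvPolynomial.X i) = (b i : C) := fun i => by simp [φk, φ]
  have hφC : ∀ a, φk (MvPolynomial.C a) = algebraMap A C a := fun a => by simp [φk, φ]
  -- φ is a comodule map
  have hφcom : Hoch.IsComodHom H φk.toLinearMap := by
    have h : (GLin.coactAlgHom k H C).comp φk =
        (Algebra.TensorProduct.map φk (AlgHom.id k H)).comp (relCoact (k := k) (A := A) m) := by
      apply MvPolynomial.algHom_ext'
      · apply AlgHom.ext
        intro a
        simp only [AlgHom.comp_apply, Cₐ_apply, relCoact_C, hφC, GLin.coactAlgHom_apply]
        have h1 := LinearMap.congr_fun hAC a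
        simp only [LinearMap.coe_comp, Function.comp_apply, AlgHom.toLinearMap_apply,
          IsScalarTower.coe_toAlgHom'] at h1
        rw [h1]
        generalize HopfRep.Comod.coact (k := k) (A := H) a = t'
        induction t' using TensorProduct.induction_on with
        | zero => simp
        | add x y hx hy => simp only [map_add, hx, hy]
        | tmul a' h' => simp [hφC]
      · intro i
        simp only [AlgHom.comp_apply, hφX, GLin.coactAlgHom_apply, hm, relCoact_X, map_sum,
          Algebra.TensorProduct.map_tmul, AlgHom.id_apply]
    apply LinearMap.ext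
    intro x
    have hx := AlgHom.congr_fun h x
    simp only [AlgHom.comp_apply, GLin.coactAlgHom_apply] at hx
    rw [algMap_rTensor] at hx
    exact hx
  -- φ is surjective
  have hφsurj : Function.Surjective φk := by
    have hV : ∀ v ∈ V, v ∈ φ.range := by
      intro v hv
      have h1 := congrArg Subtype.val (b.sum_repr ⟨v, hv⟩)
      simp only [Submodule.coe_sum, Submodule.coe_smul] at h1
      rw [← h1]
      refine Subalgebra.sum_mem _ fun i _ => ?_
      have : (b.repr ⟨v, hv⟩ i) • (b i : C) = φ (MvPolynomial.C (algebraMap k A (b.repr ⟨v, hv⟩ i)) *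
          MvPolynomial.X i) := by
        rw [map_mul, show φ (MvPolynomial.X i) = (b i : C) from hφX i,
          show φ (MvPolynomial.C (algebraMap k A (b.repr ⟨v, hv⟩ i))) =
          algebraMap A C (algebraMap k A (b.repr ⟨v, hv⟩ i)) from hφC _,
          ← IsScalarTower.algebraMap_apply, Algebra.smul_def]
      rw [this]
      exact ⟨_, rfl⟩
    have hrange : φ.range = ⊤ := by
      rw [eq_top_iff, ← ht]
      apply Algebra.adjoin_le
      intro x hx
      exact hV x (htV (Submodule.subset_span hx))
    intro c
    have : c ∈ φ.range := by rw [hrange]; trivial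
    exact this
  refine ⟨T.image φk, ?_⟩
  apply le_antisymm
  · intro f hf
    obtain ⟨F, hF, rfl⟩ := exists_fixedPts_map_eq hG φk.toLinearMap hφcom hφsurj f hf
    have hF' := hTgen F hF
    have himg : (⇑(algebraMap A C) '' ↑(GLin.invariants k H A) ∪ ↑(T.image φk) : Set C) =
        φk '' ((MvPolynomial.C '' (GLin.invariants k H A : Set A)) ∪
          (T : Set (MvPolynomial ι A))) := by
      rw [Set.image_union, Set.image_image, Finset.coe_image]
      congr 1
      ext c
      simp only [Set.mem_image, hφC]
    rw [himg, ← AlgHom.map_adjoin]
    exact ⟨F, hF', rfl⟩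
  · apply Algebra.adjoin_le
    rintro x (⟨a, ha, rfl⟩ | hx)
    · exact map_mem_fixedPts (f := (IsScalarTower.toAlgHom k A C).toLinearMap) hAC ha
    · rw [Finset.coe_image] at hx
      obtain ⟨F, hF, rfl⟩ := hx
      exact map_mem_fixedPts (f := φk.toLinearMap) hφcom (hTinv F hF)

end Groth.Agent.S16801
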