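import Groth.Statements.S1681
import Groth.Agent.S1682
import Mathlib.RingTheory.Ideal.MinimalPrime.Localization

set_option autoImplicit false
universe u
open CategoryTheory CategoryTheory.Limits AlgebraicGeometry TopologicalSpace
open SDiv

namespace Groth.Agent.S1681

/-- A point in the support of an effective Cartier ideal has a proper generization. -/
theorem not_maximal_of_mem_support {Y : Scheme.{u}} (𝓙 : Y.IdealSheafData)
    (h𝓙 : BlowUp.IsEffCartierIdeal 𝓙) (y : Y) (hy : y ∈ 𝓙.support)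
    (hmax : ∀ z : Y, z ⤳ y → z = y) : False := by
  obtain ⟨U, hyU, f, hf, hI⟩ := h𝓙 y
  have hU : IsAffineOpen U.1 := U.2
  rw [Scheme.IdealSheafData.mem_support_iff_of_mem hyU, Scheme.mem_zeroLocus_iff] at hy
  have hyf : y ∉ Y.basicOpen f := hy f (by rw [hI]; exact Ideal.mem_span_singleton_self f)
  set p := hU.primeIdealOf ⟨y, hyU⟩ with hp
  have hpy : hU.fromSpec p = y := hU.fromSpec_primeIdealOf ⟨y, hyU⟩
  have hfp : f ∈ p.asIdeal := by
    by_contra hfp
    apply hyf
    have : p ∈ (PrimeSpectrum.basicOpen f : Set (PrimeSpectrum Γ(Y, U.1))) := hfp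
    rw [← hU.fromSpec_preimage_basicOpen] at this
    rw [← hpy]
    exact this
  have hmin : p.asIdeal ∈ minimalPrimes Γ(Y, U.1) := by
    refine ⟨⟨p.2, bot_le⟩, ?_⟩
    rintro q ⟨hq, -⟩ hqp
    let q' : PrimeSpectrum Γ(Y, U.1) := ⟨q, hq⟩
    have hsp : q' ⤳ p := (PrimeSpectrum.le_iff_specializes q' p).1 hqp
    have hsp' : hU.fromSpec q' ⤳ hU.fromSpec p := hsp.map hU.fromSpec.continuous
    rw [hpy] at hsp'
    have heq : hU.fromSpec q' = hU.fromSpec p := by rw [hpy]; exact hmax _ hsp'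
    have : q' = p := hU.fromSpec.isOpenEmbedding.injective heq
    rw [← this]
  exact Set.disjoint_left.mp (Ideal.disjoint_nonZeroDivisors_of_mem_minimalPrimes hmin) hfp hf

/-- Maximality of a point of an open subset can be tested inside the open subset. -/
theorem maximal_iff_of_open {T : Type*} [TopologicalSpace T] (U : Opens T) (t : U) :
    (∀ z : T, z ⤳ (t : T) → z = t) ↔ (∀ z : U, z ⤳ t → z = t) := by
  constructor
  · intro h z hz
    exact Subtype.ext (h z ((subtype_specializes_iff z t).1 hz))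
  · intro h z hz
    have hzU : z ∈ U := hz.mem_open U.2 t.2
    have := h ⟨z, hzU⟩ ((subtype_specializes_iff _ _).2 hz)
    exact congrArg Subtype.val this

/-- Maximality is invariant under homeomorphisms. -/
theorem maximal_iff_of_homeomorph {S T : Type*} [TopologicalSpace S] [TopologicalSpace T]
    (φ : S ≃ₜ T) (s : S) :
    (∀ z : S, z ⤳ s → z = s) ↔ (∀ z : T, z ⤳ φ s → z = φ s) := by
  constructor
  · intro h z hz
    have h1 : φ.symm z ⤳ s := by
      have := hz.map φ.symm.continuous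
      simpa using this
    have := h _ h1
    rw [← this]; simp
  · intro h z hz
    have := h (φ z) (hz.map φ.continuous)
    exact φ.injective this

/-- Let b : X' ⟶ X be a blowing-up of X along the quasi-coherent ideal sheaf 𝓘. Then b restricts to a
bijection from the maximal points of X' (points with no proper generization) onto the maximal points
of X not lying in the support of 𝓘. -/
theorem result {X X' : Scheme.{u}} (𝓘 : X.IdealSheafData) (b : X' ⟶ X) (hb : BlowUp.IsBlowUp b 𝓘) :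
    Set.BijOn (fun x' => b x') {x' : ↥X' | ∀ y : ↥X', y ⤳ x' → y = x'}
      {x : ↥X | (∀ y : ↥X, y ⤳ x → y = x) ∧ x ∉ 𝓘.support} := by
  have : IsIso (b ∣_ 𝓘.support.compl) := Groth.Agent.S1682.result 𝓘 b hb
  set V : X.Opens := 𝓘.support.compl with hV
  have hVmem : ∀ x : X, x ∈ V ↔ x ∉ 𝓘.support := fun x => Iff.rfl
  let φ : ↥(b ⁻¹ᵁ V) ≃ₜ ↥V := (b ∣_ V).homeomorph
  have hφ : ∀ w : ↥(b ⁻¹ᵁ V), (φ w).1 = b w.1 := fun w => morphismRestrict_base_coe b V w
  -- maximal points of `X'` avoid the exceptional divisor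
  have F1 : ∀ x' : X', (∀ y : X', y ⤳ x' → y = x') → b x' ∈ V := by
    intro x' hx'
    rw [hVmem]
    intro hmem
    refine not_maximal_of_mem_support (𝓘.comap b) hb.1 x' ?_ hx'
    rw [Scheme.IdealSheafData.support_comap]
    exact hmem
  -- maximality transfers along `b` over `V`
  have F2 : ∀ w : ↥(b ⁻¹ᵁ V), (∀ y : X', y ⤳ w.1 → y = w.1) ↔ (∀ y : X, y ⤳ b w.1 → y = b w.1) := by
    intro w
    rw [maximal_iff_of_open (b ⁻¹ᵁ V) w, maximal_iff_of_homeomorph φ w,
      ← maximal_iff_of_open V (φ w), hφ w]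
  refine ⟨?_, ?_, ?_⟩
  · intro x' hx'
    have hx'V : b x' ∈ V := F1 x' hx'
    exact ⟨(F2 ⟨x', hx'V⟩).1 hx', (hVmem _).1 hx'V⟩
  · intro x1 hx1 x2 hx2 h12
    have h1 : b x1 ∈ V := F1 x1 hx1
    have h2 : b x2 ∈ V := F1 x2 hx2
    have : φ ⟨x1, h1⟩ = φ ⟨x2, h2⟩ := Subtype.ext (by rw [hφ, hφ]; exact h12)
    exact congrArg Subtype.val (φ.injective this)
  · rintro x ⟨hx, hxs⟩
    have hxV : x ∈ V := (hVmem x).2 hxs
    let w := φ.symm ⟨x, hxV⟩
    have hw : b w.1 = x := by
      rw [← hφ w]; simp [w]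
    refine ⟨w.1, ?_, hw⟩
    show ∀ y : X', y ⤳ w.1 → y = w.1
    rw [F2 w, hw]
    exact hx

end Groth.Agent.S1681
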