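import Groth.Statements.S16811
import Groth.Agent.Lib.AlgStOnePt2

set_option autoImplicit false
universe u
open CategoryTheory AlgebraicGeometry
open Gerb

namespace Groth.Agent.S16811

/-- A reduced, locally Noetherian algebraic stack with exactly one point is regular (all local rings of
all schemes smooth over it are regular local rings). -/
theorem result
    (S : Scheme.{u}) (𝒵 : AlgSt.Cat S) (h𝒵 : AlgSt.IsAlgStack Scheme.fppfPrecoverage 𝒵)
    (hred : AlgSt.SmoothLocally (fun T => IsReduced T) 𝒵)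
    (hnoeth : AlgSt.SmoothLocally (fun T => IsLocallyNoetherian T) 𝒵)
    (hne : Nonempty (AlgSt.Points 𝒵)) (hsub : Subsingleton (AlgSt.Points 𝒵)) :
    AlgSt.SmoothLocally (fun T => ∀ t : T, IsRegularLocalRing (T.presheaf.stalk t)) 𝒵 := by
  have := hne
  have := hsub
  obtain ⟨k, hk, a, z, hs, hf⟩ := Groth.Agent.Lib.AlgStOnePt.exists_flat_fieldPt_of_reduced h𝒵 hred
  obtain ⟨k', hk', a', z', -, h2, h3, h4⟩ :=
    Groth.Agent.Lib.AlgStOnePt.exists_lft_fieldPt h𝒵 k a z hs hf
  exact Groth.Agent.Lib.AlgStOnePt.smoothLocally_regular_of_fppf_fieldPt k' a' z' h2 h3 (h4 hnoeth)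

end Groth.Agent.S16811
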