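import Groth.Statements.S16833
import Groth.Agent.Lib.ProperLqfFinite46
import Groth.Agent.S10271
import Groth.Agent.Lib.AlgSpLocP
import Groth.Agent.Lib.H86ZarLocBase

set_option autoImplicit false
universe u
open AlgSp

namespace Groth.Agent.S16833

open CategoryTheory AlgebraicGeometry in
/-- Let p : U → X and f : X → Y be morphisms of algebraic spaces over a scheme S with p etale and
surjective and f separated. If the composite U → Y is finite, then f is finite. -/
theorem result {S : Scheme.{u}}
    {U X Y : AlgSp.Space S} (p : U ⟶ X) (f : X ⟶ Y)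
    (hp : AlgSp.IsEtaleMor p.hom) (hps : AlgSp.IsSurjectiveMor p.hom)
    (hf : AlgSp.IsSeparatedMor f.hom) (h : AlgSp.IsFiniteMor (p ≫ f).hom) :
    AlgSp.IsFiniteMor f.hom := by
  have hU := U.property
  have hX := X.property
  have hY := Y.property
  have hfin : IsFiniteMor (p.hom ≫ f.hom) := h
  -- universally closed
  have hpf_uc : IsUnivClosedMor (p.hom ≫ f.hom) :=
    ((Groth.Agent.S10271.result (p ≫ f)).1 h).2.2.2
  have huc : IsUnivClosedMor f.hom := by
    intro Z Z' hZ g fst snd sq
    have sqU := IsPullback.of_hasPullback p.hom fst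
    have big : IsPullback (CategoryTheory.Limits.pullback.fst p.hom fst) (CategoryTheory.Limits.pullback.snd p.hom fst ≫ snd) (p.hom ≫ f.hom) g :=
      sqU.paste_vert sq
    have hcl : IsClosedMap (Points.map (CategoryTheory.Limits.pullback.snd p.hom fst ≫ snd)) := hpf_uc hZ g _ _ big
    have hsurj : Function.Surjective (Points.map (CategoryTheory.Limits.pullback.snd p.hom fst)) := by
      intro z'
      obtain ⟨x, hx⟩ := hps (Points.map fst z')
      obtain ⟨w, -, hw⟩ := Groth.Agent.Lib.AlgSpPoints.exists_of_isPullback sqU x z' hx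
      exact ⟨w, hw⟩
    intro C hC
    have hpre : IsClosed (Points.map (CategoryTheory.Limits.pullback.snd p.hom fst) ⁻¹' C) :=
      hC.preimage (Points.continuous_map _)
    have := hcl _ hpre
    convert this using 1
    ext z
    constructor
    · rintro ⟨c, hc, rfl⟩
      obtain ⟨w, rfl⟩ := hsurj c
      exact ⟨w, hc, by rw [Points.map_comp]⟩
    · rintro ⟨w, hw, rfl⟩
      exact ⟨_, hw, by rw [Points.map_comp]⟩
  -- locally quasi-finite
  have hqf : LocP (@LocallyQuasiFinite ⊓ @LocallyOfFiniteType) f.hom := by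
    obtain ⟨W, a, hae, has⟩ := hU.atlas
    have hφe : RepWith @Etale (a ≫ p.hom) := hp a hae
    have hφs : RepWith @Surjective (a ≫ p.hom) := by
      refine Groth.Agent.Lib.AlgSpQC.repWith_surjective_of_isSurjectiveMor hφe.rep ?_
      intro x
      obtain ⟨u, hu⟩ := hps x
      obtain ⟨w, hw⟩ := Groth.Agent.Lib.AlgSpQC.surjective_map_of_repWith_surjective has u
      exact ⟨w, by rw [Points.map_comp, hw, hu]⟩
    refine Groth.Agent.Lib.AlgSpLocP.locP_of_comp_chart Groth.Agent.Lib.AlgSpLocP.etLocalClass_lqf_lft hY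
      f.hom (a ≫ p.hom) hφe hφs ?_
    rw [Category.assoc]
    refine Groth.Agent.Lib.AlgSpLocP.locP_comp_of_etale _ a hae _ ?_
    have hrep : RepWith @IsFinite (p.hom ≫ f.hom) :=
      (Groth.Agent.Lib.H86ZarGlue.isFiniteMor_iff_repWith _).1 hfin
    have hrep' : RepWith (@LocallyQuasiFinite ⊓ @LocallyOfFiniteType) (p.hom ≫ f.hom) :=
      Groth.Agent.Lib.AlgSpBasic.repWith_mono (fun _ _ l hl => by
        have : IsFinite l := hl
        exact ⟨inferInstance, inferInstance⟩) hrep
    exact Groth.Agent.Lib.AlgSpBasic.locP_of_repWith (@LocallyQuasiFinite ⊓ @LocallyOfFiniteType)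
      (fun _ _ _ l w hl hw => Groth.Agent.Lib.AlgSpLocP.etLocalClass_lqf_lft.pre l w hl hw)
      (fun _ a => hU.representable_from_yon a) hrep'
  exact Groth.Agent.Lib.ProperLqfFinite46.isFiniteMor_of_sep_univClosed_lqf hX hY f.hom hf huc hqf

end Groth.Agent.S16833
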