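import Mathlib
import Groth.Statements.S16836

set_option autoImplicit false
universe u v
open scoped Classical
open AbVar

namespace Groth.Agent.S16836

section Helpers

open Polynomial UniqueFactorizationMonoid

variable {K : Type u} {L : Type v} [Field K] [Field L] [Algebra K L]
  [dK : DecidableEq K[X]] [dL : DecidableEq L[X]]

omit dK dL in
/-- normalized factors of the base change: bind formula -/
theorem nf_map_eq_bind (f : K[X]) (hf : f ≠ 0) :
    normalizedFactors (f.map (algebraMap K L)) =
      (normalizedFactors f).bind fun P => normalizedFactors (P.map (algebraMap K L)) := by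
  have h1 : Associated ((normalizedFactors f).prod.map (algebraMap K L)) (f.map (algebraMap K L)) :=
    (prod_normalizedFactors hf).map (Polynomial.mapRingHom (algebraMap K L))
  rw [← h1.normalizedFactors_eq, Polynomial.map_multiset_prod,
    normalizedFactors_multiset_prod, Multiset.map_map]
  · rfl
  · intro h0
    obtain ⟨P, hP, hP0⟩ := Multiset.mem_map.mp h0
    have hP1 : P = 0 := by
      apply Polynomial.map_injective _ (algebraMap K L).injective
      rw [hP0, Polynomial.map_zero]
    exact (irreducible_of_normalized_factor P hP).ne_zero hP1

omit dK dL in
theorem count_bind_of_unique {α β : Type*} [DecidableEq α] [DecidableEq β] (m : Multiset α) (g : α → Multiset β) (Q : β) (P : α)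
    (h : ∀ P' ∈ m, Multiset.count Q (g P') = if P' = P then 1 else 0) :
    Multiset.count Q (m.bind g) = Multiset.count P m := by
  induction m using Multiset.induction_on with
  | empty => simp
  | cons a m ih =>
    rw [Multiset.cons_bind, Multiset.count_add, ih (fun P' hP' => h P' (Multiset.mem_cons_of_mem hP')),
      h a (Multiset.mem_cons_self a m), Multiset.count_cons, add_comm]
    congr 1
    by_cases hPa : a = P
    · rw [if_pos hPa, if_pos hPa.symm]
    · rw [if_neg hPa, if_neg (Ne.symm hPa)]

omit dK dL in
/-- distinct normalized irreducibles over `K` have no common normalized factor over `L` -/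
theorem disjoint_factors {P P' : K[X]} (hP : Irreducible P) (hP' : Irreducible P')
    (hnP : normalize P = P) (hnP' : normalize P' = P') (hne : P ≠ P') (Q : L[X])
    (hQ : Q ∈ normalizedFactors (P.map (algebraMap K L)))
    (hQ' : Q ∈ normalizedFactors (P'.map (algebraMap K L))) : False := by
  have hcop : IsCoprime P P' := by
    rw [hP.coprime_iff_not_dvd]
    intro hdvd
    apply hne
    have := hP.associated_of_dvd hP' hdvd
    rw [← hnP, ← hnP']
    exact normalize_eq_normalize_iff.mpr (dvd_dvd_iff_associated.mpr this)
  have hcopL : IsCoprime (P.map (algebraMap K L)) (P'.map (algebraMap K L)) :=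
    hcop.map (Polynomial.mapRingHom (algebraMap K L))
  have hu : IsUnit Q :=
    hcopL.isUnit_of_dvd' (dvd_of_mem_normalizedFactors hQ) (dvd_of_mem_normalizedFactors hQ')
  exact (irreducible_of_normalized_factor Q hQ).not_isUnit hu

/-- the set of normalized factors over `L` of a normalized irreducible over `K` -/
noncomputable abbrev T (L : Type v) [Field L] [Algebra K L] [DecidableEq L[X]] (P : K[X]) :
    Finset L[X] :=
  (normalizedFactors (P.map (algebraMap K L))).toFinset

theorem count_eq [PerfectField K] (f : K[X]) (hf : f ≠ 0) {P : K[X]} (hP : Irreducible P)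
    (hnP : normalize P = P) (Q : L[X]) (hQ : Q ∈ T L P) :
    Multiset.count Q (normalizedFactors (f.map (algebraMap K L))) =
      Multiset.count P (normalizedFactors f) := by
  rw [nf_map_eq_bind f hf]
  apply count_bind_of_unique
  intro P' hP'
  have hP'irr := irreducible_of_normalized_factor P' hP'
  have hnP' := normalize_normalized_factor P' hP'
  by_cases hPP : P' = P
  · rw [if_pos hPP, hPP]
    have hsep : (P.map (algebraMap K L)).Separable :=
      (PerfectField.separable_of_irreducible hP).map
    have hnd : (normalizedFactors (P.map (algebraMap K L))).Nodup :=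
      (squarefree_iff_nodup_normalizedFactors
        (Polynomial.map_ne_zero hP.ne_zero)).mp hsep.squarefree
    exact Multiset.count_eq_one_of_mem hnd (Multiset.mem_toFinset.mp hQ)
  · rw [if_neg hPP, Multiset.count_eq_zero]
    intro hQ'
    exact disjoint_factors hP hP'irr hnP hnP' (Ne.symm hPP) Q (Multiset.mem_toFinset.mp hQ) hQ'

omit dK in
theorem sum_natDegree [PerfectField K] {P : K[X]} (hP : Irreducible P) :
    ∑ Q ∈ T L P, Q.natDegree = P.natDegree := by
  have hne : P.map (algebraMap K L) ≠ 0 := Polynomial.map_ne_zero hP.ne_zero
  have hsep : (P.map (algebraMap K L)).Separable :=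
    (PerfectField.separable_of_irreducible hP).map
  have hnd : (normalizedFactors (P.map (algebraMap K L))).Nodup :=
    (squarefree_iff_nodup_normalizedFactors hne).mp hsep.squarefree
  have h0 : (0 : L[X]) ∉ normalizedFactors (P.map (algebraMap K L)) := fun h =>
    (irreducible_of_normalized_factor _ h).ne_zero rfl
  have h1 : (normalizedFactors (P.map (algebraMap K L))).prod.natDegree =
      (P.map (algebraMap K L)).natDegree :=
    Polynomial.natDegree_eq_of_degree_eq
      (Polynomial.degree_eq_degree_of_associated (prod_normalizedFactors hne))
  rw [Polynomial.natDegree_multiset_prod _ h0, Polynomial.natDegree_map] at h1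
  rw [← h1, Finset.sum_multiset_map_count]
  refine Finset.sum_congr rfl fun Q hQ => ?_
  rw [Multiset.count_eq_one_of_mem hnd (Multiset.mem_toFinset.mp hQ), one_smul]

end Helpers

open Polynomial UniqueFactorizationMonoid in
/-- Let K ⊆ L be a field extension and f₁, f₂ non-zero polynomials in K[t]. For a field F and
polynomials g₁, g₂ over F put r_F(g₁, g₂) = Σ_P mult_P(g₁) · mult_P(g₂) · deg P, the sum running
over the monic irreducible polynomials P in F[t] (mult_P the multiplicity of P as an irreducible
factor). Assume K is perfect. Then r_K(f₁, f₂) = r_L(f₁, f₂): the number does not depend on the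
field over which the factorisations are taken. (Perfectness of K cannot be dropped: for K = F_p(s),
L = K(s^{1/p}) and f₁ = f₂ = t^p − s the number is p over K and p² over L, since the irreducible t^p
− s becomes a p-th power over L; the published statement has no restriction on K, and its proof
requires the relevant K[t]-modules to remain semisimple after base change, which holds when every
irreducible factor stays squarefree over L, in particular for K perfect.) -/
theorem result (K : Type u) (L : Type v) [Field K] [PerfectField K] [Field L] [Algebra K L]
    (f₁ f₂ : K[X]) (h₁ : f₁ ≠ 0) (h₂ : f₂ ≠ 0) :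
    ∑ P ∈ (normalizedFactors (f₁.map (algebraMap K L))).toFinset,
        (normalizedFactors (f₁.map (algebraMap K L))).count P *
          (normalizedFactors (f₂.map (algebraMap K L))).count P * P.natDegree =
      ∑ P ∈ (normalizedFactors f₁).toFinset,
        (normalizedFactors f₁).count P * (normalizedFactors f₂).count P * P.natDegree := by
  have hT : (normalizedFactors (f₁.map (algebraMap K L))).toFinset =
      (normalizedFactors f₁).toFinset.biUnion (T L) := by
    rw [nf_map_eq_bind f₁ h₁]
    ext Q
    simp only [Multiset.mem_toFinset, Multiset.mem_bind, Finset.mem_biUnion]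
  rw [hT, Finset.sum_biUnion]
  · refine Finset.sum_congr rfl fun P hP => ?_
    have hPm := Multiset.mem_toFinset.mp hP
    have hPirr := irreducible_of_normalized_factor P hPm
    have hnP := normalize_normalized_factor P hPm
    rw [← sum_natDegree (L := L) hPirr, Finset.mul_sum]
    refine Finset.sum_congr rfl fun Q hQ => ?_
    rw [count_eq f₁ h₁ hPirr hnP Q hQ, count_eq f₂ h₂ hPirr hnP Q hQ]
  · intro P hP P' hP' hne
    have hPm := Multiset.mem_toFinset.mp hP
    have hPm' := Multiset.mem_toFinset.mp hP'
    rw [Function.onFun, Finset.disjoint_left]
    intro Q hQ hQ'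
    exact disjoint_factors (irreducible_of_normalized_factor P hPm)
      (irreducible_of_normalized_factor P' hPm') (normalize_normalized_factor P hPm)
      (normalize_normalized_factor P' hPm') hne Q (Multiset.mem_toFinset.mp hQ)
      (Multiset.mem_toFinset.mp hQ')

end Groth.Agent.S16836
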