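import Groth.Statements.S1684
import Groth.Agent.S1570
import Mathlib.RingTheory.Ideal.UFD

set_option autoImplicit false
universe u
open CategoryTheory CategoryTheory.Limits AlgebraicGeometry TopologicalSpace
open SDiv

namespace Groth.Agent.S1684

open Groth.Agent.Lib.IdealSheafGeneric

theorem genericPoint_mem_of_nonempty {D : Scheme.{u}} [IsIntegral D] (W : D.Opens)
    (hW : (W : Set D).Nonempty) : genericPoint ↥D ∈ W := by
  have hξgen : IsGenericPoint (genericPoint ↥D) (⊤ : Set D) := genericPoint_spec D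
  exact (hξgen.mem_open_set_iff W.2).mpr (by simpa using hW)

/-- On an affine open meeting the (integral) closed subscheme, the ideal is the prime ideal of the
image of the generic point. -/
theorem ideal_eq_primeIdealOf_genericPoint {X : Scheme.{u}} (𝓘 : X.IdealSheafData)
    [IsIntegral 𝓘.subscheme] (U : X.affineOpens)
    (hne : ((𝓘.subschemeι ⁻¹ᵁ U.1 : 𝓘.subscheme.Opens) : Set 𝓘.subscheme).Nonempty) :
    ∃ hη : 𝓘.subschemeι (genericPoint ↥𝓘.subscheme) ∈ U.1,
      𝓘.ideal U = (U.2.primeIdealOf ⟨_, hη⟩).asIdeal := by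
  set D := 𝓘.subscheme
  set ι := 𝓘.subschemeι
  set ξ := genericPoint ↥D
  have hη : ι ξ ∈ U.1 := genericPoint_mem_of_nonempty (ι ⁻¹ᵁ U.1) hne
  refine ⟨hη, le_antisymm ?_ ?_⟩
  · rw [← mem_support_iff_le_primeIdealOf 𝓘 U U.2]
    rw [← SetLike.mem_coe, ← 𝓘.range_subschemeι]
    exact ⟨ξ, rfl⟩
  · intro f hf
    by_contra hfJ
    rw [← 𝓘.ker_subschemeι_app U, RingHom.mem_ker] at hfJ
    have hne' : D.basicOpen ((ι.app U.1).hom f) ≠ ⊥ := by
      rw [Ne, basicOpen_eq_bot_iff]
      exact hfJ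
    have hξf : ξ ∈ D.basicOpen ((ι.app U.1).hom f) := by
      apply genericPoint_mem_of_nonempty
      rw [Set.nonempty_iff_ne_empty]
      intro h
      apply hne'
      ext1
      simpa using h
    rw [← Scheme.preimage_basicOpen] at hξf
    have hηf : ι ξ ∈ X.basicOpen f := hξf
    -- `f` lies in the prime of `ι ξ`, so `ι ξ ∉ basicOpen f`
    have h2 : U.2.primeIdealOf ⟨ι ξ, hη⟩ ∈ U.2.fromSpec ⁻¹ᵁ X.basicOpen f := by
      change U.2.fromSpec (U.2.primeIdealOf ⟨ι ξ, hη⟩) ∈ X.basicOpen f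
      rw [U.2.fromSpec_primeIdealOf ⟨ι ξ, hη⟩]
      exact hηf
    rw [U.2.fromSpec_preimage_basicOpen] at h2
    exact h2 hf

/-- Let X be a locally Noetherian scheme and 𝓘 a quasi-coherent ideal sheaf whose closed subscheme D is
integral, of codimension 1 in X (the local ring of X at the generic point of D has dimension 1), and
such that the local ring of X at every point of D is a unique factorisation domain. Then 𝓘 is the
ideal sheaf of an effective Cartier divisor. -/
theorem result (X : Scheme.{u}) [IsLocallyNoetherian X] (𝓘 : X.IdealSheafData)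
    [IsIntegral 𝓘.subscheme]
    (hcodim : ringKrullDim (X.presheaf.stalk (𝓘.subschemeι (genericPoint ↥𝓘.subscheme))) = 1)
    (hufd : ∀ x : ↥X, x ∈ 𝓘.support → IsDomain (X.presheaf.stalk x) ∧ UniqueFactorizationMonoid (X.presheaf.stalk x)) :
    BlowUp.IsEffCartierIdeal 𝓘 := by
  apply Groth.Agent.S1570.result X 𝓘
  intro x hx U hxU
  obtain ⟨hdom, hufdx⟩ := hufd x hx
  -- the affine open meets the subscheme
  have hxr : x ∈ Set.range 𝓘.subschemeι := by rw [𝓘.range_subschemeι]; exact hx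
  obtain ⟨d, hd⟩ := hxr
  have hne : ((𝓘.subschemeι ⁻¹ᵁ U.1 : 𝓘.subscheme.Opens) : Set 𝓘.subscheme).Nonempty :=
    ⟨d, by change 𝓘.subschemeι d ∈ U.1; rw [hd]; exact hxU⟩
  obtain ⟨hη, hJ⟩ := ideal_eq_primeIdealOf_genericPoint 𝓘 U hne
  set η := 𝓘.subschemeι (genericPoint ↥𝓘.subscheme) with hηdef
  set q := (U.2.primeIdealOf ⟨η, hη⟩).asIdeal with hq
  set p := (U.2.primeIdealOf ⟨x, hxU⟩).asIdeal with hp
  -- height of `q` is one
  have hqht : q.height = 1 := by
    letI := TopCat.Presheaf.algebra_section_stalk X.presheaf (⟨η, hη⟩ : U.1)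
    haveI hloc : IsLocalization.AtPrime (X.presheaf.stalk η) q := U.2.isLocalization_stalk ⟨η, hη⟩
    have h1 := IsLocalization.AtPrime.ringKrullDim_eq_height q (X.presheaf.stalk η)
    rw [hcodim] at h1
    exact_mod_cast h1.symm
  have hqp : q ≤ p := by
    rw [← hJ]
    exact (mem_support_iff_le_primeIdealOf 𝓘 U U.2 x hxU).mp hx
  letI := TopCat.Presheaf.algebra_section_stalk X.presheaf (⟨x, hxU⟩ : U.1)
  haveI hloc : IsLocalization.AtPrime (X.presheaf.stalk x) p := U.2.isLocalization_stalk ⟨x, hxU⟩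
  have hdisj : Disjoint (p.primeCompl : Set Γ(X, U.1)) (q : Set Γ(X, U.1)) := by
    rw [Set.disjoint_left]
    intro a ha haq
    exact ha (hqp haq)
  set P : Ideal (X.presheaf.stalk x) := q.map (algebraMap Γ(X, U.1) (X.presheaf.stalk x)) with hP
  haveI hPprime : P.IsPrime :=
    IsLocalization.isPrime_of_isPrime_disjoint p.primeCompl (X.presheaf.stalk x) q inferInstance hdisj
  have hPht : P.height = 1 := by
    rw [hP, IsLocalization.height_map_of_disjoint p.primeCompl q hdisj, hqht]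
  obtain ⟨g, hg⟩ := UniqueFactorizationMonoid.isPrincipal_of_height_eq_one hPht
  have hg' : P = Ideal.span {g} := hg
  refine ⟨g, ?_, ?_⟩
  · apply mem_nonZeroDivisors_of_ne_zero
    rintro rfl
    apply Ideal.ne_bot_of_height_eq_one hPht
    rw [hg']
    simp
  · rw [hJ]
    exact hg'

end Groth.Agent.S1684
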