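import Groth.Statements.S16853
import Mathlib.FieldTheory.IsAlgClosed.Basic
import Mathlib.LinearAlgebra.Basis.VectorSpace
import Mathlib.LinearAlgebra.Quotient.Basic
import Mathlib.LinearAlgebra.FiniteDimensional.Defs
import Mathlib.RingTheory.Noetherian.Defs
import Mathlib.Algebra.CharP.Frobenius
import Mathlib.LinearAlgebra.Finsupp.LinearCombination

set_option autoImplicit false
universe u v
open CAlg

namespace Groth.Agent.S16853

section Poly
open Polynomial
variable {k : Type*} [Field k]

/-- the recursive polynomials -/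
noncomputable def Xp (q : ℕ) (a : ℕ → k) : ℕ → k[X]
  | 0 => C (a 0) * X ^ q
  | i + 1 => (Xp q a i) ^ q + C (a (i + 1)) * X ^ q

theorem Xp_dvd (q : ℕ) (hq : 2 ≤ q) (a : ℕ → k) : ∀ i, (X : k[X]) ^ q ∣ Xp q a i
  | 0 => Dvd.intro_left _ rfl
  | i + 1 => by
    rw [Xp]
    refine dvd_add ?_ (Dvd.intro_left _ rfl)
    exact (Xp_dvd q hq a i).trans (dvd_pow_self _ (by omega))

theorem Xp_natDegree (q : ℕ) (hq : 2 ≤ q) (a : ℕ → k) (ha : a 0 ≠ 0) :
    ∀ i, (Xp q a i).natDegree = q ^ (i + 1)
  | 0 => by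
    rw [Xp, natDegree_C_mul_X_pow _ _ ha, zero_add, pow_one]
  | i + 1 => by
    rw [Xp]
    have h1 : ((Xp q a i) ^ q).natDegree = q ^ (i + 2) := by
      rw [natDegree_pow, Xp_natDegree q hq a ha i]; ring
    have h2 : (C (a (i + 1)) * (X : k[X]) ^ q).natDegree ≤ q := natDegree_C_mul_X_pow_le _ _
    have h3 : q < q ^ (i + 2) := by
      calc q = q ^ 1 := (pow_one q).symm
        _ < q ^ (i + 2) := Nat.pow_lt_pow_right (by omega) (by omega)
    rw [natDegree_add_eq_left_of_natDegree_lt (by rw [h1]; omega), h1]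

/-- a nonzero root `y` of `Xp (s) - X`. -/
theorem exists_root [IsAlgClosed k] (q : ℕ) (hq : 2 ≤ q) (a : ℕ → k) (ha : a 0 ≠ 0) (s : ℕ) :
    ∃ y : k, y ≠ 0 ∧ (Xp q a s).eval y = y := by
  obtain ⟨G, hG⟩ := Xp_dvd q hq a s
  set Q : k[X] := X ^ (q - 1) * G - 1 with hQ
  have hXQ : Xp q a s - X = X * Q := by
    rw [hQ, hG, mul_sub, mul_one, ← mul_assoc, ← pow_succ']
    congr 3
    omega
  have hdeg : (Xp q a s - X).natDegree = q ^ (s + 1) := by
    rw [natDegree_sub_eq_left_of_natDegree_lt]
    · exact Xp_natDegree q hq a ha s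
    · rw [Xp_natDegree q hq a ha s, natDegree_X]
      calc 1 < q := by omega
        _ = q ^ 1 := (pow_one q).symm
        _ ≤ q ^ (s + 1) := Nat.pow_le_pow_right (by omega) (by omega)
  have hQ0 : Q ≠ 0 := by
    intro h
    rw [h, mul_zero] at hXQ
    rw [hXQ, natDegree_zero] at hdeg
    have : 0 < q ^ (s + 1) := by positivity
    omega
  have hQdeg : Q.degree ≠ 0 := by
    intro h
    have h1 : Q.natDegree = 0 := natDegree_eq_of_degree_eq_some h
    have h2 : (X * Q).natDegree = 1 + Q.natDegree := by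
      rw [natDegree_mul X_ne_zero hQ0, natDegree_X]
    rw [← hXQ, hdeg, h1] at h2
    have : 2 ≤ q ^ (s + 1) := by
      calc 2 ≤ q := hq
        _ = q ^ 1 := (pow_one q).symm
        _ ≤ q ^ (s + 1) := Nat.pow_le_pow_right (by omega) (by omega)
    omega
  obtain ⟨y, hy⟩ := IsAlgClosed.exists_root Q hQdeg
  refine ⟨y, ?_, ?_⟩
  · rintro rfl
    rw [hQ, IsRoot.def, eval_sub, eval_mul, eval_pow, eval_X, eval_one,
      zero_pow (by omega), zero_mul, zero_sub] at hy
    exact one_ne_zero (neg_eq_zero.mp hy)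
  · have := congrArg (eval y) hXQ
    rw [eval_sub, eval_X, eval_mul, hy.eq_zero, mul_zero, sub_eq_zero] at this
    exact this

end Poly

variable {k : Type*} [Field k] [IsAlgClosed k] {V : Type*} [AddCommGroup V] [Module k V]

theorem exists_fixed_ne_zero [FiniteDimensional k V] (q : ℕ) (hq : 2 ≤ q) (φ : V →+ V)
    (hφ : ∀ (a : k) (v : V), φ (a • v) = a ^ q • φ v) (hinj : Function.Injective φ)
    (v : V) (hv : v ≠ 0) : ∃ w : V, w ≠ 0 ∧ φ w = w := by
  classical
  set u : ℕ → V := fun i => φ^[i] v with hu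
  have hu0 : u 0 = v := rfl
  have husucc : ∀ i, u (i + 1) = φ (u i) := fun i => Function.iterate_succ_apply' φ i v
  let U : ℕ →o Submodule k V :=
    ⟨fun r => Submodule.span k (u '' ↑(Finset.range r)), fun r r' h =>
      Submodule.span_mono (Set.image_mono (by
        intro i hi
        simp only [Finset.coe_range, Set.mem_Iio] at hi ⊢
        omega))⟩
  have hUsucc : ∀ r, u r ∈ U (r + 1) := fun r =>
    Submodule.subset_span ⟨r, by simp, rfl⟩
  obtain ⟨n, hn⟩ := monotone_stabilizes_iff_noetherian.mpr (inferInstance : IsNoetherian k V) U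
  have hex : ∃ r, u r ∈ U r := ⟨n, by rw [hn (n + 1) (by omega)]; exact hUsucc n⟩
  have hr := Nat.find_spec hex
  have hmin : ∀ m, m < Nat.find hex → u m ∉ U m := fun m hm => Nat.find_min hex hm
  set r := Nat.find hex with hrdef
  have hr0 : r ≠ 0 := by
    intro h0
    rw [h0] at hr
    have : U 0 = ⊥ := by
      change Submodule.span k (u '' ↑(Finset.range 0)) = ⊥
      simp
    rw [this, Submodule.mem_bot] at hr
    exact hv hr
  obtain ⟨s, hs⟩ := Nat.exists_eq_succ_of_ne_zero hr0
  rw [hs] at hr hmin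
  -- coefficients
  obtain ⟨a, ha⟩ := (Submodule.mem_span_image_finset_iff_exists_fun' k).mp hr
  -- a 0 ≠ 0
  have ha0 : a 0 ≠ 0 := by
    intro h0
    -- choose q-th roots
    have hroot : ∀ c : k, ∃ b : k, b ^ q = c := fun c =>
      IsAlgClosed.exists_pow_nat_eq c (by omega)
    choose b hb using hroot
    have h1 : u (s + 1) = φ (∑ i ∈ Finset.range s, b (a (i + 1)) • u i) := by
      rw [map_sum, ← ha, Finset.sum_range_succ', h0, zero_smul, add_zero]
      refine Finset.sum_congr rfl fun i _ => ?_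
      rw [hφ, hb, husucc]
    rw [husucc] at h1
    have h2 := hinj h1
    apply hmin s (Nat.lt_succ_self s)
    rw [h2]
    refine Submodule.sum_mem _ fun i hi => Submodule.smul_mem _ _ (Submodule.subset_span ?_)
    exact ⟨i, by simpa using hi, rfl⟩
  obtain ⟨y, hy0, hy⟩ := exists_root q hq a ha0 s
  set x : ℕ → k := fun i => (Xp q a i).eval y with hx
  have hx0 : x 0 = a 0 * y ^ q := by
    simp [hx, Xp]
  have hxsucc : ∀ i, x (i + 1) = x i ^ q + a (i + 1) * y ^ q := by
    intro i
    simp [hx, Xp]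
  have hxs : x s = y := hy
  refine ⟨∑ i ∈ Finset.range (s + 1), x i • u i, ?_, ?_⟩
  · intro h0
    rw [Finset.sum_range_succ, hxs] at h0
    apply hmin s (Nat.lt_succ_self s)
    have : u s = -(y⁻¹ • ∑ i ∈ Finset.range s, x i • u i) := by
      rw [eq_neg_iff_add_eq_zero, ← smul_right_injective V hy0 |>.eq_iff, smul_add, smul_zero,
        smul_inv_smul₀ hy0, add_comm]
      exact h0
    rw [this]
    refine Submodule.neg_mem _ (Submodule.smul_mem _ _ (Submodule.sum_mem _ fun i hi =>
      Submodule.smul_mem _ _ (Submodule.subset_span ?_)))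
    exact ⟨i, by simpa using hi, rfl⟩
  · rw [map_sum]
    simp only [hφ, ← husucc]
    rw [Finset.sum_range_succ, hxs, ← ha, Finset.smul_sum]
    conv_rhs => rw [Finset.sum_range_succ']
    conv_lhs => rw [Finset.sum_range_succ' (fun i => y ^ q • a i • u i)]
    rw [hx0, ← add_assoc, ← Finset.sum_add_distrib]
    congr 1
    · refine Finset.sum_congr rfl fun i _ => ?_
      rw [hxsucc, add_smul, smul_smul, mul_comm]
    · rw [smul_smul, mul_comm]

open Polynomial in
theorem span_fixed_eq_top [FiniteDimensional k V] (p : ℕ) [Fact p.Prime] [CharP k p] (ν : ℕ)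
    (hν : 1 ≤ ν) (φ : V →+ V) (hφ : ∀ (a : k) (v : V), φ (a • v) = a ^ (p ^ ν) • φ v)
    (hbij : Function.Bijective φ) :
    Submodule.span k {v : V | φ v = v} = ⊤ := by
  classical
  have hq : 2 ≤ p ^ ν := by
    calc 2 ≤ p := (Fact.out : p.Prime).two_le
      _ = p ^ 1 := (pow_one p).symm
      _ ≤ p ^ ν := Nat.pow_le_pow_right (Fact.out : p.Prime).pos hν
  set q := p ^ ν with hqdef
  set W := Submodule.span k {v : V | φ v = v} with hW
  by_contra hne
  have hWφ : ∀ w ∈ W, φ w ∈ W := by
    intro w hw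
    induction hw using Submodule.span_induction with
    | mem x hx => rw [hx]; exact Submodule.subset_span hx
    | zero => rw [map_zero]; exact Submodule.zero_mem _
    | add x y _ _ hx hy => rw [map_add]; exact Submodule.add_mem _ hx hy
    | smul a x _ hx => rw [hφ]; exact Submodule.smul_mem _ _ hx
  have hWsurj : ∀ w ∈ W, ∃ w' ∈ W, φ w' = w := by
    intro w hw
    induction hw using Submodule.closure_induction with
    | zero => exact ⟨0, Submodule.zero_mem _, map_zero _⟩
    | add x y _ _ hx hy =>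
      obtain ⟨x', hx', hx''⟩ := hx
      obtain ⟨y', hy', hy''⟩ := hy
      exact ⟨x' + y', Submodule.add_mem _ hx' hy', by rw [map_add, hx'', hy'']⟩
    | smul_mem a x hx =>
      obtain ⟨b, hb⟩ := IsAlgClosed.exists_pow_nat_eq a (show 0 < q by omega)
      exact ⟨b • x, Submodule.smul_mem _ _ (Submodule.subset_span hx), by rw [hφ, hb, hx]⟩
  have hWinv : ∀ v, φ v ∈ W → v ∈ W := by
    intro v hv
    obtain ⟨w', hw', h⟩ := hWsurj _ hv
    rw [← hbij.1 h]
    exact hw'
  have hAS : ∀ w ∈ W, ∃ w' ∈ W, φ w' - w' = w := by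
    intro w hw
    induction hw using Submodule.closure_induction with
    | zero => exact ⟨0, Submodule.zero_mem _, by simp⟩
    | add x y _ _ hx hy =>
      obtain ⟨x', hx', hx''⟩ := hx
      obtain ⟨y', hy', hy''⟩ := hy
      exact ⟨x' + y', Submodule.add_mem _ hx' hy', by rw [map_add, ← hx'', ← hy'']; abel⟩
    | smul_mem a x hx =>
      have hdeg : (X ^ q - X - C a : k[X]).degree ≠ 0 := by
        have h1 : (X ^ q - X - C a : k[X]).degree = q := by
          rw [sub_sub, degree_sub_eq_left_of_degree_lt, degree_X_pow]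
          rw [degree_X_pow]
          refine lt_of_le_of_lt (degree_add_le _ _) ?_
          rw [max_lt_iff]
          constructor
          · rw [degree_X]; exact_mod_cast (by omega : 1 < q)
          · exact lt_of_le_of_lt degree_C_le (by exact_mod_cast (by omega : 0 < q))
        rw [h1]
        exact_mod_cast (by omega : q ≠ 0)
      obtain ⟨c, hc⟩ := IsAlgClosed.exists_root _ hdeg
      rw [IsRoot.def, eval_sub, eval_sub, eval_pow, eval_X, eval_C, sub_eq_zero] at hc
      refine ⟨c • x, Submodule.smul_mem _ _ (Submodule.subset_span hx), ?_⟩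
      rw [hφ, hx, ← sub_smul, hc]
  -- the quotient
  have hlt : W < ⊤ := lt_top_iff_ne_top.mpr hne
  have : Nontrivial (V ⧸ W) := Submodule.Quotient.nontrivial_iff.mpr hne
  let σ : k →+* k := iterateFrobenius k p ν
  let φ' : V →ₛₗ[σ] V :=
    { toFun := φ
      map_add' := φ.map_add
      map_smul' := fun a v => by
        change φ (a • v) = (iterateFrobenius k p ν a) • φ v
        rw [iterateFrobenius_def, hφ] }
  let φbar : (V ⧸ W) →ₛₗ[σ] (V ⧸ W) := W.mapQ W φ' (fun w hw => hWφ w hw)
  have hφbar : ∀ (a : k) (x : V ⧸ W), φbar.toAddMonoidHom (a • x) = a ^ q • φbar.toAddMonoidHom x := by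
    intro a x
    change φbar (a • x) = a ^ q • φbar x
    rw [map_smulₛₗ]
    rfl
  have hinj : Function.Injective φbar.toAddMonoidHom := by
    rw [injective_iff_map_eq_zero]
    intro x hx
    obtain ⟨v, rfl⟩ := Submodule.Quotient.mk_surjective W x
    change Submodule.Quotient.mk (φ v) = 0 at hx
    rw [Submodule.Quotient.mk_eq_zero] at hx ⊢
    exact hWinv v hx
  obtain ⟨x₀, hx₀⟩ := exists_ne (0 : V ⧸ W)
  obtain ⟨x, hx0, hx⟩ := exists_fixed_ne_zero q hq φbar.toAddMonoidHom hφbar hinj x₀ hx₀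
  obtain ⟨v, rfl⟩ := Submodule.Quotient.mk_surjective W x
  change Submodule.Quotient.mk (φ v) = Submodule.Quotient.mk v at hx
  rw [Submodule.Quotient.eq] at hx
  obtain ⟨w', hw', hw''⟩ := hAS _ hx
  apply hx0
  rw [Submodule.Quotient.mk_eq_zero]
  have hfix : φ (v - w') = v - w' := by
    rw [map_sub]
    have : φ v - φ w' = (v - w') + ((φ v - v) - (φ w' - w')) := by abel
    rw [this, hw'', sub_self, add_zero]
  have : v - w' ∈ W := Submodule.subset_span hfix
  have h2 : v = (v - w') + w' := by abel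
  rw [h2]
  exact Submodule.add_mem _ this hw'

/-- Let k be an algebraically closed field of characteristic p > 0 and ν ≥ 1; let V be a
finite-dimensional k-vector space and φ : V → V a bijective additive map that is Frob^ν-semilinear,
φ(a·v) = a^(p^ν)·φ(v). Then V admits a k-basis consisting of φ-fixed vectors; in particular V is
spanned by V₀ = {v | φ(v) = v}, an F_{p^ν}-subspace, and k ⊗ V₀ → V is surjective. (The copy allows
ν < 0 as well, reducing to φ⁻¹; stated here for ν ≥ 1. The injectivity of k ⊗_{F_{p^ν}} V₀ → V,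
asserted in the copy, is not restated.) -/
theorem result (k : Type u) [Field k] [IsAlgClosed k]
    (p : ℕ) [Fact p.Prime] [CharP k p] (ν : ℕ) (hν : 1 ≤ ν)
    (V : Type v) [AddCommGroup V] [Module k V] [FiniteDimensional k V]
    (φ : V →+ V) (hφ : ∀ (a : k) (v : V), φ (a • v) = a ^ (p ^ ν) • φ v) (hbij : Function.Bijective φ) :
    ∃ (ι : Type v) (b : Module.Basis ι k V), ∀ i, φ (b i) = b i := by
  have hspan := span_fixed_eq_top p ν hν φ hφ hbij
  refine ⟨_, Module.Basis.ofSpan (K := k) (s := {v : V | φ v = v}) hspan.ge, fun i => ?_⟩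
  exact Module.Basis.ofSpan_subset hspan.ge ⟨i, rfl⟩

end Groth.Agent.S16853
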