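import Groth.Statements.S16854
import Groth.Agent.S16853
import Groth.Agent.Lib.AdicPi
import Mathlib.RingTheory.WittVector.Complete
import Mathlib.RingTheory.WittVector.Frobenius
import Mathlib.RingTheory.OrzechProperty
import Mathlib.RingTheory.Nakayama
import Mathlib.LinearAlgebra.FreeModule.Finite.Basic
import Mathlib.LinearAlgebra.StdBasis
import Mathlib.FieldTheory.Perfect

set_option autoImplicit false
universe u v
open CAlg

namespace Groth.Agent.S16854

section Surj

variable {R : Type*} [CommRing R] {M : Type*} [AddCommGroup M] [Module R M]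

theorem mem_span_pow_smul_top_iff (π : R) (n : ℕ) (x : M) :
    x ∈ ((Ideal.span {π}) ^ n • ⊤ : Submodule R M) ↔ ∃ u : M, x = π ^ n • u := by
  rw [Ideal.span_singleton_pow, Submodule.ideal_span_singleton_smul,
    Submodule.mem_smul_pointwise_iff_exists]
  constructor
  · rintro ⟨u, -, rfl⟩; exact ⟨u, rfl⟩
  · rintro ⟨u, rfl⟩; exact ⟨u, Submodule.mem_top, rfl⟩

/-- An additive self-map commuting with multiplication by powers of `π`, surjective modulo `π`, on a `π`-adically
complete separated module is surjective. -/
theorem surjective_of_surjective_mod (π : R) [IsPrecomplete (Ideal.span {π}) M]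
    [IsHausdorff (Ideal.span {π}) M] (G : M →+ M)
    (hG : ∀ (n : ℕ) (u : M), G (π ^ n • u) = π ^ n • G u)
    (hmod : ∀ z : M, ∃ y z' : M, G y = z - π • z') : Function.Surjective G := by
  intro z
  choose Y Z hYZ using hmod
  -- the sequences
  let zs : ℕ → M := fun n => Nat.rec z (fun _ w => Z w) n
  have hzs0 : zs 0 = z := rfl
  have hzsS : ∀ n, zs (n + 1) = Z (zs n) := fun n => rfl
  let ys : ℕ → M := fun n => Y (zs n)
  have hys : ∀ n, G (ys n) = zs n - π • zs (n + 1) := fun n => hYZ (zs n)
  let S : ℕ → M := fun N => ∑ n ∈ Finset.range N, π ^ n • ys n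
  have hS0 : S 0 = 0 := Finset.sum_range_zero _
  have hSS : ∀ N, S (N + 1) = S N + π ^ N • ys N := fun N => Finset.sum_range_succ _ N
  have hGS : ∀ N, G (S N) = z - π ^ N • zs N := by
    intro N
    induction N with
    | zero => rw [hS0, map_zero, pow_zero, one_smul, hzs0, sub_self]
    | succ N ih =>
      rw [hSS, map_add, ih, hG, hys, smul_sub, smul_smul, ← pow_succ]
      abel
  -- Cauchy
  have hcauchy : ∀ {m n : ℕ}, m ≤ n →
      S m ≡ S n [SMOD ((Ideal.span {π}) ^ m • ⊤ : Submodule R M)] := by
    intro m n hmn
    induction n, hmn using Nat.le_induction with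
    | base => exact SModEq.rfl
    | succ n hmn ih =>
      refine ih.trans ?_
      rw [SModEq.sub_mem, hSS, sub_add_cancel_left, neg_mem_iff, mem_span_pow_smul_top_iff]
      refine ⟨π ^ (n - m) • ys n, ?_⟩
      rw [smul_smul, ← pow_add]
      congr 2
      omega
  obtain ⟨L, hL⟩ := IsPrecomplete.prec' (I := Ideal.span {π}) S hcauchy
  refine ⟨L, ?_⟩
  rw [← sub_eq_zero]
  apply IsHausdorff.haus' (I := Ideal.span {π})
  intro n
  rw [SModEq.sub_mem, sub_zero]
  have h1 := hL n
  rw [SModEq.sub_mem, mem_span_pow_smul_top_iff] at h1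
  obtain ⟨u, hu⟩ := h1
  rw [mem_span_pow_smul_top_iff]
  refine ⟨-(G u) - zs n, ?_⟩
  have h2 : G L = G (S n) - G (π ^ n • u) := by
    rw [← map_sub, ← hu]
    congr 1
    abel
  rw [h2, hGS, hG]
  simp only [smul_sub, smul_neg]
  abel

end Surj

section Core

variable {k : Type u} [Field k] [IsAlgClosed k] (p : ℕ) [Fact p.Prime] [CharP k p]
variable {ι : Type v} [Fintype ι]

/-- reduction mod p, coordinatewise -/
noncomputable def red : (ι → WittVector p k) →+ (ι → k) where
  toFun x i := WittVector.constantCoeff (x i)
  map_zero' := by ext i; exact map_zero _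
  map_add' x y := by ext i; exact map_add _ _ _

omit [IsAlgClosed k] [CharP k p] [Fintype ι] in
theorem red_apply (x : ι → WittVector p k) (i : ι) : red p x i = WittVector.constantCoeff (x i) := rfl

omit [IsAlgClosed k] [CharP k p] [Fintype ι] in
theorem red_smul (a : WittVector p k) (x : ι → WittVector p k) :
    red p (a • x) = WittVector.constantCoeff a • red p x := by
  ext i
  exact map_mul (WittVector.constantCoeff : WittVector p k →+* k) a (x i)

/-- Teichmüller lift, coordinatewise. -/
noncomputable def lift (c : ι → k) : ι → WittVector p k := fun i => WittVector.teichmuller p (c i)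

omit [IsAlgClosed k] [CharP k p] [Fintype ι] in
theorem red_lift (c : ι → k) : red p (lift p c) = c := rfl

omit [Fintype ι] in
theorem red_eq_zero_iff (x : ι → WittVector p k) :
    red p x = 0 ↔ ∃ y : ι → WittVector p k, x = (p : WittVector p k) • y := by
  constructor
  · intro h
    have h1 : ∀ i, ∃ w : WittVector p k, w * (p : WittVector p k) = x i := by
      intro i
      have h2 : (x i).coeff 0 = 0 := congrFun h i
      exact Ideal.mem_span_singleton'.mp
        ((WittVector.mem_span_p_iff_coeff_zero_eq_zero (x i)).mpr h2)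
    choose y hy using h1
    refine ⟨y, ?_⟩
    ext1 i
    rw [Pi.smul_apply, smul_eq_mul, mul_comm, hy]
  · rintro ⟨y, rfl⟩
    rw [red_smul, map_natCast, CharP.cast_eq_zero, zero_smul]

omit [IsAlgClosed k] [CharP k p] in
theorem tau_pow_p (ν n : ℕ) :
    (⇑(WittVector.frobenius : WittVector p k →+* WittVector p k))^[ν] ((p : WittVector p k) ^ n) =
      (p : WittVector p k) ^ n :=
  Function.iterate_fixed (by rw [map_pow, map_natCast]) ν

omit [IsAlgClosed k] in
theorem constantCoeff_tau (ν : ℕ) (a : WittVector p k) :
    WittVector.constantCoeff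
      ((⇑(WittVector.frobenius : WittVector p k →+* WittVector p k))^[ν] a) =
      (WittVector.constantCoeff a) ^ (p ^ ν) := by
  induction ν with
  | zero => simp
  | succ n ih =>
    rw [Function.iterate_succ_apply', pow_succ, pow_mul, ← ih]
    exact WittVector.coeff_frobenius_charP (p := p) ((⇑(WittVector.frobenius : WittVector p k →+* WittVector p k))^[n] a) 0

instance isHausdorff_pi : IsHausdorff (Ideal.span {(p : WittVector p k)}) (ι → WittVector p k) := by
  refine ⟨fun x hx => ?_⟩
  ext1 i
  apply IsHausdorff.haus' (I := Ideal.span {(p : WittVector p k)})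
  intro n
  have := hx n
  rw [SModEq.sub_mem, sub_zero] at this ⊢
  have h2 := (Groth.Agent.Lib.AdicPi.mem_smul_top_pi_iff _ ι _).1 this i
  simpa using h2

instance isPrecomplete_pi : IsPrecomplete (Ideal.span {(p : WittVector p k)}) (ι → WittVector p k) :=
  Groth.Agent.Lib.AdicPi.isPrecomplete_pi _ ι

open Polynomial in
theorem core (ν : ℕ) (hν : 1 ≤ ν) (F : (ι → WittVector p k) →+ (ι → WittVector p k))
    (hF : ∀ (a : WittVector p k) (m : ι → WittVector p k), F (a • m) =
      ((⇑(WittVector.frobenius : WittVector p k →+* WittVector p k))^[ν] a) • F m)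
    (hbij : Function.Bijective F) :
    ∃ b : Module.Basis ι (WittVector p k) (ι → WittVector p k), ∀ i, F (b i) = b i := by
  classical
  have hFp : ∀ (n : ℕ) (u : ι → WittVector p k),
      F ((p : WittVector p k) ^ n • u) = (p : WittVector p k) ^ n • F u := by
    intro n u
    rw [hF, tau_pow_p]
  have hFp1 : ∀ (u : ι → WittVector p k),
      F ((p : WittVector p k) • u) = (p : WittVector p k) • F u := by
    intro u
    have := hFp 1 u
    rwa [pow_one] at this
  have hwd : ∀ x x' : ι → WittVector p k, red p x = red p x' → red p (F x) = red p (F x') := by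
    intro x x' h
    have h0 : red p (x - x') = 0 := by rw [map_sub, h, sub_self]
    obtain ⟨y, hy⟩ := (red_eq_zero_iff p _).mp h0
    have h1 : red p (F x - F x') = 0 := by
      rw [← map_sub, hy, hFp1]
      exact (red_eq_zero_iff p _).mpr ⟨_, rfl⟩
    rw [map_sub, sub_eq_zero] at h1
    exact h1
  let φ : (ι → k) →+ (ι → k) := AddMonoidHom.mk' (fun c => red p (F (lift p c))) (by
    intro c d
    change red p (F (lift p (c + d))) = red p (F (lift p c)) + red p (F (lift p d))
    rw [← map_add, ← map_add]
    apply hwd
    rw [map_add, red_lift, red_lift, red_lift])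
  have hφdef : ∀ c, φ c = red p (F (lift p c)) := fun c => rfl
  have hcompat : ∀ x, red p (F x) = φ (red p x) := fun x => hwd _ _ (red_lift p _).symm
  have hφ : ∀ (a : k) (c : ι → k), φ (a • c) = a ^ (p ^ ν) • φ c := by
    intro a c
    have h1 : red p (lift p (a • c)) = red p (WittVector.teichmuller p a • lift p c) := by
      rw [red_lift, red_smul, red_lift]
      rfl
    rw [hφdef, hwd _ _ h1, hF, red_smul, constantCoeff_tau, hφdef]
    rfl
  have hφinj : Function.Injective φ := by
    rw [injective_iff_map_eq_zero]
    intro c hc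
    rw [← red_lift p c] at hc ⊢
    rw [← hcompat] at hc
    obtain ⟨y, hy⟩ := (red_eq_zero_iff p _).mp hc
    obtain ⟨z, rfl⟩ := hbij.2 y
    rw [← hFp1] at hy
    rw [hbij.1 hy]
    exact (red_eq_zero_iff p _).mpr ⟨_, rfl⟩
  have hφsurj : Function.Surjective φ := by
    intro c
    obtain ⟨z, hz⟩ := hbij.2 (lift p c)
    exact ⟨red p z, by rw [← hcompat, hz, red_lift]⟩
  have hspan := Groth.Agent.S16853.span_fixed_eq_top p ν hν φ hφ ⟨hφinj, hφsurj⟩
  have hq : 2 ≤ p ^ ν := by
    calc 2 ≤ p := (Fact.out : p.Prime).two_le
      _ = p ^ 1 := (pow_one p).symm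
      _ ≤ p ^ ν := Nat.pow_le_pow_right (Fact.out : p.Prime).pos hν
  -- Artin–Schreier surjectivity of φ - 1
  have hAS : ∀ d : ι → k, ∃ e : ι → k, φ e - e = d := by
    intro d
    have hd : d ∈ Submodule.span k {v : ι → k | φ v = v} := by rw [hspan]; trivial
    induction hd using Submodule.closure_induction with
    | zero => exact ⟨0, by simp⟩
    | add x y _ _ hx hy =>
      obtain ⟨x', hx'⟩ := hx
      obtain ⟨y', hy'⟩ := hy
      exact ⟨x' + y', by rw [map_add, ← hx', ← hy']; abel⟩
    | smul_mem a x hx =>
      have hdeg : (X ^ (p ^ ν) - X - C a : k[X]).degree ≠ 0 := by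
        have h1 : (X ^ (p ^ ν) - X - C a : k[X]).degree = (p ^ ν : ℕ) := by
          rw [sub_sub, degree_sub_eq_left_of_degree_lt, degree_X_pow]
          rw [degree_X_pow]
          refine lt_of_le_of_lt (degree_add_le _ _) ?_
          rw [max_lt_iff]
          constructor
          · rw [degree_X]; exact_mod_cast (by omega : 1 < p ^ ν)
          · exact lt_of_le_of_lt degree_C_le (by exact_mod_cast (by omega : 0 < p ^ ν))
        rw [h1]
        exact_mod_cast (by omega : p ^ ν ≠ 0)
      obtain ⟨c, hc⟩ := IsAlgClosed.exists_root _ hdeg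
      rw [IsRoot.def, eval_sub, eval_sub, eval_pow, eval_X, eval_C, sub_eq_zero] at hc
      exact ⟨c • x, by rw [hφ, hx, ← sub_smul, hc]⟩
  -- F - 1 is surjective
  let G : (ι → WittVector p k) →+ (ι → WittVector p k) := F - AddMonoidHom.id _
  have hGdef : ∀ x, G x = F x - x := fun x => rfl
  have hG : ∀ (n : ℕ) (u : ι → WittVector p k),
      G ((p : WittVector p k) ^ n • u) = (p : WittVector p k) ^ n • G u := by
    intro n u
    rw [hGdef, hGdef, hFp, smul_sub]
  have hmod : ∀ z : ι → WittVector p k, ∃ y z' : ι → WittVector p k,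
      G y = z - (p : WittVector p k) • z' := by
    intro z
    obtain ⟨e, he⟩ := hAS (red p z)
    have h0 : red p (G (lift p e) - z) = 0 := by
      rw [map_sub, hGdef, map_sub, hcompat, red_lift, he, sub_self]
    obtain ⟨w, hw⟩ := (red_eq_zero_iff p _).mp h0
    refine ⟨lift p e, -w, ?_⟩
    rw [smul_neg, sub_neg_eq_add, ← hw]
    abel
  have hGsurj : Function.Surjective G :=
    surjective_of_surjective_mod (p : WittVector p k) G hG hmod
  -- lifting fixed vectors
  have hL : ∀ c : ι → k, φ c = c → ∃ x : ι → WittVector p k, F x = x ∧ red p x = c := by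
    intro c hc
    have h0 : red p (G (lift p c)) = 0 := by
      rw [hGdef, map_sub, hcompat, red_lift, hc, sub_self]
    obtain ⟨w, hw⟩ := (red_eq_zero_iff p _).mp h0
    obtain ⟨u, hu⟩ := hGsurj (-w)
    refine ⟨lift p c + (p : WittVector p k) • u, ?_, ?_⟩
    · have h1 : G (lift p c + (p : WittVector p k) • u) = 0 := by
        have := hG 1 u
        rw [pow_one] at this
        rw [map_add, this, hu, hw, smul_neg, add_neg_cancel]
      rw [hGdef, sub_eq_zero] at h1
      exact h1
    · rw [map_add, red_lift, (red_eq_zero_iff p _).mpr ⟨u, rfl⟩, add_zero]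
  -- a basis of fixed vectors of `ι → k` indexed by `ι`
  let cb0 := Module.Basis.ofSpan (K := k) (s := {v : ι → k | φ v = v}) hspan.ge
  let cb : Module.Basis ι k (ι → k) := cb0.reindex (cb0.indexEquiv (Pi.basisFun k ι))
  have hcb : ∀ i, φ (cb i) = cb i := by
    intro i
    rw [Module.Basis.reindex_apply]
    exact Module.Basis.ofSpan_subset hspan.ge ⟨_, rfl⟩
  choose m hm using fun i => hL (cb i) (hcb i)
  -- the lifts span
  have hspanm : Submodule.span (WittVector p k) (Set.range m) = ⊤ := by
    rw [eq_top_iff]
    apply Submodule.le_of_le_smul_of_le_jacobson_bot (I := Ideal.span {(p : WittVector p k)})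
      (Module.Finite.fg_top) (IsAdicComplete.le_jacobson_bot _)
    intro x _
    -- x - Σ â_i m_i ∈ p M
    let a : ι → k := fun i => cb.repr (red p x) i
    let y : ι → WittVector p k := ∑ i, WittVector.teichmuller p (a i) • m i
    have hy : red p y = red p x := by
      rw [map_sum]
      conv_rhs => rw [← cb.sum_repr (red p x)]
      refine Finset.sum_congr rfl fun i _ => ?_
      rw [red_smul, (hm i).2]
      rfl
    have h0 : red p (x - y) = 0 := by rw [map_sub, hy, sub_self]
    obtain ⟨w, hw⟩ := (red_eq_zero_iff p _).mp h0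
    have hx : x = y + (p : WittVector p k) • w := by rw [← hw]; abel
    rw [hx]
    refine Submodule.add_mem_sup ?_ ?_
    · exact Submodule.sum_mem _ fun i _ => Submodule.smul_mem _ _ (Submodule.subset_span ⟨i, rfl⟩)
    · exact Submodule.smul_mem_smul (Ideal.mem_span_singleton_self _) Submodule.mem_top
  -- hence form a basis
  let Lm : (ι → WittVector p k) →ₗ[WittVector p k] (ι → WittVector p k) :=
    Fintype.linearCombination (WittVector p k) m
  have hLsurj : Function.Surjective Lm := by
    rw [← LinearMap.range_eq_top, Fintype.range_linearCombination, hspanm]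
  have hLbij : Function.Bijective Lm := OrzechProperty.bijective_of_surjective_endomorphism Lm hLsurj
  refine ⟨(Pi.basisFun (WittVector p k) ι).map (LinearEquiv.ofBijective Lm hLbij), fun i => ?_⟩
  have : ((Pi.basisFun (WittVector p k) ι).map (LinearEquiv.ofBijective Lm hLbij)) i = m i := by
    rw [Module.Basis.map_apply, Pi.basisFun_apply, LinearEquiv.ofBijective_apply,
      Fintype.linearCombination_apply_single, one_smul]
  rw [this]
  exact (hm i).1

end Core

/-- Let k be an algebraically closed field of characteristic p > 0, ν ≥ 1, W = W(k) the ring of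
p-typical Witt vectors with its Frobenius endomorphism σ, M a finitely generated free W-module and F
: M → M a bijective additive map that is σ^ν-semilinear, F(a·m) = σ^ν(a)·F(m). Then M admits a
W-basis consisting of F-fixed elements; in particular M is spanned over W by M₀ = {m | F(m) = m}, a
module over the Witt vectors of F_{p^ν}. (The copy allows ν < 0 as well, reducing to F⁻¹; stated
here for ν ≥ 1.) -/
theorem result (k : Type u) [Field k] [IsAlgClosed k]
    (p : ℕ) [Fact p.Prime] [CharP k p] (ν : ℕ) (hν : 1 ≤ ν)
    (M : Type v) [AddCommGroup M] [Module (WittVector p k) M]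
    [Module.Finite (WittVector p k) M] [Module.Free (WittVector p k) M]
    (F : M →+ M)
    (hF : ∀ (a : WittVector p k) (m : M), F (a • m) = ((⇑(WittVector.frobenius : WittVector p k →+* WittVector p k))^[ν] a) • F m)
    (hbij : Function.Bijective F) :
    ∃ (ι : Type v) (b : Module.Basis ι (WittVector p k) M), ∀ i, F (b i) = b i := by
  classical
  let e : M ≃ₗ[WittVector p k] (Module.Free.ChooseBasisIndex (WittVector p k) M → WittVector p k) :=
    (Module.Free.chooseBasis (WittVector p k) M).equivFun
  let F' : (Module.Free.ChooseBasisIndex (WittVector p k) M → WittVector p k) →+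
      (Module.Free.ChooseBasisIndex (WittVector p k) M → WittVector p k) :=
    e.toLinearMap.toAddMonoidHom.comp (F.comp e.symm.toLinearMap.toAddMonoidHom)
  have hF'def : ∀ x, F' x = e (F (e.symm x)) := fun x => rfl
  have hF' : ∀ (a : WittVector p k) (x : Module.Free.ChooseBasisIndex (WittVector p k) M → WittVector p k),
      F' (a • x) =
        ((⇑(WittVector.frobenius : WittVector p k →+* WittVector p k))^[ν] a) • F' x := by
    intro a x
    rw [hF'def, hF'def, map_smul, hF, map_smul]
  have hbij' : Function.Bijective F' := e.bijective.comp (hbij.comp e.symm.bijective)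
  obtain ⟨b', hb'⟩ := core p ν hν F' hF' hbij'
  refine ⟨Module.Free.ChooseBasisIndex (WittVector p k) M, b'.map e.symm, fun i => ?_⟩
  rw [Module.Basis.map_apply]
  apply e.injective
  rw [e.apply_symm_apply]
  exact hb' i

end Groth.Agent.S16854
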