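import Groth.Statements.S16864

set_option autoImplicit false
universe u
open CategoryTheory AlgebraicGeometry
open Gerb

namespace Groth.Agent.S16864

universe v₁ u₁ v₂ u₂ v₃ u₃ v₄ u₄

section General

variable {C : Type u₁} [Category.{v₁} C]

section Fib

variable {𝒳 : Type u₂} [Category.{v₂} 𝒳] (p : 𝒳 ⥤ C)

/-- In a category fibred in groupoids every morphism is strongly cartesian over any morphism it lifts. -/
theorem isStronglyCartesian_of_isHomLift [FibCat.IsFibGrpd p] {R S : C} {a b : 𝒳} (f : R ⟶ S)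
    (φ : a ⟶ b) [p.IsHomLift f φ] : p.IsStronglyCartesian f φ := by
  subst_hom_lift p f φ
  exact FibCat.IsFibGrpd.isStronglyCartesian φ

/-- In a category fibred in groupoids two morphisms with the same target over the same morphism of the base differ by a
unique isomorphism over the identity. -/
theorem exists_iso_over_id [FibCat.IsFibGrpd p] {V U : C} {A B Y : 𝒳} (h : V ⟶ U) (a : A ⟶ Y)
    (c : B ⟶ Y) [p.IsHomLift h a] [p.IsHomLift h c] :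
    ∃ θ : B ≅ A, p.IsHomLift (𝟙 V) θ.hom ∧ θ.hom ≫ a = c := by
  have := isStronglyCartesian_of_isHomLift p h a
  have := isStronglyCartesian_of_isHomLift p h c
  refine ⟨Functor.IsCartesian.domainUniqueUpToIso p h a c, inferInstance, ?_⟩
  rw [Functor.IsCartesian.domainUniqueUpToIso_hom]
  exact Functor.IsCartesian.fac p h a c

theorem isHomLift_comp_iff {𝒜 : Type u₃} [Category.{v₃} 𝒜] (G : 𝒜 ⥤ 𝒳) {R S : C} {a b : 𝒜}
    (f : R ⟶ S) (φ : a ⟶ b) : (G ⋙ p).IsHomLift f φ ↔ p.IsHomLift f (G.map φ) := by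
  constructor
  · intro h
    subst_hom_lift (G ⋙ p) f φ
    exact Functor.IsHomLift.map (G.map φ)
  · intro h
    obtain rfl : p.obj (G.obj a) = R := IsHomLift.domain_eq p f (G.map φ)
    obtain rfl : p.obj (G.obj b) = S := IsHomLift.codomain_eq p f (G.map φ)
    obtain rfl : f = p.map (G.map φ) := IsHomLift.eq_of_isHomLift p f (G.map φ)
    exact Functor.IsHomLift.map (p := G ⋙ p) φ

end Fib

variable (J : GrothendieckTopology C)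
  {𝒳 : BasedCategory.{v₂, u₂} C} {𝒴 : BasedCategory.{v₃, u₃} C}

theorem locSurjObj' {F : 𝒳 ⥤ᵇ 𝒴} (hF : Gerb.LocSurjObj J F) (y : 𝒴.obj) (U : C)
    (hU : 𝒴.p.obj y = U) :
    ∃ R ∈ J U, ∀ ⦃V : C⦄ (h : V ⟶ U), R h →
      ∃ (x : 𝒳.obj) (a : F.obj x ⟶ y), 𝒴.p.IsHomLift h a := by
  subst hU
  exact hF y

theorem locSurjHom' {F : 𝒳 ⥤ᵇ 𝒴} (hF : Gerb.LocSurjHom J F) (x x' : 𝒳.obj) (U : C)
    (b : F.obj x ⟶ F.obj x') (hb : 𝒴.p.IsHomLift (𝟙 U) b) :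
    ∃ R ∈ J U, ∀ ⦃V : C⦄ (h : V ⟶ U), R h →
      ∃ (x₀ : 𝒳.obj) (φ : x₀ ⟶ x) (ψ : x₀ ⟶ x'),
        𝒳.p.IsHomLift h φ ∧ 𝒳.p.IsHomLift h ψ ∧ F.map φ ≫ b = F.map ψ := by
  have e : 𝒳.p.obj x = U := (F.w_obj x).symm.trans (IsHomLift.domain_eq 𝒴.p (𝟙 U) b)
  subst e
  exact hF x x' b hb

variable {𝒴' : BasedCategory.{v₄, u₄} C}

theorem isGerbeOver_fpFst (h𝒴' : FibCat.IsFibGrpd 𝒴'.p) (h𝒴 : FibCat.IsFibGrpd 𝒴.p)
    (f : 𝒳 ⥤ᵇ 𝒴) (g : 𝒴' ⥤ᵇ 𝒴) (hf : Gerb.IsGerbeOver J f) :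
    Gerb.IsGerbeOver J (FibCat.fpFst g f) := by
  have := h𝒴'
  have := h𝒴
  refine ⟨?_, ?_⟩
  · -- objects
    intro y'
    obtain ⟨R, hR, hl⟩ := locSurjObj' J hf.1 (g.obj y') (𝒴'.p.obj y') (g.w_obj y')
    refine ⟨R, hR, fun V h hh => ?_⟩
    obtain ⟨x, a, ha⟩ := hl h hh
    obtain ⟨y'', c, hc⟩ := FibCat.IsFibGrpd.exists_lift (p := 𝒴'.p) h
    obtain rfl : 𝒴'.p.obj y'' = V := IsHomLift.domain_eq 𝒴'.p h c
    have hgc : 𝒴.p.IsHomLift h (g.map c) := inferInstance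
    obtain ⟨θ, hθ, hθa⟩ := exists_iso_over_id 𝒴.p h a (g.map c)
    let z : (FibCat.fp g f).obj := ⟨{ fst := y'', snd := x, iso := θ }, hθ⟩
    exact ⟨z, c, hc⟩
  · -- morphisms
    intro z z' b0 hb0
    obtain ⟨b, rfl⟩ : ∃ b : z.obj.fst ⟶ z'.obj.fst, b = b0 := ⟨b0, rfl⟩
    have hb : 𝒴'.p.IsHomLift (𝟙 (𝒴'.p.obj z.obj.fst)) b := hb0
    have hU' : 𝒴'.p.obj z'.obj.fst = 𝒴'.p.obj z.obj.fst :=
      IsHomLift.codomain_eq 𝒴'.p (𝟙 (𝒴'.p.obj z.obj.fst)) b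
    have hz : 𝒴.p.IsHomLift (𝟙 (𝒴'.p.obj z.obj.fst)) z.obj.iso.hom := z.property
    have hz' : 𝒴.p.IsHomLift (𝟙 (𝒴'.p.obj z.obj.fst)) z'.obj.iso.hom := by
      rw [← hU']
      exact z'.property
    have hgb : 𝒴.p.IsHomLift (𝟙 (𝒴'.p.obj z.obj.fst)) (g.map b) := inferInstance
    have hb' : 𝒴.p.IsHomLift (𝟙 (𝒴'.p.obj z.obj.fst))
        (z.obj.iso.inv ≫ g.map b ≫ z'.obj.iso.hom) := inferInstance
    obtain ⟨R, hR, hl⟩ := locSurjHom' J hf.2 z.obj.snd z'.obj.snd (𝒴'.p.obj z.obj.fst) _ hb'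
    refine ⟨R, hR, fun V (h : V ⟶ 𝒴'.p.obj z.obj.fst) hh => ?_⟩
    obtain ⟨x₀, φx, ψx, hφx, hψx, hcomm⟩ := hl h hh
    obtain ⟨y₀, c, hc⟩ := FibCat.IsFibGrpd.exists_lift (p := 𝒴'.p) (x := z.obj.fst) h
    obtain rfl : 𝒴'.p.obj y₀ = V := IsHomLift.domain_eq 𝒴'.p h c
    have hgc : 𝒴.p.IsHomLift h (g.map c) := inferInstance
    have hfφ0 : 𝒴.p.IsHomLift h (f.map φx) := inferInstance
    have hzinv : 𝒴.p.IsHomLift (𝟙 (𝒴'.p.obj z.obj.fst)) z.obj.iso.inv := inferInstance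
    have hfφ : 𝒴.p.IsHomLift h (f.map φx ≫ z.obj.iso.inv) := inferInstance
    obtain ⟨θ, hθ, hθa⟩ := exists_iso_over_id 𝒴.p h (f.map φx ≫ z.obj.iso.inv) (g.map c)
    let z₀ : (FibCat.fp g f).obj := ⟨{ fst := y₀, snd := x₀, iso := θ }, hθ⟩
    have w1 : g.map c ≫ z.obj.iso.hom = θ.hom ≫ f.map φx := by
      rw [← hθa]
      simp
    have w2 : g.map (c ≫ b) ≫ z'.obj.iso.hom = θ.hom ≫ f.map ψx := by
      rw [← hcomm, g.map_comp, Category.assoc, ← hθa]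
      simp only [Category.assoc]
    let φ : z₀ ⟶ z := ObjectProperty.homMk { fst := c, snd := φx, w := w1 }
    let ψ : z₀ ⟶ z' := ObjectProperty.homMk { fst := c ≫ b, snd := ψx, w := w2 }
    refine ⟨z₀, φ, ψ, ?_, ?_, rfl⟩
    · change ((FibCat.fpProp g f).ι ⋙ Limits.CategoricalPullback.π₁ g.toFunctor f.toFunctor ⋙ 𝒴'.p).IsHomLift h φ
      rw [← Functor.assoc, isHomLift_comp_iff]
      exact hc
    · change ((FibCat.fpProp g f).ι ⋙ Limits.CategoricalPullback.π₁ g.toFunctor f.toFunctor ⋙ 𝒴'.p).IsHomLift h ψ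
      rw [← Functor.assoc, isHomLift_comp_iff]
      change 𝒴'.p.IsHomLift h (c ≫ b)
      infer_instance

end General

/-- The base change of a gerbe along any morphism of algebraic stacks is a gerbe: if 𝒳 is a gerbe over 𝒴
along f then 𝒴' ×_𝒴 𝒳 is a gerbe over 𝒴' along the first projection. -/
theorem result
    (S : Scheme.{u}) (𝒳 𝒴 𝒴' : AlgSt.Cat S)
    (h𝒳 : AlgSt.IsAlgStack Scheme.fppfPrecoverage 𝒳) (h𝒴 : AlgSt.IsAlgStack Scheme.fppfPrecoverage 𝒴)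
    (h𝒴' : AlgSt.IsAlgStack Scheme.fppfPrecoverage 𝒴')
    (f : 𝒳 ⥤ᵇ 𝒴) (g : 𝒴' ⥤ᵇ 𝒴) (hf : Gerb.IsGerbeOver (QuotSh.J Scheme.fppfPrecoverage S) f) :
    Gerb.IsGerbeOver (QuotSh.J Scheme.fppfPrecoverage S) (FibCat.fpFst g f) := by
  exact isGerbeOver_fpFst _ h𝒴'.isStack.1 h𝒴.isStack.1 f g hf

end Groth.Agent.S16864
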