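import Groth.Statements.S1687
import Groth.Agent.S1572
import Groth.Agent.Lib.LocFact82
import Groth.Agent.S1570
import Groth.Agent.S1573

set_option autoImplicit false
universe u
open CategoryTheory CategoryTheory.Limits AlgebraicGeometry TopologicalSpace
open SDiv

namespace Groth.Agent.S1687

open Groth.Agent.Lib.LocFact82

open Groth.Agent.S1572 (exists_span_eq_of_isRadical germ_mem_genPrime_iff genPrime_le_of_specializes)

variable {X : Scheme.{u}}

/-- the local generator of the reduced ideal of the complement of a dense affine open at a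
factorial point -/
theorem exists_stalk_generator [IsNoetherian X]
    (U : X.Opens) (haff : IsAffineHom U.ι) (hdense : Dense (U : Set X))
    (x : X) (hdom : IsDomain (X.presheaf.stalk x))
    (hufd : UniqueFactorizationMonoid (X.presheaf.stalk x))
    (W : X.affineOpens) (hxW : x ∈ (W : X.Opens)) :
    ∃ g : X.presheaf.stalk x, g ∈ nonZeroDivisors (X.presheaf.stalk x) ∧
      ((Scheme.IdealSheafData.vanishingIdeal
        (⟨(U : Set X)ᶜ, U.2.isClosed_compl⟩ : TopologicalSpace.Closeds X)).ideal W).map
          (X.presheaf.germ W x hxW).hom = Ideal.span {g} := by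
  set Z : TopologicalSpace.Closeds X := ⟨(U : Set X)ᶜ, U.2.isClosed_compl⟩ with hZ
  set D := Scheme.IdealSheafData.vanishingIdeal Z with hD
  have hsupp : (D.support : Set X) = (U : Set X)ᶜ := Scheme.IdealSheafData.coe_support_vanishingIdeal Z
  -- points of `W` in the support are the points where all sections of the ideal vanish
  have hmem : ∀ y : X, y ∈ (W : X.Opens) → (y ∉ U ↔ ∀ a ∈ D.ideal W, y ∉ X.basicOpen a) := by
    intro y hyW
    have h1 := Scheme.IdealSheafData.coe_support_inter D W
    have h2 : y ∈ (D.support : Set X) ∩ (W : X.Opens) ↔ y ∈ X.zeroLocus (U := W.1) (D.ideal W) ∩ (W : X.Opens) := by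
      rw [h1]
    rw [hsupp] at h2
    constructor
    · intro hy a ha
      have := (h2.mp ⟨hy, hyW⟩).1
      rw [Scheme.mem_zeroLocus_iff] at this
      exact this a ha
    · intro hy
      refine (h2.mpr ⟨?_, hyW⟩).1
      rw [Scheme.mem_zeroLocus_iff]
      exact hy
  -- the localization structure
  let algx : Algebra Γ(X, W.1) (X.presheaf.stalk x) :=
    TopCat.Presheaf.algebra_section_stalk X.presheaf ⟨x, hxW⟩
  have locx : IsLocalization.AtPrime (X.presheaf.stalk x) (W.2.primeIdealOf ⟨x, hxW⟩).asIdeal :=
    W.2.isLocalization_stalk ⟨x, hxW⟩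
  have hrad : (D.ideal W).IsRadical := by
    rw [hD, Scheme.IdealSheafData.vanishingIdeal_ideal]
    exact PrimeSpectrum.isRadical_vanishingIdeal _
  set J : Ideal (X.presheaf.stalk x) := (D.ideal W).map (X.presheaf.germ W x hxW).hom with hJ
  have hJrad : J.IsRadical := by
    have h1 := IsLocalization.map_radical (W.2.primeIdealOf ⟨x, hxW⟩).asIdeal.primeCompl
      (S := X.presheaf.stalk x) (D.ideal W)
    rw [hrad.radical] at h1
    change J = J.radical at h1
    exact h1.symm ▸ Ideal.radical_isRadical J
  have hN : IsNoetherianRing (X.presheaf.stalk x) := inferInstance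
  have hheight : ∀ Q ∈ J.minimalPrimes, Q.height = 1 := by
    intro Q hQ
    have hQp : Q.IsPrime := hQ.1.1
    obtain ⟨ζ, hζ, hζQ⟩ := exists_genPrime_eq X x Q
    have hζW : ζ ∈ (W : X.Opens) := hζ.mem_open W.1.2 hxW
    have hJQ : J ≤ Q := hQ.1.2
    have hζU : ζ ∉ U := by
      rw [hmem ζ hζW]
      intro a ha
      rw [← germ_mem_genPrime_iff hζ W.1 hxW a, hζQ]
      exact hJQ (Ideal.mem_map_of_mem _ ha)
    have hgen : ∀ y : X, y ∉ U → y ⤳ ζ → y = ζ := by
      intro y hyU hyζ
      have hyx : y ⤳ x := hyζ.trans hζ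
      have hyW : y ∈ (W : X.Opens) := hyx.mem_open W.1.2 hxW
      have h1 : J ≤ genPrime X hyx := by
        rw [hJ, Ideal.map_le_iff_le_comap]
        intro a ha
        rw [Ideal.mem_comap, germ_mem_genPrime_iff hyx W.1 hxW a]
        exact (hmem y hyW).mp hyU a ha
      have h2 : genPrime X hyx ≤ Q := hζQ ▸ genPrime_le_of_specializes hyζ hζ
      have h3 : Q ≤ genPrime X hyx := hQ.2 ⟨inferInstance, h1⟩ h2
      have h4 : genPrime X hyx = genPrime X hζ := by rw [hζQ]; exact le_antisymm h2 h3
      exact eq_of_genPrime_eq X hyx hζ h4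
    have hdim := (Groth.Agent.S1573.result X U ζ hζU hgen).2 hdense
    rw [ringKrullDim_stalk_eq_height X hζ, hζQ] at hdim
    exact_mod_cast hdim
  obtain ⟨g, hg, e⟩ := exists_span_eq_of_isRadical J hJrad hheight
  exact ⟨g, mem_nonZeroDivisors_of_ne_zero hg, e⟩


/-- Let X be a Noetherian scheme with affine diagonal (the intersection of any two affine opens is
affine), U a dense affine open subset, and suppose the local ring of X at every point outside U is a
unique factorisation domain. Then there is an effective Cartier divisor whose support is exactly X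
minus U. -/
theorem result (X : Scheme.{u}) [IsNoetherian X]
    (hΔ : ∀ V W : X.Opens, IsAffineOpen V → IsAffineOpen W → IsAffineOpen (V ⊓ W)) (U : X.Opens) (hU : IsAffineOpen U)
    (hdense : Dense (U : Set ↥X))
    (hufd : ∀ x : ↥X, x ∉ U → IsDomain (X.presheaf.stalk x) ∧ UniqueFactorizationMonoid (X.presheaf.stalk x)) :
    ∃ 𝓘 : X.IdealSheafData, BlowUp.IsEffCartierIdeal 𝓘 ∧ (𝓘.support : Set ↥X) = (U : Set ↥X)ᶜ := by
  have haff : IsAffineHom U.ι := by
    rw [isAffineHom_iff]
    intro W hW
    rw [← Scheme.Hom.isAffineOpen_iff_of_isOpenImmersion U.ι,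
      Scheme.Hom.image_preimage_eq_opensRange_inf, Scheme.Opens.opensRange_ι]
    exact hΔ U W hU hW
  refine ⟨Scheme.IdealSheafData.vanishingIdeal (⟨(U : Set X)ᶜ, U.2.isClosed_compl⟩ : TopologicalSpace.Closeds X),
    Groth.Agent.S1570.result X _ (fun x hx W hxW => ?_),
    Scheme.IdealSheafData.coe_support_vanishingIdeal _⟩
  have hxU : x ∉ U := by
    have h1 : x ∈ ((Scheme.IdealSheafData.vanishingIdeal
      (⟨(U : Set X)ᶜ, U.2.isClosed_compl⟩ : TopologicalSpace.Closeds X)).support : Set X) := hx
    rw [Scheme.IdealSheafData.coe_support_vanishingIdeal] at h1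
    exact h1
  exact exists_stalk_generator U haff hdense x (hufd x hxU).1 (hufd x hxU).2 W hxW

end Groth.Agent.S1687
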