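import Groth.Statements.S1688
import Groth.Agent.Lib.LocFreeFP
import Groth.Agent.Lib.RegularDimOne

set_option autoImplicit false
universe u
open CategoryTheory CategoryTheory.Limits AlgebraicGeometry TopologicalSpace
open SDiv

namespace Groth.Agent.S1688

/-- Let X be a locally Noetherian integral scheme of dimension at most 1 all of whose local rings are
regular, and F a coherent module on X. Then F is torsion free (every stalk is a torsion-free module
over the local ring) if and only if F is finite locally free. -/
theorem result (X : Scheme.{u}) [IsIntegral X] [IsLocallyNoetherian X] (hreg : ∀ x : ↥X, IsRegularLocalRing (X.presheaf.stalk x))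
    (hdim : topologicalKrullDim ↥X ≤ 1) (F : X.Modules) (hF : Coh.IsCoh F) :
    (∀ x : ↥X, NoZeroSMulDivisors (X.presheaf.stalk x) (F.presheaf.stalk x)) ↔ FlatMod.IsFinLocFree F := by
  haveI : F.IsQuasicoherent := hF.1
  constructor
  · intro htf
    have hFP : CohB1.IsFP F := by
      apply Groth.Agent.Lib.H90OXModAffine.isFinitePresentation_of_forall_affine
      intro U
      have h1 : IsNoetherianRing Γ(X, U.1) := IsLocallyNoetherian.component_noetherian U
      have h2 := Groth.Agent.Lib.CohFinite.finite_sections_of_isCoh F hF U.2
      exact Module.finitePresentation_of_finite _ _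
    apply Groth.Agent.Lib.LocFreeFP.isFinLocFree_of_isFP_of_free F hFP
    intro x
    have h3 := hreg x
    have h4 : ringKrullDim (X.presheaf.stalk x) ≤ 1 :=
      (Groth.Agent.Lib.RegularDimOne.dim_stalk_le X x).trans hdim
    have h5 := htf x
    have h6 := Groth.Agent.Lib.CohFinite.finite_stalk_of_isCoh F hF x
    exact Groth.Agent.Lib.RegularDimOne.free_of_regular_of_dim_le_one _ h4 _
  · intro h x
    have h1 := Groth.Agent.Lib.LocFreeFP.free_stalk_of_isFinLocFree h x
    exact ⟨fun h => smul_eq_zero.mp h⟩

end Groth.Agent.S1688
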