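import Groth.Statements.S16883
import Groth.Agent.Lib.H43StkDescent
import Groth.Agent.S16864

set_option autoImplicit false
set_option backward.isDefEq.respectTransparency false
set_option backward.isDefEq.respectTransparency.types false
set_option linter.style.haveILetI false
open CategoryTheory
universe v u
open Gerb
open CategoryTheory.Functor
open Groth.Agent.Lib.FibGrpd Groth.Agent.Lib.H43StkDescent Groth.Agent.S16864

namespace Groth.Agent.S16883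


section Helpers

variable {C : Type u} [Category.{v} C] (J : GrothendieckTopology C)
  {𝒳 𝒴 𝒵 : BasedCategory.{v, max u v} C}

theorem locSurjObj_comp (F : 𝒳 ⥤ᵇ 𝒴) (G : 𝒴 ⥤ᵇ 𝒵) (hF : Gerb.LocSurjObj J F)
    (hG : Gerb.LocSurjObj J G) : Gerb.LocSurjObj J (BasedFunctor.comp F G) := by
  intro z
  obtain ⟨R₁, hR₁, hl₁⟩ := hG z
  have h2 : ∀ ⦃V : C⦄ ⦃h : V ⟶ 𝒵.p.obj z⦄, R₁ h → ∃ S : Sieve V, S ∈ J V ∧
      ∀ ⦃W : C⦄ (k : W ⟶ V), S k → ∃ (x : 𝒳.obj) (c : G.obj (F.obj x) ⟶ z),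
        𝒵.p.IsHomLift (k ≫ h) c := by
    intro V h hh
    obtain ⟨y, a, ha⟩ := hl₁ h hh
    have hy : 𝒴.p.obj y = V := by
      rw [← G.w_obj y]; exact IsHomLift.domain_eq 𝒵.p h a
    obtain ⟨S, hS, hl₂⟩ := locSurjObj' J hF y V hy
    refine ⟨S, hS, fun W k hk => ?_⟩
    obtain ⟨x, b, hb⟩ := hl₂ k hk
    haveI : 𝒵.p.IsHomLift k (G.map b) := inferInstance
    exact ⟨x, G.map b ≫ a, inferInstance⟩
  choose S hS hSl using h2
  refine ⟨Sieve.bind R₁ S, J.bind_covering hR₁ (fun V h hh => hS hh), ?_⟩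
  rintro W f ⟨V, k, h, hh, hk, rfl⟩
  exact hSl hh k hk

theorem locSurjHom_comp [FibCat.IsFibGrpd 𝒳.p] [FibCat.IsFibGrpd 𝒴.p] (F : 𝒳 ⥤ᵇ 𝒴) (G : 𝒴 ⥤ᵇ 𝒵)
    (hF : Gerb.LocSurjHom J F) (hG : Gerb.LocSurjHom J G) :
    Gerb.LocSurjHom J (BasedFunctor.comp F G) := by
  intro x x' b hb
  set U := 𝒳.p.obj x with hUdef
  obtain ⟨R₁, hR₁, hl₁⟩ := locSurjHom' J hG (F.obj x) (F.obj x') U b hb
  have hx' : 𝒳.p.obj x' = U := by
    have := IsHomLift.codomain_eq 𝒵.p (𝟙 U) b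
    rw [← this]
    exact ((G.w_obj (F.obj x')).trans (F.w_obj x')).symm
  have h2 : ∀ ⦃V : C⦄ ⦃h : V ⟶ U⦄, R₁ h → ∃ S : Sieve V, S ∈ J V ∧
      ∀ ⦃W : C⦄ (k : W ⟶ V), S k → ∃ (x₀ : 𝒳.obj) (φ : x₀ ⟶ x) (ψ : x₀ ⟶ x'),
        𝒳.p.IsHomLift (k ≫ h) φ ∧ 𝒳.p.IsHomLift (k ≫ h) ψ ∧
          G.map (F.map φ) ≫ b = G.map (F.map ψ) := by
    intro V h hh
    obtain ⟨y₀, φ, ψ, hφ, hψ, hcomm⟩ := hl₁ h hh
    -- pull back `x` and `x'` along `h`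
    obtain ⟨xh, l, hl⟩ := FibCat.IsFibGrpd.exists_lift (p := 𝒳.p) (x := x) h
    obtain ⟨xh', l', hl'⟩ := FibCat.IsFibGrpd.exists_lift (p := 𝒳.p) (x := x') (hx' ▸ h)
    have hl'' : 𝒳.p.IsHomLift h l' := by
      have key : ∀ (U' : C) (e : U' = U) (l' : xh' ⟶ x'), 𝒳.p.IsHomLift (e ▸ h) l' →
          𝒳.p.IsHomLift h l' := by
        intro U' e l' hl'
        subst e
        exact hl'
      exact key _ hx' l' hl'
    haveI hFl : 𝒴.p.IsHomLift h (F.map l) := inferInstance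
    haveI hFl' : 𝒴.p.IsHomLift h (F.map l') := inferInstance
    obtain ⟨ι, hι, hιfac⟩ := exists_iso_of_isHomLift h (F.map l) φ
    obtain ⟨ι', hι', hιfac'⟩ := exists_iso_of_isHomLift h (F.map l') ψ
    haveI := hι
    haveI := hι'
    haveI hιinv : 𝒴.p.IsHomLift (𝟙 V) ι.inv := IsHomLift.lift_id_inv 𝒴.p V ι
    let b' : F.obj xh ⟶ F.obj xh' := ι.inv ≫ ι'.hom
    have hb' : 𝒴.p.IsHomLift (𝟙 V) b' := by
      have : 𝒴.p.IsHomLift (𝟙 V ≫ 𝟙 V) (ι.inv ≫ ι'.hom) := inferInstance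
      simpa using this
    obtain ⟨S, hS, hl₂⟩ := locSurjHom' J hF xh xh' V b' hb'
    refine ⟨S, hS, fun W k hk => ?_⟩
    obtain ⟨x₀, φ₀, ψ₀, hφ₀, hψ₀, hcomm₀⟩ := hl₂ k hk
    refine ⟨x₀, φ₀ ≫ l, ψ₀ ≫ l', inferInstance, inferInstance, ?_⟩
    have e1 : F.map l = ι.inv ≫ φ := by rw [← hιfac, Iso.inv_hom_id_assoc]
    have e2 : ψ = ι'.hom ≫ F.map l' := hιfac'.symm
    calc G.map (F.map (φ₀ ≫ l)) ≫ b
        = G.map (F.map φ₀ ≫ ι.inv) ≫ G.map φ ≫ b := by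
          rw [F.map_comp, e1, ← Category.assoc, G.map_comp, Category.assoc]
      _ = G.map (F.map φ₀ ≫ ι.inv) ≫ G.map ψ := by rw [hcomm]
      _ = G.map ((F.map φ₀ ≫ b') ≫ F.map l') := by
          rw [← G.map_comp, e2]
          simp only [b', Category.assoc]
      _ = G.map (F.map (ψ₀ ≫ l')) := by rw [hcomm₀, F.map_comp]
  choose S hS hSl using h2
  refine ⟨Sieve.bind R₁ S, J.bind_covering hR₁ (fun V h hh => hS hh), ?_⟩
  rintro W f ⟨V, k, h, hh, hk, rfl⟩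
  exact hSl hh k hk

end Helpers

/-- Let `𝒳`, `𝒴`, `𝒵` be stacks in groupoids over the site `(C, J)` and `F : 𝒳 ⟶ 𝒴`, `G : 𝒴 ⟶ 𝒵`
functors over `C`. If `𝒳` is a gerbe over `𝒴` along `F` and `𝒴` is a gerbe over `𝒵` along `G`, then
`𝒳` is a gerbe over `𝒵` along the composite functor. -/
theorem result {C : Type u} [Category.{v} C] (J : GrothendieckTopology C)
    {𝒳 𝒴 𝒵 : BasedCategory.{v, max u v} C}
    (h𝒳 : Stk.IsStack J 𝒳) (h𝒴 : Stk.IsStack J 𝒴) (h𝒵 : Stk.IsStack J 𝒵)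
    (F : 𝒳 ⥤ᵇ 𝒴) (G : 𝒴 ⥤ᵇ 𝒵)
    (hF : Gerb.IsGerbeOver J F) (hG : Gerb.IsGerbeOver J G) :
    Gerb.IsGerbeOver J (BasedFunctor.comp F G) := by
  haveI := h𝒳.1
  haveI := h𝒴.1
  exact ⟨locSurjObj_comp J F G hF.1 hG.1, locSurjHom_comp J F G hF.2 hG.2⟩

end Groth.Agent.S16883
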