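import Groth.Statements.S16884
import Groth.Agent.Lib.H43StkDescent
import Groth.Agent.S16864

set_option autoImplicit false
set_option backward.isDefEq.respectTransparency false
set_option backward.isDefEq.respectTransparency.types false
set_option linter.style.haveILetI false
open CategoryTheory
universe v u
open Gerb
open CategoryTheory.Functor
open Groth.Agent.Lib.FibGrpd Groth.Agent.Lib.FpEquiv Groth.Agent.Lib.H43StkDescent Groth.Agent.S16864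

namespace Groth.Agent.S16884


section Helpers

variable {C : Type u} [Category.{v} C] (J : GrothendieckTopology C)

section Equiv

variable {𝒳 𝒵 𝒴 : BasedCategory.{v, max u v} C}

/-- If `L` is an equivalence over `C` and `L ⋙ K` is a gerbe morphism then so is `K`. -/
theorem isGerbeOver_of_comp_of_isEquivOver_left (L : 𝒳 ⥤ᵇ 𝒵) (hL : FibCat.IsEquivOver L)
    (K : 𝒵 ⥤ᵇ 𝒴) (h : Gerb.IsGerbeOver J (BasedFunctor.comp L K)) : Gerb.IsGerbeOver J K := by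
  obtain ⟨hfull, hfaith, hess⟩ := ff_ess_of_isEquivOver L hL
  refine ⟨?_, ?_⟩
  · intro y
    obtain ⟨R, hR, hl⟩ := h.1 y
    refine ⟨R, hR, fun V f hf => ?_⟩
    obtain ⟨x, a, ha⟩ := hl f hf
    exact ⟨L.obj x, a, ha⟩
  · intro z z' b hb
    obtain ⟨x, ι, hι⟩ := hess z
    obtain ⟨x', ι', hι'⟩ := hess z'
    set U := 𝒵.p.obj z with hU
    have hz' : 𝒵.p.obj z' = U := by
      have := IsHomLift.codomain_eq 𝒴.p (𝟙 U) b
      rw [← this]; exact (K.w_obj z').symm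
    rw [hz'] at hι'
    haveI := hι
    haveI := hι'
    haveI : 𝒵.p.IsHomLift (𝟙 U) ι'.inv := IsHomLift.lift_id_inv 𝒵.p U ι'
    let b' : K.obj (L.obj x) ⟶ K.obj (L.obj x') := K.map ι.hom ≫ b ≫ K.map ι'.inv
    have hb' : 𝒴.p.IsHomLift (𝟙 U) b' := by
      have : 𝒴.p.IsHomLift (𝟙 U ≫ 𝟙 U ≫ 𝟙 U) (K.map ι.hom ≫ b ≫ K.map ι'.inv) := inferInstance
      simpa using this
    obtain ⟨R, hR, hl⟩ := locSurjHom' J h.2 x x' U b' hb'
    refine ⟨R, hR, fun V f hf => ?_⟩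
    obtain ⟨x₀, φ, ψ, hφ, hψ, hcomm⟩ := hl f hf
    haveI : 𝒵.p.IsHomLift f (L.map φ) := inferInstance
    haveI : 𝒵.p.IsHomLift f (L.map ψ) := inferInstance
    refine ⟨L.obj x₀, L.map φ ≫ ι.hom, L.map ψ ≫ ι'.hom, inferInstance, inferInstance, ?_⟩
    have hcomm' : K.map (L.map φ) ≫ K.map ι.hom ≫ b ≫ K.map ι'.inv = K.map (L.map ψ) := hcomm
    have e : K.map ι'.inv ≫ K.map ι'.hom = 𝟙 _ := by
      rw [← K.map_comp, Iso.inv_hom_id]; exact K.map_id _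
    rw [K.map_comp, K.map_comp, ← hcomm']
    simp only [Category.assoc]
    rw [e, Category.comp_id]

end Equiv

variable {𝒳 𝒴 𝒴' : BasedCategory.{v, max u v} C}

theorem locSurjObj_of_fpFst [FibCat.IsFibGrpd 𝒴.p] (F : 𝒳 ⥤ᵇ 𝒴) (G : 𝒴' ⥤ᵇ 𝒴)
    (hG : Gerb.LocSurjObj J G) (hK : Gerb.LocSurjObj J (FibCat.fpFst G F)) :
    Gerb.LocSurjObj J F := by
  intro y
  obtain ⟨R₁, hR₁, hl₁⟩ := hG y
  have h2 : ∀ ⦃V : C⦄ ⦃h : V ⟶ 𝒴.p.obj y⦄, R₁ h → ∃ S : Sieve V, S ∈ J V ∧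
      ∀ ⦃W : C⦄ (k : W ⟶ V), S k → ∃ (x : 𝒳.obj) (c : F.obj x ⟶ y),
        𝒴.p.IsHomLift (k ≫ h) c := by
    intro V h hh
    obtain ⟨y', a, ha⟩ := hl₁ h hh
    have hy : 𝒴'.p.obj y' = V := by
      rw [← G.w_obj y']; exact IsHomLift.domain_eq 𝒴.p h a
    obtain ⟨S, hS, hl₂⟩ := locSurjObj' J hK y' V hy
    refine ⟨S, hS, fun W k hk => ?_⟩
    obtain ⟨z, c, hc⟩ := hl₂ k hk
    have hzW : 𝒴'.p.obj z.obj.fst = W := IsHomLift.domain_eq 𝒴'.p k c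
    have hz : 𝒴.p.IsHomLift (𝟙 W) z.obj.iso.hom := by
      have := z.property
      change 𝒴.p.IsHomLift (𝟙 (𝒴'.p.obj z.obj.fst)) z.obj.iso.hom at this
      rw [hzW] at this; exact this
    haveI : 𝒴.p.IsHomLift (𝟙 W) z.obj.iso.inv := IsHomLift.lift_id_inv 𝒴.p W z.obj.iso
    haveI : 𝒴.p.IsHomLift k (G.map c) := BasedFunctor.preserves_isHomLift G k c
    refine ⟨z.obj.snd, z.obj.iso.inv ≫ G.map c ≫ a, ?_⟩
    have : 𝒴.p.IsHomLift (𝟙 W ≫ k ≫ h) (z.obj.iso.inv ≫ G.map c ≫ a) := inferInstance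
    simpa using this
  choose S hS hSl using h2
  refine ⟨Sieve.bind R₁ S, J.bind_covering hR₁ (fun V h hh => hS hh), ?_⟩
  rintro W f ⟨V, k, h, hh, hk, rfl⟩
  exact hSl hh k hk

theorem locSurjHom_of_fpFst [FibCat.IsFibGrpd 𝒳.p] [FibCat.IsFibGrpd 𝒴.p] (F : 𝒳 ⥤ᵇ 𝒴)
    (G : 𝒴' ⥤ᵇ 𝒴) (hG : Gerb.LocSurjObj J G) (hK : Gerb.LocSurjHom J (FibCat.fpFst G F)) :
    Gerb.LocSurjHom J F := by
  intro x x' b hb
  set U := 𝒳.p.obj x with hUdef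
  have hFx : 𝒴.p.obj (F.obj x) = U := F.w_obj x
  have hx' : 𝒳.p.obj x' = U := by
    have := IsHomLift.codomain_eq 𝒴.p (𝟙 U) b
    rw [← this]
    exact (F.w_obj x').symm
  obtain ⟨R₁, hR₁, hl₁⟩ := locSurjObj' J hG (F.obj x) U hFx
  have h2 : ∀ ⦃V : C⦄ ⦃h : V ⟶ U⦄, R₁ h → ∃ S : Sieve V, S ∈ J V ∧
      ∀ ⦃W : C⦄ (k : W ⟶ V), S k → ∃ (x₀ : 𝒳.obj) (φ : x₀ ⟶ x) (ψ : x₀ ⟶ x'),
        𝒳.p.IsHomLift (k ≫ h) φ ∧ 𝒳.p.IsHomLift (k ≫ h) ψ ∧ F.map φ ≫ b = F.map ψ := by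
    intro V h hh
    obtain ⟨y', a, ha⟩ := hl₁ h hh
    have hy : 𝒴'.p.obj y' = V := by
      rw [← G.w_obj y']; exact IsHomLift.domain_eq 𝒴.p h a
    -- pull back `x` and `x'` along `h`
    obtain ⟨xh, l, hl⟩ := FibCat.IsFibGrpd.exists_lift (p := 𝒳.p) (x := x) h
    obtain ⟨xh', l', hl'⟩ := FibCat.IsFibGrpd.exists_lift (p := 𝒳.p) (x := x') (hx' ▸ h)
    have hl'' : 𝒳.p.IsHomLift h l' := by
      have key : ∀ (U' : C) (e : U' = U) (l' : xh' ⟶ x'), 𝒳.p.IsHomLift (e ▸ h) l' →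
          𝒳.p.IsHomLift h l' := by
        intro U' e l' hl'
        subst e
        exact hl'
      exact key _ hx' l' hl'
    haveI hFl : 𝒴.p.IsHomLift h (F.map l) := inferInstance
    haveI hFl' : 𝒴.p.IsHomLift h (F.map l') := inferInstance
    haveI hab : 𝒴.p.IsHomLift h (a ≫ b) := inferInstance
    obtain ⟨θ, hθ, hθfac⟩ := exists_iso_of_isHomLift h (F.map l) a
    obtain ⟨θ', hθ', hθfac'⟩ := exists_iso_of_isHomLift h (F.map l') (a ≫ b)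
    let z : (FibCat.fp G F).obj := ⟨⟨y', xh, θ⟩, by
      change 𝒴.p.IsHomLift (𝟙 (𝒴'.p.obj y')) θ.hom
      rw [hy]; exact hθ⟩
    let z' : (FibCat.fp G F).obj := ⟨⟨y', xh', θ'⟩, by
      change 𝒴.p.IsHomLift (𝟙 (𝒴'.p.obj y')) θ'.hom
      rw [hy]; exact hθ'⟩
    have hb₀ : 𝒴'.p.IsHomLift (𝟙 V) (𝟙 y') := IsHomLift.id hy
    obtain ⟨S, hS, hl₂⟩ := locSurjHom' J hK z z' V (𝟙 y') hb₀
    refine ⟨S, hS, fun W k hk => ?_⟩
    obtain ⟨z₀, Φ, Ψ, hΦ, hΨ, hcomm⟩ := hl₂ k hk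
    have hfst : Φ.hom.fst = Ψ.hom.fst := by
      have : Φ.hom.fst ≫ 𝟙 y' = Ψ.hom.fst := hcomm
      rwa [Category.comp_id] at this
    haveI hΦ2 : 𝒳.p.IsHomLift k Φ.hom.snd := fp_isHomLift_snd' G F k Φ hΦ
    haveI hΨ2 : 𝒳.p.IsHomLift k Ψ.hom.snd := fp_isHomLift_snd' G F k Ψ hΨ
    refine ⟨z₀.obj.snd, Φ.hom.snd ≫ l, Ψ.hom.snd ≫ l', inferInstance, inferInstance, ?_⟩
    have w1 : G.map Φ.hom.fst ≫ θ.hom = z₀.obj.iso.hom ≫ F.map Φ.hom.snd := Φ.hom.w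
    have w2 : G.map Ψ.hom.fst ≫ θ'.hom = z₀.obj.iso.hom ≫ F.map Ψ.hom.snd := Ψ.hom.w
    rw [← cancel_epi z₀.obj.iso.hom]
    calc z₀.obj.iso.hom ≫ F.map (Φ.hom.snd ≫ l) ≫ b
        = (z₀.obj.iso.hom ≫ F.map Φ.hom.snd) ≫ F.map l ≫ b := by
          rw [F.map_comp]; simp only [Category.assoc]
      _ = G.map Φ.hom.fst ≫ (θ.hom ≫ F.map l) ≫ b := by
          rw [← w1]; simp only [Category.assoc]
      _ = G.map Ψ.hom.fst ≫ θ'.hom ≫ F.map l' := by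
          rw [hθfac, hθfac', hfst]
      _ = (z₀.obj.iso.hom ≫ F.map Ψ.hom.snd) ≫ F.map l' := by
          rw [← w2]; simp only [Category.assoc]
      _ = z₀.obj.iso.hom ≫ F.map (Ψ.hom.snd ≫ l') := by
          rw [F.map_comp]; simp only [Category.assoc]
  choose S hS hSl using h2
  refine ⟨Sieve.bind R₁ S, J.bind_covering hR₁ (fun V h hh => hS hh), ?_⟩
  rintro W f ⟨V, k, h, hh, hk, rfl⟩
  exact hSl hh k hk

end Helpers

/-- Let `𝒳`, `𝒴`, `𝒳'`, `𝒴'` be stacks in groupoids over the site `(C, J)` forming a 2-cartesian square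
over `C` with sides `F : 𝒳 ⟶ 𝒴`, `G : 𝒴' ⟶ 𝒴`, `F' : 𝒳' ⟶ 𝒴'`, `G' : 𝒳' ⟶ 𝒳` and 2-isomorphism `e :
F' ⋙ G ≅ G' ⋙ F` over `C`. Suppose that every object of `𝒴` lies, locally on `C`, in the essential
image of `G` (for `y` over `U` there is a covering sieve of `U` on whose members `V ⟶ U` there are
an object `y'` of `𝒴'` and a morphism `G y' ⟶ y` lying over `V ⟶ U`). If `𝒳'` is a gerbe over `𝒴'`
along `F'`, then `𝒳` is a gerbe over `𝒴` along `F`: being a gerbe descends along such a base change. -/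
theorem result {C : Type u} [Category.{v} C]
    (J : GrothendieckTopology C) {𝒳 𝒴 𝒳' 𝒴' : BasedCategory.{v, max u v} C}
    (h𝒳 : Stk.IsStack J 𝒳) (h𝒴 : Stk.IsStack J 𝒴) (h𝒳' : Stk.IsStack J 𝒳') (h𝒴' : Stk.IsStack J 𝒴')
    (F : 𝒳 ⥤ᵇ 𝒴) (G : 𝒴' ⥤ᵇ 𝒴) (F' : 𝒳' ⥤ᵇ 𝒴') (G' : 𝒳' ⥤ᵇ 𝒳)
    (e : BasedFunctor.comp F' G ≅ BasedFunctor.comp G' F) (hc : FibCat.IsTwoCartOver F' G' e)
    (hG : Gerb.LocSurjObj J G) (hF' : Gerb.IsGerbeOver J F') : Gerb.IsGerbeOver J F := by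
  haveI := h𝒳.1
  haveI := h𝒴.1
  have h1 : Gerb.IsGerbeOver J (BasedFunctor.comp (FibCat.fpLift F' G' e) (FibCat.fpFst G F)) := hF'
  have h2 : Gerb.IsGerbeOver J (FibCat.fpFst G F) :=
    isGerbeOver_of_comp_of_isEquivOver_left J (FibCat.fpLift F' G' e) hc (FibCat.fpFst G F) h1
  exact ⟨locSurjObj_of_fpFst J F G hG h2.1, locSurjHom_of_fpFst J F G hG h2.2⟩

end Groth.Agent.S16884
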