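import Groth.Statements.S16885
import Groth.Agent.Lib.H43GerbEquiv
import Groth.Agent.Lib.StkEquiv

set_option autoImplicit false
set_option backward.isDefEq.respectTransparency false
set_option backward.isDefEq.respectTransparency.types false
open CategoryTheory
universe v u
open Gerb

namespace Groth.Agent.S16885


universe v₂ u₂ v₃ u₃ in
theorem basedFunctor_ext {C : Type u} [Category.{v} C] {𝒜 : BasedCategory.{v₂, u₂} C}
    {ℬ : BasedCategory.{v₃, u₃} C} {F G : 𝒜 ⥤ᵇ ℬ} (h : F.toFunctor = G.toFunctor) : F = G := by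
  cases F
  cases G
  cases h
  rfl

theorem key {C : Type u} [Category.{v} C] (J : GrothendieckTopology C)
    {𝒜 ℬ : BasedCategory.{v, max u v} C} (L : 𝒜 ⥤ᵇ ℬ) (hL : FibCat.IsEquivOver L)
    (h : Gerb.IsGerbeOver J (FibCat.toSelf ℬ)) : Gerb.IsGerbeOver J (FibCat.toSelf 𝒜) := by
  have h2 := Groth.Agent.Lib.H43GerbEquiv.isGerbeOver_comp_of_isEquivOver_left J L hL
    (FibCat.toSelf ℬ) h
  have e : BasedFunctor.comp L (FibCat.toSelf ℬ) = FibCat.toSelf 𝒜 := basedFunctor_ext L.w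
  exact Groth.Agent.Lib.H43GerbEquiv.isGerbeOver_of_eq J e h2

/-- Let `𝒮₁`, `𝒮₂` be categories over `C` and `F : 𝒮₁ ⟶ 𝒮₂` a functor over `C` which is an equivalence
in the 2-category of categories over `C`. Then, for a topology `J` on `C`, `𝒮₁` is a gerbe over the
site `(C, J)` if and only if `𝒮₂` is. -/
theorem result {C : Type u} [Category.{v} C] (J : GrothendieckTopology C)
    {𝒮₁ 𝒮₂ : BasedCategory.{v, max u v} C} (F : 𝒮₁ ⥤ᵇ 𝒮₂) (hF : FibCat.IsEquivOver F) :
    Gerb.IsGerbe J 𝒮₁ ↔ Gerb.IsGerbe J 𝒮₂ := by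
  obtain ⟨G, hG⟩ := Groth.Agent.Lib.FpEquiv.isEquivOver_inv hF
  constructor
  · intro h
    exact ⟨(Groth.Agent.Lib.StkEquiv.isStack_iff_of_isEquivOver F hF J).1 h.1, key J G hG h.2⟩
  · intro h
    exact ⟨(Groth.Agent.Lib.StkEquiv.isStack_iff_of_isEquivOver F hF J).2 h.1, key J F hF h.2⟩

end Groth.Agent.S16885
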