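import Groth.Statements.S1689
import Groth.Agent.Lib.H87Reflexive
import Groth.Agent.Lib.LocFreeFP
import Groth.Agent.Lib.CohFinite
import Groth.Agent.Lib.H90OXModFP
import Groth.Agent.Lib.RegularDimOne

set_option autoImplicit false
universe u
open CategoryTheory CategoryTheory.Limits AlgebraicGeometry TopologicalSpace
open SDiv

namespace Groth.Agent.S1689

open Groth.Agent.Lib

/-- On a locally Noetherian scheme, coherent modules are finitely presented. -/
theorem isFP_of_isCoh {X : Scheme.{u}} [IsLocallyNoetherian X] (F : X.Modules)
    (hF : Coh.IsCoh F) : CohB1.IsFP F := by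
  rw [H90OXModFP.isFP_iff_forall_affine]
  refine ⟨hF.1, fun U => ?_⟩
  have hN : IsNoetherianRing Γ(X, U.1) := IsLocallyNoetherian.component_noetherian U
  have hfin : Module.Finite Γ(X, U.1) Γ(F, U.1) := CohFinite.finite_sections_of_isCoh F hF U.2
  exact Module.finitePresentation_of_finite _ _

/-- Let X be a locally Noetherian scheme of dimension at most 2 all of whose local rings are regular,
and F a coherent module on X. Then F is reflexive (every stalk is a reflexive module over the local
ring) if and only if F is finite locally free. -/
theorem result (X : Scheme.{u}) [IsLocallyNoetherian X]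
    (hreg : ∀ x : ↥X, IsRegularLocalRing (X.presheaf.stalk x)) (hdim : topologicalKrullDim ↥X ≤ 2) (F : X.Modules)
    (hF : Coh.IsCoh F) : (∀ x : ↥X, Module.IsReflexive (X.presheaf.stalk x) (F.presheaf.stalk x)) ↔ FlatMod.IsFinLocFree F := by
  constructor
  · intro hrefl
    apply LocFreeFP.isFinLocFree_of_isFP_of_free F (isFP_of_isCoh F hF)
    intro x
    have hregx := hreg x
    have hfin : Module.Finite (X.presheaf.stalk x) (F.presheaf.stalk x) :=
      CohFinite.finite_stalk_of_isCoh F hF x
    have hreflx := hrefl x
    exact H87Reflexive.free_of_isReflexive_of_dim_le_two (X.presheaf.stalk x)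
      ((RegularDimOne.dim_stalk_le X x).trans hdim) (F.presheaf.stalk x)
  · intro hlf x
    have hfree := LocFreeFP.free_stalk_of_isFinLocFree hlf x
    have hfin : Module.Finite (X.presheaf.stalk x) (F.presheaf.stalk x) :=
      CohFinite.finite_stalk_of_isCoh F hF x
    infer_instance

end Groth.Agent.S1689
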