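import Groth.Statements.S16896
import Groth.Agent.Lib.NefBigD13

set_option autoImplicit false
universe u
open CategoryTheory CategoryTheory.Limits AlgebraicGeometry
open Vanish

namespace Groth.Agent.S16896

/-- Let k be an algebraically closed field of characteristic zero and X an irreducible proper smooth
k-scheme of dimension n with an ample invertible O_X-module (a projective manifold). Let L be a
numerically effective invertible O_X-module (non-negative degree on every integral one-dimensional
closed subscheme) and L⁻¹ a tensor inverse of L. Then the Iitaka dimension of L equals n, expressed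
by the equivalent condition that some L^⊗ν with ν > 0 receives a monomorphism from an ample
invertible module (L^⊗ν ≅ A(C) with A ample and C effective), if and only if the self-intersection
number c_1(L)^n = ∫ c_1(L)^n · [O_X] (the alternating sum of Euler characteristics attached to n
copies of L⁻¹) is positive. (Only the characteristic-zero case is stated; the
positive-characteristic case assumes a lifting to the Witt vectors of length two.) -/
theorem result (k : Type u) [Field k] [IsAlgClosed k] [CharZero k]
    (X : Scheme.{u}) [X.Over (Spec (CommRingCat.of k))] [IsProper (X ↘ Spec (CommRingCat.of k))]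
    [Smooth (X ↘ Spec (CommRingCat.of k))] [IrreducibleSpace X] (n : ℕ) (hn : topologicalKrullDim X = n)
    (H : X.Modules) (hH : CohB1.IsAmple H) (L Linv : X.Modules) (hL : PicF.IsInvertible L) (hLinv : ClSub.IsInverseOf Linv L)
    (hnef : (∀ (Y : Scheme.{u}) (i : Y ⟶ X) [IsClosedImmersion i], IsIntegral Y → topologicalKrullDim Y = 1 →
      0 ≤ Pic13.curveDeg k (i ≫ (X ↘ Spec (CommRingCat.of k))) ((Scheme.Modules.pullback i).obj L))) :
    (∃ (ν : ℕ) (A : X.Modules) (φ : A ⟶ CohB1.tensorPow L ν), 0 < ν ∧ CohB1.IsAmple A ∧ Mono φ) ↔
      0 < FGA.intNum k X n (fun _ : Fin n => Linv) (Coh.structureModule X) := by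
  open Groth.Agent.Lib in
  haveI : IsReduced X := H69SchReduced.isReduced_of_smooth (X ↘ Spec (CommRingCat.of k))
  haveI : IsIntegral X := isIntegral_of_irreducibleSpace_of_isReduced X
  haveI : CompactSpace X := EulerChar54.compactSpace_of_isProper k X
  have hD : topologicalKrullDim X ≤ (n : WithBot ℕ∞) := hn.le
  have hnef' := KleimanB13.nefCoh_of_curves k n hD hL hnef
  rw [NefBigD13.intNum_inv_eq_lin k n hD hL hLinv]
  constructor
  · rintro ⟨ν, A, φ, hν, hA, hφ⟩
    haveI := hφ
    exact NefBigA13.lin_pos_of_big k n hD hn hL hA hnef' φ (NefBigD13.ne_zero_of_mono hA.1 φ)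
  · intro hbig
    rcases Nat.eq_zero_or_pos n with rfl | hpos
    · have hLamp : CohB1.IsAmple L := NMMain13.isAmple_of_dim_le_zero k hD hL
      exact ⟨1, CohB1.tensorPow L 1, 𝟙 _, one_pos,
        (H78AmpleOps.isAmple_tensorPow_iff hL one_pos).1 hLamp, inferInstance⟩
    · obtain ⟨n', rfl⟩ : ∃ n', n = n' + 1 := ⟨n - 1, by omega⟩
      exact NefBigC13.exists_mono_of_lin_pos k inferInstance (n' + 1) hD hn hL hH hnef' hbig

end Groth.Agent.S16896
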