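import Groth.Statements.S16909
import Groth.Agent.Lib.QAffineGen
import Groth.Agent.Lib.H77QCohKernel
-- import your own Groth.Agent.* helpers here

set_option autoImplicit false
universe u
open CategoryTheory CategoryTheory.Limits AlgebraicGeometry
open ResProp

namespace Groth.Agent.S16909

/-- Let `X` be a quasi-compact and quasi-separated scheme on which every quasi-coherent module is
globally generated (a quotient of a free module on some index type, i.e. the structure sheaf is a
generating family). Then `X` is quasi-affine. No separatedness hypothesis is made; it follows. (The
published statement is for an algebraic stack over an algebraic space with affine stabilizer groups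
at closed points and concludes that it is representable by a quasi-affine morphism; that general
case rests on results outside this text, and this row is the final step of its proof, the case of a
scheme.) -/
theorem result (X : Scheme.{u}) [CompactSpace X]
    [QuasiSeparatedSpace X] (h : ∀ M : X.Modules, Coh.IsQCoh M → Curv2.IsGloballyGenerated M) :
    X.IsQuasiAffine := by
  refine Scheme.IsQuasiAffine.of_forall_exists_mem_basicOpen X fun x => ?_
  obtain ⟨U, hU, hxU, -⟩ := TopologicalSpace.Opens.isBasis_iff_nbhd.1 X.isBasis_affineOpens
    (show x ∈ (⊤ : X.Opens) from trivial)
  let Z : TopologicalSpace.Closeds X := ⟨(U : Set X)ᶜ, U.isOpen.isClosed_compl⟩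
  obtain ⟨g, hg⟩ := Groth.Agent.Lib.QAffineGen.exists_idealFn_eq_one U hU Z rfl
  exact Groth.Agent.Lib.QAffineGen.exists_affine_basicOpen x U hU hxU Z rfl
    (ClSub.idealMod (Scheme.IdealSheafData.vanishingIdeal Z)) (𝟙 _)
    (h _ (inferInstanceAs
      (ClSub.idealMod (Scheme.IdealSheafData.vanishingIdeal Z)).IsQuasicoherent)) g hg

end Groth.Agent.S16909
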