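import Groth.Statements.S16917
import Mathlib
import Groth.Agent.Lib.IrredDecomp97
-- import your own Groth.Agent.* helpers here

set_option autoImplicit false
open CategoryTheory AlgebraicGeometry
universe u
open Variety

namespace Groth.Agent.S16917

/-- Let k be an uncountable algebraically closed field, X a k-scheme of finite type and Z₀, Z₁, …
countably many closed subsets of X. Then the countable union of the Zₙ, read through closed points,
has a unique irredundant decomposition: there is exactly one countable family S of irreducible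
closed subsets of X, pairwise not contained in one another, such that a closed point of X lies in
some member of S if and only if it lies in some Zₙ. (The published statement is the existence and
uniqueness of the irredundant decomposition of a countable union of algebraic varieties into
c-components, a variety being read through its closed points; with all points of the scheme the
uniqueness would not need the uncountable field.) -/
theorem result (k : Type u) [Field k] [IsAlgClosed k]
    [Uncountable k] (X : Scheme.{u}) (sX : X ⟶ Spec (CommRingCat.of k)) [LocallyOfFiniteType sX]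
    [QuasiCompact sX] (Z : ℕ → TopologicalSpace.Closeds X) :
    ∃! S : Set (TopologicalSpace.Closeds X), S.Countable ∧ (∀ T ∈ S, IsIrreducible (T : Set X)) ∧
      IsAntichain (· ≤ ·) S ∧
      {x : X | IsClosed ({x} : Set X) ∧ ∃ T ∈ S, x ∈ T} =
        {x : X | IsClosed ({x} : Set X) ∧ ∃ n, x ∈ Z n} := by
  classical
  have hLN : IsLocallyNoetherian X := LocallyOfFiniteType.isLocallyNoetherian sX
  have hcpt : CompactSpace X := QuasiCompact.compactSpace_of_compactSpace sX
  have hN : IsNoetherian X := { }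
  have hNS : TopologicalSpace.NoetherianSpace X := inferInstance
  -- the property
  let P : Set (TopologicalSpace.Closeds X) → Prop := fun S =>
    S.Countable ∧ (∀ T ∈ S, IsIrreducible (T : Set X)) ∧ IsAntichain (· ≤ ·) S ∧
      {x : X | IsClosed ({x} : Set X) ∧ ∃ T ∈ S, x ∈ T} =
        {x : X | IsClosed ({x} : Set X) ∧ ∃ n, x ∈ Z n}
  -- uniqueness half: inclusion
  have hincl : ∀ S₁ S₂ : Set (TopologicalSpace.Closeds X), P S₁ → P S₂ → S₁ ⊆ S₂ := by
    intro S₁ S₂ h₁ h₂
    obtain ⟨hc₁, hi₁, ha₁, he₁⟩ := h₁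
    obtain ⟨hc₂, hi₂, ha₂, he₂⟩ := h₂
    have key : ∀ (Sa Sb : Set (TopologicalSpace.Closeds X)), Sb.Countable →
        ({x : X | IsClosed ({x} : Set X) ∧ ∃ T ∈ Sa, x ∈ T} =
          {x : X | IsClosed ({x} : Set X) ∧ ∃ T ∈ Sb, x ∈ T}) →
        ∀ T ∈ Sa, IsIrreducible (T : Set X) → ∃ T' ∈ Sb, T ≤ T' := by
      intro Sa Sb hcb he T hT hTi
      apply Groth.Agent.Lib.IrredDecomp97.exists_le_of_closedPoints_subset k X sX T hTi Sb hcb
      intro x hxT hxc
      have : x ∈ {x : X | IsClosed ({x} : Set X) ∧ ∃ T ∈ Sa, x ∈ T} := ⟨hxc, T, hT, hxT⟩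
      rw [he] at this
      exact this.2
    intro T hT
    obtain ⟨T', hT', hTT'⟩ := key S₁ S₂ hc₂ (he₁.trans he₂.symm) T hT (hi₁ T hT)
    obtain ⟨T'', hT'', hT'T''⟩ := key S₂ S₁ hc₁ (he₂.trans he₁.symm) T' hT' (hi₂ T' hT')
    have hTT'' : T = T'' := by
      by_contra hne
      exact ha₁ hT hT'' hne (hTT'.trans hT'T'')
    have : T = T' := le_antisymm hTT' (hTT'' ▸ hT'T'')
    exact this ▸ hT'
  -- existence
  have hex : ∃ S, P S := by
    choose Sn hirr hsup using fun n => TopologicalSpace.NoetherianSpace.exists_finset_irreducible (Z n)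
    let C : Set (TopologicalSpace.Closeds X) := ⋃ n, (Sn n : Set (TopologicalSpace.Closeds X))
    have hCc : C.Countable := Set.countable_iUnion fun n => (Sn n).countable_toSet
    have hCi : ∀ T ∈ C, IsIrreducible (T : Set X) := by
      intro T hT
      obtain ⟨n, hn⟩ := Set.mem_iUnion.mp hT
      exact hirr n ⟨T, hn⟩
    let S : Set (TopologicalSpace.Closeds X) := {T | T ∈ C ∧ ∀ T'' ∈ C, T ≤ T'' → T'' = T}
    have hmemZ : ∀ n (x : X), x ∈ Z n ↔ ∃ T ∈ Sn n, x ∈ T := by
      intro n x
      rw [hsup n]
      rw [← SetLike.mem_coe, TopologicalSpace.Closeds.coe_finset_sup]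
      simp
    refine ⟨S, hCc.mono (fun T hT => hT.1), fun T hT => hCi T hT.1, ?_, ?_⟩
    · intro T hT T' hT' hne hle
      exact hne (hT.2 T' hT'.1 hle).symm
    · ext x
      constructor
      · rintro ⟨hxc, T, hT, hxT⟩
        obtain ⟨n, hn⟩ := Set.mem_iUnion.mp hT.1
        exact ⟨hxc, n, (hmemZ n x).mpr ⟨T, hn, hxT⟩⟩
      · rintro ⟨hxc, n, hxn⟩
        obtain ⟨T, hTn, hxT⟩ := (hmemZ n x).mp hxn
        have hTC : T ∈ C := Set.mem_iUnion.mpr ⟨n, hTn⟩
        obtain ⟨T', hT'C, hTT', hmax⟩ :=
          Groth.Agent.Lib.IrredDecomp97.exists_maximal_ge X C hCi T hTC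
        exact ⟨hxc, T', ⟨hT'C, hmax⟩, hTT' hxT⟩
  obtain ⟨S, hS⟩ := hex
  exact ⟨S, hS, fun S' hS' => Set.Subset.antisymm (hincl S' S hS' hS) (hincl S S' hS hS')⟩

end Groth.Agent.S16917
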