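-- Statement S16919: alg. closure of the function field of R = k ⊗ R₀ is isomorphic to k over R₀.
import Groth.Statements.S16919
import Groth.Agent.Lib.AlgClosedTrdeg
import Mathlib.RingTheory.FiniteStability
import Mathlib.FieldTheory.IsAlgClosed.AlgebraicClosure

set_option autoImplicit false
universe u
open TensorProduct
open CAlg

namespace Groth.Agent.S16919

open Cardinal Algebra in
/-- Let k₀ → k be an extension of fields with k algebraically closed and of infinite transcendence
degree over k₀, R₀ a finitely generated k₀-algebra whose base change R = k ⊗ R₀ is an integral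
domain (so Spec R is an integral affine k-scheme of finite type with the model Spec R₀ over k₀), and
P a k-point of Spec R, i.e. a k-algebra homomorphism ev : R → k, lying over the generic point of
Spec R₀, i.e. with ev injective on R₀. Then there is a field isomorphism e from an algebraic closure
of the fraction field of R (the function field of Spec R) onto k such that e(1 ⊗ r) = ev(1 ⊗ r) for
every r in R₀: e extends evaluation at P on R₀. (The published setting has k algebraically closed of
characteristic zero and of infinite transcendence degree over its prime field, and k₀ the subfield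
generated by the coefficients of equations of Spec R, which is finitely generated over the prime
field, so that k has infinite transcendence degree over k₀; only this last property and no
characteristic assumption enter here. The isomorphism is not canonical.) -/
theorem result (k₀ k : Type u)
    [Field k₀] [Field k] [Algebra k₀ k] [IsAlgClosed k] (hinf : ∃ x : ℕ → k, AlgebraicIndependent k₀ x)
    (R₀ : Type u) [CommRing R₀] [Algebra k₀ R₀] [Algebra.FiniteType k₀ R₀] [IsDomain (k ⊗[k₀] R₀)]
    (ev : k ⊗[k₀] R₀ →ₐ[k] k) (hP : Function.Injective fun r : R₀ => ev (1 ⊗ₜ[k₀] r)) :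
    ∃ e : AlgebraicClosure (FractionRing (k ⊗[k₀] R₀)) ≃+* k,
      ∀ r : R₀, e (algebraMap (k ⊗[k₀] R₀) (AlgebraicClosure (FractionRing (k ⊗[k₀] R₀)))
        (1 ⊗ₜ[k₀] r)) = ev (1 ⊗ₜ[k₀] r) := by
  -- the inclusion R₀ → R
  let ι₀ : R₀ →ₐ[k₀] k ⊗[k₀] R₀ := Algebra.TensorProduct.includeRight
  let g : R₀ →+* AlgebraicClosure (FractionRing (k ⊗[k₀] R₀)) :=
    (algebraMap (k ⊗[k₀] R₀) (AlgebraicClosure (FractionRing (k ⊗[k₀] R₀)))).comp ι₀.toRingHom
  let h : R₀ →+* k := ev.toRingHom.comp ι₀.toRingHom
  have hh : Function.Injective h := hP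
  have hι : Function.Injective ι₀ := by
    intro a b hab
    apply hh
    change ev (ι₀ a) = ev (ι₀ b)
    rw [hab]
  have hRK : Function.Injective (algebraMap (k ⊗[k₀] R₀)
      (AlgebraicClosure (FractionRing (k ⊗[k₀] R₀)))) := by
    rw [IsScalarTower.algebraMap_eq (k ⊗[k₀] R₀) (FractionRing (k ⊗[k₀] R₀))
      (AlgebraicClosure (FractionRing (k ⊗[k₀] R₀)))]
    exact (algebraMap (FractionRing (k ⊗[k₀] R₀)) _).injective.comp
      (IsFractionRing.injective (k ⊗[k₀] R₀) (FractionRing (k ⊗[k₀] R₀)))
  have hg : Function.Injective g := hRK.comp hι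
  have hdom : IsDomain R₀ := hh.isDomain h
  have hκ : ℵ₀ ≤ trdeg k₀ k := by
    obtain ⟨x, hx⟩ := hinf
    have := hx.lift_cardinalMk_le_trdeg
    simpa using this
  have ha : trdeg k₀ R₀ < ℵ₀ := trdeg_lt_aleph0_of_finiteType
  -- transcendence degree of k over R₀
  have h1 : @trdeg R₀ k _ _ h.toAlgebra = trdeg k₀ k := by
    letI algk : Algebra R₀ k := h.toAlgebra
    have : FaithfulSMul R₀ k := (faithfulSMul_iff_algebraMap_injective _ _).mpr hh
    have tow1 : IsScalarTower k₀ R₀ k := IsScalarTower.of_algebraMap_eq (fun c => by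
      change algebraMap k₀ k c = ev (ι₀ (algebraMap k₀ R₀ c))
      rw [ι₀.commutes, ← (ev.restrictScalars k₀).commutes c]
      rfl)
    exact Cardinal.eq_of_add_eq_of_aleph0_le (trdeg_add_eq k₀ R₀ (A := k)) (ha.trans_le hκ) hκ
  -- transcendence degree of K over R₀
  have h3 : @trdeg R₀ (AlgebraicClosure (FractionRing (k ⊗[k₀] R₀))) _ _ g.toAlgebra =
      trdeg k₀ k := by
    letI algK : Algebra R₀ (AlgebraicClosure (FractionRing (k ⊗[k₀] R₀))) := g.toAlgebra
    have : FaithfulSMul R₀ (AlgebraicClosure (FractionRing (k ⊗[k₀] R₀))) :=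
      (faithfulSMul_iff_algebraMap_injective _ _).mpr hg
    have : FaithfulSMul (k ⊗[k₀] R₀) (AlgebraicClosure (FractionRing (k ⊗[k₀] R₀))) :=
      (faithfulSMul_iff_algebraMap_injective _ _).mpr hRK
    have tow2 : IsScalarTower k₀ R₀ (AlgebraicClosure (FractionRing (k ⊗[k₀] R₀))) :=
      IsScalarTower.of_algebraMap_eq (fun c => by
        change algebraMap k₀ _ c = algebraMap (k ⊗[k₀] R₀) _ (ι₀ (algebraMap k₀ R₀ c))
        rw [ι₀.commutes, ← IsScalarTower.algebraMap_apply])
    have halg : Algebra.IsAlgebraic (k ⊗[k₀] R₀)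
        (AlgebraicClosure (FractionRing (k ⊗[k₀] R₀))) := by
      have : Algebra.IsAlgebraic (k ⊗[k₀] R₀) (FractionRing (k ⊗[k₀] R₀)) :=
        IsLocalization.isAlgebraic _ (nonZeroDivisors (k ⊗[k₀] R₀))
      exact Algebra.IsAlgebraic.trans (k ⊗[k₀] R₀) (FractionRing (k ⊗[k₀] R₀)) _
    have hb : trdeg k (AlgebraicClosure (FractionRing (k ⊗[k₀] R₀))) < ℵ₀ := by
      have := trdeg_add_eq k (k ⊗[k₀] R₀) (A := AlgebraicClosure (FractionRing (k ⊗[k₀] R₀)))
      rw [trdeg_eq_zero (R := k ⊗[k₀] R₀), add_zero] at this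
      rw [← this]
      exact trdeg_lt_aleph0_of_finiteType
    have h2 : trdeg k₀ (AlgebraicClosure (FractionRing (k ⊗[k₀] R₀))) = trdeg k₀ k := by
      rw [← trdeg_add_eq k₀ k (A := AlgebraicClosure (FractionRing (k ⊗[k₀] R₀)))]
      exact Cardinal.add_eq_left hκ (hb.le.trans hκ)
    have := trdeg_add_eq k₀ R₀ (A := AlgebraicClosure (FractionRing (k ⊗[k₀] R₀)))
    rw [h2] at this
    exact Cardinal.eq_of_add_eq_of_aleph0_le this (ha.trans_le hκ) hκ
  obtain ⟨e, he⟩ := Groth.Agent.Lib.AlgClosedTrdeg.exists_ringEquiv_of_ringHom g h hg hh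
    (h3.trans h1.symm)
  exact ⟨e, fun r => he r⟩

end Groth.Agent.S16919
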