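import Groth.Statements.S1692
import Mathlib.AlgebraicGeometry.OrderOfVanishing
import Groth.Agent.Lib.AssPoints
import Mathlib.RingTheory.Ideal.MinimalPrime.Noetherian
import Mathlib.RingTheory.KrullDimension.Basic

set_option autoImplicit false
universe u
open CategoryTheory CategoryTheory.Limits AlgebraicGeometry TopologicalSpace
open SDiv

namespace Groth.Agent.S1692

variable {X : Scheme.{u}} [IsIntegral X] [IsLocallyNoetherian X]

/-- order of a section which is invertible at the point is zero -/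
lemma ord_section_eq_zero {U : X.Opens} [Nonempty U] (a : Γ(X, U)) (ξ : X)
    (hξ : ξ ∈ X.basicOpen a) : Scheme.ord (X.germToFunctionField U a) ξ = 0 := by
  haveI : Nonempty (X.basicOpen a) := ⟨⟨ξ, hξ⟩⟩
  have hu : IsUnit (X.presheaf.map (homOfLE (X.basicOpen_le a)).op a) :=
    X.toRingedSpace.isUnit_res_basicOpen a
  have h1 := Scheme.ord_of_isUnit (X := X) (U := X.basicOpen a) hu (x := ξ) hξ
  have h2 : X.germToFunctionField (X.basicOpen a)
      (X.presheaf.map (homOfLE (X.basicOpen_le a)).op a) = X.germToFunctionField U a :=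
    TopCat.Presheaf.germ_res_apply X.presheaf (homOfLE (X.basicOpen_le a)) _ _ a
  rw [← h2]
  exact h1

lemma ord_eq_zero_of_mem_basicOpen {U : X.Opens} [Nonempty U] (a b : Γ(X, U)) (f : X.functionField)
    (hf : f ≠ 0) (hb : b ≠ 0)
    (hab : f * X.germToFunctionField U b = X.germToFunctionField U a) (ξ : X)
    (ha' : ξ ∈ X.basicOpen a) (hb' : ξ ∈ X.basicOpen b) : Scheme.ord f ξ = 0 := by
  have hb0 : X.germToFunctionField U b ≠ 0 := by
    intro h0
    apply hb
    apply Scheme.germToFunctionField_injective X U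
    rw [h0, map_zero]
  have h1 := Scheme.ord_mul (x := ξ) hf hb0
  rw [hab, ord_section_eq_zero a ξ ha', ord_section_eq_zero b ξ hb'] at h1
  omega

lemma primeIdealOf_mem_minimalPrimes {U : X.Opens} (hU : IsAffineOpen U) (ξ : U)
    (hξ : Order.coheight ξ.1 = 1) (c : Γ(X, U)) (hc : c ≠ 0)
    (hcξ : c ∈ (hU.primeIdealOf ξ).asIdeal) :
    (hU.primeIdealOf ξ).asIdeal ∈ (Ideal.span {c}).minimalPrimes := by
  haveI : Ring.KrullDimLE 1 (X.presheaf.stalk ξ.1) := krullDimLE_of_coheight_le hξ.le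
  haveI := hU.isLocalization_stalk ξ
  refine ⟨⟨inferInstance, (Ideal.span_singleton_le_iff_mem _).mpr hcξ⟩, ?_⟩
  rintro q ⟨hq, hcq⟩ hqp
  have hdisj : Disjoint ((hU.primeIdealOf ξ).asIdeal.primeCompl : Set Γ(X, U)) q :=
    Set.disjoint_left.mpr fun a hap haq => hap (hqp haq)
  have hQ : (q.map (algebraMap Γ(X, U) (X.presheaf.stalk ξ.1))).IsPrime :=
    IsLocalization.isPrime_of_isPrime_disjoint _ _ q hq hdisj
  have hQne : q.map (algebraMap Γ(X, U) (X.presheaf.stalk ξ.1)) ≠ ⊥ := by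
    intro h0
    have h1 : algebraMap Γ(X, U) (X.presheaf.stalk ξ.1) c ∈
        q.map (algebraMap Γ(X, U) (X.presheaf.stalk ξ.1)) :=
      Ideal.mem_map_of_mem _ (hcq (Ideal.mem_span_singleton_self c))
    rw [h0, Ideal.mem_bot] at h1
    apply hc
    apply germ_injective_of_isIntegral X ξ.1 ξ.2
    rw [map_zero]
    exact h1
  have hmax := hQ.isMaximal_of_ne_bot hQne
  have hQm := IsLocalRing.eq_maximalIdeal hmax
  have h2 := IsLocalization.under_map_of_isPrime_disjoint
    (hU.primeIdealOf ξ).asIdeal.primeCompl (X.presheaf.stalk ξ.1) hq hdisj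
  rw [hQm, IsLocalization.AtPrime.under_maximalIdeal (X.presheaf.stalk ξ.1)
    (hU.primeIdealOf ξ).asIdeal] at h2
  exact h2.le

/-- Let X be a locally Noetherian integral scheme and f a nonzero rational function. Then the closures
of the codimension-one points at which f has nonzero order of vanishing form a locally finite family
of closed subsets of X. -/
theorem result (X : Scheme.{u}) [IsIntegral X] [IsLocallyNoetherian X] (f : ↑X.functionField) (hf : f ≠ 0) :
    LocallyFinite (fun ξ : {ξ : ↥X // Order.coheight ξ = 1 ∧ Scheme.ord f ξ ≠ 0} => closure ({ξ.1} : Set ↥X)) := by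
  intro x
  obtain ⟨_, ⟨U, hU, rfl⟩, hxU, -⟩ :=
    X.isBasis_affineOpens.exists_subset_of_mem_open (Set.mem_univ x) isOpen_univ
  haveI : Nonempty U := ⟨⟨x, hxU⟩⟩
  haveI : IsNoetherianRing Γ(X, U) := IsLocallyNoetherian.component_noetherian ⟨U, hU⟩
  haveI := functionField_isFractionRing_of_isAffineOpen X U hU
  obtain ⟨a, b, hb, hab⟩ := IsFractionRing.div_surjective (A := Γ(X, U)) f
  have hb0 : b ≠ 0 := nonZeroDivisors.ne_zero hb
  have hb0' : algebraMap Γ(X, U) X.functionField b ≠ 0 := by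
    intro h0
    apply hb0
    apply Scheme.germToFunctionField_injective X U
    rw [map_zero]
    exact h0
  have ha0 : a ≠ 0 := by
    rintro rfl
    rw [map_zero, zero_div] at hab
    exact hf hab.symm
  have hab' : f * X.germToFunctionField U b = X.germToFunctionField U a := by
    rw [← hab]
    exact div_mul_cancel₀ _ hb0'
  refine ⟨U, U.2.mem_nhds hxU, ?_⟩
  classical
  let g : {ξ : ↥X // Order.coheight ξ = 1 ∧ Scheme.ord f ξ ≠ 0} → Ideal Γ(X, U) :=
    fun ξ => if h : ξ.1 ∈ U then (hU.primeIdealOf ⟨ξ.1, h⟩).asIdeal else ⊥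
  have hfin := Ideal.finite_minimalPrimes_of_isNoetherianRing Γ(X, U) (Ideal.span {a * b})
  have hmemU : ∀ ξ : {ξ : ↥X // Order.coheight ξ = 1 ∧ Scheme.ord f ξ ≠ 0},
      (closure ({ξ.1} : Set ↥X) ∩ U).Nonempty → ξ.1 ∈ U := by
    rintro ξ ⟨y, hy, hyU⟩
    exact (specializes_iff_mem_closure.mpr hy).mem_open U.2 hyU
  refine Set.Finite.of_injOn (f := g) ?_ ?_ hfin
  · intro ξ hξ
    have hξU := hmemU ξ hξ
    simp only [g, dif_pos hξU]
    apply primeIdealOf_mem_minimalPrimes hU ⟨ξ.1, hξU⟩ ξ.2.1 (a * b) (mul_ne_zero ha0 hb0)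
    by_contra hnot
    have hprime := (hU.primeIdealOf ⟨ξ.1, hξU⟩).2
    have ha' : a ∉ (hU.primeIdealOf ⟨ξ.1, hξU⟩).asIdeal := fun h => hnot (Ideal.mul_mem_right _ _ h)
    have hb' : b ∉ (hU.primeIdealOf ⟨ξ.1, hξU⟩).asIdeal := fun h => hnot (Ideal.mul_mem_left _ _ h)
    rw [← Groth.Agent.Lib.AssPoints.isUnit_germ_iff hU ⟨ξ.1, hξU⟩,
      ← X.mem_basicOpen _ ξ.1 hξU] at ha' hb'
    exact ξ.2.2 (ord_eq_zero_of_mem_basicOpen a b f hf hb0 hab' ξ.1 ha' hb')
  · intro ξ hξ ξ' hξ' h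
    have hξU := hmemU ξ hξ
    have hξU' := hmemU ξ' hξ'
    simp only [g, dif_pos hξU, dif_pos hξU'] at h
    apply Subtype.ext
    have h1 := hU.fromSpec_primeIdealOf ⟨ξ.1, hξU⟩
    have h2 := hU.fromSpec_primeIdealOf ⟨ξ'.1, hξU'⟩
    rw [PrimeSpectrum.ext h] at h1
    exact h1.symm.trans h2

end Groth.Agent.S1692
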