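import Groth.Statements.S1693
-- import your own Groth.Agent.* helpers here

set_option autoImplicit false
universe u
open CategoryTheory CategoryTheory.Limits AlgebraicGeometry TopologicalSpace
open SDiv

namespace Groth.Agent.S1693

/-- Let X be a locally Noetherian scheme and Z a closed subset. Then the irreducible components of Z
form a locally finite family of subsets of X. -/
theorem result (X : Scheme.{u}) [IsLocallyNoetherian X] (Z : Set ↥X) (hZ : IsClosed Z) :
    LocallyFinite (fun T : ↥(irreducibleComponents ↥Z) => ((↑) '' (T.1 : Set ↥Z) : Set ↥X)) := by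
  intro x
  obtain ⟨U, hxU⟩ : ∃ U : X.affineOpens, x ∈ U.1 := by
    obtain ⟨_, ⟨U, hU, rfl⟩, hxU, -⟩ :=
      X.isBasis_affineOpens.exists_subset_of_mem_open (Set.mem_univ x) isOpen_univ
    exact ⟨⟨U, hU⟩, hxU⟩
  have hNR : IsNoetherianRing Γ(X, U.1) := IsLocallyNoetherian.component_noetherian U
  have hN : NoetherianSpace (U.1 : Set X) := noetherianSpace_of_isAffineOpen U.1 U.2
  refine ⟨(U.1 : Set X), U.1.2.mem_nhds hxU, ?_⟩
  let V : Set Z := Subtype.val ⁻¹' (U.1 : Set X)
  have hVo : IsOpen V := U.1.2.preimage continuous_subtype_val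
  have hNV : NoetherianSpace V := by
    let i : V → (U.1 : Set X) := fun v => ⟨v.1.1, v.2⟩
    have hi : Topology.IsInducing i := by
      have h1 : Topology.IsInducing (Subtype.val ∘ i) := by
        have : (Subtype.val ∘ i : V → X) = Subtype.val ∘ Subtype.val := rfl
        rw [this]
        exact Topology.IsInducing.subtypeVal.comp Topology.IsInducing.subtypeVal
      exact Topology.IsInducing.of_comp (by fun_prop) continuous_subtype_val h1
    exact hi.noetherianSpace
  have hfin : (irreducibleComponents V).Finite := NoetherianSpace.finite_irreducibleComponents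
  refine Set.Finite.of_injOn (f := fun T : irreducibleComponents Z =>
    ((Subtype.val : V → Z) ⁻¹' T.1 : Set V)) ?_ ?_ hfin
  · rintro T ⟨_, ⟨z, hz, rfl⟩, hzU⟩
    exact preimage_mem_irreducibleComponents T.2 hVo.isOpenEmbedding_subtypeVal
      ⟨z, hz, ⟨⟨z, hzU⟩, rfl⟩⟩
  · rintro T ⟨_, ⟨z, hz, rfl⟩, hzU⟩ T' ⟨_, ⟨z', hz', rfl⟩, hzU'⟩ h
    have e1 := closure_image_preimage_of_isPreirreducible (Subtype.val : V → Z)
      hVo.isOpenEmbedding_subtypeVal.isOpenMap T.1 ⟨⟨z, hzU⟩, hz⟩ T.2.1.2
      (isClosed_of_mem_irreducibleComponents _ T.2)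
    have e2 := closure_image_preimage_of_isPreirreducible (Subtype.val : V → Z)
      hVo.isOpenEmbedding_subtypeVal.isOpenMap T'.1 ⟨⟨z', hzU'⟩, hz'⟩ T'.2.1.2
      (isClosed_of_mem_irreducibleComponents _ T'.2)
    apply Subtype.ext
    rw [← e1, ← e2]
    simp only at h
    rw [h]

end Groth.Agent.S1693
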