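import Groth.Statements.S16951
import Groth.Agent.Lib.SeesawEpi21
import Groth.Agent.Lib.InvField21
import Groth.Agent.Lib.CurveVB67A

set_option autoImplicit false
universe u
open PicF

namespace Groth.Agent.S16951

open AlgebraicGeometry CategoryTheory Groth.Agent.Lib.OXModTensor in
/-- a right inverse of `L` is isomorphic to any left inverse -/
private noncomputable def inverseIso {X : Scheme.{u}} {L M L' : X.Modules}
    (hM : CohB1.tensorMod L M ≅ Coh.structureModule X)
    (e₀ : CohB1.tensorMod L' L ≅ Coh.structureModule X) : M ≅ L' :=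
  (leftUnitor M).symm ≪≫ tensorModIso e₀.symm (Iso.refl M) ≪≫ associator L' L M ≪≫
    tensorModIso (Iso.refl L') hM ≪≫ rightUnitor L'

open AlgebraicGeometry CategoryTheory Groth.Agent.Lib.H90Invertible in
/-- the local statement for both `N` and its inverse -/
private theorem key_of_b {X S : Scheme.{u}} (f : X ⟶ S) [IsProper f] [Flat f] [IsLocallyNoetherian S]
    [GeometricallyIntegral f] {N N' : X.Modules} (hN : PicF.IsInvertible N) (hN' : PicF.IsInvertible N')
    (e₀ : CohB1.tensorMod N' N ≅ Coh.structureModule X)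
    (hnt : ∀ s : S, Nontrivial (CohIII.fiberH f N s 0))
    (hnt' : ∀ s : S, Nontrivial (CohIII.fiberH f N' s 0))
    (hepi : ∀ s : S, Epi (CohBC.bc0 f (S.fromSpecResidueField s) (f.fiberToSpecResidueField s)
      (f.fiberι s) (f.fiber_fac s) N)) (y : S) :
    Nonempty (CohIII.fiberMod f N y ≅ Coh.structureModule (f.fiber y)) ∧
    ∃ U : S.Opens, y ∈ U ∧ (∃ s : Γ(N, f ⁻¹ᵁ U), IsGen N (f ⁻¹ᵁ U) s) ∧
      ∀ W : S.Opens, W ≤ U → Function.Bijective (f.app W) := by
  have h1 : 1 ≤ CohIII.fiberRank f N 0 y := by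
    have := Groth.Agent.Lib.InvIntegral21.finite_fiberH f N hN y 0
    have := hnt y
    unfold CohIII.fiberRank
    exact Module.finrank_pos
  have h2 : 1 ≤ CohIII.fiberRank f N' 0 y := by
    have := Groth.Agent.Lib.InvIntegral21.finite_fiberH f N' hN' y 0
    have := hnt' y
    unfold CohIII.fiberRank
    exact Module.finrank_pos
  obtain ⟨ey⟩ := (Groth.Agent.Lib.FibreTriv21.nonempty_fiber_iso_iff f y hN hN' e₀).mpr ⟨h1, h2⟩
  exact ⟨⟨ey⟩, Groth.Agent.Lib.SeesawEpi21.exists_key_of_epi_bc0 f N hN y ey (hnt y) (hepi y)⟩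

open AlgebraicGeometry CategoryTheory Scheme.Modules in
/-- Let f : X → S be a proper flat morphism of locally Noetherian schemes whose fibres are geometrically
integral, and let L be an invertible O_X-module with an inverse M (an isomorphism L ⊗ M ≅ O_X). Then
the following are equivalent: (a) L ≅ f^* L₀ for some invertible O_S-module L₀; (b) for N = L and
for N = M, at every point s of S the space H^0(X_s, N|_{X_s}) of sections over the scheme-theoretic
fibre is nonzero and the degree-0 base change map of the fibre square, κ(s)^* f_* N → (X_s → Spec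
κ(s))_* (N|_{X_s}), is an epimorphism. When this holds, dim_{κ(s)} H^0(X_s, N|_{X_s}) = 1 for every
s and both N, the counit f^* f_* L → L is an isomorphism, and any invertible L₀ with L ≅ f^* L₀ is
isomorphic to f_* L. -/
theorem result
    {X S : Scheme.{u}} (f : X ⟶ S) [IsProper f] [Flat f] [IsLocallyNoetherian X] [IsLocallyNoetherian S]
    [GeometricallyIntegral f] (L M : X.Modules) (hL : PicF.IsInvertible L)
    (hM : Nonempty (CohB1.tensorMod L M ≅ Coh.structureModule X)) :
    ((∃ L₀ : S.Modules, PicF.IsInvertible L₀ ∧ Nonempty (L ≅ (pullback f).obj L₀)) ↔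
      ((∀ s : S, Nontrivial (CohIII.fiberH f L s 0)) ∧ (∀ s : S, Nontrivial (CohIII.fiberH f M s 0)) ∧
        (∀ s : S, Epi (CohBC.bc0 f (S.fromSpecResidueField s) (f.fiberToSpecResidueField s) (f.fiberι s) (f.fiber_fac s) L)) ∧ (∀ s : S, Epi (CohBC.bc0 f (S.fromSpecResidueField s) (f.fiberToSpecResidueField s) (f.fiberι s) (f.fiber_fac s) M)))) ∧
    (((∀ s : S, Nontrivial (CohIII.fiberH f L s 0)) ∧ (∀ s : S, Nontrivial (CohIII.fiberH f M s 0)) ∧
        (∀ s : S, Epi (CohBC.bc0 f (S.fromSpecResidueField s) (f.fiberToSpecResidueField s) (f.fiberι s) (f.fiber_fac s) L)) ∧ (∀ s : S, Epi (CohBC.bc0 f (S.fromSpecResidueField s) (f.fiberToSpecResidueField s) (f.fiberι s) (f.fiber_fac s) M))) →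
      (∀ s : S, CohIII.fiberRank f L 0 s = 1 ∧ CohIII.fiberRank f M 0 s = 1) ∧
      IsIso ((pullbackPushforwardAdjunction f).counit.app L) ∧
      ∀ L₀ : S.Modules, PicF.IsInvertible L₀ → Nonempty (L ≅ (pullback f).obj L₀) →
        Nonempty (L₀ ≅ (pushforward f).obj L)) := by
  have : GeometricallyConnected f :=
    Groth.Agent.Lib.SeesawEpi21.geometricallyConnected_of_geometricallyIrreducible f
  obtain ⟨e₁⟩ := hM
  obtain ⟨L', hL', ⟨e₀⟩⟩ := Groth.Agent.Lib.H78Dual.exists_tensor_inverse hL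
  have hMinv : PicF.IsInvertible M :=
    Groth.Agent.Lib.H90Invertible.isInvertible_of_iso (inverseIso e₁ e₀).symm hL'
  have e₂ : CohB1.tensorMod M L ≅ Coh.structureModule X :=
    Groth.Agent.Lib.OXModTensor.braiding M L ≪≫ e₁
  have hrank : ∀ (N : X.Modules) (y : S),
      Nonempty (CohIII.fiberMod f N y ≅ Coh.structureModule (f.fiber y)) →
      CohIII.fiberRank f N 0 y = 1 := by
    rintro N y ⟨ey⟩
    rw [Groth.Agent.Lib.InvRank21.fiberRank_eq_finrank f y N ey]
    exact Groth.Agent.Lib.SeesawEpi21.finrank_fiber_eq_one f y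
  have hO : ∀ y : S, ∃ U : S.Opens, y ∈ U ∧ ∀ W : S.Opens, W ≤ U → Function.Bijective (f.app W) :=
    fun y => Groth.Agent.Lib.SteinLocal21.exists_nhd_bijective_app f y
  -- consequences of (b)
  have hb : ((∀ s : S, Nontrivial (CohIII.fiberH f L s 0)) ∧ (∀ s : S, Nontrivial (CohIII.fiberH f M s 0)) ∧
        (∀ s : S, Epi (CohBC.bc0 f (S.fromSpecResidueField s) (f.fiberToSpecResidueField s) (f.fiberι s) (f.fiber_fac s) L)) ∧ (∀ s : S, Epi (CohBC.bc0 f (S.fromSpecResidueField s) (f.fiberToSpecResidueField s) (f.fiberι s) (f.fiber_fac s) M))) →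
      (∀ s : S, CohIII.fiberRank f L 0 s = 1 ∧ CohIII.fiberRank f M 0 s = 1) ∧
      PicF.IsInvertible ((pushforward f).obj L) ∧
      IsIso ((pullbackPushforwardAdjunction f).counit.app L) := by
    rintro ⟨hL0, hM0, hLe, hMe⟩
    have kL := key_of_b f hL hMinv e₂ hL0 hM0 hLe
    have kM := key_of_b f hMinv hL e₁ hM0 hL0 hMe
    refine ⟨fun s => ⟨hrank L s (kL s).1, hrank M s (kM s).1⟩, ?_, ?_⟩
    · exact Groth.Agent.Lib.InvPush21.isInvertible_pushforward f L (fun y => (kL y).2)
    · exact Groth.Agent.Lib.InvPush21.isIso_counit f L (fun y => (kL y).2)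
  refine ⟨⟨?_, fun h => ?_⟩, fun h => ⟨(hb h).1, (hb h).2.2, ?_⟩⟩
  · -- (a) ⇒ (b)
    rintro ⟨L₀, hL₀, ⟨e⟩⟩
    obtain ⟨L₀', hL₀', ⟨d₀⟩⟩ := Groth.Agent.Lib.H78Dual.exists_tensor_inverse hL₀
    obtain ⟨b⟩ := Groth.Agent.Lib.PullInverse.nonempty_pullback_inverse f hL₀' hL₀ d₀
    have e₃ : CohB1.tensorMod ((pullback f).obj L₀') L ≅ Coh.structureModule X :=
      Groth.Agent.Lib.OXModTensor.tensorModIso (Iso.refl _) e ≪≫ b
    have eM : M ≅ (pullback f).obj L₀' := inverseIso e₁ e₃
    have hnt : ∀ (N : X.Modules) (hN : PicF.IsInvertible N) (N₀ : S.Modules) (hN₀ : PicF.IsInvertible N₀)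
        (eN : N ≅ (pullback f).obj N₀) (s : S), Nontrivial (CohIII.fiberH f N s 0) := by
      intro N hN N₀ hN₀ eN s
      obtain ⟨es⟩ := Groth.Agent.Lib.InvField21.nonempty_fiberMod_iso_of_pullback f hN₀ eN.symm s
      have hpos := Groth.Agent.Lib.InvIntegral21.fiberRank_pos f N hN s es
      exact Module.nontrivial_of_finrank_pos (R := S.residueField s) hpos
    exact ⟨hnt L hL L₀ hL₀ e, hnt M hMinv L₀' hL₀' eM,
      fun s => Groth.Agent.Lib.SeesawEpi21.epi_bc0_of_iso_pullback f L hL₀ e s,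
      fun s => Groth.Agent.Lib.SeesawEpi21.epi_bc0_of_iso_pullback f M hL₀' eM s⟩
  · -- (b) ⇒ (a)
    have := (hb h).2.2
    exact ⟨(pushforward f).obj L, (hb h).2.1,
      ⟨(asIso ((pullbackPushforwardAdjunction f).counit.app L)).symm⟩⟩
  · -- uniqueness of `L₀`
    rintro L₀ hL₀ ⟨e⟩
    have hP : FlatMod.IsFinLocFree L₀ :=
      Groth.Agent.Lib.CurveVB67.isFinLocFree_of_rank
        ((Groth.Agent.Lib.H90Invertible.isInvertible_iff_isFinLocFreeOfRank_one _).mp hL₀)
    have := Groth.Agent.Lib.SteinLocal21.isIso_unit_of_isFinLocFree_local f hO hP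
    exact ⟨asIso ((pullbackPushforwardAdjunction f).unit.app L₀) ≪≫ (pushforward f).mapIso e.symm⟩

end Groth.Agent.S16951
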