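import Groth.Statements.S16954
import Groth.Agent.Lib.RestrictExact
import Groth.Agent.Lib.CohLES
import Groth.Agent.Lib.ModStalk
import Groth.Agent.S0485
import Groth.Prelude.Def_CohCmp
import Mathlib.Topology.Sheaves.LocallySurjective

set_option autoImplicit false
universe u
open CohCmp

namespace Groth.Agent.S16954

open AlgebraicGeometry CategoryTheory CategoryTheory.Limits Scheme.Modules TopologicalSpace Opposite

theorem preservesFiniteLimits_pushforward {X Y : Scheme.{u}} (f : X ⟶ Y) :
    PreservesFiniteLimits (Scheme.Modules.pushforward f) := by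
  have h : PreservesLimitsOfSize.{0, 0} (Scheme.Modules.pushforward f) :=
    (Scheme.Modules.pullbackPushforwardAdjunction f).rightAdjoint_preservesLimits
  exact h.preservesFiniteLimits

/-- An epimorphism of `O_Y`-modules is locally surjective on sections. -/
theorem exists_local_lift {Y : Scheme.{u}} {M N : Y.Modules} (φ : M ⟶ N) [hφ : Epi φ]
    (V : Y.Opens) (t : N.presheaf.obj (op V)) (y : Y) (hy : y ∈ V) :
    ∃ (W : Y.Opens) (hWV : W ≤ V), y ∈ W ∧ ∃ s : M.presheaf.obj (op W),
      φ.app W s = N.presheaf.map (homOfLE hWV).op t := by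
  have hφ' : @Epi (SheafOfModules.{u} Y.ringCatSheaf) _ M N φ := hφ
  have h1 : Epi ((SheafOfModules.toSheaf Y.ringCatSheaf).map φ) :=
    Groth.Agent.Lib.ModStalk.epi_toSheaf_map Y.ringCatSheaf φ
  have h2 : TopCat.Presheaf.IsLocallySurjective ((SheafOfModules.toSheaf Y.ringCatSheaf).map φ).hom :=
    (TopCat.Sheaf.isLocallySurjective_iff_epi (X := Y.toTopCat) (C := AddCommGrpCat.{u})
      (F := (SheafOfModules.toSheaf Y.ringCatSheaf).obj M)
      (G := (SheafOfModules.toSheaf Y.ringCatSheaf).obj N) _).mpr h1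
  rw [TopCat.Presheaf.isLocallySurjective_iff] at h2
  obtain ⟨W, ι, ⟨s, hs⟩, hyW⟩ := h2 V t y hy
  exact ⟨W, ι, hyW, s, hs⟩


theorem shortExact_toAbOn {X : Scheme.{u}} (U : X.Opens) {S : ShortComplex X.Modules}
    (hS : S.ShortExact) : (S.map (CohCmp.toAbOn X U)).ShortExact :=
  (hS.map_of_exact (Scheme.Modules.restrictFunctor U.ι)).map_of_exact
    (Groth.Agent.Lib.CohLES.toAbF (U : Scheme.{u}))

theorem main {X Y : Scheme.{u}} (f : X ⟶ Y) [HasInjectiveResolutions X.Modules]
    {Δ : RDer.DerivedLES (pushforward f)} (E : CohCmp.SectCmp f Δ) (p : ℕ) :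
    ∀ (F : X.Modules) (V : Y.Opens) (t : ((Coh.Rpush f p).obj F).presheaf.obj (op V)) (y : Y)
      (_ : y ∈ V), ∃ (W : Y.Opens) (hWV : W ≤ V), y ∈ W ∧
      ∃ x : Coh.HHon X F (f ⁻¹ᵁ W) p,
        E.ε W F p x = ((Coh.Rpush f p).obj F).presheaf.map (homOfLE hWV).op t := by
  have hpl := preservesFiniteLimits_pushforward f
  induction p with
  | zero =>
    intro F V t y hy
    refine ⟨V, le_rfl, hy, ?_⟩
    have hiso : IsIso ((pushforward f).toRightDerivedZero.app F) := inferInstance
    let s : F.presheaf.obj (op (f ⁻¹ᵁ V)) := (inv ((pushforward f).toRightDerivedZero.app F)).app V t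
    refine ⟨CohPull.sectH0 F (f ⁻¹ᵁ V) s, ?_⟩
    rw [E.zero]
    have h1 : inv ((pushforward f).toRightDerivedZero.app F) ≫
        (pushforward f).toRightDerivedZero.app F = 𝟙 _ := IsIso.inv_hom_id _
    have h2 := congrArg (fun ψ => Scheme.Modules.Hom.app ψ V) h1
    simp only [Scheme.Modules.Hom.comp_app, Scheme.Modules.Hom.id_app] at h2
    have h3 := ConcreteCategory.congr_hom h2 t
    refine h3.trans ?_
    have : (homOfLE (le_refl V)).op = 𝟙 (op V) := rfl
    rw [this, CategoryTheory.Functor.map_id]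
  | succ p ih =>
    intro F V t y hy
    have hEI : EnoughInjectives X.Modules :=
      Groth.Agent.S0485.result (Opens.grothendieckTopology X) X.ringCatSheaf
    let I : InjectivePresentation F := Classical.arbitrary _
    let S : ShortComplex X.Modules := ShortComplex.mk _ _ (cokernel.condition I.f)
    have hIinj : Injective S.X₂ := I.injective
    have hS : S.ShortExact := { exact := ShortComplex.exact_cokernel I.f }
    have hex := Δ.exact₁ S hS p (p + 1) rfl
    have hepi : Epi (Δ.δ S hS p (p + 1) rfl) :=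
      hex.epi_f ((Functor.isZero_rightDerived_obj_injective_succ (pushforward f) p S.X₂).eq_of_tgt _ _)
    obtain ⟨W, hWV, hyW, t', ht'⟩ := exists_local_lift (Δ.δ S hS p (p + 1) rfl) V t y hy
    obtain ⟨W', hW'W, hyW', x', hx'⟩ := ih S.X₃ W t' y hyW
    refine ⟨W', hW'W.trans hWV, hyW', CohCmp.extδ (shortExact_toAbOn (f ⁻¹ᵁ W') hS) p x', ?_⟩
    rw [E.delta W' S hS (shortExact_toAbOn (f ⁻¹ᵁ W') hS) p x', hx']
    have hnat := (Δ.δ S hS p (p + 1) rfl).mapPresheaf.naturality (homOfLE hW'W).op
    have h4 := ConcreteCategory.congr_hom hnat t'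
    simp only [Scheme.Modules.mapPresheaf_app] at h4
    rw [ConcreteCategory.comp_apply, ConcreteCategory.comp_apply] at h4
    rw [h4, ht', ← ConcreteCategory.comp_apply, ← Functor.map_comp]
    rfl

open AlgebraicGeometry CategoryTheory Scheme.Modules Opposite in
/-- The comparison map is locally surjective. Let f : X → Y be a morphism of schemes, F an O_X-module
and p a natural number; R^p f_* F is the p-th right derived functor of direct image on O-modules and
ε_V : H^p(f⁻¹V, F|_{f⁻¹V}) → Γ(V, R^p f_* F) the pinned comparison maps (the structure SectCmp,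
taken as a hypothesis). Then for every open V of Y, every section t of R^p f_* F over V and every
point y of V there are an open neighbourhood W ⊆ V of y and a class x ∈ H^p(f⁻¹W, F|_{f⁻¹W}) with
ε_W(x) equal to the restriction of t to W. -/
theorem result
    {X Y : Scheme.{u}} (f : X ⟶ Y) [HasInjectiveResolutions X.Modules]
    {Δ : RDer.DerivedLES (pushforward f)} (E : CohCmp.SectCmp f Δ) (F : X.Modules) (p : ℕ)
    (V : Y.Opens) (t : ((Coh.Rpush f p).obj F).presheaf.obj (op V)) (y : Y) (hy : y ∈ V) :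
    ∃ (W : Y.Opens) (hWV : W ≤ V), y ∈ W ∧
      ∃ x : Coh.HHon X F (f ⁻¹ᵁ W) p,
        E.ε W F p x = ((Coh.Rpush f p).obj F).presheaf.map (homOfLE hWV).op t := by
  exact Groth.Agent.S16954.main f E p F V t y hy

end Groth.Agent.S16954
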