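import Groth.Statements.S1696
import Groth.Agent.Lib.StrictTransform82
import Groth.Agent.Lib.H72PullbackStalk
import Groth.Agent.Lib.H72PullbackQCoh
import Groth.Agent.Lib.IdealSheafGeneric
import Groth.Agent.Lib.QCohStalk
import Mathlib.RingTheory.Flat.Stability
import Mathlib.RingTheory.Flat.TorsionFree

set_option autoImplicit false
universe u
open CategoryTheory CategoryTheory.Limits AlgebraicGeometry TopologicalSpace
open SDiv

namespace Groth.Agent.S1696

open Groth.Agent.Lib.QCohStalk Groth.Agent.Lib.StrictTransform82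

/-- A section of a module whose germ at `y` is killed by a power of a germ which is regular on the
stalk has zero germ. -/
theorem germ_eq_zero_of_flat {S' : Scheme.{u}} (P : S'.Modules) (U' : S'.Opens)
    (hU' : IsAffineOpen U') (t : Γ(S', U')) (ht0 : t ∈ nonZeroDivisors Γ(S', U'))
    (y : S') (hyU' : y ∈ U') (hfl : Module.Flat (S'.presheaf.stalk y) (P.presheaf.stalk y))
    (ξ : P.presheaf.stalk y) (n : ℕ)
    (h : S'.presheaf.germ U' y hyU' t ^ n • ξ = 0) : ξ = 0 := by
  obtain ⟨y', rfl⟩ : ∃ y' : U', (y' : S') = y := ⟨⟨y, hyU'⟩, rfl⟩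
  haveI := hU'.isLocalization_stalk y'
  have h1 : S'.presheaf.germ U' (y' : S') hyU' t ∈ nonZeroDivisors (S'.presheaf.stalk (y' : S')) :=
    IsLocalization.map_nonZeroDivisors_le (hU'.primeIdealOf y').asIdeal.primeCompl
      (S'.presheaf.stalk (y' : S')) (Submonoid.mem_map_of_mem _ ht0)
  have h2 : S'.presheaf.germ U' (y' : S') hyU' t ^ n ∈
      nonZeroDivisors (S'.presheaf.stalk (y' : S')) := pow_mem h1 n
  have h3 := Module.Flat.isSMulRegular_of_nonZeroDivisors
    (M := P.presheaf.stalk (y' : S')) h2
  exact h3 (h.trans (smul_zero _).symm)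

set_option maxHeartbeats 1000000 in


/-- Let b : S' → S be the blowing-up of a scheme S in a quasi-coherent sheaf of ideals 𝓘 and F a
quasi-coherent O_S-module which is flat at every point of V(𝓘), the support of O_S/𝓘. Then the
pullback b^*F is its own strict transform (via the identity map): no nonzero local section of b^*F
is annihilated by a power of the exceptional ideal. -/
theorem result {S S' : Scheme.{u}} (𝓘 : S.IdealSheafData) (b : S' ⟶ S) (hb : BlowUp.IsBlowUp b 𝓘)
    (F : S.Modules) (hF : Coh.IsQCoh F) (hflat : ∀ s : ↥S, s ∈ 𝓘.support → FlatMod.IsFlatAt F s) :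
    BlowUp.IsStrictTransform b 𝓘 F ((Scheme.Modules.pullback b).obj F) (𝟙 _) := by
  haveI : F.IsQuasicoherent := hF
  refine ⟨inferInstance, fun V m => ?_⟩
  have h1 : Scheme.Modules.Hom.app (𝟙 ((Scheme.Modules.pullback b).obj F)) V.1 m = m := rfl
  rw [h1]
  constructor
  · rintro rfl
    exact ⟨0, fun a _ => smul_zero a⟩
  · rintro ⟨n, hn⟩
    apply TopCat.Presheaf.section_ext
      ⟨((Scheme.Modules.pullback b).obj F).presheaf, ((Scheme.Modules.pullback b).obj F).isSheaf⟩ V.1
    intro y hyV
    rw [map_zero]
    obtain ⟨U', hyU', t, ht0, ht⟩ := hb.1 y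
    have hU' : IsAffineOpen U'.1 := U'.2
    obtain ⟨_, ⟨W, hW, rfl⟩, hyW, hWVU⟩ := S'.isBasis_affineOpens.exists_subset_of_mem_open
      (show y ∈ (V.1 ⊓ U'.1 : S'.Opens) from ⟨hyV, hyU'⟩) (V.1 ⊓ U'.1).isOpen
    replace hW : IsAffineOpen W := hW
    have hWV : W ≤ V.1 := fun v hv => (hWVU hv).1
    have hWU' : W ≤ U'.1 := fun v hv => (hWVU hv).2
    let W' : S'.affineOpens := ⟨W, hW⟩
    have hEV : (((𝓘.comap b) ^ n).ideal V).map (S'.presheaf.map (homOfLE hWV).op).hom =
        ((𝓘.comap b) ^ n).ideal W' := ((𝓘.comap b) ^ n).map_ideal (U := W') (V := V) hWV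
    have hEU : (((𝓘.comap b) ^ n).ideal U').map (S'.presheaf.map (homOfLE hWU').op).hom =
        ((𝓘.comap b) ^ n).ideal W' := ((𝓘.comap b) ^ n).map_ideal (U := W') (V := U') hWU'
    have htn : t ^ n ∈ ((𝓘.comap b) ^ n).ideal U' := by
      rw [Scheme.IdealSheafData.ideal_pow, Pi.pow_apply, ht, Ideal.span_singleton_pow]
      exact Ideal.mem_span_singleton_self _
    have htW : resO S' hWU' (t ^ n) ∈ ((𝓘.comap b) ^ n).ideal W' := by
      rw [← hEU]
      exact Ideal.mem_map_of_mem _ htn
    have hann : ∀ a ∈ ((𝓘.comap b) ^ n).ideal W',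
        a • res ((Scheme.Modules.pullback b).obj F) hWV m = 0 := by
      intro a ha
      rw [← hEV] at ha
      refine Submodule.span_induction (p := fun a _ =>
        a • res ((Scheme.Modules.pullback b).obj F) hWV m = 0) ?_ ?_ ?_ ?_ ha
      · rintro _ ⟨a', ha', rfl⟩
        have := res_smul ((Scheme.Modules.pullback b).obj F) hWV a' m
        rw [hn a' ha', res_zero] at this
        exact this.symm
      · exact zero_smul _ _
      · intro a₁ a₂ _ _ h₁ h₂
        rw [add_smul, h₁, h₂, add_zero]
      · intro c a₁ _ h₁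
        rw [smul_eq_mul, mul_smul, h₁, smul_zero]
    have hkey := hann _ htW
    have hgerm := congrArg (((Scheme.Modules.pullback b).obj F).presheaf.germ W y hyW) hkey
    rw [germ_smul, map_zero, germ_res, germO_res, map_pow] at hgerm
    -- case distinction on whether `y` lies on the exceptional divisor
    by_cases hy : y ∈ (𝓘.comap b).support
    · -- flat case
      have hby : b y ∈ 𝓘.support := by
        rw [Scheme.IdealSheafData.support_comap] at hy
        exact hy
      have hfl : Module.Flat (S.presheaf.stalk (b y)) (F.presheaf.stalk (b y)) := hflat (b y) hby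
      have hfl' : Module.Flat (S'.presheaf.stalk y)
          (((Scheme.Modules.pullback b).obj F).presheaf.stalk y) := by
        letI : Algebra (S.presheaf.stalk (b y)) (S'.presheaf.stalk y) :=
          (b.stalkMap y).hom.toAlgebra
        letI : Module (S.presheaf.stalk (b y))
            (((Scheme.Modules.pullback b).obj F).presheaf.stalk y) :=
          Module.compHom _ (b.stalkMap y).hom
        haveI : IsScalarTower (S.presheaf.stalk (b y)) (S'.presheaf.stalk y)
            (((Scheme.Modules.pullback b).obj F).presheaf.stalk y) :=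
          .of_algebraMap_smul fun _ _ => rfl
        obtain ⟨τ, hτ⟩ := Groth.Agent.Lib.H72PullbackStalk.exists_isBaseChange_stalk_pullback b F y
        exact Module.Flat.isBaseChange (S.presheaf.stalk (b y)) (S'.presheaf.stalk y)
          (F.presheaf.stalk (b y)) _ hτ
      exact germ_eq_zero_of_flat _ U'.1 hU' t ht0 y hyU' hfl' _ n hgerm
    · -- unit case
      have hunit : IsUnit (S'.presheaf.germ U'.1 y hyU' t) := by
        rw [← S'.mem_basicOpen t y hyU',
          mem_basicOpen_iff_notMem_primeIdealOf hU' ⟨y, hyU'⟩ t]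
        intro htp
        apply hy
        rw [Groth.Agent.Lib.IdealSheafGeneric.mem_support_iff_le_primeIdealOf _ U' hU' y hyU', ht,
          Ideal.span_le, Set.singleton_subset_iff]
        exact htp
      obtain ⟨w, hw⟩ := hunit.pow n
      rw [← hw] at hgerm
      have : ((Scheme.Modules.pullback b).obj F).presheaf.germ V.1 y hyV m =
          (↑(w⁻¹) : S'.presheaf.stalk y) • ((w : S'.presheaf.stalk y) •
            ((Scheme.Modules.pullback b).obj F).presheaf.germ V.1 y hyV m) := by
        rw [smul_smul, Units.inv_mul, one_smul]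
      rw [this, hgerm, smul_zero]

end Groth.Agent.S1696
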