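import Groth.Statements.S16962
import Mathlib

set_option autoImplicit false
universe u
open ConstAct

namespace Groth.Agent.S16962
set_option backward.isDefEq.respectTransparency.types false
set_option linter.style.haveILetI false
open ConstAct TensorProduct

section
variable (R : Type u) [CommRing R] (B : Type u) [CommRing B] [Algebra R B]
  (Γ : Type u) [Group Γ] [Fintype Γ] [DecidableEq Γ]

/-- evaluation at `g` in the second factor, as an algebra map. -/
noncomputable def evA (g : Γ) : B ⊗[R] ConstGrp.F R Γ →ₐ[R] B :=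
  Algebra.TensorProduct.lift (AlgHom.id R B) ((Algebra.ofId R B).comp (ConstGrp.ev R g))
    (fun _ _ => Commute.all _ _)

variable {R B Γ}

theorem evA_tmul (g : Γ) (b : B) (f : ConstGrp.F R Γ) :
    evA R B Γ g (b ⊗ₜ[R] f) = f g • b := by
  simp [evA, Algebra.smul_def, mul_comm]

theorem evA_tmul_e (g k : Γ) (b : B) :
    evA R B Γ g (b ⊗ₜ[R] ConstGrp.e R k) = if g = k then b else 0 := by
  rw [evA_tmul, ConstGrp.e_apply]
  split_ifs <;> simp

theorem expand (t : B ⊗[R] ConstGrp.F R Γ) :
    t = ∑ g : Γ, (evA R B Γ g t) ⊗ₜ[R] ConstGrp.e R g := by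
  induction t using TensorProduct.induction_on with
  | zero => simp
  | tmul b f =>
    simp only [evA_tmul]
    conv_lhs => rw [ConstGrp.eq_sum_smul_e f]
    rw [TensorProduct.tmul_sum]
    refine Finset.sum_congr rfl fun g _ => ?_
    rw [TensorProduct.smul_tmul]
  | add x y hx hy =>
    simp only [map_add, TensorProduct.add_tmul, Finset.sum_add_distrib]
    rw [← hx, ← hy]

/-- evaluate at `(g, h)` in the last two factors. -/
noncomputable def ev2 (g h : Γ) : B ⊗[R] (ConstGrp.F R Γ ⊗[R] ConstGrp.F R Γ) →ₗ[R] B :=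
  (TensorProduct.rid R B).toLinearMap ∘ₗ
    LinearMap.lTensor B ((LinearMap.mul' R R) ∘ₗ
      TensorProduct.map (ConstGrp.ev R g).toLinearMap (ConstGrp.ev R h).toLinearMap)

theorem ev2_tmul (g h : Γ) (b : B) (f f' : ConstGrp.F R Γ) :
    ev2 (B := B) g h (b ⊗ₜ[R] (f ⊗ₜ[R] f')) = (f g * f' h) • b := by
  simp [ev2]

end

section
variable {R : Type u} [CommRing R] {B : Type u} [CommRing B] [Algebra R B]
  {Γ : Type u} [Group Γ] [Fintype Γ] [DecidableEq Γ]
  [HopfRep.Comod R (ConstGrp.F R Γ) B] [GLin.IsCoactAlg R (ConstGrp.F R Γ) B]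

variable (R B Γ) in
noncomputable def ρ : B →ₗ[R] B ⊗[R] ConstGrp.F R Γ :=
  HopfRep.Comod.coact (k := R) (A := ConstGrp.F R Γ) (V := B)

variable (R) in
noncomputable def act (g : Γ) : B →ₐ[R] B :=
  (evA R B Γ g).comp (GLin.coactAlgHom R (ConstGrp.F R Γ) B)

theorem act_apply (g : Γ) (b : B) : act R g b = evA R B Γ g (ρ R B Γ b) := rfl

theorem coact_eq (b : B) : ρ R B Γ b = ∑ g : Γ, (act R g b) ⊗ₜ[R] ConstGrp.e R g :=
  expand _

theorem act_one (b : B) : act R (1 : Γ) b = b := by
  have h := LinearMap.congr_fun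
    (HopfRep.Comod.counit_comp (k := R) (A := ConstGrp.F R Γ) (V := B)) b
  simp only [LinearMap.comp_apply, LinearMap.flip_apply, TensorProduct.mk_apply] at h
  change (LinearMap.lTensor B (CoalgebraStruct.counit (R := R) (A := ConstGrp.F R Γ))) (ρ R B Γ b)
    = b ⊗ₜ[R] 1 at h
  rw [coact_eq b, map_sum] at h
  simp only [LinearMap.lTensor_tmul] at h
  have h2 : ∀ g : Γ, (CoalgebraStruct.counit (R := R) (A := ConstGrp.F R Γ)) (ConstGrp.e R g)
      = if (1 : Γ) = g then 1 else 0 := fun g => ConstGrp.counit_e R Γ g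
  simp only [h2, TensorProduct.tmul_ite, TensorProduct.tmul_zero, Finset.sum_ite_eq,
    Finset.mem_univ, if_true] at h
  have := congrArg (TensorProduct.rid R B) h
  simpa using this

theorem act_mul (g h : Γ) (b : B) : act R (g * h) b = act R g (act R h b) := by
  have hc := LinearMap.congr_fun
    (HopfRep.Comod.coassoc (k := R) (A := ConstGrp.F R Γ) (V := B)) b
  simp only [LinearMap.comp_apply] at hc
  change (TensorProduct.assoc R B (ConstGrp.F R Γ) (ConstGrp.F R Γ))
      ((LinearMap.rTensor (ConstGrp.F R Γ) (ρ R B Γ)) (ρ R B Γ b)) =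
    (LinearMap.lTensor B (CoalgebraStruct.comul (R := R) (A := ConstGrp.F R Γ))) (ρ R B Γ b) at hc
  have hl : (TensorProduct.assoc R B (ConstGrp.F R Γ) (ConstGrp.F R Γ))
      ((LinearMap.rTensor (ConstGrp.F R Γ) (ρ R B Γ)) (ρ R B Γ b)) =
      ∑ k : Γ, ∑ j : Γ, (act R j (act R k b)) ⊗ₜ[R] (ConstGrp.e R j ⊗ₜ[R] ConstGrp.e R k) := by
    rw [coact_eq b, map_sum, map_sum]
    refine Finset.sum_congr rfl fun k _ => ?_
    rw [LinearMap.rTensor_tmul, coact_eq (act R k b), TensorProduct.sum_tmul, map_sum]
    rfl
  have hr : (LinearMap.lTensor B (CoalgebraStruct.comul (R := R) (A := ConstGrp.F R Γ)))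
      (ρ R B Γ b) =
      ∑ m : Γ, ∑ a : Γ, (act R m b) ⊗ₜ[R] (ConstGrp.e R a ⊗ₜ[R] ConstGrp.e R (a⁻¹ * m)) := by
    rw [coact_eq b, map_sum]
    refine Finset.sum_congr rfl fun m _ => ?_
    rw [LinearMap.lTensor_tmul]
    have : (CoalgebraStruct.comul (R := R) (A := ConstGrp.F R Γ)) (ConstGrp.e R m) =
        ∑ a : Γ, ConstGrp.e R a ⊗ₜ[R] ConstGrp.e R (a⁻¹ * m) := ConstGrp.comul_e R Γ m
    rw [this, TensorProduct.tmul_sum]
  rw [hl, hr] at hc
  have := congrArg (ev2 (B := B) g h) hc
  simp only [map_sum, ev2_tmul, ConstGrp.e_apply] at this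
  -- LHS: Σ_k Σ_j (if g = j ..) * (if h = k ..) • act j (act k b)
  have e1 : ∑ k : Γ, ∑ j : Γ, ((if g = j then (1 : R) else 0) * (if h = k then 1 else 0)) •
      act R j (act R k b) = act R g (act R h b) := by
    rw [Finset.sum_eq_single h, Finset.sum_eq_single g]
    · simp
    · intro j _ hj; simp [Ne.symm hj]
    · intro hh; exact absurd (Finset.mem_univ _) hh
    · intro k _ hk
      refine Finset.sum_eq_zero fun j _ => ?_
      simp [Ne.symm hk]
    · intro hh; exact absurd (Finset.mem_univ _) hh
  have e2 : ∑ m : Γ, ∑ a : Γ, ((if g = a then (1 : R) else 0) *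
      (if h = a⁻¹ * m then 1 else 0)) • act R m b = act R (g * h) b := by
    rw [Finset.sum_eq_single (g * h), Finset.sum_eq_single g]
    · simp
    · intro j _ hj; simp [Ne.symm hj]
    · intro hh; exact absurd (Finset.mem_univ _) hh
    · intro m _ hm
      refine Finset.sum_eq_zero fun a _ => ?_
      by_cases hga : g = a
      · subst hga
        have : h ≠ g⁻¹ * m := by
          intro hh; apply hm; rw [hh]; group
        simp [this]
      · simp [hga]
    · intro hh; exact absurd (Finset.mem_univ _) hh
  rw [e1, e2] at this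
  exact this.symm

variable (R B Γ) in
@[reducible] noncomputable def msa : MulSemiringAction Γ B where
  smul g b := act R g b
  one_smul b := act_one (R := R) b
  mul_smul g h b := act_mul (R := R) g h b
  smul_zero g := map_zero (act R g)
  smul_add g := map_add (act R g)
  smul_one g := map_one (act R g)
  smul_mul g := map_mul (act R g)

end

theorem msa_ext {Γ B : Type*} [Monoid Γ] [Semiring B] (a₁ a₂ : MulSemiringAction Γ B)
    (h : ∀ (g : Γ) (b : B), a₁.smul g b = a₂.smul g b) : a₁ = a₂ := by
  have : a₁.toDistribMulAction = a₂.toDistribMulAction := by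
    apply DistribMulAction.ext
    funext g b
    exact h g b
  cases a₁; cases a₂
  congr


theorem evA_coactLin {R : Type u} [CommRing R] {B : Type u} [CommRing B] [Algebra R B]
    {Γ : Type u} [Group Γ] [Fintype Γ] [DecidableEq Γ] [MulSemiringAction Γ B]
    [SMulCommClass Γ R B] (g : Γ) (b : B) :
    evA R B Γ g (ConstAct.coactLin R B Γ b) = g • b := by
  rw [ConstAct.coactLin_apply, map_sum]
  simp only [evA_tmul_e]
  simp


open TensorProduct in
/-- Let R be a commutative ring, Γ a finite group and B a commutative R-algebra equipped with a comodule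
structure over the Hopf algebra of R-valued functions on Γ (the coordinate ring of the constant
group scheme of Γ over Spec R, with basis the indicator functions e_γ) whose coaction B → B ⊗ Fun(Γ,
R) is a homomorphism of algebras, i.e. an action of the constant group scheme on Spec B. Then there
is exactly one action of Γ on B by R-algebra automorphisms whose associated coaction b ↦ Σ_γ (γ · b)
⊗ e_γ is the given coaction; and for that action the ring of invariants of the comodule algebra (the
b whose coaction is b ⊗ 1) equals the ring of elements fixed by Γ. (That the coaction associated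
with an action is a comodule algebra structure is the other direction of the published equivalence
and is a construction here.) -/
theorem result (R : Type u) [CommRing R]
    (B : Type u) [CommRing B] [Algebra R B] (Γ : Type u) [Group Γ] [Fintype Γ] [DecidableEq Γ]
    [HopfRep.Comod R (ConstGrp.F R Γ) B] [GLin.IsCoactAlg R (ConstGrp.F R Γ) B] :
    ∃! a : MulSemiringAction Γ B, ∃ _ : SMulCommClass Γ R B,
      ConstAct.coactLin R B Γ = HopfRep.Comod.coact (k := R) (A := ConstGrp.F R Γ) (V := B) ∧
        GLin.invariants R (ConstGrp.F R Γ) B = ConstAct.inv R B Γ := by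
  refine ⟨msa R B Γ, ?_, ?_⟩
  · have hc : @SMulCommClass Γ R B (msa R B Γ).toSMul _ :=
      @SMulCommClass.mk Γ R B (msa R B Γ).toSMul _ (fun g r b => map_smul (act R g) r b)
    have hco : @ConstAct.coactLin R _ B _ _ Γ _ _ _ (msa R B Γ) hc =
        HopfRep.Comod.coact (k := R) (A := ConstGrp.F R Γ) (V := B) := by
      apply LinearMap.ext
      intro b
      letI := msa R B Γ
      rw [ConstAct.coactLin_apply]
      exact (coact_eq (R := R) (Γ := Γ) b).symm
    refine ⟨hc, hco, ?_⟩
    letI := msa R B Γ
    apply SetLike.ext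
    intro b
    rw [GLin.mem_invariants_iff, ConstAct.mem_inv]
    constructor
    · intro hb g
      have := congrArg (evA R B Γ g) hb
      rw [evA_tmul] at this
      have h1 : (1 : ConstGrp.F R Γ) g • b = b := by simp
      rw [h1] at this
      exact this
    · intro hb
      change ρ R B Γ b = _
      rw [coact_eq b]
      have : ∀ g : Γ, act R g b = b := hb
      simp only [this]
      rw [← TensorProduct.tmul_sum, ConstGrp.sum_e]
  · rintro a' ⟨hc', hco', -⟩
    apply msa_ext
    intro g b
    have := @evA_coactLin R _ B _ _ Γ _ _ _ a' hc' g b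
    rw [hco'] at this
    exact this.symm

end Groth.Agent.S16962
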