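import Groth.Statements.S16963
import Mathlib
-- import your own Groth.Agent.* helpers here

set_option autoImplicit false
universe u
open scoped BigOperators
open ConstAct

namespace Groth.Agent.S16963

open TensorProduct in
/-- Let R be a commutative ring and Γ a finite group acting on a commutative R-algebra B by R-algebra
automorphisms; regard B as a comodule algebra over the Hopf algebra of R-valued functions on Γ (the
constant group scheme of Γ acting on Spec B) through the coaction b ↦ Σ_γ (γ · b) ⊗ e_γ. Then the
action is tame — there is a comodule map α from the Hopf algebra, with its regular coaction, to B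
with α(1) = 1 (a total integral) — if and only if the trace b ↦ Σ_γ γ · b, which takes values in the
ring of invariants B^Γ, maps B onto B^Γ. -/
theorem result (R : Type u) [CommRing R]
    (B : Type u) [CommRing B] [Algebra R B] (Γ : Type u) [Group Γ] [Fintype Γ] [DecidableEq Γ]
    [MulSemiringAction Γ B] [SMulCommClass Γ R B] :
    letI := ConstAct.comod R B Γ
    (∃ α : ConstGrp.F R Γ →ₗ[R] B, Hoch.IsComodHom (ConstGrp.F R Γ) α ∧ α 1 = 1) ↔
      ∀ c : B, c ∈ ConstAct.inv R B Γ → ∃ b : B, ∑ γ : Γ, γ • b = c := by
  classical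
  let _ := ConstAct.comod R B Γ
  have hcoact : ∀ b : B, HopfRep.Comod.coact (k := R) (A := ConstGrp.F R Γ) b =
      ∑ g : Γ, (g • b) ⊗ₜ[R] ConstGrp.e R g := fun b => ConstAct.coactLin_apply R B Γ b
  have hcomul : ∀ g : Γ, HopfRep.Comod.coact (k := R) (A := ConstGrp.F R Γ) (ConstGrp.e R g) =
      ∑ a : Γ, ConstGrp.e R a ⊗ₜ[R] ConstGrp.e R (a⁻¹ * g) := fun g => ConstGrp.comul_e R Γ g
  constructor
  · rintro ⟨α, hα, hα1⟩ c hc
    set b := α (ConstGrp.e R (1 : Γ)) with hb
    -- the comodule identity on `e_g`, evaluated at `γ`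
    have key : ∀ g γ : Γ, γ • α (ConstGrp.e R g) = α (ConstGrp.e R (g * γ⁻¹)) := by
      intro g γ
      have h1 := LinearMap.congr_fun hα (ConstGrp.e R g)
      simp only [LinearMap.comp_apply] at h1
      rw [hcoact, hcomul, map_sum] at h1
      simp only [LinearMap.rTensor_tmul] at h1
      have h2 := congrArg (fun t => TensorProduct.rid R B
        (LinearMap.lTensor B (ConstGrp.ev R γ).toLinearMap t)) h1
      simp only [map_sum, LinearMap.lTensor_tmul, AlgHom.toLinearMap_apply, ConstGrp.ev_apply,
        TensorProduct.rid_tmul, ConstGrp.e_apply] at h2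
      simp only [ite_smul, one_smul, zero_smul] at h2
      rw [Finset.sum_ite_eq, if_pos (Finset.mem_univ _)] at h2
      rw [h2, Finset.sum_eq_single (g * γ⁻¹)]
      · simp
      · intro a _ ha
        rw [if_neg]
        intro h
        apply ha
        rw [h]; group
      · intro h; exact absurd (Finset.mem_univ _) h
    have htr : ∑ γ : Γ, γ • b = 1 := by
      have : ∀ γ : Γ, γ • b = α (ConstGrp.e R γ⁻¹) := by
        intro γ
        rw [hb, key 1 γ, one_mul]
      simp only [this]
      rw [← map_sum, ← hα1]
      congr 1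
      rw [← ConstGrp.sum_e (R := R) (G := Γ)]
      exact Fintype.sum_equiv (Equiv.inv Γ) _ _ fun g => rfl
    refine ⟨c * b, ?_⟩
    have hc' : ∀ γ : Γ, γ • c = c := hc
    simp only [smul_mul', hc']
    rw [← Finset.mul_sum, htr, mul_one]
  · intro h
    obtain ⟨b, hb⟩ := h 1 (Subalgebra.one_mem _)
    let α : ConstGrp.F R Γ →ₗ[R] B := (ConstGrp.basis R Γ).constr R fun g => g⁻¹ • b
    have hαe : ∀ g : Γ, α (ConstGrp.e R g) = g⁻¹ • b := by
      intro g
      rw [← ConstGrp.basis_apply, Module.Basis.constr_basis]
    refine ⟨α, ?_, ?_⟩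
    · apply ConstGrp.linearMap_ext
      intro g
      simp only [LinearMap.comp_apply]
      rw [hcoact, hcomul, map_sum, hαe]
      simp only [LinearMap.rTensor_tmul, hαe]
      refine (Fintype.sum_equiv ((Equiv.inv Γ).trans (Equiv.mulRight g)) _ _ fun a => ?_).symm
      simp only [Equiv.trans_apply, Equiv.inv_apply, Equiv.coe_mulRight]
      rw [mul_smul, smul_inv_smul]
    · rw [← ConstGrp.sum_e (R := R) (G := Γ), map_sum]
      simp only [hαe]
      rw [← hb]
      exact Fintype.sum_equiv (Equiv.inv Γ) _ _ fun g => rfl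

end Groth.Agent.S16963
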