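import Groth.Statements.S16979
import Mathlib.LinearAlgebra.Matrix.Charpoly.Minpoly
import Mathlib.LinearAlgebra.Matrix.Charpoly.Coeff
import Mathlib.LinearAlgebra.Eigenspace.Charpoly
import Mathlib.LinearAlgebra.Eigenspace.Minpoly
import Mathlib.LinearAlgebra.Charpoly.ToMatrix
import Mathlib.FieldTheory.IsAlgClosed.AlgebraicClosure
import Mathlib.Tactic

set_option autoImplicit false
universe u v
open CAlg

namespace Groth.Agent.S16979

open Polynomial

/-- Over an algebraically closed field, a separable characteristic polynomial divides every
polynomial killing the matrix. -/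
theorem charpoly_dvd_of_aeval_eq_zero {L : Type*} [Field L] [IsAlgClosed L]
    {n : Type*} [Fintype n] [DecidableEq n] (M : Matrix n n L) (hsep : M.charpoly.Separable)
    (f : L[X]) (hf : aeval M f = 0) : M.charpoly ∣ f := by
  have h1 : minpoly L M ∣ f := minpoly.dvd L M hf
  refine dvd_trans ?_ h1
  have hne : M.charpoly ≠ 0 := (Matrix.charpoly_monic M).ne_zero
  refine (IsAlgClosed.splits M.charpoly).dvd_of_roots_le_roots hne ?_
  rw [Multiset.le_iff_subset (nodup_roots hsep)]
  intro μ hμ
  rw [mem_roots hne] at hμ
  have hmin : minpoly L M ≠ 0 := minpoly.ne_zero (Matrix.isIntegral M)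
  rw [mem_roots hmin, ← Matrix.minpoly_toLin', ← Module.End.hasEigenvalue_iff_isRoot,
    Module.End.hasEigenvalue_iff_isRoot_charpoly, Matrix.charpoly_toLin']
  exact hμ

/-- Let R be an integral domain with fraction field K and φ a square matrix over R whose characteristic
polynomial becomes separable in K[T] (equivalently, K[T] modulo the characteristic polynomial is
geometrically reduced over K). Then a polynomial f over R satisfies f(φ) = 0 exactly when the
characteristic polynomial of φ divides f in R[T]: the kernel of evaluation at φ (the minimal ideal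
of φ) is the principal ideal generated by the characteristic polynomial. -/
theorem result
    {R : Type u} [CommRing R] [IsDomain R] {n : Type v} [Fintype n] [DecidableEq n]
    (φ : Matrix n n R)
    (hsep : (φ.charpoly.map (algebraMap R (FractionRing R))).Separable) :
    RingHom.ker (Polynomial.aeval (R := R) φ) = Ideal.span {φ.charpoly} := by
  let K := FractionRing R
  let L := AlgebraicClosure K
  let ι : R →+* L := (algebraMap K L).comp (algebraMap R K)
  have hι : Function.Injective ι :=
    (algebraMap K L).injective.comp (IsFractionRing.injective R K)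
  have hmonic : φ.charpoly.Monic := Matrix.charpoly_monic φ
  have hsepL : (φ.map ι).charpoly.Separable := by
    rw [Matrix.charpoly_map, ← Polynomial.map_map]
    exact hsep.map
  ext f
  rw [RingHom.mem_ker, Ideal.mem_span_singleton]
  constructor
  · intro hf
    have hcomm : (algebraMap L (Matrix n n L)).comp ι =
        (ι.mapMatrix).comp (algebraMap R (Matrix n n R)) := by
      ext r i j
      simp [Matrix.algebraMap_matrix_apply, apply_ite ι]
    have hfL : aeval (φ.map ι) (f.map ι) = 0 := by
      have := map_aeval_eq_aeval_map hcomm f φ
      rw [hf, map_zero] at this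
      exact this.symm
    have hdvd := charpoly_dvd_of_aeval_eq_zero (φ.map ι) hsepL (f.map ι) hfL
    rw [Matrix.charpoly_map] at hdvd
    rw [← modByMonic_eq_zero_iff_dvd hmonic]
    apply Polynomial.map_injective ι hι
    rw [Polynomial.map_zero, map_modByMonic _ hmonic,
      modByMonic_eq_zero_iff_dvd (hmonic.map ι)]
    exact hdvd
  · rintro ⟨q, rfl⟩
    rw [map_mul, Matrix.aeval_self_charpoly, zero_mul]

end Groth.Agent.S16979
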