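import Groth.Statements.S16981
import Groth.Agent.Lib.AdicTwo
import Groth.Agent.Lib.AdicNoeth
import Mathlib.RingTheory.AdicCompletion.Topology
import Mathlib.RingTheory.Ideal.Quotient.Operations

set_option autoImplicit false
universe u v
open CAlg

namespace Groth.Agent.S16981

/-- Let A be a complete Noetherian local ring and f : E → A a surjective ring homomorphism whose kernel
has square zero and is finitely generated (equivalently, is a finite A-module for the induced module
structure). Then E is separated and complete for the adic topology of the inverse image of the
maximal ideal of A. (The published statement takes A to be the completion of a local ring of a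
scheme of finite type over an Artinian local ring and the kernel the completion of a finite module;
this row assumes only that A is complete Noetherian local and the kernel finitely generated.) -/
theorem result
    {A : Type u} {E : Type v} [CommRing A] [CommRing E] [IsNoetherianRing A] [IsLocalRing A]
    [IsAdicComplete (IsLocalRing.maximalIdeal A) A]
    (f : E →+* A) (hf : Function.Surjective f)
    (hsq : RingHom.ker f ^ 2 = ⊥) (hfg : (RingHom.ker f).FG) :
    IsAdicComplete ((IsLocalRing.maximalIdeal A).comap f) E := by
  let e : (E ⧸ RingHom.ker f) ≃+* A := RingHom.quotientKerEquivOfSurjective hf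
  haveI : IsNoetherianRing (E ⧸ RingHom.ker f) := isNoetherianRing_of_ringEquiv A e.symm
  haveI : IsAdicComplete (RingHom.ker f) E :=
    { haus' := fun x hx => by
        have := hx 2
        rwa [hsq, Submodule.bot_smul, SModEq.bot] at this
      prec' := fun g hg => by
        refine ⟨g 2, fun n => ?_⟩
        by_cases h : n ≤ 2
        · exact hg h
        · have := hg (show 2 ≤ n by omega)
          rw [hsq, Submodule.bot_smul, SModEq.bot] at this
          rw [this] }
  haveI : IsNoetherianRing E :=
    Groth.Agent.Lib.AdicNoeth.isNoetherianRing_of_isAdicComplete (RingHom.ker f) hfg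
  have hmap : (((IsLocalRing.maximalIdeal A).comap f).map (Ideal.Quotient.mk (RingHom.ker f))).map
      e = IsLocalRing.maximalIdeal A := by
    have h1 : (((IsLocalRing.maximalIdeal A).comap f).map (Ideal.Quotient.mk (RingHom.ker f))).map
      e = (((IsLocalRing.maximalIdeal A).comap f).map (Ideal.Quotient.mk (RingHom.ker f))).map
      (e : (E ⧸ RingHom.ker f) →+* A) := rfl
    rw [h1, Ideal.map_map]
    have : (e : (E ⧸ RingHom.ker f) →+* A).comp (Ideal.Quotient.mk (RingHom.ker f)) = f := by
      ext x
      simp [e]
    rw [this, Ideal.map_comap_of_surjective f hf]
  haveI : IsAdicComplete (((IsLocalRing.maximalIdeal A).comap f).map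
      (Ideal.Quotient.mk (RingHom.ker f))) (E ⧸ RingHom.ker f) := by
    rw [← IsAdicComplete.congr_ringEquiv _ e, hmap]
    infer_instance
  exact Groth.Agent.Lib.AdicTwo.isAdicComplete_of_isAdicComplete_quotient (RingHom.ker f)
    ((IsLocalRing.maximalIdeal A).comap f)

end Groth.Agent.S16981
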