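import Groth.Statements.S16982
import Groth.Agent.S16981
import Groth.Agent.Lib.PowerSeriesLift50
import Groth.Agent.Lib.H59PowerSeries
import Mathlib

set_option autoImplicit false
universe u v w w'
open CAlg

namespace Groth.Agent.S16982

/-- Let R be a commutative ring, A a complete Noetherian local R-algebra written as a quotient of a
power series ring over R in finitely many variables by a surjective R-algebra map π, and f : E → A a
surjective R-algebra map whose kernel has square zero and is finitely generated. Then π lifts along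
f to an R-algebra map λ from the power series ring to E with f ∘ λ = π. (The published statement
takes R Artinian local and asks for a lift that is continuous for the adic topologies; this row
allows any commutative R and asks for any lift.) -/
theorem result
    {R : Type u} [CommRing R] {σ : Type v} [Finite σ]
    {A : Type w} {E : Type w'} [CommRing A] [CommRing E] [Algebra R A] [Algebra R E]
    [IsNoetherianRing A] [IsLocalRing A] [IsAdicComplete (IsLocalRing.maximalIdeal A) A]
    (π : MvPowerSeries σ R →ₐ[R] A) (hπ : Function.Surjective π)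
    (f : E →ₐ[R] A) (hf : Function.Surjective f)
    (hsq : RingHom.ker f.toRingHom ^ 2 = ⊥) (hfg : (RingHom.ker f.toRingHom).FG) :
    ∃ l : MvPowerSeries σ R →ₐ[R] E, f.comp l = π := by
  classical
  have hX : ∀ i, π (MvPowerSeries.X i) ∈ IsLocalRing.maximalIdeal A := by
    intro i
    by_contra h
    have hu : IsUnit (π (MvPowerSeries.X i)) := by
      rwa [IsLocalRing.mem_maximalIdeal, mem_nonunits_iff, not_not] at h
    obtain ⟨g, hg⟩ := hπ (↑hu.unit⁻¹)
    have h1 : π (1 - MvPowerSeries.X i * g) = 0 := by
      rw [map_sub, map_one, map_mul, hg]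
      simp
    have h2 : IsUnit (1 - MvPowerSeries.X i * g : MvPowerSeries σ R) := by
      rw [MvPowerSeries.isUnit_iff_constantCoeff]
      simp
    exact (h2.map π).ne_zero h1
  choose e he using fun i => hf (π (MvPowerSeries.X i))
  haveI : IsAdicComplete ((IsLocalRing.maximalIdeal A).comap f.toRingHom) E :=
    Groth.Agent.S16981.result f.toRingHom hf hsq hfg
  have hb : ∀ i, e i ∈ (IsLocalRing.maximalIdeal A).comap f.toRingHom := fun i => by
    rw [Ideal.mem_comap]
    change f (e i) ∈ _
    rw [he]; exact hX i
  obtain ⟨ψ, hψX, hψ⟩ := Groth.Agent.Lib.PowerSeriesLift50.exists_algHom (k := R)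
    ((IsLocalRing.maximalIdeal A).comap f.toRingHom) e hb
  refine ⟨ψ, ?_⟩
  have hcomp1 : f.comp (MvPolynomial.aeval e) =
      MvPolynomial.aeval (fun i => π (MvPowerSeries.X i)) := by
    apply MvPolynomial.algHom_ext
    intro i
    simp [he]
  have hcomp2 : π.comp (MvPolynomial.coeToMvPowerSeries.algHom R) =
      MvPolynomial.aeval (fun i => π (MvPowerSeries.X i)) := by
    apply MvPolynomial.algHom_ext
    intro i
    simp
  have hpow : ∀ n, ((IsLocalRing.maximalIdeal A).comap f.toRingHom ^ n).map f.toRingHom ≤
      IsLocalRing.maximalIdeal A ^ n := by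
    intro n
    rw [Ideal.map_pow]
    exact Ideal.pow_right_mono Ideal.map_comap_le n
  have hXpow : ∀ n, ((Ideal.span (Set.range (MvPowerSeries.X : σ → MvPowerSeries σ R))) ^ n).map
      π.toRingHom ≤ IsLocalRing.maximalIdeal A ^ n := by
    intro n
    rw [Ideal.map_pow]
    apply Ideal.pow_right_mono
    rw [Ideal.map_span, Ideal.span_le]
    rintro _ ⟨_, ⟨i, rfl⟩, rfl⟩
    exact hX i
  apply AlgHom.ext
  intro p
  have hall : ∀ n, f (ψ p) - π p ∈ IsLocalRing.maximalIdeal A ^ n := by
    intro n
    have h1 : f (ψ p - MvPolynomial.aeval e (MvPowerSeries.truncTotal n p)) ∈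
        IsLocalRing.maximalIdeal A ^ n :=
      hpow n (Ideal.mem_map_of_mem f.toRingHom (hψ p n))
    have h2 : f (MvPolynomial.aeval e (MvPowerSeries.truncTotal n p)) =
        π ((MvPowerSeries.truncTotal n p : MvPolynomial σ R) : MvPowerSeries σ R) := by
      have a1 := AlgHom.congr_fun hcomp1 (MvPowerSeries.truncTotal n p)
      have a2 := AlgHom.congr_fun hcomp2 (MvPowerSeries.truncTotal n p)
      simp only [AlgHom.comp_apply] at a1 a2
      rw [a1, ← a2]
      rfl
    have h3 : π (p - ((MvPowerSeries.truncTotal n p : MvPolynomial σ R) : MvPowerSeries σ R)) ∈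
        IsLocalRing.maximalIdeal A ^ n :=
      hXpow n (Ideal.mem_map_of_mem π.toRingHom
        (Groth.Agent.Lib.H59PowerSeries.sub_truncTotal_mem n p))
    have : f (ψ p) - π p = f (ψ p - MvPolynomial.aeval e (MvPowerSeries.truncTotal n p)) -
        π (p - ((MvPowerSeries.truncTotal n p : MvPolynomial σ R) : MvPowerSeries σ R)) := by
      rw [map_sub, map_sub, h2]; ring
    rw [this]
    exact Ideal.sub_mem _ h1 h3
  have h0 : f (ψ p) - π p = 0 := by
    apply IsHausdorff.haus' (I := IsLocalRing.maximalIdeal A) (f (ψ p) - π p)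
    intro n
    rw [SModEq.zero]
    simpa using hall n
  exact sub_eq_zero.1 h0

end Groth.Agent.S16982
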