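import Groth.Statements.S16983
import Mathlib.Tactic

set_option autoImplicit false
universe u
open DeformData

namespace Groth.Agent.S16983

/-- If `σ = h / m` with `m` prime to `p` and `p ^ n * σ` is an integer, then `σ` is an integer. -/
theorem fract_eq_zero_of_fract_pow_mul (p : ℕ) (n : ℕ) (m : ℕ) (hm : 0 < m)
    (hmp : Nat.Coprime m p) (h : ℤ) (x : ℚ) (hx : x = (h : ℚ) / (m : ℚ))
    (hfr : Int.fract ((p : ℚ) ^ n * x) = 0) : Int.fract x = 0 := by
  have hm0 : (m : ℚ) ≠ 0 := by exact_mod_cast hm.ne'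
  obtain ⟨z, hz⟩ : ∃ z : ℤ, (p : ℚ) ^ n * x = z := ⟨⌊(p : ℚ) ^ n * x⌋, by
    have := Int.floor_add_fract ((p : ℚ) ^ n * x)
    rw [hfr, add_zero] at this
    exact this.symm⟩
  have hdiv : (m : ℤ) ∣ (p : ℤ) ^ n * h := by
    refine ⟨z, ?_⟩
    have h1 : ((p : ℚ) ^ n * h) = z * m := by
      rw [← hz, hx]; field_simp
    have h2 : (((p : ℤ) ^ n * h : ℤ) : ℚ) = ((m * z : ℤ) : ℚ) := by
      push_cast; rw [h1]; ring
    exact_mod_cast h2
  have hcop : IsCoprime (m : ℤ) ((p : ℤ) ^ n) := by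
    have : Nat.Coprime m (p ^ n) := Nat.Coprime.pow_right n hmp
    exact_mod_cast (Nat.isCoprime_iff_coprime.mpr this)
  obtain ⟨q, hq⟩ := hcop.dvd_of_dvd_mul_left hdiv
  have hxq : x = (q : ℚ) := by
    rw [hx, hq]; push_cast; field_simp
  rw [hxq, Int.fract_intCast]

/-- Let p be a prime, s ≥ 1, B a finite index set with a subset B₀ of exactly three elements, m_j ≥ 1
integers coprime to p, and σ_{i,j} (i < s, j ∈ B) rational numbers with m_j σ_{i,j} an integer, such
that Σ_j (σ_{i,j} − 1) = −2 for every i, the fractional part of σ_{i,j} equals that of p^i σ_{0,j},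
no σ_{i,j} equals 1, and the minimum over i of ⌊σ_{i,j}⌋ is 0 for j ∈ B₀ and 1 for j ∉ B₀. Then for
every i the fractional parts ⟨σ_{i,j}⟩ sum over j to 1 (purity), and ⌊σ_{i,j}⌋ is 0 on B₀ and 1 off
B₀ for every i. (The hypotheses are exactly the properties of the signature of a special deformation
datum on the projective line: each entry is an integer divided by a stabilizer order m_j in a group
of order prime to p, the degree identity coming from Riemann–Hurwitz, the Frobenius-twist relation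
between fractional parts, and the speciality conditions; the statement is given here for any such
tuple.) -/
theorem result
    {B : Type u} [Fintype B] [DecidableEq B] (B₀ : Finset B) (hB₀ : B₀.card = 3)
    (p : ℕ) (hp : p.Prime) (s : ℕ) (hs : 0 < s)
    (m : B → ℕ) (hm : ∀ j, 0 < m j) (hmp : ∀ j, Nat.Coprime (m j) p)
    (σ : Fin s → B → ℚ) (hint : ∀ i j, ∃ h : ℤ, σ i j = (h : ℚ) / (m j : ℚ))
    (hsum : ∀ i, ∑ j, (σ i j - 1) = -2)
    (hfract : ∀ i j, Int.fract (σ i j) = Int.fract ((p : ℚ) ^ (i : ℕ) * σ ⟨0, hs⟩ j))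
    (hne : ∀ i j, σ i j ≠ 1)
    (hB₀min : ∀ j ∈ B₀, (∃ i, ⌊σ i j⌋ = 0) ∧ ∀ i, 0 ≤ ⌊σ i j⌋)
    (hBmin : ∀ j ∉ B₀, (∃ i, ⌊σ i j⌋ = 1) ∧ ∀ i, 1 ≤ ⌊σ i j⌋) :
    (∀ i, ∑ j, Int.fract (σ i j) = 1) ∧ (∀ i j, ⌊σ i j⌋ = if j ∈ B₀ then 0 else 1) := by
  classical
  -- the excess of the floor over its minimal value
  set e : Fin s → B → ℤ := fun i j => ⌊σ i j⌋ - (if j ∈ B₀ then 0 else 1) with he
  have he0 : ∀ i j, 0 ≤ e i j := by
    intro i j
    simp only [he]
    by_cases hj : j ∈ B₀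
    · simp only [hj, if_true, sub_zero]; exact (hB₀min j hj).2 i
    · simp only [hj, if_false]; linarith [(hBmin j hj).2 i]
  -- the basic identity `F + E = 1`
  have hFE : ∀ i, ∑ j, Int.fract (σ i j) + ((∑ j, e i j : ℤ) : ℚ) = 1 := by
    intro i
    have h3 : ∑ j : B, (if j ∈ B₀ then (1 : ℚ) else 0) = 3 := by
      rw [Finset.sum_ite_mem, Finset.univ_inter, Finset.sum_const, hB₀]; norm_num
    have hterm : ∀ j, σ i j - 1 = Int.fract (σ i j) + (e i j : ℚ) -
        (if j ∈ B₀ then (1 : ℚ) else 0) := by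
      intro j
      have := Int.floor_add_fract (σ i j)
      simp only [he]
      by_cases hj : j ∈ B₀
      · simp only [hj, if_true]; push_cast; linarith
      · simp only [hj, if_false]; push_cast; linarith
    have := hsum i
    rw [Finset.sum_congr rfl (fun j _ => hterm j), Finset.sum_sub_distrib, Finset.sum_add_distrib,
      h3] at this
    push_cast
    linarith
  have hF0 : ∀ i, 0 ≤ ∑ j, Int.fract (σ i j) := fun i =>
    Finset.sum_nonneg fun j _ => Int.fract_nonneg _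
  have hE0 : ∀ i, 0 ≤ ∑ j, e i j := fun i => Finset.sum_nonneg fun j _ => he0 i j
  -- the bad case is impossible
  have hbad : ∀ i₁, ¬ (1 ≤ ∑ j, e i₁ j) := by
    intro i₁ hE1
    have hE1q : (1 : ℚ) ≤ ((∑ j, e i₁ j : ℤ) : ℚ) := by exact_mod_cast hE1
    have hF : ∑ j, Int.fract (σ i₁ j) = 0 := by linarith [hFE i₁, hF0 i₁]
    have hEeq : ∑ j, e i₁ j = 1 := by
      have : ((∑ j, e i₁ j : ℤ) : ℚ) = 1 := by linarith [hFE i₁]
      exact_mod_cast this
    have hfr1 : ∀ j, Int.fract (σ i₁ j) = 0 := fun j =>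
      (Finset.sum_eq_zero_iff_of_nonneg fun j _ => Int.fract_nonneg _).mp hF j (Finset.mem_univ j)
    have hfr0 : ∀ j, Int.fract (σ ⟨0, hs⟩ j) = 0 := by
      intro j
      obtain ⟨h, hh⟩ := hint ⟨0, hs⟩ j
      refine fract_eq_zero_of_fract_pow_mul p (i₁ : ℕ) (m j) (hm j) (hmp j) h _ hh ?_
      rw [← hfract i₁ j]; exact hfr1 j
    have hfrall : ∀ i j, Int.fract (σ i j) = 0 := by
      intro i j
      rw [hfract i j]
      have h0 : σ ⟨0, hs⟩ j = (⌊σ ⟨0, hs⟩ j⌋ : ℚ) := by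
        have := Int.floor_add_fract (σ ⟨0, hs⟩ j)
        rw [hfr0 j, add_zero] at this
        exact this.symm
      rw [h0]
      have : (p : ℚ) ^ (i : ℕ) * (⌊σ ⟨0, hs⟩ j⌋ : ℚ) =
          (((p : ℤ) ^ (i : ℕ) * ⌊σ ⟨0, hs⟩ j⌋ : ℤ) : ℚ) := by push_cast; ring
      rw [this, Int.fract_intCast]
    have hσint : ∀ i j, σ i j = (⌊σ i j⌋ : ℚ) := by
      intro i j
      have := Int.floor_add_fract (σ i j)
      rw [hfrall i j, add_zero] at this
      exact this.symm
    -- an index with positive excess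
    obtain ⟨j₁, -, hj₁⟩ : ∃ j ∈ Finset.univ, 0 < e i₁ j := by
      by_contra hcon
      push Not at hcon
      have : ∑ j, e i₁ j ≤ 0 := Finset.sum_nonpos fun j hj => hcon j hj
      omega
    have hj₁le : e i₁ j₁ ≤ 1 := by
      rw [← hEeq]
      exact Finset.single_le_sum (fun j _ => he0 i₁ j) (Finset.mem_univ j₁)
    have hj₁eq : e i₁ j₁ = 1 := by omega
    by_cases hj : j₁ ∈ B₀
    · simp only [he, hj, if_true, sub_zero] at hj₁eq
      apply hne i₁ j₁
      rw [hσint i₁ j₁, hj₁eq]; norm_num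
    · obtain ⟨i₂, hi₂⟩ := (hBmin j₁ hj).1
      apply hne i₂ j₁
      rw [hσint i₂ j₁, hi₂]; norm_num
  have hEzero : ∀ i, ∑ j, e i j = 0 := by
    intro i
    have h1 := hbad i
    have h2 := hE0 i
    omega
  refine ⟨fun i => ?_, fun i j => ?_⟩
  · have := hFE i
    rw [hEzero i] at this
    simpa using this
  · have hz : e i j = 0 :=
      (Finset.sum_eq_zero_iff_of_nonneg fun j _ => he0 i j).mp (hEzero i) j (Finset.mem_univ j)
    simp only [he] at hz
    linarith

end Groth.Agent.S16983
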