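import Groth.Statements.S16984

set_option autoImplicit false
universe u v w
open Hoch

namespace Groth.Agent.S16984

open TensorProduct

section aux

variable (k : Type u) [CommRing k] (A : Type v) [CommRing A] [Bialgebra k A]
  (P : Type w) [AddCommGroup P] [Module k P]

/-- `id ⊗ ε : P ⊗ A → P`. -/
noncomputable def cP : P ⊗[k] A →ₗ[k] P :=
  (TensorProduct.rid k P).toLinearMap ∘ₗ (Coalgebra.counit (R := k) (A := A)).lTensor P

@[simp] theorem cP_tmul (p : P) (a : A) : cP k A P (p ⊗ₜ[k] a) = Coalgebra.counit (R := k) a • p := by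
  simp [cP]

/-- `(id ⊗ ε) ⊗ id : (P ⊗ A) ⊗ A → P ⊗ A`. -/
noncomputable def T : (P ⊗[k] A) ⊗[k] A →ₗ[k] P ⊗[k] A :=
  (cP k A P).rTensor A

theorem T_comp_assoc_symm (p : P) :
    T k A P ∘ₗ (TensorProduct.assoc k P A A).symm.toLinearMap ∘ₗ TensorProduct.mk k P (A ⊗[k] A) p =
      TensorProduct.mk k P A p ∘ₗ (TensorProduct.lid k A).toLinearMap ∘ₗ
        (Coalgebra.counit (R := k) (A := A)).rTensor A := by
  refine TensorProduct.ext' fun a b => ?_
  simp only [LinearMap.comp_apply, LinearEquiv.coe_coe, TensorProduct.mk_apply,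
    TensorProduct.assoc_symm_tmul, T, LinearMap.rTensor_tmul, TensorProduct.lid_tmul, cP_tmul]
  rw [TensorProduct.smul_tmul]

theorem T_coactAux : T k A P ∘ₗ Hoch.Ind.coactAux k A P = LinearMap.id := by
  refine TensorProduct.ext' fun p a => ?_
  have := LinearMap.congr_fun (T_comp_assoc_symm k A P p) (Coalgebra.comul (R := k) a)
  simp only [LinearMap.comp_apply, LinearEquiv.coe_coe, TensorProduct.mk_apply,
    Coalgebra.rTensor_counit_comul, TensorProduct.lid_tmul, one_smul] at this
  simp only [LinearMap.comp_apply, Hoch.Ind.coactAux_tmul, LinearMap.id_apply]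
  exact this

end aux

open TensorProduct in
/-- Let k be a commutative ring, A a commutative k-bialgebra that is flat over k (the coordinate ring of
a flat affine group scheme over Spec k; flatness and commutativity are the standing hypotheses of
the appendix and are not needed for the assertion) and P a k-module. Then p ↦ p ⊗ 1 is an injection
of P into the induced comodule P ⊗ A (coaction id ⊗ Δ) whose image is exactly the submodule of
invariants, i.e. the elements with coaction x ↦ x ⊗ 1. (The published statement writes the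
coordinate-ring factor on the left and calls this module coinduced; this row is its degree-zero
part, the identification of P with the invariants of the coinduced module.) -/
theorem result (k : Type u) [CommRing k] (A : Type v) [CommRing A] [Bialgebra k A]
    [Module.Flat k A] (P : Type w) [AddCommGroup P] [Module k P] :
    Function.Injective ((Hoch.Ind.equiv k A P).toLinearMap ∘ₗ (TensorProduct.mk k P A).flip (1 : A)) ∧
    LinearMap.range ((Hoch.Ind.equiv k A P).toLinearMap ∘ₗ (TensorProduct.mk k P A).flip (1 : A)) =
      HopfRep.fixedPts k A (Hoch.Ind k A P) := by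
  constructor
  · intro p q hpq
    have hpq' : (p ⊗ₜ[k] (1 : A) : P ⊗[k] A) = q ⊗ₜ[k] (1 : A) := hpq
    have := congrArg (cP k A P) hpq'
    simpa [Bialgebra.counit_one] using this
  · ext x
    constructor
    · rintro ⟨p, rfl⟩
      change Hoch.Ind.coactAux k A P (p ⊗ₜ[k] (1 : A)) = (p ⊗ₜ[k] (1 : A)) ⊗ₜ[k] (1 : A)
      rw [Hoch.Ind.coactAux_tmul, Bialgebra.comul_one, Algebra.TensorProduct.one_def,
        TensorProduct.assoc_symm_tmul]
    · intro hx
      have hx' : Hoch.Ind.coactAux k A P x = (show P ⊗[k] A from x) ⊗ₜ[k] (1 : A) := hx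
      have h1 := LinearMap.congr_fun (T_coactAux k A P) x
      rw [LinearMap.comp_apply, hx'] at h1
      simp only [T, LinearMap.rTensor_tmul, LinearMap.id_apply] at h1
      exact ⟨cP k A P x, h1⟩

end Groth.Agent.S16984
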