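import Groth.Statements.S16985
import Groth.Agent.S16984

set_option autoImplicit false
universe u v
open Hoch

namespace Groth.Agent.S16985

open TensorProduct Groth.Agent.S16984

section aux

variable (k : Type u) [CommRing k] (A : Type v) [CommRing A] [Bialgebra k A]

/-- Naturality of `tail` in the module variable. -/
theorem rTensor_rTensor_comp_tail {M M' : Type v} [AddCommGroup M] [Module k M] [AddCommGroup M']
    [Module k M'] (f : M →ₗ[k] M') :
    (f.rTensor A).rTensor A ∘ₗ Hoch.tail k A M = Hoch.tail k A M' ∘ₗ f.rTensor A := by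
  refine TensorProduct.ext' fun m a => ?_
  simp only [LinearMap.comp_apply, LinearMap.rTensor_tmul]
  -- both sides are linear in the element of `A ⊗ A`
  have key : ∀ z : A ⊗[k] A, ((f.rTensor A).rTensor A)
      ((TensorProduct.assoc k M A A).symm (m ⊗ₜ[k] z)) =
      (TensorProduct.assoc k M' A A).symm (f m ⊗ₜ[k] z) := by
    intro z
    induction z using TensorProduct.induction_on with
    | zero => simp
    | tmul x y => simp
    | add x y hx hy => simp only [TensorProduct.tmul_add, map_add, hx, hy]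
  rw [Hoch.tail_tmul, Hoch.tail_tmul, key]

variable (P : Type v) [AddCommGroup P] [Module k P]

/-- `(id ⊗ ε) ⊗ id` as a map `Ind P ⊗ A → Ind P`. -/
noncomputable def s0 : (Hoch.Ind k A P) ⊗[k] A →ₗ[k] Hoch.Ind k A P := T k A P

/-- The contracting homotopy. -/
noncomputable def s : (n : ℕ) →
    ((Hoch.cochain k A (Hoch.Ind k A P) (n + 1) : Type v) →ₗ[k]
      (Hoch.cochain k A (Hoch.Ind k A P) n : Type v))
  | 0 => s0 k A P
  | n + 1 => (s n).rTensor A

theorem s_succ (n : ℕ) : s k A P (n + 1) = (s k A P n).rTensor A := rfl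

theorem T_assoc_symm (p : P) (a : A) (z : A ⊗[k] A) :
    ((T k A P).rTensor A) ((TensorProduct.assoc k (P ⊗[k] A) A A).symm ((p ⊗ₜ[k] a) ⊗ₜ[k] z)) =
      Coalgebra.counit (R := k) a • (TensorProduct.assoc k P A A).symm (p ⊗ₜ[k] z) := by
  induction z using TensorProduct.induction_on with
  | zero => simp
  | tmul x y =>
    simp only [TensorProduct.assoc_symm_tmul, LinearMap.rTensor_tmul, T, cP_tmul]
    rw [TensorProduct.smul_tmul', TensorProduct.smul_tmul']
  | add x y hx hy => simp only [TensorProduct.tmul_add, map_add, hx, hy, smul_add]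

/-- The degree zero differential of the induced comodule, on plain tensor products. -/
noncomputable def D0 : P ⊗[k] A →ₗ[k] (P ⊗[k] A) ⊗[k] A :=
  Hoch.Ind.coactAux k A P - (TensorProduct.mk k (P ⊗[k] A) A).flip 1

theorem d_zero_eq : Hoch.d k A (Hoch.Ind k A P) 0 = D0 k A P := rfl

theorem T_D0 (x : P ⊗[k] A) :
    T k A P (D0 k A P x) = x - cP k A P x ⊗ₜ[k] (1 : A) := by
  have h := LinearMap.congr_fun (T_coactAux k A P) x
  simp only [LinearMap.comp_apply, LinearMap.id_apply] at h
  rw [D0, LinearMap.sub_apply, map_sub, h]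
  simp only [LinearMap.flip_apply, TensorProduct.mk_apply, T, LinearMap.rTensor_tmul]

theorem base_tmul (p : P) (a b : A) :
    ((T k A P).rTensor A) (((D0 k A P).rTensor A) ((p ⊗ₜ[k] a) ⊗ₜ[k] b)) +
      D0 k A P (T k A P ((p ⊗ₜ[k] a) ⊗ₜ[k] b)) =
    (p ⊗ₜ[k] a) ⊗ₜ[k] b +
      ((T k A P).rTensor A) (Hoch.tail k A (P ⊗[k] A) ((p ⊗ₜ[k] a) ⊗ₜ[k] b)) := by
  rw [LinearMap.rTensor_tmul, LinearMap.rTensor_tmul, T_D0, Hoch.tail_tmul, T_assoc_symm]
  have hT : T k A P ((p ⊗ₜ[k] a) ⊗ₜ[k] b) = Coalgebra.counit (R := k) a • (p ⊗ₜ[k] b) := by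
    simp only [T, LinearMap.rTensor_tmul, cP_tmul, TensorProduct.smul_tmul']
  rw [hT, map_smul]
  simp only [D0, LinearMap.sub_apply, Hoch.Ind.coactAux_tmul, LinearMap.flip_apply,
    TensorProduct.mk_apply, cP_tmul, TensorProduct.tmul_sub, map_sub,
    TensorProduct.assoc_symm_tmul, TensorProduct.sub_tmul, smul_sub, TensorProduct.smul_tmul']
  abel

theorem base_pos : (T k A P).rTensor A ∘ₗ (D0 k A P).rTensor A + D0 k A P ∘ₗ T k A P =
    LinearMap.id + (T k A P).rTensor A ∘ₗ Hoch.tail k A (P ⊗[k] A) := by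
  refine TensorProduct.ext_threefold fun p a b => ?_
  simp only [LinearMap.add_apply, LinearMap.comp_apply, LinearMap.id_apply]
  exact base_tmul k A P p a b

omit [Bialgebra k A] in
theorem abstract_base {X1 X2 X3 : Type*} [AddCommGroup X1] [Module k X1] [AddCommGroup X2]
    [Module k X2] [AddCommGroup X3] [Module k X3] (S1 : X3 →ₗ[k] X2) (D01 tl : X2 →ₗ[k] X3)
    (D0' : X1 →ₗ[k] X2) (S0 : X2 →ₗ[k] X1)
    (h : S1 ∘ₗ D01 + D0' ∘ₗ S0 = LinearMap.id + S1 ∘ₗ tl) :
    S1 ∘ₗ (D01 + ((-1 : k) ^ (0 + 1)) • tl) + D0' ∘ₗ S0 = LinearMap.id := by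
  rw [LinearMap.comp_add, LinearMap.comp_smul, add_right_comm, h, zero_add, pow_one, neg_one_smul]
  abel

theorem base' : (T k A P).rTensor A ∘ₗ ((D0 k A P).rTensor A +
      ((-1 : k) ^ (0 + 1)) • Hoch.tail k A (P ⊗[k] A)) + D0 k A P ∘ₗ T k A P = LinearMap.id :=
  abstract_base k (X1 := P ⊗[k] A) (X2 := (P ⊗[k] A) ⊗[k] A) (X3 := ((P ⊗[k] A) ⊗[k] A) ⊗[k] A)
    ((T k A P).rTensor A) ((D0 k A P).rTensor A) (Hoch.tail k A (P ⊗[k] A)) (D0 k A P) (T k A P)
    (base_pos k A P)

theorem base : s k A P 1 ∘ₗ Hoch.d k A (Hoch.Ind k A P) 1 +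
    Hoch.d k A (Hoch.Ind k A P) 0 ∘ₗ s k A P 0 = LinearMap.id :=
  base' k A P

theorem homotopy (n : ℕ) : s k A P (n + 1) ∘ₗ Hoch.d k A (Hoch.Ind k A P) (n + 1) +
    Hoch.d k A (Hoch.Ind k A P) n ∘ₗ s k A P n = LinearMap.id := by
  induction n with
  | zero => exact base k A P
  | succ n ih =>
    have hnat : (s k A P (n + 1)).rTensor A ∘ₗ
        Hoch.tail k A (Hoch.cochain k A (Hoch.Ind k A P) (n + 1)) =
        Hoch.tail k A (Hoch.cochain k A (Hoch.Ind k A P) n) ∘ₗ s k A P (n + 1) :=
      rTensor_rTensor_comp_tail k A (s k A P n)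
    have hsign : ((-1 : k) ^ (n + 1 + 1)) = -((-1 : k) ^ (n + 1)) := by
      rw [pow_succ]; ring
    have h1 : s k A P (n + 1 + 1) ∘ₗ Hoch.d k A (Hoch.Ind k A P) (n + 1 + 1) =
        (s k A P (n + 1) ∘ₗ Hoch.d k A (Hoch.Ind k A P) (n + 1)).rTensor A -
          ((-1 : k) ^ (n + 1)) •
            (Hoch.tail k A (Hoch.cochain k A (Hoch.Ind k A P) n) ∘ₗ s k A P (n + 1)) := by
      rw [s_succ k A P (n + 1), Hoch.d_succ k A _ (n + 1), LinearMap.comp_add,
        LinearMap.comp_smul, hnat, hsign, neg_smul, ← sub_eq_add_neg, LinearMap.rTensor_comp]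
    have h2 : Hoch.d k A (Hoch.Ind k A P) (n + 1) ∘ₗ s k A P (n + 1) =
        (Hoch.d k A (Hoch.Ind k A P) n ∘ₗ s k A P n).rTensor A +
          ((-1 : k) ^ (n + 1)) •
            (Hoch.tail k A (Hoch.cochain k A (Hoch.Ind k A P) n) ∘ₗ s k A P (n + 1)) := by
      rw [Hoch.d_succ k A _ n, LinearMap.add_comp, LinearMap.smul_comp, LinearMap.rTensor_comp]
      rfl
    rw [h1, h2, sub_add_add_cancel, ← LinearMap.rTensor_add, ih, LinearMap.rTensor_id]

end aux

open TensorProduct in
/-- Let k be a commutative ring, A a commutative k-bialgebra flat over k (the coordinate ring of a flat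
affine group scheme over Spec k; flatness and commutativity are the standing hypotheses of the
appendix and are not needed for the assertion) and P a k-module. Then the cochain complex of the
induced comodule P ⊗ A (coaction id ⊗ Δ), with n-cochains (P ⊗ A) ⊗ A ⊗ ⋯ ⊗ A, has every
(n+1)-cocycle an (n+1)-coboundary, for all n. (The published statement is the vanishing of the
higher derived functors of invariants on coinduced modules; this row states the vanishing in
positive degrees of the cohomology of the cochain complex above, which the same appendix identifies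
with those derived functors. P is taken in the universe of A, as the cochain modules require.) -/
theorem result (k : Type u) [CommRing k] (A : Type v) [CommRing A]
    [Bialgebra k A] [Module.Flat k A] (P : Type v) [AddCommGroup P] [Module k P] (n : ℕ) :
    Hoch.cocycles k A (Hoch.Ind k A P) (n + 1) ≤ Hoch.coboundaries k A (Hoch.Ind k A P) (n + 1) := by
  intro z hz
  have hz' : Hoch.d k A (Hoch.Ind k A P) (n + 1) z = 0 := hz
  have h := LinearMap.congr_fun (homotopy k A P n) z
  simp only [LinearMap.add_apply, LinearMap.comp_apply, LinearMap.id_apply, hz', map_zero,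
    zero_add] at h
  exact ⟨s k A P n z, h⟩

end Groth.Agent.S16985
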