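import Mathlib
import Groth.Statements.S16991

set_option autoImplicit false
universe u v
open QuadGrp

namespace Groth.Agent.S16991

section Helpers

open Matrix in
/-- Doubling trick: an "isometry" `G` of an invertible matrix `P = A - Aᵀ` has determinant one.
`(P) ⊕ (-P)` is hyperbolic (diagonal Lagrangian + explicit complementary Lagrangian), and
`G ⊕ 1` is an isometry of it, so it is conjugate to a symplectic matrix. -/
theorem key {n R : Type*} [Fintype n] [DecidableEq n] [CommRing R]
    (P A G : Matrix n n R) (hP : P = A - Aᵀ) (hdet : IsUnit P.det) (hG : Gᵀ * P * G = P) :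
    G.det = 1 := by
  have hPt : Pᵀ = -P := by rw [hP]; simp [transpose_sub]
  have hPi1 : P * P⁻¹ = 1 := Matrix.mul_nonsing_inv P hdet
  have hPi2 : P⁻¹ * P = 1 := Matrix.nonsing_inv_mul P hdet
  have hPit : (P⁻¹)ᵀ = -P⁻¹ := by
    rw [Matrix.transpose_nonsing_inv, hPt]
    apply Matrix.inv_eq_right_inv
    rw [Matrix.neg_mul, Matrix.mul_neg, neg_neg, hPi1]
  -- T with Tᵀ P = A
  obtain ⟨T, hT⟩ : ∃ T : Matrix n n R, Tᵀ * P = A := by
    refine ⟨(A * P⁻¹)ᵀ, ?_⟩
    rw [transpose_transpose, Matrix.mul_assoc, hPi2, Matrix.mul_one]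
  have hT2 : P * T = -Aᵀ := by
    have : (Tᵀ * P)ᵀ = Aᵀ := by rw [hT]
    rw [transpose_mul, transpose_transpose, hPt, Matrix.neg_mul] at this
    rw [← this, neg_neg]
  have hTT : Tᵀ * P + P * T = P := by rw [hT, hT2, hP]; abel
  set C : Matrix n n R := -P⁻¹ with hC
  have hCt : Cᵀ = P⁻¹ := by rw [hC, transpose_neg, hPit, neg_neg]
  set S : Matrix (n ⊕ n) (n ⊕ n) R := fromBlocks 1 (T * C) 1 ((T - 1) * C) with hS
  set Ω : Matrix (n ⊕ n) (n ⊕ n) R := fromBlocks P 0 0 (-P) with hΩ
  have hSΩS : Sᵀ * Ω * S = J n R := by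
    rw [hS, hΩ, J, fromBlocks_transpose, fromBlocks_multiply, fromBlocks_multiply]
    congr 1
    · simp
    · simp only [transpose_one, Matrix.one_mul, Matrix.mul_zero, add_zero, zero_add]
      rw [← Matrix.mul_assoc, ← Matrix.mul_assoc, ← Matrix.add_mul]
      rw [Matrix.neg_mul, ← sub_eq_add_neg, ← Matrix.mul_sub, sub_sub_cancel, Matrix.mul_one,
        hC, Matrix.mul_neg, hPi1]
    · simp only [Matrix.mul_one, Matrix.mul_zero, add_zero, zero_add]
      rw [transpose_mul, transpose_mul, Matrix.mul_neg, ← sub_eq_add_neg, Matrix.mul_assoc,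
        Matrix.mul_assoc, ← Matrix.mul_sub, ← Matrix.sub_mul, ← transpose_sub, sub_sub_cancel,
        transpose_one, Matrix.one_mul, hCt, hPi2]
    · simp only [Matrix.mul_zero, add_zero, zero_add]
      rw [transpose_mul, transpose_mul]
      have : Cᵀ * Tᵀ * P * (T * C) + Cᵀ * (T - 1)ᵀ * -P * ((T - 1) * C)
          = Cᵀ * (Tᵀ * P * T - (T - 1)ᵀ * P * (T - 1)) * C := by
        simp only [Matrix.mul_sub, Matrix.sub_mul, Matrix.mul_neg, Matrix.neg_mul, Matrix.mul_assoc]
        abel
      rw [this]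
      have h2 : Tᵀ * P * T - (T - 1)ᵀ * P * (T - 1) = Tᵀ * P + P * T - P := by
        simp only [transpose_sub, transpose_one, Matrix.mul_sub, Matrix.sub_mul, Matrix.mul_one,
          Matrix.one_mul]
        abel
      rw [h2, hTT, sub_self, Matrix.mul_zero, Matrix.zero_mul]
  set Gt : Matrix (n ⊕ n) (n ⊕ n) R := fromBlocks G 0 0 1 with hGt
  have hGΩ : Gtᵀ * Ω * Gt = Ω := by
    rw [hGt, hΩ, fromBlocks_transpose, fromBlocks_multiply, fromBlocks_multiply]
    simp [hG]
  have hSdet : IsUnit S.det := by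
    have h1 : IsUnit (Sᵀ * Ω * S).det := by rw [hSΩS]; exact Matrix.isUnit_det_J n R
    rw [det_mul] at h1
    exact isUnit_of_mul_isUnit_right h1
  have hS1 : S * S⁻¹ = 1 := Matrix.mul_nonsing_inv S hSdet
  have hS2 : S⁻¹ * S = 1 := Matrix.nonsing_inv_mul S hSdet
  set X : Matrix (n ⊕ n) (n ⊕ n) R := S⁻¹ * Gt * S with hX
  have hXJ : Xᵀ * J n R * X = J n R := by
    rw [← hSΩS, hX]
    simp only [transpose_mul]
    have e1 : Sᵀ * (Gtᵀ * S⁻¹ᵀ) * (Sᵀ * Ω * S) * (S⁻¹ * Gt * S)
        = Sᵀ * (Gtᵀ * ((S⁻¹ᵀ * Sᵀ) * Ω * (S * S⁻¹)) * Gt) * S := by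
      simp only [Matrix.mul_assoc]
    rw [e1, hS1, ← transpose_mul, hS1, transpose_one, Matrix.one_mul, Matrix.mul_one, hGΩ]
  have hmem : Xᵀ ∈ symplecticGroup n R := by
    rw [SymplecticGroup.mem_iff, transpose_transpose]
    exact hXJ
  have hdetX : X.det = 1 := by
    rw [← det_transpose]
    exact SymplecticGroup.det_eq_one hmem
  have hdetGt : Gt.det = G.det := by
    rw [hGt, det_fromBlocks_zero₂₁, det_one, mul_one]
  rw [← hdetGt]
  have : X.det = Gt.det := by
    rw [hX, det_mul, det_mul, mul_comm, ← mul_assoc, ← det_mul, hS1, det_one, one_mul]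
  rw [← this, hdetX]

open Matrix in
theorem det_eq_one_of_mem_O {R : Type u} [CommRing R] [CharP R 2]
    {M : Type v} [AddCommGroup M] [Module R M] [Module.Free R M] [Module.Finite R M]
    (Q : QuadraticForm R M) (hQ : QuadGrp.IsRegular Q) (g : M ≃ₗ[R] M) (hg : g ∈ QuadGrp.O Q) :
    LinearEquiv.det g = 1 := by
  classical
  obtain ⟨B', hB'⟩ := LinearMap.BilinMap.toQuadraticMap_surjective Q
  have hBQ : ∀ x, B' x x = Q x := fun x => by
    rw [← hB', LinearMap.BilinMap.toQuadraticMap_apply]
  set b := Module.Free.chooseBasis R M with hb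
  have hpolar : ∀ x y, QuadraticMap.polar Q x y = B' x y - B' y x := by
    intro x y
    rw [QuadraticMap.polar, ← hBQ, ← hBQ, ← hBQ]
    simp only [map_add, LinearMap.add_apply]
    have h2 : B' y x + B' y x = 0 := CharTwo.add_self_eq_zero _
    linear_combination h2
  have hP : LinearMap.BilinForm.toMatrix b (QuadraticMap.polarBilin Q) =
      LinearMap.BilinForm.toMatrix b B' - (LinearMap.BilinForm.toMatrix b B')ᵀ := by
    ext i j
    rw [Matrix.sub_apply, Matrix.transpose_apply, LinearMap.BilinForm.toMatrix_apply,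
      LinearMap.BilinForm.toMatrix_apply, LinearMap.BilinForm.toMatrix_apply]
    exact hpolar _ _
  have hdet : IsUnit (LinearMap.BilinForm.toMatrix b (QuadraticMap.polarBilin Q)).det := by
    set e := LinearEquiv.ofBijective (QuadraticMap.polarBilin Q) hQ with he
    have h1 := LinearEquiv.isUnit_det e b b.dualBasis
    have h2 : LinearMap.toMatrix b b.dualBasis (e : M →ₗ[R] Module.Dual R M) =
        (LinearMap.BilinForm.toMatrix b (QuadraticMap.polarBilin Q))ᵀ := by
      ext i j
      rw [LinearMap.toMatrix_apply, Matrix.transpose_apply, LinearMap.BilinForm.toMatrix_apply,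
        Module.Basis.dualBasis_repr]
      rfl
    rw [h2, Matrix.det_transpose] at h1
    exact h1
  have hG : (LinearMap.toMatrix b b (g : M →ₗ[R] M))ᵀ *
      LinearMap.BilinForm.toMatrix b (QuadraticMap.polarBilin Q) *
      LinearMap.toMatrix b b (g : M →ₗ[R] M) =
      LinearMap.BilinForm.toMatrix b (QuadraticMap.polarBilin Q) := by
    rw [← LinearMap.BilinForm.toMatrix_comp]
    congr 1
    ext x y
    simp only [LinearMap.BilinForm.comp_apply, LinearEquiv.coe_coe, QuadraticMap.polarBilin_apply_apply]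
    rw [QuadraticMap.polar, QuadraticMap.polar, ← map_add, hg, hg, hg]
  have hkey := key _ _ _ hP hdet hG
  rw [LinearMap.det_toMatrix] at hkey
  apply Units.ext
  rw [LinearEquiv.coe_det, hkey]
  rfl

end Helpers

/-- Over a commutative ring in which 2 = 0, for a quadratic form Q on a finite free module of even rank
2m ≥ 2 whose polar form is a perfect pairing, every isometry of Q has determinant one. (The
published statement is the equality of the naive special orthogonal group with the orthogonal group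
on fibres in characteristic 2; its proof gives this equality over every base of characteristic 2,
which is the form stated.) -/
theorem result {R : Type u} [CommRing R] [CharP R 2]
    {M : Type v} [AddCommGroup M] [Module R M] [Module.Free R M] [Module.Finite R M]
    (m : ℕ) (hm : 1 ≤ m) (hM : Module.finrank R M = 2 * m) (Q : QuadraticForm R M) (hQ : QuadGrp.IsRegular Q) :
    QuadGrp.O Q = QuadGrp.SO' Q := by
  apply le_antisymm
  · intro g hg
    refine ⟨hg, ?_⟩
    exact MonoidHom.mem_ker.mpr (det_eq_one_of_mem_O Q hQ g hg)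
  · exact inf_le_left

end Groth.Agent.S16991
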