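import Groth.Statements.S8854
import Mathlib.RingTheory.UniqueFactorizationDomain.Ideal
import Mathlib.RingTheory.Ideal.Quotient.Basic

set_option autoImplicit false
universe u
open SDiv

namespace Groth.Agent.S8854

section

variable {R : Type u} [CommRing R] [IsDomain R] [IsNoetherianRing R]
  [UniqueFactorizationMonoid R]

/-- The ideal quotient `(I : π)`. -/
def colonElt (I : Ideal R) (π : R) : Ideal R where
  carrier := {y | π * y ∈ I}
  add_mem' := fun {a b} ha hb => by
    change π * (a + b) ∈ I
    rw [mul_add]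
    exact I.add_mem ha hb
  zero_mem' := by
    change π * 0 ∈ I
    rw [mul_zero]
    exact I.zero_mem
  smul_mem' := fun c {a} ha => by
    change π * (c • a) ∈ I
    rw [smul_eq_mul, mul_left_comm]
    exact I.mul_mem_left c ha

lemma mem_colonElt {I : Ideal R} {π y : R} : y ∈ colonElt I π ↔ π * y ∈ I := Iff.rfl

/-- A height one prime of a unique factorisation domain is generated by a prime element. -/
lemma exists_prime_span_eq (p : Ideal R) [p.IsPrime] (hp : p.height = 1) :
    ∃ π : R, Prime π ∧ Ideal.span {π} = p := by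
  have hne : p ≠ ⊥ := Ideal.ne_bot_of_height_eq_one hp
  obtain ⟨π, hπp, hπ⟩ := Ideal.IsPrime.exists_mem_prime_of_ne_bot ‹p.IsPrime› hne
  refine ⟨π, hπ, ?_⟩
  have hprime : (Ideal.span {π} : Ideal R).IsPrime :=
    (Ideal.span_singleton_prime hπ.ne_zero).mpr hπ
  have hle : Ideal.span {π} ≤ p := (Ideal.span_singleton_le_iff_mem p).mpr hπp
  have hfin : p.FiniteHeight := by
    rw [Ideal.finiteHeight_iff]
    right
    rw [hp]
    exact ENat.one_ne_top
  have hfin' : (Ideal.span {π} : Ideal R).FiniteHeight := by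
    rw [Ideal.finiteHeight_iff]
    right
    exact ne_top_of_le_ne_top (by rw [hp]; exact ENat.one_ne_top) (Ideal.height_mono hle)
  refine Ideal.eq_of_le_of_height_le (I := Ideal.span {π}) (J := p) hle ?_
  rw [hp, Order.one_le_iff_pos, pos_iff_ne_zero, Ne, Ideal.height_eq_zero_iff_eq_bot]
  rw [Ideal.span_singleton_eq_bot]
  exact hπ.ne_zero

theorem principal_of_ass_height_one (x : R) :
    ∀ I : Ideal R, (∀ p ∈ associatedPrimes R (R ⧸ I), p.height = 1) → x ∈ I → x ≠ 0 →
      ∃ f : R, I = Ideal.span {f} := by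
  refine WellFounded.induction (C := fun x => ∀ I : Ideal R,
      (∀ p ∈ associatedPrimes R (R ⧸ I), p.height = 1) → x ∈ I → x ≠ 0 →
      ∃ f : R, I = Ideal.span {f}) (wellFounded_dvdNotUnit (α := R)) x ?_
  intro x ih I H hxI hx0
  by_cases htop : I = ⊤
  · exact ⟨1, by rw [htop, Ideal.span_singleton_one]⟩
  have hnt : Nontrivial (R ⧸ I) := Ideal.Quotient.nontrivial_iff.mpr htop
  obtain ⟨p, hp⟩ := associatedPrimes.nonempty R (R ⧸ I)
  have hpprime : p.IsPrime := hp.isPrime
  obtain ⟨π, hπ, rfl⟩ := exists_prime_span_eq p (H p hp)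
  have hIle : I ≤ Ideal.span {π} := by
    refine le_trans ?_ (IsAssociatedPrime.annihilator_le hp)
    intro z hz
    rw [Submodule.mem_annihilator]
    intro m _
    obtain ⟨m, rfl⟩ := Submodule.Quotient.mk_surjective _ m
    rw [← Submodule.Quotient.mk_smul, Submodule.Quotient.mk_eq_zero]
    exact I.mul_mem_right m hz
  -- the colon ideal
  set I' := colonElt I π with hI'
  have hII' : I = Ideal.span {π} * I' := by
    apply le_antisymm
    · intro z hz
      obtain ⟨y, rfl⟩ := Ideal.mem_span_singleton'.mp (hIle hz)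
      rw [mul_comm y π]
      refine Ideal.mul_mem_mul (Ideal.mem_span_singleton_self π) ?_
      change π * y ∈ I
      rw [mul_comm]
      exact hz
    · rw [Ideal.mul_le]
      intro r hr s hs
      obtain ⟨t, rfl⟩ := Ideal.mem_span_singleton'.mp hr
      rw [mul_assoc]
      exact I.mul_mem_left t hs
  obtain ⟨x', rfl⟩ := Ideal.mem_span_singleton'.mp (hIle hxI)
  have hx'I' : x' ∈ I' := by
    rw [hI', mem_colonElt, mul_comm]
    exact hxI
  have hx'0 : x' ≠ 0 := left_ne_zero_of_mul hx0
  have hdvd : DvdNotUnit x' (x' * π) := ⟨hx'0, π, hπ.not_isUnit, rfl⟩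
  -- associated primes of the colon ideal
  have hH' : ∀ q ∈ associatedPrimes R (R ⧸ I'), q.height = 1 := by
    intro q hq
    refine H q ?_
    let φ : (R ⧸ I') →ₗ[R] (R ⧸ I) :=
      Submodule.mapQ I' I (LinearMap.mulLeft R π) (fun y hy => hy)
    have hφ : Function.Injective φ := by
      rw [← LinearMap.ker_eq_bot, LinearMap.ker_eq_bot']
      intro m hm
      obtain ⟨m, rfl⟩ := Submodule.Quotient.mk_surjective _ m
      rw [Submodule.mapQ_apply, Submodule.Quotient.mk_eq_zero] at hm
      rw [Submodule.Quotient.mk_eq_zero]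
      exact hm
    exact associatedPrimes.subset_of_injective hφ hq
  obtain ⟨f', hf'⟩ := ih x' hdvd I' hH' hx'I' hx'0
  refine ⟨π * f', ?_⟩
  rw [hII', hf', Ideal.span_singleton_mul_span_singleton]

end

/-- Let R be a Noetherian unique factorisation domain and I ⊆ R an ideal such that every associated
prime of R/I is minimal over I (R/I has no embedded primes) and every prime minimal over I has
height 1. Then I is principal: it is generated by one element. -/
theorem result (R : Type u) [CommRing R] [IsDomain R] [IsNoetherianRing R]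
    [UniqueFactorizationMonoid R] (I : Ideal R)
    (h1 : ∀ p : Ideal R, p ∈ associatedPrimes R (R ⧸ I) → p ∈ I.minimalPrimes)
    (h2 : ∀ p : Ideal R, p ∈ I.minimalPrimes → p.height = 1) :
    ∃ f : R, I = Ideal.span {f} := by
  by_cases hbot : I = ⊥
  · exact ⟨0, by rw [hbot, Ideal.span_singleton_eq_bot.mpr rfl]⟩
  obtain ⟨x, hxI, hx0⟩ := Submodule.exists_mem_ne_zero_of_ne_bot hbot
  exact principal_of_ass_height_one x I (fun p hp => h2 p (h1 p hp)) hxI hx0

end Groth.Agent.S8854
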