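import Groth.Statements.S1700
import Mathlib
import Groth.Agent.S8854
import Groth.Agent.S1570
import Groth.Agent.Lib.ClosedImmStalk

set_option autoImplicit false
universe u
open CategoryTheory CategoryTheory.Limits AlgebraicGeometry TopologicalSpace
open SDiv

namespace Groth.Agent.S1700

open Submodule

/-- Associated primes along a surjective local homomorphism (maximal ideal case). -/
lemma maximalIdeal_mem_ass_of_surjective {R' S' : Type*} [CommRing R'] [CommRing S']
    [IsLocalRing R'] [IsLocalRing S'] [IsNoetherianRing R']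
    (φ : R' →+* S') (hφ : Function.Surjective φ) [IsLocalHom φ] (K : Ideal R')
    (hK : RingHom.ker φ = K)
    (h : IsAssociatedPrime (IsLocalRing.maximalIdeal R') (R' ⧸ K)) :
    IsAssociatedPrime (IsLocalRing.maximalIdeal S') S' := by
  subst hK
  obtain ⟨hp, x, hx⟩ := isAssociatedPrime_iff.mp h
  obtain ⟨r, rfl⟩ := Ideal.Quotient.mk_surjective x
  have hcolon : IsLocalRing.maximalIdeal S' = colon (⊥ : Submodule S' S') {φ r} := by
    ext t
    obtain ⟨t', rfl⟩ := hφ t
    have h1 : t' ∈ IsLocalRing.maximalIdeal R' ↔ t' * r ∈ RingHom.ker φ := by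
      rw [hx, mem_colon_singleton, mem_bot, ← Ideal.Quotient.mk_eq_mk, ← Ideal.Quotient.eq_zero_iff_mem]
      rfl
    rw [mem_colon_singleton, mem_bot, smul_eq_mul, ← map_mul, ← RingHom.mem_ker, ← h1,
      IsLocalRing.mem_maximalIdeal, IsLocalRing.mem_maximalIdeal, mem_nonunits_iff, mem_nonunits_iff,
      isUnit_map_iff φ]
  refine ⟨inferInstance, φ r, ?_⟩
  rw [← hcolon]
  exact (Ideal.IsPrime.radical inferInstance).symm

/-- Stacks 0310 (2) for `A ⧸ I`. -/
lemma comap_mem_ass (A : Type*) [CommRing A] [IsNoetherianRing A] (p : Ideal A) [p.IsPrime]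
    (R : Type*) [CommRing R] [Algebra A R] [IsLocalization.AtPrime R p] (I : Ideal A) (𝔓 : Ideal R)
    (h : 𝔓 ∈ associatedPrimes R (R ⧸ I.map (algebraMap A R))) :
    𝔓.comap (algebraMap A R) ∈ associatedPrimes A (A ⧸ I) := by
  have e := Ideal.localized'_eq_map R p.primeCompl I
  have key : ∀ J : Ideal R, J = Submodule.localized' R p.primeCompl (Algebra.linearMap A R) I →
      𝔓 ∈ associatedPrimes R (R ⧸ J) → 𝔓.comap (algebraMap A R) ∈ associatedPrimes A (A ⧸ I) := by
    rintro J rfl hJ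
    exact Module.associatedPrimes.comap_mem_associatedPrimes_of_mem_associatedPrimes_of_isLocalizedModule_of_fg
      p.primeCompl (Submodule.toLocalizedQuotient' R p.primeCompl (Algebra.linearMap A R) I) 𝔓 hJ
      ((isNoetherianRing_iff_ideal_fg A).mp inferInstance _)
  exact key _ e.symm h

/-- Stacks 0310 (1) for `A ⧸ I` and the maximal ideal of the localization. -/
lemma maximalIdeal_mem_ass (A : Type*) [CommRing A] (p' : Ideal A) [p'.IsPrime]
    (R' : Type*) [CommRing R'] [Algebra A R'] [IsLocalization.AtPrime R' p'] [IsLocalRing R']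
    (I : Ideal A) (h : p' ∈ associatedPrimes A (A ⧸ I)) :
    IsLocalRing.maximalIdeal R' ∈ associatedPrimes R' (R' ⧸ I.map (algebraMap A R')) := by
  have e := Ideal.localized'_eq_map R' p'.primeCompl I
  have key : ∀ J : Ideal R', J = Submodule.localized' R' p'.primeCompl (Algebra.linearMap A R') I →
      IsLocalRing.maximalIdeal R' ∈ associatedPrimes R' (R' ⧸ J) := by
    rintro J rfl
    apply Module.associatedPrimes.mem_associatedPrimes_of_comap_mem_associatedPrimes_of_isLocalizedModule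
      p'.primeCompl (Submodule.toLocalizedQuotient' R' p'.primeCompl (Algebra.linearMap A R') I)
    rw [show Ideal.comap (algebraMap A R') (IsLocalRing.maximalIdeal R') = p' from
      IsLocalization.AtPrime.under_maximalIdeal R' p']
    exact h
  exact key _ e.symm

open AlgebraicGeometry CategoryTheory

section Geom

variable {X : Scheme.{u}}

lemma mem_support_of_le (𝓘 : X.IdealSheafData) (U : X.affineOpens) (x' : X) (hx' : x' ∈ U.1)
    (h : 𝓘.ideal U ≤ (U.2.primeIdealOf ⟨x', hx'⟩).asIdeal) : x' ∈ 𝓘.support := by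
  rw [Scheme.IdealSheafData.mem_support_iff_of_mem hx', Scheme.mem_zeroLocus_iff]
  intro f hf hxf
  rw [Groth.Agent.Lib.ClosedImmStalk.mem_basicOpen_iff_notMem_primeIdealOf U.1 U.2 x' hx' f] at hxf
  exact hxf (h hf)

/-- At a point `ι z'` of the closed subscheme where the maximal ideal is associated to
`𝒪_{X} / 𝓘`, the hypotheses force dimension one. -/
lemma dim_eq_one_of_subscheme (𝓘 : X.IdealSheafData) [IsLocallyNoetherian X]
    (h1 : ∀ z : ↥𝓘.subscheme, IsAssociatedPrime (IsLocalRing.maximalIdeal ↑(𝓘.subscheme.presheaf.stalk z)) ↑(𝓘.subscheme.presheaf.stalk z) → ∀ z' : ↥𝓘.subscheme, z' ⤳ z → z' = z)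
    (h2 : ∀ z : ↥𝓘.subscheme, (∀ z' : ↥𝓘.subscheme, z' ⤳ z → z' = z) →
      ringKrullDim (X.presheaf.stalk (𝓘.subschemeι z)) = 1)
    (U : X.affineOpens) (z' : 𝓘.subscheme) (hz' : 𝓘.subschemeι z' ∈ U.1)
    (hass : IsLocalRing.maximalIdeal (X.presheaf.stalk (𝓘.subschemeι z')) ∈
      associatedPrimes (X.presheaf.stalk (𝓘.subschemeι z'))
        (X.presheaf.stalk (𝓘.subschemeι z') ⧸
          (𝓘.ideal U).map (X.presheaf.germ U.1 (𝓘.subschemeι z') hz').hom)) :
    ringKrullDim (X.presheaf.stalk (𝓘.subschemeι z')) = 1 := by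
  have hker := Groth.Agent.Lib.ClosedImmStalk.ker_stalkMap_eq_map 𝓘.subschemeι U z' hz'
  rw [Scheme.IdealSheafData.ker_subschemeι] at hker
  have hsurj : Function.Surjective (𝓘.subschemeι.stalkMap z').hom :=
    𝓘.subschemeι.stalkMap_surjective z'
  have := maximalIdeal_mem_ass_of_surjective (𝓘.subschemeι.stalkMap z').hom hsurj _ hker hass
  exact h2 z' (h1 z' this)

/-- A point of an affine open whose prime is associated to `Γ(X, U) ⧸ 𝓘(U)` has a local ring of
dimension one. -/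
lemma dim_eq_one_of_ass (𝓘 : X.IdealSheafData) [IsLocallyNoetherian X]
    (h1 : ∀ z : ↥𝓘.subscheme, IsAssociatedPrime (IsLocalRing.maximalIdeal ↑(𝓘.subscheme.presheaf.stalk z)) ↑(𝓘.subscheme.presheaf.stalk z) → ∀ z' : ↥𝓘.subscheme, z' ⤳ z → z' = z)
    (h2 : ∀ z : ↥𝓘.subscheme, (∀ z' : ↥𝓘.subscheme, z' ⤳ z → z' = z) →
      ringKrullDim (X.presheaf.stalk (𝓘.subschemeι z)) = 1)
    (U : X.affineOpens) (x' : X) (hx' : x' ∈ U.1)
    (hass : (U.2.primeIdealOf ⟨x', hx'⟩).asIdeal ∈ associatedPrimes Γ(X, U.1) (Γ(X, U.1) ⧸ 𝓘.ideal U)) :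
    ringKrullDim (X.presheaf.stalk x') = 1 := by
  have hle : 𝓘.ideal U ≤ (U.2.primeIdealOf ⟨x', hx'⟩).asIdeal := by
    have := IsAssociatedPrime.annihilator_le hass
    rwa [Submodule.annihilator_top, Ideal.annihilator_quotient] at this
  have hsupp := mem_support_of_le 𝓘 U x' hx' hle
  have hrange : x' ∈ Set.range 𝓘.subschemeι := by
    rw [Scheme.IdealSheafData.range_subschemeι]; exact hsupp
  obtain ⟨z', rfl⟩ := hrange
  letI : Algebra Γ(X, U.1) (X.presheaf.stalk (𝓘.subschemeι z')) :=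
    TopCat.Presheaf.algebra_section_stalk X.presheaf ⟨𝓘.subschemeι z', hx'⟩
  haveI := U.2.isLocalization_stalk ⟨𝓘.subschemeι z', hx'⟩
  have hm := maximalIdeal_mem_ass Γ(X, U.1) (U.2.primeIdealOf ⟨𝓘.subschemeι z', hx'⟩).asIdeal
    (X.presheaf.stalk (𝓘.subschemeι z')) (𝓘.ideal U) hass
  exact dim_eq_one_of_subscheme 𝓘 h1 h2 U z' hx' hm

lemma height_eq_one (𝓘 : X.IdealSheafData) [IsLocallyNoetherian X]
    (h1 : ∀ z : ↥𝓘.subscheme, IsAssociatedPrime (IsLocalRing.maximalIdeal ↑(𝓘.subscheme.presheaf.stalk z)) ↑(𝓘.subscheme.presheaf.stalk z) → ∀ z' : ↥𝓘.subscheme, z' ⤳ z → z' = z)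
    (h2 : ∀ z : ↥𝓘.subscheme, (∀ z' : ↥𝓘.subscheme, z' ⤳ z → z' = z) →
      ringKrullDim (X.presheaf.stalk (𝓘.subschemeι z)) = 1)
    (U : X.affineOpens) (x : X) (hx : x ∈ U.1) (𝔓 : Ideal (X.presheaf.stalk x))
    (h𝔓 : 𝔓 ∈ associatedPrimes (X.presheaf.stalk x)
      (X.presheaf.stalk x ⧸ (𝓘.ideal U).map (X.presheaf.germ U.1 x hx).hom)) :
    𝔓.height = 1 := by
  have hU : IsAffineOpen U.1 := U.2
  haveI : IsNoetherianRing Γ(X, U.1) := IsLocallyNoetherian.component_noetherian U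
  letI : Algebra Γ(X, U.1) (X.presheaf.stalk x) :=
    TopCat.Presheaf.algebra_section_stalk X.presheaf ⟨x, hx⟩
  haveI := hU.isLocalization_stalk ⟨x, hx⟩
  haveI h𝔓prime : 𝔓.IsPrime := h𝔓.isPrime
  have hp' := comap_mem_ass Γ(X, U.1) (hU.primeIdealOf ⟨x, hx⟩).asIdeal (X.presheaf.stalk x)
    (𝓘.ideal U) 𝔓 h𝔓
  haveI hp'prime : (𝔓.comap (algebraMap Γ(X, U.1) (X.presheaf.stalk x))).IsPrime :=
    Ideal.comap_isPrime _ 𝔓
  -- the point of `U` corresponding to the contraction of `𝔓`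
  let y : PrimeSpectrum Γ(X, U.1) := ⟨𝔓.comap (algebraMap Γ(X, U.1) (X.presheaf.stalk x)), hp'prime⟩
  have hyU : hU.fromSpec y ∈ U.1 := by
    rw [← SetLike.mem_coe, ← hU.range_fromSpec]; exact ⟨y, rfl⟩
  have hprime : hU.primeIdealOf ⟨hU.fromSpec y, hyU⟩ = y := by
    apply hU.fromSpec.isOpenEmbedding.injective
    rw [hU.fromSpec_primeIdealOf ⟨hU.fromSpec y, hyU⟩]
  have hass : (hU.primeIdealOf ⟨hU.fromSpec y, hyU⟩).asIdeal ∈
      associatedPrimes Γ(X, U.1) (Γ(X, U.1) ⧸ 𝓘.ideal U) := by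
    rw [hprime]; exact hp'
  have hdim := dim_eq_one_of_ass 𝓘 h1 h2 U (hU.fromSpec y) hyU hass
  letI : Algebra Γ(X, U.1) (X.presheaf.stalk (hU.fromSpec y)) :=
    TopCat.Presheaf.algebra_section_stalk X.presheaf ⟨hU.fromSpec y, hyU⟩
  haveI := hU.isLocalization_stalk ⟨hU.fromSpec y, hyU⟩
  rw [IsLocalization.AtPrime.ringKrullDim_eq_height
    (hU.primeIdealOf ⟨hU.fromSpec y, hyU⟩).asIdeal (X.presheaf.stalk (hU.fromSpec y)),
    hprime] at hdim
  have h3 : (𝔓.comap (algebraMap Γ(X, U.1) (X.presheaf.stalk x))).height = 𝔓.height :=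
    IsLocalization.height_under (hU.primeIdealOf ⟨x, hx⟩).asIdeal.primeCompl 𝔓
  rw [← h3]
  exact_mod_cast hdim

end Geom

/-- Let X be a Noetherian scheme and 𝓘 a quasi-coherent ideal sheaf with closed subscheme Z such that
(1) Z has no embedded points: every point of Z whose local ring has its maximal ideal associated is
a maximal point of Z; (2) every maximal point of Z has codimension 1 in X (the local ring of X there
has dimension 1); (3) the local ring of X at every point of Z is a unique factorisation domain. Then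
𝓘 is the ideal sheaf of an effective Cartier divisor. -/
theorem result (X : Scheme.{u}) [IsNoetherian X] (𝓘 : X.IdealSheafData)
    (h1 : ∀ z : ↥𝓘.subscheme, IsAssociatedPrime (IsLocalRing.maximalIdeal ↑(𝓘.subscheme.presheaf.stalk z)) ↑(𝓘.subscheme.presheaf.stalk z) → ∀ z' : ↥𝓘.subscheme, z' ⤳ z → z' = z)
    (h2 : ∀ z : ↥𝓘.subscheme, (∀ z' : ↥𝓘.subscheme, z' ⤳ z → z' = z) →
      ringKrullDim (X.presheaf.stalk (𝓘.subschemeι z)) = 1)
    (h3 : ∀ x : ↥X, x ∈ 𝓘.support → IsDomain (X.presheaf.stalk x) ∧ UniqueFactorizationMonoid (X.presheaf.stalk x)) :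
    BlowUp.IsEffCartierIdeal 𝓘 := by
  haveI : IsLocallyNoetherian X := inferInstance
  apply Groth.Agent.S1570.result X 𝓘
  intro x hx U hxU
  obtain ⟨hdom, hufd⟩ := h3 x hx
  haveI := hdom
  haveI := hufd
  have H : ∀ 𝔓 ∈ associatedPrimes (X.presheaf.stalk x)
      (X.presheaf.stalk x ⧸ (𝓘.ideal U).map (X.presheaf.germ U.1 x hxU).hom), 𝔓.height = 1 :=
    fun 𝔓 h𝔓 => height_eq_one 𝓘 h1 h2 U x hxU 𝔓 h𝔓
  have hne : (𝓘.ideal U).map (X.presheaf.germ U.1 x hxU).hom ≠ ⊥ := by
    intro h0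
    rw [h0] at H
    have hbot : (⊥ : Ideal (X.presheaf.stalk x)) ∈ associatedPrimes (X.presheaf.stalk x)
        (X.presheaf.stalk x ⧸ (⊥ : Ideal (X.presheaf.stalk x))) := by
      refine ⟨Ideal.isPrime_bot, 1, ?_⟩
      ext a
      simp only [Ideal.mem_bot, Ideal.mem_radical_iff, Submodule.mem_colon_singleton,
        Submodule.mem_bot]
      constructor
      · rintro rfl
        exact ⟨1, by simp⟩
      · rintro ⟨n, hn⟩
        have h1' : a ^ n ∈ (⊥ : Ideal (X.presheaf.stalk x)) := by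
          rw [← Ideal.Quotient.eq_zero_iff_mem]
          simpa [Algebra.smul_def] using hn
        exact pow_eq_zero_iff (fun h => by
          subst h
          rw [pow_zero] at h1'
          exact one_ne_zero h1') |>.mp h1'
    have := H ⊥ hbot
    simp at this
  obtain ⟨y, hyI, hy0⟩ := Submodule.exists_mem_ne_zero_of_ne_bot hne
  obtain ⟨g, hg⟩ := Groth.Agent.S8854.principal_of_ass_height_one y _ H hyI hy0
  refine ⟨g, mem_nonZeroDivisors_of_ne_zero (fun h => hne ?_), hg⟩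
  rw [hg, h]
  exact Ideal.span_singleton_eq_bot.mpr rfl

end Groth.Agent.S1700
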