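import Groth.Statements.S17004
import Groth.Agent.Lib.OrthCentre51
import Groth.Agent.Lib.OrthCentre51b

set_option autoImplicit false
universe u
open scoped TensorProduct
open QuadGrp

namespace Groth.Agent.S17004

open Groth.Agent.Lib.OrthCentre51 QuadraticMap

/-- Commuting with all reflections gives the reflection identity. -/
theorem refl_identity {R : Type u} [CommRing R] {M : Type u} [AddCommGroup M] [Module R M]
    [Module.Free R M] (Q : QuadraticForm R M) (g : M ≃ₗ[R] M)
    (A : Type u) [CommRing A] [Algebra R A]
    (hyp : ∀ h ∈ QuadGrp.orth Q A, g.baseChange R A M M * h = h * g.baseChange R A M M)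
    (v : A ⊗[R] M) (u : Aˣ) (hu : QuadGrp.baseChangeForm A Q v = u) (z : A ⊗[R] M) :
    polar (QuadGrp.baseChangeForm A Q) v z • g.baseChange R A M M v =
      polar (QuadGrp.baseChangeForm A Q) v (g.baseChange R A M M z) • v := by
  have hcomm := hyp _ (reflection_mem_orth Q A v u hu)
  have h1 := LinearEquiv.congr_fun hcomm z
  rw [LinearEquiv.mul_apply, LinearEquiv.mul_apply, reflection_apply, reflection_apply,
    map_sub, map_smul, sub_right_inj] at h1
  have h2 := congrArg (fun w => (u : A) • w) h1
  simp only [smul_smul] at h2
  rwa [← mul_assoc, ← mul_assoc, Units.mul_inv, one_mul, one_mul] at h2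

/-- Let Q be a non-degenerate quadratic form on R^n, n ≥ 3, over a commutative ring R (perfect polar
pairing for even n, unit half-discriminant in the standard basis for odd n). An isometry g of Q
commutes, after base change to every R-algebra A, with every isometry of Q_A if and only if g is
multiplication by a scalar whose square is one. (Points-level form of: the functorial centre of the
orthogonal group is the central μ₂; the algebras range over the universe of R, which contains the
coordinate ring of the orthogonal group.) -/
theorem result (R : Type u) [CommRing R] (n : ℕ) (hn : 3 ≤ n)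
    (Q : QuadraticForm R (Fin n → R))
    (hQ : QuadGrp.IsNondeg (Pi.basisFun R (Fin n)) (LinearEquiv.refl R R) Q)
    (g : (Fin n → R) ≃ₗ[R] (Fin n → R)) (hg : g ∈ QuadGrp.O Q) :
    (∀ (A : Type u) [CommRing A] [Algebra R A], ∀ h ∈ QuadGrp.orth Q A,
        g.baseChange R A (Fin n → R) (Fin n → R) * h = h * g.baseChange R A (Fin n → R) (Fin n → R)) ↔
      ∃ c : R, c * c = 1 ∧ ∀ v, g v = c • v := by
  have hE := span_polar_eq_top n (by omega) Q hQ
  constructor
  · intro hyp
    have hS : Ideal.span (Set.range Q) = ⊤ := by
      rw [eq_top_iff, ← hE, Ideal.span_le]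
      rintro _ ⟨⟨x, y⟩, rfl⟩
      simp only [polar]
      exact sub_mem (sub_mem (Ideal.subset_span ⟨_, rfl⟩) (Ideal.subset_span ⟨_, rfl⟩))
        (Ideal.subset_span ⟨_, rfl⟩)
    have T4 : ∀ (x z : Fin n → R) (j : Fin n),
        polar Q x z * g x j = polar Q x (g z) * x j := by
      intro x z j
      rw [← sub_eq_zero]
      apply eq_zero_of_pow_mul _ hS
      rintro _ ⟨v₀, rfl⟩
      exact key Q g (fun A _ _ v u hu z => refl_identity Q g A (hyp A) v u hu z) v₀ x z j
    exact scalar_of_T4 n (by omega) Q g ((QuadGrp.mem_O Q g).mp hg) hE T4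
  · rintro ⟨c, _, hc⟩ A _ _ h _
    have hgA : ∀ w : A ⊗[R] (Fin n → R), g.baseChange R A (Fin n → R) (Fin n → R) w = c • w := by
      intro w
      induction w using TensorProduct.induction_on with
      | zero => simp
      | tmul a m => rw [LinearEquiv.baseChange_tmul, hc, TensorProduct.tmul_smul]
      | add x y hx hy => rw [map_add, hx, hy, smul_add]
    ext w
    rw [LinearEquiv.mul_apply, LinearEquiv.mul_apply, hgA, hgA, ← algebraMap_smul A c,
      ← algebraMap_smul A c w, map_smul]

end Groth.Agent.S17004
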