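import Groth.Statements.S17005
import Groth.Agent.Lib.OrthCentre51
import Groth.Agent.Lib.OrthCentre51b
import Groth.Agent.Lib.OrthCentre51c

set_option autoImplicit false
universe u
open scoped TensorProduct
open QuadGrp

namespace Groth.Agent.S17005

open Groth.Agent.Lib.OrthCentre51 QuadraticMap

/-- Membership in `SO′(q)(A)`. -/
theorem mem_sorth'_iff {R : Type u} [CommRing R] {M : Type u} [AddCommGroup M] [Module R M]
    [Module.Free R M] (Q : QuadraticForm R M) (A : Type u) [CommRing A] [Algebra R A]
    (h : (A ⊗[R] M) ≃ₗ[A] (A ⊗[R] M)) :
    h ∈ QuadGrp.sorth' Q A ↔ h ∈ QuadGrp.orth Q A ∧ LinearEquiv.det h = 1 := by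
  rw [QuadGrp.sorth', QuadGrp.SO', Subgroup.mem_inf, MonoidHom.mem_ker]
  rfl

/-- Let Q be a non-degenerate quadratic form on R^n, n ≥ 3, over a commutative ring R (perfect polar
pairing for even n, unit half-discriminant in the standard basis for odd n). An isometry g of Q of
determinant one commutes, after base change to every R-algebra A, with every determinant-one
isometry of Q_A if and only if g is multiplication by a scalar whose square is one; for odd n such a
scalar is 1 because the determinant of g is its n-th power. (Points-level form of: the functorial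
centre of the naive special orthogonal group is the central μ₂ for even rank and trivial for odd
rank.) -/
theorem result (R : Type u) [CommRing R] (n : ℕ) (hn : 3 ≤ n)
    (Q : QuadraticForm R (Fin n → R))
    (hQ : QuadGrp.IsNondeg (Pi.basisFun R (Fin n)) (LinearEquiv.refl R R) Q)
    (g : (Fin n → R) ≃ₗ[R] (Fin n → R)) (hg : g ∈ QuadGrp.SO' Q) :
    (∀ (A : Type u) [CommRing A] [Algebra R A], ∀ h ∈ QuadGrp.sorth' Q A,
        g.baseChange R A (Fin n → R) (Fin n → R) * h = h * g.baseChange R A (Fin n → R) (Fin n → R)) ↔
      ∃ c : R, c * c = 1 ∧ ∀ v, g v = c • v := by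
  have hE := span_polar_eq_top n (by omega) Q hQ
  have hgO : ∀ v, Q (g v) = Q v := (QuadGrp.mem_O Q g).mp hg.1
  have hS : Ideal.span (Set.range Q) = ⊤ := by
    rw [eq_top_iff, ← hE, Ideal.span_le]
    rintro _ ⟨⟨x, y⟩, rfl⟩
    simp only [polar]
    exact sub_mem (sub_mem (Ideal.subset_span ⟨_, rfl⟩) (Ideal.subset_span ⟨_, rfl⟩))
      (Ideal.subset_span ⟨_, rfl⟩)
  constructor
  · intro hyp
    rcases Nat.even_or_odd n with heven | hodd
    · -- even rank: products of two reflections
      have L : ∀ (x y z : Fin n → R) (j : Fin n),
          polar Q x z * g y j - polar Q y z * g x j =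
            polar Q x (g z) * y j - polar Q y (g z) * x j := by
        intro x y z j
        rw [← sub_eq_zero]
        apply eq_zero_of_pow_mul _ hS
        rintro _ ⟨v₀, rfl⟩
        refine key2 Q g (fun A _ _ v v' u u' hu hu' => ?_) v₀ x y z j
        apply hyp A
        rw [mem_sorth'_iff]
        refine ⟨Subgroup.mul_mem _ (reflection_mem_orth Q A v u hu)
          (reflection_mem_orth Q A v' u' hu'), ?_⟩
        rw [map_mul, det_reflection, det_reflection]
        simp
      exact scalar_of_lie n hn Q (hQ.1 heven) g hgO L
    · -- odd rank: minus a reflection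
      have T4 : ∀ (x z : Fin n → R) (j : Fin n),
          polar Q x z * g x j = polar Q x (g z) * x j := by
        intro x z j
        rw [← sub_eq_zero]
        apply eq_zero_of_pow_mul _ hS
        rintro _ ⟨v₀, rfl⟩
        refine key Q g (fun A _ _ v u hu z => ?_) v₀ x z j
        apply refl_identity' (QuadGrp.baseChangeForm A Q) _ v u hu
        apply comm_of_comm_neg
        apply hyp A
        rw [mem_sorth'_iff]
        constructor
        · rw [mem_orth_iff]
          intro w
          rw [LinearEquiv.mul_apply, LinearEquiv.neg_apply, QuadraticMap.map_neg,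
            reflection_isometry]
        · rw [map_mul, det_reflection, det_neg_baseChange, hodd.neg_one_pow]
          simp
      exact scalar_of_T4 n (by omega) Q g hgO hE T4
  · rintro ⟨c, _, hc⟩ A _ _ h _
    have hgA : ∀ w : A ⊗[R] (Fin n → R), g.baseChange R A (Fin n → R) (Fin n → R) w = c • w := by
      intro w
      induction w using TensorProduct.induction_on with
      | zero => simp
      | tmul a m => rw [LinearEquiv.baseChange_tmul, hc, TensorProduct.tmul_smul]
      | add x y hx hy => rw [map_add, hx, hy, smul_add]
    ext w
    rw [LinearEquiv.mul_apply, LinearEquiv.mul_apply, hgA, hgA, ← algebraMap_smul A c,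
      ← algebraMap_smul A c w, map_smul]

end Groth.Agent.S17005
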