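import Groth.Statements.S17006
import Groth.Agent.Lib.OrthCentre38

set_option autoImplicit false
universe u
open scoped TensorProduct
open QuadGrp

namespace Groth.Agent.S17006

open Groth.Agent.Lib.OrthCentre51 Groth.Agent.Lib.OrthCentre38 QuadraticMap

/-- Let Q be a quadratic form on R^{2m}, m ≥ 2, over a commutative ring R, whose polar form is a perfect
pairing. An isometry g of Q satisfying the Dickson condition commutes, after base change to every
R-algebra A, with every isometry of Q_A satisfying the Dickson condition if and only if g is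
multiplication by a scalar whose square is one. (Points-level form of: for even rank at least 4 the
functorial centre of the special orthogonal group is the central μ₂ and coincides with that of the
naive one.) -/
theorem result (R : Type u) [CommRing R] (m : ℕ) (hm : 2 ≤ m)
    (Q : QuadraticForm R (Fin (2 * m) → R)) (hQ : QuadGrp.IsRegular Q)
    (g : (Fin (2 * m) → R) ≃ₗ[R] (Fin (2 * m) → R)) (hg : g ∈ QuadGrp.SO Q) :
    (∀ (A : Type u) [CommRing A] [Algebra R A], ∀ h ∈ QuadGrp.sorth Q A,
        g.baseChange R A (Fin (2 * m) → R) (Fin (2 * m) → R) * h = h * g.baseChange R A (Fin (2 * m) → R) (Fin (2 * m) → R)) ↔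
      ∃ c : R, c * c = 1 ∧ ∀ v, g v = c • v := by
  have hS : Ideal.span (Set.range Q) = ⊤ := by
    obtain ⟨x, hx⟩ := hQ.2 (LinearMap.proj (⟨0, by omega⟩ : Fin (2 * m)))
    have h1 : polar Q x (Pi.single (⟨0, by omega⟩ : Fin (2 * m)) 1) = 1 := by
      have := LinearMap.congr_fun hx (Pi.single (⟨0, by omega⟩ : Fin (2 * m)) 1)
      simpa using this
    rw [Ideal.eq_top_iff_one, ← h1, polar]
    exact sub_mem (sub_mem (Ideal.subset_span ⟨_, rfl⟩) (Ideal.subset_span ⟨_, rfl⟩))
      (Ideal.subset_span ⟨_, rfl⟩)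
  have hgO : ∀ v, Q (g v) = Q v := by
    unfold QuadGrp.SO at hg
    split_ifs at hg
    · obtain ⟨hO, _⟩ := hg
      exact hO
    · exact hg.1
  constructor
  · intro hyp
    have T : ∀ (y y' z₁ z₂ : Fin (2 * m) → R) (i j k : Fin (2 * m)),
        (polar Q y' z₂ * polar Q y z₁ - polar Q y' z₁ * polar Q y z₂) * det3 (g y) y y' i j k = 0 := by
      intro y y' z₁ z₂ i j k
      apply eq_zero_of_pow_mul _ hS
      rintro _ ⟨v₀, rfl⟩
      refine key38 Q g (fun A _ _ v w u₁ u₂ h₁ h₂ z₀ hz => ?_) v₀ y y' z₁ z₂ i j k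
      exact comm_reflection_mul _ _ v w u₁ u₂ h₁ h₂
        (hyp A _ (reflection_mul_mem_sorth m Q A v w u₁ u₂ h₁ h₂)) z₀ hz
    exact scalar_of_det3 (2 * m) (by omega) Q hQ g hgO T
  · rintro ⟨c, _, hc⟩ A _ _ h _
    have hgA : ∀ w : A ⊗[R] (Fin (2 * m) → R),
        g.baseChange R A (Fin (2 * m) → R) (Fin (2 * m) → R) w = c • w := by
      intro w
      induction w using TensorProduct.induction_on with
      | zero => simp
      | tmul a m => rw [LinearEquiv.baseChange_tmul, hc, TensorProduct.tmul_smul]
      | add x y hx hy => rw [map_add, hx, hy, smul_add]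
    ext w
    rw [LinearEquiv.mul_apply, LinearEquiv.mul_apply, hgA, hgA, ← algebraMap_smul A c,
      ← algebraMap_smul A c w, map_smul]

end Groth.Agent.S17006
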