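import Groth.Statements.S1701
import Groth.Agent.Lib.RelCartier
import Groth.Agent.Lib.FlatNakayama
import Mathlib.RingTheory.Flat.Localization
import Mathlib.RingTheory.Localization.Ideal

set_option autoImplicit false
universe u
open CategoryTheory CategoryTheory.Limits AlgebraicGeometry TopologicalSpace
open SDiv

namespace Groth.Agent.S1701

open Groth.Agent.Lib.RelCartier Groth.Agent.Lib.FlatNakayama in
theorem flat_stalkMap_of_local {X S : Scheme.{u}} (f : X ⟶ S) (T : S.affineOpens)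
    (V : X.affineOpens) (e : V.1 ≤ f ⁻¹ᵁ T.1) (x : V.1)
    (b : Γ(X, V.1)) (hb : b ∈ nonZeroDivisors Γ(X, V.1))
    (hbx : ¬ IsUnit (X.presheaf.germ V.1 x.1 x.2 b))
    (hflat : letI := (f.appLE T.1 V.1 e).hom.toAlgebra
      Module.Flat Γ(S, T.1) (Γ(X, V.1) ⧸ Ideal.span {b}))
    [IsNoetherianRing (X.presheaf.stalk x.1)] : (f.stalkMap x.1).hom.Flat := by
  let φ : Γ(S, T.1) →+* Γ(X, V.1) := (f.appLE T.1 V.1 e).hom
  letI algRA : Algebra Γ(S, T.1) Γ(X, V.1) := φ.toAlgebra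
  letI algRB : Algebra Γ(S, T.1) (X.presheaf.stalk x.1) :=
    ((algebraMap Γ(X, V.1) (X.presheaf.stalk x.1)).comp φ).toAlgebra
  haveI : IsScalarTower Γ(S, T.1) Γ(X, V.1) (X.presheaf.stalk x.1) :=
    IsScalarTower.of_algebraMap_eq (fun r => rfl)
  haveI := V.2.isLocalization_stalk x
  have hAB : Module.Flat Γ(X, V.1) (X.presheaf.stalk x.1) :=
    IsLocalization.flat _ (V.2.primeIdealOf x).asIdeal.primeCompl
  set h : X.presheaf.stalk x.1 := algebraMap Γ(X, V.1) (X.presheaf.stalk x.1) b with hh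
  have hreg : h ∈ nonZeroDivisors (X.presheaf.stalk x.1) :=
    map_mem_nonZeroDivisors_of_flat _ (RingHom.flat_algebraMap_iff.mpr hAB) b hb
  have hjac : h ∈ Ideal.jacobson (⊥ : Ideal (X.presheaf.stalk x.1)) := by
    rw [IsLocalRing.jacobson_eq_maximalIdeal ⊥ bot_ne_top, IsLocalRing.mem_maximalIdeal]
    exact hbx
  -- flatness of the quotient of the stalk
  have hJ : (Ideal.span {b}).map (algebraMap Γ(X, V.1) (X.presheaf.stalk x.1)) =
      Ideal.span {h} := by
    rw [Ideal.map_span, Set.image_singleton]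
  haveI hq : Module.Flat Γ(S, T.1) (X.presheaf.stalk x.1 ⧸ Ideal.span {h}) := by
    rw [← hJ]
    haveI : Module.Flat Γ(S, T.1) (Γ(X, V.1) ⧸ Ideal.span {b}) := hflat
    haveI : Module.Flat (Γ(X, V.1) ⧸ Ideal.span {b})
        (X.presheaf.stalk x.1 ⧸ (Ideal.span {b}).map
          (algebraMap Γ(X, V.1) (X.presheaf.stalk x.1))) :=
      IsLocalization.flat _ (Algebra.algebraMapSubmonoid (Γ(X, V.1) ⧸ Ideal.span {b})
        (V.2.primeIdealOf x).asIdeal.primeCompl)
    haveI : IsScalarTower Γ(S, T.1) (Γ(X, V.1) ⧸ Ideal.span {b})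
        (X.presheaf.stalk x.1 ⧸ (Ideal.span {b}).map
          (algebraMap Γ(X, V.1) (X.presheaf.stalk x.1))) :=
      IsScalarTower.of_algebraMap_eq (fun r => rfl)
    exact Module.Flat.trans Γ(S, T.1) (Γ(X, V.1) ⧸ Ideal.span {b}) _
  have hRB : Module.Flat Γ(S, T.1) (X.presheaf.stalk x.1) :=
    flat_of_flat_quot_of_mem_jacobson h hreg hjac
  letI algRS : Algebra Γ(S, T.1) (S.presheaf.stalk (f x.1)) :=
    TopCat.Presheaf.algebra_section_stalk S.presheaf ⟨f x.1, e x.2⟩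
  letI algSB : Algebra (S.presheaf.stalk (f x.1)) (X.presheaf.stalk x.1) :=
    (f.stalkMap x.1).hom.toAlgebra
  haveI hloc : IsLocalization.AtPrime (S.presheaf.stalk (f x.1))
      (T.2.primeIdealOf ⟨f x.1, e x.2⟩).asIdeal := T.2.isLocalization_stalk ⟨f x.1, e x.2⟩
  haveI : IsScalarTower Γ(S, T.1) (S.presheaf.stalk (f x.1)) (X.presheaf.stalk x.1) := by
    apply IsScalarTower.of_algebraMap_eq
    intro r
    change X.presheaf.germ V.1 x.1 x.2 (f.appLE T.1 V.1 e r) =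
      f.stalkMap x.1 (S.presheaf.germ T.1 (f x.1) (e x.2) r)
    rw [Scheme.Hom.germ_stalkMap_apply, Scheme.Hom.appLE]
    rw [CommRingCat.comp_apply, TopCat.Presheaf.germ_res_apply]
  exact (Module.flat_iff_of_isLocalization (S.presheaf.stalk (f x.1))
    (T.2.primeIdealOf ⟨f x.1, e x.2⟩).asIdeal.primeCompl (X.presheaf.stalk x.1)).mpr hRB

/-- Let f : X ⟶ S be a morphism, 𝓘 the ideal sheaf of an effective Cartier divisor D ⊂ X such that D ⟶ S
is flat (a relative effective Cartier divisor), and x a point of D at which the local ring of X is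
Noetherian. Then f is flat at x. -/
theorem result {X S : Scheme.{u}} (f : X ⟶ S) (𝓘 : X.IdealSheafData)
    (hD : (BlowUp.IsEffCartierIdeal 𝓘 ∧ Flat (𝓘.subschemeι ≫ f))) (d : ↥𝓘.subscheme) [IsNoetherianRing (X.presheaf.stalk (𝓘.subschemeι d))] :
    (f.stalkMap (𝓘.subschemeι d)).hom.Flat := by
  obtain ⟨T, V, e, b, _, hxV, hb, -, hJ, -⟩ :=
    Groth.Agent.Lib.RelCartier.exists_local_data f 𝓘 𝓘 hD.1 hD.1 (𝓘.subschemeι d)
  have hfl := Groth.Agent.Lib.RelCartier.flat_quot_of_flat_subscheme f 𝓘 hD.2 T V e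
  rw [hJ] at hfl
  have hsupp : 𝓘.subschemeι d ∈ 𝓘.support := by
    have : 𝓘.subschemeι d ∈ Set.range 𝓘.subschemeι := ⟨d, rfl⟩
    rw [𝓘.range_subschemeι] at this
    exact this
  have hbx : ¬ IsUnit (X.presheaf.germ V.1 (𝓘.subschemeι d) hxV b) := by
    rw [Scheme.IdealSheafData.mem_support_iff_of_mem hxV, Scheme.mem_zeroLocus_iff] at hsupp
    have h1 := hsupp b (by rw [hJ]; exact Ideal.mem_span_singleton_self b)
    rwa [X.mem_basicOpen b (𝓘.subschemeι d) hxV] at h1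
  exact flat_stalkMap_of_local f T V e ⟨𝓘.subschemeι d, hxV⟩ b hb hbx hfl

end Groth.Agent.S1701
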