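-- Statement S17016.
import Groth.Statements.S17016
import Mathlib

set_option autoImplicit false
universe u
open QuadGrp

namespace Groth.Agent.S17016

theorem list_prod_sq {A : Type*} [Ring A] {ι : Type*} (u : ι → A) (L : List ι)
    (hsq : ∀ i ∈ L, u i * u i = 1) (hcomm : ∀ i ∈ L, ∀ i' ∈ L, Commute (u i) (u i')) :
    (L.map u).prod * (L.map u).prod = 1 := by
  induction L with
  | nil => simp
  | cons i L ih =>
    have hP : Commute (u i) (L.map u).prod := by
      apply Commute.list_prod_right
      intro x hx
      obtain ⟨i', hi', rfl⟩ := List.mem_map.mp hx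
      exact hcomm i (by simp) i' (by simp [hi'])
    have ih' := ih (fun i hi => hsq i (by simp [hi]))
      (fun i hi i' hi' => hcomm i (by simp [hi]) i' (by simp [hi']))
    rw [List.map_cons, List.prod_cons]
    calc u i * (L.map u).prod * (u i * (L.map u).prod)
        = u i * ((L.map u).prod * u i) * (L.map u).prod := by noncomm_ring
      _ = u i * (u i * (L.map u).prod) * (L.map u).prod := by rw [hP.eq]
      _ = (u i * u i) * ((L.map u).prod * (L.map u).prod) := by noncomm_ring
      _ = 1 := by rw [hsq i (by simp), ih', one_mul]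

theorem list_prod_anticomm {A : Type*} [Ring A] {ι : Type*} (u : ι → A) (x : A) (i₀ : ι)
    (hanti : x * u i₀ = -(u i₀ * x)) (hcomm : ∀ i, i ≠ i₀ → Commute x (u i)) :
    ∀ L : List ι, L.Nodup → (i₀ ∈ L → x * (L.map u).prod = -((L.map u).prod * x)) ∧
      (i₀ ∉ L → Commute x (L.map u).prod) := by
  intro L
  induction L with
  | nil => intro _; simp
  | cons i L ih =>
    intro hnd
    rw [List.nodup_cons] at hnd
    obtain ⟨ih1, ih2⟩ := ih hnd.2
    constructor
    · intro hmem
      rw [List.map_cons, List.prod_cons]
      by_cases hi : i = i₀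
      · subst hi
        have hc := ih2 hnd.1
        calc x * (u i * (L.map u).prod) = (x * u i) * (L.map u).prod := by noncomm_ring
          _ = -(u i * x) * (L.map u).prod := by rw [hanti]
          _ = -(u i * (x * (L.map u).prod)) := by noncomm_ring
          _ = -(u i * ((L.map u).prod * x)) := by rw [hc.eq]
          _ = -(u i * (L.map u).prod * x) := by noncomm_ring
      · have hmem' : i₀ ∈ L := by
          rcases List.mem_cons.mp hmem with h | h
          · exact absurd h.symm hi
          · exact h
        have h1 := ih1 hmem'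
        have hc := hcomm i hi
        calc x * (u i * (L.map u).prod) = (x * u i) * (L.map u).prod := by noncomm_ring
          _ = (u i * x) * (L.map u).prod := by rw [hc.eq]
          _ = u i * (x * (L.map u).prod) := by noncomm_ring
          _ = u i * (-((L.map u).prod * x)) := by rw [h1]
          _ = -(u i * (L.map u).prod * x) := by noncomm_ring
    · intro hmem
      rw [List.mem_cons, not_or] at hmem
      rw [List.map_cons, List.prod_cons]
      exact (hcomm i (fun h => hmem.1 h.symm)).mul_right (ih2 hmem.2)

theorem splitForm_apply (R : Type u) [CommRing R] (m : ℕ) (v : Fin (m * 2) → R) :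
    QuadGrp.splitForm R (m * 2) v =
      ∑ i : Fin (m * 2 / 2), v ⟨2 * i + (m * 2) % 2, by omega⟩ * v ⟨2 * i + 1 + (m * 2) % 2, by omega⟩ := by
  simp [QuadGrp.splitForm]

theorem splitForm_single (R : Type u) [CommRing R] (m : ℕ) (j : Fin (m * 2)) :
    QuadGrp.splitForm R (m * 2) (Pi.single j 1) = 0 := by
  rw [splitForm_apply]
  apply Finset.sum_eq_zero
  intro i _
  simp only [Pi.single_apply, Fin.ext_iff]
  split_ifs <;> first | (exfalso; omega) | simp

theorem splitForm_single_add_single_of_ne (R : Type u) [CommRing R] (m : ℕ) (j k : Fin (m * 2))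
    (h : j.val / 2 ≠ k.val / 2) :
    QuadGrp.splitForm R (m * 2) (Pi.single j 1 + Pi.single k 1) = 0 := by
  rw [splitForm_apply]
  apply Finset.sum_eq_zero
  intro i _
  simp only [Pi.add_apply, Pi.single_apply, Fin.ext_iff]
  split_ifs <;> first | (exfalso; omega) | simp

theorem splitForm_single_add_single_pair (R : Type u) [CommRing R] (m : ℕ) (i : Fin m) :
    QuadGrp.splitForm R (m * 2) (Pi.single (finProdFinEquiv (i, (0 : Fin 2))) 1 +
      Pi.single (finProdFinEquiv (i, (1 : Fin 2))) 1) = 1 := by
  rw [splitForm_apply]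
  rw [Finset.sum_eq_single (⟨i.val, by omega⟩ : Fin (m * 2 / 2))]
  · simp only [Pi.add_apply, Pi.single_apply, Fin.ext_iff, finProdFinEquiv_apply_val]
    simp only [Fin.val_zero, Fin.val_one]
    split_ifs <;> first | (exfalso; omega) | simp
  · intro b _ hb
    have hb' : b.val ≠ i.val := fun h => hb (Fin.ext h)
    simp only [Pi.add_apply, Pi.single_apply, Fin.ext_iff, finProdFinEquiv_apply_val]
    simp only [Fin.val_zero, Fin.val_one]
    split_ifs <;> first | (exfalso; omega) | simp
  · intro h; exact absurd (Finset.mem_univ _) h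

/-- For the standard split quadratic form Σ x_{2i} x_{2i+1} on R^{2m} over any commutative ring R, with
standard basis vectors e_j in the Clifford algebra, the product w of the elements 1 − 2 e_{2i}
e_{2i+1} (i < m, which pairwise commute) satisfies w² = 1 and anticommutes with every e_j. (Hence w
is central in the even Clifford algebra; over rings in which 2 is invertible (1 − w)/2 is the
non-trivial central idempotent of the even part.) -/
theorem result (R : Type u) [CommRing R] (m : ℕ) :
    let Q := QuadGrp.splitForm R (m * 2)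
    let e : Fin (m * 2) → CliffordAlgebra Q := fun j => CliffordAlgebra.ι Q (Pi.single j 1)
    let w : CliffordAlgebra Q :=
      ((List.finRange m).map fun i => 1 - 2 * (e (finProdFinEquiv (i, 0)) * e (finProdFinEquiv (i, 1)))).prod
    w * w = 1 ∧ ∀ j : Fin (m * 2), e j * w = -(w * e j) := by
  intro Q e w
  have hsq : ∀ j, e j * e j = 0 := by
    intro j
    show CliffordAlgebra.ι Q _ * CliffordAlgebra.ι Q _ = 0
    rw [CliffordAlgebra.ι_sq_scalar, splitForm_single, map_zero]
  have hanti : ∀ j k : Fin (m * 2), j.val / 2 ≠ k.val / 2 → e j * e k = -(e k * e j) := by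
    intro j k h
    apply CliffordAlgebra.ι_mul_ι_comm_of_isOrtho
    show Q (_ + _) = Q _ + Q _
    rw [splitForm_single_add_single_of_ne R m j k h, splitForm_single, splitForm_single, add_zero]
  have hpair : ∀ i : Fin m, e (finProdFinEquiv (i, 0)) * e (finProdFinEquiv (i, 1)) +
      e (finProdFinEquiv (i, 1)) * e (finProdFinEquiv (i, 0)) = 1 := by
    intro i
    show CliffordAlgebra.ι Q _ * CliffordAlgebra.ι Q _ + CliffordAlgebra.ι Q _ * CliffordAlgebra.ι Q _ = 1
    rw [CliffordAlgebra.ι_mul_ι_add_swap, QuadraticMap.polar, splitForm_single_add_single_pair,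
      splitForm_single, splitForm_single]
    simp
  set u : Fin m → CliffordAlgebra Q :=
    fun i => 1 - 2 * (e (finProdFinEquiv (i, 0)) * e (finProdFinEquiv (i, 1))) with hu
  have hw : w = ((List.finRange m).map u).prod := rfl
  have hba : ∀ i : Fin m, e (finProdFinEquiv (i, 1)) * e (finProdFinEquiv (i, 0)) =
      1 - e (finProdFinEquiv (i, 0)) * e (finProdFinEquiv (i, 1)) := fun i =>
    eq_sub_of_add_eq' (hpair i)
  have hG1 : ∀ i, u i * u i = 1 := by
    intro i
    have habab : e (finProdFinEquiv (i, 0)) * e (finProdFinEquiv (i, 1)) *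
        (e (finProdFinEquiv (i, 0)) * e (finProdFinEquiv (i, 1))) =
        e (finProdFinEquiv (i, 0)) * e (finProdFinEquiv (i, 1)) := by
      calc e (finProdFinEquiv (i, 0)) * e (finProdFinEquiv (i, 1)) *
          (e (finProdFinEquiv (i, 0)) * e (finProdFinEquiv (i, 1)))
          = e (finProdFinEquiv (i, 0)) * (e (finProdFinEquiv (i, 1)) * e (finProdFinEquiv (i, 0))) *
            e (finProdFinEquiv (i, 1)) := by noncomm_ring
        _ = e (finProdFinEquiv (i, 0)) * e (finProdFinEquiv (i, 1)) -
            (e (finProdFinEquiv (i, 0)) * e (finProdFinEquiv (i, 0))) *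
            (e (finProdFinEquiv (i, 1)) * e (finProdFinEquiv (i, 1))) := by rw [hba]; noncomm_ring
        _ = e (finProdFinEquiv (i, 0)) * e (finProdFinEquiv (i, 1)) := by rw [hsq]; simp
    calc u i * u i = 1 - 4 * (e (finProdFinEquiv (i, 0)) * e (finProdFinEquiv (i, 1))) +
          4 * (e (finProdFinEquiv (i, 0)) * e (finProdFinEquiv (i, 1)) *
            (e (finProdFinEquiv (i, 0)) * e (finProdFinEquiv (i, 1)))) := by
          simp only [hu]; noncomm_ring
      _ = 1 := by rw [habab]; noncomm_ring
  have hG2 : ∀ i, e (finProdFinEquiv (i, 0)) * u i = -(u i * e (finProdFinEquiv (i, 0))) ∧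
      e (finProdFinEquiv (i, 1)) * u i = -(u i * e (finProdFinEquiv (i, 1))) := by
    intro i
    constructor
    · calc e (finProdFinEquiv (i, 0)) * u i
          = e (finProdFinEquiv (i, 0)) - 2 * ((e (finProdFinEquiv (i, 0)) * e (finProdFinEquiv (i, 0))) *
            e (finProdFinEquiv (i, 1))) := by simp only [hu]; noncomm_ring
        _ = e (finProdFinEquiv (i, 0)) := by rw [hsq]; simp
        _ = -(e (finProdFinEquiv (i, 0)) - 2 * e (finProdFinEquiv (i, 0)) +
            2 * ((e (finProdFinEquiv (i, 0)) * e (finProdFinEquiv (i, 0))) * e (finProdFinEquiv (i, 1)))) := by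
          rw [hsq]; noncomm_ring
        _ = -(e (finProdFinEquiv (i, 0)) - 2 * (e (finProdFinEquiv (i, 0)) *
            (1 - e (finProdFinEquiv (i, 0)) * e (finProdFinEquiv (i, 1))))) := by noncomm_ring
        _ = -(u i * e (finProdFinEquiv (i, 0))) := by rw [← hba]; simp only [hu]; noncomm_ring
    · calc e (finProdFinEquiv (i, 1)) * u i
          = e (finProdFinEquiv (i, 1)) - 2 * ((e (finProdFinEquiv (i, 1)) * e (finProdFinEquiv (i, 0))) *
            e (finProdFinEquiv (i, 1))) := by simp only [hu]; noncomm_ring
        _ = e (finProdFinEquiv (i, 1)) - 2 * ((1 - e (finProdFinEquiv (i, 0)) * e (finProdFinEquiv (i, 1))) *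
            e (finProdFinEquiv (i, 1))) := by rw [hba]
        _ = -e (finProdFinEquiv (i, 1)) + 2 * (e (finProdFinEquiv (i, 0)) *
            (e (finProdFinEquiv (i, 1)) * e (finProdFinEquiv (i, 1)))) := by noncomm_ring
        _ = -(e (finProdFinEquiv (i, 1)) - 2 * (e (finProdFinEquiv (i, 0)) *
            (e (finProdFinEquiv (i, 1)) * e (finProdFinEquiv (i, 1))))) := by
          rw [hsq]; noncomm_ring
        _ = -(u i * e (finProdFinEquiv (i, 1))) := by simp only [hu]; noncomm_ring
  have hG3 : ∀ (j : Fin (m * 2)) (i : Fin m), j.val / 2 ≠ i.val → Commute (e j) (u i) := by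
    intro j i hji
    have h0 : e j * e (finProdFinEquiv (i, 0)) = -(e (finProdFinEquiv (i, 0)) * e j) := by
      apply hanti
      rw [finProdFinEquiv_apply_val]
      simp only [Fin.val_zero]
      omega
    have h1 : e j * e (finProdFinEquiv (i, 1)) = -(e (finProdFinEquiv (i, 1)) * e j) := by
      apply hanti
      rw [finProdFinEquiv_apply_val]
      simp only [Fin.val_one]
      omega
    show e j * u i = u i * e j
    calc e j * u i = e j - 2 * ((e j * e (finProdFinEquiv (i, 0))) * e (finProdFinEquiv (i, 1))) := by
          simp only [hu]; noncomm_ring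
      _ = e j + 2 * (e (finProdFinEquiv (i, 0)) * (e j * e (finProdFinEquiv (i, 1)))) := by
          rw [h0]; noncomm_ring
      _ = u i * e j := by rw [h1]; simp only [hu]; noncomm_ring
  have hG4 : ∀ i i' : Fin m, i ≠ i' → Commute (u i) (u i') := by
    intro i i' hii'
    have ha : Commute (e (finProdFinEquiv (i, 0))) (u i') := by
      apply hG3
      rw [finProdFinEquiv_apply_val]
      simp only [Fin.val_zero]
      have := Fin.val_ne_of_ne hii'
      omega
    have hb : Commute (e (finProdFinEquiv (i, 1))) (u i') := by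
      apply hG3
      rw [finProdFinEquiv_apply_val]
      simp only [Fin.val_one]
      have := Fin.val_ne_of_ne hii'
      omega
    have hab : Commute (e (finProdFinEquiv (i, 0)) * e (finProdFinEquiv (i, 1))) (u i') := ha.mul_left hb
    show u i * u i' = u i' * u i
    calc u i * u i' = u i' - 2 * ((e (finProdFinEquiv (i, 0)) * e (finProdFinEquiv (i, 1))) * u i') := by
          simp only [hu]; noncomm_ring
      _ = u i' - 2 * (u i' * (e (finProdFinEquiv (i, 0)) * e (finProdFinEquiv (i, 1)))) := by rw [hab.eq]
      _ = u i' * u i := by simp only [hu]; noncomm_ring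
  refine ⟨?_, ?_⟩
  · rw [hw]
    apply list_prod_sq u (List.finRange m) (fun i _ => hG1 i)
    intro i _ i' _
    by_cases h : i = i'
    · subst h; exact Commute.refl _
    · exact hG4 i i' h
  · intro j
    rw [hw]
    have hj2 : j.val / 2 < m := by have := j.2; omega
    have hanti' : e j * u ⟨j.val / 2, hj2⟩ = -(u ⟨j.val / 2, hj2⟩ * e j) := by
      rcases Nat.mod_two_eq_zero_or_one j.val with h | h
      · have hj : finProdFinEquiv ((⟨j.val / 2, hj2⟩ : Fin m), (0 : Fin 2)) = j := by
          apply Fin.ext
          rw [finProdFinEquiv_apply_val]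
          simp only [Fin.val_zero]
          omega
        have h2 := (hG2 ⟨j.val / 2, hj2⟩).1
        rw [hj] at h2
        exact h2
      · have hj : finProdFinEquiv ((⟨j.val / 2, hj2⟩ : Fin m), (1 : Fin 2)) = j := by
          apply Fin.ext
          rw [finProdFinEquiv_apply_val]
          simp only [Fin.val_one]
          omega
        have h2 := (hG2 ⟨j.val / 2, hj2⟩).2
        rw [hj] at h2
        exact h2
    exact (list_prod_anticomm u (e j) ⟨j.val / 2, hj2⟩ hanti'
      (fun i hi => hG3 j i (fun h => hi (Fin.ext h.symm))) (List.finRange m) (List.nodup_finRange m)).1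
      (List.mem_finRange _)

end Groth.Agent.S17016
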