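import Groth.Statements.S17018
-- import your own Groth.Agent.* helpers here
import Mathlib
import Groth.Agent.S2225
import Groth.Agent.Lib.FibreStalk33

set_option autoImplicit false
set_option linter.style.haveILetI false
universe u
open CategoryTheory CategoryTheory.Limits AlgebraicGeometry
open scoped TensorProduct
open Models

namespace Groth.Agent.S17018

open IsLocalRing

/-- the stalk at the generic point of an irreducible component has Krull dimension `0`. -/
lemma krullDimLE_zero_stalk {Xs : Scheme.{u}} (ξ : Xs)
    (hξ : closure ({ξ} : Set Xs) ∈ irreducibleComponents Xs) :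
    Ring.KrullDimLE 0 (Xs.presheaf.stalk ξ) := by
  apply krullDimLE_of_coheight_le
  have hmax : IsMax ξ := by
    intro b hb
    -- `ξ ≤ b` means `b ⤳ ξ`
    have h1 : b ⤳ ξ := hb
    have h2 : closure ({ξ} : Set Xs) ⊆ closure ({b} : Set Xs) :=
      (specializes_iff_closure_subset).mp h1
    have h3 : IsIrreducible (closure ({b} : Set Xs)) := isIrreducible_singleton.closure
    have h4 : closure ({b} : Set Xs) ⊆ closure ({ξ} : Set Xs) := hξ.2 h3 h2
    have h5 : ξ ⤳ b := specializes_iff_closure_subset.mpr h4
    exact h5
  rw [Order.coheight_eq_zero.mpr hmax]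
  simp

/-- the structure map `R → 𝒪_{X,x}` factors through the stalk map. -/
lemma toGlobal_germ {R : Type u} [CommRing R] {X : Scheme.{u}}
    (f : X ⟶ Spec (CommRingCat.of R)) (x : X) :
    (X.presheaf.germ ⊤ x trivial).hom.comp (Coh.toGlobal f) =
      (f.stalkMap x).hom.comp (AlgebraicGeometry.StructureSheaf.toStalk R (f x)).hom := by
  ext r
  change X.presheaf.germ ⊤ x trivial (f.appTop ((Scheme.ΓSpecIso (CommRingCat.of R)).inv r)) =
    f.stalkMap x ((Spec (CommRingCat.of R)).presheaf.germ ⊤ (f x) trivial
      ((Scheme.ΓSpecIso (CommRingCat.of R)).inv r))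
  rw [Scheme.Hom.germ_stalkMap_apply]
  rfl

/-- Let R be a discrete valuation ring with algebraically closed residue field and f : X → Spec R a
proper flat morphism whose generic fibre (base change to the fraction field of R) is smooth of
relative dimension 1 and connected and whose special fibre (base change to the residue field) is
connected and reduced; let ξ be the generic point of an irreducible component of the special fibre
and B a discrete valuation ring given with an isomorphism from the local ring of X at ξ under which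
R → B is the map induced by f. Then the maximal ideal of B is the extension of the maximal ideal of
R: a uniformizer of R maps to a uniformizer of B. (The published setting takes everything
essentially of finite type over a field of characteristic zero; the printed argument does not use
this and it is not imposed here.) -/
theorem result
    (R : Type u) [CommRing R] [IsDomain R] [IsDiscreteValuationRing R]
    [IsAlgClosed (IsLocalRing.ResidueField R)]
    (X : Scheme.{u}) (f : X ⟶ Spec (CommRingCat.of R)) [IsProper f] [Flat f]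
    (XK : Scheme.{u}) (gK : XK ⟶ X) (fK : XK ⟶ Spec (CommRingCat.of (FractionRing R)))
    (hK : IsPullback gK fK f (Spec.map (CommRingCat.ofHom (algebraMap R (FractionRing R)))))
    [SmoothOfRelativeDimension 1 fK] [ConnectedSpace XK]
    (Xs : Scheme.{u}) (gs : Xs ⟶ X) (fs : Xs ⟶ Spec (CommRingCat.of (IsLocalRing.ResidueField R)))
    (hs : IsPullback gs fs f (Spec.map (CommRingCat.ofHom (IsLocalRing.residue R))))
    [ConnectedSpace Xs] [IsReduced Xs]
    (ξ : Xs) (hξ : closure ({ξ} : Set Xs) ∈ irreducibleComponents Xs)
    (B : Type u) [CommRing B] [IsDomain B] [IsDiscreteValuationRing B] [Algebra R B]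
    (e : X.presheaf.stalk (gs.base ξ) ≅ CommRingCat.of B)
    (he : e.hom.hom.comp ((X.presheaf.germ ⊤ (gs.base ξ) trivial).hom.comp (Coh.toGlobal f)) =
      algebraMap R B) :
    IsLocalRing.maximalIdeal B = Ideal.map (algebraMap R B) (IsLocalRing.maximalIdeal R) := by
  -- the stalk of the special fibre at `ξ` is a field
  haveI := krullDimLE_zero_stalk ξ hξ
  have hfield : IsField (Xs.presheaf.stalk ξ) := Ring.KrullDimLE.isField_of_isReduced
  -- identify `Xs` with the fibre over the closed point
  set s₀ : Spec (CommRingCat.of R) := closedPoint R with hs₀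
  obtain ⟨ψ, hψ⟩ := Groth.Agent.S2225.exists_iso_fromSpecResidueField' (A := R) s₀ rfl
  have hs' : IsPullback gs (fs ≫ ψ.inv) f
      ((Spec (CommRingCat.of R)).fromSpecResidueField s₀) := by
    refine IsPullback.of_iso hs (Iso.refl _) (Iso.refl _) ψ.symm (Iso.refl _) ?_ ?_ ?_ ?_
    · simp
    · simp
    · simp
    · simp only [Iso.symm_hom, Iso.refl_hom, Category.comp_id, ← hψ, Iso.inv_hom_id_assoc]
      rfl
  let φ : Xs ≅ f.fiber s₀ := hs'.isoPullback
  have hφ : φ.hom ≫ f.fiberι s₀ = gs := hs'.isoPullback_hom_fst
  set z := φ.hom ξ with hz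
  have hzx : f.fiberι s₀ z = gs ξ := by
    rw [hz, ← Scheme.Hom.comp_apply, hφ]
  have hx' : f (gs ξ) = s₀ := by
    have h1 : gs ξ ∈ Set.range (f.fiberι s₀) := ⟨z, hzx⟩
    rw [Scheme.Hom.range_fiberι] at h1
    exact h1
  obtain ⟨e1⟩ := Groth.Agent.S2225.nonempty_fibreStalkEquiv f (gs ξ) s₀ hx' z hzx
  haveI : IsIso (φ.hom.stalkMap ξ) := inferInstance
  let e2 := (asIso (φ.hom.stalkMap ξ)).commRingCatIsoToRingEquiv
  -- the quotient is a field, so the ideal is maximal
  set I := Ideal.map (f.stalkMap (gs ξ)).hom
      (maximalIdeal ((Spec (CommRingCat.of R)).presheaf.stalk (f (gs ξ)))) with hI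
  have hfield' : IsField (X.presheaf.stalk (gs ξ) ⧸ I) :=
    (e1.trans e2).toMulEquiv.isField hfield
  have hImax : I.IsMaximal := Ideal.Quotient.maximal_of_isField I hfield'
  have hIeq : I = maximalIdeal (X.presheaf.stalk (gs ξ)) := IsLocalRing.eq_maximalIdeal hImax
  -- the maximal ideal of the stalk of `Spec R` at the closed point
  have hP : (f (gs ξ)).asIdeal = maximalIdeal R := by rw [hx']; rfl
  letI algL : Algebra R ((Spec (CommRingCat.of R)).presheaf.stalk (f (gs ξ))) :=
    AlgebraicGeometry.StructureSheaf.stalkAlgebra (R := R) (f (gs ξ))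
  haveI hlocz : IsLocalization.AtPrime ((Spec (CommRingCat.of R)).presheaf.stalk (f (gs ξ)))
      (f (gs ξ)).asIdeal :=
    AlgebraicGeometry.StructureSheaf.IsLocalization.to_stalk (R := R) (f (gs ξ))
  have hm : Ideal.map (AlgebraicGeometry.StructureSheaf.toStalk R (f (gs ξ))).hom (maximalIdeal R) =
      maximalIdeal ((Spec (CommRingCat.of R)).presheaf.stalk (f (gs ξ))) := by
    have := IsLocalization.AtPrime.map_eq_maximalIdeal (f (gs ξ)).asIdeal
      ((Spec (CommRingCat.of R)).presheaf.stalk (f (gs ξ)))
    rw [hP] at this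
    exact this
  -- assemble
  have h1 : Ideal.map ((X.presheaf.germ ⊤ (gs ξ) trivial).hom.comp (Coh.toGlobal f))
      (maximalIdeal R) = maximalIdeal (X.presheaf.stalk (gs ξ)) := by
    rw [toGlobal_germ, ← Ideal.map_map, ← hIeq]
    exact congrArg (Ideal.map (f.stalkMap (gs ξ)).hom) hm
  have h2 : Ideal.map e.hom.hom (maximalIdeal (X.presheaf.stalk (gs ξ))) = maximalIdeal B :=
    IsLocalRing.map_ringEquiv_maximalIdeal e.commRingCatIsoToRingEquiv
  rw [← he, ← Ideal.map_map, h1]
  exact h2.symm

end Groth.Agent.S17018
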