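import Groth.Statements.S1702
import Groth.Agent.Lib.RelCartier

set_option autoImplicit false
universe u
open CategoryTheory CategoryTheory.Limits AlgebraicGeometry TopologicalSpace
open SDiv

namespace Groth.Agent.S1702

/-- Let f : X ⟶ S be a morphism and 𝓘₁, 𝓘₂ ideal sheaves of effective Cartier divisors on X whose closed
subschemes are flat over S. Then the product ideal 𝓘₁𝓘₂ (the sum of the divisors) is again the ideal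
of an effective Cartier divisor flat over S. -/
theorem result {X S : Scheme.{u}} (f : X ⟶ S) (𝓘₁ 𝓘₂ : X.IdealSheafData)
    (h₁ : (BlowUp.IsEffCartierIdeal 𝓘₁ ∧ Flat (𝓘₁.subschemeι ≫ f))) (h₂ : (BlowUp.IsEffCartierIdeal 𝓘₂ ∧ Flat (𝓘₂.subschemeι ≫ f))) : (BlowUp.IsEffCartierIdeal (𝓘₁ * 𝓘₂) ∧ Flat ((𝓘₁ * 𝓘₂).subschemeι ≫ f)) := by
  have hmul : ∀ (V : X.affineOpens) (b₁ b₂ : Γ(X, V.1)), 𝓘₁.ideal V = Ideal.span {b₁} →
      𝓘₂.ideal V = Ideal.span {b₂} → (𝓘₁ * 𝓘₂).ideal V = Ideal.span {b₁ * b₂} := by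
    intro V b₁ b₂ e₁ e₂
    rw [Scheme.IdealSheafData.ideal_mul, Pi.mul_apply, e₁, e₂,
      Ideal.span_singleton_mul_span_singleton]
  constructor
  · intro x
    obtain ⟨T, V, e, b₁, b₂, hxV, hb₁, hb₂, hJ₁, hJ₂⟩ :=
      Groth.Agent.Lib.RelCartier.exists_local_data f 𝓘₁ 𝓘₂ h₁.1 h₂.1 x
    exact ⟨V, hxV, b₁ * b₂, mul_mem hb₁ hb₂, hmul V b₁ b₂ hJ₁ hJ₂⟩
  · apply Groth.Agent.Lib.RelCartier.flat_subscheme_of_flat_quot
    intro x _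
    obtain ⟨T, V, e, b₁, b₂, hxV, hb₁, hb₂, hJ₁, hJ₂⟩ :=
      Groth.Agent.Lib.RelCartier.exists_local_data f 𝓘₁ 𝓘₂ h₁.1 h₂.1 x
    refine ⟨T, V, e, hxV, ?_⟩
    have hf₁ := Groth.Agent.Lib.RelCartier.flat_quot_of_flat_subscheme f 𝓘₁ h₁.2 T V e
    have hf₂ := Groth.Agent.Lib.RelCartier.flat_quot_of_flat_subscheme f 𝓘₂ h₂.2 T V e
    rw [hJ₁] at hf₁
    rw [hJ₂] at hf₂
    rw [hmul V b₁ b₂ hJ₁ hJ₂]
    letI := (f.appLE T.1 V.1 e).hom.toAlgebra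
    exact Groth.Agent.Lib.RelCartier.flat_quot_mul b₁ b₂ Γ(S, T.1) hb₁

end Groth.Agent.S1702
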