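import Groth.Statements.S17023
import Groth.Agent.Lib.SmoothSection6

set_option autoImplicit false
universe u
open FlatMor

namespace Groth.Agent.S17023

/-- Let B be a discrete valuation ring, A a B-algebra of finite type and p a prime ideal of A which lies
over the maximal ideal of B (a point of the special fibre), at which A is smooth over B (the
localization A_p is formally smooth over B), and such that B maps onto the residue field κ(p). Then
there are a discrete valuation ring B' and a ring map ψ : A → B' pulling the maximal ideal of B'
back to p, such that the composite B → A → B' is injective, the maximal ideal of B generates the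
maximal ideal of B', and B maps onto the residue field of B'; in other words Spec B' → Spec A → Spec
B is surjective and unramified with trivial residue field extension. (The published statement does
not say that the closed point of Spec B' goes to p; it is required here. The published setting takes
A essentially of finite type over a field of characteristic zero; here A is taken of finite type
over B, with no ground field.) -/
theorem result
    (B : Type u) [CommRing B] [IsDomain B] [IsDiscreteValuationRing B]
    (A : Type u) [CommRing A] [Algebra B A] [Algebra.FiniteType B A]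
    (p : Ideal A) [p.IsPrime] (hp : p.comap (algebraMap B A) = IsLocalRing.maximalIdeal B)
    [Algebra.IsSmoothAt B p]
    (hres : Function.Surjective ((algebraMap A p.ResidueField).comp (algebraMap B A))) :
    ∃ (B' : Type u) (_ : CommRing B') (_ : IsDomain B') (_ : IsDiscreteValuationRing B') (ψ : A →+* B'),
      Ideal.comap ψ (IsLocalRing.maximalIdeal B') = p ∧
      Function.Injective (ψ.comp (algebraMap B A)) ∧
      Ideal.map (ψ.comp (algebraMap B A)) (IsLocalRing.maximalIdeal B) = IsLocalRing.maximalIdeal B' ∧
      Function.Surjective ((IsLocalRing.residue B').comp (ψ.comp (algebraMap B A))) := by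
  classical
  have : Algebra.FinitePresentation B A := Algebra.FinitePresentation.of_finiteType.mp inferInstance
  obtain ⟨f, hfp, n, algP, htower, hstd⟩ :=
    Algebra.IsSmoothAt.exists_isStandardEtale_mvPolynomial (R := B) (S := A) (p := p)
  have hsurjA : Function.Surjective ((Ideal.Quotient.mk p).comp (algebraMap B A)) := by
    intro y
    obtain ⟨a, rfl⟩ := Ideal.Quotient.mk_surjective y
    obtain ⟨β, hβ⟩ := hres (algebraMap A p.ResidueField a)
    refine ⟨β, ?_⟩
    rw [RingHom.comp_apply, Ideal.Quotient.eq, ← Ideal.algebraMap_residueField_eq_zero, map_sub,
      sub_eq_zero]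
    exact hβ
  have hpmax : p.IsMaximal :=
    Groth.Agent.Lib.SmoothSection6.isMaximal_of_surjective p (Ideal.IsPrime.ne_top ‹_›) hp.ge hsurjA
  have hdisj : Disjoint ((Submonoid.powers f : Submonoid A) : Set A) (p : Set A) :=
    (Ideal.disjoint_powers_iff_notMem_of_isPrime _).mpr hfp
  have hp'prime : (p.map (algebraMap A (Localization.Away f))).IsPrime :=
    IsLocalization.isPrime_of_isPrime_disjoint (.powers f) _ _ ‹_› hdisj
  have hp'comap : (p.map (algebraMap A (Localization.Away f))).comap
      (algebraMap A (Localization.Away f)) = p := by
    have := IsLocalization.under_map_of_isPrime_disjoint (.powers f) (Localization.Away f) ‹p.IsPrime› hdisj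
    rwa [Ideal.under_def] at this
  have hp'B : (p.map (algebraMap A (Localization.Away f))).comap
      (algebraMap B (Localization.Away f)) = IsLocalRing.maximalIdeal B := by
    rw [IsScalarTower.algebraMap_eq B A (Localization.Away f), ← Ideal.comap_comap, hp'comap, hp]
  have hsurj2 : Function.Surjective (Ideal.quotientMap (p.map (algebraMap A (Localization.Away f)))
      (algebraMap A (Localization.Away f)) hp'comap.ge) :=
    IsLocalization.surjective_quotientMap_of_maximal_of_localization (.powers f)
      (Localization.Away f) (by rw [Ideal.under_def, hp'comap]; exact hpmax)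
  have hsurj' : Function.Surjective ((Ideal.Quotient.mk (p.map (algebraMap A (Localization.Away f)))).comp
      (algebraMap B (Localization.Away f))) := by
    intro y
    obtain ⟨a, rfl⟩ := hsurj2 y
    obtain ⟨β, rfl⟩ := hsurjA a
    refine ⟨β, ?_⟩
    simp only [RingHom.comp_apply]
    rw [Ideal.quotientMap_mk, ← IsScalarTower.algebraMap_apply]
  have : Algebra.Etale (MvPolynomial (Fin n) B) (Localization.Away f) := inferInstance
  obtain ⟨B', hB', hdom, hdvr, ψ, h1, h2, h3, h4⟩ :=
    Groth.Agent.Lib.SmoothSection6.exists_dvr_of_etale_mvPolynomial B n (Localization.Away f)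
      (p.map (algebraMap A (Localization.Away f))) hp'B hsurj'
  have hcomp : (ψ.comp (algebraMap A (Localization.Away f))).comp (algebraMap B A) =
      ψ.comp (algebraMap B (Localization.Away f)) := by
    rw [RingHom.comp_assoc, ← IsScalarTower.algebraMap_eq]
  refine ⟨B', hB', hdom, hdvr, ψ.comp (algebraMap A (Localization.Away f)), ?_, ?_, ?_, ?_⟩
  · rw [← Ideal.comap_comap, h1, hp'comap]
  · rw [hcomp]; exact h2
  · rw [hcomp]; exact h3
  · rw [hcomp]; exact h4

end Groth.Agent.S17023
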