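import Groth.Statements.S1703
import Mathlib
import Groth.Agent.Lib.FlatNbhdCartier50
import Groth.Agent.Lib.CritFibFib88

set_option autoImplicit false
set_option linter.style.haveILetI false
universe u
open CategoryTheory CategoryTheory.Limits AlgebraicGeometry TopologicalSpace
open SDiv

namespace Groth.Agent.S1703

section helpers

open CategoryTheory CategoryTheory.Limits AlgebraicGeometry TopologicalSpace

/-- affine-local flatness of the closed subscheme over the base -/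
theorem flat_quot_of_subscheme {X S : Scheme.{u}} (φ : X ⟶ S) (𝓘 : X.IdealSheafData)
    [Flat (𝓘.subschemeι ≫ φ)] {U : X.Opens} {V : S.Opens}
    (hU : IsAffineOpen U) (hV : IsAffineOpen V) (hUV : U ≤ φ ⁻¹ᵁ V) :
    (φ.appLE V U hUV ≫ CommRingCat.ofHom (Ideal.Quotient.mk (𝓘.ideal ⟨U, hU⟩))).hom.Flat := by
  have hW' : IsAffineOpen (𝓘.subschemeι ⁻¹ᵁ U) := hU.preimage 𝓘.subschemeι
  have e' : 𝓘.subschemeι ⁻¹ᵁ U ≤ (𝓘.subschemeι ≫ φ) ⁻¹ᵁ V := fun y hy => hUV hy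
  have hcomp : (𝓘.subschemeι ≫ φ).appLE V (𝓘.subschemeι ⁻¹ᵁ U) e' =
      φ.appLE V U hUV ≫ 𝓘.subschemeι.app U := by
    rw [Scheme.Hom.app_eq_appLE, Scheme.Hom.appLE_comp_appLE]
  have hflC : ((𝓘.subschemeι ≫ φ).appLE V (𝓘.subschemeι ⁻¹ᵁ U) e').hom.Flat :=
    HasRingHomProperty.appLE (P := @Flat) _ inferInstance ⟨V, hV⟩ ⟨_, hW'⟩ e'
  rw [hcomp, 𝓘.subschemeι_app ⟨U, hU⟩, ← Category.assoc] at hflC
  exact (RingHom.Flat.respectsIso.cancel_right_isIso _ (𝓘.subschemeObjIso ⟨U, hU⟩).inv).mp hflC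

theorem flat_congr_ideal {A B : CommRingCat.{u}} (ψ : A ⟶ B) (I J : Ideal B) (h : I = J)
    (hfl : (ψ ≫ CommRingCat.ofHom (Ideal.Quotient.mk I)).hom.Flat) :
    (ψ ≫ CommRingCat.ofHom (Ideal.Quotient.mk J)).hom.Flat := by
  subst h; exact hfl

/-- `f` is flat at the points of a relative effective Cartier divisor. -/
theorem flat_stalkMap_of_mem_support {X S : Scheme.{u}} (f : X ⟶ S)
    [LocallyOfFinitePresentation f] (𝓘 : X.IdealSheafData)
    (hD : BlowUp.IsEffCartierIdeal 𝓘) [Flat (𝓘.subschemeι ≫ f)] (x : X) (hx : x ∈ 𝓘.support) :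
    (f.stalkMap x).hom.Flat := by
  obtain ⟨U₀, hxU₀, t, ht, hI₀⟩ := hD x
  obtain ⟨V, hV, hxV⟩ : ∃ V : S.Opens, IsAffineOpen V ∧ f x ∈ V := by
    obtain ⟨_, ⟨V, hV, rfl⟩, hxV, -⟩ :=
      S.isBasis_affineOpens.exists_subset_of_mem_open (Set.mem_univ (f x)) isOpen_univ
    exact ⟨V, hV, hxV⟩
  obtain ⟨r, hrV, hxr⟩ := U₀.2.exists_basicOpen_le (V := f ⁻¹ᵁ V) ⟨x, hxV⟩ hxU₀
  have hU₁ : IsAffineOpen (X.basicOpen r) := U₀.2.basicOpen r
  haveI : IsLocalization.Away r Γ(X, X.basicOpen r) := U₀.2.isLocalization_basicOpen r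
  let t₁ : Γ(X, X.basicOpen r) := X.presheaf.map (homOfLE (X.basicOpen_le r)).op t
  have ht₁ : t₁ ∈ nonZeroDivisors Γ(X, X.basicOpen r) :=
    IsLocalization.map_nonZeroDivisors_le (Submonoid.powers r) Γ(X, X.basicOpen r)
      (Submonoid.mem_map_of_mem _ ht)
  have hI₁ : 𝓘.ideal ⟨X.basicOpen r, hU₁⟩ = Ideal.span {t₁} := by
    rw [← 𝓘.map_ideal (U := ⟨X.basicOpen r, hU₁⟩) (V := U₀) (X.basicOpen_le r), hI₀,
      Ideal.map_span, Set.image_singleton]
    rfl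
  have hfl := flat_congr_ideal _ _ _ hI₁ (flat_quot_of_subscheme f 𝓘 hU₁ hV hrV)
  rw [Groth.Agent.Lib.EtaleLocusBC.flat_stalkMap_iff V hV (X.basicOpen r) hU₁ hrV hxr]
  letI algAB : Algebra Γ(S, V) Γ(X, X.basicOpen r) := (f.appLE V (X.basicOpen r) hrV).hom.toAlgebra
  haveI : Algebra.FinitePresentation Γ(S, V) Γ(X, X.basicOpen r) :=
    f.finitePresentation_appLE hV hU₁ hrV
  haveI : Module.Flat Γ(S, V) (Γ(X, X.basicOpen r) ⧸ Ideal.span {t₁}) := by
    rw [CommRingCat.hom_comp] at hfl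
    exact (RingHom.flat_algebraMap_iff).mp hfl
  apply Groth.Agent.Lib.FlatNbhdCartier50.flat_atPrime_of_nzd_of_flat_quot t₁ ht₁
  -- t₁ lies in the prime of x
  have hxz := (Scheme.IdealSheafData.mem_support_iff_of_mem (I := 𝓘)
    (U := ⟨X.basicOpen r, hU₁⟩) hxr).mp hx
  have h1 : x ∉ X.basicOpen t₁ := by
    have := (Scheme.mem_zeroLocus_iff _ _ _).mp hxz
    exact this t₁ (by rw [hI₁]; exact Ideal.mem_span_singleton_self t₁)
  rw [X.mem_basicOpen t₁ x hxr] at h1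
  letI := TopCat.Presheaf.algebra_section_stalk X.presheaf (⟨x, hxr⟩ : X.basicOpen r)
  haveI := hU₁.isLocalization_stalk ⟨x, hxr⟩
  by_contra hcon
  exact h1 ((IsLocalization.AtPrime.isUnit_to_map_iff (X.presheaf.stalk x)
    (hU₁.primeIdealOf ⟨x, hxr⟩).asIdeal t₁).mpr hcon)

end helpers

/-- Let f : X ⟶ S be locally of finite presentation and 𝓘 the ideal sheaf of an effective Cartier
divisor D ⊂ X with D ⟶ S flat. Then there is an open subscheme U of X containing D such that U ⟶ S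
is flat. -/
theorem result {X S : Scheme.{u}} (f : X ⟶ S) [LocallyOfFinitePresentation f] (𝓘 : X.IdealSheafData)
    (hD : (BlowUp.IsEffCartierIdeal 𝓘 ∧ Flat (𝓘.subschemeι ≫ f))) : ∃ U : X.Opens, (𝓘.support : Set ↥X) ⊆ U ∧ Flat (U.ι ≫ f) := by
  obtain ⟨hD1, hD2⟩ := hD
  haveI := hD2
  obtain ⟨U, hU⟩ : ∃ U : X.Opens, (U : Set X) = {x : X | (f.stalkMap x).hom.Flat} :=
    ⟨⟨{x : X | (f.stalkMap x).hom.Flat}, Groth.Agent.Lib.CritFibFib88.isOpen_flat_locus f⟩, rfl⟩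
  refine ⟨U, fun x hx => ?_, ?_⟩
  · rw [hU]
    exact flat_stalkMap_of_mem_support f 𝓘 hD1 x hx
  apply Flat.of_stalkMap
  intro y
  have hy : (f.stalkMap (U.ι y)).hom.Flat := by
    have : (y.1 : X) ∈ (U : Set X) := y.2
    rw [hU] at this
    exact this
  have hiso : IsIso (U.ι.stalkMap y) := inferInstance
  have hcomp := Scheme.Hom.stalkMap_comp U.ι f y
  rw [hcomp]
  exact RingHom.Flat.comp hy
    (RingHom.Flat.of_bijective (ConcreteCategory.bijective_of_isIso (U.ι.stalkMap y)))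

end Groth.Agent.S1703
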