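import Groth.Statements.S1704
import Groth.Agent.Lib.AssPoints

set_option autoImplicit false
universe u
open CategoryTheory CategoryTheory.Limits AlgebraicGeometry TopologicalSpace
open SDiv

namespace Groth.Agent.S1704

/-- Let X be a locally Noetherian scheme and F a quasi-coherent module. Then F is zero if and only if F
has no associated point. -/
theorem result (X : Scheme.{u}) [IsLocallyNoetherian X] (F : X.Modules) (hF : Coh.IsQCoh F) :
    IsZero F ↔ ∀ x : ↥X, ¬ Curv2.IsAssPoint F x := by
  haveI : F.IsQuasicoherent := hF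
  constructor
  · intro hzero x hx
    have hsec : ∀ (V : X.Opens) (s : Γ(F, V)), s = 0 := by
      intro V s
      have h1 : (𝟙 F : F ⟶ F) = 0 := hzero.eq_of_src _ _
      have h2 : (Scheme.Modules.Hom.app (𝟙 F) V) s = s := by
        rw [Scheme.Modules.Hom.id_app]
        rfl
      rw [← h2, h1]
      rfl
    have hsub : Subsingleton (F.presheaf.stalk x) := by
      refine ⟨fun a b => ?_⟩
      obtain ⟨V, hV, s, rfl⟩ := TopCat.Presheaf.exists_germ_eq F.presheaf a
      obtain ⟨V', hV', s', rfl⟩ := TopCat.Presheaf.exists_germ_eq F.presheaf b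
      rw [hsec V s, hsec V' s', map_zero, map_zero]
    exact not_isAssociatedPrime_of_subsingleton hx
  · intro hnone
    have hsec : ∀ (V : X.Opens) (s : Γ(F, V)), s = 0 := by
      intro V s
      by_contra hne
      obtain ⟨x, hxV, hx⟩ : ∃ (x : X) (hxV : x ∈ V), F.presheaf.germ V x hxV s ≠ 0 := by
        by_contra hall
        push Not at hall
        apply hne
        apply TopCat.Presheaf.section_ext ⟨F.presheaf, F.isSheaf⟩ V s 0
        intro x hx
        rw [map_zero]
        exact hall x hx
      obtain ⟨y, hy, -, hyass, -⟩ :=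
        Groth.Agent.Lib.AssPoints.exists_isWeakAssPoint_of_germ_ne_zero F s x hxV hx
      exact hnone y ((Groth.Agent.Lib.AssPoints.isAssPoint_iff_isWeakAssPoint F y).mpr hyass)
    rw [IsZero.iff_id_eq_zero]
    apply Scheme.Modules.hom_ext
    intro V
    ext s
    exact (hsec V _).trans (hsec V _).symm

end Groth.Agent.S1704
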