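import Groth.Statements.S1705
import Groth.Agent.Lib.AssPoints

set_option autoImplicit false
universe u
open CategoryTheory CategoryTheory.Limits AlgebraicGeometry TopologicalSpace
open SDiv

namespace Groth.Agent.S1705

/-- Let X be a locally Noetherian scheme, F a quasi-coherent module and U an open subset containing
every associated point of F. Then the restriction map Γ(X, F) → Γ(U, F) is injective. -/
theorem result (X : Scheme.{u}) [IsLocallyNoetherian X] (F : X.Modules) (hF : Coh.IsQCoh F)
    (U : X.Opens) (hU : ∀ x : ↥X, Curv2.IsAssPoint F x → x ∈ U) :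
    Function.Injective (F.presheaf.map (homOfLE (le_top : U ≤ ⊤)).op) := by
  haveI : F.IsQuasicoherent := hF
  rw [injective_iff_map_eq_zero]
  intro s hs
  by_contra hne
  obtain ⟨x, hx⟩ : ∃ x : X, F.presheaf.germ ⊤ x trivial s ≠ 0 := by
    by_contra hall
    push Not at hall
    apply hne
    apply TopCat.Presheaf.section_ext ⟨F.presheaf, F.isSheaf⟩ ⊤ s 0
    intro x hx
    rw [map_zero]
    exact hall x
  obtain ⟨y, hy, -, hyass, hys⟩ :=
    Groth.Agent.Lib.AssPoints.exists_isWeakAssPoint_of_germ_ne_zero F s x trivial hx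
  apply hys
  have hyU : y ∈ U :=
    hU y ((Groth.Agent.Lib.AssPoints.isAssPoint_iff_isWeakAssPoint F y).mpr hyass)
  have := Groth.Agent.Lib.QCohStalk.germ_res F (le_top : U ≤ ⊤) y hyU s
  rw [← this]
  change F.presheaf.germ U y hyU (F.presheaf.map (homOfLE (le_top : U ≤ ⊤)).op s) = 0
  rw [hs, map_zero]

end Groth.Agent.S1705
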