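import Groth.Statements.S17065
import Mathlib.RingTheory.Finiteness.Nakayama
import Mathlib.RingTheory.Ideal.Quotient.Operations

set_option autoImplicit false
universe u
open CAlg

namespace Groth.Agent.S17065

/-- The local algebraic statement its proof establishes: let A be a Noetherian ring, I ≤ J radical
ideals and Â the J-adic completion of A. If J^n Â ⊆ I Â for some n, then the closed set V(J) is open
inside V(I) ⊆ Spec A. (Globally: if X₂ ⊆ X₁ are the completions of a locally Noetherian scheme along
nested closed subsets Z₂ ⊆ Z₁ and the ideal of Z₁ generates an ideal of definition of X₂, then X₂ is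
a union of connected components of X₁.) -/
theorem result (A : Type u) [CommRing A] [IsNoetherianRing A]
    (I J : Ideal A) (hIJ : I ≤ J) (hI : I.IsRadical) (hJ : J.IsRadical) (n : ℕ)
    (h : (J ^ n).map (algebraMap A (AdicCompletion J A)) ≤ I.map (algebraMap A (AdicCompletion J A))) :
    IsOpen ((fun x : PrimeSpectrum.zeroLocus (I : Set A) => (x : PrimeSpectrum A)) ⁻¹'
      PrimeSpectrum.zeroLocus (J : Set A)) := by
  -- Step 1: J^n ≤ I ⊔ J^(n+1)
  have hstep : J ^ n ≤ I ⊔ J ^ (n + 1) := by
    intro x hx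
    have h1 : algebraMap A (AdicCompletion J A) x ∈ I.map (algebraMap A (AdicCompletion J A)) :=
      h (Ideal.mem_map_of_mem _ hx)
    have h2 : (AdicCompletion.evalₐ J (n + 1) : AdicCompletion J A →+* A ⧸ J ^ (n + 1))
        (algebraMap A (AdicCompletion J A) x) ∈
        (I.map (algebraMap A (AdicCompletion J A))).map
          (AdicCompletion.evalₐ J (n + 1) : AdicCompletion J A →+* A ⧸ J ^ (n + 1)) :=
      Ideal.mem_map_of_mem _ h1
    rw [Ideal.map_map] at h2
    have h3 : ((AdicCompletion.evalₐ J (n + 1) : AdicCompletion J A →+* A ⧸ J ^ (n + 1)).comp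
        (algebraMap A (AdicCompletion J A))) = Ideal.Quotient.mk (J ^ (n + 1)) := by
      ext y
      exact (AdicCompletion.evalₐ J (n + 1)).commutes y
    rw [h3] at h2
    have h4 : (AdicCompletion.evalₐ J (n + 1) : AdicCompletion J A →+* A ⧸ J ^ (n + 1))
        (algebraMap A (AdicCompletion J A) x) = Ideal.Quotient.mk (J ^ (n + 1)) x :=
      (AdicCompletion.evalₐ J (n + 1)).commutes x
    rw [h4, Ideal.mem_quotient_iff_mem_sup] at h2
    exact h2
  -- Step 2: Nakayama
  let N : Submodule A (A ⧸ I) := Submodule.map (Submodule.mkQ I) (J ^ n)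
  have hNfg : N.FG := Submodule.FG.map _ (IsNoetherian.noetherian (J ^ n))
  have hN : N ≤ J • N := by
    rintro _ ⟨x, hx, rfl⟩
    obtain ⟨i, hi, z, hz, rfl⟩ := Submodule.mem_sup.mp (hstep hx)
    have hi0 : Submodule.mkQ I i = 0 := by
      rw [Submodule.mkQ_apply]
      exact (Submodule.Quotient.mk_eq_zero I).mpr hi
    rw [map_add, hi0, zero_add]
    have hz' : z ∈ J • (J ^ n) := by
      rw [smul_eq_mul, ← pow_succ']
      exact hz
    have : Submodule.mkQ I z ∈ Submodule.map (Submodule.mkQ I) (J • (J ^ n)) := ⟨z, hz', rfl⟩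
    rw [Submodule.map_smul''] at this
    exact this
  obtain ⟨r, hr1, hrN⟩ :=
    Submodule.exists_sub_one_mem_and_smul_eq_zero_of_fg_of_le_smul J N hNfg hN
  have hrI : ∀ x ∈ J ^ n, r * x ∈ I := by
    intro x hx
    have := hrN (Submodule.mkQ I x) ⟨x, hx, rfl⟩
    rw [← map_smul, smul_eq_mul, Submodule.mkQ_apply] at this
    exact (Submodule.Quotient.mk_eq_zero I).mp this
  -- Step 3: the set is the preimage of a basic open
  have hset : ((fun x : PrimeSpectrum.zeroLocus (I : Set A) => (x : PrimeSpectrum A)) ⁻¹'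
      PrimeSpectrum.zeroLocus (J : Set A)) =
      ((fun x : PrimeSpectrum.zeroLocus (I : Set A) => (x : PrimeSpectrum A)) ⁻¹'
        (PrimeSpectrum.basicOpen r : Set (PrimeSpectrum A))) := by
    ext ⟨p, hp⟩
    simp only [Set.mem_preimage, PrimeSpectrum.mem_zeroLocus, SetLike.coe_subset_coe,
      SetLike.mem_coe, PrimeSpectrum.mem_basicOpen]
    have hpI : I ≤ p.asIdeal := by
      simpa [PrimeSpectrum.mem_zeroLocus] using hp
    constructor
    · intro hJp hrp
      have h1 : r - 1 ∈ p.asIdeal := hJp hr1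
      have h2 : (1 : A) ∈ p.asIdeal := by
        have := p.asIdeal.sub_mem hrp h1
        simpa using this
      exact p.isPrime.ne_top ((Ideal.eq_top_iff_one _).mpr h2)
    · intro hrp y hy
      have h1 : r * y ^ n ∈ p.asIdeal := hpI (hrI _ (Ideal.pow_mem_pow hy n))
      rcases p.isPrime.mem_or_mem h1 with h2 | h2
      · exact absurd h2 hrp
      · exact p.isPrime.mem_of_pow_mem n h2
  rw [hset]
  exact (PrimeSpectrum.basicOpen r).isOpen.preimage continuous_subtype_val

end Groth.Agent.S17065
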