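import Groth.Statements.S1707
import Groth.Agent.Lib.AssPoints

set_option autoImplicit false
universe u
open CategoryTheory CategoryTheory.Limits AlgebraicGeometry TopologicalSpace
open SDiv

namespace Groth.Agent.S1707

/-- Let X be a scheme, F a quasi-coherent module and x a point of the support of F such that no other
point of the support specializes to x. Then x is weakly associated to F. -/
theorem result (X : Scheme.{u}) (F : X.Modules) (hF : Coh.IsQCoh F) (x : ↥X)
    (hx : x ∈ CohB1.support F) (hmax : ∀ y : ↥X, y ∈ CohB1.support F → y ⤳ x → y = x) : Curv2.IsWeakAssPoint F x := by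
  haveI : F.IsQuasicoherent := hF
  have hne : ∃ ξ : F.presheaf.stalk x, ξ ≠ 0 := by
    by_contra hall
    push Not at hall
    exact hx ⟨fun a b => (hall a).trans (hall b).symm⟩
  obtain ⟨ξ, hξ⟩ := hne
  obtain ⟨V, hxV, s, rfl⟩ := TopCat.Presheaf.exists_germ_eq F.presheaf ξ
  obtain ⟨y, hy, hyx, hyass, hys⟩ :=
    Groth.Agent.Lib.AssPoints.exists_isWeakAssPoint_of_germ_ne_zero F s x hxV hξ
  have hysupp : y ∈ CohB1.support F := by
    intro hsub
    exact hys (Subsingleton.elim _ _)
  rw [← hmax y hysupp hyx]
  exact hyass

end Groth.Agent.S1707
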