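import Groth.Statements.S17075
-- import your own Groth.Agent.* helpers here

set_option autoImplicit false
universe u
open CategoryTheory CategoryTheory.Limits AlgebraicGeometry
open MorSch

namespace Groth.Agent.S17075

/-- Let g : X → S be a proper morphism, i : V → X a closed immersion and j : U → X an open immersion.
Then there is an open subset S₀ of S such that, for every scheme S' and every morphism f : S' → S,
the image of f lies in S₀ if and only if the base change V ×_S S' → X ×_S S' of i factors through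
the open subscheme U ×_S S', equivalently the composite V ×_S S' → V → X has image contained in the
image of j. -/
theorem result
    {V X U S : Scheme.{u}} (g : X ⟶ S) [IsProper g] (i : V ⟶ X) [IsClosedImmersion i]
    (j : U ⟶ X) [IsOpenImmersion j] :
    ∃ S₀ : S.Opens, ∀ (S' : Scheme.{u}) (f : S' ⟶ S),
      Set.range f ⊆ (S₀ : Set S) ↔
        Set.range (pullback.fst (i ≫ g) f ≫ i) ⊆ Set.range j := by
  have hZ : IsClosed (Set.range i ∩ (Set.range j)ᶜ) :=
    i.isClosedEmbedding.isClosed_range.inter j.isOpenEmbedding.isOpen_range.isClosed_compl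
  have hgZ : IsClosed (g '' (Set.range i ∩ (Set.range j)ᶜ)) := g.isClosedMap _ hZ
  refine ⟨⟨(g '' (Set.range i ∩ (Set.range j)ᶜ))ᶜ, hgZ.isOpen_compl⟩, ?_⟩
  intro S' f
  have hr : Set.range (pullback.fst (i ≫ g) f) = (i ≫ g) ⁻¹' Set.range f :=
    Scheme.Pullback.range_fst (i ≫ g) f
  constructor
  · intro h x hx
    obtain ⟨w, rfl⟩ := hx
    by_contra hcon
    have hv : pullback.fst (i ≫ g) f w ∈ (i ≫ g) ⁻¹' Set.range f := by
      rw [← hr]; exact ⟨w, rfl⟩
    obtain ⟨s', hs'⟩ := hv
    have h1 := h ⟨s', rfl⟩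
    apply h1
    refine ⟨i (pullback.fst (i ≫ g) f w), ⟨⟨_, rfl⟩, hcon⟩, ?_⟩
    rw [hs']
    rfl
  · rintro h _ ⟨s', rfl⟩ ⟨x, ⟨⟨v, rfl⟩, hxj⟩, hx⟩
    apply hxj
    have hv : v ∈ (i ≫ g) ⁻¹' Set.range f := ⟨s', by rw [← hx]; rfl⟩
    rw [← hr] at hv
    obtain ⟨w, rfl⟩ := hv
    exact h ⟨w, rfl⟩

end Groth.Agent.S17075
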