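import Mathlib
import Groth.Statements.S17077

set_option autoImplicit false
universe u
open RatCurve

namespace Groth.Agent.S17077

section Helpers

open MvPolynomial

variable {k : Type u} [Field k]

theorem eval_smul_of_homog {σ : Type*} [Fintype σ] {F : MvPolynomial σ k} {d : ℕ}
    (hF : F.IsHomogeneous d) (t : k) (v : σ → k) :
    eval (t • v) F = t ^ d * eval v F := by
  rw [eval_eq', eval_eq', Finset.mul_sum]
  refine Finset.sum_congr rfl fun m hm => ?_
  have hd : ∑ i, m i = d := by
    have := hF (mem_support_iff.mp hm)
    rw [← this, ← Finsupp.degree_eq_sum, Finsupp.degree_eq_weight_one]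
    rfl
  simp only [Pi.smul_apply, smul_eq_mul, mul_pow, Finset.prod_mul_distrib,
    Finset.prod_pow_eq_pow_sum, hd]
  ring

theorem irreducible_X' (i : Fin 2) : Irreducible (X i : MvPolynomial (Fin 2) k) := by
  apply irreducible_of_totalDegree_eq_one (totalDegree_X i)
  intro x hx
  have := hx (Finsupp.single i 1)
  rw [coeff_X, if_pos rfl] at this
  exact isUnit_of_dvd_one this

theorem isRelPrime_X_pow (m m' : ℕ) :
    IsRelPrime ((X 0 : MvPolynomial (Fin 2) k) ^ m) ((X 1 : MvPolynomial (Fin 2) k) ^ m') := by
  apply IsRelPrime.pow
  rw [(irreducible_X' 0).isRelPrime_iff_not_dvd, X_dvd_X]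
  decide

end Helpers

/-- Let k be an algebraically closed field and F_0, …, F_{n-1} homogeneous polynomials in k[u, v] (of
possibly different degrees). Then the F_i have a common factor which is not a unit if and only if
they have a common zero (a, b) ≠ (0, 0) in k², that is, a common zero in the projective line. -/
theorem result
    {k : Type u} [Field k] [IsAlgClosed k] {n : ℕ} (F : Fin n → MvPolynomial (Fin 2) k)
    (d : Fin n → ℕ) (hF : ∀ i, (F i).IsHomogeneous (d i)) :
    (∃ H : MvPolynomial (Fin 2) k, ¬ IsUnit H ∧ ∀ i, H ∣ F i) ↔
      ∃ a : Fin 2 → k, a ≠ 0 ∧ ∀ i, MvPolynomial.eval a (F i) = 0 := by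
  constructor
  · rintro ⟨H, hH, hdiv⟩
    by_contra hcon
    push Not at hcon
    -- the ideal generated by the F i
    set J : Ideal (MvPolynomial (Fin 2) k) := Ideal.span (Set.range F) with hJ
    have hJH : J ≤ Ideal.span {H} := by
      rw [hJ, Ideal.span_le]
      rintro _ ⟨i, rfl⟩
      exact Ideal.mem_span_singleton.mpr (hdiv i)
    have hz : ∀ x ∈ MvPolynomial.zeroLocus k J, x = 0 := by
      intro x hx
      by_contra hx0
      obtain ⟨i, hi⟩ := hcon x hx0
      apply hi
      have := hx (F i) (Ideal.subset_span ⟨i, rfl⟩)
      simpa using this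
    have hX : ∀ j : Fin 2, ∃ m : ℕ, H ∣ (MvPolynomial.X j : MvPolynomial (Fin 2) k) ^ m := by
      intro j
      have h1 : (MvPolynomial.X j : MvPolynomial (Fin 2) k) ∈
          MvPolynomial.vanishingIdeal k (MvPolynomial.zeroLocus k J) := by
        intro x hx
        rw [hz x hx]
        simp
      rw [MvPolynomial.vanishingIdeal_zeroLocus_eq_radical] at h1
      obtain ⟨m, hm⟩ := h1
      exact ⟨m, Ideal.mem_span_singleton.mp (hJH hm)⟩
    obtain ⟨m0, h0⟩ := hX 0
    obtain ⟨m1, h1⟩ := hX 1
    exact hH (isRelPrime_X_pow m0 m1 h0 h1)
  · rintro ⟨a, ha, hzero⟩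
    set H : MvPolynomial (Fin 2) k :=
      MvPolynomial.C (a 1) * MvPolynomial.X 0 - MvPolynomial.C (a 0) * MvPolynomial.X 1 with hHdef
    have hHa : MvPolynomial.eval a H = 0 := by
      simp [hHdef]; ring
    have hcoeff0 : MvPolynomial.coeff (Finsupp.single 0 1) H = a 1 := by
      simp [hHdef, MvPolynomial.coeff_C_mul, MvPolynomial.coeff_X, Finsupp.single_left_inj]
    have hcoeff1 : MvPolynomial.coeff (Finsupp.single 1 1) H = - a 0 := by
      simp [hHdef, MvPolynomial.coeff_C_mul, MvPolynomial.coeff_X, Finsupp.single_left_inj]
    have hHne : H ≠ 0 := by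
      intro h0
      rw [h0] at hcoeff0 hcoeff1
      simp only [MvPolynomial.coeff_zero] at hcoeff0 hcoeff1
      apply ha
      funext j
      fin_cases j
      · simpa using hcoeff1.symm
      · simpa using hcoeff0.symm
    have hHhom : H.IsHomogeneous 1 := by
      apply MvPolynomial.IsHomogeneous.sub
      · simpa using (MvPolynomial.isHomogeneous_C (Fin 2) (a 1)).mul
          (MvPolynomial.isHomogeneous_X k (0 : Fin 2))
      · simpa using (MvPolynomial.isHomogeneous_C (Fin 2) (a 0)).mul
          (MvPolynomial.isHomogeneous_X k (1 : Fin 2))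
    have hHirr : Irreducible H := by
      apply MvPolynomial.irreducible_of_totalDegree_eq_one (hHhom.totalDegree hHne)
      intro x hx
      by_cases h1 : a 1 = 0
      · have h0 : a 0 ≠ 0 := by
          intro h0
          apply ha
          funext j
          fin_cases j
          · exact h0
          · exact h1
        have := hx (Finsupp.single 1 1)
        rw [hcoeff1] at this
        exact isUnit_of_dvd_unit this (IsUnit.mk0 _ (neg_ne_zero.mpr h0))
      · have := hx (Finsupp.single 0 1)
        rw [hcoeff0] at this
        exact isUnit_of_dvd_unit this (IsUnit.mk0 _ h1)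
    refine ⟨H, hHirr.not_isUnit, fun i => ?_⟩
    have hprime : (Ideal.span {H}).IsPrime := by
      rw [Ideal.span_singleton_prime hHne]
      exact hHirr.prime
    have hmem : F i ∈ MvPolynomial.vanishingIdeal k (MvPolynomial.zeroLocus k (Ideal.span {H})) := by
      intro x hx
      have hxH : MvPolynomial.eval x H = 0 := by
        have := hx H (Ideal.subset_span rfl)
        simpa using this
      have hxH' : a 1 * x 0 = a 0 * x 1 := by
        have : a 1 * x 0 - a 0 * x 1 = 0 := by simpa [hHdef] using hxH
        linear_combination this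
      -- x is a multiple of a
      obtain ⟨t, ht⟩ : ∃ t : k, x = t • a := by
        by_cases h1 : a 1 = 0
        · have h0 : a 0 ≠ 0 := by
            intro h0
            apply ha
            funext j
            fin_cases j
            · exact h0
            · exact h1
          refine ⟨x 0 / a 0, ?_⟩
          funext j
          fin_cases j
          · simp; field_simp
          · simp only [Fin.mk_one, Fin.isValue, Pi.smul_apply, smul_eq_mul]
            rw [h1, zero_mul] at hxH'
            rw [h1, mul_zero]
            rcases mul_eq_zero.mp hxH'.symm with h | h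
            · exact absurd h h0
            · exact h
        · refine ⟨x 1 / a 1, ?_⟩
          funext j
          fin_cases j
          · simp only [Fin.zero_eta, Fin.isValue, Pi.smul_apply, smul_eq_mul]
            field_simp
            linear_combination hxH'
          · simp; field_simp
      show MvPolynomial.aeval x (F i) = 0
      rw [MvPolynomial.aeval_eq_eval, ht]
      show MvPolynomial.eval (t • a) (F i) = 0
      rw [eval_smul_of_homog (hF i), hzero i, mul_zero]
    rw [MvPolynomial.vanishingIdeal_zeroLocus_eq_radical, hprime.radical] at hmem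
    exact Ideal.mem_span_singleton.mp hmem

end Groth.Agent.S17077
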