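import Mathlib
import Groth.Agent.S17077
import Groth.Statements.S17078

set_option autoImplicit false
universe u
open RatCurve

namespace Groth.Agent.S17078

section Helpers

open MvPolynomial

variable {k : Type u} [Field k]

attribute [local instance] MvPolynomial.gradedAlgebra

theorem hc_mul {σ : Type*} (F G : MvPolynomial σ k) (d m : ℕ) (hF : F.IsHomogeneous d)
    (hdm : d ≤ m) :
    homogeneousComponent m (F * G) = F * homogeneousComponent (m - d) G := by
  rw [← decomposition.decompose'_apply, ← decomposition.decompose'_apply]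
  exact DirectSum.coe_decompose_mul_of_left_mem_of_le (𝒜 := homogeneousSubmodule σ k)
    ((mem_homogeneousSubmodule d F).2 hF) hdm

end Helpers

/-- Let k be an algebraically closed field and F_0, …, F_{n-1} homogeneous polynomials of degree d in
k[u, v]. Then the F_i have no common factor other than units if and only if there is an integer m ≥
d such that every homogeneous polynomial of degree m can be written Σ_i F_i G_i with each G_i
homogeneous of degree m − d, i.e. the k-linear map (G_i)_i ↦ Σ_i F_i G_i from n copies of k[u,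
v]_{m−d} to k[u, v]_m is surjective. -/
theorem result
    {k : Type u} [Field k] [IsAlgClosed k] {n : ℕ} (F : Fin n → MvPolynomial (Fin 2) k)
    (d : ℕ) (hF : ∀ i, (F i).IsHomogeneous d) :
    (¬ ∃ H : MvPolynomial (Fin 2) k, ¬ IsUnit H ∧ ∀ i, H ∣ F i) ↔
      ∃ m : ℕ, d ≤ m ∧ ∀ P : MvPolynomial (Fin 2) k, P.IsHomogeneous m →
        ∃ G : Fin n → MvPolynomial (Fin 2) k, (∀ i, (G i).IsHomogeneous (m - d)) ∧
          P = ∑ i, F i * G i := by
  constructor
  · intro hno
    rw [Groth.Agent.S17077.result F (fun _ => d) hF] at hno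
    have hcon : ∀ a : Fin 2 → k, a ≠ 0 → ∃ i, MvPolynomial.eval a (F i) ≠ 0 := by
      intro a ha
      by_contra h
      rw [not_exists] at h
      exact hno ⟨a, ha, fun i => not_not.1 (h i)⟩
    set J : Ideal (MvPolynomial (Fin 2) k) := Ideal.span (Set.range F) with hJ
    have hz : ∀ x ∈ MvPolynomial.zeroLocus k J, x = 0 := by
      intro x hx
      by_contra hx0
      obtain ⟨i, hi⟩ := hcon x hx0
      apply hi
      have := hx (F i) (Ideal.subset_span ⟨i, rfl⟩)
      simpa using this
    have hX : ∀ j : Fin 2, ∃ N : ℕ, (MvPolynomial.X j : MvPolynomial (Fin 2) k) ^ N ∈ J := by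
      intro j
      have h1 : (MvPolynomial.X j : MvPolynomial (Fin 2) k) ∈
          MvPolynomial.vanishingIdeal k (MvPolynomial.zeroLocus k J) := by
        intro x hx
        rw [hz x hx]
        simp
      rw [MvPolynomial.vanishingIdeal_zeroLocus_eq_radical] at h1
      exact h1
    obtain ⟨N0, h0⟩ := hX 0
    obtain ⟨N1, h1⟩ := hX 1
    refine ⟨max (N0 + N1) d, le_max_right _ _, ?_⟩
    intro P hP
    -- every monomial of degree ≥ N0 + N1 lies in J
    have hmono : ∀ (s : Fin 2 →₀ ℕ) (c : k), N0 + N1 ≤ s 0 + s 1 →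
        MvPolynomial.monomial s c ∈ J := by
      intro s c hs
      have hs' : N0 ≤ s 0 ∨ N1 ≤ s 1 := by omega
      have hmon : MvPolynomial.monomial s c =
          MvPolynomial.C c * (MvPolynomial.X 0 ^ s 0 * MvPolynomial.X 1 ^ s 1) := by
        rw [MvPolynomial.monomial_eq]
        congr 1
        rw [Finsupp.prod_fintype _ _ (fun i => pow_zero _), Fin.prod_univ_two]
      rw [hmon]
      rcases hs' with h | h
      · have : (MvPolynomial.X 0 : MvPolynomial (Fin 2) k) ^ s 0 =
            MvPolynomial.X 0 ^ N0 * MvPolynomial.X 0 ^ (s 0 - N0) := by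
          rw [← pow_add]; congr 1; omega
        rw [this]
        have : MvPolynomial.C c * ((MvPolynomial.X 0 : MvPolynomial (Fin 2) k) ^ N0 *
            MvPolynomial.X 0 ^ (s 0 - N0) * MvPolynomial.X 1 ^ s 1) =
            (MvPolynomial.C c * MvPolynomial.X 0 ^ (s 0 - N0) * MvPolynomial.X 1 ^ s 1) *
              MvPolynomial.X 0 ^ N0 := by ring
        rw [this]
        exact Ideal.mul_mem_left _ _ h0
      · have : (MvPolynomial.X 1 : MvPolynomial (Fin 2) k) ^ s 1 =
            MvPolynomial.X 1 ^ N1 * MvPolynomial.X 1 ^ (s 1 - N1) := by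
          rw [← pow_add]; congr 1; omega
        rw [this]
        have : MvPolynomial.C c * ((MvPolynomial.X 0 : MvPolynomial (Fin 2) k) ^ s 0 *
            (MvPolynomial.X 1 ^ N1 * MvPolynomial.X 1 ^ (s 1 - N1))) =
            (MvPolynomial.C c * MvPolynomial.X 0 ^ s 0 * MvPolynomial.X 1 ^ (s 1 - N1)) *
              MvPolynomial.X 1 ^ N1 := by ring
        rw [this]
        exact Ideal.mul_mem_left _ _ h1
    have hPJ : P ∈ J := by
      rw [← MvPolynomial.support_sum_monomial_coeff P]
      apply Ideal.sum_mem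
      intro s hs
      apply hmono
      have hdeg := hP (MvPolynomial.mem_support_iff.1 hs)
      have h2 : s.degree = s 0 + s 1 := by
        rw [Finsupp.degree_eq_sum, Fin.sum_univ_two]
      have h3 : s.degree = max (N0 + N1) d := by
        rw [← hdeg, Finsupp.degree_eq_weight_one]; rfl
      have := le_max_left (N0 + N1) d
      omega
    obtain ⟨G', hG'⟩ := (Ideal.mem_span_range_iff_exists_fun).1 hPJ
    refine ⟨fun i => MvPolynomial.homogeneousComponent (max (N0 + N1) d - d) (G' i),
      fun i => MvPolynomial.homogeneousComponent_isHomogeneous _ _, ?_⟩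
    have h4 : MvPolynomial.homogeneousComponent (max (N0 + N1) d) P = P :=
      MvPolynomial.homogeneousComponent_eq_self hP
    conv_lhs => rw [← h4, ← hG']
    rw [map_sum]
    apply Finset.sum_congr rfl
    intro i _
    rw [mul_comm, hc_mul (F i) (G' i) d _ (hF i) (le_max_right _ _)]
  · rintro ⟨m, hdm, hm⟩ ⟨H, hH, hdiv⟩
    have hdvdP : ∀ P : MvPolynomial (Fin 2) k, P.IsHomogeneous m → H ∣ P := by
      intro P hP
      obtain ⟨G, _, rfl⟩ := hm P hP
      exact Finset.dvd_sum (fun i _ => Dvd.dvd.mul_right (hdiv i) _)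
    have h0 : H ∣ (MvPolynomial.X 0 : MvPolynomial (Fin 2) k) ^ m :=
      hdvdP _ (MvPolynomial.isHomogeneous_X_pow 0 m)
    have h1 : H ∣ (MvPolynomial.X 1 : MvPolynomial (Fin 2) k) ^ m :=
      hdvdP _ (MvPolynomial.isHomogeneous_X_pow 1 m)
    exact hH (Groth.Agent.S17077.isRelPrime_X_pow m m h0 h1)

end Groth.Agent.S17078
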