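import Groth.Statements.S17083
import Groth.Agent.Lib.BlowUpGlue68
import Groth.Agent.Lib.IdealSheafComap
import Groth.Agent.Lib.ModPairProd68
import Groth.Agent.S8852

set_option autoImplicit false
universe u
open CategoryTheory CategoryTheory.Limits AlgebraicGeometry
open MorSch

namespace Groth.Agent.S17083

open CategoryTheory CategoryTheory.Limits AlgebraicGeometry TopologicalSpace
open Groth.Agent.Lib.BlowUpUniv

/-- If `s` is an isomorphism over the open `U`, so is its base change over the preimage of `U`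
(any pullback square). -/
theorem isIso_morphismRestrict_of_isPullback {P X S T : Scheme.{u}} {fst : P ⟶ X} {snd : P ⟶ T}
    {s : X ⟶ S} {g : T ⟶ S} (h : IsPullback fst snd s g) (U : S.Opens)
    [IsIso (s ∣_ U)] : IsIso (snd ∣_ (g ⁻¹ᵁ U)) := by
  have hA := isPullback_morphismRestrict snd (g ⁻¹ᵁ U)
  have hB : IsPullback snd fst g s := h.flip
  have hbig := hA.paste_vert hB
  have hC := isPullback_morphismRestrict s U
  have hsub : Set.range ((snd ⁻¹ᵁ (g ⁻¹ᵁ U)).ι ≫ fst).base ⊆ Set.range (s ⁻¹ᵁ U).ι.base := by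
    rintro _ ⟨z, rfl⟩
    rw [Scheme.Opens.range_ι]
    show s.base (((snd ⁻¹ᵁ (g ⁻¹ᵁ U)).ι ≫ fst).base z) ∈ U
    rw [← Scheme.Hom.comp_apply, Category.assoc, h.w, ← Category.assoc, Scheme.Hom.comp_apply]
    exact z.2
  let v := IsOpenImmersion.lift (s ⁻¹ᵁ U).ι ((snd ⁻¹ᵁ (g ⁻¹ᵁ U)).ι ≫ fst) hsub
  have hv : v ≫ (s ⁻¹ᵁ U).ι = (snd ⁻¹ᵁ (g ⁻¹ᵁ U)).ι ≫ fst := IsOpenImmersion.lift_fac _ _ _
  have hg : (g ∣_ U) ≫ U.ι = (g ⁻¹ᵁ U).ι ≫ g := morphismRestrict_ι g U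
  rw [← hv, ← hg] at hbig
  have htop : IsPullback (snd ∣_ (g ⁻¹ᵁ U)) v (g ∣_ U) (s ∣_ U) := by
    refine IsPullback.of_bot hbig ?_ hC
    rw [← cancel_mono U.ι, Category.assoc, Category.assoc, morphismRestrict_ι s U]
    exact hbig.w.trans (Category.assoc _ _ _)
  exact htop.isIso_fst_of_isIso

/-- In a pullback square of two blowing ups with disjoint centres, the inverse image of the first
centre on the fibre product is effective Cartier. -/
theorem isEffCartier_comap_of_disjoint {X B₁ B₂ P : Scheme.{u}} (I₁ I₂ : X.IdealSheafData)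
    (hdisj : I₁ ⊔ I₂ = ⊤) {σ₁ : B₁ ⟶ X} {σ₂ : B₂ ⟶ X} (hσ₁ : BlowUp.IsBlowUp σ₁ I₁)
    (hσ₂ : BlowUp.IsBlowUp σ₂ I₂) {p₁ : P ⟶ B₁} {p₂ : P ⟶ B₂} (h : IsPullback p₁ p₂ σ₁ σ₂) :
    BlowUp.IsEffCartierIdeal (I₁.comap (p₁ ≫ σ₁)) := by
  apply Groth.Agent.Lib.ModPairClosure68.isEffCartierIdeal_of_forall_exists_isOpenImmersion
  intro p
  by_cases hx : (p₁ ≫ σ₁) p ∈ I₁.support
  · -- the point lies over the complement of the second centre
    have hx2 : (p₁ ≫ σ₁) p ∈ I₂.support.compl := by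
      intro hx2
      have : (p₁ ≫ σ₁) p ∈ (I₁ ⊔ I₂).support := by
        rw [Scheme.IdealSheafData.support_sup]
        exact ⟨hx, hx2⟩
      rw [hdisj, Scheme.IdealSheafData.support_top] at this
      exact this
    have : IsIso (σ₂ ∣_ I₂.support.compl) := isIso_morphismRestrict_compl hσ₂
    have hiso : IsIso (p₁ ∣_ (σ₁ ⁻¹ᵁ I₂.support.compl)) :=
      isIso_morphismRestrict_of_isPullback h.flip I₂.support.compl
    refine ⟨_, (p₁ ⁻¹ᵁ (σ₁ ⁻¹ᵁ I₂.support.compl)).ι, inferInstance, ?_, ?_⟩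
    · rw [Scheme.Opens.range_ι]
      exact hx2
    · rw [← Scheme.IdealSheafData.comap_comp, ← Category.assoc, ← morphismRestrict_ι,
        Category.assoc, Scheme.IdealSheafData.comap_comp]
      have : Flat ((p₁ ∣_ (σ₁ ⁻¹ᵁ I₂.support.compl)) ≫ (σ₁ ⁻¹ᵁ I₂.support.compl).ι) :=
        inferInstance
      rw [Scheme.IdealSheafData.comap_comp]
      exact isEffCartier_comap_of_flat _ _ (isEffCartier_comap_of_flat _ _ hσ₁.1)
  · refine ⟨_, ((p₁ ≫ σ₁) ⁻¹ᵁ I₁.support.compl).ι, inferInstance, ?_, ?_⟩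
    · rw [Scheme.Opens.range_ι]
      exact hx
    · rw [← Scheme.IdealSheafData.comap_comp, comap_eq_top]
      · exact isEffCartier_top
      · intro y
        exact y.2

theorem inf_eq_mul {X : Scheme.{u}} (I₁ I₂ : X.IdealSheafData) (hdisj : I₁ ⊔ I₂ = ⊤) :
    I₁ ⊓ I₂ = I₁ * I₂ := by
  ext V : 2
  change I₁.ideal V ⊓ I₂.ideal V = I₁.ideal V * I₂.ideal V
  symm
  apply Ideal.mul_eq_inf_of_isCoprime
  rw [Ideal.isCoprime_iff_sup_eq]
  have := congrArg (fun I : X.IdealSheafData => I.ideal V) hdisj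
  exact this

/-- The fibre product of two blowing ups with disjoint centres is a blowing up in the product. -/
theorem isBlowUp_of_disjoint {X B₁ B₂ P : Scheme.{u}} (I₁ I₂ : X.IdealSheafData)
    (hdisj : I₁ ⊔ I₂ = ⊤) {σ₁ : B₁ ⟶ X} {σ₂ : B₂ ⟶ X} (hσ₁ : BlowUp.IsBlowUp σ₁ I₁)
    (hσ₂ : BlowUp.IsBlowUp σ₂ I₂) {p₁ : P ⟶ B₁} {p₂ : P ⟶ B₂} (h : IsPullback p₁ p₂ σ₁ σ₂) :
    BlowUp.IsBlowUp (p₁ ≫ σ₁) (I₁ * I₂) := by
  refine ⟨?_, ?_⟩
  · rw [Groth.Agent.Lib.IdealSheafComap.comap_mul]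
    refine isEffCartier_mul _ _ (isEffCartier_comap_of_disjoint I₁ I₂ hdisj hσ₁ hσ₂ h) ?_
    rw [h.w]
    exact isEffCartier_comap_of_disjoint I₂ I₁ (by rw [sup_comm]; exact hdisj) hσ₂ hσ₁ h.flip
  · intro Y g hg
    rw [Groth.Agent.Lib.IdealSheafComap.comap_mul] at hg
    obtain ⟨hg1, hg2⟩ := Groth.Agent.S8852.result _ _ hg
    obtain ⟨h₁, hh₁, hu₁⟩ := hσ₁.2 Y g hg1
    obtain ⟨h₂, hh₂, hu₂⟩ := hσ₂.2 Y g hg2
    change h₁ ≫ σ₁ = g at hh₁
    change h₂ ≫ σ₂ = g at hh₂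
    refine ⟨h.lift h₁ h₂ (hh₁.trans hh₂.symm), ?_, ?_⟩
    · change h.lift h₁ h₂ _ ≫ p₁ ≫ σ₁ = g
      rw [h.lift_fst_assoc, hh₁]
    · intro m hm
      change m ≫ p₁ ≫ σ₁ = g at hm
      apply h.hom_ext
      · rw [h.lift_fst]
        exact hu₁ _ (by change (m ≫ p₁) ≫ σ₁ = g; rw [Category.assoc, hm])
      · rw [h.lift_snd]
        exact hu₂ _ (by change (m ≫ p₂) ≫ σ₂ = g; rw [Category.assoc, ← h.w, hm])


/-- The closed immersion constructed in its proof, as follows. Let X be a scheme, I₁ and I₂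
quasi-coherent ideal sheaves on X with I₁ + I₂ = O_X, so that they cut out disjoint closed
subschemes Z₁ and Z₂, let σ : B → X be a blow-up of X in the ideal I₁ ∩ I₂ of Z₁ ∪ Z₂, and let σ₁ :
B₁ → X and σ₂ : B₂ → X be blow-ups of X in Z₁ and in Z₂ (blow-up in the sense of the universal
property: the inverse image ideal is effective Cartier, finally so). Then there is a morphism ι : B
→ B₁ ×_X B₂ over X which is a closed immersion; the components B → B_i are necessarily the unique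
X-morphisms given by the universal properties. (Published for X a projective space over an
algebraically closed field, Z₂ a closed point and Z₁ a finite set of closed points not containing
it, and iterated there to embed the blow-up at r distinct points as a closed subscheme of the fibre
product over X of the r blow-ups at single points.) -/
theorem result
    {X B B₁ B₂ : Scheme.{u}} (I₁ I₂ : X.IdealSheafData) (hdisj : I₁ ⊔ I₂ = ⊤)
    (σ : B ⟶ X) (hσ : BlowUp.IsBlowUp σ (I₁ ⊓ I₂))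
    (σ₁ : B₁ ⟶ X) (hσ₁ : BlowUp.IsBlowUp σ₁ I₁) (σ₂ : B₂ ⟶ X) (hσ₂ : BlowUp.IsBlowUp σ₂ I₂) :
    ∃ ι : B ⟶ pullback σ₁ σ₂, IsClosedImmersion ι ∧ ι ≫ pullback.fst σ₁ σ₂ ≫ σ₁ = σ := by
  have hP := isBlowUp_of_disjoint I₁ I₂ hdisj hσ₁ hσ₂ (IsPullback.of_hasPullback σ₁ σ₂)
  rw [inf_eq_mul I₁ I₂ hdisj] at hσ
  obtain ⟨e, he⟩ := Groth.Agent.Lib.BlowUpGlue68.exists_iso_of_isBlowUp (I₁ * I₂) σ
    (pullback.fst σ₁ σ₂ ≫ σ₁) hσ hP
  exact ⟨e.hom, inferInstance, he⟩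

end Groth.Agent.S17083
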