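import Groth.Statements.S17084
import Mathlib

set_option autoImplicit false
universe u
open CategoryTheory CategoryTheory.Limits AlgebraicGeometry
open MorSch

namespace Groth.Agent.S17084

lemma isColimit_pullback_cofan {S : Scheme.{u}} {ι : Type u} [Finite ι] (X : ι → Scheme.{u})
    (g : ∀ i, X i ⟶ S) (T : Over S) :
    Nonempty (IsColimit (Cofan.mk (pullback T.hom (Sigma.desc g))
      (fun i => pullback.map T.hom (g i) T.hom (Sigma.desc g) (𝟙 T.left) (Sigma.ι X i) (𝟙 S)
          ((Category.comp_id _).trans (Category.id_comp _).symm)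
          ((Category.comp_id _).trans (Sigma.ι_desc g i).symm)))) := by
  have hau : IsUniversalColimit (Cofan.mk (∐ X) (Sigma.ι X)) :=
    FinitaryPreExtensive.isUniversal_finiteCoproducts (coproductIsCoproduct X)
  refine hau.nonempty_isColimit_of_pullbackCone_left g (Sigma.desc g) T.hom
    (fun i => pullback.cone T.hom (g i)) (fun i => pullback.isLimit _ _)
    (pullback.cone T.hom (Sigma.desc g)) (pullback.isLimit _ _) _ (Iso.refl _) ?_ ?_ ?_
  · intro i; simp
  · intro i; exact pullback.lift_fst _ _ _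
  · intro i; exact pullback.lift_snd _ _ _

lemma key {S Y : Scheme.{u}} {ι : Type u} [Finite ι] (X : ι → Scheme.{u}) (g : ∀ i, X i ⟶ S)
    (gY : Y ⟶ S) (T : Over S) (al : ∀ i, pullback T.hom (g i) ⟶ Y)
    (hw : ∀ i, al i ≫ gY = pullback.snd T.hom (g i) ≫ g i) :
    ∃ bl : pullback T.hom (Sigma.desc g) ⟶ Y,
      bl ≫ gY = pullback.snd T.hom (Sigma.desc g) ≫ Sigma.desc g ∧
      (∀ i, pullback.map T.hom (g i) T.hom (Sigma.desc g) (𝟙 T.left) (Sigma.ι X i) (𝟙 S)
          ((Category.comp_id _).trans (Category.id_comp _).symm)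
          ((Category.comp_id _).trans (Sigma.ι_desc g i).symm) ≫ bl = al i) ∧
      ∀ b' : pullback T.hom (Sigma.desc g) ⟶ Y,
        (∀ i, pullback.map T.hom (g i) T.hom (Sigma.desc g) (𝟙 T.left) (Sigma.ι X i) (𝟙 S)
          ((Category.comp_id _).trans (Category.id_comp _).symm)
          ((Category.comp_id _).trans (Sigma.ι_desc g i).symm) ≫ b' = al i) → b' = bl := by
  obtain ⟨hd⟩ := isColimit_pullback_cofan X g T
  have hfac : ∀ i, pullback.map T.hom (g i) T.hom (Sigma.desc g) (𝟙 T.left) (Sigma.ι X i) (𝟙 S)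
          ((Category.comp_id _).trans (Category.id_comp _).symm)
          ((Category.comp_id _).trans (Sigma.ι_desc g i).symm) ≫ Cofan.IsColimit.desc hd al = al i :=
    fun i => Cofan.IsColimit.fac hd al i
  have hext : ∀ (Z : Scheme.{u}) (p q : pullback T.hom (Sigma.desc g) ⟶ Z),
      (∀ i, pullback.map T.hom (g i) T.hom (Sigma.desc g) (𝟙 T.left) (Sigma.ι X i) (𝟙 S)
          ((Category.comp_id _).trans (Category.id_comp _).symm)
          ((Category.comp_id _).trans (Sigma.ι_desc g i).symm) ≫ p =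
          pullback.map T.hom (g i) T.hom (Sigma.desc g) (𝟙 T.left) (Sigma.ι X i) (𝟙 S)
          ((Category.comp_id _).trans (Category.id_comp _).symm)
          ((Category.comp_id _).trans (Sigma.ι_desc g i).symm) ≫ q) → p = q :=
    fun Z p q h => Cofan.IsColimit.hom_ext hd p q h
  refine ⟨Cofan.IsColimit.desc hd al, ?_, hfac, ?_⟩
  · refine hext _ _ _ (fun i => ?_)
    have h2 : pullback.map T.hom (g i) T.hom (Sigma.desc g) (𝟙 T.left) (Sigma.ι X i) (𝟙 S)
          ((Category.comp_id _).trans (Category.id_comp _).symm)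
          ((Category.comp_id _).trans (Sigma.ι_desc g i).symm) ≫ pullback.snd T.hom (Sigma.desc g)
          = pullback.snd T.hom (g i) ≫ Sigma.ι X i := pullback.lift_snd _ _ _
    rw [reassoc_of% hfac, reassoc_of% h2, hw, Sigma.ι_desc]
  · intro b' hb'
    refine hext _ _ _ (fun i => ?_)
    rw [hfac, hb']


/-- Let (X_i)_{i ∈ ι} be a finite family of schemes over S with structure morphisms g_i : X_i → S, let Y
→ S be a scheme over S and T an S-scheme. Then for every family of S-morphisms a_i : T ×_S X_i → Y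
there is a unique S-morphism b : T ×_S (∐_i X_i) → Y whose restriction along each T ×_S X_i → T ×_S
(∐_i X_i) is a_i. In other words the canonical map Mor_S(∐_i X_i, Y) → ∏_i Mor_S(X_i, Y) of functors
on S-schemes is an isomorphism. -/
theorem result
    {S Y : Scheme.{u}} {ι : Type u} [Finite ι] (X : ι → Scheme.{u}) (g : ∀ i, X i ⟶ S)
    (gY : Y ⟶ S) (T : Over S) (a : ∀ i, (Flatn.morS (g i) gY).obj (Opposite.op T)) :
    ∃! b : (Flatn.morS (Sigma.desc g) gY).obj (Opposite.op T),
      ∀ i, pullback.map T.hom (g i) T.hom (Sigma.desc g) (𝟙 T.left) (Sigma.ι X i) (𝟙 S)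
          ((Category.comp_id _).trans (Category.id_comp _).symm)
          ((Category.comp_id _).trans (Sigma.ι_desc g i).symm) ≫ b.left = (a i).left := by
  obtain ⟨bl, hbw, hbfac, hbuniq⟩ := key X g gY T (fun i => (a i).left) (fun i => Over.w (a i))
  refine ⟨Over.homMk bl hbw, hbfac, ?_⟩
  intro b hb
  exact Over.OverMorphism.ext (hbuniq b.left hb)

end Groth.Agent.S17084
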