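import Mathlib
import Groth.Statements.S17088

set_option autoImplicit false
universe u
open CategoryTheory CategoryTheory.Limits AlgebraicGeometry
open MorSch

namespace Groth.Agent.S17088

/-- Let f : X → S be a separated morphism, ι : W → X an immersion and T an S-scheme. For every closed
subscheme V of W ×_S T which is proper and flat over T — a T-point of the Hilbert functor of W over
S — the composite V → W ×_S T → X ×_S T is a closed immersion, and the map sending V to the ideal
sheaf of this composite, from T-points of the Hilbert functor of W to ideal sheaves on X ×_S T, is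
injective: an immersion induces a monomorphism of Hilbert functors. -/
theorem result
    {W X S : Scheme.{u}} (f : X ⟶ S) [IsSeparated f] (ι : W ⟶ X) [IsImmersion ι]
    (T : Over S) :
    (∀ V : FGA.HilbSet (ι ≫ f) T,
      IsClosedImmersion (V.1.subschemeι ≫ pullback.map (ι ≫ f) T.hom f T.hom ι (𝟙 T.left) (𝟙 S)
          (Category.comp_id _) ((Category.comp_id _).trans (Category.id_comp _).symm))) ∧
    Function.Injective (fun V : FGA.HilbSet (ι ≫ f) T =>
      (V.1.subschemeι ≫ pullback.map (ι ≫ f) T.hom f T.hom ι (𝟙 T.left) (𝟙 S)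
          (Category.comp_id _) ((Category.comp_id _).trans (Category.id_comp _).symm)).ker) := by
  have hcomp : MorphismProperty.IsStableUnderComposition @IsImmersion.{u} :=
    (inferInstance : MorphismProperty.IsMultiplicative @IsImmersion.{u}).toIsStableUnderComposition
  have him : IsImmersion (pullback.map (ι ≫ f) T.hom f T.hom ι (𝟙 T.left) (𝟙 S)
      (Category.comp_id _) ((Category.comp_id _).trans (Category.id_comp _).symm)) :=
    MorphismProperty.pullbackMap (P := @IsImmersion.{u}) (f := ι ≫ f) (g := T.hom) (f' := f)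
      (g' := T.hom) (i₁ := ι) (i₂ := 𝟙 T.left) inferInstance inferInstance rfl
      (Category.id_comp _).symm
  set m := pullback.map (ι ≫ f) T.hom f T.hom ι (𝟙 T.left) (𝟙 S)
      (Category.comp_id _) ((Category.comp_id _).trans (Category.id_comp _).symm) with hm
  have hmsnd : m ≫ pullback.snd f T.hom = pullback.snd (ι ≫ f) T.hom := by
    rw [hm, pullback.lift_snd, Category.comp_id]
  have hcl : ∀ V : FGA.HilbSet (ι ≫ f) T, IsClosedImmersion (V.1.subschemeι ≫ m) := by
    intro V
    have hp : IsProper ((V.1.subschemeι ≫ m) ≫ pullback.snd f T.hom) := by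
      rw [Category.assoc, hmsnd]; exact V.2.1
    have : IsProper (V.1.subschemeι ≫ m) := IsProper.of_comp _ (pullback.snd f T.hom)
    exact IsClosedImmersion.of_isPreimmersion _ (V.1.subschemeι ≫ m).isClosedMap.isClosed_range
  refine ⟨hcl, ?_⟩
  have key : ∀ V V' : FGA.HilbSet (ι ≫ f) T,
      (V.1.subschemeι ≫ m).ker = (V'.1.subschemeι ≫ m).ker → V'.1 ≤ V.1 := by
    intro V V' h
    have := hcl V'
    have hc : IsClosedImmersion.lift (V'.1.subschemeι ≫ m) (V.1.subschemeι ≫ m) (le_of_eq h.symm) ≫
        V'.1.subschemeι ≫ m = V.1.subschemeι ≫ m := IsClosedImmersion.lift_fac _ _ _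
    have hc' : IsClosedImmersion.lift (V'.1.subschemeι ≫ m) (V.1.subschemeι ≫ m)
        (le_of_eq h.symm) ≫ V'.1.subschemeι = V.1.subschemeι := by
      rw [← cancel_mono m, Category.assoc]; exact hc
    calc V'.1 = V'.1.subschemeι.ker := (Scheme.IdealSheafData.ker_subschemeι _).symm
      _ ≤ (IsClosedImmersion.lift (V'.1.subschemeι ≫ m) (V.1.subschemeι ≫ m)
            (le_of_eq h.symm) ≫ V'.1.subschemeι).ker := Scheme.Hom.le_ker_comp _ _
      _ = V.1.subschemeι.ker := by rw [hc']
      _ = V.1 := Scheme.IdealSheafData.ker_subschemeι _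
  intro V₁ V₂ h
  exact Subtype.ext (le_antisymm (key V₂ V₁ h.symm) (key V₁ V₂ h))

end Groth.Agent.S17088
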