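import Groth.Statements.S1709
import Groth.Agent.Lib.AssPush
import Mathlib.RingTheory.Ideal.MinimalPrime.Colon

set_option autoImplicit false
universe u
open CategoryTheory CategoryTheory.Limits AlgebraicGeometry TopologicalSpace
open SDiv

namespace Groth.Agent.S1709

open Groth.Agent.Lib.QCohStalk Groth.Agent.Lib.AssPoints Groth.Agent.Lib.AssPush in
theorem isWeakAssPoint_pushforward {X S : Scheme.{u}} (f : X ⟶ S) [IsAffineHom f]
    [IsLocallyNoetherian X] (F : X.Modules) [F.IsQuasicoherent] (x : X)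
    (hx : Curv2.IsWeakAssPoint F x) :
    Curv2.IsWeakAssPoint ((Scheme.Modules.pushforward f).obj F) (f x) := by
  obtain ⟨_, ⟨V, hV, rfl⟩, hsV, -⟩ :=
    S.isBasis_affineOpens.exists_subset_of_mem_open (Set.mem_univ (f x)) isOpen_univ
  have hW : IsAffineOpen (f ⁻¹ᵁ V) := hV.preimage f
  have hxW : x ∈ f ⁻¹ᵁ V := hsV
  haveI : IsNoetherianRing Γ(X, f ⁻¹ᵁ V) := IsLocallyNoetherian.component_noetherian ⟨_, hW⟩
  obtain ⟨m, hmin⟩ := exists_minimal_of_isWeakAssPoint F hW ⟨x, hxW⟩
    (isLocAt_of_isQuasicoherent F hW _) hx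
  have hcolon : ∀ n : Γ(F, f ⁻¹ᵁ V), ann Γ(X, f ⁻¹ᵁ V) n =
      (⊥ : Submodule Γ(X, f ⁻¹ᵁ V) Γ(F, f ⁻¹ᵁ V)).colon {n} := by
    intro n
    ext a
    rw [Submodule.mem_colon_singleton, mem_ann, Submodule.mem_bot]
  rw [hcolon] at hmin
  obtain ⟨m', hm'⟩ := Submodule.exists_eq_colon_of_mem_minimalPrimes hmin
  rw [← hcolon] at hm'
  have hloc := (isLocalizingOn_pushforward f F V hW).isLocAt hV ⟨f x, hsV⟩
  apply isWeakAssPoint_of_minimal _ hV ⟨f x, hsV⟩ hloc m'
  rw [ann_pushforward]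
  have h1 := IsAffineOpen.comap_primeIdealOf_appLE V hV (f ⁻¹ᵁ V) hW le_rfl hxW
  have h2 : (hV.primeIdealOf ⟨f x, hsV⟩).asIdeal =
      Ideal.comap (f.app V).hom (hW.primeIdealOf ⟨x, hxW⟩).asIdeal := by
    rw [← h1, PrimeSpectrum.comap_asIdeal, Scheme.Hom.appLE_eq_app]
  rw [h2, hm']
  have hprime : (Ideal.comap (f.app V).hom (ann Γ(X, f ⁻¹ᵁ V) m')).IsPrime := by
    rw [← hm']
    exact Ideal.comap_isPrime _ _
  exact ⟨⟨hprime, le_rfl⟩, fun _ hb _ => hb.2⟩

/-- Let f : X ⟶ S be an affine morphism with X locally Noetherian and F a quasi-coherent module on X.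
Then the following subsets of S coincide: the image of the associated points of F, the associated
points of f_* F, the weakly associated points of f_* F, and the image of the weakly associated
points of F. -/
theorem result {X S : Scheme.{u}} (f : X ⟶ S) [IsAffineHom f] [IsLocallyNoetherian X] (F : X.Modules)
    (hF : Coh.IsQCoh F) :
    (fun x => f x) '' {x : ↥X | Curv2.IsAssPoint F x} = {s : ↥S | Curv2.IsAssPoint ((Scheme.Modules.pushforward f).obj F) s} ∧
      {s : ↥S | Curv2.IsAssPoint ((Scheme.Modules.pushforward f).obj F) s} =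
        {s : ↥S | Curv2.IsWeakAssPoint ((Scheme.Modules.pushforward f).obj F) s} ∧
      {s : ↥S | Curv2.IsWeakAssPoint ((Scheme.Modules.pushforward f).obj F) s} =
        (fun x => f x) '' {x : ↥X | Curv2.IsWeakAssPoint F x} := by
  haveI : F.IsQuasicoherent := hF
  have key : {s : ↥S | Curv2.IsWeakAssPoint ((Scheme.Modules.pushforward f).obj F) s} =
      (fun x => f x) '' {x : ↥X | Curv2.IsWeakAssPoint F x} := by
    ext s
    constructor
    · intro hs
      obtain ⟨x, hxs, hx⟩ :=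
        Groth.Agent.Lib.AssPush.exists_isWeakAssPoint_of_pushforward f F s hs
      exact ⟨x, hx, hxs⟩
    · rintro ⟨x, hx, rfl⟩
      exact isWeakAssPoint_pushforward f F x hx
  have e1 : {x : ↥X | Curv2.IsAssPoint F x} = {x : ↥X | Curv2.IsWeakAssPoint F x} := by
    ext x
    exact Groth.Agent.Lib.AssPoints.isAssPoint_iff_isWeakAssPoint F x
  have e2 : {s : ↥S | Curv2.IsAssPoint ((Scheme.Modules.pushforward f).obj F) s} =
      {s : ↥S | Curv2.IsWeakAssPoint ((Scheme.Modules.pushforward f).obj F) s} := by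
    ext s
    exact Groth.Agent.Lib.AssPoints.isAssPoint_iff_isWeakAssPoint _ s
  refine ⟨?_, e2, key⟩
  rw [e1, e2, key]

end Groth.Agent.S1709
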