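import Groth.Statements.S1710
import Groth.Agent.Lib.RelCartier

set_option autoImplicit false
universe u
open CategoryTheory CategoryTheory.Limits AlgebraicGeometry TopologicalSpace
open SDiv

namespace Groth.Agent.S1710

/-- Let f : X ⟶ S be a morphism and 𝓘₁, 𝓘₂ ideal sheaves of effective Cartier divisors D₁ ⊆ D₂ on X,
both flat over S, and let 𝓘 be the ideal sheaf of an effective Cartier divisor D with D₂ = D₁ + D
(that is, 𝓘₁𝓘 = 𝓘₂). Then D is flat over S as well. -/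
theorem result {X S : Scheme.{u}} (f : X ⟶ S) (𝓘₁ 𝓘₂ 𝓘 : X.IdealSheafData)
    (h₁ : (BlowUp.IsEffCartierIdeal 𝓘₁ ∧ Flat (𝓘₁.subschemeι ≫ f))) (h₂ : (BlowUp.IsEffCartierIdeal 𝓘₂ ∧ Flat (𝓘₂.subschemeι ≫ f))) (h : BlowUp.IsEffCartierIdeal 𝓘) (hsum : 𝓘₁ * 𝓘 = 𝓘₂) :
    Flat (𝓘.subschemeι ≫ f) := by
  apply Groth.Agent.Lib.RelCartier.flat_subscheme_of_flat_quot
  intro x _
  obtain ⟨T, V, e, b₁, b, hxV, hb₁, hb, hJ₁, hJ⟩ :=
    Groth.Agent.Lib.RelCartier.exists_local_data f 𝓘₁ 𝓘 h₁.1 h x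
  refine ⟨T, V, e, hxV, ?_⟩
  have hf₁ := Groth.Agent.Lib.RelCartier.flat_quot_of_flat_subscheme f 𝓘₁ h₁.2 T V e
  have hf₂ := Groth.Agent.Lib.RelCartier.flat_quot_of_flat_subscheme f 𝓘₂ h₂.2 T V e
  have hJ₂ : 𝓘₂.ideal V = Ideal.span {b₁ * b} := by
    rw [← hsum, Scheme.IdealSheafData.ideal_mul, Pi.mul_apply, hJ₁, hJ,
      Ideal.span_singleton_mul_span_singleton]
  rw [hJ₁] at hf₁
  rw [hJ₂] at hf₂
  rw [hJ]
  letI := (f.appLE T.1 V.1 e).hom.toAlgebra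
  exact Groth.Agent.Lib.RelCartier.flat_quot_of_mul b₁ b Γ(S, T.1) hb₁

end Groth.Agent.S1710
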