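import Groth.Statements.S1712
import Groth.Agent.Lib.H29DualSupp

set_option autoImplicit false
universe u
open CategoryTheory
attribute [local instance] HasDerivedCategory.standard
open Dual

namespace Groth.Agent.S1712

open Groth.Agent.Lib.H29DualPrime

/-- Let A be a Noetherian local ring with a normalized dualizing complex ω, M a finite A-module and E^j
the A-module of maps M → ω[-j] in D(A). A prime p is in the support of one of E^0, …, E^i if and
only if the depth of M_p over A_p plus the dimension of A/p is at most i. -/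
theorem result (A : Type u) [CommRing A] [IsLocalRing A] [IsNoetherianRing A] (ω : Dual.D A) (hω : Dual.IsDualizing A ω) (hn : Dual.IsNormalized A ω) (M : Type u) [AddCommGroup M] [Module A M] [Module.Finite A M] (i : ℕ) (p : PrimeSpectrum A) : (∃ j : ℕ, j ≤ i ∧ p ∈ Module.support A (Dual.inD A M ⟶ ω⟦(-(j : ℤ))⟧)) ↔ ((LocCoh.depth (Localization.AtPrime p.asIdeal) (LocalizedModule p.asIdeal.primeCompl M) : ℕ∞) : WithBot ℕ∞) + ringKrullDim (A ⧸ p.asIdeal) ≤ (i : WithBot ℕ∞) := by
  classical
  let S := p.asIdeal.primeCompl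
  haveI : IsNoetherianRing (Localization S) :=
    IsLocalization.isNoetherianRing S (Localization S) inferInstance
  haveI : Module.Finite (Localization S) (LocalizedModule S M) := inferInstance
  have hW := isDualizing_WAt A ω hω p
  have hnW := isNormalized_WAt A ω hω p
  -- the dimension of `A/p`
  have hle : p ≤ IsLocalRing.closedPoint A := IsLocalRing.le_maximalIdeal p.2.ne_top
  have hd0 := degAt_le_of_le A ω hω p _ hle
  rw [degAt_closedPoint A ω hω hn] at hd0
  obtain ⟨e, he⟩ : ∃ e : ℕ, degAt A ω hω p = -(e : ℤ) := ⟨(-degAt A ω hω p).toNat, by omega⟩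
  have hdim : ringKrullDim (A ⧸ p.asIdeal) = ((e : ℕ) : WithBot ℕ∞) := by
    rw [ringKrullDim_quotient_eq A ω hω p, degAt_closedPoint A ω hω hn, he]
    congr 1
    simp
  rw [hdim]
  -- depth of a zero module
  have htop : Subsingleton (LocalizedModule S M) →
      LocCoh.depth (Localization.AtPrime p.asIdeal) (LocalizedModule S M) = ⊤ := by
    intro hs
    unfold LocCoh.depth LocCoh.idealDepth
    rw [if_pos (Subsingleton.elim _ _)]
  constructor
  · rintro ⟨j, hji, hj⟩
    have hnt := (mem_support_inD_iff A ω hω p M (-(j : ℤ)) ((e : ℤ) - j) (by rw [he]; ring)).mp hj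
    have hntM : Nontrivial (LocalizedModule S M) := by
      by_contra hcon
      rw [not_nontrivial_iff_subsingleton] at hcon
      have hz : CategoryTheory.Limits.IsZero (Dual.inD (Localization S) (LocalizedModule S M)) :=
        (DerivedCategory.singleFunctor (ModuleCat.{u} (Localization S)) 0).map_isZero
          (ModuleCat.isZero_of_subsingleton _)
      obtain ⟨f, g, hfg⟩ := hnt
      exact hfg (hz.eq_of_src _ _)
    obtain ⟨δ, hδ⟩ := ENat.ne_top_iff_exists.mp
      (Groth.Agent.Lib.DepthRees.depth_ne_top (R := Localization S) (LocalizedModule S M))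
    obtain ⟨g1, _⟩ := Groth.Agent.Lib.H29DualLocal.depth_imp (Localization S) _ hW hnW δ
      (LocalizedModule S M) hδ.symm
    have h1 : (e : ℤ) ≤ j := by
      by_contra hcon
      haveI := Groth.Agent.Lib.H29DualLocal.subsingleton_T_pos (Localization S) _ hW hnW
        (LocalizedModule S M) ((e : ℤ) - j) (by omega)
      exact absurd hnt (not_nontrivial _)
    have h2 : δ + e ≤ j := by
      by_contra hcon
      have h3 : j - e < δ := by omega
      haveI := g1 (j - e) h3
      have h4 : ((e : ℤ) - j) = -((j - e : ℕ) : ℤ) := by omega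
      rw [h4] at hnt
      exact absurd hnt (not_nontrivial _)
    have h5 : LocCoh.depth (Localization.AtPrime p.asIdeal) (LocalizedModule S M) = (δ : ℕ∞) :=
      hδ.symm
    rw [h5]
    have h6 : δ + e ≤ i := le_trans h2 hji
    exact_mod_cast h6
  · intro h
    by_cases hdt : LocCoh.depth (Localization.AtPrime p.asIdeal) (LocalizedModule S M) = ⊤
    · exfalso
      rw [hdt] at h
      have h1 : (((⊤ : ℕ∞) + (e : ℕ∞) : ℕ∞) : WithBot ℕ∞) ≤ ((i : ℕ∞) : WithBot ℕ∞) := by
        exact_mod_cast h
      rw [WithBot.coe_le_coe, top_add, top_le_iff] at h1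
      exact ENat.coe_ne_top i h1
    · obtain ⟨δ, hδ⟩ := ENat.ne_top_iff_exists.mp hdt
      have hntM : Nontrivial (LocalizedModule S M) := by
        by_contra hcon
        rw [not_nontrivial_iff_subsingleton] at hcon
        exact hdt (htop hcon)
      obtain ⟨_, g2⟩ := Groth.Agent.Lib.H29DualLocal.depth_imp (Localization S) _ hW hnW δ
        (LocalizedModule S M) hδ.symm
      rw [← hδ] at h
      have h1 : δ + e ≤ i := by exact_mod_cast h
      refine ⟨δ + e, h1, ?_⟩
      exact (mem_support_inD_iff A ω hω p M (-((δ + e : ℕ) : ℤ)) (-(δ : ℤ))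
        (by rw [he]; push_cast; ring)).mpr g2

end Groth.Agent.S1712
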