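import Groth.Statements.S1713
import Groth.Agent.Lib.H29LDMain
import Groth.Agent.S0299

set_option autoImplicit false
universe u
open CategoryTheory
attribute [local instance] HasDerivedCategory.standard
open Dual

namespace Groth.Agent.S1713

/-- maps into an injective hull of the residue field separate points (universe polymorphic) -/
theorem exists_dual_ne_zero {A : Type u} [CommRing A] [IsLocalRing A] {E : Type u} [AddCommGroup E]
    [Module A E] (f : IsLocalRing.ResidueField A →ₗ[A] E) (hf : InjHull.IsInjectiveHull f)
    {X : Type*} [AddCommGroup X] [Module A X] (x : X) (hx : x ≠ 0) :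
    ∃ θ : X →ₗ[A] E, θ x ≠ 0 := by
  let t : A →ₗ[A] X := LinearMap.toSpanSingleton A X x
  let res : A →ₗ[A] IsLocalRing.ResidueField A :=
    Algebra.linearMap A (IsLocalRing.ResidueField A)
  have hle : LinearMap.ker t ≤ LinearMap.ker (f ∘ₗ res) := by
    intro a ha
    rw [LinearMap.mem_ker, LinearMap.toSpanSingleton_apply] at ha
    have ham : a ∈ IsLocalRing.maximalIdeal A := by
      by_contra hnot
      have hu : IsUnit a := by
        rwa [IsLocalRing.mem_maximalIdeal, mem_nonunits_iff, not_not] at hnot
      apply hx
      have := congrArg (fun y => (hu.unit⁻¹ : Aˣ) • y) ha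
      simpa [Units.smul_def, smul_smul] using this
    rw [LinearMap.mem_ker, LinearMap.comp_apply]
    have : res a = 0 := by
      change algebraMap A (IsLocalRing.ResidueField A) a = 0
      rw [IsLocalRing.ResidueField.algebraMap_eq, IsLocalRing.residue_eq_zero_iff]
      exact ham
    rw [this, map_zero]
  have h0 : (f ∘ₗ res) ∘ₗ (LinearMap.ker t).subtype = 0 := by
    apply LinearMap.ext
    intro a
    exact hle a.2
  obtain ⟨θ, hθ⟩ := Groth.Agent.Lib.H29LDExact.exists_factor hf.isInjective
    (LinearMap.ker t).subtype t (LinearMap.exact_subtype_ker_map t) (f ∘ₗ res) h0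
  refine ⟨θ, ?_⟩
  have h1 := LinearMap.congr_fun hθ 1
  rw [LinearMap.comp_apply, LinearMap.toSpanSingleton_apply, one_smul] at h1
  rw [h1, LinearMap.comp_apply]
  intro h2
  have h3 : res 1 = 0 := hf.injective (h2.trans (map_zero f).symm)
  have h4 : res 1 = 1 := map_one (algebraMap A (IsLocalRing.ResidueField A))
  rw [h4] at h3
  exact one_ne_zero h3

/-- the annihilator of the `E`-dual of a module is the annihilator of the module -/
theorem annihilator_dual {A : Type u} [CommRing A] [IsLocalRing A] {E : Type u} [AddCommGroup E]
    [Module A E] (f : IsLocalRing.ResidueField A →ₗ[A] E) (hf : InjHull.IsInjectiveHull f)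
    (X : Type*) [AddCommGroup X] [Module A X] :
    Module.annihilator A (X →ₗ[A] E) = Module.annihilator A X := by
  ext a
  rw [Module.mem_annihilator, Module.mem_annihilator]
  constructor
  · intro h x
    by_contra hne
    obtain ⟨θ, hθ⟩ := exists_dual_ne_zero f hf (a • x) hne
    apply hθ
    rw [map_smul, ← LinearMap.smul_apply, h θ, LinearMap.zero_apply]
  · intro h θ
    apply LinearMap.ext
    intro x
    rw [LinearMap.smul_apply, ← map_smul, h x, map_zero, LinearMap.zero_apply]

/-- Let A be a Noetherian local ring with maximal ideal m and a normalized dualizing complex ω, and M a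
finite A-module. For every i ≥ 0 the annihilator of the A-module of maps M → ω[-i] in D(A) equals
the annihilator of the local cohomology module H^i_m(M). -/
theorem result (A : Type u) [CommRing A] [IsLocalRing A] [IsNoetherianRing A] (ω : Dual.D A) (hω : Dual.IsDualizing A ω) (hn : Dual.IsNormalized A ω) (M : Type u) [AddCommGroup M] [Module A M] [Module.Finite A M] (i : ℕ) : Module.annihilator A (Dual.inD A M ⟶ ω⟦(-(i : ℤ))⟧) = Module.annihilator A (LocCoh.H (IsLocalRing.maximalIdeal A) i M) := by
  obtain ⟨E, _, _, f, hf⟩ := Groth.Agent.S0299.result A (IsLocalRing.ResidueField A)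
  have e := LinearEquiv.ofBijective
    (Groth.Agent.Lib.H29LDMain.PsiF A ω hω hn f hf i (-(i : ℤ)) (by simp) M)
    (Groth.Agent.Lib.H29LDMain.PsiF_bijective A ω hω hn f hf i (-(i : ℤ)) (by simp) M)
  rw [e.annihilator_eq, annihilator_dual f hf]

end Groth.Agent.S1713
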