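import Groth.Statements.S17147
import Groth.Agent.Lib.Isoc76I

set_option autoImplicit false
universe u v
open Isoc

namespace Groth.Agent.S17147

/-- Let k be a perfect field of characteristic p, a ∈ ℤ, W = W(k) with fraction field L, and (N, F) a
σ^a-F-isocrystal over k (N finite-dimensional over L, F a bijective σ^a-semilinear endomorphism) of
height h, with b an L-basis of N indexed by Fin h and d the p-adic order of the determinant
coefficient of F in b. If λ₁(N, F) = d/h, then there exists a W-lattice M in N with F^h(M) = p^d · M
(so (N, F) is isoclinic of slope d/h in the lattice sense). -/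
theorem result (p : ℕ) [Fact p.Prime] (k : Type u) [Field k] [CharP k p] [PerfectRing k p] (a : ℤ)
    (N : Type v) [AddCommGroup N] [Module (WittVector p k) N] [Module (FractionRing (WittVector p k)) N]
    [IsScalarTower (WittVector p k) (FractionRing (WittVector p k)) N]
    (F : N →ₛₗ[Isoc.frob p k a] N) (hF : Isoc.IsIsoc F)
    (h : ℕ) (b : Module.Basis (Fin h) (FractionRing (WittVector p k)) N)
    (d : ℤ) (hd : Isoc.IsOrdP (Isoc.detCoeff b F) d)
    (hlam : Isoc.IsFirstSlope F ((d : ℝ) / h)) :
    ∃ M : Submodule (WittVector p k) N, M.IsLattice (FractionRing (WittVector p k)) ∧ Isoc.latImg F h M = Isoc.pPow d M := by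
  have := hF.finite
  have hτ := Groth.Agent.Lib.Isoc76.goodTwist_frob (p := p) (k := k) a
  have hN : Nontrivial N := by
    obtain ⟨M, _, o, ho, _⟩ := hlam
    exact Groth.Agent.Lib.Isoc76.nontrivial_of_isOrd (ho 1 le_rfl)
  have hpos : 0 < h := by
    rcases Nat.eq_zero_or_pos h with h0 | h0
    · subst h0
      exfalso
      have : Subsingleton N := by
        refine ⟨fun x y => ?_⟩
        apply b.repr.injective
        ext i
        exact i.elim0
      exact not_subsingleton N this
    · exact h0
  obtain ⟨M, hM, hle⟩ := Groth.Agent.Lib.Isoc76.exists_lattice_latImg_le_pPow hτ F hF.bijective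
    hlam d h hpos le_rfl
  exact ⟨M, hM, Groth.Agent.Lib.Isoc76.latImg_eq_of_le_of_mul_eq hτ F b hd M hM hle (mul_comm _ _)⟩

end Groth.Agent.S17147
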