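import Groth.Statements.S1715
import Groth.Agent.Lib.H29DualCMLocus

set_option autoImplicit false
universe u
open CategoryTheory
attribute [local instance] HasDerivedCategory.standard
open LocCoh

namespace Groth.Agent.S1715

/-- For an affine scheme: let A be a Noetherian ring with a dualizing complex and M a finite A-module
satisfying Serre's condition (S_k). Then there are only finitely many primes p such that M_p has
depth exactly k while its support has dimension greater than k. (The source states this for coherent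
modules on a Noetherian scheme with a dualizing complex.) -/
theorem result (A : Type u) [CommRing A] [IsNoetherianRing A] (hA : ∃ ω : Dual.D A, Dual.IsDualizing A ω) (M : Type u) [AddCommGroup M] [Module A M] [Module.Finite A M] (k : ℕ) (hM : LocCoh.HasSk k A M) : Set.Finite {p : PrimeSpectrum A | LocCoh.depth (Localization.AtPrime p.asIdeal) (LocalizedModule p.asIdeal.primeCompl M) = k ∧ (k : WithBot ℕ∞) < Module.supportDim (Localization.AtPrime p.asIdeal) (LocalizedModule p.asIdeal.primeCompl M)} := by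
  classical
  obtain ⟨ω, hω⟩ := hA
  obtain ⟨a, b, hab⟩ := hω.finite_injective_dimension
  let I : ℤ × ℤ → Ideal A := fun x =>
    Module.annihilator A (Dual.inD A M ⟶ ω⟦x.1⟧) ⊔ Module.annihilator A (Dual.inD A M ⟶ ω⟦x.2⟧)
  have hmemI : ∀ (x : ℤ × ℤ) (q : PrimeSpectrum A), I x ≤ q.asIdeal ↔
      (q ∈ Module.support A (Dual.inD A M ⟶ ω⟦x.1⟧) ∧
        q ∈ Module.support A (Dual.inD A M ⟶ ω⟦x.2⟧)) := by
    intro x q
    haveI := Groth.Agent.Lib.H29DualLocal.finite_T A ω hω M x.1
    haveI := Groth.Agent.Lib.H29DualLocal.finite_T A ω hω M x.2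
    rw [Module.mem_support_iff_of_finite, Module.mem_support_iff_of_finite]
    exact sup_le_iff
  have hrange : ∀ (i : ℤ) (q : PrimeSpectrum A),
      q ∈ Module.support A (Dual.inD A M ⟶ ω⟦i⟧) → a ≤ i ∧ i ≤ b := by
    intro i q hq
    by_contra hcon
    haveI := hab M i (by omega)
    rw [Module.support_eq_empty] at hq
    exact hq
  let F : Finset (ℤ × ℤ) := Finset.Icc a b ×ˢ Finset.Icc a b
  have hfin : (⋃ x ∈ F, (PrimeSpectrum.asIdeal ⁻¹' (I x).minimalPrimes :
      Set (PrimeSpectrum A))).Finite := by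
    refine Set.Finite.biUnion (Finset.finite_toSet F) (fun x _ => ?_)
    refine Set.Finite.preimage ?_ (Ideal.finite_minimalPrimes_of_isNoetherianRing A (I x))
    intro p _ q _ hpq
    exact PrimeSpectrum.ext hpq
  refine hfin.subset ?_
  rintro p ⟨hpdepth, hpdim⟩
  -- `M_p` is nontrivial
  have hntp : Nontrivial (LocalizedModule p.asIdeal.primeCompl M) := by
    by_contra hcon
    rw [not_nontrivial_iff_subsingleton] at hcon
    have htop : LocCoh.depth (Localization.AtPrime p.asIdeal)
        (LocalizedModule p.asIdeal.primeCompl M) = ⊤ := by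
      unfold LocCoh.depth LocCoh.idealDepth
      rw [if_pos (Subsingleton.elim _ _)]
    rw [htop] at hpdepth
    exact ENat.coe_ne_top k hpdepth.symm
  obtain ⟨d, δ, hd, hδ⟩ := Groth.Agent.Lib.H29DualPrime.exists_dim_depth A ω hω M p
  have hδk : δ = k := by
    rw [hδ] at hpdepth
    exact_mod_cast hpdepth
  subst hδk
  have hkd : δ < d := by
    rw [hd] at hpdim
    exact_mod_cast hpdim
  have h1 := Groth.Agent.Lib.H29DualPrime.mem_support_depth A ω hω M p δ hδ
  have h2 := Groth.Agent.Lib.H29DualPrime.mem_support_dim A ω hω M p d hd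
  simp only [Set.mem_iUnion, Set.mem_preimage, exists_prop]
  refine ⟨(Groth.Agent.Lib.H29DualPrime.degAt A ω hω p - δ,
    Groth.Agent.Lib.H29DualPrime.degAt A ω hω p - d), ?_, ?_⟩
  · show _ ∈ F
    rw [Finset.mem_product, Finset.mem_Icc, Finset.mem_Icc]
    exact ⟨hrange _ p h1, hrange _ p h2⟩
  · refine ⟨⟨p.2, (hmemI _ p).mpr ⟨h1, h2⟩⟩, ?_⟩
    rintro Q ⟨hQprime, hQI⟩ hQp
    by_contra hnle
    let q : PrimeSpectrum A := ⟨Q, hQprime⟩
    have hqp : q < p := lt_of_le_of_ne hQp (fun h => hnle (by rw [← h]))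
    obtain ⟨hq1, hq2⟩ := (hmemI _ q).mp hQI
    haveI := Groth.Agent.Lib.H29DualPrime.nontrivial_of_mem_support A ω hω M q _ hq1
    obtain ⟨d', δ', hd', hδ'⟩ := Groth.Agent.Lib.H29DualPrime.exists_dim_depth A ω hω M q
    have r1 := Groth.Agent.Lib.H29DualPrime.range_of_mem_support A ω hω M q d' δ' hd' hδ' _ hq1
    have r2 := Groth.Agent.Lib.H29DualPrime.range_of_mem_support A ω hω M q d' δ' hd' hδ' _ hq2
    have hdeg := Groth.Agent.Lib.H29DualPrime.degAt_strictMono A ω hω hqp
    have hsk := hM Q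
    rw [hd', hδ'] at hsk
    rcases le_total δ d' with hle | hle
    · have hc : ((δ : ℕ) : WithBot ℕ∞) ≤ ((d' : ℕ) : WithBot ℕ∞) := by exact_mod_cast hle
      rw [min_eq_left hc] at hsk
      have hsk' : δ ≤ δ' := by exact_mod_cast hsk
      omega
    · have hc : ((d' : ℕ) : WithBot ℕ∞) ≤ ((δ : ℕ) : WithBot ℕ∞) := by exact_mod_cast hle
      rw [min_eq_right hc] at hsk
      have hsk' : d' ≤ δ' := by exact_mod_cast hsk
      omega

end Groth.Agent.S1715
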