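import Groth.Statements.S4721
import Groth.Agent.Lib.HartshorneConn
-- import your own Groth.Agent.* helpers here

set_option autoImplicit false
universe u
open EGA4

namespace Groth.Agent.S4721

/-- Let A be a Noetherian ring whose spectrum is connected and d a natural number such that for every
prime p of height at least d the local ring A_p has depth at least 2. Then for any two distinct
minimal primes p', p'' of A there is a finite chain of minimal primes starting at p' and ending at
p'' such that any two consecutive members are both contained in a prime ideal of height at most d −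
1 (the spectrum is connected in codimension at most d − 1). -/
theorem result (A : Type u) [CommRing A] [IsNoetherianRing A]
    [ConnectedSpace (PrimeSpectrum A)] (d : ℕ)
    (h : ∀ (p : Ideal A) [p.IsPrime], (d : ℕ∞) ≤ p.height →
      (2 : ℕ∞) ≤ LocCoh.depth (Localization.AtPrime p) (Localization.AtPrime p))
    (p' p'' : Ideal A) (hp' : p' ∈ minimalPrimes A) (hp'' : p'' ∈ minimalPrimes A) (hne : p' ≠ p'') :
    ∃ (n : ℕ) (c : Fin (n + 1) → Ideal A), c 0 = p' ∧ c (Fin.last n) = p'' ∧ (∀ i, c i ∈ minimalPrimes A) ∧
      ∀ i : Fin n, ∃ (q : Ideal A) (_ : q.IsPrime),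
        c i.castSucc ≤ q ∧ c i.succ ≤ q ∧ q.height + 1 ≤ (d : ℕ∞) := by
  classical
  let P : Ideal A → Prop := fun q => q.height + 1 ≤ (d : ℕ∞)
  have hP : ∀ (p : Ideal A) [p.IsPrime], ¬ P p →
      (2 : ℕ∞) ≤ LocCoh.depth (Localization.AtPrime p) (Localization.AtPrime p) := by
    intro p _ hnP
    apply h p
    have hnP' : ¬ (p.height + 1 ≤ (d : ℕ∞)) := hnP
    cases hh : p.height with
    | top => exact le_top
    | coe n =>
      rw [hh] at hnP'
      have : ¬ (n + 1 ≤ d) := fun hle => hnP' (by exact_mod_cast hle)
      exact_mod_cast (by omega : d ≤ n)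
  have hpath := Groth.Agent.Lib.HartshorneConn.reflTransGen_rel A P hP p' p'' hp' hp''
  obtain ⟨n, c, hc0, hcl, hc⟩ := Groth.Agent.Lib.HartshorneConn.exists_fin_chain _ hpath
  refine ⟨n, c, hc0, hcl, ?_, ?_⟩
  · intro i
    refine Fin.cases ?_ (fun j => ?_) i
    · rw [hc0]; exact hp'
    · exact (hc j).2.1
  · intro i
    obtain ⟨_, _, q, hq, h1, h2, h3⟩ := hc i
    exact ⟨q, hq, h1, h2, h3⟩

end Groth.Agent.S4721
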