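import Groth.Statements.S5154
import Groth.Agent.S4721
import Groth.Agent.Lib.EquidimCat33
import Groth.Agent.Lib.CatenaryDim
import Mathlib

set_option autoImplicit false
universe u
open LocCoh

namespace Groth.Agent.S5154

open Groth.Agent.Lib

/-- the spectrum of a local ring is connected -/
theorem connectedSpace_of_isLocalRing (A : Type u) [CommRing A] [IsLocalRing A] :
    ConnectedSpace (PrimeSpectrum A) := by
  haveI : Nonempty (PrimeSpectrum A) := ⟨IsLocalRing.closedPoint A⟩
  refine @ConnectedSpace.mk _ _ ⟨?_⟩ ‹_›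
  refine isPreconnected_of_forall (IsLocalRing.closedPoint A) fun y _ => ?_
  refine ⟨closure {y}, Set.subset_univ _, ?_, subset_closure rfl, isPreconnected_singleton.closure⟩
  exact (IsLocalRing.specializes_closedPoint y).mem_closure

open scoped Classical in
/-- two minimal primes inside a prime of height ≤ 1 have the same coheight (catenary local) -/
theorem coheight_eq_of_le {A : Type u} [CommRing A] [IsLocalRing A] [IsNoetherianRing A]
    (hc : CAlg.IsCatenary A) (P Q : PrimeSpectrum A) (hP : P.asIdeal ∈ minimalPrimes A)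
    (hPQ : P ≤ Q) (hQ : Q.asIdeal.height ≤ 1) :
    Order.coheight P = if Q.asIdeal ∈ minimalPrimes A then Order.coheight Q
      else Order.coheight Q + 1 := by
  split_ifs with hQm
  · have : Q ≤ P := by
      have := hQm.2 ⟨P.2, bot_le⟩ hPQ
      exact this
    rw [le_antisymm hPQ this]
  · have hne : P ≠ Q := by
      rintro rfl
      exact hQm hP
    have hlt : P < Q := lt_of_le_of_ne hPQ hne
    have hcov : P ⋖ Q := by
      refine ⟨hlt, fun R hPR hRQ => ?_⟩
      have h1 : Order.height Q ≤ 1 := by
        rw [EquidimCat33.height_eq]; exact hQ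
      have h2 : Order.height R + 1 ≤ Order.height Q := Order.height_add_one_le hRQ
      have h3 : Order.height P + 1 ≤ Order.height R := Order.height_add_one_le hPR
      have h4 : (0 : ℕ∞) + 1 + 1 ≤ 1 := by
        calc (0 : ℕ∞) + 1 + 1 ≤ Order.height P + 1 + 1 := by gcongr; exact bot_le
          _ ≤ Order.height R + 1 := by gcongr
          _ ≤ Order.height Q := h2
          _ ≤ 1 := h1
      norm_num at h4
    exact CatenaryDim.coheight_eq_add_one_of_covBy_of_isCatenary hc hcov


/-- Let A be a Noetherian local ring which is catenary and such that depth A_p ≥ 2 for every prime p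
with dim A_p ≥ 2. Then all irreducible components of Spec A have dimension dim A: for every minimal
prime p, dim A/p = dim A. -/
theorem result (A : Type u) [CommRing A] [IsLocalRing A] [IsNoetherianRing A] (hc : CAlg.IsCatenary A) (h : ∀ p : PrimeSpectrum A, (2 : ℕ∞) ≤ p.asIdeal.height → (2 : ℕ∞) ≤ LocCoh.depth (Localization.AtPrime p.asIdeal) (Localization.AtPrime p.asIdeal)) (p : Ideal A) (hp : p ∈ minimalPrimes A) : ringKrullDim (A ⧸ p) = ringKrullDim A := by
  haveI := connectedSpace_of_isLocalRing A
  -- all minimal primes have the same coheight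
  have key : ∀ (P Q : PrimeSpectrum A), P.asIdeal ∈ minimalPrimes A → Q.asIdeal ∈ minimalPrimes A →
      Order.coheight P = Order.coheight Q := by
    intro P Q hP hQ
    by_cases hne : P.asIdeal = Q.asIdeal
    · rw [PrimeSpectrum.ext hne]
    obtain ⟨n, c, hc0, hcn, hcm, hstep⟩ := Groth.Agent.S4721.result A 2
      (fun p _ hp2 => h ⟨p, inferInstance⟩ (by exact_mod_cast hp2)) P.asIdeal Q.asIdeal hP hQ hne
    have hprime : ∀ i, (c i).IsPrime := fun i => (hcm i).1.1
    have hall : ∀ i : Fin (n + 1), Order.coheight (⟨c i, hprime i⟩ : PrimeSpectrum A)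
        = Order.coheight P := by
      intro i
      induction i using Fin.induction with
      | zero => congr 1; exact PrimeSpectrum.ext hc0
      | succ i ih =>
        rw [← ih]
        obtain ⟨q, hq, h1, h2, h3⟩ := hstep i
        have hq1 : q.height ≤ 1 := by
          have h3' : q.height + 1 ≤ (1 : ℕ∞) + 1 := by
            calc q.height + 1 ≤ ((2 : ℕ) : ℕ∞) := h3
              _ = 1 + 1 := by norm_num
          exact (ENat.add_le_add_iff_right (by simp)).1 h3'
        rw [coheight_eq_of_le hc ⟨c i.succ, hprime _⟩ ⟨q, hq⟩ (hcm _) h2 hq1,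
          coheight_eq_of_le hc ⟨c i.castSucc, hprime _⟩ ⟨q, hq⟩ (hcm _) h1 hq1]
    rw [← hall (Fin.last n)]
    congr 1
    exact PrimeSpectrum.ext hcn
  have hpp : p.IsPrime := hp.1.1
  rw [show p = (⟨p, hpp⟩ : PrimeSpectrum A).asIdeal from rfl, ← EquidimCat33.coheight_eq]
  apply le_antisymm (Order.coheight_le_krullDim _)
  rw [Order.krullDim_eq_iSup_coheight_of_nonempty, WithBot.coe_le_coe]
  refine iSup_le fun Q => ?_
  obtain ⟨q, hq, hqQ⟩ := Ideal.exists_minimalPrimes_le (J := Q.asIdeal) (I := ⊥) bot_le
  have hqp : q.IsPrime := hq.1.1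
  calc Order.coheight Q ≤ Order.coheight (⟨q, hqp⟩ : PrimeSpectrum A) :=
        Order.coheight_anti (show (⟨q, hqp⟩ : PrimeSpectrum A) ≤ Q from hqQ)
    _ = Order.coheight (⟨p, hpp⟩ : PrimeSpectrum A) := key _ _ hq hp

end Groth.Agent.S5154
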