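import Mathlib
import Groth.Statements.S17171

set_option autoImplicit false
open QSymFn

namespace Groth.Agent.S17171

section Helpers

/-- canonical form of an exponent vector on a linear order: strictly increasing support enumeration. -/
theorem canonical_form {σ : Type} [LinearOrder σ] (e : σ →₀ ℕ) :
    ∃ (ℓ : ℕ) (i : Fin ℓ ↪o σ) (a : Fin ℓ → ℕ), (∀ t, 0 < a t) ∧
      e = ∑ t : Fin ℓ, Finsupp.single (i t) (a t) := by
  refine ⟨e.support.card, e.support.orderEmbOfFin rfl, fun t => e (e.support.orderEmbOfFin rfl t),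
    ?_, ?_⟩
  · intro t
    have := Finset.orderEmbOfFin_mem e.support rfl t
    rw [Finsupp.mem_support_iff] at this
    exact Nat.pos_of_ne_zero this
  · conv_lhs => rw [← Finsupp.sum_single e]
    rw [Finsupp.sum]
    conv_lhs => rw [← Finset.map_orderEmbOfFin_univ e.support rfl]
    rw [Finset.sum_map]
    rfl

theorem mapDomain_sum_single {σ τ : Type} (ψ : σ → τ) {ℓ : ℕ} (i : Fin ℓ → σ) (a : Fin ℓ → ℕ) :
    Finsupp.mapDomain ψ (∑ t : Fin ℓ, Finsupp.single (i t) (a t)) =
      ∑ t : Fin ℓ, Finsupp.single (ψ (i t)) (a t) := by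
  rw [Finsupp.mapDomain_finsetSum]
  exact Finset.sum_congr rfl fun t _ => Finsupp.mapDomain_single

/-- Part (a). -/
theorem partA (F : MvPowerSeries ℕ ℤ)
    (hq : ∀ (ℓ : ℕ) (i j : Fin ℓ → ℕ) (a : Fin ℓ → ℕ), StrictMono i → StrictMono j →
      (∀ t, 0 < a t) →
      MvPowerSeries.coeff (∑ t : Fin ℓ, Finsupp.single (i t) (a t)) F =
        MvPowerSeries.coeff (∑ t : Fin ℓ, Finsupp.single (j t) (a t)) F)
    (n m : ℕ) (φ : Fin n ↪o Fin m) (e : Fin n →₀ ℕ) :
    MvPowerSeries.coeff (Finsupp.mapDomain Fin.val e) F =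
      MvPowerSeries.coeff (Finsupp.mapDomain Fin.val (Finsupp.mapDomain φ e)) F := by
  obtain ⟨ℓ, i, a, ha, rfl⟩ := canonical_form e
  rw [mapDomain_sum_single, mapDomain_sum_single, mapDomain_sum_single]
  apply hq ℓ _ _ a _ _ ha
  · intro s t hst
    exact Fin.lt_def.1 (i.strictMono hst)
  · intro s t hst
    exact Fin.lt_def.1 (φ.strictMono (i.strictMono hst))

/-- restriction of an exponent vector to `Fin n`. -/
noncomputable def restr (n : ℕ) (e : ℕ →₀ ℕ) : Fin n →₀ ℕ :=
  Finsupp.comapDomain Fin.val e Fin.val_injective.injOn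

theorem map_restr (n : ℕ) (e : ℕ →₀ ℕ) (h : ∀ x ∈ e.support, x < n) :
    Finsupp.mapDomain Fin.val (restr n e) = e := by
  apply Finsupp.mapDomain_comapDomain _ Fin.val_injective
  intro x hx
  exact ⟨⟨x, h x hx⟩, rfl⟩

theorem restr_map (n : ℕ) (e : Fin n →₀ ℕ) : restr n (Finsupp.mapDomain Fin.val e) = e :=
  Finsupp.comapDomain_mapDomain _ Fin.val_injective e

/-- a bound for the support. -/
noncomputable def bd (e : ℕ →₀ ℕ) : ℕ := e.support.sup id + 1

theorem lt_bd (e : ℕ →₀ ℕ) : ∀ x ∈ e.support, x < bd e := by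
  intro x hx
  have : id x ≤ e.support.sup id := Finset.le_sup hx
  simp only [id] at this
  unfold bd
  omega

theorem support_map_lt {n : ℕ} (e : Fin n →₀ ℕ) :
    ∀ x ∈ (Finsupp.mapDomain Fin.val e).support, x < n := by
  intro x hx
  have := Finsupp.mapDomain_support hx
  rw [Finset.mem_image] at this
  obtain ⟨y, -, rfl⟩ := this
  exact y.2

theorem compat_val (f : (n : ℕ) → MvPolynomial (Fin n) ℤ)
    (hc : ∀ (n m : ℕ) (φ : Fin n ↪o Fin m) (e : Fin n →₀ ℕ),
        MvPolynomial.coeff e (f n) = MvPolynomial.coeff (Finsupp.mapDomain φ e) (f m))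
    {n m : ℕ} (e1 : Fin n →₀ ℕ) (e2 : Fin m →₀ ℕ)
    (h : Finsupp.mapDomain Fin.val e1 = Finsupp.mapDomain Fin.val e2) :
    MvPolynomial.coeff e1 (f n) = MvPolynomial.coeff e2 (f m) := by
  rw [hc n (max n m) (Fin.castLEOrderEmb (le_max_left n m)) e1,
    hc m (max n m) (Fin.castLEOrderEmb (le_max_right n m)) e2]
  congr 1
  apply Finsupp.mapDomain_injective (Fin.val_injective (n := max n m))
  rw [← Finsupp.mapDomain_comp, ← Finsupp.mapDomain_comp]
  have h1 : (Fin.val ∘ ⇑(Fin.castLEOrderEmb (le_max_left n m)) : Fin n → ℕ) = Fin.val := by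
    funext t; rfl
  have h2 : (Fin.val ∘ ⇑(Fin.castLEOrderEmb (le_max_right n m)) : Fin m → ℕ) = Fin.val := by
    funext t; rfl
  rw [h1, h2, h]

/-- the power series attached to a compatible family. -/
noncomputable def mkF (f : (n : ℕ) → MvPolynomial (Fin n) ℤ) : MvPowerSeries ℕ ℤ :=
  fun e => MvPolynomial.coeff (restr (bd e) e) (f (bd e))

theorem coeff_mkF (f : (n : ℕ) → MvPolynomial (Fin n) ℤ) (e : ℕ →₀ ℕ) :
    MvPowerSeries.coeff e (mkF f) = MvPolynomial.coeff (restr (bd e) e) (f (bd e)) := rfl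

theorem mkF_P3 (f : (n : ℕ) → MvPolynomial (Fin n) ℤ)
    (hc : ∀ (n m : ℕ) (φ : Fin n ↪o Fin m) (e : Fin n →₀ ℕ),
        MvPolynomial.coeff e (f n) = MvPolynomial.coeff (Finsupp.mapDomain φ e) (f m))
    (n : ℕ) (e : Fin n →₀ ℕ) :
    MvPowerSeries.coeff (Finsupp.mapDomain Fin.val e) (mkF f) = MvPolynomial.coeff e (f n) := by
  rw [coeff_mkF]
  apply compat_val f hc
  rw [map_restr _ _ (lt_bd _)]

theorem quasi_of_P3 (f : (n : ℕ) → MvPolynomial (Fin n) ℤ)
    (hc : ∀ (n m : ℕ) (φ : Fin n ↪o Fin m) (e : Fin n →₀ ℕ),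
        MvPolynomial.coeff e (f n) = MvPolynomial.coeff (Finsupp.mapDomain φ e) (f m))
    (F : MvPowerSeries ℕ ℤ)
    (h3 : ∀ (n : ℕ) (e : Fin n →₀ ℕ),
      MvPowerSeries.coeff (Finsupp.mapDomain Fin.val e) F = MvPolynomial.coeff e (f n))
    (ℓ : ℕ) (i : Fin ℓ → ℕ) (a : Fin ℓ → ℕ) (hi : StrictMono i) :
    MvPowerSeries.coeff (∑ t : Fin ℓ, Finsupp.single (i t) (a t)) F =
      MvPolynomial.coeff (∑ t : Fin ℓ, Finsupp.single t (a t)) (f ℓ) := by
  set n := Finset.univ.sup i + 1 with hn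
  have hlt : ∀ t, i t < n := fun t => by
    have : i t ≤ Finset.univ.sup i := Finset.le_sup (Finset.mem_univ t)
    omega
  let i_n : Fin ℓ ↪o Fin n := OrderEmbedding.ofStrictMono (fun t => ⟨i t, hlt t⟩)
    (fun s t hst => Fin.lt_def.2 (hi hst))
  have e1 : (∑ t : Fin ℓ, Finsupp.single (i t) (a t)) =
      Finsupp.mapDomain Fin.val (Finsupp.mapDomain i_n (∑ t : Fin ℓ, Finsupp.single t (a t))) := by
    rw [mapDomain_sum_single, mapDomain_sum_single]
    rfl
  rw [e1, h3, ← hc]

end Helpers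

/-- The ring QSym of quasisymmetric functions over ℤ, with its restriction maps to the polynomial rings
in finitely many ordered variables, is the limit of the diagram S ↦ ℤ[α_s : s ∈ S] over finite
ordered sets S and order-preserving injections (an injection φ : S → T acting by α_t ↦ α_s when t =
φ s and α_t ↦ 0 otherwise), the limit being taken in graded rings. Stated here on degree-d
components, with the variables indexed by ℕ in place of the positive integers and the finite ordered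
sets taken to be the Fin n: (a) if F is a formal power series over ℤ in variables indexed by ℕ which
is quasisymmetric (for strictly increasing i, j : Fin ℓ → ℕ and positive exponents a, the
coefficients of ∏ x_{i t}^{a t} and ∏ x_{j t}^{a t} agree) and all of whose monomials have degree d,
then its restrictions to the initial segments Fin n ⊂ ℕ are compatible with every order embedding
Fin n ↪o Fin m; (b) every family of degree-d homogeneous polynomials f n ∈ ℤ[x_s : s ∈ Fin n],
compatible with all order embeddings Fin n ↪o Fin m in this sense, is the family of restrictions of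
exactly one such quasisymmetric F of degree d. -/
theorem result (d : ℕ) :
    (∀ F : MvPowerSeries ℕ ℤ,
      (∀ (ℓ : ℕ) (i j : Fin ℓ → ℕ) (a : Fin ℓ → ℕ), StrictMono i → StrictMono j → (∀ t, 0 < a t) →
        MvPowerSeries.coeff (∑ t : Fin ℓ, Finsupp.single (i t) (a t)) F =
          MvPowerSeries.coeff (∑ t : Fin ℓ, Finsupp.single (j t) (a t)) F) →
      (∀ e : ℕ →₀ ℕ, MvPowerSeries.coeff e F ≠ 0 → e.degree = d) →
      ∀ (n m : ℕ) (φ : Fin n ↪o Fin m) (e : Fin n →₀ ℕ),
        MvPowerSeries.coeff (Finsupp.mapDomain Fin.val e) F =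
          MvPowerSeries.coeff (Finsupp.mapDomain Fin.val (Finsupp.mapDomain φ e)) F) ∧
    (∀ f : (n : ℕ) → MvPolynomial (Fin n) ℤ,
      (∀ n, (f n).IsHomogeneous d) →
      (∀ (n m : ℕ) (φ : Fin n ↪o Fin m) (e : Fin n →₀ ℕ),
        MvPolynomial.coeff e (f n) = MvPolynomial.coeff (Finsupp.mapDomain φ e) (f m)) →
      ∃! F : MvPowerSeries ℕ ℤ,
        (∀ (ℓ : ℕ) (i j : Fin ℓ → ℕ) (a : Fin ℓ → ℕ), StrictMono i → StrictMono j → (∀ t, 0 < a t) →
          MvPowerSeries.coeff (∑ t : Fin ℓ, Finsupp.single (i t) (a t)) F =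
            MvPowerSeries.coeff (∑ t : Fin ℓ, Finsupp.single (j t) (a t)) F) ∧
        (∀ e : ℕ →₀ ℕ, MvPowerSeries.coeff e F ≠ 0 → e.degree = d) ∧
        (∀ (n : ℕ) (e : Fin n →₀ ℕ),
          MvPowerSeries.coeff (Finsupp.mapDomain Fin.val e) F = MvPolynomial.coeff e (f n))) := by
  refine ⟨fun F hq _ n m φ e => partA F hq n m φ e, ?_⟩
  intro f hf hc
  refine ⟨mkF f, ⟨?_, ?_, mkF_P3 f hc⟩, ?_⟩
  · intro ℓ i j a hi hj _
    rw [quasi_of_P3 f hc (mkF f) (mkF_P3 f hc) ℓ i a hi,
      quasi_of_P3 f hc (mkF f) (mkF_P3 f hc) ℓ j a hj]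
  · intro e he
    rw [coeff_mkF] at he
    have h1 := hf (bd e) he
    have h2 : (restr (bd e) e).degree = d := by
      rw [Finsupp.degree_eq_weight_one]
      exact h1
    rw [← map_restr (bd e) e (lt_bd e), Finsupp.degree_mapDomain, h2]
  · rintro F' ⟨-, -, h3⟩
    ext e
    rw [← map_restr (bd e) e (lt_bd e), h3, mkF_P3 f hc]

end Groth.Agent.S17171
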