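import Groth.Statements.S17174
import Groth.Agent.Lib.LabGraphBI2

set_option autoImplicit false
universe u
open LabGraph

namespace Groth.Agent.S17174

open LabGraph in
/-- Let Γ be the weighted dual graph of a Deligne–Mumford semistable curve X of genus g ≥ 3 over an
algebraically closed field (connected; every weight-zero vertex without loop is joined to the other
vertices by at least two edges), and let d, d' be two multidegrees of the same (arbitrary) total
degree D (g ≥ 3 being the paper's standing assumption) which both satisfy the Basic Inequality and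
lie in the same degree class (d - d' is a twist). Then d - d' can be written in normal form: there
is a labelling h of the vertices by natural numbers taking exactly the values 0, 1, …, q, with d -
d' equal to the twist of h (that is, d - d' = Σ_v h(v)·c_v with c_v the multidegree of O(C_v)), such
that for distinct levels i ≠ j in {0, …, q} the subcurves on h⁻¹(i) and h⁻¹(j) meet (some edge joins
the two levels) exactly when |i - j| = 1. -/
theorem result {V E : Type u} [Fintype V] [Fintype E]
    [DecidableEq V] [DecidableEq E] (ends : E → V × V) (w : V → ℕ) (hX : IsSemistableGraph ends w)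
    (hg : 3 ≤ genus ends w) (d d' : V → ℤ)
    (hBI : SatisfiesBI ends w d) (hBI' : SatisfiesBI ends w d') (heq : TwistEquiv ends d d') :
    ∃ (q : ℕ) (h : V → ℕ), (∀ v : V, h v ≤ q) ∧ (∀ i : ℕ, i ≤ q → ∃ v : V, h v = i) ∧
      (∀ v : V, d v - d' v = twist ends (fun u => (h u : ℤ)) v) ∧
      (∀ i j : ℕ, i ≤ q → j ≤ q → i ≠ j →
        ((∃ e : E, (h (ends e).1 = i ∧ h (ends e).2 = j) ∨ (h (ends e).1 = j ∧ h (ends e).2 = i)) ↔
          (i + 1 = j ∨ j + 1 = i))) := by
  open Groth.Agent.Lib.LabGraphBI in
  obtain ⟨φ, hφ⟩ := heq
  have hK : 0 < canDeg ends w Finset.univ := by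
    rw [Groth.Agent.Lib.H87LabGraph.canDeg_univ]
    linarith
  have hd : d = fun v => d' v + twist ends φ v := by
    funext v
    linarith [hφ v]
  have htw : ∀ Y : Finset V, -(∑ v ∈ Y, twist ends φ v) ≤ cut ends Y := by
    intro Y
    have h1 := (two_mul_abs_le_iff _ _).1 (hBI Y)
    have h2 := (two_mul_abs_le_iff _ _).1 (hBI' Y)
    have h3 : A ends w d Y = A ends w d' Y +
        canDeg ends w Finset.univ * ∑ v ∈ Y, twist ends φ v := by
      rw [hd, A_add_twist]
    have h4 : canDeg ends w Finset.univ * (-(∑ v ∈ Y, twist ends φ v)) ≤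
        canDeg ends w Finset.univ * (cut ends Y : ℤ) := by
      have h1' : -((cut ends Y : ℤ) * canDeg ends w Finset.univ) ≤ 2 * A ends w d Y := h1.1
      have h2' : 2 * A ends w d' Y ≤ (cut ends Y : ℤ) * canDeg ends w Finset.univ := h2.2
      rw [h3] at h1'
      linarith
    exact le_of_mul_le_mul_left h4 hK
  have hδ := abs_diff_le_one_of_twist_le_cut ends φ htw
  obtain ⟨v₀⟩ := hX.1.1
  obtain ⟨vmin, -, hvmin⟩ := Finset.exists_min_image Finset.univ φ ⟨v₀, Finset.mem_univ v₀⟩
  set m := φ vmin with hm
  set h : V → ℕ := fun v => (φ v - m).toNat with hh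
  have hcast : ∀ v, (h v : ℤ) = φ v - m := fun v => by
    simp only [hh]
    rw [Int.toNat_of_nonneg]
    have := hvmin v (Finset.mem_univ v)
    linarith
  obtain ⟨vmax, -, hvmax⟩ := Finset.exists_max_image Finset.univ h ⟨v₀, Finset.mem_univ v₀⟩
  have hh0 : h vmin = 0 := by
    have := hcast vmin
    rw [hm, sub_self] at this
    exact_mod_cast this
  have hedge : ∀ e, h (ends e).1 ≤ h (ends e).2 + 1 ∧ h (ends e).2 ≤ h (ends e).1 + 1 := by
    intro e
    have h1 := abs_le.1 (hδ e)
    have h2 := hcast (ends e).1
    have h3 := hcast (ends e).2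
    constructor <;> omega
  have hcross : ∀ i, 0 < i → i ≤ h vmax → ∃ e : E,
      (i ≤ h (ends e).1 ∧ h (ends e).2 < i) ∨ (h (ends e).1 < i ∧ i ≤ h (ends e).2) := by
    intro i hi0 hiq
    have := Groth.Agent.Lib.H87LabGraph.exists_crossing ends hX.1
      (Finset.univ.filter fun v => i ≤ h v) ⟨vmax, by simp [hiq]⟩ (by
        intro hu
        have : vmin ∈ Finset.univ.filter fun v => i ≤ h v := by
          rw [hu]
          exact Finset.mem_univ _
        simp only [Finset.mem_filter, Finset.mem_univ, true_and] at this
        omega)
    obtain ⟨e, he⟩ := this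
    simp only [Finset.mem_filter, Finset.mem_univ, true_and, not_le] at he
    exact ⟨e, he⟩
  have hlevel : ∀ i, i ≤ h vmax → ∃ v, h v = i := by
    intro i hiq
    by_contra hcon
    simp only [not_exists] at hcon
    have hi0 : 0 < i := by
      rcases Nat.eq_zero_or_pos i with h0 | h0
      · exact absurd (hh0.trans h0.symm) (hcon vmin)
      · exact h0
    obtain ⟨e, he⟩ := hcross i hi0 hiq
    have h1 := hcon (ends e).1
    have h2 := hcon (ends e).2
    have h3 := hedge e
    rcases he with he | he <;> omega
  refine ⟨h vmax, h, fun v => hvmax v (Finset.mem_univ v), hlevel, ?_, ?_⟩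
  · intro v
    rw [hφ v]
    have : (fun u => (h u : ℤ)) = fun u => φ u - m := funext hcast
    rw [this, twist_sub_const]
  · intro i j hi hj hij
    constructor
    · rintro ⟨e, he⟩
      have h3 := hedge e
      rcases he with ⟨h1, h2⟩ | ⟨h1, h2⟩ <;> omega
    · intro hor
      rcases hor with hor | hor
      · obtain ⟨e, he⟩ := hcross j (by omega) hj
        have h3 := hedge e
        refine ⟨e, ?_⟩
        rcases he with he | he
        · right
          constructor <;> omega
        · left
          constructor <;> omega
      · obtain ⟨e, he⟩ := hcross i (by omega) hi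
        have h3 := hedge e
        refine ⟨e, ?_⟩
        rcases he with he | he
        · left
          constructor <;> omega
        · right
          constructor <;> omega

end Groth.Agent.S17174
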