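import Groth.Statements.S17175
import Mathlib.RingTheory.PowerSeries.Inverse
import Mathlib.RingTheory.PowerSeries.NoZeroDivisors

set_option autoImplicit false
universe u
open CAlg

namespace Groth.Agent.S17175

open PowerSeries in
/-- Let k be a field, O₀ = k[[x, y]]/(xy) the complete local ring of a node and Õ₀ = k[[x]] × k[[y]] its
normalization, O₀ being embedded in Õ₀ by h ↦ (h(x, 0), h(0, y)) as the subring of pairs with equal
constant coefficients. Regard Õ₀ as an O₀-module: it is the rank-one torsion-free O₀-module that is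
not free. Then every O₀-linear endomorphism of this module is Õ₀-linear, i.e. it is multiplication
by a unique element of Õ₀; consequently its O₀-endomorphism ring is Õ₀ and its O₀-automorphism group
is the unit group of Õ₀. Here an O₀-linear endomorphism is an additive map of k[[X]] × k[[X]]
commuting with multiplication by every pair whose two constant coefficients agree. (The source works
over an algebraically closed field; only the field structure is used.) -/
theorem result (k : Type u) [Field k]
    (φ : (k⟦X⟧ × k⟦X⟧) →+ (k⟦X⟧ × k⟦X⟧))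
    (hφ : ∀ a s : k⟦X⟧ × k⟦X⟧, constantCoeff a.1 = constantCoeff a.2 → φ (a * s) = a * φ s) :
    ∃! b : k⟦X⟧ × k⟦X⟧, ∀ s : k⟦X⟧ × k⟦X⟧, φ s = b * s := by
  -- φ (1,0) has zero second component, φ (0,1) has zero first component
  have h1 : (φ (1, 0)).2 = 0 := by
    have h := hφ (0, PowerSeries.X) (1, 0) (by simp)
    have h0 : ((0, PowerSeries.X) : k⟦X⟧ × k⟦X⟧) * (1, 0) = 0 := by
      ext <;> simp
    rw [h0, map_zero] at h
    have h2 := congrArg Prod.snd h
    simp only [Prod.snd_zero, Prod.snd_mul] at h2
    have hX : (PowerSeries.X : k⟦X⟧) ≠ 0 := PowerSeries.X_ne_zero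
    rcases mul_eq_zero.mp h2.symm with h3 | h3
    · exact absurd h3 hX
    · exact h3
  have h2 : (φ (0, 1)).1 = 0 := by
    have h := hφ (PowerSeries.X, 0) (0, 1) (by simp)
    have h0 : ((PowerSeries.X, 0) : k⟦X⟧ × k⟦X⟧) * (0, 1) = 0 := by
      ext <;> simp
    rw [h0, map_zero] at h
    have h2 := congrArg Prod.fst h
    simp only [Prod.fst_zero, Prod.fst_mul] at h2
    have hX : (PowerSeries.X : k⟦X⟧) ≠ 0 := PowerSeries.X_ne_zero
    rcases mul_eq_zero.mp h2.symm with h3 | h3
    · exact absurd h3 hX
    · exact h3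
  set u := (φ (1, 0)).1 with hu
  set w := (φ (0, 1)).2 with hw
  have hφ1 : φ (1, 0) = (u, 0) := Prod.ext rfl h1
  have hφ2 : φ (0, 1) = (0, w) := Prod.ext h2 rfl
  have key : ∀ s : k⟦X⟧ × k⟦X⟧, φ s = (u, w) * s := by
    intro s
    have hs : s = (s.1, PowerSeries.C (PowerSeries.constantCoeff s.1)) * (1, 0)
        + (PowerSeries.C (PowerSeries.constantCoeff s.2), s.2) * (0, 1) := by
      ext <;> simp
    have e1 := hφ (s.1, PowerSeries.C (PowerSeries.constantCoeff s.1)) (1, 0) (by simp)
    have e2 := hφ (PowerSeries.C (PowerSeries.constantCoeff s.2), s.2) (0, 1) (by simp)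
    conv_lhs => rw [hs]
    rw [map_add, e1, e2, hφ1, hφ2]
    ext <;> simp [mul_comm]
  refine ⟨(u, w), key, ?_⟩
  intro b hb
  have h3 := hb 1
  have h4 := key 1
  rw [mul_one] at h3 h4
  rw [← h3, h4]

end Groth.Agent.S17175
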