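import Groth.Statements.S17176
import Mathlib.Tactic.Linarith
import Mathlib.Tactic.Ring
import Mathlib.RingTheory.Coprime.Basic
import Mathlib.RingTheory.Int.Basic

set_option autoImplicit false
open Curves

namespace Groth.Agent.S17176

/-- Fix integers g ≥ 3 and d. For a complete subcurve Y of arithmetic genus g_Y of a nodal curve of
genus g, meeting the rest of the curve in k points, the lower extreme of the Basic Inequality for
line bundles of degree d is m = d(2g_Y - 2 + k)/(2g - 2) - k/2, which is an integer exactly when 2(g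
- 1) divides d(2g_Y - 2 + k) - k(g - 1). Then gcd(d - g + 1, 2g - 2) = 1 if and only if m is not an
integer for all integers g_Y, k with 0 < g_Y < g - 1, k ≥ 1 and k + 2g_Y - 2 < 2g - 2. (The row
makes explicit the bound 2g_Y - 2 + k < 2g - 2, which is automatic for subcurves of stable curves
and is satisfied by every subcurve to which the source applies the lemma; the source leaves the
ambient curve's class implicit.) -/
theorem result (g d : ℤ) (hg : 3 ≤ g) :
    Int.gcd (d - g + 1) (2 * g - 2) = 1 ↔
      ∀ gY k : ℤ, 0 < gY → gY < g - 1 → 1 ≤ k → k + 2 * gY - 2 < 2 * g - 2 →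
        ¬ (2 * (g - 1) ∣ d * (2 * gY - 2 + k) - k * (g - 1)) := by
  have key : ∀ gY k : ℤ, (2 * (g - 1) ∣ d * (2 * gY - 2 + k) - k * (g - 1)) ↔
      (2 * g - 2 ∣ (d - g + 1) * (2 * gY - 2 + k)) := by
    intro gY k
    have h1 : d * (2 * gY - 2 + k) - k * (g - 1)
        = (d - g + 1) * (2 * gY - 2 + k) + (2 * g - 2) * (gY - 1) := by ring
    have h2 : 2 * (g - 1) = 2 * g - 2 := by ring
    rw [h1, h2]
    exact (Int.dvd_add_left (Dvd.intro _ rfl))
  have hN : 0 < 2 * g - 2 := by linarith
  constructor
  · intro hgcd gY k hgY1 hgY2 hk1 hk2 hdvd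
    rw [key] at hdvd
    have hcop : IsCoprime (2 * g - 2) (d - g + 1) := by
      rw [Int.isCoprime_iff_gcd_eq_one, Int.gcd_comm]
      exact hgcd
    have h3 : 2 * g - 2 ∣ 2 * gY - 2 + k := hcop.dvd_of_dvd_mul_left hdvd
    have h4 : 0 < 2 * gY - 2 + k := by linarith
    have h5 := Int.le_of_dvd h4 h3
    linarith
  · intro h
    by_contra hne
    set c : ℕ := Int.gcd (d - g + 1) (2 * g - 2) with hc
    obtain ⟨e', he'⟩ : (c : ℤ) ∣ d - g + 1 := Int.gcd_dvd_left _ _
    obtain ⟨N', hN'⟩ : (c : ℤ) ∣ 2 * g - 2 := Int.gcd_dvd_right _ _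
    have hc0 : c ≠ 0 := by
      intro h0
      rw [h0] at hN'
      simp at hN'
      linarith
    have hc2 : (2 : ℤ) ≤ c := by
      have : 2 ≤ c := by omega
      exact_mod_cast this
    have hN'pos : 0 < N' := by
      by_contra hcon
      push Not at hcon
      have : (c : ℤ) * N' ≤ 0 := mul_nonpos_of_nonneg_of_nonpos (by positivity) hcon
      linarith
    have hN'lt : N' < 2 * g - 2 := by
      rw [hN']
      nlinarith
    apply h 1 N' (by norm_num) (by linarith) (by linarith) (by linarith)
    rw [key]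
    have h6 : 2 * (1 : ℤ) - 2 + N' = N' := by ring
    rw [h6, he', hN']
    exact ⟨e', by ring⟩

end Groth.Agent.S17176
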