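import Groth.Statements.S1718
import Groth.Agent.Lib.H29FLDualColim

set_option autoImplicit false
universe u
open CategoryTheory
attribute [local instance] HasDerivedCategory.standard
open Dual

namespace Groth.Agent.S1718

/-- Let A be a Noetherian local ring with maximal ideal m, residue field κ and a normalized dualizing
complex ω, and let κ → E be an injective hull. Then the degree-0 local cohomology of ω with support
in m (the direct limit of Hom(A/m^n, ω)) is isomorphic to E, and the local cohomology of ω in every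
other degree is zero. -/
theorem result (A : Type u) [CommRing A] [IsLocalRing A] [IsNoetherianRing A] (ω : Dual.D A) (hω : Dual.IsDualizing A ω) (hn : Dual.IsNormalized A ω) (E : Type u) [AddCommGroup E] [Module A E] (f : IsLocalRing.ResidueField A →ₗ[A] E) (hf : InjHull.IsInjectiveHull f) : Nonempty (Dual2.HDI A (IsLocalRing.maximalIdeal A) ω 0 ≃ₗ[A] E) ∧ ∀ i : ℤ, i ≠ 0 → Subsingleton (Dual2.HDI A (IsLocalRing.maximalIdeal A) ω i) := by
  constructor
  · have hF := Groth.Agent.Lib.H29FLDualD.isFLDual_of_normalized A ω hn (ω⟦(0 : ℤ)⟧)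
      ((shiftFunctorZero (Dual.D A) ℤ).app ω)
    obtain ⟨eκ⟩ := Groth.Agent.Lib.H29FLDualD.nonempty_FK_residue_equiv A ω hω hn (ω⟦(0 : ℤ)⟧)
      ((shiftFunctorZero (Dual.D A) ℤ).app ω)
    exact ⟨Groth.Agent.Lib.H29FLDualColim.colimEquiv
      (Groth.Agent.Lib.H29FLDualD.FK A (ω⟦(0 : ℤ)⟧)) hF f hf eκ⟩
  · intro i hi
    apply Groth.Agent.Lib.H29FLDualColim.subsingleton_colimit
    intro j
    exact Groth.Agent.Lib.H29DualDimZero.subsingleton_hom_of_isFiniteLength A (ω⟦i⟧) (hn i hi)
      (A ⧸ IsLocalRing.maximalIdeal A ^ j.unop.unop)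
      (Groth.Agent.Lib.H29FLDual.isFiniteLength_R j.unop.unop)

end Groth.Agent.S1718
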