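import Groth.Statements.S17181
import Groth.Agent.Lib.H71SepClosedGeom
import Groth.Agent.Lib.FieldBC13b

set_option autoImplicit false
universe u
open CategoryTheory CategoryTheory.Limits AlgebraicGeometry
open FBase

namespace Groth.Agent.S17181

/-- Let k be a field, C an irreducible k-scheme which is geometrically irreducible over k, and f : X → C
a flat k-morphism locally of finite type with X irreducible. If the generic fibre of f is
geometrically irreducible over the residue field of the generic point of C, then X is geometrically
irreducible over k. (The published setting is a regular proper surface mapping onto a smooth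
projective geometrically irreducible curve with smooth projective geometrically irreducible generic
fibre; the printed argument uses only the hypotheses kept here.) -/
theorem result (k : Type u) [Field k]
    (X C : Scheme.{u}) [X.Over (Spec (CommRingCat.of k))] [C.Over (Spec (CommRingCat.of k))]
    (f : X ⟶ C) [f.IsOver (Spec (CommRingCat.of k))] [IrreducibleSpace X] [IrreducibleSpace C]
    [GeometricallyIrreducible (C ↘ Spec (CommRingCat.of k))] [Flat f] [LocallyOfFiniteType f]
    [GeometricallyIrreducible (f.fiberToSpecResidueField (genericPoint C))] :
    GeometricallyIrreducible (X ↘ Spec (CommRingCat.of k)) := by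
  set fX := X ↘ Spec (CommRingCat.of k) with hfX
  set fC := C ↘ Spec (CommRingCat.of k) with hfC
  have hw : f ≫ fC = fX := CategoryTheory.comp_over f _
  have hpb := Groth.Agent.Lib.FieldBC13.isPullback_mapK (AlgebraicClosure k) fC fX f hw
  set fK := Groth.Agent.Lib.FieldBC13.mapK (AlgebraicClosure k) fC fX f hw with hfK
  haveI : Flat fK := MorphismProperty.of_isPullback hpb.flip ‹Flat f›
  haveI : IrreducibleSpace ↥(pullback fC
      (Spec.map (CommRingCat.ofHom (algebraMap k (AlgebraicClosure k))))) :=
    GeometricallyIrreducible.geometrically_irreducibleSpace _ _ _ (.of_hasPullback _ _)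
  set ηK := genericPoint ↥(pullback fC
      (Spec.map (CommRingCat.ofHom (algebraMap k (AlgebraicClosure k))))) with hηK
  have hgen : pullback.fst fC (Spec.map (CommRingCat.ofHom (algebraMap k (AlgebraicClosure k)))) ηK =
      genericPoint C := by
    have hsurj := Groth.Agent.Lib.FieldBC13.surjective_fst (AlgebraicClosure k) fC
    obtain ⟨z, hz⟩ := hsurj (genericPoint C)
    have h1 : ηK ⤳ z := genericPoint_specializes z
    have h2 := h1.map (pullback.fst fC
      (Spec.map (CommRingCat.ofHom (algebraMap k (AlgebraicClosure k))))).continuous
    rw [hz] at h2
    exact (h2.antisymm (genericPoint_specializes _)).eq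
  have hfib := isPullback_fiberToSpecResidueField_of_isPullback hpb.flip ηK
  haveI hgi : GeometricallyIrreducible (f.fiberToSpecResidueField
      (pullback.fst fC (Spec.map (CommRingCat.ofHom (algebraMap k (AlgebraicClosure k)))) ηK)) := by
    rw [hgen]
    infer_instance
  haveI : IrreducibleSpace ↥(fK.fiber ηK) :=
    hgi.geometrically_irreducibleSpace _ _ _ hfib
  have hirr : IsIrreducible (fK ⁻¹' {ηK}) := by
    rw [isIrreducible_iff_irreducibleSpace]
    exact (fK.fiberHomeo ηK).symm.irreducibleSpace_iff.mpr inferInstance
  have hdense : closure (fK ⁻¹' {ηK}) = Set.univ := by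
    rw [Set.eq_univ_iff_forall]
    intro x
    have h1 : ηK ⤳ fK x := genericPoint_specializes _
    obtain ⟨x', hx'x, hx'⟩ := Flat.generalizingMap fK h1
    have hsub : ({x'} : Set _) ⊆ fK ⁻¹' {ηK} := by
      rintro _ rfl
      exact hx'
    exact closure_mono hsub (specializes_iff_mem_closure.mp hx'x)
  haveI : IrreducibleSpace ↥(pullback fX
      (Spec.map (CommRingCat.ofHom (algebraMap k (AlgebraicClosure k))))) := by
    rw [irreducibleSpace_def]
    show IsIrreducible (Set.univ : Set _)
    rw [← hdense]
    exact hirr.closure
  exact Groth.Agent.Lib.H71SepClosedGeom.geometricallyIrreducible_of_irreducibleSpace_pullback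
    (AlgebraicClosure k) fX

end Groth.Agent.S17181
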