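import Groth.Statements.S17247
import Groth.Agent.Lib.FunFldE97
-- import your own Groth.Agent.* helpers here

set_option autoImplicit false
open FunFld
open Groth.Agent.Lib.H40FunFld Groth.Agent.Lib.FunFldG97 Groth.Agent.Lib.FunFldE97

namespace Groth.Agent.S17247

/-- Let `K/k` be a function field of one variable of genus one over an algebraically closed field `k` of
characteristic zero (an elliptic curve `E`), `A` a place, and `g ≥ 3` an odd integer. Inside
`H⁰(O_E((2g-2)A)) = L((2g-2)A)` consider `V = L(gA)` (dimension `g`) and any hyperplane `V₁` of it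
containing `L((g-2)A)`: `L((g-2)A) ⊆ V₁ ⊆ L(gA)`, `dim V₁ = g - 1`. Vanishing orders are those of
sections of `O_E((2g-2)A)`: a member `f` vanishes to order at least `n` at a place `Q` when `f ∈
L((2g-2)A - nQ)`, and the weight of `V₁` at `Q` is `∑_{n=1}^{2g-2} dim (V₁ ∩ L((2g-2)A - nQ)) - (g-1
choose 2)` (the sum of the `g - 1` vanishing orders minus `0 + 1 + ⋯ + (g-2)`). Then the weight of
`V₁` at every place `Q ≠ A` is at most `2`. (The published statement is for a smooth elliptic curve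
over the complex numbers and allows every odd positive `g`; for `g = 1` the inclusion `O(gA) ⊆
O((2g-2)A)` it uses fails, so `g ≥ 3` here.) -/
theorem result
    (k K : Type*) [Field k] [IsAlgClosed k] [CharZero k] [Field K] [Algebra k K]
    (hK : FunFld.IsFunctionField k K) (hg1 : FunFld.genus k K = 1)
    (g : ℕ) (hodd : Odd g) (h3 : 3 ≤ g) (A : FunFld.Place k K)
    (V₁ : Submodule k K) (hlo : FunFld.L (Finsupp.single A ((g : ℤ) - 2)) ≤ V₁)
    (hhi : V₁ ≤ FunFld.L (Finsupp.single A (g : ℤ))) (hdim : Module.finrank k ↥V₁ + 1 = g)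
    (Q : FunFld.Place k K) (hQ : Q ≠ A) :
    (∑ n ∈ Finset.range (2 * g - 2), Module.finrank k
        ↥(V₁ ⊓ FunFld.L (Finsupp.single A (2 * (g : ℤ) - 2) - Finsupp.single Q ((n : ℤ) + 1)))) ≤
      (g - 1).choose 2 + 2 := by
  classical
  have hdeg1 : ∀ R : FunFld.Place k K, R.deg = 1 := deg_eq_one_of_isAlgClosed hK
  have hgpos : 0 < FunFld.genus k K := by rw [hg1]; norm_num
  obtain ⟨h, rfl⟩ : ∃ h, g = h + 3 := ⟨g - 3, by omega⟩
  have hfinV : FiniteDimensional k V₁ :=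
    have := finiteDimensional_L hK (Finsupp.single A ((h + 3 : ℕ) : ℤ))
    Submodule.finiteDimensional_of_le hhi
  have eU : (((h + 3 : ℕ) : ℤ) - 2) = ((h + 1 : ℕ) : ℤ) := by push_cast; ring
  have hU : Module.finrank k (FunFld.L (Finsupp.single A (((h + 3 : ℕ) : ℤ) - 2))) = h + 1 := by
    rw [eU]; exact ell_single_of_genus_one hK hg1 (hdeg1 A) (Nat.succ_pos h)
  have hV : Module.finrank k V₁ ≤
      Module.finrank k (FunFld.L (Finsupp.single A (((h + 3 : ℕ) : ℤ) - 2))) + 1 := by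
    rw [hU]; omega
  set M : ℤ := 2 * ((h + 3 : ℕ) : ℤ) - 2 with hM
  have hdegAQ := deg_single_sub_single hdeg1 A Q
  have B1 : ∀ n : ℕ, Module.finrank k
      ↥(V₁ ⊓ FunFld.L (Finsupp.single A M - Finsupp.single Q ((n : ℤ) + 1))) ≤
      FunFld.ell (Finsupp.single A (((h + 3 : ℕ) : ℤ) - 2) - Finsupp.single Q ((n : ℤ) + 1)) + 1 := by
    intro n
    have h1 := finrank_le_finrank_inf_add_one V₁
      (FunFld.L (Finsupp.single A (((h + 3 : ℕ) : ℤ) - 2)))
      (V₁ ⊓ FunFld.L (Finsupp.single A M - Finsupp.single Q ((n : ℤ) + 1))) hlo inf_le_left hV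
    refine h1.trans (Nat.add_le_add_right ?_ 1)
    have := finiteDimensional_L hK
      (Finsupp.single A (((h + 3 : ℕ) : ℤ) - 2) - Finsupp.single Q ((n : ℤ) + 1))
    unfold FunFld.ell
    apply Submodule.finrank_mono
    rw [← single_sub_single_inf hQ (M := M) (m := ((h + 3 : ℕ) : ℤ) - 2) (j := (n : ℤ) + 1)
      (by rw [hM]; push_cast; omega) (by positivity), ← L_inf]
    exact inf_le_inf_right _ inf_le_right
  have B2 : ∀ n : ℕ, Module.finrank k
      ↥(V₁ ⊓ FunFld.L (Finsupp.single A M - Finsupp.single Q ((n : ℤ) + 1))) ≤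
      FunFld.ell (Finsupp.single A ((h + 3 : ℕ) : ℤ) - Finsupp.single Q ((n : ℤ) + 1)) := by
    intro n
    have := finiteDimensional_L hK
      (Finsupp.single A ((h + 3 : ℕ) : ℤ) - Finsupp.single Q ((n : ℤ) + 1))
    unfold FunFld.ell
    apply Submodule.finrank_mono
    rw [← single_sub_single_inf hQ (M := M) (m := ((h + 3 : ℕ) : ℤ)) (j := (n : ℤ) + 1)
      (by rw [hM]; push_cast; omega) (by positivity), ← L_inf]
    exact le_inf inf_le_right (inf_le_left.trans hhi)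
  set δ₁ := FunFld.ell
    (Finsupp.single A (((h + 3 : ℕ) : ℤ) - 2) - Finsupp.single Q ((h : ℤ) + 1)) with hδ₁
  set δ₂ := FunFld.ell
    (Finsupp.single A ((h + 3 : ℕ) : ℤ) - Finsupp.single Q (((h + 2 : ℕ) : ℤ) + 1)) with hδ₂
  have hδ : δ₁ + δ₂ ≤ 1 := by
    have hd1 : δ₁ ≤ 1 := ell_le_one_of_deg_zero hK _ (by rw [hdegAQ]; push_cast; ring)
    have hd2 : δ₂ ≤ 1 := ell_le_one_of_deg_zero hK _ (by rw [hdegAQ]; push_cast; ring)
    by_contra hlt
    have hp1 : 0 < δ₁ := by omega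
    have hp2 : 0 < δ₂ := by omega
    obtain ⟨z₁, hz₁0, -, hz₁⟩ := exists_div_eq_of_ell_pos_of_deg_zero hK
      (by rw [hdegAQ]; push_cast; ring) hp1
    obtain ⟨z₂, hz₂0, -, hz₂⟩ := exists_div_eq_of_ell_pos_of_deg_zero hK
      (by rw [hdegAQ]; push_cast; ring) hp2
    obtain ⟨a, ha⟩ : ∃ a, h = 2 * a := by
      obtain ⟨m, hm⟩ := hodd
      exact ⟨m - 1, by omega⟩
    set T : FunFld.Divisor k K := Finsupp.single A (1 : ℤ) - Finsupp.single Q (1 : ℤ) with hT
    have c1 : (((h + 3 : ℕ) : ℤ) - 2) = 2 * (a : ℤ) + 1 := by rw [ha]; push_cast; ring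
    have c2 : ((h : ℤ) + 1) = 2 * (a : ℤ) + 1 := by rw [ha]; push_cast; ring
    have c3 : ((h + 3 : ℕ) : ℤ) = 2 * (a : ℤ) + 3 := by rw [ha]; push_cast; ring
    have c4 : (((h + 2 : ℕ) : ℤ) + 1) = 2 * (a : ℤ) + 3 := by rw [ha]; push_cast; ring
    rw [c1, c2, single_eq_zsmul A, single_eq_zsmul Q, ← smul_sub, ← hT] at hz₁
    rw [c3, c4, single_eq_zsmul A, single_eq_zsmul Q, ← smul_sub, ← hT] at hz₂
    have e1 : FunFld.div k z₁ = (-(2 * (a : ℤ) + 1)) • T := by
      rw [neg_smul, eq_neg_iff_add_eq_zero, add_comm]; exact hz₁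
    have e2 : FunFld.div k z₂ = (-(2 * (a : ℤ) + 3)) • T := by
      rw [neg_smul, eq_neg_iff_add_eq_zero, add_comm]; exact hz₂
    have e3 : T = FunFld.div k (z₁ ^ (a + 2) * (z₂ ^ (a + 1))⁻¹) := by
      rw [div_mul hK (pow_ne_zero _ hz₁0) (inv_ne_zero (pow_ne_zero _ hz₂0)), div_inv hK,
        div_pow hK hz₁0, div_pow hK hz₂0, e1, e2, ← natCast_zsmul, ← natCast_zsmul, smul_smul,
        smul_smul, ← neg_smul, ← add_smul]
      have : ((a + 2 : ℕ) : ℤ) * (-(2 * (a : ℤ) + 1)) + -(((a + 1 : ℕ) : ℤ) * (-(2 * (a : ℤ) + 3)))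
          = 1 := by push_cast; ring
      rw [this, one_smul]
    exact hQ (eq_of_single_sub_single_eq_div hK hgpos (hdeg1 Q) e3).symm
  have e0 : h + 3 - 1 = h + 2 := by omega
  rw [e0]
  refine sum_bound_A h δ₁ δ₂ hδ (fun n => Module.finrank k
      ↥(V₁ ⊓ FunFld.L (Finsupp.single A M - Finsupp.single Q ((n : ℤ) + 1)))) ?_ ?_ ?_ ?_ ?_
  · intro n hn
    refine (B1 n).trans ?_
    have h2 := ell_eq_deg_of_genus_one hK hg1
      (Finsupp.single A (((h + 3 : ℕ) : ℤ) - 2) - Finsupp.single Q ((n : ℤ) + 1))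
      (by rw [hdegAQ]; push_cast; omega)
    have h3 : (((h + 3 : ℕ) : ℤ) - 2 - ((n : ℤ) + 1)) = (h : ℤ) - n := by push_cast; ring
    rw [hdegAQ, h3] at h2
    omega
  · exact B1 h
  · refine (B2 (h + 1)).trans ?_
    have h2 := ell_eq_deg_of_genus_one hK hg1
      (Finsupp.single A ((h + 3 : ℕ) : ℤ) - Finsupp.single Q (((h + 1 : ℕ) : ℤ) + 1))
      (by rw [hdegAQ]; push_cast; omega)
    have h3 : (((h + 3 : ℕ) : ℤ) - (((h + 1 : ℕ) : ℤ) + 1)) = 1 := by push_cast; ring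
    rw [hdegAQ, h3] at h2
    omega
  · exact B2 (h + 2)
  · intro n hn
    have h2 := ell_eq_zero_of_deg_neg hK
      (Finsupp.single A ((h + 3 : ℕ) : ℤ) - Finsupp.single Q ((n : ℤ) + 1))
      (by rw [hdegAQ]; push_cast; omega)
    have h3 := B2 n
    rw [h2] at h3
    exact Nat.le_zero.1 h3
end Groth.Agent.S17247
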