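import Groth.Statements.S17248
import Groth.Agent.Lib.FunFldE97
-- import your own Groth.Agent.* helpers here

set_option autoImplicit false
open FunFld
open Groth.Agent.Lib.H40FunFld Groth.Agent.Lib.FunFldG97 Groth.Agent.Lib.FunFldE97

namespace Groth.Agent.S17248

/-- Let `K/k` be a function field of one variable of genus one over an algebraically closed field `k` of
characteristic zero (an elliptic curve `E`), `A` a place, and `g ≥ 3` an integer. Inside
`H⁰(O_E((2g-2)A)) = L((2g-2)A)` consider `V = L(gA)` (dimension `g`) and any hyperplane `V₁` of it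
containing `L((g-2)A)`: `L((g-2)A) ⊆ V₁ ⊆ L(gA)`, `dim V₁ = g - 1`. Vanishing orders are those of
sections of `O_E((2g-2)A)`: a member `f` vanishes to order at least `n` at a place `Q` when `f ∈
L((2g-2)A - nQ)`, and the weight of `V₁` at `Q` is `∑_{n=1}^{2g-2} dim (V₁ ∩ L((2g-2)A - nQ)) - (g-1
choose 2)` (the sum of the `g - 1` vanishing orders minus `0 + 1 + ⋯ + (g-2)`). Then the weight of
`V₁` at `A` is `(g-1)² + ε` with `ε ∈ {0, 1}`. (The published statement is for a smooth elliptic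
curve over the complex numbers and `g` odd positive; `g ≥ 3` here since the ambient inclusion needs
it; this row does not assume `g` odd.) -/
theorem result
    (k K : Type*) [Field k] [IsAlgClosed k] [CharZero k] [Field K] [Algebra k K]
    (hK : FunFld.IsFunctionField k K) (hg1 : FunFld.genus k K = 1)
    (g : ℕ) (h3 : 3 ≤ g) (A : FunFld.Place k K)
    (V₁ : Submodule k K) (hlo : FunFld.L (Finsupp.single A ((g : ℤ) - 2)) ≤ V₁)
    (hhi : V₁ ≤ FunFld.L (Finsupp.single A (g : ℤ))) (hdim : Module.finrank k ↥V₁ + 1 = g) :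
    ∃ ε : ℕ, ε ≤ 1 ∧
      (∑ n ∈ Finset.range (2 * g - 2), Module.finrank k
        ↥(V₁ ⊓ FunFld.L (Finsupp.single A (2 * (g : ℤ) - 2) - Finsupp.single A ((n : ℤ) + 1)))) =
      (g - 1).choose 2 + (g - 1) ^ 2 + ε := by
  classical
  have hdeg1 : ∀ R : FunFld.Place k K, R.deg = 1 := deg_eq_one_of_isAlgClosed hK
  obtain ⟨h, rfl⟩ : ∃ h, g = h + 3 := ⟨g - 3, by omega⟩
  have hfinV : FiniteDimensional k V₁ :=
    have := finiteDimensional_L hK (Finsupp.single A ((h + 3 : ℕ) : ℤ))
    Submodule.finiteDimensional_of_le hhi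
  have eU : (((h + 3 : ℕ) : ℤ) - 2) = ((h + 1 : ℕ) : ℤ) := by push_cast; ring
  rw [eU] at hlo
  have hVdim : Module.finrank k V₁ = h + 2 := by omega
  have key : ∀ n m : ℕ, n + m = 2 * h + 3 →
      (Finsupp.single A (2 * ((h + 3 : ℕ) : ℤ) - 2) - Finsupp.single A ((n : ℤ) + 1) :
        FunFld.Divisor k K) = Finsupp.single A ((m : ℕ) : ℤ) := by
    intro n m hnm
    rw [← Finsupp.single_sub]
    congr 1
    have : (n : ℤ) + m = 2 * h + 3 := by exact_mod_cast hnm
    push_cast; linarith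
  have e0 : h + 3 - 1 = h + 2 := by omega
  rw [e0]
  have hmono : ∀ {a b : ℕ}, a ≤ b → FunFld.L (Finsupp.single A (a : ℤ) : FunFld.Divisor k K) ≤
      FunFld.L (Finsupp.single A (b : ℤ)) :=
    fun hab => L_mono (single_mono A (by exact_mod_cast hab))
  have hell : ∀ m : ℕ, 0 < m →
      Module.finrank k (FunFld.L (Finsupp.single A (m : ℤ) : FunFld.Divisor k K)) = m :=
    fun m hm => ell_single_of_genus_one hK hg1 (hdeg1 A) hm
  have hfin : ∀ m : ℕ, FiniteDimensional k (FunFld.L (Finsupp.single A (m : ℤ) :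
      FunFld.Divisor k K)) := fun m => finiteDimensional_L hK _
  set t : ℕ → ℕ := fun n => Module.finrank k ↥(V₁ ⊓ FunFld.L
    (Finsupp.single A (2 * ((h + 3 : ℕ) : ℤ) - 2) - Finsupp.single A ((n : ℤ) + 1))) with ht
  have htn : ∀ n m : ℕ, n + m = 2 * h + 3 → t n = Module.finrank k
      ↥(V₁ ⊓ FunFld.L (Finsupp.single A ((m : ℕ) : ℤ) : FunFld.Divisor k K)) := by
    intro n m hnm
    rw [ht]
    simp only
    rw [key n m hnm]
  have hmid_lo : h + 1 ≤ t (h + 1) := by
    rw [htn (h + 1) (h + 2) (by omega), ← hell (h + 1) (Nat.succ_pos h)]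
    exact Submodule.finrank_mono (le_inf hlo (hmono (a := h + 1) (b := h + 2) (by omega)))
  have hmid_hi : t (h + 1) ≤ h + 2 := by
    rw [htn (h + 1) (h + 2) (by omega), ← hVdim]
    exact Submodule.finrank_mono inf_le_left
  refine ⟨t (h + 1) - (h + 1), by omega, ?_⟩
  refine sum_eq_B h (t (h + 1) - (h + 1)) t ?_ ?_ ?_ ?_
  · intro n hn
    rw [htn n (2 * h + 3 - n) (by omega),
      inf_eq_left.2 (hhi.trans (hmono (a := h + 3) (b := 2 * h + 3 - n) (by omega))), hVdim]
  · omega
  · intro i hi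
    rw [htn (h + 2 + i) (h + 1 - i) (by omega),
      inf_eq_right.2 ((hmono (a := h + 1 - i) (b := h + 1) (by omega)).trans hlo)]
    exact hell (h + 1 - i) (by omega)
  · rw [htn (2 * h + 3) 0 (by omega)]
    have h0 : (Finsupp.single A ((0 : ℕ) : ℤ) : FunFld.Divisor k K) = 0 := by
      rw [Nat.cast_zero, Finsupp.single_zero]
    have h1 : V₁ ⊓ FunFld.L (Finsupp.single A ((0 : ℕ) : ℤ) : FunFld.Divisor k K) =
        FunFld.L (0 : FunFld.Divisor k K) := by
      rw [← h0]
      exact inf_eq_right.2 ((hmono (a := 0) (b := h + 1) (Nat.zero_le _)).trans hlo)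
    rw [h1]
    exact ell_zero hK
end Groth.Agent.S17248
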