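import Groth.Statements.S17249
import Groth.Agent.Lib.FunFldG97
-- import your own Groth.Agent.* helpers here

set_option autoImplicit false
open FunFld
open Groth.Agent.Lib.H40FunFld Groth.Agent.Lib.FunFldG97

namespace Groth.Agent.S17249

/-- Let `K/k` be a function field of one variable of genus two over an algebraically closed field `k` of
characteristic zero (a smooth curve `X` of genus `2`), `C` a canonical divisor, `A` a place with
`ℓ(2A) = 1` (not a Weierstrass point), and `P`, `Q` places with `Q ≠ A`. Then `ℓ(C + 2A - P - 3Q) =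
1` and `ℓ(C + 2A - P - Q) = 2` do not both hold: the two-dimensional complete system `H⁰(ω_X(2A -
P))` (of degree `3`) has no point `Q ≠ A` of weight three. (The published statement concerns a
general pointed curve `(X, A)` of genus two over the complex numbers and a point `P` of `X`; this
row assumes only `ℓ(2A) = 1`.) -/
theorem result
    (k K : Type*) [Field k] [IsAlgClosed k] [CharZero k] [Field K] [Algebra k K]
    (hK : FunFld.IsFunctionField k K) (hg : FunFld.genus k K = 2)
    (C : FunFld.Divisor k K) (hC : FunFld.IsCanonical k K C)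
    (A P Q : FunFld.Place k K) (hA : Module.finrank k ↥(FunFld.L (Finsupp.single A (2 : ℤ))) = 1) (hQ : Q ≠ A) :
    ¬ (Module.finrank k ↥(FunFld.L (C + Finsupp.single A (2 : ℤ) - Finsupp.single P (1 : ℤ) - Finsupp.single Q (3 : ℤ))) = 1 ∧
       Module.finrank k ↥(FunFld.L (C + Finsupp.single A (2 : ℤ) - Finsupp.single P (1 : ℤ) - Finsupp.single Q (1 : ℤ))) = 2) := by
  classical
  rintro ⟨-, h2⟩
  have hdeg1 : ∀ R : FunFld.Place k K, R.deg = 1 := deg_eq_one_of_isAlgClosed hK
  set D' : FunFld.Divisor k K :=
    C + Finsupp.single A (2 : ℤ) - Finsupp.single P (1 : ℤ) - Finsupp.single Q (1 : ℤ) with hD'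
  have hdegD' : D'.deg = 2 := by
    rw [hD', deg_sub, deg_sub, deg_add, deg_canonical hK hC, deg_single, deg_single, deg_single,
      hdeg1, hdeg1, hdeg1, hg]
    norm_num
  have hrr := riemann_roch hK hC D'
  have h2' : FunFld.ell D' = 2 := h2
  rw [h2', hdegD', hg] at hrr
  have h3 : 0 < FunFld.ell (C - D') := by
    have : (0 : ℤ) < FunFld.ell (C - D') := by push_cast at hrr; linarith
    exact_mod_cast this
  have hdeg0 : (C - D').deg = 0 := by
    rw [deg_sub, hdegD', deg_canonical hK hC, hg]; norm_num
  obtain ⟨z, hz0, hzL, hz⟩ := exists_div_eq_of_ell_pos_of_deg_zero hK hdeg0 h3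
  have e : C - D' = Finsupp.single P (1 : ℤ) + Finsupp.single Q (1 : ℤ) - Finsupp.single A (2 : ℤ) := by
    rw [hD']; abel
  -- `z⁻¹ ∈ L(2A)`
  have hzi : z⁻¹ ∈ FunFld.L (Finsupp.single A (2 : ℤ) : FunFld.Divisor k K) := by
    rw [mem_L_iff_nonneg hK _ (inv_ne_zero hz0), div_inv hK]
    have : Finsupp.single A (2 : ℤ) + -FunFld.div k z =
        Finsupp.single P (1 : ℤ) + Finsupp.single Q (1 : ℤ) := by
      have h' : FunFld.div k z = -(C - D') := by
        rw [eq_neg_iff_add_eq_zero, add_comm]; exact hz
      rw [h', e]; abel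
    rw [this]
    exact add_nonneg (by simp) (by simp)
  have hA0 : (0 : FunFld.Divisor k K) ≤ Finsupp.single A (2 : ℤ) := by simp
  obtain ⟨c, hc⟩ := exists_algebraMap_eq_of_ell_eq_one hK hA0 hA hzi
  have hdz : FunFld.div k z⁻¹ = 0 := by rw [← hc]; exact div_algebraMap hK c
  rw [div_inv hK, neg_eq_zero] at hdz
  rw [hdz, add_zero, e] at hz
  have := DFunLike.congr_fun hz Q
  rw [Finsupp.sub_apply, Finsupp.add_apply, Finsupp.single_apply, Finsupp.single_apply,
    Finsupp.single_apply, if_pos rfl, if_neg (Ne.symm hQ), Finsupp.zero_apply] at this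
  split_ifs at this <;> omega
end Groth.Agent.S17249
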