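import Groth.Statements.S17250
import Groth.Agent.Lib.FunFldG97
-- import your own Groth.Agent.* helpers here

set_option autoImplicit false
open FunFld
open Groth.Agent.Lib.H40FunFld Groth.Agent.Lib.FunFldG97

namespace Groth.Agent.S17250

/-- Let `K/k` be a function field of one variable of genus two over an algebraically closed field `k` of
characteristic zero (a smooth curve `X` of genus `2`), `C` a canonical divisor, `A` a place with
`ℓ(2A) = 1`, and `P`, `Q` places different from `A`. Then `ℓ(C + 3A - P - 4Q) = 1` and `ℓ(C + 3A - P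
- 2Q) = 2` do not both hold (the three-dimensional complete system `H⁰(ω_X(3A - P))`, of degree `4`,
has no point `Q ≠ A` with two independent sections vanishing to order at least `2` there and one
vanishing to order at least `4`). (The published statement concerns a general pointed curve `(X, A)`
of genus two over the complex numbers and a point `P ≠ A`; this row assumes `ℓ(2A) = 1` in place of
generality.) -/
theorem result
    (k K : Type*) [Field k] [IsAlgClosed k] [CharZero k] [Field K] [Algebra k K]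
    (hK : FunFld.IsFunctionField k K) (hg : FunFld.genus k K = 2)
    (C : FunFld.Divisor k K) (hC : FunFld.IsCanonical k K C)
    (A P Q : FunFld.Place k K) (hA : Module.finrank k ↥(FunFld.L (Finsupp.single A (2 : ℤ))) = 1) (hP : P ≠ A) (hQ : Q ≠ A) :
    ¬ (Module.finrank k ↥(FunFld.L (C + Finsupp.single A (3 : ℤ) - Finsupp.single P (1 : ℤ) - Finsupp.single Q (4 : ℤ))) = 1 ∧
       Module.finrank k ↥(FunFld.L (C + Finsupp.single A (3 : ℤ) - Finsupp.single P (1 : ℤ) - Finsupp.single Q (2 : ℤ))) = 2) := by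
  classical
  rintro ⟨h1, h2⟩
  have hdeg1 : ∀ R : FunFld.Place k K, R.deg = 1 := deg_eq_one_of_isAlgClosed hK
  set D₁ : FunFld.Divisor k K :=
    C + Finsupp.single A (3 : ℤ) - Finsupp.single P (1 : ℤ) - Finsupp.single Q (4 : ℤ) with hD₁
  set D₂ : FunFld.Divisor k K :=
    C + Finsupp.single A (3 : ℤ) - Finsupp.single P (1 : ℤ) - Finsupp.single Q (2 : ℤ) with hD₂
  have hdegD₁ : D₁.deg = 0 := by
    rw [hD₁, deg_sub, deg_sub, deg_add, deg_canonical hK hC, deg_single, deg_single, deg_single,
      hdeg1, hdeg1, hdeg1, hg]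
    norm_num
  have hdegD₂ : D₂.deg = 2 := by
    rw [hD₂, deg_sub, deg_sub, deg_add, deg_canonical hK hC, deg_single, deg_single, deg_single,
      hdeg1, hdeg1, hdeg1, hg]
    norm_num
  have h1' : FunFld.ell D₁ = 1 := h1
  have h2' : FunFld.ell D₂ = 2 := h2
  obtain ⟨z₁, hz₁0, -, hz₁⟩ := exists_div_eq_of_ell_pos_of_deg_zero hK hdegD₁ (by omega)
  have hrr := riemann_roch hK hC D₂
  rw [h2', hdegD₂, hg] at hrr
  have h3 : 0 < FunFld.ell (C - D₂) := by
    have : (0 : ℤ) < FunFld.ell (C - D₂) := by push_cast at hrr; linarith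
    exact_mod_cast this
  have hdeg0 : (C - D₂).deg = 0 := by
    rw [deg_sub, hdegD₂, deg_canonical hK hC, hg]; norm_num
  obtain ⟨z₂, hz₂0, -, hz₂⟩ := exists_div_eq_of_ell_pos_of_deg_zero hK hdeg0 h3
  -- `C - (3A - P)` is principal
  set T : FunFld.Divisor k K := Finsupp.single A (3 : ℤ) - Finsupp.single P (1 : ℤ) with hT
  have hw0 : (z₁ * z₂ * z₂)⁻¹ ≠ 0 := inv_ne_zero (mul_ne_zero (mul_ne_zero hz₁0 hz₂0) hz₂0)
  have e : C - T = 0 + FunFld.div k (z₁ * z₂ * z₂)⁻¹ := by
    rw [div_inv hK, div_mul hK (mul_ne_zero hz₁0 hz₂0) hz₂0, div_mul hK hz₁0 hz₂0]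
    have e1 : FunFld.div k z₁ = -D₁ := by
      rw [eq_neg_iff_add_eq_zero, add_comm]; exact hz₁
    have e2 : FunFld.div k z₂ = -(C - D₂) := by
      rw [eq_neg_iff_add_eq_zero, add_comm]; exact hz₂
    have e4 : (Finsupp.single Q (4 : ℤ) : FunFld.Divisor k K) =
        Finsupp.single Q (2 : ℤ) + Finsupp.single Q (2 : ℤ) := by
      rw [← Finsupp.single_add]; norm_num
    rw [e1, e2, hD₁, hD₂, hT, e4]; abel
  have hlCT : FunFld.ell (C - T) = 1 := by
    rw [e, ell_add_div hK 0 hw0, ell_zero hK]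
  have hdegT : T.deg = 2 := by
    rw [hT, deg_sub, deg_single, deg_single, hdeg1, hdeg1]; norm_num
  have hrrT := riemann_roch hK hC T
  rw [hlCT, hdegT, hg] at hrrT
  have hlT : FunFld.ell T = 2 := by
    have : (FunFld.ell T : ℤ) = 2 := by rw [hrrT]; norm_num
    exact_mod_cast this
  have hdeg3 : FunFld.Divisor.deg (Finsupp.single A (3 : ℤ) : FunFld.Divisor k K) = 3 := by
    rw [deg_single, hdeg1]; norm_num
  have hl3 := ell_eq_of_deg_ge hK (Finsupp.single A (3 : ℤ)) (by rw [hdeg3, hg]; norm_num)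
  rw [hdeg3, hg] at hl3
  have hl3' : FunFld.ell (Finsupp.single A (3 : ℤ) : FunFld.Divisor k K) = 2 := by
    have : (FunFld.ell (Finsupp.single A (3 : ℤ) : FunFld.Divisor k K) : ℤ) = 2 := by
      rw [hl3]; norm_num
    exact_mod_cast this
  have hle : FunFld.L T ≤ FunFld.L (Finsupp.single A (3 : ℤ) : FunFld.Divisor k K) := by
    apply L_mono
    rw [hT]
    exact sub_le_self _ (by simp)
  have := finiteDimensional_L hK (Finsupp.single A (3 : ℤ))
  have heq : FunFld.L T = FunFld.L (Finsupp.single A (3 : ℤ) : FunFld.Divisor k K) :=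
    Submodule.eq_of_le_of_finrank_eq hle (by
      change FunFld.ell T = FunFld.ell (Finsupp.single A (3 : ℤ) : FunFld.Divisor k K)
      rw [hlT, hl3'])
  have h1mem : (1 : K) ∈ FunFld.L T := by
    rw [heq, one_mem_L_iff]; simp
  rw [one_mem_L_iff] at h1mem
  have := h1mem P
  rw [hT, Finsupp.sub_apply, Finsupp.single_apply, Finsupp.single_apply, if_pos rfl,
    if_neg (Ne.symm hP), Finsupp.zero_apply] at this
  omega
end Groth.Agent.S17250
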