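import Groth.Statements.S17251
import Groth.Agent.Lib.FunFldG97
-- import your own Groth.Agent.* helpers here

set_option autoImplicit false
open FunFld
open Groth.Agent.Lib.H40FunFld Groth.Agent.Lib.FunFldG97

namespace Groth.Agent.S17251

/-- Let `K/k` be a function field of one variable of genus two over an algebraically closed field `k` of
characteristic zero (a smooth curve `Y` of genus `2`), `C` a canonical divisor, `B` a place with
`ℓ(2B) = 1` (not a Weierstrass point) and `Q ≠ B` a place. Then `ℓ(C + B - 2Q) = 1` and `ℓ(C + 3B -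
4Q) = 1` do not both hold: the complete systems `H⁰(ω_Y(B))` (dimension `2`, degree `3`) and
`H⁰(ω_Y(3B))` (dimension `4`, degree `5`) have no ramification point in common on `Y` minus `B`.
(The published statement concerns a general pointed curve `(Y, B)` of genus two over the complex
numbers; this row assumes only `ℓ(2B) = 1`.) -/
theorem result
    (k K : Type*) [Field k] [IsAlgClosed k] [CharZero k] [Field K] [Algebra k K]
    (hK : FunFld.IsFunctionField k K) (hg : FunFld.genus k K = 2)
    (C : FunFld.Divisor k K) (hC : FunFld.IsCanonical k K C)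
    (B Q : FunFld.Place k K) (hB : Module.finrank k ↥(FunFld.L (Finsupp.single B (2 : ℤ))) = 1) (hQ : Q ≠ B) :
    ¬ (Module.finrank k ↥(FunFld.L (C + Finsupp.single B (1 : ℤ) - Finsupp.single Q (2 : ℤ))) = 1 ∧
       Module.finrank k ↥(FunFld.L (C + Finsupp.single B (3 : ℤ) - Finsupp.single Q (4 : ℤ))) = 1) := by
  classical
  rintro ⟨h1, h2⟩
  have hdeg1 : ∀ R : FunFld.Place k K, R.deg = 1 := deg_eq_one_of_isAlgClosed hK
  have hlC : FunFld.ell C = 2 := by rw [ell_canonical hK hC, hg]
  have hdC : C.deg = 2 := by rw [deg_canonical hK hC, hg]; norm_num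
  -- Step (a): `L(C + B) = L(C)`
  have hdegCB : (C + Finsupp.single B (1 : ℤ)).deg = 3 := by
    rw [deg_add, hdC, deg_single, hdeg1]; norm_num
  have hlCB := ell_eq_of_deg_ge hK (C + Finsupp.single B (1 : ℤ)) (by rw [hdegCB, hg]; norm_num)
  rw [hdegCB, hg] at hlCB
  have hlCB' : FunFld.ell (C + Finsupp.single B (1 : ℤ)) = 2 := by
    have : (FunFld.ell (C + Finsupp.single B (1 : ℤ)) : ℤ) = 2 := by rw [hlCB]; norm_num
    exact_mod_cast this
  have := finiteDimensional_L hK (C + Finsupp.single B (1 : ℤ))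
  have heqCB : FunFld.L C = FunFld.L (C + Finsupp.single B (1 : ℤ)) :=
    Submodule.eq_of_le_of_finrank_eq (L_mono (le_add_of_nonneg_right (by simp))) (by
      change FunFld.ell C = FunFld.ell (C + Finsupp.single B (1 : ℤ))
      rw [hlC, hlCB'])
  have hsub : FunFld.L (C + Finsupp.single B (1 : ℤ) - Finsupp.single Q (2 : ℤ)) ≤
      FunFld.L (C - Finsupp.single Q (2 : ℤ)) := by
    have h3 : FunFld.L (C + Finsupp.single B (1 : ℤ) - Finsupp.single Q (2 : ℤ)) ≤
        FunFld.L C ⊓ FunFld.L (C + Finsupp.single B (1 : ℤ) - Finsupp.single Q (2 : ℤ)) := by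
      refine le_inf ?_ le_rfl
      rw [heqCB]
      exact L_mono (sub_le_self _ (by simp))
    refine h3.trans ?_
    rw [L_inf]
    apply L_mono
    intro R
    rw [Finsupp.inf_apply, Finsupp.sub_apply, Finsupp.sub_apply, Finsupp.add_apply,
      Finsupp.single_apply, Finsupp.single_apply]
    by_cases hR : Q = R
    · subst hR
      rw [if_pos rfl, if_neg (Ne.symm hQ)]
      simp
    · rw [if_neg hR]
      simp
  have := finiteDimensional_L hK (C - Finsupp.single Q (2 : ℤ))
  have hl0 : 0 < FunFld.ell (C - Finsupp.single Q (2 : ℤ)) := by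
    have h4 := Submodule.finrank_mono hsub
    rw [h1] at h4
    exact h4
  have hdeg0 : (C - Finsupp.single Q (2 : ℤ)).deg = 0 := by
    rw [deg_sub, hdC, deg_single, hdeg1]; norm_num
  obtain ⟨z₀, hz₀0, -, hz₀⟩ := exists_div_eq_of_ell_pos_of_deg_zero hK hdeg0 hl0
  -- Step (b): `ℓ(3B - C) = 1`
  have e3 : Finsupp.single B (3 : ℤ) - C =
      (C + Finsupp.single B (3 : ℤ) - Finsupp.single Q (4 : ℤ)) + FunFld.div k (z₀ * z₀) := by
    rw [div_mul hK hz₀0 hz₀0]
    have e1 : FunFld.div k z₀ = -(C - Finsupp.single Q (2 : ℤ)) := by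
      rw [eq_neg_iff_add_eq_zero, add_comm]; exact hz₀
    have e4 : (Finsupp.single Q (4 : ℤ) : FunFld.Divisor k K) =
        Finsupp.single Q (2 : ℤ) + Finsupp.single Q (2 : ℤ) := by
      rw [← Finsupp.single_add]; norm_num
    rw [e1, e4]; abel
  have hl3 : FunFld.ell (Finsupp.single B (3 : ℤ) - C) = 1 := by
    rw [e3, ell_add_div hK _ (mul_ne_zero hz₀0 hz₀0)]
    exact h2
  -- Step (c)
  obtain ⟨w, hwL, hw0⟩ := exists_ne_zero_mem_L_of_ell_pos (D := Finsupp.single B (3 : ℤ) - C)
    (by omega)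
  set E : FunFld.Divisor k K := Finsupp.single B (3 : ℤ) - C + FunFld.div k w with hE
  have hE0 : 0 ≤ E := (mem_L_iff_nonneg hK _ hw0).1 hwL
  have hdegE : E.deg = 1 := by
    rw [hE, deg_add, deg_sub, deg_single, hdeg1, hdC, deg_div_eq_zero hK]; norm_num
  have e5 : Finsupp.single B (3 : ℤ) - E = C - FunFld.div k w := by
    rw [hE]; abel
  have hl5 : FunFld.ell (Finsupp.single B (3 : ℤ) - E) = 2 := by
    rw [e5, ell_sub_div hK C hw0, hlC]
  have hdeg3 : FunFld.Divisor.deg (Finsupp.single B (3 : ℤ) : FunFld.Divisor k K) = 3 := by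
    rw [deg_single, hdeg1]; norm_num
  have hl3B := ell_eq_of_deg_ge hK (Finsupp.single B (3 : ℤ)) (by rw [hdeg3, hg]; norm_num)
  rw [hdeg3, hg] at hl3B
  have hl3B' : FunFld.ell (Finsupp.single B (3 : ℤ) : FunFld.Divisor k K) = 2 := by
    have : (FunFld.ell (Finsupp.single B (3 : ℤ) : FunFld.Divisor k K) : ℤ) = 2 := by
      rw [hl3B]; norm_num
    exact_mod_cast this
  have := finiteDimensional_L hK (Finsupp.single B (3 : ℤ))
  have heq3 : FunFld.L (Finsupp.single B (3 : ℤ) - E) =
      FunFld.L (Finsupp.single B (3 : ℤ) : FunFld.Divisor k K) :=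
    Submodule.eq_of_le_of_finrank_eq (L_mono (sub_le_self _ hE0)) (by
      change FunFld.ell (Finsupp.single B (3 : ℤ) - E) =
        FunFld.ell (Finsupp.single B (3 : ℤ) : FunFld.Divisor k K)
      rw [hl5, hl3B'])
  have h1mem : (1 : K) ∈ FunFld.L (Finsupp.single B (3 : ℤ) - E) := by
    rw [heq3, one_mem_L_iff]; simp
  rw [one_mem_L_iff] at h1mem
  -- `E = B`
  have hEs : E = Finsupp.single B (E B) := by
    ext R
    rw [Finsupp.single_apply]
    by_cases hR : B = R
    · subst hR; rw [if_pos rfl]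
    · rw [if_neg hR]
      have h6 := h1mem R
      have h7 := hE0 R
      rw [Finsupp.sub_apply, Finsupp.single_apply, if_neg hR] at h6
      simp only [Finsupp.zero_apply] at h6 h7
      omega
  have hEB : E B = 1 := by
    have h8 := hdegE
    rw [hEs, deg_single, hdeg1] at h8
    simpa using h8
  rw [hEB] at hEs
  -- Step (d)
  have e6 : (Finsupp.single B (2 : ℤ) : FunFld.Divisor k K) = C - FunFld.div k w := by
    have e7 : (Finsupp.single B (3 : ℤ) : FunFld.Divisor k K) =
        Finsupp.single B (2 : ℤ) + Finsupp.single B (1 : ℤ) := by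
      rw [← Finsupp.single_add]; norm_num
    have e8 : Finsupp.single B (3 : ℤ) - C + FunFld.div k w = Finsupp.single B (1 : ℤ) := by
      rw [← hE]; exact hEs
    rw [e7] at e8
    have e9 : Finsupp.single B (2 : ℤ) - (C - FunFld.div k w) = 0 := by
      have : Finsupp.single B (2 : ℤ) - (C - FunFld.div k w) =
          (Finsupp.single B (2 : ℤ) + Finsupp.single B (1 : ℤ) - C + FunFld.div k w) -
            Finsupp.single B (1 : ℤ) := by abel
      rw [this, e8, sub_self]
    exact sub_eq_zero.1 e9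
  have hl2B : FunFld.ell (Finsupp.single B (2 : ℤ) : FunFld.Divisor k K) = 2 := by
    rw [e6, ell_sub_div hK C hw0, hlC]
  have hB' : FunFld.ell (Finsupp.single B (2 : ℤ) : FunFld.Divisor k K) = 1 := hB
  omega
end Groth.Agent.S17251
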