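import Groth.Statements.S17255
import Groth.Agent.Lib.H77IsogFib
import Groth.Agent.Lib.GrpHomFlat45
import Groth.Agent.Lib.H71HomLocus2
import Groth.Agent.Lib.H69SchReduced

set_option autoImplicit false
set_option linter.style.haveILetI false
universe u
open CategoryTheory CategoryTheory.Limits MonoidalCategory CartesianMonoidalCategory MonObj GrpObj AlgebraicGeometry
open AbVar

namespace Groth.Agent.S17255

/-- Let k be a field, A and B abelian varieties over k (smooth proper k-group schemes with geometrically
connected fibres) with dim A = dim B (Krull dimensions of the underlying spaces), and f : A → B a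
homomorphism. Then flatness of f is equivalent to finiteness of f. -/
theorem result (k : Type u) [Field k]
    (A B : Over (Spec (CommRingCat.of k)))
    [GrpObj A] [Smooth A.hom] [IsProper A.hom] [GeometricallyConnected A.hom]
    [GrpObj B] [Smooth B.hom] [IsProper B.hom] [GeometricallyConnected B.hom]
    (f : A ⟶ B) [IsMonHom f] (hdim : topologicalKrullDim A.left = topologicalKrullDim B.left) :
    Flat f.left ↔ IsFinite f.left := by
  haveI : ConnectedSpace A.left := GeometricallyConnected.connectedSpace_of_subsingleton A.hom
  haveI : ConnectedSpace B.left := GeometricallyConnected.connectedSpace_of_subsingleton B.hom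
  haveI : IrreducibleSpace A.left := Groth.Agent.Lib.H77IsogFib.irreducibleSpace_of_connectedSpace A
  haveI : IrreducibleSpace B.left := Groth.Agent.Lib.H77IsogFib.irreducibleSpace_of_connectedSpace B
  haveI : LocallyOfFiniteType A.hom := inferInstance
  haveI : LocallyOfFiniteType B.hom := inferInstance
  have hprop : IsProper f.left := by
    have : IsProper (f.left ≫ B.hom) := by rw [Over.w f]; infer_instance
    exact IsProper.of_comp f.left B.hom
  constructor
  · intro hflat
    haveI : LocallyOfFinitePresentation f.left := Groth.Agent.Lib.H71HomLocus.lfp_left f
    have hclopen : IsClopen (Set.range f.left) :=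
      ⟨f.left.isClosedMap.isClosed_range, f.left.isOpenMap.isOpen_range⟩
    haveI : Nonempty A.left := inferInstance
    have hrange : Set.range f.left = Set.univ :=
      hclopen.eq_univ (Set.range_nonempty _)
    haveI : Surjective f.left := ⟨Set.range_eq_univ.mp hrange⟩
    haveI : LocallyQuasiFinite f.left := Groth.Agent.Lib.H77IsogFib.lqf_of_surjective_field f hdim
    exact IsFinite.of_isProper_of_locallyQuasiFinite _
  · intro hfin
    haveI : LocallyQuasiFinite f.left := inferInstance
    haveI : Surjective f.left := Groth.Agent.Lib.H77IsogFib.surjective_of_lqf_field f hdim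
    haveI : IsReduced B.left := Groth.Agent.Lib.H69SchReduced.isReduced_of_smooth B.hom
    haveI : QuasiCompact A.hom := inferInstance
    exact Groth.Agent.Lib.GrpHomFlat45.flat_of_surjective_of_isReduced f

end Groth.Agent.S17255
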