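import Groth.Statements.S17266
import Groth.Agent.Lib.FpEquiv

set_option autoImplicit false
open CategoryTheory
universe v u
open Stk

namespace Groth.Agent.S17266

open Groth.Agent.Lib.FpEquiv

variable {C : Type u} [Category.{v} C]

/-- The functor `C/V ⥤ C/U` over `C` induced by `h : V ⟶ U`. -/
abbrev om {U V : C} (h : V ⟶ U) : FibCat.overCat V ⥤ᵇ FibCat.overCat U :=
  ⟨Over.map h, Over.mapForget_eq h⟩

theorem basedFunctor_ext {𝒜 ℬ : BasedCategory.{v, max u v} C} (F F' : 𝒜 ⥤ᵇ ℬ)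
    (h : F.toFunctor = F'.toFunctor) : F = F' := by
  rcases F with ⟨F, w⟩
  rcases F' with ⟨F', w'⟩
  cases h
  rfl

theorem om_comp {U V W : C} (h' : W ⟶ V) (h : V ⟶ U) :
    om (h' ≫ h) = BasedFunctor.comp (om h') (om h) :=
  basedFunctor_ext _ _ (Over.mapComp_eq h' h)

/-- Let C be a category with a Grothendieck topology J and let F : 𝒳 → 𝒴, G : 𝒴 → 𝒵 be functors over C
between categories fibred in groupoids over C. Say that a functor H : 𝒜 → ℬ over C is covering when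
for every object U of C and every functor b : C/U → ℬ over C there is a J-covering sieve of U such
that for each of its arrows h : V → U the composite of C/V → C/U with b is 2-isomorphic over C to H
∘ a for some functor a : C/V → 𝒜 over C (locally on the base every object of ℬ lifts to 𝒜 up to
isomorphism). If F and G are covering, then the composite G ∘ F is covering. -/
theorem result {C : Type u} [Category.{v} C] (J : GrothendieckTopology C)
    {𝒳 𝒴 𝒵 : BasedCategory.{v, max u v} C}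
    (h𝒳 : FibCat.IsFibGrpd 𝒳.p) (h𝒴 : FibCat.IsFibGrpd 𝒴.p) (h𝒵 : FibCat.IsFibGrpd 𝒵.p)
    (F : 𝒳 ⥤ᵇ 𝒴) (G : 𝒴 ⥤ᵇ 𝒵)
    (hF : (∀ (U : C) (y : FibCat.overCat U ⥤ᵇ 𝒴), ∃ R ∈ J U, ∀ ⦃V : C⦄ (h : V ⟶ U), R.arrows h →
        ∃ x : FibCat.overCat V ⥤ᵇ 𝒳,
          Nonempty (BasedFunctor.comp x F ≅ BasedFunctor.comp (⟨Over.map h, Over.mapForget_eq h⟩ : FibCat.overCat V ⥤ᵇ FibCat.overCat U) y)))
    (hG : (∀ (U : C) (y : FibCat.overCat U ⥤ᵇ 𝒵), ∃ R ∈ J U, ∀ ⦃V : C⦄ (h : V ⟶ U), R.arrows h →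
        ∃ x : FibCat.overCat V ⥤ᵇ 𝒴,
          Nonempty (BasedFunctor.comp x G ≅ BasedFunctor.comp (⟨Over.map h, Over.mapForget_eq h⟩ : FibCat.overCat V ⥤ᵇ FibCat.overCat U) y))) :
    (∀ (U : C) (y : FibCat.overCat U ⥤ᵇ 𝒵), ∃ R ∈ J U, ∀ ⦃V : C⦄ (h : V ⟶ U), R.arrows h →
        ∃ x : FibCat.overCat V ⥤ᵇ 𝒳,
          Nonempty (BasedFunctor.comp x (BasedFunctor.comp F G) ≅ BasedFunctor.comp (⟨Over.map h, Over.mapForget_eq h⟩ : FibCat.overCat V ⥤ᵇ FibCat.overCat U) y)) := by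
  intro U y
  obtain ⟨R, hR, hRx⟩ := hG U y
  choose x hx using hRx
  have h2 := fun (V : C) (h : V ⟶ U) (hh : R.arrows h) => hF V (x h hh)
  choose R' hR' hR'x using h2
  refine ⟨Sieve.bind R.arrows (fun V h hh => R' V h hh), J.bind_covering hR (fun V h hh => hR' V h hh), ?_⟩
  rintro W g ⟨Z, h', h, hh, hh', rfl⟩
  obtain ⟨x', ⟨e'⟩⟩ := hR'x Z h hh h' hh'
  obtain ⟨e⟩ := hx h hh
  refine ⟨x', ⟨?_⟩⟩
  have e1 : BasedFunctor.comp x' (BasedFunctor.comp F G) ≅
      BasedFunctor.comp (om h') (BasedFunctor.comp (x h hh) G) := whiskerRightIso e' G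
  have e2 : BasedFunctor.comp (om h') (BasedFunctor.comp (x h hh) G) ≅
      BasedFunctor.comp (om h') (BasedFunctor.comp (om h) y) := whiskerLeftIso (om h') e
  have e3 : BasedFunctor.comp (om h') (BasedFunctor.comp (om h) y) =
      BasedFunctor.comp (om (h' ≫ h)) y := by
    rw [om_comp]; rfl
  exact e1 ≪≫ e2 ≪≫ eqToIso e3

end Groth.Agent.S17266
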