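import Groth.Statements.S17276
import Groth.Agent.Lib.NefDeg13

set_option autoImplicit false
universe u
open CategoryTheory CategoryTheory.Limits AlgebraicGeometry TopologicalSpace
open Variety

namespace Groth.Agent.S17276

/-- Let X be a proper scheme over a field k of dimension one (possibly reducible or non-reduced) and L
an invertible O_X-module that is nef, meaning χ(O_C ⊗ L) - χ(O_C) ≥ 0 for every integral closed
subscheme C ⊆ X of dimension one. Then the degree of L on X, namely χ(L) - χ(O_X), is nonnegative. -/
theorem result (k : Type u) [Field k] (X : Scheme.{u})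
    [X.Over (Spec (CommRingCat.of k))] [IsProper (X ↘ (Spec (CommRingCat.of k)))]
    (hdim : topologicalKrullDim X = 1) (L : X.Modules) (hL : PicF.IsInvertible L)
    (hnef : ∀ C : X.IdealSheafData, IsIntegral C.subscheme →
      topologicalKrullDim (C.support : Set X) = 1 →
        0 ≤ Curv2.euler k X (CohB1.tensorMod (ClSub.quotMod C) L) - Curv2.euler k X (ClSub.quotMod C)) :
    0 ≤ Curv2.deg k X L 1 := by
  have := Groth.Agent.Lib.EulerLE48.isLocallyNoetherian k X
  have hle : topologicalKrullDim X ≤ ((1 : ℕ) : WithBot ℕ∞) := by rw [hdim]; exact_mod_cast le_refl _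
  have hO : Coh.IsCoh (Coh.structureModule X) := Groth.Agent.Lib.CohFinAmple.isCoh_structureModule X
  have key := Groth.Agent.Lib.NefDeg13.euler_tensor_sub_nonneg k hle hL (fun Zc hirr hd => by
    have h1 := hnef (Scheme.IdealSheafData.vanishingIdeal Zc)
      (Groth.Agent.Lib.H90DevAtom.isIntegral_subscheme Zc hirr)
      (by rw [Scheme.IdealSheafData.coe_support_vanishingIdeal]; exact_mod_cast hd)
    exact h1) hO
  have h2 : Curv2.euler k X (CohB1.tensorMod (Coh.structureModule X) L) = Curv2.euler k X L := by
    have h : Groth.Agent.Lib.IsoCls13.cls (CohB1.tensorMod (Coh.structureModule X) L) =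
        Groth.Agent.Lib.IsoCls13.cls L := by
      rw [Groth.Agent.Lib.IsoCls13.cls_tensorMod, Groth.Agent.Lib.IsoCls13.cls_one, one_mul]
    obtain ⟨e⟩ := Groth.Agent.Lib.IsoCls13.cls_eq_iff.1 h
    exact Groth.Agent.Lib.DegTensor13.euler_congr k e
  rw [h2] at key
  unfold Curv2.deg
  push_cast
  linarith

end Groth.Agent.S17276
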