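import Groth.Statements.S1728
-- import your own Groth.Agent.* helpers here

set_option autoImplicit false
universe u
open InjHull

namespace Groth.Agent.S1728

theorem retract_injective {R : Type u} [CommRing R] {I : Type u} [AddCommGroup I] [Module R I]
    [hI : Module.Injective R I] (E : Submodule R I) (π : I →ₗ[R] E) (hπ : ∀ e : E, π e = e) :
    Module.Injective R E := by
  constructor
  intro X Y _ _ _ _ f hf g
  obtain ⟨h, hh⟩ := hI.out f hf (E.subtype ∘ₗ g)
  refine ⟨π ∘ₗ h, fun x => ?_⟩
  rw [LinearMap.comp_apply, hh x, LinearMap.comp_apply, Submodule.subtype_apply, hπ]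

theorem forward {R : Type u} [CommRing R] {I : Type u} [AddCommGroup I] [Module R I]
    (E : Submodule R I) (hE : Module.Injective R E) (E' : Submodule R I) (hEE' : E ≤ E')
    (hess : ∀ N : Submodule R I, N ≤ E' → N ≠ ⊥ → N ⊓ E ≠ ⊥) : E' = E := by
  obtain ⟨π, hπ⟩ := Module.Injective.extension_property R E E I E.subtype
    E.subtype_injective LinearMap.id
  have hπ' : ∀ e : E, π e = e := fun e => by
    have := congrArg (fun h => h e) hπ
    simpa using this
  refine le_antisymm ?_ hEE'
  intro x hx
  by_contra hxE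
  have hne : (LinearMap.ker π ⊓ E') ≠ ⊥ := by
    intro hbot
    have hmem : x - (π x : I) ∈ LinearMap.ker π ⊓ E' := by
      refine Submodule.mem_inf.2 ⟨?_, E'.sub_mem hx (hEE' (π x).2)⟩
      rw [LinearMap.mem_ker, map_sub, hπ' (π x), sub_self]
    rw [hbot, Submodule.mem_bot, sub_eq_zero] at hmem
    exact hxE (hmem ▸ (π x).2)
  apply hess _ inf_le_right hne
  rw [eq_bot_iff]
  intro y hy
  obtain ⟨hy12, hy3⟩ := Submodule.mem_inf.1 hy
  obtain ⟨hy1, _⟩ := Submodule.mem_inf.1 hy12
  have h1 : π y = ⟨y, hy3⟩ := hπ' ⟨y, hy3⟩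
  rw [LinearMap.mem_ker] at hy1
  rw [hy1] at h1
  have h2 := congrArg Subtype.val h1
  simpa using h2.symm

theorem backward {R : Type u} [CommRing R] {I : Type u} [AddCommGroup I] [Module R I]
    [hI : Module.Injective R I] (E : Submodule R I)
    (H : ∀ E' : Submodule R I, E ≤ E' → (∀ N : Submodule R I, N ≤ E' → N ≠ ⊥ → N ⊓ E ≠ ⊥) →
      E' = E) : Module.Injective R E := by
  obtain ⟨C, hC⟩ := zorn_le₀ {C : Submodule R I | Disjoint C E} (by
    intro c hcs hc
    rcases c.eq_empty_or_nonempty with rfl | hne
    · exact ⟨⊥, disjoint_bot_left, by simp⟩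
    · refine ⟨sSup c, ?_, fun z hz => le_sSup hz⟩
      show Disjoint (sSup c) E
      rw [hc.directedOn.disjoint_sSup_left]
      exact fun b hb => hcs hb)
  have hCE : Disjoint C E := hC.prop
  have hj : Function.Injective (C.mkQ ∘ₗ E.subtype) := by
    rw [injective_iff_map_eq_zero]
    intro e he
    rw [LinearMap.comp_apply, Submodule.mkQ_apply, Submodule.Quotient.mk_eq_zero,
      Submodule.subtype_apply] at he
    have := (Submodule.disjoint_def.1 hCE) e he e.2
    exact Subtype.ext this
  obtain ⟨φ, hφ⟩ := Module.Injective.extension_property R I E (I ⧸ C) _ hj E.subtype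
  have hφ' : ∀ e : E, φ (C.mkQ e) = e := fun e => by
    have := congrArg (fun h => h e) hφ
    simpa using this
  have hess : ∀ N : Submodule R (I ⧸ C), N ≠ ⊥ → ∃ e : E, (e : I) ≠ 0 ∧ C.mkQ e ∈ N := by
    intro N hN
    by_contra hcon
    push Not at hcon
    apply hN
    have hdisj : Disjoint (Submodule.comap C.mkQ N) E := by
      rw [Submodule.disjoint_def]
      intro x hx hxE
      by_contra hx0
      exact hcon ⟨x, hxE⟩ hx0 hx
    have hle : C ≤ Submodule.comap C.mkQ N := by
      intro c hc
      rw [Submodule.mem_comap, Submodule.mkQ_apply, (Submodule.Quotient.mk_eq_zero C).2 hc]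
      exact N.zero_mem
    have hle2 : Submodule.comap C.mkQ N ≤ C := hC.2 hdisj hle
    rw [eq_bot_iff]
    intro y hy
    obtain ⟨x, rfl⟩ := Submodule.mkQ_surjective C y
    have : x ∈ C := hle2 hy
    rw [Submodule.mem_bot, Submodule.mkQ_apply, Submodule.Quotient.mk_eq_zero]
    exact this
  have hφinj : Function.Injective φ := by
    rw [← LinearMap.ker_eq_bot]
    by_contra hker
    obtain ⟨e, he0, heker⟩ := hess _ hker
    rw [LinearMap.mem_ker, hφ'] at heker
    exact he0 heker
  have hrange : LinearMap.range φ = E := by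
    apply H
    · intro e he
      exact ⟨C.mkQ e, hφ' ⟨e, he⟩⟩
    · intro N hN hN0
      have hcomap : Submodule.comap φ N ≠ ⊥ := by
        intro hbot
        apply hN0
        rw [eq_bot_iff]
        intro n hn
        obtain ⟨y, rfl⟩ := hN hn
        have : y ∈ Submodule.comap φ N := hn
        rw [hbot, Submodule.mem_bot] at this
        rw [this, map_zero]
        exact Submodule.zero_mem _
      obtain ⟨e, he0, heN⟩ := hess _ hcomap
      rw [Submodule.mem_comap, hφ'] at heN
      intro hbot
      have : (e : I) ∈ N ⊓ E := ⟨heN, e.2⟩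
      rw [hbot, Submodule.mem_bot] at this
      exact he0 this
  refine retract_injective E ((φ ∘ₗ C.mkQ).codRestrict E (fun x => ?_)) (fun e => ?_)
  · rw [← hrange]
    exact ⟨C.mkQ x, rfl⟩
  · apply Subtype.ext
    exact hφ' e


/-- Let I be an injective R-module and E a submodule of I. Then E is an injective module if and only if
every submodule E' of I containing E, such that every nonzero submodule of E' meets E nontrivially,
is equal to E. -/
theorem result (R : Type u) [CommRing R] (I : Type u) [AddCommGroup I] [Module R I] [Module.Injective R I] (E : Submodule R I) : Module.Injective R E ↔ ∀ E' : Submodule R I, E ≤ E' → (∀ N : Submodule R I, N ≤ E' → N ≠ ⊥ → N ⊓ E ≠ ⊥) → E' = E := by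
  exact ⟨fun hE E' hEE' hess => forward E hE E' hEE' hess, fun H => backward E H⟩

end Groth.Agent.S1728
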