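import Groth.Statements.S17287
import Groth.Agent.Lib.H73FibDim2
import Groth.Agent.Lib.ReducedSubscheme
import Groth.Agent.S4644

set_option autoImplicit false
universe u
open CategoryTheory CategoryTheory.Limits AlgebraicGeometry TopologicalSpace
open Variety

namespace Groth.Agent.S17287
open Groth.Agent.Lib.H30DimField Groth.Agent.Lib.H73FibDim

theorem isIntegral_subscheme {X : Scheme.{u}} (Z : Closeds X) (hZ : IsIrreducible (Z : Set X)) :
    IsIntegral (Scheme.IdealSheafData.vanishingIdeal Z).subscheme := by
  haveI := Groth.Agent.Lib.ReducedSubscheme.isReduced_subscheme_vanishingIdeal Z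
  haveI : IrreducibleSpace (Scheme.IdealSheafData.vanishingIdeal Z).subscheme := by
    have hr : Set.range (Scheme.IdealSheafData.vanishingIdeal Z).subschemeι = (Z : Set X) := by
      rw [Scheme.IdealSheafData.range_subschemeι, Scheme.IdealSheafData.coe_support_vanishingIdeal]
    have e := (Scheme.IdealSheafData.vanishingIdeal Z).subschemeι.isEmbedding.toHomeomorph
    rw [e.irreducibleSpace_iff]
    rw [← hr] at hZ
    exact Subtype.irreducibleSpace hZ
  exact isIntegral_of_irreducibleSpace_of_isReduced _


/-- Let f : Y → X be a surjective k-morphism of proper schemes over a field k and C ⊆ X an integral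
closed subscheme of dimension one. Then there is an integral closed subscheme C' ⊆ Y of dimension
one with f(C') = C as closed subsets. (The source states this for proper algebraic spaces over k;
this is the case of schemes.) -/
theorem result (k : Type u) [Field k] (X Y : Scheme.{u})
    [X.Over (Spec (CommRingCat.of k))] [IsProper (X ↘ (Spec (CommRingCat.of k)))] [Y.Over (Spec (CommRingCat.of k))] [IsProper (Y ↘ (Spec (CommRingCat.of k)))]
    (f : Y ⟶ X) (hf : f ≫ (X ↘ (Spec (CommRingCat.of k))) = Y ↘ (Spec (CommRingCat.of k))) [Surjective f]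
    (C : X.IdealSheafData) [IsIntegral C.subscheme] (hC : topologicalKrullDim (C.support : Set X) = 1) :
    ∃ C' : Y.IdealSheafData, IsIntegral C'.subscheme ∧ topologicalKrullDim (C'.support : Set Y) = 1 ∧
      f.base '' (C'.support : Set Y) = (C.support : Set X) := by
  haveI : f.IsOver (Spec (CommRingCat.of k)) := ⟨hf⟩
  haveI : LocallyOfFiniteType f := by
    have : LocallyOfFiniteType (f ≫ (X ↘ (Spec (CommRingCat.of k)))) := by rw [hf]; infer_instance
    exact locallyOfFiniteType_of_comp f (X ↘ (Spec (CommRingCat.of k)))
  haveI : IsProper f := by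
    have : IsProper (f ≫ (X ↘ (Spec (CommRingCat.of k)))) := by rw [hf]; infer_instance
    exact IsProper.of_comp f (X ↘ (Spec (CommRingCat.of k)))
  -- generic point of C
  have hirr : IsIrreducible (C.support : Set X) := by
    rw [← Scheme.IdealSheafData.range_subschemeι, ← Set.image_univ]
    exact (IrreducibleSpace.isIrreducible_univ _).image _ C.subschemeι.continuous.continuousOn
  obtain ⟨η, hη⟩ : ∃ η, IsGenericPoint η (C.support : Set X) :=
    QuasiSober.sober hirr C.support.isClosed
  haveI lftX : LocallyOfFiniteType (X ↘ (Spec (CommRingCat.of k))) := inferInstance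
  haveI lftY : LocallyOfFiniteType (Y ↘ (Spec (CommRingCat.of k))) := inferInstance
  have hηcl : closure ({η} : Set X) = (C.support : Set X) := hη
  have htdη : td k X η = 1 := by
    have h1 := Groth.Agent.S4644.dim_closure_eq (k := k) η
    rw [hηcl, hC] at h1
    have h2 : (td k X η).toNat = 1 := by exact_mod_cast h1.symm
    omega
  obtain ⟨y₁, hy₁⟩ := f.surjective η
  obtain ⟨c, hc, -, hcl⟩ := exists_closed_in_fibre' f y₁
  have hfin := finite_residueFieldMap_of_isClosed_fibre f (f y₁) ⟨c, hc⟩ hcl
  have htdc : td k Y c = 1 := by
    rw [td_eq_of_finite k f c hfin, hc, hy₁, htdη]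
  have hfc : f c = η := hc.trans hy₁
  let Z : Closeds Y := ⟨closure {c}, isClosed_closure⟩
  refine ⟨Scheme.IdealSheafData.vanishingIdeal Z, isIntegral_subscheme Z isIrreducible_singleton.closure, ?_, ?_⟩
  · rw [Scheme.IdealSheafData.coe_support_vanishingIdeal]
    change topologicalKrullDim ↥(closure ({c} : Set Y)) = 1
    rw [Groth.Agent.S4644.dim_closure_eq (k := k) c, htdc]
    rfl
  · rw [Scheme.IdealSheafData.coe_support_vanishingIdeal]
    change f.base '' closure ({c} : Set Y) = _
    rw [← hηcl]
    apply Set.Subset.antisymm
    · refine (image_closure_subset_closure_image f.continuous).trans ?_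
      rw [Set.image_singleton, hfc]
    · have hclosed : IsClosed (f.base '' closure ({c} : Set Y)) := f.isClosedMap _ isClosed_closure
      apply closure_minimal _ hclosed
      rw [Set.singleton_subset_iff]
      exact ⟨c, subset_closure rfl, hfc⟩

end Groth.Agent.S17287
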