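import Groth.Statements.S1729
-- import your own Groth.Agent.* helpers here
import Mathlib.RingTheory.LocalRing.Module
import Mathlib.RingTheory.Nakayama

set_option autoImplicit false
universe u
open Dual2

namespace Groth.Agent.S1729

/-- Over a local ring, every finite module M admits a projective cover: a surjection from a projective
module P onto M such that no proper submodule of P maps onto M. -/
theorem result (R : Type u) [CommRing R] [IsLocalRing R] (M : Type u) [AddCommGroup M] [Module R M] [Module.Finite R M] : ∃ (P : Type u) (_ : AddCommGroup P) (_ : Module R P) (f : P →ₗ[R] M), Dual2.IsProjectiveCover f := by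
  classical
  have hsurj : Function.Surjective
      (TensorProduct.mk R (IsLocalRing.ResidueField R) M 1) :=
    TensorProduct.mk_surjective R M (IsLocalRing.ResidueField R) Ideal.Quotient.mk_surjective
  let b := Module.finBasis (IsLocalRing.ResidueField R)
    (TensorProduct R (IsLocalRing.ResidueField R) M)
  choose m hm using fun i => hsurj (b i)
  refine ⟨Fin (Module.finrank (IsLocalRing.ResidueField R)
    (TensorProduct R (IsLocalRing.ResidueField R) M)) → R, inferInstance, inferInstance,
    Fintype.linearCombination R m, ?_, ?_, ?_⟩
  · infer_instance
  · rw [← LinearMap.range_eq_top, Fintype.range_linearCombination]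
    exact IsLocalRing.span_eq_top_of_tmul_eq_basis m b (fun i => hm i)
  · intro N hN
    have hker : LinearMap.ker (Fintype.linearCombination R m) ≤
        (IsLocalRing.maximalIdeal R) • (⊤ : Submodule R (Fin (Module.finrank
          (IsLocalRing.ResidueField R) (TensorProduct R (IsLocalRing.ResidueField R) M)) → R)) := by
      intro x hx
      rw [LinearMap.mem_ker, Fintype.linearCombination_apply] at hx
      have h1 : ∑ i, (IsLocalRing.residue R (x i)) • b i = 0 := by
        have := congrArg (TensorProduct.mk R (IsLocalRing.ResidueField R) M 1) hx
        rw [map_sum, map_zero] at this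
        rw [← this]
        refine Finset.sum_congr rfl (fun i _ => ?_)
        rw [map_smul, hm i, ← IsLocalRing.ResidueField.algebraMap_eq, algebraMap_smul]
      have h2 := Fintype.linearIndependent_iff.1 b.linearIndependent _ h1
      have h3 : ∀ i, x i ∈ IsLocalRing.maximalIdeal R := fun i => by
        rw [← IsLocalRing.residue_eq_zero_iff]
        exact h2 i
      have h4 : x = ∑ i, x i • (Pi.single i (1 : R) : Fin _ → R) := by
        ext j
        simp [Finset.sum_apply, Pi.single_apply]
      rw [h4]
      exact Submodule.sum_mem _ fun i _ => Submodule.smul_mem_smul (h3 i) Submodule.mem_top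
    have htop : (⊤ : Submodule R (Fin (Module.finrank
          (IsLocalRing.ResidueField R) (TensorProduct R (IsLocalRing.ResidueField R) M)) → R)) ≤
        N ⊔ (IsLocalRing.maximalIdeal R) • ⊤ := by
      intro x _
      have hx : Fintype.linearCombination R m x ∈ Submodule.map (Fintype.linearCombination R m) N := by
        rw [hN]
        exact Submodule.mem_top
      obtain ⟨y, hy, hxy⟩ := hx
      have h5 : x - y ∈ LinearMap.ker (Fintype.linearCombination R m) := by
        rw [LinearMap.mem_ker, map_sub, hxy, sub_self]
      have : x = y + (x - y) := by abel
      rw [this]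
      exact Submodule.add_mem_sup hy (hker h5)
    have := Submodule.le_of_le_smul_of_le_jacobson_bot Module.Finite.fg_top
      (by rw [IsLocalRing.jacobson_eq_maximalIdeal ⊥ bot_ne_top]) htop
    exact top_le_iff.1 this

end Groth.Agent.S1729
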