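import Groth.Statements.S1730
-- import your own Groth.Agent.* helpers here

set_option autoImplicit false
universe u
open Dual2

namespace Groth.Agent.S1730

/-- If f : P → M and f' : P' → M are two projective covers of an R-module M, then there is an
isomorphism P ≃ P' compatible with the maps to M. -/
theorem result (R : Type u) [CommRing R] (M P P' : Type u) [AddCommGroup M] [Module R M] [AddCommGroup P] [Module R P] [AddCommGroup P'] [Module R P'] (f : P →ₗ[R] M) (f' : P' →ₗ[R] M) (hf : Dual2.IsProjectiveCover f) (hf' : Dual2.IsProjectiveCover f') : ∃ e : P ≃ₗ[R] P', f' ∘ₗ e.toLinearMap = f := by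
  have := hf.projective
  have := hf'.projective
  obtain ⟨g, hg⟩ := Module.projective_lifting_property f' f hf'.surjective
  -- g is surjective
  have hgsurj : Function.Surjective g := by
    rw [← LinearMap.range_eq_top]
    apply hf'.essential
    rw [← LinearMap.range_comp, hg, LinearMap.range_eq_top]
    exact hf.surjective
  obtain ⟨s, hs⟩ := g.exists_rightInverse_of_surjective (LinearMap.range_eq_top.2 hgsurj)
  -- s is surjective
  have hssurj : Function.Surjective s := by
    rw [← LinearMap.range_eq_top]
    apply hf.essential
    rw [← LinearMap.range_comp, ← hg, LinearMap.comp_assoc, hs, LinearMap.comp_id,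
      LinearMap.range_eq_top]
    exact hf'.surjective
  have hginj : Function.Injective g := by
    intro x y hxy
    obtain ⟨x', rfl⟩ := hssurj x
    obtain ⟨y', rfl⟩ := hssurj y
    have hx : g (s x') = x' := by
      have := congrArg (fun h => h x') hs
      simpa using this
    have hy : g (s y') = y' := by
      have := congrArg (fun h => h y') hs
      simpa using this
    rw [hx, hy] at hxy
    rw [hxy]
  refine ⟨LinearEquiv.ofBijective g ⟨hginj, hgsurj⟩, ?_⟩
  rw [← hg]
  rfl

end Groth.Agent.S1730
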