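import Groth.Statements.S1731
import Groth.Agent.Lib.TorsionExtBC

set_option autoImplicit false
universe u
open CategoryTheory
open scoped TensorProduct
attribute [local instance] HasDerivedCategory.standard
open LocCoh

namespace Groth.Agent.S1731

open Groth.Agent.Lib.TorsionOrth Groth.Agent.Lib.TorsionOrthMod Groth.Agent.Lib.TorsionExtBC
  Groth.Agent.Lib.FlatBaseChangeD Groth.Agent.Lib.DerivedAdjunction

/-- Statement for modules: let A → B be a flat ring map and I a finitely generated ideal of A such that
A → B/IB is surjective with kernel I (so A/I ≅ B/IB). If M is an I-power torsion A-module, then for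
every A-module N and every integer i the group of maps M → N[i] in D(A) is isomorphic to the group
of maps B ⊗_A M → (B ⊗_A N)[i] in D(B). (Only the existence of an isomorphism is asserted; the
published statement shows that the base-change map is one.) -/
theorem result (A B : Type u) [CommRing A] [CommRing B] [Algebra A B] [Module.Flat A B] (I : Ideal A) (hI : I.FG) (hs : Function.Surjective ((Ideal.Quotient.mk (I.map (algebraMap A B))).comp (algebraMap A B))) (hk : RingHom.ker ((Ideal.Quotient.mk (I.map (algebraMap A B))).comp (algebraMap A B)) = I) (M N : Type u) [AddCommGroup M] [Module A M] [AddCommGroup N] [Module A N] (hM : LocCoh.IsPowerTorsion I M) (i : ℤ) : Nonempty ((Dual.inD A M ⟶ (Dual.inD A N)⟦i⟧) ≃+ (Dual.inD B (B ⊗[A] M) ⟶ (Dual.inD B (B ⊗[A] N))⟦i⟧)) := by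
  have hb := bij_unit I hs hk hI (ModuleCat.of A M) (ModuleCat.of A N) hM
  let φ := ηC (TT A B) (adj A B).unit
      ((HomologicalComplex.single (ModuleCat.{u} A) (ComplexShape.up ℤ) 0).obj (ModuleCat.of A N))
  let e1 : (Dual.inD A M ⟶ (Dual.inD A N)⟦i⟧) ≃+
      (Dual.inD A M ⟶ (DerivedCategory.Q.obj
        (((TT A B).mapHomologicalComplex (ComplexShape.up ℤ)).obj
          ((HomologicalComplex.single (ModuleCat.{u} A) (ComplexShape.up ℤ) 0).obj
            (ModuleCat.of A N))))⟦i⟧) :=
    AddEquiv.ofBijective
      (AddMonoidHom.mk' (fun g => g ≫ (DerivedCategory.Q.map φ)⟦i⟧')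
        (fun _ _ => Preadditive.add_comp _ _ _ _ _ _)) (hb i)
  let iso2 : DerivedCategory.Q.obj
        (((TT A B).mapHomologicalComplex (ComplexShape.up ℤ)).obj
          ((HomologicalComplex.single (ModuleCat.{u} A) (ComplexShape.up ℤ) 0).obj
            (ModuleCat.of A N))) ≅
      (G A B).mapDerivedCategory.obj ((DerivedCategory.singleFunctor (ModuleCat.{u} B) 0).obj
        ((F A B).obj (ModuleCat.of A N))) :=
    DerivedCategory.Q.mapIso ((HomologicalComplex.singleMapHomologicalComplex (TT A B)
      (ComplexShape.up ℤ) 0).app (ModuleCat.of A N)) ≪≫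
      (((G A B).mapDerivedCategorySingleFunctor 0).app ((F A B).obj (ModuleCat.of A N))).symm
  let e2 := postcompAddEquiv (Dual.inD A M) ((shiftFunctor _ i).mapIso iso2)
  let e3 := (homShiftAddEquiv (adj A B) (ModuleCat.of A M)
    ((DerivedCategory.singleFunctor (ModuleCat.{u} B) 0).obj ((F A B).obj (ModuleCat.of A N))) i).symm
  let e4 := (precompAddEquiv ((DerivedCategory.singleFunctor (ModuleCat.{u} B) 0).mapIso
      (objIso (A := A) (B := B) M)).symm
      (((DerivedCategory.singleFunctor (ModuleCat.{u} B) 0).obj
        ((F A B).obj (ModuleCat.of A N)))⟦i⟧)).trans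
    (postcompAddEquiv _ ((shiftFunctor _ i).mapIso
      ((DerivedCategory.singleFunctor (ModuleCat.{u} B) 0).mapIso (objIso (A := A) (B := B) N))))
  exact ⟨e1.trans (e2.trans (e3.trans e4))⟩

end Groth.Agent.S1731
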