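import Groth.Statements.S1732
import Groth.Agent.Lib.H74DMod3
import Groth.Agent.Lib.H74DMod4
import Groth.Agent.Lib.H59PowerSeriesDim

set_option autoImplicit false
universe u
open LocCoh

namespace Groth.Agent.S1732

/-- Let k be a field of characteristic zero, d ≥ 1, A = k[[x_1, …, x_d]] with maximal ideal m, and E an
injective hull of the residue field of A. Let M be an m-power torsion A-module equipped with
additive maps D_1, …, D_d such that D_i(f z) = θ_i(f) z + f D_i(z), where θ_i is the k-derivation of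
A with θ_i(x_j) = δ_ij (the partial derivative in x_i). Then M is, up to isomorphism, a direct sum
of copies of E. -/
theorem result (k : Type u) [Field k] [CharZero k] (d : ℕ) (hd : 1 ≤ d) (E : Type u) [AddCommGroup E] [Module (MvPowerSeries (Fin d) k) E] (e : IsLocalRing.ResidueField (MvPowerSeries (Fin d) k) →ₗ[MvPowerSeries (Fin d) k] E) (he : InjHull.IsInjectiveHull e) (θ : Fin d → Derivation k (MvPowerSeries (Fin d) k) (MvPowerSeries (Fin d) k)) (hθ : ∀ i j : Fin d, θ i (MvPowerSeries.X j) = if i = j then 1 else 0) (M : Type u) [AddCommGroup M] [Module (MvPowerSeries (Fin d) k) M] (hM : LocCoh.IsPowerTorsion (IsLocalRing.maximalIdeal (MvPowerSeries (Fin d) k)) M) (D : Fin d → M →+ M) (hD : ∀ (i : Fin d) (f : MvPowerSeries (Fin d) k) (z : M), D i (f • z) = θ i f • z + f • D i z) : ∃ J : Type u, Nonempty (M ≃ₗ[MvPowerSeries (Fin d) k] (J →₀ E)) := by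
  have hunit : ∀ n : ℕ, n ≠ 0 → IsUnit ((n : MvPowerSeries (Fin d) k)) := by
    intro n hn
    have h1 : IsUnit ((n : k)) := isUnit_iff_ne_zero.mpr (Nat.cast_ne_zero.mpr hn)
    have h2 := h1.map (MvPowerSeries.C (σ := Fin d) (R := k))
    rwa [map_natCast] at h2
  have hmaxeq : IsLocalRing.maximalIdeal (MvPowerSeries (Fin d) k) =
      Ideal.span (Set.range fun i : Fin d => (MvPowerSeries.X i : MvPowerSeries (Fin d) k)) :=
    Groth.Agent.Lib.H59PowerSeriesDim.maximalIdeal_psk d
  have hmax : (Ideal.span (Set.range fun i : Fin d =>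
      (MvPowerSeries.X i : MvPowerSeries (Fin d) k))).IsMaximal := by
    rw [← hmaxeq]
    infer_instance
  have htors : ∀ (i : Fin d) (z : M), ∃ n : ℕ,
      (MvPowerSeries.X i : MvPowerSeries (Fin d) k) ^ n • z = 0 := by
    intro i z
    obtain ⟨n, hn⟩ := hM z
    refine ⟨n, hn _ (Ideal.pow_mem_pow ?_ n)⟩
    rw [hmaxeq]
    exact Ideal.subset_span ⟨i, rfl⟩
  have hD' : ∀ (i j : Fin d) (z : M),
      D i ((MvPowerSeries.X j : MvPowerSeries (Fin d) k) • z) =
        (if i = j then z else 0) + (MvPowerSeries.X j : MvPowerSeries (Fin d) k) • D i z := by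
    intro i j z
    rw [hD, hθ]
    by_cases hij : i = j
    · rw [if_pos hij, if_pos hij, one_smul]
    · rw [if_neg hij, if_neg hij, zero_smul]
  have hinj : Module.Injective (MvPowerSeries (Fin d) k) M :=
    Groth.Agent.Lib.H74DMod.injective_of_derivations d (MvPowerSeries (Fin d) k) hunit
      (fun i => MvPowerSeries.X i) hmax M htors D hD'
  exact Groth.Agent.Lib.H74DMod.exists_equiv_finsupp E e he M hinj hM

end Groth.Agent.S1732
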