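import Groth.Statements.S17333
-- import your own Groth.Agent.* helpers here
import Mathlib.LinearAlgebra.Prod

set_option autoImplicit false
universe u v w
open CAlg

namespace Groth.Agent.S17333

theorem derivation_idem {k A : Type*} [CommRing k] [CommRing A] [Algebra k A]
    (D : Derivation k A A) {e : A} (he : IsIdempotentElem e) : D e = 0 := by
  have h1 : D e = e • D e + e • D e := by
    conv_lhs => rw [← he.eq]
    exact D.leibniz e e
  have h2 : e • D e = 0 := by
    have := congrArg (fun x => e • x) h1
    simp only [smul_add, smul_smul, he.eq] at this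
    simpa using this
  rw [h1, h2, add_zero]

/-- Let k be a field and A = B × C a decomposable commutative k-algebra. Then the natural map Der(B) ×
Der(C) → Der(A) is bijective: every k-derivation D : A → A is (b, c) ↦ (D₁ b, D₂ c) for a unique
pair of k-derivations D₁ : B → B, D₂ : C → C. Compatibility with brackets is not stated. (The
published statement takes k algebraically closed; this row takes any field.) -/
theorem result (k : Type u) [Field k] (B : Type v) [CommRing B] [Algebra k B]
    (C : Type w) [CommRing C] [Algebra k C] (D : Derivation k (B × C) (B × C)) :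
    ∃! P : Derivation k B B × Derivation k C C, ∀ (b : B) (c : C), D (b, c) = (P.1 b, P.2 c) := by
  have he1 : IsIdempotentElem ((1, 0) : B × C) := by
    show ((1, 0) : B × C) * (1, 0) = (1, 0)
    ext <;> simp
  have he2 : IsIdempotentElem ((0, 1) : B × C) := by
    show ((0, 1) : B × C) * (0, 1) = (0, 1)
    ext <;> simp
  have hD1 : D (1, 0) = 0 := derivation_idem D he1
  have hD2 : D (0, 1) = 0 := derivation_idem D he2
  have hb : ∀ b : B, (D (b, 0)).2 = 0 := by
    intro b
    have h : ((b, 0) : B × C) = (1, 0) * (b, 0) := by ext <;> simp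
    have h2 := D.leibniz ((1, 0) : B × C) (b, 0)
    rw [← h, hD1, smul_zero, add_zero] at h2
    rw [h2]
    simp
  have hc : ∀ c : C, (D (0, c)).1 = 0 := by
    intro c
    have h : ((0, c) : B × C) = (0, 1) * (0, c) := by ext <;> simp
    have h2 := D.leibniz ((0, 1) : B × C) (0, c)
    rw [← h, hD2, smul_zero, add_zero] at h2
    rw [h2]
    simp
  let D₁ : Derivation k B B :=
    { toLinearMap := (LinearMap.fst k B C) ∘ₗ D.toLinearMap ∘ₗ (LinearMap.inl k B C)
      map_one_eq_zero' := by
        show (D (1, 0)).1 = 0
        rw [hD1]; rfl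
      leibniz' := by
        intro a b
        show (D (a * b, 0)).1 = a • (D (b, 0)).1 + b • (D (a, 0)).1
        have h : ((a * b, 0) : B × C) = (a, 0) * (b, 0) := by ext <;> simp
        rw [h, D.leibniz]
        simp }
  let D₂ : Derivation k C C :=
    { toLinearMap := (LinearMap.snd k B C) ∘ₗ D.toLinearMap ∘ₗ (LinearMap.inr k B C)
      map_one_eq_zero' := by
        show (D (0, 1)).2 = 0
        rw [hD2]; rfl
      leibniz' := by
        intro a b
        show (D (0, a * b)).2 = a • (D (0, b)).2 + b • (D (0, a)).2
        have h : ((0, a * b) : B × C) = (0, a) * (0, b) := by ext <;> simp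
        rw [h, D.leibniz]
        simp }
  have hD₁ : ∀ b, D₁ b = (D (b, 0)).1 := fun _ => rfl
  have hD₂ : ∀ c, D₂ c = (D (0, c)).2 := fun _ => rfl
  refine ⟨(D₁, D₂), ?_, ?_⟩
  · intro b c
    have h : ((b, c) : B × C) = (b, 0) + (0, c) := by ext <;> simp
    rw [h, map_add]
    ext
    · simp [hD₁, hc]
    · simp [hD₂, hb]
  · rintro ⟨P₁, P₂⟩ hP
    have h1 : P₁ = D₁ := by
      ext b
      have := congrArg Prod.fst (hP b 0)
      simpa [hD₁] using this.symm
    have h2 : P₂ = D₂ := by
      ext c
      have := congrArg Prod.snd (hP 0 c)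
      simpa [hD₂] using this.symm
    rw [h1, h2]

end Groth.Agent.S17333
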