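import Groth.Statements.S17321
-- import your own Groth.Agent.* helpers here
import Groth.Agent.Lib.FinAlgIdem
import Groth.Agent.S17333
import Mathlib.RingTheory.Artinian.Ring
import Mathlib.LinearAlgebra.Dual.Lemmas

set_option autoImplicit false
universe u v
open CAlg

namespace Groth.Agent.S17321

open Groth.Agent.Lib.FinAlgIdem

/-- Let k be an algebraically closed field and A a commutative k-algebra which is finite-dimensional as
a k-vector space (the coordinate ring of a finite k-scheme). Then the space Der(A) of k-derivations
A → A is zero if and only if A is reduced. -/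
theorem result (k : Type u) [Field k] [IsAlgClosed k]
    (A : Type v) [CommRing A] [Algebra k A] [Module.Finite k A] :
    Subsingleton (Derivation k A A) ↔ IsReduced A := by
  classical
  have hfin := finite_points k A
  let _ := Fintype.ofFinite (A →ₐ[k] k)
  constructor
  · intro hsub
    by_contra hred
    have hArt : IsArtinianRing A := IsArtinianRing.of_finite k A
    -- a nonzero nilpotent element
    obtain ⟨x, hxnil, hx0⟩ : ∃ x : A, IsNilpotent x ∧ x ≠ 0 := by
      by_contra h
      push Not at h
      exact hred ⟨fun x hx => h x hx⟩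
    -- choose a point `χ` with `e_χ x ≠ 0`
    obtain ⟨χ, hχ⟩ : ∃ χ : A →ₐ[k] k, idem k A χ * x ≠ 0 := by
      by_contra h
      push Not at h
      apply hx0
      have h1 : x = (∑ f : A →ₐ[k] k, idem k A f) * x := by
        rw [(idem_complete k A).complete, one_mul]
      rw [h1, Finset.sum_mul]
      exact Finset.sum_eq_zero fun f _ => h f
    set e := idem k A χ with he_def
    have hee : e * e = e := (idem_isIdempotentElem k A χ).eq
    have hχe : χ e = 1 := apply_idem_self k A χ
    set M : Ideal A := Ideal.span {e} * nilradical A with hM_def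
    have hMN : M ≤ nilradical A := Ideal.mul_le_left (I := nilradical A) (J := Ideal.span {e}) |> fun h => by rw [hM_def, mul_comm]; exact h
    have hMe : ∀ y ∈ M, e * y = y := by
      intro y hy
      have h1 : y ∈ Ideal.span {e} := by
        have := Ideal.mul_le_left (I := Ideal.span {e}) (J := nilradical A)
        exact this hy
      obtain ⟨z, rfl⟩ := Ideal.mem_span_singleton'.mp h1
      rw [mul_comm z e, ← mul_assoc, hee]
    have hMχ : ∀ y ∈ M, χ y = 0 := fun y hy => ((mem_nilradical.mp (hMN hy)).map χ).eq_zero
    have hM_ne : M ≠ ⊥ := by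
      intro h
      apply hχ
      have : e * x ∈ M := Ideal.mul_mem_mul (Ideal.subset_span rfl) (mem_nilradical.mpr hxnil)
      rw [h] at this
      exact (Submodule.mem_bot A).mp this
    -- the element `(a - χ a) e` lies in `M`
    have hkeyM : ∀ a : A, e * (a - algebraMap k A (χ a)) ∈ M := by
      intro a
      have h1 : e * (a - algebraMap k A (χ a)) = e * (e * (a - algebraMap k A (χ a))) := by
        rw [← mul_assoc, hee]
      rw [h1]
      refine Ideal.mul_mem_mul (Ideal.subset_span rfl) ?_
      rw [mem_nilradical]
      apply isNilpotent_of_ev_eq_zero (k := k)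
      ext g
      rw [ev_apply, map_mul, map_sub, AlgHom.commutes, Algebra.algebraMap_self_apply,
        Pi.zero_apply]
      by_cases hg : g = χ
      · rw [hg, sub_self, mul_zero]
      · rw [apply_idem_of_ne k A hg, zero_mul]
    -- nilpotency index
    have hM_nil : ∃ n : ℕ, M ^ n = ⊥ := by
      obtain ⟨n, hn⟩ := IsArtinianRing.isNilpotent_nilradical (R := A)
      refine ⟨n, ?_⟩
      rw [eq_bot_iff, ← Ideal.zero_eq_bot, ← hn]
      exact Ideal.pow_right_mono hMN n
    have hn_spec : M ^ Nat.find hM_nil = ⊥ := Nat.find_spec hM_nil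
    have hn2 : 2 ≤ Nat.find hM_nil := by
      by_contra hlt
      push Not at hlt
      interval_cases h : Nat.find hM_nil
      · rw [pow_zero, Ideal.one_eq_top] at hn_spec
        have : (1 : A) ∈ (⊥ : Ideal A) := hn_spec ▸ Submodule.mem_top
        have h10 : (1 : A) = 0 := (Submodule.mem_bot A).mp this
        exact hx0 (by rw [← one_mul x, h10, zero_mul])
      · rw [pow_one] at hn_spec
        exact hM_ne hn_spec
    obtain ⟨r, hr⟩ : ∃ r, Nat.find hM_nil = r + 1 := ⟨Nat.find hM_nil - 1, by omega⟩
    have hr1 : 1 ≤ r := by omega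
    have hMr_ne : M ^ r ≠ ⊥ := Nat.find_min hM_nil (by omega)
    obtain ⟨s, hsM, hs0⟩ := Submodule.exists_mem_ne_zero_of_ne_bot hMr_ne
    have hMs : ∀ y ∈ M, y * s = 0 := by
      intro y hy
      have : y * s ∈ M ^ (r + 1) := by
        rw [pow_succ']
        exact Ideal.mul_mem_mul hy hsM
      rw [← hr, hn_spec] at this
      exact (Submodule.mem_bot A).mp this
    have hsMem : s ∈ M := Ideal.pow_le_self (by omega) hsM
    have hes : e * s = s := hMe s hsMem
    -- `a * s = χ a • s`
    have has : ∀ a : A, a * s = algebraMap k A (χ a) * s := by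
      intro a
      have h1 := hMs _ (hkeyM a)
      have h2 : a * s - algebraMap k A (χ a) * s = e * (a - algebraMap k A (χ a)) * s := by
        rw [mul_assoc, mul_comm (a - _) s, ← mul_assoc, hes]; ring
      rw [h1] at h2
      exact sub_eq_zero.mp h2
    -- an element of `M` outside `M ^ 2`
    obtain ⟨x₀, hx₀M, hx₀⟩ : ∃ x₀ ∈ M, x₀ ∉ M ^ 2 := by
      by_contra h
      push Not at h
      have hMM : M ^ 2 = M := le_antisymm (Ideal.pow_le_self (by norm_num)) h
      have hpow : ∀ j : ℕ, M ^ (j + 1) = M := by
        intro j
        induction j with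
        | zero => rw [zero_add, pow_one]
        | succ j ih => rw [pow_succ, ih, ← pow_two, hMM]
      apply hM_ne
      rw [← hpow r, ← hr, hn_spec]
    obtain ⟨lam, hlam, hlamM⟩ := Submodule.exists_dual_map_eq_bot_of_notMem
      (R := k) (M := A) (p := (M ^ 2).restrictScalars k) (x := x₀)
      (fun h => hx₀ ((Submodule.restrictScalars_mem k (M ^ 2) x₀).mp h)) inferInstance
    have hlam0 : ∀ y ∈ M ^ 2, lam y = 0 := by
      intro y hy
      have : lam y ∈ ((M ^ 2).restrictScalars k).map lam := ⟨y, hy, rfl⟩
      rw [hlamM] at this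
      exact (Submodule.mem_bot k).mp this
    -- the tangent vector θ
    let θ : A →ₗ[k] k := lam ∘ₗ (LinearMap.mulLeft k e) ∘ₗ
      (LinearMap.id - (Algebra.linearMap k A) ∘ₗ χ.toLinearMap)
    have hθ : ∀ a : A, θ a = lam (e * (a - algebraMap k A (χ a))) := fun a => rfl
    have hθmul : ∀ a b : A, θ (a * b) = χ a * θ b + χ b * θ a := by
      intro a b
      rw [hθ, hθ, hθ]
      have h1 : e * (a * b - algebraMap k A (χ (a * b))) =
          (e * (a - algebraMap k A (χ a))) * (e * (b - algebraMap k A (χ b))) +
          (χ a • (e * (b - algebraMap k A (χ b))) + χ b • (e * (a - algebraMap k A (χ a)))) := by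
        rw [map_mul, map_mul, Algebra.smul_def, Algebra.smul_def]
        have : e * (a - algebraMap k A (χ a)) * (e * (b - algebraMap k A (χ b))) =
            (e * e) * ((a - algebraMap k A (χ a)) * (b - algebraMap k A (χ b))) := by ring
        rw [this, hee]
        ring
      rw [h1, map_add, map_add, map_smul, map_smul, smul_eq_mul, smul_eq_mul]
      have h2 : lam ((e * (a - algebraMap k A (χ a))) * (e * (b - algebraMap k A (χ b)))) = 0 := by
        apply hlam0
        rw [pow_two]
        exact Ideal.mul_mem_mul (hkeyM a) (hkeyM b)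
      rw [h2, zero_add]
    let D : Derivation k A A :=
      { toLinearMap := θ.smulRight s
        map_one_eq_zero' := by
          show θ 1 • s = 0
          rw [hθ, map_one, map_one, sub_self, mul_zero, map_zero, zero_smul]
        leibniz' := by
          intro a b
          show θ (a * b) • s = a • (θ b • s) + b • (θ a • s)
          rw [hθmul, smul_eq_mul, smul_eq_mul, mul_smul_comm, mul_smul_comm, has a, has b,
            ← Algebra.smul_def, ← Algebra.smul_def, add_smul, mul_smul, mul_smul,
            smul_comm (θ b) (χ a) s, smul_comm (θ a) (χ b) s] }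
    have hD0 : D x₀ = 0 := by
      have : D = 0 := Subsingleton.elim _ _
      rw [this]; rfl
    have hDx : D x₀ = θ x₀ • s := rfl
    have hθx : θ x₀ = lam x₀ := by
      rw [hθ, hMχ x₀ hx₀M, map_zero, sub_zero, hMe x₀ hx₀M]
    rw [hDx, hθx] at hD0
    rcases smul_eq_zero.mp hD0 with h | h
    · exact hlam h
    · exact hs0 h
  · intro hred
    have hzero : ∀ D : Derivation k A A, D = 0 := by
      intro D
      ext a
      rw [← sec_ev_of_isReduced k A a, sec_apply, map_sum]
      refine Finset.sum_eq_zero fun f _ => ?_
      rw [Derivation.map_smul, Groth.Agent.S17333.derivation_idem D (idem_isIdempotentElem k A f),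
        smul_zero]
    exact ⟨fun D D' => by rw [hzero D, hzero D']⟩

end Groth.Agent.S17321
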