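import Groth.Statements.S17323
-- import your own Groth.Agent.* helpers here
import Groth.Agent.Lib.FinAlgIdem

set_option autoImplicit false
universe u v
open CAlg

namespace Groth.Agent.S17323

open Groth.Agent.Lib.FinAlgIdem

/-- Let k be an algebraically closed field and A a commutative k-algebra which is finite-dimensional as
a k-vector space. Then A has a largest reduced subalgebra: a k-subalgebra B which is reduced and
contains every reduced k-subalgebra of A; moreover the composite of the inclusion B → A with the
projection A → A/nilradical(A) is bijective. -/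
theorem result (k : Type u) [Field k] [IsAlgClosed k]
    (A : Type v) [CommRing A] [Algebra k A] [Module.Finite k A] :
    ∃ B : Subalgebra k A, IsReduced ↥B ∧ (∀ C : Subalgebra k A, IsReduced ↥C → C ≤ B) ∧
      Function.Bijective ((Ideal.Quotient.mkₐ k (nilradical A)).comp B.val) := by
  classical
  have hfin := finite_points k A
  let _ := Fintype.ofFinite (A →ₐ[k] k)
  -- every idempotent of `A` lies in the range of `sec`
  have hidem : ∀ a : A, IsIdempotentElem a → a ∈ (sec k A).range := fun a ha =>
    ⟨ev k A a, sec_ev_of_isIdempotentElem k A ha⟩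
  have hnil : ∀ x ∈ (sec k A).range, IsNilpotent x → x = 0 := by
    rintro _ ⟨g, rfl⟩ hx
    have : g = 0 := by rw [← ev_sec k A g]; exact ev_eq_zero_of_isNilpotent hx
    rw [this, map_zero]
  refine ⟨(sec k A).range, ?_, ?_, ?_⟩
  · refine ⟨fun x hx => ?_⟩
    have h1 : IsNilpotent (x : A) := hx.map (sec k A).range.val
    exact Subtype.ext (hnil x.1 x.2 h1)
  · intro C hC x hx
    -- apply the theory to the reduced finite-dimensional algebra `C`
    have hfinC := finite_points k ↥C
    let _ := Fintype.ofFinite (↥C →ₐ[k] k)
    have h1 : sec k ↥C (ev k ↥C ⟨x, hx⟩) = ⟨x, hx⟩ := sec_ev_of_isReduced k ↥C ⟨x, hx⟩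
    have h2 : x = ∑ χ : ↥C →ₐ[k] k, (ev k ↥C ⟨x, hx⟩ χ) • ((idem k ↥C χ : ↥C) : A) := by
      have := congrArg (fun y : ↥C => (y : A)) h1
      simp only [sec_apply] at this
      refine this.symm.trans ?_
      simp
    rw [h2]
    refine Subalgebra.sum_mem _ fun χ _ => Subalgebra.smul_mem _ ?_ _
    apply hidem
    exact (idem_isIdempotentElem k ↥C χ).map C.val
  · constructor
    · intro x y hxy
      have h1 : (x : A) - (y : A) ∈ nilradical A := by
        rw [← Ideal.Quotient.eq]
        exact hxy
      have h2 := hnil _ ((sec k A).range.sub_mem x.2 y.2) (mem_nilradical.mp h1)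
      exact Subtype.ext (sub_eq_zero.mp h2)
    · intro y
      obtain ⟨a, rfl⟩ := Ideal.Quotient.mk_surjective y
      refine ⟨⟨sec k A (ev k A a), ⟨_, rfl⟩⟩, ?_⟩
      show Ideal.Quotient.mk (nilradical A) (sec k A (ev k A a)) = _
      rw [eq_comm, Ideal.Quotient.eq]
      exact mem_nilradical.mpr (isNilpotent_sub_sec_ev k A a)

end Groth.Agent.S17323
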