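import Groth.Statements.S17324
-- import your own Groth.Agent.* helpers here
import Mathlib.RingTheory.Artinian.Ring
import Mathlib.FieldTheory.IsAlgClosed.Basic
import Mathlib.RingTheory.LocalRing.MaximalIdeal.Basic

set_option autoImplicit false
universe u v
open CAlg

namespace Groth.Agent.S17324

/-- (i) ⟺ (ii): let k be an algebraically closed field, A a commutative k-algebra which is
finite-dimensional as a k-vector space and is a local ring with maximal ideal m, and a_1, …, a_m ∈
m. Then A is generated as a k-algebra by a_1, …, a_m if and only if m is generated as an ideal by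
a_1, …, a_m. (The printed lemma has a third equivalent condition, that the images of the a_i span
m/m²; its equivalence with (ii) is Nakayama's lemma.) -/
theorem result (k : Type u) [Field k] [IsAlgClosed k]
    (A : Type v) [CommRing A] [Algebra k A] [Module.Finite k A] [IsLocalRing A]
    (m : ℕ) (a : Fin m → A) (ha : ∀ i, a i ∈ IsLocalRing.maximalIdeal A) :
    Algebra.adjoin k (Set.range a) = ⊤ ↔ Ideal.span (Set.range a) = IsLocalRing.maximalIdeal A := by
  have hArt : IsArtinianRing A := IsArtinianRing.of_finite k A
  -- residue field is `k`: every element is a scalar modulo the maximal ideal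
  have hres : ∀ x : A, ∃ c : k, x - algebraMap k A c ∈ IsLocalRing.maximalIdeal A := by
    intro x
    have : Algebra.IsIntegral k (A ⧸ IsLocalRing.maximalIdeal A) :=
      Algebra.IsIntegral.of_finite k _
    have hbij : Function.Bijective (algebraMap k (A ⧸ IsLocalRing.maximalIdeal A)) :=
      IsAlgClosed.algebraMap_bijective_of_isIntegral
    obtain ⟨c, hc⟩ := hbij.2 (Ideal.Quotient.mk _ x)
    refine ⟨c, ?_⟩
    rw [← Ideal.Quotient.eq_zero_iff_mem, map_sub, ← hc, sub_eq_zero]
    rfl
  constructor
  · intro hadj
    apply le_antisymm
    · rw [Ideal.span_le]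
      rintro _ ⟨i, rfl⟩
      exact ha i
    · intro x hx
      have key : ∀ y ∈ Algebra.adjoin k (Set.range a),
          ∃ c : k, y - algebraMap k A c ∈ Ideal.span (Set.range a) := by
        intro y hy
        induction hy using Algebra.adjoin_induction with
        | mem y hy => exact ⟨0, by rw [map_zero, sub_zero]; exact Ideal.subset_span hy⟩
        | algebraMap r => exact ⟨r, by rw [sub_self]; exact Ideal.zero_mem _⟩
        | add y z _ _ hy hz =>
          obtain ⟨c, hc⟩ := hy
          obtain ⟨d, hd⟩ := hz
          refine ⟨c + d, ?_⟩
          have : y + z - algebraMap k A (c + d) =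
              (y - algebraMap k A c) + (z - algebraMap k A d) := by rw [map_add]; ring
          rw [this]
          exact Ideal.add_mem _ hc hd
        | mul y z _ _ hy hz =>
          obtain ⟨c, hc⟩ := hy
          obtain ⟨d, hd⟩ := hz
          refine ⟨c * d, ?_⟩
          have : y * z - algebraMap k A (c * d) =
              (y - algebraMap k A c) * z + algebraMap k A c * (z - algebraMap k A d) := by
            rw [map_mul]; ring
          rw [this]
          exact Ideal.add_mem _ (Ideal.mul_mem_right _ _ hc) (Ideal.mul_mem_left _ _ hd)
      obtain ⟨c, hc⟩ := key x (hadj ▸ Algebra.mem_top)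
      have hle : Ideal.span (Set.range a) ≤ IsLocalRing.maximalIdeal A := by
        rw [Ideal.span_le]
        rintro _ ⟨i, rfl⟩
        exact ha i
      have hcm : algebraMap k A c ∈ IsLocalRing.maximalIdeal A := by
        have := Ideal.sub_mem _ hx (hle hc)
        simpa using this
      have hc0 : c = 0 := by
        by_contra hne
        exact (IsLocalRing.mem_maximalIdeal _).mp hcm ((IsUnit.mk0 c hne).map (algebraMap k A))
      rw [hc0, map_zero, sub_zero] at hc
      exact hc
  · intro hspan
    -- Q(1)
    have hQ1 : ∀ u ∈ IsLocalRing.maximalIdeal A, ∃ b ∈ Algebra.adjoin k (Set.range a),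
        b ∈ IsLocalRing.maximalIdeal A ∧ u - b ∈ IsLocalRing.maximalIdeal A ^ 2 := by
      intro u hu
      rw [← hspan] at hu
      induction hu using Submodule.span_induction with
      | mem u hu =>
        refine ⟨u, Algebra.subset_adjoin hu, ?_, by rw [sub_self]; exact Ideal.zero_mem _⟩
        obtain ⟨i, rfl⟩ := hu
        exact ha i
      | zero => exact ⟨0, Subalgebra.zero_mem _, Ideal.zero_mem _, by simp⟩
      | add u v _ _ hu hv =>
        obtain ⟨b, hb, hbm, hub⟩ := hu
        obtain ⟨b', hb', hbm', hub'⟩ := hv
        refine ⟨b + b', Subalgebra.add_mem _ hb hb', Ideal.add_mem _ hbm hbm', ?_⟩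
        have : u + v - (b + b') = (u - b) + (v - b') := by ring
        rw [this]
        exact Ideal.add_mem _ hub hub'
      | smul r u hu' hu =>
        obtain ⟨b, hb, hbm, hub⟩ := hu
        obtain ⟨c, hc⟩ := hres r
        have hum : u ∈ IsLocalRing.maximalIdeal A := by rw [← hspan]; exact hu'
        refine ⟨algebraMap k A c * b, Subalgebra.mul_mem _ (Subalgebra.algebraMap_mem _ c) hb,
          Ideal.mul_mem_left _ _ hbm, ?_⟩
        have : r • u - algebraMap k A c * b =
            algebraMap k A c * (u - b) + (r - algebraMap k A c) * u := by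
          rw [smul_eq_mul]; ring
        rw [this]
        refine Ideal.add_mem _ (Ideal.mul_mem_left _ _ hub) ?_
        rw [pow_two]
        exact Ideal.mul_mem_mul hc hum
    -- Q(n)
    have hQ : ∀ n : ℕ, ∀ y ∈ IsLocalRing.maximalIdeal A ^ n,
        ∃ b ∈ Algebra.adjoin k (Set.range a),
          b ∈ IsLocalRing.maximalIdeal A ^ n ∧ y - b ∈ IsLocalRing.maximalIdeal A ^ (n + 1) := by
      intro n
      induction n with
      | zero =>
        intro y _
        obtain ⟨c, hc⟩ := hres y
        refine ⟨algebraMap k A c, Subalgebra.algebraMap_mem _ c, by simp, by simpa using hc⟩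
      | succ n ih =>
        intro y hy
        rw [pow_succ'] at hy
        refine Submodule.mul_induction_on hy ?_ ?_
        · intro u hu v hv
          obtain ⟨bu, hbu, hbum, hubu⟩ := hQ1 u hu
          obtain ⟨bv, hbv, hbvm, hvbv⟩ := ih v hv
          refine ⟨bu * bv, Subalgebra.mul_mem _ hbu hbv, ?_, ?_⟩
          · rw [pow_succ']
            exact Ideal.mul_mem_mul hbum hbvm
          · have : u * v - bu * bv = u * (v - bv) + (u - bu) * bv := by ring
            rw [this]
            refine Ideal.add_mem _ ?_ ?_
            · rw [pow_succ' _ (n + 1)]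
              exact Ideal.mul_mem_mul hu hvbv
            · have : IsLocalRing.maximalIdeal A ^ (n + 1 + 1) =
                  IsLocalRing.maximalIdeal A ^ 2 * IsLocalRing.maximalIdeal A ^ n := by
                rw [← pow_add]; congr 1; omega
              rw [this]
              exact Ideal.mul_mem_mul hubu hbvm
        · intro y z hy hz
          obtain ⟨b, hb, hbm, hyb⟩ := hy
          obtain ⟨b', hb', hbm', hzb⟩ := hz
          refine ⟨b + b', Subalgebra.add_mem _ hb hb', ?_, ?_⟩
          · rw [pow_succ']
            exact Ideal.add_mem _ (by rwa [pow_succ'] at hbm) (by rwa [pow_succ'] at hbm')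
          · have : y + z - (b + b') = (y - b) + (z - b') := by ring
            rw [this]
            exact Ideal.add_mem _ hyb hzb
    -- approximation
    have happrox : ∀ n : ℕ, ∀ x : A, ∃ b ∈ Algebra.adjoin k (Set.range a),
        x - b ∈ IsLocalRing.maximalIdeal A ^ n := by
      intro n
      induction n with
      | zero => intro x; exact ⟨0, Subalgebra.zero_mem _, by simp⟩
      | succ n ih =>
        intro x
        obtain ⟨b, hb, hxb⟩ := ih x
        obtain ⟨b', hb', -, hb''⟩ := hQ n _ hxb
        refine ⟨b + b', Subalgebra.add_mem _ hb hb', ?_⟩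
        have : x - (b + b') = x - b - b' := by ring
        rw [this]
        exact hb''
    -- nilpotency
    have hnil : IsNilpotent (IsLocalRing.maximalIdeal A) := by
      have h1 := IsArtinianRing.isNilpotent_jacobson_bot (R := A)
      rwa [IsLocalRing.jacobson_eq_maximalIdeal ⊥ bot_ne_top] at h1
    obtain ⟨N, hN⟩ := hnil
    rw [eq_top_iff]
    intro x _
    obtain ⟨b, hb, hxb⟩ := happrox N x
    rw [hN] at hxb
    have : x = b := by
      have := (Submodule.mem_bot A).mp hxb
      exact sub_eq_zero.mp this
    rw [this]
    exact hb

end Groth.Agent.S17324
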