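import Mathlib
import Groth.Agent.Lib.QLinear27
import Groth.Statements.S17325

set_option autoImplicit false
universe u v
open LieAlg

namespace Groth.Agent.S17325

section Helpers

theorem commute_of_mem_adjoin {k : Type u} [Field k] {E : Type v} [Ring E] [Algebra k E] (u₀ : E)
    {a b : E} (ha : a ∈ Algebra.adjoin k {u₀}) (hb : b ∈ Algebra.adjoin k {u₀}) : Commute a b := by
  have h1 : Commute u₀ a := Algebra.commute_of_mem_adjoin_self ha
  exact Algebra.commute_of_mem_adjoin_singleton_of_commute hb h1.symm

end Helpers

/-- Let k be an algebraically closed field of characteristic p > 0, V a finite-dimensional k-vector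
space and g a nonzero k-linear subspace of End_k(V) closed under the p-th power map u ↦ u^p. Then g
contains a nonzero u with u^p = c u for some c ∈ k, i.e. a line k u closed under p-th powers. (The
published lemma concerns an abstract nonzero finite-dimensional restricted Lie algebra; this row
concerns subspaces of End_k(V) closed under p-th powers, a class that contains every restricted Lie
subalgebra of gl(V).) -/
theorem result (k : Type u) [Field k] [IsAlgClosed k]
    (p : ℕ) [Fact p.Prime] [CharP k p] (V : Type v) [AddCommGroup V] [Module k V] [FiniteDimensional k V]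
    (g : Submodule k (Module.End k V)) (hg : ∀ u ∈ g, u ^ p ∈ g) (hne : g ≠ ⊥) :
    ∃ u ∈ g, u ≠ 0 ∧ ∃ c : k, u ^ p = c • u := by
  classical
  obtain ⟨u₀, hu₀g, hu₀⟩ := (Submodule.ne_bot_iff g).mp hne
  have hpow_mem : ∀ n : ℕ, u₀ ^ (p ^ n) ∈ g := by
    intro n
    induction n with
    | zero => simpa using hu₀g
    | succ n ih =>
      rw [pow_succ, pow_mul]
      exact hg _ ih
  by_cases hnil : ∃ n : ℕ, u₀ ^ (p ^ n) = 0
  · -- nilpotent case
    set n := Nat.find hnil with hn
    have hn0 : u₀ ^ (p ^ n) = 0 := Nat.find_spec hnil
    have hnpos : n ≠ 0 := by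
      intro h0
      rw [h0, pow_zero, pow_one] at hn0
      exact hu₀ hn0
    obtain ⟨n', hn'⟩ : ∃ n', n = n' + 1 := ⟨n - 1, by omega⟩
    have hmin : u₀ ^ (p ^ n') ≠ 0 := Nat.find_min hnil (by omega : n' < n)
    refine ⟨u₀ ^ (p ^ n'), hpow_mem n', hmin, 0, ?_⟩
    rw [zero_smul, ← pow_mul, ← pow_succ, ← hn', hn0]
  · push Not at hnil
    have : Nontrivial (Module.End k V) := nontrivial_of_ne u₀ 0 hu₀
    have : CharP (Module.End k V) p :=
      charP_of_injective_algebraMap (algebraMap k (Module.End k V)).injective p
    set A := Algebra.adjoin k {u₀} with hA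
    let φ : A →+ A :=
      { toFun := fun a => ⟨(a : Module.End k V) ^ p, A.pow_mem a.2 p⟩
        map_zero' := by
          ext1
          change (0 : Module.End k V) ^ p = 0
          exact zero_pow (Fact.out : p.Prime).ne_zero
        map_add' := fun a b => by
          ext1
          change ((a : Module.End k V) + b) ^ p = (a : Module.End k V) ^ p + (b : Module.End k V) ^ p
          exact add_pow_char_of_commute _ (commute_of_mem_adjoin u₀ a.2 b.2) }
    have hφ : ∀ (c : k) (a : A), φ (c • a) = c ^ (p ^ 1) • φ a := by
      intro c a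
      ext1
      change (c • (a : Module.End k V)) ^ p = c ^ (p ^ 1) • (a : Module.End k V) ^ p
      rw [smul_pow, pow_one]
    let t : A := ⟨u₀, Algebra.self_mem_adjoin_singleton k u₀⟩
    have hiter : ∀ n : ℕ, (((⇑φ)^[n] t : A) : Module.End k V) = u₀ ^ (p ^ n) := by
      intro n
      induction n with
      | zero => simp [t]
      | succ n ih =>
        rw [Function.iterate_succ_apply']
        change (((⇑φ)^[n] t : A) : Module.End k V) ^ p = _
        rw [ih, ← pow_mul, ← pow_succ]
    have ht : ∀ n : ℕ, (⇑φ)^[n] t ≠ 0 := by
      intro n h0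
      apply hnil n
      rw [← hiter n, h0]
      rfl
    have : IsSepClosed k := inferInstance
    obtain ⟨u, hu_span, hu0, hufix⟩ :=
      Groth.Agent.Lib.QLinear27.exists_fixed_ne_zero k p 1 Nat.one_pos A φ hφ t ht
    refine ⟨(u : Module.End k V), ?_, ?_, 1, ?_⟩
    · -- membership in g
      have hle : Submodule.span k (Set.range fun n : ℕ => (⇑φ)^[n] t) ≤
          Submodule.comap (Subalgebra.toSubmodule A).subtype g := by
        rw [Submodule.span_le]
        rintro _ ⟨n, rfl⟩
        change (((⇑φ)^[n] t : A) : Module.End k V) ∈ g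
        rw [hiter n]
        exact hpow_mem n
      exact hle hu_span
    · intro h0
      exact hu0 (Subtype.ext h0)
    · have := congrArg Subtype.val hufix
      rw [one_smul]
      exact this

end Groth.Agent.S17325
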