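import Groth.Statements.S17335
-- import your own Groth.Agent.* helpers here
import Mathlib.LinearAlgebra.Dual.Lemmas
import Mathlib.LinearAlgebra.FreeModule.Finite.Matrix
import Mathlib.FieldTheory.IsAlgClosed.Basic
import Mathlib.Algebra.BigOperators.Pi

set_option autoImplicit false
universe u v
open CAlg

namespace Groth.Agent.S17335

/-- For a prime `p` of a finite-dimensional algebra over an algebraically closed field there is an
algebra homomorphism to `k` with kernel `p`. -/
theorem exists_algHom_ker_eq (k : Type u) [Field k] [IsAlgClosed k] (A : Type v) [CommRing A]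
    [Algebra k A] [Module.Finite k A] (p : Ideal A) [hp : p.IsPrime] :
    ∃ f : A →ₐ[k] k, RingHom.ker f.toRingHom = p := by
  have : Algebra.IsIntegral k (A ⧸ p) := Algebra.IsIntegral.of_finite k (A ⧸ p)
  have hbij : Function.Bijective (algebraMap k (A ⧸ p)) :=
    IsAlgClosed.algebraMap_bijective_of_isIntegral
  let e : k ≃ₐ[k] (A ⧸ p) := AlgEquiv.ofBijective (Algebra.ofId k (A ⧸ p)) hbij
  refine ⟨(e.symm : (A ⧸ p) →ₐ[k] k).comp (Ideal.Quotient.mkₐ k p), ?_⟩
  ext a
  rw [RingHom.mem_ker]
  show e.symm (Ideal.Quotient.mk p a) = 0 ↔ a ∈ p
  rw [EmbeddingLike.map_eq_zero_iff, Ideal.Quotient.eq_zero_iff_mem]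

/-- Let k be an algebraically closed field and A a commutative k-algebra which is finite-dimensional as
a k-vector space, and let E be the set of k-algebra homomorphisms A → k. Then E is finite, and the
evaluation homomorphism A → O(E) = (E → k), a ↦ (f ↦ f(a)), is surjective with kernel the nilradical
of A; it therefore induces an isomorphism of A_red = A/nilradical(A) onto O(E). -/
theorem result (k : Type u) [Field k]
    [IsAlgClosed k] (A : Type v) [CommRing A] [Algebra k A] [Module.Finite k A] :
    Finite (A →ₐ[k] k) ∧
      Function.Surjective (AlgHom.pi (R := k) (fun f : A →ₐ[k] k => f)) ∧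
      RingHom.ker (AlgHom.pi (R := k) (fun f : A →ₐ[k] k => f)) = nilradical A := by
  classical
  have hfin : Finite (A →ₐ[k] k) := inferInstance
  refine ⟨hfin, ?_, ?_⟩
  · -- surjectivity via linear independence of characters
    cases nonempty_fintype (A →ₐ[k] k)
    have hsurj : Function.Surjective
        (AlgHom.pi (R := k) (fun f : A →ₐ[k] k => f)).toLinearMap := by
      rw [← LinearMap.dualMap_injective_iff]
      rw [← LinearMap.ker_eq_bot, LinearMap.ker_eq_bot']
      intro ψ hψ
      have hli := linearIndependent_algHom_toLinearMap k A k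
      rw [Fintype.linearIndependent_iff] at hli
      have hzero : ∑ f : A →ₐ[k] k, ψ (Pi.single f (1 : k)) • f.toLinearMap = 0 := by
        refine LinearMap.ext fun a => ?_
        have h1 := LinearMap.congr_fun hψ a
        rw [LinearMap.dualMap_apply] at h1
        have h2 : (AlgHom.pi (R := k) (fun f : A →ₐ[k] k => f)).toLinearMap a =
            ∑ f : A →ₐ[k] k, f a • (Pi.single f (1 : k) : (A →ₐ[k] k) → k) := by
          exact pi_eq_sum_univ' (fun f : A →ₐ[k] k => f a)
        rw [h2, map_sum] at h1
        simp only [map_smul, smul_eq_mul, LinearMap.zero_apply] at h1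
        rw [LinearMap.sum_apply]
        simp only [LinearMap.smul_apply, AlgHom.toLinearMap_apply, smul_eq_mul,
          LinearMap.zero_apply]
        rw [← h1]
        exact Finset.sum_congr rfl fun f _ => mul_comm _ _
      have hc := hli _ hzero
      refine LinearMap.ext fun x => ?_
      rw [pi_eq_sum_univ' x, map_sum]
      simp only [map_smul, LinearMap.zero_apply]
      exact Finset.sum_eq_zero fun f _ => by rw [hc f, smul_zero]
    exact hsurj
  · ext a
    rw [RingHom.mem_ker]
    constructor
    · intro ha
      rw [nilradical_eq_sInf, Ideal.mem_sInf]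
      intro p hp
      have hpp : p.IsPrime := hp
      obtain ⟨f, hf⟩ := exists_algHom_ker_eq k A p
      rw [← hf, RingHom.mem_ker]
      exact congrFun ha f
    · intro ha
      ext f
      have hnil : IsNilpotent (f a) := (mem_nilradical.mp ha).map f
      exact hnil.eq_zero

end Groth.Agent.S17335
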