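import Groth.Statements.S17326
-- import your own Groth.Agent.* helpers here
import Groth.Agent.S17335
import Mathlib.Algebra.CharP.Reduced
import Mathlib.Algebra.CharP.Algebra

set_option autoImplicit false
universe u v
open CAlg

namespace Groth.Agent.S17326

/-- Let k be an algebraically closed field of characteristic p > 0, A a commutative k-algebra which is
finite-dimensional as a k-vector space (a finite k-scheme X), and n ≥ 1. The n-th iterated relative
Frobenius morphism X → X^(p^n) is an isomorphism if and only if X is reduced; on rings: the map a ↦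
a^(p^n) of A to itself (which is the ring homomorphism underlying the relative Frobenius, the twist
A^(p^n) having the same underlying ring as A) is bijective if and only if A is reduced. -/
theorem result (k : Type u) [Field k] [IsAlgClosed k]
    (p : ℕ) [Fact p.Prime] [CharP k p] (A : Type v) [CommRing A] [Algebra k A] [Module.Finite k A]
    (n : ℕ) (hn : 1 ≤ n) :
    Function.Bijective (fun a : A => a ^ p ^ n) ↔ IsReduced A := by
  constructor
  · intro hbij
    refine ⟨fun x hx => ?_⟩
    obtain ⟨m, hm⟩ := hx
    have hinjN : ∀ N : ℕ, Function.Injective (fun a : A => a ^ (p ^ n) ^ N) := by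
      intro N
      induction N with
      | zero =>
        intro a b hab
        simpa using hab
      | succ N ih =>
        intro a b hab
        apply ih
        apply hbij.1
        have hstep : ∀ c : A, (c ^ (p ^ n) ^ N) ^ p ^ n = c ^ (p ^ n) ^ (N + 1) := by
          intro c
          rw [pow_succ (p ^ n) N, pow_mul]
        show (a ^ (p ^ n) ^ N) ^ p ^ n = (b ^ (p ^ n) ^ N) ^ p ^ n
        rw [hstep a, hstep b]
        exact hab
    apply hinjN m
    show x ^ (p ^ n) ^ m = 0 ^ (p ^ n) ^ m
    have hp2 : 2 ≤ p ^ n := by
      calc 2 ≤ p := (Fact.out : p.Prime).two_le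
        _ = p ^ 1 := (pow_one p).symm
        _ ≤ p ^ n := Nat.pow_le_pow_right (Fact.out : p.Prime).pos hn
    have hle : m ≤ (p ^ n) ^ m := le_of_lt (Nat.lt_pow_self hp2)
    rw [zero_pow (by positivity)]
    exact pow_eq_zero_of_le hle hm
  · intro hred
    rcases subsingleton_or_nontrivial A with hsub | hnt
    · exact ⟨fun a b _ => Subsingleton.elim a b, fun a => ⟨a, Subsingleton.elim _ _⟩⟩
    · have hchar : CharP A p := charP_of_injective_algebraMap (algebraMap k A).injective p
      have hexp : ExpChar A p := ExpChar.prime (Fact.out : p.Prime)
      obtain ⟨-, hsurj, hker⟩ := Groth.Agent.S17335.result k A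
      have hinj : Function.Injective (AlgHom.pi (R := k) (fun f : A →ₐ[k] k => f)) := by
        rw [← AlgHom.coe_toRingHom, RingHom.injective_iff_ker_eq_bot]
        change RingHom.ker (AlgHom.pi (R := k) (fun f : A →ₐ[k] k => f)) = ⊥
        rw [hker]
        exact nilradical_eq_zero A
      refine ⟨?_, ?_⟩
      · have := iterateFrobenius_inj A p n
        intro a b hab
        apply this
        rw [iterateFrobenius_def, iterateFrobenius_def]
        exact hab
      · intro a
        have hpos : 0 < p ^ n := pow_pos (Fact.out : p.Prime).pos n
        choose h hh using fun f : A →ₐ[k] k => IsAlgClosed.exists_pow_nat_eq (f a) hpos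
        obtain ⟨b, hb⟩ := hsurj h
        refine ⟨b, ?_⟩
        apply hinj
        show AlgHom.pi (R := k) (fun f : A →ₐ[k] k => f) (b ^ p ^ n) = _
        rw [map_pow, hb]
        ext f
        exact hh f

end Groth.Agent.S17326
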