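import Groth.Statements.S17327
import Groth.Agent.Lib.HopfMaurerCartan41
import Groth.Agent.Lib.FinEtaleHopf41
import Mathlib.RingTheory.Unramified.Field

set_option autoImplicit false
universe u v
open Hopf

namespace Groth.Agent.S17327

open Groth.Agent.Lib.FinEtaleHopf41

/-- Let k be an algebraically closed field of characteristic p > 0, A a commutative Hopf algebra over k
which is finite-dimensional as a k-vector space (a finite group scheme G = Spec A), I the
augmentation ideal (kernel of the counit) and n ≥ 1. The n-th Frobenius kernel G_n is the closed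
subgroup scheme cut out by the ideal generated by the p^n-th powers f^(p^n), f ∈ I; it is trivial,
i.e. that ideal equals I, if and only if G is reduced. -/
theorem result (k : Type u) [Field k] [IsAlgClosed k]
    (p : ℕ) [Fact p.Prime] [CharP k p] (A : Type v) [CommRing A] [HopfAlgebra k A] [Module.Finite k A]
    (n : ℕ) (hn : 1 ≤ n) :
    Ideal.span ((fun f : A => f ^ p ^ n) '' (RingHom.ker (Bialgebra.counitAlgHom k A) : Set A)) =
      RingHom.ker (Bialgebra.counitAlgHom k A) ↔ IsReduced A := by
  set I := RingHom.ker (Bialgebra.counitAlgHom k A) with hI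
  have hq : 2 ≤ p ^ n := by
    have hp : 2 ≤ p := (Fact.out : p.Prime).two_le
    calc 2 ≤ p := hp
      _ = p ^ 1 := (pow_one p).symm
      _ ≤ p ^ n := Nat.pow_le_pow_right (by omega) hn
  have hle : Ideal.span ((fun f : A => f ^ p ^ n) '' (I : Set A)) ≤ I ^ 2 := by
    rw [Ideal.span_le]
    rintro _ ⟨f, hf, rfl⟩
    exact Ideal.pow_le_pow_right hq (Ideal.pow_mem_pow hf _)
  constructor
  · intro h
    have hsq : I ^ 2 = I := by
      refine le_antisymm (Ideal.pow_le_self two_ne_zero) ?_
      calc I = Ideal.span ((fun f : A => f ^ p ^ n) '' (I : Set A)) := h.symm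
        _ ≤ I ^ 2 := hle
    have hU : Algebra.FormallyUnramified k A :=
      Groth.Agent.Lib.HopfMaurerCartan41.formallyUnramified_of_augIdeal_sq_eq hsq
    exact Algebra.FormallyUnramified.isReduced_of_field k A
  · intro hred
    refine le_antisymm (hle.trans (Ideal.pow_le_self two_ne_zero)) ?_
    intro a ha
    -- a = b ^ (p^n) with b in I
    have hroot : ∀ c : k, ∃ d : k, d ^ (p ^ n) = c := fun c =>
      IsAlgClosed.exists_pow_nat_eq c (by positivity)
    choose r hr using hroot
    obtain ⟨b, hb⟩ := evPts_surjective k A (fun χ => r (χ a))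
    have hba : b ^ (p ^ n) = a := by
      apply evPts_injective k A
      ext χ
      rw [map_pow, Pi.pow_apply, hb, hr, evPts_apply]
    have hbI : b ∈ I := by
      rw [hI, RingHom.mem_ker]
      have h1 : (Bialgebra.counitAlgHom k A b) ^ (p ^ n) = 0 := by
        rw [← map_pow, hba]
        exact ha
      exact pow_eq_zero_iff (by positivity) |>.1 h1
    rw [← hba]
    exact Ideal.subset_span ⟨b, hbI, rfl⟩

end Groth.Agent.S17327
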