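import Groth.Statements.S1733
-- import your own Groth.Agent.* helpers here

set_option autoImplicit false
universe u
open LocCoh

namespace Groth.Agent.S1733

/-- Let f_1, …, f_r and g be elements of a ring (r ≥ 1). If the family f_1, …, f_{r-1}, f_r g is
independent (every linear relation has coefficients in the ideal the family generates), then f_1, …,
f_r is independent. -/
theorem result (A : Type u) [CommRing A] (r : ℕ) (f : Fin (r + 1) → A) (g : A) (h : Dual2.Independent (Function.update f (Fin.last r) (f (Fin.last r) * g))) : Dual2.Independent f := by
  intro a ha
  have hJ : Ideal.span (Set.range (Function.update f (Fin.last r) (f (Fin.last r) * g))) ≤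
      Ideal.span (Set.range f) := by
    rw [Ideal.span_le]
    rintro _ ⟨i, rfl⟩
    by_cases hi : i = Fin.last r
    · subst hi
      simp only [Function.update_self]
      exact Ideal.mul_mem_right _ _ (Ideal.subset_span ⟨_, rfl⟩)
    · simp only [Function.update_of_ne hi]
      exact Ideal.subset_span ⟨i, rfl⟩
  -- step 1
  have h1 : a (Fin.last r) ∈
      Ideal.span (Set.range (Function.update f (Fin.last r) (f (Fin.last r) * g))) := by
    have key := h (Function.update (fun i => a i * g) (Fin.last r) (a (Fin.last r))) ?_ (Fin.last r)
    · simpa using key
    · have : ∀ i, Function.update (fun i => a i * g) (Fin.last r) (a (Fin.last r)) i *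
          Function.update f (Fin.last r) (f (Fin.last r) * g) i = (a i * f i) * g := by
        intro i
        by_cases hi : i = Fin.last r
        · subst hi
          simp only [Function.update_self]
          ring
        · simp only [Function.update_of_ne hi]
          ring
      simp_rw [this, ← Finset.sum_mul, ha, zero_mul]
  obtain ⟨b, hb⟩ := Ideal.mem_span_range_iff_exists_fun.1 h1
  -- step 2
  have h2 := h (fun i => if i = Fin.last r then b (Fin.last r) * f (Fin.last r)
      else a i + b i * f (Fin.last r)) ?_
  · intro i
    by_cases hi : i = Fin.last r
    · subst hi
      exact hJ h1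
    · have h3 := hJ (h2 i)
      simp only [if_neg hi] at h3
      have h4 : b i * f (Fin.last r) ∈ Ideal.span (Set.range f) :=
        Ideal.mul_mem_left _ _ (Ideal.subset_span ⟨_, rfl⟩)
      have := Ideal.sub_mem _ h3 h4
      simpa using this
  · have : ∀ i, (if i = Fin.last r then b (Fin.last r) * f (Fin.last r)
        else a i + b i * f (Fin.last r)) *
          Function.update f (Fin.last r) (f (Fin.last r) * g) i =
        (a i * f i - (if i = Fin.last r then a (Fin.last r) * f (Fin.last r) else 0)) +
          f (Fin.last r) * (b i * Function.update f (Fin.last r) (f (Fin.last r) * g) i) := by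
      intro i
      by_cases hi : i = Fin.last r
      · subst hi
        simp only [if_true, Function.update_self]
        ring
      · simp only [if_neg hi, Function.update_of_ne hi]
        ring
    simp_rw [this]
    rw [Finset.sum_add_distrib, Finset.sum_sub_distrib, ← Finset.mul_sum, hb, ha]
    simp
    ring

end Groth.Agent.S1733
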