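import Groth.Statements.S17331
import Groth.Agent.Lib.HopfPrimeClass41
import Groth.Agent.Lib.CartDualEtale41

set_option autoImplicit false
universe u v
open Hopf

namespace Groth.Agent.S17331

open Groth.Agent.Lib.HopfPrimeClass41

/-- Let k be an algebraically closed field of characteristic p > 0, ℓ a prime, and A a commutative Hopf
algebra over k of dimension ℓ as a k-vector space (a finite group scheme G of prime order ℓ). If ℓ ≠
p then G ≅ ℤ/ℓ: A is isomorphic as a bialgebra to the algebra of k-valued functions on the cyclic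
group of order ℓ. If ℓ = p then G is isomorphic to ℤ/p, μ_p or α_p: A is isomorphic as a bialgebra
to the algebra of functions on the cyclic group of order p, to its group algebra (group elements
group-like), or to k[X]/(X^p) with X primitive. -/
theorem result (k : Type u) [Field k] [IsAlgClosed k]
    (p : ℕ) [Fact p.Prime] [CharP k p] (A : Type v) [CommRing A] [HopfAlgebra k A]
    (ℓ : ℕ) [Fact ℓ.Prime] (hA : Module.finrank k A = ℓ) :
    (ℓ ≠ p → Nonempty (A ≃ₐc[k] ConstGrp.F k (Multiplicative (ZMod ℓ)))) ∧
      (ℓ = p → Nonempty (A ≃ₐc[k] ConstGrp.F k (Multiplicative (ZMod p))) ∨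
        Nonempty (A ≃ₐc[k] MonoidAlgebra k (Multiplicative (ZMod p))) ∨
        Nonempty (A ≃ₐc[k] AlphaP.A p k)) := by
  classical
  have hℓ : ℓ.Prime := Fact.out
  have hfd : Module.Finite k A := Module.finite_of_finrank_pos (by rw [hA]; exact hℓ.pos)
  have hcocomm : Coalgebra.IsCocomm k A :=
    Groth.Agent.Lib.HopfPrimeOrder41.isCocomm_of_finrank_eq_prime k A ℓ hℓ hA
  rcases isReduced_or_nil_of_finrank_eq_prime k A p ℓ hℓ hA with hred | ⟨hℓp, hnil⟩
  · have hconst := nonempty_bialgEquiv_constGrp_of_finrank_eq_prime k A ℓ hA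
    refine ⟨fun _ => hconst, fun h => Or.inl ?_⟩
    subst h
    exact hconst
  · refine ⟨fun h => absurd hℓp h, fun _ => Or.inr ?_⟩
    subst hℓp
    have hfinD : Module.finrank k (CartDual.D k A) = ℓ := by
      rw [Groth.Agent.Lib.CartDualEtale41.finrank_D, hA]
    rcases isReduced_or_nil_of_finrank_eq_prime k (CartDual.D k A) ℓ ℓ hℓ hfinD with
      hDred | ⟨_, hDnil⟩
    · left
      exact nonempty_bialgEquiv_monoidAlgebra k A hDred ℓ hA
    · right
      have hDloc : IsLocalRing (CartDual.D k A) :=
        Groth.Agent.Lib.HopfInfinitesimal41.isLocalRing_of_nil hDnil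
      obtain ⟨x, hx0, hx⟩ := Groth.Agent.Lib.HopfSimple41.exists_primitive_of_isLocalRing_dual hDloc
        (by rw [hA]; exact hℓ.one_lt)
      exact nonempty_bialgEquiv_alphaP ℓ hA x hx0
        (hnil x (Groth.Agent.Lib.HopfSimple41.counit_primitive x hx)) hx

end Groth.Agent.S17331
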