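import Groth.Statements.S17332
-- import your own Groth.Agent.* helpers here
import Mathlib.Algebra.BigOperators.Pi
import Mathlib.Algebra.BigOperators.Group.Finset.Piecewise

set_option autoImplicit false
universe u v w
open CAlg

namespace Groth.Agent.S17332

/-- Let k be a field, E and F finite sets, and O(E), O(F) the k-algebras of k-valued functions with
pointwise operations. Then every k-algebra homomorphism u : O(F) → O(E) is pull-back along a unique
map φ : E → F, i.e. u(g) = g ∘ φ for all g. (In the source k is algebraically closed; the printed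
argument only uses that k is a field.) -/
theorem result (k : Type u) [Field k] (E : Type v) [Finite E]
    (F : Type w) [Finite F] (u : (F → k) →ₐ[k] (E → k)) :
    ∃! φ : E → F, ∀ g : F → k, u g = g ∘ φ := by
  classical
  cases nonempty_fintype F
  have key : ∀ χ : (F → k) →ₐ[k] k, ∃ f : F, ∀ g, χ g = g f := by
    intro χ
    have hsum : ∑ f, χ (Pi.single f (1 : k)) = 1 := by
      have h0 : ∑ f : F, Pi.single f (1 : k) = (1 : F → k) := by
        ext x
        simp [Finset.sum_apply, Pi.single_apply]
      rw [← map_sum, h0]
      exact map_one χ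
    obtain ⟨f, -, hf⟩ : ∃ f ∈ Finset.univ, χ (Pi.single f (1 : k)) ≠ 0 := by
      by_contra h
      push Not at h
      rw [Finset.sum_eq_zero h] at hsum
      exact zero_ne_one hsum
    have hf1 : χ (Pi.single f (1 : k)) = 1 := by
      have h2 : χ (Pi.single f (1 : k)) * χ (Pi.single f (1 : k)) = χ (Pi.single f (1 : k)) := by
        rw [← map_mul, ← Pi.single_mul, one_mul]
      exact (mul_eq_right₀ hf).mp h2
    refine ⟨f, fun g => ?_⟩
    have h3 : g * Pi.single f (1 : k) = g f • Pi.single f (1 : k) := by
      ext x
      by_cases hx : x = f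
      · subst hx; simp
      · simp [Pi.single_eq_of_ne hx]
    calc χ g = χ g * χ (Pi.single f (1 : k)) := by rw [hf1, mul_one]
      _ = χ (g * Pi.single f (1 : k)) := (map_mul _ _ _).symm
      _ = χ (g f • Pi.single f (1 : k)) := by rw [h3]
      _ = g f • χ (Pi.single f (1 : k)) := map_smul _ _ _
      _ = g f := by rw [hf1, smul_eq_mul, mul_one]
  choose φ hφ using fun e : E => key ((Pi.evalAlgHom k (fun _ : E => k) e).comp u)
  refine ⟨φ, ?_, ?_⟩
  · intro g
    ext e
    exact hφ e g
  · intro ψ hψ
    ext e
    have h1 : (u (Pi.single (φ e) (1 : k))) e = (Pi.single (φ e) (1 : k) : F → k) (ψ e) := by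
      have := congrFun (hψ (Pi.single (φ e) (1 : k))) e
      rwa [Function.comp_apply] at this
    have h2 : (u (Pi.single (φ e) (1 : k))) e = (Pi.single (φ e) (1 : k) : F → k) (φ e) :=
      hφ e (Pi.single (φ e) (1 : k))
    rw [h2, Pi.single_eq_same] at h1
    by_contra hne
    rw [Pi.single_eq_of_ne hne] at h1
    exact one_ne_zero h1

end Groth.Agent.S17332
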