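import Groth.Statements.S17334
-- import your own Groth.Agent.* helpers here
import Mathlib.RingTheory.Spectrum.Prime.Noetherian
import Mathlib.RingTheory.Artinian.Ring

set_option autoImplicit false
universe u v
open CAlg

namespace Groth.Agent.S17334

/-- Let k be a field and A a nonzero commutative k-algebra which is finite-dimensional as a k-vector
space. Then A is indecomposable (no decomposition as a product of two nonzero rings, i.e. no
idempotent other than 0 and 1) if and only if A is a local ring. (In the source k is algebraically
closed and the lemma adds that the maximal ideal is then the nilradical, is nilpotent, and has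
residue field k; the equivalence itself uses only that k is a field, and the zero algebra is
excluded here explicitly.) -/
theorem result (k : Type u) [Field k]
    (A : Type v) [CommRing A] [Algebra k A] [Module.Finite k A] [Nontrivial A] :
    (∀ e : A, IsIdempotentElem e → e = 0 ∨ e = 1) ↔ IsLocalRing A := by
  have hArt : IsArtinianRing A := IsArtinianRing.of_finite k A
  constructor
  · intro h
    obtain ⟨p, hp⟩ := Ideal.exists_maximal A
    have hpp : p.IsPrime := hp.isPrime
    obtain ⟨r, hrp, hr, hrq⟩ := IsArtinianRing.exists_not_mem_forall_mem_of_ne p
    have hr1 : r = 1 := by
      rcases h r hr with h0 | h1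
      · exact absurd (h0 ▸ p.zero_mem) hrp
      · exact h1
    subst hr1
    refine IsLocalRing.of_unique_max_ideal ⟨p, hp, fun q hq => ?_⟩
    by_contra hne
    exact hq.ne_top ((Ideal.eq_top_iff_one q).mpr (hrq q hq.isPrime hne))
  · intro hloc e he
    have h0 : e * (1 - e) = 0 := by
      have := he.eq
      linear_combination -this
    rcases IsLocalRing.isUnit_or_isUnit_one_sub_self e with hu | hu
    · right
      have h1 : 1 - e = 0 := by
        have := hu.mul_right_eq_zero.mp h0
        exact this
      linear_combination -h1
    · left
      exact hu.mul_left_eq_zero.mp h0

end Groth.Agent.S17334
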