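import Groth.Statements.S17336
-- import your own Groth.Agent.* helpers here
import Groth.Agent.Lib.FinAlgIdem

set_option autoImplicit false
universe u v
open CAlg

namespace Groth.Agent.S17336

open Groth.Agent.Lib.FinAlgIdem

/-- Let k be an algebraically closed field and A a commutative k-algebra which is finite-dimensional as
a k-vector space (a finite scheme X = Spec A with largest reduced subscheme X_red = Spec
(A/nilradical A) and immersion i : X_red → X). Then there is a unique morphism r : X → X_red with r
∘ i = id; on rings: the projection A → A/nilradical(A) admits exactly one section that is a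
k-algebra homomorphism. -/
theorem result (k : Type u) [Field k]
    [IsAlgClosed k] (A : Type v) [CommRing A] [Algebra k A] [Module.Finite k A] :
    ∃! s : (A ⧸ nilradical A) →ₐ[k] A,
      (Ideal.Quotient.mkₐ k (nilradical A)).comp s = AlgHom.id k (A ⧸ nilradical A) := by
  classical
  have hfin := finite_points k A
  let _ := Fintype.ofFinite (A →ₐ[k] k)
  have hker : ∀ a ∈ nilradical A, ev k A a = 0 := fun a ha =>
    ev_eq_zero_of_isNilpotent (mem_nilradical.mp ha)
  let evbar : (A ⧸ nilradical A) →ₐ[k] ((A →ₐ[k] k) → k) :=
    Ideal.Quotient.liftₐ (nilradical A) (ev k A) hker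
  have hevbar : ∀ a : A, evbar (Ideal.Quotient.mk (nilradical A) a) = ev k A a := fun a => rfl
  have hmk : ∀ a : A, Ideal.Quotient.mk (nilradical A) (sec k A (ev k A a)) =
      Ideal.Quotient.mk (nilradical A) a := by
    intro a
    rw [eq_comm, Ideal.Quotient.eq]
    exact mem_nilradical.mpr (isNilpotent_sub_sec_ev k A a)
  refine ⟨(sec k A).comp evbar, ?_, ?_⟩
  · apply Ideal.Quotient.algHom_ext
    ext a
    show Ideal.Quotient.mk (nilradical A) (sec k A (evbar (Ideal.Quotient.mk _ a))) = _
    rw [hevbar, hmk]
    rfl
  · intro s' hs'
    have hs'mk : ∀ x : A ⧸ nilradical A, Ideal.Quotient.mk (nilradical A) (s' x) = x := by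
      intro x
      exact congrArg (fun φ : (A ⧸ nilradical A) →ₐ[k] (A ⧸ nilradical A) => φ x) hs'
    -- `s'` agrees with the constructed section on the idempotents
    have hidem : ∀ f : A →ₐ[k] k,
        s' (Ideal.Quotient.mk (nilradical A) (idem k A f)) = idem k A f := by
      intro f
      have h1 : IsIdempotentElem (s' (Ideal.Quotient.mk (nilradical A) (idem k A f))) :=
        ((idem_isIdempotentElem k A f).map (Ideal.Quotient.mk (nilradical A))).map s'
      apply eq_of_isNilpotent_sub_of_isIdempotentElem h1 (idem_isIdempotentElem k A f)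
      rw [← mem_nilradical, ← Ideal.Quotient.eq]
      exact hs'mk _
    apply Ideal.Quotient.algHom_ext
    ext a
    show s' (Ideal.Quotient.mk _ a) = sec k A (evbar (Ideal.Quotient.mk _ a))
    rw [hevbar, ← hmk a, sec_apply, map_sum, map_sum]
    refine Finset.sum_congr rfl fun f _ => ?_
    have : Ideal.Quotient.mk (nilradical A) (ev k A a f • idem k A f) =
        ev k A a f • Ideal.Quotient.mk (nilradical A) (idem k A f) := by
      rw [Algebra.smul_def, map_mul, Algebra.smul_def]
      rfl
    rw [this, map_smul, hidem]

end Groth.Agent.S17336
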