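import Groth.Statements.S17337
import Groth.Agent.Lib.RestrEnv58

set_option autoImplicit false
universe u v
open PLie

namespace Groth.Agent.S17337

/-- Let k be a field of characteristic p > 0 and (L, x ↦ x^[p]) a finite-dimensional restricted Lie
algebra over k. Then L is isomorphic to a restricted Lie subalgebra of gl_n(k) for some n: there is
an injective k-linear map e : L → M_n(k) with e[x, y] = e(x)e(y) − e(y)e(x) and e(x^[p]) = e(x)^p
for all x, y. (The published statement takes k algebraically closed; this row takes any field of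
characteristic p.) -/
theorem result (k : Type u) [Field k] (p : ℕ) [Fact p.Prime] [CharP k p]
    (L : Type v) [LieRing L] [LieAlgebra k L] [Module.Finite k L] (φ : PLie.PMap k p L) :
    ∃ (n : ℕ) (e : L →ₗ[k] Matrix (Fin n) (Fin n) k), PLie.IsPSubOfAssoc φ e := by
  classical
  let b := Module.finBasis k L
  let B := (Groth.Agent.Lib.RestrEnv58.ruBasis b φ).reindex
    (Fintype.equivFin (Fin (Module.finrank k L) → Fin p))
  let F : Groth.Agent.Lib.RestrEnv58.RU b φ →ₐ[k] Matrix _ _ k :=
    (LinearMap.toMatrixAlgEquiv B : _ ≃ₐ[k] _).toAlgHom.comp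
      (Algebra.lmul k (Groth.Agent.Lib.RestrEnv58.RU b φ))
  have hF : Function.Injective F := by
    intro x y hxy
    have h1 : Algebra.lmul k (Groth.Agent.Lib.RestrEnv58.RU b φ) x =
        Algebra.lmul k (Groth.Agent.Lib.RestrEnv58.RU b φ) y :=
      (LinearMap.toMatrixAlgEquiv B).injective hxy
    have h2 := LinearMap.congr_fun h1 1
    simpa using h2
  refine ⟨_, F.toLinearMap ∘ₗ Groth.Agent.Lib.RestrEnv58.iotaR b φ, ?_, ?_, ?_⟩
  · intro x y hxy
    exact Groth.Agent.Lib.RestrEnv58.iotaR_injective b φ (hF hxy)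
  · intro x y
    show F (Groth.Agent.Lib.RestrEnv58.iotaR b φ ⁅x, y⁆) = _
    rw [Groth.Agent.Lib.RestrEnv58.iotaR_lie, map_sub, map_mul, map_mul]
    rfl
  · intro x
    show F (Groth.Agent.Lib.RestrEnv58.iotaR b φ (φ x)) = _
    rw [Groth.Agent.Lib.RestrEnv58.iotaR_pmap, map_pow]
    rfl

end Groth.Agent.S17337
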