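import Groth.Statements.S1734
-- import your own Groth.Agent.* helpers here

set_option autoImplicit false
universe u
open LocCoh

namespace Groth.Agent.S1734

theorem aux (A : Type u) [CommRing A] (r : ℕ) (f f' k : Fin (r + 1) → A) (l : Fin (r + 1)) (g : A)
    (hf' : f' = Function.update f l (f l * g)) (hk : k = Function.update f l g)
    (h : Dual2.Independent f') :
    Module.length A (A ⧸ Ideal.span (Set.range f')) =
      Module.length A (A ⧸ Ideal.span (Set.range f)) +
        Module.length A (A ⧸ Ideal.span (Set.range k)) := by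
  have hf'l : f' l = f l * g := by rw [hf']; simp
  have hkl : k l = g := by rw [hk]; simp
  have hf'ne : ∀ i, i ≠ l → f' i = f i := fun i hi => by rw [hf']; exact Function.update_of_ne hi _ _
  have hkne : ∀ i, i ≠ l → k i = f i := fun i hi => by rw [hk]; exact Function.update_of_ne hi _ _
  have hJ'J : Ideal.span (Set.range f') ≤ Ideal.span (Set.range f) := by
    rw [Ideal.span_le]
    rintro _ ⟨i, rfl⟩
    by_cases hi : i = l
    · subst hi
      rw [hf'l]
      exact Ideal.mul_mem_right _ _ (Ideal.subset_span ⟨_, rfl⟩)
    · rw [hf'ne i hi]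
      exact Ideal.subset_span ⟨i, rfl⟩
  have hJ'K : Ideal.span (Set.range f') ≤ Ideal.span (Set.range k) := by
    rw [Ideal.span_le]
    rintro _ ⟨i, rfl⟩
    by_cases hi : i = l
    · subst hi
      rw [hf'l, ← hkl]
      exact Ideal.mul_mem_left _ _ (Ideal.subset_span ⟨_, rfl⟩)
    · rw [hf'ne i hi, ← hkne i hi]
      exact Ideal.subset_span ⟨i, rfl⟩
  have hwd : Ideal.span (Set.range k) ≤
      Submodule.comap (LinearMap.mulLeft A (f l)) (Ideal.span (Set.range f')) := by
    rw [Ideal.span_le]
    rintro _ ⟨i, rfl⟩
    simp only [Submodule.comap_coe, Set.mem_preimage, LinearMap.mulLeft_apply, SetLike.mem_coe]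
    by_cases hi : i = l
    · subst hi
      rw [hkl, ← hf'l]
      exact Ideal.subset_span ⟨_, rfl⟩
    · rw [hkne i hi, ← hf'ne i hi]
      exact Ideal.mul_mem_left _ _ (Ideal.subset_span ⟨_, rfl⟩)
  have hid : Ideal.span (Set.range f') ≤
      Submodule.comap (LinearMap.id : A →ₗ[A] A) (Ideal.span (Set.range f)) := by
    simpa using hJ'J
  have hφ : Function.Injective (Submodule.mapQ (Ideal.span (Set.range k))
      (Ideal.span (Set.range f')) (LinearMap.mulLeft A (f l)) hwd) := by
    rw [injective_iff_map_eq_zero]
    intro y hy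
    obtain ⟨x, rfl⟩ := Submodule.Quotient.mk_surjective _ y
    rw [Submodule.mapQ_apply, Submodule.Quotient.mk_eq_zero, LinearMap.mulLeft_apply] at hy
    rw [Submodule.Quotient.mk_eq_zero]
    obtain ⟨a, ha⟩ := Ideal.mem_span_range_iff_exists_fun.1 hy
    have key := h (fun i => g * a i - if i = l then x else 0) ?_ l
    · simp only [if_true] at key
      have h1 : g * a l ∈ Ideal.span (Set.range k) := by
        rw [← hkl]
        exact Ideal.mul_mem_right _ _ (Ideal.subset_span ⟨_, rfl⟩)
      have := Ideal.sub_mem _ h1 (hJ'K key)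
      simpa using this
    · have : ∀ i, (g * a i - if i = l then x else 0) * f' i =
          g * (a i * f' i) - if i = l then x * f' l else 0 := by
        intro i
        by_cases hi : i = l
        · subst hi
          simp only [if_true]
          ring
        · simp only [if_neg hi]
          ring
      simp_rw [this]
      rw [Finset.sum_sub_distrib, ← Finset.mul_sum, ha]
      simp only [Finset.sum_ite_eq', Finset.mem_univ, if_true]
      rw [hf'l]
      ring
  have hψ : Function.Surjective (Submodule.mapQ (Ideal.span (Set.range f'))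
      (Ideal.span (Set.range f)) (LinearMap.id : A →ₗ[A] A) hid) := by
    intro y
    obtain ⟨x, rfl⟩ := Submodule.Quotient.mk_surjective _ y
    exact ⟨Submodule.Quotient.mk x, by rw [Submodule.mapQ_apply]; rfl⟩
  have hex : Function.Exact (Submodule.mapQ (Ideal.span (Set.range k))
      (Ideal.span (Set.range f')) (LinearMap.mulLeft A (f l)) hwd)
      (Submodule.mapQ (Ideal.span (Set.range f'))
      (Ideal.span (Set.range f)) (LinearMap.id : A →ₗ[A] A) hid) := by
    intro y
    obtain ⟨x, rfl⟩ := Submodule.Quotient.mk_surjective _ y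
    rw [Submodule.mapQ_apply, Submodule.Quotient.mk_eq_zero, LinearMap.id_apply]
    constructor
    · intro hx
      obtain ⟨c, hc⟩ := Ideal.mem_span_range_iff_exists_fun.1 hx
      refine ⟨Submodule.Quotient.mk (c l), ?_⟩
      rw [Submodule.mapQ_apply, LinearMap.mulLeft_apply, eq_comm, Submodule.Quotient.eq]
      have : x - f l * c l = ∑ i, (c i * f i - if i = l then c l * f l else 0) := by
        rw [Finset.sum_sub_distrib, hc]
        simp only [Finset.sum_ite_eq', Finset.mem_univ, if_true]
        ring
      rw [this]
      apply Ideal.sum_mem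
      intro i _
      by_cases hi : i = l
      · subst hi
        simp
      · simp only [if_neg hi, sub_zero]
        rw [← hf'ne i hi]
        exact Ideal.mul_mem_left _ _ (Ideal.subset_span ⟨_, rfl⟩)
    · rintro ⟨z, hz⟩
      obtain ⟨z, rfl⟩ := Submodule.Quotient.mk_surjective _ z
      rw [Submodule.mapQ_apply, LinearMap.mulLeft_apply, Submodule.Quotient.eq] at hz
      have h1 : f l * z ∈ Ideal.span (Set.range f) :=
        Ideal.mul_mem_right _ _ (Ideal.subset_span ⟨_, rfl⟩)
      have := Ideal.sub_mem _ h1 (hJ'J hz)
      simpa using this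
  rw [Module.length_eq_add_of_exact _ _ hφ hψ hex, add_comm]


/-- Let f_1, …, f_r, g be elements of a ring A (r ≥ 1) such that f_1, …, f_{r-1}, f_r g is independent
and A/(f_1, …, f_{r-1}, f_r g) has finite length. Then length A/(f_1, …, f_{r-1}, f_r g) = length
A/(f_1, …, f_r) + length A/(f_1, …, f_{r-1}, g). -/
theorem result (A : Type u) [CommRing A] (r : ℕ) (f : Fin (r + 1) → A) (g : A) (h : Dual2.Independent (Function.update f (Fin.last r) (f (Fin.last r) * g))) (hfin : IsFiniteLength A (A ⧸ Ideal.span (Set.range (Function.update f (Fin.last r) (f (Fin.last r) * g))))) : Module.length A (A ⧸ Ideal.span (Set.range (Function.update f (Fin.last r) (f (Fin.last r) * g)))) = Module.length A (A ⧸ Ideal.span (Set.range f)) + Module.length A (A ⧸ Ideal.span (Set.range (Function.update f (Fin.last r) g))) := by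
  exact aux A r f _ _ (Fin.last r) g rfl rfl h

end Groth.Agent.S1734
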