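import Groth.Statements.S1735
import Mathlib
import Groth.Agent.Lib.H59SchlessChevalley
import Groth.Agent.Lib.DvrQuot7

set_option autoImplicit false
universe u
open LocCoh

namespace Groth.Agent.S1735

section helpers

open Groth.Agent.Lib IsLocalRing

theorem main (A : Type u) [CommRing A] [IsDomain A] [IsLocalRing A] [IsNoetherianRing A] [IsAdicComplete (IsLocalRing.maximalIdeal A) A] (p : Ideal A) [p.IsPrime] (hp : ringKrullDim (A ⧸ p) = 1) (n : ℕ) (hn : 1 ≤ n) : ∃ m : ℕ, n ≤ m ∧ ((Ideal.map (algebraMap A (Localization.AtPrime p)) p) ^ m).comap (algebraMap A (Localization.AtPrime p)) ≤ p ^ n := by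
  classical
  set S := Localization.AtPrime p with hS
  set f := algebraMap A S with hf
  have hfinj : Function.Injective f :=
    IsLocalization.injective S (Ideal.primeCompl_le_nonZeroDivisors p)
  let J : ℕ → Ideal A := fun k => ((p.map f) ^ k).comap f
  have hJanti : Antitone J := fun a b hab => Ideal.comap_mono (Ideal.pow_le_pow_right hab)
  -- Step 1: symbolic powers are adically small
  have hJinf : (⨅ i, J i) = ⊥ := by
    rw [eq_bot_iff]
    intro x hx
    rw [Submodule.mem_iInf] at hx
    have h1 : f x ∈ ⨅ i, (p.map f) ^ i := by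
      rw [Submodule.mem_iInf]
      intro i
      exact hx i
    have hne : p.map f ≠ ⊤ := by
      rw [hf, Localization.AtPrime.map_eq_maximalIdeal]
      exact Ideal.IsPrime.ne_top'
    rw [Ideal.iInf_pow_eq_bot_of_isLocalRing _ hne, Submodule.mem_bot] at h1
    rw [Submodule.mem_bot]
    exact hfinj (h1.trans (map_zero f).symm)
  have step1 : ∀ t : ℕ, ∃ k, J k ≤ maximalIdeal A ^ (t + 1) := by
    intro t
    obtain ⟨k, hk⟩ := H59SchlessChevalley.chevalley
      (fun s => DvrQuot7.isArtinianRing_quotient_pow (A := A) s) J hJanti t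
    rw [hJinf, bot_sup_eq] at hk
    exact ⟨k, hk⟩
  -- Step 2: a uniform denominator
  have step2 : ∃ s : A, s ∉ p ∧ ∀ x ∈ J n, s * x ∈ p ^ n := by
    have hx : ∀ x ∈ J n, ∃ s : A, s ∉ p ∧ s * x ∈ p ^ n := by
      intro x hx
      have h1 : f x ∈ (p ^ n).map f := by
        rw [Ideal.map_pow]
        exact hx
      obtain ⟨⟨a, s⟩, has⟩ := (IsLocalization.mem_map_algebraMap_iff p.primeCompl S).mp h1
      refine ⟨s.1, s.2, ?_⟩
      have : f (s.1 * x) = f a.1 := by
        rw [map_mul, mul_comm]
        exact has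
      rw [hfinj this]
      exact a.2
    obtain ⟨T, hT⟩ := (isNoetherianRing_iff_ideal_fg A).mp inferInstance (J n)
    choose! s hs1 hs2 using hx
    refine ⟨∏ x ∈ T, s x, ?_, ?_⟩
    · intro hmem
      obtain ⟨x, hxT, hx⟩ := (Ideal.IsPrime.prod_mem_iff (hp := inferInstance)).mp hmem
      have : x ∈ J n := hT ▸ Ideal.subset_span hxT
      exact hs1 x this hx
    · intro x hx
      rw [← hT] at hx
      refine Submodule.span_induction (p := fun x _ => (∏ x ∈ T, s x) * x ∈ p ^ n)
        ?_ ?_ ?_ ?_ hx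
      · intro y hy
        have hyJ : y ∈ J n := hT ▸ Ideal.subset_span hy
        rw [← Finset.mul_prod_erase T s hy, mul_assoc, mul_comm (∏ x ∈ T.erase y, s x),
          ← mul_assoc]
        exact Ideal.mul_mem_right _ _ (hs2 y hyJ)
      · simp
      · intro a b _ _ ha hb
        rw [mul_add]
        exact Ideal.add_mem _ ha hb
      · intro a b _ hb
        rw [smul_eq_mul, mul_left_comm]
        exact Ideal.mul_mem_left _ _ hb
  obtain ⟨s, hsp, hs⟩ := step2
  -- Step 3: a power of the maximal ideal multiplies `J n` into `p ^ n`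
  let 𝔞 : Ideal A := (p ^ n).colon (J n : Set A)
  have hs𝔞 : s ∈ 𝔞 := Submodule.mem_colon.mpr fun x hx => hs x hx
  have hp𝔞 : p ^ n ≤ 𝔞 := fun r hr => Submodule.mem_colon.mpr fun x _ =>
    Ideal.mul_mem_right _ _ hr
  haveI hdim1 : Ring.KrullDimLE 1 (A ⧸ p) := by
    rw [Ring.KrullDimLE, Order.krullDimLE_iff]
    change ringKrullDim (A ⧸ p) ≤ _
    rw [hp]
    exact le_rfl
  have hprimes : ∀ P : Ideal A, P.IsPrime → p < P → P = maximalIdeal A := by
    intro P hP hpP
    haveI := hP
    have hker : RingHom.ker (Ideal.Quotient.mk p) ≤ P := by rw [Ideal.mk_ker]; exact hpP.le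
    have h1 : (P.map (Ideal.Quotient.mk p)).IsPrime :=
      Ideal.map_isPrime_of_surjective Ideal.Quotient.mk_surjective hker
    have h2 : P.map (Ideal.Quotient.mk p) ≠ ⊥ := by
      intro h0
      have : P ≤ p := by
        rw [← Ideal.mk_ker (I := p)]
        intro a ha
        rw [RingHom.mem_ker]
        have := Ideal.mem_map_of_mem (Ideal.Quotient.mk p) ha
        rw [h0] at this
        exact (Submodule.mem_bot _).mp this
      exact absurd hpP (not_lt_of_ge this)
    have h3 : (P.map (Ideal.Quotient.mk p)).IsMaximal := h1.isMaximal_of_ne_bot h2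
    have h4 : ((P.map (Ideal.Quotient.mk p)).comap (Ideal.Quotient.mk p)).IsMaximal :=
      Ideal.comap_isMaximal_of_surjective _ Ideal.Quotient.mk_surjective
    rw [Ideal.comap_map_of_surjective _ Ideal.Quotient.mk_surjective,
      ← RingHom.ker_eq_comap_bot, sup_eq_left.mpr hker] at h4
    exact IsLocalRing.eq_maximalIdeal h4
  have hrad : maximalIdeal A ≤ 𝔞.radical := by
    rw [Ideal.radical_eq_sInf]
    refine le_sInf fun P ⟨h𝔞P, hP⟩ => ?_
    haveI := hP
    have hpP : p ≤ P := hP.le_of_pow_le (hp𝔞.trans h𝔞P)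
    have hne : p ≠ P := by
      rintro rfl
      exact hsp (h𝔞P hs𝔞)
    rw [hprimes P hP (lt_of_le_of_ne hpP hne)]
  obtain ⟨k, hk⟩ := Ideal.exists_pow_le_of_le_radical_of_fg hrad
    ((isNoetherianRing_iff_ideal_fg A).mp inferInstance _)
  -- Step 4: Artin–Rees
  obtain ⟨c, hc⟩ := Ideal.exists_pow_inf_eq_pow_smul (maximalIdeal A) (J n : Submodule A A)
  have hAR : maximalIdeal A ^ (k + c) ⊓ J n ≤ p ^ n := by
    have h1 := hc (k + c) (Nat.le_add_left c k)
    rw [Nat.add_sub_cancel] at h1
    have h2 : (maximalIdeal A ^ (k + c) ⊓ J n : Ideal A) =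
        (maximalIdeal A ^ (k + c) • (⊤ : Submodule A A) ⊓ (J n : Submodule A A) : Submodule A A) := by
      rw [smul_eq_mul, Ideal.mul_top]
    rw [h2, h1]
    rw [Submodule.smul_le]
    intro r hr x hx
    have hx' : x ∈ J n := hx.2
    rw [smul_eq_mul]
    exact Submodule.mem_colon.mp (hk hr) x hx'
  -- Step 5
  obtain ⟨k0, hk0⟩ := step1 (k + c)
  refine ⟨max k0 n, le_max_right _ _, ?_⟩
  refine le_trans ?_ hAR
  refine le_inf ?_ ?_
  · exact (hJanti (le_max_left k0 n)).trans (hk0.trans (Ideal.pow_le_pow_right (Nat.le_succ _)))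
  · exact hJanti (le_max_right k0 n)

end helpers

/-- Let A be a complete Noetherian local domain and p a prime ideal with dim(A/p) = 1. For every n ≥ 1
there is m ≥ n such that the m-th symbolic power of p (the contraction of p^m A_p to A) is contained
in p^n. -/
theorem result (A : Type u) [CommRing A] [IsDomain A] [IsLocalRing A] [IsNoetherianRing A] [IsAdicComplete (IsLocalRing.maximalIdeal A) A] (p : Ideal A) [p.IsPrime] (hp : ringKrullDim (A ⧸ p) = 1) (n : ℕ) (hn : 1 ≤ n) : ∃ m : ℕ, n ≤ m ∧ ((Ideal.map (algebraMap A (Localization.AtPrime p)) p) ^ m).comap (algebraMap A (Localization.AtPrime p)) ≤ p ^ n := by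
  exact main A p hp n hn

end Groth.Agent.S1735
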