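import Groth.Statements.S17360
import Mathlib

set_option autoImplicit false
universe u
open scoped TensorProduct
open AzInv

namespace Groth.Agent.S17360

section General

variable {K : Type*} [CommRing K]
  {M : Type*} [AddCommGroup M] [Module K M] {I : Type*} [DecidableEq I]

/-- Rank of the fixed space of a signed-permutation involution, via a fundamental domain `F`. -/
theorem finrank_eqLocus [Nontrivial K] (h2 : IsUnit (2 : K))
    (φ : M ≃ₗ[K] (I → K)) (T : M →ₗ[K] M) (π : I → I) (ε : I → K)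
    (hπ : ∀ x, π (π x) = x) (hε : ∀ x, ε x * ε (π x) = 1)
    (hT : ∀ m x, φ (T m) x = ε x * φ m (π x))
    (F : Finset I)
    (ha : ∀ x ∈ F, π x = x → ε x = 1)
    (hb : ∀ x ∈ F, π x ≠ x → π x ∉ F)
    (hc : ∀ x, x ∉ F → π x ∈ F ∨ (π x = x ∧ ε x = -1)) :
    Module.finrank K (LinearMap.eqLocus T LinearMap.id) = F.card := by
  classical
  let ρ : LinearMap.eqLocus T LinearMap.id →ₗ[K] (F → K) :=
    (LinearMap.funLeft K K (Subtype.val : F → I)) ∘ₗ φ.toLinearMap ∘ₗ
      (LinearMap.eqLocus T LinearMap.id).subtype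
  have hρ : ∀ (m : LinearMap.eqLocus T LinearMap.id) (x : F), ρ m x = φ m.1 x.1 := fun m x => rfl
  have hinj : Function.Injective ρ := by
    rw [← LinearMap.ker_eq_bot, LinearMap.ker_eq_bot']
    intro m hm
    have hm1 : T m.1 = m.1 := m.2
    have h0 : ∀ x ∈ F, φ m.1 x = 0 := fun x hx => by
      have := congrFun hm ⟨x, hx⟩
      rwa [hρ] at this
    apply Subtype.ext
    apply φ.injective
    rw [ZeroMemClass.coe_zero, map_zero]
    funext x
    by_cases hx : x ∈ F
    · exact h0 x hx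
    · have h1 := hT m.1 x
      rw [hm1] at h1
      rcases hc x hx with h | ⟨h, he⟩
      · rw [h1, h0 _ h, mul_zero]; rfl
      · rw [h, he] at h1
        have h3 : (2 : K) * φ m.1 x = 0 := by
          have : φ m.1 x + φ m.1 x = 0 := by nth_rewrite 1 [h1]; ring
          rw [two_mul]; exact this
        exact (h2.mul_right_eq_zero).mp h3
  have hsurj : Function.Surjective ρ := by
    intro g
    let gt : I → K := fun x => if h : x ∈ F then g ⟨x, h⟩ else 0
    let G : I → K := fun x => if x ∈ F then gt x else if π x ∈ F then ε x * gt (π x) else 0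
    have hG1 : ∀ x, x ∈ F → G x = gt x := fun x hx => by simp only [G, if_pos hx]
    have hG2 : ∀ x, x ∉ F → π x ∈ F → G x = ε x * gt (π x) := fun x hx hx' => by
      simp only [G, if_neg hx, if_pos hx']
    have hG3 : ∀ x, x ∉ F → π x ∉ F → G x = 0 := fun x hx hx' => by
      simp only [G, if_neg hx, if_neg hx']
    have hsym : T (φ.symm G) = φ.symm G := by
      apply φ.injective
      funext x
      rw [hT, φ.apply_symm_apply]
      by_cases hx : x ∈ F
      · by_cases hp : π x = x
        · rw [hp, ha x hx hp, one_mul]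
        · have hpx := hb x hx hp
          have hppx : π (π x) ∈ F := by rw [hπ]; exact hx
          rw [hG2 _ hpx hppx, hπ, hG1 x hx, ← mul_assoc, hε, one_mul]
      · by_cases hpx : π x ∈ F
        · rw [hG2 x hx hpx, hG1 _ hpx]
        · rcases hc x hx with h | ⟨h, -⟩
          · exact absurd h hpx
          · rw [h, hG3 x hx hpx, mul_zero]
    refine ⟨⟨φ.symm G, hsym⟩, ?_⟩
    funext x
    rw [hρ]
    change φ (φ.symm G) x.1 = g x
    rw [φ.apply_symm_apply, hG1 _ x.2]
    simp only [gt, dif_pos x.2]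
  have e := LinearEquiv.ofBijective ρ ⟨hinj, hsurj⟩
  rw [e.finrank_eq, Module.finrank_fintype_fun_eq_card, Fintype.card_coe]

omit [DecidableEq I] in
/-- Fixed spaces of intertwined operators have the same rank. -/
theorem finrank_eqLocus_eq {M' : Type*} [AddCommGroup M'] [Module K M']
    (f : M ≃ₗ[K] M') (T : M →ₗ[K] M) (T' : M' →ₗ[K] M') (hf : ∀ m, f (T m) = T' (f m)) :
    Module.finrank K (LinearMap.eqLocus T LinearMap.id) =
      Module.finrank K (LinearMap.eqLocus T' LinearMap.id) := by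
  have hmap : (LinearMap.eqLocus T LinearMap.id).map (f : M →ₗ[K] M') =
      LinearMap.eqLocus T' LinearMap.id := by
    ext m'
    constructor
    · rintro ⟨m, hm, rfl⟩
      have hm1 : T m = m := hm
      change T' (f m) = f m
      rw [← hf, hm1]
    · intro hm'
      have hm1 : T' m' = m' := hm'
      refine ⟨f.symm m', ?_, by simp⟩
      change T (f.symm m') = f.symm m'
      apply f.injective
      rw [hf, f.apply_symm_apply, hm1]
  rw [← hmap]
  exact (f.submoduleMap _).finrank_eq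

end General

section Concrete

variable (R : Type u) [CommRing R] (S' : Type u) [CommRing S'] [Algebra R S']

/-- Entries of a matrix as a function on pairs. -/
def eA (n : ℕ) : Matrix (Fin n) (Fin n) R ≃ₗ[R] (Fin n × Fin n → R) where
  toFun M := fun p => M p.1 p.2
  invFun g := Matrix.of fun i j => g (i, j)
  map_add' _ _ := rfl
  map_smul' _ _ := rfl
  left_inv _ := rfl
  right_inv _ := rfl

/-- Entries of a block matrix as a function on quadruples. -/
def eB (n : ℕ) : Matrix (Fin n) (Fin n) (Matrix (Fin 2) (Fin 2) R) ≃ₗ[R]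
    ((Fin n × Fin n) × (Fin 2 × Fin 2) → R) where
  toFun M := fun q => M q.1.1 q.1.2 q.2.1 q.2.2
  invFun g := Matrix.of fun i j => Matrix.of fun k l => g ((i, j), (k, l))
  map_add' _ _ := rfl
  map_smul' _ _ := rfl
  left_inv _ := rfl
  right_inv _ := rfl

/-- Coordinates on the base change of a free module with given coordinates. -/
noncomputable def coord {A : Type u} [AddCommGroup A] [Module R A] {I : Type} [Fintype I]
    [DecidableEq I] (e : A ≃ₗ[R] (I → R)) : S' ⊗[R] A ≃ₗ[S'] (I → S') :=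
  (e.baseChange R S' _ _) ≪≫ₗ TensorProduct.piScalarRight R S' S' I

lemma coord_tmul {A : Type u} [AddCommGroup A] [Module R A] {I : Type} [Fintype I]
    [DecidableEq I] (e : A ≃ₗ[R] (I → R)) (s : S') (a : A) (x : I) :
    coord R S' e (s ⊗ₜ[R] a) x = e a x • s := by
  simp [coord]

end Concrete

section Symp

variable (R : Type u) [CommRing R]

lemma symp_apply (hlam : ∀ r : R, (AlgEquiv.refl : R ≃ₐ[R] R) ((AlgEquiv.refl : R ≃ₐ[R] R) r) = r)
    (J : (Matrix (Fin 2) (Fin 2) R)ˣ) (hJ : (↑J : Matrix (Fin 2) (Fin 2) R) = Matrix.of ![![0, -1], ![1, 0]])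
    (hJt : AzInv.LamInv.transpose (AlgEquiv.refl : R ≃ₐ[R] R) (Fin 2) hlam (↑J : Matrix (Fin 2) (Fin 2) R) = (-1 : R) • (↑J : Matrix (Fin 2) (Fin 2) R))
    (hneg : (AlgEquiv.refl : R ≃ₐ[R] R) (-1) * (-1) = 1)
    (N : Matrix (Fin 2) (Fin 2) R) (k l : Fin 2) :
    ((AzInv.LamInv.transpose (AlgEquiv.refl : R ≃ₐ[R] R) (Fin 2) hlam).conj J (-1) hJt hneg N) k l
      = (if k = l then 1 else -1) * N (1 - l) (1 - k) := by
  have hJi : ((J⁻¹ : (Matrix (Fin 2) (Fin 2) R)ˣ) : Matrix (Fin 2) (Fin 2) R) =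
      Matrix.of ![![0, 1], ![-1, 0]] := by
    apply Units.inv_eq_of_mul_eq_one_right
    rw [hJ]
    ext i j
    fin_cases i <;> fin_cases j <;> simp [Matrix.mul_apply, Fin.sum_univ_two]
  rw [AzInv.LamInv.conj_apply, hJ, hJi]
  simp only [Matrix.mul_apply, Fin.sum_univ_two, AzInv.LamInv.transpose_apply]
  fin_cases k <;> fin_cases l <;> simp

variable (S' : Type u) [CommRing S'] [Algebra R S']

/-- The transpose side in coordinates. -/
lemma coord_T1 (hlam : ∀ r : R, (AlgEquiv.refl : R ≃ₐ[R] R) ((AlgEquiv.refl : R ≃ₐ[R] R) r) = r)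
    (n : ℕ) (m : S' ⊗[R] Matrix (Fin n) (Fin n) R) (x : Fin n × Fin n) :
    coord R S' (eA R n)
        (((AzInv.LamInv.self (AlgEquiv.refl : R ≃ₐ[R] R) hlam).matrix (Fin n)).bc R
          (AlgEquiv.refl : R ≃ₐ[R] R) S' m) x
      = 1 * coord R S' (eA R n) m x.swap := by
  induction m using TensorProduct.induction_on with
  | zero => simp
  | add a b ha hb => simp only [map_add, Pi.add_apply, ha, hb, mul_add]
  | tmul s a =>
    rw [AzInv.LamInv.bc_tmul, coord_tmul, coord_tmul, one_mul]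
    rfl

/-- The sign function on the symplectic side. -/
def sgn (K : Type u) [CommRing K] {n : ℕ} (q : (Fin n × Fin n) × (Fin 2 × Fin 2)) : K :=
  if q.2.1 = q.2.2 then 1 else -1

/-- The permutation of coordinates on the symplectic side. -/
def prm {n : ℕ} (q : (Fin n × Fin n) × (Fin 2 × Fin 2)) : (Fin n × Fin n) × (Fin 2 × Fin 2) :=
  ((q.1.2, q.1.1), (1 - q.2.2, 1 - q.2.1))

/-- The symplectic side in coordinates. -/
lemma coord_T2 (hlam : ∀ r : R, (AlgEquiv.refl : R ≃ₐ[R] R) ((AlgEquiv.refl : R ≃ₐ[R] R) r) = r)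
    (J : (Matrix (Fin 2) (Fin 2) R)ˣ) (hJ : (↑J : Matrix (Fin 2) (Fin 2) R) = Matrix.of ![![0, -1], ![1, 0]])
    (hJt : AzInv.LamInv.transpose (AlgEquiv.refl : R ≃ₐ[R] R) (Fin 2) hlam (↑J : Matrix (Fin 2) (Fin 2) R) = (-1 : R) • (↑J : Matrix (Fin 2) (Fin 2) R))
    (hneg : (AlgEquiv.refl : R ≃ₐ[R] R) (-1) * (-1) = 1)
    (n : ℕ) (m : S' ⊗[R] Matrix (Fin n) (Fin n) (Matrix (Fin 2) (Fin 2) R))
    (x : (Fin n × Fin n) × (Fin 2 × Fin 2)) :
    coord R S' (eB R n)
        ((((AzInv.LamInv.transpose (AlgEquiv.refl : R ≃ₐ[R] R) (Fin 2) hlam).conj J (-1) hJt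
          hneg).matrix (Fin n)).bc R (AlgEquiv.refl : R ≃ₐ[R] R) S' m) x
      = sgn S' x * coord R S' (eB R n) m (prm x) := by
  induction m using TensorProduct.induction_on with
  | zero => simp
  | add a b ha hb => simp only [map_add, Pi.add_apply, ha, hb, mul_add]
  | tmul s a =>
    rw [AzInv.LamInv.bc_tmul, coord_tmul, coord_tmul]
    have h1 : eB R n ((((AzInv.LamInv.transpose (AlgEquiv.refl : R ≃ₐ[R] R) (Fin 2) hlam).conj J
        (-1) hJt hneg).matrix (Fin n)) a) x =
        (if x.2.1 = x.2.2 then 1 else -1) * eB R n a (prm x) := by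
      change ((AzInv.LamInv.transpose (AlgEquiv.refl : R ≃ₐ[R] R) (Fin 2) hlam).conj J (-1) hJt
        hneg (a x.1.2 x.1.1)) x.2.1 x.2.2 = _
      rw [symp_apply R hlam J hJ hJt hneg]
      rfl
    rw [h1]
    unfold sgn
    split_ifs <;> simp

end Symp

/-- Let `R` be a nontrivial commutative ring in which `2` is a unit, with the trivial involution. This
row states the second half of the count of types: the identity of `R` (the orthogonal type) and the
standard symplectic involution `x ↦ J xᵀ J⁻¹` of the `2 × 2` matrix algebra, `J` the matrix with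
rows `(0, -1)` and `(1, 0)`, do not have the same type, i.e. for no positive sizes do the matrix
algebras over `R` with the transpose and over `M_2(R)` with the involution induced by the symplectic
one become isomorphic as `R`-algebras with involution after an etale faithfully flat base change of
`R`. (The source states that the monoid of types is isomorphic to the group of global square roots
of `1`, for a locally ringed topos with trivial involution and `2` invertible; the row is the affine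
case.) -/
theorem result (R : Type u) [CommRing R] (hlam : ∀ r : R, (AlgEquiv.refl : R ≃ₐ[R] R) ((AlgEquiv.refl : R ≃ₐ[R] R) r) = r)
    [Nontrivial R] (h2 : IsUnit (2 : R))
    (J : (Matrix (Fin 2) (Fin 2) R)ˣ) (hJ : (↑J : Matrix (Fin 2) (Fin 2) R) = Matrix.of ![![0, -1], ![1, 0]])
    (hJt : AzInv.LamInv.transpose (AlgEquiv.refl : R ≃ₐ[R] R) (Fin 2) hlam (↑J : Matrix (Fin 2) (Fin 2) R) = (-1 : R) • (↑J : Matrix (Fin 2) (Fin 2) R))
    (hneg : (AlgEquiv.refl : R ≃ₐ[R] R) (-1) * (-1) = 1) :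
    ¬ AzInv.SameType R (AlgEquiv.refl : R ≃ₐ[R] R) (AzInv.LamInv.self (AlgEquiv.refl : R ≃ₐ[R] R) hlam) ((AzInv.LamInv.transpose (AlgEquiv.refl : R ≃ₐ[R] R) (Fin 2) hlam).conj J (-1) hJt hneg) := by
  classical
  rintro ⟨n, n', hn, hn', S', iS, iA, iE, iF, f, -, hf⟩
  have hnt : Nontrivial S' := (TensorProduct.rid R S').symm.toEquiv.nontrivial
  have h2' : IsUnit (2 : S') := by
    have := h2.map (algebraMap R S')
    rwa [map_ofNat] at this
  set T₁ := ((AzInv.LamInv.self (AlgEquiv.refl : R ≃ₐ[R] R) hlam).matrix (Fin n)).bc R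
    (AlgEquiv.refl : R ≃ₐ[R] R) S' with hT₁
  set T₂ := (((AzInv.LamInv.transpose (AlgEquiv.refl : R ≃ₐ[R] R) (Fin 2) hlam).conj J (-1) hJt
    hneg).matrix (Fin n')).bc R (AlgEquiv.refl : R ≃ₐ[R] R) S' with hT₂
  have hsym := finrank_eqLocus_eq f.toLinearEquiv T₁ T₂ hf
  have hskew := finrank_eqLocus_eq f.toLinearEquiv (-T₁) (-T₂)
    (by intro m; simp only [LinearMap.neg_apply, map_neg]; exact congrArg Neg.neg (hf m))
  -- the four ranks
  have r1s : Module.finrank S' (LinearMap.eqLocus T₁ LinearMap.id) =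
      (Finset.univ.filter (fun p : Fin n × Fin n => p.1 ≤ p.2)).card := by
    refine finrank_eqLocus h2' (coord R S' (eA R n)) T₁ Prod.swap (fun _ => 1)
      (fun x => Prod.swap_swap x) (fun _ => one_mul 1) (fun m x => coord_T1 R S' hlam n m x) _
      (fun _ _ _ => rfl) ?_ ?_
    · rintro ⟨i, j⟩ hx hne
      simp only [Finset.mem_filter, Finset.mem_univ, true_and, Prod.swap_prod_mk] at hx ⊢
      intro hji
      exact hne (by rw [Prod.swap_prod_mk, le_antisymm hx hji])
    · rintro ⟨i, j⟩ hx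
      simp only [Finset.mem_filter, Finset.mem_univ, true_and, Prod.swap_prod_mk, not_le] at hx ⊢
      exact Or.inl hx.le
  have r1k : Module.finrank S' (LinearMap.eqLocus (-T₁) LinearMap.id) =
      (Finset.univ.filter (fun p : Fin n × Fin n => p.1 < p.2)).card := by
    refine finrank_eqLocus h2' (coord R S' (eA R n)) (-T₁) Prod.swap (fun _ => -1)
      (fun x => Prod.swap_swap x) (fun _ => by ring) (fun m x => ?_) _ ?_ ?_ ?_
    · rw [LinearMap.neg_apply, map_neg, Pi.neg_apply, coord_T1 R S' hlam n m x]; ring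
    · rintro ⟨i, j⟩ hx he
      simp only [Finset.mem_filter, Finset.mem_univ, true_and, Prod.swap_prod_mk,
        Prod.mk.injEq] at hx he
      exact absurd he.1 (ne_of_gt hx)
    · rintro ⟨i, j⟩ hx _
      simp only [Finset.mem_filter, Finset.mem_univ, true_and, Prod.swap_prod_mk, not_lt] at hx ⊢
      exact hx.le
    · rintro ⟨i, j⟩ hx
      simp only [Finset.mem_filter, Finset.mem_univ, true_and, Prod.swap_prod_mk, not_lt,
        Prod.mk.injEq] at hx ⊢
      rcases hx.lt_or_eq with h | h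
      · exact Or.inl h
      · exact Or.inr ⟨⟨h, h.symm⟩, trivial⟩
  have hprm : ∀ x : (Fin n' × Fin n') × (Fin 2 × Fin 2), prm (prm x) = x := by
    rintro ⟨⟨i, j⟩, ⟨k, l⟩⟩
    simp only [prm, sub_sub_cancel]
  have hsgn : ∀ x : (Fin n' × Fin n') × (Fin 2 × Fin 2), sgn S' x * sgn S' (prm x) = 1 := by
    rintro ⟨⟨i, j⟩, ⟨k, l⟩⟩
    fin_cases k <;> fin_cases l <;> simp [sgn, prm]
  have r2s : Module.finrank S' (LinearMap.eqLocus T₂ LinearMap.id) =
      (Finset.univ.filter (fun q : (Fin n' × Fin n') × (Fin 2 × Fin 2) =>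
        q.1.1 < q.1.2 ∨ (q.1.1 = q.1.2 ∧ q.2 = (0, 0)))).card := by
    refine finrank_eqLocus h2' (coord R S' (eB R n')) T₂ prm (sgn S') hprm hsgn
      (fun m x => coord_T2 R S' hlam J hJ hJt hneg n' m x) _ ?_ ?_ ?_
    · rintro ⟨⟨i, j⟩, ⟨k, l⟩⟩ hx he
      exfalso
      simp only [Finset.mem_filter, Finset.mem_univ, true_and, prm, Prod.mk.injEq] at hx he
      rcases hx with h | ⟨h, hk, hl⟩
      · exact absurd he.1.1 (ne_of_gt h)
      · subst hk hl
        simp at he
    · rintro ⟨⟨i, j⟩, ⟨k, l⟩⟩ hx _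
      simp only [Finset.mem_filter, Finset.mem_univ, true_and, prm, Prod.mk.injEq, not_or,
        not_lt, not_and] at hx ⊢
      rcases hx with h | ⟨h, hk, hl⟩
      · exact ⟨h.le, fun h' => absurd h'.symm (ne_of_lt h)⟩
      · subst hk hl
        refine ⟨h.le, fun _ => ?_⟩
        simp
    · rintro ⟨⟨i, j⟩, ⟨k, l⟩⟩ hx
      simp only [Finset.mem_filter, Finset.mem_univ, true_and, prm, Prod.mk.injEq, not_or,
        not_lt, not_and] at hx ⊢
      rcases hx.1.lt_or_eq with h | h
      · exact Or.inl (Or.inl h)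
      · have hx2 := hx.2 h.symm
        subst h
        fin_cases k <;> fin_cases l <;> simp [sgn] at hx2 ⊢
  have r2k : Module.finrank S' (LinearMap.eqLocus (-T₂) LinearMap.id) =
      (Finset.univ.filter (fun q : (Fin n' × Fin n') × (Fin 2 × Fin 2) =>
        q.1.1 < q.1.2 ∨ (q.1.1 = q.1.2 ∧ q.2 ≠ (1, 1)))).card := by
    refine finrank_eqLocus h2' (coord R S' (eB R n')) (-T₂) prm (fun x => -sgn S' x) hprm
      (fun x => by rw [neg_mul_neg]; exact hsgn x) (fun m x => ?_) _ ?_ ?_ ?_
    · rw [LinearMap.neg_apply, map_neg, Pi.neg_apply, coord_T2 R S' hlam J hJ hJt hneg n' m x]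
      ring
    · rintro ⟨⟨i, j⟩, ⟨k, l⟩⟩ hx he
      simp only [Finset.mem_filter, Finset.mem_univ, true_and, prm, Prod.mk.injEq] at hx he
      rcases hx with h | ⟨h, hkl⟩
      · exact absurd he.1.1 (ne_of_gt h)
      · fin_cases k <;> fin_cases l <;> simp [sgn] at he hkl ⊢
    · rintro ⟨⟨i, j⟩, ⟨k, l⟩⟩ hx hne
      simp only [Finset.mem_filter, Finset.mem_univ, true_and, prm, Prod.mk.injEq, not_or,
        not_lt, not_and, ne_eq] at hx hne ⊢
      rcases hx with h | ⟨h, hkl⟩
      · exact ⟨h.le, fun h' => absurd h'.symm (ne_of_lt h)⟩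
      · subst h
        refine ⟨le_rfl, fun _ => ?_⟩
        fin_cases k <;> fin_cases l <;> simp at hne hkl ⊢
    · rintro ⟨⟨i, j⟩, ⟨k, l⟩⟩ hx
      simp only [Finset.mem_filter, Finset.mem_univ, true_and, prm, Prod.mk.injEq, not_or,
        not_lt, not_and, ne_eq] at hx ⊢
      rcases hx.1.lt_or_eq with h | h
      · exact Or.inl (Or.inl h)
      · have hx2 := hx.2 h.symm
        subst h
        fin_cases k <;> fin_cases l <;> simp at hx2 ⊢
  rw [r1s, r2s] at hsym
  rw [r1k, r2k] at hskew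
  have hlt : (Finset.univ.filter (fun p : Fin n × Fin n => p.1 < p.2)).card <
      (Finset.univ.filter (fun p : Fin n × Fin n => p.1 ≤ p.2)).card := by
    apply Finset.card_lt_card
    rw [Finset.ssubset_iff_of_subset
      (Finset.monotone_filter_right _ (fun p _ (h : p.1 < p.2) => h.le))]
    refine ⟨(⟨0, hn⟩, ⟨0, hn⟩), ?_, ?_⟩ <;> simp
  have hle : (Finset.univ.filter (fun q : (Fin n' × Fin n') × (Fin 2 × Fin 2) =>
        q.1.1 < q.1.2 ∨ (q.1.1 = q.1.2 ∧ q.2 = (0, 0)))).card ≤
      (Finset.univ.filter (fun q : (Fin n' × Fin n') × (Fin 2 × Fin 2) =>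
        q.1.1 < q.1.2 ∨ (q.1.1 = q.1.2 ∧ q.2 ≠ (1, 1)))).card := by
    apply Finset.card_le_card
    apply Finset.monotone_filter_right
    rintro q _ (h | ⟨h, hq⟩)
    · exact Or.inl h
    · refine Or.inr ⟨h, ?_⟩
      rw [hq]
      simp
  omega

end Groth.Agent.S17360
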