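import Groth.Statements.S17362
import Groth.Agent.Lib.AzInvSign16
set_option autoImplicit false
universe u v w
open scoped TensorProduct
open AzInv

namespace Groth.Agent.S17362

section helpers
variable {S : Type u} {R : Type v} [CommRing S] [CommRing R] [Algebra S R]
    {lam : R ≃ₐ[S] R}
    {A : Type w} [Ring A] [Algebra S A] [Algebra R A] [IsScalarTower S R A]

/-- span of the images of the symmetric elements in the fibre at `p`. -/
noncomputable def Wp (t : AzInv.LamInv R A lam) (p : PrimeSpectrum R) :
    Submodule p.asIdeal.ResidueField (p.asIdeal.ResidueField ⊗[R] A) :=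
  Submodule.span p.asIdeal.ResidueField
    (Set.range fun a : {a : A // t a = a} => (1 : p.asIdeal.ResidueField) ⊗ₜ[R] (a : A))

/-- span of the images of the skew-symmetric elements in the fibre at `p`. -/
noncomputable def Wm (t : AzInv.LamInv R A lam) (p : PrimeSpectrum R) :
    Submodule p.asIdeal.ResidueField (p.asIdeal.ResidueField ⊗[R] A) :=
  Submodule.span p.asIdeal.ResidueField
    (Set.range fun a : {a : A // t a = -a} => (1 : p.asIdeal.ResidueField) ⊗ₜ[R] (a : A))

theorem sup_eq_top (h2 : IsUnit (2 : S)) (t : AzInv.LamInv R A lam) (p : PrimeSpectrum R) :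
    Wp t p ⊔ Wm t p = ⊤ := by
  obtain ⟨c, hc⟩ := h2.exists_right_inv
  have htS : ∀ (s : S) (a : A), t (s • a) = s • t a := fun s a => (t.linS S lam).map_smul s a
  rw [eq_top_iff]
  rintro z -
  induction z using TensorProduct.induction_on with
  | zero => exact Submodule.zero_mem _
  | add a b ha hb => exact Submodule.add_mem _ ha hb
  | tmul k a =>
    have hsym : t (c • (a + t a)) = c • (a + t a) := by
      rw [htS, t.map_add, t.invol, add_comm]
    have hskew : t (c • (a - t a)) = -(c • (a - t a)) := by
      rw [htS, t.map_sub, t.invol, ← smul_neg, neg_sub]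
    have hsum : a = c • (a + t a) + c • (a - t a) := by
      rw [← smul_add, add_add_sub_cancel, ← two_smul S a, smul_smul, mul_comm, hc, one_smul]
    have h1 : (k ⊗ₜ[R] a : p.asIdeal.ResidueField ⊗[R] A) =
        k • ((1 : p.asIdeal.ResidueField) ⊗ₜ[R] (c • (a + t a))) +
          k • ((1 : p.asIdeal.ResidueField) ⊗ₜ[R] (c • (a - t a))) := by
      rw [← smul_add, ← TensorProduct.tmul_add, ← hsum, TensorProduct.smul_tmul', smul_eq_mul, mul_one]
    rw [h1]
    refine Submodule.add_mem _ (Submodule.mem_sup_left ?_) (Submodule.mem_sup_right ?_)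
    · exact Submodule.smul_mem _ _ (Submodule.subset_span ⟨⟨_, hsym⟩, rfl⟩)
    · exact Submodule.smul_mem _ _ (Submodule.subset_span ⟨⟨_, hskew⟩, rfl⟩)

omit [Algebra S A] [IsScalarTower S R A] in
theorem disjoint_Wp_Wm (h2 : IsUnit (2 : S)) (t : AzInv.LamInv R A lam) (p : PrimeSpectrum R)
    (hp : ∀ r : R, lam r - r ∈ p.asIdeal) : Disjoint (Wp t p) (Wm t p) := by
  set κ := p.asIdeal.ResidueField
  let g : A →ₗ[R] κ ⊗[R] A :=
    { toFun := fun a => (1 : κ) ⊗ₜ[R] t a
      map_add' := fun a b => by rw [t.map_add, TensorProduct.tmul_add]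
      map_smul' := fun r a => by
        rw [RingHom.id_apply, t.map_smul, ← TensorProduct.smul_tmul, TensorProduct.smul_tmul']
        congr 1
        rw [Algebra.smul_def, Algebra.smul_def, mul_one, mul_one]
        have h0 : algebraMap R κ (lam r - r) = 0 := by
          have : lam r - r ∈ RingHom.ker (algebraMap R κ) := by
            rw [Ideal.ker_algebraMap_residueField]; exact hp r
          exact this
        rw [map_sub, sub_eq_zero] at h0
        exact h0 }
  let T : κ ⊗[R] A →ₗ[κ] κ ⊗[R] A := LinearMap.liftBaseChange κ g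
  have hT : ∀ a : A, T ((1 : κ) ⊗ₜ[R] a) = (1 : κ) ⊗ₜ[R] t a := by
    intro a
    simp [T, g]
  have hWp : Wp t p ≤ LinearMap.ker (T - LinearMap.id) := by
    apply Submodule.span_le.2
    rintro _ ⟨a, rfl⟩
    simp only [SetLike.mem_coe, LinearMap.mem_ker, LinearMap.sub_apply, LinearMap.id_apply]
    rw [hT, a.2, sub_self]
  have hWm : Wm t p ≤ LinearMap.ker (T + LinearMap.id) := by
    apply Submodule.span_le.2
    rintro _ ⟨a, rfl⟩
    simp only [SetLike.mem_coe, LinearMap.mem_ker, LinearMap.add_apply, LinearMap.id_apply]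
    rw [hT, a.2, TensorProduct.tmul_neg, neg_add_cancel]
  have h2κ : (2 : κ) ≠ 0 := by
    have h1 : IsUnit (algebraMap S κ 2) := h2.map (algebraMap S κ)
    rw [map_ofNat] at h1
    exact h1.ne_zero
  rw [Submodule.disjoint_def]
  intro x hx1 hx2
  have e1 := hWp hx1
  have e2 := hWm hx2
  simp only [LinearMap.mem_ker, LinearMap.sub_apply, LinearMap.add_apply, LinearMap.id_apply] at e1 e2
  have h3 : (2 : κ) • x = 0 := by
    rw [two_smul]
    have : x + x = (T x + x) - (T x - x) := by abel
    rw [this, e1, e2, sub_zero]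
  exact (smul_eq_zero.1 h3).resolve_left h2κ

theorem finrank_fibre_eq (n : ℕ) (hA : AzInv.IsAzumayaDeg R A n) (p : PrimeSpectrum R) :
    Module.finrank p.asIdeal.ResidueField (p.asIdeal.ResidueField ⊗[R] A) = n ^ 2 := by
  have := hA.1
  rw [← hA.2 p, Module.rankAtStalk_eq]

end helpers

/-- Let `R` be a commutative ring with an involution `lam` whose fixed ring is exactly `S`, with `2` a
unit in `S`, and let `(A, t)` be an Azumaya `R`-algebra of degree `n ≥ 1` with a `lam`-involution.
For a prime `q` of `R` in the ramification locus (`lam` is the identity modulo `q`) call `t`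
orthogonal at `q` when the images of the `t`-symmetric elements of `A` span a subspace of `k(q) ⊗_R
A` of dimension `n (n + 1) / 2` over `k(q)` (the induced involution of the central simple algebra
`k(q) ⊗_R A` is then orthogonal, and symplectic otherwise). Then this orthogonal/symplectic sign is
locally constant on the ramification locus: every such `q` has a basic open neighbourhood `D(f)`
such that at every prime of the ramification locus inside `D(f)` the sign is the same as at `q`.
(The source states this for a good quotient of schemes by an involution with `2` invertible, as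
local constancy of a sign function on the ramification locus; the row is the affine case with the
sign spelled out by dimensions of symmetric elements.) -/
theorem result (S : Type u) (R : Type v) [CommRing S] [CommRing R] [Algebra S R]
    (lam : R ≃ₐ[S] R) (hlam : ∀ r, lam (lam r) = r) (hfix : RInv.IsFixedRing S R lam.toRingEquiv)
    (h2 : IsUnit (2 : S))
    (A : Type w) [Ring A] [Algebra S A] [Algebra R A] [IsScalarTower S R A]
    (n : ℕ) (hn : 0 < n) (hA : AzInv.IsAzumayaDeg R A n) (t : AzInv.LamInv R A lam)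
    (q : PrimeSpectrum R) (hq : ∀ r : R, lam r - r ∈ q.asIdeal) :
    ∃ f : R, f ∉ q.asIdeal ∧ ∀ q' : PrimeSpectrum R, (∀ r : R, lam r - r ∈ q'.asIdeal) → f ∉ q'.asIdeal →
      (Module.finrank q'.asIdeal.ResidueField
          (Submodule.span q'.asIdeal.ResidueField
            (Set.range fun a : {a : A // t a = a} => (1 : q'.asIdeal.ResidueField) ⊗ₜ[R] (a : A))) = Nat.choose (n + 1) 2 ↔
        Module.finrank q.asIdeal.ResidueField
            (Submodule.span q.asIdeal.ResidueField
              (Set.range fun a : {a : A // t a = a} => (1 : q.asIdeal.ResidueField) ⊗ₜ[R] (a : A))) = Nat.choose (n + 1) 2) := by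
  classical
  have := hA.1
  -- the data at `q`
  have hfinq := finrank_fibre_eq n hA q
  have hsupq := sup_eq_top h2 t q
  have hdisjq := disjoint_Wp_Wm h2 t q hq
  set κ := q.asIdeal.ResidueField
  obtain ⟨b, hbsub, hbspan, hbli⟩ := exists_linearIndependent κ
    (Set.range fun a : {a : A // t a = a} => ((1 : κ) ⊗ₜ[R] (a : A) : κ ⊗[R] A))
  obtain ⟨b', hb'sub, hb'span, hb'li⟩ := exists_linearIndependent κ
    (Set.range fun a : {a : A // t a = -a} => ((1 : κ) ⊗ₜ[R] (a : A) : κ ⊗[R] A))
  have hbfin : b.Finite := hbli.setFinite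
  have hb'fin : b'.Finite := hb'li.setFinite
  letI : Fintype b := hbfin.fintype
  letI : Fintype b' := hb'fin.fintype
  have hcb : Module.finrank κ (Wp t q) = Fintype.card b := by
    have := finrank_span_set_eq_card hbli
    rw [hbspan] at this
    rw [Set.toFinset_card] at this
    exact this
  have hcb' : Module.finrank κ (Wm t q) = Fintype.card b' := by
    have := finrank_span_set_eq_card hb'li
    rw [hb'span] at this
    rw [Set.toFinset_card] at this
    exact this
  have hcard : Fintype.card b + Fintype.card b' = n ^ 2 := by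
    have h := Submodule.finrank_sup_add_finrank_inf_eq (Wp t q) (Wm t q)
    rw [hdisjq.eq_bot, finrank_bot, add_zero, hsupq, finrank_top, hfinq] at h
    rw [← hcb, ← hcb', h]
  have hα : ∀ y : b, ∃ a : {a : A // t a = a}, ((1 : κ) ⊗ₜ[R] (a : A) : κ ⊗[R] A) = y :=
    fun y => hbsub y.2
  have hα' : ∀ y : b', ∃ a : {a : A // t a = -a}, ((1 : κ) ⊗ₜ[R] (a : A) : κ ⊗[R] A) = y :=
    fun y => hb'sub y.2
  choose α hα using hα
  choose α' hα' using hα'
  let x : b ⊕ b' → A := Sum.elim (fun y => (α y : A)) (fun y => (α' y : A))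
  have hxspan : Submodule.span κ (Set.range fun i => ((1 : κ) ⊗ₜ[R] x i : κ ⊗[R] A)) = ⊤ := by
    have hr : (Set.range fun i => ((1 : κ) ⊗ₜ[R] x i : κ ⊗[R] A)) = b ∪ b' := by
      ext z
      constructor
      · rintro ⟨i | i, rfl⟩
        · left; simp only [x, Sum.elim_inl]; rw [hα]; exact i.2
        · right; simp only [x, Sum.elim_inr]; rw [hα']; exact i.2
      · rintro (hz | hz)
        · exact ⟨Sum.inl ⟨z, hz⟩, by simp only [x, Sum.elim_inl]; rw [hα]⟩
        · exact ⟨Sum.inr ⟨z, hz⟩, by simp only [x, Sum.elim_inr]; rw [hα']⟩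
    rw [hr, Submodule.span_union, hbspan, hb'span]
    exact hsupq
  obtain ⟨f, hfq, hf⟩ := Groth.Agent.Lib.AzInvSign16.exists_span_fibre_eq_top x q hxspan
  refine ⟨f, hfq, fun q' hq' hfq' => ?_⟩
  have hspan' := hf q' hfq'
  have hfin' := finrank_fibre_eq n hA q'
  have hdisj' := disjoint_Wp_Wm h2 t q' hq'
  have key : Module.finrank q'.asIdeal.ResidueField (Wp t q') = Fintype.card b := by
    apply Groth.Agent.Lib.AzInvSign16.finrank_eq_card_of_span (Wp t q') (Wm t q') hdisj'
      (fun y : b => ((1 : q'.asIdeal.ResidueField) ⊗ₜ[R] (α y : A) : q'.asIdeal.ResidueField ⊗[R] A))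
      (fun y : b' => ((1 : q'.asIdeal.ResidueField) ⊗ₜ[R] (α' y : A) : q'.asIdeal.ResidueField ⊗[R] A))
      (fun y => Submodule.subset_span ⟨α y, rfl⟩) (fun y => Submodule.subset_span ⟨α' y, rfl⟩)
    · have hfun : (Sum.elim
          (fun y : b => ((1 : q'.asIdeal.ResidueField) ⊗ₜ[R] (α y : A) : q'.asIdeal.ResidueField ⊗[R] A))
          (fun y : b' => ((1 : q'.asIdeal.ResidueField) ⊗ₜ[R] (α' y : A) : q'.asIdeal.ResidueField ⊗[R] A))) =
          fun i => ((1 : q'.asIdeal.ResidueField) ⊗ₜ[R] x i : q'.asIdeal.ResidueField ⊗[R] A) := by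
        funext i
        cases i <;> rfl
      rw [hfun]
      exact hspan'
    · rw [hcard, hfin']
  change Module.finrank q'.asIdeal.ResidueField (Wp t q') = _ ↔ Module.finrank κ (Wp t q) = _
  rw [key, hcb]

end Groth.Agent.S17362
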