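import Groth.Statements.S17369

set_option autoImplicit false
universe u v
open CategoryTheory ArtFun ArtFun.Art

namespace Groth.Agent.S17369

theorem result (k : Type u) [Field k] [IsAlgClosed k]
    (F : Art k k ⥤ Type v) (h0 : H0 F) (h2 : Heps F) (h1 : Hbar F)
    {B A P : Art k k} (p : B ⟶ A) (hp : IsSmallExt p) (t : B)
    (ht : RingHom.ker p.toAlgHom = Ideal.span {t})
    (p₁ p₂ : P ⟶ B) (hP : IsFibreProd p₁ p₂ p p)
    (g : P ⟶ dual k k) (hg : ∀ z : P, (TrivSqZeroExt.snd (g z) : k) • t = p₂ z - p₁ z)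
    (h' : IsFibreProd p₁ g (toBase B) (toBase (dual k k)))
    (x : F.obj A) (y : F.obj B) (hy : F.map p y = x) (y' : F.obj B) (hy' : F.map p y' = x) :
    ∃ θ : F.obj (dual k k),
      F.map p₂ ((Equiv.ofBijective (cmp F h') (h2 p₁ g h')).symm
        ⟨(y, θ), @Subsingleton.elim _ h0.2 _ _⟩) = y' := by
  obtain ⟨z, hz⟩ := h1 p₁ p₂ p p hP hp ⟨(y, y'), hy.trans hy'.symm⟩
  have hz1 : F.map p₁ z = y := congrArg (fun w => w.1.1) hz
  have hz2 : F.map p₂ z = y' := congrArg (fun w => w.1.2) hz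
  refine ⟨F.map g z, ?_⟩
  have : (Equiv.ofBijective (cmp F h') (h2 p₁ g h')).symm
      ⟨(y, F.map g z), @Subsingleton.elim _ h0.2 _ _⟩ = z := by
    rw [Equiv.symm_apply_eq]
    apply FibProd.ext
    · exact hz1.symm
    · rfl
  rw [this, hz2]

end Groth.Agent.S17369
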