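import Groth.Statements.S1737
-- import your own Groth.Agent.* helpers here
import Mathlib.RingTheory.Ideal.AssociatedPrime.Finiteness
import Mathlib.RingTheory.Flat.Localization
import Mathlib.RingTheory.Localization.Module

set_option autoImplicit false
universe u
open LocCoh

namespace Groth.Agent.S1737

variable {A : Type u} [CommRing A]

/-- The elements of `M` whose support lies in `T`. -/
def tors (T : Set (PrimeSpectrum A)) (M : Type u) [AddCommGroup M] [Module A M] :
    Submodule A M where
  carrier := {m | ∀ q : PrimeSpectrum A, (∀ r : A, r • m = 0 → r ∈ q.asIdeal) → q ∈ T}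
  zero_mem' := by
    intro q h
    exact (q.2.ne_top ((Ideal.eq_top_iff_one _).2 (h 1 (smul_zero 1)))).elim
  add_mem' := by
    intro m m' hm hm' q h
    by_contra hq
    have h1 : ∃ r, r • m = 0 ∧ r ∉ q.asIdeal := by
      by_contra hcon
      push Not at hcon
      exact hq (hm q hcon)
    have h2 : ∃ r, r • m' = 0 ∧ r ∉ q.asIdeal := by
      by_contra hcon
      push Not at hcon
      exact hq (hm' q hcon)
    obtain ⟨r, hr, hrq⟩ := h1
    obtain ⟨r', hr', hrq'⟩ := h2
    have : r * r' ∈ q.asIdeal := h (r * r') (by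
      rw [smul_add, mul_smul r r' m', hr', smul_zero, mul_comm r r', mul_smul r' r m, hr,
        smul_zero, add_zero])
    rcases q.2.mem_or_mem this with h | h
    exacts [hrq h, hrq' h]
  smul_mem' := by
    intro a m hm q h
    exact hm q (fun r hr => h r (by rw [smul_comm, hr, smul_zero]))

lemma mem_tors {T : Set (PrimeSpectrum A)} {M : Type u} [AddCommGroup M] [Module A M] {m : M} :
    m ∈ tors T M ↔ ∀ q : PrimeSpectrum A, (∀ r : A, r • m = 0 → r ∈ q.asIdeal) → q ∈ T :=
  Iff.rfl

lemma bij (T : Set (PrimeSpectrum A)) (M : Type u) [AddCommGroup M] [Module A M]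
    (p : PrimeSpectrum A) (hp : p ∉ T) :
    Function.Bijective (LocalizedModule.map p.asIdeal.primeCompl (tors T M).mkQ) := by
  refine ⟨?_, LocalizedModule.map_surjective _ _ (Submodule.mkQ_surjective _)⟩
  rw [injective_iff_map_eq_zero]
  intro x hx
  induction x using LocalizedModule.induction_on with
  | h m s =>
    rw [LocalizedModule.map_mk, ← LocalizedModule.zero_mk s, LocalizedModule.mk_eq] at hx
    obtain ⟨u, hu⟩ := hx
    simp only [smul_zero, Submonoid.smul_def, Submodule.mkQ_apply] at hu
    rw [← Submodule.Quotient.mk_smul, ← Submodule.Quotient.mk_smul,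
      Submodule.Quotient.mk_eq_zero] at hu
    have h1 : ∃ r, r • ((u : A) • (s : A) • m) = 0 ∧ r ∉ p.asIdeal := by
      by_contra hcon
      push Not at hcon
      exact hp (hu p hcon)
    obtain ⟨r, hr, hrp⟩ := h1
    rw [← LocalizedModule.zero_mk s, LocalizedModule.mk_eq]
    refine ⟨⟨r, hrp⟩ * u, ?_⟩
    simp only [smul_zero, Submonoid.smul_def, mul_smul]
    exact hr

lemma exists_regular [IsNoetherianRing A] (T : Set (PrimeSpectrum A))
    (hT : StableUnderSpecialization T) (M : Type u) [AddCommGroup M] [Module A M]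
    [Module.Finite A M] (p : PrimeSpectrum A) (hp : p ∈ T) :
    ∃ r ∈ p.asIdeal, IsSMulRegular (M ⧸ tors T M) r := by
  classical
  by_contra hcon
  push Not at hcon
  have hsub : (p.asIdeal : Set A) ⊆
      ⋃ P ∈ associatedPrimes A (M ⧸ tors T M), (P : Set A) := by
    intro r hr
    rw [biUnion_associatedPrimes_eq_zero_divisors]
    have h1 := hcon r hr
    by_contra h2
    apply h1
    intro x y hxy
    have hxy' : r • x = r • y := hxy
    have h3 : r • (x - y) = 0 := by rw [smul_sub, hxy', sub_self]
    by_contra hne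
    exact h2 ⟨x - y, sub_ne_zero.2 hne, h3⟩
  have hfin := associatedPrimes.finite A (M ⧸ tors T M)
  have hsub' : (p.asIdeal : Set A) ⊆
      ⋃ P ∈ (hfin.toFinset : Set (Ideal A)), ((id P : Ideal A) : Set A) := by
    simpa using hsub
  obtain ⟨P, hP, hpP⟩ := (Ideal.subset_union_prime (s := hfin.toFinset) (f := id) ⊥ ⊥
    (fun P hP _ _ => ((hfin.mem_toFinset.1 hP)).isPrime)).1 hsub'
  rw [Set.Finite.mem_toFinset] at hP
  obtain ⟨hPprime, y, hy⟩ := isAssociatedPrime_iff.1 hP
  obtain ⟨x, rfl⟩ := Submodule.mkQ_surjective _ y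
  have hx : x ∈ tors T M := by
    intro q hq
    by_cases hPq : P ≤ q.asIdeal
    · have hle : p ≤ q := (PrimeSpectrum.asIdeal_le_asIdeal p q).1 (le_trans hpP hPq)
      exact hT ((PrimeSpectrum.le_iff_specializes p q).1 hle) hp
    · obtain ⟨a, haP, haq⟩ := Set.not_subset.1 hPq
      have hax : a • x ∈ tors T M := by
        have h4 : a ∈ Submodule.colon (⊥ : Submodule A (M ⧸ tors T M)) {(tors T M).mkQ x} := by
          rw [← hy]
          exact haP
        rw [Submodule.mem_colon_singleton, Submodule.mem_bot, ← map_smul, Submodule.mkQ_apply,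
          Submodule.Quotient.mk_eq_zero] at h4
        exact h4
      apply hax q
      intro r hr
      have h5 : r * a ∈ q.asIdeal := hq (r * a) (by rw [mul_smul, hr])
      exact (q.2.mem_or_mem h5).resolve_right haq
  have h6 : (tors T M).mkQ x = 0 := (Submodule.Quotient.mk_eq_zero _).2 hx
  rw [h6] at hy
  apply hPprime.ne_top
  rw [hy]
  ext r
  simp [Submodule.mem_colon_singleton]

lemma one_le_depth (R : Type u) [CommRing R] [IsLocalRing R] (N : Type u) [AddCommGroup N]
    [Module R N] (r : R) (hr : r ∈ IsLocalRing.maximalIdeal R) (hreg : IsSMulRegular N r) :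
    1 ≤ LocCoh.depth R N := by
  unfold LocCoh.depth LocCoh.idealDepth
  split_ifs with h
  · exact le_top
  · refine le_trans ?_ (le_iSup₂ (f := fun (rs : List R)
      (_ : RingTheory.Sequence.IsWeaklyRegular N rs ∧ ∀ r ∈ rs, r ∈ IsLocalRing.maximalIdeal R) =>
        (rs.length : ℕ∞)) [r]
      ⟨(RingTheory.Sequence.isWeaklyRegular_singleton_iff N r).2 hreg, by simpa using hr⟩)
    simp

/-- Let A be a Noetherian ring, T ⊆ Spec A stable under specialization and M a finite A-module. There
are a finite A-module M' and a surjection M → M' which is bijective after localizing at every prime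
outside T and such that M'_p has depth ≥ 1 over A_p for every p in T. (The source states this for
coherent modules on a Noetherian scheme, with uniqueness.) -/
theorem result (A : Type u) [CommRing A] [IsNoetherianRing A] (T : Set (PrimeSpectrum A)) (hT : StableUnderSpecialization T) (M : Type u) [AddCommGroup M] [Module A M] [Module.Finite A M] : ∃ (M' : Type u) (_ : AddCommGroup M') (_ : Module A M') (_ : Module.Finite A M') (f : M →ₗ[A] M'), Function.Surjective f ∧ (∀ p : PrimeSpectrum A, p ∉ T → Function.Bijective (LocalizedModule.map p.asIdeal.primeCompl f)) ∧ ∀ p : PrimeSpectrum A, p ∈ T → 1 ≤ LocCoh.depth (Localization.AtPrime p.asIdeal) (LocalizedModule p.asIdeal.primeCompl M') := by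
  refine ⟨M ⧸ tors T M, inferInstance, inferInstance, inferInstance, (tors T M).mkQ,
    Submodule.mkQ_surjective _, fun p hp => bij T M p hp, fun p hp => ?_⟩
  obtain ⟨r, hr, hreg⟩ := exists_regular T hT M p hp
  exact one_le_depth _ _ (algebraMap A _ r)
    ((IsLocalization.AtPrime.to_map_mem_maximal_iff _ p.asIdeal r).2 hr)
    (hreg.of_isLocalizedModule (Localization.AtPrime p.asIdeal) p.asIdeal.primeCompl
      (LocalizedModule.mkLinearMap _ _))

end Groth.Agent.S1737
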