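import Groth.Statements.S17370

set_option autoImplicit false
universe u v
open CategoryTheory ArtFun ArtFun.Art

namespace Groth.Agent.S17370

theorem result (k : Type u) [Field k] [IsAlgClosed k]
    (F : Art k k ⥤ Type v) (h0 : H0 F) (h2 : Heps F) (h4 : HSq F)
    {B A P : Art k k} (p : B ⟶ A) (hp : IsSmallExt p) (t : B)
    (ht : RingHom.ker p.toAlgHom = Ideal.span {t})
    (p₁ p₂ : P ⟶ B) (hP : IsFibreProd p₁ p₂ p p)
    (g : P ⟶ dual k k) (hg : ∀ z : P, (TrivSqZeroExt.snd (g z) : k) • t = p₂ z - p₁ z)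
    (h' : IsFibreProd p₁ g (toBase B) (toBase (dual k k)))
    (x : F.obj A) (y : F.obj B) (hy : F.map p y = x) :
    Function.Injective (fun θ : F.obj (dual k k) =>
        F.map p₂ ((Equiv.ofBijective (cmp F h') (h2 p₁ g h')).symm
          ⟨(y, θ), @Subsingleton.elim _ h0.2 _ _⟩)) ∧
      ∀ y' : F.obj B, F.map p y' = x →
        ∃ θ : F.obj (dual k k),
          F.map p₂ ((Equiv.ofBijective (cmp F h') (h2 p₁ g h')).symm
            ⟨(y, θ), @Subsingleton.elim _ h0.2 _ _⟩) = y' := by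
  have hbij := h4 p₁ p₂ p hP hp
  -- properties of the element `z θ`
  have hz : ∀ θ : F.obj (dual k k),
      F.map p₁ ((Equiv.ofBijective (cmp F h') (h2 p₁ g h')).symm
        ⟨(y, θ), @Subsingleton.elim _ h0.2 _ _⟩) = y ∧
      F.map g ((Equiv.ofBijective (cmp F h') (h2 p₁ g h')).symm
        ⟨(y, θ), @Subsingleton.elim _ h0.2 _ _⟩) = θ := by
    intro θ
    have := (Equiv.ofBijective (cmp F h') (h2 p₁ g h')).apply_symm_apply
      ⟨(y, θ), @Subsingleton.elim _ h0.2 _ _⟩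
    exact ⟨congrArg (fun w => w.1.1) this, congrArg (fun w => w.1.2) this⟩
  constructor
  · intro θ θ' hθ
    have hθ' : F.map p₂ ((Equiv.ofBijective (cmp F h') (h2 p₁ g h')).symm
        ⟨(y, θ), @Subsingleton.elim _ h0.2 _ _⟩) =
      F.map p₂ ((Equiv.ofBijective (cmp F h') (h2 p₁ g h')).symm
        ⟨(y, θ'), @Subsingleton.elim _ h0.2 _ _⟩) := hθ
    have heq : (Equiv.ofBijective (cmp F h') (h2 p₁ g h')).symm
        ⟨(y, θ), @Subsingleton.elim _ h0.2 _ _⟩ =
      (Equiv.ofBijective (cmp F h') (h2 p₁ g h')).symm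
        ⟨(y, θ'), @Subsingleton.elim _ h0.2 _ _⟩ := by
      apply hbij.1
      apply FibProd.ext
      · exact (hz θ).1.trans (hz θ').1.symm
      · exact hθ'
    rw [← (hz θ).2, ← (hz θ').2, heq]
  · intro y' hy'
    obtain ⟨z, hzz⟩ := hbij.2 ⟨(y, y'), hy.trans hy'.symm⟩
    have hz1 : F.map p₁ z = y := congrArg (fun w => w.1.1) hzz
    have hz2 : F.map p₂ z = y' := congrArg (fun w => w.1.2) hzz
    refine ⟨F.map g z, ?_⟩
    have : (Equiv.ofBijective (cmp F h') (h2 p₁ g h')).symm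
        ⟨(y, F.map g z), @Subsingleton.elim _ h0.2 _ _⟩ = z := by
      rw [Equiv.symm_apply_eq]
      apply FibProd.ext
      · exact hz1.symm
      · rfl
    rw [this, hz2]

end Groth.Agent.S17370
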