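import Groth.Statements.S17376
import Mathlib
-- import your own Groth.Agent.* helpers here

set_option autoImplicit false
universe u
open scoped TensorProduct
open CAlg

namespace Groth.Agent.S17376

section General

variable (k K L R : Type u) [Field k] [Field K] [Algebra k K] [Field L] [Algebra K L]
  [Algebra k L] [IsScalarTower k K L] [CommRing R] [Algebra k R]

/-- the algebra structure of the statement -/
@[reducible] noncomputable def algKL : Algebra (K ⊗[k] R) (L ⊗[k] R) :=
  (Algebra.TensorProduct.map (IsScalarTower.toAlgHom k K L) (AlgHom.id k R)).toRingHom.toAlgebra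

attribute [local instance] algKL

variable {k K L R}

lemma algebraMap_tmul (c : K) (s : R) :
    algebraMap (K ⊗[k] R) (L ⊗[k] R) (c ⊗ₜ s) = (algebraMap K L c) ⊗ₜ s := rfl

lemma smul_tmul_tmul (c : K) (s : R) (l : L) (r : R) :
    (c ⊗ₜ[k] s) • (l ⊗ₜ[k] r : L ⊗[k] R) = (c • l) ⊗ₜ (s * r) := by
  rw [Algebra.smul_def, algebraMap_tmul, Algebra.TensorProduct.tmul_mul_tmul, Algebra.smul_def]

variable {ι : Type*} [Fintype ι] [DecidableEq ι] (ε : Module.Basis ι K L)

/-- the candidate coordinate map (k-linear equivalence) -/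
noncomputable def Phi : (L ⊗[k] R) ≃ₗ[k] (ι →₀ K ⊗[k] R) :=
  (TensorProduct.congr (ε.repr.restrictScalars k) (LinearEquiv.refl k R)) ≪≫ₗ
    (TensorProduct.finsuppLeft k k K R ι)

lemma Phi_tmul (l : L) (r : R) (i : ι) : Phi (R := R) (k := k) ε (l ⊗ₜ r) i = (ε.repr l i) ⊗ₜ r := by
  simp [Phi, TensorProduct.finsuppLeft_apply_tmul_apply]

/-- the candidate parametrisation -/
noncomputable def Psi : (ι →₀ K ⊗[k] R) →ₗ[K ⊗[k] R] (L ⊗[k] R) :=
  Finsupp.linearCombination (K ⊗[k] R) (fun i => (ε i) ⊗ₜ[k] (1 : R))

lemma Psi_Phi (x : L ⊗[k] R) : Psi ε (Phi ε x) = x := by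
  induction x using TensorProduct.induction_on with
  | zero => simp
  | add x y hx hy => rw [map_add, map_add, hx, hy]
  | tmul l r =>
    rw [Psi, Finsupp.linearCombination_apply, Finsupp.sum_fintype _ _ (by simp)]
    simp_rw [Phi_tmul, smul_tmul_tmul, mul_one]
    rw [← TensorProduct.sum_tmul, ε.sum_repr]

lemma Psi_bijective : Function.Bijective (Psi (k := k) (R := R) ε) := by
  constructor
  · intro y₁ y₂ h
    obtain ⟨x₁, rfl⟩ := (Phi (k := k) (R := R) ε).surjective y₁
    obtain ⟨x₂, rfl⟩ := (Phi (k := k) (R := R) ε).surjective y₂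
    rw [Psi_Phi, Psi_Phi] at h
    rw [h]
  · intro x
    exact ⟨_, Psi_Phi ε x⟩

/-- the base-changed basis -/
noncomputable def basisR : Module.Basis ι (K ⊗[k] R) (L ⊗[k] R) :=
  Module.Basis.ofRepr (LinearEquiv.ofBijective (Psi ε) (Psi_bijective ε)).symm

lemma basisR_repr (x : L ⊗[k] R) : (basisR ε).repr x = Phi ε x := by
  apply (LinearEquiv.ofBijective (Psi ε) (Psi_bijective ε)).injective
  rw [basisR]
  simp only [Module.Basis.repr, LinearEquiv.apply_symm_apply]
  exact (Psi_Phi ε x).symm

lemma basisR_apply (i : ι) : basisR (k := k) (R := R) ε i = (ε i) ⊗ₜ 1 := by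
  rw [basisR, Module.Basis.coe_ofRepr]
  simp [Psi]

lemma leftMulMatrix_tmul (l : L) (r : R) (i j : ι) :
    Algebra.leftMulMatrix (basisR (k := k) (R := R) ε) (l ⊗ₜ r) i j
      = (Algebra.leftMulMatrix ε l i j) ⊗ₜ r := by
  rw [Algebra.leftMulMatrix_eq_repr_mul, Algebra.leftMulMatrix_eq_repr_mul, basisR_repr,
    basisR_apply, Algebra.TensorProduct.tmul_mul_tmul, mul_one, Phi_tmul]

end General



section Lattice

variable {K L : Type u} [Field K] [Field L] [Algebra K L] [FiniteDimensional K L]

open Module in
lemma exists_basis_integral (V : Type u) [CommRing V] [IsDomain V] [ValuationRing V] [Algebra V K]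
    [IsFractionRing V K] [Algebra V L] [IsScalarTower V K L] (S : Finset L)
    (hS : ∀ b ∈ S, IsIntegral V b) :
    ∃ (ι : Type u) (_ : Fintype ι) (_ : DecidableEq ι) (ε : Basis ι K L),
      ∀ b ∈ S, ∀ i j, Algebra.leftMulMatrix ε b i j ∈ Set.range (algebraMap V K) := by
  classical
  let c := Module.finBasis K L
  let S₀ : Subalgebra V L := Algebra.adjoin V (S : Set L)
  have hS₀fg : S₀.toSubmodule.FG := fg_adjoin_of_finite S.finite_toSet (fun x hx => hS x hx)
  let P : Submodule V L := Submodule.span V (Set.range c)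
  have hPfg : P.FG := Submodule.fg_span (Set.finite_range c)
  let Λ : Submodule V L := S₀.toSubmodule * P
  have hΛfg : Λ.FG := hS₀fg.mul hPfg
  have hstab : ∀ b ∈ S, ∀ y ∈ Λ, b * y ∈ Λ := by
    intro b hb y hy
    have hbS : b ∈ S₀.toSubmodule := Algebra.subset_adjoin hb
    have : b * y ∈ S₀.toSubmodule * Λ := Submodule.mul_mem_mul hbS hy
    rwa [show S₀.toSubmodule * Λ = Λ from by
      show S₀.toSubmodule * (S₀.toSubmodule * P) = S₀.toSubmodule * P
      rw [← mul_assoc, (Subalgebra.isIdempotentElem_toSubmodule S₀).eq]] at this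
  have hcΛ : ∀ i, c i ∈ Λ := by
    intro i
    have : (1 : L) * c i ∈ S₀.toSubmodule * P :=
      Submodule.mul_mem_mul (one_mem S₀) (Submodule.subset_span ⟨i, rfl⟩)
    simpa using this
  have hlat : Submodule.IsLattice K Λ := by
    refine ⟨hΛfg, ?_⟩
    rw [eq_top_iff, ← c.span_eq]
    apply Submodule.span_le.mpr
    rintro _ ⟨i, rfl⟩
    exact Submodule.subset_span (hcΛ i)
  have : Module.IsTorsionFree V L := Module.IsTorsionFree.trans_faithfulSMul V K L
  have : Module.Flat V Λ := by
    rw [Module.Flat.flat_iff_torsion_eq_bot_of_isBezout,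
      ← Submodule.isTorsionFree_iff_torsion_eq_bot]
    infer_instance
  have : Module.Free V Λ := Module.free_of_flat_of_isLocalRing
  let bV := Module.Free.chooseBasis V Λ
  let ε : Basis (Module.Free.ChooseBasisIndex V Λ) K L := bV.extendOfIsLattice K
  have hrepr : ∀ (y : Λ) i, ε.repr (y : L) i = algebraMap V K (bV.repr y i) := by
    intro y i
    have h1 : (y : L) = ∑ i, (algebraMap V K (bV.repr y i)) • ε i := by
      conv_lhs => rw [← bV.sum_repr y]
      rw [Submodule.coe_sum]
      refine Finset.sum_congr rfl fun i _ => ?_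
      rw [Submodule.coe_smul, Basis.extendOfIsLattice_apply, algebraMap_smul]
    conv_lhs => rw [h1]
    rw [Basis.repr_sum_self]
  refine ⟨_, inferInstance, inferInstance, ε, ?_⟩
  intro b hb i j
  rw [Algebra.leftMulMatrix_eq_repr_mul]
  have hmem : b * ε j ∈ Λ := by
    apply hstab b hb
    rw [Basis.extendOfIsLattice_apply]
    exact (bV j).2
  exact ⟨_, (hrepr ⟨_, hmem⟩ i).symm⟩

end Lattice



section Inter

variable {k K R : Type u} [Field k] [Field K] [Algebra k K] [CommRing R] [Algebra k R]

variable (R) in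
/-- base change of the structure map `W → K` -/
noncomputable def phiW (W : Type u) [CommRing W] [Algebra k W] [Algebra W K] [IsScalarTower k W K] :
    W ⊗[k] R →ₐ[k] K ⊗[k] R :=
  Algebra.TensorProduct.map (IsScalarTower.toAlgHom k W K) (AlgHom.id k R)

variable (W : Type u) [CommRing W] [Algebra k W] [Algebra W K] [IsScalarTower k W K]

lemma phiW_tmul (w : W) (r : R) : phiW R W (w ⊗ₜ[k] r) = (algebraMap W K w) ⊗ₜ r := rfl

open Module in
lemma coord_mem {κ : Type*} (ρ : Basis κ k R) (y : W ⊗[k] R) (i : κ) :
    (Algebra.TensorProduct.basis K ρ).repr (phiW R W y) i ∈ (algebraMap W K).range := by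
  induction y using TensorProduct.induction_on with
  | zero => simp
  | add x y hx hy =>
    rw [map_add, map_add, Finsupp.add_apply]; exact add_mem hx hy
  | tmul w r =>
    rw [phiW_tmul, Algebra.TensorProduct.basis_repr_tmul]
    refine ⟨w * algebraMap k W (ρ.repr r i), ?_⟩
    rw [map_mul, ← IsScalarTower.algebraMap_apply]
    simp [Algebra.smul_def]

open Module in
lemma mem_range_of_coord {κ : Type*} (ρ : Basis κ k R) (x : K ⊗[k] R)
    (hx : ∀ i, (Algebra.TensorProduct.basis K ρ).repr x i ∈ (algebraMap W K).range) :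
    x ∈ Set.range (phiW R W) := by
  have h := (Algebra.TensorProduct.basis K ρ).linearCombination_repr x
  choose a ha using hx
  refine ⟨∑ i ∈ ((Algebra.TensorProduct.basis K ρ).repr x).support, a i ⊗ₜ ρ i, ?_⟩
  rw [map_sum]
  conv_rhs => rw [← h]
  rw [Finsupp.linearCombination_apply, Finsupp.sum]
  refine Finset.sum_congr rfl fun i _ => ?_
  rw [phiW_tmul, Algebra.TensorProduct.basis_apply, ha i, TensorProduct.smul_tmul', smul_eq_mul,
    mul_one]

end Inter

section Val

lemma mem_range_of_forall_valuationSubring {A K : Type u} [CommRing A] [IsDomain A]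
    [IsIntegrallyClosed A] [Field K] [Algebra A K] [IsFractionRing A K] (c : K)
    (hc : ∀ V : ValuationSubring K, (algebraMap A K).range ≤ V.toSubring → c ∈ V) :
    c ∈ (algebraMap A K).range := by
  by_contra hcR
  have : IsIntegrallyClosedIn (algebraMap A K).range K := by
    rw [Subring.isIntegrallyClosedIn_iff]
    intro x hx
    let _ : Algebra A (algebraMap A K).range := (algebraMap A K).rangeRestrict.toAlgebra
    have : IsScalarTower A (algebraMap A K).range K := IsScalarTower.of_algebraMap_eq (fun _ => rfl)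
    have : Algebra.IsIntegral A (algebraMap A K).range :=
      Algebra.isIntegral_of_surjective (algebraMap A K).rangeRestrict_surjective
    have h1 : IsIntegral A x := isIntegral_trans x hx
    obtain ⟨y, hy⟩ := IsIntegrallyClosed.isIntegral_iff.mp h1
    exact ⟨y, hy⟩
  obtain ⟨V, hV, hcV⟩ := Subring.exists_le_valuationSubring_of_isIntegrallyClosedIn hcR
  exact hcV (hc V hV)

end Val

section Reg

open Module in
lemma isRegular_iff_norm {R S ι : Type*} [CommRing R] [CommRing S] [Algebra R S] [Fintype ι]
    [DecidableEq ι] (b : Basis ι R S) (x : S) : IsRegular x ↔ IsRegular (Algebra.norm R x) := by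
  rw [Algebra.norm_eq_matrix_det b, isRegular_iff_mem_nonZeroDivisors (r := Matrix.det _),
    ← Matrix.nonsingular_iff_det_mem_nonZeroDivisors, ← Matrix.isLeftRegular_iff_nonsingular,
    Matrix.isLeftRegular_iff_mulVec_injective, ← isLeftRegular_iff_isRegular]
  have key : ∀ y, (Algebra.leftMulMatrix b x).mulVec (b.equivFun y) = b.equivFun (x * y) := by
    intro y
    simp only [Basis.equivFun_apply]
    exact Algebra.leftMulMatrix_mulVec_repr b x y
  constructor
  · intro hx v w hvw
    obtain ⟨y, rfl⟩ := b.equivFun.surjective v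
    obtain ⟨z, rfl⟩ := b.equivFun.surjective w
    rw [key, key] at hvw
    rw [hx (b.equivFun.injective hvw)]
  · intro hM y z hyz
    apply b.equivFun.injective
    apply hM
    rw [key, key]
    exact congrArg _ hyz

end Reg


section Main

variable {k K L R : Type u} [Field k] [Field K] [Algebra k K] [Field L] [Algebra K L]
  [Algebra k L] [IsScalarTower k K L] [CommRing R] [Algebra k R]

attribute [local instance] algKL

open Module in
lemma norm_sum_mem {ι : Type*} [Fintype ι] [DecidableEq ι] (ε : Basis ι K L)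
    (W : Type u) [CommRing W] [Algebra k W] [Algebra W K] [IsScalarTower k W K]
    {α : Type*} (s : Finset α) (l : α → L) (r : α → R)
    (hm : ∀ a ∈ s, ∀ i j, Algebra.leftMulMatrix ε (l a) i j ∈ Set.range (algebraMap W K)) :
    Algebra.norm (K ⊗[k] R) (∑ a ∈ s, l a ⊗ₜ[k] r a) ∈ Set.range (phiW R W) := by
  classical
  have : ∀ a : α, ∃ m : Matrix ι ι W, a ∈ s → ∀ i j,
      Algebra.leftMulMatrix ε (l a) i j = algebraMap W K (m i j) := by
    intro a
    by_cases ha : a ∈ s
    · choose m hm' using hm a ha
      exact ⟨Matrix.of m, fun _ i j => (hm' i j).symm⟩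
    · exact ⟨0, fun h => absurd h ha⟩
  choose m hm' using this
  let N : Matrix ι ι (W ⊗[k] R) := Matrix.of fun i j => ∑ a ∈ s, (m a i j) ⊗ₜ[k] r a
  have hN : Algebra.leftMulMatrix (basisR ε) (∑ a ∈ s, l a ⊗ₜ[k] r a)
      = (phiW R W).mapMatrix N := by
    ext i j
    rw [map_sum, Matrix.sum_apply]
    simp only [AlgHom.mapMatrix_apply, Matrix.map_apply, N, Matrix.of_apply, map_sum]
    refine Finset.sum_congr rfl fun a ha => ?_
    rw [leftMulMatrix_tmul, hm' a ha, phiW_tmul]
  rw [Algebra.norm_eq_matrix_det (basisR ε), hN, ← AlgHom.map_det]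
  exact ⟨_, rfl⟩

lemma norm_mem_range_V [FiniteDimensional K L] (V : Type u) [CommRing V] [IsDomain V]
    [ValuationRing V] [Algebra V K] [IsFractionRing V K] [Algebra V L] [IsScalarTower V K L]
    [Algebra k V] [IsScalarTower k V K]
    {α : Type*} (s : Finset α) (l : α → L) (r : α → R) (hl : ∀ a ∈ s, IsIntegral V (l a)) :
    Algebra.norm (K ⊗[k] R) (∑ a ∈ s, l a ⊗ₜ[k] r a) ∈ Set.range (phiW R V) := by
  classical
  obtain ⟨ι, _, _, ε, hε⟩ := exists_basis_integral (K := K) (L := L) V (s.image l) (by simpa using hl)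
  exact norm_sum_mem ε V s l r (fun a ha i j => hε (l a) (Finset.mem_image_of_mem l ha) i j)

end Main

section Iota

variable {k A K L R : Type u} [Field k] [CommRing A] [IsDomain A] [Algebra k A]
    [Field K] [Algebra A K] [IsFractionRing A K]
    [Field L] [Algebra K L] [FiniteDimensional K L] [Algebra A L] [IsScalarTower A K L]
    [Algebra k L] [IsScalarTower k A L]
    [CommRing R] [Algebra k R]

variable (k A L R) in
/-- base change of the inclusion of the integral closure -/
noncomputable def iotaB : (integralClosure A L) ⊗[k] R →ₐ[k] L ⊗[k] R :=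
  Algebra.TensorProduct.map ((integralClosure A L).val.restrictScalars k) (AlgHom.id k R)

omit [IsDomain A] [FiniteDimensional K L] in
lemma iotaB_tmul (b : integralClosure A L) (r : R) : iotaB k A L R (b ⊗ₜ r) = (b : L) ⊗ₜ r := rfl

omit [IsDomain A] [FiniteDimensional K L] in
lemma iotaB_injective : Function.Injective (iotaB k A L R) := by
  have h : ∀ x, iotaB k A L R x
      = LinearMap.rTensor R (((integralClosure A L).val.restrictScalars k).toLinearMap) x := by
    intro x
    induction x using TensorProduct.induction_on with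
    | zero => simp
    | add x y hx hy => rw [map_add, map_add, hx, hy]
    | tmul b r => rfl
  intro x y hxy
  rw [h, h] at hxy
  exact Module.Flat.rTensor_preserves_injective_linearMap _ (fun a b hab => Subtype.ext hab) hxy

include K in
lemma exists_mul_mem_range (z : L ⊗[k] R) :
    ∃ a : A, a ≠ 0 ∧ ((algebraMap A L a) ⊗ₜ[k] (1 : R)) * z ∈ Set.range (iotaB k A L R) := by
  induction z using TensorProduct.induction_on with
  | zero => exact ⟨1, one_ne_zero, 0, by simp⟩
  | tmul l r =>
    obtain ⟨a, ha, hint⟩ := exists_integral_multiples A K ({l} : Finset L)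
    have hal : IsIntegral A (a • l) := hint l (Finset.mem_singleton_self l)
    refine ⟨a, ha, (⟨a • l, hal⟩ : integralClosure A L) ⊗ₜ r, ?_⟩
    rw [iotaB_tmul, Algebra.TensorProduct.tmul_mul_tmul, one_mul]
    show (a • l) ⊗ₜ[k] r = _
    rw [Algebra.smul_def]
  | add x y hx hy =>
    obtain ⟨a, ha, u, hu⟩ := hx
    obtain ⟨b, hb, v, hv⟩ := hy
    refine ⟨a * b, mul_ne_zero ha hb,
      ((algebraMap A (integralClosure A L) b) ⊗ₜ 1) * u
        + ((algebraMap A (integralClosure A L) a) ⊗ₜ 1) * v, ?_⟩
    have e : ((algebraMap A L a * algebraMap A L b) ⊗ₜ[k] (1 : R))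
        = (algebraMap A L a ⊗ₜ 1) * (algebraMap A L b ⊗ₜ 1) := by
      rw [Algebra.TensorProduct.tmul_mul_tmul, mul_one]
    rw [map_add, map_mul, map_mul, hu, hv, iotaB_tmul, iotaB_tmul, map_mul, mul_add, e]
    have e1 : ((algebraMap A (integralClosure A L) b : integralClosure A L) : L)
        = algebraMap A L b := rfl
    have e2 : ((algebraMap A (integralClosure A L) a : integralClosure A L) : L)
        = algebraMap A L a := rfl
    rw [e1, e2]
    ring

include K in
lemma isRegular_iota_iff (β : (integralClosure A L) ⊗[k] R) :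
    IsRegular β ↔ IsRegular (iotaB k A L R β) := by
  rw [isRegular_iff_mem_nonZeroDivisors, isRegular_iff_mem_nonZeroDivisors,
    mem_nonZeroDivisors_iff_right, mem_nonZeroDivisors_iff_right]
  constructor
  · intro hβ z hz
    obtain ⟨a, ha, z', hz'⟩ := exists_mul_mem_range (K := K) (k := k) (A := A) z
    have h1 : iotaB k A L R (z' * β) = 0 := by
      rw [map_mul, hz', mul_assoc, hz, mul_zero]
    have h2 : z' * β = 0 := iotaB_injective (by rw [h1, map_zero])
    have h3 : z' = 0 := hβ z' h2
    rw [h3, map_zero] at hz'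
    have hne : algebraMap A L a ≠ 0 := by
      rw [IsScalarTower.algebraMap_apply A K L]
      intro h0
      have := (algebraMap K L).injective (h0.trans (map_zero _).symm)
      exact ha (IsFractionRing.injective A K (this.trans (map_zero _).symm))
    calc z = (((algebraMap A L a)⁻¹ ⊗ₜ[k] (1 : R)) * ((algebraMap A L a) ⊗ₜ[k] (1 : R))) * z := by
          rw [Algebra.TensorProduct.tmul_mul_tmul, inv_mul_cancel₀ hne, mul_one,
            ← Algebra.TensorProduct.one_def, one_mul]
      _ = 0 := by rw [mul_assoc, ← hz', mul_zero]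
  · intro hx z' hz'
    apply iotaB_injective (k := k) (A := A) (L := L) (R := R)
    rw [map_zero]
    apply hx
    rw [← map_mul, hz', map_zero]

end Iota

section Final


/-- Let k be a field, A an integrally closed domain over k with fraction field K, L a finite extension
of K, B the integral closure of A in L, and R an arbitrary commutative k-algebra; view L ⊗_k R as an
algebra over K ⊗_k R through K → L. Then L ⊗_k R is finite free over K ⊗_k R, so the norm
(determinant of multiplication) L ⊗_k R → K ⊗_k R is defined; the norm of any element β of B ⊗_k R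
(mapped into L ⊗_k R) lies in the image of A ⊗_k R; and β is a nonzerodivisor in B ⊗_k R if and only
if its norm is a nonzerodivisor in K ⊗_k R. (Nonzerodivisors of A ⊗_k R are exactly its elements
that are nonzerodivisors in K ⊗_k R, the latter being a localisation of the former at
nonzerodivisors, so this is the source's formulation with the norm regarded in A ⊗_k R.) -/
theorem result (k A K L R : Type u) [Field k]
    [CommRing A] [IsDomain A] [IsIntegrallyClosed A] [Algebra k A]
    [Field K] [Algebra A K] [IsFractionRing A K] [Algebra k K] [IsScalarTower k A K]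
    [Field L] [Algebra K L] [FiniteDimensional K L] [Algebra A L] [IsScalarTower A K L]
    [Algebra k L] [IsScalarTower k K L] [IsScalarTower k A L]
    [CommRing R] [Algebra k R] :
    letI : Algebra (K ⊗[k] R) (L ⊗[k] R) :=
      (Algebra.TensorProduct.map (IsScalarTower.toAlgHom k K L) (AlgHom.id k R)).toRingHom.toAlgebra
    Module.Free (K ⊗[k] R) (L ⊗[k] R) ∧ Module.Finite (K ⊗[k] R) (L ⊗[k] R) ∧
      ∀ b : (integralClosure A L) ⊗[k] R,
        Algebra.norm (K ⊗[k] R)
            (Algebra.TensorProduct.map ((integralClosure A L).val.restrictScalars k) (AlgHom.id k R) b) ∈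
          Set.range (Algebra.TensorProduct.map (IsScalarTower.toAlgHom k A K) (AlgHom.id k R)) ∧
        (IsRegular b ↔ IsRegular (Algebra.norm (K ⊗[k] R)
            (Algebra.TensorProduct.map ((integralClosure A L).val.restrictScalars k) (AlgHom.id k R) b))) := by
  classical
  letI : Algebra (K ⊗[k] R) (L ⊗[k] R) := algKL k K L R
  let c := Module.finBasis K L
  refine ⟨Module.Free.of_basis (basisR c), Module.Finite.of_basis (basisR c), fun β => ⟨?_, ?_⟩⟩
  · change Algebra.norm (K ⊗[k] R) (iotaB k A L R β) ∈ Set.range (phiW R A)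
    obtain ⟨S, hS⟩ := TensorProduct.exists_finset β
    have hx : iotaB k A L R β = ∑ p ∈ S, ((p.1 : L)) ⊗ₜ[k] p.2 := by
      rw [hS, map_sum]
      rfl
    rw [hx]
    let ρ := Module.Free.chooseBasis k R
    apply mem_range_of_coord A ρ
    intro i
    apply mem_range_of_forall_valuationSubring
    intro V hV
    -- instances on V
    letI : Algebra A V := (RingHom.codRestrict (algebraMap A K) V (fun a => hV ⟨a, rfl⟩)).toAlgebra
    letI : Algebra V L := ((algebraMap K L).comp (algebraMap V K)).toAlgebra
    haveI : IsScalarTower V K L := IsScalarTower.of_algebraMap_eq (fun _ => rfl)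
    haveI : IsScalarTower A V K := IsScalarTower.of_algebraMap_eq (fun _ => rfl)
    haveI : IsScalarTower A V L := IsScalarTower.of_algebraMap_eq (fun a => by
      rw [IsScalarTower.algebraMap_apply A K L]; rfl)
    letI : Algebra k V := ((algebraMap A V).comp (algebraMap k A)).toAlgebra
    haveI : IsScalarTower k V K := IsScalarTower.of_algebraMap_eq (fun a => by
      rw [IsScalarTower.algebraMap_apply k A K]; rfl)
    have hmem := norm_mem_range_V (k := k) (K := K) (L := L) (R := R) V S
      (fun p => (p.1 : L)) (fun p => p.2) (fun p _ => (p.1.2 : IsIntegral A (p.1 : L)).tower_top)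
    obtain ⟨y, hy⟩ := hmem
    have := coord_mem (k := k) (K := K) (R := R) V ρ y i
    rw [hy] at this
    obtain ⟨v, hv⟩ := this
    rw [← hv]
    exact v.2
  · change IsRegular β ↔ IsRegular (Algebra.norm (K ⊗[k] R) (iotaB k A L R β))
    rw [isRegular_iota_iff (K := K)]
    exact isRegular_iff_norm (basisR c) _

end Final

end Groth.Agent.S17376
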