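import Groth.Statements.S17386
import Groth.Agent.Lib.StrictTransform
import Groth.Agent.Lib.BlowUpUniv5
import Groth.Agent.Lib.ClosedImmStalk

set_option autoImplicit false
universe u
open BlowUp

namespace Groth.Agent.S17386

open AlgebraicGeometry CategoryTheory Limits in
/-- Let X be any scheme, J_1, …, J_n quasi-coherent ideals on X with closed subschemes Y_i, and b : X' →
X a blowing up of X in the ideal J_1 + ⋯ + J_n of the intersection of the Y_i. For each i let b_i' :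
Y_i' → Y_i be a blowing up of Y_i in the inverse image of J_1 + ⋯ + J_n and k_i : Y_i' → X' the
morphism with k_i ≫ b = b_i' ≫ (Y_i → X), so that the image of k_i is the strict transform of Y_i.
Then the strict transforms have empty common intersection: no point of X' lies in the image of every
k_i. -/
theorem result
    {X X' : Scheme.{u}} {n : ℕ} (𝓙 : Fin n → X.IdealSheafData) (b : X' ⟶ X)
    (hb : BlowUp.IsBlowUp b (⨆ i, 𝓙 i))
    (Y' : Fin n → Scheme.{u}) (b' : ∀ i, Y' i ⟶ (𝓙 i).subscheme)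
    (hb' : ∀ i, BlowUp.IsBlowUp (b' i) ((⨆ j, 𝓙 j).comap (𝓙 i).subschemeι))
    (k : ∀ i, Y' i ⟶ X') (hk : ∀ i, k i ≫ b = b' i ≫ (𝓙 i).subschemeι) :
    (⋂ i, Set.range (fun y => k i y)) = (∅ : Set X') := by
  rw [Set.eq_empty_iff_forall_notMem]
  intro x' hx'
  rw [Set.mem_iInter] at hx'
  -- a good affine neighbourhood of `x'`
  obtain ⟨_, ⟨V₀, hV₀, rfl⟩, hxV₀, -⟩ :=
    X.isBasis_affineOpens.exists_subset_of_mem_open (Set.mem_univ (b x')) isOpen_univ
  obtain ⟨V', t, hxV', hV'le, ht, hIt⟩ :=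
    Groth.Agent.Lib.BlowUpUniv.exists_good hb x' (b ⁻¹ᵁ V₀) hxV₀
  have hideal := Groth.Agent.Lib.IdealComap.ideal_comap (⨆ i, 𝓙 i) b V₀ hV₀ V'.1 V'.2 hV'le
  have hIt' : ((⨆ i, 𝓙 i).comap b).ideal ⟨V'.1, V'.2⟩ = Ideal.span {t} := hIt
  rw [hIt', Scheme.IdealSheafData.ideal_iSup, iSup_apply, Ideal.map_iSup] at hideal
  -- decompose `t`
  have htmem : t ∈ ⨆ i, Ideal.map (b.appLE V₀ V'.1 hV'le).hom ((𝓙 i).ideal ⟨V₀, hV₀⟩) := by
    rw [← hideal]; exact Ideal.mem_span_singleton_self t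
  have htmem' : t ∈ ⨆ i ∈ (Finset.univ : Finset (Fin n)),
      Ideal.map (b.appLE V₀ V'.1 hV'le).hom ((𝓙 i).ideal ⟨V₀, hV₀⟩) := by
    simpa using htmem
  obtain ⟨μ, hμ⟩ := (Submodule.mem_iSup_finset_iff_exists_sum _ _).mp htmem'
  have hdvd : ∀ i, ∃ c : Γ(X', V'.1), (μ i : Γ(X', V'.1)) = c * t := by
    intro i
    have h1 : (μ i : Γ(X', V'.1)) ∈ Ideal.span {t} := by
      rw [hideal]
      exact (le_iSup (fun i => Ideal.map (b.appLE V₀ V'.1 hV'le).hom
        ((𝓙 i).ideal ⟨V₀, hV₀⟩)) i) (μ i).2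
    obtain ⟨c, hc⟩ := Ideal.mem_span_singleton'.mp h1
    exact ⟨c, hc.symm⟩
  choose c hc using hdvd
  have hsum : ∑ i, c i = 1 := by
    have h1 : (∑ i, c i) * t = 1 * t := by
      rw [Finset.sum_mul, one_mul]
      exact (Finset.sum_congr rfl (fun i _ => (hc i).symm)).trans hμ
    exact (mul_cancel_right_mem_nonZeroDivisors ht).mp h1
  -- some `c i` does not vanish at `x'`
  obtain ⟨i, hi⟩ : ∃ i, c i ∉ (V'.2.primeIdealOf ⟨x', hxV'⟩).asIdeal := by
    by_contra hno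
    push Not at hno
    have h1 : ∑ i, c i ∈ (V'.2.primeIdealOf ⟨x', hxV'⟩).asIdeal :=
      Ideal.sum_mem _ (fun i _ => hno i)
    rw [hsum] at h1
    exact (V'.2.primeIdealOf ⟨x', hxV'⟩).isPrime.ne_top ((Ideal.eq_top_iff_one _).mpr h1)
  have hxc : x' ∈ X'.basicOpen (c i) :=
    (Groth.Agent.Lib.ClosedImmStalk.mem_basicOpen_iff_notMem_primeIdealOf V'.1 V'.2 x' hxV'
      (c i)).mpr hi
  obtain ⟨y, hy⟩ := hx' i
  have hy' : k i y = x' := hy
  -- the effective Cartier ideal on the strict transform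
  have hK : BlowUp.IsEffCartierIdeal (((⨆ j, 𝓙 j).comap b).comap (k i)) := by
    have h1 := (hb' i).1
    rwa [← Scheme.IdealSheafData.comap_comp, ← hk i, Scheme.IdealSheafData.comap_comp] at h1
  obtain ⟨_, ⟨W, hW, rfl⟩, hyW, hWsub⟩ :=
    (Y' i).isBasis_affineOpens.exists_subset_of_mem_open
      (show y ∈ (((k i) ⁻¹ᵁ V'.1 : (Y' i).Opens) : Set (Y' i)) from by
        change k i y ∈ V'.1; rw [hy']; exact hxV') ((k i) ⁻¹ᵁ V'.1).2
  have hle : W ≤ (k i) ⁻¹ᵁ V'.1 := hWsub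
  have hidealW := Groth.Agent.Lib.IdealComap.ideal_comap ((⨆ j, 𝓙 j).comap b) (k i) V'.1 V'.2
    W hW hle
  rw [hIt', Ideal.map_span, Set.image_singleton] at hidealW
  -- `κ` kills `μ i`
  have hkill : ((k i).appLE V'.1 W hle).hom (μ i : Γ(X', V'.1)) = 0 := by
    have hle' : Ideal.map (b.appLE V₀ V'.1 hV'le).hom ((𝓙 i).ideal ⟨V₀, hV₀⟩) ≤
        RingHom.ker ((k i).appLE V'.1 W hle).hom := by
      rw [Ideal.map_le_iff_le_comap]
      intro s hs
      rw [Ideal.mem_comap, RingHom.mem_ker]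
      have h1 := Scheme.Hom.appLE_comp_appLE (k i) b V₀ V'.1 W hV'le hle
      have h2 : ((k i).appLE V'.1 W hle).hom ((b.appLE V₀ V'.1 hV'le).hom s) =
          (b.appLE V₀ V'.1 hV'le ≫ (k i).appLE V'.1 W hle).hom s := rfl
      rw [h2, h1]
      have h3 : ∀ (φ : Y' i ⟶ X) (hφ : φ = b' i ≫ (𝓙 i).subschemeι) (e : W ≤ φ ⁻¹ᵁ V₀),
          (φ.appLE V₀ W e).hom s = 0 := by
        intro φ hφ e
        subst hφ
        exact Groth.Agent.Lib.StrictTransform.appLE_comp_subschemeι_eq_zero (𝓙 i) (b' i)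
          ⟨V₀, hV₀⟩ W e s hs
      exact h3 _ (hk i) _
    exact hle' (μ i).2
  refine Groth.Agent.Lib.StrictTransform.not_mem_basicOpen_of_mul_ideal_eq_zero _ hK ⟨W, hW⟩
    (((k i).appLE V'.1 W hle).hom (c i)) ?_ y hyW ?_
  · intro a ha
    rw [hidealW] at ha
    obtain ⟨r, rfl⟩ := Ideal.mem_span_singleton'.mp ha
    rw [mul_left_comm, ← map_mul, ← hc i, hkill, mul_zero]
  · rw [Scheme.basicOpen_appLE]
    refine ⟨hyW, ?_⟩
    change k i y ∈ X'.basicOpen (c i)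
    rw [hy']
    exact hxc

end Groth.Agent.S17386
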