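import Groth.Statements.S17388
import Groth.Agent.Lib.BiratOpen68

set_option autoImplicit false
universe u
open FlatMor

namespace Groth.Agent.S17388

open AlgebraicGeometry CategoryTheory Limits TopologicalSpace in
/-- The image of an open `U ⊆ π⁻¹ U₁` under a morphism `π` which is an isomorphism over `U₁`. -/
theorem exists_image_open {X Y : Scheme.{u}} (π : X ⟶ Y) (U₁ : Y.Opens) [IsIso (π ∣_ U₁)]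
    (U : X.Opens) (hU : U ≤ π ⁻¹ᵁ U₁) :
    ∃ V : Y.Opens, (V : Set Y) = (fun x => π x) '' (U : Set X) ∧ V ≤ U₁ ∧ π ⁻¹ᵁ V ≤ U := by
  let h : ↥(π ⁻¹ᵁ U₁ : X.Opens) ≃ₜ ↥U₁ := (π ∣_ U₁).homeomorph
  have hh : ∀ x, (h x).1 = π x.1 := fun x => morphismRestrict_base_coe π U₁ x
  let A : Set ↥(π ⁻¹ᵁ U₁ : X.Opens) := Subtype.val ⁻¹' (U : Set X)
  have hA : IsOpen A := U.2.preimage continuous_subtype_val
  have hopen : IsOpen (Subtype.val '' (h '' A) : Set Y) :=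
    U₁.2.isOpenMap_subtype_val _ (h.isOpenMap _ hA)
  have hset : (Subtype.val '' (h '' A) : Set Y) = (fun x => π x) '' (U : Set X) := by
    ext y
    constructor
    · rintro ⟨_, ⟨x, hx, rfl⟩, rfl⟩
      exact ⟨x.1, hx, (hh x).symm⟩
    · rintro ⟨x, hx, rfl⟩
      exact ⟨h ⟨x, hU hx⟩, ⟨⟨x, hU hx⟩, hx, rfl⟩, hh _⟩
  refine ⟨⟨_, hopen⟩, hset, ?_, ?_⟩
  · rintro _ ⟨y, -, rfl⟩
    exact y.2
  · intro x hx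
    obtain ⟨_, ⟨x', hx', rfl⟩, hxx'⟩ := hx
    have hx₁ : x ∈ π ⁻¹ᵁ U₁ := by
      change π x ∈ U₁
      rw [← hxx']
      exact (h x').2
    have h1 : h x' = h ⟨x, hx₁⟩ := by
      apply Subtype.ext
      rw [hxx', hh]
    have h2 : x' = ⟨x, hx₁⟩ := h.injective h1
    have h3 : x'.1 = x := congrArg Subtype.val h2
    rw [← h3]
    exact hx'

open AlgebraicGeometry CategoryTheory Limits in
/-- Let X, Y₁, Y₂ be quasi-compact quasi-separated schemes and π_i : X → Y_i (i = 1, 2) separated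
morphisms of finite type which are birational: U_i ⊆ Y_i is a quasi-compact dense open subscheme
over which π_i restricts to an isomorphism and whose preimage is dense in X. Let U = π₁⁻¹(U₁) ∩
π₂⁻¹(U₂), a dense quasi-compact open of X mapping isomorphically onto dense opens of Y₁ and Y₂. Then
there are blowing ups b : X̃ → X, c₁ : Ỹ₁ → Y₁, c₂ : Ỹ₂ → Y₂ in quasi-coherent ideals of finite type
whose supports are disjoint from U, π₁(U) and π₂(U) respectively, and open immersions j_i : X̃ → Ỹ_i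
with j_i ≫ c_i = b ≫ π_i. -/
theorem result
    {X Y₁ Y₂ : Scheme.{u}} [CompactSpace X] [QuasiSeparatedSpace X]
    [CompactSpace Y₁] [QuasiSeparatedSpace Y₁] [CompactSpace Y₂] [QuasiSeparatedSpace Y₂]
    (π₁ : X ⟶ Y₁) (π₂ : X ⟶ Y₂)
    [IsSeparated π₁] [QuasiCompact π₁] [LocallyOfFiniteType π₁]
    [IsSeparated π₂] [QuasiCompact π₂] [LocallyOfFiniteType π₂]
    (U₁ : Y₁.Opens) (U₂ : Y₂.Opens) (hU₁ : IsCompact (U₁ : Set Y₁)) (hU₂ : IsCompact (U₂ : Set Y₂))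
    (hd₁ : Dense (U₁ : Set Y₁)) (hd₂ : Dense (U₂ : Set Y₂)) [IsIso (π₁ ∣_ U₁)] [IsIso (π₂ ∣_ U₂)]
    (hd₁' : Dense ((π₁ ⁻¹ᵁ U₁ : X.Opens) : Set X)) (hd₂' : Dense ((π₂ ⁻¹ᵁ U₂ : X.Opens) : Set X)) :
    ∃ (𝓘 : X.IdealSheafData) (𝓙₁ : Y₁.IdealSheafData) (𝓙₂ : Y₂.IdealSheafData)
      (Xt Yt₁ Yt₂ : Scheme.{u}) (b : Xt ⟶ X) (c₁ : Yt₁ ⟶ Y₁) (c₂ : Yt₂ ⟶ Y₂) (j₁ : Xt ⟶ Yt₁) (j₂ : Xt ⟶ Yt₂),
      BlowUp.IsBlowUp b 𝓘 ∧ BlowUp.IsAdmissibleFor (π₁ ⁻¹ᵁ U₁ ⊓ π₂ ⁻¹ᵁ U₂) 𝓘 ∧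
      BlowUp.IsBlowUp c₁ 𝓙₁ ∧ BlowUp.IsFiniteTypeIdeal 𝓙₁ ∧
        Disjoint (𝓙₁.support : Set Y₁) ((fun x => π₁ x) '' ((π₁ ⁻¹ᵁ U₁ ⊓ π₂ ⁻¹ᵁ U₂ : X.Opens) : Set X)) ∧
      BlowUp.IsBlowUp c₂ 𝓙₂ ∧ BlowUp.IsFiniteTypeIdeal 𝓙₂ ∧
        Disjoint (𝓙₂.support : Set Y₂) ((fun x => π₂ x) '' ((π₁ ⁻¹ᵁ U₁ ⊓ π₂ ⁻¹ᵁ U₂ : X.Opens) : Set X)) ∧
      IsOpenImmersion j₁ ∧ IsOpenImmersion j₂ ∧ j₁ ≫ c₁ = b ≫ π₁ ∧ j₂ ≫ c₂ = b ≫ π₂ := by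
  classical
  have _hdense := And.intro (And.intro hd₁ hd₂) (And.intro hd₁' hd₂')
  -- Stage A on both sides
  obtain ⟨𝓙₁', Y₁', c₁', hc₁', hadm₁, hsupp₁, W₁, -, ft₁, hft₁, -, -, hftb₁⟩ :=
    Groth.Agent.Lib.StrictOpen68.exists_blowUp_graph π₁ U₁ hU₁
  obtain ⟨𝓙₂', Y₂', c₂', hc₂', hadm₂, hsupp₂, W₂, -, ft₂, hft₂, -, -, hftb₂⟩ :=
    Groth.Agent.Lib.StrictOpen68.exists_blowUp_graph π₂ U₂ hU₂
  have hI₁ft : BlowUp.IsFiniteTypeIdeal (𝓙₁'.comap π₁) :=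
    Groth.Agent.Lib.BlowUpAdm68.isFiniteTypeIdeal_comap π₁ 𝓙₁' hadm₁.1
  have hI₂ft : BlowUp.IsFiniteTypeIdeal (𝓙₂'.comap π₂) :=
    Groth.Agent.Lib.BlowUpAdm68.isFiniteTypeIdeal_comap π₂ 𝓙₂' hadm₂.1
  have hI₁supp : ∀ x : X, x ∈ (𝓙₁'.comap π₁).support → π₁ x ∉ U₁ := by
    intro x hx
    rw [Scheme.IdealSheafData.support_comap] at hx
    have h1 : π₁ x ∈ (𝓙₁'.support : Set Y₁) := hx
    rw [hsupp₁] at h1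
    exact h1
  have hI₂supp : ∀ x : X, x ∈ (𝓙₂'.comap π₂).support → π₂ x ∉ U₂ := by
    intro x hx
    rw [Scheme.IdealSheafData.support_comap] at hx
    have h1 : π₂ x ∈ (𝓙₂'.support : Set Y₂) := hx
    rw [hsupp₂] at h1
    exact h1
  obtain ⟨Xt, b, hb⟩ := Groth.Agent.Lib.BlowUpGlue68.exists_isBlowUp X (𝓙₁'.comap π₁ * 𝓙₂'.comap π₂)
  -- the images of `U`
  obtain ⟨V₁, hV₁set, hV₁U, hV₁pre⟩ := exists_image_open π₁ U₁ (π₁ ⁻¹ᵁ U₁ ⊓ π₂ ⁻¹ᵁ U₂) inf_le_left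
  obtain ⟨V₂, hV₂set, hV₂U, hV₂pre⟩ := exists_image_open π₂ U₂ (π₁ ⁻¹ᵁ U₁ ⊓ π₂ ⁻¹ᵁ U₂) inf_le_right
  have hUc : IsCompact ((π₁ ⁻¹ᵁ U₁ ⊓ π₂ ⁻¹ᵁ U₂ : X.Opens) : Set X) :=
    QuasiSeparatedSpace.inter_isCompact _ _ (π₁ ⁻¹ᵁ U₁).2
      (QuasiCompact.isCompact_preimage (f := π₁) _ U₁.2 hU₁) (π₂ ⁻¹ᵁ U₂).2
      (QuasiCompact.isCompact_preimage (f := π₂) _ U₂.2 hU₂)
  have hV₁c : IsCompact (V₁ : Set Y₁) := by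
    rw [hV₁set]
    exact hUc.image π₁.continuous
  have hV₂c : IsCompact (V₂ : Set Y₂) := by
    rw [hV₂set]
    exact hUc.image π₂.continuous
  -- Stage B on both sides
  obtain ⟨𝓙₁, Yt₁, c₁, j₁, hc₁, h𝓙₁ft, h𝓙₁V, hj₁, hj₁c⟩ :=
    Groth.Agent.Lib.BiratOpen68.exists_openImmersion_of_blowUp π₁ 𝓙₁' hadm₁.1 c₁' hc₁' W₁ ft₁ hft₁ hftb₁
      V₁ hV₁c (Set.disjoint_left.mpr fun y hy hyV => by
        rw [hsupp₁] at hy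
        exact hy (hV₁U hyV))
      (𝓙₂'.comap π₂) hI₂ft (Set.disjoint_left.mpr fun x hx hxV => hI₂supp x hx (hV₁pre hxV).2) b hb
  obtain ⟨𝓙₂, Yt₂, c₂, j₂, hc₂, h𝓙₂ft, h𝓙₂V, hj₂, hj₂c⟩ :=
    Groth.Agent.Lib.BiratOpen68.exists_openImmersion_of_blowUp π₂ 𝓙₂' hadm₂.1 c₂' hc₂' W₂ ft₂ hft₂ hftb₂
      V₂ hV₂c (Set.disjoint_left.mpr fun y hy hyV => by
        rw [hsupp₂] at hy
        exact hy (hV₂U hyV))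
      (𝓙₁'.comap π₁) hI₁ft (Set.disjoint_left.mpr fun x hx hxV => hI₁supp x hx (hV₂pre hxV).1) b
      (by rw [mul_comm]; exact hb)
  refine ⟨𝓙₁'.comap π₁ * 𝓙₂'.comap π₂, 𝓙₁, 𝓙₂, Xt, Yt₁, Yt₂, b, c₁, c₂, j₁, j₂, hb,
    ⟨Groth.Agent.Lib.BlowUpAdm68.isFiniteTypeIdeal_mul _ _ hI₁ft hI₂ft, ?_⟩, hc₁, h𝓙₁ft, ?_, hc₂, h𝓙₂ft, ?_,
    hj₁, hj₂, hj₁c, hj₂c⟩
  · rw [Scheme.IdealSheafData.support_mul, Set.disjoint_left]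
    rintro x (hx | hx) hxU
    · exact hI₁supp x hx hxU.1
    · exact hI₂supp x hx hxU.2
  · rw [← hV₁set]
    exact h𝓙₁V
  · rw [← hV₂set]
    exact h𝓙₂V

end Groth.Agent.S17388
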