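import Groth.Statements.S17390
import Groth.Agent.Lib.QuasiDomBlowUp68
import Groth.Agent.Lib.BlowUpProper68

set_option autoImplicit false
universe u
open FlatMor

namespace Groth.Agent.S17390

open AlgebraicGeometry CategoryTheory Limits in
/-- Let S be a quasi-compact quasi-separated scheme, X and Y separated S-schemes of finite type, U a
quasi-compact scheme with an open immersion jX : U → X with dense image (so U is separated of finite
type over S), V ⊆ Y a quasi-compact open subscheme with an open immersion jV : U → V which is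
schematically dense and such that U has dense image in Y, and φ : V → X an S-morphism with jV ≫ φ =
jX which is a quasi-domination of Y over X (its graph morphism V → Y ×_S X has closed image). Let I
be a quasi-coherent ideal of finite type on X with support disjoint from the image of U and b : X̃ →
X a blowing up of X in I; let W ⊆ X̃ be an open subscheme, u : U → W the lift of jX (u ≫ W.ι ≫ b =
jX), assumed schematically dense as a morphism to X̃, and ψ : W → V an S-morphism with u ≫ ψ = jV
which is a quasi-domination of X̃ over V (its graph morphism W → X̃ ×_S V has closed image). Then ψ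
is a blowing up of V in the inverse image ideal I·O_V, hence proper, and the graph morphism W → X̃
×_S Y of ψ followed by V ⊆ Y has closed image. -/
theorem result
    {S U X Y Xt : Scheme.{u}} [CompactSpace S] [QuasiSeparatedSpace S]
    (gX : X ⟶ S) (gY : Y ⟶ S)
    [IsSeparated gX] [QuasiCompact gX] [LocallyOfFiniteType gX]
    [IsSeparated gY] [QuasiCompact gY] [LocallyOfFiniteType gY]
    (jX : U ⟶ X) [IsOpenImmersion jX] [IsDominant jX] [CompactSpace U]
    (V : Y.Opens) (hVc : IsCompact (V : Set Y))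
    (jV : U ⟶ (V : Scheme.{u})) [IsOpenImmersion jV] [IsSchemeTheoreticallyDominant jV]
    [IsDominant (jV ≫ V.ι)]
    (φ : (V : Scheme.{u}) ⟶ X) (hφU : jV ≫ φ = jX) (hφ : V.ι ≫ gY = φ ≫ gX)
    (hφcl : IsClosed (Set.range (fun x => pullback.lift V.ι φ hφ x)))
    (𝓘 : X.IdealSheafData) (h𝓘 : BlowUp.IsAdmissibleFor jX.opensRange 𝓘)
    (b : Xt ⟶ X) (hb : BlowUp.IsBlowUp b 𝓘)
    (W : Xt.Opens) (u : U ⟶ (W : Scheme.{u})) (hu : u ≫ W.ι ≫ b = jX)
    [IsSchemeTheoreticallyDominant (u ≫ W.ι)]
    (ψ : (W : Scheme.{u}) ⟶ (V : Scheme.{u})) (hψU : u ≫ ψ = jV)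
    (hψ : W.ι ≫ b ≫ gX = ψ ≫ V.ι ≫ gY)
    (hψcl : IsClosed (Set.range (fun x => pullback.lift W.ι ψ hψ x))) :
    BlowUp.IsBlowUp ψ (𝓘.comap φ) ∧
      IsClosed (Set.range (fun x => pullback.lift (f := b ≫ gX) (g := gY) W.ι (ψ ≫ V.ι)
        (hψ.trans (Category.assoc ψ V.ι gY).symm) x)) := by
  -- finiteness / separation bookkeeping
  have hXqs : QuasiSeparatedSpace X := quasiSeparatedSpace_of_quasiSeparated gX
  have hYqs : QuasiSeparatedSpace Y := quasiSeparatedSpace_of_quasiSeparated gY
  have hVqs : QuasiSeparatedSpace (V : Scheme.{u}) := quasiSeparatedSpace_of_quasiSeparated V.ι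
  have hbproper : IsProper b :=
    Groth.Agent.Lib.BlowUpProper68.isProper_of_isBlowUp_of_isFiniteTypeIdeal b 𝓘 hb h𝓘.1
  have hXtqs : QuasiSeparatedSpace Xt := quasiSeparatedSpace_of_quasiSeparated b
  have hjVqc : QuasiCompact jV := inferInstance
  have huWqc : QuasiCompact (u ≫ W.ι) := inferInstance
  have hudom : IsSchemeTheoreticallyDominant u :=
    Groth.Agent.Lib.QuasiDomBlowUp68.isSchemeTheoreticallyDominant_of_comp_isOpenImmersion u W.ι
  -- the two morphisms `W ⟶ X` agree
  have hcomm : W.ι ≫ b = ψ ≫ φ := by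
    apply Groth.Agent.Lib.SchDense68.ext_of_isSchemeTheoreticallyDominant_of_isSeparated gX
      (by rw [Category.assoc, hψ, Category.assoc, ← hφ]) u
    rw [hu, ← Category.assoc, hψU, hφU]
  -- the graph of `ψ` in `Xt ×_S V` is a closed immersion
  have hΓ₀ : IsClosedImmersion (pullback.lift W.ι ψ hψ) :=
    Groth.Agent.Lib.QuasiDomBlowUp68.isClosedImmersion_lift W.ι ψ (b ≫ gX) (V.ι ≫ gY) hψ hψcl
  -- hence also in `Xt ×_X V`
  let c : pullback b φ ⟶ pullback (b ≫ gX) (V.ι ≫ gY) :=
    pullback.lift (pullback.fst b φ) (pullback.snd b φ)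
      (by rw [pullback.condition_assoc, hφ])
  have hc1 : c ≫ pullback.fst (b ≫ gX) (V.ι ≫ gY) = pullback.fst b φ := pullback.lift_fst _ _ _
  have hc2 : c ≫ pullback.snd (b ≫ gX) (V.ι ≫ gY) = pullback.snd b φ := pullback.lift_snd _ _ _
  have hcmono : Mono c := by
    refine ⟨fun {Z} a a' haa' => ?_⟩
    apply pullback.hom_ext
    · have := congrArg (fun f => f ≫ pullback.fst (b ≫ gX) (V.ι ≫ gY)) haa'
      simpa only [Category.assoc, hc1] using this
    · have := congrArg (fun f => f ≫ pullback.snd (b ≫ gX) (V.ι ≫ gY)) haa'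
      simpa only [Category.assoc, hc2] using this
  have hΓc : pullback.lift W.ι ψ hcomm ≫ c = pullback.lift W.ι ψ hψ := by
    apply pullback.hom_ext
    · rw [Category.assoc, hc1, pullback.lift_fst, pullback.lift_fst]
    · rw [Category.assoc, hc2, pullback.lift_snd, pullback.lift_snd]
  have hΓ : IsClosedImmersion (pullback.lift W.ι ψ hcomm) := by
    have : IsClosedImmersion (pullback.lift W.ι ψ hcomm ≫ c) := by rw [hΓc]; exact hΓ₀
    exact IsClosedImmersion.of_comp (pullback.lift W.ι ψ hcomm) c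
  refine ⟨?_, ?_⟩
  · refine Groth.Agent.Lib.QuasiDomBlowUp68.isBlowUp_of_isClosedImmersion_graph 𝓘 b hb φ W ψ hcomm
      hΓ u jV hψU ?_
    intro x hx
    have h1 : φ (jV x) = jX x := by rw [← Scheme.Hom.comp_apply, hφU]
    rw [h1] at hx
    exact Set.disjoint_left.mp h𝓘.2 hx ⟨x, rfl⟩
  · exact Groth.Agent.Lib.QuasiDomBlowUp68.isClosed_range_lift gX gY b V φ hφ hφcl W ψ hψ hcomm
      hψcl _

end Groth.Agent.S17390
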