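import Groth.Statements.S17391
import Groth.Agent.Lib.BlowUpSeparate68

set_option autoImplicit false
universe u
open BlowUp

namespace Groth.Agent.S17391

open AlgebraicGeometry CategoryTheory Limits in
/-- Let X and Z be schemes, p : Z → X a morphism, U ⊆ V ⊆ X open subschemes, and f : Y → Z a
quasi-compact immersion whose composite with p lands in U. Let I₁ be a quasi-coherent ideal on X
whose support contains V ∖ U and is disjoint from U, and I₂ a quasi-coherent ideal whose support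
lies in supp(I₁) ∖ V. Assume that the closed subscheme p⁻¹(V(I₁²)) ∩ Ȳ of Z, where Ȳ is the
scheme-theoretic image of f, is contained in p⁻¹(V(I₂)) as a closed subscheme: the inverse image
ideal of I₂ on Z lies in the sum of the inverse image ideal of I₁² and the kernel ideal of f. Then
for every blowing up q : X' → X of X in I₁ + I₂, writing Z' = Z ×_X X' → X' and Y' = Y ×_Z Z' → Z'
for the base changes, the closure in Z' of the image of Y' is disjoint from the preimage in Z' of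
the closure in X' of q⁻¹(V ∖ U). (The blowing up is an isomorphism over V, since the support of I₁ +
I₂ is that of I₂ and lies in X ∖ V; the point is that the closure of q⁻¹(V ∖ U) in X', which may
reach over X ∖ V, still misses the closure of Y'.) -/
theorem result
    {X Y Z X' : Scheme.{u}} (p : Z ⟶ X) (U V : X.Opens) (hUV : U ≤ V)
    (f : Y ⟶ Z) [IsImmersion f] [QuasiCompact f] (hY : Set.range (fun y => p (f y)) ⊆ (U : Set X))
    (𝓘₁ 𝓘₂ : X.IdealSheafData)
    (h₁ : (V : Set X) \ (U : Set X) ⊆ (𝓘₁.support : Set X)) (h₁' : Disjoint (𝓘₁.support : Set X) (U : Set X))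
    (h₂ : (𝓘₂.support : Set X) ⊆ (𝓘₁.support : Set X) \ (V : Set X))
    (hincl : 𝓘₂.comap p ≤ (𝓘₁ * 𝓘₁).comap p ⊔ f.ker)
    (q : X' ⟶ X) (hq : BlowUp.IsBlowUp q (𝓘₁ ⊔ 𝓘₂)) :
    Disjoint (closure (Set.range (fun y => (pullback.snd f (pullback.fst p q)) y)))
      ((fun z => (pullback.snd p q) z) ⁻¹'
        closure ((fun x' => q x') ⁻¹' ((V : Set X) \ (U : Set X)))) := by
  classical
  rw [Set.disjoint_left]
  intro z' hz2 hz1
  have hcond : pullback.fst p q ≫ p = pullback.snd p q ≫ q := pullback.condition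
  have hEsup : (𝓘₁ ⊔ 𝓘₂).comap q = 𝓘₁.comap q ⊔ 𝓘₂.comap q :=
    (Scheme.IdealSheafData.map_gc q).l_sup
  have hmul : 𝓘₁ * 𝓘₁ ≤ 𝓘₁ := fun W => by
    rw [Scheme.IdealSheafData.ideal_mul]
    exact Ideal.mul_le_right
  have hincl' : 𝓘₂.comap p ≤ 𝓘₁.comap p ⊔ f.ker :=
    hincl.trans (sup_le_sup_right (Scheme.IdealSheafData.comap_mono _ hmul) _)
  have hi : (𝓘₂.comap q).comap (pullback.snd p q) ≤
      (𝓘₁.comap q).comap (pullback.snd p q) ⊔ f.ker.comap (pullback.fst p q) := by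
    rw [← Scheme.IdealSheafData.comap_comp, ← Scheme.IdealSheafData.comap_comp, ← hcond,
      Scheme.IdealSheafData.comap_comp, Scheme.IdealSheafData.comap_comp]
    refine (Scheme.IdealSheafData.comap_mono _ hincl').trans (le_of_eq ?_)
    exact (Scheme.IdealSheafData.map_gc (pullback.fst p q)).l_sup
  -- supports
  have hsuppE : ∀ y : X', y ∈ ((𝓘₁ ⊔ 𝓘₂).comap q).support → q y ∉ V := by
    intro y hy hyV
    rw [Scheme.IdealSheafData.support_comap, Scheme.IdealSheafData.support_sup] at hy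
    exact (h₂ hy.2).2 hyV
  have hsupp1 : ∀ y : X', q y ∈ (V : Set X) \ (U : Set X) → y ∈ (𝓘₁.comap q).support := by
    intro y hy
    rw [Scheme.IdealSheafData.support_comap]
    exact h₁ hy
  -- local data
  obtain ⟨U', hx'U', t, -, hEt⟩ := hq.1 ((pullback.snd p q) z')
  obtain ⟨_, ⟨N, hN, rfl⟩, hz'N, hNle⟩ :=
    (pullback p q).isBasis_affineOpens.exists_subset_of_mem_open
      (show z' ∈ (pullback.snd p q) ⁻¹ᵁ U'.1 from hx'U') ((pullback.snd p q) ⁻¹ᵁ U'.1).2
  set φ := ((pullback.snd p q).appLE U'.1 N hNle).hom with hφ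
  have hE_N : (((𝓘₁ ⊔ 𝓘₂).comap q).comap (pullback.snd p q)).ideal ⟨N, hN⟩ =
      Ideal.span {φ t} := by
    rw [Groth.Agent.Lib.IdealComap.ideal_comap _ (pullback.snd p q) U'.1 U'.2 N hN hNle,
      hEt, Ideal.map_span, Set.image_singleton]
  have h1_N : ((𝓘₁.comap q).comap (pullback.snd p q)).ideal ⟨N, hN⟩ =
      Ideal.map φ ((𝓘₁.comap q).ideal U') :=
    Groth.Agent.Lib.IdealComap.ideal_comap _ (pullback.snd p q) U'.1 U'.2 N hN hNle
  have h2_N : ((𝓘₂.comap q).comap (pullback.snd p q)).ideal ⟨N, hN⟩ =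
      Ideal.map φ ((𝓘₂.comap q).ideal U') :=
    Groth.Agent.Lib.IdealComap.ideal_comap _ (pullback.snd p q) U'.1 U'.2 N hN hNle
  have hsupU' : (𝓘₁.comap q).ideal U' ⊔ (𝓘₂.comap q).ideal U' = Ideal.span {t} := by
    rw [← hEt, hEsup, Scheme.IdealSheafData.ideal_sup, Pi.sup_apply]
  -- Lemma B on `X'`
  have hB := Groth.Agent.Lib.BlowUpSeparate68.le_span_mul_P U' t ((𝓘₁.comap q).ideal U')
    (hsupU' ▸ le_sup_left) ((fun x' => q x') ⁻¹' ((V : Set X) \ (U : Set X)))
    (fun y hy hyS => ⟨Groth.Agent.Lib.BlowUpSeparate68.ideal_le_P_of_mem_support _ U' y hy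
        (hsupp1 y hyS),
      fun ht => hsuppE y (Groth.Agent.Lib.BlowUpSeparate68.mem_support_of_span_singleton _ U' t hEt
        y hy ht) hyS.1⟩)
    ((pullback.snd p q) z') hx'U' hz1
  -- decompose `t`
  obtain ⟨j₁, hj₁, j₂, hj₂, hj⟩ := Submodule.mem_sup.mp
    (hsupU' ▸ Ideal.mem_span_singleton_self t :
      t ∈ (𝓘₁.comap q).ideal U' ⊔ (𝓘₂.comap q).ideal U')
  obtain ⟨β₁, hβ₁, hj₁'⟩ := Ideal.mem_span_singleton_mul.1 (hB hj₁)
  have hle1 : Ideal.map φ ((𝓘₁.comap q).ideal U') ≤ Ideal.span {φ t} *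
      Groth.Agent.Lib.BlowUpSeparate68.P ⟨N, hN⟩ z' hz'N := by
    have h6 : Ideal.map φ ((𝓘₁.comap q).ideal U') ≤
        Ideal.map φ (Ideal.span {t} *
          Groth.Agent.Lib.BlowUpSeparate68.P U' ((pullback.snd p q) z') hx'U') :=
      Ideal.map_mono hB
    rw [Ideal.map_mul, Ideal.map_span, Set.image_singleton] at h6
    exact h6.trans (Ideal.mul_mono_right
      (Groth.Agent.Lib.BlowUpSeparate68.map_P_le (pullback.snd p q) U' ⟨N, hN⟩ hNle z' hz'N))
  have hφβ₁ : φ β₁ ∈ Groth.Agent.Lib.BlowUpSeparate68.P ⟨N, hN⟩ z' hz'N :=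
    Groth.Agent.Lib.BlowUpSeparate68.map_P_le (pullback.snd p q) U' ⟨N, hN⟩ hNle z' hz'N
      (Ideal.mem_map_of_mem φ hβ₁)
  have hj₂' : φ j₂ ∈ Ideal.map φ ((𝓘₁.comap q).ideal U') ⊔
      (f.ker.comap (pullback.fst p q)).ideal ⟨N, hN⟩ := by
    have h5 := hi ⟨N, hN⟩
    rw [Scheme.IdealSheafData.ideal_sup, Pi.sup_apply, h1_N, h2_N] at h5
    exact h5 (Ideal.mem_map_of_mem φ hj₂)
  obtain ⟨a, ha, κ, hκ, hsum⟩ := Submodule.mem_sup.mp hj₂'
  obtain ⟨β, hβ, rfl⟩ := Ideal.mem_span_singleton_mul.1 (hle1 ha)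
  have hφj : φ t = φ t * φ β₁ + φ j₂ := by
    rw [← map_mul, hj₁', ← map_add, hj]
  refine Groth.Agent.Lib.BlowUpSeparate68.false_of_mul_eq ⟨N, hN⟩ (φ t) (1 - φ β₁ - β) κ ?_ z' hz'N
    ?_ (Set.range (fun y => (pullback.snd f (pullback.fst p q)) y)) hz2 ?_
  · linear_combination hφj - hsum
  · intro h1
    apply (Groth.Agent.Lib.BlowUpSeparate68.P ⟨N, hN⟩ z' hz'N).ne_top_iff_one.1
      (IsAffineOpen.primeIdealOf hN ⟨z', hz'N⟩).isPrime.ne_top
    have h9 := Ideal.add_mem _ (Ideal.add_mem _ h1 hφβ₁) hβ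
    have h10 : 1 - φ β₁ - β + φ β₁ + β = 1 := by ring
    rwa [h10] at h9
  · rintro y hy ⟨y'', rfl⟩
    have hfst : (pullback.fst p q) ((pullback.snd f (pullback.fst p q)) y'') =
        f ((pullback.fst f (pullback.fst p q)) y'') := by
      rw [← Scheme.Hom.comp_apply, ← Scheme.Hom.comp_apply, pullback.condition]
    constructor
    · refine Groth.Agent.Lib.BlowUpSeparate68.ideal_le_P_of_mem_support _ ⟨N, hN⟩ _ hy ?_ hκ
      rw [Scheme.IdealSheafData.support_comap]
      change (pullback.fst p q) _ ∈ (f.ker.support : Set Z)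
      rw [Scheme.Hom.support_ker, hfst]
      exact subset_closure ⟨_, rfl⟩
    · intro ht
      have h7 := Groth.Agent.Lib.BlowUpSeparate68.mem_support_of_span_singleton _ ⟨N, hN⟩ (φ t)
        hE_N _ hy ht
      rw [Scheme.IdealSheafData.support_comap] at h7
      apply hsuppE _ h7
      have h8 : q ((pullback.snd p q) ((pullback.snd f (pullback.fst p q)) y'')) =
          p (f ((pullback.fst f (pullback.fst p q)) y'')) := by
        rw [← hfst, ← Scheme.Hom.comp_apply, ← hcond, Scheme.Hom.comp_apply]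
      rw [h8]
      exact hUV (hY ⟨_, rfl⟩)

end Groth.Agent.S17391
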