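import Groth.Statements.S17393
import Groth.Agent.Lib.StrictTransform

set_option autoImplicit false
universe u
open BlowUp

namespace Groth.Agent.S17393

open AlgebraicGeometry CategoryTheory Limits in
/-- Let X be any scheme, I and I' quasi-coherent ideals on X (of closed subschemes Y and Y'), b : X' → X
a blowing up of X in I + I' (the ideal of Y ∩ Y'), b' : Ỹ → Y a blowing up of Y = V(I) in the
inverse image of I + I' and k : Ỹ → X' the morphism with k ≫ b = b' ≫ (Y → X), whose image is the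
strict transform of Y. For an affine open V of X, a section s of I over V, and an affine open V' ⊆
b⁻¹(V) of X' which meets the image of k, the ideal of the inverse image ideal sheaf (I + I')·O_X' on
V' is not the principal ideal generated by the pullback of s. Equivalently the strict transform of Y
does not meet the open locus U(s) where s generates the (invertible) inverse image ideal; since the
U(s) for s ranging over local sections of I and of I' cover X', the strict transform of Y lies in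
the union of the U(s) with s a local section of I'. -/
theorem result
    {X X' Yt : Scheme.{u}} (𝓘 𝓘' : X.IdealSheafData) (b : X' ⟶ X) (hb : BlowUp.IsBlowUp b (𝓘 ⊔ 𝓘'))
    (b' : Yt ⟶ 𝓘.subscheme) (hb' : BlowUp.IsBlowUp b' ((𝓘 ⊔ 𝓘').comap 𝓘.subschemeι))
    (k : Yt ⟶ X') (hk : k ≫ b = b' ≫ 𝓘.subschemeι)
    (V : X.affineOpens) (s : Γ(X, V.1)) (hs : s ∈ 𝓘.ideal V)
    (V' : X'.affineOpens) (hV' : V'.1 ≤ b ⁻¹ᵁ V.1)
    (hmeet : (Set.range (fun y => k y) ∩ (V'.1 : Set X')).Nonempty) :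
    ((𝓘 ⊔ 𝓘').comap b).ideal V' ≠ Ideal.span {(b.appLE V.1 V'.1 hV').hom s} := by
  intro heq
  obtain ⟨x', ⟨y, rfl⟩, hyV'⟩ := hmeet
  -- the effective Cartier ideal on the strict transform
  have hK : BlowUp.IsEffCartierIdeal (((𝓘 ⊔ 𝓘').comap b).comap k) := by
    have h1 := hb'.1
    rwa [← Scheme.IdealSheafData.comap_comp, ← hk, Scheme.IdealSheafData.comap_comp] at h1
  obtain ⟨_, ⟨W, hW, rfl⟩, hyW, hWsub⟩ :=
    Yt.isBasis_affineOpens.exists_subset_of_mem_open
      (show y ∈ ((k ⁻¹ᵁ V'.1 : Yt.Opens) : Set Yt) from hyV') (k ⁻¹ᵁ V'.1).2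
  have hle : W ≤ k ⁻¹ᵁ V'.1 := hWsub
  have hideal := Groth.Agent.Lib.IdealComap.ideal_comap ((𝓘 ⊔ 𝓘').comap b) k V'.1 V'.2 W hW hle
  have heq' : ((𝓘 ⊔ 𝓘').comap b).ideal ⟨V'.1, V'.2⟩ =
      Ideal.span {(b.appLE V.1 V'.1 hV').hom s} := heq
  rw [heq', Ideal.map_span, Set.image_singleton] at hideal
  have hzero : (k.appLE V'.1 W hle).hom ((b.appLE V.1 V'.1 hV').hom s) = 0 := by
    have h1 := Scheme.Hom.appLE_comp_appLE k b V.1 V'.1 W hV' hle
    have h2 : (k.appLE V'.1 W hle).hom ((b.appLE V.1 V'.1 hV').hom s) =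
        (b.appLE V.1 V'.1 hV' ≫ k.appLE V'.1 W hle).hom s := rfl
    rw [h2, h1]
    have h3 : ∀ (φ : Yt ⟶ X) (hφ : φ = b' ≫ 𝓘.subschemeι) (e : W ≤ φ ⁻¹ᵁ V.1),
        (φ.appLE V.1 W e).hom s = 0 := by
      intro φ hφ e
      subst hφ
      exact Groth.Agent.Lib.StrictTransform.appLE_comp_subschemeι_eq_zero 𝓘 b' V W e s hs
    exact h3 _ hk _
  rw [hzero] at hideal
  refine Groth.Agent.Lib.StrictTransform.ideal_ne_bot_of_isEffCartier _ hK ⟨W, hW⟩ y hyW ?_
  rw [hideal]
  simp

end Groth.Agent.S17393
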