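import Groth.Statements.S17394
import Groth.Agent.Lib.NagataSep68
import Groth.Agent.Lib.IdealExt68
import Groth.Agent.Lib.BlowUpGlue68
import Groth.Agent.S7846
import Groth.Agent.Lib.BlowUpAdm68

set_option autoImplicit false
universe u
open FlatMor

namespace Groth.Agent.S17394


open AlgebraicGeometry CategoryTheory Limits in
/-- Powers of an ideal sheaf decrease. -/
theorem pow_le_pow_right' {X : Scheme.{u}} (I : X.IdealSheafData) {a b : ℕ} (h : a ≤ b) :
    I ^ b ≤ I ^ a := by
  intro V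
  rw [Scheme.IdealSheafData.ideal_pow, Scheme.IdealSheafData.ideal_pow, Pi.pow_apply, Pi.pow_apply]
  exact Ideal.pow_le_pow_right h

open AlgebraicGeometry CategoryTheory Limits in
/-- Let S be a quasi-compact quasi-separated scheme, X → S separated of finite type, and for i = 1, …, m
let X̄_i → S be proper, o_i : X_i → X̄_i a quasi-compact open immersion and q_i : X_i → X a proper
S-morphism; let U be a scheme with quasi-compact open immersions jU : U → X and v_i : U → X_i such
that v_i ≫ q_i = jU, with U dense in X, in each X_i and in each X̄_i (via v_i ≫ o_i). Let Y_i ⊆ X_i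
be closed subschemes of finite presentation. Let Ū ⊆ X̄_1 ×_S ⋯ ×_S X̄_m be the closure of the image
of U (the scheme-theoretic closure, the morphism being quasi-compact) with projections π_i : Ū →
X̄_i, and assume ⋂_i π_i⁻¹(Y_i) = ∅. Then there are blowing ups c_i : X̄_i' → X̄_i in quasi-coherent
ideals of finite type with support disjoint from X_i (X_i-admissible), with the lifts v_i' : U →
X̄_i' of v_i ≫ o_i, such that, writing Ū' for the closure of the image of U in X̄_1' ×_S ⋯ ×_S X̄_m'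
with projections π_i' and Ȳ_i' for the closure in X̄_i' of c_i⁻¹(Y_i), one has ⋂_i (π_i')⁻¹(Ȳ_i') =
∅. -/
theorem result
    {S X U : Scheme.{u}} [CompactSpace S] [QuasiSeparatedSpace S] {m : ℕ}
    (gX : X ⟶ S) [IsSeparated gX] [QuasiCompact gX] [LocallyOfFiniteType gX]
    (Xi Xb : Fin m → Scheme.{u}) (gb : ∀ i, Xb i ⟶ S) [∀ i, IsProper (gb i)]
    (o : ∀ i, Xi i ⟶ Xb i) [∀ i, IsOpenImmersion (o i)] [∀ i, QuasiCompact (o i)]
    (q : ∀ i, Xi i ⟶ X) [∀ i, IsProper (q i)] (hq : ∀ i, q i ≫ gX = o i ≫ gb i)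
    (jU : U ⟶ X) [IsOpenImmersion jU] [QuasiCompact jU] [IsDominant jU]
    (v : ∀ i, U ⟶ Xi i) [∀ i, IsOpenImmersion (v i)] [∀ i, QuasiCompact (v i)] [∀ i, IsDominant (v i)]
    [∀ i, IsDominant (v i ≫ o i)]
    (hv : ∀ i, v i ≫ q i = jU) (w : ∀ i, (v i ≫ o i) ≫ gb i = jU ≫ gX)
    (Y : ∀ i, (Xi i).IdealSheafData) (hY : ∀ i, BlowUp.IsFiniteTypeIdeal (Y i))
    (hempty : ∀ z ∈ closure (Set.range (fun x => (WidePullback.lift (jU ≫ gX) (fun i => v i ≫ o i) w) x)),
      ∃ i, (WidePullback.π gb i) z ∉ (fun x => o i x) '' ((Y i).support : Set (Xi i))) :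
    ∃ (𝓔 : ∀ i, (Xb i).IdealSheafData) (Xb' : Fin m → Scheme.{u}) (c : ∀ i, Xb' i ⟶ Xb i)
      (v' : ∀ i, U ⟶ Xb' i) (w' : ∀ i, v' i ≫ c i ≫ gb i = jU ≫ gX),
      (∀ i, BlowUp.IsBlowUp (c i) (𝓔 i) ∧ BlowUp.IsAdmissibleFor (o i).opensRange (𝓔 i) ∧
        v' i ≫ c i = v i ≫ o i) ∧
      ∀ z ∈ closure (Set.range (fun x => (WidePullback.lift (jU ≫ gX) (fun i => v' i) w') x)),
        ∃ i, (WidePullback.π (fun i => c i ≫ gb i) i) z ∉
          closure ((fun y => c i y) ⁻¹' ((fun x => o i x) '' ((Y i).support : Set (Xi i)))) := by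
  classical
  -- compactness
  have hbase : IsProper (WidePullback.base gb) := Groth.Agent.Lib.WidePbFin68.isProper_base m Xb gb
  have hPc : CompactSpace ↥(widePullback S Xb gb) :=
    QuasiCompact.compactSpace_of_compactSpace (WidePullback.base gb)
  have hPqs : QuasiSeparatedSpace ↥(widePullback S Xb gb) :=
    quasiSeparatedSpace_of_quasiSeparated (WidePullback.base gb)
  have hXc : CompactSpace X := QuasiCompact.compactSpace_of_compactSpace gX
  have hUc : CompactSpace U := QuasiCompact.compactSpace_of_compactSpace jU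
  have hXbc : ∀ i, CompactSpace (Xb i) := fun i => QuasiCompact.compactSpace_of_compactSpace (gb i)
  have hXbqs : ∀ i, QuasiSeparatedSpace (Xb i) :=
    fun i => quasiSeparatedSpace_of_quasiSeparated (gb i)
  have hXic : ∀ i, CompactSpace (Xi i) := fun i => QuasiCompact.compactSpace_of_compactSpace (o i)
  -- the boundary ideals
  have hZex : ∀ i, ∃ 𝓩 : (Xb i).IdealSheafData, BlowUp.IsFiniteTypeIdeal 𝓩 ∧
      (𝓩.support : Set (Xb i)) = (Set.range (o i))ᶜ := by
    intro i
    obtain ⟨𝓩, h1, h2⟩ := Groth.Agent.Lib.IdealExt68.exists_finiteType_support_eq (o i).opensRange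
      (by rw [Scheme.Hom.coe_opensRange]; exact isCompact_range (o i).continuous)
    exact ⟨𝓩, h1, by rw [h2, Scheme.Hom.coe_opensRange]⟩
  choose 𝓩 h𝓩fg h𝓩supp using hZex
  -- the ideals of the `Y i` together with the boundary
  have hJex : ∀ i, ∃ 𝓙 : (Xb i).IdealSheafData, BlowUp.IsFiniteTypeIdeal 𝓙 ∧
      (𝓙.support : Set (Xb i)) = ((fun x => o i x) '' ((Y i).support : Set (Xi i))ᶜ)ᶜ := by
    intro i
    have hopen : IsOpen ((fun x => o i x) '' ((Y i).support : Set (Xi i))ᶜ) :=
      (o i).isOpenEmbedding.isOpenMap _ (Y i).support.isClosed.isOpen_compl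
    obtain ⟨𝓙, h1, h2⟩ := Groth.Agent.Lib.IdealExt68.exists_finiteType_support_eq
      (⟨_, hopen⟩ : (Xb i).Opens)
      ((Groth.Agent.Lib.IdealExt68.isCompact_compl_support (Y i) (hY i)).image (o i).continuous)
    exact ⟨𝓙, h1, h2⟩
  choose 𝓙 h𝓙fg h𝓙supp using hJex
  have hYJ : ∀ i, (fun x => o i x) '' ((Y i).support : Set (Xi i)) ⊆ ((𝓙 i).support : Set (Xb i)) := by
    rintro i _ ⟨x, hx, rfl⟩
    rw [h𝓙supp]
    rintro ⟨x', hx', hxx'⟩
    have : x' = x := (o i).isOpenEmbedding.injective hxx'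
    exact hx' (this ▸ hx)
  -- points of the closure of `U` over all the `V(𝓙 i)` lie over the boundaries
  have key_supp : ∀ z ∈ closure (Set.range (fun x =>
      (WidePullback.lift (jU ≫ gX) (fun i => v i ≫ o i) w) x)),
      (∀ i, (WidePullback.π gb i) z ∈ ((𝓙 i).support : Set (Xb i))) →
      ∀ j, (WidePullback.π gb j) z ∈ ((𝓩 j).support : Set (Xb j)) := by
    intro z hz hJ j
    obtain ⟨i₀, hi₀⟩ := hempty z hz
    have hA : (WidePullback.π gb i₀) z ∉ Set.range (o i₀) := by
      rintro ⟨x, hx⟩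
      apply hi₀
      refine ⟨x, ?_, hx⟩
      by_contra hxY
      have h1 := hJ i₀
      rw [h𝓙supp] at h1
      exact h1 ⟨x, hxY, hx⟩
    rw [h𝓩supp]
    intro hj
    apply hA
    have hcondpr : WidePullback.π gb j ≫ gb j = WidePullback.π gb i₀ ≫ gb i₀ := by
      rw [WidePullback.π_arrow, WidePullback.π_arrow]
    exact Groth.Agent.Lib.NagataSep68.snd_mem_range_of_mem_closure gX (gb j) (gb i₀) (o j) (o i₀)
      (q j) (q i₀) (hq j) (hq i₀) (v j) (v i₀) ((hv j).trans (hv i₀).symm)
      (WidePullback.lift (jU ≫ gX) (fun i => v i ≫ o i) w ≫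
        pullback.lift (WidePullback.π gb j) (WidePullback.π gb i₀) hcondpr)
      (by rw [Category.assoc, pullback.lift_fst, WidePullback.lift_π])
      (by rw [Category.assoc, pullback.lift_snd, WidePullback.lift_π])
      ((pullback.lift (WidePullback.π gb j) (WidePullback.π gb i₀) hcondpr) z)
      (by
        have h1 := image_closure_subset_closure_image
          (pullback.lift (WidePullback.π gb j) (WidePullback.π gb i₀) hcondpr).continuous
          (Set.mem_image_of_mem _ hz)
        rw [← Set.range_comp] at h1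
        exact h1)
      (by rw [← Scheme.Hom.comp_apply, pullback.lift_fst]; exact hj)
      |> fun h => by rwa [← Scheme.Hom.comp_apply, pullback.lift_snd] at h
  -- the uniform exponent
  have hnex : ∀ j, ∃ n : ℕ, ((𝓩 j).comap (WidePullback.π gb j)) ^ n ≤
      (WidePullback.lift (jU ≫ gX) (fun i => v i ≫ o i) w).ker ⊔
        ⨆ i, (𝓙 i).comap (WidePullback.π gb i) := by
    intro j
    obtain ⟨n, -, hn⟩ := Groth.Agent.S7846.result _ ((𝓩 j).comap (WidePullback.π gb j))
      ((WidePullback.lift (jU ≫ gX) (fun i => v i ≫ o i) w).ker ⊔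
        ⨆ i, (𝓙 i).comap (WidePullback.π gb i))
      (Groth.Agent.Lib.BlowUpAdm68.isFiniteTypeIdeal_comap _ _ (h𝓩fg j)) (by
        intro z hz
        have h1 : z ∈ ((WidePullback.lift (jU ≫ gX) (fun i => v i ≫ o i) w).ker.support :
            Set ↥(widePullback S Xb gb)) :=
          Scheme.IdealSheafData.support_antitone le_sup_left hz
        rw [Scheme.Hom.support_ker] at h1
        have h2 : ∀ i, (WidePullback.π gb i) z ∈ ((𝓙 i).support : Set (Xb i)) := by
          intro i
          have h3 := Scheme.IdealSheafData.support_antitone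
            ((le_iSup (fun i => (𝓙 i).comap (WidePullback.π gb i)) i).trans le_sup_right) hz
          rw [Scheme.IdealSheafData.support_comap] at h3
          exact h3
        change z ∈ ((𝓩 j).comap (WidePullback.π gb j)).support
        rw [Scheme.IdealSheafData.support_comap]
        exact key_supp z h1 h2 j)
    exact ⟨n, hn⟩
  choose nn hnn using hnex
  obtain ⟨n, hndef⟩ : ∃ n : ℕ, n = ∑ j, nn j := ⟨_, rfl⟩
  have hn : ∀ j, ((𝓩 j).comap (WidePullback.π gb j)) ^ n ≤
      (WidePullback.lift (jU ≫ gX) (fun i => v i ≫ o i) w).ker ⊔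
        ⨆ i, (𝓙 i).comap (WidePullback.π gb i) := by
    intro j
    refine (pow_le_pow_right' _ ?_).trans (hnn j)
    rw [hndef]
    exact Finset.single_le_sum (fun i _ => Nat.zero_le _) (Finset.mem_univ j)
  -- the centres
  obtain ⟨𝓔, h𝓔def⟩ : ∃ 𝓔 : ∀ i, (Xb i).IdealSheafData, ∀ i, 𝓔 i = 𝓙 i ⊔ 𝓩 i ^ (n + 1) :=
    ⟨_, fun _ => rfl⟩
  have h𝓔fg : ∀ i, BlowUp.IsFiniteTypeIdeal (𝓔 i) := by
    intro i W
    rw [h𝓔def, Scheme.IdealSheafData.ideal_sup, Pi.sup_apply, Scheme.IdealSheafData.ideal_pow,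
      Pi.pow_apply]
    exact Submodule.FG.sup (h𝓙fg i W) (Ideal.FG.pow (h𝓩fg i W))
  have h𝓔supp : ∀ i, Disjoint ((𝓔 i).support : Set (Xb i)) (Set.range (o i)) := by
    intro i
    rw [Set.disjoint_left]
    intro x hx hxo
    have h1 : x ∈ ((𝓩 i ^ (n + 1)).support : Set (Xb i)) :=
      Scheme.IdealSheafData.support_antitone (h𝓔def i ▸ le_sup_right : 𝓩 i ^ (n + 1) ≤ 𝓔 i) hx
    rw [Scheme.IdealSheafData.support_pow_succ, h𝓩supp] at h1
    exact h1 hxo
  -- the blowing ups
  have hblex : ∀ i, ∃ (Xb' : Scheme.{u}) (c : Xb' ⟶ Xb i), BlowUp.IsBlowUp c (𝓔 i) :=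
    fun i => Groth.Agent.Lib.BlowUpGlue68.exists_isBlowUp (Xb i) (𝓔 i)
  choose Xb' c hc using hblex
  have hliftex : ∀ i, ∃ v' : U ⟶ Xb' i, v' ≫ c i = v i ≫ o i := by
    intro i
    have hcart : BlowUp.IsEffCartierIdeal ((𝓔 i).comap (v i ≫ o i)) := by
      rw [Groth.Agent.Lib.BlowUpUniv.comap_eq_top (𝓔 i) (v i ≫ o i) (fun y hy =>
        Set.disjoint_left.1 (h𝓔supp i) hy ⟨v i y, (Scheme.Hom.comp_apply _ _ _).symm⟩)]
      exact Groth.Agent.Lib.BlowUpUniv.isEffCartier_top
    obtain ⟨h, hh, -⟩ := (hc i).2 U (v i ≫ o i) hcart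
    exact ⟨h, hh⟩
  choose v' hv' using hliftex
  have w' : ∀ i, v' i ≫ c i ≫ gb i = jU ≫ gX := fun i => by
    rw [← Category.assoc, hv' i, w i]
  refine ⟨𝓔, Xb', c, v', w', fun i => ⟨hc i, ⟨h𝓔fg i, ?_⟩, hv' i⟩, ?_⟩
  · rw [Scheme.Hom.coe_opensRange]
    exact h𝓔supp i
  intro z' hz'
  by_contra hcon
  push Not at hcon
  -- the comparison morphism
  let C : widePullback S Xb' (fun i => c i ≫ gb i) ⟶ widePullback S Xb gb :=
    WidePullback.lift (WidePullback.base (fun i => c i ≫ gb i))
      (fun i => WidePullback.π (fun i => c i ≫ gb i) i ≫ c i) (by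
        intro i
        rw [Category.assoc]
        exact WidePullback.π_arrow (fun i => c i ≫ gb i) i)
  have hCπ : ∀ i, C ≫ WidePullback.π gb i = WidePullback.π (fun i => c i ≫ gb i) i ≫ c i :=
    fun i => WidePullback.lift_π _ _ _ _ i
  have hL'C : WidePullback.lift (jU ≫ gX) (fun i => v' i) w' ≫ C =
      WidePullback.lift (jU ≫ gX) (fun i => v i ≫ o i) w := by
    apply WidePullback.hom_ext
    · intro i
      rw [Category.assoc, hCπ, ← Category.assoc, WidePullback.lift_π, WidePullback.lift_π, hv']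
    · rw [Category.assoc, WidePullback.lift_base, WidePullback.lift_base, WidePullback.lift_base]
  have hz : C z' ∈ closure (Set.range (fun x =>
      (WidePullback.lift (jU ≫ gX) (fun i => v i ≫ o i) w) x)) := by
    have h1 := image_closure_subset_closure_image C.continuous (Set.mem_image_of_mem _ hz')
    rw [← Set.range_comp] at h1
    rw [← hL'C]
    exact h1
  have hπz : ∀ i, (WidePullback.π gb i) (C z') =
      c i ((WidePullback.π (fun i => c i ≫ gb i) i) z') := fun i => by
    rw [← Scheme.Hom.comp_apply, hCπ, Scheme.Hom.comp_apply]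
  have hJz : ∀ i, (WidePullback.π gb i) (C z') ∈ ((𝓙 i).support : Set (Xb i)) := by
    intro i
    rw [hπz]
    have h1 := image_closure_subset_closure_image (c i).continuous
      (Set.mem_image_of_mem _ (hcon i))
    refine closure_minimal ?_ (𝓙 i).support.isClosed h1
    exact (Set.image_preimage_subset _ _).trans (hYJ i)
  have hZz := key_supp (C z') hz hJz
  obtain ⟨i₀, -⟩ := hempty (C z') hz
  apply Groth.Agent.Lib.NagataSep68.false_of_local
    (WidePullback.lift (jU ≫ gX) (fun i => v' i) w') z' hz' i₀ Xb'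
    (fun i => WidePullback.π (fun i => c i ≫ gb i) i) (fun i => (𝓔 i).comap (c i))
    (fun i => (𝓩 i).comap (c i)) (fun i => (𝓙 i).comap (c i)) n
  · intro i
    have hc1 := (hc i).1
    have hs1 := h𝓔supp i
    rw [h𝓔def] at hc1 hs1
    have := Groth.Agent.Lib.NagataSep68.exists_local_chart (c i) (𝓙 i) (𝓩 i) n hc1
      (Set.range (o i)) hs1 ((fun x => o i x) '' ((Y i).support : Set (Xi i)))
      (Set.image_subset_range _ _) (hYJ i) ((WidePullback.π (fun i => c i ≫ gb i) i) z') (hcon i)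
    rw [h𝓔def]
    exact this
  · intro j
    rw [Scheme.IdealSheafData.support_comap, Scheme.IdealSheafData.support_comap]
    change c j ((WidePullback.π (fun i => c i ≫ gb i) j) z') ∈ ((𝓩 j).support : Set (Xb j))
    rw [← hπz]
    exact hZz j
  · intro j
    have h := Scheme.IdealSheafData.comap_mono C (hn j)
    simp only at h
    rw [Groth.Agent.Lib.IdealSheafComap.comap_pow, ← Scheme.IdealSheafData.comap_comp, hCπ,
      Scheme.IdealSheafData.comap_comp, Scheme.IdealSheafData.comap_sup,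
      (Scheme.IdealSheafData.map_gc C).l_iSup] at h
    refine h.trans (sup_le_sup ?_ (iSup_mono fun i => ?_))
    · apply Scheme.IdealSheafData.le_map_iff_comap_le.1
      rw [Scheme.IdealSheafData.map_ker, hL'C]
    · rw [← Scheme.IdealSheafData.comap_comp, hCπ, Scheme.IdealSheafData.comap_comp]
  · intro i u hmem
    rw [Scheme.IdealSheafData.support_comap] at hmem
    have e : WidePullback.lift (jU ≫ gX) (fun i => v' i) w' ≫
        WidePullback.π (fun i => c i ≫ gb i) i ≫ c i = v i ≫ o i := by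
      rw [← Category.assoc, WidePullback.lift_π, hv']
    have hmem' : (v i ≫ o i) u ∈ ((𝓔 i).support : Set (Xb i)) := by
      rw [← e]
      exact hmem
    exact Set.disjoint_left.1 (h𝓔supp i) hmem' ⟨v i u, (Scheme.Hom.comp_apply _ _ _).symm⟩

end Groth.Agent.S17394
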