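import Groth.Statements.S1740
import Groth.Agent.Lib.TorNat
import Groth.Agent.Lib.PureSplit
import Mathlib.Algebra.Homology.ShortComplex.ModuleCat
-- import your own Groth.Agent.* helpers here

set_option autoImplicit false
universe u
open CategoryTheory
attribute [local instance] HasDerivedCategory.standard
open LocCoh

namespace Groth.Agent.S1740

open MonoidalCategory Limits TensorProduct
open Groth.Agent.Lib.TorLES Groth.Agent.Lib.TorNat Groth.Agent.Lib.UnivInj
  Groth.Agent.Lib.PureSplit

variable {R : Type u} [CommRing R] {M M' F : Type u} [AddCommGroup M] [Module R M]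
  [AddCommGroup M'] [Module R M'] [AddCommGroup F] [Module R F]
  (α : M →ₗ[R] M') (π : F →ₗ[R] M')

/-- the pullback `F ×_{M'} M` -/
abbrev Epb : Submodule R (F × M) :=
  LinearMap.ker (π ∘ₗ LinearMap.fst R F M - α ∘ₗ LinearMap.snd R F M)

lemma mem_Epb (x : F × M) : x ∈ Epb α π ↔ π x.1 = α x.2 := by
  simp [Epb, sub_eq_zero]

/-- first projection -/
def p₁ : Epb α π →ₗ[R] F := LinearMap.fst R F M ∘ₗ (Epb α π).subtype

/-- second projection -/
def p₂ : Epb α π →ₗ[R] M := LinearMap.snd R F M ∘ₗ (Epb α π).subtype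

lemma comm_sq (e : Epb α π) : π (p₁ α π e) = α (p₂ α π e) := (mem_Epb α π e.1).mp e.2

/-- inclusion of the kernel -/
def kMap : LinearMap.ker π →ₗ[R] Epb α π :=
  (LinearMap.inl R F M ∘ₗ (LinearMap.ker π).subtype).codRestrict _ (fun x => by
    rw [mem_Epb]
    simp)

lemma p₁_kMap (x : LinearMap.ker π) : p₁ α π (kMap α π x) = x.1 := rfl

lemma p₂_kMap (x : LinearMap.ker π) : p₂ α π (kMap α π x) = 0 := rfl

lemma kMap_injective : Function.Injective (kMap α π) := by
  intro x y hxy
  apply Subtype.ext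
  have := congrArg (p₁ α π) hxy
  simpa [p₁_kMap] using this

lemma p₂_surjective (hπ : Function.Surjective π) : Function.Surjective (p₂ α π) := by
  intro m
  obtain ⟨x, hx⟩ := hπ (α m)
  exact ⟨⟨(x, m), (mem_Epb α π _).mpr hx⟩, rfl⟩

lemma exact_kMap_p₂ : Function.Exact (kMap α π) (p₂ α π) := by
  intro e
  constructor
  · intro h
    have h1 : π (p₁ α π e) = 0 := by rw [comm_sq, h, map_zero]
    refine ⟨⟨p₁ α π e, h1⟩, ?_⟩
    apply Subtype.ext
    apply Prod.ext
    · rfl
    · exact h.symm
  · rintro ⟨x, rfl⟩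
    rfl

/-- `0 → K → E → M → 0` -/
noncomputable def sE : ShortComplex (ModuleCat.{u} R) :=
  ShortComplex.mk (ModuleCat.ofHom (kMap α π)) (ModuleCat.ofHom (p₂ α π)) (by
    rw [← ModuleCat.ofHom_comp]
    have : p₂ α π ∘ₗ kMap α π = 0 := LinearMap.ext fun x => p₂_kMap α π x
    rw [this]
    rfl)

/-- `0 → K → F → M' → 0` -/
noncomputable def sF : ShortComplex (ModuleCat.{u} R) :=
  ShortComplex.mk (ModuleCat.ofHom (LinearMap.ker π).subtype) (ModuleCat.ofHom π) (by
    rw [← ModuleCat.ofHom_comp]
    have : π ∘ₗ (LinearMap.ker π).subtype = 0 := LinearMap.ext fun x => x.2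
    rw [this]
    rfl)

lemma sE_shortExact (hπ : Function.Surjective π) : (sE α π).ShortExact :=
  ModuleCat.shortComplex_shortExact _ (exact_kMap_p₂ α π) (kMap_injective α π)
    (p₂_surjective α π hπ)

lemma sF_shortExact (hπ : Function.Surjective π) : (sF π).ShortExact :=
  ModuleCat.shortComplex_shortExact _ (LinearMap.exact_subtype_ker_map π)
    (LinearMap.ker π).injective_subtype hπ

/-- the morphism of short exact sequences -/
noncomputable def psi : sE α π ⟶ sF π where
  τ₁ := 𝟙 (ModuleCat.of R (LinearMap.ker π))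
  τ₂ := ModuleCat.ofHom (p₁ α π)
  τ₃ := ModuleCat.ofHom α
  comm₁₂ := by
    apply ModuleCat.hom_ext
    apply LinearMap.ext
    intro x
    rfl
  comm₂₃ := by
    apply ModuleCat.hom_ext
    apply LinearMap.ext
    intro e
    exact comm_sq α π e

lemma rTensor_kMap_injective (hπ : Function.Surjective π) (N : Type u) [AddCommGroup N]
    [Module R N]
    (h : ((Tor (ModuleCat.{u} R) 1).map (ModuleCat.ofHom α)).app (ModuleCat.of R N) = 0) :
    Function.Injective ((kMap α π).rTensor N) := by
  let P := ProjectiveResolution.of (ModuleCat.of R N)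
  have hE := sE_shortExact α π hπ
  have hF := sF_shortExact π hπ
  have hnat := δ_naturality_left P (psi α π) hE hF 0
  have hδ : δ P hE 0 = 0 := by
    have h1 : ((Tor (ModuleCat.{u} R) (0 + 1)).map (psi α π).τ₃).app (ModuleCat.of R N) = 0 := h
    rw [h1, zero_comp] at hnat
    have h2 : ((Tor (ModuleCat.{u} R) 0).map (psi α π).τ₁).app (ModuleCat.of R N) = 𝟙 _ := by
      change ((Tor (ModuleCat.{u} R) 0).map (𝟙 _)).app (ModuleCat.of R N) = 𝟙 _
      rw [CategoryTheory.Functor.map_id]
      rfl
    rw [h2] at hnat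
    exact (Category.comp_id _).symm.trans hnat
  have hmono : Mono (((Tor (ModuleCat.{u} R) 0).map (sE α π).f).app (ModuleCat.of R N)) :=
    (exact₁ P hE 0).mono_g hδ
  have hmono2 : Mono ((sE α π).f ▷ (ModuleCat.of R N)) := by
    have hn := torZeroIso_hom_naturality (sE α π).f (ModuleCat.of R N)
    have : (sE α π).f ▷ (ModuleCat.of R N) = (torZeroIso _ _).inv ≫
        ((Tor (ModuleCat.{u} R) 0).map (sE α π).f).app (ModuleCat.of R N) ≫
        (torZeroIso _ _).hom := by
      rw [hn, Iso.inv_hom_id_assoc]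
    rw [this]
    infer_instance
  exact (ModuleCat.mono_iff_injective _).mp hmono2

theorem exists_factor (hπ : Function.Surjective π) [Module.FinitePresentation R M]
    (h : ∀ (N : Type u) [AddCommGroup N] [Module R N],
      ((Tor (ModuleCat.{u} R) 1).map (ModuleCat.ofHom α)).app (ModuleCat.of R N) = 0) :
    ∃ g : M →ₗ[R] F, α = π ∘ₗ g := by
  have hk : Equational (M₁ := LinearMap.ker π) (M₂ := Epb α π) (kMap α π) :=
    equational_of_forall_finitePresentation (M₁ := LinearMap.ker π) (M₂ := Epb α π) (kMap α π)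
      (fun Q _ _ _ => rTensor_kMap_injective α π hπ Q (h Q))
  obtain ⟨s, hs⟩ := exists_section_of_equational (K := LinearMap.ker π) (E := Epb α π)
    (kMap α π) (p₂ α π) (p₂_surjective α π hπ) (exact_kMap_p₂ α π) hk
  refine ⟨p₁ α π ∘ₗ s, ?_⟩
  apply LinearMap.ext
  intro m
  have h1 : p₂ α π (s m) = m := LinearMap.congr_fun hs m
  change α m = π (p₁ α π (s m))
  rw [comm_sq, h1]


/-- Let α : M → M' be a map of R-modules with M finitely presented such that the induced map Tor_1(M, N)
→ Tor_1(M', N) is zero for every R-module N. Then α is the composite of a map from M into a free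
R-module and a map from that free module to M'. -/
theorem result (R : Type u) [CommRing R] (M M' : Type u) [AddCommGroup M] [Module R M] [Module.FinitePresentation R M] [AddCommGroup M'] [Module R M'] (α : M →ₗ[R] M') (h : ∀ (N : Type u) [AddCommGroup N] [Module R N], ((CategoryTheory.Tor (ModuleCat.{u} R) 1).map (ModuleCat.ofHom α)).app (ModuleCat.of R N) = 0) : ∃ (ι : Type u) (g : M →ₗ[R] (ι →₀ R)) (h : (ι →₀ R) →ₗ[R] M'), α = h ∘ₗ g := by
  obtain ⟨g, hg⟩ := exists_factor α (Finsupp.linearCombination R (id : M' → M'))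
    (Finsupp.linearCombination_id_surjective R M') h
  exact ⟨M', g, _, hg⟩

end Groth.Agent.S1740
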