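import Groth.Statements.S17409
import Mathlib.RingTheory.MvPolynomial.Ideal
import Mathlib.Algebra.MvPolynomial.Rename
import Mathlib.Tactic

set_option autoImplicit false
universe u
open Prym5

namespace Groth.Agent.S17409
open MvPolynomial

theorem aeval_mem_pow {K : Type u} [Field K] {m n : ℕ} (v : Fin m → MvPolynomial (Fin n) K)
    (hv : ∀ i, v i ∈ idealOfVars (Fin n) K) (e : ℕ) (p : MvPolynomial (Fin m) K)
    (hp : p ∈ idealOfVars (Fin m) K ^ e) : aeval v p ∈ idealOfVars (Fin n) K ^ e := by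
  have h1 : Ideal.map (aeval v : MvPolynomial (Fin m) K →ₐ[K] MvPolynomial (Fin n) K)
      (idealOfVars (Fin m) K) ≤ idealOfVars (Fin n) K := by
    rw [Ideal.map_span, Ideal.span_le]
    rintro _ ⟨_, ⟨i, rfl⟩, rfl⟩
    simpa using hv i
  have h2 := Ideal.pow_right_mono h1 e
  rw [← Ideal.map_pow] at h2
  exact h2 (Ideal.mem_map_of_mem _ hp)

theorem X_mem {K : Type u} [Field K] {n : ℕ} (i : Fin n) : (X i : MvPolynomial (Fin n) K) ∈ idealOfVars (Fin n) K :=
  Ideal.subset_span ⟨i, rfl⟩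

theorem mem_of_mul_X_mem_sq {K : Type u} [Field K] (G : MvPolynomial (Fin 2) K)
    (h : G * X 0 ∈ idealOfVars (Fin 2) K ^ 2) : G ∈ idealOfVars (Fin 2) K := by
  rw [← pow_one (idealOfVars (Fin 2) K), mem_pow_idealOfVars_iff']
  intro x hx
  have hx0 : x = 0 := by
    have : x.degree = 0 := by omega
    exact (Finsupp.degree_eq_zero_iff x).mp this
  subst hx0
  have h1 := (mem_pow_idealOfVars_iff' 2 _).mp h (0 + Finsupp.single 0 1) (by simp)
  rwa [coeff_mul_X] at h1

theorem main1 (K : Type u) [Field K] (h2 : (2 : K) ≠ 0) (G₂ G₃ G₄ : MvPolynomial (Fin 2) K)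
    (h : MvPolynomial.rename (Fin.castSucc : Fin 2 → Fin 3) G₂ * MvPolynomial.X (2 : Fin 3) ^ 2
        + 2 * MvPolynomial.rename (Fin.castSucc : Fin 2 → Fin 3) G₃ * MvPolynomial.X (2 : Fin 3)
        + MvPolynomial.rename (Fin.castSucc : Fin 2 → Fin 3) G₄
        ∈ (Ideal.span (Set.range (MvPolynomial.X : Fin 3 → MvPolynomial (Fin 3) K))) ^ 2) :
    G₃ ∈ idealOfVars (Fin 2) K ∧ G₄ ∈ idealOfVars (Fin 2) K ^ 2 := by
  have hc0 : (![X 0, X 1, 0] : Fin 3 → MvPolynomial (Fin 2) K) ∘ (Fin.castSucc : Fin 2 → Fin 3) = X := by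
    funext i; fin_cases i <;> rfl
  have hc1 : (![X 0, X 1, X 0] : Fin 3 → MvPolynomial (Fin 2) K) ∘ (Fin.castSucc : Fin 2 → Fin 3) = X := by
    funext i; fin_cases i <;> rfl
  have hG4 : G₄ ∈ idealOfVars (Fin 2) K ^ 2 := by
    have := aeval_mem_pow (![X 0, X 1, 0] : Fin 3 → MvPolynomial (Fin 2) K) (by
      intro i; fin_cases i
      · exact X_mem 0
      · exact X_mem 1
      · exact Ideal.zero_mem _) 2 _ h
    simp only [map_add, map_mul, map_pow, aeval_rename, hc0, aeval_X_left, AlgHom.id_apply,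
      aeval_X, map_ofNat] at this
    simpa using this
  refine ⟨?_, hG4⟩
  have := aeval_mem_pow (![X 0, X 1, X 0] : Fin 3 → MvPolynomial (Fin 2) K) (by
      intro i; fin_cases i
      · exact X_mem 0
      · exact X_mem 1
      · exact X_mem 0) 2 _ h
  simp only [map_add, map_mul, map_pow, aeval_rename, hc1, aeval_X_left, AlgHom.id_apply,
      aeval_X, map_ofNat] at this
  have e : (![X 0, X 1, X 0] : Fin 3 → MvPolynomial (Fin 2) K) 2 = X 0 := rfl
  rw [e] at this
  -- this : G₂ * X 0 ^ 2 + 2 * G₃ * X 0 + G₄ ∈ m^2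
  have h3 : G₂ * X 0 ^ 2 ∈ idealOfVars (Fin 2) K ^ 2 :=
    Ideal.mul_mem_left _ _ (Ideal.pow_mem_pow (X_mem 0) 2)
  have h4 : 2 * G₃ * X 0 ∈ idealOfVars (Fin 2) K ^ 2 := by
    have := Ideal.sub_mem _ (Ideal.sub_mem _ this h3) hG4
    convert this using 1; ring
  have h5 : G₃ * X 0 ∈ idealOfVars (Fin 2) K ^ 2 := by
    have := Ideal.mul_mem_left _ (C (2⁻¹ : K)) h4
    convert this using 1
    have : (C (2⁻¹ : K) : MvPolynomial (Fin 2) K) * 2 = 1 := by
      rw [show (2 : MvPolynomial (Fin 2) K) = C 2 from (map_ofNat C 2).symm, ← C_mul,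
        inv_mul_cancel₀ h2, C_1]
    calc G₃ * X 0 = (C (2⁻¹ : K) * 2) * (G₃ * X 0) := by rw [this, one_mul]
      _ = _ := by ring
  exact mem_of_mul_X_mem_sq G₃ h5


/-- Over a perfect field K of characteristic different from 2 and 3, let G₂, G₃, G₄ be polynomials in
two variables x, y and consider G₂ z² + 2 G₃ z + G₄ as a polynomial in the three variables x, y, z.
If it lies in the square of the ideal (x, y, z) — the surface it defines has a double point at the
origin — then the discriminant G₃² − G₂ G₄ lies in the square of the ideal (x, y) of K[x, y], so the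
plane curve G₃² − G₂ G₄ = 0 is singular at the origin. (This is the affine-local form used in the
published proof: the surface is a quartic with a node at the centre of projection placed at infinity
on the z-axis, and the curve is the branch sextic of that projection.) -/
theorem result (K : Type u) [Field K] [PerfectField K]
    (h2 : (2 : K) ≠ 0) (h3 : (3 : K) ≠ 0) (G₂ G₃ G₄ : MvPolynomial (Fin 2) K)
    (h : MvPolynomial.rename (Fin.castSucc : Fin 2 → Fin 3) G₂ * MvPolynomial.X (2 : Fin 3) ^ 2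
        + 2 * MvPolynomial.rename (Fin.castSucc : Fin 2 → Fin 3) G₃ * MvPolynomial.X (2 : Fin 3)
        + MvPolynomial.rename (Fin.castSucc : Fin 2 → Fin 3) G₄
        ∈ (Ideal.span (Set.range (MvPolynomial.X : Fin 3 → MvPolynomial (Fin 3) K))) ^ 2) :
    G₃ ^ 2 - G₂ * G₄ ∈ (Ideal.span (Set.range (MvPolynomial.X : Fin 2 → MvPolynomial (Fin 2) K))) ^ 2 := by
  obtain ⟨h3', h4'⟩ := main1 K h2 G₂ G₃ G₄ h
  exact Ideal.sub_mem _ (Ideal.pow_mem_pow h3' 2) (Ideal.mul_mem_left _ _ h4')

end Groth.Agent.S17409
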