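import Mathlib
import Groth.Statements.S17410

set_option autoImplicit false
universe u
open Prym5

namespace Groth.Agent.S17410

section Helpers

open Polynomial TensorProduct

/-- Part 2: generic rank -/
theorem finrank_tensor_adjoinRoot (R : Type u) [CommRing R] [IsDomain R] (h : R[X]) (h0 : h ≠ 0) :
    Module.finrank (FractionRing R) (FractionRing R ⊗[R] AdjoinRoot h) = h.natDegree := by
  let L := FractionRing R
  let q : (L ⊗[R] R)[X] := h.map (Algebra.TensorProduct.includeRight : R →ₐ[R] L ⊗[R] R).toRingHom
  let e1 : L ⊗[R] AdjoinRoot h ≃ₐ[L] AdjoinRoot q := AdjoinRoot.tensorAlgEquiv h q rfl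
  let hL : L[X] := h.map (algebraMap R L)
  have hass : Associated (q.map (Algebra.TensorProduct.rid R L L)) hL := by
    have : q.map (Algebra.TensorProduct.rid R L L) = hL := by
      simp only [q, hL, Polynomial.map_map]
      congr 1
      ext r
      simp [Algebra.algebraMap_eq_smul_one]
    rw [this]
  let e2 : AdjoinRoot q ≃ₐ[L] AdjoinRoot hL :=
    AdjoinRoot.mapAlgEquiv (Algebra.TensorProduct.rid R L L) q hL hass
  have hL0 : hL ≠ 0 :=
    (Polynomial.map_ne_zero_iff (IsFractionRing.injective R L)).mpr h0
  rw [LinearEquiv.finrank_eq (e1.trans e2).toLinearEquiv, (AdjoinRoot.powerBasis hL0).finrank,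
    AdjoinRoot.powerBasis_dim]
  exact Polynomial.natDegree_map_eq_of_injective (IsFractionRing.injective R L) h

/-- Part 1, (⇐) -/
theorem isIntegral_of_isUnit (R : Type u) [CommRing R] [IsDomain R] (h : R[X])
    (S : Submonoid R) (hu : IsUnit (algebraMap R (Localization S) h.leadingCoeff)) :
    Algebra.IsIntegral (Localization S)
      (Localization (Algebra.algebraMapSubmonoid (AdjoinRoot h) S)) := by
  obtain ⟨m, hm, r, hr⟩ := (IsLocalization.algebraMap_isUnit_iff S).mp hu
  have hroot : IsIntegral (Localization S)
      (algebraMap (AdjoinRoot h) (Localization (Algebra.algebraMapSubmonoid (AdjoinRoot h) S))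
        (AdjoinRoot.root h)) := by
    have := is_integral_localization_at_leadingCoeff (M := S)
      (Rₘ := Localization S) (Sₘ := Localization (Algebra.algebraMapSubmonoid (AdjoinRoot h) S))
      (x := AdjoinRoot.root h) (C r * h) (by simp)
      (by rw [leadingCoeff_mul, leadingCoeff_C, mul_comm, ← hr]; exact hm)
    exact this
  have hall : ∀ a : AdjoinRoot h, IsIntegral (Localization S)
      (algebraMap (AdjoinRoot h) (Localization (Algebra.algebraMapSubmonoid (AdjoinRoot h) S))
        a) := by
    intro a
    induction a using AdjoinRoot.induction_on with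
    | ih p =>
      induction p using Polynomial.induction_on with
      | C c =>
        rw [AdjoinRoot.mk_C, ← AdjoinRoot.algebraMap_eq, ← IsScalarTower.algebraMap_apply,
          IsScalarTower.algebraMap_apply R (Localization S)]
        exact isIntegral_algebraMap
      | add p q hp hq => rw [map_add, map_add]; exact hp.add hq
      | monomial n c ih =>
        rw [pow_succ, ← mul_assoc, map_mul, AdjoinRoot.mk_X, map_mul]
        exact ih.mul hroot
  constructor
  intro x
  obtain ⟨⟨a, s⟩, hx⟩ := IsLocalization.surj (Algebra.algebraMapSubmonoid (AdjoinRoot h) S) x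
  obtain ⟨t, ht, hts⟩ := s.2
  simp only at hx
  set v : Localization S := IsLocalization.mk' (Localization S) 1 ⟨t, ht⟩ with hv
  have hvt : v * algebraMap R (Localization S) t = 1 := by
    rw [hv]
    have := IsLocalization.mk'_spec (Localization S) (1 : R) ⟨t, ht⟩
    rwa [map_one] at this
  have hxeq : x = algebraMap (AdjoinRoot h) _ a * algebraMap (Localization S) _ v := by
    have h1 : algebraMap (Localization S)
        (Localization (Algebra.algebraMapSubmonoid (AdjoinRoot h) S)) (v * algebraMap R _ t) = 1 := by
      rw [hvt, map_one]
    rw [map_mul, ← IsScalarTower.algebraMap_apply,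
      IsScalarTower.algebraMap_apply R (AdjoinRoot h), hts] at h1
    calc x = x * (algebraMap (Localization S) _ v * algebraMap (AdjoinRoot h) _ (s : AdjoinRoot h)) := by
          rw [h1, mul_one]
      _ = (x * algebraMap (AdjoinRoot h) _ (s : AdjoinRoot h)) * algebraMap (Localization S) _ v := by
          ring
      _ = _ := by rw [hx]
  rw [hxeq]
  exact (hall a).mul isIntegral_algebraMap

/-- Part 1, (⇒) -/
theorem isUnit_of_isIntegral (R : Type u) [CommRing R] [IsDomain R] (h : R[X])
    (S : Submonoid R)
    (hint : Algebra.IsIntegral (Localization S)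
      (Localization (Algebra.algebraMapSubmonoid (AdjoinRoot h) S))) :
    IsUnit (algebraMap R (Localization S) h.leadingCoeff) := by
  by_cases hS : (0 : R) ∈ S
  · have : Subsingleton (Localization S) := IsLocalization.subsingleton hS
    exact isUnit_of_subsingleton _
  have hSle : S ≤ nonZeroDivisors R := le_nonZeroDivisors_of_noZeroDivisors hS
  have hinj : Function.Injective (algebraMap R (Localization S)) :=
    IsLocalization.injective _ hSle
  have : IsDomain (Localization S) := IsLocalization.isDomain_localization hSle
  obtain ⟨g, hgmonic, hg⟩ := Algebra.IsIntegral.isIntegral (R := Localization S)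
    (algebraMap (AdjoinRoot h) (Localization (Algebra.algebraMapSubmonoid (AdjoinRoot h) S))
      (AdjoinRoot.root h))
  have hg' : aeval (algebraMap (AdjoinRoot h)
      (Localization (Algebra.algebraMapSubmonoid (AdjoinRoot h) S)) (AdjoinRoot.root h)) g = 0 := hg
  have hG := IsLocalization.integerNormalization_aeval_eq_zero S g hg'
  rw [Polynomial.aeval_algebraMap_apply] at hG
  obtain ⟨t', ht'⟩ := (IsLocalization.map_eq_zero_iff
    (Algebra.algebraMapSubmonoid (AdjoinRoot h) S) _ _).mp hG
  obtain ⟨t, ht, htt'⟩ := t'.2
  have hdvd : h ∣ C t * IsLocalization.integerNormalization S g := by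
    rw [← AdjoinRoot.mk_eq_zero, map_mul, AdjoinRoot.mk_C, ← AdjoinRoot.aeval_eq,
      ← AdjoinRoot.algebraMap_eq, htt']
    exact ht'
  obtain ⟨q, hq⟩ := hdvd
  obtain ⟨b, hbS, hb⟩ := IsLocalization.integerNormalization_spec S g
  have key := congrArg (fun f => (f.map (algebraMap R (Localization S))).leadingCoeff) hq
  simp only [Polynomial.map_mul, Polynomial.map_C, hb, leadingCoeff_mul, leadingCoeff_C] at key
  rw [Algebra.smul_def, leadingCoeff_mul, Polynomial.algebraMap_apply, leadingCoeff_C,
    hgmonic.leadingCoeff, mul_one, Polynomial.leadingCoeff_map_of_injective hinj] at key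
  have hunit : IsUnit (algebraMap R (Localization S) t * algebraMap R (Localization S) b) :=
    (IsLocalization.map_units _ ⟨t, ht⟩).mul (IsLocalization.map_units _ ⟨b, hbS⟩)
  rw [key] at hunit
  exact isUnit_of_mul_isUnit_left hunit

end Helpers

/-- Over a perfect field K of characteristic different from 2 and 3, let h be an irreducible polynomial
of degree 2 in the variable z with coefficients in K[x, y] and A = K[x, y][z]/(h). For every
multiplicative subset S of K[x, y], the localisation S⁻¹A is integral over S⁻¹K[x, y] if and only if
the leading coefficient of h is invertible in S⁻¹K[x, y]; and K(x, y) ⊗ A is a K(x, y)-vector space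
of dimension 2. (Geometrically: for a quartic surface with an ordinary double point, written u₂ x₃²
+ 2 u₃ x₃ + u₄ = 0 with the node at (0:0:0:1), the projection from the node restricted to a standard
affine chart of the plane is given by such an algebra A with leading coefficient the dehomogenised
u₂, so the projection is finite of degree two exactly over the locus u₂ ≠ 0. Stated for any
irreducible h of degree 2, which is all the argument uses.) -/
theorem result (K : Type u) [Field K]
    [PerfectField K] (h2 : (2 : K) ≠ 0) (h3 : (3 : K) ≠ 0)
    (h : Polynomial (MvPolynomial (Fin 2) K)) (hirr : Irreducible h) (hdeg : h.natDegree = 2)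
    (S : Submonoid (MvPolynomial (Fin 2) K)) :
    (Algebra.IsIntegral (Localization S) (Localization (Algebra.algebraMapSubmonoid (AdjoinRoot h) S))
        ↔ IsUnit (algebraMap (MvPolynomial (Fin 2) K) (Localization S) h.leadingCoeff))
      ∧ Module.finrank (FractionRing (MvPolynomial (Fin 2) K))
          (TensorProduct (MvPolynomial (Fin 2) K) (FractionRing (MvPolynomial (Fin 2) K)) (AdjoinRoot h)) = 2 := by
  have h0 : h ≠ 0 := by
    rintro rfl
    simp at hdeg
  refine ⟨⟨fun hint => isUnit_of_isIntegral _ h S hint, fun hu => isIntegral_of_isUnit _ h S hu⟩, ?_⟩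
  exact (finrank_tensor_adjoinRoot _ h h0).trans hdeg

end Groth.Agent.S17410
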