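import Groth.Statements.S17411
import Groth.Agent.Lib.H30DimField

set_option autoImplicit false
universe u
open CategoryTheory AlgebraicGeometry
open Prym5

namespace Groth.Agent.S17411

open Groth.Agent.Lib.H30DimField

/-- dense range from a Noetherian space hits the generic point -/
theorem genericPoint_mem_range {X Z : Type u} [TopologicalSpace X] [TopologicalSpace Z]
    [TopologicalSpace.NoetherianSpace X] [QuasiSober X] [QuasiSober Z] [T0Space Z]
    [IrreducibleSpace Z] (f : X → Z) (hf : Continuous f) (hd : DenseRange f) :
    genericPoint Z ∈ Set.range f := by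
  have hfin : (irreducibleComponents X).Finite :=
    TopologicalSpace.NoetherianSpace.finite_irreducibleComponents
  have h1 : Set.range f = ⋃ T ∈ irreducibleComponents X, f '' T := by
    rw [← Set.image_univ, ← sUnion_irreducibleComponents, Set.sUnion_eq_biUnion, Set.image_iUnion₂]
  have h2 : genericPoint Z ∈ closure (Set.range f) := by
    rw [hd.closure_range]; trivial
  rw [h1, hfin.closure_biUnion] at h2
  simp only [Set.mem_iUnion] at h2
  obtain ⟨T, hT, hmem⟩ := h2
  have hTi : IsIrreducible T := hT.1
  have hTc : IsClosed T := isClosed_of_mem_irreducibleComponents T hT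
  set t := hTi.genericPoint with ht
  have htT : closure ({t} : Set X) = T := by
    have := hTi.genericPoint_closure_eq
    rw [hTc.closure_eq] at this
    exact this
  have h3 : f '' T ⊆ closure ({f t} : Set Z) := by
    rw [← htT]
    refine (image_closure_subset_closure_image hf).trans ?_
    rw [Set.image_singleton]
  have h4 : genericPoint Z ∈ closure ({f t} : Set Z) :=
    closure_minimal h3 isClosed_closure hmem
  have h5 : f t ⤳ genericPoint Z := specializes_iff_mem_closure.mpr h4
  have h6 : genericPoint Z ⤳ f t := genericPoint_specializes _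
  exact ⟨t, (h5.antisymm h6).eq⟩

variable (k : Type u) [Field k]

theorem toGlobal_comp {Y Z : Scheme.{u}} [Y.Over (Spec (CommRingCat.of k))]
    [Z.Over (Spec (CommRingCat.of k))] (f : Y ⟶ Z) [f.IsOver (Spec (CommRingCat.of k))] (a : k) :
    f.appTop.hom (Coh.toGlobal (Z ↘ Spec (CommRingCat.of k)) a) =
      Coh.toGlobal (Y ↘ Spec (CommRingCat.of k)) a := by
  unfold Coh.toGlobal
  have h : f ≫ (Z ↘ Spec (CommRingCat.of k)) = (Y ↘ Spec (CommRingCat.of k)) :=
    CategoryTheory.comp_over f _
  rw [← h]
  simp only [Scheme.Hom.comp_appTop, CommRingCat.hom_comp]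
  rfl

theorem residueFieldMap_resMap {Y Z : Scheme.{u}} [Y.Over (Spec (CommRingCat.of k))]
    [Z.Over (Spec (CommRingCat.of k))] (f : Y ⟶ Z) [f.IsOver (Spec (CommRingCat.of k))] (y : Y)
    (a : k) :
    (f.residueFieldMap y).hom (Curv2.resMap k Z (f y) a) = Curv2.resMap k Y y a := by
  have h1 := Scheme.Γevaluation_naturality_apply f y (Coh.toGlobal (Z ↘ Spec (CommRingCat.of k)) a)
  have h2 := toGlobal_comp k f a
  rw [h2] at h1
  exact h1

theorem td_map_le {Y Z : Scheme.{u}} [Y.Over (Spec (CommRingCat.of k))]
    [Z.Over (Spec (CommRingCat.of k))] [LocallyOfFiniteType (Y ↘ Spec (CommRingCat.of k))]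
    (f : Y ⟶ Z) [f.IsOver (Spec (CommRingCat.of k))] (y : Y) :
    td k Z (f y) ≤ td k Y y := by
  letI := Curv2.resAlgebra k Y y
  letI := Curv2.resAlgebra k Z (f y)
  let φ : Z.residueField (f y) →ₐ[k] Y.residueField y :=
    { (f.residueFieldMap y).hom with
      commutes' := fun a => residueFieldMap_resMap k f y a }
  have h1 : Algebra.trdeg k (Z.residueField (f y)) ≤ Algebra.trdeg k (Y.residueField y) :=
    _root_.trdeg_le_of_injective φ φ.injective
  have h2 := Cardinal.toNat_le_toNat h1 (trdeg_lt_aleph0 k Y y)
  unfold td
  exact_mod_cast h2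


/-- Let k be an algebraically closed field of characteristic zero and X, Y, Z schemes of finite type
over k, with Y and Z irreducible of the same dimension, η : Y → Z a dominant k-morphism and ρ : X →
Y a k-morphism. Then the composite ρ ≫ η is dominant exactly when ρ is dominant. (The published
statement concerns the forgetful map from the moduli space of étale double covers of genus-five
curves to the moduli space of genus-five curves, both irreducible of dimension 12, and a morphism
into the former; its argument uses only the hypotheses kept here.) -/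
theorem result (k : Type u) [Field k] [IsAlgClosed k]
    [CharZero k] (X Y Z : Scheme.{u}) [X.Over (Spec (CommRingCat.of k))] [Y.Over (Spec (CommRingCat.of k))]
    [Z.Over (Spec (CommRingCat.of k))]
    [LocallyOfFiniteType (X ↘ Spec (CommRingCat.of k))] [QuasiCompact (X ↘ Spec (CommRingCat.of k))]
    [LocallyOfFiniteType (Y ↘ Spec (CommRingCat.of k))] [QuasiCompact (Y ↘ Spec (CommRingCat.of k))]
    [LocallyOfFiniteType (Z ↘ Spec (CommRingCat.of k))] [QuasiCompact (Z ↘ Spec (CommRingCat.of k))]
    [IrreducibleSpace Y] [IrreducibleSpace Z] (hdim : topologicalKrullDim Y = topologicalKrullDim Z)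
    (ρ : X ⟶ Y) [ρ.IsOver (Spec (CommRingCat.of k))] (η : Y ⟶ Z) [η.IsOver (Spec (CommRingCat.of k))]
    [IsDominant η] :
    IsDominant (ρ ≫ η) ↔ IsDominant ρ := by
  constructor
  · intro hcomp
    by_contra hρ
    have hXN : IsLocallyNoetherian X := isLocallyNoetherian k X
    haveI : CompactSpace X := QuasiCompact.compactSpace_of_compactSpace (X ↘ Spec (CommRingCat.of k))
    haveI : IsNoetherian X := {}
    have hδY := isDimFun k Y
    -- generic point of Y not in range of ρ
    have hnot : ∀ x : X, ρ x ≠ genericPoint Y := by
      intro x hx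
      apply hρ
      refine ⟨?_⟩
      intro y
      have h1 : genericPoint Y ∈ closure (Set.range ρ) := subset_closure ⟨x, hx⟩
      have h2 : closure ({genericPoint Y} : Set Y) ⊆ closure (Set.range ρ) :=
        closure_minimal (Set.singleton_subset_iff.mpr h1) isClosed_closure
      exact h2 (specializes_iff_mem_closure.mp (genericPoint_specializes y))
    have hYd := krullDim_eq_td k Y
    have hZd := krullDim_eq_td k Z
    rw [hYd, hZd] at hdim
    have hdim' : (td k Y (genericPoint Y)).toNat = (td k Z (genericPoint Z)).toNat := by
      exact_mod_cast hdim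
    obtain ⟨x, hx⟩ := genericPoint_mem_range (ρ ≫ η) (ρ ≫ η).continuous hcomp.1
    have h1 : td k Z ((ρ ≫ η) x) ≤ td k Y (ρ x) := by
      have := td_map_le k η (ρ x)
      simpa using this
    rw [hx] at h1
    have h2 := (hδY (genericPoint Y) (ρ x) (genericPoint_specializes _) (hnot x).symm).1
    have h3 := td_nonneg k Y (genericPoint Y)
    have h4 := td_nonneg k Z (genericPoint Z)
    omega
  · intro hρ
    infer_instance

end Groth.Agent.S17411
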