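import Groth.Statements.S17414
import Groth.Agent.S17409

set_option autoImplicit false
universe u
open Prym5

namespace Groth.Agent.S17414

open MvPolynomial

theorem mem_idealOfVars_iff {K : Type u} [Field K] {n : ℕ} (p : MvPolynomial (Fin n) K) :
    p ∈ idealOfVars (Fin n) K ↔ constantCoeff p = 0 := by
  rw [← pow_one (idealOfVars (Fin n) K), mem_pow_idealOfVars_iff']
  constructor
  · intro h
    exact h 0 (by simp)
  · intro h x hx
    have hx0 : x = 0 := by
      have : x.degree = 0 := by omega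
      exact (Finsupp.degree_eq_zero_iff x).mp this
    subst hx0
    exact h

/-- Over a perfect field K of characteristic different from 2 and 3, let G₂, G₃, G₄ be polynomials in x,
y, let h = G₂ z² + 2 G₃ z + G₄ in K[x, y, z] and D = G₃² − G₂ G₄ in K[x, y]. Suppose h ∈ (x, y, z) —
the origin Q lies on the surface h = 0 — and D ∈ (x, y) — the image of Q under (x, y, z) ↦ (x, y)
lies on the discriminant curve D = 0. Then D ∈ (x, y)², i.e. the image point is singular on the
discriminant curve, if and only if either h ∈ (x, y, z)², i.e. Q is a singular point of the surface,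
or G₂, G₃, G₄ ∈ (x, y), i.e. Q lies on all three cones G₂ = G₃ = G₄ = 0. (Affine-local form, in a
chart where the node projected from sits at infinity on the z-axis and Q at the origin, of the
published claim: for a point Q ≠ P of the nodal quartic whose projection lies on the branch sextic,
the projection is singular on the sextic exactly when Q is singular on the quartic or lies on the
cones u₂ = u₃ = u₄ = 0.) -/
theorem result (K : Type u) [Field K] [PerfectField K]
    (h2 : (2 : K) ≠ 0) (h3 : (3 : K) ≠ 0) (G₂ G₃ G₄ : MvPolynomial (Fin 2) K)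
    (hQ : MvPolynomial.rename (Fin.castSucc : Fin 2 → Fin 3) G₂ * MvPolynomial.X (2 : Fin 3) ^ 2
        + 2 * MvPolynomial.rename (Fin.castSucc : Fin 2 → Fin 3) G₃ * MvPolynomial.X (2 : Fin 3)
        + MvPolynomial.rename (Fin.castSucc : Fin 2 → Fin 3) G₄
        ∈ Ideal.span (Set.range (MvPolynomial.X : Fin 3 → MvPolynomial (Fin 3) K)))
    (hD : G₃ ^ 2 - G₂ * G₄ ∈ Ideal.span (Set.range (MvPolynomial.X : Fin 2 → MvPolynomial (Fin 2) K))) :
    G₃ ^ 2 - G₂ * G₄ ∈ (Ideal.span (Set.range (MvPolynomial.X : Fin 2 → MvPolynomial (Fin 2) K))) ^ 2 ↔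
      (MvPolynomial.rename (Fin.castSucc : Fin 2 → Fin 3) G₂ * MvPolynomial.X (2 : Fin 3) ^ 2
          + 2 * MvPolynomial.rename (Fin.castSucc : Fin 2 → Fin 3) G₃ * MvPolynomial.X (2 : Fin 3)
          + MvPolynomial.rename (Fin.castSucc : Fin 2 → Fin 3) G₄
          ∈ (Ideal.span (Set.range (MvPolynomial.X : Fin 3 → MvPolynomial (Fin 3) K))) ^ 2 ∨
        (G₂ ∈ Ideal.span (Set.range (MvPolynomial.X : Fin 2 → MvPolynomial (Fin 2) K)) ∧
          G₃ ∈ Ideal.span (Set.range (MvPolynomial.X : Fin 2 → MvPolynomial (Fin 2) K)) ∧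
          G₄ ∈ Ideal.span (Set.range (MvPolynomial.X : Fin 2 → MvPolynomial (Fin 2) K)))) := by
  have hc0 : (![X 0, X 1, 0] : Fin 3 → MvPolynomial (Fin 2) K) ∘ (Fin.castSucc : Fin 2 → Fin 3) = X := by
    funext i; fin_cases i <;> rfl
  have hG4 : G₄ ∈ idealOfVars (Fin 2) K := by
    have hQ' := hQ
    rw [← pow_one (Ideal.span (Set.range (MvPolynomial.X : Fin 3 → MvPolynomial (Fin 3) K)))] at hQ'
    have := Groth.Agent.S17409.aeval_mem_pow (![X 0, X 1, 0] : Fin 3 → MvPolynomial (Fin 2) K) (by
      intro i; fin_cases i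
      · exact Groth.Agent.S17409.X_mem 0
      · exact Groth.Agent.S17409.X_mem 1
      · exact Ideal.zero_mem _) 1 _ hQ'
    simp only [map_add, map_mul, map_pow, aeval_rename, hc0, aeval_X_left, AlgHom.id_apply,
      aeval_X, map_ofNat] at this
    simpa using this
  have hG3 : G₃ ∈ idealOfVars (Fin 2) K := by
    have h1 : G₃ ^ 2 ∈ idealOfVars (Fin 2) K := by
      have := Ideal.add_mem _ hD (Ideal.mul_mem_left _ G₂ hG4)
      convert this using 1; ring
    rw [mem_idealOfVars_iff] at h1 ⊢
    rw [map_pow] at h1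
    exact pow_eq_zero_iff (two_ne_zero) |>.mp h1
  constructor
  · intro hD2
    by_cases hG2 : G₂ ∈ idealOfVars (Fin 2) K
    · exact Or.inr ⟨hG2, hG3, hG4⟩
    · left
      have hprod : G₂ * G₄ ∈ idealOfVars (Fin 2) K ^ 2 := by
        have := Ideal.sub_mem _ (Ideal.pow_mem_pow hG3 2) hD2
        convert this using 1; ring
      have hc : constantCoeff G₂ ≠ 0 := fun h0 => hG2 ((mem_idealOfVars_iff _).mpr h0)
      have hG2' : G₂ - C (constantCoeff G₂) ∈ idealOfVars (Fin 2) K := by
        rw [mem_idealOfVars_iff, map_sub, constantCoeff_C, sub_self]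
      have hG4' : G₄ ∈ idealOfVars (Fin 2) K ^ 2 := by
        have h1 : (G₂ - C (constantCoeff G₂)) * G₄ ∈ idealOfVars (Fin 2) K ^ 2 := by
          rw [pow_two]; exact Ideal.mul_mem_mul hG2' hG4
        have h2 := Ideal.mul_mem_left _ (C (constantCoeff G₂)⁻¹) (Ideal.sub_mem _ hprod h1)
        convert h2 using 1
        have : (C (constantCoeff G₂)⁻¹ : MvPolynomial (Fin 2) K) * C (constantCoeff G₂) = 1 := by
          rw [← C_mul, inv_mul_cancel₀ hc, C_1]
        calc G₄ = (C (constantCoeff G₂)⁻¹ * C (constantCoeff G₂)) * G₄ := by rw [this, one_mul]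
          _ = _ := by ring
      have hren : ∀ (e : ℕ) (G : MvPolynomial (Fin 2) K), G ∈ idealOfVars (Fin 2) K ^ e →
          rename (Fin.castSucc : Fin 2 → Fin 3) G ∈ idealOfVars (Fin 3) K ^ e := by
        intro e G hG
        have := Groth.Agent.S17409.aeval_mem_pow
          (fun i : Fin 2 => (X (Fin.castSucc i) : MvPolynomial (Fin 3) K))
          (fun i => Groth.Agent.S17409.X_mem _) e G hG
        rw [rename_eq_aeval]
        exact this
      have hX2 : (X (2 : Fin 3) : MvPolynomial (Fin 3) K) ∈ idealOfVars (Fin 3) K :=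
        Groth.Agent.S17409.X_mem _
      refine Ideal.add_mem _ (Ideal.add_mem _ ?_ ?_) (hren 2 G₄ hG4')
      · exact Ideal.mul_mem_left _ _ (Ideal.pow_mem_pow hX2 2)
      · rw [mul_assoc, pow_two]
        refine Ideal.mul_mem_left _ _ (Ideal.mul_mem_mul ?_ hX2)
        have := hren 1 G₃ (by rwa [pow_one])
        rwa [pow_one] at this
  · rintro (h | ⟨hG2, -, -⟩)
    · obtain ⟨h3', h4'⟩ := Groth.Agent.S17409.main1 K h2 G₂ G₃ G₄ h
      exact Ideal.sub_mem _ (Ideal.pow_mem_pow h3' 2) (Ideal.mul_mem_left _ _ h4')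
    · refine Ideal.sub_mem _ (Ideal.pow_mem_pow hG3 2) ?_
      rw [pow_two]
      exact Ideal.mul_mem_mul hG2 hG4

end Groth.Agent.S17414
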