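import Groth.Statements.S1742
import Mathlib.RingTheory.Regular.Flat
import Mathlib.RingTheory.Localization.BaseChange
import Mathlib.RingTheory.Support
-- import your own Groth.Agent.* helpers here

set_option autoImplicit false
universe u
open LocCoh

namespace Groth.Agent.S1742

open RingTheory.Sequence
open scoped Pointwise


section clear

variable {R : Type u} [CommRing R]

theorem smul_top_eq_of_unit_mul {N : Type*} [AddCommGroup N] [Module R N] (r u : R) (hu : IsUnit u) :
    (r * u) • (⊤ : Submodule R N) = r • (⊤ : Submodule R N) := by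
  obtain ⟨v, hv⟩ := hu.exists_right_inv
  apply le_antisymm
  · rintro _ ⟨x, -, rfl⟩
    refine ⟨u • x, trivial, ?_⟩
    change r • u • x = (r * u) • x
    rw [mul_smul]
  · rintro _ ⟨x, -, rfl⟩
    refine ⟨v • x, trivial, ?_⟩
    change (r * u) • v • x = r • x
    rw [← mul_smul, mul_assoc, hv, mul_one]

/-- Replacing the terms of a weakly regular sequence by unit multiples lying in the image of an
ideal: clearing denominators in a localization. -/
theorem exists_list_of_isWeaklyRegular_map {A : Type u} [CommRing A] [Algebra A R]
    (S : Submonoid A) [IsLocalization S R] (I : Ideal A) :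
    ∀ (rs : List R) (N : Type u) [AddCommGroup N] [Module R N],
      (∀ r ∈ rs, r ∈ I.map (algebraMap A R)) → IsWeaklyRegular N rs →
      ∃ as : List A, (∀ a ∈ as, a ∈ I) ∧ as.length = rs.length ∧
        IsWeaklyRegular N (as.map (algebraMap A R)) := by
  intro rs
  induction rs with
  | nil =>
    intro N _ _ _ h
    exact ⟨[], by simp, rfl, by simp⟩
  | cons r rs ih =>
    intro N _ _ hmem h
    rw [isWeaklyRegular_cons_iff] at h
    obtain ⟨⟨a, s⟩, has⟩ := (IsLocalization.mem_map_algebraMap_iff S R).mp
      (hmem r (List.mem_cons_self))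
    have hu : IsUnit (algebraMap A R s) := IsLocalization.map_units R s
    have hreg : IsSMulRegular N (algebraMap A R a) := by
      rw [← has]
      exact h.1.mul (hu.isSMulRegular N)
    have heq : (algebraMap A R a) • (⊤ : Submodule R N) = r • (⊤ : Submodule R N) := by
      rw [← has]
      exact smul_top_eq_of_unit_mul r _ hu
    obtain ⟨as, has1, has2, has3⟩ := ih (QuotSMulTop r N)
      (fun r' hr' => hmem r' (List.mem_cons_of_mem _ hr')) h.2
    refine ⟨a.1 :: as, ?_, by simp [has2], ?_⟩
    · intro x hx
      rcases List.mem_cons.mp hx with rfl | hx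
      · exact a.2
      · exact has1 x hx
    · rw [List.map_cons, isWeaklyRegular_cons_iff]
      refine ⟨hreg, ?_⟩
      exact ((Submodule.quotEquivOfEq _ _ heq).isWeaklyRegular_congr _).mpr has3

end clear



section spread

variable {A : Type u} [CommRing A]

/-- The base change of `M ⧸ aM` along a flat map (as in Mathlib's `of_flat_of_isBaseChange`). -/
theorem isBaseChange_quotSMulTop {S : Type u} [CommRing S] [Algebra A S]
    (a : A) {M N : Type u} [AddCommGroup M] [Module A M]
    [AddCommGroup N] [Module A N] [Module S N] [IsScalarTower A S N] {f : M →ₗ[A] N}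
    (hf : IsBaseChange S f) :
    ∃ f' : QuotSMulTop a M →ₗ[A] QuotSMulTop (algebraMap A S a) N, IsBaseChange S f' := by
  have e := (QuotSMulTop.algebraMapTensorEquivTensorQuotSMulTop a M S).symm ≪≫ₗ
      QuotSMulTop.congr ((algebraMap A S) a) hf.equiv
  have hg : IsBaseChange S <|
      e.toLinearMap.restrictScalars A ∘ₗ TensorProduct.mk A S (QuotSMulTop a M) 1 :=
    IsBaseChange.of_equiv e (fun _ ↦ by simp)
  exact ⟨_, hg⟩

theorem exists_spread [IsNoetherianRing A] (p : Ideal A) [p.IsPrime] :
    ∀ (as : List A) (M : Type u) [AddCommGroup M] [Module A M] [Module.Finite A M]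
      (N : Type u) [AddCommGroup N] [Module A N] [Module (Localization.AtPrime p) N]
      [IsScalarTower A (Localization.AtPrime p) N] (f : M →ₗ[A] N)
      (_ : IsBaseChange (Localization.AtPrime p) f),
      IsWeaklyRegular N (as.map (algebraMap A (Localization.AtPrime p))) →
      ∃ g : A, g ∉ p ∧ ∀ (q : Ideal A) [q.IsPrime], g ∉ q →
        ∀ (N' : Type u) [AddCommGroup N'] [Module A N'] [Module (Localization.AtPrime q) N']
          [IsScalarTower A (Localization.AtPrime q) N'] (f' : M →ₗ[A] N')
          (_ : IsBaseChange (Localization.AtPrime q) f'),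
          IsWeaklyRegular N' (as.map (algebraMap A (Localization.AtPrime q))) := by
  intro as
  induction as with
  | nil =>
    intro M _ _ _ N _ _ _ _ f hf h
    refine ⟨1, (Ideal.ne_top_iff_one p).mp (Ideal.IsPrime.ne_top inferInstance), ?_⟩
    intro q _ _ N' _ _ _ _ f' hf'
    simp
  | cons a as ih =>
    intro M _ _ _ N _ _ _ _ f hf h
    rw [List.map_cons, isWeaklyRegular_cons_iff] at h
    obtain ⟨fQ, hfQ⟩ := isBaseChange_quotSMulTop (S := Localization.AtPrime p) a hf
    obtain ⟨g', hg'p, hg'⟩ := ih (QuotSMulTop a M) _ fQ hfQ h.2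
    -- the kernel of multiplication by `a`
    let K : Submodule A M := LinearMap.ker (LinearMap.lsmul A M a)
    have : IsNoetherian A M := isNoetherian_of_isNoetherianRing_of_finite A M
    have : Module.Finite A K := Module.IsNoetherian.finite A K
    have hloc : IsLocalizedModule p.primeCompl f :=
      (isLocalizedModule_iff_isBaseChange p.primeCompl (Localization.AtPrime p) f).mpr hf
    have hK : ∀ k : K, ∃ r ∉ p, r • k = 0 := by
      intro k
      have hk : a • (k : M) = 0 := k.2
      have h1 : f (k : M) = 0 := by
        apply h.1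
        change algebraMap A (Localization.AtPrime p) a • f k = algebraMap A (Localization.AtPrime p) a • 0
        rw [smul_zero, algebraMap_smul, ← map_smul, hk, map_zero]
      obtain ⟨s, hs⟩ := (IsLocalizedModule.eq_zero_iff p.primeCompl f).mp h1
      refine ⟨s.1, s.2, ?_⟩
      apply Subtype.ext
      exact hs
    have hsupp : (⟨p, inferInstance⟩ : PrimeSpectrum A) ∉ Module.support A K :=
      Module.notMem_support_iff'.mpr hK
    rw [Module.mem_support_iff_of_finite] at hsupp
    obtain ⟨g'', hg''ann, hg''p⟩ := SetLike.not_le_iff_exists.mp hsupp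
    refine ⟨g' * g'', fun hmem => ?_, ?_⟩
    · rcases Ideal.IsPrime.mem_or_mem inferInstance hmem with h1 | h1
      · exact hg'p h1
      · exact hg''p h1
    intro q _ hgq N' _ _ _ _ f' hf'
    have hg'q : g' ∉ q := fun h1 => hgq (Ideal.mul_mem_right _ _ h1)
    have hg''q : g'' ∉ q := fun h1 => hgq (Ideal.mul_mem_left _ _ h1)
    rw [List.map_cons, isWeaklyRegular_cons_iff]
    constructor
    · have hloc' : IsLocalizedModule q.primeCompl f' :=
        (isLocalizedModule_iff_isBaseChange q.primeCompl (Localization.AtPrime q) f').mpr hf'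
      apply IsSMulRegular.of_right_eq_zero_of_smul
      intro x hx
      obtain ⟨⟨m, s⟩, hms⟩ := IsLocalizedModule.surj q.primeCompl f' x
      have h1 : f' (a • m) = 0 := by
        rw [map_smul, ← hms, ← algebraMap_smul (Localization.AtPrime q) a (s • x), smul_comm, hx,
          smul_zero]
      obtain ⟨t, ht⟩ := (IsLocalizedModule.eq_zero_iff q.primeCompl f').mp h1
      have h2 : (t : A) • m ∈ K := by
        change a • (t : A) • m = 0
        rw [smul_comm]
        exact ht
      have h3 : g'' • ((t : A) • m) = 0 := by
        have := Module.mem_annihilator.mp hg''ann ⟨_, h2⟩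
        exact congrArg Subtype.val this
      have h4 : f' m = 0 := by
        rw [IsLocalizedModule.eq_zero_iff q.primeCompl f']
        refine ⟨⟨g'' * t, ?_⟩, ?_⟩
        · intro hmem
          rcases Ideal.IsPrime.mem_or_mem inferInstance hmem with h5 | h5
          · exact hg''q h5
          · exact t.2 h5
        · change (g'' * (t : A)) • m = 0
          rw [mul_smul]
          exact h3
      rw [h4] at hms
      have hu := IsLocalizedModule.map_units f' s
      have hinj : Function.Injective (algebraMap A (Module.End A N') s) :=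
        ((Module.End.isUnit_iff _).mp hu).injective
      apply hinj
      rw [map_zero]
      exact hms
    · obtain ⟨fQ', hfQ'⟩ := isBaseChange_quotSMulTop (S := Localization.AtPrime q) a hf'
      exact hg' q hg'q _ fQ' hfQ'

end spread



/-- Let A be a Noetherian ring, I an ideal, M a finite A-module and p a prime containing I such that the
IA_p-depth of M_p is a finite number e. Then there is an open subset U of Spec A meeting V(p) such
that the IA_q-depth of M_q is at least e for every q in U ∩ V(p). -/
theorem result (A : Type u) [CommRing A] [IsNoetherianRing A] (I : Ideal A) (M : Type u) [AddCommGroup M] [Module A M] [Module.Finite A M] (p : PrimeSpectrum A) (hp : I ≤ p.asIdeal) (e : ℕ) (he : LocCoh.idealDepth (I.map (algebraMap A (Localization.AtPrime p.asIdeal))) (LocalizedModule p.asIdeal.primeCompl M) = e) : ∃ U : Set (PrimeSpectrum A), IsOpen U ∧ (U ∩ PrimeSpectrum.zeroLocus (p.asIdeal : Set A)).Nonempty ∧ ∀ q : PrimeSpectrum A, q ∈ U → p ≤ q → (e : ℕ∞) ≤ LocCoh.idealDepth (I.map (algebraMap A (Localization.AtPrime q.asIdeal))) (LocalizedModule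 q.asIdeal.primeCompl M) := by
  classical
  set Ip := I.map (algebraMap A (Localization.AtPrime p.asIdeal)) with hIp
  set Mp := LocalizedModule p.asIdeal.primeCompl M
  -- a weakly regular sequence of length at least `e` in `I A_p`
  have hex : ∃ rs : List (Localization.AtPrime p.asIdeal),
      (RingTheory.Sequence.IsWeaklyRegular Mp rs ∧ ∀ r ∈ rs, r ∈ Ip) ∧ e ≤ rs.length := by
    by_contra hcon
    push Not at hcon
    unfold LocCoh.idealDepth at he
    split_ifs at he with htop
    · exact absurd he (by simp)
    · rcases Nat.eq_zero_or_pos e with h0 | hpos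
      · exact absurd (hcon [] ⟨by simp, by simp⟩) (by simp [h0])
      · have hle : (⨆ (rs : List (Localization.AtPrime p.asIdeal))
            (_ : RingTheory.Sequence.IsWeaklyRegular Mp rs ∧ ∀ r ∈ rs, r ∈ Ip),
            (rs.length : ℕ∞)) ≤ ((e - 1 : ℕ) : ℕ∞) := by
          refine iSup₂_le fun rs hrs => ?_
          have := hcon rs hrs
          exact_mod_cast Nat.le_sub_one_of_lt this
        rw [he] at hle
        have : e ≤ e - 1 := by exact_mod_cast hle
        omega
  obtain ⟨rs, ⟨hreg, hmem⟩, hlen⟩ := hex
  obtain ⟨as, has1, has2, has3⟩ := exists_list_of_isWeaklyRegular_map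
    (R := Localization.AtPrime p.asIdeal) p.asIdeal.primeCompl I rs Mp hmem hreg
  obtain ⟨g, hgp, hg⟩ := exists_spread p.asIdeal as M Mp
    (LocalizedModule.mkLinearMap p.asIdeal.primeCompl M)
    (IsLocalizedModule.isBaseChange p.asIdeal.primeCompl _ _) has3
  refine ⟨(PrimeSpectrum.basicOpen g : Set (PrimeSpectrum A)), (PrimeSpectrum.basicOpen g).isOpen,
    ⟨p, ?_, ?_⟩, ?_⟩
  · exact hgp
  · exact fun x hx => hx
  · intro q hq _
    have hq' : g ∉ q.asIdeal := hq
    have hreg' := hg q.asIdeal hq' (LocalizedModule q.asIdeal.primeCompl M)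
      (LocalizedModule.mkLinearMap q.asIdeal.primeCompl M)
      (IsLocalizedModule.isBaseChange q.asIdeal.primeCompl _ _)
    unfold LocCoh.idealDepth
    split_ifs with htop
    · exact le_top
    · have hmem' : ∀ r ∈ as.map (algebraMap A (Localization.AtPrime q.asIdeal)),
          r ∈ I.map (algebraMap A (Localization.AtPrime q.asIdeal)) := by
        intro r hr
        obtain ⟨a, ha, rfl⟩ := List.mem_map.mp hr
        exact Ideal.mem_map_of_mem _ (has1 a ha)
      refine le_trans ?_ (le_iSup₂ (f := fun (rs : List (Localization.AtPrime q.asIdeal))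
        (_ : RingTheory.Sequence.IsWeaklyRegular (LocalizedModule q.asIdeal.primeCompl M) rs ∧
          ∀ r ∈ rs, r ∈ I.map (algebraMap A (Localization.AtPrime q.asIdeal))) =>
          (rs.length : ℕ∞)) (as.map (algebraMap A (Localization.AtPrime q.asIdeal)))
        ⟨hreg', hmem'⟩)
      rw [List.length_map, has2]
      exact_mod_cast hlen

end Groth.Agent.S1742
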