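import Groth.Statements.S17444
import Mathlib

set_option autoImplicit false
universe u v
open SSRed

namespace Groth.Agent.S17444

/-- Let K be a field of characteristic zero, V a K-vector space and g a K-linear endomorphism of V such
that g - 1 is nilpotent (a unipotent automorphism). Then for every integer n > 0 the endomorphisms
gⁿ - 1 and g - 1 have the same kernel: a vector fixed by gⁿ is fixed by g. (The published statement
assumes V finite-dimensional; this row allows any V.) -/
theorem result (K : Type u) (V : Type v) [Field K] [CharZero K]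
    [AddCommGroup V] [Module K V] (g : Module.End K V) (hg : IsNilpotent (g - 1)) (n : ℕ) (hn : 0 < n) :
    LinearMap.ker (g ^ n - 1) = LinearMap.ker (g - 1) := by
  classical
  have hS : (∑ i ∈ Finset.range n, g ^ i) * (g - 1) = g ^ n - 1 := geom_sum_mul g n
  set p : Polynomial K := ∑ i ∈ Finset.range n, Polynomial.X ^ i with hp
  have hp1 : p.eval 1 = (n : K) := by simp [hp, Polynomial.eval_finsetSum]
  obtain ⟨q, hq⟩ : (Polynomial.X - Polynomial.C (1:K)) ∣ p - Polynomial.C (p.eval 1) :=
    Polynomial.X_sub_C_dvd_sub_C_eval
  have hS2 : ∑ i ∈ Finset.range n, g ^ i =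
      algebraMap K (Module.End K V) (n : K) + (g - 1) * Polynomial.aeval g q := by
    have h1 := congrArg (Polynomial.aeval g) hq
    rw [hp1] at h1
    simp only [hp, map_sub, map_sum, map_pow, Polynomial.aeval_X, Polynomial.aeval_C, map_mul,
      map_one] at h1
    rw [← h1]; abel
  have hcomm : Commute (g - 1) (Polynomial.aeval g q) := by
    have h2 : Commute g (Polynomial.aeval g q) := by
      have h3 := (Polynomial.commute_X q).map (Polynomial.aeval g)
      rwa [Polynomial.aeval_X] at h3
    exact (h2.sub_left (Commute.one_left _))
  have hunit : IsUnit (∑ i ∈ Finset.range n, g ^ i) := by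
    rw [hS2]
    apply IsNilpotent.isUnit_add_left_of_commute
    · exact hcomm.isNilpotent_mul_right hg
    · apply IsUnit.map
      exact isUnit_iff_ne_zero.mpr (Nat.cast_ne_zero.mpr hn.ne')
    · exact Algebra.commute_algebraMap_right _ _
  ext v
  simp only [LinearMap.mem_ker]
  constructor
  · intro h
    have h4 : (∑ i ∈ Finset.range n, g ^ i) ((g - 1) v) = 0 := by
      rw [← Module.End.mul_apply, hS]; exact h
    obtain ⟨u, hu⟩ := hunit
    have h5 : (u⁻¹ : (Module.End K V)ˣ).1 ((u : Module.End K V) ((g - 1) v)) = (g - 1) v := by
      rw [← Module.End.mul_apply, Units.inv_mul, Module.End.one_apply]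
    rw [← h5, hu, h4, map_zero]
  · intro h
    rw [← hS, Module.End.mul_apply, h, map_zero]

end Groth.Agent.S17444
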