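import Groth.Statements.S17445
import Mathlib.NumberTheory.Multiplicity
import Mathlib.NumberTheory.LSeries.PrimesInAP
import Mathlib.RingTheory.ZMod.UnitsCyclic
import Mathlib.NumberTheory.Basic
import Mathlib.Data.Nat.Factorization.Basic
import Mathlib.FieldTheory.Finite.Basic

set_option autoImplicit false
open Finset
open SSRed

namespace Groth.Agent.S17445

/-! ### generalities -/

lemma padicValNat_prod' {α : Type*} (p : ℕ) [Fact p.Prime] (s : Finset α) (f : α → ℕ)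
    (h : ∀ a ∈ s, f a ≠ 0) :
    padicValNat p (∏ a ∈ s, f a) = ∑ a ∈ s, padicValNat p (f a) := by
  classical
  induction s using Finset.induction_on with
  | empty => simp
  | insert a s ha ih =>
    rw [Finset.prod_insert ha, Finset.sum_insert ha,
      padicValNat.mul (h a (Finset.mem_insert_self a s))
        (Finset.prod_ne_zero_iff.mpr fun b hb => h b (Finset.mem_insert_of_mem hb)),
      ih fun b hb => h b (Finset.mem_insert_of_mem hb)]

lemma factor_ne_zero {ℓ a : ℕ} (hℓ : 2 ≤ ℓ) (ha : 1 ≤ a) : ℓ ^ (2 * a) - 1 ≠ 0 := by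
  have : 2 ^ (2 * a) ≤ ℓ ^ (2 * a) := Nat.pow_le_pow_left hℓ _
  have h2 : 2 ≤ 2 ^ (2 * a) := by
    calc 2 = 2 ^ 1 := by norm_num
      _ ≤ 2 ^ (2 * a) := Nat.pow_le_pow_right (by norm_num) (by omega)
  omega

lemma sum_padicValNat_Icc (p : ℕ) [Fact p.Prime] (g : ℕ) :
    ∑ a ∈ Icc 1 g, padicValNat p a = padicValNat p g.factorial := by
  induction g with
  | zero => simp
  | succ g ih =>
    rw [Finset.sum_Icc_succ_top (by omega), ih, Nat.factorial_succ,
      padicValNat.mul (by omega) (Nat.factorial_ne_zero g), add_comm]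

/-! ### the prime 2 -/

lemma two_ge {ℓ a : ℕ} (hℓ : 1 < ℓ) (hodd : ¬ 2 ∣ ℓ) (ha : 1 ≤ a) :
    3 + padicValNat 2 a ≤ padicValNat 2 (ℓ ^ (2 * a) - 1) := by
  have h := padicValNat.pow_two_sub_one_ge hℓ hodd (n := 2 * a) (by omega) (even_two_mul a)
  rw [padicValNat.mul (by norm_num) (by omega), padicValNat_self] at h
  omega

lemma two_eq {ℓ a : ℕ} (hℓ : ℓ % 8 = 3) (ha : 1 ≤ a) :
    padicValNat 2 (ℓ ^ (2 * a) - 1) = 3 + padicValNat 2 a := by
  have h1 : 1 < ℓ := by omega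
  have hodd : ¬ 2 ∣ ℓ := by omega
  have h := padicValNat.pow_two_sub_one h1 hodd (n := 2 * a) (by omega) (even_two_mul a)
  rw [padicValNat.mul (by norm_num) (by omega), padicValNat_self] at h
  obtain ⟨t, ht⟩ : ∃ t, ℓ = 8 * t + 3 := ⟨ℓ / 8, by omega⟩
  have e1 : ℓ + 1 = 2 ^ 2 * (2 * t + 1) := by rw [ht]; ring
  have e2 : ℓ - 1 = 2 * (4 * t + 1) := by rw [ht]; omega
  have v1 : padicValNat 2 (ℓ + 1) = 2 := by
    rw [e1, padicValNat.mul (by norm_num) (by omega), padicValNat.prime_pow,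
      padicValNat.eq_zero_of_not_dvd (by omega)]
  have v2 : padicValNat 2 (ℓ - 1) = 1 := by
    rw [e2, padicValNat.mul (by norm_num) (by omega), padicValNat_self,
      padicValNat.eq_zero_of_not_dvd (by omega)]
  rw [v1, v2] at h
  omega


/-! ### odd primes -/

section odd

variable {p : ℕ} [hp : Fact p.Prime]

lemma fermat {ℓ : ℕ} (hpℓ : ¬ p ∣ ℓ) : p ∣ ℓ ^ (p - 1) - 1 := by
  have hℓ0 : 0 < ℓ := Nat.pos_of_ne_zero (fun h => hpℓ (h ▸ dvd_zero p))
  have hc : Nat.Coprime ℓ p := ((Nat.Prime.coprime_iff_not_dvd hp.out).mpr hpℓ).symm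
  have := Nat.ModEq.pow_totient hc
  rw [Nat.totient_prime hp.out] at this
  exact (Nat.modEq_iff_dvd' (Nat.one_le_pow _ _ hℓ0)).mp this.symm

lemma lte (hp2 : p ≠ 2) {ℓ : ℕ} (hℓ : 2 ≤ ℓ) (hpℓ : ¬ p ∣ ℓ) {i : ℕ} (hi : i ≠ 0) :
    padicValNat p (ℓ ^ ((p - 1) * i) - 1) =
      padicValNat p (ℓ ^ (p - 1) - 1) + padicValNat p i := by
  have hodd : Odd p := hp.out.odd_of_ne_two hp2
  have hp1 : p - 1 ≠ 0 := by have := hp.out.two_le; omega
  have hlt : 1 < ℓ ^ (p - 1) := Nat.one_lt_pow hp1 (by omega)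
  have hx : ¬ p ∣ ℓ ^ (p - 1) := fun h => hpℓ (hp.out.dvd_of_dvd_pow h)
  have := padicValNat.pow_sub_pow hodd hlt (fermat hpℓ) hx hi
  rwa [one_pow, ← pow_mul] at this

lemma half (hp2 : p ≠ 2) : ∃ h : ℕ, 1 ≤ h ∧ p - 1 = 2 * h := by
  have hodd : Odd p := hp.out.odd_of_ne_two hp2
  obtain ⟨t, ht⟩ := hodd
  have := hp.out.two_le
  exact ⟨t, by omega, by omega⟩

lemma image_subset {h g : ℕ} (hh : 1 ≤ h) :
    (Icc 1 (g / h)).image (fun i => h * i) ⊆ Icc 1 g := by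
  intro a ha
  rw [Finset.mem_image] at ha
  obtain ⟨i, hi, rfl⟩ := ha
  rw [Finset.mem_Icc] at hi ⊢
  constructor
  · exact Nat.one_le_iff_ne_zero.mpr (Nat.mul_ne_zero (by omega) (by omega))
  · calc h * i ≤ h * (g / h) := Nat.mul_le_mul_left _ hi.2
      _ ≤ g := Nat.mul_div_le g h

lemma sum_image_mul {h g : ℕ} (hh : 1 ≤ h) (F : ℕ → ℕ) :
    ∑ a ∈ (Icc 1 (g / h)).image (fun i => h * i), F a = ∑ i ∈ Icc 1 (g / h), F (h * i) := by
  apply Finset.sum_image
  intro i _ j _ hij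
  exact Nat.eq_of_mul_eq_mul_left (by omega) hij

lemma odd_ge (hp2 : p ≠ 2) {ℓ g : ℕ} (hℓ : 2 ≤ ℓ) (hpℓ : ¬ p ∣ ℓ) :
    (2 * g) / (p - 1) + ∑ i ∈ Icc 1 ((2 * g) / (p - 1)), padicValNat p i ≤
      padicValNat p (∏ a ∈ Icc 1 g, (ℓ ^ (2 * a) - 1)) := by
  obtain ⟨h, hh, hph⟩ := half hp2
  rw [padicValNat_prod' p _ _ (fun a ha => factor_ne_zero hℓ (Finset.mem_Icc.mp ha).1), hph,
    Nat.mul_div_mul_left _ _ (by norm_num : 0 < 2)]
  calc g / h + ∑ i ∈ Icc 1 (g / h), padicValNat p i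
      = ∑ i ∈ Icc 1 (g / h), (1 + padicValNat p i) := by
        rw [Finset.sum_add_distrib, Finset.sum_const, Nat.card_Icc]; simp
    _ ≤ ∑ i ∈ Icc 1 (g / h), padicValNat p (ℓ ^ (2 * (h * i)) - 1) := by
        apply Finset.sum_le_sum
        intro i hi
        have hi1 := (Finset.mem_Icc.mp hi).1
        rw [← mul_assoc, ← hph, lte hp2 hℓ hpℓ (by omega)]
        have h1 : ℓ ^ (p - 1) - 1 ≠ 0 := by
          have : 1 < ℓ ^ (p - 1) := Nat.one_lt_pow (by omega) (by omega)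
          omega
        have := one_le_padicValNat_of_dvd h1 (fermat hpℓ)
        omega
    _ = ∑ a ∈ (Icc 1 (g / h)).image (fun i => h * i), padicValNat p (ℓ ^ (2 * a) - 1) :=
        (sum_image_mul hh (fun a => padicValNat p (ℓ ^ (2 * a) - 1))).symm
    _ ≤ _ := Finset.sum_le_sum_of_subset (image_subset hh)

lemma odd_eq (hp2 : p ≠ 2) {ℓ g : ℕ} (hℓ : 2 ≤ ℓ) (hpℓ : ¬ p ∣ ℓ)
    (hP2 : ∀ k, p ∣ ℓ ^ k - 1 → (p - 1) ∣ k) (hP3 : ¬ p ^ 2 ∣ ℓ ^ (p - 1) - 1) :
    padicValNat p (∏ a ∈ Icc 1 g, (ℓ ^ (2 * a) - 1)) =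
      (2 * g) / (p - 1) + ∑ i ∈ Icc 1 ((2 * g) / (p - 1)), padicValNat p i := by
  obtain ⟨h, hh, hph⟩ := half hp2
  have h1 : ℓ ^ (p - 1) - 1 ≠ 0 := by
    have : 1 < ℓ ^ (p - 1) := Nat.one_lt_pow (by omega) (by omega)
    omega
  have hv1 : padicValNat p (ℓ ^ (p - 1) - 1) = 1 := by
    have a1 := one_le_padicValNat_of_dvd h1 (fermat hpℓ)
    have a2 : ¬ 2 ≤ padicValNat p (ℓ ^ (p - 1) - 1) := fun h2 =>
      hP3 ((padicValNat_dvd_iff_le h1).mpr h2)
    omega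
  rw [padicValNat_prod' p _ _ (fun a ha => factor_ne_zero hℓ (Finset.mem_Icc.mp ha).1)]
  rw [hph, Nat.mul_div_mul_left _ _ (by norm_num : 0 < 2)]
  rw [← Finset.sum_subset (image_subset (g := g) hh), sum_image_mul hh]
  · calc ∑ i ∈ Icc 1 (g / h), padicValNat p (ℓ ^ (2 * (h * i)) - 1)
        = ∑ i ∈ Icc 1 (g / h), (1 + padicValNat p i) := by
          apply Finset.sum_congr rfl
          intro i hi
          have hi1 := (Finset.mem_Icc.mp hi).1
          rw [← mul_assoc, ← hph, lte hp2 hℓ hpℓ (by omega), hv1]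
      _ = _ := by rw [Finset.sum_add_distrib, Finset.sum_const, Nat.card_Icc]; simp
  · intro a ha hnot
    apply padicValNat.eq_zero_of_not_dvd
    intro hdvd
    have := hP2 _ hdvd
    rw [hph] at this
    have hha : h ∣ a := (Nat.mul_dvd_mul_iff_left (by norm_num : 0 < 2)).mp this
    obtain ⟨i, rfl⟩ := hha
    apply hnot
    rw [Finset.mem_image]
    have ha' := Finset.mem_Icc.mp ha
    refine ⟨i, Finset.mem_Icc.mpr ⟨?_, ?_⟩, rfl⟩
    · rcases Nat.eq_zero_or_pos i with rfl | hi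
      · omega
      · exact hi
    · exact (Nat.le_div_iff_mul_le (by omega)).mpr (by rw [mul_comm]; exact ha'.2)


lemma exists_special (hp2 : p ≠ 2) (B : ℕ) :
    ∃ ℓ, B < ℓ ∧ ℓ.Prime ∧ ¬ p ∣ ℓ ∧ (∀ k, p ∣ ℓ ^ k - 1 → (p - 1) ∣ k) ∧
      ¬ p ^ 2 ∣ ℓ ^ (p - 1) - 1 := by
  have hpp := hp.out
  have : NeZero (p ^ 2) := ⟨pow_ne_zero 2 hpp.ne_zero⟩
  have hcyc := ZMod.isCyclic_units_of_prime_pow p hpp hp2 2
  obtain ⟨u, hu⟩ := hcyc.exists_generator
  have hord : orderOf u = p * (p - 1) := by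
    rw [orderOf_eq_card_of_forall_mem_zpowers hu, Nat.card_eq_fintype_card,
      ZMod.card_units_eq_totient, Nat.totient_prime_pow hpp (by norm_num)]
    simp
  obtain ⟨ℓ, hℓB, hℓp, hℓu⟩ :=
    Nat.forall_exists_prime_gt_and_eq_mod (q := p ^ 2) (a := (u : ZMod (p ^ 2))) u.isUnit B
  have hℓ1 : ∀ k, 1 ≤ ℓ ^ k := fun k => Nat.one_le_pow _ _ hℓp.pos
  have key : ∀ k, p ^ 2 ∣ ℓ ^ k - 1 → p * (p - 1) ∣ k := by
    intro k hk
    rw [← ZMod.natCast_eq_zero_iff, Nat.cast_sub (hℓ1 k), Nat.cast_pow, Nat.cast_one, sub_eq_zero,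
      hℓu, ← Units.val_pow_eq_pow_val, Units.val_eq_one] at hk
    rw [← hord]
    exact orderOf_dvd_of_pow_eq_one hk
  refine ⟨ℓ, hℓB, hℓp, ?_, ?_, ?_⟩
  · have hunit : IsUnit ((ℓ : ℕ) : ZMod (p ^ 2)) := by rw [hℓu]; exact u.isUnit
    rw [ZMod.isUnit_iff_coprime] at hunit
    have hc : Nat.Coprime ℓ p := Nat.Coprime.coprime_dvd_right (dvd_pow_self p two_ne_zero) hunit
    exact (Nat.Prime.coprime_iff_not_dvd hpp).mp hc.symm
  · intro k hk
    have h1 : ((p : ℕ) : ℤ) ∣ ((ℓ : ℤ) ^ k) - 1 := by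
      have := Int.natCast_dvd_natCast.mpr hk
      rwa [Nat.cast_sub (hℓ1 k), Nat.cast_pow, Nat.cast_one] at this
    have h2 := dvd_sub_pow_of_dvd_sub h1 1
    rw [pow_one, one_pow, ← pow_mul] at h2
    have h3 : p ^ 2 ∣ ℓ ^ (k * p) - 1 := by
      apply Int.natCast_dvd_natCast.mp
      rw [Nat.cast_sub (hℓ1 _), Nat.cast_pow, Nat.cast_one, Nat.cast_pow]
      exact_mod_cast h2
    have h4 := key _ h3
    rw [mul_comm k p] at h4
    exact (Nat.mul_dvd_mul_iff_left hpp.pos).mp h4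
  · intro h
    have h4 := key _ h
    have hp1 : 0 < p - 1 := by have := hpp.two_le; omega
    have := Nat.le_of_dvd hp1 h4
    have : 2 * (p - 1) ≤ p * (p - 1) := Nat.mul_le_mul_right _ hpp.two_le
    omega

end odd

lemma exists_special_two (B : ℕ) : ∃ ℓ, B < ℓ ∧ ℓ.Prime ∧ ℓ % 8 = 3 := by
  have hu : IsUnit (((3 : ℕ) : ZMod 8)) := (ZMod.isUnit_iff_coprime 3 8).mpr (by norm_num)
  obtain ⟨ℓ, hℓB, hℓp, hℓ⟩ := Nat.forall_exists_prime_gt_and_eq_mod hu B
  refine ⟨ℓ, hℓB, hℓp, ?_⟩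
  have := (ZMod.natCast_eq_natCast_iff ℓ 3 8).mp hℓ
  exact this

/-- For natural numbers g and B with B ≥ 2g + 1, a natural number d divides ∏_{a=1}^{g} (ℓ^{2a} - 1) for
every prime ℓ > B if and only if d divides N(g) = 2^{3g + v₂(g!)} · ∏_{3 ≤ p ≤ 2g+1, p prime}
p^{[2g/(p-1)] + Σ_{1 ≤ i ≤ [2g/(p-1)]} v_p(i)}. In words: N(g) is the greatest common divisor of
these products as ℓ runs through the primes beyond any bound that is at least 2g + 1; its prime
factors are the primes p ≤ 2g + 1. (This is the number N(g) of the published result, which bounds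
the degree of the field of semistable reduction of a g-dimensional abelian variety over a strictly
henselian discretely valued field; the printed phrase is the greatest common divisor over all large
primes, made precise here by the bound 2g + 1, below which a prime ℓ ≤ 2g + 1 divides N(g) but not
its own product.) -/
theorem result (g B d : ℕ) (hB : 2 * g + 1 ≤ B) :
    (∀ ℓ : ℕ, ℓ.Prime → B < ℓ → d ∣ ∏ a ∈ Icc 1 g, (ℓ ^ (2 * a) - 1)) ↔
      d ∣ 2 ^ (3 * g + padicValNat 2 g.factorial) *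
        ∏ p ∈ (Icc 3 (2 * g + 1)).filter Nat.Prime,
          p ^ ((2 * g) / (p - 1) + ∑ i ∈ Icc 1 ((2 * g) / (p - 1)), padicValNat p i) := by
  classical
  set E2 := 3 * g + padicValNat 2 g.factorial with hE2
  set eodd : ℕ → ℕ := fun p =>
    (2 * g) / (p - 1) + ∑ i ∈ Icc 1 ((2 * g) / (p - 1)), padicValNat p i with heodd
  set S := (Icc 3 (2 * g + 1)).filter Nat.Prime with hS
  set Ng := 2 ^ E2 * ∏ p ∈ S, p ^ eodd p with hNg
  have hSprime : ∀ q ∈ S, q.Prime := fun q hq => (Finset.mem_filter.mp hq).2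
  have hprod0 : ∀ q ∈ S, q ^ eodd q ≠ 0 := fun q hq => pow_ne_zero _ (hSprime q hq).ne_zero
  have hNg0 : Ng ≠ 0 :=
    mul_ne_zero (pow_ne_zero _ two_ne_zero) (Finset.prod_ne_zero_iff.mpr hprod0)
  have hPi0 : ∀ ℓ : ℕ, ℓ.Prime → ∏ a ∈ Icc 1 g, (ℓ ^ (2 * a) - 1) ≠ 0 := fun ℓ hℓ =>
    Finset.prod_ne_zero_iff.mpr fun a ha => factor_ne_zero hℓ.two_le (Finset.mem_Icc.mp ha).1
  have heodd0 : ∀ p, 2 * g + 1 < p → eodd p = 0 := by
    intro p hp
    have : (2 * g) / (p - 1) = 0 := Nat.div_eq_of_lt (by omega)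
    simp [heodd, this]
  -- valuations of `Ng`
  have hK1 : ∀ p, p.Prime → padicValNat p Ng = if p = 2 then E2 else eodd p := by
    intro p hp
    have := Fact.mk hp
    rw [hNg, padicValNat.mul (pow_ne_zero _ two_ne_zero) (Finset.prod_ne_zero_iff.mpr hprod0),
      padicValNat.pow, padicValNat_prod' p S _ hprod0]
    have hterm : ∀ q ∈ S, padicValNat p (q ^ eodd q) = if q = p then eodd p else 0 := by
      intro q hq
      have hqp := hSprime q hq
      have := Fact.mk hqp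
      rw [padicValNat.pow]
      split_ifs with h
      · subst h; rw [padicValNat_self, mul_one]
      · rw [padicValNat_primes (Ne.symm h), mul_zero]
    rw [Finset.sum_congr rfl hterm, Finset.sum_ite_eq' S p]
    have h22 : Fact (Nat.Prime 2) := ⟨Nat.prime_two⟩
    by_cases h2 : p = 2
    · subst h2
      rw [if_pos rfl, padicValNat_self, mul_one, if_neg, add_zero]
      intro hmem
      have := (Finset.mem_Icc.mp (Finset.mem_filter.mp hmem).1).1
      omega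
    · rw [if_neg h2, padicValNat_primes h2, mul_zero, zero_add]
      by_cases hmem : p ∈ S
      · rw [if_pos hmem]
      · rw [if_neg hmem]
        symm
        apply heodd0
        by_contra hle
        apply hmem
        rw [hS, Finset.mem_filter, Finset.mem_Icc]
        have := hp.two_le
        exact ⟨⟨by omega, by omega⟩, hp⟩
  -- lower bound for every large prime
  have hK2 : ∀ ℓ : ℕ, ℓ.Prime → B < ℓ → ∀ p, p.Prime →
      padicValNat p Ng ≤ padicValNat p (∏ a ∈ Icc 1 g, (ℓ ^ (2 * a) - 1)) := by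
    intro ℓ hℓ hℓB p hp
    have := Fact.mk hp
    rw [hK1 p hp]
    split_ifs with h2
    · subst h2
      rcases Nat.eq_zero_or_pos g with rfl | hg
      · simp [hE2]
      · have hodd : ¬ 2 ∣ ℓ := by
          intro h
          have := (Nat.prime_dvd_prime_iff_eq Nat.prime_two hℓ).mp h
          omega
        rw [padicValNat_prod' 2 _ _ (fun a ha =>
          factor_ne_zero hℓ.two_le (Finset.mem_Icc.mp ha).1)]
        calc E2 = ∑ a ∈ Icc 1 g, (3 + padicValNat 2 a) := by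
              rw [Finset.sum_add_distrib, Finset.sum_const, Nat.card_Icc, sum_padicValNat_Icc, hE2]
              simp [mul_comm]
          _ ≤ _ := Finset.sum_le_sum fun a ha =>
              two_ge hℓ.one_lt hodd (Finset.mem_Icc.mp ha).1
    · by_cases hpℓ : p ∣ ℓ
      · have : p = ℓ := (Nat.prime_dvd_prime_iff_eq hp hℓ).mp hpℓ
        rw [heodd0 p (by omega)]
        exact Nat.zero_le _
      · exact odd_ge h2 hℓ.two_le hpℓ
  -- sharpness
  have hK3 : ∀ p, p.Prime → ∃ ℓ : ℕ, ℓ.Prime ∧ B < ℓ ∧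
      padicValNat p (∏ a ∈ Icc 1 g, (ℓ ^ (2 * a) - 1)) ≤ padicValNat p Ng := by
    intro p hp
    have := Fact.mk hp
    rw [hK1 p hp]
    split_ifs with h2
    · subst h2
      obtain ⟨ℓ, hℓB, hℓp, hℓ8⟩ := exists_special_two B
      refine ⟨ℓ, hℓp, hℓB, ?_⟩
      rw [padicValNat_prod' 2 _ _ (fun a ha =>
        factor_ne_zero hℓp.two_le (Finset.mem_Icc.mp ha).1)]
      apply le_of_eq
      calc ∑ a ∈ Icc 1 g, padicValNat 2 (ℓ ^ (2 * a) - 1)
          = ∑ a ∈ Icc 1 g, (3 + padicValNat 2 a) :=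
            Finset.sum_congr rfl fun a ha => two_eq hℓ8 (Finset.mem_Icc.mp ha).1
        _ = E2 := by
            rw [Finset.sum_add_distrib, Finset.sum_const, Nat.card_Icc, sum_padicValNat_Icc, hE2]
            simp [mul_comm]
    · obtain ⟨ℓ, hℓB, hℓp, hpℓ, hP2, hP3⟩ := exists_special h2 B
      exact ⟨ℓ, hℓp, hℓB, le_of_eq (odd_eq h2 hℓp.two_le hpℓ hP2 hP3)⟩
  have hdvd : ∀ {d n : ℕ}, d ≠ 0 → n ≠ 0 →
      (∀ p, p.Prime → padicValNat p d ≤ padicValNat p n) → d ∣ n := by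
    intro d n hd hn h
    rw [← Nat.factorization_le_iff_dvd hd hn, Finsupp.le_def]
    intro p
    by_cases hp : p.Prime
    · rw [Nat.factorization_def _ hp, Nat.factorization_def _ hp]; exact h p hp
    · rw [Nat.factorization_eq_zero_of_not_prime _ hp]; exact Nat.zero_le _
  have hle : ∀ {d n : ℕ}, d ≠ 0 → n ≠ 0 → d ∣ n →
      ∀ p, p.Prime → padicValNat p d ≤ padicValNat p n := by
    intro d n hd hn h p hp
    have := (Nat.factorization_le_iff_dvd hd hn).mpr h p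
    rwa [Nat.factorization_def _ hp, Nat.factorization_def _ hp] at this
  constructor
  · intro h
    obtain ⟨ℓ0, hℓ0B, hℓ0p⟩ := Nat.exists_infinite_primes (B + 1)
    have hd0 : d ≠ 0 := by
      rintro rfl
      exact hPi0 ℓ0 hℓ0p (zero_dvd_iff.mp (h ℓ0 hℓ0p (by omega)))
    apply hdvd hd0 hNg0
    intro p hp
    obtain ⟨ℓ, hℓp, hℓB, hle'⟩ := hK3 p hp
    exact (hle hd0 (hPi0 ℓ hℓp) (h ℓ hℓp hℓB) p hp).trans hle'
  · intro h ℓ hℓp hℓB
    exact h.trans (hdvd hNg0 (hPi0 ℓ hℓp) (hK2 ℓ hℓp hℓB))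

end Groth.Agent.S17445
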