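import Groth.Statements.S17446
import Mathlib

set_option autoImplicit false
universe u v
open SSRed

namespace Groth.Agent.S17446

section helper
variable {K : Type*} {A : Type*} {G : Type*} [CommRing K] [Ring A] [Algebra K A] [Group G]

/-- span of `φ h - 1`, `h ∈ H`. -/
def augSpan (φ : G →* A) (H : Subgroup G) : Submodule K A :=
  Submodule.span K ((fun h : G => φ h - 1) '' (H : Set G))

/-- span of `φ h`, `h ∈ H`. -/
def grpSpan (φ : G →* A) (H : Subgroup G) : Submodule K A :=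
  Submodule.span K ((fun h : G => φ h) '' (H : Set G))

lemma grpSpan_mul_le (φ : G →* A) (H : Subgroup G) :
    grpSpan (K := K) φ H * grpSpan (K := K) φ H ≤ grpSpan (K := K) φ H := by
  unfold grpSpan
  rw [Submodule.span_mul_span]
  apply Submodule.span_le.mpr
  rintro _ ⟨_, ⟨g, hg, rfl⟩, _, ⟨g', hg', rfl⟩, rfl⟩
  apply Submodule.subset_span
  exact ⟨g * g', H.mul_mem hg hg', by simp⟩

lemma one_le_grpSpan (φ : G →* A) (H : Subgroup G) :
    (1 : Submodule K A) ≤ grpSpan (K := K) φ H := by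
  rw [Submodule.one_eq_span, Submodule.span_le]
  rintro _ rfl
  apply Submodule.subset_span
  exact ⟨1, H.one_mem, by simp⟩

lemma augSpan_le_grpSpan (φ : G →* A) (H : Subgroup G) :
    augSpan (K := K) φ H ≤ grpSpan (K := K) φ H := by
  unfold augSpan
  rw [Submodule.span_le]
  rintro _ ⟨g, hg, rfl⟩
  apply sub_mem
  · exact Submodule.subset_span ⟨g, hg, rfl⟩
  · exact one_le_grpSpan φ H (Submodule.one_le.mp le_rfl)

lemma augSpan_mul_le (φ : G →* A) (H : Subgroup G) :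
    augSpan (K := K) φ H * augSpan (K := K) φ H ≤ augSpan (K := K) φ H := by
  unfold augSpan
  rw [Submodule.span_mul_span]
  apply Submodule.span_le.mpr
  rintro _ ⟨_, ⟨g, hg, rfl⟩, _, ⟨g', hg', rfl⟩, rfl⟩
  have : (φ g - 1) * (φ g' - 1) = (φ (g * g') - 1) - (φ g - 1) - (φ g' - 1) := by
    rw [map_mul]; noncomm_ring
  show (φ g - 1) * (φ g' - 1) ∈ _
  rw [this]
  refine sub_mem (sub_mem ?_ ?_) ?_
  · exact Submodule.subset_span ⟨g * g', H.mul_mem hg hg', rfl⟩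
  · exact Submodule.subset_span ⟨g, hg, rfl⟩
  · exact Submodule.subset_span ⟨g', hg', rfl⟩

lemma grpSpan_mul_augSpan_le (φ : G →* A) (H₁ H₂ : Subgroup G)
    (hnorm : ∀ g ∈ H₂, ∀ h ∈ H₁, g * h * g⁻¹ ∈ H₁) :
    grpSpan (K := K) φ H₂ * augSpan (K := K) φ H₁ ≤ augSpan (K := K) φ H₁ * grpSpan (K := K) φ H₂ := by
  unfold augSpan grpSpan
  rw [Submodule.span_mul_span, Submodule.span_mul_span]
  apply Submodule.span_le.mpr
  rintro _ ⟨_, ⟨g, hg, rfl⟩, _, ⟨h, hh, rfl⟩, rfl⟩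
  apply Submodule.subset_span
  refine ⟨φ (g * h * g⁻¹) - 1, ⟨g * h * g⁻¹, hnorm g hg h hh, rfl⟩, φ g, ⟨g, hg, rfl⟩, ?_⟩
  show (φ (g * h * g⁻¹) - 1) * φ g = φ g * (φ h - 1)
  rw [sub_mul, ← map_mul, one_mul, mul_sub, mul_one, ← map_mul]
  simp

theorem augSpan_sup_pow_eq_bot (φ : G →* A) (H₁ H₂ : Subgroup G)
    (hnorm : ∀ g ∈ H₂, ∀ h ∈ H₁, g * h * g⁻¹ ∈ H₁) (n m : ℕ)
    (h₁ : augSpan (K := K) φ H₁ ^ n = ⊥) (h₂ : augSpan (K := K) φ H₂ ^ m = ⊥) :
    augSpan (K := K) φ (H₁ ⊔ H₂) ^ (m * n) = ⊥ := by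
  set M₁ := augSpan (K := K) φ H₁ with hM₁
  set M₂ := augSpan (K := K) φ H₂ with hM₂
  set R₂ := grpSpan (K := K) φ H₂ with hR₂
  set I₁ := M₁ * R₂ with hI₁
  have hRR : R₂ * R₂ ≤ R₂ := grpSpan_mul_le φ H₂
  have h1R : (1 : Submodule K A) ≤ R₂ := one_le_grpSpan φ H₂
  have hMR : M₂ ≤ R₂ := augSpan_le_grpSpan φ H₂
  have hMM : M₁ * M₁ ≤ M₁ := augSpan_mul_le φ H₁
  have hRM : R₂ * M₁ ≤ M₁ * R₂ := grpSpan_mul_augSpan_le φ H₁ H₂ hnorm
  -- I₁ is stable under R₂ on both sides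
  have hIR : I₁ * R₂ ≤ I₁ := by
    rw [hI₁, mul_assoc]; exact mul_le_mul' le_rfl hRR
  have hRI : R₂ * I₁ ≤ I₁ := by
    rw [hI₁, ← mul_assoc]
    calc R₂ * M₁ * R₂ ≤ M₁ * R₂ * R₂ := mul_le_mul' hRM le_rfl
      _ = M₁ * (R₂ * R₂) := mul_assoc _ _ _
      _ ≤ M₁ * R₂ := mul_le_mul' le_rfl hRR
  have hIk : ∀ k : ℕ, I₁ ^ k ≤ M₁ ^ k * R₂ := by
    intro k
    induction k with
    | zero => simpa using h1R
    | succ k ih =>
      calc I₁ ^ (k + 1) = I₁ ^ k * I₁ := pow_succ _ _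
        _ ≤ (M₁ ^ k * R₂) * (M₁ * R₂) := mul_le_mul' ih le_rfl
        _ = M₁ ^ k * (R₂ * M₁) * R₂ := by simp only [mul_assoc]
        _ ≤ M₁ ^ k * (M₁ * R₂) * R₂ := mul_le_mul' (mul_le_mul' le_rfl hRM) le_rfl
        _ = M₁ ^ (k + 1) * (R₂ * R₂) := by rw [pow_succ]; simp only [mul_assoc]
        _ ≤ M₁ ^ (k + 1) * R₂ := mul_le_mul' le_rfl hRR
  have hIn : I₁ ^ n = ⊥ := by
    have := hIk n
    rw [h₁, Submodule.bot_mul] at this
    exact le_bot_iff.mp this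
  have hII : I₁ * I₁ ≤ I₁ := by
    calc I₁ * I₁ = M₁ * (R₂ * I₁) := by rw [hI₁]; simp only [mul_assoc]
      _ ≤ M₁ * I₁ := mul_le_mul' le_rfl hRI
      _ = (M₁ * M₁) * R₂ := by rw [hI₁, mul_assoc]
      _ ≤ M₁ * R₂ := mul_le_mul' hMM le_rfl
  have hM2k : ∀ k : ℕ, M₂ ^ k ≤ R₂ := by
    intro k
    induction k with
    | zero => simpa using h1R
    | succ k ih =>
      calc M₂ ^ (k + 1) = M₂ ^ k * M₂ := pow_succ _ _
        _ ≤ R₂ * R₂ := mul_le_mul' ih hMR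
        _ ≤ R₂ := hRR
  have hJk : ∀ k : ℕ, (I₁ ⊔ M₂) ^ k ≤ I₁ ⊔ M₂ ^ k := by
    intro k
    induction k with
    | zero => simp
    | succ k ih =>
      calc (I₁ ⊔ M₂) ^ (k + 1) = (I₁ ⊔ M₂) ^ k * (I₁ ⊔ M₂) := pow_succ _ _
        _ ≤ (I₁ ⊔ M₂ ^ k) * (I₁ ⊔ M₂) := mul_le_mul' ih le_rfl
        _ = I₁ * I₁ ⊔ I₁ * M₂ ⊔ (M₂ ^ k * I₁ ⊔ M₂ ^ k * M₂) := by
            rw [Submodule.sup_mul, Submodule.mul_sup, Submodule.mul_sup]
        _ ≤ I₁ ⊔ M₂ ^ (k + 1) := by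
            refine sup_le (sup_le (hII.trans le_sup_left) ?_) (sup_le ?_ ?_)
            · exact ((mul_le_mul' le_rfl hMR).trans hIR).trans le_sup_left
            · exact ((mul_le_mul' (hM2k k) le_rfl).trans hRI).trans le_sup_left
            · rw [← pow_succ]; exact le_sup_right
  have hJm : (I₁ ⊔ M₂) ^ m ≤ I₁ := by
    have := hJk m
    rwa [h₂, sup_bot_eq] at this
  have hJ : (I₁ ⊔ M₂) ^ (m * n) = ⊥ := by
    rw [pow_mul]
    exact le_bot_iff.mp ((pow_le_pow_left' hJm n).trans hIn.le)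
  have hle : augSpan (K := K) φ (H₁ ⊔ H₂) ≤ I₁ ⊔ M₂ := by
    unfold augSpan
    rw [Submodule.span_le]
    rintro _ ⟨x, hx, rfl⟩
    have hLE : H₂ ≤ Subgroup.normalizer (H₁ : Set G) := by
      intro g hg
      rw [Subgroup.mem_normalizer_iff]
      intro h
      constructor
      · exact hnorm g hg h
      · intro hh
        have := hnorm g⁻¹ (H₂.inv_mem hg) _ hh
        simpa [mul_assoc] using this
    have hx' : x ∈ ((H₁ ⊔ H₂ : Subgroup G) : Set G) := hx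
    rw [Subgroup.coe_mul_of_right_le_normalizer_left H₁ H₂ hLE] at hx'
    obtain ⟨h, hh, g, hg, rfl⟩ := hx'
    have : φ (h * g) - 1 = (φ h - 1) * φ g + (φ g - 1) := by
      rw [map_mul]; noncomm_ring
    show φ (h * g) - 1 ∈ _
    rw [this]
    apply Submodule.add_mem_sup
    · exact Submodule.mul_mem_mul (Submodule.subset_span ⟨h, hh, rfl⟩)
        (Submodule.subset_span ⟨g, hg, rfl⟩)
    · exact Submodule.subset_span ⟨g, hg, rfl⟩
  exact le_bot_iff.mp ((pow_le_pow_left' hle (m * n)).trans hJ.le)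

lemma augSpan_pow_eq_bot_iff (φ : G →* A) (H : Subgroup G) (n : ℕ) :
    augSpan (K := K) φ H ^ n = ⊥ ↔
      ∀ f : Fin n → ↥H, (List.ofFn fun i => φ (f i : G) - 1).prod = 0 := by
  unfold augSpan
  rw [Submodule.span_pow, Submodule.span_eq_bot]
  constructor
  · intro h f
    apply h
    rw [Set.mem_pow]
    exact ⟨fun i => ⟨φ (f i : G) - 1, ⟨(f i : G), (f i).2, rfl⟩⟩, rfl⟩
  · intro h x hx
    rw [Set.mem_pow] at hx
    obtain ⟨f, rfl⟩ := hx
    choose g hg hg' using fun i => (f i).2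
    have := h (fun i => ⟨g i, hg i⟩)
    simp only [hg'] at this
    exact this

end helper

/-- Let K be a field, V a finite-dimensional K-vector space and H₁, H₂ subgroups of the group of
K-linear automorphisms of V such that H₂ normalizes H₁. Call the action of a subgroup H unipotent
when, for some n, every product (h₁ - 1)(h₂ - 1)⋯(hₙ - 1) with all hᵢ in H is the zero endomorphism
(equivalently, V has an H-stable flag on whose successive quotients H acts trivially). If H₁ and H₂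
act unipotently, then the subgroup generated by H₁ and H₂ acts unipotently. (In the published result
H₁ and H₂ are the absolute Galois groups of two finite Galois extensions of a strictly henselian
discretely valued field over which an abelian variety becomes semistable, acting on its rational
ℓ-adic Tate module, and the conclusion is semistability over the intersection of the two fields; the
printed argument uses only that H₂ normalizes H₁.) -/
theorem result (K : Type u) (V : Type v) [Field K]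
    [AddCommGroup V] [Module K V] [FiniteDimensional K V]
    (H₁ H₂ : Subgroup (V ≃ₗ[K] V)) (hnorm : ∀ g ∈ H₂, ∀ h ∈ H₁, g * h * g⁻¹ ∈ H₁)
    (h₁ : ∃ n : ℕ, ∀ f : Fin n → ↥H₁,
      (List.ofFn fun i => (((f i : ↥H₁) : V ≃ₗ[K] V) : Module.End K V) - 1).prod = 0)
    (h₂ : ∃ n : ℕ, ∀ f : Fin n → ↥H₂,
      (List.ofFn fun i => (((f i : ↥H₂) : V ≃ₗ[K] V) : Module.End K V) - 1).prod = 0) :
    ∃ n : ℕ, ∀ f : Fin n → ↥(H₁ ⊔ H₂),
      (List.ofFn fun i => (((f i : ↥(H₁ ⊔ H₂)) : V ≃ₗ[K] V) : Module.End K V) - 1).prod = 0 := by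
  classical
  let φ : (V ≃ₗ[K] V) →* Module.End K V :=
    { toFun := fun g => ((g : V ≃ₗ[K] V) : Module.End K V)
      map_one' := rfl
      map_mul' := fun _ _ => rfl }
  obtain ⟨n, hn⟩ := h₁
  obtain ⟨m, hm⟩ := h₂
  refine ⟨m * n, ?_⟩
  have e1 := (augSpan_pow_eq_bot_iff (K := K) φ H₁ n).mpr hn
  have e2 := (augSpan_pow_eq_bot_iff (K := K) φ H₂ m).mpr hm
  exact (augSpan_pow_eq_bot_iff (K := K) φ (H₁ ⊔ H₂) (m * n)).mp
    (augSpan_sup_pow_eq_bot φ H₁ H₂ hnorm n m e1 e2)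

end Groth.Agent.S17446
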