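-- S17449: helper5: proper flat surjective over Noetherian S with geometrically connected generic fibres has geometrically connected fibres (smoothness not needed), via Stein factorisation: flat+fp => universally open => the finite Stein factor is universally injective (Lib/GenConn5A), from S0002+S0058
import Groth.Statements.S17449
import Groth.Agent.S0002
import Groth.Agent.S0058
import Groth.Agent.Lib.GenConn5A

set_option autoImplicit false
universe u
open CategoryTheory CategoryTheory.Limits AlgebraicGeometry
open Stein

namespace Groth.Agent.S17449

/-- Let S be a Noetherian scheme and f : X → S a proper, flat and surjective morphism. Suppose that for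
every generic point η of an irreducible component of S the fibre of f at η is geometrically
connected and smooth over the residue field κ(η). Then every fibre of f is geometrically connected. -/
theorem result {X S : Scheme.{u}}
    (f : X ⟶ S) [IsProper f] [Flat f] [Surjective f] [IsNoetherian S]
    (h : ∀ (Z : Set ↑S) (η : ↑S), Z ∈ irreducibleComponents ↑S → IsGenericPoint η Z →
      GeometricallyConnected (f.fiberToSpecResidueField η) ∧ Smooth (f.fiberToSpecResidueField η)) :
    GeometricallyConnected f := by
  haveI : LocallyOfFinitePresentation f :=
    LocallyOfFinitePresentation.iff_locallyOfFiniteType.mpr inferInstance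
  haveI : UniversallyOpen f := inferInstance
  refine Groth.Agent.Lib.GenConn5.geometricallyConnected_of_universallyOpen_of_generic
    (fun A _ _ X _ _ M hM n => Groth.Agent.S0002.result A X M hM n)
    (fun A _ _ I X _ _ M hM p => Groth.Agent.S0058.result A I X M hM p) f
    {η | ∃ Z ∈ irreducibleComponents ↑S, IsGenericPoint η Z} ?_ ?_
  · rintro U hU ⟨y, hy⟩
    obtain ⟨η, hη⟩ := QuasiSober.sober (isIrreducible_irreducibleComponent (x := y))
      isClosed_irreducibleComponent
    have hspec : η ⤳ y := hη.specializes mem_irreducibleComponent
    exact ⟨η, hspec.mem_open hU hy, _, irreducibleComponent_mem_irreducibleComponents y, hη⟩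
  · rintro K _ c ⟨Z, hZ, hη⟩
    exact @Groth.Agent.Lib.GenConn5.connectedSpace_pullback_of_geometricallyConnected X S f
      (S.residueField (c.base (IsLocalRing.closedPoint K))) K _ _
      (S.fromSpecResidueField (c.base (IsLocalRing.closedPoint K))) c
      (Scheme.fromSpecResidueField_apply _ _).symm (h Z _ hZ hη).1

end Groth.Agent.S17449
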