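import Groth.Statements.S17461
import Mathlib

set_option autoImplicit false
universe u
open CategoryTheory CategoryTheory.Limits AlgebraicGeometry
open Hensel

namespace Groth.Agent.S17461

/-- Key lemma: over a local ring, a closed subset contained in an open `W` which is
universally closed over the base, and which has no point over the closed point, is empty. -/
theorem closed_subset_finite_part_empty (R : Type u) [CommRing R] [IsLocalRing R]
    {X : Scheme.{u}} (f : X ⟶ Spec (CommRingCat.of R)) (W : X.Opens)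
    (hW : IsClosedMap (W.ι ≫ f).base) (C : Set X) (hC : IsClosed C) (hCW : C ⊆ (W : Set X))
    (hCs : ∀ c ∈ C, f.base c ≠ IsLocalRing.closedPoint R) : C = ∅ := by
  by_contra hne
  obtain ⟨x, hxC⟩ := Set.nonempty_iff_ne_empty.mpr hne
  have himg : IsClosed ((W.ι ≫ f).base '' (W.ι.base ⁻¹' C)) :=
    hW _ (hC.preimage W.ι.continuous)
  have hmem : f.base x ∈ (W.ι ≫ f).base '' (W.ι.base ⁻¹' C) :=
    ⟨⟨x, hCW hxC⟩, hxC, rfl⟩
  have hcl : IsLocalRing.closedPoint R ∈ (W.ι ≫ f).base '' (W.ι.base ⁻¹' C) :=
    (IsLocalRing.specializes_closedPoint (R := R) (f.base x)).mem_closed himg hmem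
  obtain ⟨c, hcC, hc⟩ := hcl
  exact hCs _ hcC hc

/-- Let R be a henselian local ring and let X and Y be quasi-finite separated schemes over Spec R
(locally of finite type, quasi-compact, with discrete fibres, separated). Let W_X ⊆ X and W_Y ⊆ Y be
their finite parts: open and closed subsets which are finite over Spec R as open subschemes and
contain every point over the closed point. Then every morphism g : X → Y over Spec R carries W_X
into W_Y. -/
theorem result (R : Type u) [CommRing R] [HenselianLocalRing R]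
    {X Y : Scheme.{u}} (f : X ⟶ Spec (CommRingCat.of R)) (f' : Y ⟶ Spec (CommRingCat.of R))
    [LocallyQuasiFinite f] [LocallyOfFiniteType f] [QuasiCompact f] [IsSeparated f]
    [LocallyQuasiFinite f'] [LocallyOfFiniteType f'] [QuasiCompact f'] [IsSeparated f']
    (WX : X.Opens) (hWX : (IsClosed (WX : Set ↥X) ∧ IsFinite (WX.ι ≫ f) ∧ ∀ x : ↥X, f.base x = IsLocalRing.closedPoint R → x ∈ WX))
    (WY : Y.Opens) (hWY : (IsClosed (WY : Set ↥Y) ∧ IsFinite (WY.ι ≫ f') ∧ ∀ x : ↥Y, f'.base x = IsLocalRing.closedPoint R → x ∈ WY))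
    (g : X ⟶ Y) (hg : g ≫ f' = f) (x : X) (hx : x ∈ WX) :
    g.base x ∈ WY := by
  classical
  by_contra hgx
  have hfin : IsFinite (WX.ι ≫ f) := hWX.2.1
  have hclmap : IsClosedMap (WX.ι ≫ f).base := (WX.ι ≫ f).isClosedMap
  have hempty := closed_subset_finite_part_empty R f WX hclmap
    ((WX : Set X) ∩ g.base ⁻¹' (WY : Set Y)ᶜ)
    (hWX.1.inter ((WY.2.isClosed_compl).preimage g.continuous)) Set.inter_subset_left ?_
  · have : x ∈ ((WX : Set X) ∩ g.base ⁻¹' (WY : Set Y)ᶜ) := ⟨hx, hgx⟩
    rw [hempty] at this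
    exact this
  · rintro c ⟨-, hc2⟩ hc
    apply hc2
    apply hWY.2.2
    rw [← hc, ← hg]
    rfl

end Groth.Agent.S17461
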