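import Groth.Statements.S17462
import Mathlib
import Groth.Agent.S17461

set_option autoImplicit false
universe u
open CategoryTheory CategoryTheory.Limits AlgebraicGeometry
open Hensel

namespace Groth.Agent.S17462

/-- Let R be a henselian local ring and let X and Y be quasi-finite separated schemes over Spec R
(locally of finite type, quasi-compact, with discrete fibres, separated), with finite parts W_X ⊆ X
and W_Y ⊆ Y (open and closed subsets, finite over Spec R as open subschemes, containing every point
over the closed point). If W ⊆ X ×_R Y is the finite part of the fibre product (same three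
conditions, for the structure morphism of X ×_R Y), then W = W_X ×_R W_Y: a point of X ×_R Y lies in
W if and only if its first projection lies in W_X and its second projection lies in W_Y. -/
theorem result (R : Type u) [CommRing R] [HenselianLocalRing R]
    {X Y : Scheme.{u}} (f : X ⟶ Spec (CommRingCat.of R)) (f' : Y ⟶ Spec (CommRingCat.of R))
    [LocallyQuasiFinite f] [LocallyOfFiniteType f] [QuasiCompact f] [IsSeparated f]
    [LocallyQuasiFinite f'] [LocallyOfFiniteType f'] [QuasiCompact f'] [IsSeparated f']
    (WX : X.Opens) (hWX : (IsClosed (WX : Set ↥X) ∧ IsFinite (WX.ι ≫ f) ∧ ∀ x : ↥X, f.base x = IsLocalRing.closedPoint R → x ∈ WX))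
    (WY : Y.Opens) (hWY : (IsClosed (WY : Set ↥Y) ∧ IsFinite (WY.ι ≫ f') ∧ ∀ x : ↥Y, f'.base x = IsLocalRing.closedPoint R → x ∈ WY))
    (W : (pullback f f').Opens)
    (hW : (IsClosed (W : Set ↥(pullback f f')) ∧ IsFinite (W.ι ≫ (pullback.fst f f' ≫ f)) ∧ ∀ x : ↥(pullback f f'), (pullback.fst f f' ≫ f).base x = IsLocalRing.closedPoint R → x ∈ W))
    (z : ↥(pullback f f')) :
    z ∈ W ↔ ((pullback.fst f f').base z ∈ WX ∧ (pullback.snd f f').base z ∈ WY) := by
  classical
  have hcond : pullback.fst f f' ≫ f = pullback.snd f f' ≫ f' := pullback.condition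
  constructor
  · intro hz
    refine ⟨?_, ?_⟩
    · exact Groth.Agent.S17461.result R (pullback.fst f f' ≫ f) f W hW WX hWX
        (pullback.fst f f') rfl z hz
    · exact Groth.Agent.S17461.result R (pullback.fst f f' ≫ f) f' W hW WY hWY
        (pullback.snd f f') hcond.symm z hz
  · rintro ⟨hz1, hz2⟩
    by_contra hzW
    -- the open `snd ⁻¹ WY` is finite over `X` via `fst`
    let P := pullback f f'
    let V : P.Opens := (pullback.snd f f') ⁻¹ᵁ WY
    have hpb : IsPullback ((pullback.snd f f') ∣_ WY) (V.ι ≫ pullback.fst f f') (WY.ι ≫ f') f := by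
      have h1 := isPullback_morphismRestrict (pullback.snd f f') WY
      have h2 : IsPullback (pullback.snd f f') (pullback.fst f f') f' f :=
        (IsPullback.of_hasPullback f f').flip
      exact h1.paste_vert h2
    have hfinY : IsFinite (WY.ι ≫ f') := hWY.2.1
    have hfinV : IsFinite (V.ι ≫ pullback.fst f f') :=
      MorphismProperty.of_isPullback hpb hfinY
    have hclV : IsClosedMap (V.ι ≫ pullback.fst f f').base := (V.ι ≫ pullback.fst f f').isClosedMap
    have hfinX : IsFinite (WX.ι ≫ f) := hWX.2.1
    have hclX : IsClosedMap (WX.ι ≫ f).base := (WX.ι ≫ f).isClosedMap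
    -- the closed set C
    let C : Set P := ((pullback.fst f f').base ⁻¹' (WX : Set X) ∩ (V : Set P)) ∩ (W : Set P)ᶜ
    have hVclosed : IsClosed (V : Set P) := hWY.1.preimage (pullback.snd f f').continuous
    have hCclosed : IsClosed C :=
      ((hWX.1.preimage (pullback.fst f f').continuous).inter hVclosed).inter W.2.isClosed_compl
    have hzC : z ∈ C := ⟨⟨hz1, hz2⟩, hzW⟩
    -- image of C in X is closed and inside WX
    let C' : Set X := (V.ι ≫ pullback.fst f f').base '' (V.ι.base ⁻¹' C)
    have hC'closed : IsClosed C' := hclV _ (hCclosed.preimage V.ι.continuous)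
    have hC'W : C' ⊆ (WX : Set X) := by
      rintro _ ⟨v, hv, rfl⟩
      exact hv.1.1
    have hC'empty : C' = ∅ := by
      apply Groth.Agent.S17461.closed_subset_finite_part_empty R f WX hclX C' hC'closed hC'W
      rintro _ ⟨v, hv, rfl⟩ hcl
      apply hv.2
      apply hW.2.2
      exact hcl
    have : (pullback.fst f f').base z ∈ C' := ⟨⟨z, hz2⟩, hzC, rfl⟩
    rw [hC'empty] at this
    exact this

end Groth.Agent.S17462
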