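import Mathlib
import Groth.Statements.S17466

set_option autoImplicit false
universe u v
open BigOperators
open NRGIT

namespace Groth.Agent.S17466

section Helpers

open HomogeneousLocalization

variable {R : Type u} {A : Type v} [CommRing R] [CommRing A] [Algebra R A]

/-- `a / x^m = ι a * (1/x)^m` in the localization. -/
theorem mk_pow_eq (x a : A) (m : ℕ) (h : x ^ m ∈ Submonoid.powers x) :
    Localization.mk a (⟨x ^ m, h⟩ : Submonoid.powers x)
      = algebraMap A (Localization (Submonoid.powers x)) a *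
        (Localization.mk 1 (⟨x, Submonoid.mem_powers x⟩ : Submonoid.powers x)) ^ m := by
  rw [Localization.mk_pow, one_pow, ← Localization.mk_one_eq_algebraMap, Localization.mk_mul,
    mul_one, one_mul]
  rfl

theorem mk_eq (x a : A) :
    Localization.mk a (⟨x, Submonoid.mem_powers x⟩ : Submonoid.powers x)
      = algebraMap A (Localization (Submonoid.powers x)) a *
        (Localization.mk 1 (⟨x, Submonoid.mem_powers x⟩ : Submonoid.powers x)) := by
  rw [← Localization.mk_one_eq_algebraMap, Localization.mk_mul, mul_one, one_mul]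

theorem map_mul_inv (x : A) :
    algebraMap A (Localization (Submonoid.powers x)) x *
        (Localization.mk 1 (⟨x, Submonoid.mem_powers x⟩ : Submonoid.powers x)) = 1 := by
  rw [← mk_eq]
  exact Localization.mk_self (⟨x, Submonoid.mem_powers x⟩ : Submonoid.powers x)

variable (𝒜 : ℕ → Submodule R A) [GradedAlgebra 𝒜]

/-- core statement with `x = σ i * g`. -/
theorem core {n : ℕ} (σ : Fin n → A) (hσ : ∀ i, σ i ∈ 𝒜 1) {s : ℕ}
    (K : Fin n → ℕ) (hK : ∑ i, K i = s) (x g : A) (i : Fin n)
    (hxK : x = ∏ j, σ j ^ K j) (hxg : x = σ i * g) (hg : g ∈ 𝒜 (s - 1)) (hs : 0 < s)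
    (hx : x ∈ 𝒜 s)
    (hgen : Algebra.adjoin (𝒜 0)
      {z : HomogeneousLocalization.Away 𝒜 (σ i) |
        ∃ f ∈ 𝒜 s, z.val = Localization.mk f ⟨σ i ^ s, Submonoid.pow_mem _ (Submonoid.mem_powers (σ i)) s⟩} = ⊤) :
    Algebra.adjoin (𝒜 0)
      {z : HomogeneousLocalization.Away 𝒜 x |
        ∃ f ∈ 𝒜 s, z.val = Localization.mk f ⟨x, Submonoid.mem_powers _⟩} = ⊤ := by
  classical
  set S : Set (HomogeneousLocalization.Away 𝒜 x) :=
      {z : HomogeneousLocalization.Away 𝒜 x |
        ∃ f ∈ 𝒜 s, z.val = Localization.mk f ⟨x, Submonoid.mem_powers _⟩} with hS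
  set T := Algebra.adjoin (𝒜 0) S with hT
  set ι := algebraMap A (Localization (Submonoid.powers x)) with hι
  set y := (Localization.mk 1 (⟨x, Submonoid.mem_powers x⟩ : Submonoid.powers x)) with hy
  have hXy : ι x * y = 1 := map_mul_inv x
  -- generators
  have h1s : ∀ f, f ∈ 𝒜 s → f ∈ 𝒜 (1 • s) := fun f hf => by simpa using hf
  have hγ : ∀ f (hf : f ∈ 𝒜 s), Away.mk 𝒜 hx 1 f (h1s f hf) ∈ T := by
    intro f hf
    apply Algebra.subset_adjoin
    refine ⟨f, hf, ?_⟩
    rw [Away.val_mk]
    congr 1
    exact Subtype.ext (pow_one x)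
  have hγval : ∀ f (hf : f ∈ 𝒜 s), (Away.mk 𝒜 hx 1 f (h1s f hf)).val = ι f * y := by
    intro f hf
    rw [Away.val_mk, mk_pow_eq, pow_one]
  have hσg : ∀ j, σ j * g ∈ 𝒜 s := by
    intro j
    have := SetLike.mul_mem_graded (hσ j) hg
    rwa [show 1 + (s - 1) = s by omega] at this
  -- P = g^s / x^(s-1)
  set P : HomogeneousLocalization.Away 𝒜 x :=
    ∏ j, (Away.mk 𝒜 hx 1 (σ j * g) (h1s _ (hσg j))) ^ K j with hP
  have hPT : P ∈ T := Subalgebra.prod_mem _ (fun j _ => Subalgebra.pow_mem _ (hγ _ (hσg j)) _)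
  have hPval : P.val = ι x * ι g ^ s * y ^ s := by
    have h1 := map_prod (algebraMap (HomogeneousLocalization.Away 𝒜 x)
          (Localization (Submonoid.powers x)))
          (fun j => (Away.mk 𝒜 hx 1 (σ j * g) (h1s _ (hσg j))) ^ K j) Finset.univ
    simp only [HomogeneousLocalization.algebraMap_apply, HomogeneousLocalization.val_pow] at h1
    rw [hP, h1]
    simp only [hγval _ (hσg _), map_mul, mul_pow, Finset.prod_mul_distrib, Finset.prod_pow_eq_pow_sum,
      hK]
    have hιx : ι x = ∏ j, ι (σ j) ^ K j := by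
      have := congrArg ι hxK
      rw [this, map_prod]
      simp only [map_pow]
    rw [hιx]
  -- the map from Away (σ i)
  let φ : HomogeneousLocalization.Away 𝒜 (σ i) →ₐ[𝒜 0] HomogeneousLocalization.Away 𝒜 x :=
    awayMapₐ 𝒜 hg hxg
  have hφval : ∀ (m : ℕ) (a : A) (ha : a ∈ 𝒜 (m • 1)),
      (φ (Away.mk 𝒜 (hσ i) m a ha)).val = ι a * ι g ^ m * y ^ m := by
    intro m a ha
    change (awayMap 𝒜 hg hxg (Away.mk 𝒜 (hσ i) m a ha)).val = _
    rw [awayMap_mk, Away.val_mk, mk_pow_eq, map_mul, map_pow]
  have hφT : ∀ z, φ z ∈ T := by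
    have : (⊤ : Subalgebra (𝒜 0) (HomogeneousLocalization.Away 𝒜 (σ i))).map φ ≤ T := by
      rw [← hgen, AlgHom.map_adjoin]
      apply Algebra.adjoin_le
      rintro _ ⟨z, ⟨f, hf, hz⟩, rfl⟩
      have hfs : f ∈ 𝒜 (s • 1) := by simpa using hf
      have hz' : z = Away.mk 𝒜 (hσ i) s f hfs := by
        apply HomogeneousLocalization.val_injective
        rw [hz, Away.val_mk]
      have : φ z = Away.mk 𝒜 hx 1 f (h1s f hf) * P := by
        apply HomogeneousLocalization.val_injective
        rw [hz', hφval, HomogeneousLocalization.val_mul, hγval f hf, hPval]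
        linear_combination (- ι f * ι g ^ s * y ^ s) * hXy
      rw [SetLike.mem_coe, this]
      exact Subalgebra.mul_mem _ (hγ f hf) hPT
    intro z
    exact this (Subalgebra.mem_map.mpr ⟨z, Algebra.mem_top, rfl⟩)
  -- everything is in T
  rw [eq_top_iff]
  intro w _
  obtain ⟨m, a, ha, rfl⟩ := Away.mk_surjective 𝒜 hx w
  have ha' : a ∈ 𝒜 ((m * s) • 1) := by simpa using ha
  have hσs : σ i ^ s ∈ 𝒜 s := by
    have := SetLike.pow_mem_graded s (hσ i)
    simpa using this
  have : Away.mk 𝒜 hx m a ha
      = φ (Away.mk 𝒜 (hσ i) (m * s) a ha') * (Away.mk 𝒜 hx 1 (σ i ^ s) (h1s _ hσs)) ^ m := by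
    apply HomogeneousLocalization.val_injective
    rw [HomogeneousLocalization.val_mul, HomogeneousLocalization.val_pow, hφval, hγval _ hσs,
      Away.val_mk, mk_pow_eq]
    have e1 : ι a * ι g ^ (m * s) * y ^ (m * s) * (ι (σ i ^ s) * y) ^ m
        = ι a * y ^ m * (ι x * y) ^ (m * s) := by
      have hιxg : ι x = ι (σ i) * ι g := by
        rw [← map_mul]; exact congrArg ι hxg
      rw [hιxg, map_pow]
      ring
    rw [e1, hXy, one_pow, mul_one]
  rw [this]
  exact Subalgebra.mul_mem _ (hφT _) (Subalgebra.pow_mem _ (hγ _ hσs) _)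

end Helpers

/-- Let A be a commutative algebra graded by the natural numbers, let σ_1, …, σ_n be homogeneous
elements of degree 1 and let s ≥ 1 be an integer such that, for every i, the degree-zero homogeneous
localisation of A away from σ_i is generated over A_0 by the fractions f / σ_i ^ s with f
homogeneous of degree s. Then for every exponent vector K = (k_1, …, k_n) with k_1 + ⋯ + k_n = s,
the degree-zero homogeneous localisation of A away from the monomial σ^K = ∏ σ_i ^ (k_i) is
generated over A_0 by the fractions f / σ^K with f homogeneous of degree s. (Equivalently: the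
natural map from the degree-zero localisation of the symmetric algebra on A_s, taken away from σ^K
viewed as an element of degree one, to the degree-zero localisation of A away from σ^K is
surjective. The published lemma concerns the algebra of invariant sections of the powers of a
linearised line bundle on an irreducible projective scheme over a field, with the σ_i a basis of a
weight space of sections, and concludes a closed immersion of a quotient into an open piece of a
projective space; this row keeps only the graded-algebra step, for any commutative graded algebra,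
with the base field replaced by A_0, which generates nothing new since a / 1 = a σ^s / σ^s for a of
degree zero.) -/
theorem result
    {R : Type u} {A : Type v} [CommRing R] [CommRing A] [Algebra R A]
    (𝒜 : ℕ → Submodule R A) [GradedAlgebra 𝒜]
    {n : ℕ} (σ : Fin n → A) (hσ : ∀ i, σ i ∈ 𝒜 1) {s : ℕ} (hs : 0 < s)
    (hgen : ∀ i, Algebra.adjoin (𝒜 0)
      {z : HomogeneousLocalization.Away 𝒜 (σ i) |
        ∃ f ∈ 𝒜 s, z.val = Localization.mk f ⟨σ i ^ s, Submonoid.pow_mem _ (Submonoid.mem_powers (σ i)) s⟩} = ⊤)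
    (K : Fin n → ℕ) (hK : ∑ i, K i = s) :
    Algebra.adjoin (𝒜 0)
      {z : HomogeneousLocalization.Away 𝒜 (∏ i, σ i ^ K i) |
        ∃ f ∈ 𝒜 s, z.val = Localization.mk f ⟨∏ i, σ i ^ K i, Submonoid.mem_powers _⟩} = ⊤ := by
  classical
  obtain ⟨i, hi⟩ : ∃ i, 0 < K i := by
    by_contra h
    push_neg at h
    have : ∑ i, K i = 0 := Finset.sum_eq_zero (fun i _ => Nat.le_zero.mp (h i))
    omega
  have hxg : ∏ j, σ j ^ K j = σ i * (σ i ^ (K i - 1) * ∏ j ∈ Finset.univ.erase i, σ j ^ K j) := by
    rw [← mul_assoc, ← pow_succ', Nat.sub_add_cancel hi]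
    exact (Finset.mul_prod_erase Finset.univ (fun j => σ j ^ K j) (Finset.mem_univ i)).symm
  have hsum : K i + ∑ j ∈ Finset.univ.erase i, K j = s := by
    rw [← hK]
    exact Finset.add_sum_erase Finset.univ K (Finset.mem_univ i)
  have hg : σ i ^ (K i - 1) * ∏ j ∈ Finset.univ.erase i, σ j ^ K j ∈ 𝒜 (s - 1) := by
    have h1 := SetLike.pow_mem_graded (K i - 1) (hσ i)
    have h2 := SetLike.prod_pow_mem_graded 𝒜 (fun _ => 1) σ K (F := Finset.univ.erase i)
      (fun k _ => hσ k)
    have h3 := SetLike.mul_mem_graded h1 h2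
    have e : (K i - 1) • 1 + ∑ k ∈ Finset.univ.erase i, K k • 1 = s - 1 := by
      simp only [smul_eq_mul, mul_one]
      omega
    rwa [e] at h3
  have hx : ∏ j, σ j ^ K j ∈ 𝒜 s := by
    have h2 := SetLike.prod_pow_mem_graded 𝒜 (fun _ => 1) σ K (F := Finset.univ)
      (fun k _ => hσ k)
    simpa [hK] using h2
  exact core 𝒜 σ hσ K hK _ _ i rfl hxg hg hs hx (hgen i)

end Groth.Agent.S17466
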