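import Groth.Statements.S17468
import Mathlib.Algebra.DirectSum.LinearMap
import Mathlib.LinearAlgebra.Eigenspace.Triangularizable

set_option autoImplicit false
universe u v w
open LieRep

namespace Groth.Agent.S17468

open LieModule Module

/-- `3 * Σ_{i<m} (n - 2 i)^2` closed form. -/
theorem three_mul_sum_sq {k : Type*} [Field k] (n : k) (m : ℕ) :
    3 * ∑ i ∈ Finset.range m, (n - 2 * (i : k)) ^ 2 =
      3 * m * n ^ 2 - 6 * n * m * (m - 1) + 2 * (m - 1) * m * (2 * m - 1) := by
  induction m with
  | zero => simp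
  | succ m ih =>
    rw [Finset.sum_range_succ, mul_add, ih]
    push_cast
    ring

theorem six_mul_choose (n : ℕ) : 6 * (n + 2).choose 3 = (n + 2) * (n + 1) * n := by
  have h := Nat.descFactorial_eq_factorial_mul_choose (n + 2) 3
  have h3 : Nat.factorial 3 = 6 := rfl
  rw [h3] at h
  rw [← h]
  simp [Nat.descFactorial]
  ring

theorem sum_sq_eq {k : Type*} [Field k] [CharZero k] (n : ℕ) :
    ∑ i ∈ Finset.range (n + 1), ((n : k) - 2 * (i : k)) ^ 2 =
      2 * (((n + 2).choose 3 : ℕ) : k) := by
  have h3 : (3 : k) ≠ 0 := by norm_num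
  have h1 := three_mul_sum_sq (k := k) (n : k) (n + 1)
  have h2 : (6 : k) * (((n + 2).choose 3 : ℕ) : k) = ((n : k) + 2) * ((n : k) + 1) * n := by
    exact_mod_cast congrArg (Nat.cast (R := k)) (six_mul_choose n)
  apply mul_left_cancel₀ h3
  rw [h1]
  push_cast
  have : (3 : k) * (2 * (((n + 2).choose 3 : ℕ) : k)) = 6 * (((n + 2).choose 3 : ℕ) : k) := by ring
  rw [this, h2]
  ring

variable (k : Type u) [Field k] [IsAlgClosed k] [CharZero k]
  (L : Type v) [LieRing L] [LieAlgebra k L]
  {h e f : L} (t : IsSl2Triple h e f)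

/-- Trace of `h^2` on an irreducible module. -/
theorem trace_irreducible (hspan : t.toLieSubalgebra k = ⊤)
    (M : Type w) [AddCommGroup M] [Module k M] [LieRingModule L M] [LieModule k L M]
    [FiniteDimensional k M] [LieModule.IsIrreducible k L M] :
    LinearMap.trace k M ((LieModule.toEnd k L M h) ^ 2) =
      2 * (((Module.finrank k M + 1).choose 3 : ℕ) : k) := by
  have : Nontrivial M := by
    by_contra hnt
    rw [not_nontrivial_iff_subsingleton] at hnt
    have : Subsingleton (LieSubmodule k L M) := inferInstance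
    exact not_subsingleton (LieSubmodule k L M) this
  obtain ⟨μ, m, hm0, P⟩ := t.exists_hasPrimitiveVectorWith (R := k) (M := M)
  obtain ⟨n, hn⟩ := P.exists_nat
  -- the vectors
  set F : Module.End k M := toEnd k L M f with hF
  set H : Module.End k M := toEnd k L M h with hH
  set E : Module.End k M := toEnd k L M e with hE
  let v : Fin (n + 1) → M := fun i => (F ^ (i : ℕ)) m
  have hvH : ∀ i : ℕ, H ((F ^ i) m) = ((n : k) - 2 * (i : k)) • (F ^ i) m := by
    intro i
    have := P.lie_h_pow_toEnd_f i
    rw [hn] at this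
    exact this
  have hvne : ∀ i : Fin (n + 1), v i ≠ 0 := fun i =>
    P.pow_toEnd_f_ne_zero_of_eq_nat hn (Nat.lt_succ_iff.mp i.2)
  have hFtop : (F ^ (n + 1)) m = 0 := P.pow_toEnd_f_eq_zero_of_eq_nat hn
  have hinj : Function.Injective (fun i : Fin (n + 1) => (n : k) - 2 * ((i : ℕ) : k)) := by
    intro i j hij
    simp only [sub_right_inj, mul_eq_mul_left_iff, Nat.cast_inj, OfNat.ofNat_ne_zero,
      or_false] at hij
    exact Fin.ext hij
  have hli : LinearIndependent k v := by
    apply Module.End.eigenvectors_linearIndependent' H _ hinj v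
    intro i
    rw [Module.End.hasEigenvector_iff, Module.End.mem_eigenspace_iff]
    exact ⟨hvH i, hvne i⟩
  -- span is a Lie submodule
  have hspanH : ∀ x ∈ Submodule.span k (Set.range v), H x ∈ Submodule.span k (Set.range v) := by
    intro x hx
    induction hx using Submodule.span_induction with
    | zero => simp
    | add u w _ _ hu hw => rw [map_add]; exact add_mem hu hw
    | smul c u _ hu => rw [map_smul]; exact Submodule.smul_mem _ c hu
    | mem u hu =>
      obtain ⟨i, rfl⟩ := hu
      show H ((F ^ (i : ℕ)) m) ∈ _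
      rw [hvH]
      exact Submodule.smul_mem _ _ (Submodule.subset_span ⟨i, rfl⟩)
  have hspanF : ∀ x ∈ Submodule.span k (Set.range v), F x ∈ Submodule.span k (Set.range v) := by
    intro x hx
    induction hx using Submodule.span_induction with
    | zero => simp
    | add u w _ _ hu hw => rw [map_add]; exact add_mem hu hw
    | smul c u _ hu => rw [map_smul]; exact Submodule.smul_mem _ c hu
    | mem u hu =>
      obtain ⟨i, rfl⟩ := hu
      show F ((F ^ (i : ℕ)) m) ∈ _
      rw [← Module.End.mul_apply, ← pow_succ']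
      by_cases hi : (i : ℕ) + 1 < n + 1
      · exact Submodule.subset_span ⟨⟨(i : ℕ) + 1, hi⟩, rfl⟩
      · have : (i : ℕ) + 1 = n + 1 := by have := i.2; omega
        rw [this, hFtop]
        exact zero_mem _
  have hspanE : ∀ x ∈ Submodule.span k (Set.range v), E x ∈ Submodule.span k (Set.range v) := by
    intro x hx
    induction hx using Submodule.span_induction with
    | zero => simp
    | add u w _ _ hu hw => rw [map_add]; exact add_mem hu hw
    | smul c u _ hu => rw [map_smul]; exact Submodule.smul_mem _ c hu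
    | mem u hu =>
      obtain ⟨⟨i, hi⟩, rfl⟩ := hu
      show E ((F ^ i) m) ∈ _
      cases i with
      | zero =>
        have : E ((F ^ 0) m) = 0 := by simpa [hE] using P.lie_e
        rw [this]; exact zero_mem _
      | succ j =>
        have := P.lie_e_pow_succ_toEnd_f j
        have h2 : E ((F ^ (j + 1)) m) = (((j : k) + 1) * (μ - j)) • (F ^ j) m := this
        rw [h2]
        exact Submodule.smul_mem _ _ (Submodule.subset_span ⟨⟨j, by omega⟩, rfl⟩)
  let N : LieSubmodule k L M :=
    { Submodule.span k (Set.range v) with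
      lie_mem := by
        intro x y hy
        have hx : x ∈ t.toLieSubalgebra k := by rw [hspan]; trivial
        obtain ⟨c₁, c₂, c₃, rfl⟩ := IsSl2Triple.mem_toLieSubalgebra_iff.mp hx
        rw [t.lie_e_f, add_lie, add_lie, smul_lie, smul_lie, smul_lie]
        refine Submodule.add_mem _ (Submodule.add_mem _ ?_ ?_) ?_
        · exact Submodule.smul_mem _ _ (hspanE y hy)
        · exact Submodule.smul_mem _ _ (hspanF y hy)
        · exact Submodule.smul_mem _ _ (hspanH y hy) }
  have hNtop : N = ⊤ := by
    refine (IsSimpleOrder.eq_bot_or_eq_top N).resolve_left ?_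
    intro hbot
    have hmN : m ∈ N := Submodule.subset_span ⟨0, by simp [v]⟩
    rw [hbot] at hmN
    exact hm0 ((LieSubmodule.mem_bot m).mp hmN)
  have hsp : ⊤ ≤ Submodule.span k (Set.range v) := by
    intro x _
    have : x ∈ N := by rw [hNtop]; trivial
    exact this
  let b : Basis (Fin (n + 1)) k M := Basis.mk hli hsp
  have hb : ∀ i, b i = v i := fun i => by simp [b]
  have hfr : Module.finrank k M = n + 1 := by
    rw [Module.finrank_eq_card_basis b]; simp
  rw [hfr, LinearMap.trace_eq_matrix_trace k b, Matrix.trace]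
  have hdiag : ∀ i : Fin (n + 1),
      Matrix.diag (LinearMap.toMatrix b b (H ^ 2)) i = ((n : k) - 2 * ((i : ℕ) : k)) ^ 2 := by
    intro i
    rw [Matrix.diag_apply, LinearMap.toMatrix_apply, hb]
    have : (H ^ 2) (v i) = (((n : k) - 2 * ((i : ℕ) : k)) ^ 2) • b i := by
      rw [pow_two, Module.End.mul_apply]
      show H (H ((F ^ (i : ℕ)) m)) = _
      rw [hvH, map_smul, hvH, smul_smul, hb, pow_two]
    rw [this, map_smul]
    simp
  rw [Finset.sum_congr rfl (fun i _ => hdiag i)]
  rw [Fin.sum_univ_eq_sum_range (fun i => ((n : k) - 2 * (i : k)) ^ 2) (n + 1)]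
  exact sum_sq_eq n

theorem result
    (k : Type u) [Field k] [IsAlgClosed k] [CharZero k]
    (L : Type v) [LieRing L] [LieAlgebra k L]
    (h e f : L) (t : IsSl2Triple h e f) (hspan : t.toLieSubalgebra k = ⊤)
    (V : Type w) [AddCommGroup V] [Module k V] [LieRingModule L V] [LieModule k L V]
    [FiniteDimensional k V]
    (ι : Type) [Fintype ι] [DecidableEq ι] (W : ι → LieSubmodule k L V)
    (hW : DirectSum.IsInternal fun i => (W i).toSubmodule)
    (hirr : ∀ i, LieModule.IsIrreducible k L (W i)) :
    LinearMap.trace k V ((LieModule.toEnd k L V h) ^ 2) =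
      2 * ∑ i, (((Module.finrank k (W i) + 1).choose 3 : ℕ) : k) := by
  set g : Module.End k V := (LieModule.toEnd k L V h) ^ 2 with hg
  have hmaps : ∀ i, Set.MapsTo g ((W i).toSubmodule : Set V)
      ((W i).toSubmodule : Set V) := by
    intro i x hx
    rw [hg, pow_two, Module.End.mul_apply]
    exact (W i).lie_mem ((W i).lie_mem hx)
  rw [LinearMap.trace_eq_sum_trace_restrict hW hmaps, Finset.mul_sum]
  refine Finset.sum_congr rfl (fun i _ => ?_)
  have := hirr i
  have := trace_irreducible k L t hspan (W i)
  rw [← this]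
  congr 1

end Groth.Agent.S17468
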