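import Groth.Statements.S17469
import Mathlib

set_option autoImplicit false
universe u
open CategoryTheory AlgebraicGeometry
open Variety

namespace Groth.Agent.S17469

/-- Let X be a locally Noetherian integral scheme all of whose local rings are integrally closed domains
and U an open subset of X. A section of O_X over U that is integral over the ring of global sections
of X, the latter acting through restriction, is itself the restriction of a global section. (The
published lemma is stated for an irreducible normal variety and for the graded ring of sections over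
U of all non-negative powers of a line bundle, integral over the corresponding ring of sections over
X; for the trivial line bundle its homogeneous components are the present statement, which is made
here for any locally Noetherian normal integral scheme.) -/
theorem result
    (X : Scheme.{u}) [AlgebraicGeometry.IsIntegral X] [IsLocallyNoetherian X]
    (hX : Pi1.IsNormalScheme X) (U : X.Opens) (b : Γ(X, U))
    (hb : (X.presheaf.map (homOfLE le_top : U ⟶ ⊤).op).hom.IsIntegralElem b) :
    b ∈ Set.range (X.presheaf.map (homOfLE le_top : U ⟶ ⊤).op).hom := by
  by_cases hU : Nonempty U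
  swap
  · have hbot : U = ⊥ := by
      ext x
      simp only [TopologicalSpace.Opens.coe_bot, Set.mem_empty_iff_false, iff_false]
      intro hx
      exact hU ⟨⟨x, hx⟩⟩
    have : Subsingleton Γ(X, U) := by
      rw [hbot]
      infer_instance
    exact ⟨0, Subsingleton.elim _ _⟩
  · have hne0 : Nonempty (⊤ : X.Opens) := ⟨⟨hU.some.1, trivial⟩⟩
    set β := X.germToFunctionField U b with hβ
    obtain ⟨p, hpm, hp⟩ := hb
    have hx : ∀ x : X, ∃ y : X.presheaf.stalk x, algebraMap _ X.functionField y = β := by
      intro x
      have := (hX x).2
      have hxT : x ∈ (⊤ : X.Opens) := trivial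
      have hint : IsIntegral (X.presheaf.stalk x) β := by
        refine ⟨p.map (X.presheaf.germ ⊤ x hxT).hom, hpm.map _, ?_⟩
        rw [Polynomial.eval₂_map]
        have h1 : (algebraMap (X.presheaf.stalk x) X.functionField).comp
            (X.presheaf.germ ⊤ x hxT).hom =
            (X.germToFunctionField U).hom.comp
              (X.presheaf.map (homOfLE le_top : U ⟶ ⊤).op).hom := by
          ext f
          have e0 := X.algebraMap_germ_eq_germToFunctionField hxT f
          have e1 := X.presheaf.germ_res_apply (homOfLE le_top : U ⟶ ⊤) (genericPoint X)
            (((genericPoint_spec X).mem_open_set_iff U.isOpen).mpr (by simpa using hU)) f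
          exact e0.trans e1.symm
        rw [h1, ← Polynomial.hom_eval₂, hp, map_zero]
      exact IsIntegrallyClosed.isIntegral_iff.mp hint
    choose y hy using hx
    have hx2 : ∀ x : X, ∃ (V : X.Opens) (hxV : x ∈ V) (t : Γ(X, V)),
        X.presheaf.germ V x hxV t = y x := fun x => X.presheaf.exists_germ_eq (y x)
    choose V hxV t ht using hx2
    have hne : ∀ x, Nonempty (V x) := fun x => ⟨⟨x, hxV x⟩⟩
    have htβ : ∀ x, X.germToFunctionField (V x) (t x) = β := by
      intro x
      rw [← X.algebraMap_germ_eq_germToFunctionField (hxV x), ht, hy]
    have hcompat : TopCat.Presheaf.IsCompatible X.presheaf V t := by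
      intro x x'
      have hne' : Nonempty (V x ⊓ V x' : X.Opens) := by
        obtain ⟨z, hz1, hz2⟩ := nonempty_preirreducible_inter (V x).isOpen (V x').isOpen
          ⟨x, hxV x⟩ ⟨x', hxV x'⟩
        exact ⟨⟨z, hz1, hz2⟩⟩
      apply X.germToFunctionField_injective (V x ⊓ V x')
      have hg : genericPoint X ∈ V x ⊓ V x' :=
        ((genericPoint_spec X).mem_open_set_iff (V x ⊓ V x').isOpen).mpr (by simpa using hne')
      have e1 := X.presheaf.germ_res_apply (TopologicalSpace.Opens.infLELeft (V x) (V x'))
        (genericPoint X) hg (t x)
      have e2 := X.presheaf.germ_res_apply (TopologicalSpace.Opens.infLERight (V x) (V x'))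
        (genericPoint X) hg (t x')
      exact e1.trans (((htβ x).trans (htβ x').symm).trans e2.symm)
    obtain ⟨s, hs, -⟩ := X.sheaf.existsUnique_gluing' V ⊤ (fun x => homOfLE le_top)
      (fun z _ => TopologicalSpace.Opens.mem_iSup.mpr ⟨z, hxV z⟩) t hcompat
    refine ⟨s, ?_⟩
    apply X.germToFunctionField_injective U
    have hgU : genericPoint X ∈ U :=
      ((genericPoint_spec X).mem_open_set_iff U.isOpen).mpr (by simpa using hU)
    have hgV : genericPoint X ∈ V hU.some.1 :=
      ((genericPoint_spec X).mem_open_set_iff (V hU.some.1).isOpen).mpr
        (by simpa using hne hU.some.1)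
    have e1 := X.presheaf.germ_res_apply (homOfLE le_top : U ⟶ ⊤) (genericPoint X) hgU s
    have e2 := X.presheaf.germ_res_apply (homOfLE le_top : V hU.some.1 ⟶ ⊤) (genericPoint X) hgV s
    have hs0 : X.presheaf.map (homOfLE le_top : V hU.some.1 ⟶ ⊤).op s = t hU.some.1 :=
      hs hU.some.1
    rw [hs0] at e2
    exact e1.trans (e2.symm.trans (htβ hU.some.1))

end Groth.Agent.S17469
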