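import Groth.Statements.S17471
import Mathlib.LinearAlgebra.RootSystem.Chain
-- import your own Groth.Agent.* helpers here

set_option autoImplicit false
universe u v w x
open RootCh

namespace Groth.Agent.S17471

/-- Let Φ be a finite, reduced, crystallographic, irreducible root system with a base, and θ a positive
root such that θ + β is a root for no positive root β (so θ is the highest root). Then Σ_{β>0} ⟨β,
θ^∨⟩² = 2 + Σ_{β>0} ⟨β, θ^∨⟩ = 2(1 + ⟨ρ, θ^∨⟩), ρ being half the sum of the positive roots; in the
source the left side is the index of the adjoint representation obtained from its formal character,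
and 1 + ⟨ρ, θ^∨⟩ is the dual Coxeter number. -/
theorem result
    {ι : Type u} {R : Type v} {M : Type w} {N : Type x}
    [Field R] [LinearOrder R] [IsStrictOrderedRing R]
    [AddCommGroup M] [Module R M] [AddCommGroup N] [Module R N] [Fintype ι]
    (P : RootPairing ι R M N) [P.IsRootSystem] [P.IsCrystallographic] [P.IsReduced]
    [P.IsIrreducible] (b : P.Base) (θ : ι) (hθ : b.IsPos θ)
    (hmax : ∀ i : ι, b.IsPos i → P.root θ + P.root i ∉ Set.range P.root) :
    ∑ i ∈ Finset.univ.filter (fun i => 0 < b.height i), P.pairing i θ ^ 2 =
      2 + ∑ i ∈ Finset.univ.filter (fun i => 0 < b.height i), P.pairing i θ := by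
  classical
  have hneg_height : ∀ γ : ι, b.height (P.reflectionPerm γ γ) = -b.height γ := by
    intro γ
    have := b.height_reflectionPerm_self γ
    simpa using this
  have hroot_neg : ∀ γ : ι, P.root (P.reflectionPerm γ γ) = -P.root γ := by
    intro γ
    rw [RootPairing.root_reflectionPerm, RootPairing.reflection_apply_self]
  have key : ∀ i : ι, b.IsPos i → i ≠ θ → P.pairing i θ ^ 2 = P.pairing i θ := by
    intro i hi hne
    have hli : LinearIndependent R ![P.root θ, P.root i] := by
      apply RootPairing.IsReduced.linearIndependent (P := P) (Ne.symm hne)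
      intro h
      have h1 : θ = P.reflectionPerm i i := (RootPairing.root_eq_neg_iff P).1 h
      have h2 : b.height θ = -b.height i := by rw [h1, hneg_height]
      have h3 : 0 < b.height θ := hθ
      have h4 : 0 < b.height i := hi
      omega
    have htop : P.chainTopCoeff θ i = 0 := by
      by_contra h0
      have h1 : 1 ≤ P.chainTopCoeff θ i := Nat.one_le_iff_ne_zero.2 h0
      have h2 := (P.root_add_nsmul_mem_range_iff_le_chainTopCoeff hli (n := 1)).2 h1
      rw [one_smul, add_comm] at h2
      exact hmax i hi h2
    have hbot : P.chainBotCoeff θ i ≤ 1 := by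
      by_contra hcon
      push Not at hcon
      have h1 := (P.root_sub_nsmul_mem_range_iff_le_chainBotCoeff hli (n := 1)).2 (by omega)
      have h2 := (P.root_sub_nsmul_mem_range_iff_le_chainBotCoeff hli (n := 2)).2 hcon
      obtain ⟨γ, hγ⟩ := h1
      obtain ⟨δ, hδ⟩ := h2
      rw [one_smul] at hγ
      by_cases hpos : b.IsPos γ
      · apply hmax γ hpos
        exact ⟨i, by rw [hγ]; abel⟩
      · have hpos' : b.IsPos (P.reflectionPerm γ γ) := by
          rw [RootPairing.Base.isPos_iff, hneg_height]
          have h3 := b.height_ne_zero γ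
          have h4 : ¬ 0 < b.height γ := hpos
          omega
        apply hmax _ hpos'
        refine ⟨P.reflectionPerm δ δ, ?_⟩
        rw [hroot_neg, hroot_neg, hδ, hγ, two_smul]
        abel
    have hp := P.chainBotCoeff_sub_chainTopCoeff hli
    have h01 : P.pairingIn ℤ i θ = 0 ∨ P.pairingIn ℤ i θ = 1 := by omega
    rw [← P.algebraMap_pairingIn ℤ]
    rcases h01 with h | h <;> simp [h]
  have hθmem : θ ∈ Finset.univ.filter (fun i => 0 < b.height i) := by
    simp only [Finset.mem_filter, Finset.mem_univ, true_and]
    exact hθ
  rw [← Finset.add_sum_erase _ _ hθmem,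
    ← Finset.add_sum_erase _ (fun i => P.pairing i θ) hθmem, P.pairing_same]
  have hsum : ∑ x ∈ (Finset.univ.filter (fun i => 0 < b.height i)).erase θ, P.pairing x θ ^ 2 =
      ∑ x ∈ (Finset.univ.filter (fun i => 0 < b.height i)).erase θ, P.pairing x θ := by
    refine Finset.sum_congr rfl fun i hi => ?_
    rw [Finset.mem_erase, Finset.mem_filter] at hi
    exact key i hi.2.2 hi.1
  rw [hsum]
  ring

end Groth.Agent.S17471
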