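-- S17482: H^1(I_D)=0 ⇒ D connected (helper5; Lib/DivConn5A: LES of 0→I_D→O→O_D→0 + Γ(X,O)=k)
import Groth.Statements.S17482
import Groth.Agent.Lib.DivConn5A

set_option autoImplicit false
universe u
open CategoryTheory CategoryTheory.Limits AlgebraicGeometry
open Surf

namespace Groth.Agent.S17482

/-- Let k be an algebraically closed field of characteristic zero and X a smooth projective surface over
k (an integral scheme of dimension two with all local rings regular, admitting a closed immersion
into some P^n_k over k) such that H^1(X, O_X) = 0. Let D be a nonempty closed subscheme of X, given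
by a quasi-coherent ideal sheaf whose associated O_X-module I_D is invertible (a nonzero effective
divisor). If H^1(X, I_D) = 0, then D is connected. (The published statement is for rational
surfaces; this row assumes only H^1(X, O_X) = 0. Since H^1(X, I_D) depends only on the isomorphism
class of I_D, the same holds for every effective divisor linearly equivalent to D.) -/
theorem result
    (k : Type u) [Field k] [IsAlgClosed k] [CharZero k]
    (X : Scheme.{u}) [X.Over (Spec (CommRingCat.of k))] [AlgebraicGeometry.IsIntegral X]
    (hdim : topologicalKrullDim X = 2) (hreg : ∀ x : X, IsRegularLocalRing (X.presheaf.stalk x))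
    (hproj : ∃ (n : ℕ) (ι : X ⟶ CohB1.ProjSpace n k), IsClosedImmersion ι ∧
      ι ≫ CohB1.ProjSpace.toSpec n k = (X ↘ (Spec (CommRingCat.of k))))
    (hH1 : Subsingleton (Coh.HH X (Coh.structureModule X) 1))
    (D : X.IdealSheafData) (hD : PicF.IsInvertible (ClSub.idealMod D)) (hne : Nonempty ↥D.subscheme)
    (hvan : Subsingleton (Coh.HH X (ClSub.idealMod D) 1)) :
    ConnectedSpace ↥D.subscheme := by
  obtain ⟨n, ι, hι, hw⟩ := hproj
  haveI : IsClosedImmersion ι := hι
  haveI : IsProper (CohB1.ProjSpace.toSpec n k) :=
    Groth.Agent.Lib.ProjSpaceProper.isProper_toSpec n k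
  haveI : IsProper (X ↘ (Spec (CommRingCat.of k))) := by
    rw [← hw]
    infer_instance
  exact Groth.Agent.Lib.DivConn5.connectedSpace_of_H1_idealMod k
    (X ↘ (Spec (CommRingCat.of k))) D hvan

end Groth.Agent.S17482
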