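import Groth.Statements.S17487
import Mathlib

set_option autoImplicit false
universe u
open CategoryTheory CategoryTheory.Limits AlgebraicGeometry
open Coherent

namespace Groth.Agent.S17487
set_option linter.style.haveILetI false
set_option linter.unusedVariables false

section Helpers

universe w v' u'

variable {C : Type u'} [Category.{v'} C] [Abelian C] [HasExt.{w} C]

open Abelian

lemma subsingleton_ext_iso_right {X A B : C} (e : A ≅ B) (p : ℕ)
    (h : Subsingleton (Ext X B p)) : Subsingleton (Ext X A p) := by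
  refine ⟨fun x y => ?_⟩
  have hx : x = (x.comp (Ext.mk₀ e.hom) (add_zero p)).comp (Ext.mk₀ e.inv) (add_zero p) := by
    rw [Ext.comp_assoc_of_second_deg_zero, Ext.mk₀_comp_mk₀, e.hom_inv_id, Ext.comp_mk₀_id]
  have hy : y = (y.comp (Ext.mk₀ e.hom) (add_zero p)).comp (Ext.mk₀ e.inv) (add_zero p) := by
    rw [Ext.comp_assoc_of_second_deg_zero, Ext.mk₀_comp_mk₀, e.hom_inv_id, Ext.comp_mk₀_id]
  rw [hx, hy, Subsingleton.elim (x.comp (Ext.mk₀ e.hom) (add_zero p))
    (y.comp (Ext.mk₀ e.hom) (add_zero p))]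

lemma subsingleton_ext_iso_left {X A B : C} (e : A ≅ B) (p : ℕ)
    (h : Subsingleton (Ext B X p)) : Subsingleton (Ext A X p) := by
  refine ⟨fun x y => ?_⟩
  have hx : x = (Ext.mk₀ e.hom).comp ((Ext.mk₀ e.inv).comp x (zero_add p)) (zero_add p) := by
    rw [← Ext.comp_assoc_of_second_deg_zero, Ext.mk₀_comp_mk₀, e.hom_inv_id, Ext.mk₀_id_comp]
  have hy : y = (Ext.mk₀ e.hom).comp ((Ext.mk₀ e.inv).comp y (zero_add p)) (zero_add p) := by
    rw [← Ext.comp_assoc_of_second_deg_zero, Ext.mk₀_comp_mk₀, e.hom_inv_id, Ext.mk₀_id_comp]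
  rw [hx, hy, Subsingleton.elim ((Ext.mk₀ e.inv).comp x (zero_add p))
    ((Ext.mk₀ e.inv).comp y (zero_add p))]

lemma subsingleton_ext_sigma_right {X : C} {m : ℕ} (Y : Fin m → C) (p : ℕ)
    (h : ∀ t, Subsingleton (Ext X (Y t) p)) : Subsingleton (Ext X (∐ Y) p) := by
  have hc := biconeIsBilimitOfColimitCoconeOfIsColimit (colimit.isColimit (Discrete.functor Y))
  have e := Ext.addEquivBiproduct X hc p
  exact e.toEquiv.subsingleton

lemma subsingleton_ext_sigma_left {X : C} {m : ℕ} (Y : Fin m → C) (p : ℕ)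
    (h : ∀ t, Subsingleton (Ext (Y t) X p)) : Subsingleton (Ext (∐ Y) X p) := by
  have hc := biconeIsBilimitOfColimitCoconeOfIsColimit (colimit.isColimit (Discrete.functor Y))
  have e := Ext.biproductAddEquiv hc X p
  exact e.toEquiv.subsingleton

end Helpers


/-- Let k be an algebraically closed field of characteristic zero and Y a smooth projective variety over
k (an integral scheme, smooth over k, with a closed immersion into some P^n_k over k). Let E_1, …,
E_n be coherent O_Y-modules forming a strong exceptional sequence, expressed through Ext groups in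
the category of O_Y-modules (the Ext instance is the stated hypothesis; it holds): End(E_i) is
one-dimensional over k, Ext^p(E_i, E_j) = 0 for all p when i > j, and Ext^p(E_i, E_j) = 0 for all i,
j when p ≥ 1 (indices here run over 0, …, n-1). Let d ≤ n and let 0 → K → M → F → 0 be a short exact
sequence of O_Y-modules in which K is isomorphic to a finite direct sum of copies of members E_i
with i < d and M to a finite direct sum of copies of members E_i with i ≥ d (a two-term resolution
of F by the sequence, split at d). Then Ext^p(E_i, F) = 0 for every i and every p ≥ 1, and Ext^p(F,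
E_i) = 0 for every i < d and every p ≠ 1. (The published criterion also asks that the sequence
generate the derived category, states the first vanishing only for i ≥ d, and adds conditions on
terms of the associated filtration and cofiltration of F, which are not restated here; the
vanishings above follow from the resolution alone.) -/
theorem result
    (k : Type u) [Field k] [IsAlgClosed k] [CharZero k]
    (Y : Scheme.{u}) [Y.Over (Spec (CommRingCat.of k))] [AlgebraicGeometry.IsIntegral Y]
    [Smooth (Y ↘ Spec (CommRingCat.of k))]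
    (hproj : ∃ (N : ℕ) (ι : Y ⟶ CohB1.ProjSpace N k), IsClosedImmersion ι ∧
      ι ≫ CohB1.ProjSpace.toSpec N k = (Y ↘ (Spec (CommRingCat.of k))))
    [HasExt.{u} Y.Modules]
    (n d : ℕ) (hdn : d ≤ n) (E : Fin n → Y.Modules) (hEcoh : ∀ i, Coh.IsCoh (E i))
    (hend : ∀ i, Module.finrank k (E i ⟶ E i) = 1)
    (hexc : ∀ i j : Fin n, j < i → ∀ p : ℕ, Subsingleton (Abelian.Ext (E i) (E j) p))
    (hstr : ∀ (i j : Fin n) (p : ℕ), 1 ≤ p → Subsingleton (Abelian.Ext (E i) (E j) p))
    (S : ShortComplex Y.Modules) (hS : S.ShortExact)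
    (m₁ : ℕ) (c₁ : Fin m₁ → Fin n) (hc₁ : ∀ t, (c₁ t : ℕ) < d) (e₁ : S.X₁ ≅ ∐ fun t => E (c₁ t))
    (m₂ : ℕ) (c₂ : Fin m₂ → Fin n) (hc₂ : ∀ t, d ≤ (c₂ t : ℕ)) (e₂ : S.X₂ ≅ ∐ fun t => E (c₂ t)) :
    (∀ (i : Fin n) (p : ℕ), 1 ≤ p → Subsingleton (Abelian.Ext (E i) S.X₃ p)) ∧
      (∀ i : Fin n, (i : ℕ) < d → ∀ p : ℕ, p ≠ 1 → Subsingleton (Abelian.Ext S.X₃ (E i) p)) := by
  have hK : ∀ (i : Fin n) (p : ℕ), 1 ≤ p → Subsingleton (Abelian.Ext (E i) S.X₁ p) := fun i p hp =>
    subsingleton_ext_iso_right e₁ p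
      (subsingleton_ext_sigma_right _ p (fun t => hstr i (c₁ t) p hp))
  have hM : ∀ (i : Fin n) (p : ℕ), 1 ≤ p → Subsingleton (Abelian.Ext (E i) S.X₂ p) := fun i p hp =>
    subsingleton_ext_iso_right e₂ p
      (subsingleton_ext_sigma_right _ p (fun t => hstr i (c₂ t) p hp))
  have hK' : ∀ (i : Fin n) (p : ℕ), 1 ≤ p → Subsingleton (Abelian.Ext S.X₁ (E i) p) := fun i p hp =>
    subsingleton_ext_iso_left e₁ p
      (subsingleton_ext_sigma_left _ p (fun t => hstr (c₁ t) i p hp))
  have hM' : ∀ (i : Fin n) (p : ℕ), 1 ≤ p → Subsingleton (Abelian.Ext S.X₂ (E i) p) := fun i p hp =>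
    subsingleton_ext_iso_left e₂ p
      (subsingleton_ext_sigma_left _ p (fun t => hstr (c₂ t) i p hp))
  have hM0 : ∀ (i : Fin n), (i : ℕ) < d → Subsingleton (Abelian.Ext S.X₂ (E i) 0) := fun i hi =>
    subsingleton_ext_iso_left e₂ 0
      (subsingleton_ext_sigma_left _ 0 (fun t => hexc (c₂ t) i
        (Fin.lt_def.mpr (lt_of_lt_of_le hi (hc₂ t))) 0))
  refine ⟨fun i p hp => ⟨fun x y => ?_⟩, fun i hi p hp => ⟨fun x y => ?_⟩⟩
  · have hx : ∀ x : Abelian.Ext (E i) S.X₃ p, x = 0 := by
      intro x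
      haveI := hK i (p + 1) (by omega)
      haveI := hM i p hp
      obtain ⟨x₂, rfl⟩ := Abelian.Ext.covariant_sequence_exact₃ (E i) hS x rfl
        (Subsingleton.elim _ _)
      rw [Subsingleton.elim x₂ 0, Abelian.Ext.zero_comp]
    rw [hx x, hx y]
  · have hx : ∀ x : Abelian.Ext S.X₃ (E i) p, x = 0 := by
      intro x
      rcases Nat.eq_zero_or_pos p with hp0 | hp0
      · subst hp0
        haveI := hM0 i hi
        haveI : Epi S.g := hS.epi_g
        apply Abelian.Ext.precomp_mk₀_injective_of_epi (E i) S.g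
        exact Subsingleton.elim _ _
      · obtain ⟨q, rfl⟩ : ∃ q, p = 1 + q := ⟨p - 1, by omega⟩
        have hq : 1 ≤ q := by omega
        haveI := hK' i q hq
        haveI := hM' i (1 + q) (by omega)
        obtain ⟨x₁, rfl⟩ := Abelian.Ext.contravariant_sequence_exact₃ hS (E i) x
          (Subsingleton.elim _ _) rfl
        rw [Subsingleton.elim x₁ 0, Abelian.Ext.comp_zero]
    rw [hx x, hx y]

end Groth.Agent.S17487
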