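import Groth.Statements.S1750
import Mathlib.RingTheory.LocalRing.ResidueField.Basic
import Mathlib.RingTheory.Flat.Basic
import Mathlib.RingTheory.Finiteness.Ideal
import Mathlib.RingTheory.Noetherian.Basic
import Mathlib.LinearAlgebra.TensorProduct.Tower

set_option autoImplicit false
universe u
open scoped TensorProduct

namespace Groth.Agent.S1750

/-- An injective module over a flat algebra is injective over the base. -/
lemma injective_of_flat (R S : Type u) [CommRing R] [CommRing S] [Algebra R S] [Module.Flat R S]
    (E : Type u) [AddCommGroup E] [Module S E] [Module R E] [IsScalarTower R S E]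
    [Module.Injective S E] : Module.Injective R E := by
  apply Module.Baer.injective
  intro I g
  let ι : S ⊗[R] I →ₗ[S] S :=
    (TensorProduct.AlgebraTensorModule.rid R S S).toLinearMap ∘ₗ LinearMap.baseChange S I.subtype
  have hι : Function.Injective ι := by
    refine (TensorProduct.AlgebraTensorModule.rid R S S).injective.comp ?_
    have := Module.Flat.lTensor_preserves_injective_linearMap (M := S) I.subtype
      Subtype.val_injective
    exact this
  let G : S ⊗[R] I →ₗ[S] E := LinearMap.liftBaseChange S g
  obtain ⟨G', hG'⟩ := Module.Injective.extension_property S E _ _ ι hι G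
  refine ⟨(G'.restrictScalars R) ∘ₗ (Algebra.linearMap R S), ?_⟩
  intro x hx
  have h1 : ι ((1 : S) ⊗ₜ[R] (⟨x, hx⟩ : I)) = algebraMap R S x := by
    simp [ι, Algebra.smul_def]
  have h2 : G ((1 : S) ⊗ₜ[R] (⟨x, hx⟩ : I)) = g ⟨x, hx⟩ := by
    simp [G]
  have h3 := LinearMap.congr_fun hG' ((1 : S) ⊗ₜ[R] (⟨x, hx⟩ : I))
  simp only [LinearMap.coe_comp, Function.comp_apply] at h3
  rw [h1, h2] at h3
  simpa using h3

variable {S : Type u} [CommRing S] [IsLocalRing S] [IsNoetherianRing S]
variable {E : Type u} [AddCommGroup E] [Module S E]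

omit [IsNoetherianRing S] in
lemma smul_residueField_eq_zero {t : S} (ht : t ∈ IsLocalRing.maximalIdeal S)
    (c : IsLocalRing.ResidueField S) : t • c = 0 := by
  rw [Algebra.smul_def, IsLocalRing.ResidueField.algebraMap_eq,
    (IsLocalRing.residue_eq_zero_iff t).mpr ht, zero_mul]

lemma exists_pow_smul_eq_zero (f : IsLocalRing.ResidueField S →ₗ[S] E)
    (hf : InjHull.IsEssentialInj f) (t : S) (ht : t ∈ IsLocalRing.maximalIdeal S) (y : E) :
    ∃ j : ℕ, t ^ j • y = 0 := by
  let c : ℕ →o Ideal S :=
    { toFun := fun j => (Submodule.span S {t ^ j • y}).annihilator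
      monotone' := by
        refine monotone_nat_of_le_succ fun j => ?_
        intro s hs
        rw [Submodule.mem_annihilator_span_singleton] at hs ⊢
        rw [pow_succ', mul_smul, smul_comm, hs, smul_zero] }
  obtain ⟨j, hj⟩ := monotone_stabilizes_iff_noetherian.mpr (inferInstance : IsNoetherian S S) c
  refine ⟨j, ?_⟩
  by_contra hz
  have hN : Submodule.span S {t ^ j • y} ≠ ⊥ := by
    rw [Ne, Submodule.span_singleton_eq_bot]; exact hz
  have := hf.essential _ hN
  rw [Ne, Submodule.eq_bot_iff] at this
  apply this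
  rintro w ⟨hw1, hw2⟩
  obtain ⟨s, rfl⟩ := Submodule.mem_span_singleton.mp hw1
  obtain ⟨d, hd⟩ := hw2
  have h1 : t • (s • t ^ j • y) = 0 := by
    rw [← hd, ← map_smul, smul_residueField_eq_zero ht, map_zero]
  have h2 : s ∈ c (j + 1) := by
    change s ∈ (Submodule.span S {t ^ (j + 1) • y}).annihilator
    rw [Submodule.mem_annihilator_span_singleton, pow_succ', mul_smul, smul_comm]
    exact h1
  rw [← hj (j + 1) (Nat.le_succ j)] at h2
  change s ∈ (Submodule.span S {t ^ j • y}).annihilator at h2
  rwa [Submodule.mem_annihilator_span_singleton] at h2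

lemma exists_pow_maximalIdeal_smul_eq_zero (f : IsLocalRing.ResidueField S →ₗ[S] E)
    (hf : InjHull.IsEssentialInj f) (y : E) :
    ∃ k : ℕ, ∀ a ∈ IsLocalRing.maximalIdeal S ^ k, a • y = 0 := by
  have hle : IsLocalRing.maximalIdeal S ≤ ((Submodule.span S {y}).annihilator).radical := by
    intro t ht
    obtain ⟨j, hj⟩ := exists_pow_smul_eq_zero f hf t ht y
    exact ⟨j, by rwa [Submodule.mem_annihilator_span_singleton]⟩
  obtain ⟨k, hk⟩ := Ideal.exists_pow_le_of_le_radical_of_fg hle
    (IsNoetherian.noetherian (IsLocalRing.maximalIdeal S))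
  exact ⟨k, fun a ha => by
    have := hk ha
    rwa [Submodule.mem_annihilator_span_singleton] at this⟩

omit [IsNoetherianRing S] in
lemma mem_range_of_socle (f : IsLocalRing.ResidueField S →ₗ[S] E)
    (hf : InjHull.IsEssentialInj f) (w : E)
    (hw : ∀ a ∈ IsLocalRing.maximalIdeal S, a • w = 0) : w ∈ LinearMap.range f := by
  by_cases hw0 : w = 0
  · rw [hw0]; exact zero_mem _
  have hN : Submodule.span S {w} ≠ ⊥ := by
    rw [Ne, Submodule.span_singleton_eq_bot]; exact hw0
  have := hf.essential _ hN
  rw [Ne, Submodule.eq_bot_iff] at this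
  by_contra hcon
  apply this
  rintro v ⟨hv1, hv2⟩
  obtain ⟨s, rfl⟩ := Submodule.mem_span_singleton.mp hv1
  by_cases hs : s ∈ IsLocalRing.maximalIdeal S
  · exact hw s hs
  · exfalso
    apply hcon
    have hu : IsUnit s := by
      by_contra hnu
      exact hs ((IsLocalRing.mem_maximalIdeal s).mpr hnu)
    obtain ⟨u, rfl⟩ := hu
    have : w = (↑u⁻¹ : S) • ((u : S) • w) := by
      rw [smul_smul, Units.inv_mul, one_smul]
    rw [this]
    exact Submodule.smul_mem _ _ hv2

/-- Let R → S be a flat local homomorphism of Noetherian local rings with m_R S = m_S inducing a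
bijection on residue fields. If κ_S → E is an injective hull of the residue field of S over S, then
E regarded as an R-module is an injective hull of the residue field of R (for a suitable R-linear
map κ_R → E). -/
theorem result (R S : Type u) [CommRing R] [CommRing S] [IsLocalRing R] [IsLocalRing S] [IsNoetherianRing R] [IsNoetherianRing S] [Algebra R S] [IsLocalHom (algebraMap R S)] [Module.Flat R S] (hm : (IsLocalRing.maximalIdeal R).map (algebraMap R S) = IsLocalRing.maximalIdeal S) (hk : Function.Bijective (IsLocalRing.ResidueField.map (algebraMap R S))) (E : Type u) [AddCommGroup E] [Module S E] [Module R E] [IsScalarTower R S E] (f : IsLocalRing.ResidueField S →ₗ[S] E) (hf : InjHull.IsInjectiveHull f) : ∃ g : IsLocalRing.ResidueField R →ₗ[R] E, InjHull.IsInjectiveHull g := by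
  have hfe : InjHull.IsEssentialInj f := hf.toIsEssentialInj
  let g : IsLocalRing.ResidueField R →ₗ[R] E :=
    { toFun := fun c => f (IsLocalRing.ResidueField.map (algebraMap R S) c)
      map_add' := fun a b => by rw [map_add, map_add]
      map_smul' := fun r c => by
        rw [RingHom.id_apply, Algebra.smul_def, map_mul,
          IsLocalRing.ResidueField.algebraMap_eq, IsLocalRing.ResidueField.map_residue,
          ← IsLocalRing.ResidueField.algebraMap_eq, ← Algebra.smul_def, map_smul,
          algebraMap_smul] }
  have hg_apply : ∀ c, g c = f (IsLocalRing.ResidueField.map (algebraMap R S) c) := fun _ => rfl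
  refine ⟨g, ⟨⟨?_, ?_⟩, ?_⟩⟩
  · exact hfe.injective.comp (IsLocalRing.ResidueField.map (algebraMap R S)).injective
  · intro N hN
    obtain ⟨y, hyN, hy0⟩ := (Submodule.ne_bot_iff N).mp hN
    obtain ⟨k, hk'⟩ := exists_pow_maximalIdeal_smul_eq_zero f hfe y
    have hex : ∃ j : ℕ, ∀ a ∈ IsLocalRing.maximalIdeal R ^ j, a • y = 0 := by
      refine ⟨k, fun a ha => ?_⟩
      rw [← algebraMap_smul S a y]
      apply hk'
      rw [← hm, ← Ideal.map_pow]
      exact Ideal.mem_map_of_mem _ ha
    classical
    have hj0 : Nat.find hex ≠ 0 := by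
      intro h0
      have := Nat.find_spec hex
      rw [h0, pow_zero] at this
      exact hy0 (by simpa using this 1 (by simp))
    obtain ⟨j', hj'⟩ := Nat.exists_eq_succ_of_ne_zero hj0
    have hmin : ¬ ∀ a ∈ IsLocalRing.maximalIdeal R ^ j', a • y = 0 :=
      Nat.find_min hex (by omega)
    rw [not_forall] at hmin
    obtain ⟨a, ha⟩ := hmin
    rw [Classical.not_imp] at ha
    obtain ⟨haj, hay⟩ := ha
    have hkill : ∀ b ∈ IsLocalRing.maximalIdeal R, b • a • y = 0 := by
      intro b hb
      rw [smul_smul]
      apply Nat.find_spec hex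
      rw [hj', pow_succ']
      exact Ideal.mul_mem_mul hb haj
    have hkillS : ∀ s ∈ IsLocalRing.maximalIdeal S, s • a • y = 0 := by
      have hle : (IsLocalRing.maximalIdeal R).map (algebraMap R S) ≤
          (Submodule.span S {a • y}).annihilator := by
        rw [Ideal.map_le_iff_le_comap]
        intro b hb
        rw [Ideal.mem_comap, Submodule.mem_annihilator_span_singleton, algebraMap_smul]
        exact hkill b hb
      intro s hs
      rw [← hm] at hs
      have := hle hs
      rwa [Submodule.mem_annihilator_span_singleton] at this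
    obtain ⟨c, hc⟩ := mem_range_of_socle f hfe (a • y) hkillS
    obtain ⟨c', rfl⟩ := hk.2 c
    rw [Ne, Submodule.eq_bot_iff]
    intro hbot
    exact hay (hbot (a • y) ⟨N.smul_mem a hyN, ⟨c', by rw [hg_apply, hc]⟩⟩)
  · have := hf.isInjective
    exact injective_of_flat R S E

end Groth.Agent.S1750
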