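import Groth.Statements.S17500
import Mathlib.RingTheory.Flat.Tensor
import Mathlib.RingTheory.Flat.EquationalCriterion
import Mathlib.Data.ZMod.Units

set_option autoImplicit false
universe u
open TorsMod

namespace Groth.Agent.S17500


section zmod
variable (p n : ℕ) [hp : Fact p.Prime]

lemma pow_n_eq_zero : ((p : ZMod (p ^ n)) ^ n) = 0 := by
  have := ZMod.natCast_self (p ^ n)
  push_cast at this
  exact this

lemma decomp (a : ZMod (p ^ n)) : ∃ i ≤ n, ∃ u : (ZMod (p ^ n))ˣ, a = u * (p : ZMod (p ^ n)) ^ i := by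
  have : NeZero (p ^ n) := ⟨pow_ne_zero _ hp.out.ne_zero⟩
  by_cases ha : a = 0
  · exact ⟨n, le_rfl, 1, by rw [ha, pow_n_eq_zero, mul_zero]⟩
  · have hval : a.val ≠ 0 := fun h => ha ((ZMod.val_eq_zero a).mp h)
    obtain ⟨i, m', hm', hm⟩ := Nat.exists_eq_pow_mul_and_not_dvd hval p hp.out.ne_one
    have hcop : Nat.Coprime m' (p ^ n) :=
      Nat.Coprime.pow_right _ ((Nat.Prime.coprime_iff_not_dvd hp.out).mpr hm').symm
    have ha' : a = (ZMod.unitOfCoprime m' hcop : ZMod (p ^ n)) * (p : ZMod (p ^ n)) ^ i := by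
      rw [ZMod.coe_unitOfCoprime, ← ZMod.natCast_zmod_val a, hm]
      push_cast
      ring
    by_cases hin : i ≤ n
    · exact ⟨i, hin, _, ha'⟩
    · exfalso
      apply ha
      rw [ha']
      have : (p : ZMod (p ^ n)) ^ i = 0 := by
        obtain ⟨k, rfl⟩ := Nat.exists_eq_add_of_le (not_le.mp hin).le
        rw [pow_add, pow_n_eq_zero, zero_mul]
      rw [this, mul_zero]

lemma annih (i : ℕ) (hi : i ≤ n) (b : ZMod (p ^ n)) (hb : (p : ZMod (p ^ n)) ^ i * b = 0) :
    ∃ c, b = (p : ZMod (p ^ n)) ^ (n - i) * c := by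
  have : NeZero (p ^ n) := ⟨pow_ne_zero _ hp.out.ne_zero⟩
  have h1 : ((p ^ i * b.val : ℕ) : ZMod (p ^ n)) = 0 := by
    push_cast
    rw [ZMod.natCast_zmod_val]
    exact hb
  rw [ZMod.natCast_eq_zero_iff] at h1
  have h2 : p ^ n = p ^ i * p ^ (n - i) := by rw [← pow_add, Nat.add_sub_cancel' hi]
  have h3 : p ^ (n - i) ∣ b.val :=
    (Nat.mul_dvd_mul_iff_left (pow_pos hp.out.pos i)).mp (h2 ▸ h1)
  obtain ⟨c, hc⟩ := h3
  refine ⟨(c : ZMod (p ^ n)), ?_⟩
  rw [← ZMod.natCast_zmod_val b, hc]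
  push_cast
  rfl

lemma ideal_eq (I : Ideal (ZMod (p ^ n))) :
    ∃ i ≤ n, I = Ideal.span {(p : ZMod (p ^ n)) ^ i} := by
  classical
  have hex : ∃ i, i ≤ n ∧ (p : ZMod (p ^ n)) ^ i ∈ I :=
    ⟨n, le_rfl, by rw [pow_n_eq_zero]; exact I.zero_mem⟩
  refine ⟨Nat.find hex, (Nat.find_spec hex).1, le_antisymm ?_ ?_⟩
  · intro a ha
    obtain ⟨j, hj, u, rfl⟩ := decomp p n a
    have hpj : (p : ZMod (p ^ n)) ^ j ∈ I := by
      have := I.mul_mem_left (↑u⁻¹ : ZMod (p ^ n)) ha
      rwa [← mul_assoc, Units.inv_mul, one_mul] at this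
    have hij : Nat.find hex ≤ j := Nat.find_min' hex ⟨hj, hpj⟩
    obtain ⟨k, hk⟩ := Nat.exists_eq_add_of_le hij
    rw [Ideal.mem_span_singleton']
    exact ⟨u * (p : ZMod (p ^ n)) ^ k, by rw [hk, pow_add]; ring⟩
  · rw [Ideal.span_singleton_le_iff_mem]
    exact (Nat.find_spec hex).2

end zmod

open TensorProduct in
theorem result' (p n : ℕ) [hp : Fact p.Prime]
    (H : Type u) [AddCommGroup H] [Module (ZMod (p ^ n)) H] :
    Module.Flat (ZMod (p ^ n)) H ↔
      ∀ i : ℕ, i ≤ n →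
        LinearMap.ker ((p ^ i : ZMod (p ^ n)) • (LinearMap.id : H →ₗ[ZMod (p ^ n)] H)) =
          LinearMap.range ((p ^ (n - i) : ZMod (p ^ n)) • (LinearMap.id : H →ₗ[ZMod (p ^ n)] H)) := by
  constructor
  · intro hflat i hi
    ext h
    simp only [LinearMap.mem_ker, LinearMap.smul_apply, LinearMap.id_coe, id_eq,
      LinearMap.mem_range]
    constructor
    · intro hh
      have hrel : ∑ _k : Fin 1, ((p : ZMod (p ^ n)) ^ i) • h = 0 := by simpa using hh
      obtain ⟨k, a, y, hxy, hab⟩ := Module.Flat.isTrivialRelation_of_sum_smul_eq_zero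
        (f := fun _ : Fin 1 => (p : ZMod (p ^ n)) ^ i) (x := fun _ : Fin 1 => h) hrel
      have hc : ∀ j, ∃ c, a 0 j = (p : ZMod (p ^ n)) ^ (n - i) * c := by
        intro j
        apply annih p n i hi
        simpa using hab j
      choose c hc using hc
      refine ⟨∑ j, c j • y j, ?_⟩
      have hxy0 : h = ∑ j, a 0 j • y j := hxy 0
      rw [Finset.smul_sum]
      refine Eq.trans ?_ hxy0.symm
      refine Finset.sum_congr rfl fun j _ => ?_
      rw [hc j, mul_smul]
    · rintro ⟨h', rfl⟩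
      rw [← mul_smul, ← pow_add, Nat.add_sub_cancel' hi, pow_n_eq_zero, zero_smul]
  · intro hker
    rw [Module.Flat.iff_rTensor_injective']
    intro I
    obtain ⟨i, hi, rfl⟩ := ideal_eq p n I
    set g : Ideal.span {(p : ZMod (p ^ n)) ^ i} :=
      ⟨(p : ZMod (p ^ n)) ^ i, Ideal.subset_span rfl⟩ with hg
    have hform : ∀ x : (Ideal.span {(p : ZMod (p ^ n)) ^ i} : Ideal _) ⊗[ZMod (p ^ n)] H,
        ∃ h : H, x = g ⊗ₜ[ZMod (p ^ n)] h := by
      intro x
      induction x using TensorProduct.induction_on with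
      | zero => exact ⟨0, by rw [tmul_zero]⟩
      | tmul r h =>
        obtain ⟨c, hc⟩ := Ideal.mem_span_singleton'.mp r.2
        refine ⟨c • h, ?_⟩
        have : r = c • g := Subtype.ext (by rw [hg]; exact hc.symm)
        rw [this, TensorProduct.smul_tmul]
      | add x y hx' hy' =>
        obtain ⟨h₁, rfl⟩ := hx'
        obtain ⟨h₂, rfl⟩ := hy'
        exact ⟨h₁ + h₂, by rw [tmul_add]⟩
    rw [injective_iff_map_eq_zero]
    intro x hx
    obtain ⟨h, rfl⟩ := hform x
    rw [LinearMap.rTensor_tmul] at hx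
    have h0 : (p : ZMod (p ^ n)) ^ i • h = 0 := by
      have := congrArg (TensorProduct.lid (ZMod (p ^ n)) H) hx
      simpa [hg] using this
    have hmem : h ∈ LinearMap.ker ((p ^ i : ZMod (p ^ n)) •
        (LinearMap.id : H →ₗ[ZMod (p ^ n)] H)) := by
      simpa using h0
    rw [hker i hi] at hmem
    obtain ⟨h', rfl⟩ := hmem
    simp only [LinearMap.smul_apply, LinearMap.id_coe, id_eq]
    rw [← TensorProduct.smul_tmul]
    have : ((p : ZMod (p ^ n)) ^ (n - i)) • g = 0 := by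
      apply Subtype.ext
      rw [hg]
      simp only [Submodule.coe_smul, smul_eq_mul, ZeroMemClass.coe_zero]
      rw [← pow_add, Nat.sub_add_cancel hi, pow_n_eq_zero]
    rw [this, zero_tmul]



/-- Let p be a prime number, n a natural number and H a module over ℤ/p^nℤ. Then H is flat over ℤ/p^nℤ
if and only if, for every i with 0 ≤ i ≤ n, the kernel of multiplication by p^i on H coincides with
the image of multiplication by p^(n-i) on H. (The published item is phrased for an fppf sheaf of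
ℤ/p^nℤ-modules on a scheme; this is the case of a single module, which is the case the argument
treats.) -/
theorem result (p n : ℕ) [Fact p.Prime]
    (H : Type u) [AddCommGroup H] [Module (ZMod (p ^ n)) H] :
    Module.Flat (ZMod (p ^ n)) H ↔
      ∀ i : ℕ, i ≤ n →
        LinearMap.ker ((p ^ i : ZMod (p ^ n)) • (LinearMap.id : H →ₗ[ZMod (p ^ n)] H)) =
          LinearMap.range ((p ^ (n - i) : ZMod (p ^ n)) • (LinearMap.id : H →ₗ[ZMod (p ^ n)] H)) :=
  result' p n H

end Groth.Agent.S17500
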