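import Groth.Statements.S17506
import Mathlib
-- import your own Groth.Agent.* helpers here

set_option autoImplicit false
universe u
open CategoryTheory
open ThetaRep

namespace Groth.Agent.S17506

open CategoryTheory
open scoped commutatorElement

section grp
variable {k : Type u} [Field k] {Γ : Type u} [Group Γ] {ι : kˣ →* Γ}

theorem central_of (hcent : ι.range = Subgroup.center Γ) (z : kˣ) (g : Γ) :
    ι z * g = g * ι z := by
  have h : ι z ∈ Subgroup.center Γ := hcent ▸ ⟨z, rfl⟩
  exact (Subgroup.mem_center_iff.1 h g).symm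

theorem exists_pr (hcomm : commutator Γ ≤ ι.range) (a b : Γ) : ∃ z : kˣ, a * b = ι z * (b * a) := by
  have h : ⁅a, b⁆ ∈ ι.range := by
    apply hcomm
    rw [commutator_def]
    exact Subgroup.commutator_mem_commutator (Subgroup.mem_top a) (Subgroup.mem_top b)
  obtain ⟨z, hz⟩ := h
  refine ⟨z, ?_⟩
  rw [hz, commutatorElement_def]
  group

/-- the commutator pairing -/
noncomputable def pr (hcomm : commutator Γ ≤ ι.range) (a b : Γ) : kˣ :=
  Classical.choose (exists_pr hcomm a b)

theorem pr_spec (hcomm : commutator Γ ≤ ι.range) (a b : Γ) :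
    a * b = ι (pr hcomm a b) * (b * a) :=
  Classical.choose_spec (exists_pr hcomm a b)

theorem pr_unique (hι : Function.Injective ι) (hcomm : commutator Γ ≤ ι.range) (a b : Γ) (z : kˣ)
    (h : a * b = ι z * (b * a)) : pr hcomm a b = z := by
  apply hι
  have := pr_spec hcomm a b
  rw [h] at this
  exact (mul_right_cancel this).symm

theorem pr_mul_right (hι : Function.Injective ι) (hcent : ι.range = Subgroup.center Γ)
    (hcomm : commutator Γ ≤ ι.range) (a b b' : Γ) :
    pr hcomm a (b * b') = pr hcomm a b * pr hcomm a b' := by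
  apply pr_unique hι
  have h1 := pr_spec hcomm a b
  have h2 := pr_spec hcomm a b'
  calc a * (b * b') = (a * b) * b' := by rw [mul_assoc]
    _ = ι (pr hcomm a b) * (b * a) * b' := by rw [h1]
    _ = ι (pr hcomm a b) * (b * (a * b')) := by simp only [mul_assoc]
    _ = ι (pr hcomm a b) * (b * (ι (pr hcomm a b') * (b' * a))) := by rw [h2]
    _ = ι (pr hcomm a b) * ((b * ι (pr hcomm a b')) * (b' * a)) := by simp only [mul_assoc]
    _ = ι (pr hcomm a b) * ((ι (pr hcomm a b') * b) * (b' * a)) := by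
        rw [← central_of hcent (pr hcomm a b') b]
    _ = ι (pr hcomm a b * pr hcomm a b') * (b * b' * a) := by
        rw [map_mul]
        simp only [mul_assoc]

theorem pr_symm (hι : Function.Injective ι) (hcent : ι.range = Subgroup.center Γ)
    (hcomm : commutator Γ ≤ ι.range) (a b : Γ) :
    pr hcomm b a = (pr hcomm a b)⁻¹ := by
  apply pr_unique hι
  have h1 := pr_spec hcomm a b
  rw [h1, ← mul_assoc, ← map_mul, inv_mul_cancel, map_one, one_mul]

/-- `pr a` as a monoid hom in the second variable -/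
noncomputable def prR (hι : Function.Injective ι) (hcent : ι.range = Subgroup.center Γ)
    (hcomm : commutator Γ ≤ ι.range) (a : Γ) : Γ →* kˣ :=
  MonoidHom.mk' (fun b => pr hcomm a b) (fun b b' => pr_mul_right hι hcent hcomm a b b')

theorem pr_mul_left (hι : Function.Injective ι) (hcent : ι.range = Subgroup.center Γ)
    (hcomm : commutator Γ ≤ ι.range) (a a' b : Γ) :
    pr hcomm (a * a') b = pr hcomm a b * pr hcomm a' b := by
  rw [pr_symm hι hcent hcomm b (a * a'), pr_mul_right hι hcent hcomm, mul_inv,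
    ← pr_symm hι hcent hcomm, ← pr_symm hι hcent hcomm]

theorem pr_inv_right (hι : Function.Injective ι) (hcent : ι.range = Subgroup.center Γ)
    (hcomm : commutator Γ ≤ ι.range) (a b : Γ) :
    pr hcomm a b⁻¹ = (pr hcomm a b)⁻¹ :=
  map_inv (prR hι hcent hcomm a) b

theorem pr_inv_left (hι : Function.Injective ι) (hcent : ι.range = Subgroup.center Γ)
    (hcomm : commutator Γ ≤ ι.range) (a b : Γ) :
    pr hcomm a⁻¹ b = (pr hcomm a b)⁻¹ := by
  rw [pr_symm hι hcent hcomm b a⁻¹, pr_inv_right hι hcent hcomm, inv_inv,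
    ← pr_symm hι hcent hcomm]

theorem pr_iota_right (hι : Function.Injective ι) (hcent : ι.range = Subgroup.center Γ)
    (hcomm : commutator Γ ≤ ι.range) (a : Γ) (z : kˣ) : pr hcomm a (ι z) = 1 := by
  apply pr_unique hι
  rw [map_one, one_mul, central_of hcent]

theorem pr_iota_left (hι : Function.Injective ι) (hcent : ι.range = Subgroup.center Γ)
    (hcomm : commutator Γ ≤ ι.range) (b : Γ) (z : kˣ) : pr hcomm (ι z) b = 1 := by
  rw [pr_symm hι hcent hcomm, pr_iota_right hι hcent hcomm, inv_one]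

theorem mem_range_of_pr (hι : Function.Injective ι) (hcent : ι.range = Subgroup.center Γ)
    (hcomm : commutator Γ ≤ ι.range) (a : Γ) (h : ∀ b, pr hcomm a b = 1) : a ∈ ι.range := by
  rw [hcent, Subgroup.mem_center_iff]
  intro b
  have := pr_spec hcomm a b
  rw [h b, map_one, one_mul] at this
  exact this.symm

/-- coset-invariant functions take equal values on equal cosets -/
theorem eq_of_mk_eq {X : Type*} (F : Γ → X) (hF : ∀ g z, F (g * ι z) = F g) (a b : Γ)
    (h : (QuotientGroup.mk a : Γ ⧸ ι.range) = QuotientGroup.mk b) : F a = F b := by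
  rw [QuotientGroup.eq] at h
  obtain ⟨z, hz⟩ := h
  have : b = a * ι z := by rw [hz]; group
  rw [this, hF]

theorem coset_sum_translate [Fintype (Γ ⧸ ι.range)] {X : Type*} [AddCommMonoid X] (F : Γ → X)
    (hF : ∀ g z, F (g * ι z) = F g) (g : Γ) :
    ∑ κ : Γ ⧸ ι.range, F (g * Quotient.out κ) = ∑ κ : Γ ⧸ ι.range, F (Quotient.out κ) := by
  rw [← Equiv.sum_comp (MulAction.toPerm g) (fun κ : Γ ⧸ ι.range => F (Quotient.out κ))]
  refine Finset.sum_congr rfl fun κ _ => ?_
  apply eq_of_mk_eq F hF
  simp only [MulAction.toPerm_apply, QuotientGroup.out_eq']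
  conv_rhs => rw [← QuotientGroup.out_eq' κ]
  rfl

theorem orth [Fintype (Γ ⧸ ι.range)] (hι : Function.Injective ι)
    (hcent : ι.range = Subgroup.center Γ)
    (hcomm : commutator Γ ≤ ι.range) (x : Γ) (hx : x ∉ ι.range) :
    ∑ κ : Γ ⧸ ι.range, ((pr hcomm x (Quotient.out κ) : kˣ) : k) = 0 := by
  obtain ⟨g0, hg0⟩ : ∃ g0, pr hcomm x g0 ≠ 1 := by
    by_contra hcon
    push Not at hcon
    exact hx (mem_range_of_pr hι hcent hcomm x hcon)
  have h1 := coset_sum_translate (ι := ι) (fun g => ((pr hcomm x g : kˣ) : k)) (by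
    intro g z
    rw [pr_mul_right hι hcent hcomm, pr_iota_right hι hcent hcomm, mul_one]) g0
  simp only [pr_mul_right hι hcent hcomm, Units.val_mul] at h1
  rw [← Finset.mul_sum] at h1
  have h2 : ((pr hcomm x g0 : kˣ) : k) - 1 ≠ 0 := by
    intro h
    apply hg0
    ext
    simpa [sub_eq_zero] using h
  have h3 : (((pr hcomm x g0 : kˣ) : k) - 1) *
      ∑ κ : Γ ⧸ ι.range, ((pr hcomm x (Quotient.out κ) : kˣ) : k) = 0 := by
    rw [sub_mul, h1, one_mul, sub_self]
  exact (mul_eq_zero.1 h3).resolve_left h2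

theorem orth_one [Fintype (Γ ⧸ ι.range)] (hι : Function.Injective ι)
    (hcent : ι.range = Subgroup.center Γ)
    (hcomm : commutator Γ ≤ ι.range) (x : Γ) (hx : x ∈ ι.range) :
    ∑ κ : Γ ⧸ ι.range, ((pr hcomm x (Quotient.out κ) : kˣ) : k) =
      (Fintype.card (Γ ⧸ ι.range) : k) := by
  obtain ⟨z, rfl⟩ := hx
  simp [pr_iota_left hι hcent hcomm]

end grp

section rep
variable {k : Type u} [Field k] {Γ : Type u} [Group Γ] {ι : kˣ →* Γ}
variable {V W : Type u} [AddCommGroup V] [Module k V] [AddCommGroup W] [Module k W]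
  (ρ : Representation k Γ V) (σ : Representation k Γ W)

/-- conjugation of a linear map -/
def cj (g : Γ) (T : V →ₗ[k] W) : V →ₗ[k] W := σ g ∘ₗ T ∘ₗ ρ g⁻¹

theorem cj_mul (g g' : Γ) (T : V →ₗ[k] W) : cj ρ σ (g * g') T = cj ρ σ g (cj ρ σ g' T) := by
  unfold cj
  rw [mul_inv_rev, map_mul, map_mul]
  rfl

theorem cj_smul (g : Γ) (c : k) (T : V →ₗ[k] W) : cj ρ σ g (c • T) = c • cj ρ σ g T := by
  unfold cj
  rw [LinearMap.smul_comp, LinearMap.comp_smul]

theorem cj_sum {α : Type*} (s : Finset α) (g : Γ) (T : α → (V →ₗ[k] W)) :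
    cj ρ σ g (∑ i ∈ s, T i) = ∑ i ∈ s, cj ρ σ g (T i) := by
  unfold cj
  ext v
  simp only [LinearMap.comp_apply, LinearMap.sum_apply, map_sum]

theorem cj_iota (hρ : ∀ (z : kˣ) (v : V), ρ (ι z) v = (z : k) • v)
    (hσ : ∀ (z : kˣ) (w : W), σ (ι z) w = (z : k) • w) (z : kˣ) (T : V →ₗ[k] W) :
    cj ρ σ (ι z) T = T := by
  unfold cj
  ext v
  rw [← map_inv]
  simp only [LinearMap.comp_apply, hρ, hσ, map_smul, smul_smul]
  rw [← Units.val_mul, mul_inv_cancel, Units.val_one, one_smul]

theorem rel (hcomm : commutator Γ ≤ ι.range) (hρ : ∀ (z : kˣ) (v : V), ρ (ι z) v = (z : k) • v)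
    (a b : Γ) : ρ a ∘ₗ ρ b = ((pr hcomm a b : kˣ) : k) • (ρ b ∘ₗ ρ a) := by
  have h := congrArg ρ (pr_spec hcomm a b)
  rw [map_mul, map_mul, map_mul] at h
  ext v
  have h2 := LinearMap.congr_fun h v
  simp only [Module.End.mul_apply, hρ] at h2
  simpa using h2

theorem cj_self (hι : Function.Injective ι) (hcent : ι.range = Subgroup.center Γ)
    (hcomm : commutator Γ ≤ ι.range) (hρ : ∀ (z : kˣ) (v : V), ρ (ι z) v = (z : k) • v)
    (g y : Γ) : cj ρ ρ g (ρ y) = ((pr hcomm g y : kˣ) : k) • ρ y := by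
  unfold cj
  rw [← LinearMap.comp_assoc, rel ρ hcomm hρ g y, LinearMap.smul_comp, LinearMap.comp_assoc]
  congr 1
  ext v
  simp only [LinearMap.comp_apply]
  have : ρ g (ρ g⁻¹ v) = v := by
    rw [← Module.End.mul_apply, ← map_mul, mul_inv_cancel, map_one, Module.End.one_apply]
  rw [this]

variable [Fintype (Γ ⧸ ι.range)]

/-- the Fourier projector (unnormalised) -/
noncomputable def Q (hcomm : commutator Γ ≤ ι.range) (x : Γ) (T : V →ₗ[k] W) : V →ₗ[k] W :=
  ∑ κ : Γ ⧸ ι.range, (((pr hcomm (Quotient.out κ) x)⁻¹ : kˣ) : k) • cj ρ σ (Quotient.out κ) T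

theorem cj_Q (hι : Function.Injective ι) (hcent : ι.range = Subgroup.center Γ)
    (hcomm : commutator Γ ≤ ι.range) (hρ : ∀ (z : kˣ) (v : V), ρ (ι z) v = (z : k) • v)
    (hσ : ∀ (z : kˣ) (w : W), σ (ι z) w = (z : k) • w) (g x : Γ) (T : V →ₗ[k] W) :
    cj ρ σ g (Q ρ σ hcomm x T) = ((pr hcomm g x : kˣ) : k) • Q ρ σ hcomm x T := by
  unfold Q
  rw [cj_sum]
  simp_rw [cj_smul, ← cj_mul]
  have h := coset_sum_translate (ι := ι)
    (fun y => (((pr hcomm y x)⁻¹ : kˣ) : k) • cj ρ σ y T) (by
      intro y z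
      rw [pr_mul_left hι hcent hcomm, pr_iota_left hι hcent hcomm, mul_one, cj_mul,
        cj_iota ρ σ hρ hσ]) g
  rw [← h, Finset.smul_sum]
  refine Finset.sum_congr rfl fun κ _ => ?_
  rw [pr_mul_left hι hcent hcomm, mul_inv, Units.val_mul, smul_smul, ← mul_assoc,
    ← Units.val_mul, mul_inv_cancel, Units.val_one, one_mul]

theorem out_mem_iff (κ : Γ ⧸ ι.range) :
    Quotient.out κ ∈ ι.range ↔ κ = QuotientGroup.mk 1 := by
  constructor
  · intro h
    rw [← QuotientGroup.out_eq' κ]
    apply QuotientGroup.eq.2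
    simpa using h
  · intro h
    have : (QuotientGroup.mk (Quotient.out κ) : Γ ⧸ ι.range) = QuotientGroup.mk 1 := by
      rw [QuotientGroup.out_eq' κ, h]
    have h2 := QuotientGroup.eq.1 this
    simpa using h2

theorem sum_Q (hι : Function.Injective ι) (hcent : ι.range = Subgroup.center Γ)
    (hcomm : commutator Γ ≤ ι.range) (hρ : ∀ (z : kˣ) (v : V), ρ (ι z) v = (z : k) • v)
    (hσ : ∀ (z : kˣ) (w : W), σ (ι z) w = (z : k) • w) (T : V →ₗ[k] W) :
    ∑ κ' : Γ ⧸ ι.range, Q ρ σ hcomm (Quotient.out κ') T =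
      (Fintype.card (Γ ⧸ ι.range) : k) • T := by
  unfold Q
  rw [Finset.sum_comm]
  simp_rw [← Finset.sum_smul]
  rw [Finset.sum_eq_single (QuotientGroup.mk 1 : Γ ⧸ ι.range)]
  · have hmem : Quotient.out (QuotientGroup.mk 1 : Γ ⧸ ι.range) ∈ ι.range :=
      (out_mem_iff _).2 rfl
    have hmem' : (Quotient.out (QuotientGroup.mk 1 : Γ ⧸ ι.range))⁻¹ ∈ ι.range :=
      inv_mem hmem
    simp_rw [← pr_inv_left hι hcent hcomm]
    rw [orth_one hι hcent hcomm _ hmem']
    obtain ⟨z, hz⟩ := hmem
    rw [← hz, cj_iota ρ σ hρ hσ]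
  · intro κ _ hκ
    have hmem : Quotient.out κ ∉ ι.range := fun h => hκ ((out_mem_iff κ).1 h)
    have hmem' : (Quotient.out κ)⁻¹ ∉ ι.range := fun h => hmem (by simpa using inv_mem h)
    simp_rw [← pr_inv_left hι hcent hcomm]
    rw [orth hι hcent hcomm _ hmem', zero_smul]
  · intro h
    exact absurd (Finset.mem_univ _) h

theorem Q_coeff (hι : Function.Injective ι) (hcent : ι.range = Subgroup.center Γ)
    (hcomm : commutator Γ ≤ ι.range) (hρ : ∀ (z : kˣ) (v : V), ρ (ι z) v = (z : k) • v)
    (x y : Γ) :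
    Q ρ ρ hcomm x (ρ y) =
      (∑ κ : Γ ⧸ ι.range, ((pr hcomm (x⁻¹ * y)⁻¹ (Quotient.out κ) : kˣ) : k)) • ρ y := by
  unfold Q
  simp_rw [cj_self ρ hι hcent hcomm hρ, smul_smul]
  rw [← Finset.sum_smul]
  congr 1
  refine Finset.sum_congr rfl fun κ _ => ?_
  rw [← Units.val_mul]
  congr 1
  rw [pr_inv_left hι hcent hcomm (x⁻¹ * y), ← pr_symm hι hcent hcomm (x⁻¹ * y),
    pr_mul_right hι hcent hcomm, pr_inv_right hι hcent hcomm]

theorem Q_self_of_mem (hι : Function.Injective ι) (hcent : ι.range = Subgroup.center Γ)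
    (hcomm : commutator Γ ≤ ι.range) (hρ : ∀ (z : kˣ) (v : V), ρ (ι z) v = (z : k) • v)
    (x y : Γ) (h : x⁻¹ * y ∈ ι.range) :
    Q ρ ρ hcomm x (ρ y) = (Fintype.card (Γ ⧸ ι.range) : k) • ρ y := by
  rw [Q_coeff ρ hι hcent hcomm hρ, orth_one hι hcent hcomm _ (inv_mem h)]

theorem Q_self_of_not_mem (hι : Function.Injective ι) (hcent : ι.range = Subgroup.center Γ)
    (hcomm : commutator Γ ≤ ι.range) (hρ : ∀ (z : kˣ) (v : V), ρ (ι z) v = (z : k) • v)
    (x y : Γ) (h : x⁻¹ * y ∉ ι.range) :
    Q ρ ρ hcomm x (ρ y) = 0 := by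
  rw [Q_coeff ρ hι hcent hcomm hρ,
    orth hι hcent hcomm _ (fun h' => h (by simpa using inv_mem h')), zero_smul]

end rep

section main
variable {k : Type u} [Field k] {Γ : Type u} [Group Γ] {ι : kˣ →* Γ}
variable {V W : Type u} [AddCommGroup V] [Module k V] [AddCommGroup W] [Module k W]
  (ρ : Representation k Γ V) (σ : Representation k Γ W)
variable [Fintype (Γ ⧸ ι.range)]

theorem Q_lin (hcomm : commutator Γ ≤ ι.range) (x : Γ) {α : Type*} (s : Finset α) (a : α → k)
    (T : α → (V →ₗ[k] W)) :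
    Q ρ σ hcomm x (∑ i ∈ s, a i • T i) = ∑ i ∈ s, a i • Q ρ σ hcomm x (T i) := by
  unfold Q
  simp_rw [cj_sum, cj_smul, Finset.smul_sum]
  rw [Finset.sum_comm]
  refine Finset.sum_congr rfl fun i _ => Finset.sum_congr rfl fun κ _ => ?_
  rw [smul_comm]

/-- twisted commutation relations for `Q x T` -/
theorem Q_comm (hι : Function.Injective ι) (hcent : ι.range = Subgroup.center Γ)
    (hcomm : commutator Γ ≤ ι.range) (hρ : ∀ (z : kˣ) (v : V), ρ (ι z) v = (z : k) • v)
    (hσ : ∀ (z : kˣ) (w : W), σ (ι z) w = (z : k) • w) (g x : Γ) (T : V →ₗ[k] W) (v : V) :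
    σ g (Q ρ σ hcomm x T v) = ((pr hcomm g x : kˣ) : k) • Q ρ σ hcomm x T (ρ g v) := by
  have h := LinearMap.congr_fun (cj_Q ρ σ hι hcent hcomm hρ hσ g x T) (ρ g v)
  unfold cj at h
  simp only [LinearMap.comp_apply, LinearMap.smul_apply] at h
  rw [Representation.inv_self_apply] at h
  exact h

theorem rho_comm (hι : Function.Injective ι) (hcent : ι.range = Subgroup.center Γ)
    (hcomm : commutator Γ ≤ ι.range) (hρ : ∀ (z : kˣ) (v : V), ρ (ι z) v = (z : k) • v)
    (g x : Γ) (v : V) :
    ρ g (ρ x⁻¹ v) = (((pr hcomm g x)⁻¹ : kˣ) : k) • ρ x⁻¹ (ρ g v) := by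
  have h := LinearMap.congr_fun (rel ρ hcomm hρ g x⁻¹) v
  simp only [LinearMap.comp_apply, LinearMap.smul_apply] at h
  rw [h, pr_inv_right hι hcent hcomm]

theorem Q_scalar [IsAlgClosed k] [FiniteDimensional k V] [ρ.IsIrreducible]
    (hι : Function.Injective ι) (hcent : ι.range = Subgroup.center Γ)
    (hcomm : commutator Γ ≤ ι.range) (hρ : ∀ (z : kˣ) (v : V), ρ (ι z) v = (z : k) • v)
    (x : Γ) (T : V →ₗ[k] V) : ∃ c : k, Q ρ ρ hcomm x T = c • ρ x := by
  let U : Representation.IntertwiningMap ρ ρ :=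
    { toLinearMap := ρ x⁻¹ ∘ₗ Q ρ ρ hcomm x T
      isIntertwining' := by
        intro g
        ext v
        simp only [LinearMap.comp_apply]
        rw [rho_comm ρ hι hcent hcomm hρ g x, Q_comm ρ ρ hι hcent hcomm hρ hρ g x T v, map_smul,
          smul_smul, ← Units.val_mul, inv_mul_cancel, Units.val_one, one_smul] }
  obtain ⟨c, hc⟩ :=
    (Representation.IsIrreducible.algebraMap_intertwiningMap_bijective_of_isAlgClosed
      (ρ := ρ)).2 U
  refine ⟨c, ?_⟩
  ext v
  have h1 : (U : V → V) v = c • v := by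
    rw [← hc]
    simp
  have h2 : (U : V → V) v = ρ x⁻¹ (Q ρ ρ hcomm x T v) := rfl
  rw [h2] at h1
  have h3 := congrArg (ρ x) h1
  rw [Representation.self_inv_apply, map_smul] at h3
  rw [h3]
  rfl

theorem dim_sq [IsAlgClosed k] [FiniteDimensional k V] [ρ.IsIrreducible]
    (hι : Function.Injective ι) (hcent : ι.range = Subgroup.center Γ)
    (hcomm : commutator Γ ≤ ι.range) (hρ : ∀ (z : kˣ) (v : V), ρ (ι z) v = (z : k) • v)
    (hN : (Fintype.card (Γ ⧸ ι.range) : k) ≠ 0) :
    Module.finrank k V ^ 2 = Fintype.card (Γ ⧸ ι.range) := by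
  let b : Γ ⧸ ι.range → (V →ₗ[k] V) := fun κ => ρ (Quotient.out κ)
  have hspan : Submodule.span k (Set.range b) = ⊤ := by
    rw [eq_top_iff]
    intro T _
    have h1 := sum_Q ρ ρ hι hcent hcomm hρ hρ T
    have hT : T = (Fintype.card (Γ ⧸ ι.range) : k)⁻¹ •
        ∑ κ' : Γ ⧸ ι.range, Q ρ ρ hcomm (Quotient.out κ') T := by
      rw [h1, smul_smul, inv_mul_cancel₀ hN, one_smul]
    rw [hT]
    refine Submodule.smul_mem _ _ (Submodule.sum_mem _ fun κ _ => ?_)
    obtain ⟨c, hc⟩ := Q_scalar ρ hι hcent hcomm hρ (Quotient.out κ) T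
    rw [hc]
    exact Submodule.smul_mem _ _ (Submodule.subset_span ⟨κ, rfl⟩)
  have hnt : Nontrivial V := by
    by_contra hV
    rw [not_nontrivial_iff_subsingleton] at hV
    have : (⊥ : Subrepresentation ρ) = ⊤ := by
      apply Subrepresentation.toSubmodule_injective
      exact Subsingleton.elim _ _
    exact bot_ne_top this
  have hli : LinearIndependent k b := by
    rw [Fintype.linearIndependent_iff]
    intro a ha κ0
    have h1 := congrArg (Q ρ ρ hcomm (Quotient.out κ0)) ha
    rw [Q_lin] at h1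
    rw [Finset.sum_eq_single κ0] at h1
    · simp only [b] at h1
      rw [Q_self_of_mem ρ hι hcent hcomm hρ _ _ (by simp)] at h1
      have hz : Q ρ ρ hcomm (Quotient.out κ0) (0 : V →ₗ[k] V) = 0 := by
        unfold Q cj
        simp
      rw [hz, smul_smul] at h1
      obtain ⟨v, hv⟩ := exists_ne (0 : V)
      have h2 := LinearMap.congr_fun h1 v
      simp only [LinearMap.smul_apply, LinearMap.zero_apply] at h2
      rcases smul_eq_zero.1 h2 with h3 | h3
      · exact (mul_eq_zero.1 h3).resolve_right hN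
      · exfalso
        apply hv
        have := congrArg (ρ (Quotient.out κ0)⁻¹) h3
        rwa [Representation.inv_self_apply, map_zero] at this
    · intro κ _ hκ
      simp only [b]
      rw [Q_self_of_not_mem ρ hι hcent hcomm hρ, smul_zero]
      intro hmem
      apply hκ
      rw [← QuotientGroup.out_eq' κ, ← QuotientGroup.out_eq' κ0]
      exact (QuotientGroup.eq.2 hmem).symm
    · intro h
      exact absurd (Finset.mem_univ _) h
  have h := finrank_span_eq_card hli
  rw [hspan, finrank_top, Module.finrank_linearMap] at h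
  rw [← h, pow_two]

theorem uniq [IsAlgClosed k] [FiniteDimensional k V] [FiniteDimensional k W]
    [ρ.IsIrreducible] [σ.IsIrreducible]
    (hι : Function.Injective ι) (hcent : ι.range = Subgroup.center Γ)
    (hcomm : commutator Γ ≤ ι.range) (hρ : ∀ (z : kˣ) (v : V), ρ (ι z) v = (z : k) • v)
    (hσ : ∀ (z : kˣ) (w : W), σ (ι z) w = (z : k) • w)
    (hN : (Fintype.card (Γ ⧸ ι.range) : k) ≠ 0) :
    Nonempty (Representation.Equiv ρ σ) := by
  have hntV : Nontrivial V := by
    by_contra hV
    rw [not_nontrivial_iff_subsingleton] at hV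
    have : (⊥ : Subrepresentation ρ) = ⊤ := by
      apply Subrepresentation.toSubmodule_injective
      exact Subsingleton.elim _ _
    exact bot_ne_top this
  have hntW : Nontrivial W := by
    by_contra hV
    rw [not_nontrivial_iff_subsingleton] at hV
    have : (⊥ : Subrepresentation σ) = ⊤ := by
      apply Subrepresentation.toSubmodule_injective
      exact Subsingleton.elim _ _
    exact bot_ne_top this
  obtain ⟨T0, hT0⟩ : ∃ T0 : V →ₗ[k] W, T0 ≠ 0 := by
    have hpos : 0 < Module.finrank k (V →ₗ[k] W) := by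
      rw [Module.finrank_linearMap]
      exact Nat.mul_pos Module.finrank_pos Module.finrank_pos
    exact Module.finrank_pos_iff_exists_ne_zero.1 hpos
  have h1 := sum_Q ρ σ hι hcent hcomm hρ hσ T0
  have h2 : ∑ κ' : Γ ⧸ ι.range, Q ρ σ hcomm (Quotient.out κ') T0 ≠ 0 := by
    rw [h1]
    exact smul_ne_zero hN hT0
  obtain ⟨κ, _, hκ⟩ := Finset.exists_ne_zero_of_sum_ne_zero h2
  set x := Quotient.out κ with hx
  let f : Representation.IntertwiningMap ρ σ :=
    { toLinearMap := Q ρ σ hcomm x T0 ∘ₗ ρ x⁻¹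
      isIntertwining' := by
        intro g
        ext v
        simp only [LinearMap.comp_apply]
        rw [Q_comm ρ σ hι hcent hcomm hρ hσ g x T0, rho_comm ρ hι hcent hcomm hρ g x, map_smul,
          smul_smul, ← Units.val_mul, mul_inv_cancel, Units.val_one, one_smul] }
  have hf : f ≠ 0 := by
    intro h0
    apply hκ
    ext v
    have := congrArg (fun F : Representation.IntertwiningMap ρ σ => (F : V → W) (ρ x v)) h0
    beta_reduce at this
    have h3 : (f : V → W) (ρ x v) = Q ρ σ hcomm x T0 (ρ x⁻¹ (ρ x v)) := rfl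
    rw [h3, Representation.inv_self_apply] at this
    rw [this]
    rfl
  rcases Representation.IsIrreducible.bijective_or_eq_zero f with h | h
  · exact ⟨f.ofBijective h⟩
  · exact absurd h hf

end main

section exist
variable {k : Type u} [Field k] {Γ : Type u} [Group Γ] {ι : kˣ →* Γ}

theorem exists_irr {M : Type u} [AddCommGroup M] [Module k M] (R : Representation k Γ M)
    (P : Subrepresentation R) [FiniteDimensional k P.toSubmodule] (hP : P ≠ ⊥) :
    ∃ U : Subrepresentation R, U ≤ P ∧ U ≠ ⊥ ∧ Representation.IsIrreducible U.toRepresentation := by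
  classical
  have hex : ∃ n, ∃ U : Subrepresentation R, U ≤ P ∧ U ≠ ⊥ ∧
      Module.finrank k U.toSubmodule = n := ⟨_, P, le_rfl, hP, rfl⟩
  obtain ⟨U, hUP, hU0, hUn⟩ := Nat.find_spec hex
  have hmin : ∀ U' : Subrepresentation R, U' ≤ P → U' ≠ ⊥ →
      Module.finrank k U.toSubmodule ≤ Module.finrank k U'.toSubmodule := by
    intro U' h1 h2
    rw [hUn]
    exact Nat.find_min' hex ⟨U', h1, h2, rfl⟩
  have hUPs : U.toSubmodule ≤ P.toSubmodule := hUP
  have : FiniteDimensional k U.toSubmodule := Submodule.finiteDimensional_of_le hUPs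
  refine ⟨U, hUP, hU0, ?_⟩
  refine { exists_pair_ne := ⟨⊥, ⊤, ?_⟩, eq_bot_or_eq_top := ?_ }
  · intro h
    apply hU0
    apply Subrepresentation.toSubmodule_injective
    have h2 : (⊥ : Submodule k U.toSubmodule) = ⊤ := congrArg Subrepresentation.toSubmodule h
    show U.toSubmodule = (⊥ : Submodule k M)
    rw [eq_bot_iff]
    intro x hx
    have : (⟨x, hx⟩ : U.toSubmodule) ∈ (⊥ : Submodule k U.toSubmodule) := by
      rw [h2]
      trivial
    rw [Submodule.mem_bot] at this
    have h3 := congrArg Subtype.val this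
    simpa using h3
  · intro U'
    let U'' : Subrepresentation R :=
      { toSubmodule := U'.toSubmodule.map U.toSubmodule.subtype
        apply_mem_toSubmodule := by
          rintro g v ⟨w, hw, rfl⟩
          exact ⟨U.toRepresentation g w, U'.apply_mem_toSubmodule g hw, rfl⟩ }
    have hle : U''.toSubmodule ≤ U.toSubmodule := by
      rintro v ⟨w, _, rfl⟩
      exact w.2
    by_cases h0 : U'' = ⊥
    · left
      apply Subrepresentation.toSubmodule_injective
      have h1 : U'.toSubmodule.map U.toSubmodule.subtype = ⊥ :=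
        congrArg Subrepresentation.toSubmodule h0
      show U'.toSubmodule = (⊥ : Submodule k U.toSubmodule)
      rw [eq_bot_iff]
      intro w hw
      have : U.toSubmodule.subtype w ∈ U'.toSubmodule.map U.toSubmodule.subtype := ⟨w, hw, rfl⟩
      rw [h1, Submodule.mem_bot] at this
      rw [Submodule.mem_bot]
      exact Subtype.ext this
    · right
      have h1 := hmin U'' (le_trans (show U'' ≤ U from hle) hUP) h0
      have h2 : U''.toSubmodule = U.toSubmodule := Submodule.eq_of_le_of_finrank_le hle h1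
      apply Subrepresentation.toSubmodule_injective
      show U'.toSubmodule = (⊤ : Submodule k U.toSubmodule)
      rw [eq_top_iff]
      intro w _
      have hw : (w : M) ∈ U''.toSubmodule := by
        rw [h2]
        exact w.2
      obtain ⟨w', hw', hww⟩ := hw
      have : w' = w := Subtype.ext hww
      rw [← this]
      exact hw'

/-- right translation representation on functions -/
def Rt (k : Type u) [Field k] (Γ : Type u) [Group Γ] : Representation k Γ (Γ → k) where
  toFun g :=
    { toFun := fun f γ => f (γ * g)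
      map_add' := fun _ _ => rfl
      map_smul' := fun _ _ => rfl }
  map_one' := by
    ext f γ
    simp
  map_mul' g g' := by
    ext f γ
    simp [mul_assoc]

/-- weight one functions -/
def wtSub (ι : kˣ →* Γ) : Subrepresentation (Rt k Γ) where
  toSubmodule :=
    { carrier := {f | ∀ (z : kˣ) (g : Γ), f (ι z * g) = (z : k) * f g}
      add_mem' := by
        intro f f' hf hf' z g
        simp only [Pi.add_apply, hf z g, hf' z g, mul_add]
      zero_mem' := by
        intro z g
        simp
      smul_mem' := by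
        intro c f hf z g
        simp only [Pi.smul_apply, hf z g, smul_eq_mul]
        ring }
  apply_mem_toSubmodule := by
    intro g f hf z γ
    show f (ι z * γ * g) = (z : k) * f (γ * g)
    rw [mul_assoc]
    exact hf z (γ * g)

theorem wt_fin [Finite (Γ ⧸ ι.range)] (hcent : ι.range = Subgroup.center Γ) :
    FiniteDimensional k (wtSub (k := k) ι).toSubmodule := by
  let φ : (wtSub (k := k) ι).toSubmodule →ₗ[k] ((Γ ⧸ ι.range) → k) :=
    { toFun := fun f κ => (f : Γ → k) (Quotient.out κ)
      map_add' := fun _ _ => rfl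
      map_smul' := fun _ _ => rfl }
  have hφ : Function.Injective φ := by
    rw [← LinearMap.ker_eq_bot, eq_bot_iff]
    intro f hf
    rw [LinearMap.mem_ker] at hf
    rw [Submodule.mem_bot]
    apply Subtype.ext
    funext γ
    have h1 := congrFun hf (QuotientGroup.mk γ)
    have h2 : (QuotientGroup.mk (Quotient.out (QuotientGroup.mk γ : Γ ⧸ ι.range)) : Γ ⧸ ι.range) =
        QuotientGroup.mk γ := QuotientGroup.out_eq' _
    obtain ⟨z, hz⟩ := QuotientGroup.eq.1 h2
    have h3 : γ = ι z * Quotient.out (QuotientGroup.mk γ : Γ ⧸ ι.range) := by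
      rw [central_of hcent, hz]
      group
    have h4 := f.2 z (Quotient.out (QuotientGroup.mk γ : Γ ⧸ ι.range))
    rw [← h3] at h4
    rw [h4]
    have h5 : (f : Γ → k) (Quotient.out (QuotientGroup.mk γ : Γ ⧸ ι.range)) = 0 := h1
    rw [h5, mul_zero]
    rfl
  exact Module.Finite.of_injective φ hφ

theorem wt_ne_bot (hι : Function.Injective ι) : wtSub (k := k) ι ≠ ⊥ := by
  classical
  let f0 : Γ → k := fun γ => if h : γ ∈ ι.range then ((Classical.choose h : kˣ) : k) else 0
  have hf0 : f0 ∈ (wtSub (k := k) ι).toSubmodule := by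
    intro z g
    by_cases hg : g ∈ ι.range
    · have hzg : ι z * g ∈ ι.range := mul_mem ⟨z, rfl⟩ hg
      simp only [f0, dif_pos hg, dif_pos hzg]
      have h1 := Classical.choose_spec hg
      have h2 := Classical.choose_spec hzg
      have : Classical.choose hzg = z * Classical.choose hg := by
        apply hι
        rw [h2, map_mul, h1]
      rw [this, Units.val_mul]
    · have hzg : ι z * g ∉ ι.range := by
        intro h
        apply hg
        have := mul_mem (inv_mem (⟨z, rfl⟩ : ι z ∈ ι.range)) h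
        simpa using this
      simp only [f0, dif_neg hg, dif_neg hzg, mul_zero]
  intro hbot
  have h1 : f0 ∈ (⊥ : Subrepresentation (Rt k Γ)).toSubmodule := by
    rw [← hbot]
    exact hf0
  have h2 : f0 = 0 := (Submodule.mem_bot k).1 h1
  have h3 := congrFun h2 1
  have h1r : (1 : Γ) ∈ ι.range := one_mem _
  simp only [f0, dif_pos h1r, Pi.zero_apply] at h3
  exact (Units.ne_zero _) h3

theorem wt_weight (hcent : ι.range = Subgroup.center Γ) (f : Γ → k)
    (hf : f ∈ (wtSub (k := k) ι).toSubmodule) (z : kˣ) : Rt k Γ (ι z) f = (z : k) • f := by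
  funext γ
  show f (γ * ι z) = (z : k) * f γ
  rw [← central_of hcent]
  exact hf z γ

theorem cast_card_ne_zero (N : ℕ) (hN : N ≠ 0) (h : N.Coprime (ringExpChar k)) : (N : k) ≠ 0 := by
  have hexp := ringExpChar.expChar k
  generalize ringExpChar k = q at h hexp
  cases hexp with
  | zero => exact Nat.cast_ne_zero.2 hN
  | prime hq =>
    intro h0
    rw [CharP.cast_eq_zero_iff k q] at h0
    have := Nat.Coprime.eq_one_of_dvd h.symm h0
    exact hq.one_lt.ne' this

end exist

/-- Let k be an algebraically closed field and Γ a group given with an injective homomorphism ι from the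
multiplicative group kˣ onto the centre of Γ, such that the quotient K = Γ/ι(kˣ) is a finite
commutative group (every commutator lies in ι(kˣ)) whose order is prime to the characteristic
exponent of k — the group of k-points of a non-degenerate theta group 1 → G_m → G → K → 1 with
rank(K) prime to char(k), non-degeneracy of the commutator pairing being the condition that ι(kˣ) is
the whole centre. A finite-dimensional representation of Γ over k has weight 1 when ι(z) acts as
multiplication by z for every z. Then Γ has an irreducible finite-dimensional representation of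
weight 1; any two irreducible finite-dimensional representations of weight 1 are equivalent; and
every irreducible finite-dimensional representation V of weight 1 satisfies (dim_k V)² = |K|. (The
published statement is about representations of the theta group scheme; under its hypotheses K is a
constant group scheme and the statement is rendered here for the group of k-points.) -/
theorem result (k : Type u) [Field k] [IsAlgClosed k]
    (Γ : Type u) [Group Γ] (ι : kˣ →* Γ) (hι : Function.Injective ι)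
    (hcent : ι.range = Subgroup.center Γ) (hcomm : commutator Γ ≤ ι.range)
    [Finite (Γ ⧸ ι.range)] (hcop : (Nat.card (Γ ⧸ ι.range)).Coprime (ringExpChar k)) :
    (∃ V : FDRep k Γ, Representation.IsIrreducible V.ρ ∧ ∀ (z : kˣ) (v : V), V.ρ (ι z) v = (z : k) • v) ∧
    (∀ V W : FDRep k Γ, Representation.IsIrreducible V.ρ → Representation.IsIrreducible W.ρ →
      (∀ (z : kˣ) (v : V), V.ρ (ι z) v = (z : k) • v) → (∀ (z : kˣ) (w : W), W.ρ (ι z) w = (z : k) • w) →
      Nonempty (Representation.Equiv V.ρ W.ρ)) ∧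
    (∀ V : FDRep k Γ, Representation.IsIrreducible V.ρ → (∀ (z : kˣ) (v : V), V.ρ (ι z) v = (z : k) • v) →
      Module.finrank k V ^ 2 = Nat.card (Γ ⧸ ι.range)) := by
  classical
  haveI : Fintype (Γ ⧸ ι.range) := Fintype.ofFinite _
  have hcard : Nat.card (Γ ⧸ ι.range) = Fintype.card (Γ ⧸ ι.range) := Nat.card_eq_fintype_card
  have hN : (Fintype.card (Γ ⧸ ι.range) : k) ≠ 0 := by
    apply cast_card_ne_zero
    · haveI : Nonempty (Γ ⧸ ι.range) := ⟨QuotientGroup.mk 1⟩
      exact Fintype.card_ne_zero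
    · rw [← hcard]
      exact hcop
  refine ⟨?_, ?_, ?_⟩
  · haveI := wt_fin (k := k) (ι := ι) hcent
    obtain ⟨U, hUP, hU0, hirr⟩ := exists_irr (Rt k Γ) (wtSub ι) (wt_ne_bot hι)
    have hUPs : U.toSubmodule ≤ (wtSub (k := k) ι).toSubmodule := hUP
    haveI : FiniteDimensional k U.toSubmodule := Submodule.finiteDimensional_of_le hUPs
    refine ⟨FDRep.of U.toRepresentation, hirr, ?_⟩
    intro z v
    apply Subtype.ext
    exact wt_weight hcent v.1 (hUPs v.2) z
  · intro V W hV hW hV1 hW1
    haveI := hV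
    haveI := hW
    exact uniq V.ρ W.ρ hι hcent hcomm hV1 hW1 hN
  · intro V hV hV1
    haveI := hV
    rw [hcard]
    exact dim_sq V.ρ hι hcent hcomm hV1 hN

end Groth.Agent.S17506
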