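import Groth.Statements.S17507
import Mathlib
import Groth.Agent.S17506
-- import your own Groth.Agent.* helpers here

set_option autoImplicit false
universe u
open CategoryTheory
open ThetaRep

namespace Groth.Agent.S17507

open CategoryTheory
open scoped commutatorElement
open Groth.Agent.S17506

section grp2
variable {k : Type u} [Field k] {Γ : Type u} [Group Γ] {ι : kˣ →* Γ}

theorem eq_of_mk_eq' (S : Subgroup Γ) {X : Type*} (F : Γ → X)
    (hF : ∀ g, ∀ s ∈ S, F (g * s) = F g) (a b : Γ)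
    (h : (QuotientGroup.mk a : Γ ⧸ S) = QuotientGroup.mk b) : F a = F b := by
  rw [QuotientGroup.eq] at h
  have : b = a * (a⁻¹ * b) := by group
  rw [this, hF _ _ h]

theorem sum_translate' (S : Subgroup Γ) [Fintype (Γ ⧸ S)] {X : Type*} [AddCommMonoid X]
    (F : Γ → X) (hF : ∀ g, ∀ s ∈ S, F (g * s) = F g) (g : Γ) :
    ∑ c : Γ ⧸ S, F (g * Quotient.out c) = ∑ c : Γ ⧸ S, F (Quotient.out c) := by
  rw [← Equiv.sum_comp (MulAction.toPerm g) (fun c : Γ ⧸ S => F (Quotient.out c))]
  refine Finset.sum_congr rfl fun c _ => ?_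
  apply eq_of_mk_eq' S F hF
  simp only [MulAction.toPerm_apply, QuotientGroup.out_eq']
  conv_rhs => rw [← QuotientGroup.out_eq' c]
  rfl

theorem pr_one_right (hι : Function.Injective ι) (hcent : ι.range = Subgroup.center Γ)
    (hcomm : commutator Γ ≤ ι.range) (a : Γ) : pr hcomm a 1 = 1 := map_one (prR hι hcent hcomm a)

theorem pr_one_left (hι : Function.Injective ι) (hcent : ι.range = Subgroup.center Γ)
    (hcomm : commutator Γ ≤ ι.range) (a : Γ) : pr hcomm 1 a = 1 := by
  rw [pr_symm hι hcent hcomm, pr_one_right hι hcent hcomm, inv_one]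

/-- the orthogonal of a subgroup for the commutator pairing -/
def perp (hι : Function.Injective ι) (hcent : ι.range = Subgroup.center Γ)
    (hcomm : commutator Γ ≤ ι.range) (H : Subgroup Γ) : Subgroup Γ where
  carrier := {g | ∀ h ∈ H, pr hcomm h g = 1}
  one_mem' := fun h _ => pr_one_right hι hcent hcomm h
  mul_mem' := by
    intro a b ha hb h hh
    rw [pr_mul_right hι hcent hcomm, ha h hh, hb h hh, one_mul]
  inv_mem' := by
    intro a ha h hh
    rw [pr_inv_right hι hcent hcomm, ha h hh, inv_one]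

theorem mem_perp (hι : Function.Injective ι) (hcent : ι.range = Subgroup.center Γ)
    (hcomm : commutator Γ ≤ ι.range) (H : Subgroup Γ) (g : Γ) :
    g ∈ perp hι hcent hcomm H ↔ ∀ h ∈ H, pr hcomm h g = 1 := Iff.rfl

theorem range_le_perp (hι : Function.Injective ι) (hcent : ι.range = Subgroup.center Γ)
    (hcomm : commutator Γ ≤ ι.range) (H : Subgroup Γ) : ι.range ≤ perp hι hcent hcomm H := by
  rintro _ ⟨z, rfl⟩ h _
  exact pr_iota_right hι hcent hcomm h z

theorem comm_of_pr_one (hcomm : commutator Γ ≤ ι.range) (a b : Γ) (h : pr hcomm a b = 1) : a * b = b * a := by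
  have := pr_spec hcomm a b
  rw [h, map_one, one_mul] at this
  exact this

theorem pr_one_of_comm (hι : Function.Injective ι) (hcomm : commutator Γ ≤ ι.range) (a b : Γ) (h : a * b = b * a) : pr hcomm a b = 1 := by
  apply pr_unique hι
  rw [map_one, one_mul, h]

theorem level_comm (hι : Function.Injective ι) (hcomm : commutator Γ ≤ ι.range) (H : Subgroup Γ) (hH : H ⊓ ι.range = ⊥) (a b : Γ) (ha : a ∈ H) (hb : b ∈ H) :
    pr hcomm a b = 1 := by
  apply hι
  rw [map_one]
  have h1 := pr_spec hcomm a b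
  have h2 : ι (pr hcomm a b) = a * b * (b * a)⁻¹ := by
    rw [h1]
    group
  have h3 : ι (pr hcomm a b) ∈ H ⊓ ι.range := by
    refine ⟨?_, ⟨_, rfl⟩⟩
    rw [h2]
    exact H.mul_mem (H.mul_mem ha hb) (H.inv_mem (H.mul_mem hb ha))
  rw [hH] at h3
  exact (Subgroup.mem_bot).1 h3

theorem le_perp (hι : Function.Injective ι) (hcent : ι.range = Subgroup.center Γ)
    (hcomm : commutator Γ ≤ ι.range) (H : Subgroup Γ) (hH : H ⊓ ι.range = ⊥) : H ≤ perp hι hcent hcomm H := by
  intro b hb a ha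
  exact level_comm hι hcomm H hH a b ha hb

/-- `H · Z` as a subgroup -/
def HZ (hcent : ι.range = Subgroup.center Γ) (H : Subgroup Γ) : Subgroup Γ where
  carrier := {g | ∃ h ∈ H, ∃ z : kˣ, g = h * ι z}
  one_mem' := ⟨1, H.one_mem, 1, by simp⟩
  mul_mem' := by
    rintro _ _ ⟨h, hh, z, rfl⟩ ⟨h', hh', z', rfl⟩
    refine ⟨h * h', H.mul_mem hh hh', z * z', ?_⟩
    rw [map_mul]
    calc h * ι z * (h' * ι z') = h * (ι z * h') * ι z' := by simp only [mul_assoc]
      _ = h * (h' * ι z) * ι z' := by rw [central_of hcent]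
      _ = h * h' * (ι z * ι z') := by simp only [mul_assoc]
  inv_mem' := by
    rintro _ ⟨h, hh, z, rfl⟩
    refine ⟨h⁻¹, H.inv_mem hh, z⁻¹, ?_⟩
    rw [mul_inv_rev, map_inv]
    have := central_of hcent z⁻¹ h⁻¹
    rw [map_inv] at this
    exact this

theorem mem_HZ (hcent : ι.range = Subgroup.center Γ) (H : Subgroup Γ) (g : Γ) :
    g ∈ HZ hcent H ↔ ∃ h ∈ H, ∃ z : kˣ, g = h * ι z := Iff.rfl

theorem perp_eq_HZ [IsAlgClosed k] [Finite (Γ ⧸ ι.range)] (hι : Function.Injective ι) (hcent : ι.range = Subgroup.center Γ)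
    (hcomm : commutator Γ ≤ ι.range) (H : Subgroup Γ) (hH : H ⊓ ι.range = ⊥)
    (hmax : ∀ H' : Subgroup Γ, H' ⊓ ι.range = ⊥ → H ≤ H' → H' = H) (x : Γ)
    (hx : x ∈ perp hι hcent hcomm H) : x ∈ HZ hcent H := by
  by_contra hxn
  -- the subgroup of exponents
  let S : AddSubgroup ℤ :=
    { carrier := {j | x ^ j ∈ HZ hcent H}
      zero_mem' := by simp [Subgroup.one_mem]
      add_mem' := by
        intro a b ha hb
        show x ^ (a + b) ∈ HZ hcent H
        rw [zpow_add]
        exact Subgroup.mul_mem _ ha hb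
      neg_mem' := by
        intro a ha
        show x ^ (-a) ∈ HZ hcent H
        rw [zpow_neg]
        exact Subgroup.inv_mem _ ha }
  obtain ⟨n, hn0'⟩ := Int.subgroup_cyclic S
  have hn : S = AddSubgroup.zmultiples n := by
    rw [AddSubgroup.zmultiples_eq_closure]
    exact hn0'
  have hmemS : ∀ j : ℤ, x ^ j ∈ HZ hcent H ↔ j ∈ S := fun j => Iff.rfl
  have hn0 : n ≠ 0 := by
    obtain ⟨i, j, hij, he⟩ := Finite.exists_ne_map_eq_of_infinite
      (fun j : ℕ => (QuotientGroup.mk (x ^ j) : Γ ⧸ ι.range))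
    have h1 := QuotientGroup.eq.1 he
    obtain ⟨z, hz⟩ := h1
    have h2 : x ^ ((j : ℤ) - i) ∈ HZ hcent H := by
      refine ⟨1, H.one_mem, z, ?_⟩
      rw [one_mul, hz, zpow_sub, zpow_natCast, zpow_natCast]
      have : Commute (x ^ j) (x ^ i)⁻¹ := ((Commute.refl x).pow_pow j i).inv_right
      exact this.eq
    have h3 : ((j : ℤ) - i) ∈ S := h2
    rw [hn] at h3
    obtain ⟨t, ht⟩ := AddSubgroup.mem_zmultiples_iff.1 h3
    intro h0
    rw [h0, smul_zero] at ht
    have : (j : ℤ) = i := by omega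
    exact hij (by exact_mod_cast this.symm)
  set m := n.natAbs with hm
  have hmpos : 0 < m := Int.natAbs_pos.2 hn0
  have hmS : (m : ℤ) ∈ S := by
    rw [hn]
    rcases Int.natAbs_eq n with h | h
    · rw [hm, ← h]
      exact AddSubgroup.mem_zmultiples n
    · have : ((n.natAbs : ℤ)) = -n := by omega
      rw [hm, this]
      exact AddSubgroup.neg_mem _ (AddSubgroup.mem_zmultiples n)
  obtain ⟨h₀, hh₀, z₀, hxm⟩ : x ^ (m : ℤ) ∈ HZ hcent H := hmS
  rw [zpow_natCast] at hxm
  obtain ⟨w, hw⟩ := IsAlgClosed.exists_pow_nat_eq ((z₀⁻¹ : kˣ) : k) hmpos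
  have hw0 : w ≠ 0 := by
    intro h
    rw [h, zero_pow hmpos.ne'] at hw
    exact (Units.ne_zero _) hw.symm
  set z' : kˣ := Units.mk0 w hw0 with hz'
  have hz'm : z' ^ m = z₀⁻¹ := by
    ext
    simpa [hz'] using hw
  set x' := x * ι z' with hx'
  have hcz : Commute x (ι z') := (central_of hcent z' x).symm
  have hx'pow : ∀ j : ℤ, x' ^ j = x ^ j * ι (z' ^ j) := by
    intro j
    rw [hx', hcz.mul_zpow, map_zpow]
  have hx'H : ∀ h ∈ H, Commute h x' := by
    intro h hh
    have h1 : h * x = x * h := comm_of_pr_one hcomm h x (hx h hh)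
    show h * x' = x' * h
    rw [hx', ← mul_assoc, h1, mul_assoc, mul_assoc, central_of hcent]
  let H' : Subgroup Γ :=
    { carrier := {g | ∃ h ∈ H, ∃ j : ℤ, g = h * x' ^ j}
      one_mem' := ⟨1, H.one_mem, 0, by simp⟩
      mul_mem' := by
        rintro _ _ ⟨h, hh, i, rfl⟩ ⟨h', hh', j, rfl⟩
        refine ⟨h * h', H.mul_mem hh hh', i + j, ?_⟩
        have hc : Commute (x' ^ i) h' := ((hx'H h' hh').zpow_right i).symm
        rw [zpow_add]
        calc h * x' ^ i * (h' * x' ^ j) = h * (x' ^ i * h') * x' ^ j := by simp only [mul_assoc]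
          _ = h * (h' * x' ^ i) * x' ^ j := by rw [hc.eq]
          _ = h * h' * (x' ^ i * x' ^ j) := by simp only [mul_assoc]
      inv_mem' := by
        rintro _ ⟨h, hh, i, rfl⟩
        refine ⟨h⁻¹, H.inv_mem hh, -i, ?_⟩
        have hc : Commute (x' ^ i) h := ((hx'H h hh).zpow_right i).symm
        rw [mul_inv_rev, zpow_neg]
        exact (hc.inv_left.inv_right).eq }
  have hHH' : H ≤ H' := fun h hh => ⟨h, hh, 0, by simp⟩
  have hx'mem : x' ∈ H' := ⟨1, H.one_mem, 1, by simp⟩
  have hx'm : x' ^ (m : ℤ) = h₀ := by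
    rw [hx'pow, zpow_natCast, zpow_natCast, hxm, hz'm, mul_assoc, ← map_mul, mul_inv_cancel,
      map_one, mul_one]
  have hlevel : H' ⊓ ι.range = ⊥ := by
    rw [eq_bot_iff]
    rintro g ⟨⟨h, hh, j, rfl⟩, ⟨z, hz⟩⟩
    have hxj : x ^ j ∈ HZ hcent H := by
      refine ⟨h⁻¹, H.inv_mem hh, z * (z' ^ j)⁻¹, ?_⟩
      have e1 : x' ^ j = h⁻¹ * ι z := by
        rw [hz]
        group
      rw [hx'pow] at e1
      have e2 : x ^ j = h⁻¹ * ι z * (ι (z' ^ j))⁻¹ := by
        rw [← e1]
        group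
      rw [e2, map_mul, map_inv, mul_assoc]
    have hjS : j ∈ S := hxj
    rw [hn] at hjS
    obtain ⟨t, ht⟩ := AddSubgroup.mem_zmultiples_iff.1 hjS
    obtain ⟨t', ht'⟩ : ∃ t' : ℤ, j = (m : ℤ) * t' := by
      rcases Int.natAbs_eq n with h | h
      · exact ⟨t, by rw [hm, ← h, ← ht]; simp [mul_comm]⟩
      · refine ⟨-t, ?_⟩
        have : ((n.natAbs : ℤ)) = -n := by omega
        rw [hm, this, ← ht]
        simp [mul_comm]
    have hpow : x' ^ j = h₀ ^ t' := by
      rw [ht', zpow_mul, hx'm]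
    have hgH : h * x' ^ j ∈ H := by
      rw [hpow]
      exact H.mul_mem hh (H.zpow_mem hh₀ t')
    have : h * x' ^ j ∈ H ⊓ ι.range := ⟨hgH, ⟨z, hz⟩⟩
    rw [hH] at this
    exact this
  have hEq := hmax H' hlevel hHH'
  have hx'H' : x' ∈ H := hEq ▸ hx'mem
  apply hxn
  refine ⟨x', hx'H', z'⁻¹, ?_⟩
  rw [hx', mul_assoc, ← map_mul, mul_inv_cancel, map_one, mul_one]

end grp2

section rep2
variable {k : Type u} [Field k] {Γ : Type u} [Group Γ] {ι : kˣ →* Γ}
variable {W : Type u} [AddCommGroup W] [Module k W] (ρ : Representation k Γ W)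

/-- sum of the operators of `H` -/
noncomputable def PiH (H : Subgroup Γ) [Fintype H] : W →ₗ[k] W := ∑ h : H, ρ (h : Γ)

theorem PiH_apply (H : Subgroup Γ) [Fintype H] (w : W) : PiH ρ H w = ∑ h : H, ρ (h : Γ) w := by
  simp [PiH, LinearMap.sum_apply]

theorem PiH_mem (H : Subgroup Γ) [Fintype H] (w : W) :
    PiH ρ H w ∈ Representation.invariants (ρ.comp H.subtype) := by
  rw [Representation.mem_invariants]
  intro h'
  rw [PiH_apply, map_sum]
  rw [← Equiv.sum_comp (Equiv.mulLeft h') (fun h : H => ρ (h : Γ) w)]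
  refine Finset.sum_congr rfl fun h _ => ?_
  simp only [Equiv.coe_mulLeft, Subgroup.coe_mul, map_mul, MonoidHom.comp_apply,
    Subgroup.coe_subtype]
  rfl

theorem PiH_apply_rho (hcomm : commutator Γ ≤ ι.range)
    (hρ : ∀ (z : kˣ) (v : W), ρ (ι z) v = (z : k) • v) (H : Subgroup Γ) [Fintype H] (x : Γ) (v : W)
    (hv : v ∈ Representation.invariants (ρ.comp H.subtype)) :
    PiH ρ H (ρ x v) = (∑ h : H, ((pr hcomm (h : Γ) x : kˣ) : k)) • ρ x v := by
  rw [PiH_apply, Finset.sum_smul]
  refine Finset.sum_congr rfl fun h _ => ?_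
  have h1 := LinearMap.congr_fun (rel ρ hcomm hρ (h : Γ) x) v
  simp only [LinearMap.comp_apply, LinearMap.smul_apply] at h1
  have h2 : ρ (h : Γ) v = v := (Representation.mem_invariants _ v).1 hv h
  rw [h1, h2]

theorem sumH_mem (hι : Function.Injective ι) (hcent : ι.range = Subgroup.center Γ)
    (hcomm : commutator Γ ≤ ι.range) (H : Subgroup Γ) [Fintype H] (x : Γ)
    (hx : x ∈ perp hι hcent hcomm H) :
    ∑ h : H, ((pr hcomm (h : Γ) x : kˣ) : k) = (Fintype.card H : k) := by
  have : ∀ h : H, ((pr hcomm (h : Γ) x : kˣ) : k) = 1 := by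
    intro h
    rw [hx h h.2, Units.val_one]
  simp [this]

theorem sumH_not_mem (hι : Function.Injective ι) (hcent : ι.range = Subgroup.center Γ)
    (hcomm : commutator Γ ≤ ι.range) (H : Subgroup Γ) [Fintype H] (x : Γ)
    (hx : x ∉ perp hι hcent hcomm H) :
    ∑ h : H, ((pr hcomm (h : Γ) x : kˣ) : k) = 0 := by
  obtain ⟨h0, hh0, hne⟩ : ∃ h0 ∈ H, pr hcomm h0 x ≠ 1 := by
    by_contra hcon
    push Not at hcon
    exact hx hcon
  have h1 := Equiv.sum_comp (Equiv.mulLeft (⟨h0, hh0⟩ : H))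
    (fun h : H => ((pr hcomm (h : Γ) x : kˣ) : k))
  simp only [Equiv.coe_mulLeft, Subgroup.coe_mul, pr_mul_left hι hcent hcomm, Units.val_mul] at h1
  rw [← Finset.mul_sum] at h1
  have h2 : ((pr hcomm h0 x : kˣ) : k) - 1 ≠ 0 := by
    intro h
    apply hne
    ext
    simpa [sub_eq_zero] using h
  have h3 : (((pr hcomm h0 x : kˣ) : k) - 1) * ∑ h : H, ((pr hcomm (h : Γ) x : kˣ) : k) = 0 := by
    rw [sub_mul, h1, one_mul, sub_self]
  exact (mul_eq_zero.1 h3).resolve_left h2

theorem orthL (hι : Function.Injective ι) (hcent : ι.range = Subgroup.center Γ)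
    (hcomm : commutator Γ ≤ ι.range) (H : Subgroup Γ) [Fintype (Γ ⧸ perp hι hcent hcomm H)]
    (a : Γ) (ha : a ∈ H) (ha' : a ∉ ι.range) :
    ∑ c : Γ ⧸ perp hι hcent hcomm H, ((pr hcomm a (Quotient.out c) : kˣ) : k) = 0 := by
  obtain ⟨g0, hg0⟩ : ∃ g0, pr hcomm a g0 ≠ 1 := by
    by_contra hcon
    push Not at hcon
    exact ha' (mem_range_of_pr hι hcent hcomm a hcon)
  have h1 := sum_translate' (perp hι hcent hcomm H) (fun g => ((pr hcomm a g : kˣ) : k)) (by
    intro g s hs
    rw [pr_mul_right hι hcent hcomm, hs a ha, mul_one]) g0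
  simp only [pr_mul_right hι hcent hcomm, Units.val_mul] at h1
  rw [← Finset.mul_sum] at h1
  have h2 : ((pr hcomm a g0 : kˣ) : k) - 1 ≠ 0 := by
    intro h
    apply hg0
    ext
    simpa [sub_eq_zero] using h
  have h3 : (((pr hcomm a g0 : kˣ) : k) - 1) *
      ∑ c : Γ ⧸ perp hι hcent hcomm H, ((pr hcomm a (Quotient.out c) : kˣ) : k) = 0 := by
    rw [sub_mul, h1, one_mul, sub_self]
  exact (mul_eq_zero.1 h3).resolve_left h2

theorem sum_conj_PiH (hι : Function.Injective ι) (hcent : ι.range = Subgroup.center Γ)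
    (hcomm : commutator Γ ≤ ι.range) (hρ : ∀ (z : kˣ) (v : W), ρ (ι z) v = (z : k) • v)
    (H : Subgroup Γ) (hH : H ⊓ ι.range = ⊥) [Fintype H]
    [Fintype (Γ ⧸ perp hι hcent hcomm H)] (w : W) :
    ∑ c : Γ ⧸ perp hι hcent hcomm H,
        ρ (Quotient.out c) (PiH ρ H (ρ (Quotient.out c)⁻¹ w)) =
      (Fintype.card (Γ ⧸ perp hι hcent hcomm H) : k) • w := by
  have hconj : ∀ (g : Γ) (h : H), ρ g (ρ (h : Γ) (ρ g⁻¹ w)) =
      ((pr hcomm g (h : Γ) : kˣ) : k) • ρ (h : Γ) w := by
    intro g h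
    have := LinearMap.congr_fun (cj_self ρ hι hcent hcomm hρ g (h : Γ)) w
    exact this
  simp_rw [PiH_apply, map_sum, hconj]
  rw [Finset.sum_comm]
  simp_rw [← Finset.sum_smul]
  rw [Finset.sum_eq_single (1 : H)]
  · simp [pr_one_right hι hcent hcomm]
  · intro h _ hh1
    have hnr : ((h : Γ))⁻¹ ∉ ι.range := by
      intro hmem
      have h2 : ((h : Γ))⁻¹ ∈ H ⊓ ι.range := ⟨H.inv_mem h.2, hmem⟩
      rw [hH, Subgroup.mem_bot, inv_eq_one] at h2
      exact hh1 (Subtype.ext h2)
    have h3 := orthL hι hcent hcomm H ((h : Γ))⁻¹ (H.inv_mem h.2) hnr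
    have h4 : ∀ c : Γ ⧸ perp hι hcent hcomm H,
        ((pr hcomm (Quotient.out c) (h : Γ) : kˣ) : k) =
          ((pr hcomm ((h : Γ))⁻¹ (Quotient.out c) : kˣ) : k) := by
      intro c
      rw [pr_inv_left hι hcent hcomm, ← pr_symm hι hcent hcomm]
    simp_rw [h4]
    rw [h3, zero_smul]
  · intro h
    exact absurd (Finset.mem_univ _) h

/-- the comparison map -/
noncomputable def toMap (H : Subgroup Γ) [Fintype H] (L : Subgroup Γ) :
    W →ₗ[k] ((Γ ⧸ L) → Representation.invariants (ρ.comp H.subtype)) :=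
  LinearMap.pi fun c =>
    (PiH ρ H ∘ₗ ρ (Quotient.out c)⁻¹).codRestrict _ (fun w => PiH_mem ρ H _)

theorem toMap_apply (H : Subgroup Γ) [Fintype H] (L : Subgroup Γ) (w : W) (c : Γ ⧸ L) :
    ((toMap ρ H L w c : Representation.invariants (ρ.comp H.subtype)) : W) =
      PiH ρ H (ρ (Quotient.out c)⁻¹ w) := rfl

theorem finrank_eq_mul (hι : Function.Injective ι) (hcent : ι.range = Subgroup.center Γ)
    (hcomm : commutator Γ ≤ ι.range) (hρ : ∀ (z : kˣ) (v : W), ρ (ι z) v = (z : k) • v)
    [FiniteDimensional k W]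
    (H : Subgroup Γ) (hH : H ⊓ ι.range = ⊥) [Fintype H]
    [Fintype (Γ ⧸ perp hι hcent hcomm H)]
    (hcH : (Fintype.card H : k) ≠ 0)
    (hcL : (Fintype.card (Γ ⧸ perp hι hcent hcomm H) : k) ≠ 0) :
    Module.finrank k W = Fintype.card (Γ ⧸ perp hι hcent hcomm H) *
      Module.finrank k (Representation.invariants (ρ.comp H.subtype)) := by
  classical
  have hinj : Function.Injective (toMap ρ H (perp hι hcent hcomm H)) := by
    rw [← LinearMap.ker_eq_bot, eq_bot_iff]
    intro w hw
    rw [LinearMap.mem_ker] at hw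
    rw [Submodule.mem_bot]
    have h1 := sum_conj_PiH ρ hι hcent hcomm hρ H hH w
    have h2 : ∀ c : Γ ⧸ perp hι hcent hcomm H, PiH ρ H (ρ (Quotient.out c)⁻¹ w) = 0 := by
      intro c
      rw [← toMap_apply ρ H (perp hι hcent hcomm H) w c, hw]
      rfl
    simp_rw [h2, map_zero, Finset.sum_const_zero] at h1
    exact (smul_eq_zero.1 h1.symm).resolve_left hcL
  have hsurj : Function.Surjective (toMap ρ H (perp hι hcent hcomm H)) := by
    intro v
    refine ⟨(Fintype.card H : k)⁻¹ • ∑ c : Γ ⧸ perp hι hcent hcomm H,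
      ρ (Quotient.out c) (v c : W), ?_⟩
    funext c'
    apply Subtype.ext
    have key1 : PiH ρ H (ρ (Quotient.out c')⁻¹ (ρ (Quotient.out c') (v c' : W))) =
        (Fintype.card H : k) • (v c' : W) := by
      rw [Representation.inv_self_apply]
      have h1 := PiH_apply_rho ρ hcomm hρ H 1 (v c' : W) (v c').2
      rw [map_one, Module.End.one_apply] at h1
      rw [h1, sumH_mem hι hcent hcomm H 1 (Subgroup.one_mem _)]
    have key2 : ∀ c : Γ ⧸ perp hι hcent hcomm H, c ≠ c' →
        PiH ρ H (ρ (Quotient.out c')⁻¹ (ρ (Quotient.out c) (v c : W))) = 0 := by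
      intro c hc
      have e1 : ρ (Quotient.out c')⁻¹ (ρ (Quotient.out c) (v c : W)) =
          ρ ((Quotient.out c')⁻¹ * Quotient.out c) (v c : W) := by
        rw [map_mul, Module.End.mul_apply]
      rw [e1, PiH_apply_rho ρ hcomm hρ H _ (v c : W) (v c).2, sumH_not_mem hι hcent hcomm H,
        zero_smul]
      intro hmem
      apply hc
      rw [← QuotientGroup.out_eq' c, ← QuotientGroup.out_eq' c']
      exact (QuotientGroup.eq.2 hmem).symm
    rw [toMap_apply]
    have e2 : PiH ρ H (ρ (Quotient.out c')⁻¹ ((Fintype.card H : k)⁻¹ •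
        ∑ c : Γ ⧸ perp hι hcent hcomm H, ρ (Quotient.out c) (v c : W))) =
        (Fintype.card H : k)⁻¹ • ∑ c : Γ ⧸ perp hι hcent hcomm H,
          PiH ρ H (ρ (Quotient.out c')⁻¹ (ρ (Quotient.out c) (v c : W))) := by
      simp only [map_smul, map_sum]
    rw [e2, Finset.sum_eq_single c' (fun c _ hc => key2 c hc)
      (fun h => absurd (Finset.mem_univ _) h), key1, smul_smul, inv_mul_cancel₀ hcH, one_smul]
  have e := LinearEquiv.ofBijective (toMap ρ H (perp hι hcent hcomm H)) ⟨hinj, hsurj⟩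
  rw [e.finrank_eq, Module.finrank_pi_fintype]
  simp

end rep2

section rep3
variable {k : Type u} [Field k] {Γ : Type u} [Group Γ] {ι : kˣ →* Γ}
variable {V : Type u} [AddCommGroup V] [Module k V] (ρ : Representation k Γ V)

theorem span_rho_top [IsAlgClosed k] [FiniteDimensional k V] [ρ.IsIrreducible]
    [Fintype (Γ ⧸ ι.range)]
    (hι : Function.Injective ι) (hcent : ι.range = Subgroup.center Γ)
    (hcomm : commutator Γ ≤ ι.range) (hρ : ∀ (z : kˣ) (v : V), ρ (ι z) v = (z : k) • v)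
    (hN : (Fintype.card (Γ ⧸ ι.range) : k) ≠ 0) :
    Submodule.span k (Set.range fun κ : Γ ⧸ ι.range => ρ (Quotient.out κ)) = ⊤ := by
  rw [eq_top_iff]
  intro T _
  have h1 := sum_Q ρ ρ hι hcent hcomm hρ hρ T
  have hT : T = (Fintype.card (Γ ⧸ ι.range) : k)⁻¹ •
      ∑ κ' : Γ ⧸ ι.range, Q ρ ρ hcomm (Quotient.out κ') T := by
    rw [h1, smul_smul, inv_mul_cancel₀ hN, one_smul]
  rw [hT]
  refine Submodule.smul_mem _ _ (Submodule.sum_mem _ fun κ _ => ?_)
  obtain ⟨c, hc⟩ := Q_scalar ρ hι hcent hcomm hρ (Quotient.out κ) T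
  rw [hc]
  exact Submodule.smul_mem _ _ (Submodule.subset_span ⟨κ, rfl⟩)

theorem finrank_inv_le_one [IsAlgClosed k] [FiniteDimensional k V] [ρ.IsIrreducible]
    [Fintype (Γ ⧸ ι.range)]
    (hι : Function.Injective ι) (hcent : ι.range = Subgroup.center Γ)
    (hcomm : commutator Γ ≤ ι.range) (hρ : ∀ (z : kˣ) (v : V), ρ (ι z) v = (z : k) • v)
    (hN : (Fintype.card (Γ ⧸ ι.range) : k) ≠ 0)
    (H : Subgroup Γ) [Fintype H] (hcH : (Fintype.card H : k) ≠ 0)
    (hLHZ : ∀ x ∈ perp hι hcent hcomm H, x ∈ HZ hcent H) :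
    Module.finrank k (Representation.invariants (ρ.comp H.subtype)) ≤ 1 := by
  classical
  by_cases hzero : ∀ v ∈ Representation.invariants (ρ.comp H.subtype), v = 0
  · have : Representation.invariants (ρ.comp H.subtype) = ⊥ := by
      rw [eq_bot_iff]
      intro v hv
      exact (Submodule.mem_bot k).2 (hzero v hv)
    rw [this, finrank_bot]
    exact Nat.zero_le _
  · push Not at hzero
    obtain ⟨v₁, hv₁, hv₁0⟩ := hzero
    have hscal : ∀ x : Γ, ∃ b : k, PiH ρ H (ρ x v₁) = b • v₁ := by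
      intro x
      by_cases hx : x ∈ perp hι hcent hcomm H
      · obtain ⟨h', hh', z, rfl⟩ := hLHZ x hx
        refine ⟨(Fintype.card H : k) * (z : k), ?_⟩
        rw [PiH_apply_rho ρ hcomm hρ H _ v₁ hv₁, sumH_mem hι hcent hcomm H _ hx, map_mul,
          Module.End.mul_apply, hρ, map_smul]
        have : ρ h' v₁ = v₁ := (Representation.mem_invariants _ v₁).1 hv₁ ⟨h', hh'⟩
        rw [this, smul_smul]
      · refine ⟨0, ?_⟩
        rw [PiH_apply_rho ρ hcomm hρ H _ v₁ hv₁, sumH_not_mem hι hcent hcomm H _ hx, zero_smul,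
          zero_smul]
    refine finrank_le_one (⟨v₁, hv₁⟩ : Representation.invariants (ρ.comp H.subtype)) ?_
    rintro ⟨v₂, hv₂⟩
    have hnot : v₁ ∉ (⊥ : Submodule k V) := by
      rw [Submodule.mem_bot]
      exact hv₁0
    obtain ⟨T, _, hT⟩ := LinearMap.exists_extend_of_notMem (K := k)
      (0 : (⊥ : Submodule k V) →ₗ[k] V) hnot v₂
    have hTspan : T ∈ Submodule.span k (Set.range fun κ : Γ ⧸ ι.range => ρ (Quotient.out κ)) := by
      rw [span_rho_top ρ hι hcent hcomm hρ hN]
      trivial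
    obtain ⟨a, ha⟩ := (Submodule.mem_span_range_iff_exists_fun k).1 hTspan
    choose b hb using hscal
    have h1 : PiH ρ H v₂ = (Fintype.card H : k) • v₂ := by
      have := PiH_apply_rho ρ hcomm hρ H 1 v₂ hv₂
      rw [map_one, Module.End.one_apply] at this
      rw [this, sumH_mem hι hcent hcomm H 1 (Subgroup.one_mem _)]
    have h2 : PiH ρ H v₂ = (∑ κ : Γ ⧸ ι.range, a κ * b (Quotient.out κ)) • v₁ := by
      rw [← hT, ← ha]
      simp only [LinearMap.sum_apply, LinearMap.smul_apply, map_sum, map_smul, hb, smul_smul,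
        Finset.sum_smul]
    refine ⟨(Fintype.card H : k)⁻¹ * ∑ κ : Γ ⧸ ι.range, a κ * b (Quotient.out κ), ?_⟩
    apply Subtype.ext
    show ((Fintype.card H : k)⁻¹ * ∑ κ : Γ ⧸ ι.range, a κ * b (Quotient.out κ)) • v₁ = v₂
    rw [mul_smul, ← h2, h1, smul_smul, inv_mul_cancel₀ hcH, one_smul]

end rep3

section maschke
variable {k : Type u} [Field k] {Γ : Type u} [Group Γ] {ι : kˣ →* Γ}
variable {W : Type u} [AddCommGroup W] [Module k W] (σ : Representation k Γ W)

theorem semisimple_of_weight [Fintype (Γ ⧸ ι.range)]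
    (hσ : ∀ (z : kˣ) (w : W), σ (ι z) w = (z : k) • w)
    (hN : (Fintype.card (Γ ⧸ ι.range) : k) ≠ 0) :
    Representation.IsSemisimpleRepresentation σ := by
  refine ⟨fun U => ?_⟩
  obtain ⟨C, hC⟩ := Submodule.exists_isCompl U.toSubmodule
  set π : W →ₗ[k] W := U.toSubmodule.subtype ∘ₗ Submodule.projectionOnto U.toSubmodule C hC
    with hπ
  have hπmem : ∀ w, π w ∈ U.toSubmodule := fun w => Submodule.coe_mem _
  have hπid : ∀ u ∈ U.toSubmodule, π u = u := by
    intro u hu
    have := Submodule.projectionOnto_apply_left hC ⟨u, hu⟩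
    simp only [hπ, LinearMap.comp_apply, Submodule.subtype_apply]
    exact congrArg Subtype.val this
  set S : W →ₗ[k] W := ∑ κ : Γ ⧸ ι.range, cj σ σ (Quotient.out κ) π with hS
  set π' : W →ₗ[k] W := (Fintype.card (Γ ⧸ ι.range) : k)⁻¹ • S with hπ'
  have hcjmem : ∀ g w, cj σ σ g π w ∈ U.toSubmodule := by
    intro g w
    exact U.apply_mem_toSubmodule g (hπmem _)
  have hcjid : ∀ g, ∀ u ∈ U.toSubmodule, cj σ σ g π u = u := by
    intro g u hu
    show σ g (π (σ g⁻¹ u)) = u
    rw [hπid _ (U.apply_mem_toSubmodule g⁻¹ hu), Representation.self_inv_apply]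
  have m1 : ∀ w, π' w ∈ U.toSubmodule := by
    intro w
    simp only [hπ', hS, LinearMap.smul_apply, LinearMap.sum_apply]
    exact Submodule.smul_mem _ _ (Submodule.sum_mem _ fun κ _ => hcjmem _ _)
  have m2 : ∀ u ∈ U.toSubmodule, π' u = u := by
    intro u hu
    simp only [hπ', hS, LinearMap.smul_apply, LinearMap.sum_apply]
    simp_rw [hcjid _ u hu]
    rw [Finset.sum_const, Finset.card_univ, ← Nat.cast_smul_eq_nsmul k, smul_smul,
      inv_mul_cancel₀ hN, one_smul]
  have m3 : ∀ g w, σ g (π' w) = π' (σ g w) := by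
    intro g w
    have hS' : cj σ σ g S = S := by
      rw [hS, cj_sum]
      simp_rw [← cj_mul]
      exact coset_sum_translate (ι := ι) (fun y => cj σ σ y π) (by
        intro y z
        rw [cj_mul, cj_iota σ σ hσ hσ]) g
    have h1 : cj σ σ g π' = π' := by
      rw [hπ', cj_smul, hS']
    have h2 := LinearMap.congr_fun h1 (σ g w)
    have h3 : cj σ σ g π' (σ g w) = σ g (π' (σ g⁻¹ (σ g w))) := rfl
    rw [h3, Representation.inv_self_apply] at h2
    exact h2
  let U' : Subrepresentation σ :=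
    { toSubmodule := LinearMap.ker π'
      apply_mem_toSubmodule := by
        intro g w hw
        rw [LinearMap.mem_ker] at hw ⊢
        rw [← m3, hw, map_zero] }
  refine ⟨U', IsCompl.of_eq ?_ ?_⟩
  · apply Subrepresentation.toSubmodule_injective
    show U.toSubmodule ⊓ LinearMap.ker π' = (⊥ : Submodule k W)
    rw [eq_bot_iff]
    rintro x ⟨hx1, hx2⟩
    rw [SetLike.mem_coe, LinearMap.mem_ker] at hx2
    rw [Submodule.mem_bot, ← m2 x hx1, hx2]
  · apply Subrepresentation.toSubmodule_injective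
    show U.toSubmodule ⊔ LinearMap.ker π' = (⊤ : Submodule k W)
    rw [eq_top_iff]
    intro w _
    have : w = π' w + (w - π' w) := by abel
    rw [this]
    refine Submodule.add_mem _ (Submodule.mem_sup_left (m1 w)) (Submodule.mem_sup_right ?_)
    rw [LinearMap.mem_ker, map_sub, m2 _ (m1 w), sub_self]

end maschke

/-- Let k be an algebraically closed field and Γ a group given with an injective homomorphism ι from the
multiplicative group kˣ onto the centre of Γ, such that the quotient K = Γ/ι(kˣ) is a finite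
commutative group (every commutator lies in ι(kˣ)) whose order is prime to the characteristic
exponent of k — the group of k-points of a non-degenerate theta group 1 → G_m → G → K → 1 with
rank(K) prime to char(k), non-degeneracy of the commutator pairing being the condition that ι(kˣ) is
the whole centre. A finite-dimensional representation of Γ over k has weight 1 when ι(z) acts as
multiplication by z for every z. Let V be an irreducible finite-dimensional representation of weight
1, W any finite-dimensional representation of weight 1, and H a maximal level subgroup of Γ: a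
subgroup with H ∩ ι(kˣ) = 1 which is maximal among subgroups with this property. Then W is
semisimple (completely reducible) and dim_k W = dim_k(W^H) · dim_k V, where W^H is the subspace of
H-invariants; together with the uniqueness of the irreducible weight-1 representation this says that
W is a direct sum of dim_k(W^H) copies of V. (Rendered for the group of k-points of the theta group
scheme, as in the preceding row.) -/
theorem result (k : Type u) [Field k] [IsAlgClosed k]
    (Γ : Type u) [Group Γ] (ι : kˣ →* Γ) (hι : Function.Injective ι)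
    (hcent : ι.range = Subgroup.center Γ) (hcomm : commutator Γ ≤ ι.range)
    [Finite (Γ ⧸ ι.range)] (hcop : (Nat.card (Γ ⧸ ι.range)).Coprime (ringExpChar k))
    (V : FDRep k Γ) (hV : Representation.IsIrreducible V.ρ) (hV1 : ∀ (z : kˣ) (v : V), V.ρ (ι z) v = (z : k) • v)
    (W : FDRep k Γ) (hW1 : ∀ (z : kˣ) (w : W), W.ρ (ι z) w = (z : k) • w)
    (H : Subgroup Γ) (hH : H ⊓ ι.range = ⊥) (hmax : ∀ H' : Subgroup Γ, H' ⊓ ι.range = ⊥ → H ≤ H' → H' = H) :
    Representation.IsSemisimpleRepresentation W.ρ ∧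
      Module.finrank k W =
        Module.finrank k (Representation.invariants (W.ρ.comp H.subtype)) * Module.finrank k V := by
  classical
  haveI : Fintype (Γ ⧸ ι.range) := Fintype.ofFinite _
  have hcard : Nat.card (Γ ⧸ ι.range) = Fintype.card (Γ ⧸ ι.range) := Nat.card_eq_fintype_card
  have hN : (Fintype.card (Γ ⧸ ι.range) : k) ≠ 0 := by
    apply cast_card_ne_zero
    · haveI : Nonempty (Γ ⧸ ι.range) := ⟨QuotientGroup.mk 1⟩
      exact Fintype.card_ne_zero
    · rw [← hcard]
      exact hcop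
  haveI hnorm : ι.range.Normal := by
    rw [hcent]
    infer_instance
  have hHinj : Function.Injective ((QuotientGroup.mk' ι.range).comp H.subtype) := by
    rw [injective_iff_map_eq_one]
    intro h hh
    rw [MonoidHom.comp_apply, QuotientGroup.mk'_apply, QuotientGroup.eq_one_iff] at hh
    have : (h : Γ) ∈ H ⊓ ι.range := ⟨h.2, hh⟩
    rw [hH, Subgroup.mem_bot] at this
    exact Subtype.ext this
  haveI : Finite H := Finite.of_injective _ hHinj
  haveI : Fintype H := Fintype.ofFinite _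
  have hdvdH : Nat.card H ∣ Nat.card (Γ ⧸ ι.range) := Subgroup.card_dvd_of_injective _ hHinj
  have hcH : (Fintype.card H : k) ≠ 0 := by
    apply cast_card_ne_zero
    · exact Fintype.card_ne_zero
    · rw [← Nat.card_eq_fintype_card]
      exact Nat.Coprime.coprime_dvd_left hdvdH hcop
  have hZL : ι.range ≤ perp hι hcent hcomm H := range_le_perp hι hcent hcomm H
  haveI : ι.range.FiniteIndex := Subgroup.finiteIndex_of_finite_quotient
  haveI : (perp hι hcent hcomm H).FiniteIndex := Subgroup.finiteIndex_of_le hZL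
  haveI : Fintype (Γ ⧸ perp hι hcent hcomm H) := Fintype.ofFinite _
  have hdvdL : Nat.card (Γ ⧸ perp hι hcent hcomm H) ∣ Nat.card (Γ ⧸ ι.range) := by
    rw [← Subgroup.index_eq_card, ← Subgroup.index_eq_card]
    exact Subgroup.index_dvd_of_le hZL
  have hcL : (Fintype.card (Γ ⧸ perp hι hcent hcomm H) : k) ≠ 0 := by
    apply cast_card_ne_zero
    · exact Fintype.card_ne_zero
    · rw [← Nat.card_eq_fintype_card]
      exact Nat.Coprime.coprime_dvd_left hdvdL hcop
  have hLHZ := perp_eq_HZ hι hcent hcomm H hH hmax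
  haveI := hV
  have eW := finrank_eq_mul W.ρ hι hcent hcomm hW1 H hH hcH hcL
  have eV := finrank_eq_mul V.ρ hι hcent hcomm hV1 H hH hcH hcL
  have hle := finrank_inv_le_one V.ρ hι hcent hcomm hV1 hN H hcH hLHZ
  have hntV : Nontrivial V := by
    by_contra hVn
    rw [not_nontrivial_iff_subsingleton] at hVn
    have : (⊥ : Subrepresentation V.ρ) = ⊤ := by
      apply Subrepresentation.toSubmodule_injective
      exact Subsingleton.elim _ _
    exact bot_ne_top this
  have hVpos : 0 < Module.finrank k V := Module.finrank_pos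
  refine ⟨semisimple_of_weight W.ρ hW1 hN, ?_⟩
  have hone : Module.finrank k (Representation.invariants (V.ρ.comp H.subtype)) = 1 := by
    rcases Nat.eq_zero_or_pos (Module.finrank k (Representation.invariants (V.ρ.comp H.subtype)))
      with h0 | h0
    · rw [h0, mul_zero] at eV
      omega
    · omega
  rw [hone, mul_one] at eV
  rw [eW, eV, mul_comm]

end Groth.Agent.S17507
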