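import Groth.Statements.S17512
import Mathlib.GroupTheory.FiniteAbelian.Duality
import Mathlib.RingTheory.RootsOfUnity.AlgebraicallyClosed
import Mathlib.GroupTheory.QuotientGroup.Basic
import Mathlib.Tactic.Group

set_option autoImplicit false
universe u
open ThetaRep

namespace Groth.Agent.S17512


open scoped commutatorElement

section General

/-- Duality: an injective pairing on a finite commutative group with enough roots of unity restricts
surjectively to the dual of any subgroup. -/
lemma surjective_restrict {K : Type*} [CommGroup K] [Finite K] {M : Type*} [CommMonoid M]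
    [HasEnoughRootsOfUnity M (Monoid.exponent K)] (b : K →* (K →* Mˣ))
    (hb : Function.Injective b) (A : Subgroup K) :
    Function.Surjective ((MonoidHom.domRestrictHom A Mˣ).comp b) := by
  have hcard : Nat.card (K →* Mˣ) = Nat.card K :=
    CommGroup.card_monoidHom_of_hasEnoughRootsOfUnity K M
  have : Finite (K →* Mˣ) := Nat.finite_of_card_ne_zero (by rw [hcard]; exact Nat.card_pos.ne')
  have hbij : Function.Bijective b :=
    (Nat.bijective_iff_injective_and_card _).mpr ⟨hb, hcard.symm⟩
  rw [MonoidHom.coe_comp]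
  exact (MonoidHom.domRestrict_surjective (M := M) A).comp hbij.surjective

end General

section Setup

variable {k : Type u} [Field k] {Γ : Type u} [Group Γ] (ι : kˣ →* Γ) (hι : Function.Injective ι)
    (hcent : ι.range = Subgroup.center Γ) (hcomm : commutator Γ ≤ ι.range)

include hcomm in
lemma comm_mem (x y : Γ) : ⁅x, y⁆ ∈ ι.range :=
  hcomm (by
    rw [commutator_def]
    exact Subgroup.commutator_mem_commutator (Subgroup.mem_top x) (Subgroup.mem_top y))

include hcent hcomm in
lemma comm_central (x y g : Γ) : g * ⁅x, y⁆ = ⁅x, y⁆ * g :=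
  Subgroup.mem_center_iff.mp (hcent ▸ comm_mem ι hcomm x y) g

/-- The commutator pairing with values in `kˣ`. -/
noncomputable def e (x y : Γ) : kˣ :=
  (MonoidHom.ofInjective hι).symm ⟨⁅x, y⁆, comm_mem ι hcomm x y⟩

lemma ι_e (x y : Γ) : ι (e ι hι hcomm x y) = ⁅x, y⁆ :=
  MonoidHom.apply_ofInjective_symm hι ⟨⁅x, y⁆, comm_mem ι hcomm x y⟩

include hcent in
lemma e_mul_right (x y y' : Γ) :
    e ι hι hcomm x (y * y') = e ι hι hcomm x y * e ι hι hcomm x y' := by
  apply hι
  rw [map_mul, ι_e, ι_e, ι_e]
  have hc := comm_central ι hcent hcomm x y' y⁻¹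
  calc ⁅x, y * y'⁆ = x * y * x⁻¹ * (⁅x, y'⁆ * y⁻¹) := by
        simp only [commutatorElement_def]; group
    _ = x * y * x⁻¹ * (y⁻¹ * ⁅x, y'⁆) := by rw [hc]
    _ = ⁅x, y⁆ * ⁅x, y'⁆ := by simp only [commutatorElement_def]; group

include hcent in
lemma e_mul_left (x x' y : Γ) :
    e ι hι hcomm (x * x') y = e ι hι hcomm x y * e ι hι hcomm x' y := by
  apply hι
  rw [map_mul, ι_e, ι_e, ι_e]
  have hc := comm_central ι hcent hcomm x' y x
  calc ⁅x * x', y⁆ = (x * ⁅x', y⁆) * y * x⁻¹ * y⁻¹ := by
        simp only [commutatorElement_def]; group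
    _ = (⁅x', y⁆ * x) * y * x⁻¹ * y⁻¹ := by rw [hc]
    _ = ⁅x', y⁆ * ⁅x, y⁆ := by simp only [commutatorElement_def]; group
    _ = ⁅x, y⁆ * ⁅x', y⁆ := (comm_central ι hcent hcomm x' y _).symm

lemma e_eq_one_iff (x y : Γ) : e ι hι hcomm x y = 1 ↔ y * x = x * y := by
  rw [← hι.eq_iff, ι_e, map_one, commutatorElement_eq_one_iff_commute]
  exact ⟨fun h => h.eq.symm, fun h => h.symm⟩

include hcent in
lemma e_right_of_mem (x : Γ) {z : Γ} (hz : z ∈ ι.range) : e ι hι hcomm x z = 1 := by
  rw [e_eq_one_iff]
  rw [hcent] at hz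
  exact (Subgroup.mem_center_iff.mp hz x).symm

/-- `y ↦ e x y` as a homomorphism. -/
noncomputable def ψ (x : Γ) : Γ →* kˣ where
  toFun := e ι hι hcomm x
  map_one' := by
    rw [e_eq_one_iff]; simp
  map_mul' := e_mul_right ι hι hcent hcomm x

/-- The commutative group structure on `Γ ⧸ ι.range`. -/
@[reducible] def commGroupK [ι.range.Normal] : CommGroup (Γ ⧸ ι.range) :=
  { QuotientGroup.Quotient.group ι.range with
    mul_comm := by
      intro a b
      induction a using QuotientGroup.induction_on with
      | H a =>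
        induction b using QuotientGroup.induction_on with
        | H b =>
          rw [← QuotientGroup.mk_mul, ← QuotientGroup.mk_mul, QuotientGroup.eq]
          have := comm_mem ι hcomm b⁻¹ a⁻¹
          have h2 : (a * b)⁻¹ * (b * a) = ⁅b⁻¹, a⁻¹⁆ := by
            simp only [commutatorElement_def]; group
          rw [h2]; exact this }


variable [hn : ι.range.Normal]

/-- `x ↦ (ȳ ↦ e x y)`. -/
noncomputable def Φ : Γ →* ((Γ ⧸ ι.range) →* kˣ) :=
  letI := commGroupK ι hcomm
  { toFun := fun x => QuotientGroup.lift ι.range (ψ ι hι hcent hcomm x) (fun z hz => by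
      rw [MonoidHom.mem_ker]; exact e_right_of_mem ι hι hcent hcomm x hz)
    map_one' := by
      apply QuotientGroup.monoidHom_ext
      ext y
      simp only [MonoidHom.coe_comp, Function.comp_apply, QuotientGroup.mk'_apply,
        QuotientGroup.lift_mk, MonoidHom.one_apply, Units.val_one]
      change ((e ι hι hcomm 1 y : kˣ) : k) = 1
      rw [(e_eq_one_iff ι hι hcomm 1 y).mpr (by simp)]; rfl
    map_mul' := by
      intro x x'
      apply QuotientGroup.monoidHom_ext
      ext y
      simp only [MonoidHom.coe_comp, Function.comp_apply, QuotientGroup.mk'_apply,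
        QuotientGroup.lift_mk, MonoidHom.mul_apply, Units.val_mul]
      change ((e ι hι hcomm (x * x') y : kˣ) : k) = (e ι hι hcomm x y : kˣ) * (e ι hι hcomm x' y : kˣ)
      rw [e_mul_left ι hι hcent hcomm]; rfl }

lemma Φ_apply (x y : Γ) :
    letI := commGroupK ι hcomm
    Φ ι hι hcent hcomm x (QuotientGroup.mk y) = e ι hι hcomm x y := rfl

lemma Φ_ker : letI := commGroupK ι hcomm
    (Φ ι hι hcent hcomm).ker = ι.range := by
  letI := commGroupK ι hcomm
  ext x
  have hx : x ∈ ι.range ↔ ∀ g, g * x = x * g := by rw [hcent, Subgroup.mem_center_iff]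
  rw [MonoidHom.mem_ker, hx]
  constructor
  · intro h y
    have := DFunLike.congr_fun h (QuotientGroup.mk y)
    rw [Φ_apply, MonoidHom.one_apply, e_eq_one_iff] at this
    exact this
  · intro h
    apply QuotientGroup.monoidHom_ext
    ext y
    simp only [MonoidHom.coe_comp, Function.comp_apply, QuotientGroup.mk'_apply,
      MonoidHom.one_apply, Units.val_one]
    rw [Φ_apply, (e_eq_one_iff ι hι hcomm x y).mpr (h y)]; rfl


omit hn in
lemma neZero_card [IsAlgClosed k] [Finite (Γ ⧸ ι.range)]
    (hcop : (Nat.card (Γ ⧸ ι.range)).Coprime (ringExpChar k)) :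
    NeZero ((Nat.card (Γ ⧸ ι.range) : ℕ) : k) := by
  constructor
  intro h0
  rw [CharP.cast_eq_zero_iff k (ringChar k)] at h0
  have hpos : 0 < Nat.card (Γ ⧸ ι.range) := Nat.card_pos
  by_cases hp : ringChar k = 0
  · rw [hp, zero_dvd_iff] at h0
    omega
  · have h1 : ringExpChar k = ringChar k := by
      unfold ringExpChar
      have : 0 < ringChar k := Nat.pos_of_ne_zero hp
      omega
    rw [h1] at hcop
    have := Nat.Coprime.eq_one_of_dvd hcop.symm h0
    exact CharP.ringChar_ne_one this

omit hn in
include hcent hcomm hι in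
lemma index_centralizer [IsAlgClosed k] [Finite (Γ ⧸ ι.range)]
    (hcop : (Nat.card (Γ ⧸ ι.range)).Coprime (ringExpChar k))
    (H : Subgroup Γ) :
    (Subgroup.centralizer (H : Set Γ)).index = ι.range.relIndex H := by
  haveI hn : ι.range.Normal := hcent ▸ inferInstance
  letI := commGroupK ι hcomm
  have hnz : NeZero ((Nat.card (Γ ⧸ ι.range) : ℕ) : k) := neZero_card ι hcop
  have hnz' : NeZero (Nat.card (Γ ⧸ ι.range)) := ⟨Nat.card_pos.ne'⟩
  have hroots : HasEnoughRootsOfUnity k (Monoid.exponent (Γ ⧸ ι.range)) :=
    HasEnoughRootsOfUnity.of_dvd k (Group.exponent_dvd_nat_card (G := Γ ⧸ ι.range))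
  let b : (Γ ⧸ ι.range) →* ((Γ ⧸ ι.range) →* kˣ) :=
    QuotientGroup.lift ι.range (Φ ι hι hcent hcomm) (by rw [Φ_ker])
  have hb : Function.Injective b := by
    rw [injective_iff_map_eq_one]
    intro a ha
    induction a using QuotientGroup.induction_on with
    | H x =>
      have : x ∈ (Φ ι hι hcent hcomm).ker := ha
      rw [Φ_ker] at this
      exact (QuotientGroup.eq_one_iff x).mpr this
  let A : Subgroup (Γ ⧸ ι.range) := H.map (QuotientGroup.mk' ι.range)
  have hr := surjective_restrict (M := k) b hb A
  let ρ : Γ →* (A →* kˣ) :=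
    ((MonoidHom.domRestrictHom A kˣ).comp b).comp (QuotientGroup.mk' ι.range)
  have hρ : Function.Surjective ρ := hr.comp (QuotientGroup.mk'_surjective ι.range)
  have hker : ρ.ker = Subgroup.centralizer (H : Set Γ) := by
    ext x
    rw [MonoidHom.mem_ker, Subgroup.mem_centralizer_iff]
    constructor
    · intro hx h hh
      have h1 := DFunLike.congr_fun hx ⟨QuotientGroup.mk h, Subgroup.mem_map_of_mem _ hh⟩
      have h2 : e ι hι hcomm x h = 1 := h1
      exact (e_eq_one_iff ι hι hcomm x h).mp h2
    · intro hx
      ext ⟨a, ha⟩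
      obtain ⟨h, hh, rfl⟩ := ha
      have h2 : e ι hι hcomm x h = 1 := (e_eq_one_iff ι hι hcomm x h).mpr (hx h hh)
      exact congrArg Units.val h2
  have hA : HasEnoughRootsOfUnity k (Monoid.exponent A) :=
    hroots.of_dvd k (Monoid.exponent_submonoid_dvd A.toSubmonoid)
  rw [← hker, Subgroup.index_ker, MonoidHom.range_eq_top.mpr hρ,
    Nat.card_congr (Subgroup.topEquiv (G := A →* kˣ)).toEquiv,
    CommGroup.card_monoidHom_of_hasEnoughRootsOfUnity A k,
    ← Subgroup.relIndex_bot_left, ← Subgroup.relIndex_comap, MonoidHom.comap_bot,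
    QuotientGroup.ker_mk']

end Setup

theorem result'
    (k : Type u) [Field k] [IsAlgClosed k]
    (Γ : Type u) [Group Γ] (ι : kˣ →* Γ) (hι : Function.Injective ι)
    (hcent : ι.range = Subgroup.center Γ) (hcomm : commutator Γ ≤ ι.range)
    [Finite (Γ ⧸ ι.range)] (hcop : (Nat.card (Γ ⧸ ι.range)).Coprime (ringExpChar k))
    (H : Subgroup Γ) (hH : ι.range ≤ H) :
    List.TFAE [
      IsMulCommutative H ∧ ∀ H' : Subgroup Γ, IsMulCommutative H' → H ≤ H' → H' = H,
      IsMulCommutative H ∧ (ι.range.relIndex H) ^ 2 = ι.range.index,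
      H = Subgroup.centralizer (H : Set Γ)] := by
  have hZC : ι.range ≤ Subgroup.centralizer (H : Set Γ) :=
    hcent ▸ Subgroup.center_le_centralizer _
  have hidx : ι.range.relIndex (Subgroup.centralizer (H : Set Γ)) * ι.range.relIndex H
      = ι.range.index := by
    rw [← index_centralizer ι hι hcent hcomm hcop H]
    exact Subgroup.relIndex_mul_index hZC
  have hfin : ι.range.index ≠ 0 := by
    rw [Subgroup.index_eq_card]; exact Nat.card_pos.ne'
  tfae_have 3 → 1 := by
    intro h3
    have hc : IsMulCommutative H := Subgroup.le_centralizer_iff_isMulCommutative.mp h3.le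
    refine ⟨hc, fun H' hH' hle => le_antisymm ?_ hle⟩
    calc H' ≤ Subgroup.centralizer (H' : Set Γ) :=
          Subgroup.le_centralizer_iff_isMulCommutative.mpr hH'
      _ ≤ Subgroup.centralizer (H : Set Γ) := Subgroup.centralizer_le hle
      _ = H := h3.symm
  tfae_have 1 → 3 := by
    rintro ⟨hc, hmax⟩
    have hle : H ≤ Subgroup.centralizer (H : Set Γ) :=
      Subgroup.le_centralizer_iff_isMulCommutative.mpr hc
    refine le_antisymm hle ?_
    intro g hg
    have hcl : IsMulCommutative (Subgroup.closure ((H : Set Γ) ∪ {g})) := by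
      apply Subgroup.isMulCommutative_closure
      rintro x (hx | hx) y (hy | hy)
      · exact (hle hx y hy).symm
      · rw [Set.mem_singleton_iff] at hy; subst hy
        exact hg x hx
      · rw [Set.mem_singleton_iff] at hx; subst hx
        exact (hg y hy).symm
      · rw [Set.mem_singleton_iff] at hx hy; subst hx; subst hy; rfl
    have := hmax _ hcl (fun x hx => Subgroup.subset_closure (Or.inl hx))
    rw [← this]
    exact Subgroup.subset_closure (Or.inr rfl)
  tfae_have 3 → 2 := by
    intro h3
    refine ⟨Subgroup.le_centralizer_iff_isMulCommutative.mp h3.le, ?_⟩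
    rw [← hidx, ← h3, sq]
  tfae_have 2 → 3 := by
    rintro ⟨hc, hsq⟩
    have hle : H ≤ Subgroup.centralizer (H : Set Γ) :=
      Subgroup.le_centralizer_iff_isMulCommutative.mpr hc
    have hne : ι.range.relIndex H ≠ 0 := by
      intro h0; rw [h0] at hsq; exact hfin (by rw [← hsq]; simp)
    have h1 : ι.range.relIndex (Subgroup.centralizer (H : Set Γ)) = ι.range.relIndex H := by
      have : ι.range.relIndex (Subgroup.centralizer (H : Set Γ)) * ι.range.relIndex H =
          ι.range.relIndex H * ι.range.relIndex H := by rw [hidx, ← hsq, sq]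
      exact Nat.eq_of_mul_eq_mul_right (Nat.pos_of_ne_zero hne) this
    have h2 := Subgroup.relIndex_mul_relIndex _ _ _ hH hle
    rw [h1] at h2
    have h3 : H.relIndex (Subgroup.centralizer (H : Set Γ)) = 1 := by
      have : ι.range.relIndex H * H.relIndex (Subgroup.centralizer (H : Set Γ)) =
          ι.range.relIndex H * 1 := by rw [h2, mul_one]
      exact Nat.eq_of_mul_eq_mul_left (Nat.pos_of_ne_zero hne) this
    exact le_antisymm hle (Subgroup.relIndex_eq_one.mp h3)
  tfae_finish


/-- For the group of k-points of a non-degenerate theta group with constant K, let k be an algebraically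
closed field and Γ a group given with an injective homomorphism ι from kˣ onto the centre of Γ such
that K = Γ/ι(kˣ) is finite and commutative (all commutators lie in ι(kˣ)) of order prime to the
characteristic exponent of k — the group of k-points of a non-degenerate theta group 1 → G_m → G → K
→ 1 with rank(K) prime to char(k). Subgroups of K correspond to subgroups H of Γ containing ι(kˣ);
such an H is totally isotropic for the commutator pairing exactly when it is commutative, and its
orthogonal corresponds to the centralizer of H. For a subgroup H ⊇ ι(kˣ) the following are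
equivalent: (i) H is commutative and maximal among commutative subgroups of Γ; (ii) H is commutative
and [H : ι(kˣ)]² = [Γ : ι(kˣ)]; (iii) H is its own centralizer. (The published lemma is for an
arbitrary non-degenerate theta group scheme, where (iii) ⇔ (ii) ⇒ (i) always and (i) ⇒ (iii) needs k
algebraically closed; this row is the case of the group of k-points with K constant.) -/
theorem result
    (k : Type u) [Field k] [IsAlgClosed k]
    (Γ : Type u) [Group Γ] (ι : kˣ →* Γ) (hι : Function.Injective ι)
    (hcent : ι.range = Subgroup.center Γ) (hcomm : commutator Γ ≤ ι.range)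
    [Finite (Γ ⧸ ι.range)] (hcop : (Nat.card (Γ ⧸ ι.range)).Coprime (ringExpChar k))
    (H : Subgroup Γ) (hH : ι.range ≤ H) :
    List.TFAE [
      IsMulCommutative H ∧ ∀ H' : Subgroup Γ, IsMulCommutative H' → H ≤ H' → H' = H,
      IsMulCommutative H ∧ (ι.range.relIndex H) ^ 2 = ι.range.index,
      H = Subgroup.centralizer (H : Set Γ)] := by
  exact result' k Γ ι hι hcent hcomm hcop H hH

end Groth.Agent.S17512
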