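import Groth.Statements.S17517
import Mathlib
-- import your own Groth.Agent.* helpers here

set_option autoImplicit false
universe u
open GIT

namespace Groth.Agent.S17517

open Finset
/-- A rational linear system with a real solution has a rational solution. -/
theorem rat_sol_of_real_sol {α β : Type*} [Fintype α] [Fintype β] [DecidableEq α] [DecidableEq β]
    (T : β → α → ℚ) (y : β → ℚ) (z : α → ℝ)
    (h : ∀ i, ∑ j, (T i j : ℝ) * z j = y i) : ∃ z' : α → ℚ, ∀ i, ∑ j, T i j * z' j = y i := by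
  let f : (α → ℚ) →ₗ[ℚ] (β → ℚ) := Matrix.mulVecLin (Matrix.of T)
  by_cases hy : y ∈ LinearMap.range f
  · obtain ⟨z', hz'⟩ := hy
    refine ⟨z', fun i => ?_⟩
    have := congrFun hz' i
    simpa [f, Matrix.mulVec, dotProduct] using this
  · exfalso
    obtain ⟨φ, hφy, hφ⟩ := Submodule.exists_dual_map_eq_bot_of_notMem hy inferInstance
    have hφf : ∀ z', φ (f z') = 0 := by
      intro z'
      have : φ (f z') ∈ (LinearMap.range f).map φ := ⟨f z', ⟨z', rfl⟩, rfl⟩
      rw [hφ] at this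
      simpa using this
    set w : β → ℚ := fun i => φ (Pi.single i 1) with hw
    have hφv : ∀ v : β → ℚ, φ v = ∑ i, v i * w i := by
      intro v
      rw [LinearMap.pi_apply_eq_sum_univ φ v]
      refine Finset.sum_congr rfl fun i _ => ?_
      rw [smul_eq_mul, hw]
      congr 2
      ext j
      simp [Pi.single_apply, eq_comm]
    have hcol : ∀ j, ∑ i, T i j * w i = 0 := by
      intro j
      have := hφf (Pi.single j 1)
      rw [hφv] at this
      simpa [f, Matrix.mulVec, dotProduct, Pi.single_apply] using this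
    have h1 : (∑ i, (y i : ℝ) * (w i : ℝ)) = 0 := by
      calc (∑ i, (y i : ℝ) * (w i : ℝ)) = ∑ i, (∑ j, (T i j : ℝ) * z j) * (w i : ℝ) := by
            refine Finset.sum_congr rfl fun i _ => ?_
            rw [h i]
        _ = ∑ j, z j * ∑ i, (T i j : ℝ) * (w i : ℝ) := by
            simp only [Finset.sum_mul, Finset.mul_sum]
            rw [Finset.sum_comm]
            refine Finset.sum_congr rfl fun j _ => Finset.sum_congr rfl fun i _ => ?_
            ring
        _ = 0 := by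
            refine Finset.sum_eq_zero fun j _ => ?_
            have := hcol j
            have h2 : (∑ i, (T i j : ℝ) * (w i : ℝ)) = ((∑ i, T i j * w i : ℚ) : ℝ) := by
              push_cast; rfl
            rw [h2, this]; simp
    apply hφy
    rw [hφv]
    have : ((∑ i, y i * w i : ℚ) : ℝ) = 0 := by push_cast; exact h1
    exact_mod_cast this


section
variable {E : Type u} [NormedAddCommGroup E] [InnerProductSpace ℝ E]

/-- the minimum of finitely many linear functionals -/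
noncomputable def fmin (F : Finset (Module.Dual ℝ E)) (hF : F.Nonempty) (v : E) : ℝ :=
  F.inf' hF (fun f => f v)

theorem fmin_le (F : Finset (Module.Dual ℝ E)) (hF : F.Nonempty) (v : E) {f : Module.Dual ℝ E}
    (hf : f ∈ F) : fmin F hF v ≤ f v := Finset.inf'_le _ hf

theorem le_fmin_iff (F : Finset (Module.Dual ℝ E)) (hF : F.Nonempty) (v : E) (c : ℝ) :
    c ≤ fmin F hF v ↔ ∀ f ∈ F, c ≤ f v := Finset.le_inf'_iff _ _

theorem fmin_smul (F : Finset (Module.Dual ℝ E)) (hF : F.Nonempty) (v : E) {c : ℝ} (hc : 0 ≤ c) :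
    fmin F hF (c • v) = c * fmin F hF v := by
  apply le_antisymm
  · obtain ⟨f, hf, hfe⟩ := Finset.exists_mem_eq_inf' hF (fun f => f v)
    calc fmin F hF (c • v) ≤ f (c • v) := fmin_le F hF _ hf
      _ = c * fmin F hF v := by rw [map_smul, smul_eq_mul]; unfold fmin; rw [hfe]
  · rw [le_fmin_iff]
    intro f hf
    rw [map_smul, smul_eq_mul]
    exact mul_le_mul_of_nonneg_left (fmin_le F hF v hf) hc

theorem fmin_add_ge (F : Finset (Module.Dual ℝ E)) (hF : F.Nonempty) (v w : E) :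
    fmin F hF v + fmin F hF w ≤ fmin F hF (v + w) := by
  rw [le_fmin_iff]
  intro f hf
  rw [map_add]
  exact add_le_add (fmin_le F hF v hf) (fmin_le F hF w hf)

theorem fmin_zero (F : Finset (Module.Dual ℝ E)) (hF : F.Nonempty) : fmin F hF 0 = 0 := by
  have := fmin_smul F hF (0 : E) (le_refl (0:ℝ))
  simpa using this

theorem fmin_continuous [FiniteDimensional ℝ E] (F : Finset (Module.Dual ℝ E)) (hF : F.Nonempty) :
    Continuous (fmin F hF) := by
  unfold fmin
  apply Continuous.finset_inf'_apply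
  intro f _
  exact LinearMap.continuous_of_finiteDimensional f

/-- Part A: existence of the maximum and uniqueness of the optimal ray. -/
theorem exists_optimal [FiniteDimensional ℝ E] (F G : Finset (Module.Dual ℝ E)) (hF : F.Nonempty)
    (hG : G.Nonempty) (hpos : ∃ v : E, 0 ≤ fmin F hF v ∧ 0 < fmin G hG v) :
    ∃ (M : ℝ) (u : E), 0 < M ∧ ‖u‖ = 1 ∧ 0 ≤ fmin F hF u ∧ fmin G hG u = M ∧
      (∀ v : E, v ≠ 0 → 0 ≤ fmin F hF v → fmin G hG v / ‖v‖ ≤ M) ∧
      (∀ v : E, v ≠ 0 → 0 ≤ fmin F hF v → fmin G hG v / ‖v‖ = M → v = ‖v‖ • u) := by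
  obtain ⟨v₁, hv₁F, hv₁G⟩ := hpos
  have hv₁0 : v₁ ≠ 0 := by rintro rfl; rw [fmin_zero] at hv₁G; exact lt_irrefl _ hv₁G
  let K : Set E := Metric.sphere 0 1 ∩ {v | 0 ≤ fmin F hF v}
  have hKc : IsCompact K :=
    (isCompact_sphere 0 1).inter_right (isClosed_le continuous_const (fmin_continuous F hF))
  have hnorm : ∀ v : E, v ≠ 0 → ‖(‖v‖⁻¹ • v)‖ = 1 := fun v hv => by
    rw [norm_smul, norm_inv, norm_norm, inv_mul_cancel₀ (norm_ne_zero_iff.mpr hv)]
  have hmemK : ∀ v : E, v ≠ 0 → 0 ≤ fmin F hF v → ‖v‖⁻¹ • v ∈ K := fun v hv hvF => by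
    refine ⟨by simp [hnorm v hv], ?_⟩
    show 0 ≤ fmin F hF _
    rw [fmin_smul _ _ _ (by positivity)]; positivity
  obtain ⟨u, huK, humax⟩ := hKc.exists_isMaxOn ⟨_, hmemK v₁ hv₁0 hv₁F⟩
    (fmin_continuous G hG).continuousOn
  have hu1 : ‖u‖ = 1 := by simpa using huK.1
  have huF : 0 ≤ fmin F hF u := huK.2
  have hdiv : ∀ v : E, v ≠ 0 → fmin G hG (‖v‖⁻¹ • v) = fmin G hG v / ‖v‖ := fun v hv => by
    rw [fmin_smul _ _ _ (by positivity), div_eq_inv_mul]
  have hle : ∀ v : E, v ≠ 0 → 0 ≤ fmin F hF v → fmin G hG v / ‖v‖ ≤ fmin G hG u := by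
    intro v hv hvF
    rw [← hdiv v hv]
    exact humax (hmemK v hv hvF)
  have hMpos : 0 < fmin G hG u :=
    lt_of_lt_of_le (div_pos hv₁G (norm_pos_iff.mpr hv₁0)) (hle v₁ hv₁0 hv₁F)
  refine ⟨fmin G hG u, u, hMpos, hu1, huF, rfl, hle, ?_⟩
  intro v hv hvF hvM
  set w := ‖v‖⁻¹ • v with hw
  have hw1 : ‖w‖ = 1 := hnorm v hv
  have hwF : 0 ≤ fmin F hF w := (hmemK v hv hvF).2
  have hwG : fmin G hG w = fmin G hG u := by rw [hw, hdiv v hv, hvM]
  have hwu : w = u := by
    by_contra hne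
    have hray : ¬ SameRay ℝ u w := by
      rw [sameRay_iff_of_norm_eq (by rw [hu1, hw1])]
      exact fun h => hne h.symm
    have hlt : ‖u + w‖ < 2 := by
      have := norm_add_lt_of_not_sameRay hray
      rw [hu1, hw1] at this; linarith
    have hsG : 2 * fmin G hG u ≤ fmin G hG (u + w) := by
      have := fmin_add_ge G hG u w
      rw [hwG] at this; linarith
    have hs0 : u + w ≠ 0 := by
      intro h0
      rw [h0, fmin_zero] at hsG
      linarith
    have hsF : 0 ≤ fmin F hF (u + w) := le_trans (add_nonneg huF hwF) (fmin_add_ge F hF u w)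
    have h1 := hle (u + w) hs0 hsF
    rw [div_le_iff₀ (norm_pos_iff.mpr hs0)] at h1
    nlinarith
  rw [← hwu, hw, smul_smul, mul_inv_cancel₀ (norm_ne_zero_iff.mpr hv), one_smul]

/-- Part C: lattice points on a ray are the positive multiples of a primitive one. -/
theorem lattice_ray (L : Submodule ℤ E)
    (hint : ∀ x ∈ L, ∀ y ∈ L, ∃ n : ℤ, inner ℝ x y = (n : ℝ))
    (u : E) (hu : ‖u‖ = 1) (c : ℝ) (hc : 0 < c) (hcu : c • u ∈ L) :
    ∃ t₀ : ℝ, 0 < t₀ ∧ t₀ • u ∈ L ∧ ∀ t : ℝ, 0 < t → t • u ∈ L → ∃ n : ℤ, 0 < n ∧ t = n * t₀ := by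
  classical
  have hsq : ∀ t : ℝ, 0 < t → t • u ∈ L → ∃ n : ℕ, 0 < n ∧ t ^ 2 = n := by
    intro t ht htu
    obtain ⟨n, hn⟩ := hint _ htu _ htu
    rw [real_inner_self_eq_norm_sq, norm_smul, hu, mul_one, Real.norm_eq_abs, sq_abs] at hn
    have hnpos : (0 : ℝ) < n := by rw [← hn]; positivity
    have hnpos' : 0 < n := by exact_mod_cast hnpos
    refine ⟨n.toNat, by omega, ?_⟩
    rw [hn]
    have : ((n.toNat : ℤ) : ℝ) = (n : ℝ) := by rw [Int.toNat_of_nonneg hnpos'.le]
    exact_mod_cast this.symm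
  let P : ℕ → Prop := fun n => ∃ t : ℝ, 0 < t ∧ t • u ∈ L ∧ t ^ 2 = n
  have hP : ∃ n, P n := by
    obtain ⟨n, _, hn⟩ := hsq c hc hcu
    exact ⟨n, c, hc, hcu, hn⟩
  obtain ⟨t₀, ht₀, ht₀u, ht₀n⟩ := Nat.find_spec hP
  have hmin : ∀ t : ℝ, 0 < t → t • u ∈ L → t₀ ≤ t := by
    intro t ht htu
    obtain ⟨n, _, hn⟩ := hsq t ht htu
    have h1 : Nat.find hP ≤ n := Nat.find_min' hP ⟨t, ht, htu, hn⟩
    have h2 : t₀ ^ 2 ≤ t ^ 2 := by rw [ht₀n, hn]; exact_mod_cast h1
    exact (sq_le_sq₀ ht₀.le ht.le).mp h2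
  refine ⟨t₀, ht₀, ht₀u, ?_⟩
  intro t ht htu
  set q : ℤ := ⌊t / t₀⌋ with hq
  have hq1 : (q : ℝ) ≤ t / t₀ := Int.floor_le _
  have hq2 : t / t₀ < q + 1 := Int.lt_floor_add_one _
  have hq1' : (q : ℝ) * t₀ ≤ t := by rwa [le_div_iff₀ ht₀] at hq1
  have hq2' : t < (q + 1) * t₀ := by rwa [div_lt_iff₀ ht₀] at hq2
  have hr : (t - q * t₀) • u ∈ L := by
    have : (t - q * t₀) • u = t • u - q • (t₀ • u) := by
      rw [sub_smul, mul_smul, Int.cast_smul_eq_zsmul]
    rw [this]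
    exact L.sub_mem htu (L.smul_mem q ht₀u)
  have hr0 : t - q * t₀ = 0 := by
    by_contra hne
    have hpos : 0 < t - q * t₀ := lt_of_le_of_ne (by linarith) (Ne.symm hne)
    have := hmin _ hpos hr
    linarith
  have htq : t = q * t₀ := by linarith
  refine ⟨q, ?_, htq⟩
  have : (0 : ℝ) < q := by
    by_contra hle
    push Not at hle
    have : (q : ℝ) * t₀ ≤ 0 := mul_nonpos_of_nonpos_of_nonneg hle ht₀.le
    linarith
  exact_mod_cast this

/-- Part B: a point pinned down by integral functionals and orthogonality is rational. -/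
theorem rational_point [FiniteDimensional ℝ E] (L : Submodule ℤ E) [DiscreteTopology L]
    [IsZLattice ℝ L]
    (hint : ∀ x ∈ L, ∀ y ∈ L, ∃ n : ℤ, inner ℝ x y = (n : ℝ))
    (A : Finset (Module.Dual ℝ E)) (hAi : ∀ a ∈ A, ∀ x ∈ L, ∃ n : ℤ, a x = (n : ℝ))
    (p : E) (hval : ∀ a ∈ A, ∃ r : ℚ, a p = (r : ℝ))
    (hperp : ∀ w : E, (∀ a ∈ A, a w = 0) → inner ℝ p w = 0) :
    ∃ D : ℕ, 0 < D ∧ (D : ℝ) • p ∈ L := by
  classical
  have : Module.Finite ℤ L := ZLattice.module_finite ℝ L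
  have : Module.Free ℤ L := ZLattice.module_free ℝ L
  let b := Module.Free.chooseBasis ℤ L
  let ι := Module.Free.ChooseBasisIndex ℤ L
  let B : Module.Basis ι ℝ E := b.ofZLatticeBasis ℝ L
  have hBe : ∀ i, B i = (b i : E) := fun i => b.ofZLatticeBasis_apply ℝ L i
  have heL : ∀ i, B i ∈ L := fun i => by rw [hBe]; exact (b i).2
  choose Qz hQz using fun i j => hint (B i) (heL i) (B j) (heL j)
  choose az haz using fun (a : A) (j : ι) => hAi a.1 a.2 (B j) (heL j)
  choose r hr using fun (a : A) => hval a.1 a.2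
  have hK : innerₛₗ ℝ p ∈ Submodule.span ℝ (Set.range fun a : A => (a.1 : Module.Dual ℝ E)) := by
    apply mem_span_of_iInf_ker_le_ker
    intro w hw
    rw [Submodule.mem_iInf] at hw
    rw [LinearMap.mem_ker, innerₛₗ_apply_apply]
    exact hperp w (fun a ha => by simpa using hw ⟨a, ha⟩)
  obtain ⟨lam, hlam⟩ := (Submodule.mem_span_range_iff_exists_fun ℝ).mp hK
  have hlam' : ∀ w : E, inner ℝ p w = ∑ a : A, lam a * a.1 w := by
    intro w
    rw [← innerₛₗ_apply_apply (𝕜 := ℝ), ← hlam]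
    simp
  -- coordinates of p
  set c : ι → ℝ := fun j => B.repr p j with hc
  have hp : p = ∑ j, c j • B j := (B.sum_repr p).symm
  -- the linear system
  let T : (A ⊕ ι) → (ι ⊕ A) → ℚ := fun row col =>
    match row, col with
    | Sum.inl a, Sum.inl j => az a j
    | Sum.inl _, Sum.inr _ => 0
    | Sum.inr i, Sum.inl j => Qz i j
    | Sum.inr i, Sum.inr a => - az a i
  let y : (A ⊕ ι) → ℚ := fun row =>
    match row with
    | Sum.inl a => r a
    | Sum.inr _ => 0
  let z : (ι ⊕ A) → ℝ := Sum.elim c lam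
  have hsys : ∀ row, ∑ col, (T row col : ℝ) * z col = y row := by
    intro row
    rw [Fintype.sum_sum_type]
    rcases row with a | i
    · simp only [T, y, z, Sum.elim_inl, Sum.elim_inr, Rat.cast_zero, zero_mul, Finset.sum_const_zero,
        add_zero, Rat.cast_intCast]
      rw [← hr a]
      conv_rhs => rw [hp]
      rw [map_sum]
      refine Finset.sum_congr rfl fun j _ => ?_
      rw [map_smul, smul_eq_mul, haz a j, mul_comm]
    · simp only [T, y, z, Sum.elim_inl, Sum.elim_inr, Rat.cast_zero, Rat.cast_intCast, Rat.cast_neg]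
      have h1 : inner ℝ p (B i) = ∑ j, (Qz i j : ℝ) * c j := by
        conv_lhs => rw [hp]
        rw [sum_inner]
        refine Finset.sum_congr rfl fun j _ => ?_
        rw [real_inner_smul_left, real_inner_comm, hQz i j, mul_comm]
      have h2 := hlam' (B i)
      rw [h1] at h2
      rw [h2]
      rw [← Finset.sum_add_distrib]
      refine Finset.sum_eq_zero fun a _ => ?_
      rw [haz a i]; ring
  obtain ⟨z', hz'⟩ := rat_sol_of_real_sol T y z hsys
  -- the rational point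
  set p' : E := ∑ j, ((z' (Sum.inl j) : ℚ) : ℝ) • B j with hp'
  have hap' : ∀ a : A, a.1 p' = r a := by
    intro a
    have := hz' (Sum.inl a)
    rw [Fintype.sum_sum_type] at this
    simp only [T, y, zero_mul, Finset.sum_const_zero, add_zero] at this
    rw [hp', map_sum, ← this]
    push_cast
    refine Finset.sum_congr rfl fun j _ => ?_
    rw [map_smul, smul_eq_mul, haz a j, mul_comm]
  have hinner' : ∀ w : E, inner ℝ p' w = ∑ a : A, ((z' (Sum.inr a) : ℚ) : ℝ) * a.1 w := by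
    intro w
    have hlin : innerₛₗ ℝ p' = ∑ a : A, ((z' (Sum.inr a) : ℚ) : ℝ) • (a.1 : Module.Dual ℝ E) := by
      apply B.ext
      intro i
      rw [innerₛₗ_apply_apply]
      have := hz' (Sum.inr i)
      rw [Fintype.sum_sum_type] at this
      simp only [T, y] at this
      have h3 : inner ℝ p' (B i) = ∑ j, (Qz i j : ℝ) * ((z' (Sum.inl j) : ℚ) : ℝ) := by
        rw [hp', sum_inner]
        refine Finset.sum_congr rfl fun j _ => ?_
        rw [real_inner_smul_left, real_inner_comm, hQz i j, mul_comm]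
      rw [h3]
      have h4 : (∑ j, (Qz i j : ℝ) * ((z' (Sum.inl j) : ℚ) : ℝ)) =
          ∑ a : A, (az a i : ℝ) * ((z' (Sum.inr a) : ℚ) : ℝ) := by
        have h5 : ((∑ j, (Qz i j : ℚ) * z' (Sum.inl j) + ∑ a : A, (-(az a i : ℚ)) * z' (Sum.inr a) : ℚ) : ℝ)
            = 0 := by rw [this]; simp
        push_cast at h5
        simp only [neg_mul, Finset.sum_neg_distrib] at h5
        linarith
      rw [h4]
      simp only [LinearMap.coe_sum, Finset.sum_apply, LinearMap.smul_apply, smul_eq_mul]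
      refine Finset.sum_congr rfl fun a _ => ?_
      rw [haz a i, mul_comm]
    rw [← innerₛₗ_apply_apply (𝕜 := ℝ), hlin]
    simp
  have hpp' : p = p' := by
    have hd : ∀ a : A, a.1 (p - p') = 0 := fun a => by rw [map_sub, hr a, hap' a, sub_self]
    have h0 : inner ℝ (p - p') (p - p') = (0 : ℝ) := by
      rw [inner_sub_left, hlam', hinner']
      simp [hd]
    rw [inner_self_eq_zero] at h0
    exact sub_eq_zero.mp h0
  -- clear denominators
  refine ⟨∏ j, (z' (Sum.inl j)).den, Finset.prod_pos fun j _ => (z' (Sum.inl j)).den_pos, ?_⟩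
  have hint' : ∀ j, ∃ m : ℤ, ((∏ j, (z' (Sum.inl j)).den : ℕ) : ℝ) * ((z' (Sum.inl j) : ℚ) : ℝ) = m := by
    intro j
    obtain ⟨k, hk⟩ := Finset.dvd_prod_of_mem (fun j => (z' (Sum.inl j)).den) (Finset.mem_univ j)
    refine ⟨k * (z' (Sum.inl j)).num, ?_⟩
    rw [hk]
    have hq : ((z' (Sum.inl j) : ℚ) : ℝ) = ((z' (Sum.inl j)).num : ℝ) / ((z' (Sum.inl j)).den : ℝ) := by
      conv_lhs => rw [← Rat.num_div_den (z' (Sum.inl j))]
      push_cast; rfl
    rw [hq]
    have hden : ((z' (Sum.inl j)).den : ℝ) ≠ 0 := by exact_mod_cast (z' (Sum.inl j)).den_nz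
    push_cast
    field_simp
  choose mz hmz using hint'
  have : ((∏ j, (z' (Sum.inl j)).den : ℕ) : ℝ) • p = ∑ j, (mz j) • (b j : E) := by
    rw [hpp', hp', Finset.smul_sum]
    refine Finset.sum_congr rfl fun j _ => ?_
    rw [smul_smul, hmz j, hBe, Int.cast_smul_eq_zsmul]
  rw [this]
  exact L.sum_mem fun j _ => L.smul_mem _ (b j).2

end

/-- Let `E` be a finite-dimensional real inner product space and `L` a full lattice in `E` (a discrete
subgroup spanning `E`) on which the inner product is integer valued; let `F` and `G` be nonempty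
finite sets of real linear functionals on `E` taking integer values on `L`, with `f_min v = min_{f ∈
F} f v` and `g_min v = min_{g ∈ G} g v`. If some vector `v` has `f_min v ≥ 0` and `g_min v > 0`,
then on the set `C_F` of nonzero `v` with `f_min v ≥ 0` the function `v ↦ g_min v / ‖v‖` attains a
greatest value `M`, and there is exactly one lattice vector `v₀ ∈ C_F` with `g_min v₀ / ‖v₀‖ = M` of
which every lattice vector `v ∈ C_F` with `g_min v / ‖v‖ = M` is an integer multiple. -/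
theorem result
    (E : Type u) [NormedAddCommGroup E] [InnerProductSpace ℝ E] [FiniteDimensional ℝ E]
    (L : Submodule ℤ E) [DiscreteTopology L] [IsZLattice ℝ L]
    (hint : ∀ x ∈ L, ∀ y ∈ L, ∃ n : ℤ, inner ℝ x y = (n : ℝ))
    (F G : Finset (Module.Dual ℝ E)) (hF : F.Nonempty) (hG : G.Nonempty)
    (hFi : ∀ f ∈ F, ∀ x ∈ L, ∃ n : ℤ, f x = (n : ℝ)) (hGi : ∀ g ∈ G, ∀ x ∈ L, ∃ n : ℤ, g x = (n : ℝ))
    (hpos : ∃ v : E, 0 ≤ F.inf' hF (fun f => f v) ∧ 0 < G.inf' hG (fun g => g v)) :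
    ∃ M : ℝ, IsGreatest ((fun v => G.inf' hG (fun g => g v) / ‖v‖) ''
        {v : E | v ≠ 0 ∧ 0 ≤ F.inf' hF (fun f => f v)}) M ∧
      ∃! v₀ : E, v₀ ∈ L ∧ v₀ ≠ 0 ∧ 0 ≤ F.inf' hF (fun f => f v₀) ∧
        G.inf' hG (fun g => g v₀) / ‖v₀‖ = M ∧
        ∀ v ∈ L, v ≠ 0 → 0 ≤ F.inf' hF (fun f => f v) → G.inf' hG (fun g => g v) / ‖v‖ = M →
          ∃ n : ℤ, v = n • v₀ := by
  classical
  obtain ⟨M, u, hM, hu1, huF, huG, hle, huniq⟩ := exists_optimal F G hF hG hpos
  have hu0 : u ≠ 0 := by intro h; rw [h, norm_zero] at hu1; exact zero_ne_one hu1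
  -- facts about positive multiples of u
  have hray : ∀ t : ℝ, 0 < t → t • u ≠ 0 ∧ 0 ≤ fmin F hF (t • u) ∧ ‖t • u‖ = t ∧
      fmin G hG (t • u) / ‖t • u‖ = M := by
    intro t ht
    have hn : ‖t • u‖ = t := by rw [norm_smul, hu1, mul_one, Real.norm_eq_abs, abs_of_pos ht]
    refine ⟨smul_ne_zero ht.ne' hu0, ?_, hn, ?_⟩
    · rw [fmin_smul _ _ _ ht.le]; positivity
    · rw [hn, fmin_smul _ _ _ ht.le, huG, mul_div_assoc, mul_comm, div_mul_cancel₀ _ ht.ne']
  refine ⟨M, ⟨⟨u, ⟨hu0, huF⟩, ?_⟩, ?_⟩, ?_⟩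
  · show fmin G hG u / ‖u‖ = M
    rw [hu1, div_one, huG]
  · rintro x ⟨v, ⟨hv0, hvF⟩, rfl⟩
    exact hle v hv0 hvF
  -- rationality
  obtain ⟨p, hp⟩ : ∃ p : E, p = M⁻¹ • u := ⟨_, rfl⟩
  have hMinv : 0 < M⁻¹ := inv_pos.mpr hM
  obtain ⟨hp0, hpF, hpn, hpG⟩ := hray M⁻¹ hMinv
  rw [← hp] at hp0 hpF hpn hpG
  have hpG1 : fmin G hG p = 1 := by
    rw [hp, fmin_smul _ _ _ hMinv.le, huG, inv_mul_cancel₀ hM.ne']
  have hminP : ∀ v : E, (∀ f ∈ F, 0 ≤ f v) → (∀ g ∈ G, 1 ≤ g v) → ‖p‖ ≤ ‖v‖ := by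
    intro v hvF hvG
    have hv0 : v ≠ 0 := by
      obtain ⟨g, hg⟩ := hG
      intro h0
      have := hvG g hg
      rw [h0, map_zero] at this
      linarith
    have h1 : 0 ≤ fmin F hF v := (le_fmin_iff F hF v 0).mpr hvF
    have h2 : 1 ≤ fmin G hG v := (le_fmin_iff G hG v 1).mpr hvG
    have h3 := hle v hv0 h1
    have hvn : 0 < ‖v‖ := norm_pos_iff.mpr hv0
    rw [div_le_iff₀ hvn] at h3
    rw [hpn]
    rw [inv_le_iff_one_le_mul₀' hM]
    linarith
  let A : Finset (Module.Dual ℝ E) := (F.filter fun f => f p = 0) ∪ (G.filter fun g => g p = 1)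
  have hA : ∀ a, a ∈ A ↔ (a ∈ F ∧ a p = 0) ∨ (a ∈ G ∧ a p = 1) := by
    intro a; simp [A, Finset.mem_union, Finset.mem_filter]
  have hAi : ∀ a ∈ A, ∀ x ∈ L, ∃ n : ℤ, a x = (n : ℝ) := by
    intro a ha x hx
    rcases (hA a).mp ha with ⟨h, _⟩ | ⟨h, _⟩
    · exact hFi a h x hx
    · exact hGi a h x hx
  have hval : ∀ a ∈ A, ∃ r : ℚ, a p = (r : ℝ) := by
    intro a ha
    rcases (hA a).mp ha with ⟨_, h⟩ | ⟨_, h⟩
    · exact ⟨0, by rw [h]; simp⟩
    · exact ⟨1, by rw [h]; simp⟩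
  have hperp_le : ∀ w : E, (∀ a ∈ A, a w = 0) → inner ℝ p w ≤ 0 := by
    intro w hw
    by_contra hs
    push Not at hs
    -- eventually p + ε w is feasible
    have hev : ∀ᶠ ε : ℝ in nhds 0, (∀ f ∈ F, 0 ≤ f (p + ε • w)) ∧ (∀ g ∈ G, 1 ≤ g (p + ε • w)) := by
      apply Filter.Eventually.and
      · rw [Filter.eventually_all_finset]
        intro f hf
        by_cases hfp : f p = 0
        · refine Filter.Eventually.of_forall fun ε => ?_
          rw [map_add, map_smul, hw f ((hA f).mpr (Or.inl ⟨hf, hfp⟩)), hfp]; simp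
        · have hfpos : 0 < f p := lt_of_le_of_ne (le_trans hpF (fmin_le F hF p hf)) (Ne.symm hfp)
          have hcont : Continuous fun ε : ℝ => f (p + ε • w) := by
            have : (fun ε : ℝ => f (p + ε • w)) = fun ε : ℝ => f p + ε * f w := by
              ext ε; rw [map_add, map_smul, smul_eq_mul]
            rw [this]; fun_prop
          have h0 : (fun ε : ℝ => f (p + ε • w)) 0 = f p := by simp
          have := hcont.continuousAt.eventually (lt_mem_nhds (a := (0:ℝ)) (by rw [h0]; exact hfpos))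
          exact this.mono fun ε hε => hε.le
      · rw [Filter.eventually_all_finset]
        intro g hg
        by_cases hgp : g p = 1
        · refine Filter.Eventually.of_forall fun ε => ?_
          rw [map_add, map_smul, hw g ((hA g).mpr (Or.inr ⟨hg, hgp⟩)), hgp]; simp
        · have hgpos : 1 < g p := lt_of_le_of_ne (hpG1 ▸ fmin_le G hG p hg) (Ne.symm hgp)
          have hcont : Continuous fun ε : ℝ => g (p + ε • w) := by
            have : (fun ε : ℝ => g (p + ε • w)) = fun ε : ℝ => g p + ε * g w := by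
              ext ε; rw [map_add, map_smul, smul_eq_mul]
            rw [this]; fun_prop
          have h0 : (fun ε : ℝ => g (p + ε • w)) 0 = g p := by simp
          have := hcont.continuousAt.eventually (lt_mem_nhds (a := (1:ℝ)) (by rw [h0]; exact hgpos))
          exact this.mono fun ε hε => hε.le
    rw [Metric.eventually_nhds_iff] at hev
    obtain ⟨δ, hδ, hball⟩ := hev
    set s := inner ℝ p w with hs_def
    set ε : ℝ := - min (δ / 2) (s / (‖w‖ ^ 2 + 1)) with hε
    have hmpos : 0 < min (δ / 2) (s / (‖w‖ ^ 2 + 1)) := lt_min (by linarith) (by positivity)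
    have hεneg : ε < 0 := by rw [hε]; linarith
    have hεδ : dist ε 0 < δ := by
      rw [Real.dist_eq, sub_zero, hε, abs_neg, abs_of_pos hmpos]
      exact lt_of_le_of_lt (min_le_left _ _) (by linarith)
    obtain ⟨hfeasF, hfeasG⟩ := hball hεδ
    have hnorm := hminP _ hfeasF hfeasG
    have hsq : ‖p‖ ^ 2 ≤ ‖p + ε • w‖ ^ 2 := by gcongr
    rw [norm_add_sq_real, inner_smul_right, norm_smul, mul_pow, Real.norm_eq_abs, sq_abs] at hsq
    have hε2 : -ε * ‖w‖ ^ 2 ≤ s := by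
      have h1 : -ε ≤ s / (‖w‖ ^ 2 + 1) := by rw [hε, neg_neg]; exact min_le_right _ _
      have h2 : -ε * (‖w‖ ^ 2 + 1) ≤ s := by rwa [le_div_iff₀ (by positivity)] at h1
      nlinarith [sq_nonneg ‖w‖]
    nlinarith [sq_nonneg ‖w‖]
  have hperp : ∀ w : E, (∀ a ∈ A, a w = 0) → inner ℝ p w = 0 := by
    intro w hw
    apply le_antisymm (hperp_le w hw)
    have := hperp_le (-w) (fun a ha => by rw [map_neg, hw a ha, neg_zero])
    rw [inner_neg_right] at this
    linarith
  obtain ⟨D, hD, hDp⟩ := rational_point L hint A hAi p hval hperp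
  have hDM : 0 < (D : ℝ) * M⁻¹ := by positivity
  have hcu : ((D : ℝ) * M⁻¹) • u ∈ L := by rw [mul_smul, ← hp]; exact hDp
  obtain ⟨t₀, ht₀, ht₀u, hgen⟩ := lattice_ray L hint u hu1 _ hDM hcu
  obtain ⟨h0a, h0b, h0c, h0d⟩ := hray t₀ ht₀
  -- every lattice maximiser is a positive multiple
  have hmult : ∀ v ∈ L, v ≠ 0 → 0 ≤ fmin F hF v → fmin G hG v / ‖v‖ = M →
      ∃ n : ℤ, 0 < n ∧ v = n • (t₀ • u) := by
    intro v hvL hv0 hvF hvM
    have hv := huniq v hv0 hvF hvM
    have hvn : 0 < ‖v‖ := norm_pos_iff.mpr hv0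
    obtain ⟨n, hn, hnt⟩ := hgen ‖v‖ hvn (hv ▸ hvL)
    refine ⟨n, hn, ?_⟩
    rw [← Int.cast_smul_eq_zsmul ℝ, smul_smul, ← hnt]
    exact hv
  refine ⟨t₀ • u, ⟨ht₀u, h0a, h0b, h0d, ?_⟩, ?_⟩
  · intro v hvL hv0 hvF hvM
    obtain ⟨n, _, hn⟩ := hmult v hvL hv0 hvF hvM
    exact ⟨n, hn⟩
  · rintro v' ⟨hv'L, hv'0, hv'F, hv'M, hv'gen⟩
    obtain ⟨n, hn, hv'⟩ := hmult v' hv'L hv'0 hv'F hv'M
    obtain ⟨n', hn'⟩ := hv'gen (t₀ • u) ht₀u h0a h0b h0d
    -- t₀ • u = n' • v' = (n' * n) • (t₀ • u)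
    have h1 : ((n' * n : ℤ) : ℝ) • (t₀ • u) = (1 : ℝ) • (t₀ • u) := by
      rw [one_smul]
      conv_rhs => rw [hn', hv']
      rw [Int.cast_smul_eq_zsmul, mul_smul]
    have h2 : ((n' * n : ℤ) : ℝ) = 1 := smul_left_injective ℝ h0a h1
    have h3 : n' * n = 1 := by exact_mod_cast h2
    have h4 : n = 1 := by
      rcases Int.eq_one_or_neg_one_of_mul_eq_one' h3 with ⟨_, h⟩ | ⟨_, h⟩
      · exact h
      · omega
    rw [hv', h4, one_smul]
  

end Groth.Agent.S17517
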