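import Groth.Statements.S17526
import Groth.Agent.Lib.Reynolds38

set_option autoImplicit false
universe u
open GLin

namespace Groth.Agent.S17526

/-- Let `k` be a field, `H` a commutative Hopf algebra of finite type over `k` which is linearly
reductive (every finite-dimensional comodule is semisimple; `G = Spec H` is a linearly reductive
affine group), and `A` a Noetherian commutative `k`-algebra with a coaction of `H` that is an
algebra map (an action of `G` on `Spec A`). Then the ring of invariants `A^G` is Noetherian. (The
published corollary is stated over an algebraically closed field; it is the affine case of a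
statement about good moduli spaces valid over any field, and is stated here over any field.) -/
theorem result
    (k : Type u) [Field k] (H : Type u) [CommRing H] [HopfAlgebra k H] [Algebra.FiniteType k H]
    (hG : HopfRep.IsLinearlyReductive k H)
    (A : Type u) [CommRing A] [Algebra k A] [IsNoetherianRing A]
    [HopfRep.Comod k H A] [GLin.IsCoactAlg k H A] :
    IsNoetherianRing ↥(GLin.invariants k H A) := by
  obtain ⟨E, hE⟩ := Groth.Agent.Lib.Reynolds38.exists_isReynolds hG A
  have hEinv : ∀ a : A, E a ∈ GLin.invariants k H A := fun a => hE.apply_mem a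
  have hEfix : ∀ a ∈ GLin.invariants k H A, E a = a := fun a ha => (hE.2.2 a).2 ha
  have key : ∀ J : Ideal ↥(GLin.invariants k H A),
      Ideal.comap (algebraMap ↥(GLin.invariants k H A) A)
        (Ideal.map (algebraMap ↥(GLin.invariants k H A) A) J) = J := by
    intro J
    refine le_antisymm ?_ Ideal.le_comap_map
    intro x hx
    rw [Ideal.mem_comap] at hx
    have claim : ∀ y ∈ Ideal.map (algebraMap ↥(GLin.invariants k H A) A) J,
        ∀ a : A, ∃ j ∈ J, (j : A) = E (a * y) := by
      intro y hy
      refine Submodule.span_induction ?_ ?_ ?_ ?_ hy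
      · rintro _ ⟨j, hj, rfl⟩ a
        refine ⟨⟨E a, hEinv a⟩ * j, J.mul_mem_left _ hj, ?_⟩
        have := Groth.Agent.Lib.Reynolds38.IsReynolds.map_mul_invariant hG hE a (j : A) j.2
        rw [show (algebraMap ↥(GLin.invariants k H A) A) j = (j : A) from rfl, this]
        rfl
      · intro a
        exact ⟨0, J.zero_mem, by simp⟩
      · intro y z _ _ hy hz a
        obtain ⟨j₁, hj₁, e₁⟩ := hy a
        obtain ⟨j₂, hj₂, e₂⟩ := hz a
        refine ⟨j₁ + j₂, J.add_mem hj₁ hj₂, ?_⟩
        rw [mul_add, map_add, ← e₁, ← e₂]
        rfl
      · intro b y _ hy a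
        obtain ⟨j, hj, e⟩ := hy (a * b)
        refine ⟨j, hj, ?_⟩
        rw [e, smul_eq_mul, mul_assoc]
    obtain ⟨j, hj, e⟩ := claim _ hx 1
    rw [one_mul, show (algebraMap ↥(GLin.invariants k H A) A) x = (x : A) from rfl,
      hEfix _ x.2] at e
    have : j = x := Subtype.ext e
    rw [← this]
    exact hj
  let f : Ideal ↥(GLin.invariants k H A) ↪o Ideal A :=
    OrderEmbedding.ofMapLEIff (Ideal.map (algebraMap ↥(GLin.invariants k H A) A))
      (fun J₁ J₂ => ⟨fun h => by rw [← key J₁, ← key J₂]; exact Ideal.comap_mono h,
        fun h => Ideal.map_mono h⟩)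
  have hA : WellFoundedGT (Ideal A) := isNoetherian_iff'.1 inferInstance
  exact isNoetherian_iff'.2 (f.wellFoundedGT)

end Groth.Agent.S17526
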