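import Groth.Statements.S17530
import Groth.Agent.Lib.Reynolds38
import Mathlib.RingTheory.FiniteType
import Mathlib.RingTheory.Polynomial.Basic

set_option autoImplicit false
universe u
open GLin

namespace Groth.Agent.S17530

/-- Let `k` be a field, `H` a commutative Hopf algebra of finite type over `k` which is linearly
reductive (every finite-dimensional comodule semisimple; `G = Spec H`), `A` a commutative
`k`-algebra of finite type with a coaction of `H` that is an algebra map (an action of `G` on `Spec
A`), and `M` a finitely generated `A`-module with an `H`-coaction compatible with the module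
structure and with the coaction on `A` (a `G`-equivariant coherent module on `Spec A`). Then the
invariants `M^G` form a finitely generated module over the ring of invariants `A^G`. (The published
corollary is stated over an algebraically closed field; it is the affine case of a statement about
good moduli spaces valid over any Noetherian base, and is stated here over any field.) -/
theorem result
    (k : Type u) [Field k] (H : Type u) [CommRing H] [HopfAlgebra k H] [Algebra.FiniteType k H]
    (hG : HopfRep.IsLinearlyReductive k H)
    (A : Type u) [CommRing A] [Algebra k A] [Algebra.FiniteType k A]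
    [HopfRep.Comod k H A] [GLin.IsCoactAlg k H A]
    (M : Type u) [AddCommGroup M] [Module k M] [Module A M] [IsScalarTower k A M] [Module.Finite A M]
    [HopfRep.Comod k H M] [TameAct.IsHopfMod k H A M] :
    ∃ s : Finset M, (↑s : Set M) ⊆ ↑(HopfRep.fixedPts k H M) ∧
      (↑(HopfRep.fixedPts k H M) : Set M) ⊆
        ↑(Submodule.span ↥(GLin.invariants k H A) (↑s : Set M)) := by
  classical
  obtain ⟨EA, hEA⟩ := Groth.Agent.Lib.Reynolds38.exists_isReynolds hG A
  obtain ⟨EM, hEM⟩ := Groth.Agent.Lib.Reynolds38.exists_isReynolds hG M
  haveI : IsNoetherianRing A := Algebra.FiniteType.isNoetherianRing k A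
  haveI : IsNoetherian A M := isNoetherian_of_isNoetherianRing_of_finite A M
  have hfg : (Submodule.span A (HopfRep.fixedPts k H M : Set M)).FG :=
    IsNoetherian.noetherian _
  obtain ⟨s, hs, hsN⟩ := (Submodule.fg_span_iff_fg_span_finset_subset _).1 hfg
  refine ⟨s, hs, ?_⟩
  -- multiplication by an invariant vector is a comodule map
  have hcomod : ∀ m ∈ HopfRep.fixedPts k H M,
      Hoch.IsComodHom H (((LinearMap.lsmul A M).flip m).restrictScalars k) := by
    intro m hm
    have hm' : HopfRep.Comod.coact (k := k) (A := H) m = m ⊗ₜ[k] (1 : H) := hm
    apply LinearMap.ext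
    intro a
    simp only [LinearMap.coe_comp, Function.comp_apply, LinearMap.coe_restrictScalars,
      LinearMap.flip_apply, LinearMap.lsmul_apply]
    rw [TameAct.IsHopfMod.coact_smul (k := k) (A := H), hm']
    generalize HopfRep.Comod.coact (k := k) (A := H) a = t
    induction t using TensorProduct.induction_on with
    | zero => simp
    | add x y hx hy => rw [map_add, LinearMap.add_apply, hx, hy, map_add]
    | tmul b h => simp
  have hEMA : ∀ m ∈ HopfRep.fixedPts k H M, ∀ a : A, EM (a • m) = EA a • m := by
    intro m hm a
    have h := LinearMap.congr_fun
      (Groth.Agent.Lib.Reynolds38.IsReynolds.comp_comm hG hEA hEM (hcomod m hm)) a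
    simpa using h
  have claim : ∀ y ∈ Submodule.span A (↑s : Set M), ∀ a : A,
      EM (a • y) ∈ Submodule.span ↥(GLin.invariants k H A) (↑s : Set M) := by
    intro y hy
    refine Submodule.span_induction ?_ ?_ ?_ ?_ hy
    · intro m hm a
      rw [hEMA m (hs hm) a]
      have : EA a • m = (⟨EA a, hEA.apply_mem a⟩ : ↥(GLin.invariants k H A)) • m := rfl
      rw [this]
      exact Submodule.smul_mem _ _ (Submodule.subset_span hm)
    · intro a
      simp
    · intro y z _ _ hy hz a
      rw [smul_add, map_add]
      exact Submodule.add_mem _ (hy a) (hz a)
    · intro b y _ hy a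
      rw [smul_smul]
      exact hy (a * b)
  intro x hx
  have hx' : x ∈ Submodule.span A (↑s : Set M) := by
    rw [← hsN]
    exact Submodule.subset_span hx
  have := claim x hx' 1
  rw [one_smul, (hEM.2.2 x).2 hx] at this
  exact this

end Groth.Agent.S17530
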