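import Groth.Statements.S17540
import Groth.Agent.Lib.AdicDecaying
-- import your own Groth.Agent.* helpers here

set_option autoImplicit false
universe u v w
open W4c5adicflatcompl
open CAlg

namespace Groth.Agent.S17540

/-- Let A be I-adically complete, M an I-adically complete A-module and m : Z → M a family. The images
of the m z generate M/IM (the span of the family together with IM is all of M) if and only if the
family I-adically generates M: every x in M is the I-adically convergent sum of g z • m z for some
I-adically decaying function g : Z → A. -/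
theorem result {A : Type u} [CommRing A] (I : Ideal A) [IsAdicComplete I A]
    (M : Type v) [AddCommGroup M] [Module A M] [IsAdicComplete I M] (Z : Type w) (m : Z → M) :
    Submodule.span A (Set.range m) ⊔ I • ⊤ = ⊤ ↔
      ∀ x : M, ∃ g : Z → A, g ∈ decaying I Z A ∧
        ∀ n : ℕ, ∃ S : Finset Z,
          (∀ z, z ∉ S → g z • m z ∈ (I ^ n • ⊤ : Submodule A M)) ∧
          x - (∑ z ∈ S, g z • m z) ∈ (I ^ n • ⊤ : Submodule A M) := by
  constructor
  · intro hspan x
    exact Groth.Agent.Lib.AdicDecaying.exists_decaying_hasAdicSum I m hspan x
  · intro h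
    rw [eq_top_iff]
    intro x _
    obtain ⟨g, -, hg⟩ := h x
    obtain ⟨S, -, hS⟩ := hg 1
    rw [pow_one] at hS
    have hx : x = ∑ z ∈ S, g z • m z + (x - ∑ z ∈ S, g z • m z) := by abel
    rw [hx]
    refine Submodule.add_mem_sup (Submodule.sum_mem _ fun z _ => ?_) hS
    exact Submodule.smul_mem _ _ (Submodule.subset_span ⟨z, rfl⟩)

end Groth.Agent.S17540
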