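import Groth.Statements.S17549
import Groth.Agent.Lib.AdicDecaying
-- import your own Groth.Agent.* helpers here

set_option autoImplicit false
universe u
open W4c5adicflatcompl
open CAlg

namespace Groth.Agent.S17549

/-- Over a Noetherian ring A with I-adic completion Â, an A-module P is I-adically projective
(I-adically complete, and every A-linear map from P to the target of a surjection between I-adically
complete modules lifts along that surjection) exactly when P is a retract of some module of
I-adically decaying functions Z → Â: there are a set Z, an A-linear map i from P to the decaying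
functions Z → Â and an A-linear map r back with r ∘ i the identity of P. Test modules, P and Z live
in the universe of A. -/
theorem result {A : Type u} [CommRing A] [IsNoetherianRing A]
    (I : Ideal A) (P : Type u) [AddCommGroup P] [Module A P] :
    IsAdicProjective I P ↔
      ∃ (Z : Type u) (i : P →ₗ[A] decaying I Z (AdicCompletion I A))
        (r : decaying I Z (AdicCompletion I A) →ₗ[A] P), r ∘ₗ i = LinearMap.id := by
  classical
  have hI : I.FG := (isNoetherianRing_iff_ideal_fg A).mp inferInstance I
  have hÂ : IsAdicComplete I (AdicCompletion I A) := AdicCompletion.isAdicComplete hI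
  have hD : ∀ Z : Type u, IsAdicComplete I (decaying I Z (AdicCompletion I A)) := fun Z =>
    Groth.Agent.Lib.AdicDecaying.isAdicComplete_decaying I Z hI
  constructor
  · rintro ⟨hP, hlift⟩
    let r : decaying I P (AdicCompletion I A) →ₗ[A] P :=
      Groth.Agent.Lib.AdicDecaying.ofFamily I hI (fun p : P => p)
    have hr : Function.Surjective r := fun p =>
      ⟨single I p 1, Groth.Agent.Lib.AdicDecaying.ofFamily_single I hI (fun p : P => p) p⟩
    obtain ⟨χ, hχ⟩ := hlift (decaying I P (AdicCompletion I A)) P (hD P) hP r hr LinearMap.id
    exact ⟨P, χ, r, hχ⟩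
  · rintro ⟨Z, i, r, hri⟩
    have := hD Z
    refine ⟨Groth.Agent.Lib.AdicDecaying.isAdicComplete_of_retract I i r hri, ?_⟩
    intro M N _ _ _ _ hM hN φ hφ ψ
    choose m hm using fun z : Z => hφ (ψ (r (single I z 1)))
    let χD : decaying I Z (AdicCompletion I A) →ₗ[A] M :=
      Groth.Agent.Lib.AdicDecaying.ofFamily I hI m
    have hχD : φ ∘ₗ χD = ψ ∘ₗ r := by
      rw [← sub_eq_zero]
      apply Groth.Agent.Lib.AdicDecaying.eq_zero_of_single_one I hI
      intro z
      rw [LinearMap.sub_apply, LinearMap.comp_apply, LinearMap.comp_apply,
        Groth.Agent.Lib.AdicDecaying.ofFamily_single I hI m z, hm z, sub_self]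
    refine ⟨χD ∘ₗ i, ?_⟩
    rw [← LinearMap.comp_assoc, hχD, LinearMap.comp_assoc, hri, LinearMap.comp_id]

end Groth.Agent.S17549
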