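import Groth.Statements.S17552
import Groth.Agent.Lib.AdicFree

set_option autoImplicit false
universe u
open W4c5adicflatcompl
open CAlg

namespace Groth.Agent.S17552

/-- For a complete Noetherian local ring A (maximal ideal m, m-adic completion Â), an A-module M is
isomorphic to the module of m-adically decaying functions Z → Â for some set Z (m-adically free)
exactly when M is flat and m-adically complete. M and Z live in the universe of A. -/
theorem result {A : Type u} [CommRing A] [IsNoetherianRing A] [IsLocalRing A]
    [IsAdicComplete (IsLocalRing.maximalIdeal A) A]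
    (M : Type u) [AddCommGroup M] [Module A M] :
    IsAdicFree (IsLocalRing.maximalIdeal A) M ↔
      Module.Flat A M ∧ IsAdicComplete (IsLocalRing.maximalIdeal A) M := by
  classical
  have hI : (IsLocalRing.maximalIdeal A).FG := IsNoetherian.noetherian _
  have hjac : IsLocalRing.maximalIdeal A ≤ Ideal.jacobson ⊥ :=
    IsAdicComplete.le_jacobson_bot _
  constructor
  · rintro ⟨Z, ⟨e⟩⟩
    -- transport to decaying functions with values in `A`
    let e' : M ≃ₗ[A] decaying (IsLocalRing.maximalIdeal A) Z A :=
      e.trans (Groth.Agent.Lib.AdicFree.decayingCongr (IsLocalRing.maximalIdeal A) Z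
        (AdicCompletion.ofLinearEquiv (IsLocalRing.maximalIdeal A) A).symm)
    have hflat : Module.Flat A (decaying (IsLocalRing.maximalIdeal A) Z A) :=
      Groth.Agent.Lib.AdicDecaying.flat_decaying (IsLocalRing.maximalIdeal A) hjac
    have hcomp : IsAdicComplete (IsLocalRing.maximalIdeal A)
        (decaying (IsLocalRing.maximalIdeal A) Z A) :=
      Groth.Agent.Lib.AdicDecaying.isAdicComplete_decaying (IsLocalRing.maximalIdeal A) Z hI
    refine ⟨Module.Flat.of_linearEquiv e', ?_⟩
    exact Groth.Agent.Lib.AdicDecaying.isAdicComplete_of_retract (IsLocalRing.maximalIdeal A)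
      e'.toLinearMap e'.symm.toLinearMap (by ext x; simp)
  · rintro ⟨hflat, hcomp⟩
    letI : Field (A ⧸ IsLocalRing.maximalIdeal A) := Ideal.Quotient.field _
    let b := Module.Basis.ofVectorSpace (A ⧸ IsLocalRing.maximalIdeal A)
      (M ⧸ (IsLocalRing.maximalIdeal A • ⊤ : Submodule A M))
    obtain ⟨e⟩ := Groth.Agent.Lib.AdicFree.exists_equiv_decaying_of_basis
      (IsLocalRing.maximalIdeal A) b
    refine ⟨_, ⟨e.symm.trans
      (Groth.Agent.Lib.AdicFree.decayingCongr (IsLocalRing.maximalIdeal A) _
        (AdicCompletion.ofLinearEquiv (IsLocalRing.maximalIdeal A) A))⟩⟩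

end Groth.Agent.S17552
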