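import Groth.Statements.S1757
import Mathlib.RingTheory.SimpleModule.Basic

set_option autoImplicit false
universe u
open LocCoh

namespace Groth.Agent.S1757

variable {A : Type u} [CommRing A] {r : ℕ}

lemma sum_mul_update (c h : Fin r → A) (i : Fin r) (y : A) :
    ∑ j, c j * Function.update h i y j = ∑ j, c j * h j + c i * (y - h i) := by
  rw [← Finset.add_sum_erase _ _ (Finset.mem_univ i),
    ← Finset.add_sum_erase (f := fun j => c j * h j) _ (Finset.mem_univ i)]
  have : ∑ j ∈ Finset.univ.erase i, c j * Function.update h i y j
      = ∑ j ∈ Finset.univ.erase i, c j * h j := by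
    refine Finset.sum_congr rfl fun j hj => ?_
    rw [Function.update_of_ne (Finset.ne_of_mem_erase hj)]
  rw [this, Function.update_self]
  ring

lemma sum_update_mul (c h : Fin r → A) (i : Fin r) (z : A) :
    ∑ j, Function.update c i z j * h j = ∑ j, c j * h j + (z - c i) * h i := by
  have := sum_mul_update h c i z
  simp only [mul_comm] at this ⊢
  rw [this]

lemma span_update_mul_le_left (f : Fin r → A) (i : Fin r) (g : A) :
    Ideal.span (Set.range (Function.update f i (f i * g))) ≤ Ideal.span (Set.range f) := by
  rw [Ideal.span_le]
  rintro _ ⟨j, rfl⟩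
  by_cases hj : j = i
  · subst hj
    rw [Function.update_self]
    exact Ideal.mul_mem_right _ _ (Ideal.subset_span ⟨j, rfl⟩)
  · rw [Function.update_of_ne hj]
    exact Ideal.subset_span ⟨j, rfl⟩

lemma span_update_mul_le_right (f : Fin r → A) (i : Fin r) (g : A) :
    Ideal.span (Set.range (Function.update f i (f i * g))) ≤
      Ideal.span (Set.range (Function.update f i g)) := by
  rw [Ideal.span_le]
  rintro _ ⟨j, rfl⟩
  by_cases hj : j = i
  · subst hj
    rw [Function.update_self]
    refine Ideal.mul_mem_left _ _ (Ideal.subset_span ⟨j, ?_⟩)
    rw [Function.update_self]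
  · rw [Function.update_of_ne hj]
    refine Ideal.subset_span ⟨j, ?_⟩
    rw [Function.update_of_ne hj]

/-- If `f_1, …, f_i g, …, f_r` are independent, so are `f_1, …, f_r`. -/
lemma independent_of_update_mul (f : Fin r → A) (i : Fin r) (g : A)
    (hF : Dual2.Independent (Function.update f i (f i * g))) : Dual2.Independent f := by
  intro a ha
  have hle := span_update_mul_le_left f i g
  -- first the coefficient at `i`
  have hai : a i ∈ Ideal.span (Set.range (Function.update f i (f i * g))) := by
    have := hF (Function.update (fun j => a j * g) i (a i)) ?_ i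
    · rwa [Function.update_self] at this
    · rw [sum_mul_update, sum_update_mul, Function.update_self]
      have h1 : ∑ j, a j * g * f j = g * ∑ j, a j * f j := by
        rw [Finset.mul_sum]
        exact Finset.sum_congr rfl fun j _ => by ring
      rw [h1, ha]
      ring
  obtain ⟨b, hb⟩ := Ideal.mem_span_range_iff_exists_fun.mp hai
  rw [sum_mul_update] at hb
  have key : ∀ j, Function.update (fun j => a j + b j * f i) i (b i * f i) j ∈
      Ideal.span (Set.range (Function.update f i (f i * g))) := by
    refine hF _ ?_
    rw [sum_mul_update, sum_update_mul, Function.update_self]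
    have h1 : ∑ j, (a j + b j * f i) * f j = ∑ j, a j * f j + f i * ∑ j, b j * f j := by
      rw [Finset.mul_sum, ← Finset.sum_add_distrib]
      exact Finset.sum_congr rfl fun j _ => by ring
    have h2 : ∑ j, b j * f j = a i - b i * (f i * g - f i) := by
      rw [← hb]; ring
    rw [h1, ha, h2]
    ring
  intro j
  by_cases hj : j = i
  · subst hj
    exact hle hai
  · have h3 := hle (key j)
    rw [Function.update_of_ne hj] at h3
    have h4 : b j * f i ∈ Ideal.span (Set.range f) :=
      Ideal.mul_mem_left _ _ (Ideal.subset_span ⟨i, rfl⟩)
    have := Ideal.sub_mem _ h3 h4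
    simpa using this

lemma update_mul_comm_eq (f : Fin r → A) (i : Fin r) (g : A) :
    Function.update (Function.update f i g) i (Function.update f i g i * f i) =
      Function.update f i (f i * g) := by
  rw [Function.update_idem, Function.update_self, mul_comm]

/-- If `f_1, …, f_i g, …, f_r` are independent, so are `f_1, …, g, …, f_r`. -/
lemma independent_update_of_update_mul (f : Fin r → A) (i : Fin r) (g : A)
    (hF : Dual2.Independent (Function.update f i (f i * g))) :
    Dual2.Independent (Function.update f i g) := by
  refine independent_of_update_mul (Function.update f i g) i (f i) ?_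
  rw [update_mul_comm_eq]
  exact hF

/-- Additivity of length. -/
lemma length_update_mul (f : Fin r → A) (i : Fin r) (g : A)
    (hF : Dual2.Independent (Function.update f i (f i * g))) :
    Module.length A (A ⧸ Ideal.span (Set.range (Function.update f i (f i * g)))) =
      Module.length A (A ⧸ Ideal.span (Set.range (Function.update f i g))) +
        Module.length A (A ⧸ Ideal.span (Set.range f)) := by
  set IF := Ideal.span (Set.range (Function.update f i (f i * g))) with hIF
  set IG := Ideal.span (Set.range (Function.update f i g)) with hIG
  set If := Ideal.span (Set.range f) with hIf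
  have hle : IF ≤ If := span_update_mul_le_left f i g
  have hmul : IG ≤ Submodule.comap (LinearMap.lsmul A A (f i)) IF := by
    rw [hIG, Ideal.span, Submodule.span_le]
    rintro _ ⟨j, rfl⟩
    change f i • Function.update f i g j ∈ IF
    by_cases hj : j = i
    · subst hj
      rw [Function.update_self, smul_eq_mul]
      refine Ideal.subset_span ⟨j, ?_⟩
      rw [Function.update_self]
    · rw [Function.update_of_ne hj, smul_eq_mul]
      refine Ideal.mul_mem_left _ _ (Ideal.subset_span ⟨j, ?_⟩)
      rw [Function.update_of_ne hj]
  let φ : (A ⧸ IG) →ₗ[A] (A ⧸ IF) := Submodule.mapQ IG IF (LinearMap.lsmul A A (f i)) hmul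
  let ψ : (A ⧸ IF) →ₗ[A] (A ⧸ If) := Submodule.mapQ IF If LinearMap.id hle
  have hφ : Function.Injective φ := by
    rw [injective_iff_map_eq_zero]
    intro y hy
    obtain ⟨a, rfl⟩ := Submodule.Quotient.mk_surjective _ y
    change Submodule.Quotient.mk (f i • a) = 0 at hy
    rw [Submodule.Quotient.mk_eq_zero, smul_eq_mul] at hy
    rw [Submodule.Quotient.mk_eq_zero]
    obtain ⟨b, hb⟩ := Ideal.mem_span_range_iff_exists_fun.mp hy
    rw [sum_mul_update] at hb
    -- relation: sum b_j f_j + (b_i g - a) f_i - b_i f_i = 0
    have hrel : ∀ j, Function.update (fun j => b j * g) i (b i * g - a) j ∈ IF := by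
      refine hF _ ?_
      rw [sum_mul_update, sum_update_mul, Function.update_self]
      have h1 : ∑ j, b j * g * f j = g * ∑ j, b j * f j := by
        rw [Finset.mul_sum]
        exact Finset.sum_congr rfl fun j _ => by ring
      have h2 : ∑ j, b j * f j = f i * a - b i * (f i * g - f i) := by
        rw [← hb]; ring
      rw [h1, h2]
      ring
    have h3 := hrel i
    rw [Function.update_self] at h3
    have h4 : b i * g ∈ IG := by
      refine Ideal.mul_mem_left _ _ (Ideal.subset_span ⟨i, ?_⟩)
      rw [Function.update_self]
    have h5 := Ideal.sub_mem _ h4 (span_update_mul_le_right f i g h3)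
    simpa using h5
  have hψ : Function.Surjective ψ := by
    intro y
    obtain ⟨a, rfl⟩ := Submodule.Quotient.mk_surjective _ y
    exact ⟨Submodule.Quotient.mk a, rfl⟩
  have hex : Function.Exact φ ψ := by
    intro y
    obtain ⟨a, rfl⟩ := Submodule.Quotient.mk_surjective _ y
    change Submodule.Quotient.mk a = 0 ↔ _
    rw [Submodule.Quotient.mk_eq_zero]
    constructor
    · intro ha
      obtain ⟨b, hb⟩ := Ideal.mem_span_range_iff_exists_fun.mp ha
      refine ⟨Submodule.Quotient.mk (b i - b i * g), ?_⟩
      change Submodule.Quotient.mk (f i • (b i - b i * g)) = Submodule.Quotient.mk a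
      rw [Submodule.Quotient.eq]
      have h1 : ∑ j, b j * Function.update f i (f i * g) j ∈ IF :=
        Ideal.sum_mem _ fun j _ => Ideal.mul_mem_left _ _ (Ideal.subset_span ⟨j, rfl⟩)
      rw [sum_mul_update, hb] at h1
      have : f i • (b i - b i * g) - a = -(a + b i * (f i * g - f i)) := by
        rw [smul_eq_mul]; ring
      rw [this]
      exact neg_mem h1
    · rintro ⟨z, hz⟩
      obtain ⟨c, rfl⟩ := Submodule.Quotient.mk_surjective _ z
      change Submodule.Quotient.mk (f i • c) = Submodule.Quotient.mk a at hz
      rw [Submodule.Quotient.eq] at hz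
      have h1 : f i • c ∈ If := by
        rw [smul_eq_mul]
        exact Ideal.mul_mem_right _ _ (Ideal.subset_span ⟨i, rfl⟩)
      have := Ideal.sub_mem _ h1 (hle hz)
      simpa using this
  exact Module.length_eq_add_of_exact φ ψ hφ hψ hex

lemma main [IsLocalRing A] (x : Fin r → A)
    (hx : Ideal.span (Set.range x) = IsLocalRing.maximalIdeal A) :
    ∀ (n : ℕ) (e : Fin r → ℕ), ∑ j, e j = n → (∀ j, 0 < e j) →
      Dual2.Independent (fun j => x j ^ e j) →
      Module.length A (A ⧸ Ideal.span (Set.range (fun j => x j ^ e j))) = ∏ j, (e j : ℕ∞) := by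
  intro n
  induction n using Nat.strong_induction_on with
  | _ n ih =>
  intro e hn he hind
  by_cases hall : ∀ j, e j = 1
  · have h1 : (fun j => x j ^ e j) = x := by
      funext j; rw [hall j, pow_one]
    rw [h1, hx]
    have : IsSimpleModule A (A ⧸ IsLocalRing.maximalIdeal A) :=
      isSimpleModule_iff_quot_maximal.mpr ⟨_, IsLocalRing.maximalIdeal.isMaximal A,
        ⟨LinearEquiv.refl _ _⟩⟩
    rw [Module.length_eq_one]
    simp [hall]
  · rw [not_forall] at hall
    obtain ⟨i, hi⟩ := hall
    have hi2 : 2 ≤ e i := by have := he i; omega
    set f : Fin r → A := Function.update (fun j => x j ^ e j) i (x i) with hf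
    set g : A := x i ^ (e i - 1) with hg
    have hfi : f i = x i := by rw [hf, Function.update_self]
    have hF : Function.update f i (f i * g) = fun j => x j ^ e j := by
      rw [hfi, hf, Function.update_idem]
      have : x i * g = (fun j => x j ^ e j) i := by
        change x i * x i ^ (e i - 1) = x i ^ e i
        rw [← pow_succ']
        congr 1; omega
      rw [this, Function.update_eq_self]
    have hf' : f = fun j => x j ^ (Function.update e i 1) j := by
      funext j
      by_cases hj : j = i
      · subst hj; simp [hf]
      · simp [hf, Function.update_of_ne hj]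
    have hG : Function.update f i g = fun j => x j ^ (Function.update e i (e i - 1)) j := by
      funext j
      by_cases hj : j = i
      · subst hj; simp [hg]
      · simp [hf, Function.update_of_ne hj]
    have hind' : Dual2.Independent (Function.update f i (f i * g)) := by rw [hF]; exact hind
    have hlen := length_update_mul f i g hind'
    have hindf := independent_of_update_mul f i g hind'
    have hindG := independent_update_of_update_mul f i g hind'
    rw [hF, hG] at hlen
    rw [hf'] at hlen hindf
    rw [hG] at hindG
    have hsum : ∑ j, e j = e i + ∑ j ∈ Finset.univ \ {i}, e j := by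
      rw [← Finset.sum_update_of_mem (Finset.mem_univ i) e (e i), Function.update_eq_self]
    have hprod : ∏ j, e j = e i * ∏ j ∈ Finset.univ \ {i}, e j := by
      rw [← Finset.prod_update_of_mem (Finset.mem_univ i) e (e i), Function.update_eq_self]
    have hpos1 : ∀ j, 0 < Function.update e i 1 j := by
      intro j
      by_cases hj : j = i
      · subst hj; simp
      · rw [Function.update_of_ne hj]; exact he j
    have hpos2 : ∀ j, 0 < Function.update e i (e i - 1) j := by
      intro j
      by_cases hj : j = i
      · subst hj; rw [Function.update_self]; omega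
      · rw [Function.update_of_ne hj]; exact he j
    have ih1 := ih (∑ j, Function.update e i 1 j)
      (by rw [Finset.sum_update_of_mem (Finset.mem_univ i), ← hn, hsum]; omega)
      (Function.update e i 1) rfl hpos1 hindf
    have ih2 := ih (∑ j, Function.update e i (e i - 1) j)
      (by rw [Finset.sum_update_of_mem (Finset.mem_univ i), ← hn, hsum]; omega)
      (Function.update e i (e i - 1)) rfl hpos2 hindG
    rw [hlen, ih1, ih2]
    rw [← Nat.cast_prod, ← Nat.cast_prod, ← Nat.cast_prod, ← Nat.cast_add]
    congr 1
    rw [Finset.prod_update_of_mem (Finset.mem_univ i), Finset.prod_update_of_mem (Finset.mem_univ i),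
      hprod]
    set P := ∏ j ∈ Finset.univ \ {i}, e j
    have : e i = (e i - 1) + 1 := by omega
    conv_rhs => rw [this]
    ring

/-- Let A be a local ring whose maximal ideal is generated by x_1, …, x_r, and let e_1, …, e_r be
positive integers such that x_1^{e_1}, …, x_r^{e_r} are independent. Then the length of
A/(x_1^{e_1}, …, x_r^{e_r}) equals the product e_1 ⋯ e_r. -/
theorem result (A : Type u) [CommRing A] [IsLocalRing A] (r : ℕ) (x : Fin r → A) (hx : Ideal.span (Set.range x) = IsLocalRing.maximalIdeal A) (e : Fin r → ℕ) (he : ∀ i, 0 < e i) (hind : Dual2.Independent (fun i => x i ^ e i)) : Module.length A (A ⧸ Ideal.span (Set.range (fun i => x i ^ e i))) = ∏ i, (e i : ℕ∞) := by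
  exact main x hx _ e rfl he hind

end Groth.Agent.S1757
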