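import Groth.Statements.S17581
import Groth.Agent.Lib.H78BaseLocus

set_option autoImplicit false
open CategoryTheory CategoryTheory.Limits AlgebraicGeometry
open PosLin

namespace Groth.Agent.S17581

/-- Let X be a projective variety over the complex numbers (an integral scheme, proper over ℂ, with an
ample invertible module) and L an invertible O_X-module; for m ≥ 1 let Bs(L^⊗m) be the base locus of
L^⊗m (the points lying in no open X_s over which a global section s : O_X → L^⊗m is an isomorphism)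
and B(L) = ⋂_{m ≥ 1} Bs(L^⊗m) the stable base locus. Then, among the closed sets Bs(L^⊗m) with m ≥
1, B(L) occurs and is the only minimal one: B(L) = Bs(L^⊗m) for some m ≥ 1, and for each m ≥ 1,
Bs(L^⊗m) is minimal in this family if and only if it coincides with B(L). -/
theorem result (X : Scheme.{0}) [X.Over (Spec (CommRingCat.of ℂ))] [IsIntegral X]
    [IsProper (X ↘ Spec (CommRingCat.of ℂ))] (H : X.Modules) (hH : CohB1.IsAmple H)
    (L : X.Modules) (hL : PicF.IsInvertible L) :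
    (∃ m : ℕ, 0 < m ∧ {x : X | ∀ s : Coh.structureModule X ⟶ CohB1.tensorPow L m, x ∉ CohB1.genLocus (CohB1.tensorPow L m) s} = {x : X | ∀ m : ℕ, 0 < m → ∀ s : Coh.structureModule X ⟶ CohB1.tensorPow L m, x ∉ CohB1.genLocus (CohB1.tensorPow L m) s}) ∧
    ∀ m : ℕ, 0 < m →
      ((∀ m' : ℕ, 0 < m' →
          {x : X | ∀ s : Coh.structureModule X ⟶ CohB1.tensorPow L m', x ∉ CohB1.genLocus (CohB1.tensorPow L m') s} ⊆ {x : X | ∀ s : Coh.structureModule X ⟶ CohB1.tensorPow L m, x ∉ CohB1.genLocus (CohB1.tensorPow L m) s} →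
          {x : X | ∀ s : Coh.structureModule X ⟶ CohB1.tensorPow L m', x ∉ CohB1.genLocus (CohB1.tensorPow L m') s} = {x : X | ∀ s : Coh.structureModule X ⟶ CohB1.tensorPow L m, x ∉ CohB1.genLocus (CohB1.tensorPow L m) s}) ↔
        {x : X | ∀ s : Coh.structureModule X ⟶ CohB1.tensorPow L m, x ∉ CohB1.genLocus (CohB1.tensorPow L m) s} = {x : X | ∀ m : ℕ, 0 < m → ∀ s : Coh.structureModule X ⟶ CohB1.tensorPow L m, x ∉ CohB1.genLocus (CohB1.tensorPow L m) s}) := by
  haveI : IsLocallyNoetherian X :=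
    LocallyOfFiniteType.isLocallyNoetherian (X ↘ Spec (CommRingCat.of ℂ))
  haveI : CompactSpace X := hH.2.1
  haveI : IsNoetherian X := {}
  obtain ⟨n₀, hn₀, h⟩ := Groth.Agent.Lib.H78BaseLocus.exists_Bs_eq_SB hL
  refine ⟨⟨n₀, hn₀, h⟩, fun m hm => ?_⟩
  change (∀ m' : ℕ, 0 < m' → Groth.Agent.Lib.H78BaseLocus.Bs L m' ⊆ Groth.Agent.Lib.H78BaseLocus.Bs L m →
    Groth.Agent.Lib.H78BaseLocus.Bs L m' = Groth.Agent.Lib.H78BaseLocus.Bs L m) ↔
    Groth.Agent.Lib.H78BaseLocus.Bs L m = Groth.Agent.Lib.H78BaseLocus.SB L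
  constructor
  · intro hmin
    have h1 : Groth.Agent.Lib.H78BaseLocus.Bs L (m * n₀) ⊆ Groth.Agent.Lib.H78BaseLocus.Bs L m :=
      Groth.Agent.Lib.H78BaseLocus.Bs_mul_subset hL m n₀ hn₀
    have h2 : Groth.Agent.Lib.H78BaseLocus.Bs L (m * n₀) ⊆ Groth.Agent.Lib.H78BaseLocus.Bs L n₀ := by
      rw [Nat.mul_comm]
      exact Groth.Agent.Lib.H78BaseLocus.Bs_mul_subset hL n₀ m hm
    have h3 := hmin (m * n₀) (Nat.mul_pos hm hn₀) h1
    rw [← h3]
    refine le_antisymm ?_ (Groth.Agent.Lib.H78BaseLocus.SB_subset_Bs L (Nat.mul_pos hm hn₀))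
    rw [← h]
    exact h2
  · intro hm' m' hm'pos hsub
    refine le_antisymm hsub ?_
    rw [hm']
    exact Groth.Agent.Lib.H78BaseLocus.SB_subset_Bs L hm'pos

end Groth.Agent.S17581
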