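import Groth.Statements.S17584
import Mathlib
import Groth.Agent.Lib.FibrationNormal5

set_option autoImplicit false
open CategoryTheory CategoryTheory.Limits AlgebraicGeometry
open PosLin

namespace Groth.Agent.S17584

section Helpers
universe u

namespace N1
open CategoryTheory CategoryTheory.Limits AlgebraicGeometry TopologicalSpace Opposite
open Groth.Agent.Lib.FibrationNormal5

variable {X Y : Scheme.{u}} [IsIntegral X] [IsIntegral Y] (f : X ⟶ Y)

theorem specializes_of_surjective [Surjective f] :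
    f.base (genericPoint X) ⤳ genericPoint Y := by
  obtain ⟨x, hx⟩ := f.surjective (genericPoint Y)
  rw [← hx]
  exact ((genericPoint_spec X).specializes (Set.mem_univ x)).map f.continuous

/-- sections over an affine open of `Y` are integrally closed, if `O_Y = f_* O_X` and `X` normal. -/
theorem isIntegrallyClosed_sections_of_isIso_app (hX : Pi1.IsNormalScheme X)
    (h : f.base (genericPoint X) ⤳ genericPoint Y) (hf : ∀ U : Y.Opens, IsIso (f.app U))
    (V₀ : Y.Opens) (hV₀ : IsAffineOpen V₀) (hηV₀ : genericPoint Y ∈ V₀) :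
    IsIntegrallyClosed Γ(Y, V₀) := by
  set ψ := CohIII.stalkToFunctionField f (genericPoint Y) h with hψ
  have hgen : f.base (genericPoint X) = genericPoint Y :=
    Groth.Agent.Lib.SteinNormal5.map_genericPoint_eq f h
  have hξ : genericPoint X ∈ f ⁻¹ᵁ V₀ := by
    change f.base _ ∈ V₀
    rw [hgen]
    exact hηV₀
  haveI : Nonempty V₀ := ⟨⟨_, hηV₀⟩⟩
  haveI : IsFractionRing Γ(Y, V₀) Y.functionField :=
    functionField_isFractionRing_of_isAffineOpen Y V₀ hV₀
  refine (isIntegrallyClosed_iff Y.functionField).mpr fun {a} ha => ?_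
  -- `ψ a` comes from a section on every affine open of `f⁻¹ V₀`
  obtain ⟨s, hs⟩ := exists_germ_eq_of_forall_affine (f ⁻¹ᵁ V₀) hξ (ψ a) (by
    intro V hVle hV
    haveI : Nonempty V.1 := ⟨⟨_, hV⟩⟩
    haveI : IsIntegrallyClosed Γ(X, V.1) :=
      Groth.Agent.Lib.IntegralSection.isIntegrallyClosed_sections (fun x => (hX x).2) V.2
    haveI : IsFractionRing Γ(X, V.1) X.functionField :=
      functionField_isFractionRing_of_isAffineOpen X V.1 V.2
    have hint : IsIntegral Γ(X, V.1) (ψ a) := by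
      obtain ⟨p, hp, hpz⟩ := ha
      refine ⟨p.map (f.appLE V₀ V.1 hVle).hom, hp.map _, ?_⟩
      rw [Polynomial.eval₂_map]
      have hcomp : (algebraMap Γ(X, V.1) X.functionField).comp (f.appLE V₀ V.1 hVle).hom =
          ψ.comp (algebraMap Γ(Y, V₀) Y.functionField) := by
        ext b
        exact (stalkToFunctionField_germ f h V₀ hηV₀ V.1 hVle hV b).symm
      rw [hcomp, ← Polynomial.hom_eval₂, hpz, map_zero]
    obtain ⟨y, hy⟩ := IsIntegrallyClosed.isIntegral_iff.mp hint
    exact ⟨y, hy⟩)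
  haveI := hf V₀
  obtain ⟨b, rfl⟩ := (ConcreteCategory.bijective_of_isIso (f.app V₀)).2 s
  have hb : ψ (Y.presheaf.germ V₀ (genericPoint Y) hηV₀ b) = ψ a := by
    rw [← hs]
    have := stalkToFunctionField_germ f h V₀ hηV₀ (f ⁻¹ᵁ V₀) le_rfl hξ b
    rw [this, ← Scheme.Hom.app_eq_appLE]
  exact ⟨b, ψ.injective hb⟩

theorem main [Surjective f] (hfs : IsIso (ClSub.unitToPush f))
    (hX : Pi1.IsNormalScheme X) : Pi1.IsNormalScheme Y := by
  have h := specializes_of_surjective f
  have hf : ∀ U : Y.Opens, IsIso (f.app U) := by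
    intro U
    have h1 : IsIso ((ClSub.unitToPush f).app U) :=
      Scheme.Modules.Hom.isIso_iff_isIso_app.mp hfs U
    rw [ConcreteCategory.isIso_iff_bijective] at h1
    exact (ConcreteCategory.isIso_iff_bijective (f.app U)).mpr h1
  intro y
  refine ⟨inferInstance, ?_⟩
  obtain ⟨_, ⟨V₀, hV₀, rfl⟩, hyV₀, -⟩ :=
    Y.isBasis_affineOpens.exists_subset_of_mem_open (Set.mem_univ y) isOpen_univ
  have hηV₀ : genericPoint Y ∈ V₀ :=
    genericPoint_mem_of_nonempty V₀ ⟨y, hyV₀⟩
  haveI : Nonempty V₀ := ⟨⟨_, hηV₀⟩⟩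
  haveI := isIntegrallyClosed_sections_of_isIso_app f hX h hf V₀ hV₀ hηV₀
  letI := Y.presheaf.algebra_section_stalk ⟨y, hyV₀⟩
  haveI := hV₀.isLocalization_stalk ⟨y, hyV₀⟩
  exact isIntegrallyClosed_of_isLocalization _ _
    (hV₀.primeIdealOf ⟨y, hyV₀⟩).asIdeal.primeCompl_le_nonZeroDivisors

end N1

end Helpers

/-- Let X and Y each be a projective variety over the complex numbers (an integral scheme, proper over
ℂ, with an ample invertible module), and f : X → Y an algebraic fibre space (a surjective morphism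
over ℂ with O_Y → f_*O_X an isomorphism). If X is normal, then Y is normal. -/
theorem result (X : Scheme.{0}) [X.Over (Spec (CommRingCat.of ℂ))] [IsIntegral X] [IsProper (X ↘ Spec (CommRingCat.of ℂ))]
    (HX : X.Modules) (hHX : CohB1.IsAmple HX)
    (Y : Scheme.{0}) [Y.Over (Spec (CommRingCat.of ℂ))] [IsIntegral Y] [IsProper (Y ↘ Spec (CommRingCat.of ℂ))]
    (HY : Y.Modules) (hHY : CohB1.IsAmple HY)
    (f : X ⟶ Y) (hf : f ≫ (Y ↘ Spec (CommRingCat.of ℂ)) = X ↘ Spec (CommRingCat.of ℂ)) [Surjective f]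
    (hfs : IsIso (ClSub.unitToPush f))
    (hX : Pi1.IsNormalScheme X) : Pi1.IsNormalScheme Y := by
  exact N1.main f hfs hX

end Groth.Agent.S17584
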