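import Groth.Statements.S17595
import Groth.Agent.Lib.H15AwayNbhd
import Mathlib.RingTheory.ZariskisMainTheorem
import Mathlib.RingTheory.RingHom.QuasiFinite
import Mathlib.RingTheory.Etale.Basic

set_option autoImplicit false
universe u
open Hensel

namespace Groth.Agent.S17595

theorem exists_notMem_quasiFinite_away {A R : Type u} [CommRing A] [CommRing R] [Algebra A R]
    [Algebra.FiniteType A R] (p : Ideal R) [p.IsPrime] [Algebra.QuasiFiniteAt A p] :
    ∃ f ∉ p, Algebra.QuasiFinite A (Localization.Away f) := by
  obtain ⟨S', hS', r, hrp, H⟩ :=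
    Algebra.QuasiFiniteAt.exists_fg_and_exists_notMem_and_awayMap_bijective (R := A) p
  have : Module.Finite A S' := ⟨(Submodule.fg_top _).mpr hS'⟩
  have : Algebra.QuasiFinite A (Localization.Away r) := .trans _ S' _
  have : Algebra.QuasiFinite A (Localization.Away r.1) :=
    .of_surjective_algHom (Localization.awayMapₐ S'.val r) H.2
  exact ⟨r.1, hrp, this⟩

theorem quasiFinite_away_of_subset {A R : Type u} [CommRing A] [CommRing R] [Algebra A R]
    (g : R)
    (h : ∀ q : PrimeSpectrum R, g ∉ q.asIdeal →
      ∃ f ∉ q.asIdeal, Algebra.QuasiFinite A (Localization.Away f)) :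
    Algebra.QuasiFinite A (Localization.Away g) := by
  rw [← RingHom.quasiFinite_algebraMap]
  let S := Localization.Away g
  let T : Set R := {f | Algebra.QuasiFinite A (Localization.Away f)}
  refine RingHom.QuasiFinite.ofLocalizationSpanTarget (algebraMap A S)
    ((algebraMap R S) '' T) ?_ ?_
  · by_contra hne
    obtain ⟨m, hm, hle⟩ := Ideal.exists_le_maximal _ hne
    let q : PrimeSpectrum R := ⟨m.comap (algebraMap R S), inferInstance⟩
    have hg : g ∉ q.asIdeal := by
      intro hg
      have : algebraMap R S g ∈ m := hg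
      exact hm.ne_top (Ideal.eq_top_of_isUnit_mem _ this (IsLocalization.Away.algebraMap_isUnit g))
    obtain ⟨f, hf, hQF⟩ := h q hg
    exact hf (hle (Ideal.subset_span ⟨f, hQF, rfl⟩))
  · rintro ⟨_, f, hf, rfl⟩
    have hf' : Algebra.QuasiFinite A (Localization.Away f) := hf
    show RingHom.QuasiFinite ((algebraMap S (Localization.Away (algebraMap R S f))).comp
      (algebraMap A S))
    rw [← IsScalarTower.algebraMap_eq, RingHom.quasiFinite_algebraMap]
    let T' := Localization.Away (algebraMap R (Localization.Away f) g)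
    let e : T' ≃ₐ[R] Localization.Away (algebraMap R S f) :=
      IsLocalization.algEquiv (Submonoid.powers (g * f)) _ _
    have : Algebra.QuasiFinite A T' := inferInstance
    exact (Algebra.QuasiFinite.iff_of_algEquiv (e.restrictScalars A)).mp this

/-- Suppose (A, I) is a Henselian pair, and R is an A-algebra of finite presentation for which A → R is
quasi-finite at each prime of R that contains IR. Then there is an étale R-algebra R' such that R/IR
→ R'/IR' is bijective and A → R' is quasi-finite. -/
theorem result (A : Type u) [CommRing A] (I : Ideal A) [HenselianRing A I]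
    (R : Type u) [CommRing R] [Algebra A R] [Algebra.FinitePresentation A R]
    (h : ∀ (p : Ideal R) [p.IsPrime], I.map (algebraMap A R) ≤ p → Algebra.QuasiFiniteAt A p)
    : ∃ (R' : Type u) (_ : CommRing R') (_ : Algebra R R') (_ : Algebra A R') (_ : IsScalarTower A R R'),
      Algebra.Etale R R' ∧
      Function.Bijective (Ideal.quotientMap ((I.map (algebraMap A R)).map (algebraMap R R'))
        (algebraMap R R') Ideal.le_comap_map) ∧ Algebra.QuasiFinite A R' := by
  let U : Set (PrimeSpectrum R) :=
    ⋃ f ∈ {f : R | Algebra.QuasiFinite A (Localization.Away f)},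
      (↑(PrimeSpectrum.basicOpen f) : Set (PrimeSpectrum R))
  have hU : IsOpen U := isOpen_biUnion fun f _ => (PrimeSpectrum.basicOpen f).isOpen
  have hsub : PrimeSpectrum.zeroLocus ((I.map (algebraMap A R) : Ideal R) : Set R) ⊆ U := by
    intro p hp
    have := h p.asIdeal ((PrimeSpectrum.mem_zeroLocus _ _).mp hp)
    obtain ⟨f, hfp, hf⟩ := exists_notMem_quasiFinite_away (A := A) p.asIdeal
    exact Set.mem_biUnion (show f ∈ {f : R | Algebra.QuasiFinite A (Localization.Away f)} from hf)
      hfp
  obtain ⟨g, hg1, hgU⟩ := Groth.Agent.Lib.H15AwayNbhd.exists_sub_one_mem_basicOpen_subset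
    (I.map (algebraMap A R)) U hU hsub
  refine ⟨Localization.Away g, inferInstance, inferInstance, inferInstance, inferInstance,
    Algebra.Etale.of_isLocalizationAway g,
    Groth.Agent.Lib.H15AwayNbhd.quotientMap_away_bijective _ g hg1 _,
    quasiFinite_away_of_subset g ?_⟩
  intro q hq
  have hqU : q ∈ U := hgU hq
  obtain ⟨f, hf, hqf⟩ := Set.mem_iUnion₂.mp hqU
  exact ⟨f, hqf, hf⟩

end Groth.Agent.S17595
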