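import Groth.Statements.S17599
import Groth.Agent.Lib.HSmoothSurj22

set_option autoImplicit false
universe u
open Hensel

namespace Groth.Agent.S17599

/-- Let (A, I) be a Henselian pair and let B be a Henselization of the pair (R₀, IR₀) for a finitely
presented A-algebra R₀ (so A → B is a Henselian finitely presented map of Henselian pairs). Assume
that A/I^r → B/I^rB is smooth for every r ≥ 1 (for Henselian finitely presented maps this is
equivalent to the h-formally smooth lifting property). Then there exist a smooth A-algebra R, a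
Henselization H of the pair (R, IR) and a surjective A-algebra map H → B whose kernel is a finitely
generated ideal contained in I^n H for every n. -/
theorem result (A : Type u) [CommRing A] (I : Ideal A)
    [HenselianRing A I] (R₀ : Type u) [CommRing R₀] [Algebra A R₀] [Algebra.FinitePresentation A R₀]
    (B : Type u) [CommRing B] [Algebra R₀ B] [Algebra A B] [IsScalarTower A R₀ B]
    (hB : Hens2.IsPairHenselization R₀ (I.map (algebraMap A R₀)) B)
    (het : ∀ r : ℕ, 1 ≤ r → Algebra.Smooth (A ⧸ I ^ r) (B ⧸ (I ^ r).map (algebraMap A B))) :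
    ∃ (R : Type u) (_ : CommRing R) (_ : Algebra A R) (H : Type u) (_ : CommRing H) (_ : Algebra R H)
      (_ : Algebra A H) (_ : IsScalarTower A R H),
      Algebra.Smooth A R ∧ Hens2.IsPairHenselization R (I.map (algebraMap A R)) H ∧
      ∃ φ : H →ₐ[A] B, Function.Surjective φ ∧ (RingHom.ker φ).FG ∧
        ∀ n : ℕ, RingHom.ker φ ≤ (I ^ n).map (algebraMap A H) := by
  have het1 := het 1 le_rfl
  obtain ⟨R, _, _, H, _, _, _, tower, hRsm, hH, φ, hφ, hfg, h6⟩ :=
    Groth.Agent.Lib.HSmoothSurj22.exists_smooth_surjection A I R₀ B hB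
  refine ⟨R, inferInstance, inferInstance, H, inferInstance, inferInstance, inferInstance, tower,
    hRsm, hH, φ, hφ, hfg, ?_⟩
  intro n
  rcases Nat.eq_zero_or_pos n with rfl | hn
  · rw [pow_zero, Ideal.one_eq_top, Ideal.map_top]
    exact le_top
  · have := het n hn
    have hflat : Module.Flat (A ⧸ I ^ n) (B ⧸ (I ^ n).map (algebraMap A B)) :=
      Algebra.Smooth.flat _ _
    exact Groth.Agent.Lib.HEtale.ker_le_pow_of_flat I n φ hφ h6 hn

end Groth.Agent.S17599
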