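import Groth.Statements.S1760
import Groth.Agent.Lib.H14GorField

set_option autoImplicit false
universe u
open scoped TensorProduct
open Goren

namespace Groth.Agent.S1760

/-- First assertion, written for the local ring B = O_{X,x}. Let k'/k be a finitely generated field
extension, B a Noetherian local k-algebra, and q a prime of B ⊗_k k' lying over the maximal ideal of
B. Then B is Gorenstein if and only if the localization of B ⊗_k k' at q is Gorenstein. -/
theorem result (k k' : Type u) [Field k] [Field k'] [Algebra k k'] (hfg : ∃ s : Finset k', IntermediateField.adjoin k (s : Set k') = ⊤) (B : Type u) [CommRing B] [IsLocalRing B] [IsNoetherianRing B] [Algebra k B] (q : PrimeSpectrum (B ⊗[k] k')) (hq : q.asIdeal.comap (algebraMap B (B ⊗[k] k')) = IsLocalRing.maximalIdeal B) : LocCoh.IsGorensteinLocalRing B ↔ LocCoh.IsGorensteinLocalRing (Localization.AtPrime q.asIdeal) := by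
  have : Algebra.EssFiniteType k k' := IntermediateField.fg_top_iff.mp hfg
  have : IsNoetherianRing (B ⊗[k] k') := Algebra.EssFiniteType.isNoetherianRing B _
  have hκ : LocCoh.IsGorensteinRing (k' ⊗[k] (IsLocalRing.maximalIdeal B).ResidueField) :=
    Groth.Agent.Lib.H14GorField.preservesGor_of_top_fg k k' hfg _
      (Groth.Agent.Lib.H14GorHom.isGorensteinRing_of_field _)
  have hfib : LocCoh.IsGorensteinRing ((IsLocalRing.maximalIdeal B).ResidueField ⊗[k] k') :=
    Groth.Agent.Lib.H14GorHom.isGorensteinRing_of_ringEquiv
      (Algebra.TensorProduct.comm k k' _).toRingEquiv hκ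
  rw [Groth.Agent.Lib.H14GorField.gorenstein_localization_tensor_iff k B k' q.asIdeal
    (IsLocalRing.maximalIdeal B) hq hfib,
    Groth.Agent.Lib.H14GorField.isGorensteinLocalRing_localization_maximalIdeal_iff]

end Groth.Agent.S1760
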