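import Groth.Statements.S17604
import Groth.Agent.Lib.PairHenselizationEtale

set_option autoImplicit false
universe u
open Hensel

namespace Groth.Agent.S17604

/-- Let (A, I) be a Henselian pair, R and R' étale A-algebras, and B, B' Henselizations of the pairs (R,
IR), (R', IR') with their induced A-algebra structures (so B and B' are h-étale over A). Then
reduction modulo I is a bijection from A-algebra maps B → B' to A-algebra maps B/IB → B'/IB': two
A-algebra maps B → B' that agree modulo IB' are equal, and every A-algebra map B/IB → B'/IB' is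
induced by an A-algebra map B → B'. -/
theorem result (A : Type u) [CommRing A]
    (I : Ideal A) [HenselianRing A I]
    (R : Type u) [CommRing R] [Algebra A R] [Algebra.Etale A R]
    (B : Type u) [CommRing B] [Algebra R B] [Algebra A B] [IsScalarTower A R B]
    (hB : Hens2.IsPairHenselization R (I.map (algebraMap A R)) B)
    (R' : Type u) [CommRing R'] [Algebra A R'] [Algebra.Etale A R']
    (B' : Type u) [CommRing B'] [Algebra R' B'] [Algebra A B'] [IsScalarTower A R' B']
    (hB' : Hens2.IsPairHenselization R' (I.map (algebraMap A R')) B') :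
    (∀ φ ψ : B →ₐ[A] B', (∀ b : B, φ b - ψ b ∈ I.map (algebraMap A B')) → φ = ψ) ∧
    ∀ χ : (B ⧸ I.map (algebraMap A B)) →ₐ[A] (B' ⧸ I.map (algebraMap A B')),
      ∃ φ : B →ₐ[A] B', ∀ b : B,
        Ideal.Quotient.mk (I.map (algebraMap A B')) (φ b) = χ (Ideal.Quotient.mk (I.map (algebraMap A B)) b) := by
  classical
  set J' : Ideal B' := I.map (algebraMap A B') with hJ'
  have hideal' : (I.map (algebraMap A R')).map (algebraMap R' B') = J' := by
    rw [Ideal.map_map, ← IsScalarTower.algebraMap_eq]
  have hideal : (I.map (algebraMap A R)).map (algebraMap R B) = I.map (algebraMap A B) := by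
    rw [Ideal.map_map, ← IsScalarTower.algebraMap_eq]
  have hHens : HenselianRing B' J' := hideal' ▸ hB'.1
  have hJac : J' ≤ Ideal.jacobson ⊥ := hHens.jac
  have hmapJ : ∀ θ : R →ₐ[A] B', (I.map (algebraMap A R)).map (θ : R →+* B') ≤ J' := by
    intro θ
    rw [Ideal.map_map]
    have h2 : ((θ : R →+* B').comp (algebraMap A R)) = algebraMap A B' := θ.comp_algebraMap
    rw [h2]
  constructor
  · intro φ ψ h
    let φR : R →ₐ[A] B' := φ.comp (IsScalarTower.toAlgHom A R B)
    let ψR : R →ₐ[A] B' := ψ.comp (IsScalarTower.toAlgHom A R B)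
    have hR : φR = ψR :=
      Groth.Agent.Lib.HenselEtaleLift.algHom_ext_of_sub_mem J' hJac φR ψR fun x => h _
    obtain ⟨g, -, hguniq⟩ := hB.2 B' J' (φR : R →+* B') hHens (hmapJ φR)
    have h1 : (φ : B →+* B') = g := hguniq _ rfl
    have h2 : (ψ : B →+* B') = g := by
      apply hguniq
      change (ψR : R →+* B') = (φR : R →+* B')
      rw [hR]
    ext b
    have := congrArg (fun k : B →+* B' => k b) (h1.trans h2.symm)
    exact this
  · intro χ
    let σ₀ : R →ₐ[A] B' ⧸ J' :=
      χ.comp ((Ideal.Quotient.mkₐ A (I.map (algebraMap A B))).comp (IsScalarTower.toAlgHom A R B))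
    obtain ⟨θ, hθ⟩ := Groth.Agent.Lib.HenselEtaleLift.exists_lift_of_algebra (A := A) (S := R)
      (C := B') J' σ₀
    obtain ⟨g, hg, -⟩ := hB.2 B' J' (θ : R →+* B') hHens (hmapJ θ)
    let φ : B →ₐ[A] B' :=
      { toRingHom := g
        commutes' := fun a => by
          change g (algebraMap A B a) = _
          rw [IsScalarTower.algebraMap_apply A R B]
          have := congrArg (fun k : R →+* B' => k (algebraMap A R a)) hg
          exact this.trans (θ.commutes a) }
    refine ⟨φ, fun b => ?_⟩
    obtain ⟨x, hx⟩ := Groth.Agent.Lib.PairHenselizationEtale.exists_sub_mem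
      (I.map (algebraMap A R)) hB 1 b
    rw [pow_one, hideal] at hx
    have h1 : φ (b - algebraMap R B x) ∈ J' := by
      have h2 : φ (b - algebraMap R B x) ∈ (I.map (algebraMap A B)).map (φ : B →+* B') :=
        Ideal.mem_map_of_mem _ hx
      rw [Ideal.map_map] at h2
      have h3 : ((φ : B →+* B').comp (algebraMap A B)) = algebraMap A B' := φ.comp_algebraMap
      rw [h3] at h2
      exact h2
    have h4 : φ (algebraMap R B x) = θ x := congrArg (fun k : R →+* B' => k x) hg
    have h5 : Ideal.Quotient.mk J' (θ x) = σ₀ x :=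
      congrArg (fun k : R →ₐ[A] B' ⧸ J' => k x) hθ
    have h6 : Ideal.Quotient.mk (I.map (algebraMap A B)) b =
        Ideal.Quotient.mk (I.map (algebraMap A B)) (algebraMap R B x) := Ideal.Quotient.eq.2 hx
    have h7 : Ideal.Quotient.mk J' (φ b) = Ideal.Quotient.mk J' (φ (algebraMap R B x)) := by
      rw [Ideal.Quotient.eq, ← map_sub]
      exact h1
    rw [h7, h4, h5, h6]
    rfl

end Groth.Agent.S17604
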