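import Groth.Statements.S17605
-- import your own Groth.Agent.* helpers here

set_option autoImplicit false
universe u
open Hensel

namespace Groth.Agent.S17605

theorem isUnit_f1 (A : Type u) [CommRing A]
    (I : Ideal A) (f₁ f₂ : A)
    (h : (PrimeSpectrum.basicOpen f₂ : Set (PrimeSpectrum A)) ∩ PrimeSpectrum.zeroLocus (I : Set A) ⊆
      (PrimeSpectrum.basicOpen f₁ : Set (PrimeSpectrum A)) ∩ PrimeSpectrum.zeroLocus (I : Set A))
    (H₂ : Type u) [CommRing H₂] [Algebra (Localization.Away f₂) H₂] [Algebra A H₂]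
    [IsScalarTower A (Localization.Away f₂) H₂]
    (hjac : I.map (algebraMap A H₂) ≤ Ideal.jacobson ⊥) :
    IsUnit (algebraMap A H₂ f₁) := by
  by_contra hnu
  obtain ⟨m, hm, hfm⟩ := exists_max_ideal_of_mem_nonunits hnu
  have hIm : I.map (algebraMap A H₂) ≤ m := hjac.trans (sInf_le ⟨bot_le, hm⟩)
  haveI := hm.isPrime
  let p : PrimeSpectrum A := ⟨m.comap (algebraMap A H₂), inferInstance⟩
  have hp2 : p ∈ (PrimeSpectrum.basicOpen f₂ : Set (PrimeSpectrum A)) := by
    show f₂ ∉ m.comap (algebraMap A H₂)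
    intro hf
    rw [Ideal.mem_comap] at hf
    have hu : IsUnit (algebraMap A H₂ f₂) := by
      rw [IsScalarTower.algebraMap_apply A (Localization.Away f₂) H₂]
      exact (IsLocalization.Away.algebraMap_isUnit f₂).map _
    exact hm.ne_top (Ideal.eq_top_of_isUnit_mem _ hf hu)
  have hpI : p ∈ PrimeSpectrum.zeroLocus (I : Set A) := by
    intro a ha
    show a ∈ m.comap (algebraMap A H₂)
    rw [Ideal.mem_comap]
    exact hIm (Ideal.mem_map_of_mem _ ha)
  have := (h ⟨hp2, hpI⟩).1
  exact this hfm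

/-- Let A be a ring with an ideal I and let f₁, f₂ be elements of A such that D(f₂) ∩ V(I) ⊆ D(f₁) ∩
V(I) in Spec A. If H₁ is a Henselization of the pair (A_{f₁}, IA_{f₁}) and H₂ a Henselization of the
pair (A_{f₂}, IA_{f₂}), with their induced A-algebra structures, then there is exactly one A-algebra
map H₁ → H₂. -/
theorem result (A : Type u) [CommRing A]
    (I : Ideal A) (f₁ f₂ : A)
    (h : (PrimeSpectrum.basicOpen f₂ : Set (PrimeSpectrum A)) ∩ PrimeSpectrum.zeroLocus (I : Set A) ⊆
      (PrimeSpectrum.basicOpen f₁ : Set (PrimeSpectrum A)) ∩ PrimeSpectrum.zeroLocus (I : Set A))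
    (H₁ : Type u) [CommRing H₁] [Algebra (Localization.Away f₁) H₁] [Algebra A H₁]
    [IsScalarTower A (Localization.Away f₁) H₁]
    (hH₁ : Hens2.IsPairHenselization (Localization.Away f₁)
      (I.map (algebraMap A (Localization.Away f₁))) H₁)
    (H₂ : Type u) [CommRing H₂] [Algebra (Localization.Away f₂) H₂] [Algebra A H₂]
    [IsScalarTower A (Localization.Away f₂) H₂]
    (hH₂ : Hens2.IsPairHenselization (Localization.Away f₂)
      (I.map (algebraMap A (Localization.Away f₂))) H₂) :
    Nonempty (H₁ →ₐ[A] H₂) ∧ Subsingleton (H₁ →ₐ[A] H₂) := by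
  have hJ : (I.map (algebraMap A (Localization.Away f₂))).map (algebraMap (Localization.Away f₂) H₂) =
      I.map (algebraMap A H₂) := by
    rw [Ideal.map_map, ← IsScalarTower.algebraMap_eq]
  have hhens := hH₂.1
  have hjac : I.map (algebraMap A H₂) ≤ Ideal.jacobson ⊥ := by
    rw [← hJ]; exact hhens.jac
  have hu := isUnit_f1 A I f₁ f₂ h H₂ hjac
  let φ : Localization.Away f₁ →+* H₂ := IsLocalization.Away.lift f₁ (g := algebraMap A H₂) hu
  have hφ : φ.comp (algebraMap A (Localization.Away f₁)) = algebraMap A H₂ :=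
    IsLocalization.Away.lift_comp f₁ hu
  have hle : (I.map (algebraMap A (Localization.Away f₁))).map φ ≤
      (I.map (algebraMap A (Localization.Away f₂))).map (algebraMap (Localization.Away f₂) H₂) := by
    rw [Ideal.map_map, hφ, hJ]
  obtain ⟨g, hg, hguniq⟩ := hH₁.2 H₂ _ φ hhens hle
  have key : ∀ ψ : H₁ →ₐ[A] H₂, (ψ : H₁ →+* H₂) = g := by
    intro ψ
    apply hguniq
    apply IsLocalization.ringHom_ext (Submonoid.powers f₁)
    rw [RingHom.comp_assoc, ← IsScalarTower.algebraMap_eq, hφ]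
    exact ψ.comp_algebraMap
  refine ⟨⟨{ g with commutes' := ?_ }⟩, ⟨fun ψ₁ ψ₂ => ?_⟩⟩
  · intro a
    have := congrArg (fun θ => θ (algebraMap A (Localization.Away f₁) a)) hg
    simp only [RingHom.comp_apply] at this
    show g (algebraMap A H₁ a) = algebraMap A H₂ a
    rw [IsScalarTower.algebraMap_apply A (Localization.Away f₁) H₁, this]
    exact congrArg (fun θ => θ a) hφ
  · apply AlgHom.coe_ringHom_injective
    rw [key ψ₁, key ψ₂]

end Groth.Agent.S17605
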