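import Groth.Statements.S17613
import Groth.Agent.Lib.DirLimHens50
import Mathlib.RingTheory.FinitePresentation
import Mathlib.Data.Fintype.Order
import Mathlib.Data.Finset.Order

set_option autoImplicit false
universe u
open Hensel

namespace Groth.Agent.S17613

section abstract

variable {κ : Type u} [Preorder κ] [IsDirectedOrder κ] [Nonempty κ]
  (A : Type u) [CommRing A]
  (G : κ → Type u) [∀ a, CommRing (G a)] [∀ a, Algebra A (G a)]
  (t : ∀ a b : κ, a ≤ b → (G a →+* G b)) [DirectedSystem G (fun a b h => t a b h)]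
  (ht : ∀ (a b : κ) (h : a ≤ b), (t a b h).comp (algebraMap A (G a)) = algebraMap A (G b))
  (L : Type u) [CommRing L] [Algebra A L] (of : ∀ a, G a →+* L)
  (hofA : ∀ (a : κ) (x : A), algebraMap A L x = of a (algebraMap A (G a) x))
  (hof_t : ∀ (a b : κ) (h : a ≤ b) (x : G a), of b (t a b h x) = of a x)
  (hex : ∀ z : L, ∃ (a : κ) (x : G a), of a x = z)
  (heq : ∀ (a b : κ) (x : G a) (y : G b), of a x = of b y →
    ∃ (k : κ) (hak : a ≤ k) (hbk : b ≤ k), t a k hak x = t b k hbk y)

/-- The transition maps as algebra homs. -/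
def tAlg (a b : κ) (h : a ≤ b) : G a →ₐ[A] G b :=
  { t a b h with commutes' := fun x => congrArg (fun k : A →+* G b => k x) (ht a b h) }

/-- The canonical maps to the limit as algebra homs. -/
def ofAlg (a : κ) : G a →ₐ[A] L :=
  { of a with commutes' := fun x => (hofA a x).symm }

omit [Algebra A L] in
include ht heq in
theorem exists_eq_of_finiteType (R : Type u) [CommRing R] [Algebra A R] [Algebra.FiniteType A R]
    (a : κ) (φ ψ : R →ₐ[A] G a)
    (h : ∀ x, of a (φ x) = of a (ψ x)) :
    ∃ (b : κ) (hab : a ≤ b), ∀ x, t a b hab (φ x) = t a b hab (ψ x) := by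
  classical
  obtain ⟨s, hs⟩ := Algebra.FiniteType.out (R := A) (A := R)
  have h1 : ∀ x : R, ∃ (b : κ) (hab : a ≤ b), t a b hab (φ x) = t a b hab (ψ x) := by
    intro x
    obtain ⟨k, hik, hjk, hk⟩ := heq a a _ _ (h x)
    exact ⟨k, hik, hk⟩
  choose bx habx hbx using h1
  obtain ⟨M, hM⟩ := Finset.exists_le (s.image bx)
  obtain ⟨b, hMb, hab⟩ := exists_ge_ge M a
  refine ⟨b, hab, ?_⟩
  have hxs : ∀ x ∈ s, t a b hab (φ x) = t a b hab (ψ x) := by
    intro x hx
    have hle : bx x ≤ b := (hM _ (Finset.mem_image_of_mem _ hx)).trans hMb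
    rw [← DirectedSystem.map_map' (f := t) (habx x) hle, ← DirectedSystem.map_map' (f := t) (habx x) hle,
      hbx x]
  have : (tAlg A G t ht a b hab).comp φ = (tAlg A G t ht a b hab).comp ψ := by
    apply AlgHom.ext_of_adjoin_eq_top hs
    intro x hx
    exact hxs x hx
  intro x
  exact congrArg (fun k : R →ₐ[A] G b => k x) this

include ht hofA hof_t hex heq in
theorem exists_factor (R : Type u) [CommRing R] [Algebra A R] [Algebra.FinitePresentation A R]
    (g : R →ₐ[A] L) :
    ∃ (a : κ) (φ : R →ₐ[A] G a), ∀ x, of a (φ x) = g x := by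
  classical
  obtain ⟨n, f, hf, hker⟩ := Algebra.FinitePresentation.out (R := A) (A := R)
  obtain ⟨s, hs⟩ := hker
  -- lift the images of the variables
  have h1 : ∀ j : Fin n, ∃ (a : κ) (z : G a), of a z = g (f (MvPolynomial.X j)) :=
    fun j => hex _
  choose aj zj hzj using h1
  obtain ⟨a, ha⟩ := Finite.exists_le aj
  let w : Fin n → G a := fun j => t (aj j) a (ha j) (zj j)
  let θ : MvPolynomial (Fin n) A →ₐ[A] G a := MvPolynomial.aeval w
  have hθ : (ofAlg A G L of hofA a).comp θ = g.comp f := by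
    apply MvPolynomial.algHom_ext
    intro j
    simp only [AlgHom.comp_apply, θ, MvPolynomial.aeval_X, w]
    show of a (t (aj j) a (ha j) (zj j)) = _
    rw [hof_t, hzj]
  -- kill the relations
  have h2 : ∀ p : MvPolynomial (Fin n) A, p ∈ s → ∃ (b : κ) (hab : a ≤ b), t a b hab (θ p) = 0 := by
    intro p hp
    have hp0 : f p = 0 := by
      have : p ∈ RingHom.ker f.toRingHom := by
        rw [← hs]; exact Ideal.subset_span hp
      exact this
    have : of a (θ p) = of a 0 := by
      have h3 := congrArg (fun k : MvPolynomial (Fin n) A →ₐ[A] L => k p) hθ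
      simp only [AlgHom.comp_apply] at h3
      have h4 : of a (θ p) = g (f p) := h3
      rw [h4, hp0, map_zero, map_zero]
    obtain ⟨k, hik, hjk, hk⟩ := heq a a _ _ this
    exact ⟨k, hik, by rw [hk, map_zero]⟩
  have h2' : ∀ p : MvPolynomial (Fin n) A, ∃ (b : κ) (hab : a ≤ b), p ∈ s → t a b hab (θ p) = 0 := by
    intro p
    by_cases hp : p ∈ s
    · obtain ⟨b, hab, h⟩ := h2 p hp
      exact ⟨b, hab, fun _ => h⟩
    · exact ⟨a, le_rfl, fun h => absurd h hp⟩
  choose bp habp hbp using h2'
  obtain ⟨M, hM⟩ := Finset.exists_le (s.image bp)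
  obtain ⟨b, hMb, hab⟩ := exists_ge_ge M a
  let θ' : MvPolynomial (Fin n) A →ₐ[A] G b := (tAlg A G t ht a b hab).comp θ
  have hθ's : ∀ p ∈ s, θ' p = 0 := by
    intro p hp
    have hle : bp p ≤ b := (hM _ (Finset.mem_image_of_mem _ hp)).trans hMb
    show t a b hab (θ p) = 0
    rw [← DirectedSystem.map_map' (f := t) (habp p) hle, hbp p hp, map_zero]
  have hker' : ∀ p, f p = 0 → θ' p = 0 := by
    intro p hp
    have hle : Ideal.span (s : Set (MvPolynomial (Fin n) A)) ≤
        RingHom.ker (θ' : MvPolynomial (Fin n) A →+* G b) := by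
      rw [Ideal.span_le]
      intro p hp
      exact hθ's p hp
    have : p ∈ RingHom.ker f.toRingHom := hp
    rw [← hs] at this
    exact hle this
  -- descend to `R`
  let e := Ideal.quotientKerAlgEquivOfSurjective hf
  let φ₁ : (MvPolynomial (Fin n) A ⧸ RingHom.ker (f : MvPolynomial (Fin n) A →+* R)) →ₐ[A] G b :=
    Ideal.Quotient.liftₐ _ θ' (fun p hp => hker' p hp)
  let φ : R →ₐ[A] G b := φ₁.comp e.symm.toAlgHom
  have hφ : ∀ p, φ (f p) = θ' p := by
    intro p
    have : e.symm (f p) = Ideal.Quotient.mk _ p := by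
      rw [AlgEquiv.symm_apply_eq]
      rfl
    show φ₁ (e.symm (f p)) = θ' p
    rw [this]
    rfl
  refine ⟨b, φ, ?_⟩
  intro x
  obtain ⟨p, rfl⟩ := hf x
  rw [hφ]
  show of b (t a b hab (θ p)) = g (f p)
  rw [hof_t]
  have h3 := congrArg (fun k : MvPolynomial (Fin n) A →ₐ[A] L => k p) hθ
  exact h3

set_option maxHeartbeats 400000 in
include ht hofA hof_t hex heq in
theorem main (I : Ideal A)
    (R₀ : Type u) [CommRing R₀] [Algebra A R₀] [Algebra.FinitePresentation A R₀]
    (B : Type u) [CommRing B] [Algebra R₀ B] [Algebra A B] [IsScalarTower A R₀ B]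
    (hB : Hens2.IsPairHenselization R₀ (I.map (algebraMap A R₀)) B)
    (hG : ∀ a, HenselianRing (G a) (I.map (algebraMap A (G a))))
    (hHL : HenselianRing L (⨆ a, (I.map (algebraMap A (G a))).map (of a))) :
    (∀ χ : B →ₐ[A] L, ∃ (a : κ) (φ : B →ₐ[A] G a), ∀ x : B, of a (φ x) = χ x) ∧
    ∀ (a : κ) (φ ψ : B →ₐ[A] G a), (∀ x : B, of a (φ x) = of a (ψ x)) →
      ∃ (b : κ) (h : a ≤ b), ∀ x : B, t a b h (φ x) = t a b h (ψ x) := by
  let ι : R₀ →ₐ[A] B := IsScalarTower.toAlgHom A R₀ B
  -- general: an `A`-algebra map out of `R₀` maps `I R₀` into `I C`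
  have hle : ∀ {C : Type u} [CommRing C] [Algebra A C] (f : R₀ →ₐ[A] C),
      (I.map (algebraMap A R₀)).map (f : R₀ →+* C) ≤ I.map (algebraMap A C) := by
    intro C _ _ f
    rw [Ideal.map_map]
    have : (f : R₀ →+* C).comp (algebraMap A R₀) = algebraMap A C := f.comp_algebraMap
    rw [this]
  -- the limit is henselian
  have hof : ∀ a, (of a).comp (algebraMap A (G a)) = algebraMap A L :=
    fun a => RingHom.ext fun x => (hofA a x).symm
  have hHL' : HenselianRing L (I.map (algebraMap A L)) := by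
    have h2 : (⨆ a, (I.map (algebraMap A (G a))).map (of a)) = I.map (algebraMap A L) := by
      have : ∀ a, (I.map (algebraMap A (G a))).map (of a) = I.map (algebraMap A L) := by
        intro a
        rw [Ideal.map_map, hof a]
      simp only [this]
      exact iSup_const
    rw [h2] at hHL
    exact hHL
  constructor
  · intro χ
    obtain ⟨a, φ₀, hφ₀⟩ := exists_factor A G t ht L of hofA hof_t hex heq R₀ (χ.comp ι)
    obtain ⟨g, hg, -⟩ := hB.2 (G a) _ (φ₀ : R₀ →+* G a) (hG a) (hle φ₀)
    have hcomm : ∀ x : A, g (algebraMap A B x) = algebraMap A (G a) x := by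
      intro x
      rw [IsScalarTower.algebraMap_apply A R₀ B]
      have := congrArg (fun k : R₀ →+* G a => k (algebraMap A R₀ x)) hg
      simp only [RingHom.comp_apply] at this
      rw [this]
      exact φ₀.commutes x
    let φ : B →ₐ[A] G a := { g with commutes' := hcomm }
    have hφg : ∀ x, φ x = g x := fun _ => rfl
    refine ⟨a, φ, ?_⟩
    -- uniqueness in the limit
    obtain ⟨e, -, he⟩ := hB.2 L _ ((χ.comp ι : R₀ →ₐ[A] L) : R₀ →+* L) hHL'
      (hle (χ.comp ι))
    have e1 : (of a).comp g = e := he _ (by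
      show ((of a).comp g).comp _ = _
      rw [RingHom.comp_assoc, hg]
      ext r
      exact hφ₀ r)
    have e2 : (χ : B →+* L) = e := he _ rfl
    intro x
    rw [hφg]
    exact congrArg (fun k : B →+* L => k x) (e1.trans e2.symm)
  · intro a φ ψ h
    obtain ⟨b, hab, hb⟩ := exists_eq_of_finiteType A G t ht L of heq R₀ a (φ.comp ι) (ψ.comp ι)
      (fun x => h _)
    refine ⟨b, hab, ?_⟩
    let f₀ : R₀ →ₐ[A] G b := (tAlg A G t ht a b hab).comp (φ.comp ι)
    obtain ⟨e, -, he⟩ := hB.2 (G b) _ (f₀ : R₀ →+* G b) (hG b) (hle f₀)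
    have e1 : (t a b hab).comp (φ : B →+* G a) = e := he _ rfl
    have e2 : (t a b hab).comp (ψ : B →+* G a) = e := he _ (by
      show ((t a b hab).comp (ψ : B →+* G a)).comp _ = _
      ext r
      exact (hb r).symm)
    intro x
    exact congrArg (fun k : B →+* G b => k x) (e1.trans e2.symm)

end abstract

/-- Let (A, I) be a Henselian pair and let B be a Henselization of the pair (R₀, IR₀) for a finitely
presented A-algebra R₀ (so A → B is Henselian finitely presented). Let (R_a) be a directed system of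
A-algebras with A-compatible transition maps such that each (R_a, IR_a) is a Henselian pair, and let
L be its direct limit with the induced A-algebra structure. Then the canonical map from the colimit
of the Hom_A(B, R_a) to Hom_A(B, L) is bijective: every A-algebra map B → L factors through some
R_a, and two A-algebra maps B → R_a whose composites with R_a → L agree become equal after passing
to some R_b. (Index set in the universe of the rings.) -/
theorem result (A : Type u) [CommRing A] (I : Ideal A)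
    [HenselianRing A I] (R₀ : Type u) [CommRing R₀] [Algebra A R₀] [Algebra.FinitePresentation A R₀]
    (B : Type u) [CommRing B] [Algebra R₀ B] [Algebra A B] [IsScalarTower A R₀ B]
    (hB : Hens2.IsPairHenselization R₀ (I.map (algebraMap A R₀)) B)
    {κ : Type u} [Preorder κ] [IsDirectedOrder κ] [Nonempty κ]
    (Ra : κ → Type u) [∀ a, CommRing (Ra a)] [∀ a, Algebra A (Ra a)]
    [∀ a, HenselianRing (Ra a) (I.map (algebraMap A (Ra a)))]
    (t : ∀ a b : κ, a ≤ b → (Ra a →+* Ra b)) [DirectedSystem Ra (fun a b h => t a b h)]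
    (ht : ∀ (a b : κ) (h : a ≤ b), (t a b h).comp (algebraMap A (Ra a)) = algebraMap A (Ra b))
    [Algebra A (DirectLimit Ra t)]
    (halg : ∀ (a : κ) (x : A), algebraMap A (DirectLimit Ra t) x =
      DirectLimit.Ring.of Ra t a (algebraMap A (Ra a) x)) :
    (∀ χ : B →ₐ[A] DirectLimit Ra t, ∃ (a : κ) (φ : B →ₐ[A] Ra a),
        ∀ x : B, DirectLimit.Ring.of Ra t a (φ x) = χ x) ∧
    ∀ (a : κ) (φ ψ : B →ₐ[A] Ra a),
      (∀ x : B, DirectLimit.Ring.of Ra t a (φ x) = DirectLimit.Ring.of Ra t a (ψ x)) →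
      ∃ (b : κ) (h : a ≤ b), ∀ x : B, t a b h (φ x) = t a b h (ψ x) := by
  have h1 := Groth.Agent.Lib.DirLimHens50.henselianRing_directLimit Ra t
    (fun a => I.map (algebraMap A (Ra a)))
    (fun a b h => by rw [Ideal.map_map, ht a b h])
    (fun a => inferInstance)
  exact main A Ra t ht (DirectLimit Ra t) (DirectLimit.Ring.of Ra t) halg
    (fun a b h x => Groth.Agent.Lib.DirLimHens50.of_f Ra t h x)
    (fun z => Groth.Agent.Lib.DirLimHens50.exists_of Ra t z)
    (fun a b x y h => Groth.Agent.Lib.DirLimHens50.of_eq_of Ra t h)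
    I R₀ B hB (fun a => inferInstance) h1

end Groth.Agent.S17613
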