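import Groth.Statements.S17615
import Groth.Agent.Lib.HFP
import Groth.Agent.Lib.FlatLimTower88
import Groth.Agent.Lib.SrcLocalRing
import Groth.Agent.Lib.H77GenFlatAlg

set_option autoImplicit false
universe u
open Hensel

namespace Groth.Agent.S17615

open Groth.Agent.Lib.PairEtaleNbhd Groth.Agent.Lib.PairHenselizationEtale Groth.Agent.Lib.HFP

section
variable {R₀ : Type u} [CommRing R₀] (J : Ideal R₀) {B : Type u} [CommRing B] [Algebra R₀ B]

/-- Any prime containing `J` lifts to the henselization of `(R₀, J)`. -/
theorem exists_prime_liesOver (hB : Hens2.IsPairHenselization R₀ J B) (q : Ideal R₀) [q.IsPrime]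
    (hq : J ≤ q) : ∃ Q : Ideal B, Q.IsPrime ∧ Q.comap (algebraMap R₀ B) = q := by
  have hhens : HenselianRing (R₀ ⧸ J) ⊥ := by
    apply Groth.Agent.Lib.HenselPair.henselian_of_nilpotent
    intro x hx
    rw [Ideal.mem_bot] at hx
    exact ⟨1, by rw [hx, pow_one]⟩
  obtain ⟨g, hg, -⟩ := hB.2 (R₀ ⧸ J) ⊥ (Ideal.Quotient.mk J) hhens
    (by rw [Ideal.map_quotient_self])
  have hp : (q.map (Ideal.Quotient.mk J)).IsPrime :=
    Ideal.map_isPrime_of_surjective Ideal.Quotient.mk_surjective (by rwa [Ideal.mk_ker])
  refine ⟨(q.map (Ideal.Quotient.mk J)).comap g, Ideal.comap_isPrime g _, ?_⟩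
  rw [Ideal.comap_comap, hg, Ideal.comap_map_of_surjective _ Ideal.Quotient.mk_surjective,
    ← RingHom.ker_eq_comap_bot, Ideal.mk_ker, sup_eq_left.2 hq]

/-- The local rings of `R₀` along `V(J)` are flat over `A` if the henselization is. -/
theorem flat_atPrime {A : Type u} [CommRing A] [Algebra A R₀] [Algebra A B] [IsScalarTower A R₀ B]
    [Module.Flat A B] (hB : Hens2.IsPairHenselization R₀ J B) (q : Ideal R₀) [q.IsPrime]
    (hq : J ≤ q) : Module.Flat A (Localization.AtPrime q) := by
  obtain ⟨Q, hQ, hQq⟩ := exists_prime_liesOver J hB q hq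
  have hlo : Q.LiesOver q := ⟨hQq.symm⟩
  letI := Localization.AtPrime.algebraOfLiesOver q Q
  have h1 : Module.Flat R₀ B := Groth.Agent.Lib.PairHenselization.flat_of_isPairHenselization hB
  have h2 : Module.Flat (Localization.AtPrime q) (Localization.AtPrime Q) := inferInstance
  have h3 : IsLocalHom (algebraMap (Localization.AtPrime q) (Localization.AtPrime Q)) :=
    Localization.isLocalHom_localRingHom q Q (algebraMap R₀ B) Ideal.LiesOver.over
  have h4 : Module.FaithfullyFlat (Localization.AtPrime q) (Localization.AtPrime Q) :=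
    Module.FaithfullyFlat.of_flat_of_isLocalHom
  have h5 : Module.Flat A (Localization.AtPrime Q) := Module.Flat.trans A B _
  have h6 : IsScalarTower A (Localization.AtPrime q) (Localization.AtPrime Q) := inferInstance
  exact Groth.Agent.Lib.SrcLocalRing.flat_of_flat_comp_faithfullyFlat (A := A)
    (B := Localization.AtPrime q) (B' := Localization.AtPrime Q)

/-- Flatness of the local ring, in `LocalizedModule` form. -/
theorem flat_localizedModule_atPrime {A : Type u} [CommRing A] [Algebra A R₀] [Algebra A B]
    [IsScalarTower A R₀ B] [Module.Flat A B] (hB : Hens2.IsPairHenselization R₀ J B)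
    (q : Ideal R₀) [q.IsPrime] (hq : J ≤ q) :
    Module.Flat A (LocalizedModule q.primeCompl R₀) := by
  have h := flat_atPrime J hB q hq (A := A)
  have hloc : IsLocalizedModule q.primeCompl (Algebra.linearMap R₀ (Localization.AtPrime q)) :=
    (isLocalizedModule_iff_isLocalization).2 inferInstance
  let e : LocalizedModule q.primeCompl R₀ ≃ₗ[R₀] Localization.AtPrime q :=
    IsLocalizedModule.iso q.primeCompl (Algebra.linearMap R₀ (Localization.AtPrime q))
  exact Module.Flat.of_linearEquiv (e.restrictScalars A)

/-- There is `f ≡ 1 mod J` with `(R₀)_f` flat over `A`. -/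
theorem exists_flat_away {A : Type u} [CommRing A] [Algebra A R₀]
    [Algebra.FinitePresentation A R₀] [Algebra A B] [IsScalarTower A R₀ B] [Module.Flat A B]
    (hB : Hens2.IsPairHenselization R₀ J B) :
    ∃ f : R₀, f - 1 ∈ J ∧ Module.Flat A (Localization.Away f) := by
  have hopen := Groth.Agent.Lib.FlatLimFP88.isOpen_module_flat_locus (R := A) (S := R₀) (M := R₀)
  set U := {q : PrimeSpectrum R₀ | Module.Flat A (LocalizedModule q.asIdeal.primeCompl R₀)}
    with hU
  have hJU : PrimeSpectrum.zeroLocus (J : Set R₀) ⊆ U := by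
    intro q hq
    exact flat_localizedModule_atPrime J hB q.asIdeal ((PrimeSpectrum.mem_zeroLocus _ _).1 hq)
  obtain ⟨K, hK⟩ := (PrimeSpectrum.isClosed_iff_zeroLocus_ideal _).1 hopen.isClosed_compl
  have htop : K ⊔ J = ⊤ := by
    rw [← PrimeSpectrum.zeroLocus_empty_iff_eq_top, PrimeSpectrum.zeroLocus_sup, ← hK]
    rw [Set.eq_empty_iff_forall_notMem]
    rintro q ⟨h1, h2⟩
    exact h1 (hJU h2)
  obtain ⟨f, hf, j, hj, hfj⟩ := Submodule.mem_sup.1 (htop ▸ Submodule.mem_top : (1 : R₀) ∈ K ⊔ J)
  refine ⟨f, ?_, ?_⟩
  · have : f - 1 = -j := by rw [← hfj]; ring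
    rw [this]; exact J.neg_mem hj
  · have h1 : Module.Flat A (LocalizedModule (Submonoid.powers f) R₀) := by
      apply Groth.Agent.Lib.FlatLimTower88.flat_localizedModule_of_forall_prime
      intro Q _ hdis
      have hfQ : f ∉ Q := fun h => Set.disjoint_left.1 hdis (Submonoid.mem_powers f) h
      have hQU : (⟨Q, inferInstance⟩ : PrimeSpectrum R₀) ∈ U := by
        by_contra hcon
        have h2 : (⟨Q, inferInstance⟩ : PrimeSpectrum R₀) ∈ Uᶜ := hcon
        rw [hK] at h2
        exact hfQ (h2 hf)
      exact hQU
    have hloc : IsLocalizedModule (Submonoid.powers f)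
        (Algebra.linearMap R₀ (Localization.Away f)) :=
      (isLocalizedModule_iff_isLocalization).2 inferInstance
    let e : LocalizedModule (Submonoid.powers f) R₀ ≃ₗ[R₀] Localization.Away f :=
      IsLocalizedModule.iso (Submonoid.powers f) (Algebra.linearMap R₀ (Localization.Away f))
    exact Module.Flat.of_linearEquiv (e.symm.restrictScalars A)

end

/-- Let (A, I) be a Henselian pair and let B be a Henselization of the pair (R₀, IR₀) for a finitely
presented A-algebra R₀ (so A → B is a Henselian finitely presented map of Henselian pairs). If B is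
flat over A, then there are a finitely presented A-algebra S that is flat over A and an S-algebra
structure on B compatible with that of A for which B is a Henselization of the pair (S, IS). -/
theorem result (A : Type u) [CommRing A]
    (I : Ideal A) [HenselianRing A I]
    (R₀ : Type u) [CommRing R₀] [Algebra A R₀] [Algebra.FinitePresentation A R₀]
    (B : Type u) [CommRing B] [Algebra R₀ B] [Algebra A B] [IsScalarTower A R₀ B]
    (hB : Hens2.IsPairHenselization R₀ (I.map (algebraMap A R₀)) B) [Module.Flat A B] :
    ∃ (S : Type u) (_ : CommRing S) (_ : Algebra A S) (_ : Algebra S B) (_ : IsScalarTower A S B),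
      Algebra.FinitePresentation A S ∧ Module.Flat A S ∧
      Hens2.IsPairHenselization S (I.map (algebraMap A S)) B := by
  obtain ⟨f, hf, hflat⟩ := exists_flat_away (I.map (algebraMap A R₀)) hB (A := A)
  have hnb : IsNbhd (I.map (algebraMap A R₀)) (Localization.Away f) :=
    IsNbhd.away_self (I.map (algebraMap A R₀)) f hf
  obtain ⟨θ, -, -⟩ := existsUnique_algHom hB hnb
  letI : Algebra (Localization.Away f) B := θ.toRingHom.toAlgebra
  have t1 : IsScalarTower R₀ (Localization.Away f) B :=
    IsScalarTower.of_algebraMap_eq (fun x => (θ.commutes x).symm)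
  have t2 : IsScalarTower A (Localization.Away f) B :=
    IsScalarTower.of_algebraMap_eq (fun a => by
      change algebraMap A B a = θ (algebraMap A (Localization.Away f) a)
      rw [IsScalarTower.algebraMap_apply A R₀ (Localization.Away f), θ.commutes,
        ← IsScalarTower.algebraMap_apply])
  have hS := isPairHenselization_of_nbhd hnb hB
  have hfp0 : Algebra.FinitePresentation R₀ (Localization.Away f) :=
    IsLocalization.Away.finitePresentation f
  have hfp : Algebra.FinitePresentation A (Localization.Away f) :=
    Algebra.FinitePresentation.trans A R₀ _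
  refine ⟨Localization.Away f, inferInstance, inferInstance, inferInstance, t2, hfp, hflat, ?_⟩
  have hid : (I.map (algebraMap A R₀)).map (algebraMap R₀ (Localization.Away f)) =
      I.map (algebraMap A (Localization.Away f)) := by
    rw [Ideal.map_map, ← IsScalarTower.algebraMap_eq]
  rw [← hid]
  exact hS

end Groth.Agent.S17615
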