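import Groth.Statements.S17616
import Groth.Agent.Lib.H15AwayNbhd
import Mathlib.RingTheory.RingHom.Etale
import Mathlib.RingTheory.Etale.Basic

set_option autoImplicit false
universe u
open Hensel

namespace Groth.Agent.S17616

/-- Let P be a property of ring maps (between rings in a fixed universe), and say that f : B → B' has P
at a prime q of B' if the composite B → B' → B'_g has P for some g ∉ q. Assume (i) for every
finitely presented f : B → B' the set of primes of B' at which f has P is ind-constructible in Spec
B', and f has P as soon as it has P at every prime; (ii) every étale ring map has P; (iii) for g : C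
→ C' and h : C' → C'', if h has P at a prime q of C'' and g has P at the inverse image of q in C',
then h ∘ g has P at q. Now suppose (A, I) is a Henselian pair, and take an A-algebra R of finite
presentation for which A → R has P at each prime of R that contains IR. Then there is an étale
R-algebra R' with R/IR → R'/IR' bijective such that A → R' has P. -/
theorem result
    (P : ∀ ⦃B B' : Type u⦄ [CommRing B] [CommRing B'], (B →+* B') → Prop)
    (PAt : ∀ ⦃B B' : Type u⦄ [CommRing B] [CommRing B'], (B →+* B') → Ideal B' → Prop)
    (hPAt : ∀ ⦃B B' : Type u⦄ [CommRing B] [CommRing B'] (f : B →+* B') (q : Ideal B'),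
      PAt f q ↔ ∃ g : B', g ∉ q ∧ P ((algebraMap B' (Localization.Away g)).comp f))
    (h₁ : ∀ ⦃B B' : Type u⦄ [CommRing B] [CommRing B'] (f : B →+* B'), f.FinitePresentation →
      ProCons.IsIndConstructible {q : PrimeSpectrum B' | PAt f q.asIdeal} ∧
        ((∀ q : PrimeSpectrum B', PAt f q.asIdeal) → P f))
    (h₂ : ∀ ⦃B B' : Type u⦄ [CommRing B] [CommRing B'] (f : B →+* B'), f.Etale → P f)
    (h₃ : ∀ ⦃C C' C'' : Type u⦄ [CommRing C] [CommRing C'] [CommRing C''] (g : C →+* C')
      (h : C' →+* C'') (q : Ideal C'') [q.IsPrime],
      PAt h q → PAt g (q.comap h) → PAt (h.comp g) q)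
    (A : Type u) [CommRing A] (I : Ideal A) [HenselianRing A I]
    (R : Type u) [CommRing R] [Algebra A R] [Algebra.FinitePresentation A R]
    (hR : ∀ (p : Ideal R) [p.IsPrime], I.map (algebraMap A R) ≤ p → PAt (algebraMap A R) p) :
    ∃ (R' : Type u) (_ : CommRing R') (_ : Algebra R R') (_ : Algebra A R') (_ : IsScalarTower A R R'),
      Algebra.Etale R R' ∧
      Function.Bijective (Ideal.quotientMap ((I.map (algebraMap A R)).map (algebraMap R R'))
        (algebraMap R R') Ideal.le_comap_map) ∧ P (algebraMap A R') := by
  -- the locus where `A → R` has `P` is open by definition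
  let T : Set R := {g | P ((algebraMap R (Localization.Away g)).comp (algebraMap A R))}
  let U : Set (PrimeSpectrum R) :=
    ⋃ g ∈ T, (↑(PrimeSpectrum.basicOpen g) : Set (PrimeSpectrum R))
  have hU : IsOpen U := isOpen_biUnion fun g _ => (PrimeSpectrum.basicOpen g).isOpen
  have hsub : PrimeSpectrum.zeroLocus ((I.map (algebraMap A R) : Ideal R) : Set R) ⊆ U := by
    intro p hp
    have := hR p.asIdeal ((PrimeSpectrum.mem_zeroLocus _ _).mp hp)
    obtain ⟨g, hgp, hg⟩ := (hPAt _ _).mp this
    exact Set.mem_biUnion (show g ∈ T from hg) hgp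
  obtain ⟨g₀, hg1, hgU⟩ := Groth.Agent.Lib.H15AwayNbhd.exists_sub_one_mem_basicOpen_subset
    (I.map (algebraMap A R)) U hU hsub
  have hEt : Algebra.Etale R (Localization.Away g₀) := Algebra.Etale.of_isLocalizationAway g₀
  refine ⟨Localization.Away g₀, inferInstance, inferInstance, inferInstance, inferInstance,
    hEt, Groth.Agent.Lib.H15AwayNbhd.quotientMap_away_bijective _ g₀ hg1 _, ?_⟩
  have hfp : (algebraMap A (Localization.Away g₀)).FinitePresentation := by
    rw [RingHom.finitePresentation_algebraMap]
    have : Algebra.FinitePresentation R (Localization.Away g₀) :=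
      IsLocalization.Away.finitePresentation g₀
    exact Algebra.FinitePresentation.trans A R (Localization.Away g₀)
  refine (h₁ _ hfp).2 ?_
  intro q'
  -- `R → R'` is étale hence has `P` at `q'`
  have hh : PAt (algebraMap R (Localization.Away g₀)) q'.asIdeal := by
    rw [hPAt]
    refine ⟨1, fun h => q'.isPrime.ne_top ((Ideal.eq_top_iff_one _).mpr h), ?_⟩
    apply h₂
    have e1 : (algebraMap R (Localization.Away g₀)).Etale := RingHom.etale_algebraMap.mpr hEt
    have e2 : (algebraMap (Localization.Away g₀)
        (Localization.Away (1 : Localization.Away g₀))).Etale :=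
      RingHom.etale_algebraMap.mpr (Algebra.Etale.of_isLocalizationAway 1)
    exact RingHom.Etale.stableUnderComposition _ _ e1 e2
  have hq : PAt (algebraMap A R) (q'.asIdeal.comap (algebraMap R (Localization.Away g₀))) := by
    have hmem : (PrimeSpectrum.comap (algebraMap R (Localization.Away g₀)) q') ∈
        (↑(PrimeSpectrum.basicOpen g₀) : Set (PrimeSpectrum R)) := by
      show g₀ ∉ (q'.asIdeal.comap (algebraMap R (Localization.Away g₀)))
      intro hmem
      exact q'.isPrime.ne_top (Ideal.eq_top_of_isUnit_mem _ hmem
        (IsLocalization.Away.algebraMap_isUnit g₀))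
    obtain ⟨g, hgT, hqg⟩ := Set.mem_iUnion₂.mp (hgU hmem)
    rw [hPAt]
    exact ⟨g, hqg, hgT⟩
  have := h₃ (algebraMap A R) (algebraMap R (Localization.Away g₀)) q'.asIdeal hh hq
  rwa [← IsScalarTower.algebraMap_eq] at this

end Groth.Agent.S17616
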