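import Groth.Statements.S17617
import Groth.Agent.Lib.PairEtaleNbhd
import Groth.Agent.Lib.PairHenselizationProps

set_option autoImplicit false
universe u
open Hensel

namespace Groth.Agent.S17617

/-- Let (A, I) be a Henselian pair and let M' → M → M'' be A-linear maps with zero composite. Then M' →
M → M'' is exact if and only if for every prime ideal p of A containing I and every Henselization H
of the pair (A_p, IA_p), the sequence H ⊗_A M' → H ⊗_A M → H ⊗_A M'' is exact. (The modules H ⊗_A M
are the stalks at p of the sheaf associated to M on the affine Henselian scheme of (A, I), and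
exactness of a sequence of such sheaves is exactness at every stalk, so this is the statement that
the sequence of modules is exact exactly when the associated sequence of sheaves is.) -/
theorem result (A : Type u) [CommRing A]
    (I : Ideal A) [HenselianRing A I]
    (M' M M'' : Type u) [AddCommGroup M'] [Module A M'] [AddCommGroup M] [Module A M]
    [AddCommGroup M''] [Module A M''] (f : M' →ₗ[A] M) (g : M →ₗ[A] M'') (hfg : g.comp f = 0) :
    Function.Exact f g ↔
    ∀ (p : Ideal A) [p.IsPrime], I ≤ p →
      ∀ (H : Type u) [CommRing H] [Algebra (Localization.AtPrime p) H] [Algebra A H]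
        [IsScalarTower A (Localization.AtPrime p) H],
        Hens2.IsPairHenselization (Localization.AtPrime p)
          (I.map (algebraMap A (Localization.AtPrime p))) H →
        Function.Exact (f.baseChange H) (g.baseChange H) := by
  constructor
  · -- flat base change preserves exactness
    intro hex p _ hp H _ _ _ _ hH
    have h1 : Module.Flat (Localization.AtPrime p) H :=
      Groth.Agent.Lib.PairHenselization.flat_of_isPairHenselization hH
    have h2 : Module.Flat A H := Module.Flat.trans A (Localization.AtPrime p) H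
    exact Module.Flat.lTensor_exact H hex
  · intro hall
    rw [LinearMap.exact_iff]
    apply le_antisymm
    swap
    · rintro _ ⟨y, rfl⟩
      exact LinearMap.congr_fun hfg y
    intro x hx
    have hgx : g x = 0 := hx
    -- the quotient `N = M / range f` and the annihilator of the class of `x`
    let q := (LinearMap.range f).mkQ
    have hqf : q.comp f = 0 := by
      ext y
      exact (Submodule.Quotient.mk_eq_zero _).2 ⟨y, rfl⟩
    let t : A →ₗ[A] (M ⧸ LinearMap.range f) := LinearMap.toSpanSingleton A _ (q x)
    let 𝔞 : Ideal A := LinearMap.ker t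
    by_contra hxf
    have h𝔞 : 𝔞 ≠ ⊤ := by
      intro htop
      have h1 : (1 : A) ∈ 𝔞 := by rw [htop]; exact Submodule.mem_top
      have h2 : t 1 = 0 := h1
      have h3 : q x = 0 := by simpa [t] using h2
      exact hxf ((Submodule.Quotient.mk_eq_zero _).1 h3)
    obtain ⟨m, hm, h𝔞m⟩ := Ideal.exists_le_maximal 𝔞 h𝔞
    have hIm : I ≤ m := by
      refine le_trans (HenselianRing.jac (R := A) (I := I)) ?_
      exact sInf_le ⟨bot_le, hm⟩
    -- the henselization at `m`
    let Am := Localization.AtPrime m
    let Im : Ideal Am := I.map (algebraMap A Am)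
    let H := Groth.Agent.Lib.PairHenselization.Hzn2 Am Im
    let _ : Algebra A H := ((algebraMap Am H).comp (algebraMap A Am)).toAlgebra
    have tower : IsScalarTower A Am H := IsScalarTower.of_algebraMap_eq (fun _ => rfl)
    have hH : Hens2.IsPairHenselization Am Im H :=
      Groth.Agent.Lib.PairHenselization.isPairHenselization _ _
    have hex := hall m hIm H hH
    have h1 : Module.Flat Am H :=
      Groth.Agent.Lib.PairHenselization.flat_of_isPairHenselization hH
    have h2 : Module.Flat A H := Module.Flat.trans A Am H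
    -- `1 ⊗ x` is in the range of `f ⊗ H`
    have hker : (g.baseChange H) ((1 : H) ⊗ₜ[A] x) = 0 := by
      rw [LinearMap.baseChange_tmul, hgx, TensorProduct.tmul_zero]
    obtain ⟨z, hz⟩ := (hex _).1 hker
    -- the injection `A / 𝔞 → N`
    let ι : (A ⧸ 𝔞) →ₗ[A] (M ⧸ LinearMap.range f) := Submodule.liftQ 𝔞 t le_rfl
    have hι : Function.Injective ι := by
      rw [← LinearMap.ker_eq_bot]
      exact Submodule.ker_liftQ_eq_bot' 𝔞 t rfl
    have hιH : Function.Injective (ι.lTensor H) :=
      Module.Flat.lTensor_preserves_injective_linearMap ι hι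
    have h3 : (ι.lTensor H) ((1 : H) ⊗ₜ[A] (Submodule.Quotient.mk (1 : A) : A ⧸ 𝔞)) = 0 := by
      have e1 : (ι.lTensor H) ((1 : H) ⊗ₜ[A] (Submodule.Quotient.mk (1 : A) : A ⧸ 𝔞)) =
          (q.lTensor H) ((1 : H) ⊗ₜ[A] x) := by
        rw [LinearMap.lTensor_tmul, LinearMap.lTensor_tmul]
        congr 1
        change t 1 = q x
        simp [t]
      have e2 : (1 : H) ⊗ₜ[A] x = (f.lTensor H) z := hz.symm
      rw [e1, e2, ← LinearMap.comp_apply, ← LinearMap.lTensor_comp, hqf, LinearMap.lTensor_zero,
        LinearMap.zero_apply]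
    have h4 : (1 : H) ⊗ₜ[A] (Submodule.Quotient.mk (1 : A) : A ⧸ 𝔞) = 0 :=
      hιH (by rw [h3, map_zero])
    -- a ring map `H ⊗ A/𝔞 → κ(m)` which does not kill `1 ⊗ 1`
    have hqb : Groth.Agent.Lib.PairEtaleNbhd.QBij Im H :=
      Groth.Agent.Lib.PairEtaleNbhd.qbij_of_isPairHenselization hH
    have hImle : Im ≤ IsLocalRing.maximalIdeal Am := by
      change I.map (algebraMap A Am) ≤ _
      rw [Ideal.map_le_iff_le_comap]
      intro a ha
      rw [Ideal.mem_comap]
      exact (IsLocalization.AtPrime.to_map_mem_maximal_iff Am m a).2 (hIm ha)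
    let k := IsLocalRing.ResidueField Am
    let θ₁ : H →ₐ[Am] (Am ⧸ Im) := hqb.retr
    let θ₂ : (Am ⧸ Im) →ₐ[Am] k := Ideal.Quotient.factorₐ Am hImle
    let θ : H →ₐ[A] k := (θ₂.comp θ₁).restrictScalars A
    have hψ : ∀ a ∈ 𝔞, (Algebra.ofId A k) a = 0 := by
      intro a ha
      change algebraMap A k a = 0
      rw [IsScalarTower.algebraMap_apply A Am k, IsLocalRing.ResidueField.algebraMap_eq,
        IsLocalRing.residue_eq_zero_iff]
      exact (IsLocalization.AtPrime.to_map_mem_maximal_iff Am m a).2 (h𝔞m ha)
    let ψ : (A ⧸ 𝔞) →ₐ[A] k := Ideal.Quotient.liftₐ 𝔞 (Algebra.ofId A k) hψ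
    have h5 := congrArg (Algebra.TensorProduct.productMap θ ψ) h4
    rw [map_zero, Algebra.TensorProduct.productMap_apply_tmul, map_one] at h5
    have h6 : ψ (Submodule.Quotient.mk (1 : A) : A ⧸ 𝔞) = 1 := map_one ψ
    rw [h6, mul_one] at h5
    exact one_ne_zero h5

end Groth.Agent.S17617
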