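import Groth.Statements.S17619
import Mathlib.RingTheory.Ideal.AssociatedPrime.Finiteness
import Mathlib.RingTheory.Filtration

set_option autoImplicit false
universe u
open FlatMor

namespace Groth.Agent.S17619

open TensorProduct CategoryTheory AlgebraicGeometry

section
variable (A : Type u) [CommRing A] (B : Type u) [CommRing B] [Algebra A B]

/-- The fibre rings of a map with geometrically integral fibres are domains. -/
theorem isDomain_tensor_field (hfib : FlatCA.GeomIntegralFibres A B) (K : Type u) [Field K]
    [Algebra A K] : IsDomain (B ⊗[A] K) := by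
  have h1 := CommRingCat.isPushout_tensorProduct A B K
  have h2 := isPullback_SpecMap_of_isPushout _ _ _ _ h1
  have h3 : IsIntegral (Spec (CommRingCat.of (B ⊗[A] K))) :=
    hfib.geometrically_isIntegral _ _ _ h2
  exact (affine_isIntegral_iff _).mp h3

variable {A B}

variable (A) in
/-- Multiplication by `b` on `B ⊗ N`. -/
noncomputable abbrev mulT (b : B) (N : Type u) [AddCommGroup N] [Module A N] :
    B ⊗[A] N →ₗ[A] B ⊗[A] N := (LinearMap.mulLeft A b).rTensor N

theorem mulT_eq_smul (b : B) (N : Type u) [AddCommGroup N] [Module A N] (x : B ⊗[A] N) :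
    mulT A b N x = b • x := by
  induction x with
  | zero => simp
  | add x y hx hy => rw [map_add, hx, hy, smul_add]
  | tmul c n => simp [mulT, TensorProduct.smul_tmul']

/-- Base case: multiplication by `b` with `u b = 1` is injective on `B ⊗ K` for a field `K`. -/
theorem mulT_injective_field (hfib : FlatCA.GeomIntegralFibres A B) (u : B →ₐ[A] A) (b : B)
    (hb : u b = 1) (K : Type u) [Field K] [Algebra A K] : Function.Injective (mulT A b K) := by
  have hdom := isDomain_tensor_field A B hfib K
  -- the element `b ⊗ 1` is nonzero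
  let ε : B ⊗[A] K →ₐ[A] K :=
    Algebra.TensorProduct.lift ((Algebra.ofId A K).comp u) (AlgHom.id A K) (fun _ _ => Commute.all _ _)
  have hne : (b ⊗ₜ[A] (1 : K)) ≠ 0 := by
    intro h0
    have h1 : ε (b ⊗ₜ[A] (1 : K)) = 1 := by
      simp [ε, hb]
    rw [h0, map_zero] at h1
    exact zero_ne_one h1
  have hmul : ∀ x : B ⊗[A] K, mulT A b K x = (b ⊗ₜ[A] (1 : K)) * x := by
    intro x
    induction x with
    | zero => simp
    | add x y hx hy => rw [map_add, hx, hy, mul_add]
    | tmul c n => simp [mulT]
  intro x y hxy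
  rw [hmul, hmul] at hxy
  exact mul_left_cancel₀ hne hxy

theorem lTensor_mulT (b : B) {N N' : Type u} [AddCommGroup N] [Module A N] [AddCommGroup N']
    [Module A N'] (j : N →ₗ[A] N') (x : B ⊗[A] N) :
    j.lTensor B (mulT A b N x) = mulT A b N' (j.lTensor B x) := by
  change (j.lTensor B ∘ₗ (LinearMap.mulLeft A b).rTensor N) x =
    ((LinearMap.mulLeft A b).rTensor N' ∘ₗ j.lTensor B) x
  rw [LinearMap.lTensor_comp_rTensor, LinearMap.rTensor_comp_lTensor]

/-- Elements `b` with `u b = 1` are nonzerodivisors on `B ⊗ N` for every finite `A`-module `N`. -/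
theorem mulT_injective [IsNoetherianRing A] [Module.Flat A B]
    (hfib : FlatCA.GeomIntegralFibres A B) (u : B →ₐ[A] A) (b : B) (hb : u b = 1)
    (N : Type u) [AddCommGroup N] [Module A N] [hN : Module.Finite A N] :
    Function.Injective (mulT A b N) := by
  induction hN using IsNoetherianRing.induction_on_isQuotientEquivQuotientPrime A with
  | subsingleton N => exact Function.injective_of_subsingleton _
  | quotient N p e =>
    let j₀ : N →ₗ[A] p.asIdeal.ResidueField :=
      (IsScalarTower.toAlgHom A (A ⧸ p.asIdeal) p.asIdeal.ResidueField).toLinearMap ∘ₗ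
        e.toLinearMap
    have hj₀ : Function.Injective j₀ := by
      intro x y hxy
      apply e.injective
      exact Ideal.injective_algebraMap_quotient_residueField p.asIdeal hxy
    have hj : Function.Injective (j₀.lTensor B) :=
      Module.Flat.lTensor_preserves_injective_linearMap j₀ hj₀
    have hK := mulT_injective_field hfib u b hb p.asIdeal.ResidueField
    intro x y hxy
    apply hj
    apply hK
    rw [← lTensor_mulT, ← lTensor_mulT, hxy]
  | exact N₁ N₂ N₃ f g hf hg hfg h₁ h₃ =>
    rw [injective_iff_map_eq_zero]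
    intro x hx
    have hex : Function.Exact (f.lTensor B) (g.lTensor B) := lTensor_exact B hfg hg
    have hf' : Function.Injective (f.lTensor B) :=
      Module.Flat.lTensor_preserves_injective_linearMap f hf
    have h1 : g.lTensor B x = 0 := by
      apply h₃
      rw [← lTensor_mulT, hx, map_zero, map_zero]
    obtain ⟨y, rfl⟩ := (hex x).1 h1
    have h2 : mulT A b N₁ y = 0 := by
      apply hf'
      rw [lTensor_mulT, hx, map_zero]
    have h3 : y = 0 := h₁ (h2.trans (map_zero _).symm)
    rw [h3, map_zero]

end

section Main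

variable {A : Type u} [CommRing A] {B : Type u} [CommRing B] [Algebra A B]

/-- The kernel of `B ⊗ N → (B/𝔞) ⊗ N` is `𝔞 (B ⊗ N)`. -/
theorem mem_smul_top_of_rTensor_mk_eq_zero (𝔞 : Ideal B) (N : Type u) [AddCommGroup N]
    [Module A N] (x : B ⊗[A] N)
    (hx : (Ideal.Quotient.mkₐ A 𝔞).toLinearMap.rTensor N x = 0) :
    x ∈ (𝔞 • ⊤ : Submodule B (B ⊗[A] N)) := by
  let ι : ↥(𝔞.restrictScalars A) →ₗ[A] B := (𝔞.restrictScalars A).subtype
  have hex : Function.Exact ι (Ideal.Quotient.mkₐ A 𝔞).toLinearMap := by
    intro b
    constructor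
    · intro hb
      exact ⟨⟨b, Ideal.Quotient.eq_zero_iff_mem.1 hb⟩, rfl⟩
    · rintro ⟨y, rfl⟩
      exact Ideal.Quotient.eq_zero_iff_mem.2 y.2
  have hsurj : Function.Surjective (Ideal.Quotient.mkₐ A 𝔞).toLinearMap :=
    Ideal.Quotient.mk_surjective
  have hex' := rTensor_exact N hex hsurj
  obtain ⟨y, rfl⟩ := (hex' x).1 hx
  induction y with
  | zero => simp
  | add y z hy hz =>
    rw [map_add]
    exact add_mem (hy (by
      have := hex'.apply_apply_eq_zero y
      exact this)) (hz (by
      have := hex'.apply_apply_eq_zero z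
      exact this))
  | tmul i m =>
    have : ι.rTensor N (i ⊗ₜ[A] m) = (i : B) • ((1 : B) ⊗ₜ[A] m) := by
      simp [ι, TensorProduct.smul_tmul']
    rw [this]
    exact Submodule.smul_mem_smul i.2 Submodule.mem_top

/-- Key case: finite modules. -/
theorem rTensor_injective_finite [IsNoetherianRing A] [Algebra.Smooth A B]
    (hfib : FlatCA.GeomIntegralFibres A B) (u : B →ₐ[A] A)
    (Bh : Type u) [CommRing Bh] [Algebra B Bh] [Algebra A Bh] [IsScalarTower A B Bh]
    (hq : ∀ n : ℕ, Function.Bijective (Ideal.quotientMap ((RingHom.ker u ^ n).map (algebraMap B Bh))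
      (algebraMap B Bh) Ideal.le_comap_map))
    (N : Type u) [AddCommGroup N] [Module A N] [Module.Finite A N] :
    Function.Injective ((IsScalarTower.toAlgHom A B Bh).toLinearMap.rTensor N) := by
  have hnoeth : IsNoetherianRing B := Algebra.FiniteType.isNoetherianRing A B
  have hfin : Module.Finite B (B ⊗[A] N) := inferInstance
  rw [injective_iff_map_eq_zero]
  intro x hx
  have hmem : ∀ n : ℕ, x ∈ ((RingHom.ker u) ^ n • ⊤ : Submodule B (B ⊗[A] N)) := by
    intro n
    apply mem_smul_top_of_rTensor_mk_eq_zero
    let φ : (B ⧸ RingHom.ker u ^ n) →ₗ[A] (Bh ⧸ (RingHom.ker u ^ n).map (algebraMap B Bh)) :=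
      (Ideal.quotientMapₐ ((RingHom.ker u ^ n).map (algebraMap B Bh))
        (IsScalarTower.toAlgHom A B Bh) Ideal.le_comap_map).toLinearMap
    have hφ : Function.Bijective φ := hq n
    have hcomm : φ ∘ₗ (Ideal.Quotient.mkₐ A (RingHom.ker u ^ n)).toLinearMap =
        (Ideal.Quotient.mkₐ A ((RingHom.ker u ^ n).map (algebraMap B Bh))).toLinearMap ∘ₗ
          (IsScalarTower.toAlgHom A B Bh).toLinearMap := by
      ext b
      rfl
    have h1 : φ.rTensor N ((Ideal.Quotient.mkₐ A (RingHom.ker u ^ n)).toLinearMap.rTensor N x)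
        = 0 := by
      rw [← LinearMap.rTensor_comp_apply, hcomm, LinearMap.rTensor_comp_apply, hx, map_zero]
    have hinj : Function.Injective (φ.rTensor N) := by
      have := (LinearEquiv.rTensor N (LinearEquiv.ofBijective φ hφ)).injective
      exact this
    exact hinj (h1.trans (map_zero _).symm)
  have hx' : x ∈ (⨅ n : ℕ, (RingHom.ker u) ^ n • ⊤ : Submodule B (B ⊗[A] N)) :=
    (Submodule.mem_iInf _).2 hmem
  obtain ⟨r, hr⟩ := (Ideal.mem_iInf_smul_pow_eq_bot_iff (RingHom.ker u) x).1 hx'
  have hb : u (1 - (r : B)) = 1 := by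
    rw [map_sub, map_one, (RingHom.mem_ker.1 r.2), sub_zero]
  have h0 : mulT A (1 - (r : B)) N x = 0 := by
    rw [mulT_eq_smul]
    have h3 := sub_smul (1 : B) (r : B) x
    rw [one_smul, hr, sub_self] at h3
    exact h3
  exact mulT_injective hfib u _ hb N (h0.trans (map_zero _).symm)

end Main

/-- Let A be a Noetherian ring and B a smooth A-algebra whose fibres are geometrically integral, and let
u : B → A be an A-algebra retraction with kernel I (the situation reached, after a faithfully flat
base change, in the proof that flat and pure modules are projective). Let B̂ be the I-adic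
completion of B, presented as a B-algebra, compatibly an A-algebra, that is I B̂-adically complete
and for which every truncation B/I^n → B̂/I^n B̂ is bijective. Then the canonical map B → B̂ is
universally injective over A: it remains injective after tensoring over A with any A-module (modules
in the universe of A). -/
theorem result (A : Type u) [CommRing A]
    [IsNoetherianRing A] (B : Type u) [CommRing B] [Algebra A B] [Algebra.Smooth A B]
    (hfib : FlatCA.GeomIntegralFibres A B) (u : B →ₐ[A] A)
    (Bh : Type u) [CommRing Bh] [Algebra B Bh] [Algebra A Bh] [IsScalarTower A B Bh]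
    [IsAdicComplete ((RingHom.ker u).map (algebraMap B Bh)) Bh]
    (hq : ∀ n : ℕ, Function.Bijective (Ideal.quotientMap ((RingHom.ker u ^ n).map (algebraMap B Bh))
      (algebraMap B Bh) Ideal.le_comap_map)) :
    FlatCA.UnivInj A (IsScalarTower.toAlgHom A B Bh).toLinearMap := by
  intro Q _ _
  set f : B →ₗ[A] Bh := (IsScalarTower.toAlgHom A B Bh).toLinearMap with hf
  rw [injective_iff_map_eq_zero]
  intro x hx
  obtain ⟨J, hJ, y, rfl⟩ := Submodule.exists_fg_le_eq_rTensor_subtype x
  have h1 : J.subtype.rTensor Bh (f.lTensor J y) = J.subtype.rTensor Bh 0 := by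
    rw [map_zero, ← hx, ← LinearMap.comp_apply, ← LinearMap.comp_apply,
      LinearMap.rTensor_comp_lTensor, LinearMap.lTensor_comp_rTensor]
  obtain ⟨J', hJ', hle, h2⟩ := hJ.exists_rTensor_fg_inclusion_eq h1
  have hfin : Module.Finite A J' := Module.Finite.iff_fg.2 hJ'
  have hinj : Function.Injective (f.lTensor J') :=
    (LinearMap.lTensor_inj_iff_rTensor_inj J' f).2 (rTensor_injective_finite hfib u Bh hq J')
  have h3 : (J.inclusion hle).rTensor B y = 0 := by
    apply hinj
    rw [map_zero, ← LinearMap.comp_apply, LinearMap.lTensor_comp_rTensor,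
      ← LinearMap.rTensor_comp_lTensor, LinearMap.comp_apply, h2, map_zero]
  have h4 : J.subtype = J'.subtype ∘ₗ J.inclusion hle := rfl
  rw [h4, LinearMap.rTensor_comp, LinearMap.comp_apply, h3, map_zero]

end Groth.Agent.S17619
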