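import Groth.Statements.S17620
import Groth.Agent.Lib.PairEtaleNbhd

set_option autoImplicit false
universe u
open Hensel

namespace Groth.Agent.S17620

/-- Let R be a local ring and J an ideal of R contained in the maximal ideal, let H be a Henselization
of the pair (R, J) which is a local ring with local structure map R → H, and let S be a strict
Henselization of the local ring H. Then S, with its composite R-algebra structure, is a strict
Henselization of the local ring R. (This is the identification of the strict Henselization of the
local ring of a scheme at a point with that of the local ring of its Henselization along a closed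
subscheme through the point.) -/
theorem result
    (R : Type u) [CommRing R] [IsLocalRing R] (J : Ideal R) (hJ : J ≤ IsLocalRing.maximalIdeal R)
    (H : Type u) [CommRing H] [IsLocalRing H] [Algebra R H] [IsLocalHom (algebraMap R H)]
    (hH : Hens2.IsPairHenselization R J H)
    (S : Type u) [CommRing S] [IsLocalRing S] [Algebra H S] [IsLocalHom (algebraMap H S)]
    [Hensel.IsStrictHenselization H S]
    [Algebra R S] [IsScalarTower R H S] [IsLocalHom (algebraMap R S)] :
    Hensel.IsStrictHenselization R S := by
  have hS := ‹Hensel.IsStrictHenselization H S›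
  have hqb : Groth.Agent.Lib.PairEtaleNbhd.QBij J H :=
    Groth.Agent.Lib.PairEtaleNbhd.qbij_of_isPairHenselization hH
  -- `JH` lies in the maximal ideal of `H`
  have hJH : J.map (algebraMap R H) ≤ IsLocalRing.maximalIdeal H := by
    rw [Ideal.map_le_iff_le_comap]
    intro r hr
    have hrm : r ∈ IsLocalRing.maximalIdeal R := hJ hr
    rw [Ideal.mem_comap, IsLocalRing.mem_maximalIdeal, mem_nonunits_iff]
    intro hu
    exact (IsLocalRing.mem_maximalIdeal _).1 hrm (isUnit_of_map_unit (algebraMap R H) r hu)
  -- the residue field map `κ(R) → κ(H)` is surjective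
  have hsurj : Function.Surjective
      (algebraMap (IsLocalRing.ResidueField R) (IsLocalRing.ResidueField H)) := by
    intro y
    obtain ⟨x, rfl⟩ := IsLocalRing.residue_surjective y
    obtain ⟨r, hr⟩ := hqb.exists_sub_mem x
    refine ⟨IsLocalRing.residue R r, ?_⟩
    rw [IsLocalRing.ResidueField.algebraMap_residue]
    symm
    rw [← sub_eq_zero, ← map_sub, IsLocalRing.residue_eq_zero_iff]
    exact hJH hr
  refine ⟨hS.henselian, ?_, ?_⟩
  · have h1 := hS.isSepClosure
    have hsep1 : Algebra.IsSeparable (IsLocalRing.ResidueField R) (IsLocalRing.ResidueField H) :=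
      ⟨fun x => by
        obtain ⟨r, rfl⟩ := hsurj x
        exact isSeparable_algebraMap r⟩
    have hsep2 : Algebra.IsSeparable (IsLocalRing.ResidueField H) (IsLocalRing.ResidueField S) :=
      h1.separable
    exact ⟨h1.sep_closed, Algebra.IsSeparable.trans (IsLocalRing.ResidueField R)
      (IsLocalRing.ResidueField H) (IsLocalRing.ResidueField S)⟩
  · intro T _ _ f _ τ hτ
    have hT : HenselianRing T (IsLocalRing.maximalIdeal T) := inferInstance
    have hfm : ∀ r : R, r ∈ IsLocalRing.maximalIdeal R → f r ∈ IsLocalRing.maximalIdeal T := by
      intro r hr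
      rw [IsLocalRing.mem_maximalIdeal, mem_nonunits_iff]
      intro hu
      exact (IsLocalRing.mem_maximalIdeal _).1 hr (isUnit_of_map_unit f r hu)
    have hfJ : J.map f ≤ IsLocalRing.maximalIdeal T := by
      rw [Ideal.map_le_iff_le_comap]
      intro r hr
      exact hfm r (hJ hr)
    obtain ⟨h, hh, hhuniq⟩ := hH.2 T (IsLocalRing.maximalIdeal T) f hT hfJ
    have hh' : ∀ r : R, h (algebraMap R H r) = f r := fun r =>
      congrArg (fun k : R →+* T => k r) hh
    have hloc : IsLocalHom h := by
      constructor
      intro x hx
      by_contra hxu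
      have hxm : x ∈ IsLocalRing.maximalIdeal H := (IsLocalRing.mem_maximalIdeal x).2 hxu
      obtain ⟨r, hr⟩ := hqb.exists_sub_mem x
      have h1 : algebraMap R H r ∈ IsLocalRing.maximalIdeal H := by
        have : algebraMap R H r = x - (x - algebraMap R H r) := by ring
        rw [this]
        exact sub_mem hxm (hJH hr)
      have h2 : r ∈ IsLocalRing.maximalIdeal R := by
        rw [IsLocalRing.mem_maximalIdeal, mem_nonunits_iff]
        intro hu
        exact ((IsLocalRing.mem_maximalIdeal _).1 h1) (hu.map _)
      have h3 : f r ∈ IsLocalRing.maximalIdeal T := hfm r h2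
      have h4 : h (x - algebraMap R H r) ∈ IsLocalRing.maximalIdeal T := by
        have := Ideal.mem_map_of_mem h hr
        rw [Ideal.map_map, hh] at this
        exact hfJ this
      have h5 : h x ∈ IsLocalRing.maximalIdeal T := by
        have : h x = h (x - algebraMap R H r) + f r := by
          rw [map_sub, hh']
          ring
        rw [this]
        exact add_mem h4 h3
      exact ((IsLocalRing.mem_maximalIdeal _).1 h5) hx
    have hτ' : τ.comp (IsLocalRing.ResidueField.map (algebraMap H S)) =
        IsLocalRing.ResidueField.map h := by
      apply RingHom.ext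
      intro y
      obtain ⟨z, rfl⟩ := hsurj y
      obtain ⟨r, rfl⟩ := IsLocalRing.residue_surjective z
      have e0 := congrArg (fun k : IsLocalRing.ResidueField R →+* IsLocalRing.ResidueField T =>
        k (IsLocalRing.residue R r)) hτ
      simp only [RingHom.comp_apply, IsLocalRing.ResidueField.map_residue] at e0
      rw [IsLocalRing.ResidueField.algebraMap_residue, RingHom.comp_apply,
        IsLocalRing.ResidueField.map_residue, IsLocalRing.ResidueField.map_residue, hh',
        ← IsScalarTower.algebraMap_apply R H S]
      exact e0
    obtain ⟨g, ⟨hg1, hg2⟩, hguniq⟩ := hS.universal T h τ hτ'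
    refine ⟨g, ⟨?_, hg2⟩, ?_⟩
    · rw [IsScalarTower.algebraMap_eq R H S, ← RingHom.comp_assoc, hg1, hh]
    · rintro g' ⟨hg'1, hg'2⟩
      apply hguniq
      refine ⟨?_, hg'2⟩
      apply hhuniq
      rw [RingHom.comp_assoc, ← IsScalarTower.algebraMap_eq]
      exact hg'1

end Groth.Agent.S17620
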