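import Groth.Statements.S17624
import Groth.Agent.Lib.CohGrowthRelHH
import Groth.Agent.Lib.AsympCohBasic
import Groth.Agent.Lib.H78AtlasIso
import Groth.Agent.Lib.H78GlobGen2

set_option autoImplicit false
universe u
open CategoryTheory CategoryTheory.Limits AlgebraicGeometry
open Variety

namespace Groth.Agent.S17624


open Groth.Agent.Lib.IsoCls13 Groth.Agent.Lib.CohGrowthMulti Groth.Agent.Lib.CohGrowthMultiHH
  Groth.Agent.Lib.OXModTensor CohB1 in
/-- `dim_k H^i(Y, (f^*L)^m) ≤ C * (m + 1) ^ n` with `n = dim X`, for `f : Y ⟶ X` between proper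
`k`-schemes, `X` carrying an ample module. -/
theorem exists_bound_pullback (k : Type u) [Field k]
    (X Y : Scheme.{u}) [X.Over (Spec (CommRingCat.of k))] [Y.Over (Spec (CommRingCat.of k))]
    [IsProper (X ↘ Spec (CommRingCat.of k))] [IsProper (Y ↘ Spec (CommRingCat.of k))]
    (hXproj : ∃ A : X.Modules, CohB1.IsAmple A)
    (n e : ℕ) (hn : topologicalKrullDim X = n) (he : topologicalKrullDim Y = e)
    (f : Y ⟶ X) (hf : f ≫ (X ↘ Spec (CommRingCat.of k)) = Y ↘ Spec (CommRingCat.of k))
    (L : X.Modules) (hL : PicF.IsInvertible L) :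
    ∃ C : ℕ, ∀ i m : ℕ,
      Module.finrank k (Coh.HH Y (CohB1.tensorPow ((Scheme.Modules.pullback f).obj L) m) i) ≤
        C * (m + 1) ^ n := by
  obtain ⟨A, hA⟩ := hXproj
  haveI : CompactSpace X := hA.2.1
  haveI : IsProper (f ≫ (X ↘ Spec (CommRingCat.of k))) := by rw [hf]; infer_instance
  haveI : IsProper f := IsProper.of_comp f (X ↘ Spec (CommRingCat.of k))
  have hcl : IsClosedMap f.base := f.isClosedMap
  have hOX : Coh.IsCoh (Coh.structureModule X) := Groth.Agent.Lib.CohFinAmple.isCoh_structureModule X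
  have hOY : Coh.IsCoh (Coh.structureModule Y) := Groth.Agent.Lib.CohFinAmple.isCoh_structureModule Y
  obtain ⟨n0, hn0⟩ := Groth.Agent.Lib.H78GlobGen2.isGloballyGenerated_twist hA L
    (Groth.Agent.Lib.H90Invertible.isCoh_of_isInvertible hL)
  obtain ⟨n1, hn1⟩ := Groth.Agent.Lib.H78GlobGen2.isGloballyGenerated_twist hA
    (Coh.structureModule X) hOX
  set N0 := max n0 n1 with hN0
  have hAN : PicF.IsInvertible (tensorPow A N0) :=
    Groth.Agent.Lib.OXModRestrict.isInvertible_tensorPow hA.1 N0
  set P : X.Modules := tensorMod L (tensorPow A N0) with hPdef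
  set Q : X.Modules := tensorMod (Coh.structureModule X) (tensorPow A N0) with hQdef
  have hP : PicF.IsInvertible P := Groth.Agent.Lib.OXModRestrict.isInvertible_tensorMod hL hAN
  have hQ : PicF.IsInvertible Q := Groth.Agent.Lib.OXModRestrict.isInvertible_tensorMod
    (Groth.Agent.Lib.H90Invertible.isInvertible_structureModule X) hAN
  have hPg : Curv2.IsGloballyGenerated P := hn0 N0 (le_max_left _ _)
  have hQg : Curv2.IsGloballyGenerated Q := hn1 N0 (le_max_right _ _)
  have hfP := Groth.Agent.Lib.H90Invertible.isInvertible_pullback f hP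
  have hfQ := Groth.Agent.Lib.H90Invertible.isInvertible_pullback f hQ
  have hfL := Groth.Agent.Lib.H90Invertible.isInvertible_pullback f hL
  obtain ⟨M', hM', ⟨eM⟩⟩ := Groth.Agent.Lib.H78Dual.exists_tensor_inverse hfQ
  let N : Fin 2 → Y.Modules := ![(Scheme.Modules.pullback f).obj P, M']
  have hNinv : ∀ j, PicF.IsInvertible (N j) := by
    intro j
    fin_cases j
    · exact hfP
    · exact hM'
  have hN : ∀ j, (∃ P : X.Modules, PicF.IsInvertible P ∧ Curv2.IsGloballyGenerated P ∧
        N j = (Scheme.Modules.pullback f).obj P) ∨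
      (∃ Q : X.Modules, PicF.IsInvertible Q ∧ Curv2.IsGloballyGenerated Q ∧
        Nonempty (tensorMod (N j) ((Scheme.Modules.pullback f).obj Q) ≅ Coh.structureModule Y)) := by
    intro j
    fin_cases j
    · exact Or.inl ⟨P, hP, hPg, rfl⟩
    · exact Or.inr ⟨Q, hQ, hQg, ⟨eM⟩⟩
  have hr : topologicalKrullDim ↥(CohB1.support (Coh.structureModule Y)) ≤ (e : WithBot ℕ∞) := by
    rw [← he]
    exact (Groth.Agent.Lib.DimDrop.topologicalKrullDim_mono (Set.subset_univ _)).trans
      (le_of_eq (IsHomeomorph.topologicalKrullDim_eq _ (Homeomorph.Set.univ Y).isHomeomorph))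
  have ht : Groth.Agent.Lib.CohGrowthRelHH.size f (CohB1.support (Coh.structureModule Y)) ≤
      (n : WithBot ℕ∞) := by
    rw [← hn]
    exact (Groth.Agent.Lib.DimDrop.topologicalKrullDim_mono (Set.subset_univ _)).trans
      (le_of_eq (IsHomeomorph.topologicalKrullDim_eq _ (Homeomorph.Set.univ X).isHomeomorph))
  obtain ⟨C, hC⟩ := Groth.Agent.Lib.CohGrowthRelHH.exists_bound_rel k f hcl hNinv hN
    (Coh.structureModule Y) hOY e hr n ht
  -- the class of `f^*L`
  have hcls : cls ((Scheme.Modules.pullback f).obj L) = cls (N 0) * cls (N 1) := by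
    obtain ⟨e1⟩ := Groth.Agent.Lib.H78AtlasIso.nonempty_pullback_tensorMod_iso f hL hAN
    obtain ⟨e2⟩ := Groth.Agent.Lib.H78AtlasIso.nonempty_pullback_tensorMod_iso f
      (Groth.Agent.Lib.H90Invertible.isInvertible_structureModule X) hAN
    have h1 : cls ((Scheme.Modules.pullback f).obj P) =
        cls ((Scheme.Modules.pullback f).obj L) *
          cls ((Scheme.Modules.pullback f).obj (tensorPow A N0)) := by
      rw [cls_eq_of_iso e1, cls_tensorMod]
    have h2 : cls ((Scheme.Modules.pullback f).obj Q) =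
        cls ((Scheme.Modules.pullback f).obj (tensorPow A N0)) := by
      rw [cls_eq_of_iso e2, cls_tensorMod,
        cls_eq_of_iso (Groth.Agent.Lib.H78PullSec.unitIso f), cls_one, one_mul]
    have h3 : cls M' * cls ((Scheme.Modules.pullback f).obj Q) = 1 := by
      rw [← cls_tensorMod, cls_eq_of_iso eM, cls_one]
    change _ = cls ((Scheme.Modules.pullback f).obj P) * cls M'
    rw [h1, mul_assoc, ← h2, mul_comm (cls ((Scheme.Modules.pullback f).obj Q)), h3, mul_one]
  have hlen : ∀ m : ℕ, Len N (m * 2) (cls ((Scheme.Modules.pullback f).obj L) ^ m) := by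
    intro m
    have h2 : Len N 2 (1 * cls (N 0) * cls (N 1)) := Len.mul 1 (Len.mul 0 Len.one)
    have := h2.pow m
    rwa [one_mul, ← hcls] at this
  refine ⟨C * 2 ^ n, fun i m => ?_⟩
  have h1 := hC i (m * 2) _ (hlen m)
  rw [← cls_tensorPow, hc_structure_cls] at h1
  calc Module.finrank k (Coh.HH Y (CohB1.tensorPow ((Scheme.Modules.pullback f).obj L) m) i)
      ≤ C * (m * 2 + 1) ^ n := h1
    _ ≤ C * (2 * (m + 1)) ^ n :=
      Nat.mul_le_mul_left C (Nat.pow_le_pow_left (by omega) n)
    _ = C * 2 ^ n * (m + 1) ^ n := by rw [mul_pow]; ring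

/-- Let X and Y be integral schemes, proper over an algebraically closed field k of characteristic zero
and each admitting an ample invertible module (stated in the source over the complex numbers), of
dimensions n and e with e > n, and let f : Y → X be a dominant k-morphism (so proper and
surjective). Then for every invertible O_X-module L and every i ≥ 0, ĥ^i(Y, f^*L) = 0, where ĥ^i(Y,
M) = limsup_m dim_k H^i(Y, M^{⊗m}) · e!/m^e is normalised by the dimension e of Y. -/
theorem result (k : Type u) [Field k] [IsAlgClosed k] [CharZero k]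
    (X Y : Scheme.{u}) [X.Over (Spec (CommRingCat.of k))] [Y.Over (Spec (CommRingCat.of k))]
    [AlgebraicGeometry.IsIntegral X] [AlgebraicGeometry.IsIntegral Y]
    [IsProper (X ↘ Spec (CommRingCat.of k))] [IsProper (Y ↘ Spec (CommRingCat.of k))]
    (hXproj : ∃ A : X.Modules, CohB1.IsAmple A) (hYproj : ∃ B : Y.Modules, CohB1.IsAmple B)
    (n e : ℕ) (hn : topologicalKrullDim X = n) (he : topologicalKrullDim Y = e) (hne : n < e)
    (f : Y ⟶ X) (hf : f ≫ (X ↘ Spec (CommRingCat.of k)) = Y ↘ Spec (CommRingCat.of k))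
    (hdom : f.base (genericPoint Y) = genericPoint X) (L : X.Modules) (hL : PicF.IsInvertible L) (i : ℕ) :
    W4c5asymptcohfn.hhat k Y e i ((Scheme.Modules.pullback f).obj L) = 0 := by
  obtain ⟨C, hC⟩ := exists_bound_pullback k X Y hXproj n e hn he f hf L hL
  obtain ⟨e', rfl⟩ : ∃ e', e = e' + 1 := ⟨e - 1, by omega⟩
  have hne' : n ≤ e' := by omega
  have hb : ∀ m : ℕ,
      Module.finrank k (Coh.HH Y (CohB1.tensorPow ((Scheme.Modules.pullback f).obj L) m) i) ≤
        C * (m + 1) ^ e' := fun m =>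
    (hC i m).trans (Nat.mul_le_mul_left C (Nat.pow_le_pow_right (Nat.succ_pos m) hne'))
  have hb' : ∀ m : ℕ,
      Module.finrank k (Coh.HH Y (CohB1.tensorPow ((Scheme.Modules.pullback f).obj L) m) i) ≤
        C * (m + 1) ^ (e' + 1) := fun m =>
    (hb m).trans (Nat.mul_le_mul_left C (Nat.pow_le_pow_right (Nat.succ_pos m) (Nat.le_succ e')))
  have key := Groth.Agent.Lib.AsympCohBasic.limsup_eq_of_bounds (e' + 1) C C
    (fun m => Module.finrank k
      (Coh.HH Y (CohB1.tensorPow ((Scheme.Modules.pullback f).obj L) m) i))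
    (fun _ => 0) hb' (fun m => Nat.zero_le _)
    (fun m => by simpa [Groth.Agent.Lib.CohGrowth.g] using hb m)
    (fun m => Nat.zero_le _)
  unfold W4c5asymptcohfn.hhat
  rw [key]
  simp

end Groth.Agent.S17624
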