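import Groth.Statements.S17627
import Groth.Agent.Lib.CohRankCompare
import Groth.Agent.Lib.AsympCohScale
-- import your own Groth.Agent.* helpers here

set_option autoImplicit false
universe u
open CategoryTheory CategoryTheory.Limits AlgebraicGeometry
open Variety

namespace Groth.Agent.S17627

/-- Let X be an integral scheme, proper over an algebraically closed field k of characteristic zero and
admitting an ample invertible module, of dimension n (stated in the source over the complex
numbers), F a coherent O_X-module whose generic rank — the dimension of its stalk at the generic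
point of X over the function field — is r, and L an invertible O_X-module. Then limsup_m dim_k
H^i(X, F ⊗ L^{⊗m}) · n!/m^n = r · ĥ^i(X, L) for every i ≥ 0, where ĥ^i(X, L) = limsup_m dim_k H^i(X,
L^{⊗m}) · n!/m^n. -/
theorem result (k : Type u) [Field k] [IsAlgClosed k] [CharZero k] (X : Scheme.{u})
    [X.Over (Spec (CommRingCat.of k))] [AlgebraicGeometry.IsIntegral X]
    [IsProper (X ↘ Spec (CommRingCat.of k))] (hproj : ∃ A : X.Modules, CohB1.IsAmple A)
    (n : ℕ) (hn : topologicalKrullDim X = n)
    (F : X.Modules) (hF : Coh.IsCoh F) (r : ℕ)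
    (hr : Module.finrank (X.presheaf.stalk (genericPoint X)) (F.presheaf.stalk (genericPoint X)) = r)
    (L : X.Modules) (hL : PicF.IsInvertible L) (i : ℕ) :
    W4c5asymptcohfn.hhatF k X n i F L = (r : ℝ) * W4c5asymptcohfn.hhat k X n i L := by
  have hN : ∀ _ : Unit, PicF.IsInvertible ((fun _ : Unit => L) ()) := fun _ => hL
  obtain ⟨D, hD⟩ := Groth.Agent.Lib.CohRankCompare.exists_bound_rank k hN n hn.le F hF r hr
  obtain ⟨C1, hC1⟩ := Groth.Agent.Lib.CohGrowthMultiHH.exists_bound_hc k hN F hF n
    ((topologicalKrullDim_subspace_le X _).trans hn.le)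
  obtain ⟨C2, hC2⟩ := Groth.Agent.Lib.CohGrowthMultiHH.exists_bound_hc k hN
    (Coh.structureModule X) (Groth.Agent.Lib.CohFinAmple.isCoh_structureModule X) n
    ((topologicalKrullDim_subspace_le X _).trans hn.le)
  have hlen : ∀ m : ℕ, Groth.Agent.Lib.CohGrowthMulti.Len (fun _ : Unit => L) m
      (Groth.Agent.Lib.IsoCls13.cls L ^ m) :=
    fun m => Groth.Agent.Lib.CohTwistLattice.len_pow (fun _ : Unit => L) () m
  -- the two sequences
  set a : ℕ → ℕ := fun m => Groth.Agent.Lib.CohGrowthMultiHH.hc k F i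
    (Groth.Agent.Lib.IsoCls13.cls L ^ m) with ha
  set x : ℕ → ℕ := fun m => Groth.Agent.Lib.CohGrowthMultiHH.hc k (Coh.structureModule X) i
    (Groth.Agent.Lib.IsoCls13.cls L ^ m) with hx
  have e1 : W4c5asymptcohfn.hhatF k X n i F L =
      Filter.limsup (fun m : ℕ => (a m : ℝ) * (n.factorial : ℝ) / (m : ℝ) ^ n) Filter.atTop := by
    unfold W4c5asymptcohfn.hhatF W4c5asymptcohfn.cohSeq
    congr 1
    funext m
    rw [ha]
    simp only
    rw [← Groth.Agent.Lib.IsoCls13.cls_tensorPow, Groth.Agent.Lib.CohGrowthMultiHH.hc_cls]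
  have e2 : W4c5asymptcohfn.hhat k X n i L =
      Filter.limsup (fun m : ℕ => (x m : ℝ) * (n.factorial : ℝ) / (m : ℝ) ^ n) Filter.atTop := by
    unfold W4c5asymptcohfn.hhat
    congr 1
    funext m
    rw [hx]
    simp only
    rw [← Groth.Agent.Lib.IsoCls13.cls_tensorPow,
      Groth.Agent.Lib.CohGrowthMultiHH.hc_structure_cls]
  have key := Groth.Agent.Lib.AsympCohBasic.limsup_eq_of_bounds n (C1 + r * C2) D a
    (fun m => r * x m)
    (fun m => ((hC1 i m _ (hlen m)).trans
      (Nat.mul_le_mul_right _ (Nat.le_add_right C1 (r * C2)))))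
    (fun m => by
      have h1 := hC2 i m _ (hlen m)
      calc r * x m ≤ r * (C2 * (m + 1) ^ n) := Nat.mul_le_mul_left r h1
        _ = (r * C2) * (m + 1) ^ n := by ring
        _ ≤ (C1 + r * C2) * (m + 1) ^ n := Nat.mul_le_mul_right _ (Nat.le_add_left _ _))
    (fun m => (hD i m _ (hlen m)).1)
    (fun m => (hD i m _ (hlen m)).2)
  rw [e1, e2, key]
  rcases Nat.eq_zero_or_pos r with h0 | hpos
  · subst h0
    simp
  · have hbx : Filter.IsBoundedUnder (· ≤ ·) Filter.atTop
        (fun m : ℕ => (x m : ℝ) * (n.factorial : ℝ) / (m : ℝ) ^ n) :=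
      Groth.Agent.Lib.AsympCohBasic.isBoundedUnder_le_of_bound n C2 x
        (fun m => hC2 i m _ (hlen m))
    have hbx' := Groth.Agent.Lib.AsympCohBasic.isBoundedUnder_ge_of_nonneg n x
    rw [← Groth.Agent.Lib.AsympCohScale.limsup_const_mul (by exact_mod_cast hpos) hbx hbx']
    congr 1
    funext m
    push_cast
    ring

end Groth.Agent.S17627
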