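import Groth.Statements.S17629
import Groth.Agent.Lib.AsympCohBasic

set_option autoImplicit false
universe u
open CategoryTheory CategoryTheory.Limits AlgebraicGeometry
open Variety

namespace Groth.Agent.S17629

/-- Let X be an integral scheme, proper over an algebraically closed field k of characteristic zero and
admitting an ample invertible module, of dimension n (stated in the source over the complex
numbers), let 0 → A → B → C → 0 be a short exact sequence of coherent O_X-modules and L an
invertible O_X-module. If the support of C has dimension < n, then limsup_m dim_k H^i(X, A ⊗ L^{⊗m})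
· n!/m^n = limsup_m dim_k H^i(X, B ⊗ L^{⊗m}) · n!/m^n for every i ≥ 0. -/
theorem result (k : Type u) [Field k] [IsAlgClosed k] [CharZero k] (X : Scheme.{u})
    [X.Over (Spec (CommRingCat.of k))] [AlgebraicGeometry.IsIntegral X]
    [IsProper (X ↘ Spec (CommRingCat.of k))] (hproj : ∃ A : X.Modules, CohB1.IsAmple A)
    (n : ℕ) (hn : topologicalKrullDim X = n)
    (S : ShortComplex X.Modules) (hS : S.ShortExact)
    (hA : Coh.IsCoh S.X₁) (hB : Coh.IsCoh S.X₂) (hC : Coh.IsCoh S.X₃)
    (hdim : topologicalKrullDim (CohB1.support S.X₃) < (n : WithBot ℕ∞))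
    (L : X.Modules) (hL : PicF.IsInvertible L) (i : ℕ) :
    W4c5asymptcohfn.hhatF k X n i S.X₁ L = W4c5asymptcohfn.hhatF k X n i S.X₂ L := by
  classical
  have hdimX : ∀ G : X.Modules, topologicalKrullDim ↥(CohB1.support G) ≤ (n : WithBot ℕ∞) := by
    intro G
    rw [← hn]
    exact topologicalKrullDim_subspace_le _ _
  obtain ⟨C1, hC1⟩ := Groth.Agent.Lib.CohGrowthHH.exists_bound_finrank_HH_twist k hL S.X₁ hA n
    (hdimX _)
  obtain ⟨C2, hC2⟩ := Groth.Agent.Lib.CohGrowthHH.exists_bound_finrank_HH_twist k hL S.X₂ hB n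
    (hdimX _)
  obtain ⟨D, hD⟩ := Groth.Agent.Lib.CohGrowthHH.exists_bound_finrank_HH_twist_lt k hL S.X₃ hC n
    (Groth.Agent.Lib.CohGrowthHH.add_one_le_of_lt hdim)
  have hmid := fun m => Groth.Agent.Lib.CohGrowthHH.tw_mid_le k hL hS hA hB hC i m
  unfold W4c5asymptcohfn.hhatF W4c5asymptcohfn.cohSeq
  refine Groth.Agent.Lib.AsympCohBasic.limsup_eq_of_bounds n (max C1 C2) D
    (fun m => Module.finrank k (Coh.HH X (CohB1.tensorMod S.X₁ (CohB1.tensorPow L m)) i))
    (fun m => Module.finrank k (Coh.HH X (CohB1.tensorMod S.X₂ (CohB1.tensorPow L m)) i))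
    (fun m => (hC1 i m).trans (Nat.mul_le_mul_right _ (le_max_left _ _)))
    (fun m => (hC2 i m).trans (Nat.mul_le_mul_right _ (le_max_right _ _)))
    (fun m => ?_) (fun m => ?_)
  · rcases i with _ | i
    · have h1 := Groth.Agent.Lib.CohGrowthHH.tw_left_zero_le k hL hS hA hB m
      unfold Groth.Agent.Lib.CohGrowthHH.tw Groth.Agent.Lib.CohGrowthHH.hh at h1
      omega
    · have h1 := Groth.Agent.Lib.CohGrowthHH.tw_left_succ_le k hL hS hA hB hC i m
      have h2 := hD i m
      unfold Groth.Agent.Lib.CohGrowthHH.tw Groth.Agent.Lib.CohGrowthHH.hh at h1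
      omega
  · have h1 := hmid m
    have h2 := hD i m
    unfold Groth.Agent.Lib.CohGrowthHH.tw Groth.Agent.Lib.CohGrowthHH.hh at h1
    omega

end Groth.Agent.S17629
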