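import Groth.Statements.S17630
import Groth.Agent.Lib.CohLESLinear
import Groth.Agent.Lib.H90OXModExact
import Groth.Agent.S0002

set_option autoImplicit false
universe u
open CategoryTheory CategoryTheory.Limits AlgebraicGeometry
open Coherent

namespace Groth.Agent.S17630

open Groth.Agent.Lib.CohLES

section LinAlg

variable {k : Type*} [Field k] {M N P : Type*} [AddCommGroup M] [AddCommGroup N] [AddCommGroup P]
  [Module k M] [Module k N] [Module k P]

/-- For an exact sequence `M → N → P` of finite-dimensional vector spaces, `dim N ≤ dim M + dim P`. -/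
theorem finrank_mid_le [Module.Finite k M] [Module.Finite k N] [Module.Finite k P]
    (f : M →ₗ[k] N) (g : N →ₗ[k] P) (h : LinearMap.range f = LinearMap.ker g) :
    Module.finrank k N ≤ Module.finrank k M + Module.finrank k P := by
  have h1 := LinearMap.finrank_range_add_finrank_ker g
  have h2 : Module.finrank k (LinearMap.ker g) ≤ Module.finrank k M := by
    rw [← h]
    exact LinearMap.finrank_range_le f
  have h3 : Module.finrank k (LinearMap.range g) ≤ Module.finrank k P :=
    Submodule.finrank_le _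
  omega

end LinAlg

section Comb

theorem sum_Icc_one (F : ℕ → ℤ) (n : ℕ) :
    (Finset.Icc 1 n).sum F = (Finset.range n).sum (fun t => F (t + 1)) := by
  induction n with
  | zero => simp
  | succ n ih =>
    rw [Finset.sum_range_succ, ← ih, Finset.sum_Icc_succ_top (by omega)]

theorem comb_bound (G Zh : ℕ → ℕ → ℕ) (ha : ∀ j, Zh j 0 ≤ G j 0)
    (hb : ∀ j m, Zh j (m + 1) ≤ Zh (j + 1) m + G j (m + 1)) :
    ∀ m j, Zh j m ≤ (Finset.range (m + 1)).sum (fun t => G (j + t) (m - t)) := by
  intro m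
  induction m with
  | zero => intro j; simpa using ha j
  | succ m ih =>
    intro j
    have h1 := hb j m
    have h2 := ih (j + 1)
    rw [Finset.sum_range_succ']
    have h3 : (Finset.range (m + 1)).sum (fun t => G (j + 1 + t) (m - t)) =
        (Finset.range (m + 1)).sum (fun t => G (j + (t + 1)) (m + 1 - (t + 1))) := by
      refine Finset.sum_congr rfl fun t _ => ?_
      rw [Nat.add_sub_add_right, Nat.add_assoc, Nat.add_comm 1 t]
    rw [h3] at h2
    simp only [Nat.add_zero, Nat.sub_zero]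
    omega

end Comb

section Seq

variable {X : Scheme.{u}} (C : ℕ → X.Modules) (d : ∀ j, C j ⟶ C (j + 1))
  (hd : ∀ j, d j ≫ d (j + 1) = 0)

/-- The map `C_j → Z_{j+1} = ker d_{j+1}`. -/
noncomputable def toZ (j : ℕ) : C j ⟶ kernel (d (j + 1)) := kernel.lift (d (j + 1)) (d j) (hd j)

@[reassoc (attr := simp)]
theorem toZ_ι (j : ℕ) : toZ C d hd j ≫ kernel.ι (d (j + 1)) = d j := kernel.lift_ι _ _ _

/-- `0 → Z_j → C_j → Z_{j+1} → 0`. -/
noncomputable def sc (j : ℕ) : ShortComplex X.Modules :=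
  ShortComplex.mk (kernel.ι (d j)) (toZ C d hd j) (by
    have : Mono (kernel.ι (d (j + 1))) := Limits.equalizer.ι_mono
    rw [← cancel_mono (kernel.ι (d (j + 1)))]
    simp)

theorem sc_shortExact (j : ℕ) (hex : (ShortComplex.mk (d j) (d (j + 1)) (hd j)).Exact) :
    (sc C d hd j).ShortExact := by
  have hm : Mono (kernel.ι (d (j + 1))) := Limits.equalizer.ι_mono
  have hm0 : Mono (kernel.ι (d j)) := Limits.equalizer.ι_mono
  have hepi : Epi (toZ C d hd j) :=
    (ShortComplex.exact_iff_epi_kernel_lift (ShortComplex.mk (d j) (d (j + 1)) (hd j))).1 hex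
  let φ : sc C d hd j ⟶ ShortComplex.mk (kernel.ι (d j)) (d j) (kernel.condition _) :=
    { τ₁ := 𝟙 _
      τ₂ := 𝟙 _
      τ₃ := kernel.ι (d (j + 1))
      comm₁₂ := by simp [sc]
      comm₂₃ := by simp [sc] }
  have e1 : Epi φ.τ₁ := by
    change Epi (𝟙 (kernel (d j)))
    exact ⟨fun g h w => by simpa using w⟩
  have e2 : IsIso φ.τ₂ := IsIso.id _
  have e3 : Mono φ.τ₃ := hm
  have hex' : (sc C d hd j).Exact :=
    (ShortComplex.exact_iff_of_epi_of_isIso_of_mono φ).2
      (ShortComplex.exact_of_f_is_kernel _ (kernelIsKernel (d j)))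
  exact { exact := hex', mono_f := hm0, epi_g := hepi }

/-- `0 → C_0 → C_1 → Z_2 → 0`. -/
noncomputable def sc0 : ShortComplex X.Modules :=
  ShortComplex.mk (d 0) (toZ C d hd 1) (by
    have : Mono (kernel.ι (d 2)) := Limits.equalizer.ι_mono
    rw [← cancel_mono (kernel.ι (d 2))]
    simp [hd 0])

theorem sc0_shortExact [Mono (d 0)] (hex0 : (ShortComplex.mk (d 0) (d 1) (hd 0)).Exact)
    (hex1 : (ShortComplex.mk (d 1) (d 2) (hd 1)).Exact) :
    (sc0 C d hd).ShortExact := by
  have hm : Mono (kernel.ι (d 2)) := Limits.equalizer.ι_mono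
  have hepi : Epi (toZ C d hd 1) :=
    (ShortComplex.exact_iff_epi_kernel_lift (ShortComplex.mk (d 1) (d 2) (hd 1))).1 hex1
  let φ : sc0 C d hd ⟶ ShortComplex.mk (d 0) (d 1) (hd 0) :=
    { τ₁ := 𝟙 _
      τ₂ := 𝟙 _
      τ₃ := kernel.ι (d 2)
      comm₁₂ := by simp [sc0]
      comm₂₃ := by simp [sc0] }
  have e1 : Epi φ.τ₁ := by
    change Epi (𝟙 (C 0))
    exact ⟨fun g h w => by simpa using w⟩
  have e2 : IsIso φ.τ₂ := IsIso.id _
  have e3 : Mono φ.τ₃ := hm
  have hex' : (sc0 C d hd).Exact := (ShortComplex.exact_iff_of_epi_of_isIso_of_mono φ).2 hex0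
  exact { exact := hex', mono_f := inferInstanceAs (Mono (d 0)), epi_g := hepi }

end Seq

section Coh

variable (k : Type u) [Field k] (X : Scheme.{u})
  [X.Over (Spec (CommRingCat.of k))] [IsProper (X ↘ Spec (CommRingCat.of k))]

theorem finite_HH (M : X.Modules) (hM : Coh.IsCoh M) (n : ℕ) : Module.Finite k (Coh.HH X M n) :=
  Groth.Agent.S0002.result k X M hM n

/-- `h^n(M)`. -/
noncomputable abbrev hh (M : X.Modules) (n : ℕ) : ℕ := Module.finrank k (Coh.HH X M n)

variable {X}

theorem hh_mid_le {S : ShortComplex X.Modules} (hS : S.ShortExact) (h1 : Coh.IsCoh S.X₁)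
    (h2 : Coh.IsCoh S.X₂) (h3 : Coh.IsCoh S.X₃) (n : ℕ) :
    hh k X S.X₂ n ≤ hh k X S.X₁ n + hh k X S.X₃ n := by
  have := finite_HH k X _ h1 n
  have := finite_HH k X _ h2 n
  have := finite_HH k X _ h3 n
  exact finrank_mid_le (mapₗ k S.f n) (mapₗ k S.g n) (range_mapₗ_f_eq_ker k hS n)

theorem hh_left_succ_le {S : ShortComplex X.Modules} (hS : S.ShortExact) (h1 : Coh.IsCoh S.X₁)
    (h2 : Coh.IsCoh S.X₂) (h3 : Coh.IsCoh S.X₃) (n : ℕ) :
    hh k X S.X₁ (n + 1) ≤ hh k X S.X₃ n + hh k X S.X₂ (n + 1) := by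
  have := finite_HH k X _ h1 (n + 1)
  have := finite_HH k X _ h2 (n + 1)
  have := finite_HH k X _ h3 n
  exact finrank_mid_le (δₗ k hS n) (mapₗ k S.f (n + 1)) (range_δₗ_eq_ker k hS n)

theorem hh_left_zero_le {S : ShortComplex X.Modules} (hS : S.ShortExact) (h1 : Coh.IsCoh S.X₁)
    (h2 : Coh.IsCoh S.X₂) :
    hh k X S.X₁ 0 ≤ hh k X S.X₂ 0 := by
  have := finite_HH k X _ h1 0
  have := finite_HH k X _ h2 0
  exact LinearMap.finrank_le_finrank_of_injective (f := mapₗ k S.f 0) (map_f_injective_zero hS)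

end Coh

end Groth.Agent.S17630

namespace Groth.Agent.S17630

/-- Let X be a scheme proper over a field k and 0 → C_0 → C_1 → C_2 → ⋯ an exact sequence of coherent
O_X-modules: the composite of consecutive maps is zero, the sequence is exact at every C_j with j ≥
1, and C_0 → C_1 is a monomorphism (the source numbers the sequence from C_{−1}; its argument and
its application use that the first map is injective). Then for every i ≥ 0, |dim_k H^i(X, C_0) −
dim_k H^i(X, C_1)| ≤ Σ_{j=1}^{i+1} dim_k H^{i+1−j}(X, C_{j+1}) + Σ_{j=1}^{i} dim_k H^{i−j}(X,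
C_{j+1}). (The published bound is 2 · Σ_{j=1}^{i+1} dim_k H^{i+1−j}(X, C_{j+1}); the argument given
yields the two sums here, and the published form fails for the sequence 0 → O(−3) → O(−1) → O_Z → 0
on the projective line, Z a subscheme of length 2, with i = 1: the left side is 2 and the published
right side is 0.) -/
theorem result (k : Type u) [Field k] (X : Scheme.{u})
    [X.Over (Spec (CommRingCat.of k))] [IsProper (X ↘ Spec (CommRingCat.of k))]
    (C : ℕ → X.Modules) (hC : ∀ j, Coh.IsCoh (C j)) (d : ∀ j, C j ⟶ C (j + 1))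
    (hd : ∀ j, d j ≫ d (j + 1) = 0) [Mono (d 0)]
    (hex : ∀ j, (ShortComplex.mk (d j) (d (j + 1)) (hd j)).Exact) (i : ℕ) :
    |(Module.finrank k (Coh.HH X (C 0) i) : ℤ) - (Module.finrank k (Coh.HH X (C 1) i) : ℤ)| ≤
      (Finset.Icc 1 (i + 1)).sum (fun j => ((Module.finrank k (Coh.HH X (C (j + 1)) (i + 1 - j))) : ℤ)) +
        (Finset.Icc 1 i).sum (fun j => ((Module.finrank k (Coh.HH X (C (j + 1)) (i - j))) : ℤ)) := by
  classical
  have hLN : IsLocallyNoetherian X :=
    LocallyOfFiniteType.isLocallyNoetherian (X ↘ Spec (CommRingCat.of k))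
  have hZ : ∀ j, Coh.IsCoh (kernel (d j)) := fun j => by
    have : (C (j + 1)).IsQuasicoherent := (hC (j + 1)).1
    exact Groth.Agent.Lib.H90OXModExact.isCoh_kernel (d j) (hC j)
  have hA : ∀ j, hh k X (kernel (d j)) 0 ≤ hh k X (C j) 0 := fun j => by
    have h := hh_left_zero_le k (S := sc C d hd j) (sc_shortExact C d hd j (hex j)) (hZ j) (hC j)
    exact h
  have hB : ∀ j m, hh k X (kernel (d j)) (m + 1) ≤
      hh k X (kernel (d (j + 1))) m + hh k X (C j) (m + 1) := fun j m => by
    have h := hh_left_succ_le k (S := sc C d hd j) (sc_shortExact C d hd j (hex j)) (hZ j) (hC j)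
      (hZ (j + 1)) m
    exact h
  have key := comb_bound (fun j m => hh k X (C j) m) (fun j m => hh k X (kernel (d j)) m) hA hB
  have hS0 := sc0_shortExact C d hd (hex 0) (hex 1)
  have hb : hh k X (C 1) i ≤ hh k X (C 0) i + hh k X (kernel (d 2)) i := by
    have h := hh_mid_le k (S := sc0 C d hd) hS0 (hC 0) (hC 1) (hZ 2) i
    exact h
  -- rewrite the two sums
  have e1 : ∀ i : ℕ, (Finset.Icc 1 (i + 1)).sum
        (fun j => ((Module.finrank k (Coh.HH X (C (j + 1)) (i + 1 - j))) : ℤ)) =
      (((Finset.range (i + 1)).sum (fun t => hh k X (C (2 + t)) (i - t)) : ℕ) : ℤ) := by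
    intro i
    rw [sum_Icc_one, Nat.cast_sum]
    refine Finset.sum_congr rfl fun t _ => ?_
    rw [Nat.add_sub_add_right, show t + 1 + 1 = 2 + t by omega]
  rcases i with _ | i
  · have ha : hh k X (C 0) 0 ≤ hh k X (C 1) 0 := by
      have h := hh_left_zero_le k (S := sc0 C d hd) hS0 (hC 0) (hC 1)
      exact h
    have k1 : hh k X (kernel (d 2)) 0 ≤
        (Finset.range (0 + 1)).sum (fun t => hh k X (C (2 + t)) (0 - t)) := key 0 2
    rw [e1 0]
    simp only [hh] at ha hb k1 ⊢
    generalize Module.finrank k (Coh.HH X (kernel (d 2)) 0) = x at hb k1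
    generalize (Finset.range (0 + 1)).sum
      (fun t => Module.finrank k (Coh.HH X (C (2 + t)) (0 - t))) = s at k1 ⊢
    generalize Module.finrank k (Coh.HH X (C 0) 0) = a at ha hb ⊢
    generalize Module.finrank k (Coh.HH X (C 1) 0) = b at ha hb ⊢
    rw [abs_le]
    simp only [Finset.Icc_eq_empty_of_lt Nat.zero_lt_one, Finset.sum_empty, add_zero]
    constructor <;> omega
  · have ha : hh k X (C 0) (i + 1) ≤ hh k X (kernel (d 2)) i + hh k X (C 1) (i + 1) := by
      have h := hh_left_succ_le k (S := sc0 C d hd) hS0 (hC 0) (hC 1) (hZ 2) i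
      exact h
    have k1 : hh k X (kernel (d 2)) (i + 1) ≤
        (Finset.range (i + 1 + 1)).sum (fun t => hh k X (C (2 + t)) (i + 1 - t)) := key (i + 1) 2
    have k2 : hh k X (kernel (d 2)) i ≤
      (Finset.range (i + 1)).sum (fun t => hh k X (C (2 + t)) (i - t)) := key i 2
    rw [e1 (i + 1), e1 i]
    simp only [hh] at ha hb k1 k2 ⊢
    generalize Module.finrank k (Coh.HH X (kernel (d 2)) (i + 1)) = x at hb k1
    generalize Module.finrank k (Coh.HH X (kernel (d 2)) i) = y at ha k2
    generalize (Finset.range (i + 1 + 1)).sum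
      (fun t => Module.finrank k (Coh.HH X (C (2 + t)) (i + 1 - t))) = s at k1 ⊢
    generalize (Finset.range (i + 1)).sum
      (fun t => Module.finrank k (Coh.HH X (C (2 + t)) (i - t))) = s2 at k2 ⊢
    generalize Module.finrank k (Coh.HH X (C 0) (i + 1)) = a at ha hb ⊢
    generalize Module.finrank k (Coh.HH X (C 1) (i + 1)) = b at ha hb ⊢
    rw [abs_le]
    constructor <;> omega

end Groth.Agent.S17630
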