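import Groth.Statements.S17632
import Groth.Agent.Lib.AsympCohNorm
-- import your own Groth.Agent.* helpers here

set_option autoImplicit false
universe u
open CategoryTheory CategoryTheory.Limits AlgebraicGeometry
open Variety

namespace Groth.Agent.S17632

/-- Let X be an integral scheme, proper over an uncountable algebraically closed field k of
characteristic zero and admitting an ample invertible module, of dimension n (stated in the source
over the complex numbers), L an invertible O_X-module and A an ample invertible O_X-module with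
inverse A', i.e. A ⊗ A' ≅ O_X. Then for every i ≥ 0, (ĥ^i(X, L^{⊗p} ⊗ A') − ĥ^i(X, L^{⊗p})) / p^n
tends to 0 as p → ∞, where ĥ^i(X, M) = limsup_m dim_k H^i(X, M^{⊗m}) · n!/m^n. -/
theorem result (k : Type u) [Field k] [IsAlgClosed k] [CharZero k] [Uncountable k] (X : Scheme.{u})
    [X.Over (Spec (CommRingCat.of k))] [AlgebraicGeometry.IsIntegral X]
    [IsProper (X ↘ Spec (CommRingCat.of k))] (hproj : ∃ A : X.Modules, CohB1.IsAmple A)
    (n : ℕ) (hn : topologicalKrullDim X = n)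
    (L : X.Modules) (hL : PicF.IsInvertible L) (A A' : X.Modules) (hA : CohB1.IsAmple A)
    (hA' : ClSub.IsInverseOf A A') (i : ℕ) :
    Filter.Tendsto (fun p : ℕ =>
        (W4c5asymptcohfn.hhat k X n i (CohB1.tensorMod (CohB1.tensorPow L p) A') -
          W4c5asymptcohfn.hhat k X n i (CohB1.tensorPow L p)) / (p : ℝ) ^ n)
      Filter.atTop (nhds 0) := by
  obtain ⟨L', -, ⟨e⟩⟩ := Groth.Agent.Lib.H78Dual.exists_tensor_inverse hL
  have hLL' : ClSub.IsInverseOf L L' := ⟨Groth.Agent.Lib.OXModTensor.braiding _ _ ≪≫ e⟩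
  have hL2 : ∀ j : Fin 2, PicF.IsInvertible ((![L, A] : Fin 2 → X.Modules) j) := by
    intro j
    fin_cases j
    · exact hL
    · exact hA.1
  have hM2 : ∀ j : Fin 2, ClSub.IsInverseOf ((![L, A] : Fin 2 → X.Modules) j)
      ((![L', A'] : Fin 2 → X.Modules) j) := by
    intro j
    fin_cases j
    · exact hLL'
    · exact hA'
  obtain ⟨C, hC0, hC⟩ := Groth.Agent.Lib.AsympCohLattice.exists_hhat_lipschitz k
    (![L, A] : Fin 2 → X.Modules) (![L', A'] : Fin 2 → X.Modules) hL2 hM2 n hn.le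
  -- identify the two modules with lattice twists
  have hcA : ∀ p : ℕ, Groth.Agent.Lib.IsoCls13.cls (CohB1.tensorMod (CohB1.tensorPow L p) A') =
      Groth.Agent.Lib.IsoCls13.cls (W4c5asymptcohfn.ztwist X (![L, A] : Fin 2 → X.Modules)
        (![L', A'] : Fin 2 → X.Modules) ![(p : ℤ), -1]) := by
    intro p
    rw [Groth.Agent.Lib.CohTwistLattice.cls_ztwist, Groth.Agent.Lib.IsoCls13.cls_tensorMod,
      Groth.Agent.Lib.IsoCls13.cls_tensorPow]
    unfold Groth.Agent.Lib.CohTwistLattice.zc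
    have h0 : (-(p : ℤ)).toNat = 0 := by
      rw [Int.toNat_eq_zero]; omega
    simp [Fin.prod_univ_two, h0]
  have hcB : ∀ p : ℕ, Groth.Agent.Lib.IsoCls13.cls (CohB1.tensorPow L p) =
      Groth.Agent.Lib.IsoCls13.cls (W4c5asymptcohfn.ztwist X (![L, A] : Fin 2 → X.Modules)
        (![L', A'] : Fin 2 → X.Modules) ![(p : ℤ), 0]) := by
    intro p
    rw [Groth.Agent.Lib.CohTwistLattice.cls_ztwist, Groth.Agent.Lib.IsoCls13.cls_tensorPow]
    unfold Groth.Agent.Lib.CohTwistLattice.zc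
    have h0 : (-(p : ℤ)).toNat = 0 := by
      rw [Int.toNat_eq_zero]; omega
    simp [Fin.prod_univ_two, h0]
  have hl1d : ∀ p : ℕ, Groth.Agent.Lib.CohTwistLattice.l1
      ((![(p : ℤ), -1] : Fin 2 → ℤ) - ![(p : ℤ), 0]) = 1 := by
    intro p
    unfold Groth.Agent.Lib.CohTwistLattice.l1
    simp [Fin.sum_univ_two]
  have hl1a : ∀ p : ℕ, Groth.Agent.Lib.CohTwistLattice.l1 (![(p : ℤ), -1] : Fin 2 → ℤ) = p + 1 := by
    intro p
    unfold Groth.Agent.Lib.CohTwistLattice.l1
    simp [Fin.sum_univ_two]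
  have hbound : ∀ p : ℕ, |W4c5asymptcohfn.hhat k X n i (CohB1.tensorMod (CohB1.tensorPow L p) A') -
      W4c5asymptcohfn.hhat k X n i (CohB1.tensorPow L p)| ≤
      C * Groth.Agent.Lib.AsympCohLattice.gR n ((p : ℝ) + 2) := by
    intro p
    rw [Groth.Agent.Lib.AsympCohNorm.hhat_congr_cls k n i (hcA p),
      Groth.Agent.Lib.AsympCohNorm.hhat_congr_cls k n i (hcB p)]
    have := hC i ![(p : ℤ), -1] ![(p : ℤ), 0]
    rw [hl1d, hl1a] at this
    have e : (((p + 1 : ℕ) : ℝ) + ((1 : ℕ) : ℝ)) = (p : ℝ) + 2 := by push_cast; ring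
    rw [e] at this
    simpa using this
  cases n with
  | zero =>
    have h0 : ∀ p : ℕ, (W4c5asymptcohfn.hhat k X 0 i (CohB1.tensorMod (CohB1.tensorPow L p) A') -
        W4c5asymptcohfn.hhat k X 0 i (CohB1.tensorPow L p)) / (p : ℝ) ^ 0 = 0 := by
      intro p
      have := hbound p
      simp only [Groth.Agent.Lib.AsympCohLattice.gR, mul_zero] at this
      rw [abs_nonpos_iff.1 this, zero_div]
    simp only [h0]
    exact tendsto_const_nhds
  | succ n' =>
    have hlim : Filter.Tendsto (fun p : ℕ => (C * 3 ^ n') / (p : ℝ)) Filter.atTop (nhds 0) :=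
      tendsto_const_div_atTop_nhds_zero_nat _
    refine squeeze_zero_norm' ?_ hlim
    rw [Filter.eventually_atTop]
    refine ⟨1, fun p hp => ?_⟩
    have hp0 : (0 : ℝ) < (p : ℝ) := by exact_mod_cast hp
    have hp1 : (1 : ℝ) ≤ (p : ℝ) := by exact_mod_cast hp
    have hb := hbound p
    simp only [Groth.Agent.Lib.AsympCohLattice.gR] at hb
    rw [norm_div, Real.norm_eq_abs, Real.norm_of_nonneg (by positivity : (0 : ℝ) ≤ (p : ℝ) ^ (n' + 1)),
      div_le_div_iff₀ (by positivity) hp0]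
    have h3 : ((p : ℝ) + 2) ^ n' ≤ (3 * (p : ℝ)) ^ n' :=
      pow_le_pow_left₀ (by positivity) (by linarith) n'
    calc |W4c5asymptcohfn.hhat k X (n' + 1) i (CohB1.tensorMod (CohB1.tensorPow L p) A') -
          W4c5asymptcohfn.hhat k X (n' + 1) i (CohB1.tensorPow L p)| * (p : ℝ)
        ≤ (C * ((p : ℝ) + 2) ^ n') * (p : ℝ) := mul_le_mul_of_nonneg_right hb hp0.le
      _ ≤ (C * (3 * (p : ℝ)) ^ n') * (p : ℝ) := by
          apply mul_le_mul_of_nonneg_right _ hp0.le
          exact mul_le_mul_of_nonneg_left h3 hC0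
      _ = C * 3 ^ n' * (p : ℝ) ^ (n' + 1) := by rw [mul_pow]; ring

end Groth.Agent.S17632
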