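import Groth.Statements.S17633
import Groth.Agent.Lib.AsympCohNorm
-- import your own Groth.Agent.* helpers here

set_option autoImplicit false
universe u
open CategoryTheory CategoryTheory.Limits AlgebraicGeometry
open Variety

namespace Groth.Agent.S17633

/-- Let X be an integral scheme, proper over an uncountable algebraically closed field k of
characteristic zero and admitting an ample invertible module, of dimension n (the published
statement is over the complex numbers), and let L_1, …, L_r be invertible O_X-modules with inverses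
M_1, …, M_r. For a ∈ ℤ^r write L^a = ⊗_j L_j^{a_j} (negative powers taken through the M_j) and ‖a‖ =
max_j |a_j|. Then for every i (the published statement takes 0 ≤ i ≤ n; for i > n both sides vanish)
there is a constant C such that for all a, b ∈ ℤ^r, |ĥ^i(X, L^a) − ĥ^i(X, L^b)| ≤ C · Σ_{q=1}^{n}
max(‖a‖, ‖b‖)^{n−q} · ‖a − b‖^q, where ĥ^i(X, L) = limsup_m dim_k H^i(X, L^{⊗m}) · n!/m^n. (The
published statement gives this Lipschitz-type estimate for ĥ^i as a function on the rational
Néron–Severi space with any fixed norm, together with its homogeneity of degree n; restricted to the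
classes spanned by L_1, …, L_r with the maximum norm on coordinates it reads as here.) -/
theorem result (k : Type u) [Field k] [IsAlgClosed k] [CharZero k] [Uncountable k] (X : Scheme.{u})
    [X.Over (Spec (CommRingCat.of k))] [AlgebraicGeometry.IsIntegral X]
    [IsProper (X ↘ Spec (CommRingCat.of k))] (hproj : ∃ A : X.Modules, CohB1.IsAmple A)
    (n : ℕ) (hn : topologicalKrullDim X = n)
    (r : ℕ) (L M : Fin r → X.Modules) (hL : ∀ j, PicF.IsInvertible (L j))
    (hM : ∀ j, ClSub.IsInverseOf (L j) (M j)) (i : ℕ) :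
    ∃ C : ℝ, ∀ a b : Fin r → ℤ,
      |W4c5asymptcohfn.hhat k X n i (W4c5asymptcohfn.ztwist X L M a) -
          W4c5asymptcohfn.hhat k X n i (W4c5asymptcohfn.ztwist X L M b)| ≤
        C * (Finset.Icc 1 n).sum (fun q =>
          (max ‖(fun j => ((a j : ℤ) : ℝ))‖ ‖(fun j => ((b j : ℤ) : ℝ))‖) ^ (n - q) *
            ‖(fun j => ((a j - b j : ℤ) : ℝ))‖ ^ q) := by
  obtain ⟨C, hC0, hC⟩ := Groth.Agent.Lib.AsympCohLattice.exists_hhat_lipschitz k L M hL hM n hn.le
  cases n with
  | zero =>
    refine ⟨0, fun a b => ?_⟩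
    have := hC i a b
    simp only [Groth.Agent.Lib.AsympCohLattice.gR, mul_zero] at this
    simpa using this
  | succ n' =>
    refine ⟨C * (r : ℝ) * (3 * (r : ℝ)) ^ n', fun a b => ?_⟩
    have h1 := hC i a b
    simp only [Groth.Agent.Lib.AsympCohLattice.gR] at h1
    set na : ℝ := ‖(fun j => ((a j : ℤ) : ℝ))‖ with hna
    set nb : ℝ := ‖(fun j => ((b j : ℤ) : ℝ))‖ with hnb
    set nd : ℝ := ‖(fun j => ((a j - b j : ℤ) : ℝ))‖ with hnd
    have hna0 : 0 ≤ na := norm_nonneg _
    have hnb0 : 0 ≤ nb := norm_nonneg _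
    have hnd0 : 0 ≤ nd := norm_nonneg _
    have hK0 : 0 ≤ max na nb := le_max_of_le_left hna0
    have hr0 : (0 : ℝ) ≤ (r : ℝ) := Nat.cast_nonneg r
    have l1a : (Groth.Agent.Lib.CohTwistLattice.l1 a : ℝ) ≤ (r : ℝ) * na :=
      Groth.Agent.Lib.AsympCohNorm.l1_le_norm a
    have l1d : (Groth.Agent.Lib.CohTwistLattice.l1 (a - b) : ℝ) ≤ (r : ℝ) * nd :=
      Groth.Agent.Lib.AsympCohNorm.l1_sub_le_norm a b
    have hd2 : nd ≤ na + nb := Groth.Agent.Lib.AsympCohNorm.norm_sub_le' a b
    have hnaK : na ≤ max na nb := le_max_left _ _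
    have hnbK : nb ≤ max na nb := le_max_right _ _
    have hsum : (Groth.Agent.Lib.CohTwistLattice.l1 a : ℝ) +
        (Groth.Agent.Lib.CohTwistLattice.l1 (a - b) : ℝ) ≤ 3 * (r : ℝ) * max na nb := by
      have e1 : (r : ℝ) * na ≤ (r : ℝ) * max na nb := mul_le_mul_of_nonneg_left hnaK hr0
      have e2 : (r : ℝ) * nd ≤ (r : ℝ) * (2 * max na nb) :=
        mul_le_mul_of_nonneg_left (by linarith) hr0
      linarith
    have hl1a0 : (0 : ℝ) ≤ (Groth.Agent.Lib.CohTwistLattice.l1 a : ℝ) := Nat.cast_nonneg _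
    have hl1d0 : (0 : ℝ) ≤ (Groth.Agent.Lib.CohTwistLattice.l1 (a - b) : ℝ) := Nat.cast_nonneg _
    have hpow : ((Groth.Agent.Lib.CohTwistLattice.l1 a : ℝ) +
        (Groth.Agent.Lib.CohTwistLattice.l1 (a - b) : ℝ)) ^ n' ≤ (3 * (r : ℝ) * max na nb) ^ n' :=
      pow_le_pow_left₀ (by linarith) hsum n'
    have hterm : (max na nb) ^ (n' + 1 - 1) * nd ^ 1 ≤
        (Finset.Icc 1 (n' + 1)).sum (fun q => (max na nb) ^ (n' + 1 - q) * nd ^ q) :=
      Finset.single_le_sum (f := fun q => (max na nb) ^ (n' + 1 - q) * nd ^ q)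
        (fun q _ => by positivity) (Finset.mem_Icc.2 ⟨le_rfl, by omega⟩)
    rw [Nat.add_sub_cancel, pow_one] at hterm
    calc |W4c5asymptcohfn.hhat k X (n' + 1) i (W4c5asymptcohfn.ztwist X L M a) -
          W4c5asymptcohfn.hhat k X (n' + 1) i (W4c5asymptcohfn.ztwist X L M b)|
        ≤ C * (Groth.Agent.Lib.CohTwistLattice.l1 (a - b) : ℝ) *
          ((Groth.Agent.Lib.CohTwistLattice.l1 a : ℝ) +
            (Groth.Agent.Lib.CohTwistLattice.l1 (a - b) : ℝ)) ^ n' := h1
      _ ≤ C * ((r : ℝ) * nd) * (3 * (r : ℝ) * max na nb) ^ n' := by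
          apply mul_le_mul _ hpow (by positivity) (by positivity)
          exact mul_le_mul_of_nonneg_left l1d hC0
      _ = C * (r : ℝ) * (3 * (r : ℝ)) ^ n' * ((max na nb) ^ n' * nd) := by
          rw [mul_pow]; ring
      _ ≤ C * (r : ℝ) * (3 * (r : ℝ)) ^ n' *
          (Finset.Icc 1 (n' + 1)).sum (fun q => (max na nb) ^ (n' + 1 - q) * nd ^ q) :=
          mul_le_mul_of_nonneg_left hterm (by positivity)

end Groth.Agent.S17633
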