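import Groth.Statements.S17635
import Mathlib.Tactic

set_option autoImplicit false
set_option maxHeartbeats 400000
open Finset
open Variety

namespace Groth.Agent.S17635

/-- max norm of a rational vector -/
noncomputable def nm {r : ℕ} (x : Fin r → ℚ) : ℝ := ‖(fun j => ((x j : ℚ) : ℝ))‖

/-- the comparison sum -/
noncomputable def T (n : ℕ) (M D : ℝ) : ℝ := (Finset.Icc 1 n).sum (fun q => M ^ (n - q) * D ^ q)

lemma T_nonneg (n : ℕ) {M D : ℝ} (hM : 0 ≤ M) (hD : 0 ≤ D) : 0 ≤ T n M D :=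
  Finset.sum_nonneg fun q _ => mul_nonneg (pow_nonneg hM _) (pow_nonneg hD _)

lemma T_mono (n : ℕ) {M M' D D' : ℝ} (hM : 0 ≤ M) (hMM : M ≤ M') (hD : 0 ≤ D) (hDD : D ≤ D') :
    T n M D ≤ T n M' D' :=
  Finset.sum_le_sum fun q _ => mul_le_mul (pow_le_pow_left₀ hM hMM _) (pow_le_pow_left₀ hD hDD _)
    (pow_nonneg hD _) (pow_nonneg (hM.trans hMM) _)

lemma T_scale (n : ℕ) (c M D : ℝ) : T n (c * M) (c * D) = c ^ n * T n M D := by
  unfold T
  rw [Finset.mul_sum]
  refine Finset.sum_congr rfl fun q hq => ?_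
  have hq' : q ≤ n := (Finset.mem_Icc.1 hq).2
  have : c ^ n = c ^ (n - q) * c ^ q := by rw [← pow_add, Nat.sub_add_cancel hq']
  rw [mul_pow, mul_pow, this]; ring

lemma nm_nonneg {r : ℕ} (x : Fin r → ℚ) : 0 ≤ nm x := norm_nonneg _

lemma abs_le_nm {r : ℕ} (x : Fin r → ℚ) (i : Fin r) : |((x i : ℚ) : ℝ)| ≤ nm x := by
  have h : ‖((x i : ℚ) : ℝ)‖ ≤ ‖fun j => ((x j : ℚ) : ℝ)‖ :=
    norm_le_pi_norm (fun j => ((x j : ℚ) : ℝ)) i
  rwa [Real.norm_eq_abs] at h

lemma nm_le {r : ℕ} (x : Fin r → ℚ) {c : ℝ} (hc : 0 ≤ c) (h : ∀ i, |((x i : ℚ) : ℝ)| ≤ c) :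
    nm x ≤ c := by
  unfold nm
  rw [pi_norm_le_iff_of_nonneg hc]
  intro i
  change ‖((x i : ℚ) : ℝ)‖ ≤ c
  rw [Real.norm_eq_abs]; exact h i

lemma nm_smul {r : ℕ} (N : ℕ) (x : Fin r → ℚ) : nm ((N : ℚ) • x) = N * nm x := by
  unfold nm
  have : (fun j => ((((N : ℚ) • x) j : ℚ) : ℝ)) = (N : ℝ) • (fun j => ((x j : ℚ) : ℝ)) := by
    funext j; simp
  rw [this, norm_smul]; simp

lemma step {r n : ℕ} (f : (Fin r → ℚ) → ℝ) (a : Fin r) (Ca : ℝ)
    (h : ∀ (v : Fin r → ℚ) (b : ℕ), 1 ≤ b →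
      |f (v - (b : ℚ) • Pi.single a 1) - f v| ≤ Ca * T n (nm v) (b : ℝ))
    (v : Fin r → ℚ) (d : ℤ) :
    |f v - f (v - (d : ℚ) • Pi.single a 1)| ≤
      |Ca| * T n (max (nm v) (nm (v - (d : ℚ) • Pi.single a 1))) |(d : ℝ)| := by
  rcases lt_trichotomy d 0 with hd | hd | hd
  · set u := v - (d : ℚ) • Pi.single a 1 with hu
    obtain ⟨b, hb⟩ : ∃ b : ℕ, (b : ℤ) = -d := ⟨(-d).toNat, Int.toNat_of_nonneg (by omega)⟩
    have hb1 : 1 ≤ b := by omega
    have hbq : (b : ℚ) = -(d : ℚ) := by exact_mod_cast congrArg (Int.cast : ℤ → ℚ) hb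
    have hv : v = u - (b : ℚ) • Pi.single a 1 := by
      rw [hu, hbq]; simp
    have h1 := h u b hb1
    rw [← hv] at h1
    have hbd : (b : ℝ) = |(d : ℝ)| := by
      rw [abs_of_neg (by exact_mod_cast hd)]; exact_mod_cast congrArg (Int.cast : ℤ → ℝ) hb
    calc |f v - f u| ≤ Ca * T n (nm u) b := h1
      _ ≤ |Ca| * T n (nm u) b :=
          mul_le_mul_of_nonneg_right (le_abs_self _) (T_nonneg n (nm_nonneg _) (Nat.cast_nonneg _))
      _ ≤ |Ca| * T n (max (nm v) (nm u)) |(d:ℝ)| :=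
          mul_le_mul_of_nonneg_left
            (T_mono n (nm_nonneg _) (le_max_right _ _) (Nat.cast_nonneg _) hbd.le) (abs_nonneg _)
  · subst hd
    simp only [Int.cast_zero, zero_smul, sub_zero, sub_self, abs_zero, max_self]
    exact mul_nonneg (abs_nonneg _) (T_nonneg n (nm_nonneg _) le_rfl)
  · set u := v - (d : ℚ) • Pi.single a 1 with hu
    obtain ⟨b, hb⟩ : ∃ b : ℕ, (b : ℤ) = d := ⟨d.toNat, Int.toNat_of_nonneg (by omega)⟩
    have hb1 : 1 ≤ b := by omega
    have hbq : (b : ℚ) = (d : ℚ) := by exact_mod_cast congrArg (Int.cast : ℤ → ℚ) hb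
    have h1 := h v b hb1
    rw [hbq, ← hu] at h1
    have hbd : (b : ℝ) = |(d : ℝ)| := by
      rw [abs_of_pos (by exact_mod_cast hd)]; exact_mod_cast congrArg (Int.cast : ℤ → ℝ) hb
    rw [abs_sub_comm]
    calc |f u - f v| ≤ Ca * T n (nm v) b := h1
      _ ≤ |Ca| * T n (nm v) b :=
          mul_le_mul_of_nonneg_right (le_abs_self _) (T_nonneg n (nm_nonneg _) (Nat.cast_nonneg _))
      _ ≤ |Ca| * T n (max (nm v) (nm u)) |(d:ℝ)| :=
          mul_le_mul_of_nonneg_left
            (T_mono n (nm_nonneg _) (le_max_left _ _) (Nat.cast_nonneg _) hbd.le) (abs_nonneg _)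

lemma int_case {r n : ℕ} (f : (Fin r → ℚ) → ℝ) (C : Fin r → ℝ)
    (h : ∀ (a : Fin r) (v : Fin r → ℚ) (b : ℕ), 1 ≤ b →
      |f (v - (b : ℚ) • Pi.single a 1) - f v| ≤ C a * T n (nm v) (b : ℝ))
    (s : Finset (Fin r)) : ∀ (v w : Fin r → ℚ), (∀ i, i ∉ s → v i = w i) →
      (∀ i, ∃ d : ℤ, v i - w i = d) →
      |f v - f w| ≤ (∑ i ∈ s, |C i|) * T n (max (nm v) (nm w)) (nm (v - w)) := by
  classical
  induction s using Finset.induction_on with
  | empty =>
    intro v w hvw _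
    have : v = w := funext fun i => hvw i (Finset.notMem_empty i)
    subst this; simp
  | insert a s ha ih =>
    intro v w hvw hint
    obtain ⟨d, hd⟩ := hint a
    set u : Fin r → ℚ := v - (d : ℚ) • Pi.single a 1 with hu
    have hua : u a = w a := by simp [hu, ← hd]
    have hui : ∀ i, i ≠ a → u i = v i := by
      intro i hi; simp [hu, Pi.single_eq_of_ne hi]
    have h1 := step f a (C a) (h a) v d
    have h2 := ih u w
      (by
        intro i his
        by_cases hia : i = a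
        · rw [hia, hua]
        · rw [hui i hia]; exact hvw i (by simp [hia, his]))
      (by
        intro i
        by_cases hia : i = a
        · exact ⟨0, by rw [hia, hua]; simp⟩
        · rw [hui i hia]; exact hint i)
    have hM : 0 ≤ max (nm v) (nm w) := le_max_of_le_left (nm_nonneg _)
    have hu_le : nm u ≤ max (nm v) (nm w) := by
      apply nm_le _ hM
      intro i
      by_cases hia : i = a
      · rw [hia, hua]; exact (abs_le_nm w a).trans (le_max_right _ _)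
      · rw [hui i hia]; exact (abs_le_nm v i).trans (le_max_left _ _)
    have hd_le : |(d : ℝ)| ≤ nm (v - w) := by
      have := abs_le_nm (v - w) a
      rw [Pi.sub_apply, hd] at this
      simpa using this
    have huw_le : nm (u - w) ≤ nm (v - w) := by
      apply nm_le _ (nm_nonneg _)
      intro i
      by_cases hia : i = a
      · rw [hia, Pi.sub_apply, hua, sub_self]; simpa using nm_nonneg (v - w)
      · have : (u - w) i = (v - w) i := by simp [hui i hia]
        rw [this]; exact abs_le_nm _ i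
    rw [Finset.sum_insert ha, add_mul]
    have e1 : |C a| * T n (max (nm v) (nm u)) |(d : ℝ)| ≤
        |C a| * T n (max (nm v) (nm w)) (nm (v - w)) :=
      mul_le_mul_of_nonneg_left (T_mono n (le_max_of_le_left (nm_nonneg _))
        (max_le (le_max_left _ _) hu_le) (abs_nonneg _) hd_le) (abs_nonneg _)
    have e2 : (∑ i ∈ s, |C i|) * T n (max (nm u) (nm w)) (nm (u - w)) ≤
        (∑ i ∈ s, |C i|) * T n (max (nm v) (nm w)) (nm (v - w)) :=
      mul_le_mul_of_nonneg_left (T_mono n (le_max_of_le_left (nm_nonneg _))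
        (max_le hu_le (le_max_right _ _)) (nm_nonneg _) huw_le)
        (Finset.sum_nonneg fun i _ => abs_nonneg _)
    calc |f v - f w| ≤ |f v - f u| + |f u - f w| := abs_sub_le _ _ _
      _ ≤ _ := add_le_add (h1.trans e1) (h2.trans e2)

/-- Let r and n be natural numbers and f : ℚ^r → ℝ a nonnegative function which is homogeneous of degree
n for positive rational scalars, f(q · v) = q^n · f(v) for q > 0; give ℚ^r the maximum norm ‖v‖ =
max_j |v_j| of its standard basis. Suppose that for every standard basis vector e_i there is a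
constant C_i with |f(v − b · e_i) − f(v)| ≤ C_i · Σ_{q=1}^{n} ‖v‖^{n−q} · b^q for all v ∈ ℚ^r and
all integers b ≥ 1. Then there is a constant C > 0 such that |f(v) − f(w)| ≤ C · Σ_{q=1}^{n}
max(‖v‖, ‖w‖)^{n−q} · ‖v − w‖^q for all v, w ∈ ℚ^r. (The source allows any norm on an r-dimensional
rational vector space with a chosen basis and argues with the maximum norm of that basis, which is
the case stated here.) -/
theorem result (r n : ℕ) (f : (Fin r → ℚ) → ℝ)
    (hf0 : ∀ v, 0 ≤ f v)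
    (hhom : ∀ (q : ℚ) (v : Fin r → ℚ), 0 < q → f (q • v) = (q : ℝ) ^ n * f v)
    (hdir : ∀ i : Fin r, ∃ Ci : ℝ, ∀ (v : Fin r → ℚ) (b : ℕ), 1 ≤ b →
      |f (v - (b : ℚ) • Pi.single i 1) - f v| ≤
        Ci * (Finset.Icc 1 n).sum (fun q => ‖(fun j => ((v j : ℚ) : ℝ))‖ ^ (n - q) * (b : ℝ) ^ q)) :
    ∃ C : ℝ, 0 < C ∧ ∀ v w : Fin r → ℚ,
      |f v - f w| ≤ C * (Finset.Icc 1 n).sum (fun q =>
        (max ‖(fun j => ((v j : ℚ) : ℝ))‖ ‖(fun j => ((w j : ℚ) : ℝ))‖) ^ (n - q) *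
          ‖(fun j => ((v j - w j : ℚ) : ℝ))‖ ^ q) := by
  classical
  choose C hC using hdir
  have hCnn : 0 ≤ ∑ i, |C i| := Finset.sum_nonneg fun i _ => abs_nonneg _
  refine ⟨(∑ i, |C i|) + 1, by linarith, ?_⟩
  intro v w
  change |f v - f w| ≤ ((∑ i, |C i|) + 1) * T n (max (nm v) (nm w)) (nm (v - w))
  set N : ℕ := ∏ i, (v i - w i).den with hN
  have hNpos : 0 < N := Finset.prod_pos fun i _ => Rat.den_pos _
  have hint : ∀ i, ∃ d : ℤ, ((N : ℚ) • v) i - ((N : ℚ) • w) i = d := by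
    intro i
    obtain ⟨k, hk⟩ : (v i - w i).den ∣ N := Finset.dvd_prod_of_mem _ (Finset.mem_univ i)
    refine ⟨k * (v i - w i).num, ?_⟩
    simp only [Pi.smul_apply, smul_eq_mul]
    rw [← mul_sub, hk]
    push_cast
    rw [mul_comm ((v i - w i).den : ℚ) k, mul_assoc, mul_comm ((v i - w i).den : ℚ),
      Rat.mul_den_eq_num]
  have key := int_case (n := n) f C (fun a v b hb => hC a v b hb) Finset.univ ((N:ℚ) • v)
    ((N:ℚ) • w) (fun i hi => absurd (Finset.mem_univ i) hi) hint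
  have hNq : (0 : ℚ) < (N : ℚ) := by exact_mod_cast hNpos
  have hcast : (((N : ℚ)) : ℝ) = (N : ℝ) := by simp
  rw [hhom N v hNq, hhom N w hNq, hcast] at key
  have hNr : (0:ℝ) < (N:ℝ)^n := by positivity
  rw [← smul_sub, nm_smul, nm_smul, nm_smul, ← mul_max_of_nonneg _ _ (Nat.cast_nonneg N),
    T_scale, ← mul_sub, abs_mul, abs_of_pos hNr] at key
  have key2 : |f v - f w| ≤ (∑ i, |C i|) * T n (max (nm v) (nm w)) (nm (v - w)) := by
    have : (N:ℝ)^n * |f v - f w| ≤
        (N:ℝ)^n * ((∑ i, |C i|) * T n (max (nm v) (nm w)) (nm (v - w))) := by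
      calc _ ≤ _ := key
        _ = _ := by ring
    exact le_of_mul_le_mul_left this hNr
  calc |f v - f w| ≤ (∑ i, |C i|) * T n (max (nm v) (nm w)) (nm (v - w)) := key2
    _ ≤ ((∑ i, |C i|) + 1) * T n (max (nm v) (nm w)) (nm (v - w)) :=
        mul_le_mul_of_nonneg_right (by linarith)
          (T_nonneg n (le_max_of_le_left (nm_nonneg _)) (nm_nonneg _))

end Groth.Agent.S17635
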