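import Groth.Statements.S17636
import Groth.Agent.Lib.CohGrowthPosHH
import Groth.Agent.Lib.AsympCohBasic
import Groth.Agent.Lib.H78BaseLocus
import Groth.Agent.Lib.IsoCls13

set_option autoImplicit false
universe u
open CategoryTheory CategoryTheory.Limits AlgebraicGeometry
open Variety

namespace Groth.Agent.S17636


open Groth.Agent.Lib.IsoCls13 Groth.Agent.Lib.CohGrowth CohB1 in
/-- `dim_k H^i(X, L^m) ≤ C * g n m` for `i` above the dimension of the stable base locus of `L`. -/
theorem exists_bound_above_sb (k : Type u) [Field k] (X : Scheme.{u})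
    [X.Over (Spec (CommRingCat.of k))] [IsProper (X ↘ Spec (CommRingCat.of k))]
    (n : ℕ) (hn : topologicalKrullDim X = n)
    (L : X.Modules) (hL : PicF.IsInvertible L)
    (d : ℕ) (hd : topologicalKrullDim ↥(W4c5asymptcohfn.stableBaseLocus X L) ≤ (d : WithBot ℕ∞))
    (i : ℕ) (hi : d < i) :
    ∃ C : ℕ, ∀ m : ℕ, Module.finrank k (Coh.HH X (CohB1.tensorPow L m) i) ≤ C * g n m := by
  haveI : IsLocallyNoetherian X :=
    LocallyOfFiniteType.isLocallyNoetherian (X ↘ Spec (CommRingCat.of k))
  haveI : CompactSpace X := Groth.Agent.Lib.EulerChar54.compactSpace_of_isProper k X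
  haveI : AlgebraicGeometry.IsNoetherian X := { }
  obtain ⟨p, hp, hBs⟩ := Groth.Agent.Lib.H78BaseLocus.exists_Bs_eq_SB hL
  have hSB : Groth.Agent.Lib.H78BaseLocus.SB L = W4c5asymptcohfn.stableBaseLocus X L := by
    ext x
    simp only [Groth.Agent.Lib.H78BaseLocus.SB, W4c5asymptcohfn.stableBaseLocus,
      W4c5asymptcohfn.baseLocus, Set.mem_setOf_eq, Set.mem_iInter]
    constructor
    · intro h m s
      exact h (m + 1) (Nat.succ_pos m) s
    · intro h m hm s
      obtain ⟨m', rfl⟩ : ∃ m', m = m' + 1 := ⟨m - 1, by omega⟩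
      exact h m' s
  have hdB : topologicalKrullDim ↥(Groth.Agent.Lib.H78BaseLocus.Bs L p) ≤ (d : WithBot ℕ∞) := by
    rw [hBs, hSB]; exact hd
  have hP : PicF.IsInvertible (tensorPow L p) :=
    Groth.Agent.Lib.OXModRestrict.isInvertible_tensorPow hL p
  have hsec : ∀ x : X, x ∉ Groth.Agent.Lib.H78BaseLocus.Bs L p →
      ∃ s : Coh.structureModule X ⟶ tensorPow L p, x ∈ CohB1.genLocus (tensorPow L p) s := by
    intro x hx
    by_contra hno
    push Not at hno
    exact hx hno
  have hdimX : ∀ F : X.Modules, topologicalKrullDim ↥(CohB1.support F) ≤ (n : WithBot ℕ∞) := by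
    intro F
    rw [← hn]
    exact (Groth.Agent.Lib.DimDrop.topologicalKrullDim_mono (Set.subset_univ _)).trans
      (le_of_eq (IsHomeomorph.topologicalKrullDim_eq _ (Homeomorph.Set.univ X).isHomeomorph))
  have hall : ∀ t : ℕ, ∃ C : ℕ, ∀ s, s < t → ∀ q : ℕ,
      Module.finrank k (Coh.HH X (tensorMod (tensorPow L s) (tensorPow (tensorPow L p) q)) i) ≤
        C * g n q := by
    intro t
    induction t with
    | zero => exact ⟨0, fun s hs => absurd hs (Nat.not_lt_zero s)⟩
    | succ t ih =>
      obtain ⟨C1, hC1⟩ := ih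
      obtain ⟨C2, hC2⟩ := Groth.Agent.Lib.CohGrowthPosHH.exists_bound_gt k hP
        (Groth.Agent.Lib.H78BaseLocus.Bs L p) (Groth.Agent.Lib.H78BaseLocus.isClosed_Bs L p) d hdB hsec
        (tensorPow L t) (Groth.Agent.Lib.H90Invertible.isCoh_of_isInvertible
          (Groth.Agent.Lib.OXModRestrict.isInvertible_tensorPow hL t)) n (hdimX _)
      refine ⟨C1 + C2, fun s hs q => ?_⟩
      rcases Nat.lt_succ_iff_lt_or_eq.1 hs with h | rfl
      · exact (hC1 s h q).trans (Nat.mul_le_mul_right _ (Nat.le_add_right C1 C2))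
      · exact (hC2 i q hi).trans (Nat.mul_le_mul_right _ (Nat.le_add_left C2 C1))
  obtain ⟨C, hC⟩ := hall p
  refine ⟨C, fun m => ?_⟩
  have hs : m % p < p := Nat.mod_lt _ hp
  have hcls : cls (tensorPow L m) =
      cls (tensorMod (tensorPow L (m % p)) (tensorPow (tensorPow L p) (m / p))) := by
    rw [cls_tensorMod, cls_tensorPow, cls_tensorPow, cls_tensorPow, cls_tensorPow, ← pow_mul,
      ← pow_add]
    congr 1
    rw [add_comm]
    exact (Nat.div_add_mod m p).symm
  obtain ⟨e⟩ := cls_eq_iff.1 hcls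
  have he : Module.finrank k (Coh.HH X (tensorPow L m) i) =
      Module.finrank k (Coh.HH X
        (tensorMod (tensorPow L (m % p)) (tensorPow (tensorPow L p) (m / p))) i) :=
    Groth.Agent.Lib.CohGrowthHH.hh_congr k e i
  rw [he]
  exact (hC (m % p) hs (m / p)).trans
    (Nat.mul_le_mul_left C (g_mono n (Nat.div_le_self m p)))

/-- Let X be an integral scheme, smooth and proper over an algebraically closed field k of
characteristic zero and admitting an ample invertible module, of dimension n (stated in the source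
over the complex numbers), and let L be an invertible O_X-module which is big — its volume ĥ^0(X, L)
= limsup_m dim_k H^0(X, L^{⊗m}) · n!/m^n is positive — and whose stable base locus, the set of
points of X at which every global section of every L^{⊗m}, m ≥ 1, vanishes, has dimension at most d.
Then ĥ^i(X, L) = limsup_m dim_k H^i(X, L^{⊗m}) · n!/m^n = 0 for every i > d. -/
theorem result (k : Type u) [Field k] [IsAlgClosed k] [CharZero k] (X : Scheme.{u})
    [X.Over (Spec (CommRingCat.of k))] [AlgebraicGeometry.IsIntegral X]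
    [IsProper (X ↘ Spec (CommRingCat.of k))] (hproj : ∃ A : X.Modules, CohB1.IsAmple A)
    (n : ℕ) (hn : topologicalKrullDim X = n)
    [Smooth (X ↘ Spec (CommRingCat.of k))]
    (L : X.Modules) (hL : PicF.IsInvertible L) (hbig : 0 < W4c5asymptcohfn.hhat k X n 0 L)
    (d : ℕ) (hd : topologicalKrullDim ↥(W4c5asymptcohfn.stableBaseLocus X L) ≤ (d : WithBot ℕ∞))
    (i : ℕ) (hi : d < i) :
    W4c5asymptcohfn.hhat k X n i L = 0 := by
  obtain ⟨C, hC⟩ := exists_bound_above_sb k X n hn L hL d hd i hi
  have hb' : ∀ m : ℕ, Module.finrank k (Coh.HH X (CohB1.tensorPow L m) i) ≤ C * (m + 1) ^ n :=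
    fun m => (hC m).trans (Nat.mul_le_mul_left C (Groth.Agent.Lib.CohGrowth.g_le n m))
  have key := Groth.Agent.Lib.AsympCohBasic.limsup_eq_of_bounds n C C
    (fun m => Module.finrank k (Coh.HH X (CohB1.tensorPow L m) i))
    (fun _ => 0) hb' (fun m => Nat.zero_le _)
    (fun m => by simpa using hC m)
    (fun m => Nat.zero_le _)
  unfold W4c5asymptcohfn.hhat
  rw [key]
  simp

end Groth.Agent.S17636
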