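import Groth.Statements.S17647
import Mathlib
import Groth.Agent.Lib.H90QCohLocalization
import Groth.Agent.Lib.H90OXModQcqs

set_option autoImplicit false
universe u
open CategoryTheory CategoryTheory.Limits AlgebraicGeometry
open QCohCat

namespace Groth.Agent.S17647

/-- Let X be a scheme and U ⊆ X an open subset whose inclusion U ⟶ X is quasi-compact, Z = X ∖ U. Then
the restriction functor QCoh(X) ⥤ QCoh(U) between the categories of quasi-coherent modules is a
localization functor for the class of morphisms of quasi-coherent O_X-modules whose kernel and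
cokernel (computed in O_X-modules) have support contained in Z: the category QCoh(U) is the quotient
of QCoh(X) by the localizing subcategory of quasi-coherent modules supported in Z, the direct image
along U ⟶ X being the fully faithful right adjoint. No hypothesis is made on X beyond the
quasi-compactness of U ⟶ X. -/
theorem result (X : Scheme.{u})
    (U : X.Opens) [QuasiCompact U.ι] :
    (ObjectProperty.lift (QCohCat.isQCoh (↑U : Scheme.{u}))
        (ObjectProperty.ι (QCohCat.isQCoh X) ⋙ Scheme.Modules.restrictFunctor U.ι)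
        (fun M => @Scheme.Modules.isQuasicoherent_restrictFunctor (↑U : Scheme.{u}) X U.ι
          inferInstance M.obj M.property)).IsLocalization
      (fun (A B : QCohCat.QCoh X) (f : A ⟶ B) =>
        CohB1.support (kernel f.hom) ⊆ (↑U : Set X)ᶜ ∧
          CohB1.support (cokernel f.hom) ⊆ (↑U : Set X)ᶜ) := by
  let G' : QCohCat.QCoh X ⥤ QCohCat.QCoh (↑U : Scheme.{u}) :=
    ObjectProperty.lift (QCohCat.isQCoh (↑U : Scheme.{u}))
        (ObjectProperty.ι (QCohCat.isQCoh X) ⋙ Scheme.Modules.restrictFunctor U.ι)
        (fun M => @Scheme.Modules.isQuasicoherent_restrictFunctor (↑U : Scheme.{u}) X U.ι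
          inferInstance M.obj M.property)
  let F' : QCohCat.QCoh (↑U : Scheme.{u}) ⥤ QCohCat.QCoh X :=
    ObjectProperty.lift (QCohCat.isQCoh X)
        (ObjectProperty.ι (QCohCat.isQCoh (↑U : Scheme.{u})) ⋙ Scheme.Modules.pushforward U.ι)
        (fun M => by
          haveI : M.obj.IsQuasicoherent := M.property
          exact Groth.Agent.Lib.H90OXModQcqs.isQuasicoherent_pushforward_of_qcqs U.ι M.obj)
  let adj' : G' ⊣ F' := (Scheme.Modules.restrictAdjunction U.ι).restrictFullyFaithful
    (iC := (QCohCat.isQCoh X).ι) (iD := (QCohCat.isQCoh (↑U : Scheme.{u})).ι)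
    (QCohCat.isQCoh X).fullyFaithfulι (QCohCat.isQCoh (↑U : Scheme.{u})).fullyFaithfulι
    (Iso.refl _) (Iso.refl _)
  have eF : F' ⋙ (QCohCat.isQCoh X).ι ≅
      (QCohCat.isQCoh (↑U : Scheme.{u})).ι ⋙ Scheme.Modules.pushforward U.ι := Iso.refl _
  haveI : ((QCohCat.isQCoh (↑U : Scheme.{u})).ι ⋙ Scheme.Modules.pushforward U.ι).Full :=
    inferInstance
  haveI : ((QCohCat.isQCoh (↑U : Scheme.{u})).ι ⋙ Scheme.Modules.pushforward U.ι).Faithful :=
    inferInstance
  haveI : F'.Full := Functor.Full.of_comp_faithful_iso eF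
  haveI : F'.Faithful := Functor.Faithful.of_comp_iso eF
  have hloc := adj'.isLocalization
  have hW : (fun (A B : QCohCat.QCoh X) (f : A ⟶ B) =>
        CohB1.support (kernel f.hom) ⊆ (↑U : Set X)ᶜ ∧
          CohB1.support (cokernel f.hom) ⊆ (↑U : Set X)ᶜ) =
      (MorphismProperty.isomorphisms (QCohCat.QCoh (↑U : Scheme.{u}))).inverseImage G' := by
    apply MorphismProperty.ext
    intro A B f
    rw [MorphismProperty.inverseImage_iff, MorphismProperty.isomorphisms.iff,
      ← isIso_iff_of_reflects_iso (G'.map f) (QCohCat.isQCoh (↑U : Scheme.{u})).ι]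
    exact (Groth.Agent.Lib.H90QCohLocalization.isIso_restrict_map_iff f.hom U).symm
  rw [hW]
  exact hloc

end Groth.Agent.S17647
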