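import Groth.Statements.S17649
import Mathlib
import Groth.Agent.Lib.H90QCohLocalization
import Groth.Agent.Lib.H90OXModQcqs
import Groth.Agent.Lib.H90OXModExact

set_option autoImplicit false
universe u
open CategoryTheory CategoryTheory.Limits AlgebraicGeometry
open QCohCat

namespace Groth.Agent.S17649

/-- Suppose the scheme X is quasi-compact and quasi-separated, and take two quasi-compact opens U, V ⊆
X. Given a quasi-compact open W, denote by S_W the class of quasi-coherent O_X-modules that restrict
to zero on W. Then S_{U ∩ V} is the smallest localizing subcategory of Qcoh(X) that contains both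
S_U and S_V; concretely (this is the inclusion that is not formal): any quasi-coherent O_X-module F
satisfying F|_{U ∩ V} = 0 arises as an extension of a quasi-coherent module that is zero on V by a
quasi-coherent submodule that is zero on U — one can find a monomorphism A ⟶ F where A is
quasi-coherent, A|_U = 0 and (F/A)|_V = 0. -/
theorem result {X : Scheme.{u}}
    [CompactSpace X] [QuasiSeparatedSpace X] (U V : X.Opens) [QuasiCompact U.ι] [QuasiCompact V.ι]
    (F : X.Modules) (hF : Coh.IsQCoh F) (h : IsZero ((Scheme.Modules.restrictFunctor (U ⊓ V).ι).obj F)) :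
    ∃ (A : X.Modules) (i : A ⟶ F), Mono i ∧ Coh.IsQCoh A ∧
      IsZero ((Scheme.Modules.restrictFunctor U.ι).obj A) ∧
      IsZero ((Scheme.Modules.restrictFunctor V.ι).obj (cokernel i)) := by
  haveI : F.IsQuasicoherent := hF
  let η : F ⟶ (Scheme.Modules.pushforward U.ι).obj ((Scheme.Modules.restrictFunctor U.ι).obj F) :=
    (Scheme.Modules.restrictAdjunction U.ι).unit.app F
  let N := (Scheme.Modules.pushforward U.ι).obj ((Scheme.Modules.restrictFunctor U.ι).obj F)
  haveI : ((Scheme.Modules.restrictFunctor U.ι).obj F).IsQuasicoherent :=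
    Scheme.Modules.isQuasicoherent_restrictFunctor U.ι F
  haveI : N.IsQuasicoherent :=
    Groth.Agent.Lib.H90OXModQcqs.isQuasicoherent_pushforward_of_qcqs U.ι _
  refine ⟨kernel η, kernel.ι η, inferInstance,
    Groth.Agent.Lib.H90OXModExact.isQuasicoherent_kernel η, ?_, ?_⟩
  · -- the unit restricts to an isomorphism on `U`
    have h1 : IsIso ((Scheme.Modules.restrictFunctor U.ι).map η) := by
      have tri := (Scheme.Modules.restrictAdjunction U.ι).left_triangle_components F
      have : (Scheme.Modules.restrictFunctor U.ι).map η =
          inv ((Scheme.Modules.restrictAdjunction U.ι).counit.app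
            ((Scheme.Modules.restrictFunctor U.ι).obj F)) := by
        exact IsIso.eq_inv_of_inv_hom_id tri
      rw [this]
      infer_instance
    exact (Groth.Agent.Lib.H90QCohLocalization.isZero_restrict_iff _ U).mpr
      ((Groth.Agent.Lib.H90QCohLocalization.isIso_restrict_map_iff η U).mp h1).1
  · -- `N` restricts to zero on `V`
    have hstalk : ∀ x : X, x ∈ U ⊓ V → Subsingleton ↑(F.presheaf.stalk x) := fun x hx =>
      Groth.Agent.Lib.ModStalk.subsingleton_stalk_of_isZero_restrict F (U ⊓ V) h x hx
    have hN : IsZero ((Scheme.Modules.restrictFunctor V.ι).obj N) := by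
      apply Groth.Agent.Lib.H90QCohLocalization.isZero_of_subsingleton_sections
      intro W
      change Subsingleton Γ(F, U.ι ''ᵁ (U.ι ⁻¹ᵁ (V.ι ''ᵁ W)))
      apply Groth.Agent.Lib.H90OXModPushOpen.subsingleton_sections_of_stalks
      intro y hy
      apply hstalk
      obtain ⟨z, hz, rfl⟩ := hy
      exact ⟨z.2, by
        obtain ⟨w, hw, hwz⟩ := hz
        exact Set.mem_of_eq_of_mem hwz.symm w.2⟩
    haveI : Mono (Abelian.factorThruCoimage η) := inferInstance
    haveI : Mono ((Scheme.Modules.restrictFunctor V.ι).map (Abelian.factorThruCoimage η)) :=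
      inferInstance
    exact IsZero.of_mono ((Scheme.Modules.restrictFunctor V.ι).map (Abelian.factorThruCoimage η)) hN

end Groth.Agent.S17649
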