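import Groth.Statements.S4690
import Groth.Agent.Lib.DimFormulaScheme2

set_option autoImplicit false
universe u
open EGA4

namespace Groth.Agent.S4690

open AlgebraicGeometry CategoryTheory in
/-- Let Y be an irreducible locally Noetherian scheme, X an irreducible scheme and f : X → Y a dominant
morphism locally of finite type; let e be the dimension of the generic fibre of f. Then dim X ≤ dim
Y + e. If moreover every local ring of Y is universally catenary, the two sides are equal if and
only if dim Y equals the supremum of the dimensions of the local rings of Y at the points of f(X). -/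
theorem result {X Y : Scheme.{u}} (f : X ⟶ Y) [IsLocallyNoetherian Y]
    [LocallyOfFiniteType f] [IrreducibleSpace X] [IrreducibleSpace Y] (hf : DenseRange f.base) :
    topologicalKrullDim X ≤ topologicalKrullDim Y + topologicalKrullDim (f.fiber (genericPoint Y)) ∧
      ((∀ y : Y, CAlg.IsUniversallyCatenary (Y.presheaf.stalk y)) →
        (topologicalKrullDim X = topologicalKrullDim Y + topologicalKrullDim (f.fiber (genericPoint Y)) ↔
          topologicalKrullDim Y = ⨆ y ∈ Set.range f.base, ringKrullDim (Y.presheaf.stalk y))) := by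
  have hξ : ∀ x : X, genericPoint X ⤳ x := genericPoint_specializes
  have hgen : f (genericPoint X) = genericPoint Y := by
    have h1 := (genericPoint_spec X).image f.continuous
    rw [Set.image_univ, hf.closure_range] at h1
    exact IsGenericPoint.eq h1 (genericPoint_spec Y)
  have hfξ : ∀ y : Y, f (genericPoint X) ⤳ y := fun y => by
    rw [hgen]
    exact genericPoint_specializes y
  obtain ⟨e₀, he⟩ := Groth.Agent.Lib.GenericFibrePoint.exists_nat_trdeg_residueField f
    (genericPoint X)
  have hfib := Groth.Agent.Lib.DimFormulaScheme.topologicalKrullDim_fiber_eq f (genericPoint X)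
    hξ hfξ e₀ he
  rw [hgen] at hfib
  rw [hfib]
  -- everything in terms of coheights
  have hX : topologicalKrullDim X = ((⨆ x : X, Order.coheight x : ℕ∞) : WithBot ℕ∞) := by
    rw [Groth.Agent.Lib.SpecDim.topologicalKrullDim_eq_krullDim (A := X),
      Order.krullDim_eq_iSup_coheight_of_nonempty]
  have hY : topologicalKrullDim Y = ((⨆ y : Y, Order.coheight y : ℕ∞) : WithBot ℕ∞) := by
    rw [Groth.Agent.Lib.SpecDim.topologicalKrullDim_eq_krullDim (A := Y),
      Order.krullDim_eq_iSup_coheight_of_nonempty]
  have hS : (⨆ y ∈ Set.range f.base, ringKrullDim (Y.presheaf.stalk y)) =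
      ((⨆ x : X, Order.coheight (f x) : ℕ∞) : WithBot ℕ∞) := by
    rw [iSup_range, WithBot.coe_iSup (OrderTop.bddAbove _)]
    refine iSup_congr (fun x => ?_)
    rw [ringKrullDim_stalk_eq_coheight]
  have hi : ∀ x : X, Order.coheight x ≤ Order.coheight (f x) + (e₀ : ℕ∞) := by
    intro x
    have h1 := Groth.Agent.Lib.DimFormulaScheme.dim_stalk_le_add f (genericPoint X) hξ hfξ e₀ he x
    rw [ringKrullDim_stalk_eq_coheight, ringKrullDim_stalk_eq_coheight] at h1
    exact_mod_cast h1
  have part1 : (⨆ x : X, Order.coheight x) ≤ (⨆ y : Y, Order.coheight y) + (e₀ : ℕ∞) := by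
    apply iSup_le
    intro x
    refine (hi x).trans ?_
    gcongr
    exact le_iSup (fun y : Y => Order.coheight y) (f x)
  rw [hX, hY, hS]
  refine ⟨by exact_mod_cast part1, fun hUC => ?_⟩
  have hii : (⨆ x : X, Order.coheight x) = (⨆ x : X, Order.coheight (f x)) + (e₀ : ℕ∞) := by
    apply le_antisymm
    · apply iSup_le
      intro x
      refine (hi x).trans ?_
      gcongr
      exact le_iSup (fun x : X => Order.coheight (f x)) x
    · rw [ENat.iSup_add]
      apply iSup_le
      intro x₀
      obtain ⟨z, hfz, hz⟩ := Groth.Agent.Lib.DimFormulaScheme.exists_dim_stalk_eq_add f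
        (genericPoint X) hξ hfξ hUC e₀ he x₀
      rw [ringKrullDim_stalk_eq_coheight, ringKrullDim_stalk_eq_coheight] at hz
      have hz' : Order.coheight z = Order.coheight (f x₀) + (e₀ : ℕ∞) := by
        exact_mod_cast hz
      refine le_iSup_of_le z ?_
      rw [hz']
  have hcast : (((⨆ x : X, Order.coheight x : ℕ∞) : WithBot ℕ∞) =
      ((⨆ y : Y, Order.coheight y : ℕ∞) : WithBot ℕ∞) + ((e₀ : ℕ) : WithBot ℕ∞)) ↔
      ((⨆ x : X, Order.coheight x) = (⨆ y : Y, Order.coheight y) + (e₀ : ℕ∞)) := by
    constructor
    · intro h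
      exact_mod_cast h
    · intro h
      exact_mod_cast h
  rw [hcast, hii, WithBot.coe_inj]
  constructor
  · intro h
    exact (ENat.add_left_injective_of_ne_top (ENat.natCast_ne_top e₀) h).symm
  · intro h
    rw [h]

end Groth.Agent.S4690
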