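import Groth.Statements.S17653
import Groth.Agent.S4690
import Groth.Agent.S0402
import Groth.Agent.S10831
import Groth.Agent.Lib.H30SubschemeDim2
import Groth.Agent.Lib.DimIneqComponent
import Groth.Agent.Lib.FibreDimStrata
import Groth.Agent.Lib.H56LocDimSch

set_option autoImplicit false
universe u
open CategoryTheory CategoryTheory.Limits AlgebraicGeometry TopologicalSpace
open Variety

namespace Groth.Agent.S17653

/-- Suppose X and Y are locally Noetherian schemes of the same pure dimension d (every irreducible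
component of X and every irreducible component of Y has topological Krull dimension d), and π : X →
Y is a proper morphism between them. If there is a point x of X which is isolated in its fibre
π⁻¹(π(x)), i.e. some open neighbourhood of x meets that fibre only in x, then the image of π, with
the subspace topology, has the same dimension as Y. -/
theorem result
    (X Y : Scheme.{u}) [IsLocallyNoetherian X] [IsLocallyNoetherian Y] (π : X ⟶ Y) [IsProper π]
    (d : WithBot ℕ∞) (hX : ∀ Z ∈ irreducibleComponents ↥X, topologicalKrullDim ↥Z = d)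
    (hY : ∀ Z ∈ irreducibleComponents ↥Y, topologicalKrullDim ↥Z = d)
    (x : ↥X) (hx : ∃ U : X.Opens, x ∈ U ∧ ∀ x' ∈ U, π x' = π x → x' = x) :
    topologicalKrullDim ↥(Set.range (fun z : ↥X => π z)) = topologicalKrullDim ↥Y := by
  classical
  obtain ⟨U, hxU, hU⟩ := hx
  apply le_antisymm (topologicalKrullDim_subspace_le _ _)
  -- the local fibre dimension at `x` is `≤ 0`
  have hfd : FlatMor.fibreDimAt π x ≤ ((0 : ℕ) : WithBot ℕ∞) := by
    rw [Groth.Agent.Lib.H56LocDim.fibreDimAt_eq_fibLocDim]
    unfold Groth.Agent.Lib.H56LocDim.fibLocDim FlatMor.localDim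
    let V : TopologicalSpace.Opens ↥(π.base ⁻¹' {π.base x}) :=
      ⟨Subtype.val ⁻¹' (U : Set X), U.isOpen.preimage continuous_subtype_val⟩
    have hxV : (⟨x, rfl⟩ : ↥(π.base ⁻¹' {π.base x})) ∈ V := hxU
    refine (iInf_le _ ⟨V, hxV⟩).trans ?_
    haveI : Subsingleton ↥(V : Set ↥(π.base ⁻¹' {π.base x})) := by
      constructor
      rintro ⟨⟨a, ha⟩, haV⟩ ⟨⟨b, hb⟩, hbV⟩
      have h1 : a = x := hU a haV ha
      have h2 : b = x := hU b hbV hb
      subst h1 h2
      rfl
    exact_mod_cast topologicalKrullDim_zero_of_discreteTopology _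
  -- a component through `x` and its generic point
  obtain ⟨Z, hZ, hxZ⟩ : ∃ Z ∈ irreducibleComponents (X : Type u), x ∈ Z := by
    have hx' : x ∈ ⋃₀ irreducibleComponents (X : Type u) := by
      rw [sUnion_irreducibleComponents]; trivial
    obtain ⟨Z, hZ, hxZ⟩ := hx'
    exact ⟨Z, hZ, hxZ⟩
  have hZcl : IsClosed Z := isClosed_of_mem_irreducibleComponents Z hZ
  obtain ⟨ξ, hξ⟩ := QuasiSober.sober hZ.1 hZcl
  have hξx : ξ ⤳ x := by
    rw [specializes_iff_mem_closure, hξ.def]
    exact hxZ
  have hopen := Groth.Agent.S0402.result π 0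
  have hfdξ : FlatMor.fibreDimAt π ξ ≤ ((0 : ℕ) : WithBot ℕ∞) := hξx.mem_open hopen hfd
  have hrt : Groth.Agent.Lib.H30DimRel.rt π ξ = 0 := by
    have h1 := Groth.Agent.Lib.FibreDimStrata.rt_le_fibreDimAt π ξ
    have h2 := h1.trans hfdξ
    exact Nat.le_zero.mp (by exact_mod_cast h2)
  have hinter := Groth.Agent.Lib.DimIneqComponent.topologicalKrullDim_closure_inter_fibre π ξ 0
    (by rw [Groth.Agent.Lib.H30DimRel.trdeg_eq_rt π ξ, hrt])
  rw [hξ.def] at hinter
  -- restriction to the reduced subschemes
  let X' : TopologicalSpace.Closeds X := ⟨Z, hZcl⟩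
  let Y' : TopologicalSpace.Closeds Y :=
    ⟨closure (π.base '' (X' : Set X)), isClosed_closure⟩
  let ιX := (Scheme.IdealSheafData.vanishingIdeal X').subschemeι
  let ιY := (Scheme.IdealSheafData.vanishingIdeal Y').subschemeι
  obtain ⟨f', hf', hirrX, hirrY, hdom⟩ :
      ∃ f' : (Scheme.IdealSheafData.vanishingIdeal X').subscheme ⟶
        (Scheme.IdealSheafData.vanishingIdeal Y').subscheme,
      f' ≫ ιY = ιX ≫ π ∧
      IrreducibleSpace (Scheme.IdealSheafData.vanishingIdeal X').subscheme ∧
      IrreducibleSpace (Scheme.IdealSheafData.vanishingIdeal Y').subscheme ∧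
      IsDominant f' :=
    Groth.Agent.Lib.H30SubschemeDim.exists_restriction π X' hZ.1
  have hrX : Set.range ιX = Z := by
    show Set.range (Scheme.IdealSheafData.vanishingIdeal X').subschemeι = Z
    rw [Scheme.IdealSheafData.range_subschemeι,
      Scheme.IdealSheafData.coe_support_vanishingIdeal]
    rfl
  have himgcl : IsClosed (π.base '' Z) := π.isClosedMap Z hZcl
  have hrY : Set.range ιY = π.base '' Z := by
    show Set.range (Scheme.IdealSheafData.vanishingIdeal Y').subschemeι = π.base '' Z
    rw [Scheme.IdealSheafData.range_subschemeι,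
      Scheme.IdealSheafData.coe_support_vanishingIdeal]
    exact himgcl.closure_eq
  haveI : LocallyOfFiniteType f' := Groth.Agent.Lib.H30SubschemeDim.lft_f' π ιX ιY f' hf'
  haveI : IsLocallyNoetherian (Scheme.IdealSheafData.vanishingIdeal Y').subscheme :=
    LocallyOfFiniteType.isLocallyNoetherian ιY
  have hη' : closure ({π ξ} : Set Y) = Set.range ιY := by
    rw [hrY]
    apply Set.Subset.antisymm
    · apply closure_minimal _ himgcl
      rw [Set.singleton_subset_iff]
      exact ⟨ξ, by rw [← hξ.def]; exact subset_closure rfl, rfl⟩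
    · rw [← hξ.def]
      refine (image_closure_subset_closure_image π.continuous).trans ?_
      rw [Set.image_singleton]
  have hgf := Groth.Agent.Lib.H30SubschemeDim.dim_generic_fiber_eq π ιX ιY f' hf' (π ξ) hη'
  rw [hrX] at hgf
  have hmain := (Groth.Agent.S4690.result f' hdom.denseRange).1
  rw [hgf] at hmain
  have hinter' : topologicalKrullDim ↥(Z ∩ π ⁻¹' {π ξ}) = ((0 : ℕ) : WithBot ℕ∞) := hinter
  rw [hinter'] at hmain
  -- dimensions of the reduced subschemes
  have hdX : topologicalKrullDim ↥(Scheme.IdealSheafData.vanishingIdeal X').subscheme =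
      topologicalKrullDim ↥Z := by
    rw [← hrX]
    exact IsHomeomorph.topologicalKrullDim_eq _ ιX.isEmbedding.toHomeomorph.isHomeomorph
  have hdY : topologicalKrullDim ↥(Scheme.IdealSheafData.vanishingIdeal Y').subscheme =
      topologicalKrullDim ↥(π.base '' Z) := by
    rw [← hrY]
    exact IsHomeomorph.topologicalKrullDim_eq _ ιY.isEmbedding.toHomeomorph.isHomeomorph
  rw [hdX, hdY, hX Z hZ] at hmain
  have hsub : π.base '' Z ⊆ Set.range (fun z : ↥X => π z) := by
    rintro _ ⟨z, -, rfl⟩
    exact ⟨z, rfl⟩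
  have h3 := Groth.Agent.Lib.H30LocDimTop.dim_mono hsub
  have hYd : topologicalKrullDim ↥Y ≤ d := by
    rw [Groth.Agent.S10831.result]
    exact iSup₂_le fun W hW => (hY W hW).le
  refine hYd.trans (hmain.trans ?_)
  simpa using h3

end Groth.Agent.S17653
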