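import Groth.Statements.S17658
import Groth.Agent.Lib.LeadMon58

set_option autoImplicit false
universe u
open Surf

namespace Groth.Agent.S17658



/-- In the polynomial ring k[T₀,T₁,U,V] over a field k, bigraded by deg T₀ = deg T₁ = (0,1), deg U =
(1,−1), deg V = (1,0) (the Cox ring of the Hirzebruch surface F₁; its piece of bidegree (a,b) is the
space of sections of O(a(E+F)+bF)), let S_(a,b) denote the k-span of the monomials of bidegree
(a,b), so that S_(0,c) is the space of forms of degree c in T₀, T₁. A subspace W ⊆ S_(a,b) is called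
c-generating when W·S_(0,c) = S_(a,b+c). Fix a monomial order and natural numbers a, b, c, and let
W₀(a,b,c) be the set of monomials U^i V^(a−i) T₀^(b+i−j(c+1)) T₁^(j(c+1)) with 0 ≤ i ≤ a, j ≥ 0 and
j(c+1) < b+i, together with the monomials U^i V^(a−i) T₁^(b+i) with 0 ≤ i ≤ a. If every monomial of
W₀(a,b,c) is the leading monomial of some nonzero element of W, then W is c-generating. (The source
fixes the graded lexicographic order with U > V > T₀ > T₁ and works over the complex numbers; its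
argument uses only that leading monomials are multiplicative and that W₀(a,b,c)·S_(0,c) contains
every monomial of S_(a,b+c), so any monomial order and any field are allowed here. The printed index
j runs from 1; with that range the statement fails already for a = 0, b = c = 1 and W spanned by T₁,
and the range from 0 used here is the one matching the accompanying dimension count.) Variables are
indexed T₀ = 0, T₁ = 1, U = 2, V = 3. -/
theorem result (k : Type u) [Field k]
    (mo : MonomialOrder (Fin 4)) (a b c : ℕ) (W : Submodule k (MvPolynomial (Fin 4) k))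
    (hW : W ≤ Submodule.span k {f : MvPolynomial (Fin 4) k | ∃ e : Fin 4 →₀ ℕ, e 2 + e 3 = a ∧ e 0 + e 1 = b + e 2 ∧ f = MvPolynomial.monomial e 1})
    (h₁ : ∀ i j : ℕ, i ≤ a → j * (c + 1) < b + i → ∃ w ∈ W, w ≠ 0 ∧
      mo.degree w = Finsupp.single 0 (b + i - j * (c + 1)) + Finsupp.single 1 (j * (c + 1)) +
        Finsupp.single 2 i + Finsupp.single 3 (a - i))
    (h₂ : ∀ i : ℕ, i ≤ a → ∃ w ∈ W, w ≠ 0 ∧
      mo.degree w = Finsupp.single 1 (b + i) + Finsupp.single 2 i + Finsupp.single 3 (a - i)) :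
    W * Submodule.span k {f : MvPolynomial (Fin 4) k | ∃ e : Fin 4 →₀ ℕ, e 2 + e 3 = 0 ∧ e 0 + e 1 = c + e 2 ∧ f = MvPolynomial.monomial e 1} =
      Submodule.span k {f : MvPolynomial (Fin 4) k | ∃ e : Fin 4 →₀ ℕ, e 2 + e 3 = a ∧ e 0 + e 1 = (b + c) + e 2 ∧ f = MvPolynomial.monomial e 1} := by
  classical
  have hset : ∀ a' b' : ℕ,
      {f : MvPolynomial (Fin 4) k | ∃ e : Fin 4 →₀ ℕ, e 2 + e 3 = a' ∧ e 0 + e 1 = b' + e 2 ∧
        f = MvPolynomial.monomial e 1} =
      {f | ∃ e ∈ {e : Fin 4 →₀ ℕ | e 2 + e 3 = a' ∧ e 0 + e 1 = b' + e 2},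
        f = MvPolynomial.monomial e 1} := by
    intro a' b'
    ext f
    simp only [Set.mem_ofPred_eq, and_assoc]
  rw [hset a b] at hW
  rw [hset 0 c, hset a (b + c)]
  change W * Groth.Agent.Lib.LeadMon58.monSpan k {e : Fin 4 →₀ ℕ | e 2 + e 3 = 0 ∧ e 0 + e 1 = c + e 2} =
    Groth.Agent.Lib.LeadMon58.monSpan k {e : Fin 4 →₀ ℕ | e 2 + e 3 = a ∧ e 0 + e 1 = (b + c) + e 2}
  change W ≤ Groth.Agent.Lib.LeadMon58.monSpan k
    {e : Fin 4 →₀ ℕ | e 2 + e 3 = a ∧ e 0 + e 1 = b + e 2} at hW
  refine Groth.Agent.Lib.LeadMon58.eq_monSpan_of_degrees mo _ _ ?_ ?_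
  · have hle : Groth.Agent.Lib.LeadMon58.monSpan k
          {e : Fin 4 →₀ ℕ | e 2 + e 3 = a ∧ e 0 + e 1 = b + e 2} *
        Groth.Agent.Lib.LeadMon58.monSpan k
          {e : Fin 4 →₀ ℕ | e 2 + e 3 = 0 ∧ e 0 + e 1 = c + e 2} ≤
        Groth.Agent.Lib.LeadMon58.monSpan k
          {e : Fin 4 →₀ ℕ | e 2 + e 3 = a ∧ e 0 + e 1 = (b + c) + e 2} := by
      unfold Groth.Agent.Lib.LeadMon58.monSpan
      rw [Submodule.span_mul_span, Submodule.span_le]
      rintro _ ⟨_, ⟨e, he, rfl⟩, _, ⟨e', he', rfl⟩, rfl⟩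
      refine Submodule.subset_span ⟨e + e', ?_, ?_⟩
      · obtain ⟨h1, h2⟩ := he
        obtain ⟨h1', h2'⟩ := he'
        simp only [Set.mem_ofPred_eq, Finsupp.add_apply]
        constructor <;> omega
      · simp only [MvPolynomial.monomial_mul, mul_one]
    exact Submodule.mul_le.mpr fun w hw s hs => hle (Submodule.mul_mem_mul (hW hw) hs)
  · rintro m ⟨hm1, hm2⟩
    -- the combinatorial claim
    have claim : ∃ w ∈ W, w ≠ 0 ∧ ∃ e' : Fin 4 →₀ ℕ, (e' 2 + e' 3 = 0 ∧ e' 0 + e' 1 = c + e' 2) ∧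
        mo.degree w + e' = m := by
      have hi : m 2 ≤ a := by omega
      set j := m 1 / (c + 1) with hj
      set r := m 1 % (c + 1) with hr
      have hqr : m 1 = j * (c + 1) + r := by
        rw [hj, hr, mul_comm]; exact (Nat.div_add_mod _ _).symm
      have hrc : r ≤ c := by
        have := Nat.mod_lt (m 1) (show 0 < c + 1 by omega); omega
      by_cases hcase : j * (c + 1) < b + m 2
      · obtain ⟨w, hwW, hw0, hwd⟩ := h₁ (m 2) j hi hcase
        refine ⟨w, hwW, hw0, Finsupp.single 0 (m 0 - (b + m 2 - j * (c + 1))) + Finsupp.single 1 r,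
          ⟨?_, ?_⟩, ?_⟩
        · simp
        · simp; omega
        · rw [hwd]
          ext x
          fin_cases x <;> simp <;> omega
      · obtain ⟨w, hwW, hw0, hwd⟩ := h₂ (m 2) hi
        refine ⟨w, hwW, hw0, Finsupp.single 0 (m 0) + Finsupp.single 1 (m 1 - (b + m 2)),
          ⟨?_, ?_⟩, ?_⟩
        · simp
        · simp; omega
        · rw [hwd]
          ext x
          fin_cases x <;> simp <;> omega
    obtain ⟨w, hwW, hw0, e', he', hdeg⟩ := claim
    have hmon0 : (MvPolynomial.monomial e' (1 : k)) ≠ 0 := by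
      rw [Ne, MvPolynomial.monomial_eq_zero]; exact one_ne_zero
    refine ⟨w * MvPolynomial.monomial e' 1, Submodule.mul_mem_mul hwW
      (Submodule.subset_span ⟨e', he', rfl⟩), mul_ne_zero hw0 hmon0, ?_⟩
    rw [MonomialOrder.degree_mul hw0 hmon0, MonomialOrder.degree_monomial, if_neg one_ne_zero, hdeg]

end Groth.Agent.S17658
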