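import Mathlib
import Groth.Statements.S17661
import Groth.Agent.Lib.DefSchAff4
import Groth.Agent.Lib.ThickAffine

set_option autoImplicit false
universe u
open CategoryTheory CategoryTheory.Limits AlgebraicGeometry
open Ribbon

namespace Groth.Agent.S17661

/-- Let k be a field, C a scheme locally of finite type over k and I ⊂ O_C a quasi-coherent ideal with
I² = 0, with closed subscheme D ⊂ C; suppose D is affine, connected and smooth over k and that I,
regarded as an O_D-module, is invertible (so C is a ribbon on the smooth affine scheme D, and D is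
the reduced scheme underlying C). Then the ribbon is split: the inclusion D → C admits a retraction
C → D over k. -/
theorem result (k : Type u) [Field k] (C : Scheme.{u}) [C.Over (Spec (CommRingCat.of k))]
    [LocallyOfFiniteType (C ↘ (Spec (CommRingCat.of k)))]
    (I : C.IdealSheafData) (hI : I ^ 2 = ⊥) [IsAffine I.subscheme] [ConnectedSpace I.subscheme]
    [Smooth (I.subschemeι ≫ (C ↘ (Spec (CommRingCat.of k))))]
    (hconormal : PicF.IsInvertible ((Scheme.Modules.pullback I.subschemeι).obj (ClSub.idealMod I))) :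
    ∃ r : C ⟶ I.subscheme, I.subschemeι ≫ r = 𝟙 I.subscheme ∧
      r ≫ I.subschemeι ≫ (C ↘ (Spec (CommRingCat.of k))) = C ↘ (Spec (CommRingCat.of k)) := by
  classical
  have hsupp : I.support = ⊤ := by
    have h := Scheme.IdealSheafData.support_pow I 2 (by norm_num)
    rw [hI, Scheme.IdealSheafData.support_bot] at h
    exact h.symm
  have hsurj : Function.Surjective I.subschemeι := by
    rw [← Set.range_eq_univ, Scheme.IdealSheafData.range_subschemeι, hsupp]
    rfl
  have hC : IsAffine C :=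
    Groth.Agent.Lib.ThickAffine.isAffine_of_isClosedImmersion_of_surjective I.subschemeι hsurj
  let cC : C ⟶ Spec (CommRingCat.of k) := C ↘ (Spec (CommRingCat.of k))
  let hD : I.subscheme ⟶ Spec (CommRingCat.of k) := I.subschemeι ≫ cC
  have hsm : Smooth hD := inferInstanceAs (Smooth (I.subschemeι ≫ (C ↘ (Spec (CommRingCat.of k)))))
  let _ := Groth.Agent.Lib.DefSchAff.algΓ hD
  let _ := Groth.Agent.Lib.DefSchAff.algΓ cC
  have hfs : Algebra.FormallySmooth k Γ(I.subscheme, ⊤) :=
    Groth.Agent.Lib.DefSchAff.formallySmooth_Γ_of_smooth hD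
  let π : Γ(C, ⊤) →ₐ[k] Γ(I.subscheme, ⊤) :=
    { I.subschemeι.appTop.hom with
      commutes' := fun c => by
        change I.subschemeι.appTop.hom (cC.appTop.hom
          ((Scheme.ΓSpecIso (CommRingCat.of k)).inv.hom c)) =
          hD.appTop.hom ((Scheme.ΓSpecIso (CommRingCat.of k)).inv.hom c)
        have h : hD.appTop = cC.appTop ≫ I.subschemeι.appTop := Scheme.Hom.comp_appTop _ _
        rw [h]
        rfl }
  have hπ : Function.Surjective π :=
    I.subschemeι_app_surjective ⟨⊤, isAffineOpen_top C⟩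
  have hker : RingHom.ker (π : Γ(C, ⊤) →+* Γ(I.subscheme, ⊤)) = I.ideal ⟨⊤, isAffineOpen_top C⟩ :=
    I.ker_subschemeι_app ⟨⊤, isAffineOpen_top C⟩
  have hnil : IsNilpotent (RingHom.ker (π : Γ(C, ⊤) →+* Γ(I.subscheme, ⊤))) := by
    refine ⟨2, ?_⟩
    rw [hker]
    have h2 : (I ^ 2).ideal ⟨⊤, isAffineOpen_top C⟩ = (I.ideal ⟨⊤, isAffineOpen_top C⟩) ^ 2 := rfl
    rw [← h2, hI]
    rfl
  let s : Γ(I.subscheme, ⊤) →ₐ[k] Γ(C, ⊤) :=
    Algebra.FormallySmooth.liftOfSurjective (AlgHom.id k _) π hπ hnil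
  have hs : ∀ b, π (s b) = b := fun b =>
    Algebra.FormallySmooth.liftOfSurjective_apply (AlgHom.id k _) π hπ hnil b
  refine ⟨C.toSpecΓ ≫ Spec.map (CommRingCat.ofHom s.toRingHom) ≫ I.subscheme.isoSpec.inv, ?_, ?_⟩
  · rw [← Category.assoc, Scheme.toSpecΓ_naturality, Category.assoc, ← Category.assoc (Spec.map _),
      ← Spec.map_comp]
    have h : CommRingCat.ofHom s.toRingHom ≫ I.subschemeι.appTop = 𝟙 _ := by
      refine CommRingCat.hom_ext (RingHom.ext fun b => ?_)
      exact hs b
    rw [h, Spec.map_id]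
    exact (congrArg (I.subscheme.toSpecΓ ≫ ·) (Category.id_comp _)).trans
      I.subscheme.isoSpec.hom_inv_id
  · change (C.toSpecΓ ≫ Spec.map (CommRingCat.ofHom s.toRingHom) ≫ I.subscheme.isoSpec.inv) ≫ hD = cC
    have h1 := Groth.Agent.Lib.DefSchAff.hX_eq hD
    have h2 := Groth.Agent.Lib.DefSchAff.hX_eq cC
    rw [Category.assoc, Category.assoc]
    conv_lhs => rw [h1]
    rw [Iso.inv_hom_id_assoc, ← Spec.map_comp]
    conv_rhs => rw [h2]
    have h3 : CommRingCat.ofHom (algebraMap k Γ(I.subscheme, ⊤)) ≫ CommRingCat.ofHom s.toRingHom =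
        CommRingCat.ofHom (algebraMap k Γ(C, ⊤)) := by
      refine CommRingCat.hom_ext (RingHom.ext fun c => ?_)
      exact s.commutes c
    rw [h3]
    rfl

end Groth.Agent.S17661
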