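import Mathlib
import Groth.Agent.Lib.CauchyBinet
import Groth.Statements.S17662

set_option autoImplicit false
universe u
open CIDisc

namespace Groth.Agent.S17662

section Helpers

/-- Cauchy–Binet in the indexing of the statement: sum over the subtype of `e`-subsets, minors taken
along `orderEmbOfFin`. -/
theorem det_mul_eq_sum {R : Type u} [CommRing R] (e r : ℕ)
    (A : Matrix (Fin e) (Fin r) R) (B : Matrix (Fin r) (Fin e) R) :
    (A * B).det = ∑ S : {s : Finset (Fin r) // s.card = e},
      (A.submatrix id (S.1.orderEmbOfFin S.2)).det *
      (B.submatrix (S.1.orderEmbOfFin S.2) id).det := by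
  classical
  rw [Groth.Agent.Lib.CauchyBinet.det_mul_eq_sum_powersetCard]
  have hcard : Fintype.card (Fin e) = e := Fintype.card_fin e
  rw [hcard]
  rw [Finset.sum_subtype (p := fun s : Finset (Fin r) => s.card = e)
    ((Finset.univ : Finset (Fin r)).powersetCard e)
    (fun s => by simp [Finset.mem_powersetCard])]
  refine Finset.sum_congr rfl fun S _ => ?_
  have := Groth.Agent.Lib.CauchyBinet.sum_image_eq A B S.1 (S.1.orderIsoOfFin S.2).toEquiv
  simp only [RelIso.coe_fn_toEquiv, Finset.coe_orderIsoOfFin_apply] at this
  exact this

end Helpers

/-- Let R be a commutative ring, M an r × n matrix over R and e ≥ 0; for each e-element set L of row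
indices let A_L be an e × r matrix over R, and form the square matrix, indexed by the e-element sets
of row indices, whose (L, L') entry is the e × e minor of A_L on the columns L'. If the determinant
of that square matrix is a unit, then the sum over L of the ideals generated by the e × e minors of
the products A_L · M is the ideal generated by all e × e minors of M. (In the source R is the
coordinate ring of an affine scheme X of codimension e cut out by f_1, …, f_r in affine n-space, M
is the image of the Jacobian matrix of the f_j, the A_L have entries in the ground field and cut out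
complete intersections Z_L = V(A_L · f), so that the two sides are Σ_L Jac(Z_L) and Jac(X); the
source states the equality for general A_L and establishes it under the present invertibility
condition, which it shows to be generic.) -/
theorem result {R : Type u} [CommRing R] (e r n : ℕ)
    (M : Matrix (Fin r) (Fin n) R)
    (A : {s : Finset (Fin r) // s.card = e} → Matrix (Fin e) (Fin r) R)
    (hA : IsUnit (Matrix.det (Matrix.of fun i j : {s : Finset (Fin r) // s.card = e} =>
      ((A i).submatrix id (j.1.orderEmbOfFin j.2)).det))) :
    (⨆ i, Ideal.span (Set.range fun t : {s : Finset (Fin n) // s.card = e} =>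
        ((A i * M).submatrix id (t.1.orderEmbOfFin t.2)).det)) =
      Ideal.span (Set.range fun p : {s : Finset (Fin r) // s.card = e} × {s : Finset (Fin n) // s.card = e} =>
        (M.submatrix (p.1.1.orderEmbOfFin p.1.2) (p.2.1.orderEmbOfFin p.2.2)).det) := by
  classical
  set C : Matrix {s : Finset (Fin r) // s.card = e} {s : Finset (Fin r) // s.card = e} R :=
    Matrix.of fun i j : {s : Finset (Fin r) // s.card = e} =>
      ((A i).submatrix id (j.1.orderEmbOfFin j.2)).det with hC
  -- key expansion
  have hexp : ∀ (i : {s : Finset (Fin r) // s.card = e}) (t : {s : Finset (Fin n) // s.card = e}),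
      ((A i * M).submatrix id (t.1.orderEmbOfFin t.2)).det =
        ∑ S : {s : Finset (Fin r) // s.card = e}, C i S *
          (M.submatrix (S.1.orderEmbOfFin S.2) (t.1.orderEmbOfFin t.2)).det := by
    intro i t
    have h1 : (A i * M).submatrix id (t.1.orderEmbOfFin t.2) =
        A i * M.submatrix id (t.1.orderEmbOfFin t.2) := by
      ext a b
      simp [Matrix.mul_apply]
    rw [h1, det_mul_eq_sum]
    refine Finset.sum_congr rfl fun S _ => ?_
    rfl
  apply le_antisymm
  · apply iSup_le
    intro i
    rw [Ideal.span_le]
    rintro _ ⟨t, rfl⟩
    beta_reduce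
    rw [hexp]
    refine Ideal.sum_mem _ fun S _ => ?_
    apply Ideal.mul_mem_left
    exact Ideal.subset_span ⟨(S, t), rfl⟩
  · rw [Ideal.span_le]
    rintro _ ⟨⟨S₀, t⟩, rfl⟩
    beta_reduce
    have hinv : C⁻¹ * C = 1 := Matrix.nonsing_inv_mul C hA
    have hsum : (M.submatrix (S₀.1.orderEmbOfFin S₀.2) (t.1.orderEmbOfFin t.2)).det =
        ∑ L : {s : Finset (Fin r) // s.card = e}, C⁻¹ S₀ L *
          ((A L * M).submatrix id (t.1.orderEmbOfFin t.2)).det := by
      simp only [hexp]
      simp only [Finset.mul_sum]
      rw [Finset.sum_comm]
      have : ∀ S : {s : Finset (Fin r) // s.card = e},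
          ∑ L : {s : Finset (Fin r) // s.card = e}, C⁻¹ S₀ L * (C L S *
            (M.submatrix (S.1.orderEmbOfFin S.2) (t.1.orderEmbOfFin t.2)).det) =
          (C⁻¹ * C) S₀ S * (M.submatrix (S.1.orderEmbOfFin S.2) (t.1.orderEmbOfFin t.2)).det := by
        intro S
        rw [Matrix.mul_apply, Finset.sum_mul]
        refine Finset.sum_congr rfl fun L _ => ?_
        ring
      simp only [this, hinv, Matrix.one_apply]
      simp
    rw [hsum]
    refine Ideal.sum_mem _ fun L _ => ?_
    apply Ideal.mul_mem_left
    apply Ideal.mem_iSup_of_mem L
    exact Ideal.subset_span ⟨t, rfl⟩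

end Groth.Agent.S17662
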