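import Groth.Statements.S1767
import Groth.Agent.Lib.RpushBddAbove31

set_option autoImplicit false
universe u
open CategoryTheory CategoryTheory.Limits AlgebraicGeometry
attribute [local instance] HasDerivedCategory.standard
open Dual

namespace Groth.Agent.S1767

/-- Let f : X → Y be a morphism between quasi-compact quasi-separated schemes. Assume the derived direct
image Rf_* exists and preserves quasi-coherence of cohomology sheaves (both known results), so that
it restricts to a functor D_QCoh(O_X) → D_QCoh(O_Y), and let a : D_QCoh(O_Y) → D_QCoh(O_X) be a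
right adjoint of this restricted functor. Then there is an integer N ≥ 0 such that for every K in
D_QCoh(O_Y) and every integer c, if H^i(K) = 0 for all i ≤ c then H^i(a(K)) = 0 for all i ≤ c − N;
in particular a sends bounded-below objects to bounded-below objects. -/
theorem result (X Y : Scheme.{u}) [CompactSpace X] [QuasiSeparatedSpace X] [CompactSpace Y] [QuasiSeparatedSpace Y] (f : X ⟶ Y) [DCoh.HasRpush f] (h : ∀ K : DCoh.D X, DCoh.IsQCohD K → DCoh.IsQCohD ((DCoh.Rpush f).obj K)) (a : DCoh.DQCoh Y ⥤ DCoh.DQCoh X) (adj : (ObjectProperty.lift DCoh.IsQCohD (ObjectProperty.ι DCoh.IsQCohD ⋙ DCoh.Rpush f) (fun K => h K.obj K.property)) ⊣ a) : ∃ N : ℕ, ∀ (K : DCoh.DQCoh Y) (c : ℤ), (∀ i : ℤ, i ≤ c → IsZero (DCoh.HD K.obj i)) → ∀ i : ℤ, i ≤ c - N → IsZero (DCoh.HD (a.obj K).obj i) := by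
  classical
  obtain ⟨N, hN⟩ := Groth.Agent.RpushBddAbove31.exists_bound_isLE f
  refine ⟨N, fun K c hK i hi => ?_⟩
  let M : DCoh.D X := (a.obj K).obj
  let n : ℤ := c - N
  let T : DCoh.D X := (DerivedCategory.TStructure.t.truncLE n).obj M
  let ι : T ⟶ M := (DerivedCategory.TStructure.t.truncLEι n).app M
  haveI : WSerre.IsWeakSerre (Groth.Agent.Lib.QCohWeakSerre11.QC X) :=
    Groth.Agent.Lib.QCohWeakSerre11.qcWS X
  have hMq : DCoh.IsQCohD M := (a.obj K).property
  have hTq : DCoh.IsQCohD T := fun q => by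
    by_cases hq : q ≤ n
    · have := Groth.Agent.Lib.DWayOut.isIso_homologyMap_truncLEι M n q hq
      exact Groth.Agent.Lib.QCohWeakSerre11.QC_of_iso
        (asIso ((DerivedCategory.homologyFunctor X.Modules q).map ι)).symm (hMq q)
    · exact (Groth.Agent.Lib.QCohWeakSerre11.QC X).prop_of_isZero
        (DerivedCategory.isZero_of_isLE T n q (by omega))
  haveI hTle : T.IsLE n := inferInstanceAs
    (DerivedCategory.TStructure.t.IsLE ((DerivedCategory.TStructure.t.truncLE n).obj M) n)
  -- `Rf_* T ∈ D^{≤ c}`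
  haveI hR : ((DCoh.Rpush f).obj T).IsLE c := by
    rw [DerivedCategory.isLE_iff]
    intro m hm
    exact hN T hTq n hTle m (by simp only [n]; omega)
  -- `K ∈ D^{≥ c+1}`
  haveI hKge : K.obj.IsGE (c + 1) := by
    rw [DerivedCategory.isGE_iff]
    intro m hm
    exact hK m (by omega)
  -- the truncation map is zero
  let T' : DCoh.DQCoh X := ⟨T, hTq⟩
  let ι' : T' ⟶ a.obj K := ObjectProperty.homMk ι
  have hsub : ∀ φ ψ : T' ⟶ a.obj K, φ = ψ := fun φ ψ => by
    apply (adj.homEquiv T' K).symm.injective
    ext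
    exact (DerivedCategory.TStructure.t.zero_of_isLE_of_isGE _ c (c + 1) (by omega) hR hKge).trans
      (DerivedCategory.TStructure.t.zero_of_isLE_of_isGE _ c (c + 1) (by omega) hR hKge).symm
  have hι' : ι' = 0 := hsub _ _
  have hι : ι = 0 := by
    have := congrArg (fun φ => φ.hom) hι'
    exact this
  -- conclude
  have hiso := Groth.Agent.Lib.DWayOut.isIso_homologyMap_truncLEι M n i hi
  have hz : (DerivedCategory.homologyFunctor X.Modules i).map ι = 0 := by
    rw [hι, Functor.map_zero]
  haveI := hiso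
  have e1 : inv ((DerivedCategory.homologyFunctor X.Modules i).map ι) ≫
      (DerivedCategory.homologyFunctor X.Modules i).map ι = 𝟙 _ := IsIso.inv_hom_id _
  have e2 : inv ((DerivedCategory.homologyFunctor X.Modules i).map ι) ≫
      (DerivedCategory.homologyFunctor X.Modules i).map ι =
      inv ((DerivedCategory.homologyFunctor X.Modules i).map ι) ≫ 0 :=
    congrArg (fun x => inv ((DerivedCategory.homologyFunctor X.Modules i).map ι) ≫ x) hz
  rw [IsZero.iff_id_eq_zero, ← e1, e2, comp_zero]

end Groth.Agent.S1767
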