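import Groth.Statements.S17677
import Mathlib.Tactic
-- import your own Groth.Agent.* helpers here

set_option autoImplicit false
universe u
open Hoch

namespace Groth.Agent.S17677

section Helpers

open TensorProduct

universe v

section General

variable (k : Type u) [CommRing k] (A : Type v) [Ring A] [Bialgebra k A]
variable (V : Type v) [AddCommGroup V] [Module k V]
variable (ε₀ : A →ₗ[k] k)

/-- `id ⊗ ε₀` on `(V ⊗ A) ⊗ A`. -/
noncomputable def piMap : (V ⊗[k] A) ⊗[k] A →ₗ[k] V ⊗[k] A :=
  (TensorProduct.rid k (V ⊗[k] A)).toLinearMap ∘ₗ ε₀.lTensor (V ⊗[k] A)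

/-- `id ⊗ ε₀` on `V ⊗ A`. -/
noncomputable def wMap : V ⊗[k] A →ₗ[k] V :=
  (TensorProduct.rid k V).toLinearMap ∘ₗ ε₀.lTensor V

theorem piMap_tmul (x : V ⊗[k] A) (a : A) : piMap k A V ε₀ (x ⊗ₜ a) = ε₀ a • x := by
  simp [piMap]

theorem wMap_tmul (v : V) (a : A) : wMap k A V ε₀ (v ⊗ₜ a) = ε₀ a • v := by
  simp [wMap]

theorem piMap_assoc_symm (v : V) (t : A ⊗[k] A) :
    piMap k A V ε₀ ((TensorProduct.assoc k V A A).symm (v ⊗ₜ t)) =
      v ⊗ₜ (TensorProduct.rid k A (ε₀.lTensor A t)) := by
  induction t using TensorProduct.induction_on with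
  | zero => simp
  | tmul x y =>
    rw [TensorProduct.assoc_symm_tmul, piMap_tmul]
    simp [TensorProduct.tmul_smul, TensorProduct.smul_tmul']
  | add x y hx hy =>
    rw [TensorProduct.tmul_add, map_add, map_add, hx, hy, map_add, map_add, TensorProduct.tmul_add]

variable [HopfRep.Comod k A V]

theorem d_one_tmul (v : V) (a : A) :
    Hoch.d k A V 1 (v ⊗ₜ[k] a : V ⊗[k] A) =
      ((Hoch.d k A V 0 v : V ⊗[k] A) ⊗ₜ[k] a : (V ⊗[k] A) ⊗[k] A) -
        (TensorProduct.assoc k V A A).symm
          (v ⊗ₜ (Coalgebra.comul (R := k) a - a ⊗ₜ 1 - 1 ⊗ₜ a)) := by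
  rw [Hoch.d_succ]
  change (Hoch.d k A V 0).rTensor A (v ⊗ₜ a) + ((-1 : k) ^ (0 + 1)) • Hoch.tail k A V (v ⊗ₜ a) = _
  rw [Hoch.tail_tmul, LinearMap.rTensor_tmul]
  have h2 : ((-1 : k) ^ (0 + 1)) • ((TensorProduct.assoc k V A A).symm
      (v ⊗ₜ (Coalgebra.comul (R := k) a - a ⊗ₜ 1 - 1 ⊗ₜ a)) : (V ⊗[k] A) ⊗[k] A) =
      - ((TensorProduct.assoc k V A A).symm
      (v ⊗ₜ (Coalgebra.comul (R := k) a - a ⊗ₜ 1 - 1 ⊗ₜ a)) : (V ⊗[k] A) ⊗[k] A) := by
    rw [zero_add, pow_one]
    exact neg_one_smul k ((TensorProduct.assoc k V A A).symm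
      (v ⊗ₜ (Coalgebra.comul (R := k) a - a ⊗ₜ 1 - 1 ⊗ₜ a)) : (V ⊗[k] A) ⊗[k] A)
  exact (congrArg (fun z => ((Hoch.d k A V 0 v : V ⊗[k] A) ⊗ₜ[k] a : (V ⊗[k] A) ⊗[k] A) + z)
    h2).trans (sub_eq_add_neg _ _).symm

theorem key (h1 : ε₀ 1 = 1)
    (hΔ : ∀ a : A, TensorProduct.rid k A (ε₀.lTensor A (Coalgebra.comul (R := k) a)) =
      ε₀ a • (1 : A)) (c : V ⊗[k] A) :
    piMap k A V ε₀ (Hoch.d k A V 1 c) = (Hoch.d k A V 0 (wMap k A V ε₀ c) : V ⊗[k] A) + c := by
  induction c using TensorProduct.induction_on with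
  | zero => simp
  | tmul v a =>
    rw [d_one_tmul, map_sub, piMap_tmul, piMap_assoc_symm, wMap_tmul]
    rw [map_sub, map_sub, map_sub, map_sub, hΔ]
    simp only [LinearMap.lTensor_tmul, TensorProduct.rid_tmul, h1, map_smul]
    simp only [TensorProduct.tmul_sub, TensorProduct.tmul_smul, one_smul]
    abel
  | add x y hx hy =>
    rw [map_add, map_add, hx, hy, map_add, map_add]
    abel

theorem main (h1 : ε₀ 1 = 1)
    (hΔ : ∀ a : A, TensorProduct.rid k A (ε₀.lTensor A (Coalgebra.comul (R := k) a)) =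
      ε₀ a • (1 : A)) :
    Hoch.cocycles k A V 1 ≤ Hoch.coboundaries k A V 1 := by
  intro c hc
  change Hoch.d k A V 1 c = 0 at hc
  change c ∈ LinearMap.range (Hoch.d k A V 0)
  have h := key k A V ε₀ h1 hΔ c
  rw [hc, map_zero] at h
  refine ⟨-(wMap k A V ε₀ c), ?_⟩
  rw [map_neg]
  exact (eq_neg_of_add_eq_zero_right h.symm).symm

end General

section Mon

variable (k : Type u) [CommRing k] (M : Type u) [AddCommMonoid M]

/-- coefficient at zero. -/
noncomputable def eps0 : AddMonoidAlgebra k M →ₗ[k] k :=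
  (Finsupp.lapply 0) ∘ₗ (AddMonoidAlgebra.coeffLinearEquiv k).toLinearMap

theorem eps0_apply (a : AddMonoidAlgebra k M) : eps0 k M a = a.coeff 0 := rfl

theorem eps0_one : eps0 k M 1 = 1 := by
  classical
  rw [eps0_apply, AddMonoidAlgebra.one_def, AddMonoidAlgebra.coeff_single]
  simp

theorem eps0_comul (a : AddMonoidAlgebra k M) :
    TensorProduct.rid k (AddMonoidAlgebra k M)
      ((eps0 k M).lTensor (AddMonoidAlgebra k M) (Coalgebra.comul (R := k) a)) =
      eps0 k M a • (1 : AddMonoidAlgebra k M) := by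
  classical
  induction a using AddMonoidAlgebra.induction_linear with
  | zero => simp
  | add f g hf hg => rw [map_add, map_add, map_add, hf, hg, map_add, add_smul]
  | single m r =>
    rw [AddMonoidAlgebra.comul_single]
    simp only [CommSemiring.comul_apply, TensorProduct.map_tmul, AddMonoidAlgebra.lsingle_apply,
      LinearMap.lTensor_tmul, TensorProduct.rid_tmul, eps0_apply, AddMonoidAlgebra.coeff_single,
      Finsupp.single_apply, AddMonoidAlgebra.one_def]
    by_cases h : m = 0
    · subst h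
      simp [AddMonoidAlgebra.smul_single]
    · simp [h]

end Mon

end Helpers

/-- Let k be a commutative ring, M a commutative monoid and V a right comodule over the monoid bialgebra
k[M] (a quasi-coherent module with an action of the diagonalizable monoid scheme Spec k[M]). Then
every 1-cocycle of the Hochschild complex of V is a 1-coboundary, i.e. the first Hochschild
cohomology module of the diagonalizable monoid with coefficients in V is zero. (The source works
over an algebraic space with M finitely generated and cancellative, hypotheses it uses only to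
identify modules under the monoid with comodules; the cocycle computation, which is the affine
statement given here, uses neither.) -/
theorem result (k : Type u) [CommRing k] (M : Type u)
    [AddCommMonoid M] (V : Type u) [AddCommGroup V] [Module k V]
    [HopfRep.Comod k (AddMonoidAlgebra k M) V] :
    Hoch.cocycles k (AddMonoidAlgebra k M) V 1 ≤ Hoch.coboundaries k (AddMonoidAlgebra k M) V 1 := by
  exact main k (AddMonoidAlgebra k M) V (eps0 k M) (eps0_one k M) (eps0_comul k M)

end Groth.Agent.S17677
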