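import Groth.Statements.S17678
import Mathlib.Tactic
import Mathlib.RingTheory.RingHom.Flat
import Mathlib.RingTheory.Flat.Basic
-- import your own Groth.Agent.* helpers here

set_option autoImplicit false
universe u v
open DiagMon

namespace Groth.Agent.S17678

/-- Let R be a commutative ring and N an abelian group. Then the ring map R[N] → R[N × N] of monoid
algebras induced by the diagonal n ↦ (n, n), which is the comorphism of the multiplication morphism
of the diagonalizable group scheme Spec R[N] over Spec R, is flat. (The published statement asserts
flatness for every cancellative commutative monoid N, on the ground that N acts freely on N × N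
through the diagonal; but for the submonoid N of the natural numbers generated by 2 and 3, the pairs
(x, x − 1) with x ≥ 3 form one orbit class that is not a free orbit, and the corresponding direct
summand of k[N × N] is the ideal t³k[t] viewed as a module over k[t², t³], which is not flat. The
statement is therefore given for groups, where N × N is a free N-set with basis the pairs (0, b).) -/
theorem result (R : Type u) [CommRing R] (N : Type v)
    [AddCommGroup N] :
    (AddMonoidAlgebra.mapDomainRingHom R ((AddMonoidHom.id N).prod (AddMonoidHom.id N))).Flat := by
  classical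
  -- the shear automorphism of N × N
  let e : N × N ≃+ N × N :=
    { toFun := fun p => (p.2 - p.1, p.1)
      invFun := fun q => (q.2, q.1 + q.2)
      left_inv := fun p => by ext <;> simp
      right_inv := fun q => by ext <;> simp
      map_add' := fun p q => by ext <;> simp [sub_add_sub_comm] }
  let Ψ : AddMonoidAlgebra R (N × N) ≃+* AddMonoidAlgebra (AddMonoidAlgebra R N) N :=
    (AddMonoidAlgebra.domCongr ℤ R e).toRingEquiv.trans AddMonoidAlgebra.curryRingEquiv
  have hΨ : ∀ (a b : N) (r : R), Ψ (AddMonoidAlgebra.single (a, b) r) =
      AddMonoidAlgebra.single (b - a) (AddMonoidAlgebra.single a r) := by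
    intro a b r
    change AddMonoidAlgebra.curryRingEquiv (AddMonoidAlgebra.domCongr ℤ R e
      (AddMonoidAlgebra.single (a, b) r)) = _
    rw [AddMonoidAlgebra.domCongr_single, AddMonoidAlgebra.curryRingEquiv_single]
    rfl
  have hcomp : (Ψ : AddMonoidAlgebra R (N × N) →+* _).comp
      (AddMonoidAlgebra.mapDomainRingHom R ((AddMonoidHom.id N).prod (AddMonoidHom.id N))) =
      algebraMap (AddMonoidAlgebra R N) (AddMonoidAlgebra (AddMonoidAlgebra R N) N) := by
    apply RingHom.ext
    intro x
    induction x using AddMonoidAlgebra.induction_linear with
    | zero => simp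
    | add f g hf hg => rw [map_add, map_add, hf, hg]
    | single n r =>
      change Ψ (AddMonoidAlgebra.mapDomain _ (AddMonoidAlgebra.single n r)) = _
      rw [AddMonoidAlgebra.mapDomain_single]
      change Ψ (AddMonoidAlgebra.single (n, n) r) = _
      rw [hΨ, sub_self]
      rfl
  have hf : AddMonoidAlgebra.mapDomainRingHom R ((AddMonoidHom.id N).prod (AddMonoidHom.id N)) =
      (Ψ.symm : _ →+* AddMonoidAlgebra R (N × N)).comp
        (algebraMap (AddMonoidAlgebra R N) (AddMonoidAlgebra (AddMonoidAlgebra R N) N)) := by
    rw [← hcomp]
    apply RingHom.ext
    intro x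
    simp
  rw [hf]
  refine RingHom.Flat.comp ?_ (RingHom.Flat.of_bijective Ψ.symm.bijective)
  rw [RingHom.flat_algebraMap_iff]
  infer_instance

end Groth.Agent.S17678
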