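import Groth.Statements.S17679
import Mathlib.Tactic
import Mathlib.RingTheory.FiniteType
import Mathlib.RingTheory.OrzechProperty
-- import your own Groth.Agent.* helpers here

set_option autoImplicit false
open DiagMon

namespace Groth.Agent.S17679

section Helpers

/-- lower bound: a generating set of `ℤ^n` as a monoid with at most `n` elements is impossible. -/
theorem lower (n : ℕ) (hn : 1 ≤ n) (s : Finset (Fin n → ℤ))
    (hs : AddSubmonoid.closure (s : Set (Fin n → ℤ)) = ⊤) : n + 1 ≤ s.card := by
  classical
  by_contra hlt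
  have hle : s.card ≤ n := by omega
  have hspan : Submodule.span ℤ (s : Set (Fin n → ℤ)) = ⊤ := by
    rw [eq_top_iff]
    intro x _
    have hx : x ∈ AddSubmonoid.closure (s : Set (Fin n → ℤ)) := by rw [hs]; trivial
    have hcl : AddSubmonoid.closure (s : Set (Fin n → ℤ)) ≤
        (Submodule.span ℤ (s : Set (Fin n → ℤ))).toAddSubmonoid :=
      AddSubmonoid.closure_le.2 Submodule.subset_span
    exact hcl hx
  let f : (s →₀ ℤ) →ₗ[ℤ] (Fin n → ℤ) :=
    Finsupp.linearCombination ℤ (Subtype.val : s → Fin n → ℤ)
  have hfs : Function.Surjective f := by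
    rw [← LinearMap.range_eq_top, Finsupp.range_linearCombination, Subtype.range_coe]
    exact hspan
  obtain ⟨e⟩ : Nonempty (s ↪ Fin n) := by
    apply Function.Embedding.nonempty_of_card_le
    simpa using hle
  let i : (s →₀ ℤ) →ₗ[ℤ] (Fin n → ℤ) :=
    (Finsupp.linearEquivFunOnFinite ℤ ℤ (Fin n)).toLinearMap ∘ₗ Finsupp.lmapDomain ℤ ℤ e
  have hi : Function.Injective i := by
    intro a b hab
    have h1 : Finsupp.lmapDomain ℤ ℤ e a = Finsupp.lmapDomain ℤ ℤ e b :=
      (Finsupp.linearEquivFunOnFinite ℤ ℤ (Fin n)).injective hab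
    exact Finsupp.mapDomain_injective e.injective h1
  have hfi : Function.Injective f :=
    OrzechProperty.injective_of_surjective_of_injective i f hi hfs
  let E : (s →₀ ℤ) ≃ₗ[ℤ] (Fin n → ℤ) := LinearEquiv.ofBijective f ⟨hfi, hfs⟩
  -- s is nonempty
  have hne : s.Nonempty := by
    rw [Finset.nonempty_iff_ne_empty]
    rintro rfl
    have h1 : (fun _ => 1 : Fin n → ℤ) ∈ AddSubmonoid.closure ((∅ : Finset (Fin n → ℤ)) : Set (Fin n → ℤ)) := by
      rw [hs]; trivial
    rw [Finset.coe_empty, AddSubmonoid.closure_empty, AddSubmonoid.mem_bot] at h1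
    have := congrFun h1 ⟨0, hn⟩
    simp at this
  obtain ⟨v, hv⟩ := hne
  have hE : ∀ (w : Fin n → ℤ) (hw : w ∈ s), E.symm w = Finsupp.single ⟨w, hw⟩ 1 := by
    intro w hw
    rw [LinearEquiv.symm_apply_eq]
    change w = Finsupp.linearCombination ℤ (Subtype.val : s → Fin n → ℤ) (Finsupp.single ⟨w, hw⟩ 1)
    rw [Finsupp.linearCombination_single, one_smul]
  have hpos : ∀ x ∈ AddSubmonoid.closure (s : Set (Fin n → ℤ)), 0 ≤ E.symm x ⟨v, hv⟩ := by
    intro x hx
    induction hx using AddSubmonoid.closure_induction with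
    | mem w hw =>
      rw [hE w hw, Finsupp.single_apply]
      split_ifs <;> norm_num
    | zero => simp
    | add a b _ _ ha hb =>
      rw [map_add, Finsupp.add_apply]
      exact add_nonneg ha hb
  have hneg : (-v) ∈ AddSubmonoid.closure (s : Set (Fin n → ℤ)) := by rw [hs]; trivial
  have := hpos _ hneg
  rw [map_neg, hE v hv] at this
  simp at this

/-- the standard generating set. -/
theorem upper (n : ℕ) (hn : 1 ≤ n) :
    ∃ s : Finset (Fin n → ℤ), s.card = n + 1 ∧ AddSubmonoid.closure (s : Set (Fin n → ℤ)) = ⊤ := by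
  classical
  let w : Fin n → ℤ := fun _ => -1
  let e : Fin n → (Fin n → ℤ) := fun i => Pi.single i 1
  have he : Function.Injective e := Pi.single_injective (M := fun _ : Fin n => ℤ) |> fun h => by
    intro i j hij
    by_contra hne
    have := congrFun hij i
    simp [e, Pi.single_apply, hne] at this
  refine ⟨insert w (Finset.univ.image e), ?_, ?_⟩
  · rw [Finset.card_insert_of_notMem, Finset.card_image_of_injective _ he]
    · simp
    · rw [Finset.mem_image]
      rintro ⟨i, _, hi⟩
      have := congrFun hi i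
      simp [e, w] at this
  · rw [eq_top_iff]
    intro x _
    let k : ℕ := ∑ i, (x i).natAbs
    have hk : ∀ i, 0 ≤ x i + k := by
      intro i
      have h1 : (x i).natAbs ≤ k := Finset.single_le_sum (f := fun i => (x i).natAbs)
        (fun _ _ => Nat.zero_le _) (Finset.mem_univ i)
      have h2 : -x i ≤ (x i).natAbs := by omega
      omega
    have hx : x = ∑ i, (x i + k).toNat • e i + k • w := by
      funext j
      simp only [Pi.add_apply, Finset.sum_apply, Pi.smul_apply, e, w, Pi.single_apply]
      rw [Finset.sum_eq_single j]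
      · simp only [if_true]
        rw [nsmul_eq_mul, nsmul_eq_mul, Int.toNat_of_nonneg (hk j)]
        ring
      · intro b _ hb
        simp [hb.symm]
      · intro h; exact absurd (Finset.mem_univ j) h
    rw [hx]
    refine add_mem (sum_mem fun i _ => AddSubmonoid.nsmul_mem _ (AddSubmonoid.subset_closure ?_) _)
      (AddSubmonoid.nsmul_mem _ (AddSubmonoid.subset_closure ?_) _)
    · simp
    · simp

end Helpers

/-- For n ≥ 1 the minimal number of generators of ℤ^n as an additive monoid is n + 1: some n + 1
elements generate ℤ^n as a monoid, and every finite set generating ℤ^n as a monoid has at least n +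
1 elements. (For n = 0 the empty set generates the zero monoid, so the count n + 1 is stated for n ≥
1 only.) -/
theorem result (n : ℕ) (hn : 1 ≤ n) :
    (∃ s : Finset (Fin n → ℤ), s.card = n + 1 ∧ AddSubmonoid.closure (s : Set (Fin n → ℤ)) = ⊤) ∧
    ∀ s : Finset (Fin n → ℤ), AddSubmonoid.closure (s : Set (Fin n → ℤ)) = ⊤ → n + 1 ≤ s.card := by
  exact ⟨upper n hn, lower n hn⟩

end Groth.Agent.S17679
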