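import Mathlib
import Groth.Agent.Lib.ClosedCond27f
import Groth.Agent.Lib.FormalExt27
import Groth.Statements.S17685

set_option autoImplicit false
universe u
open CategoryTheory MonoidalCategory CartesianMonoidalCategory MonObj GrpObj AlgebraicGeometry
open AlgGrp

namespace Groth.Agent.S17685

section Helpers

section Abstract

variable {C : Type*} [Category C] [CartesianMonoidalCategory C] {G X : C}

/-- fixedness of a point, in terms of the universal test point. -/
theorem fixed_iff (act : G ⊗ X ⟶ X) {T : C} (f : T ⟶ X) :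
    (G ◁ f) ≫ act = (G ◁ f) ≫ snd G X ↔
      ∀ (T' : C) (t : T' ⟶ T) (g : T' ⟶ G), lift g (t ≫ f) ≫ act = t ≫ f := by
  constructor
  · intro H T' t g
    have h1 := congrArg (fun k => lift g t ≫ k) H
    simp only [lift_whiskerLeft_assoc, lift_snd] at h1
    exact h1
  · intro H
    have h2 : (G ◁ f) = lift (fst G T) (snd G T ≫ f) := by
      apply CartesianMonoidalCategory.hom_ext
      · rw [whiskerLeft_fst, lift_fst]
      · rw [whiskerLeft_snd, lift_snd]
    rw [whiskerLeft_snd, h2]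
    exact H (G ⊗ T) (snd G T) (fst G T)

end Abstract

open Groth.Agent.Lib.ClosedCond27

variable {S : Scheme.{u}} {F X : Over S}

/-- the fixed point condition. -/
def FixO (act : F ⊗ X ⟶ X) {T : Over S} (x : T ⟶ X) : Prop :=
  (F ◁ x) ≫ act = (F ◁ x) ≫ snd F X

/-- the fixed point condition for morphisms of schemes. -/
def Fix (act : F ⊗ X ⟶ X) (Z : Scheme.{u}) (z : Z ⟶ X.left) : Prop :=
  FixO act (Over.homMk z rfl : Over.mk (z ≫ X.hom) ⟶ X)

theorem FixO_comp (act : F ⊗ X ⟶ X) {T T' : Over S} (s : T' ⟶ T) (x : T ⟶ X) (h : FixO act x) :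
    FixO act (s ≫ x) := by
  unfold FixO at *
  rw [MonoidalCategory.whiskerLeft_comp, Category.assoc, Category.assoc, h]

theorem FixO_iff_Fix (act : F ⊗ X ⟶ X) {T : Over S} (x : T ⟶ X) :
    FixO act x ↔ Fix act T.left x.left := by
  let e : T ≅ Over.mk (x.left ≫ X.hom) := Over.isoMk (Iso.refl _) (by simp [Over.w x])
  have ht : x = e.hom ≫ (Over.homMk x.left rfl : Over.mk (x.left ≫ X.hom) ⟶ X) := by
    ext; simp [e]
  have ht' : (Over.homMk x.left rfl : Over.mk (x.left ≫ X.hom) ⟶ X) = e.inv ≫ x := by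
    ext; simp [e]
  unfold Fix
  constructor
  · intro h
    rw [ht']
    exact FixO_comp act _ _ h
  · intro h
    rw [ht]
    exact FixO_comp act _ _ h

theorem Fix_comp (act : F ⊗ X ⟶ X) (Z Z' : Scheme.{u}) (y : Z' ⟶ Z) (z : Z ⟶ X.left)
    (h : Fix act Z z) : Fix act Z' (y ≫ z) := by
  unfold Fix at *
  have : (Over.homMk (y ≫ z) rfl : Over.mk ((y ≫ z) ≫ X.hom) ⟶ X) =
      (Over.homMk y (by simp) : Over.mk ((y ≫ z) ≫ X.hom) ⟶ Over.mk (z ≫ X.hom)) ≫
        (Over.homMk z rfl : Over.mk (z ≫ X.hom) ⟶ X) := by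
    ext; simp
  rw [this]
  exact FixO_comp act _ _ h

theorem Fix_local (act : F ⊗ X ⟶ X) (Z : Scheme.{u}) (z : Z ⟶ X.left)
    (h : ∀ x : Z, ∃ (U : Scheme.{u}) (j : U ⟶ Z), IsOpenImmersion j ∧ x ∈ Set.range j ∧
      Fix act U (j ≫ z)) : Fix act Z z := by
  unfold Fix FixO
  ext
  apply Groth.Agent.Lib.FormalExt27.hom_ext_of_forall_openImm
  intro p
  obtain ⟨U, j, hj, hx, hΦ⟩ := h ((snd F (Over.mk (z ≫ X.hom))).left p)
  let j' : Over.mk ((j ≫ z) ≫ X.hom) ⟶ Over.mk (z ≫ X.hom) := Over.homMk j (by simp)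
  have : IsOpenImmersion j'.left := hj
  refine ⟨_, (F ◁ j').left, inferInstance, mem_range_whiskerLeft_left F j' p hx, ?_⟩
  unfold Fix FixO at hΦ
  have e : (Over.homMk (j ≫ z) rfl : Over.mk ((j ≫ z) ≫ X.hom) ⟶ X) =
      j' ≫ (Over.homMk z rfl : Over.mk (z ≫ X.hom) ⟶ X) := by
    ext; simp [j']
  rw [e, MonoidalCategory.whiskerLeft_comp] at hΦ
  have h2 := congrArg (fun k => k.left) hΦ
  simp only [Over.comp_left] at h2 ⊢
  rw [Category.assoc (F ◁ j').left, Category.assoc (F ◁ j').left] at h2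
  exact h2

/-- topologically the action of an infinitesimal pointed scheme is the second projection. -/
theorem act_apply_eq_snd_apply (e : 𝟙_ (Over S) ⟶ F) (act : F ⊗ X ⟶ X)
    (he : (e ▷ X) ≫ act = (λ_ X).hom) [Surjective e.left] (p : (F ⊗ X).left) :
    act.left p = (snd F X).left p := by
  have hp : p ∈ Set.range (e ▷ X).left := by
    apply mem_range_whiskerRight_left
    exact e.left.surjective _
  obtain ⟨q, rfl⟩ := hp
  rw [← Scheme.Hom.comp_apply, ← Scheme.Hom.comp_apply, ← Over.comp_left, ← Over.comp_left, he,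
    whiskerRight_snd, leftUnitor_hom]

/-- the action restricts to open subschemes. -/
theorem exists_restrict_act (e : 𝟙_ (Over S) ⟶ F) (act : F ⊗ X ⟶ X)
    (he : (e ▷ X) ≫ act = (λ_ X).hom) [Surjective e.left] (U : X.left.Opens) :
    ∃ actU : F ⊗ Over.mk (U.ι ≫ X.hom) ⟶ Over.mk (U.ι ≫ X.hom),
      actU ≫ (Over.homMk U.ι rfl : Over.mk (U.ι ≫ X.hom) ⟶ X) =
        (F ◁ (Over.homMk U.ι rfl : Over.mk (U.ι ≫ X.hom) ⟶ X)) ≫ act := by
  set ιU : Over.mk (U.ι ≫ X.hom) ⟶ X := Over.homMk U.ι rfl with hιU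
  have H : Set.range ((F ◁ ιU) ≫ act).left ⊆ Set.range U.ι := by
    rintro _ ⟨p, rfl⟩
    rw [Over.comp_left, Scheme.Hom.comp_apply, act_apply_eq_snd_apply e act he,
      ← Scheme.Hom.comp_apply, ← Over.comp_left, whiskerLeft_snd, Over.comp_left,
      Scheme.Hom.comp_apply]
    exact ⟨_, rfl⟩
  refine ⟨Over.homMk (IsOpenImmersion.lift U.ι ((F ◁ ιU) ≫ act).left H) ?_, ?_⟩
  · simp only [Over.mk_left, Over.mk_hom]
    rw [IsOpenImmersion.lift_fac_assoc, Over.w]
  · ext
    simp only [Over.comp_left, Over.homMk_left, hιU]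
    exact IsOpenImmersion.lift_fac _ _ _

end Helpers

/-- Let S be a scheme, F an S-scheme that is finite locally free over S (finite, flat and locally of
finite presentation) with a section e of F over S which is a surjective closed immersion (an
infinitesimal pointed S-scheme), and X an S-scheme with an action of the pointed scheme F, i.e. an
S-morphism F ×_S X → X through which e acts as the identity. Then the subfunctor of F-fixed points
of X, whose T-points are the T-points x of X with g · x_{T'} = x_{T'} for every S-scheme T' over T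
and every T'-point g of F, is represented by a closed subscheme of X. (The source allows F and X to
be algebraic spaces over S; this row is the case of schemes.) -/
theorem result (S : Scheme.{u})
    (F X : Over S) (e : 𝟙_ (Over S) ⟶ F) (act : F ⊗ X ⟶ X) (he : (e ▷ X) ≫ act = (λ_ X).hom)
    [IsFinite F.hom] [Flat F.hom] [LocallyOfFinitePresentation F.hom]
    [IsClosedImmersion e.left] [Surjective e.left] :
    ∃ (Z : Scheme.{u}) (i : Z ⟶ X.left), IsClosedImmersion i ∧
      ∀ (T : Over S) (x : T ⟶ X), (∃ y : T.left ⟶ Z, y ≫ i = x.left) ↔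
        ∀ (T' : Over S) (t : T' ⟶ T) (g : T' ⟶ F), lift g (t ≫ x) ≫ act = t ≫ x := by
  have hgood := Groth.Agent.Lib.ClosedCond27.good_of_finite_flat_lfp F
  obtain ⟨𝓙, h𝓙⟩ : ∃ 𝓙 : X.left.IdealSheafData, ∀ (Z : Scheme.{u}) (z : Z ⟶ X.left),
      𝓙 ≤ z.ker ↔ Groth.Agent.S17685.Fix act Z z := by
    refine Groth.Agent.Lib.ClosedCond27.exists_idealSheaf_glue (Groth.Agent.S17685.Fix act)
      (Groth.Agent.S17685.Fix_comp act) (Groth.Agent.S17685.Fix_local act)
      (fun U : X.left.affineOpens => U.1.toScheme) (fun U => U.1.ι) (fun x => ?_) (fun U => ?_)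
    · obtain ⟨U, hU, hx, -⟩ :=
        exists_isAffineOpen_mem_and_subset (X := X.left) (x := x) (U := ⊤) trivial
      exact ⟨⟨U, hU⟩, by simpa using hx⟩
    · have hUaff : IsAffine U.1.toScheme := U.2
      obtain ⟨actU, hactU⟩ := Groth.Agent.S17685.exists_restrict_act e act he U.1
      have hsep : IsSeparated (Over.mk (U.1.ι ≫ X.hom)).hom := by
        have : IsAffine (Over.mk (U.1.ι ≫ X.hom)).left := hUaff
        infer_instance
      obtain ⟨𝓙U, h𝓙U⟩ := Groth.Agent.Lib.ClosedCond27.exists_idealSheaf_of_eq_of_good F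
        (Over.mk (U.1.ι ≫ X.hom)) (Over.mk (U.1.ι ≫ X.hom)) hgood actU
        (snd F (Over.mk (U.1.ι ≫ X.hom)))
      refine ⟨𝓙U, fun Z ζ => ?_⟩
      have hmono : Mono (Over.homMk U.1.ι rfl : Over.mk (U.1.ι ≫ X.hom) ⟶ X) := by
        have : Mono ((Over.forget _).map
            (Over.homMk U.1.ι rfl : Over.mk (U.1.ι ≫ X.hom) ⟶ X)) := by
          change Mono U.1.ι
          infer_instance
        exact (Over.forget _).mono_of_mono_map this
      have h1 := h𝓙U (Over.mk (ζ ≫ (Over.mk (U.1.ι ≫ X.hom)).hom)) (Over.homMk ζ rfl)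
      have h2 : (F ◁ (Over.homMk ζ rfl :
            Over.mk (ζ ≫ (Over.mk (U.1.ι ≫ X.hom)).hom) ⟶ Over.mk (U.1.ι ≫ X.hom))) ≫ actU =
          (F ◁ (Over.homMk ζ rfl :
            Over.mk (ζ ≫ (Over.mk (U.1.ι ≫ X.hom)).hom) ⟶ Over.mk (U.1.ι ≫ X.hom))) ≫
            snd F (Over.mk (U.1.ι ≫ X.hom)) ↔
          Groth.Agent.S17685.FixO act ((Over.homMk ζ rfl :
            Over.mk (ζ ≫ (Over.mk (U.1.ι ≫ X.hom)).hom) ⟶ Over.mk (U.1.ι ≫ X.hom)) ≫
            (Over.homMk U.1.ι rfl : Over.mk (U.1.ι ≫ X.hom) ⟶ X)) := by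
        unfold Groth.Agent.S17685.FixO
        rw [← cancel_mono (Over.homMk U.1.ι rfl : Over.mk (U.1.ι ≫ X.hom) ⟶ X),
          Category.assoc, Category.assoc, hactU, MonoidalCategory.whiskerLeft_comp,
          Category.assoc, Category.assoc, whiskerLeft_snd]
      change 𝓙U ≤ ζ.ker ↔ _ at h1
      rw [h1, h2, Groth.Agent.S17685.FixO_iff_Fix]
      rfl
  refine ⟨𝓙.subscheme, 𝓙.subschemeι, inferInstance, fun T x => ?_⟩
  have h3 : (∃ y : T.left ⟶ 𝓙.subscheme, y ≫ 𝓙.subschemeι = x.left) ↔ 𝓙 ≤ x.left.ker := by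
    constructor
    · rintro ⟨y, hy⟩
      rw [← hy]
      conv_lhs => rw [← 𝓙.ker_subschemeι]
      exact Scheme.Hom.le_ker_comp _ _
    · intro h
      have h' : 𝓙.subschemeι.ker ≤ x.left.ker := by rw [𝓙.ker_subschemeι]; exact h
      exact ⟨IsClosedImmersion.lift 𝓙.subschemeι x.left h', IsClosedImmersion.lift_fac _ _ _⟩
  rw [h3, h𝓙, ← Groth.Agent.S17685.FixO_iff_Fix]
  exact Groth.Agent.S17685.fixed_iff act x

end Groth.Agent.S17685
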