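import Groth.Statements.S17687
import Mathlib.Tactic
import Mathlib.RingTheory.GradedAlgebra.FiniteType
-- import your own Groth.Agent.* helpers here

set_option autoImplicit false
universe u v w
open DiagMon

namespace Groth.Agent.S17687

/-- Let R be a commutative ring and A a commutative R-algebra of finite type graded by a commutative
monoid M. Then the set of ideals J_N, N running over all submonoids of M, where J_N is generated by
the homogeneous elements of degree not in N (the ideal of the attractor of Spec A for the magnet N),
is finite: Spec A has finitely many attractors and hence finitely many pure magnets. (The source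
assumes Spec A of finite presentation over the base; its proof uses only a finite set of homogeneous
algebra generators, so finite type is assumed here.) -/
theorem result (R : Type u) [CommRing R] (A : Type v) [CommRing A]
    [Algebra R A] [Algebra.FiniteType R A] (M : Type w) [AddCommMonoid M] [DecidableEq M]
    (𝒜 : M → Submodule R A) [GradedAlgebra 𝒜] :
    (Set.range fun N : AddSubmonoid M => Ideal.span {a : A | ∃ m : M, m ∉ N ∧ a ∈ 𝒜 m}).Finite := by
  classical
  obtain ⟨F, hF⟩ := Algebra.FiniteType.out (R := R) (A := A)
  -- homogeneous generators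
  let ι₀ := Σ (x : F), (DirectSum.decompose 𝒜 x.1).support
  let x (i : ι₀) : A := ((DirectSum.decompose 𝒜) i.1 i.2).1
  let T : Finset A := Finset.univ.image x
  have hT : Algebra.adjoin R (T : Set A) = ⊤ := by
    rw [← top_le_iff, ← hF, Algebra.adjoin_le_iff]
    intro s hs
    rw [← DirectSum.sum_support_decompose 𝒜 s]
    refine sum_mem fun n hn ↦ Algebra.subset_adjoin ?_
    rw [Finset.mem_coe, Finset.mem_image]
    exact ⟨⟨⟨s, hs⟩, ⟨n, hn⟩⟩, Finset.mem_univ _, rfl⟩
  have hThom : ∀ t ∈ T, ∃ m, t ∈ 𝒜 m := by
    intro t ht
    simp only [T, Finset.mem_image] at ht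
    obtain ⟨f, _, rfl⟩ := ht
    exact ⟨_, (DirectSum.decompose 𝒜 f.1 f.2).2⟩
  choose! d hd using hThom
  let Φ : Finset A → Ideal A := fun S => Ideal.span (S : Set A)
  have key : ∀ N : AddSubmonoid M, Ideal.span {a : A | ∃ m : M, m ∉ N ∧ a ∈ 𝒜 m} =
      Φ (T.filter (fun t => d t ∉ N)) := by
    intro N
    apply le_antisymm
    · set K : Ideal A := Φ (T.filter (fun t => d t ∉ N)) with hK
      have hQ : ∀ y : A, ∀ m, m ∉ N → ((DirectSum.decompose 𝒜 y m : 𝒜 m) : A) ∈ K := by
        intro y
        have hy : y ∈ Algebra.adjoin R (T : Set A) := by rw [hT]; trivial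
        induction hy using Algebra.adjoin_induction with
        | mem t ht =>
          intro m hm
          by_cases h : d t = m
          · subst h
            rw [DirectSum.decompose_of_mem_same 𝒜 (hd t ht)]
            apply Ideal.subset_span
            simp only [Finset.coe_filter, Set.mem_ofPred_eq]
            exact ⟨ht, hm⟩
          · rw [DirectSum.decompose_of_mem_ne 𝒜 (hd t ht) h]
            exact K.zero_mem
        | algebraMap r =>
          intro m hm
          have h0 : (0 : M) ≠ m := by
            rintro rfl
            exact hm N.zero_mem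
          rw [DirectSum.decompose_of_mem_ne 𝒜 (SetLike.algebraMap_mem_graded 𝒜 r) h0]
          exact K.zero_mem
        | add a b _ _ ha hb =>
          intro m hm
          rw [DirectSum.decompose_add, DirectSum.add_apply, Submodule.coe_add]
          exact K.add_mem (ha m hm) (hb m hm)
        | mul a b _ _ ha hb =>
          intro m hm
          rw [DirectSum.decompose_mul, DirectSum.coe_mul_apply]
          refine K.sum_mem fun ij hij => ?_
          rw [Finset.mem_filter] at hij
          have hsum : ij.1 + ij.2 ∉ N := by rw [hij.2]; exact hm
          by_cases h1 : ij.1 ∈ N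
          · have h2 : ij.2 ∉ N := fun h2 => hsum (N.add_mem h1 h2)
            exact K.mul_mem_left _ (hb _ h2)
          · exact K.mul_mem_right _ (ha _ h1)
      rw [Ideal.span_le]
      rintro a ⟨m, hm, ha⟩
      have := hQ a m hm
      rwa [DirectSum.decompose_of_mem_same 𝒜 ha] at this
    · apply Ideal.span_mono
      intro t ht
      simp only [Finset.coe_filter, Set.mem_ofPred_eq] at ht
      exact ⟨d t, ht.2, hd t ht.1⟩
  apply Set.Finite.subset (Set.Finite.image Φ (Set.toFinite (T.powerset : Set (Finset A))))
  rintro _ ⟨N, rfl⟩
  refine ⟨T.filter (fun t => d t ∉ N), ?_, (key N).symm⟩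
  rw [Finset.mem_coe, Finset.mem_powerset]
  exact Finset.filter_subset _ _

end Groth.Agent.S17687
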