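import Groth.Statements.S17688
import Mathlib.AlgebraicGeometry.Morphisms.SchemeTheoreticallyDominant
import Mathlib.AlgebraicGeometry.Morphisms.ClosedImmersion
import Mathlib.Tactic
-- import your own Groth.Agent.* helpers here

set_option autoImplicit false
universe u
open CategoryTheory CategoryTheory.Limits AlgebraicGeometry MonObj
open Neron

namespace Groth.Agent.S17688

section Helpers

/-- `Spec.map φ` is scheme-theoretically dominant for injective `φ`. -/
theorem schDominant_SpecMap {A B : CommRingCat.{u}} (φ : A ⟶ B) (hφ : Function.Injective φ.hom) :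
    IsSchemeTheoreticallyDominant (Spec.map φ) := by
  rw [isSchemeTheoreticallyDominant_iff]
  apply Scheme.IdealSheafData.ext_of_isAffine
  rw [(Spec.map φ).ker_apply ⟨⊤, isAffineOpen_top _⟩]
  simp only [Scheme.IdealSheafData.ideal_bot, Pi.bot_apply]
  rw [← RingHom.injective_iff_ker_eq_bot]
  have h := Scheme.ΓSpecIso_naturality φ
  have h2 : (Spec.map φ).appTop = (Scheme.ΓSpecIso A).hom ≫ φ ≫ (Scheme.ΓSpecIso B).inv := by
    rw [← Category.assoc, ← h, Category.assoc, Iso.hom_inv_id, Category.comp_id]
  change Function.Injective ⇑(CommRingCat.Hom.hom (Scheme.Hom.appTop (Spec.map φ)))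
  rw [h2]
  simp only [CommRingCat.hom_comp, RingHom.coe_comp]
  have e1 : Function.Injective ⇑(CommRingCat.Hom.hom (Scheme.ΓSpecIso A).hom) :=
    ((Scheme.ΓSpecIso A).commRingCatIsoToRingEquiv).injective
  have e2 : Function.Injective ⇑(CommRingCat.Hom.hom (Scheme.ΓSpecIso B).inv) :=
    ((Scheme.ΓSpecIso B).symm.commRingCatIsoToRingEquiv).injective
  exact e2.comp (hφ.comp e1)

/-- two morphisms into a separated `S`-scheme agreeing on a scheme-theoretically dominant
morphism are equal. -/
theorem over_ext {S : Scheme.{u}} {X Y : Over S} [IsSeparated Y.hom] (a b : X ⟶ Y)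
    {W : Scheme.{u}} (j : W ⟶ X.left) [IsSchemeTheoreticallyDominant j]
    (h : j ≫ a.left = j ≫ b.left) : a = b := by
  let W' : Over S := Over.mk (j ≫ X.hom)
  let j' : W' ⟶ X := Over.homMk j
  have hj : j' ≫ a = j' ≫ b := by
    ext1
    exact h
  have hker : (equalizer.ι a b).left.ker = ⊥ := by
    have hlift : (equalizer.lift j' hj).left ≫ (equalizer.ι a b).left = j := by
      rw [← Over.comp_left, equalizer.lift_ι]
      rfl
    have := Scheme.Hom.le_ker_comp (equalizer.lift j' hj).left (equalizer.ι a b).left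
    rw [hlift, j.ker_eq_bot] at this
    exact le_bot_iff.mp this
  have h1 : IsIso (equalizer.ι a b).left := IsClosedImmersion.isIso_iff_ker_eq_bot.mpr hker
  have h2 : IsIso (equalizer.ι a b) := by
    have : IsIso ((Over.forget S).map (equalizer.ι a b)) := h1
    exact isIso_of_reflects_iso _ (Over.forget S)
  rw [← cancel_epi (equalizer.ι a b)]
  exact equalizer.condition a b

end Helpers

/-- Let R be a discrete valuation ring whose fraction field K has characteristic p > 0, and let U be a
flat, separated, commutative group scheme over Spec R whose generic fibre U_K is annihilated by a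
power p^N of p (in the group of endomorphisms of U_K as a K-scheme, the p^N-th power of the identity
is the unit). Then for every prime ℓ invertible in R the ℓ-th power map of U (the ℓ-th power of the
identity in the group of R-morphisms U → U) is an isomorphism. -/
theorem result
    (R : Type u) [CommRing R] [IsDomain R] [IsDiscreteValuationRing R]
    (p : ℕ) (hp : p.Prime) [CharP (FractionRing R) p]
    (U : Over (Spec (CommRingCat.of R))) [GrpObj U] [IsCommMonObj U] [Flat U.hom] [IsSeparated U.hom]
    (N : ℕ) (hN : (𝟙 (Red.bc (Neron.genPt R) U) : Red.bc (Neron.genPt R) U ⟶ Red.bc (Neron.genPt R) U) ^ (p ^ N) = 1)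
    (ℓ : ℕ) (hℓ : ℓ.Prime) (hℓu : IsUnit (ℓ : R)) :
    IsIso ((𝟙 U : U ⟶ U) ^ ℓ) := by
  classical
  -- the base change functor
  have hF : (Over.pullback (Neron.genPt R)).map ((𝟙 U : U ⟶ U) ^ (p ^ N)) =
      (Over.pullback (Neron.genPt R)).map (1 : U ⟶ U) := by
    have h1 : (Over.pullback (Neron.genPt R)).map ((𝟙 U : U ⟶ U) ^ (p ^ N)) =
        ((Over.pullback (Neron.genPt R)).map (𝟙 U)) ^ (p ^ N) :=
      map_pow ((Over.pullback (Neron.genPt R)).homMonoidHom (X := U) (M := U)) (𝟙 U) (p ^ N)
    rw [h1, CategoryTheory.Functor.map_id, Functor.map_one]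
    exact hN
  have hdom : IsSchemeTheoreticallyDominant (Neron.genPt R) :=
    schDominant_SpecMap _ (IsFractionRing.injective R (FractionRing R))
  have hpow : (𝟙 U : U ⟶ U) ^ (p ^ N) = 1 := by
    apply over_ext _ _ (pullback.fst U.hom (Neron.genPt R))
    have key : ∀ g : U ⟶ U, pullback.fst U.hom (Neron.genPt R) ≫ g.left =
        ((Over.pullback (Neron.genPt R)).map g).left ≫ pullback.fst U.hom (Neron.genPt R) := by
      intro g
      simp only [Over.pullback_map_left]
      rw [pullback.lift_fst]
    rw [key, key, hF]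
  -- ℓ ≠ p
  have hne : ℓ ≠ p := by
    rintro rfl
    have h0 : ((ℓ : ℕ) : FractionRing R) = 0 := CharP.cast_eq_zero (FractionRing R) ℓ
    have hu : IsUnit ((ℓ : ℕ) : FractionRing R) := by
      have := hℓu.map (algebraMap R (FractionRing R))
      simpa using this
    rw [h0] at hu
    exact not_isUnit_zero hu
  have hcop : Nat.Coprime ℓ (p ^ N) :=
    Nat.Coprime.pow_right N ((Nat.coprime_primes hℓ hp).mpr hne)
  have hord : orderOf (𝟙 U : U ⟶ U) ∣ p ^ N := orderOf_dvd_of_pow_eq_one hpow
  obtain ⟨m, hm⟩ := exists_pow_eq_self_of_coprime (x := (𝟙 U : U ⟶ U))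
    (Nat.Coprime.coprime_dvd_right hord hcop)
  refine ⟨⟨(𝟙 U : U ⟶ U) ^ m, ?_, ?_⟩⟩
  · rw [MonObj.comp_pow, Category.comp_id]
    exact hm
  · rw [MonObj.comp_pow, Category.comp_id, ← pow_mul, mul_comm, pow_mul]
    exact hm

end Groth.Agent.S17688
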