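import Groth.Statements.S17689
import Groth.Agent.Lib.UnivHomeo
import Mathlib.Tactic
import Mathlib.FieldTheory.PurelyInseparable.Basic
import Mathlib.Algebra.CharP.Reduced
import Mathlib.RingTheory.IntegralClosure.IntegrallyClosed
-- import your own Groth.Agent.* helpers here

set_option autoImplicit false
universe u
open CategoryTheory AlgebraicGeometry
open Neron

namespace Groth.Agent.S17689

section Helpers

/-- algebraic core: every element of `S` has a `q`-power in the image of `R`. -/
theorem exists_pow_mem_range
    (R S K L : Type u) [CommRing R] [IsDomain R] [IsDiscreteValuationRing R]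
    [CommRing S] [IsDomain S] [Algebra R S] [Module.Finite R S]
    [Field K] [Field L] [Algebra R K] [IsFractionRing R K] [Algebra S L] [IsFractionRing S L]
    [Algebra K L] [Algebra R L] [IsScalarTower R S L] [IsScalarTower R K L] [IsPurelyInseparable K L]
    (q : ℕ) [ExpChar K q] (s : S) : ∃ n : ℕ, ∃ r : R, s ^ q ^ n = algebraMap R S r := by
  obtain ⟨n, y, hy⟩ := IsPurelyInseparable.pow_mem K q (algebraMap S L s)
  have hint : IsIntegral R (s ^ q ^ n) := (Algebra.IsIntegral.isIntegral s).pow _
  have hintL : IsIntegral R (algebraMap S L (s ^ q ^ n)) :=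
    hint.map (IsScalarTower.toAlgHom R S L)
  have hy' : IsIntegral R y := by
    rw [map_pow, ← hy] at hintL
    exact (isIntegral_algebraMap_iff (algebraMap K L).injective).mp hintL
  obtain ⟨r, hr⟩ := IsIntegrallyClosed.isIntegral_iff.mp hy'
  refine ⟨n, r, ?_⟩
  apply IsFractionRing.injective S L
  rw [map_pow, ← hy, ← hr, ← IsScalarTower.algebraMap_apply, ← IsScalarTower.algebraMap_apply]

/-- ring homs from `S` to a field are determined by their restriction to `R`. -/
theorem ringHom_ext_of_comp
    (R S K L : Type u) [CommRing R] [IsDomain R] [IsDiscreteValuationRing R]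
    [CommRing S] [IsDomain S] [Algebra R S] [Module.Finite R S]
    [Field K] [Field L] [Algebra R K] [IsFractionRing R K] [Algebra S L] [IsFractionRing S L]
    [Algebra K L] [Algebra R L] [IsScalarTower R S L] [IsScalarTower R K L] [IsPurelyInseparable K L]
    (F : Type u) [Field F] (g₁ g₂ : S →+* F)
    (h : g₁.comp (algebraMap R S) = g₂.comp (algebraMap R S)) : g₁ = g₂ := by
  obtain ⟨q, hq⟩ := ExpChar.exists K
  apply RingHom.ext
  intro s
  obtain ⟨n, r, hr⟩ := exists_pow_mem_range R S K L q s
  cases hq with
  | zero =>
    rw [one_pow, pow_one] at hr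
    rw [hr]
    exact RingHom.congr_fun h r
  | prime hprime =>
    rename_i hchar
    have hK : ((q : ℕ) : K) = 0 := CharP.cast_eq_zero K q
    have hR : ((q : ℕ) : R) = 0 := by
      apply IsFractionRing.injective R K
      rw [map_natCast, hK, map_zero]
    have hF0 : ((q : ℕ) : F) = 0 := by
      have := congrArg (g₁.comp (algebraMap R S)) hR
      simpa using this
    have : CharP F q := (CharP.charP_iff_prime_eq_zero hprime).mpr hF0
    have hF : ExpChar F q := ExpChar.prime hprime
    apply iterateFrobenius_inj F q n
    rw [iterateFrobenius_def, iterateFrobenius_def, ← map_pow, ← map_pow, hr]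
    exact RingHom.congr_fun h r

end Helpers

/-- Let R ⊆ S be a finite extension of discrete valuation rings (the structure map R → S is injective
and S is a finite R-module) such that the induced extension K ⊆ L of fraction fields is purely
inseparable. Then the morphism Spec S → Spec R is a universal homeomorphism: every base change of it
is a homeomorphism on underlying spaces. (No excellence hypothesis is needed here.) -/
theorem result
    (R S K L : Type u) [CommRing R] [IsDomain R] [IsDiscreteValuationRing R]
    [CommRing S] [IsDomain S] [IsDiscreteValuationRing S] [Algebra R S] [Module.Finite R S] [FaithfulSMul R S]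
    [Field K] [Field L] [Algebra R K] [IsFractionRing R K] [Algebra S L] [IsFractionRing S L]
    [Algebra K L] [Algebra R L] [IsScalarTower R S L] [IsScalarTower R K L] [IsPurelyInseparable K L] :
    FlatMor.IsUnivHomeo (Spec.map (CommRingCat.ofHom (algebraMap R S))) := by
  rw [Groth.Agent.Lib.UnivHomeo.iff_isIntegralHom_universallyInjective_surjective]
  have hinj : Function.Injective (algebraMap R S) := FaithfulSMul.algebraMap_injective R S
  have hint : (algebraMap R S).IsIntegral := fun s => Algebra.IsIntegral.isIntegral s
  refine ⟨?_, ?_, ?_⟩
  · rw [IsIntegralHom.SpecMap_iff]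
    exact hint
  · have := (tfae_universallyInjective (Spec.map (CommRingCat.ofHom (algebraMap R S)))).out 0 1
    rw [this]
    intro F _ g₁ g₂ hg
    dsimp only at hg
    obtain ⟨ψ₁, rfl⟩ := Spec.map_surjective g₁
    obtain ⟨ψ₂, rfl⟩ := Spec.map_surjective g₂
    rw [← Spec.map_comp, ← Spec.map_comp] at hg
    have hg' := Spec.map_injective hg
    have : ψ₁.hom = ψ₂.hom := by
      apply ringHom_ext_of_comp R S K L F ψ₁.hom ψ₂.hom
      have := congrArg CommRingCat.Hom.hom hg'
      simpa using this
    congr 1
    exact CommRingCat.hom_ext this
  · rw [surjective_iff]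
    exact hint.comap_surjective hinj

end Groth.Agent.S17689
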