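import Groth.Statements.S17690
import Groth.Agent.Lib.H87DVRJap2

set_option autoImplicit false
universe u
open Neron
open scoped TensorProduct

namespace Groth.Agent.S17690

/-- Let R be an excellent discrete valuation ring (Noetherian, universally catenary, G-ring, J-2) with
fraction field K, and let L be a finite purely inseparable field extension of K. Then the integral
closure S of R in L is a discrete valuation ring, and S is a finite R-module. -/
theorem result
    (R K L : Type u) [CommRing R] [IsDomain R] [IsDiscreteValuationRing R] (hR : EGA4.IsExcellent R)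
    [Field K] [Algebra R K] [IsFractionRing R K] [Field L] [Algebra K L] [FiniteDimensional K L]
    [IsPurelyInseparable K L] [Algebra R L] [IsScalarTower R K L] :
    IsDiscreteValuationRing ↥(integralClosure R L) ∧ Module.Finite R ↥(integralClosure R L) := by
  open Groth.Agent.Lib.H87DVRJap in
  have hG : CAlg.IsGRing R := hR.2.2.1
  have hreg := isRegularHom_cpl_of_isGRing R hG
  have hRL : Function.Injective (algebraMap R L) := by
    rw [IsScalarTower.algebraMap_eq R K L]
    exact (algebraMap K L).injective.comp (IsFractionRing.injective R K)
  letI algκ : Algebra (⊥ : Ideal R).ResidueField L :=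
    (IsFractionRing.lift (K := (⊥ : Ideal R).ResidueField) hRL).toAlgebra
  haveI : IsScalarTower R (⊥ : Ideal R).ResidueField L :=
    IsScalarTower.of_algebraMap_eq (fun r => by
      rw [RingHom.algebraMap_toAlgebra, IsFractionRing.lift_algebraMap])
  haveI : Module.Finite (⊥ : Ideal R).ResidueField L :=
    finite_of_isFractionRing R K (⊥ : Ideal R).ResidueField L
  have hred : IsReduced (AdicCompletion (IsLocalRing.maximalIdeal R) R ⊗[R] L) :=
    isReduced_tensor_of_geomRegular R _ L (hreg.2 ⊥).2
  haveI : Module.FaithfullyFlat R (AdicCompletion (IsLocalRing.maximalIdeal R) R) :=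
    Module.FaithfullyFlat.of_flat_of_isLocalHom
  obtain ⟨π, hπ⟩ := IsDiscreteValuationRing.exists_irreducible R
  have hmax : IsLocalRing.maximalIdeal R = Ideal.span {π} := hπ.maximalIdeal_eq
  haveI : IsAdicComplete (Ideal.span {algebraMap R (AdicCompletion (IsLocalRing.maximalIdeal R) R) π})
      (AdicCompletion (IsLocalRing.maximalIdeal R) R) := by
    have h1 := AdicCompletion.isAdicComplete_self (IsLocalRing.maximalIdeal R)
      (IsNoetherian.noetherian _)
    have h2 : (IsLocalRing.maximalIdeal R).map
        (algebraMap R (AdicCompletion (IsLocalRing.maximalIdeal R) R)) =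
        Ideal.span {algebraMap R (AdicCompletion (IsLocalRing.maximalIdeal R) R) π} := by
      have h3 : (Ideal.span {π}).map
          (algebraMap R (AdicCompletion (IsLocalRing.maximalIdeal R) R)) =
          Ideal.span {algebraMap R (AdicCompletion (IsLocalRing.maximalIdeal R) R) π} := by
        rw [Ideal.map_span, Set.image_singleton]
      rw [← h3]
      exact congrArg _ hmax
    rw [← h2]
    exact h1
  have hfin : Module.Finite R ↥(integralClosure R L) :=
    finite_integralClosure R K L (AdicCompletion (IsLocalRing.maximalIdeal R) R) π hmax hred
  exact ⟨isDiscreteValuationRing_integralClosure R K L hfin, hfin⟩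

end Groth.Agent.S17690
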