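import Groth.Statements.S17714
import Groth.Agent.Lib.ToddSign

set_option autoImplicit false
open MoretBailly

namespace Groth.Agent.S17714

/-- Let n ≥ 2 and d ≥ 1 be natural numbers with n congruent to 0 or 1 modulo 4, and s an integer with 2s
> n + d + 1. Write B(x) = x/(1 - e^(-x)) for the exponential generating series of the Bernoulli
numbers (B'_1 = 1/2). Then for all sufficiently large natural numbers p the coefficient of x^n in
B(-dx)^(-1) B(-dpx) B(x)^(n+1) e^((dp-d-n-1+s)x) is strictly negative. (The published statement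
asserts this for every n ≥ 2 not congruent to 2 modulo 4. For n congruent to 3 modulo 4 the
coefficient is a polynomial in p of degree n - 1 with leading coefficient (2s-d-n-1) B'_(n-1)
d^(n-1)/(2 (n-1)!) > 0, so it is eventually positive: for n = 3, d = 1, s = 3 it equals (p^2 -
1)/24. The residues 0 and 1 are exactly the ones the leading-term argument gives.) -/
theorem result (n d : ℕ) (s : ℤ) (hn : 2 ≤ n)
    (hmod : n % 4 = 0 ∨ n % 4 = 1) (hd : 1 ≤ d) (hs : (n : ℤ) + d + 1 < 2 * s) :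
    ∃ P : ℕ, ∀ p : ℕ, P ≤ p →
      PowerSeries.coeff n ((PowerSeries.rescale (-(d : ℚ)) (bernoulli'PowerSeries ℚ))⁻¹ * PowerSeries.rescale (-((d : ℚ) * p)) (bernoulli'PowerSeries ℚ) * bernoulli'PowerSeries ℚ ^ (n + 1) * PowerSeries.rescale ((d : ℚ) * p - d - n - 1 + s) (PowerSeries.exp ℚ)) < 0 := by
  open Groth.Agent.Lib.ToddSign Polynomial in
  obtain ⟨P, hP, hp⟩ := Groth.Agent.Lib.ToddProduct.main n d s hn
  have hdpos : (0 : ℚ) < d := by exact_mod_cast hd
  rcases hmod with h0 | h1
  · obtain ⟨l, rfl⟩ : ∃ l, n = 4 * l := ⟨n / 4, by omega⟩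
    have hl : l ≠ 0 := by omega
    have hB := bernoulli'_four_mul_neg hl
    have hc : bernoulli' (4 * l) * (d : ℚ) ^ (4 * l) / ((4 * l).factorial : ℚ) < 0 :=
      div_neg_of_neg_of_pos (mul_neg_of_neg_of_pos hB (pow_pos hdpos _)) (by positivity)
    have hR : (C ((2 * (s : ℚ) - d - (4 * l : ℕ) - 1) / 2 * bernoulli' (4 * l - 1) * (d : ℚ) ^ (4 * l - 1) /
        ((4 * l - 1).factorial : ℚ)) * X ^ (4 * l - 1) + P).natDegree < 4 * l := by
      apply lt_of_le_of_lt (natDegree_add_le_of_degree_le (n := 4 * l - 1) (natDegree_C_mul_X_pow_le _ _) (by omega))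
      omega
    obtain ⟨N, hN⟩ := eventually_neg _ hc (4 * l) (by omega) _ hR
    refine ⟨N, fun p hpN => ?_⟩
    rw [hp p]
    have := hN p hpN
    simp only [eval_add, eval_mul, eval_C, eval_pow, eval_X] at this
    convert this using 1
    ring
  · obtain ⟨l, rfl⟩ : ∃ l, n = 4 * l + 1 := ⟨n / 4, by omega⟩
    have hl : l ≠ 0 := by omega
    have hB := bernoulli'_four_mul_neg hl
    have hB0 : bernoulli' (4 * l + 1) = 0 := bernoulli'_eq_zero_of_odd ⟨2 * l, by ring⟩ (by omega)
    have hs' : (0 : ℚ) < 2 * (s : ℚ) - d - (4 * l + 1 : ℕ) - 1 := by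
      have : ((4 * l + 1 : ℕ) : ℚ) + d + 1 < 2 * (s : ℚ) := by exact_mod_cast hs
      linarith
    have e : 4 * l + 1 - 1 = 4 * l := by omega
    have hc : (2 * (s : ℚ) - d - (4 * l + 1 : ℕ) - 1) / 2 * bernoulli' (4 * l) * (d : ℚ) ^ (4 * l) /
        ((4 * l).factorial : ℚ) < 0 :=
      div_neg_of_neg_of_pos (mul_neg_of_neg_of_pos (mul_neg_of_pos_of_neg (by positivity) hB) (pow_pos hdpos _))
        (by positivity)
    have hR : P.natDegree < 4 * l := by omega
    obtain ⟨N, hN⟩ := eventually_neg _ hc (4 * l) (by omega) _ hR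
    refine ⟨N, fun p hpN => ?_⟩
    rw [hp p, hB0, e]
    have := hN p hpN
    convert this using 1
    ring

end Groth.Agent.S17714
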