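-- S17717: coefficient of x in the Todd-class integrand (n = 1).
import Groth.Statements.S17717
import Groth.Agent.Lib.PSJet

set_option autoImplicit false
open MoretBailly

namespace Groth.Agent.S17717

open Groth.Agent.Lib.PSJet PowerSeries in
/-- Write B(x) = x/(1 - e^(-x)) for the exponential generating series of the Bernoulli numbers (B'_1 =
1/2). For all natural numbers d, p and every integer s the coefficient of x in B(-dx)^(-1) B(-dpx)
B(x)^2 e^((dp-d-2+s)x), i.e. the case n = 1 of the Todd-class integrand, equals d(p-1)/2 + s - 1. -/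
theorem result (d p : ℕ) (s : ℤ) :
    PowerSeries.coeff 1 ((PowerSeries.rescale (-(d : ℚ)) (bernoulli'PowerSeries ℚ))⁻¹ * PowerSeries.rescale (-((d : ℚ) * p)) (bernoulli'PowerSeries ℚ) * bernoulli'PowerSeries ℚ ^ (2) * PowerSeries.rescale ((d : ℚ) * p - d - 2 + s) (PowerSeries.exp ℚ)) =
      (d : ℚ) * (p - 1) / 2 + s - 1 := by
  have hB0 : ∀ a : ℚ, coeff 0 (rescale a (bernoulli'PowerSeries ℚ)) = 1 := fun a => by
    rw [coeff_rescale, coeff_bernoulli'_0]; simp
  rw [pow_two]
  simp only [coeff_mul_1, coeff_mul_0, coeff_inv_0 _ (hB0 _), coeff_inv_1 _ (hB0 _), coeff_rescale,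
    coeff_bernoulli'_0, coeff_bernoulli'_1, coeff_exp_0, coeff_exp_1]
  ring

end Groth.Agent.S17717
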