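-- S17718: eventual negativity in p of the x^n coefficient of the Todd-class integrand (n not 2 mod 4).
import Groth.Statements.S17718
import Groth.Agent.Lib.PSJet
import Mathlib.NumberTheory.ZetaValues
import Mathlib.RingTheory.PowerSeries.Exp
import Mathlib.Algebra.Order.Archimedean.Basic
import Mathlib.Algebra.BigOperators.Intervals
import Mathlib.Algebra.BigOperators.Ring.Finset

set_option autoImplicit false
open MoretBailly

namespace Groth.Agent.S17718

open Real in
/-- `(-1)^(k+1) * B_{2k} > 0` for `k ≥ 1`. -/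
theorem bernoulli_sign (k : ℕ) (hk : k ≠ 0) : 0 < (-1 : ℚ) ^ (k + 1) * bernoulli' (2 * k) := by
  have h := hasSum_zeta_nat hk
  have h1 : (1 : ℝ) ≤ (-1 : ℝ) ^ (k + 1) * (2 : ℝ) ^ (2 * k - 1) * π ^ (2 * k) *
        bernoulli (2 * k) / (2 * k).factorial := by
    have := le_hasSum h 1 (fun j _ => by positivity)
    simpa using this
  have hb : bernoulli (2 * k) = bernoulli' (2 * k) :=
    bernoulli_eq_bernoulli'_of_ne_one (by omega)
  rw [hb] at h1
  have hpos : (0 : ℝ) < (2 : ℝ) ^ (2 * k - 1) * π ^ (2 * k) / (2 * k).factorial := by positivity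
  have h2 : (0 : ℝ) < (-1 : ℝ) ^ (k + 1) * (bernoulli' (2 * k) : ℝ) := by
    by_contra hcon
    push Not at hcon
    have : (-1 : ℝ) ^ (k + 1) * (2 : ℝ) ^ (2 * k - 1) * π ^ (2 * k) *
        (bernoulli' (2 * k) : ℝ) / (2 * k).factorial =
        ((-1 : ℝ) ^ (k + 1) * (bernoulli' (2 * k) : ℝ)) *
          ((2 : ℝ) ^ (2 * k - 1) * π ^ (2 * k) / (2 * k).factorial) := by ring
    rw [this] at h1
    have := mul_nonpos_of_nonpos_of_nonneg hcon hpos.le
    linarith
  have h3 : ((0 : ℚ) : ℝ) < (((-1 : ℚ) ^ (k + 1) * bernoulli' (2 * k) : ℚ) : ℝ) := by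
    push_cast
    exact h2
  exact_mod_cast h3

/-- A polynomial function with negative leading coefficient of positive degree tends to `-∞`. -/
theorem eventually_lt (m : ℕ) : ∀ (q : ℕ → ℚ), q (m + 1) < 0 → ∀ M : ℚ, ∃ P : ℕ, ∀ p : ℕ, P ≤ p →
    ∑ i ∈ Finset.range (m + 2), q i * (p : ℚ) ^ i < -M := by
  induction m with
  | zero =>
    intro q hq M
    -- q 0 + q 1 * p < -M  for p > (q 0 + M) / (- q 1)
    obtain ⟨P, hP⟩ := exists_nat_gt ((q 0 + M) / (- q 1))
    refine ⟨P, fun p hp => ?_⟩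
    have hp' : (q 0 + M) / (- q 1) < (p : ℚ) := lt_of_lt_of_le hP (by exact_mod_cast hp)
    rw [div_lt_iff₀ (by linarith)] at hp'
    simp [Finset.sum_range_succ]
    nlinarith
  | succ m ih =>
    intro q hq M
    obtain ⟨P₁, hP₁⟩ := ih (fun i => q (i + 1)) hq 1
    obtain ⟨P₂, hP₂⟩ := exists_nat_gt (q 0 + M)
    refine ⟨max (max P₁ P₂) 1, fun p hp => ?_⟩
    have hp1 : P₁ ≤ p := le_trans (le_trans (le_max_left _ _) (le_max_left _ _)) hp
    have hp2 : P₂ ≤ p := le_trans (le_trans (le_max_right _ _) (le_max_left _ _)) hp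
    have hp0 : 1 ≤ p := le_trans (le_max_right _ _) hp
    have h1 := hP₁ p hp1
    have h2 : q 0 + M < (p : ℚ) := lt_of_lt_of_le hP₂ (by exact_mod_cast hp2)
    have hp0' : (1 : ℚ) ≤ p := by exact_mod_cast hp0
    rw [Finset.sum_range_succ']
    have h3 : ∑ i ∈ Finset.range (m + 1 + 1), q (i + 1) * (p : ℚ) ^ (i + 1) =
        (p : ℚ) * ∑ i ∈ Finset.range (m + 1 + 1), q (i + 1) * (p : ℚ) ^ i := by
      rw [Finset.mul_sum]
      refine Finset.sum_congr rfl fun i _ => ?_
      ring
    rw [h3]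
    simp only [pow_zero, mul_one]
    nlinarith

open PowerSeries Groth.Agent.Lib.PSJet

local notation "B" => bernoulli'PowerSeries ℚ
local notation "E" => PowerSeries.exp ℚ

theorem B_neg_mul_exp : rescale (-1 : ℚ) B * E = B := by
  have h1 : B * (E - 1) = X * E := bernoulli'PowerSeries_mul_exp_sub_one ℚ
  have h2 := congrArg (rescale (-1 : ℚ)) h1
  simp only [map_mul, map_sub, map_one, rescale_neg_one_X] at h2
  have h3 : E * rescale (-1 : ℚ) E = 1 := by
    have := exp_mul_exp_eq_exp_add (A := ℚ) 1 (-1)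
    simpa using this
  -- multiply h2 by E
  have h4 : rescale (-1 : ℚ) B * (1 - E) = -X := by
    have := congrArg (fun z => z * E) h2
    calc rescale (-1 : ℚ) B * (1 - E)
        = rescale (-1 : ℚ) B * (rescale (-1 : ℚ) E - 1) * E := by
          rw [mul_assoc, sub_mul, one_mul, mul_comm (rescale (-1 : ℚ) E) E, h3]
      _ = -X * rescale (-1 : ℚ) E * E := this
      _ = -X := by rw [mul_assoc, mul_comm (rescale (-1 : ℚ) E) E, h3, mul_one]
  have h5 : (rescale (-1 : ℚ) B * E) * (E - 1) = B * (E - 1) := by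
    rw [h1]
    have : rescale (-1 : ℚ) B * (E - 1) = X := by
      have : rescale (-1 : ℚ) B * (E - 1) = - (rescale (-1 : ℚ) B * (1 - E)) := by ring
      rw [this, h4, neg_neg]
    calc (rescale (-1 : ℚ) B * E) * (E - 1) = (rescale (-1 : ℚ) B * (E - 1)) * E := by ring
      _ = X * E := by rw [this]
  have hne : (E - 1 : ℚ⟦X⟧) ≠ 0 := by
    intro h
    have := congrArg (coeff 1) h
    simp [coeff_one] at this
  exact mul_right_cancel₀ hne h5

theorem B_rescale (a : ℚ) : rescale (-a) B * rescale a E = rescale a B := by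
  have := congrArg (rescale a) B_neg_mul_exp
  rw [map_mul, rescale_rescale] at this
  simpa using this

theorem coeff_pow_0 (f : ℚ⟦X⟧) (h0 : coeff 0 f = 1) (m : ℕ) : coeff 0 (f ^ m) = 1 := by
  induction m with
  | zero => simp
  | succ m ih => rw [pow_succ, coeff_mul_0, ih, h0, one_mul]

theorem coeff_pow_1 (f : ℚ⟦X⟧) (h0 : coeff 0 f = 1) (m : ℕ) :
    coeff 1 (f ^ m) = m * coeff 1 f := by
  induction m with
  | zero => simp
  | succ m ih =>
    rw [pow_succ, coeff_mul_1, ih, h0, coeff_pow_0 f h0]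
    push_cast
    ring

/-- The `p`-independent factor. -/
noncomputable def G (n d : ℕ) (s : ℤ) : ℚ⟦X⟧ :=
  (rescale (-(d : ℚ)) B)⁻¹ * B ^ (n + 1) * rescale ((s : ℚ) - d - n - 1) E

theorem hB0 (a : ℚ) : coeff 0 (rescale a B) = 1 := by
  rw [coeff_rescale, coeff_bernoulli'_0]; simp

theorem coeff_G_0 (n d : ℕ) (s : ℤ) : coeff 0 (G n d s) = 1 := by
  simp only [G, coeff_mul_0, coeff_inv_0 _ (hB0 _), coeff_pow_0 B coeff_bernoulli'_0,
    coeff_rescale, coeff_exp_0]
  simp

theorem coeff_G_1 (n d : ℕ) (s : ℤ) : coeff 1 (G n d s) = (2 * (s : ℚ) - d - n - 1) / 2 := by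
  simp only [G, coeff_mul_1, coeff_mul_0, coeff_inv_0 _ (hB0 _), coeff_inv_1 _ (hB0 _),
    coeff_pow_0 B coeff_bernoulli'_0, coeff_pow_1 B coeff_bernoulli'_0,
    coeff_rescale, coeff_exp_0, coeff_exp_1, coeff_bernoulli'_1]
  push_cast
  ring

/-- The integrand as `rescale (d p) B * G`. -/
theorem integrand_eq (n d p : ℕ) (s : ℤ) :
    (rescale (-(d : ℚ)) B)⁻¹ * rescale (-((d : ℚ) * p)) B * B ^ (n + 1) *
        rescale ((d : ℚ) * p - d - n - 1 + s) E = rescale ((d : ℚ) * p) B * G n d s := by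
  have h1 : rescale ((d : ℚ) * p - d - n - 1 + s) E =
      rescale ((d : ℚ) * p) E * rescale ((s : ℚ) - d - n - 1) E := by
    rw [exp_mul_exp_eq_exp_add]
    congr 2
    ring
  rw [h1, ← B_rescale ((d : ℚ) * p), G]
  ring

/-- The coefficient as a polynomial in `p`. -/
theorem coeff_eq_sum (n d p : ℕ) (s : ℤ) :
    coeff n (rescale ((d : ℚ) * p) B * G n d s) =
      ∑ i ∈ Finset.range (n + 1),
        ((d : ℚ) ^ i * coeff i B * coeff (n - i) (G n d s)) * (p : ℚ) ^ i := by
  rw [coeff_mul, Finset.Nat.sum_antidiagonal_eq_sum_range_succ_mk]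
  refine Finset.sum_congr rfl fun i _ => ?_
  rw [coeff_rescale, mul_pow]
  ring

theorem coeff_B (i : ℕ) : coeff i B = bernoulli' i / (i.factorial : ℚ) := by
  simp [bernoulli'PowerSeries]

/-- Let n ≥ 2 and d ≥ 1 be natural numbers with n not congruent to 2 modulo 4, and write B(x) = x/(1 -
e^(-x)) for the exponential generating series of the Bernoulli numbers (B'_1 = 1/2). Then there is
an integer s ≥ 1 such that for all sufficiently large natural numbers p the coefficient of x^n in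
B(-dx)^(-1) B(-dpx) B(x)^(n+1) e^((dp-d-n-1+s)x) is strictly negative. (The published argument fixes
any s with 2s > n + d + 1, which gives the sign only for n congruent to 0 or 1 modulo 4; for n
congruent to 3 modulo 4 the choice s = 1 makes the leading coefficient (2s-d-n-1) B'_(n-1)
d^(n-1)/(2 (n-1)!) negative instead.) -/
theorem result (n d : ℕ) (hn : 2 ≤ n)
    (hmod : n % 4 ≠ 2) (hd : 1 ≤ d) :
    ∃ s : ℤ, 1 ≤ s ∧ ∃ P : ℕ, ∀ p : ℕ, P ≤ p →
      PowerSeries.coeff n ((PowerSeries.rescale (-(d : ℚ)) (bernoulli'PowerSeries ℚ))⁻¹ * PowerSeries.rescale (-((d : ℚ) * p)) (bernoulli'PowerSeries ℚ) * bernoulli'PowerSeries ℚ ^ (n + 1) * PowerSeries.rescale ((d : ℚ) * p - d - n - 1 + s) (PowerSeries.exp ℚ)) < 0 := by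
  have hdpos : (0 : ℚ) < d := by exact_mod_cast hd
  -- reduce to the polynomial form
  suffices h : ∃ s : ℤ, 1 ≤ s ∧ ∃ P : ℕ, ∀ p : ℕ, P ≤ p →
      ∑ i ∈ Finset.range (n + 1),
        ((d : ℚ) ^ i * coeff i B * coeff (n - i) (G n d s)) * (p : ℚ) ^ i < 0 by
    obtain ⟨s, hs, P, hP⟩ := h
    refine ⟨s, hs, P, fun p hp => ?_⟩
    rw [integrand_eq, coeff_eq_sum]
    exact hP p hp
  have ev_neg : ∀ (N : ℕ), 1 ≤ N → ∀ q : ℕ → ℚ, q N < 0 → ∃ P : ℕ, ∀ p : ℕ, P ≤ p →
      ∑ i ∈ Finset.range (N + 1), q i * (p : ℚ) ^ i < 0 := by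
    intro N hN q hq
    obtain ⟨m, rfl⟩ : ∃ m, N = m + 1 := ⟨N - 1, by omega⟩
    simpa using eventually_lt m q hq 0
  have hfact : ∀ i : ℕ, (0 : ℚ) < (i.factorial : ℚ) := fun i => by exact_mod_cast i.factorial_pos
  rcases Nat.even_or_odd n with hev | hodd
  · -- n even, hence n ≡ 0 mod 4
    obtain ⟨k, hk⟩ : ∃ k, n = 2 * k := ⟨n / 2, by obtain ⟨r, hr⟩ := hev; omega⟩
    have hk0 : k ≠ 0 := by omega
    have hkev : Even k := by
      rw [Nat.even_iff]; omega
    have hsign := bernoulli_sign k hk0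
    rw [(hkev.add_one).neg_one_pow, ← hk] at hsign
    have hbn : bernoulli' n < 0 := by linarith
    refine ⟨1, le_refl _, ?_⟩
    apply ev_neg n (by omega)
    rw [Nat.sub_self, coeff_G_0, mul_one, coeff_B]
    have : (d : ℚ) ^ n * (bernoulli' n / (n.factorial : ℚ)) =
        -((d : ℚ) ^ n * (-bernoulli' n) / (n.factorial : ℚ)) := by ring
    rw [this]
    have h1 : (0 : ℚ) < -bernoulli' n := by linarith
    have := hfact n
    exact neg_neg_of_pos (by positivity)
  · -- n odd
    obtain ⟨k, hk⟩ := hodd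
    have hk0 : k ≠ 0 := by omega
    have hbn : bernoulli' n = 0 := bernoulli'_eq_zero_of_odd ⟨k, hk⟩ (by omega)
    have hsign := bernoulli_sign k hk0
    have hn1 : n - (n - 1) = 1 := by omega
    have hN : n - 1 + 1 = n := by omega
    have hN' : n - 1 = 2 * k := by omega
    -- drop the top term
    have hdrop : ∀ s : ℤ, ∀ p : ℕ, ∑ i ∈ Finset.range (n + 1),
        ((d : ℚ) ^ i * coeff i B * coeff (n - i) (G n d s)) * (p : ℚ) ^ i =
        ∑ i ∈ Finset.range (n - 1 + 1),
          ((d : ℚ) ^ i * coeff i B * coeff (n - i) (G n d s)) * (p : ℚ) ^ i := by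
      intro s p
      rw [Finset.sum_range_succ, hN, coeff_B n, hbn]
      simp
    rcases Nat.even_or_odd k with hkev | hkodd
    · -- n ≡ 1 mod 4 : B_{n-1} < 0, take s large
      rw [(hkev.add_one).neg_one_pow, ← hN'] at hsign
      have hb : bernoulli' (n - 1) < 0 := by linarith
      refine ⟨(d : ℤ) + n + 1, by omega, ?_⟩
      obtain ⟨P, hP⟩ := ev_neg (n - 1) (by omega)
        (fun i => (d : ℚ) ^ i * coeff i B * coeff (n - i) (G n d ((d : ℤ) + n + 1))) (by
          rw [hn1, coeff_G_1, coeff_B]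
          push_cast
          have h1 : (0 : ℚ) < -bernoulli' (n - 1) := by linarith
          have h2 := hfact (n - 1)
          have h3 : (0 : ℚ) < (2 * ((d : ℚ) + n + 1) - d - n - 1) / 2 := by
            have : (0 : ℚ) ≤ n := by positivity
            linarith
          have : (d : ℚ) ^ (n - 1) * (bernoulli' (n - 1) / ((n - 1).factorial : ℚ)) *
              ((2 * ((d : ℚ) + n + 1) - d - n - 1) / 2) =
              -((d : ℚ) ^ (n - 1) * (-bernoulli' (n - 1)) / ((n - 1).factorial : ℚ) *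
                ((2 * ((d : ℚ) + n + 1) - d - n - 1) / 2)) := by ring
          rw [this]
          exact neg_neg_of_pos (by positivity))
      refine ⟨P, fun p hp => ?_⟩
      rw [hdrop]
      exact hP p hp
    · -- n ≡ 3 mod 4 : B_{n-1} > 0, take s = 1
      rw [(hkodd.add_one).neg_one_pow, one_mul, ← hN'] at hsign
      refine ⟨1, le_refl _, ?_⟩
      obtain ⟨P, hP⟩ := ev_neg (n - 1) (by omega)
        (fun i => (d : ℚ) ^ i * coeff i B * coeff (n - i) (G n d 1)) (by
          rw [hn1, coeff_G_1, coeff_B]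
          push_cast
          have h2 := hfact (n - 1)
          have h3 : (0 : ℚ) < -((2 * (1 : ℚ) - d - n - 1) / 2) := by
            have : (3 : ℚ) ≤ n := by exact_mod_cast (by omega : 3 ≤ n)
            linarith
          have : (d : ℚ) ^ (n - 1) * (bernoulli' (n - 1) / ((n - 1).factorial : ℚ)) *
              ((2 * (1 : ℚ) - d - n - 1) / 2) =
              -((d : ℚ) ^ (n - 1) * (bernoulli' (n - 1)) / ((n - 1).factorial : ℚ) *
                (-((2 * (1 : ℚ) - d - n - 1) / 2))) := by ring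
          rw [this]
          exact neg_neg_of_pos (by positivity))
      refine ⟨P, fun p hp => ?_⟩
      rw [hdrop]
      exact hP p hp

end Groth.Agent.S17718
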