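import Groth.Statements.S17720
import Mathlib
import Groth.Agent.Lib.FormalInverse50
-- import your own Groth.Agent.* helpers here

set_option autoImplicit false
universe u
open CAlg

namespace Groth.Agent.S17720

section jet
variable {A : Type u} [CommRing A]

/-- linear coefficient -/
noncomputable def lin (i : Fin 2) (f : MvPowerSeries (Fin 2) A) : A :=
  MvPowerSeries.coeff (Finsupp.single i 1) f

theorem lin_add (i : Fin 2) (f g : MvPowerSeries (Fin 2) A) : lin i (f + g) = lin i f + lin i g := by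
  unfold lin; rw [map_add]

theorem lin_sub (i : Fin 2) (f g : MvPowerSeries (Fin 2) A) : lin i (f - g) = lin i f - lin i g := by
  unfold lin; rw [map_sub]

theorem lin_C (i : Fin 2) (a : A) : lin i (MvPowerSeries.C a : MvPowerSeries (Fin 2) A) = 0 := by
  unfold lin
  rw [MvPowerSeries.coeff_C, if_neg]
  intro h
  have := congrArg (fun e : Fin 2 →₀ ℕ => e i) h
  simp at this

theorem lin_X (i j : Fin 2) :
    lin i (MvPowerSeries.X j : MvPowerSeries (Fin 2) A) = if i = j then 1 else 0 := by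
  unfold lin
  rw [MvPowerSeries.coeff_index_single_X]

theorem lin_mul (i : Fin 2) (f g : MvPowerSeries (Fin 2) A) :
    lin i (f * g) = lin i f * MvPowerSeries.constantCoeff g
      + MvPowerSeries.constantCoeff f * lin i g := by
  have hg : g = MvPowerSeries.C (MvPowerSeries.constantCoeff g)
      + (g - MvPowerSeries.C (MvPowerSeries.constantCoeff g)) := by ring
  have h0 : MvPowerSeries.constantCoeff (g - MvPowerSeries.C (MvPowerSeries.constantCoeff g)) = 0 := by
    rw [map_sub, MvPowerSeries.constantCoeff_C, sub_self]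
  have h1 : lin i (f * (g - MvPowerSeries.C (MvPowerSeries.constantCoeff g))) =
      MvPowerSeries.constantCoeff f * lin i g := by
    unfold lin
    rw [Groth.Agent.Lib.FormalInverse50.coeff_single_mul _ _ h0, map_sub]
    have := lin_C i (MvPowerSeries.constantCoeff g)
    unfold lin at this
    rw [this, sub_zero]
  have h2 : lin i (f * MvPowerSeries.C (MvPowerSeries.constantCoeff g)) =
      lin i f * MvPowerSeries.constantCoeff g := by
    unfold lin
    rw [mul_comm, MvPowerSeries.coeff_C_mul, mul_comm]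
  conv_lhs => rw [hg, mul_add, lin_add, h1, h2]

theorem exists_decompA (F : MvPowerSeries (Fin 2) A) :
    ∃ (F₀ Fx Fy : A) (h₁ h₂ h₃ : MvPowerSeries (Fin 2) A),
      F = MvPowerSeries.C F₀ + MvPowerSeries.C Fx * MvPowerSeries.X 0
        + MvPowerSeries.C Fy * MvPowerSeries.X 1
        + MvPowerSeries.X 0 ^ 2 * h₁ + MvPowerSeries.X 0 * MvPowerSeries.X 1 * h₂
        + MvPowerSeries.X 1 ^ 2 * h₃ := by
  have split : ∀ q : MvPowerSeries (Fin 2) A, ∃ r₀ r₁ : MvPowerSeries (Fin 2) A,
      q = MvPowerSeries.C (MvPowerSeries.constantCoeff q) + MvPowerSeries.X 0 * r₀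
        + MvPowerSeries.X 1 * r₁ := by
    intro q
    obtain ⟨r, hr, -⟩ := Groth.Agent.Lib.FormalInverse50.exists_decomp
      (q - MvPowerSeries.C (MvPowerSeries.constantCoeff q))
      (by rw [map_sub, MvPowerSeries.constantCoeff_C, sub_self])
    refine ⟨r 0, r 1, ?_⟩
    rw [Fin.sum_univ_two] at hr
    rw [add_assoc, ← hr]
    ring
  obtain ⟨q₀, q₁, hq⟩ := split F
  obtain ⟨r₀₀, r₀₁, hq₀⟩ := split q₀
  obtain ⟨r₁₀, r₁₁, hq₁⟩ := split q₁
  refine ⟨MvPowerSeries.constantCoeff F, MvPowerSeries.constantCoeff q₀,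
    MvPowerSeries.constantCoeff q₁, r₀₀, r₀₁ + r₁₀, r₁₁, ?_⟩
  conv_lhs => rw [hq, hq₀, hq₁]
  ring

end jet

section loc
variable {A : Type u} [CommRing A] [IsLocalRing A]

/-- the residue of the linear coefficient -/
noncomputable def lam (i : Fin 2) (f : MvPowerSeries (Fin 2) A) : IsLocalRing.ResidueField A :=
  IsLocalRing.residue A (lin i f)

/-- the residue of the constant coefficient -/
noncomputable def cbar (f : MvPowerSeries (Fin 2) A) : IsLocalRing.ResidueField A :=
  IsLocalRing.residue A (MvPowerSeries.constantCoeff f)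

theorem lam_mul (i : Fin 2) (f g : MvPowerSeries (Fin 2) A) :
    lam i (f * g) = lam i f * cbar g + cbar f * lam i g := by
  unfold lam cbar; rw [lin_mul, map_add, map_mul, map_mul]

theorem cbar_mul (f g : MvPowerSeries (Fin 2) A) : cbar (f * g) = cbar f * cbar g := by
  unfold cbar; rw [map_mul, map_mul]

theorem lam_add (i : Fin 2) (f g : MvPowerSeries (Fin 2) A) : lam i (f + g) = lam i f + lam i g := by
  unfold lam; rw [lin_add, map_add]

theorem lam_C (i : Fin 2) (a : A) : lam i (MvPowerSeries.C a : MvPowerSeries (Fin 2) A) = 0 := by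
  unfold lam; rw [lin_C, map_zero]

theorem cbar_C (a : A) : cbar (MvPowerSeries.C a : MvPowerSeries (Fin 2) A) = IsLocalRing.residue A a := by
  unfold cbar; rw [MvPowerSeries.constantCoeff_C]

theorem lam_mul_mul_eq_zero (i : Fin 2) {f g : MvPowerSeries (Fin 2) A} (h : MvPowerSeries (Fin 2) A)
    (hf : cbar f = 0) (hg : cbar g = 0) : lam i (f * g * h) = 0 := by
  rw [lam_mul, lam_mul, cbar_mul, hf, hg]; ring

/-- the linear part of a relation `X' = F₀ + Fx U + Fy V + (U,V)^2 + d (xy - β)` modulo `m` -/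
theorem lam_relation (β : A) (hβ : β ∈ IsLocalRing.maximalIdeal A)
    (U V X' H₁ H₂ H₃ d : MvPowerSeries (Fin 2) A) (F₀ Fx Fy : A)
    (hU : cbar U = 0) (hV : cbar V = 0)
    (h : X' = MvPowerSeries.C F₀ + MvPowerSeries.C Fx * U + MvPowerSeries.C Fy * V
      + U * U * H₁ + U * V * H₂ + V * V * H₃
      + d * (MvPowerSeries.X 0 * MvPowerSeries.X 1 - MvPowerSeries.C β)) (i : Fin 2) :
    lam i X' = IsLocalRing.residue A Fx * lam i U + IsLocalRing.residue A Fy * lam i V := by
  have hβ0 : IsLocalRing.residue A β = 0 := (IsLocalRing.residue_eq_zero_iff β).mpr hβ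
  have h1 : lam i (d * (MvPowerSeries.X 0 * MvPowerSeries.X 1 - MvPowerSeries.C β)) = 0 := by
    rw [lam_mul]
    have e1 : cbar (MvPowerSeries.X 0 * MvPowerSeries.X 1 - MvPowerSeries.C β :
        MvPowerSeries (Fin 2) A) = 0 := by
      unfold cbar
      rw [map_sub, map_mul, MvPowerSeries.constantCoeff_X, MvPowerSeries.constantCoeff_C, zero_mul,
        zero_sub, map_neg, hβ0, neg_zero]
    have e2 : lam i (MvPowerSeries.X 0 * MvPowerSeries.X 1 - MvPowerSeries.C β :
        MvPowerSeries (Fin 2) A) = 0 := by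
      unfold lam
      rw [lin_sub, lin_C, lin_mul, MvPowerSeries.constantCoeff_X, MvPowerSeries.constantCoeff_X,
        mul_zero, zero_mul, add_zero, sub_zero, map_zero]
    rw [e1, e2, mul_zero, mul_zero, add_zero]
  rw [h, lam_add, lam_add, lam_add, lam_add, lam_add, lam_add, h1, lam_mul_mul_eq_zero i _ hU hU,
    lam_mul_mul_eq_zero i _ hU hV, lam_mul_mul_eq_zero i _ hV hV, lam_C, lam_mul, lam_mul, lam_C,
    lam_C, cbar_C, cbar_C, hU, hV]
  ring

end loc

section key
variable {A : Type u} [CommRing A] [IsLocalRing A]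

theorem cc_node (γ : A) :
    MvPowerSeries.constantCoeff
      (MvPowerSeries.X 0 * MvPowerSeries.X 1 - MvPowerSeries.C γ : MvPowerSeries (Fin 2) A) = -γ := by
  rw [map_sub, map_mul, MvPowerSeries.constantCoeff_X, MvPowerSeries.constantCoeff_C, zero_mul, zero_sub]

theorem lin_node (i : Fin 2) (γ : A) :
    lin i (MvPowerSeries.X 0 * MvPowerSeries.X 1 - MvPowerSeries.C γ : MvPowerSeries (Fin 2) A) = 0 := by
  rw [lin_sub, lin_C, lin_mul, MvPowerSeries.constantCoeff_X, MvPowerSeries.constantCoeff_X,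
    mul_zero, zero_mul, add_zero, sub_zero]

theorem cc_mem_of_not_isUnit (γ : A) (W : MvPowerSeries (Fin 2) A)
    (h : ¬ IsUnit (Ideal.Quotient.mk (Ideal.span {(MvPowerSeries.X 0 * MvPowerSeries.X 1
      - MvPowerSeries.C γ : MvPowerSeries (Fin 2) A)}) W)) :
    MvPowerSeries.constantCoeff W ∈ IsLocalRing.maximalIdeal A := by
  rw [IsLocalRing.mem_maximalIdeal, mem_nonunits_iff]
  intro hu
  exact h ((MvPowerSeries.isUnit_iff_constantCoeff.mpr hu).map _)

theorem not_isUnit_mk_X (α : A) (hα : α ∈ IsLocalRing.maximalIdeal A) (i : Fin 2) :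
    ¬ IsUnit (Ideal.Quotient.mk (Ideal.span {(MvPowerSeries.X 0 * MvPowerSeries.X 1
      - MvPowerSeries.C α : MvPowerSeries (Fin 2) A)}) (MvPowerSeries.X i)) := by
  intro hu
  let χ : (MvPowerSeries (Fin 2) A ⧸ Ideal.span {(MvPowerSeries.X 0 * MvPowerSeries.X 1
      - MvPowerSeries.C α : MvPowerSeries (Fin 2) A)}) →+* IsLocalRing.ResidueField A :=
    Ideal.Quotient.lift _ ((IsLocalRing.residue A).comp MvPowerSeries.constantCoeff) (by
      intro a ha
      rw [Ideal.mem_span_singleton'] at ha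
      obtain ⟨g, rfl⟩ := ha
      rw [RingHom.comp_apply, map_mul, cc_node, map_mul, map_neg,
        (IsLocalRing.residue_eq_zero_iff α).mpr hα, neg_zero, mul_zero])
  have := hu.map χ
  rw [Ideal.Quotient.lift_mk, RingHom.comp_apply, MvPowerSeries.constantCoeff_X, map_zero] at this
  exact not_isUnit_zero this

theorem algebraMap_quot (I : Ideal (MvPowerSeries (Fin 2) A)) (a : A) :
    algebraMap A (MvPowerSeries (Fin 2) A ⧸ I) a = Ideal.Quotient.mk I (MvPowerSeries.C a) := rfl

theorem lam_X (i j : Fin 2) :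
    lam i (MvPowerSeries.X j : MvPowerSeries (Fin 2) A) = if i = j then 1 else 0 := by
  unfold lam
  rw [lin_X]
  split_ifs <;> simp

theorem key (α β : A) (hα : α ∈ IsLocalRing.maximalIdeal A) (hβ : β ∈ IsLocalRing.maximalIdeal A)
    (φ : (MvPowerSeries (Fin 2) A ⧸ Ideal.span {(MvPowerSeries.X 0 * MvPowerSeries.X 1
        - MvPowerSeries.C α : MvPowerSeries (Fin 2) A)}) ≃ₐ[A]
      (MvPowerSeries (Fin 2) A ⧸ Ideal.span {(MvPowerSeries.X 0 * MvPowerSeries.X 1
        - MvPowerSeries.C β : MvPowerSeries (Fin 2) A)})) :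
    α ∈ Ideal.span {β} := by
  set Iα : Ideal (MvPowerSeries (Fin 2) A) := Ideal.span {(MvPowerSeries.X 0 * MvPowerSeries.X 1
        - MvPowerSeries.C α : MvPowerSeries (Fin 2) A)} with hIα
  set Iβ : Ideal (MvPowerSeries (Fin 2) A) := Ideal.span {(MvPowerSeries.X 0 * MvPowerSeries.X 1
        - MvPowerSeries.C β : MvPowerSeries (Fin 2) A)} with hIβ
  obtain ⟨U, hU⟩ := Ideal.Quotient.mk_surjective (φ (Ideal.Quotient.mk Iα (MvPowerSeries.X 0)))
  obtain ⟨V, hV⟩ := Ideal.Quotient.mk_surjective (φ (Ideal.Quotient.mk Iα (MvPowerSeries.X 1)))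
  have hnu : ∀ (i : Fin 2) (W : MvPowerSeries (Fin 2) A),
      Ideal.Quotient.mk Iβ W = φ (Ideal.Quotient.mk Iα (MvPowerSeries.X i)) →
      MvPowerSeries.constantCoeff W ∈ IsLocalRing.maximalIdeal A := by
    intro i W hW
    apply cc_mem_of_not_isUnit β W
    rw [hW]
    intro h
    have := h.map φ.symm
    rw [AlgEquiv.symm_apply_apply] at this
    exact not_isUnit_mk_X α hα i this
  have hu₀ := hnu 0 U hU
  have hv₀ := hnu 1 V hV
  have hcU : cbar U = 0 := (IsLocalRing.residue_eq_zero_iff _).mpr hu₀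
  have hcV : cbar V = 0 := (IsLocalRing.residue_eq_zero_iff _).mpr hv₀
  have hφC : ∀ a : A, φ (Ideal.Quotient.mk Iα (MvPowerSeries.C a)) =
      Ideal.Quotient.mk Iβ (MvPowerSeries.C a) := by
    intro a
    rw [← algebraMap_quot, ← algebraMap_quot]
    exact φ.commutes a
  -- the main relation
  have hrel : U * V - MvPowerSeries.C α ∈ Iβ := by
    rw [← Ideal.Quotient.eq_zero_iff_mem, map_sub, map_mul, hU, hV, ← hφC, ← map_mul, ← map_mul,
      ← map_sub, ← map_sub]
    have : Ideal.Quotient.mk Iα (MvPowerSeries.X 0 * MvPowerSeries.X 1 - MvPowerSeries.C α) = 0 :=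
      Ideal.Quotient.eq_zero_iff_mem.mpr (Ideal.mem_span_singleton_self _)
    rw [this, map_zero]
  obtain ⟨c, hc⟩ := Ideal.mem_span_singleton'.mp hrel
  -- relations for the inverse
  have hinv : ∀ T : MvPowerSeries (Fin 2) A, ∃ (F₀ Fx Fy : A) (H₁ H₂ H₃ d : MvPowerSeries (Fin 2) A),
      T = MvPowerSeries.C F₀ + MvPowerSeries.C Fx * U + MvPowerSeries.C Fy * V
        + U * U * H₁ + U * V * H₂ + V * V * H₃
        + d * (MvPowerSeries.X 0 * MvPowerSeries.X 1 - MvPowerSeries.C β) := by
    intro T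
    obtain ⟨z, hz⟩ := φ.surjective (Ideal.Quotient.mk Iβ T)
    obtain ⟨F, rfl⟩ := Ideal.Quotient.mk_surjective z
    obtain ⟨F₀, Fx, Fy, h₁, h₂, h₃, hF⟩ := exists_decompA F
    obtain ⟨H₁, hH₁⟩ := Ideal.Quotient.mk_surjective (φ (Ideal.Quotient.mk Iα h₁))
    obtain ⟨H₂, hH₂⟩ := Ideal.Quotient.mk_surjective (φ (Ideal.Quotient.mk Iα h₂))
    obtain ⟨H₃, hH₃⟩ := Ideal.Quotient.mk_surjective (φ (Ideal.Quotient.mk Iα h₃))
    have hmem : T - (MvPowerSeries.C F₀ + MvPowerSeries.C Fx * U + MvPowerSeries.C Fy * V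
        + U * U * H₁ + U * V * H₂ + V * V * H₃) ∈ Iβ := by
      rw [← Ideal.Quotient.eq_zero_iff_mem, map_sub, ← hz, hF]
      simp only [map_add, map_mul, map_pow, hφC, hU, hV, hH₁, hH₂, hH₃]
      ring
    obtain ⟨d, hd⟩ := Ideal.mem_span_singleton'.mp hmem
    exact ⟨F₀, Fx, Fy, H₁, H₂, H₃, d, by rw [hd]; ring⟩
  obtain ⟨F₀, Fx, Fy, H₁, H₂, H₃, d, hX0⟩ := hinv (MvPowerSeries.X 0)
  obtain ⟨G₀, Gx, Gy, K₁, K₂, K₃, d', hX1⟩ := hinv (MvPowerSeries.X 1)
  have e00 := lam_relation β hβ U V _ H₁ H₂ H₃ d F₀ Fx Fy hcU hcV hX0 0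
  have e10 := lam_relation β hβ U V _ H₁ H₂ H₃ d F₀ Fx Fy hcU hcV hX0 1
  have e01 := lam_relation β hβ U V _ K₁ K₂ K₃ d' G₀ Gx Gy hcU hcV hX1 0
  have e11 := lam_relation β hβ U V _ K₁ K₂ K₃ d' G₀ Gx Gy hcU hcV hX1 1
  rw [lam_X] at e00 e10 e01 e11
  simp only [if_true, Fin.isValue, one_ne_zero, zero_ne_one, if_false] at e00 e10 e01 e11
  -- the Jacobian is a unit
  have hdetres : (lam 0 U * lam 1 V - lam 1 U * lam 0 V) *
      (IsLocalRing.residue A Fx * IsLocalRing.residue A Gy
        - IsLocalRing.residue A Fy * IsLocalRing.residue A Gx) = 1 := by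
    calc (lam 0 U * lam 1 V - lam 1 U * lam 0 V) *
      (IsLocalRing.residue A Fx * IsLocalRing.residue A Gy
        - IsLocalRing.residue A Fy * IsLocalRing.residue A Gx)
        = (IsLocalRing.residue A Fx * lam 0 U + IsLocalRing.residue A Fy * lam 0 V) *
            (IsLocalRing.residue A Gx * lam 1 U + IsLocalRing.residue A Gy * lam 1 V)
          - (IsLocalRing.residue A Fx * lam 1 U + IsLocalRing.residue A Fy * lam 1 V) *
            (IsLocalRing.residue A Gx * lam 0 U + IsLocalRing.residue A Gy * lam 0 V) := by ring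
      _ = 1 := by rw [← e00, ← e10, ← e01, ← e11]; ring
  have hdet : IsUnit (lin 0 U * lin 1 V - lin 1 U * lin 0 V) := by
    rw [← IsLocalRing.notMem_maximalIdeal, ← IsLocalRing.residue_eq_zero_iff, map_sub, map_mul,
      map_mul]
    intro h0
    have : (lam 0 U * lam 1 V - lam 1 U * lam 0 V) = 0 := h0
    rw [this, zero_mul] at hdetres
    exact zero_ne_one hdetres
  -- coefficient equations
  have hcc := congrArg MvPowerSeries.constantCoeff hc
  rw [map_mul, cc_node, map_sub, map_mul, MvPowerSeries.constantCoeff_C] at hcc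
  have hl : ∀ i : Fin 2, lin i c * (-β) =
      lin i U * MvPowerSeries.constantCoeff V + MvPowerSeries.constantCoeff U * lin i V := by
    intro i
    have := congrArg (lin i) hc
    rw [lin_mul, cc_node, lin_node, mul_zero, add_zero, lin_sub, lin_C, sub_zero, lin_mul] at this
    exact this
  have h0 := hl 0
  have h1 := hl 1
  have hv : MvPowerSeries.constantCoeff V ∈ Ideal.span {β} := by
    rw [← Ideal.unit_mul_mem_iff_mem _ hdet, Ideal.mem_span_singleton']
    refine ⟨lin 1 V * (- lin 0 c) - lin 0 V * (- lin 1 c), ?_⟩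
    linear_combination (lin 1 V) * h0 - (lin 0 V) * h1
  have hu : MvPowerSeries.constantCoeff U ∈ Ideal.span {β} := by
    rw [← Ideal.unit_mul_mem_iff_mem _ hdet, Ideal.mem_span_singleton']
    refine ⟨lin 0 U * (- lin 1 c) - lin 1 U * (- lin 0 c), ?_⟩
    linear_combination (lin 0 U) * h1 - (lin 1 U) * h0
  have hα' : α = MvPowerSeries.constantCoeff U * MvPowerSeries.constantCoeff V
      + MvPowerSeries.constantCoeff c * β := by
    linear_combination hcc
  rw [hα']
  exact Ideal.add_mem _ (Ideal.mul_mem_right _ _ hu)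
    (Ideal.mul_mem_left _ _ (Ideal.mem_span_singleton_self β))

end key

open MvPowerSeries IsLocalRing in
/-- Let A be a Noetherian local ring and α, β two elements of its maximal ideal. If the quotient of the
power series ring in two variables over A by xy − α is isomorphic, as an A-algebra, to the quotient
by xy − β, then αA = βA. (The published statement allows any local ring A; it is taken Noetherian
here, the case in which an algebra isomorphism between these complete local rings is continuous for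
their adic topologies.) -/
theorem result
    (A : Type u) [CommRing A] [IsLocalRing A] [IsNoetherianRing A]
    (α β : A) (hα : α ∈ maximalIdeal A) (hβ : β ∈ maximalIdeal A)
    (φ : (MvPowerSeries (Fin 2) A ⧸ Ideal.span {(X 0 * X 1 - C α : MvPowerSeries (Fin 2) A)}) ≃ₐ[A] (MvPowerSeries (Fin 2) A ⧸ Ideal.span {(X 0 * X 1 - C β : MvPowerSeries (Fin 2) A)})) :
    Ideal.span {α} = Ideal.span {β} := by
  apply le_antisymm
  · rw [Ideal.span_singleton_le_iff_mem]
    exact key α β hα hβ φ
  · rw [Ideal.span_singleton_le_iff_mem]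
    exact key β α hβ hα φ.symm

end Groth.Agent.S17720
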