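-- S17721: unbounded denominators of the inverse series when the Newton polygon has a negative slope.
import Groth.Statements.S17721
import Mathlib.RingTheory.DiscreteValuationRing.Basic
import Mathlib.RingTheory.PowerSeries.Basic
import Mathlib.RingTheory.PowerSeries.NoZeroDivisors
import Mathlib.RingTheory.PrincipalIdealDomain
import Mathlib.RingTheory.UniqueFactorizationDomain.Basic
import Mathlib.RingTheory.Ideal.Quotient.Operations

set_option autoImplicit false
universe u
open CAlg

namespace Groth.Agent.S17721

open PowerSeries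

section Gauss

variable {R : Type u} [CommRing R] [IsDomain R] [IsDiscreteValuationRing R]

omit [IsDomain R] [IsDiscreteValuationRing R] in
/-- A power series all of whose coefficients are divisible by `ϖ` is `C ϖ` times a power series. -/
theorem exists_eq_C_mul (ϖ : R) (F : R⟦X⟧) (h : ∀ i, ϖ ∣ coeff i F) : ∃ F₁ : R⟦X⟧, F = C ϖ * F₁ := by
  choose c hc using h
  refine ⟨PowerSeries.mk c, ?_⟩
  ext i
  rw [coeff_C_mul, coeff_mk, hc i]

/-- Gauss lemma: if `ϖ` divides all the coefficients of `G * F` then it does so for `G` or `F`. -/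
theorem gauss (ϖ : R) (hϖ : Irreducible ϖ) (G F : R⟦X⟧) (h : ∀ i, ϖ ∣ coeff i (G * F)) :
    (∀ i, ϖ ∣ coeff i G) ∨ (∀ i, ϖ ∣ coeff i F) := by
  have hprime : Prime ϖ := UniqueFactorizationMonoid.irreducible_iff_prime.mp hϖ
  have : (Ideal.span {ϖ}).IsPrime := (Ideal.span_singleton_prime hprime.ne_zero).mpr hprime
  let q := Ideal.Quotient.mk (Ideal.span {ϖ})
  have hiff : ∀ H : R⟦X⟧, PowerSeries.map q H = 0 ↔ ∀ i, ϖ ∣ coeff i H := by
    intro H
    rw [PowerSeries.ext_iff]
    refine forall_congr' fun i => ?_
    rw [coeff_map, map_zero, Ideal.Quotient.eq_zero_iff_mem, Ideal.mem_span_singleton]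
  have h0 : PowerSeries.map q (G * F) = 0 := (hiff _).mpr h
  rw [map_mul, mul_eq_zero] at h0
  exact h0.imp (hiff G).mp (hiff F).mp

theorem dvd_coeff_of_mul_eq_C (ϖ : R) (hϖ : Irreducible ϖ) :
    ∀ (n : ℕ) (G F : R⟦X⟧) (u : Rˣ), G * F = C ((u : R) * ϖ ^ n) → ∀ i, coeff 0 F ∣ coeff i F := by
  have hCϖ : (C ϖ : R⟦X⟧) ≠ 0 := by
    intro h
    have := congrArg (coeff 0) h
    simp at this
    exact hϖ.ne_zero this
  intro n
  induction n with
  | zero =>
    intro G F u h i
    have h0 := congrArg (coeff 0) h
    rw [coeff_mul] at h0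
    simp at h0
    have : IsUnit (coeff 0 F) := by
      refine IsUnit.of_mul_eq_one (↑u⁻¹ * coeff 0 G) ?_
      have h0' : constantCoeff G * constantCoeff F = u := by simpa using h0
      simp only [coeff_zero_eq_constantCoeff_apply]
      calc constantCoeff F * (↑u⁻¹ * constantCoeff G)
          = ↑u⁻¹ * (constantCoeff G * constantCoeff F) := by ring
        _ = 1 := by rw [h0']; simp
    exact this.dvd
  | succ n ih =>
    intro G F u h i
    have hdiv : ∀ j, ϖ ∣ coeff j (G * F) := by
      intro j
      rw [h, coeff_C]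
      split_ifs
      · exact Dvd.intro_left _ (by rw [pow_succ, mul_assoc])
      · exact dvd_zero _
    have hr : C ((u : R) * ϖ ^ (n + 1)) = C ϖ * C ((u : R) * ϖ ^ n) := by
      rw [← map_mul]; congr 1; ring
    rcases gauss ϖ hϖ G F hdiv with hG | hF
    · obtain ⟨G₁, rfl⟩ := exists_eq_C_mul ϖ G hG
      have h1 : G₁ * F = C ((u : R) * ϖ ^ n) := by
        apply mul_left_cancel₀ hCϖ
        rw [← mul_assoc, h, hr]
      exact ih G₁ F u h1 i
    · obtain ⟨F₁, rfl⟩ := exists_eq_C_mul ϖ F hF
      have h1 : G * F₁ = C ((u : R) * ϖ ^ n) := by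
        apply mul_left_cancel₀ hCϖ
        rw [← hr, ← h]; ring
      have := ih G F₁ u h1 i
      rw [coeff_C_mul, coeff_C_mul]
      exact mul_dvd_mul_left ϖ this

end Gauss

open Polynomial IsLocalRing in
/-- Let R be a complete discrete valuation ring with fraction field K, and f a polynomial over R with
non-zero constant term a₀ such that a₀ does not divide some coefficient of f of positive degree
(equivalently, the Newton polygon of f has a side of negative slope). Let b be the power series over
K with b · f = a₀, the expansion of the geometric series in 1 − f/a₀. Then the valuations of the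
coefficients b_j are not bounded below: for every non-zero c in R there is an index j with c · b_j
outside R. -/
theorem result
    (R : Type u) [CommRing R] [IsDomain R] [IsDiscreteValuationRing R]
    [IsAdicComplete (maximalIdeal R) R]
    (K : Type u) [Field K] [Algebra R K] [IsFractionRing R K]
    (f : R[X]) (h0 : f.coeff 0 ≠ 0) (hslope : ∃ i : ℕ, 0 < i ∧ ¬ (f.coeff 0 ∣ f.coeff i))
    (b : PowerSeries K)
    (hb : b * ((f.map (algebraMap R K) : K[X]) : PowerSeries K) = PowerSeries.C (algebraMap R K (f.coeff 0))) :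
    ∀ c : R, c ≠ 0 → ∃ j : ℕ, algebraMap R K c * PowerSeries.coeff j b ∉ (algebraMap R K).range := by
  intro c hc
  by_contra hcon
  push Not at hcon
  choose g hg using hcon
  let G : R⟦X⟧ := PowerSeries.mk g
  have hinj : Function.Injective (algebraMap R K) := IsFractionRing.injective R K
  have hG : PowerSeries.map (algebraMap R K) G = PowerSeries.C (algebraMap R K c) * b := by
    ext j
    rw [PowerSeries.coeff_map, PowerSeries.coeff_mk, PowerSeries.coeff_C_mul]
    exact hg j
  have hf : PowerSeries.map (algebraMap R K) (f : R⟦X⟧) =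
      ((f.map (algebraMap R K) : K[X]) : PowerSeries K) := by
    ext j
    simp
  have hprod : G * (f : R⟦X⟧) = PowerSeries.C (c * f.coeff 0) := by
    apply PowerSeries.map_injective (algebraMap R K) hinj
    rw [map_mul, hG, hf, mul_assoc, hb, ← map_mul, PowerSeries.map_C, map_mul (algebraMap R K)]
  obtain ⟨ϖ, hϖ⟩ := IsDiscreteValuationRing.exists_irreducible R
  obtain ⟨n, u, hu⟩ := IsDiscreteValuationRing.eq_unit_mul_pow_irreducible
    (mul_ne_zero hc h0) hϖ
  rw [hu] at hprod
  obtain ⟨i, _, hi⟩ := hslope
  apply hi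
  have := dvd_coeff_of_mul_eq_C ϖ hϖ n G (f : R⟦X⟧) u hprod i
  simpa using this

end Groth.Agent.S17721
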