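-- S17722: principal ideals descend along faithfully flat local maps (Nakayama + contraction of extension).
import Groth.Statements.S17722
import Mathlib.RingTheory.Flat.FaithfullyFlat.Algebra
import Mathlib.RingTheory.Nakayama
import Mathlib.RingTheory.Jacobson.Ideal
import Mathlib.RingTheory.LocalRing.MaximalIdeal.Basic

set_option autoImplicit false
universe u
open CAlg

namespace Groth.Agent.S17722

/-- Let R → R' be a faithfully flat ring map between Noetherian integrally closed local domains, and p
an ideal of R. If the ideal pR' generated by the image of p is principal, then p is principal. (The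
second assertion of the published lemma, descent of unique factorization, is not part of this row.) -/
theorem result
    (R R' : Type u) [CommRing R] [CommRing R'] [IsDomain R] [IsDomain R']
    [IsNoetherianRing R] [IsNoetherianRing R'] [IsLocalRing R] [IsLocalRing R']
    [IsIntegrallyClosed R] [IsIntegrallyClosed R']
    [Algebra R R'] [Module.FaithfullyFlat R R']
    (p : Ideal R) (hp : (p.map (algebraMap R R')).IsPrincipal) :
    p.IsPrincipal := by
  obtain ⟨x, hx⟩ := hp.principal
  change p.map (algebraMap R R') = Ideal.span {x} at hx
  by_cases h : ∃ a ∈ p, ∃ d : R', IsUnit d ∧ algebraMap R R' a = d * x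
  · obtain ⟨a, ha, d, hd, had⟩ := h
    have h1 : (Ideal.span {a}).map (algebraMap R R') = p.map (algebraMap R R') := by
      rw [Ideal.map_span, Set.image_singleton, hx, had, Ideal.span_singleton_mul_left_unit hd]
    have h2 : p = Ideal.span {a} := by
      rw [← Ideal.comap_map_eq_self_of_faithfullyFlat (B := R') p, ← h1,
        Ideal.comap_map_eq_self_of_faithfullyFlat]
    exact ⟨⟨a, h2⟩⟩
  · push Not at h
    have hxmem : x ∈ p.map (algebraMap R R') := hx ▸ Ideal.subset_span (Set.mem_singleton x)
    have hle : p.map (algebraMap R R') ≤
        IsLocalRing.maximalIdeal R' • p.map (algebraMap R R') := by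
      rw [Ideal.map, Ideal.span_le]
      rintro _ ⟨a, ha, rfl⟩
      have h1 : algebraMap R R' a ∈ Ideal.span {x} := hx ▸ Ideal.mem_map_of_mem _ ha
      obtain ⟨d, hd⟩ := Ideal.mem_span_singleton'.mp h1
      have hdm : d ∈ IsLocalRing.maximalIdeal R' := by
        rw [IsLocalRing.mem_maximalIdeal]
        intro hdu
        exact h a ha d hdu hd.symm
      rw [← hd, smul_eq_mul]
      exact Ideal.mul_mem_mul hdm hxmem
    have hbot : p.map (algebraMap R R') = ⊥ :=
      Submodule.eq_bot_of_le_smul_of_le_jacobson_bot (IsLocalRing.maximalIdeal R') _
        (IsNoetherian.noetherian _) hle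
        (by rw [IsLocalRing.jacobson_eq_maximalIdeal ⊥ bot_ne_top])
    have hp0 : p = ⊥ := by
      rw [← Ideal.comap_map_eq_self_of_faithfullyFlat (B := R') p, hbot,
        ← Ideal.map_bot (f := algebraMap R R'), Ideal.comap_map_eq_self_of_faithfullyFlat]
    rw [hp0]
    exact bot_isPrincipal

end Groth.Agent.S17722
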