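-- S17723: Cartier functions on a labelled graph are ℤ-combinations of elementary-Cartier functions.
import Groth.Statements.S17723
import Mathlib.Data.Nat.Prime.Basic
import Mathlib.Data.Int.GCD
import Mathlib.Data.Int.ModEq
import Mathlib.Data.Nat.GCD.BigOperators
import Mathlib.Tactic.LinearCombination
import Mathlib.RingTheory.Coprime.Lemmas
import Mathlib.Algebra.BigOperators.Ring.Finset
import Mathlib.Algebra.Order.BigOperators.Group.Finset
import Mathlib.LinearAlgebra.Span.Basic
import Mathlib.Tactic.Ring
import Mathlib.Tactic.Linarith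

set_option autoImplicit false
universe u
open LabGraph

namespace Groth.Agent.S17723

section

variable {V E : Type u} [Fintype V] [Fintype E] [DecidableEq V] [DecidableEq E]

/-- The set of elementary-Cartier functions. -/
def T (ends : E → V × V) (l : E → ℕ) : Set (V → ℤ) :=
  {g : V → ℤ | ∃ n : ℕ, 0 < n ∧ (∀ v, (n : ℤ) ∣ g v) ∧
      ∀ e, ¬ (l e ∣ n) → g (ends e).1 = g (ends e).2}

/-- Dividing the labels divisible by `p` by `p`. -/
def l' (l : E → ℕ) (p : ℕ) (e : E) : ℕ := if p ∣ l e then l e / p else l e

omit [Fintype V] [Fintype E] [DecidableEq V] [DecidableEq E] in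
theorem smul_mem_T (ends : E → V × V) (l : E → ℕ) (p : ℕ) (hp : 0 < p) (g : V → ℤ)
    (hg : g ∈ T ends (l' l p)) : ((p : ℤ) • g) ∈ T ends l := by
  obtain ⟨n, hn, hdiv, heq⟩ := hg
  refine ⟨p * n, Nat.mul_pos hp hn, fun v => ?_, fun e he => ?_⟩
  · simp only [Pi.smul_apply, smul_eq_mul, Nat.cast_mul]
    exact mul_dvd_mul_left _ (hdiv v)
  · simp only [Pi.smul_apply, smul_eq_mul]
    rw [heq e]
    intro h
    apply he
    unfold l' at h
    split_ifs at h with hpl
    · obtain ⟨k, hk⟩ := hpl
      rw [hk, Nat.mul_div_cancel_left _ hp] at h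
      rw [hk]
      exact Nat.mul_dvd_mul_left p h
    · exact Dvd.dvd.mul_left h p

theorem main (ends : E → V × V) : ∀ (N : ℕ) (l : E → ℕ), (∀ e, 0 < l e) → ∑ e, l e ≤ N →
    ∀ f : V → ℤ, IsCartier ends l f → f ∈ Submodule.span ℤ (T ends l) := by
  intro N
  induction N with
  | zero =>
    intro l hl hsum f hf
    -- all labels vanish, impossible unless `E` is empty; in any case every label divides 1
    have hl0 : ∀ e, l e = 0 := fun e => by
      have := Finset.single_le_sum (f := l) (fun i _ => Nat.zero_le _) (Finset.mem_univ e)
      omega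
    refine Submodule.subset_span ⟨1, one_pos, fun v => by simp, fun e he => ?_⟩
    exact absurd (hl0 e) (Nat.pos_iff_ne_zero.mp (hl e))
  | succ N ih =>
    intro l hl hsum f hf
    by_cases hall : ∀ e, l e = 1
    · refine Submodule.subset_span ⟨1, one_pos, fun v => by simp, fun e he => ?_⟩
      exact absurd (by rw [hall e]) he
    · push Not at hall
      obtain ⟨e₀, he₀⟩ := hall
      obtain ⟨p, hp, hpe₀⟩ := Nat.exists_prime_and_dvd he₀
      have hp0 : 0 < p := hp.pos
      have hpZ : (p : ℤ) ≠ 0 := by exact_mod_cast hp.ne_zero
      -- the product of the labels prime to `p`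
      let L : ℕ := ∏ e ∈ Finset.univ.filter (fun e => ¬ p ∣ l e), l e
      have hLp : Nat.Coprime L p := by
        apply Nat.Coprime.prod_left
        intro e he
        rw [Finset.mem_filter] at he
        exact ((Nat.Prime.coprime_iff_not_dvd hp).mpr he.2).symm
      have hcop : IsCoprime (L : ℤ) (p : ℤ) := Nat.isCoprime_iff_coprime.mpr hLp
      obtain ⟨a, b, hab⟩ := hcop
      set c : ℤ := a * L with hc
      have hc1 : (p : ℤ) ∣ c - 1 := ⟨-b, by linear_combination hab⟩
      have hLc : (L : ℤ) ∣ c := Dvd.intro_left a rfl
      have hc0 : c ≠ 0 := by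
        intro h0
        rw [h0] at hc1
        have h1 : (p : ℤ) ∣ 1 := by simpa using hc1
        have h2 : p ∣ 1 := by exact_mod_cast h1
        exact hp.one_lt.ne' (Nat.dvd_one.mp h2)
      -- residues mod p
      let ft : V → ℤ := fun v => f v % p
      have hft : ∀ e, p ∣ l e → ft (ends e).1 = ft (ends e).2 := by
        intro e hpe
        have h1 : (p : ℤ) ∣ f (ends e).1 - f (ends e).2 :=
          dvd_trans (by exact_mod_cast hpe) (hf e)
        have h2 : f (ends e).2 ≡ f (ends e).1 [ZMOD p] := Int.modEq_iff_dvd.mpr h1
        exact h2.symm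
      have hftp : ∀ v, (p : ℤ) ∣ f v - ft v := fun v => Int.dvd_self_sub_emod
      let f₀ : V → ℤ := fun v => c * ft v
      have hf₀p : ∀ v, (p : ℤ) ∣ f v - f₀ v := fun v => by
        have : f v - f₀ v = (f v - ft v) - (c - 1) * ft v := by simp only [f₀]; ring
        rw [this]
        exact dvd_sub (hftp v) (Dvd.dvd.mul_right hc1 _)
      choose h hh using hf₀p
      -- `f = f₀ + p • h`
      have hdecomp : f = f₀ + (p : ℤ) • h := by
        funext v
        simp only [Pi.add_apply, Pi.smul_apply, smul_eq_mul]
        linarith [hh v]
      -- `f₀` is elementary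
      have hf₀T : f₀ ∈ T ends l := by
        refine ⟨c.natAbs, Int.natAbs_pos.mpr hc0, fun v => ?_, fun e he => ?_⟩
        · rw [Int.natAbs_dvd]
          exact Dvd.intro _ rfl
        · have hpe : p ∣ l e := by
            by_contra hnp
            apply he
            have h1 : l e ∣ L := Finset.dvd_prod_of_mem l (by simp [hnp])
            have h2 : (l e : ℤ) ∣ c := dvd_trans (by exact_mod_cast h1) hLc
            exact Int.natCast_dvd.mp h2
          simp only [f₀]
          rw [hft e hpe]
      -- `h` is Cartier for the divided labels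
      have hhC : IsCartier ends (l' l p) h := by
        intro e
        have hD : (p : ℤ) * (h (ends e).1 - h (ends e).2) =
            (f (ends e).1 - f (ends e).2) - (f₀ (ends e).1 - f₀ (ends e).2) := by
          rw [mul_sub, ← hh, ← hh]; ring
        unfold l'
        split_ifs with hpe
        · obtain ⟨k, hk⟩ := hpe
          rw [hk, Nat.mul_div_cancel_left _ hp0]
          have h0 : f₀ (ends e).1 - f₀ (ends e).2 = 0 := by
            simp only [f₀]
            rw [hft e ⟨k, hk⟩, sub_self]
          rw [h0, sub_zero] at hD
          have h1 : ((p * k : ℕ) : ℤ) ∣ f (ends e).1 - f (ends e).2 := hk ▸ hf e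
          rw [← hD] at h1
          push_cast at h1
          exact (mul_dvd_mul_iff_left hpZ).mp h1
        · have h1 : (l e : ℤ) ∣ f₀ (ends e).1 - f₀ (ends e).2 := by
            have hL : l e ∣ L := Finset.dvd_prod_of_mem l (by simp [hpe])
            have h2 : (l e : ℤ) ∣ c := dvd_trans (by exact_mod_cast hL) hLc
            simp only [f₀]
            rw [← mul_sub]
            exact Dvd.dvd.mul_right h2 _
          have h2 : (l e : ℤ) ∣ (p : ℤ) * (h (ends e).1 - h (ends e).2) := by
            rw [hD]
            exact dvd_sub (hf e) h1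
          have hcop' : IsCoprime (l e : ℤ) (p : ℤ) :=
            Nat.isCoprime_iff_coprime.mpr ((Nat.Prime.coprime_iff_not_dvd hp).mpr hpe).symm
          exact hcop'.dvd_of_dvd_mul_left h2
      -- induction hypothesis for `h`
      have hl'pos : ∀ e, 0 < l' l p e := by
        intro e
        unfold l'
        split_ifs with hpe
        · exact Nat.div_pos (Nat.le_of_dvd (hl e) hpe) hp0
        · exact hl e
      have hl'le : ∀ e, l' l p e ≤ l e := by
        intro e
        unfold l'
        split_ifs with hpe
        · exact Nat.div_le_self _ _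
        · exact le_refl _
      have hl'lt : l' l p e₀ < l e₀ := by
        unfold l'
        rw [if_pos hpe₀]
        exact Nat.div_lt_self (hl e₀) hp.one_lt
      have hsum' : ∑ e, l' l p e ≤ N := by
        have : ∑ e, l' l p e < ∑ e, l e :=
          Finset.sum_lt_sum (fun e _ => hl'le e) ⟨e₀, Finset.mem_univ _, hl'lt⟩
        omega
      have hIH := ih (l' l p) hl'pos hsum' h hhC
      have hsmul : (p : ℤ) • h ∈ Submodule.span ℤ (T ends l) := by
        have hle : Submodule.span ℤ (T ends (l' l p)) ≤
            (Submodule.span ℤ (T ends l)).comap ((p : ℤ) • (LinearMap.id : (V → ℤ) →ₗ[ℤ] (V → ℤ))) := by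
          rw [Submodule.span_le]
          intro g hg
          exact Submodule.subset_span (smul_mem_T ends l p hp0 g hg)
        exact hle hIH
      rw [hdecomp]
      exact Submodule.add_mem _ (Submodule.subset_span hf₀T) hsmul

end

/-- Let G be a finite connected multigraph with endpoint map ends and edge labels l taking positive
integer values. We say g : V → ℤ is elementary-Cartier if, for some integer n ≥ 1, all values of g
are multiples of n and, for each edge whose label fails to divide n, g agrees at its two endpoints
(equivalently, once the edges with label dividing n are removed, g takes a single value on each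
connected piece of what remains). Then every Cartier function f (for each edge, the label divides
the difference of the values of f at its endpoints) lies in the ℤ-span of the elementary-Cartier
functions. -/
theorem result
    {V E : Type u} [Fintype V] [Fintype E] [DecidableEq V] [DecidableEq E]
    (ends : E → V × V) (l : E → ℕ) (hl : ∀ e, 0 < l e) (hconn : LabGraph.Connected ends)
    (f : V → ℤ) (hf : LabGraph.IsCartier ends l f) :
    f ∈ Submodule.span ℤ {g : V → ℤ | ∃ n : ℕ, 0 < n ∧ (∀ v, (n : ℤ) ∣ g v) ∧
      ∀ e, ¬ (l e ∣ n) → g (ends e).1 = g (ends e).2} := by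
  exact main ends _ l hl (le_refl _) f hf

end Groth.Agent.S17723
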