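import Groth.Statements.S17724
import Groth.Agent.Lib.LabGraphTree3

set_option autoImplicit false
universe u v
open LabGraph

namespace Groth.Agent.S17724

/-- Let G be a finite connected multigraph with endpoint map ends, whose edges carry labels lab in a set
L and positive integer labels n, and suppose the L-labels are constant along every circuit. Say g :
V → ℤ is pre-achievable when for some finite set B of edges all carrying the same L-label, g takes
equal values at the two endpoints of every edge outside B (so g is constant on the connected
components of the graph with B deleted); say g is Cartier when for every edge e the integer n(e)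
divides the difference of the values of g at its endpoints. Then every Cartier function f is a
finite sum of functions each of which is Cartier and pre-achievable, and when f vanishes at a vertex
v₀ the summands can all be taken to vanish at v₀. -/
theorem result
    {V E : Type u} [Fintype V] [Fintype E] [DecidableEq V] [DecidableEq E] {L : Type v}
    (ends : E → V × V) (lab : E → L) (n : E → ℕ) (hn : ∀ e, 0 < n e)
    (hconn : LabGraph.Connected ends)
    (hcirc : ∀ C : Finset E, LabGraph.IsCircuit ends C → ∀ e ∈ C, ∀ e' ∈ C, lab e = lab e')
    (f : V → ℤ) (hf : LabGraph.IsCartier ends n f) :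
    f ∈ AddSubmonoid.closure {g : V → ℤ | LabGraph.IsCartier ends n g ∧ (∃ B : Finset E, (∀ e ∈ B, ∀ e' ∈ B, lab e = lab e') ∧ ∀ e, e ∉ B → g (ends e).1 = g (ends e).2)} ∧
    ∀ v₀ : V, f v₀ = 0 →
      f ∈ AddSubmonoid.closure {g : V → ℤ | LabGraph.IsCartier ends n g ∧ (∃ B : Finset E, (∀ e ∈ B, ∀ e' ∈ B, lab e = lab e') ∧ ∀ e, e ∉ B → g (ends e).1 = g (ends e).2) ∧ g v₀ = 0} := by
  open Groth.Agent.Lib.LabGraphTree in
  classical
  obtain ⟨T, hT⟩ := exists_isSpanningTree ends hconn
  have key : ∀ v₀ : V, ∃ S : V → ℤ,
      S ∈ AddSubmonoid.closure {g : V → ℤ | LabGraph.IsCartier ends n g ∧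
        (∃ B : Finset E, (∀ e ∈ B, ∀ e' ∈ B, lab e = lab e') ∧
          ∀ e, e ∉ B → g (ends e).1 = g (ends e).2) ∧ g v₀ = 0} ∧
      ∀ v, f v = S v + f v₀ := by
    intro v₀
    -- the piece of the coboundary of `f` carried by the label `lam`
    set x : L → E → ℤ := fun lam e =>
      if lab e = lam then f (ends e).2 - f (ends e).1 else 0 with hx
    have hxorth : ∀ lam : L, ∀ C : Finset E, LabGraph.IsCircuit ends C → ∀ γ : E → ℤ,
        Matrix.mulVec (incR ℤ ends) γ = 0 → (∀ e, e ∉ C → γ e = 0) →
          ∑ e, γ e * x lam e = 0 := by
      intro lam C hC γ hγ0 hγC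
      obtain ⟨e₁, he₁⟩ := hC.1
      by_cases hlam : lab e₁ = lam
      · have h1 := sum_mul_coboundary ends γ f
        rw [hγ0] at h1
        simp only [Pi.zero_apply, mul_zero, Finset.sum_const_zero] at h1
        rw [← h1]
        refine Finset.sum_congr rfl fun e _ => ?_
        by_cases heC : e ∈ C
        · have : lab e = lam := (hcirc C hC e heC e₁ he₁).trans hlam
          simp only [hx, if_pos this]
        · rw [hγC e heC, zero_mul, zero_mul]
      · refine Finset.sum_eq_zero fun e _ => ?_
        by_cases heC : e ∈ C
        · have : lab e ≠ lam := fun h => hlam ((hcirc C hC e₁ he₁ e heC).trans h)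
          simp only [hx, if_neg this, mul_zero]
        · rw [hγC e heC, zero_mul]
    have hg : ∀ lam : L, ∃ g : V → ℤ, g v₀ = 0 ∧
        ∀ e, g (ends e).2 - g (ends e).1 = x lam e := by
      intro lam
      obtain ⟨g, hg0, hgT⟩ := exists_tree_potential ends T hT v₀ (x lam)
      exact ⟨g, hg0, coboundary_eq_of_tree ends T hT g (x lam) hgT (hxorth lam)⟩
    choose g hg0 hgx using hg
    refine ⟨∑ lam ∈ Finset.univ.image lab, g lam, ?_, ?_⟩
    · refine AddSubmonoid.sum_mem _ fun lam _ => AddSubmonoid.subset_closure ?_
      refine ⟨fun e => ?_, ⟨Finset.univ.filter fun e => lab e = lam, ?_, ?_⟩, hg0 lam⟩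
      · have h1 := hgx lam e
        have h2 : g lam (ends e).1 - g lam (ends e).2 = -x lam e := by linarith
        rw [h2]
        simp only [hx]
        split_ifs
        · have := hf e
          rw [neg_sub]
          exact this
        · simp
      · intro e he e' he'
        simp only [Finset.mem_filter, Finset.mem_univ, true_and] at he he'
        rw [he, he']
      · intro e he
        simp only [Finset.mem_filter, Finset.mem_univ, true_and] at he
        have h1 := hgx lam e
        simp only [hx, if_neg he] at h1
        linarith
    · -- the sum has the same coboundary as `f`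
      set S : V → ℤ := ∑ lam ∈ Finset.univ.image lab, g lam with hS
      have hSe : ∀ e, S (ends e).2 - S (ends e).1 = f (ends e).2 - f (ends e).1 := by
        intro e
        simp only [hS, Finset.sum_apply]
        rw [← Finset.sum_sub_distrib]
        simp only [hgx, hx]
        rw [Finset.sum_ite_eq, if_pos (Finset.mem_image_of_mem lab (Finset.mem_univ e))]
      have hconst := eq_of_coboundary_eq_zero ends hconn (fun v => f v - S v) (fun e => by
        have := hSe e
        show f (ends e).2 - S (ends e).2 = f (ends e).1 - S (ends e).1
        linarith)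
      have hS0 : S v₀ = 0 := by
        simp only [hS, Finset.sum_apply]
        exact Finset.sum_eq_zero fun lam _ => hg0 lam
      intro v
      have h5 : f v - S v = f v₀ - S v₀ := hconst v v₀
      rw [hS0] at h5
      linarith
  constructor
  · obtain ⟨v₀⟩ := hconn.1
    obtain ⟨S, hS, hfS⟩ := key v₀
    have hf' : f = S + fun _ => f v₀ := by
      funext v
      exact hfS v
    rw [hf']
    refine AddSubmonoid.add_mem _ ?_ ?_
    · refine AddSubmonoid.closure_mono ?_ hS
      rintro g ⟨h1, h2, -⟩
      exact ⟨h1, h2⟩
    · refine AddSubmonoid.subset_closure ⟨fun e => ?_, ∅, ?_, ?_⟩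
      · simp
      · intro e he
        exact absurd he (Finset.notMem_empty e)
      · intro e _
        rfl
  · intro v₀ hv₀
    obtain ⟨S, hS, hfS⟩ := key v₀
    have hf' : f = S := by
      funext v
      rw [hfS v, hv₀, add_zero]
    rw [hf']
    exact hS

end Groth.Agent.S17724
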