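-- S17725: in a connected Noetherian scheme any two points are linked by a chain of specializations.
import Groth.Statements.S17725
import Mathlib.Topology.NoetherianSpace
import Mathlib.Topology.Sober
import Mathlib.AlgebraicGeometry.Noetherian
import Mathlib.AlgebraicGeometry.Properties

set_option autoImplicit false
universe u
open SpecSp

namespace Groth.Agent.S17725

open TopologicalSpace in
/-- Topological version. -/
theorem eqvGen_specializes {X : Type*} [TopologicalSpace X] [NoetherianSpace X] [QuasiSober X]
    [PreconnectedSpace X] (p q : X) : Relation.EqvGen (fun x y : X => x ⤳ y) p q := by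
  classical
  -- generic points of the irreducible components
  have hgen : ∀ Z ∈ irreducibleComponents X, ∃ η : X, IsGenericPoint η Z := fun Z hZ =>
    QuasiSober.sober hZ.1 (isClosed_of_mem_irreducibleComponents Z hZ)
  -- the class of `p` and its complement are finite unions of irreducible components
  let r : X → X → Prop := Relation.EqvGen (fun x y : X => x ⤳ y)
  have hr : Equivalence r := Relation.EqvGen.is_equivalence _
  -- key: a point is related to every generic point of a component containing it
  have key : ∀ (Z : Set X) (η y : X), IsGenericPoint η Z → y ∈ Z → r η y := fun Z η y hη hy =>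
    Relation.EqvGen.rel _ _ (hη.specializes hy)
  have hfin : (irreducibleComponents X).Finite := NoetherianSpace.finite_irreducibleComponents
  have hclosed : ∀ P : X → Prop, (∀ x y, r x y → (P x ↔ P y)) → IsClosed {y | P y} := by
    intro P hP
    have : {y | P y} = ⋃ Z ∈ {Z ∈ irreducibleComponents X | ∀ y ∈ Z, P y}, Z := by
      ext y
      simp only [Set.mem_ofPred_eq, Set.mem_iUnion, exists_prop]
      constructor
      · intro hy
        refine ⟨irreducibleComponent y, ⟨irreducibleComponent_mem_irreducibleComponents y, ?_⟩,
          mem_irreducibleComponent⟩
        intro z hz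
        obtain ⟨η, hη⟩ := hgen _ (irreducibleComponent_mem_irreducibleComponents y)
        have h1 : r η y := key _ η y hη mem_irreducibleComponent
        have h2 : r η z := key _ η z hη hz
        exact (hP _ _ h2).mp ((hP _ _ h1).mpr hy)
      · rintro ⟨Z, ⟨_, hZ⟩, hy⟩
        exact hZ y hy
    rw [this]
    refine Set.Finite.isClosed_biUnion (hfin.subset fun Z hZ => hZ.1) fun Z hZ => ?_
    exact isClosed_of_mem_irreducibleComponents Z hZ.1
  have h1 : IsClosed {y | r p y} := hclosed (fun y => r p y) fun x y hxy =>
    ⟨fun h => hr.trans h hxy, fun h => hr.trans h (hr.symm hxy)⟩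
  have h2 : IsClosed {y | ¬ r p y} := hclosed (fun y => ¬ r p y) fun x y hxy =>
    not_congr ⟨fun h => hr.trans h hxy, fun h => hr.trans h (hr.symm hxy)⟩
  have hclopen : IsClopen {y | r p y} := ⟨h1, by
    rw [← isClosed_compl_iff]; exact h2⟩
  have huniv : {y | r p y} = Set.univ :=
    (isClopen_iff.mp hclopen).resolve_left (fun h => by
      have : p ∈ ({y | r p y} : Set X) := hr.refl p
      rw [h] at this
      exact this)
  have : q ∈ {y | r p y} := huniv ▸ Set.mem_univ q
  exact this

open AlgebraicGeometry in
/-- In a connected Noetherian scheme any two points p, q are linked by a finite chain of points p = x₁,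
…, xₙ = q such that for each i one of x_i, x_{i+1} is a specialization of the other; equivalently, p
and q are related by the equivalence relation generated by the specialization relation. -/
theorem result
    (X : Scheme.{u}) [IsNoetherian X] [ConnectedSpace X] (p q : X) :
    Relation.EqvGen (fun x y : X => x ⤳ y) p q := by
  exact eqvGen_specializes p q

end Groth.Agent.S17725
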