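-- S17726: proportionality of exponents relating powers of two non-zero-divisors.
import Groth.Statements.S17726
import Mathlib.RingTheory.Ideal.Operations
import Mathlib.RingTheory.Ideal.Span
import Mathlib.Algebra.GroupWithZero.NonZeroDivisors
import Mathlib.Tactic.Ring
import Mathlib.Tactic.LinearCombination

set_option autoImplicit false
universe u
open CAlg

namespace Groth.Agent.S17726

/-- If `span {g^a} = span {g^b}` with `a < b` and `g` a non-zero-divisor then `g` is a unit. -/
theorem isUnit_of_span_pow_eq {A : Type u} [CommRing A] (g : A) (hg : g ∈ nonZeroDivisors A)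
    {a b : ℕ} (hab : a < b) (h : Ideal.span {g ^ a} = Ideal.span {g ^ b}) : IsUnit g := by
  have h1 : g ^ a ∈ Ideal.span {g ^ b} := h ▸ Ideal.subset_span (Set.mem_singleton _)
  obtain ⟨u, hu⟩ := Ideal.mem_span_singleton'.mp h1
  obtain ⟨c, rfl⟩ : ∃ c, b = a + (c + 1) := ⟨b - a - 1, by omega⟩
  have h2 : (u * g ^ (c + 1) - 1) * g ^ a = 0 := by
    have : u * g ^ (a + (c + 1)) = (u * g ^ (c + 1)) * g ^ a := by rw [pow_add]; ring
    rw [sub_mul, one_mul, ← this, hu, sub_self]
  have h3 : u * g ^ (c + 1) - 1 = 0 :=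
    (mul_right_mem_nonZeroDivisors_eq_zero_iff (pow_mem hg a)).mp h2
  have h4 : g * (u * g ^ c) = 1 := by
    rw [sub_eq_zero] at h3
    rw [← h3, pow_succ]; ring
  exact IsUnit.of_mul_eq_one _ h4

/-- If `span {g^m} = span {f^n}` with `g` a unit and `f` not a unit then `n = 0`. -/
theorem eq_zero_of_isUnit {A : Type u} [CommRing A] (f g : A) (hgu : IsUnit g) (hfu : ¬ IsUnit f)
    {m n : ℕ} (h : Ideal.span {g ^ m} = Ideal.span {f ^ n}) : n = 0 := by
  by_contra hn
  apply hfu
  have h1 : Ideal.span {f ^ n} = ⊤ := by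
    rw [← h, Ideal.span_singleton_eq_top]
    exact hgu.pow m
  rw [Ideal.span_singleton_eq_top] at h1
  exact (isUnit_pow_iff hn).mp h1

theorem span_pow_mul {A : Type u} [CommRing A] (f g : A) {m n : ℕ}
    (h : Ideal.span {g ^ m} = Ideal.span {f ^ n}) (k : ℕ) :
    Ideal.span {g ^ (m * k)} = Ideal.span {f ^ (n * k)} := by
  have h1 : Ideal.span {g ^ (m * k)} = Ideal.span {g ^ m} ^ k := by
    rw [pow_mul, Ideal.span_singleton_pow]
  have h2 : Ideal.span {f ^ (n * k)} = Ideal.span {f ^ n} ^ k := by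
    rw [pow_mul, Ideal.span_singleton_pow]
  rw [h1, h2, h]

/-- Let f and g be non-zero-divisors of a commutative ring A, not both units; think of them as local
equations, at a point of the union of the supports, of two effective Cartier divisors E and D. If
the ideals generated by g^{m₁} and f^{n₁} coincide, and likewise for g^{m₂} and f^{n₂}, then m₁ n₂ =
m₂ n₁. So all pairs (m, n) with m D = n E locally at the point are proportional, and the saturation
of the monoid they form is generated by a single element. -/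
theorem result
    (A : Type u) [CommRing A] (f g : A)
    (hf : f ∈ nonZeroDivisors A) (hg : g ∈ nonZeroDivisors A) (hfg : ¬ (IsUnit f ∧ IsUnit g))
    (m₁ n₁ m₂ n₂ : ℕ)
    (h₁ : Ideal.span {g ^ m₁} = Ideal.span {f ^ n₁})
    (h₂ : Ideal.span {g ^ m₂} = Ideal.span {f ^ n₂}) :
    m₁ * n₂ = m₂ * n₁ := by
  -- span {g^(m₁ n₂)} = span {f^(n₁ n₂)} = span {g^(m₂ n₁)}
  have e1 := span_pow_mul f g h₁ n₂
  have e2 := span_pow_mul f g h₂ n₁
  rw [mul_comm n₂ n₁] at e2
  have e3 : Ideal.span {g ^ (m₁ * n₂)} = Ideal.span {g ^ (m₂ * n₁)} := e1.trans e2.symm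
  by_contra hne
  have hgu : IsUnit g := by
    rcases lt_or_gt_of_ne hne with hlt | hgt
    · exact isUnit_of_span_pow_eq g hg hlt e3
    · exact isUnit_of_span_pow_eq g hg hgt e3.symm
  have hfu : ¬ IsUnit f := fun h => hfg ⟨h, hgu⟩
  have hn1 := eq_zero_of_isUnit f g hgu hfu h₁
  have hn2 := eq_zero_of_isUnit f g hgu hfu h₂
  apply hne
  rw [hn1, hn2, mul_zero, mul_zero]

end Groth.Agent.S17726
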