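-- S17727: a section through a point where f is generically an isomorphism: f is an open immersion nearby.
import Groth.Statements.S17727
import Mathlib.AlgebraicGeometry.AffineScheme

set_option autoImplicit false
universe u
open Neron

namespace Groth.Agent.S17727

open CategoryTheory AlgebraicGeometry

/-- transport of injectivity of restriction maps along equalities of opens -/
theorem inj_transport {E : Scheme.{u}} (A B A' B' : E.Opens) (h : A ≤ B) (h' : A' ≤ B')
    (eA : A = A') (eB : B = B')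
    (hinj : Function.Injective (E.presheaf.map (homOfLE h).op)) :
    Function.Injective (E.presheaf.map (homOfLE h').op) := by
  subst eA; subst eB; exact hinj

/-- `σ ∘ f` is the identity over `f⁻¹ U` when `f` is an isomorphism over `U`. -/
theorem section_comp_eq {E S : Scheme.{u}} (f : E ⟶ S) (U : S.Opens)
    (hiso : IsIso (morphismRestrict f U)) (σ : S ⟶ E) (hσ : σ ≫ f = 𝟙 S) :
    (f ⁻¹ᵁ U).ι ≫ f ≫ σ = (f ⁻¹ᵁ U).ι := by
  have hrange : Set.range (U.ι ≫ σ).base ⊆ Set.range (f ⁻¹ᵁ U).ι.base := by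
    rw [Scheme.Opens.range_ι]
    rintro _ ⟨x, rfl⟩
    change f.base ((U.ι ≫ σ).base x) ∈ U
    have h1 : (U.ι ≫ σ) ≫ f = U.ι := by rw [Category.assoc, hσ, Category.comp_id]
    have h2 := congrArg (fun m : (U : Scheme.{u}) ⟶ S => m.base x) h1
    simp only [Scheme.Hom.comp_base, TopCat.comp_app] at h2
    simp only [Scheme.Hom.comp_base, TopCat.comp_app]
    rw [h2]
    exact x.2
  let τ : (U : Scheme.{u}) ⟶ (f ⁻¹ᵁ U : E.Opens) := IsOpenImmersion.lift (f ⁻¹ᵁ U).ι (U.ι ≫ σ) hrange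
  have hτ : τ ≫ (f ⁻¹ᵁ U).ι = U.ι ≫ σ := IsOpenImmersion.lift_fac _ _ _
  have h1 : τ ≫ (f ∣_ U) = 𝟙 _ := by
    rw [← cancel_mono U.ι, Category.assoc, morphismRestrict_ι, reassoc_of% hτ, hσ,
      Category.comp_id, Category.id_comp]
  have h2 : (f ∣_ U) ≫ τ = 𝟙 _ := by
    have : τ = inv (f ∣_ U) := by
      rw [← cancel_mono (f ∣_ U), h1, IsIso.inv_hom_id]
    rw [this, IsIso.hom_inv_id]
  calc (f ⁻¹ᵁ U).ι ≫ f ≫ σ = ((f ∣_ U) ≫ U.ι) ≫ σ := by
        rw [morphismRestrict_ι, Category.assoc]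
    _ = (f ∣_ U) ≫ τ ≫ (f ⁻¹ᵁ U).ι := by rw [Category.assoc, hτ]
    _ = (f ⁻¹ᵁ U).ι := by rw [reassoc_of% h2]

/-- Let f : E → S be a morphism of schemes and U ⊆ S a schematically dense open subscheme such that f
restricts to an isomorphism over U and the preimage of U is schematically dense in E. Then for every
section σ of f and every point s of S there is an open neighbourhood W of σ(s) in E on which f
restricts to an open immersion. (The published statements conclude that the section lands in the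
étale locus of f, in one published form for an algebraic space E, in another for f locally of finite
type over a Noetherian base; the affine-local argument gives the sharper conclusion recorded here,
for schemes.) -/
theorem result
    {E S : Scheme.{u}} (f : E ⟶ S) (U : S.Opens) (hU : CInt.IsSchematicallyDense U)
    (hiso : IsIso (morphismRestrict f U)) (hdense : CInt.IsSchematicallyDense (f ⁻¹ᵁ U))
    (σ : S ⟶ E) (hσ : σ ≫ f = 𝟙 S) (s : S) :
    ∃ W : E.Opens, σ.base s ∈ W ∧ IsOpenImmersion (W.ι ≫ f) := by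
  have hfσ : ∀ t : S, f.base (σ.base t) = t := fun t => by
    have := congrArg (fun m : S ⟶ S => m.base t) hσ
    simpa using this
  -- an affine open neighbourhood `V` of `σ s`
  obtain ⟨V, hVaff, hsV, -⟩ := exists_isAffineOpen_mem_and_subset
    (X := E) (x := σ.base s) (U := ⊤) trivial
  let W : E.Opens := V ⊓ f ⁻¹ᵁ (σ ⁻¹ᵁ V)
  have hsW : σ.base s ∈ W := ⟨hsV, by
    change σ.base (f.base (σ.base s)) ∈ V
    rw [hfσ]; exact hsV⟩
  have hWV : W ≤ V := inf_le_left
  -- the two maps `W → V`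
  have hrange : Set.range (W.ι ≫ f ≫ σ).base ⊆ Set.range V.ι.base := by
    rw [Scheme.Opens.range_ι]
    rintro _ ⟨x, rfl⟩
    have := x.2.2
    simpa using this
  let a₁ : (W : Scheme.{u}) ⟶ V := E.homOfLE hWV
  let a₂ : (W : Scheme.{u}) ⟶ V := IsOpenImmersion.lift V.ι (W.ι ≫ f ≫ σ) hrange
  have ha₂ : a₂ ≫ V.ι = W.ι ≫ f ≫ σ := IsOpenImmersion.lift_fac _ _ _
  let j : ((W ⊓ f ⁻¹ᵁ U : E.Opens) : Scheme.{u}) ⟶ W := E.homOfLE inf_le_left
  have hj : j ≫ a₁ = j ≫ a₂ := by
    rw [← cancel_mono V.ι, Category.assoc, Category.assoc, ha₂, Scheme.homOfLE_ι,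
      Scheme.homOfLE_ι]
    have h1 : (W ⊓ f ⁻¹ᵁ U).ι = E.homOfLE (inf_le_right : W ⊓ f ⁻¹ᵁ U ≤ f ⁻¹ᵁ U) ≫ (f ⁻¹ᵁ U).ι :=
      (Scheme.homOfLE_ι _ _).symm
    have h2 : j ≫ W.ι = (W ⊓ f ⁻¹ᵁ U).ι := Scheme.homOfLE_ι _ _
    rw [reassoc_of% h2, h1, Category.assoc, section_comp_eq f U hiso σ hσ]
  have hjinj : Function.Injective j.appTop := by
    rw [Scheme.homOfLE_appTop]
    refine inj_transport _ _ _ _ inf_le_left _ ?_ ?_ (hdense W)
    · simp
    · simp
  have hmono : Mono j.appTop := ConcreteCategory.mono_of_injective _ hjinj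
  have ha : a₁ = a₂ := by
    have : IsAffine (V : Scheme.{u}) := hVaff
    apply ext_of_isAffine
    have := congrArg Scheme.Hom.appTop hj
    rw [Scheme.Hom.comp_appTop, Scheme.Hom.comp_appTop] at this
    exact (cancel_mono j.appTop).mp this
  have hW : W.ι ≫ f ≫ σ = W.ι := by
    rw [← ha₂, ← ha, Scheme.homOfLE_ι]
  -- now build the isomorphism `W ≅ σ⁻¹ W`
  let T : S.Opens := σ ⁻¹ᵁ W
  have hrα : Set.range (W.ι ≫ f).base ⊆ Set.range T.ι.base := by
    rw [Scheme.Opens.range_ι]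
    rintro _ ⟨x, rfl⟩
    change σ.base ((W.ι ≫ f).base x) ∈ W
    have := congrArg (fun m : (W : Scheme.{u}) ⟶ E => m.base x) hW
    simp only [Scheme.Hom.comp_base, TopCat.comp_app] at this
    simp only [Scheme.Hom.comp_base, TopCat.comp_app]
    rw [this]
    exact x.2
  have hrβ : Set.range (T.ι ≫ σ).base ⊆ Set.range W.ι.base := by
    rw [Scheme.Opens.range_ι]
    rintro _ ⟨x, rfl⟩
    exact x.2
  let α : (W : Scheme.{u}) ⟶ T := IsOpenImmersion.lift T.ι (W.ι ≫ f) hrα
  let β : (T : Scheme.{u}) ⟶ W := IsOpenImmersion.lift W.ι (T.ι ≫ σ) hrβ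
  have hα : α ≫ T.ι = W.ι ≫ f := IsOpenImmersion.lift_fac _ _ _
  have hβ : β ≫ W.ι = T.ι ≫ σ := IsOpenImmersion.lift_fac _ _ _
  have hαβ : α ≫ β = 𝟙 _ := by
    rw [← cancel_mono W.ι, Category.assoc, hβ, reassoc_of% hα, Category.id_comp]
    exact hW
  have hβα : β ≫ α = 𝟙 _ := by
    rw [← cancel_mono T.ι, Category.assoc, hα, reassoc_of% hβ, hσ, Category.comp_id,
      Category.id_comp]
  have : IsIso α := ⟨β, hαβ, hβα⟩
  refine ⟨W, hsW, ?_⟩
  rw [← hα]
  infer_instance

end Groth.Agent.S17727
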