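import Groth.Statements.S17728
import Groth.Agent.S0449
import Groth.Agent.S17727
import Groth.Agent.Lib.FlatBirIso68
import Mathlib.AlgebraicGeometry.SpreadingOut
-- import your own Groth.Agent.* helpers here

set_option autoImplicit false
universe u
open Neron

namespace Groth.Agent.S17728

open CategoryTheory AlgebraicGeometry Limits

/-- For an affine open `O` of `X` contained in the locus where `f` is an isomorphism, the ring
map `Γ(S, V) ⟶ Γ(X, O)` is an epimorphism. -/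
theorem epi_appLE_of_le {X S : Scheme.{u}} (f : X ⟶ S) (U : S.Opens)
    (hiso : IsIso (f ∣_ U)) {V : S.Opens} (hV : IsAffineOpen V) {O : X.Opens} (hO : IsAffineOpen O)
    (e : O ≤ f ⁻¹ᵁ V) (hOU : O ≤ f ⁻¹ᵁ U) : Epi (f.appLE V O e) := by
  have hj : IsOpenImmersion (O.ι ≫ f) := by
    have : O.ι ≫ f = X.homOfLE hOU ≫ (f ∣_ U) ≫ U.ι := by
      rw [morphismRestrict_ι, Scheme.homOfLE_ι_assoc]
    rw [this]
    infer_instance
  have hmono : Mono (hO.fromSpec ≫ f) := by
    have : hO.fromSpec ≫ f = hO.isoSpec.inv ≫ O.ι ≫ f := by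
      rw [← Category.assoc, IsAffineOpen.isoSpec_inv_ι]
    rw [this]
    infer_instance
  refine ⟨fun {T} a b hab => ?_⟩
  apply Spec.map_injective
  rw [← cancel_mono (hO.fromSpec ≫ f)]
  rw [← IsAffineOpen.SpecMap_appLE_fromSpec f hV hO e, ← Spec.map_comp_assoc,
    ← Spec.map_comp_assoc, hab]

theorem isEpi_of_algEquiv {R S T : Type u} [CommRing R] [CommRing S] [CommRing T] [Algebra R S]
    [Algebra R T] (e : S ≃ₐ[R] T) [Algebra.IsEpi R S] : Algebra.IsEpi R T := by
  let _ : Algebra S T := e.toAlgHom.toRingHom.toAlgebra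
  have : IsScalarTower R S T := IsScalarTower.of_algebraMap_eq fun r => (e.commutes r).symm
  have : Algebra.IsEpi S T := Algebra.isEpi_of_surjective_algebraMap S T e.surjective
  exact Groth.Agent.Lib.FlatBirIso68.isEpi_trans R S T

/-- Schematic density, checked against a family of sections whose basic opens cover `U ⊓ W`. -/
theorem eq_zero_of_isSchematicallyDense {X : Scheme.{u}} (U : X.Opens)
    (hU : CInt.IsSchematicallyDense U) {W : X.Opens} (t : Set Γ(X, W))
    (ht : ∀ y : X, y ∈ U → y ∈ W → ∃ v ∈ t, y ∈ X.basicOpen v)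
    (b : Γ(X, W)) (hb : ∀ v ∈ t, ∃ n : ℕ, v ^ n * b = 0) : b = 0 := by
  apply hU W
  rw [map_zero]
  refine X.IsSheaf.section_ext fun y hy => ?_
  obtain ⟨v, hv, hyv⟩ := ht y hy.2 hy.1
  obtain ⟨n, hn⟩ := hb v hv
  refine ⟨X.basicOpen v ⊓ U, inf_le_inf_right _ (X.basicOpen_le v), ⟨hyv, hy.2⟩, ?_⟩
  rw [map_zero]
  have hunit : IsUnit (X.presheaf.map (homOfLE (X.basicOpen_le v)).op v) :=
    X.toRingedSpace.isUnit_res_basicOpen v
  have h0 : X.presheaf.map (homOfLE (X.basicOpen_le v)).op b = 0 := by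
    have h1 : (X.presheaf.map (homOfLE (X.basicOpen_le v)).op v) ^ n *
        X.presheaf.map (homOfLE (X.basicOpen_le v)).op b = 0 := by
      rw [← map_pow, ← map_mul, hn, map_zero]
    exact (hunit.pow n).mul_right_eq_zero.mp h1
  rw [← CommRingCat.comp_apply, ← Functor.map_comp]
  have : (homOfLE (inf_le_left : W ⊓ U ≤ W)).op ≫
      (homOfLE (inf_le_inf_right U (X.basicOpen_le v))).op =
      (homOfLE (X.basicOpen_le v)).op ≫
        (homOfLE (inf_le_left : X.basicOpen v ⊓ U ≤ X.basicOpen v)).op := rfl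
  rw [this, Functor.map_comp, CommRingCat.comp_apply, h0, map_zero]

/-- Flatness at `x` forces the stalk map at `x` to be an isomorphism. -/
theorem isIso_stalkMap_of_flat {X S : Scheme.{u}} [IsLocallyNoetherian S] (f : X ⟶ S)
    (U : S.Opens) (hiso : IsIso (f ∣_ U)) (hdense : CInt.IsSchematicallyDense (f ⁻¹ᵁ U))
    (x : X) (hfl : (f.stalkMap x).hom.Flat) : IsIso (f.stalkMap x) := by
  obtain ⟨V, hV, hsV, -⟩ := exists_isAffineOpen_mem_and_subset (X := S) (x := f x) (U := ⊤) trivial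
  obtain ⟨W, hW, hxW, hWV⟩ :=
    exists_isAffineOpen_mem_and_subset (X := X) (x := x) (U := f ⁻¹ᵁ V) hsV
  have hWV' : W ≤ f ⁻¹ᵁ V := hWV
  have hqc : QuasiCompact U.ι := inferInstance
  obtain ⟨s, hsU, hs⟩ := Groth.Agent.S0449.exists_finset_basicOpen U hV
  algebraize [(f.appLE V W hWV').hom]
  -- the local rings
  let _ : Algebra Γ(X, W) (X.presheaf.stalk x) := X.presheaf.algebra_section_stalk ⟨x, hxW⟩
  have hlocC : IsLocalization.AtPrime (X.presheaf.stalk x) (hW.primeIdealOf ⟨x, hxW⟩).asIdeal :=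
    hW.isLocalization_stalk ⟨x, hxW⟩
  let _ : Algebra Γ(S, V) (S.presheaf.stalk (f x)) := S.presheaf.algebra_section_stalk ⟨f x, hsV⟩
  have hlocR : IsLocalization.AtPrime (S.presheaf.stalk (f x))
      (hV.primeIdealOf ⟨f x, hsV⟩).asIdeal := hV.isLocalization_stalk ⟨f x, hsV⟩
  let _ : Algebra (S.presheaf.stalk (f x)) (X.presheaf.stalk x) := (f.stalkMap x).hom.toAlgebra
  let _ : Algebra Γ(S, V) (X.presheaf.stalk x) :=
    ((algebraMap Γ(X, W) (X.presheaf.stalk x)).comp (algebraMap Γ(S, V) Γ(X, W))).toAlgebra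
  have tower1 : IsScalarTower Γ(S, V) Γ(X, W) (X.presheaf.stalk x) :=
    IsScalarTower.of_algebraMap_eq fun _ => rfl
  have tower2 : IsScalarTower Γ(S, V) (S.presheaf.stalk (f x)) (X.presheaf.stalk x) := by
    refine IsScalarTower.of_algebraMap_eq' ?_
    change (X.presheaf.germ W x hxW).hom.comp (f.appLE V W hWV').hom =
      (f.stalkMap x).hom.comp (S.presheaf.germ V (f x) hsV).hom
    rw [← CommRingCat.hom_comp, ← CommRingCat.hom_comp, Scheme.Hom.germ_stalkMap,
      Scheme.Hom.appLE, Category.assoc, X.presheaf.germ_res]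
  -- flatness
  have hflatR : Module.Flat Γ(S, V) (S.presheaf.stalk (f x)) :=
    IsLocalization.flat _ (hV.primeIdealOf ⟨f x, hsV⟩).asIdeal.primeCompl
  have hflatRC : Module.Flat (S.presheaf.stalk (f x)) (X.presheaf.stalk x) := hfl
  have hflatC : Module.Flat Γ(S, V) (X.presheaf.stalk x) :=
    Module.Flat.trans Γ(S, V) (S.presheaf.stalk (f x)) (X.presheaf.stalk x)
  -- density
  have hD : ∀ b : Γ(X, W), (∀ u ∈ s, ∃ n : ℕ, algebraMap Γ(S, V) Γ(X, W) u ^ n * b = 0) → b = 0 := by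
    intro b hb
    refine eq_zero_of_isSchematicallyDense (f ⁻¹ᵁ U) hdense
      ((algebraMap Γ(S, V) Γ(X, W)) '' (s : Set Γ(S, V))) ?_ b ?_
    · intro y hyU hyW
      obtain ⟨u, hu, hyu⟩ := hs (f y) hyU (hWV' hyW)
      refine ⟨_, Set.mem_image_of_mem _ hu, ?_⟩
      change y ∈ X.basicOpen (f.appLE V W hWV' u)
      rw [Scheme.basicOpen_appLE]
      exact ⟨hyW, hyu⟩
    · rintro _ ⟨u, hu, rfl⟩
      exact hb u hu
  -- epimorphisms
  have hepi : ∀ u ∈ s, Algebra.IsEpi Γ(S, V)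
      (Localization.Away (algebraMap Γ(S, V) Γ(X, W) u)) := by
    intro u hu
    generalize hb : algebraMap Γ(S, V) Γ(X, W) u = b
    have hO : IsAffineOpen (X.basicOpen b) := hW.basicOpen b
    have hOW : X.basicOpen b ≤ W := X.basicOpen_le b
    have hOU : X.basicOpen b ≤ f ⁻¹ᵁ U := by
      rw [← hb]
      change X.basicOpen (f.appLE V W hWV' u) ≤ _
      rw [Scheme.basicOpen_appLE]
      exact inf_le_right.trans (f.preimage_mono (hsU u hu))
    have hepi0 := epi_appLE_of_le f U hiso hV hO (hOW.trans hWV') hOU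
    have hloc : IsLocalization.Away b Γ(X, X.basicOpen b) := hW.isLocalization_basicOpen b
    let _ : Algebra Γ(S, V) Γ(X, X.basicOpen b) :=
      (f.appLE V (X.basicOpen b) (hOW.trans hWV')).hom.toAlgebra
    have htower : IsScalarTower Γ(S, V) Γ(X, W) Γ(X, X.basicOpen b) := by
      refine IsScalarTower.of_algebraMap_eq' ?_
      change (f.appLE V (X.basicOpen b) (hOW.trans hWV')).hom =
        (X.presheaf.map (homOfLE hOW).op).hom.comp (f.appLE V W hWV').hom
      rw [← CommRingCat.hom_comp, Scheme.Hom.appLE_map]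
    have hepi1 : Algebra.IsEpi Γ(S, V) Γ(X, X.basicOpen b) :=
      CommRingCat.epi_iff_epi.mp hepi0
    let e' : Γ(X, X.basicOpen b) ≃ₐ[Γ(X, W)] Localization.Away b :=
      IsLocalization.algEquiv (Submonoid.powers b) _ _
    exact isEpi_of_algEquiv (e'.restrictScalars Γ(S, V))
  have hEpiC : Algebra.IsEpi Γ(S, V) (X.presheaf.stalk x) :=
    Groth.Agent.Lib.FlatBirIso68.isEpi_of_flat_of_dense (X.presheaf.stalk x)
      (hW.primeIdealOf ⟨x, hxW⟩).asIdeal.primeCompl s hD hepi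
  have hEpiRC : Algebra.IsEpi (S.presheaf.stalk (f x)) (X.presheaf.stalk x) :=
    Groth.Agent.Lib.FlatBirIso68.isEpi_of_comp Γ(S, V) _ _
  have hlocal : IsLocalHom (algebraMap (S.presheaf.stalk (f x)) (X.presheaf.stalk x)) :=
    inferInstanceAs (IsLocalHom (f.stalkMap x).hom)
  have hff : Module.FaithfullyFlat (S.presheaf.stalk (f x)) (X.presheaf.stalk x) :=
    Module.FaithfullyFlat.of_flat_of_isLocalHom
  have hbij := Groth.Agent.Lib.FlatBirIso68.bijective_of_faithfullyFlat_of_isEpi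
    (S.presheaf.stalk (f x)) (X.presheaf.stalk x)
  exact (ConcreteCategory.isIso_iff_bijective _).mpr hbij

/-- If the stalk map at `x` is an isomorphism (target locally Noetherian, `f` locally of finite
type), there is a local section of `f` through `x`. -/
theorem exists_section_of_isIso_stalkMap {X S : Scheme.{u}} [IsLocallyNoetherian S] (f : X ⟶ S)
    [LocallyOfFiniteType f] (x : X) (hx : IsIso (f.stalkMap x)) :
    ∃ (V : S.Opens) (hV : f.base x ∈ V) (σ : (V : Scheme.{u}) ⟶ X),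
      σ ≫ f = V.ι ∧ σ.base ⟨f.base x, hV⟩ = x := by
  let φ : Spec (S.presheaf.stalk (f x)) ⟶ X := Spec.map (inv (f.stalkMap x)) ≫ X.fromSpecStalk x
  have hφ : φ ≫ f = S.fromSpecStalk (f x) ≫ 𝟙 S := by
    rw [Category.comp_id, Category.assoc, ← Scheme.SpecMap_stalkMap_fromSpecStalk,
      ← Spec.map_comp_assoc, IsIso.hom_inv_id, Spec.map_id, Category.id_comp]
  obtain ⟨V, hV, σ, h1, h2⟩ := spread_out_of_isGermInjective' (𝟙 S) f φ hφ
  refine ⟨V, hV, σ, by rw [h2, Category.comp_id], ?_⟩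
  have hcp1 : φ (IsLocalRing.closedPoint _) = x := by
    change (X.fromSpecStalk x) ((Spec.map (inv (f.stalkMap x))) (IsLocalRing.closedPoint _)) = x
    have : (Spec.map (inv (f.stalkMap x))) (IsLocalRing.closedPoint (S.presheaf.stalk (f x))) =
        IsLocalRing.closedPoint (X.presheaf.stalk x) := by
      have hloc : IsLocalHom (inv (f.stalkMap x)).hom := inferInstance
      exact IsLocalRing.comap_closedPoint (inv (f.stalkMap x)).hom
    rw [this, Scheme.fromSpecStalk_closedPoint]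
  have hcp2 : (V.fromSpecStalkOfMem (f x) hV) (IsLocalRing.closedPoint _) = ⟨f x, hV⟩ := by
    apply Subtype.ext
    change (V.fromSpecStalkOfMem (f x) hV ≫ V.ι) (IsLocalRing.closedPoint _) = f x
    rw [Scheme.Opens.fromSpecStalkOfMem_ι, Scheme.fromSpecStalk_closedPoint]
  have h3 := congrArg (fun g : Spec (S.presheaf.stalk (f x)) ⟶ X =>
    g (IsLocalRing.closedPoint _)) h1
  simp only [Scheme.Hom.comp_apply] at h3
  rw [hcp1, hcp2] at h3
  exact h3.symm

theorem eq_of_comp_eq_of_range_subset {X S T : Scheme.{u}} (f : X ⟶ S) (P : X.Opens)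
    (hP : Mono (P.ι ≫ f)) (k₁ k₂ : T ⟶ X) (h₁ : Set.range k₁ ⊆ Set.range P.ι)
    (h₂ : Set.range k₂ ⊆ Set.range P.ι) (h : k₁ ≫ f = k₂ ≫ f) : k₁ = k₂ := by
  rw [← IsOpenImmersion.lift_fac P.ι k₁ h₁, ← IsOpenImmersion.lift_fac P.ι k₂ h₂]
  congr 1
  rw [← cancel_mono (P.ι ≫ f), ← Category.assoc, ← Category.assoc, IsOpenImmersion.lift_fac,
    IsOpenImmersion.lift_fac, h]

/-- A local section of `f` through a point lands in the locus where `f` is a local isomorphism
(after helper5's S17727, for local sections and without density on the base). -/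
theorem exists_isOpenImmersion_of_section {X S : Scheme.{u}} (f : X ⟶ S) (U : S.Opens)
    (hiso : IsIso (f ∣_ U)) (hdense : CInt.IsSchematicallyDense (f ⁻¹ᵁ U))
    (V : S.Opens) (σ : (V : Scheme.{u}) ⟶ X) (hσ : σ ≫ f = V.ι) (v : V) :
    ∃ W : X.Opens, σ v ∈ W ∧ IsOpenImmersion (W.ι ≫ f) := by
  have hfσ : ∀ t : V, f (σ t) = t.1 := fun t => by
    have := congrArg (fun m : (V : Scheme.{u}) ⟶ S => m t) hσ
    simpa using this
  obtain ⟨V₀, hV₀, hxV₀, -⟩ :=
    exists_isAffineOpen_mem_and_subset (X := X) (x := σ v) (U := ⊤) trivial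
  let T₀ : S.Opens := V.ι ''ᵁ (σ ⁻¹ᵁ V₀)
  let W : X.Opens := V₀ ⊓ f ⁻¹ᵁ T₀
  have hvW : σ v ∈ W := by
    refine ⟨hxV₀, ?_⟩
    change f (σ v) ∈ T₀
    rw [hfσ]
    exact ⟨v, hxV₀, rfl⟩
  have hrg : Set.range (W.ι ≫ f) ⊆ Set.range V.ι := by
    rintro _ ⟨y, rfl⟩
    rw [Scheme.Opens.range_ι]
    exact (V.ι_image_le _) y.2.2
  let g : (W : Scheme.{u}) ⟶ V := IsOpenImmersion.lift V.ι (W.ι ≫ f) hrg
  have hg : g ≫ V.ι = W.ι ≫ f := IsOpenImmersion.lift_fac _ _ _
  have hgy : ∀ y : W, σ (g y) ∈ V₀ := by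
    intro y
    have h1 : V.ι (g y) = f y.1 := by
      have := congrArg (fun m : (W : Scheme.{u}) ⟶ S => m y) hg
      simpa using this
    obtain ⟨t, ht, ht'⟩ := y.2.2
    have : g y = t := Subtype.ext (h1.trans ht'.symm)
    rw [this]
    exact ht
  have hra : Set.range (g ≫ σ) ⊆ Set.range V₀.ι := by
    rintro _ ⟨y, rfl⟩
    rw [Scheme.Opens.range_ι]
    exact hgy y
  let a₁ : (W : Scheme.{u}) ⟶ V₀ := X.homOfLE inf_le_left
  let a₂ : (W : Scheme.{u}) ⟶ V₀ := IsOpenImmersion.lift V₀.ι (g ≫ σ) hra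
  have ha₂ : a₂ ≫ V₀.ι = g ≫ σ := IsOpenImmersion.lift_fac _ _ _
  let j : ((W ⊓ f ⁻¹ᵁ U : X.Opens) : Scheme.{u}) ⟶ W := X.homOfLE inf_le_left
  have hjW : j ≫ W.ι = (W ⊓ f ⁻¹ᵁ U).ι := Scheme.homOfLE_ι _ _
  have hmono : Mono ((f ⁻¹ᵁ U).ι ≫ f) := by
    have : (f ⁻¹ᵁ U).ι ≫ f = (f ∣_ U) ≫ U.ι := (morphismRestrict_ι f U).symm
    rw [this]
    infer_instance
  have hj : j ≫ a₁ = j ≫ a₂ := by
    rw [← cancel_mono V₀.ι, Category.assoc, Category.assoc, ha₂, Scheme.homOfLE_ι, hjW]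
    refine eq_of_comp_eq_of_range_subset f (f ⁻¹ᵁ U) hmono _ _ ?_ ?_ ?_
    · rintro _ ⟨y, rfl⟩
      rw [Scheme.Opens.range_ι]
      exact y.2.2
    · rintro _ ⟨y, rfl⟩
      rw [Scheme.Opens.range_ι]
      change f (σ (g (j y))) ∈ U
      rw [hfσ]
      have h1 : V.ι (g (j y)) = f (j y).1 := by
        have := congrArg (fun m : (W : Scheme.{u}) ⟶ S => m (j y)) hg
        simpa using this
      change V.ι (g (j y)) ∈ U
      rw [h1]
      have h2 : (j y).1 = y.1 := by
        have := congrArg (fun m : ((W ⊓ f ⁻¹ᵁ U : X.Opens) : Scheme.{u}) ⟶ X => m y) hjW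
        simpa using this
      rw [h2]
      exact y.2.2
    · rw [Category.assoc, Category.assoc, hσ, hg, ← Category.assoc, hjW]
  have hjinj : Function.Injective j.appTop := by
    rw [Scheme.homOfLE_appTop]
    refine Groth.Agent.S17727.inj_transport _ _ _ _ inf_le_left _ ?_ ?_ (hdense W)
    · simp
    · simp
  have hmono' : Mono j.appTop := ConcreteCategory.mono_of_injective _ hjinj
  have ha : a₁ = a₂ := by
    have : IsAffine (V₀ : Scheme.{u}) := hV₀
    apply ext_of_isAffine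
    have := congrArg Scheme.Hom.appTop hj
    rw [Scheme.Hom.comp_appTop, Scheme.Hom.comp_appTop] at this
    exact (cancel_mono j.appTop).mp this
  have hW : g ≫ σ = W.ι := by
    rw [← ha₂, ← ha, Scheme.homOfLE_ι]
  -- the isomorphism `W ≅ σ⁻¹ W`
  let T : (V : Scheme.{u}).Opens := σ ⁻¹ᵁ W
  have hrα : Set.range g ⊆ Set.range T.ι := by
    rw [Scheme.Opens.range_ι]
    rintro _ ⟨y, rfl⟩
    change σ (g y) ∈ W
    have := congrArg (fun m : (W : Scheme.{u}) ⟶ X => m y) hW
    simp only [Scheme.Hom.comp_apply] at this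
    rw [this]
    exact y.2
  have hrβ : Set.range (T.ι ≫ σ) ⊆ Set.range W.ι := by
    rw [Scheme.Opens.range_ι]
    rintro _ ⟨y, rfl⟩
    exact y.2
  let α : (W : Scheme.{u}) ⟶ T := IsOpenImmersion.lift T.ι g hrα
  let β : (T : Scheme.{u}) ⟶ W := IsOpenImmersion.lift W.ι (T.ι ≫ σ) hrβ
  have hα : α ≫ T.ι = g := IsOpenImmersion.lift_fac _ _ _
  have hβ : β ≫ W.ι = T.ι ≫ σ := IsOpenImmersion.lift_fac _ _ _
  have hαβ : α ≫ β = 𝟙 _ := by
    rw [← cancel_mono W.ι, Category.assoc, hβ, reassoc_of% hα, Category.id_comp]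
    exact hW
  have hβα : β ≫ α = 𝟙 _ := by
    rw [← cancel_mono T.ι, ← cancel_mono V.ι, Category.assoc, Category.assoc, reassoc_of% hα, hg,
      reassoc_of% hβ, hσ, Category.id_comp]
  have : IsIso α := ⟨β, hαβ, hβα⟩
  refine ⟨W, hvW, ?_⟩
  rw [← hg, ← hα, Category.assoc]
  infer_instance

open CategoryTheory AlgebraicGeometry in
/-- Let S be a Noetherian scheme, U ⊆ S a dense open subscheme and f : X → S a morphism locally of
finite type which restricts to an isomorphism over U and for which the preimage of U is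
schematically dense in X. For a point x of X the following are equivalent: f is étale on some open
neighbourhood of x; f is flat at x, that is, the local ring of X at x is flat over the local ring of
S at f(x); some open neighbourhood V of f(x) carries a section σ of f over V passing through x. -/
theorem result
    {X S : Scheme.{u}} [IsNoetherian S] (f : X ⟶ S) [LocallyOfFiniteType f]
    (U : S.Opens) (hU : Dense (U : Set S))
    (hiso : IsIso (morphismRestrict f U)) (hdense : CInt.IsSchematicallyDense (f ⁻¹ᵁ U))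
    (x : X) :
    List.TFAE [
      ∃ W : X.Opens, x ∈ W ∧ Etale (W.ι ≫ f),
      (f.stalkMap x).hom.Flat,
      ∃ (V : S.Opens) (hV : f.base x ∈ V) (σ : (V : Scheme.{u}) ⟶ X),
        σ ≫ f = V.ι ∧ σ.base ⟨f.base x, hV⟩ = x] := by
  have hLN : IsLocallyNoetherian S := inferInstance
  tfae_have 1 → 2 := by
    rintro ⟨W, hxW, hW⟩
    have hfl : Flat (W.ι ≫ f) := inferInstance
    have h1 := Flat.stalkMap (W.ι ≫ f) ⟨x, hxW⟩
    rw [Scheme.Hom.stalkMap_comp] at h1
    have hi : IsIso (W.ι.stalkMap ⟨x, hxW⟩) := inferInstance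
    exact (RingHom.Flat.respectsIso.cancel_right_isIso (f.stalkMap (W.ι ⟨x, hxW⟩))
      (W.ι.stalkMap ⟨x, hxW⟩)).mp h1
  tfae_have 2 → 3 := fun hfl =>
    exists_section_of_isIso_stalkMap f x (isIso_stalkMap_of_flat f U hiso hdense x hfl)
  tfae_have 3 → 1 := by
    rintro ⟨V, hV, σ, hσ, hx⟩
    obtain ⟨W, hW1, hW2⟩ :=
      exists_isOpenImmersion_of_section f U hiso hdense V σ hσ ⟨f.base x, hV⟩
    rw [hx] at hW1
    exact ⟨W, hW1, inferInstance⟩
  tfae_finish

end Groth.Agent.S17728
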