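-- S17731: uniqueness part of the Néron mapping property is stable under smooth base change.
import Groth.Statements.S17731

set_option autoImplicit false
universe u
open Neron

namespace Groth.Agent.S17731

set_option backward.isDefEq.respectTransparency false in
set_option backward.defeqAttrib.useBackward true in
open CategoryTheory AlgebraicGeometry Limits in
/-- Let S be a scheme, U ⊆ S a schematically dense open subscheme and N → S a smooth S-scheme having
uniqueness in the Néron mapping property with respect to U: for every smooth S-scheme Y, restriction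
to U is injective on S-morphisms Y → N. Then for every smooth morphism g : S' → S the base change N
×_S S' → S' has uniqueness in the Néron mapping property with respect to g⁻¹(U): for every smooth
S'-scheme Y', restriction to g⁻¹(U) is injective on S'-morphisms Y' → N ×_S S'. (The published
statement is for models which are algebraic spaces, tested against smooth algebraic spaces; this row
states the case of a scheme model tested against smooth schemes. The companion assertion that Néron
models are preserved by smooth base change is not restated here.) -/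
theorem result
    {S S' : Scheme.{u}} (g : S' ⟶ S) [Smooth g]
    (U : S.Opens) (hU : CInt.IsSchematicallyDense U) (N : Over S) [Smooth N.hom]
    (hN : ∀ Y : Over S, Smooth Y.hom →
      Function.Injective (fun f : Y ⟶ N => (Over.pullback U.ι).map f))
    (Y' : Over S') [Smooth Y'.hom] :
    Function.Injective (fun f : Y' ⟶ (Over.pullback g).obj N => (Over.pullback (g ⁻¹ᵁ U).ι).map f) := by
  intro f1 f2 h
  let Y : Over S := (Over.map g).obj Y'
  have hYsm : Smooth Y.hom := by
    change Smooth (Y'.hom ≫ g)
    infer_instance
  let e := (Over.mapPullbackAdj g).homEquiv Y' N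
  have hfst : pullback.fst Y'.hom (g ⁻¹ᵁ U).ι ≫ f1.left =
      pullback.fst Y'.hom (g ⁻¹ᵁ U).ι ≫ f2.left := by
    have := congrArg (fun m => m.left ≫ pullback.fst _ _) h
    simpa [Over.pullback] using this
  have hrange : Set.range (pullback.fst Y.hom U.ι ≫ Y'.hom).base ⊆
      Set.range (g ⁻¹ᵁ U).ι.base := by
    rw [Scheme.Opens.range_ι]
    rintro _ ⟨x, rfl⟩
    have h1 : (pullback.fst Y.hom U.ι ≫ Y'.hom) ≫ g = pullback.snd Y.hom U.ι ≫ U.ι := by
      rw [Category.assoc]; exact pullback.condition
    have h2 := congrArg (fun m : pullback Y.hom U.ι ⟶ S => m.base x) h1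
    simp only [Scheme.Hom.comp_base, TopCat.comp_app] at h2
    change g.base ((pullback.fst Y.hom U.ι ≫ Y'.hom).base x) ∈ U
    simp only [Scheme.Hom.comp_base, TopCat.comp_app]
    rw [h2]
    exact ((pullback.snd Y.hom U.ι).base x).2
  let θ : pullback Y.hom U.ι ⟶ pullback Y'.hom (g ⁻¹ᵁ U).ι :=
    pullback.lift (pullback.fst Y.hom U.ι)
      (IsOpenImmersion.lift (g ⁻¹ᵁ U).ι (pullback.fst Y.hom U.ι ≫ Y'.hom) hrange)
      (by rw [IsOpenImmersion.lift_fac])
  have hθ : θ ≫ pullback.fst Y'.hom (g ⁻¹ᵁ U).ι = pullback.fst Y.hom U.ι := pullback.lift_fst _ _ _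
  have key : e.symm f1 = e.symm f2 := by
    apply hN Y hYsm
    ext
    apply pullback.hom_ext
    · have h1 : ∀ f : Y' ⟶ (Over.pullback g).obj N,
          ((Over.pullback U.ι).map (e.symm f)).left ≫ pullback.fst N.hom U.ι =
            pullback.fst Y.hom U.ι ≫ f.left ≫ pullback.fst N.hom g := by
        intro f
        have hleft : (e.symm f).left = f.left ≫ pullback.fst N.hom g := rfl
        simp only [Over.pullback, Over.homMk_left, pullback.lift_fst]
        exact congrArg (fun m => pullback.fst Y.hom U.ι ≫ m) hleft
      rw [h1, h1, ← hθ, Category.assoc, Category.assoc, reassoc_of% hfst]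
    · simp [Over.pullback]
  exact e.symm.injective key

end Groth.Agent.S17731
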