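import Groth.Statements.S17732
import Mathlib
import Groth.Agent.S17726
import Groth.Agent.Lib.IdealSheafGeneric
import Groth.Agent.Lib.BlowUpUniv4

set_option autoImplicit false
universe u
open CDiv

namespace Groth.Agent.S17732

open AlgebraicGeometry CategoryTheory TopologicalSpace

variable {X : Scheme.{u}}

/-- Stalk ideal of an ideal sheaf: compatible with shrinking the affine open. -/
lemma map_germ_eq_of_le (I : X.IdealSheafData) (U W : X.affineOpens) (hWU : W ≤ U) (y : X)
    (hy : y ∈ W.1) :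
    (I.ideal U).map (X.presheaf.germ U.1 y (hWU hy)).hom =
      (I.ideal W).map (X.presheaf.germ W.1 y hy).hom := by
  have h := X.presheaf.germ_res (homOfLE (show W.1 ≤ U.1 from hWU)) y hy
  rw [← I.map_ideal hWU, Ideal.map_map, ← CommRingCat.hom_comp]
  exact congrArg (fun φ => Ideal.map (CommRingCat.Hom.hom φ) (I.ideal U)) h.symm

/-- Stalk ideal of an ideal sheaf is independent of the affine open. -/
lemma map_germ_eq (I : X.IdealSheafData) (U U' : X.affineOpens) (y : X) (hy : y ∈ U.1)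
    (hy' : y ∈ U'.1) :
    (I.ideal U).map (X.presheaf.germ U.1 y hy).hom =
      (I.ideal U').map (X.presheaf.germ U'.1 y hy').hom := by
  obtain ⟨_, ⟨W, hW, rfl⟩, hyW, hWle⟩ := X.isBasis_affineOpens.exists_subset_of_mem_open
    (show y ∈ ((U.1 ⊓ U'.1 : X.Opens) : Set X) from ⟨hy, hy'⟩) (U.1 ⊓ U'.1).2
  have h1 : (⟨W, hW⟩ : X.affineOpens) ≤ U := fun z hz => (hWle hz).1
  have h2 : (⟨W, hW⟩ : X.affineOpens) ≤ U' := fun z hz => (hWle hz).2
  rw [map_germ_eq_of_le I U ⟨W, hW⟩ h1 y hyW, map_germ_eq_of_le I U' ⟨W, hW⟩ h2 y hyW]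

/-- At a point of the support, the stalk ideal is proper. -/
lemma map_germ_ne_top (I : X.IdealSheafData) (U : X.affineOpens) (y : X) (hy : y ∈ U.1)
    (hsupp : y ∈ I.support) : (I.ideal U).map (X.presheaf.germ U.1 y hy).hom ≠ ⊤ := by
  have hU : IsAffineOpen U.1 := U.2
  have hle := (Groth.Agent.Lib.IdealSheafGeneric.mem_support_iff_le_primeIdealOf I U hU y hy).mp hsupp
  letI : Algebra Γ(X, U.1) (X.presheaf.stalk y) :=
    TopCat.Presheaf.algebra_section_stalk X.presheaf ⟨y, hy⟩
  haveI := hU.isLocalization_stalk ⟨y, hy⟩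
  intro htop
  have h1 : (I.ideal U).map (algebraMap Γ(X, U.1) (X.presheaf.stalk y)) ≤
      IsLocalRing.maximalIdeal (X.presheaf.stalk y) := by
    rw [← IsLocalization.AtPrime.map_eq_maximalIdeal (hU.primeIdealOf ⟨y, hy⟩).asIdeal
      (X.presheaf.stalk y)]
    exact Ideal.map_mono hle
  have h2 : (⊤ : Ideal (X.presheaf.stalk y)) ≤ IsLocalRing.maximalIdeal (X.presheaf.stalk y) :=
    htop ▸ h1
  exact (IsLocalRing.maximalIdeal.isMaximal _).ne_top (top_le_iff.mp h2)

/-- An affine open missing the support has unit ideal. -/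
lemma ideal_eq_top_of_disjoint (I : X.IdealSheafData) (U : X.affineOpens)
    (h : ∀ y ∈ U.1, y ∉ I.support) : I.ideal U = ⊤ := by
  have hU : IsAffineOpen U.1 := U.2
  by_contra hne
  obtain ⟨M, hM, hIM⟩ := Ideal.exists_le_maximal _ hne
  let q : PrimeSpectrum Γ(X, U.1) := ⟨M, hM.isPrime⟩
  have hq : hU.fromSpec q ∈ U.1 := by
    have : hU.fromSpec q ∈ Set.range hU.fromSpec := ⟨q, rfl⟩
    rwa [hU.range_fromSpec] at this
  exact h _ hq ((Groth.Agent.Lib.IdealSheafGeneric.fromSpec_mem_support_iff I U hU q).mpr hIM)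


/-- At a point of the union of the supports, two valid pairs are proportional. -/
lemma prop_at (D E : X.IdealSheafData)
    (hD : (∀ x : X, ∃ U : X.affineOpens, x ∈ (U : X.Opens) ∧ ∃ g : Γ(X, U), g ∈ nonZeroDivisors Γ(X, U) ∧ D.ideal U = Ideal.span {g}))
    (hE : (∀ x : X, ∃ U : X.affineOpens, x ∈ (U : X.Opens) ∧ ∃ g : Γ(X, U), g ∈ nonZeroDivisors Γ(X, U) ∧ E.ideal U = Ideal.span {g}))
    (y : X) (hy : y ∈ D.support ∨ y ∈ E.support)
    (U U' : X.affineOpens) (hyU : y ∈ U.1) (hyU' : y ∈ U'.1) (m n m' n' : ℕ)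
    (h : D.ideal U ^ m = E.ideal U ^ n) (h' : D.ideal U' ^ m' = E.ideal U' ^ n') :
    m * n' = m' * n := by
  obtain ⟨UD, hyUD, g, hg, hDg⟩ := hD y
  obtain ⟨UE, hyUE, f, hf, hEf⟩ := hE y
  have hgy := Groth.Agent.Lib.BlowUpUniv.germ_mem_nonZeroDivisors UD.1 UD.2 y hyUD g hg
  have hfy := Groth.Agent.Lib.BlowUpUniv.germ_mem_nonZeroDivisors UE.1 UE.2 y hyUE f hf
  have hDy : ∀ (V : X.affineOpens) (hyV : y ∈ V.1),
      (D.ideal V).map (X.presheaf.germ V.1 y hyV).hom =
        Ideal.span {(X.presheaf.germ UD.1 y hyUD).hom g} := by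
    intro V hyV
    rw [map_germ_eq D V UD y hyV hyUD, hDg, Ideal.map_span, Set.image_singleton]
  have hEy : ∀ (V : X.affineOpens) (hyV : y ∈ V.1),
      (E.ideal V).map (X.presheaf.germ V.1 y hyV).hom =
        Ideal.span {(X.presheaf.germ UE.1 y hyUE).hom f} := by
    intro V hyV
    rw [map_germ_eq E V UE y hyV hyUE, hEf, Ideal.map_span, Set.image_singleton]
  have key : ∀ (V : X.affineOpens) (hyV : y ∈ V.1) (a b : ℕ), D.ideal V ^ a = E.ideal V ^ b →
      Ideal.span {(X.presheaf.germ UD.1 y hyUD).hom g ^ a} =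
        Ideal.span {(X.presheaf.germ UE.1 y hyUE).hom f ^ b} := by
    intro V hyV a b hab
    have := congrArg (Ideal.map (X.presheaf.germ V.1 y hyV).hom) hab
    rw [Ideal.map_pow, Ideal.map_pow, hDy V hyV, hEy V hyV, Ideal.span_singleton_pow,
      Ideal.span_singleton_pow] at this
    exact this
  have hnu : ¬ (IsUnit ((X.presheaf.germ UE.1 y hyUE).hom f) ∧
      IsUnit ((X.presheaf.germ UD.1 y hyUD).hom g)) := by
    rintro ⟨hfu, hgu⟩
    rcases hy with hy | hy
    · apply map_germ_ne_top D UD y hyUD hy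
      rw [hDy UD hyUD]
      exact Ideal.span_singleton_eq_top.mpr hgu
    · apply map_germ_ne_top E UE y hyUE hy
      rw [hEy UE hyUE]
      exact Ideal.span_singleton_eq_top.mpr hfu
  exact Groth.Agent.S17726.result (X.presheaf.stalk y) _ _ hfy hgy hnu m n m' n'
    (key U hyU m n h) (key U' hyU' m' n' h')

lemma nat_prop_trans (p q r s t w : ℕ) (h0 : (p, q) ≠ (0, 0)) (h1 : p * w = t * q)
    (h2 : p * s = r * q) : r * w = t * s := by
  rcases Nat.eq_zero_or_pos p with hp | hp
  · subst hp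
    have hq : q ≠ 0 := fun hq => h0 (by rw [hq])
    have ht : t = 0 := by
      rcases Nat.mul_eq_zero.mp (by rw [← h1, zero_mul] : t * q = 0) with h | h
      · exact h
      · exact absurd h hq
    have hr : r = 0 := by
      rcases Nat.mul_eq_zero.mp (by rw [← h2, zero_mul] : r * q = 0) with h | h
      · exact h
      · exact absurd h hq
    rw [ht, hr, zero_mul, zero_mul]
  · apply Nat.eq_of_mul_eq_mul_left hp
    calc p * (r * w) = r * (p * w) := by ring
      _ = r * (t * q) := by rw [h1]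
      _ = t * (r * q) := by ring
      _ = t * (p * s) := by rw [h2]
      _ = p * (t * s) := by ring

open AlgebraicGeometry in
/-- Let X be a Noetherian scheme and D, E effective Cartier divisors on X, encoded by their ideal
sheaves, each locally generated on an affine open by a single non-zero-divisor. Assume that the
union of the supports of D and E is connected (or empty) and that every point of X has an affine
open neighbourhood on which the m-th power of the ideal of D equals the n-th power of the ideal of E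
for some (m, n) ≠ (0, 0). Then there is a pair (m, n) ≠ (0, 0) for which this equality holds on
every affine open of X, that is, m D = n E globally. -/
theorem result
    (X : Scheme.{u}) [IsNoetherian X] (D E : X.IdealSheafData)
    (hD : (∀ x : X, ∃ U : X.affineOpens, x ∈ (U : X.Opens) ∧ ∃ g : Γ(X, U), g ∈ nonZeroDivisors Γ(X, U) ∧ D.ideal U = Ideal.span {g}))
    (hE : (∀ x : X, ∃ U : X.affineOpens, x ∈ (U : X.Opens) ∧ ∃ g : Γ(X, U), g ∈ nonZeroDivisors Γ(X, U) ∧ E.ideal U = Ideal.span {g}))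
    (hconn : IsPreconnected ((D.support : Set X) ∪ (E.support : Set X)))
    (hloc : ∀ x : X, ∃ U : X.affineOpens, x ∈ (U : X.Opens) ∧
      ∃ m n : ℕ, (m, n) ≠ (0, 0) ∧ D.ideal U ^ m = E.ideal U ^ n) :
    ∃ m n : ℕ, (m, n) ≠ (0, 0) ∧ ∀ U : X.affineOpens, D.ideal U ^ m = E.ideal U ^ n := by
  classical
  choose U hxU m n hmn hU using hloc
  by_cases hS : ((D.support : Set X) ∪ (E.support : Set X)).Nonempty
  swap
  · refine ⟨1, 0, by simp, fun V => ?_⟩
    have hD' : D.ideal V = ⊤ :=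
      ideal_eq_top_of_disjoint D V (fun y _ hy => hS ⟨y, Or.inl hy⟩)
    rw [hD', pow_zero, pow_one, Ideal.one_eq_top]
  obtain ⟨x₀, hx₀⟩ := hS
  have key : ∀ x, (∃ y ∈ (U x).1, y ∈ D.support ∨ y ∈ E.support) →
      m x * n x₀ = m x₀ * n x := by
    rintro x ⟨y, hyU, hyS⟩
    by_contra hne
    let u : Set X := ⋃ x ∈ {x | m x * n x₀ = m x₀ * n x}, ((U x).1 : Set X)
    let v : Set X := ⋃ x ∈ {x | m x * n x₀ ≠ m x₀ * n x}, ((U x).1 : Set X)
    have hu : IsOpen u := isOpen_biUnion (fun x _ => (U x).1.2)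
    have hv : IsOpen v := isOpen_biUnion (fun x _ => (U x).1.2)
    have hcov : ((D.support : Set X) ∪ (E.support : Set X)) ⊆ u ∪ v := by
      intro z _
      by_cases h : m z * n x₀ = m x₀ * n z
      · exact Or.inl (Set.mem_biUnion (show z ∈ {x | m x * n x₀ = m x₀ * n x} from h) (hxU z))
      · exact Or.inr (Set.mem_biUnion (show z ∈ {x | m x * n x₀ ≠ m x₀ * n x} from h) (hxU z))
    have hSu : (((D.support : Set X) ∪ (E.support : Set X)) ∩ u).Nonempty :=
      ⟨x₀, hx₀, Set.mem_biUnion (show x₀ ∈ {x | m x * n x₀ = m x₀ * n x} from rfl) (hxU x₀)⟩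
    have hSv : (((D.support : Set X) ∪ (E.support : Set X)) ∩ v).Nonempty :=
      ⟨y, hyS, Set.mem_biUnion (show x ∈ {x | m x * n x₀ ≠ m x₀ * n x} from hne) hyU⟩
    obtain ⟨z, hzS, hzu, hzv⟩ := hconn u v hu hv hcov hSu hSv
    obtain ⟨a, ha, hza⟩ := Set.mem_iUnion₂.mp hzu
    obtain ⟨b, hb, hzb⟩ := Set.mem_iUnion₂.mp hzv
    have hab := prop_at D E hD hE z hzS (U a) (U b) hza hzb (m a) (n a) (m b) (n b) (hU a) (hU b)
    exact hb (nat_prop_trans (m a) (n a) (m b) (n b) (m x₀) (n x₀) (hmn a) ha hab)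
  haveI : CompactSpace X := inferInstance
  obtain ⟨t, ht⟩ := isCompact_univ.elim_finite_subcover (fun x => ((U x).1 : Set X))
    (fun x => (U x).1.2) (fun z _ => Set.mem_iUnion.mpr ⟨z, hxU z⟩)
  let s : X → ℕ := fun x => m x + n x
  have hs : ∀ x, s x ≠ 0 := by
    intro x h0
    have h0' : m x + n x = 0 := h0
    have h1 : m x = 0 := by omega
    have h2 : n x = 0 := by omega
    exact hmn x (by rw [h1, h2])
  have hP : ∏ x ∈ t, s x ≠ 0 := Finset.prod_ne_zero_iff.mpr (fun x _ => hs x)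
  refine ⟨m x₀ * ∏ x ∈ t, s x, n x₀ * ∏ x ∈ t, s x, ?_, ?_⟩
  · intro h
    rw [Prod.mk.injEq] at h
    have h1 : m x₀ = 0 := (Nat.mul_eq_zero.mp h.1).resolve_right hP
    have h2 : n x₀ = 0 := (Nat.mul_eq_zero.mp h.2).resolve_right hP
    exact hmn x₀ (by rw [h1, h2])
  · have hglob : D ^ (m x₀ * ∏ x ∈ t, s x) = E ^ (n x₀ * ∏ x ∈ t, s x) := by
      apply Scheme.IdealSheafData.ext_of_iSup_eq_top (fun i : t => U i.1)
      · rw [eq_top_iff]
        intro z _
        obtain ⟨i, hi⟩ := Set.mem_iUnion.mp (ht (Set.mem_univ z))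
        obtain ⟨hit, hzi⟩ := Set.mem_iUnion.mp hi
        exact TopologicalSpace.Opens.mem_iSup.mpr ⟨⟨i, hit⟩, hzi⟩
      · rintro ⟨i, hit⟩
        show D.ideal (U i) ^ (m x₀ * ∏ x ∈ t, s x) = E.ideal (U i) ^ (n x₀ * ∏ x ∈ t, s x)
        by_cases hmeet : ∃ y ∈ (U i).1, y ∈ D.support ∨ y ∈ E.support
        · have hk := key i hmeet
          have hprod : ∏ x ∈ t, s x = s i * ∏ x ∈ t.erase i, s x :=
            (Finset.mul_prod_erase t s hit).symm
          have hM : m x₀ * ∏ x ∈ t, s x = m i * (s x₀ * ∏ x ∈ t.erase i, s x) := by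
            rw [hprod]
            have : m x₀ * s i = m i * s x₀ := by
              show m x₀ * (m i + n i) = m i * (m x₀ + n x₀)
              rw [mul_add, mul_add, ← hk]; ring
            calc m x₀ * (s i * ∏ x ∈ t.erase i, s x) = (m x₀ * s i) * ∏ x ∈ t.erase i, s x := by ring
              _ = (m i * s x₀) * ∏ x ∈ t.erase i, s x := by rw [this]
              _ = m i * (s x₀ * ∏ x ∈ t.erase i, s x) := by ring
          have hN : n x₀ * ∏ x ∈ t, s x = n i * (s x₀ * ∏ x ∈ t.erase i, s x) := by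
            rw [hprod]
            have : n x₀ * s i = n i * s x₀ := by
              show n x₀ * (m i + n i) = n i * (m x₀ + n x₀)
              rw [mul_add, mul_add, mul_comm (n x₀) (m i), hk]; ring
            calc n x₀ * (s i * ∏ x ∈ t.erase i, s x) = (n x₀ * s i) * ∏ x ∈ t.erase i, s x := by ring
              _ = (n i * s x₀) * ∏ x ∈ t.erase i, s x := by rw [this]
              _ = n i * (s x₀ * ∏ x ∈ t.erase i, s x) := by ring
          rw [hM, hN, pow_mul (D.ideal (U i)) (m i), pow_mul (E.ideal (U i)) (n i), hU i]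
        · push Not at hmeet
          have hD' : D.ideal (U i) = ⊤ :=
            ideal_eq_top_of_disjoint D (U i) (fun y hy hys => (hmeet y hy).1 hys)
          have hE' : E.ideal (U i) = ⊤ :=
            ideal_eq_top_of_disjoint E (U i) (fun y hy hys => (hmeet y hy).2 hys)
          rw [hD', hE', Ideal.top_pow, Ideal.top_pow]
    intro V
    have := congrArg (fun I : X.IdealSheafData => I.ideal V) hglob
    exact this

end Groth.Agent.S17732
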