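-- S17733: helper5: effective Cartier divisors on a normal locally Noetherian scheme are determined by their pullback along a proper dominant morphism: orders at height-one primes (helper6 Lib/OrdHtOne6) compared through a point of S' above each height-one point (Lib/CartierPull5A,B)
import Groth.Statements.S17733
import Groth.Agent.Lib.CartierPull5B
import Groth.Agent.Lib.RelCartier

set_option autoImplicit false
universe u
open CDiv

namespace Groth.Agent.S17733

open CategoryTheory AlgebraicGeometry in
/-- Let S be a locally Noetherian normal scheme (every local ring an integrally closed domain), f : S' →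
S a proper morphism whose scheme-theoretic image is S (its kernel ideal sheaf is zero), and U ⊆ S a
schematically dense open subscheme such that f⁻¹(U) is also schematically dense in S'. Suppose D and
E are effective Cartier divisors of S, encoded by ideal sheaves each locally generated on an affine
open by one non-zero-divisor, with supports disjoint from U. If the pulled-back ideal sheaves of D
and E along f coincide, then D = E. -/
theorem result
    {S S' : Scheme.{u}} [IsLocallyNoetherian S]
    (hnorm : ∀ x : S, IsDomain (S.presheaf.stalk x) ∧ IsIntegrallyClosed (S.presheaf.stalk x))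
    (f : S' ⟶ S) [IsProper f] (hdom : f.ker = ⊥)
    (U : S.Opens) (hU : CInt.IsSchematicallyDense U) (hU' : CInt.IsSchematicallyDense (f ⁻¹ᵁ U))
    (D E : S.IdealSheafData)
    (hD : (∀ x : S, ∃ U : S.affineOpens, x ∈ (U : S.Opens) ∧ ∃ g : Γ(S, U), g ∈ nonZeroDivisors Γ(S, U) ∧ D.ideal U = Ideal.span {g}))
    (hE : (∀ x : S, ∃ U : S.affineOpens, x ∈ (U : S.Opens) ∧ ∃ g : Γ(S, U), g ∈ nonZeroDivisors Γ(S, U) ∧ E.ideal U = Ideal.span {g}))
    (hDU : (D.support : Set S) ⊆ (U : Set S)ᶜ) (hEU : (E.support : Set S) ⊆ (U : Set S)ᶜ)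
    (h : D.comap f = E.comap f) : D = E := by
  classical
  -- for every point, an affine open neighbourhood on which `D` and `E` agree
  have key : ∀ x : S, ∃ W : S.affineOpens, x ∈ W.1 ∧ D.ideal W = E.ideal W := by
    intro x
    obtain ⟨U₁, hx1, g₁, hg₁, hD₁⟩ := hD x
    obtain ⟨U₂, hx2, g₂, hg₂, hE₂⟩ := hE x
    haveI : S.IsGermInjectiveAt x := (inferInstance : S.IsGermInjective) x
    obtain ⟨W, hxW, hW, hle, hinj⟩ :=
      S.exists_le_and_germ_injective x (U₁.1 ⊓ U₂.1) ⟨hx1, hx2⟩
    haveI : IsDomain (S.presheaf.stalk x) := (hnorm x).1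
    haveI hdomW : IsDomain Γ(S, W) := hinj.isDomain (S.presheaf.germ W x hxW).hom
    have hle1 : W ≤ U₁.1 := hle.trans inf_le_left
    have hle2 : W ≤ U₂.1 := hle.trans inf_le_right
    let Wa : S.affineOpens := ⟨W, hW⟩
    -- the generators on `W`
    let a : Γ(S, W) := S.presheaf.map (homOfLE hle1).op g₁
    let b : Γ(S, W) := S.presheaf.map (homOfLE hle2).op g₂
    have hDa : D.ideal Wa = Ideal.span {a} := by
      rw [← D.map_ideal (U := Wa) (V := U₁) hle1, hD₁, Ideal.map_span, Set.image_singleton]
      rfl
    have hEb : E.ideal Wa = Ideal.span {b} := by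
      rw [← E.map_ideal (U := Wa) (V := U₂) hle2, hE₂, Ideal.map_span, Set.image_singleton]
      rfl
    -- restriction between affine opens is flat, so the generators stay nonzerodivisors
    have hflat1 : (S.presheaf.map (homOfLE hle1).op).hom.Flat := by
      have := HasRingHomProperty.appLE @Flat (𝟙 S) inferInstance U₁ Wa
        (show W ≤ (𝟙 S) ⁻¹ᵁ U₁.1 from hle1)
      have e : (𝟙 S : S ⟶ S).appLE U₁.1 W hle1 = S.presheaf.map (homOfLE hle1).op := by
        simp only [Scheme.Hom.appLE, Scheme.Hom.id_app]
        exact Category.id_comp _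
      rw [e] at this
      exact this
    have hflat2 : (S.presheaf.map (homOfLE hle2).op).hom.Flat := by
      have := HasRingHomProperty.appLE @Flat (𝟙 S) inferInstance U₂ Wa
        (show W ≤ (𝟙 S) ⁻¹ᵁ U₂.1 from hle2)
      have e : (𝟙 S : S ⟶ S).appLE U₂.1 W hle2 = S.presheaf.map (homOfLE hle2).op := by
        simp only [Scheme.Hom.appLE, Scheme.Hom.id_app]
        exact Category.id_comp _
      rw [e] at this
      exact this
    have ha : a ∈ nonZeroDivisors Γ(S, W) :=
      Groth.Agent.Lib.RelCartier.map_mem_nonZeroDivisors_of_flat _ hflat1 g₁ hg₁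
    have hb : b ∈ nonZeroDivisors Γ(S, W) :=
      Groth.Agent.Lib.RelCartier.map_mem_nonZeroDivisors_of_flat _ hflat2 g₂ hg₂
    refine ⟨Wa, hxW, ?_⟩
    rw [hDa, hEb]
    exact Groth.Agent.Lib.CartierPull5.span_eq_of_comap_eq hnorm f hdom U hU' D E hDU hEU h Wa a b
      (nonZeroDivisors.ne_zero ha) (nonZeroDivisors.ne_zero hb) hDa hEb
  choose W hxW hW using key
  refine Scheme.IdealSheafData.ext_of_iSup_eq_top W ?_ hW
  rw [eq_top_iff]
  intro x _
  exact TopologicalSpace.Opens.mem_iSup.mpr ⟨x, hxW x⟩

end Groth.Agent.S17733
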