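import Groth.Statements.S17737
import Mathlib
import Groth.Agent.S17720
-- import your own Groth.Agent.* helpers here

set_option autoImplicit false
universe u
open DualGr

namespace Groth.Agent.S17737

open Groth.Agent.S17720 in
/-- variant of `lam_relation` with the constants replaced by arbitrary series, the first one
with vanishing linear part mod `m` -/
theorem lam_relation' {A : Type u} [CommRing A] [IsLocalRing A]
    (β : A) (hβ : β ∈ IsLocalRing.maximalIdeal A)
    (U V X' H₁ H₂ H₃ d W₀ Wx Wy : MvPowerSeries (Fin 2) A)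
    (hU : cbar U = 0) (hV : cbar V = 0) (i : Fin 2) (hW₀ : lam i W₀ = 0)
    (h : X' = W₀ + Wx * U + Wy * V
      + U * U * H₁ + U * V * H₂ + V * V * H₃
      + d * (MvPowerSeries.X 0 * MvPowerSeries.X 1 - MvPowerSeries.C β)) :
    lam i X' = cbar Wx * lam i U + cbar Wy * lam i V := by
  have hβ0 : IsLocalRing.residue A β = 0 := (IsLocalRing.residue_eq_zero_iff β).mpr hβ
  have h1 : lam i (d * (MvPowerSeries.X 0 * MvPowerSeries.X 1 - MvPowerSeries.C β)) = 0 := by
    rw [lam_mul]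
    have e1 : cbar (MvPowerSeries.X 0 * MvPowerSeries.X 1 - MvPowerSeries.C β :
        MvPowerSeries (Fin 2) A) = 0 := by
      unfold cbar
      rw [cc_node, map_neg, hβ0, neg_zero]
    have e2 : lam i (MvPowerSeries.X 0 * MvPowerSeries.X 1 - MvPowerSeries.C β :
        MvPowerSeries (Fin 2) A) = 0 := by
      unfold lam
      rw [lin_node, map_zero]
    rw [e1, e2, mul_zero, mul_zero, add_zero]
  rw [h, lam_add, lam_add, lam_add, lam_add, lam_add, lam_add, h1, lam_mul_mul_eq_zero i _ hU hU,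
    lam_mul_mul_eq_zero i _ hU hV, lam_mul_mul_eq_zero i _ hV hV, hW₀, lam_mul, lam_mul, hU, hV]
  ring

open Groth.Agent.S17720 in
theorem key' {A : Type u} [CommRing A] [IsLocalRing A]
    (α β : A) (hα : α ∈ IsLocalRing.maximalIdeal A) (hβ : β ∈ IsLocalRing.maximalIdeal A)
    (Iα Iβ : Ideal (MvPowerSeries (Fin 2) A))
    (hIα : Iα = Ideal.span {(MvPowerSeries.X 0 * MvPowerSeries.X 1
        - MvPowerSeries.C α : MvPowerSeries (Fin 2) A)})
    (hIβ : Iβ = Ideal.span {(MvPowerSeries.X 0 * MvPowerSeries.X 1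
        - MvPowerSeries.C β : MvPowerSeries (Fin 2) A)})
    (φ : (MvPowerSeries (Fin 2) A ⧸ Iα) ≃+* (MvPowerSeries (Fin 2) A ⧸ Iβ))
    (hφα : φ (Ideal.Quotient.mk Iα (MvPowerSeries.C α)) = Ideal.Quotient.mk Iβ (MvPowerSeries.C α))
    (hW : ∀ s : A, ∃ W : MvPowerSeries (Fin 2) A,
      Ideal.Quotient.mk Iβ W = φ (Ideal.Quotient.mk Iα (MvPowerSeries.C s)) ∧
        ∀ i : Fin 2, lam i W = 0) :
    α ∈ Ideal.span {β} := by
  have hccm : ∀ W : MvPowerSeries (Fin 2) A, ¬ IsUnit (Ideal.Quotient.mk Iβ W) →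
      MvPowerSeries.constantCoeff W ∈ IsLocalRing.maximalIdeal A := by
    subst hIβ
    exact cc_mem_of_not_isUnit β
  have hnuX : ∀ i : Fin 2, ¬ IsUnit (Ideal.Quotient.mk Iα (MvPowerSeries.X i)) := by
    subst hIα
    exact not_isUnit_mk_X α hα
  have hmemα : (MvPowerSeries.X 0 * MvPowerSeries.X 1 - MvPowerSeries.C α :
      MvPowerSeries (Fin 2) A) ∈ Iα := by
    rw [hIα]; exact Ideal.mem_span_singleton_self _
  have hmemβ : ∀ f ∈ Iβ, ∃ c : MvPowerSeries (Fin 2) A,
      c * (MvPowerSeries.X 0 * MvPowerSeries.X 1 - MvPowerSeries.C β) = f := by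
    intro f hf
    rw [hIβ] at hf
    exact Ideal.mem_span_singleton'.mp hf
  obtain ⟨U, hU⟩ := Ideal.Quotient.mk_surjective (φ (Ideal.Quotient.mk Iα (MvPowerSeries.X 0)))
  obtain ⟨V, hV⟩ := Ideal.Quotient.mk_surjective (φ (Ideal.Quotient.mk Iα (MvPowerSeries.X 1)))
  have hnu : ∀ (i : Fin 2) (W : MvPowerSeries (Fin 2) A),
      Ideal.Quotient.mk Iβ W = φ (Ideal.Quotient.mk Iα (MvPowerSeries.X i)) →
      MvPowerSeries.constantCoeff W ∈ IsLocalRing.maximalIdeal A := by
    intro i W hW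
    apply hccm W
    rw [hW]
    intro h
    have := h.map φ.symm
    rw [RingEquiv.symm_apply_apply] at this
    exact hnuX i this
  have hu₀ := hnu 0 U hU
  have hv₀ := hnu 1 V hV
  have hcU : cbar U = 0 := (IsLocalRing.residue_eq_zero_iff _).mpr hu₀
  have hcV : cbar V = 0 := (IsLocalRing.residue_eq_zero_iff _).mpr hv₀
  -- the main relation
  have hrel : U * V - MvPowerSeries.C α ∈ Iβ := by
    rw [← Ideal.Quotient.eq_zero_iff_mem, map_sub, map_mul, hU, hV, ← hφα, ← map_mul, ← map_mul,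
      ← map_sub, ← map_sub]
    have : Ideal.Quotient.mk Iα (MvPowerSeries.X 0 * MvPowerSeries.X 1 - MvPowerSeries.C α) = 0 :=
      Ideal.Quotient.eq_zero_iff_mem.mpr hmemα
    rw [this, map_zero]
  obtain ⟨c, hc⟩ := hmemβ _ hrel
  -- relations for the inverse
  have hinv : ∀ T : MvPowerSeries (Fin 2) A, ∃ (W₀ Wx Wy H₁ H₂ H₃ d : MvPowerSeries (Fin 2) A),
      (∀ i : Fin 2, lam i W₀ = 0) ∧
      T = W₀ + Wx * U + Wy * V
        + U * U * H₁ + U * V * H₂ + V * V * H₃
        + d * (MvPowerSeries.X 0 * MvPowerSeries.X 1 - MvPowerSeries.C β) := by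
    intro T
    obtain ⟨z, hz⟩ := φ.surjective (Ideal.Quotient.mk Iβ T)
    obtain ⟨F, rfl⟩ := Ideal.Quotient.mk_surjective z
    obtain ⟨F₀, Fx, Fy, h₁, h₂, h₃, hF⟩ := exists_decompA F
    obtain ⟨H₁, hH₁⟩ := Ideal.Quotient.mk_surjective (φ (Ideal.Quotient.mk Iα h₁))
    obtain ⟨H₂, hH₂⟩ := Ideal.Quotient.mk_surjective (φ (Ideal.Quotient.mk Iα h₂))
    obtain ⟨H₃, hH₃⟩ := Ideal.Quotient.mk_surjective (φ (Ideal.Quotient.mk Iα h₃))
    obtain ⟨W₀, hW₀, hW₀l⟩ := hW F₀
    obtain ⟨Wx, hWx, -⟩ := hW Fx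
    obtain ⟨Wy, hWy, -⟩ := hW Fy
    have hmem : T - (W₀ + Wx * U + Wy * V
        + U * U * H₁ + U * V * H₂ + V * V * H₃) ∈ Iβ := by
      rw [← Ideal.Quotient.eq_zero_iff_mem, map_sub, ← hz, hF]
      simp only [map_add, map_mul, map_pow, hW₀, hWx, hWy, hU, hV, hH₁, hH₂, hH₃]
      ring
    obtain ⟨d, hd⟩ := hmemβ _ hmem
    exact ⟨W₀, Wx, Wy, H₁, H₂, H₃, d, hW₀l, by rw [hd]; ring⟩
  obtain ⟨F₀, Fx, Fy, H₁, H₂, H₃, d, hF₀, hX0⟩ := hinv (MvPowerSeries.X 0)
  obtain ⟨G₀, Gx, Gy, K₁, K₂, K₃, d', hG₀, hX1⟩ := hinv (MvPowerSeries.X 1)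
  have e00 := lam_relation' β hβ U V _ H₁ H₂ H₃ d F₀ Fx Fy hcU hcV 0 (hF₀ 0) hX0
  have e10 := lam_relation' β hβ U V _ H₁ H₂ H₃ d F₀ Fx Fy hcU hcV 1 (hF₀ 1) hX0
  have e01 := lam_relation' β hβ U V _ K₁ K₂ K₃ d' G₀ Gx Gy hcU hcV 0 (hG₀ 0) hX1
  have e11 := lam_relation' β hβ U V _ K₁ K₂ K₃ d' G₀ Gx Gy hcU hcV 1 (hG₀ 1) hX1
  rw [lam_X] at e00 e10 e01 e11
  simp only [if_true, Fin.isValue, one_ne_zero, zero_ne_one, if_false] at e00 e10 e01 e11
  -- the Jacobian is a unit
  have hdetres : (lam 0 U * lam 1 V - lam 1 U * lam 0 V) *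
      (cbar Fx * cbar Gy - cbar Fy * cbar Gx) = 1 := by
    calc (lam 0 U * lam 1 V - lam 1 U * lam 0 V) *
      (cbar Fx * cbar Gy - cbar Fy * cbar Gx)
        = (cbar Fx * lam 0 U + cbar Fy * lam 0 V) *
            (cbar Gx * lam 1 U + cbar Gy * lam 1 V)
          - (cbar Fx * lam 1 U + cbar Fy * lam 1 V) *
            (cbar Gx * lam 0 U + cbar Gy * lam 0 V) := by ring
      _ = 1 := by rw [← e00, ← e10, ← e01, ← e11]; ring
  have hdet : IsUnit (lin 0 U * lin 1 V - lin 1 U * lin 0 V) := by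
    rw [← IsLocalRing.notMem_maximalIdeal, ← IsLocalRing.residue_eq_zero_iff, map_sub, map_mul,
      map_mul]
    intro h0
    have : (lam 0 U * lam 1 V - lam 1 U * lam 0 V) = 0 := h0
    rw [this, zero_mul] at hdetres
    exact zero_ne_one hdetres
  -- coefficient equations
  have hcc := congrArg MvPowerSeries.constantCoeff hc
  rw [map_mul, cc_node, map_sub, map_mul, MvPowerSeries.constantCoeff_C] at hcc
  have hl : ∀ i : Fin 2, lin i c * (-β) =
      lin i U * MvPowerSeries.constantCoeff V + MvPowerSeries.constantCoeff U * lin i V := by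
    intro i
    have := congrArg (lin i) hc
    rw [lin_mul, cc_node, lin_node, mul_zero, add_zero, lin_sub, lin_C, sub_zero, lin_mul] at this
    exact this
  have h0 := hl 0
  have h1 := hl 1
  have hv : MvPowerSeries.constantCoeff V ∈ Ideal.span {β} := by
    rw [← Ideal.unit_mul_mem_iff_mem _ hdet, Ideal.mem_span_singleton']
    refine ⟨lin 1 V * (- lin 0 c) - lin 0 V * (- lin 1 c), ?_⟩
    linear_combination (lin 1 V) * h0 - (lin 0 V) * h1
  have hu : MvPowerSeries.constantCoeff U ∈ Ideal.span {β} := by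
    rw [← Ideal.unit_mul_mem_iff_mem _ hdet, Ideal.mem_span_singleton']
    refine ⟨lin 0 U * (- lin 1 c) - lin 1 U * (- lin 0 c), ?_⟩
    linear_combination (lin 0 U) * h1 - (lin 1 U) * h0
  have hα' : α = MvPowerSeries.constantCoeff U * MvPowerSeries.constantCoeff V
      + MvPowerSeries.constantCoeff c * β := by
    linear_combination hcc
  rw [hα']
  exact Ideal.add_mem _ (Ideal.mul_mem_right _ _ hu)
    (Ideal.mul_mem_left _ _ (Ideal.mem_span_singleton_self β))


open Groth.Agent.S17720 in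
/-- one direction of the result -/
theorem half (R : Type u) [CommRing R] [IsLocalRing R] [IsNoetherianRing R]
    (a b : R) (ha : a ∈ IsLocalRing.maximalIdeal R) (hb : b ∈ IsLocalRing.maximalIdeal R)
    (ψ : DualGr.nodeRing R a ≃+* DualGr.nodeRing R b)
    (hψ : ∀ r : R, ψ (Ideal.Quotient.mk _ (MvPowerSeries.C (algebraMap R (Curv2.cpl R) r))) =
      Ideal.Quotient.mk _ (MvPowerSeries.C (algebraMap R (Curv2.cpl R) r))) :
    algebraMap R (Curv2.cpl R) a ∈ Ideal.span {algebraMap R (Curv2.cpl R) b} := by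
  have hmap : IsLocalRing.maximalIdeal (Curv2.cpl R) =
      (IsLocalRing.maximalIdeal R).map (algebraMap R (Curv2.cpl R)) :=
    AdicCompletion.maximalIdeal_eq_map
  have hι : ∀ μ ∈ IsLocalRing.maximalIdeal R,
      algebraMap R (Curv2.cpl R) μ ∈ IsLocalRing.maximalIdeal (Curv2.cpl R) := by
    intro μ hμ
    rw [hmap]
    exact Ideal.mem_map_of_mem _ hμ
  refine key' (A := Curv2.cpl R) _ _ (hι a ha) (hι b hb) _ _ rfl rfl ψ (hψ a) ?_
  -- the set Z
  have Zadd : ∀ s t : Curv2.cpl R,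
      (∃ W : MvPowerSeries (Fin 2) (Curv2.cpl R),
        Ideal.Quotient.mk _ W = ψ (Ideal.Quotient.mk _ (MvPowerSeries.C s)) ∧
          ∀ i : Fin 2, lam i W = 0) →
      (∃ W : MvPowerSeries (Fin 2) (Curv2.cpl R),
        Ideal.Quotient.mk _ W = ψ (Ideal.Quotient.mk _ (MvPowerSeries.C t)) ∧
          ∀ i : Fin 2, lam i W = 0) →
      (∃ W : MvPowerSeries (Fin 2) (Curv2.cpl R),
        Ideal.Quotient.mk _ W = ψ (Ideal.Quotient.mk _ (MvPowerSeries.C (s + t))) ∧
          ∀ i : Fin 2, lam i W = 0) := by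
    rintro s t ⟨W₁, h₁, l₁⟩ ⟨W₂, h₂, l₂⟩
    refine ⟨W₁ + W₂, ?_, fun i => ?_⟩
    · rw [map_add, map_add, map_add, map_add, h₁, h₂]
    · rw [lam_add, l₁, l₂, add_zero]
  have Zι : ∀ r : R, ∃ W : MvPowerSeries (Fin 2) (Curv2.cpl R),
        Ideal.Quotient.mk _ W = ψ (Ideal.Quotient.mk _
          (MvPowerSeries.C (algebraMap R (Curv2.cpl R) r))) ∧
          ∀ i : Fin 2, lam i W = 0 := by
    intro r
    exact ⟨MvPowerSeries.C (algebraMap R (Curv2.cpl R) r), (hψ r).symm, fun i => lam_C i _⟩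
  have Zmul : ∀ μ ∈ IsLocalRing.maximalIdeal R, ∀ t : Curv2.cpl R,
      ∃ W : MvPowerSeries (Fin 2) (Curv2.cpl R),
        Ideal.Quotient.mk _ W = ψ (Ideal.Quotient.mk _
          (MvPowerSeries.C (t * algebraMap R (Curv2.cpl R) μ))) ∧
          ∀ i : Fin 2, lam i W = 0 := by
    intro μ hμ t
    obtain ⟨T, hT⟩ := Ideal.Quotient.mk_surjective
      (ψ (Ideal.Quotient.mk _ (MvPowerSeries.C t)))
    refine ⟨T * MvPowerSeries.C (algebraMap R (Curv2.cpl R) μ), ?_, fun i => ?_⟩
    · rw [map_mul, map_mul, map_mul, map_mul, hT, hψ μ]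
    · rw [lam_mul, lam_C, cbar_C, (IsLocalRing.residue_eq_zero_iff _).mpr (hι μ hμ), mul_zero,
        mul_zero, add_zero]
  have Zm : ∀ s ∈ IsLocalRing.maximalIdeal (Curv2.cpl R), ∀ t : Curv2.cpl R,
      ∃ W : MvPowerSeries (Fin 2) (Curv2.cpl R),
        Ideal.Quotient.mk _ W = ψ (Ideal.Quotient.mk _ (MvPowerSeries.C (t * s))) ∧
          ∀ i : Fin 2, lam i W = 0 := by
    intro s hs
    rw [hmap, Ideal.map] at hs
    induction hs using Submodule.span_induction with
    | mem x hx =>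
      obtain ⟨μ, hμ, rfl⟩ := hx
      exact Zmul μ hμ
    | zero =>
      intro t
      rw [mul_zero]
      have := Zι 0
      rwa [map_zero] at this
    | add x y _ _ hx hy =>
      intro t
      rw [mul_add]
      exact Zadd _ _ (hx t) (hy t)
    | smul c x _ hx =>
      intro t
      rw [smul_eq_mul, ← mul_assoc]
      exact hx (t * c)
  intro s
  obtain ⟨x, hx⟩ := (AdicCompletion.residueField_map_bijective R).2 (IsLocalRing.residue _ s)
  obtain ⟨r, rfl⟩ := IsLocalRing.residue_surjective x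
  rw [IsLocalRing.ResidueField.map_residue] at hx
  have hs : s - algebraMap R (Curv2.cpl R) r ∈ IsLocalRing.maximalIdeal (Curv2.cpl R) := by
    rw [← IsLocalRing.residue_eq_zero_iff, map_sub, hx, sub_self]
  have h1 := Zm _ hs 1
  rw [one_mul] at h1
  have h2 := Zadd _ _ (Zι r) h1
  rwa [add_sub_cancel] at h2


open IsLocalRing in
/-- Let R be a Noetherian local ring, A a local ring with a ring map φ : R → A, and a, b two elements of
the maximal ideal of R such that A is formally a node over R both of thickness (a) and of thickness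
(b): the completion of A is isomorphic, compatibly with R, to R̂[[x,y]]/(xy − a) and also to
R̂[[x,y]]/(xy − b). Then aR = bR. (This is the uniqueness assertion: the element in a node
presentation is not unique but the principal ideal it generates is; it is stated for presentations
with the element taken in R, whose ideal in R is then determined.) -/
theorem result
    (R A : Type u) [CommRing R] [IsLocalRing R] [IsNoetherianRing R] [CommRing A] [IsLocalRing A]
    (φ : R →+* A) (a b : R) (ha : a ∈ maximalIdeal R) (hb : b ∈ maximalIdeal R)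
    (h₁ : DualGr.IsThickNode φ a) (h₂ : DualGr.IsThickNode φ b) :
    Ideal.span {a} = Ideal.span {b} := by
  obtain ⟨e₁, he₁⟩ := h₁
  obtain ⟨e₂, he₂⟩ := h₂
  have : Module.FaithfullyFlat R (Curv2.cpl R) := Module.FaithfullyFlat.of_flat_of_isLocalHom
  have h12 := half R a b ha hb (e₁.symm.trans e₂) (by
    intro r
    rw [RingEquiv.trans_apply, ← he₁ r, RingEquiv.symm_apply_apply, he₂ r])
  have h21 := half R b a hb ha (e₂.symm.trans e₁) (by
    intro r
    rw [RingEquiv.trans_apply, ← he₂ r, RingEquiv.symm_apply_apply, he₁ r])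
  have hmapeq : (Ideal.span {a}).map (algebraMap R (Curv2.cpl R)) =
      (Ideal.span {b}).map (algebraMap R (Curv2.cpl R)) := by
    rw [Ideal.map_span, Ideal.map_span, Set.image_singleton, Set.image_singleton]
    apply le_antisymm
    · rw [Ideal.span_singleton_le_iff_mem]; exact h12
    · rw [Ideal.span_singleton_le_iff_mem]; exact h21
  rw [← Ideal.comap_map_eq_self_of_faithfullyFlat (B := Curv2.cpl R) (Ideal.span {a}), hmapeq,
    Ideal.comap_map_eq_self_of_faithfullyFlat]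

end Groth.Agent.S17737
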