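import Groth.Statements.S17750
import Mathlib.Tactic
import Groth.Agent.Lib.H26CanonIdeal
import Groth.Agent.Lib.H26UFD

set_option autoImplicit false
universe u
open Goren

namespace Groth.Agent.S17750

/-- the annihilator of `A ⧸ I` is contained in every associated prime. -/
theorem le_of_mem_associatedPrimes {A : Type u} [CommRing A] [IsNoetherianRing A] (I q : Ideal A)
    (hq : q ∈ associatedPrimes A (A ⧸ I)) : I ≤ q := by
  obtain ⟨-, x, hx⟩ := (isAssociatedPrime_iff (I := q) (M := A ⧸ I)).mp hq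
  intro a ha
  rw [hx, Submodule.mem_colon_singleton]
  obtain ⟨y, rfl⟩ := Ideal.Quotient.mk_surjective x
  rw [Submodule.mem_bot]
  change a • (Ideal.Quotient.mk I y) = 0
  rw [← Ideal.Quotient.mk_eq_mk, ← Submodule.Quotient.mk_smul, Submodule.Quotient.mk_eq_zero]
  exact I.mul_mem_right y ha

/-- Let B be a regular local ring and p a prime ideal of B such that the integral domain B ⧸ p is a
unique factorization domain. If the local ring B ⧸ p is Cohen–Macaulay then it is Gorenstein, i.e.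
has finite injective dimension as a module over itself. (For a unique factorization domain that is a
quotient of a regular local ring, Cohen–Macaulay and Gorenstein are equivalent; the converse
implication holds for every Noetherian local ring.) -/
theorem result (B : Type u) [CommRing B] [IsRegularLocalRing B] (p : Ideal B) [p.IsPrime] [UniqueFactorizationMonoid (B ⧸ p)] [LocCoh.IsCohenMacaulayLocalRing (B ⧸ p)] : LocCoh.IsGorensteinLocalRing (B ⧸ p) := by
  haveI hG : LocCoh.IsGorensteinLocalRing B := Groth.Agent.S0342.result B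
  haveI : LocCoh.IsCohenMacaulayLocalRing B :=
    Groth.Agent.Lib.H26CMDim.isCohenMacaulayLocalRing_of_gorenstein B
  obtain ⟨dB, hB, -, -⟩ := Groth.Agent.Lib.H29Gorenstein.gorenstein_invariants B
  obtain ⟨n, hn⟩ := Groth.Agent.Lib.H26GorFin.exists_nat_ringKrullDim_quotient p
    (Ideal.IsPrime.ne_top inferInstance)
  obtain ⟨r, hr⟩ := ENat.ne_top_iff_exists.mp
    (Ideal.height_ne_top (Ideal.IsPrime.ne_top (inferInstance : p.IsPrime)))
  have hc : r + n = dB := Groth.Agent.Lib.H26CMDim.height_add_quotient_dim dB hB p r n hr.symm hn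
  have hg : Function.Surjective (algebraMap B (B ⧸ p)) := Ideal.Quotient.mk_surjective
  obtain ⟨E, _, _, f, hf⟩ := Groth.Agent.S0299.result (B ⧸ p) (IsLocalRing.ResidueField (B ⧸ p))
  have hTk : ∀ y : B, algebraMap B (B ⧸ p) y = 0 →
      ∀ x : CategoryTheory.Abelian.Ext.{u} (ModuleCat.of B (B ⧸ p)) (ModuleCat.of B B) r,
        y • x = 0 := fun y hy x =>
    Groth.Agent.Lib.H26FinExt.smul_ext_eq_zero_of_left (B ⧸ p) _ y
      (fun z => by rw [Algebra.smul_def, hy, zero_mul]) r x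
  letI iT := Groth.Agent.Lib.H26SurjHull.moduleOfKilled hg _ hTk
  haveI iT2 := Groth.Agent.Lib.H26SurjHull.isScalarTower_moduleOfKilled hg _ hTk
  obtain ⟨e₀⟩ := Groth.Agent.Lib.H26CanonQuot.canon_ext B dB hB (B ⧸ p) hg n hn f hf r hc
  haveI : Module.Finite B (B ⧸ p) := Module.Finite.of_surjective (Algebra.linearMap B (B ⧸ p)) hg
  haveI : Module.Finite B
      (CategoryTheory.Abelian.Ext.{u} (ModuleCat.of B (B ⧸ p)) (ModuleCat.of B B) r) :=
    Groth.Agent.Lib.H26FinExt.finite_ext B r (B ⧸ p)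
  haveI : Module.Finite (B ⧸ p)
      (CategoryTheory.Abelian.Ext.{u} (ModuleCat.of B (B ⧸ p)) (ModuleCat.of B B) r) :=
    Module.Finite.of_restrictScalars_finite B (B ⧸ p) _
  obtain ⟨I, hI0, ⟨κ⟩⟩ := Groth.Agent.Lib.H26CanonIdeal.exists_equiv_ideal B (B ⧸ p) hg n hn f hf _ e₀
  obtain ⟨J, ⟨ψ⟩, hJ⟩ := Groth.Agent.Lib.H26UFD.exists_equiv_ideal I hI0
  have hJ0 : J ≠ ⊥ := by
    intro h
    apply hI0
    rw [eq_bot_iff]
    intro a ha
    have h1 : (ψ ⟨a, ha⟩ : B ⧸ p) ∈ J := (ψ ⟨a, ha⟩).2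
    have h1' : (ψ ⟨a, ha⟩ : B ⧸ p) = 0 := by
      have : (ψ ⟨a, ha⟩ : B ⧸ p) ∈ (⊥ : Ideal (B ⧸ p)) := h ▸ h1
      exact (Submodule.mem_bot _).mp this
    have h2 : ψ ⟨a, ha⟩ = 0 := Subtype.ext h1'
    have h3 : (⟨a, ha⟩ : I) = 0 := ψ.injective (h2.trans (map_zero ψ).symm)
    rw [Submodule.mem_bot]
    exact congrArg Subtype.val h3
  have hJtop : J = ⊤ := by
    by_contra hJt
    haveI : Nontrivial ((B ⧸ p) ⧸ J) := Ideal.Quotient.nontrivial_iff.mpr hJt
    obtain ⟨q, hq⟩ := associatedPrimes.nonempty (B ⧸ p) ((B ⧸ p) ⧸ J)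
    have h1 := Groth.Agent.Lib.H26CanonIdeal.height_le_one (B ⧸ p) n hn f hf _ e₀ J hJt
      (κ.trans ψ) q hq
    haveI hqp : q.IsPrime := hq.isPrime
    have hJq : J ≤ q := le_of_mem_associatedPrimes J q hq
    have hq0 : q ≠ ⊥ := fun h => hJ0 (by rw [eq_bot_iff, ← h]; exact hJq)
    exact hJ q hqp hJq (le_antisymm h1 (Groth.Agent.Lib.H26UFD.one_le_height_of_ne_bot q hq0))
  subst hJtop
  exact (Groth.Agent.S7701.result (B ⧸ p) n hn E f hf _ e₀).mpr
    ⟨(κ.trans ψ).trans Submodule.topEquiv⟩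


end Groth.Agent.S17750
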