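import Groth.Statements.S17751

set_option autoImplicit false
universe u
open LocCoh

namespace Groth.Agent.S17751


/-- Suppose R is a Noetherian ring, r is a natural number, and I is an ideal of R. Then there are
elements f_1, …, f_r of I such that for every prime ideal p of R of height less than r, p contains I
if and only if p contains f_1, …, f_r. (For r = 0 there is nothing to prove.) -/
theorem result (R : Type u) [CommRing R] [IsNoetherianRing R] (I : Ideal R) (r : ℕ) : ∃ f : Fin r → R, (∀ i, f i ∈ I) ∧ ∀ (p : Ideal R) [p.IsPrime], p.height < r → (I ≤ p ↔ Ideal.span (Set.range f) ≤ p) := by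
  classical
  induction r with
  | zero => exact ⟨Fin.elim0, fun i => i.elim0, fun p _ h => absurd h (by simp)⟩
  | succ r ih =>
    obtain ⟨f, hfI, hf⟩ := ih
    set J := Ideal.span (Set.range f) with hJ
    have hJI : J ≤ I := Ideal.span_le.mpr (by rintro _ ⟨i, rfl⟩; exact hfI i)
    have hfin : (J.minimalPrimes).Finite := J.finite_minimalPrimes_of_isNoetherianRing
    let S : Finset (Ideal R) := hfin.toFinset.filter (fun q => ¬ I ≤ q)
    have hS : ∀ q ∈ S, q ∈ J.minimalPrimes ∧ ¬ I ≤ q := by
      intro q hq
      rw [Finset.mem_filter, Set.Finite.mem_toFinset] at hq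
      exact hq
    have hex : ∃ g ∈ I, ∀ q ∈ S, g ∉ q := by
      by_contra hcon
      push Not at hcon
      have hsub : (I : Set R) ⊆ ⋃ q ∈ (S : Set (Ideal R)), ((id q : Ideal R) : Set R) := by
        intro g hg
        obtain ⟨q, hq, hgq⟩ := hcon g hg
        exact Set.mem_biUnion hq hgq
      obtain ⟨q, hq, hIq⟩ := (Ideal.subset_union_prime (f := id) ⊤ ⊤
        (fun q hq _ _ => (hS q hq).1.1.1)).mp hsub
      exact (hS q hq).2 hIq
    obtain ⟨g, hgI, hg⟩ := hex
    refine ⟨Fin.snoc f g, ?_, ?_⟩
    · intro i
      refine Fin.lastCases ?_ (fun j => ?_) i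
      · simpa using hgI
      · simpa using hfI j
    · intro p _ hp
      have hspan : Ideal.span (Set.range (Fin.snoc f g : Fin (r + 1) → R)) = J ⊔ Ideal.span {g} := by
        rw [Fin.range_snoc, Ideal.span_insert, sup_comm]
      rw [hspan]
      constructor
      · intro hIp
        exact sup_le (hJI.trans hIp) ((Ideal.span_singleton_le_iff_mem _).mpr (hIp hgI))
      · intro hle
        by_contra hIp
        have hJp : J ≤ p := le_sup_left.trans hle
        have hgp : g ∈ p := hle (Ideal.mem_sup_right (Ideal.mem_span_singleton_self g))
        obtain ⟨q, hq, hqp⟩ := Ideal.exists_minimalPrimes_le hJp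
        have := hq.1.1
        by_cases hqr : q.height < r
        · exact hIp (((hf q hqr).mpr hq.1.2).trans hqp)
        · push Not at hqr
          have hqeq : q = p := by
            by_contra hne
            have hlt : q < p := lt_of_le_of_ne hqp hne
            have h1 := Ideal.height_add_one_le_of_lt_of_isPrime hlt
            have h2 : ((r : ℕ∞) + 1) ≤ p.height := (add_le_add_left hqr 1).trans h1
            have h3 : p.height < (r : ℕ∞) + 1 := by exact_mod_cast hp
            exact absurd h2 (not_le.mpr h3)
          subst hqeq
          have hqS : q ∈ S := by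
            rw [Finset.mem_filter, Set.Finite.mem_toFinset]
            exact ⟨hq, hIp⟩
          exact hg q hqS hgp

end Groth.Agent.S17751
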