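import Groth.Statements.S17752
import Groth.Agent.S17751

set_option autoImplicit false
universe u
open LocCoh

namespace Groth.Agent.S17752

/-- two ideals contained in the same primes have the same radical -/
theorem radical_eq_of_forall_prime {R : Type u} [CommRing R] (I J : Ideal R)
    (h : ∀ (p : Ideal R) [p.IsPrime], I ≤ p ↔ J ≤ p) : I.radical = J.radical := by
  rw [Ideal.radical_eq_sInf, Ideal.radical_eq_sInf]
  congr 1
  ext p
  constructor
  · rintro ⟨h1, h2⟩
    exact ⟨(h p).mp h1, h2⟩
  · rintro ⟨h1, h2⟩
    exact ⟨(h p).mpr h1, h2⟩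


/-- Let R be a Noetherian ring of Krull dimension d and I an ideal of R. Then there are d + 1 elements
f_0, …, f_d of I such that I and the ideal they generate have the same radical; in other words the
arithmetic rank of I is at most d + 1. -/
theorem result (R : Type u) [CommRing R] [IsNoetherianRing R] (d : ℕ) (hd : ringKrullDim R = d) (I : Ideal R) : ∃ f : Fin (d + 1) → R, (∀ i, f i ∈ I) ∧ I.radical = (Ideal.span (Set.range f)).radical := by
  obtain ⟨f, hfI, hf⟩ := Groth.Agent.S17751.result R I (d + 1)
  refine ⟨f, hfI, radical_eq_of_forall_prime _ _ fun p _ => hf p ?_⟩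
  have h1 : (p.height : WithBot ℕ∞) ≤ ringKrullDim R := Ideal.height_le_ringKrullDim_of_isPrime
  rw [hd] at h1
  have h2 : p.height ≤ (d : ℕ∞) := by exact_mod_cast h1
  exact lt_of_le_of_lt h2 (by exact_mod_cast Nat.lt_succ_self d)

end Groth.Agent.S17752
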