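import Groth.Statements.S17753
import Groth.Agent.S17752

set_option autoImplicit false
universe u
open LocCoh

namespace Groth.Agent.S17753


/-- Let R be a Noetherian local ring of Krull dimension d and I a proper ideal of R. Then there are d
elements f_1, …, f_d of I such that I and the ideal they generate have the same radical, so the
arithmetic rank of I is at most d. (The published statement has no properness hypothesis; for the
unit ideal of a field, d = 0 and no empty family generates the unit ideal up to radical, and the
published proof uses that the maximal ideal contains I.) -/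
theorem result (R : Type u) [CommRing R] [IsNoetherianRing R] [IsLocalRing R] (d : ℕ) (hd : ringKrullDim R = d) (I : Ideal R) (hI : I ≠ ⊤) : ∃ f : Fin d → R, (∀ i, f i ∈ I) ∧ I.radical = (Ideal.span (Set.range f)).radical := by
  obtain ⟨f, hfI, hf⟩ := Groth.Agent.S17751.result R I d
  have hJI : Ideal.span (Set.range f) ≤ I := Ideal.span_le.mpr (by rintro _ ⟨i, rfl⟩; exact hfI i)
  have hfinite : FiniteRingKrullDim R := by
    rw [finiteRingKrullDim_iff_ne_bot_and_top, hd]
    exact ⟨by exact_mod_cast WithBot.coe_ne_bot, by
      intro h
      have : ((d : ℕ∞) : WithBot ℕ∞) = ((⊤ : ℕ∞) : WithBot ℕ∞) := h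
      exact absurd (WithBot.coe_injective this) (ENat.natCast_ne_top d)⟩
  refine ⟨f, hfI, Groth.Agent.S17752.radical_eq_of_forall_prime _ _ fun p _ => ?_⟩
  by_cases hp : p.height < d
  · exact hf p hp
  · push Not at hp
    have h1 : (p.height : WithBot ℕ∞) ≤ ringKrullDim R := Ideal.height_le_ringKrullDim_of_isPrime
    have h2 : (p.height : WithBot ℕ∞) = ringKrullDim R := by
      apply le_antisymm h1
      rw [hd]
      exact_mod_cast hp
    have h3 : p = IsLocalRing.maximalIdeal R := Ideal.height_eq_ringKrullDim_iff.mp h2
    rw [h3]
    exact ⟨fun _ => hJI.trans (IsLocalRing.le_maximalIdeal hI), fun _ => IsLocalRing.le_maximalIdeal hI⟩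

end Groth.Agent.S17753
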