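import Mathlib
import Groth.Statements.S17754

set_option autoImplicit false
universe u
open CAlg

namespace Groth.Agent.S17754

section Helpers

open IsLocalRing

variable {R : Type u} [CommRing R] [IsNoetherianRing R] [IsLocalRing R]

/-- `R ⧸ m^n` is an Artinian ring. -/
theorem artinian_quot (n : ℕ) : IsArtinianRing (R ⧸ maximalIdeal R ^ n) := by
  by_cases hI : maximalIdeal R ^ n = ⊤
  · have : Subsingleton (R ⧸ maximalIdeal R ^ n) := Ideal.Quotient.subsingleton_iff.2 hI
    have : Finite (R ⧸ maximalIdeal R ^ n) := Finite.of_subsingleton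
    infer_instance
  have : Nontrivial (R ⧸ maximalIdeal R ^ n) := Ideal.Quotient.nontrivial_iff.mpr hI
  have := IsLocalRing.of_surjective' (Ideal.Quotient.mk (maximalIdeal R ^ n))
    Ideal.Quotient.mk_surjective
  have := IsLocalHom.of_surjective (Ideal.Quotient.mk (maximalIdeal R ^ n))
    Ideal.Quotient.mk_surjective
  have hmax : (maximalIdeal R).map (Ideal.Quotient.mk (maximalIdeal R ^ n)) =
      maximalIdeal (R ⧸ maximalIdeal R ^ n) := by
    ext x
    obtain ⟨x, rfl⟩ := Ideal.Quotient.mk_surjective x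
    simp [sup_eq_left.mpr (le_maximalIdeal hI)]
  rw [isArtinianRing_iff_isNilpotent_maximalIdeal]
  refine ⟨n, ?_⟩
  rw [← hmax, ← Ideal.map_pow, Ideal.zero_eq_bot, Ideal.map_eq_bot_iff_le_ker, Ideal.mk_ker]

/-- stabilization of `I s ⊔ m^n`. -/
theorem stabilizes (I : ℕ → Ideal R) (hI : Antitone I) (n : ℕ) :
    ∃ s0, ∀ s, s0 ≤ s → I s ⊔ maximalIdeal R ^ n = I s0 ⊔ maximalIdeal R ^ n := by
  have := artinian_quot (R := R) n
  let f : ℕ →o (Ideal (R ⧸ maximalIdeal R ^ n))ᵒᵈ :=
    ⟨fun s => OrderDual.toDual ((I s).map (Ideal.Quotient.mk (maximalIdeal R ^ n))),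
      fun a b hab => Ideal.map_mono (hI hab)⟩
  obtain ⟨s0, hs0⟩ := IsArtinian.monotone_stabilizes f
  refine ⟨s0, fun s hs => ?_⟩
  have h1 : (I s0).map (Ideal.Quotient.mk (maximalIdeal R ^ n)) =
      (I s).map (Ideal.Quotient.mk (maximalIdeal R ^ n)) := hs0 s hs
  have h2 := congrArg (Ideal.comap (Ideal.Quotient.mk (maximalIdeal R ^ n))) h1
  rw [Ideal.comap_map_of_surjective _ Ideal.Quotient.mk_surjective,
    Ideal.comap_map_of_surjective _ Ideal.Quotient.mk_surjective] at h2
  have h3 : Ideal.comap (Ideal.Quotient.mk (maximalIdeal R ^ n)) ⊥ = maximalIdeal R ^ n := by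
    rw [← RingHom.ker_eq_comap_bot, Ideal.mk_ker]
  rw [h3] at h2
  exact h2.symm

/-- ideals are closed in the `m`-adic topology. -/
theorem closed (J : Ideal R) (x : R) (hx : ∀ n, x ∈ J ⊔ maximalIdeal R ^ n) : x ∈ J := by
  have hK := Ideal.iInf_pow_smul_eq_bot_of_isLocalRing (R := R) (M := R ⧸ J) (maximalIdeal R)
    (Ideal.IsPrime.ne_top inferInstance)
  have hmem : Ideal.Quotient.mk J x ∈
      (⨅ i : ℕ, maximalIdeal R ^ i • ⊤ : Submodule R (R ⧸ J)) := by
    rw [Submodule.mem_iInf]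
    intro n
    obtain ⟨j, hj, y, hy, rfl⟩ := Submodule.mem_sup.1 (hx n)
    have h1 : Ideal.Quotient.mk J (j + y) = y • (Ideal.Quotient.mk J 1) := by
      rw [map_add, Ideal.Quotient.eq_zero_iff_mem.2 hj, zero_add, Algebra.smul_def, map_one,
        mul_one]
      rfl
    rw [h1]
    exact Submodule.smul_mem_smul hy trivial
  rw [hK] at hmem
  exact Ideal.Quotient.eq_zero_iff_mem.1 ((Submodule.mem_bot _).1 hmem)

theorem exists_seq {α : Type u} (P : ℕ → α → Prop) (Q : ℕ → α → α → Prop) (x0 : α) (h0 : P 0 x0)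
    (hstep : ∀ k x, P k x → ∃ y, P (k + 1) y ∧ Q k x y) :
    ∃ f : ℕ → α, f 0 = x0 ∧ (∀ k, P k (f k)) ∧ ∀ k, Q k (f k) (f (k + 1)) := by
  classical
  let f : ℕ → α := fun k => Nat.rec x0
    (fun k x => if h : P k x then Classical.choose (hstep k x h) else x) k
  have hf0 : f 0 = x0 := rfl
  have hfs : ∀ k, f (k + 1) =
      if h : P k (f k) then Classical.choose (hstep k (f k) h) else f k := fun k => rfl
  have hP : ∀ k, P k (f k) := by
    intro k
    induction k with
    | zero => exact h0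
    | succ k ih => rw [hfs, dif_pos ih]; exact (Classical.choose_spec (hstep k (f k) ih)).1
  refine ⟨f, hf0, hP, fun k => ?_⟩
  rw [hfs, dif_pos (hP k)]
  exact (Classical.choose_spec (hstep k (f k) (hP k))).2

end Helpers

/-- Let R be a complete Noetherian local ring with maximal ideal m, and let I_0 ⊇ I_1 ⊇ I_2 ⊇ ⋯ be a
descending sequence of ideals of R whose intersection is zero. Then for every natural number n there
is an index s with I_s contained in m^n; that is, the filtration by the I_s is at least as fine as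
the m-adic one. -/
theorem result (R : Type u) [CommRing R] [IsNoetherianRing R] [IsLocalRing R] [IsAdicComplete (IsLocalRing.maximalIdeal R) R] (I : ℕ → Ideal R) (hI : Antitone I) (hinf : ⨅ s, I s = ⊥) (n : ℕ) : ∃ s : ℕ, I s ≤ IsLocalRing.maximalIdeal R ^ n := by
  set m := IsLocalRing.maximalIdeal R with hm
  choose S hS using fun n => stabilizes I hI n
  have hJa : ∀ n s, I (S n) ⊔ m ^ n ≤ I s ⊔ m ^ n := by
    intro n s
    rcases le_total (S n) s with h | h
    · rw [hS n s h]
    · exact sup_le_sup_right (hI h) _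
  have hJanti : ∀ n, I (S (n + 1)) ⊔ m ^ (n + 1) ≤ I (S n) ⊔ m ^ n := by
    intro n
    exact le_trans (hJa (n + 1) (S n))
      (sup_le_sup_left (Ideal.pow_le_pow_right (Nat.le_succ n)) _)
  have hJanti' : ∀ a b, a ≤ b → I (S b) ⊔ m ^ b ≤ I (S a) ⊔ m ^ a := by
    intro a b hab
    induction b, hab using Nat.le_induction with
    | base => exact le_rfl
    | succ b _ ih => exact le_trans (hJanti b) ih
  have hJb : ∀ n, I (S n) ⊔ m ^ n ≤ (I (S (n + 1)) ⊔ m ^ (n + 1)) ⊔ m ^ n := by
    intro n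
    have h1 := hS n (max (S n) (S (n + 1))) (le_max_left _ _)
    rw [← h1]
    refine sup_le_sup_right ?_ _
    exact le_trans (hI (le_max_right _ _)) le_sup_left
  have hJinf : ∀ x, (∀ n, x ∈ I (S n) ⊔ m ^ n) → x = 0 := by
    intro x hx
    have : x ∈ ⨅ s, I s := by
      rw [Ideal.mem_iInf]
      intro s
      exact closed (I s) x (fun n => hJa n s (hx n))
    rw [hinf] at this
    exact (Submodule.mem_bot R).1 this
  by_contra hcon
  rw [not_exists] at hcon
  have h0 : ¬ (I (S n) ⊔ m ^ n ≤ m ^ n) := fun h => hcon (S n) (le_trans le_sup_left h)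
  obtain ⟨x0, hx0J, hx0⟩ := SetLike.not_le_iff_exists.1 h0
  obtain ⟨f, hf0, hfP, hfQ⟩ := exists_seq
    (fun k (x : R) => x ∈ I (S (n + k)) ⊔ m ^ (n + k))
    (fun k (x y : R) => x - y ∈ m ^ (n + k)) x0 (by simpa using hx0J) (by
      intro k x hx
      obtain ⟨y, hy, z, hz, rfl⟩ := Submodule.mem_sup.1 (hJb (n + k) hx)
      exact ⟨y, hy, by simpa using hz⟩)
  have hdiff : ∀ k l, k ≤ l → f k - f l ∈ m ^ (n + k) := by
    intro k l hkl
    induction l, hkl using Nat.le_induction with
    | base => simp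
    | succ l hl ih =>
      have h1 : f k - f (l + 1) = (f k - f l) + (f l - f (l + 1)) := by ring
      rw [h1]
      exact Ideal.add_mem _ ih (Ideal.pow_le_pow_right (by omega) (hfQ l))
  have htop : ∀ a : ℕ, (m ^ a • ⊤ : Submodule R R) = m ^ a := fun a => by
    rw [smul_eq_mul, Ideal.mul_top]
  have hprec : ∀ {a b : ℕ}, a ≤ b → f a ≡ f b [SMOD (m ^ a • ⊤ : Submodule R R)] := by
    intro a b hab
    rw [SModEq.sub_mem, htop]
    exact Ideal.pow_le_pow_right (Nat.le_add_left a n) (hdiff a b hab)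
  obtain ⟨L, hL⟩ := IsPrecomplete.prec (inferInstance : IsPrecomplete m R) hprec
  have hL' : ∀ a, f a - L ∈ m ^ a := fun a => by
    have := hL a
    rw [SModEq.sub_mem, htop] at this
    exact this
  have hLJ : ∀ N, L ∈ I (S N) ⊔ m ^ N := by
    intro N
    have h1 : f N ∈ I (S N) ⊔ m ^ N := hJanti' N (n + N) (Nat.le_add_left N n) (hfP N)
    have h2 : f N - L ∈ I (S N) ⊔ m ^ N := le_sup_right (a := I (S N)) (hL' N)
    have h3 : L = f N - (f N - L) := by ring
    rw [h3]
    exact Ideal.sub_mem _ h1 h2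
  have hL0 : L = 0 := hJinf L hLJ
  have h1 : f n ∈ m ^ n := by
    have := hL' n
    rwa [hL0, sub_zero] at this
  have h2 : f 0 - f n ∈ m ^ n := by
    have := hdiff 0 n (Nat.zero_le n)
    simpa using this
  apply hx0
  have h3 : x0 = (f 0 - f n) + f n := by rw [hf0]; ring
  rw [h3]
  exact Ideal.add_mem _ h2 h1

end Groth.Agent.S17754
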