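import Groth.Statements.S17755
import Mathlib.Tactic
import Groth.Agent.Lib.H26GorFin
import Groth.Agent.S5167
import Groth.Agent.Lib.EquidimCat33
import Groth.Agent.Lib.CMCat33
import Groth.Agent.Lib.Catenary
import Groth.Agent.Lib.FECat33
import Groth.Agent.Lib.H8Fin
import Groth.Agent.Lib.DepthLoc33
import Groth.Agent.Lib.DepthRees
import Groth.Agent.Lib.H8Liaison
import Groth.Agent.Lib.SerreSk
import Groth.Agent.Lib.H8CM
import Groth.Agent.Lib.H8CM10
import Groth.Agent.S0345
-- import your own Groth.Agent.* helpers here

set_option autoImplicit false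
universe u
open LocCoh

namespace Groth.Agent.S17755

/-- `n ≤ depth X + e` in terms of local cohomology. -/
theorem le_depth_add_iff {B : Type u} [CommRing B] [IsLocalRing B] [IsNoetherianRing B]
    (X : Type u) [AddCommGroup X] [Module B X] [Module.Finite B X] (n e : ℕ) :
    (n : ℕ∞) ≤ LocCoh.depth B X + e ↔
      ∀ j : ℕ, j + e < n → Subsingleton (LocCoh.H (IsLocalRing.maximalIdeal B) j X) := by
  rcases Nat.eq_zero_or_pos n with rfl | hn
  · simp
  · obtain ⟨k, rfl⟩ := Nat.exists_eq_succ_of_ne_zero hn.ne'
    have h1 : ((k + 1 : ℕ) : ℕ∞) ≤ LocCoh.depth B X + e ↔ (k : ℕ∞) < LocCoh.depth B X + e := by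
      rw [Nat.cast_add, Nat.cast_one]
      exact ENat.add_one_le_iff (ENat.coe_ne_top k)
    rw [h1, Groth.Agent.S5167.lt_depth_add_iff]
    constructor
    · intro h j hj
      exact h j (by omega)
    · intro h j hj
      exact h j (by omega)

section F3
variable {R : Type u} [CommRing R] [IsNoetherianRing R] [IsLocalRing R]
  (M : Type u) [AddCommGroup M] [Module R M] [Module.Finite R M]

/-- catenary dimension inequality: for a minimal prime `q ≤ p` of the support,
`dim R/q ≤ dim M_p + dim R/p`. -/
theorem dim_le_of_catenary (q p : Ideal R) [hq : q.IsPrime] [hp : p.IsPrime]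
    (hcat : CAlg.IsCatenary (R ⧸ q)) (hqM : Module.annihilator R M ≤ q) (hqp : q ≤ p) :
    ringKrullDim (R ⧸ q) ≤
      Module.supportDim (Localization.AtPrime p) (LocalizedModule p.primeCompl M) +
        ringKrullDim (R ⧸ p) := by
  haveI : IsLocalRing (R ⧸ q) :=
    IsLocalRing.of_surjective' (Ideal.Quotient.mk q) Ideal.Quotient.mk_surjective
  haveI hPbar : (p.map (Ideal.Quotient.mk q)).IsPrime :=
    Ideal.isPrime_map_quotientMk_of_isPrime hqp
  have hformula := Groth.Agent.Lib.EquidimCat33.height_add_ringKrullDim_quotient
    (Groth.Agent.Lib.FECat33.isEquidim_of_isDomain (R ⧸ q)) hcat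
    ⟨p.map (Ideal.Quotient.mk q), hPbar⟩
  rw [Groth.Agent.Lib.EquidimCat33.ringKrullDim_quotQuot hqp] at hformula
  rw [← hformula]
  have hP : (⟨p, hp⟩ : PrimeSpectrum R) ∈ Module.support R M := by
    rw [Module.mem_support_iff_of_finite]
    exact hqM.trans hqp
  rw [Groth.Agent.Lib.H8Fin.supportDim_localization_eq_height p M hP]
  gcongr
  rw [← Groth.Agent.Lib.EquidimCat33.height_eq ⟨p.map (Ideal.Quotient.mk q), hPbar⟩]
  let f : PrimeSpectrum (R ⧸ q) → Module.support R M := fun x =>
    ⟨PrimeSpectrum.comap (Ideal.Quotient.mk q) x, by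
      rw [Module.mem_support_iff_of_finite]
      refine hqM.trans ?_
      intro a ha
      change Ideal.Quotient.mk q a ∈ x.asIdeal
      rw [Ideal.Quotient.eq_zero_iff_mem.mpr ha]
      exact zero_mem _⟩
  have hf : StrictMono f := by
    intro a b hab
    have hle : a ≤ b := hab.le
    have hne : a ≠ b := hab.ne
    refine lt_of_le_of_ne ?_ ?_
    · exact Ideal.comap_mono (f := Ideal.Quotient.mk q) hle
    · intro h
      apply hne
      apply PrimeSpectrum.comap_injective_of_surjective (Ideal.Quotient.mk q)
        Ideal.Quotient.mk_surjective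
      exact congrArg Subtype.val h
  have hfP : f ⟨p.map (Ideal.Quotient.mk q), hPbar⟩ = ⟨⟨p, hp⟩, hP⟩ := by
    apply Subtype.ext
    apply PrimeSpectrum.ext
    change (p.map (Ideal.Quotient.mk q)).comap (Ideal.Quotient.mk q) = p
    rw [Ideal.comap_map_of_surjective _ Ideal.Quotient.mk_surjective, ← RingHom.ker_eq_comap_bot,
      Ideal.mk_ker]
    exact sup_eq_left.mpr hqp
  rw [← hfP]
  exact WithBot.coe_le_coe.mpr (Order.height_le_height_apply_of_strictMono f hf _)

end F3

/-- Let R be a Noetherian local ring with maximal ideal m which is a homomorphic image of a Gorenstein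
local ring, and let M be a finitely generated R-module whose support has dimension n. Then the
following are equivalent: (1) M is generalized Cohen–Macaulay, i.e. the local cohomology module
H^i_m(M) has finite length for every i < n; (2) M is equidimensional, i.e. R ⧸ p has dimension n for
every minimal prime p of the annihilator of M, and for every prime p ≠ m containing the annihilator
of M the localization M_p is a Cohen–Macaulay module over R_p (its depth equals the dimension of its
support). -/
theorem result (R : Type u) [CommRing R] [IsNoetherianRing R] [IsLocalRing R] (R' : Type u) [CommRing R'] [LocCoh.IsGorensteinLocalRing R'] (g : R' →+* R) (hg : Function.Surjective g) (M : Type u) [AddCommGroup M] [Module R M] [Module.Finite R M] (n : ℕ) (hn : Module.supportDim R M = n) : (∀ i : ℕ, i < n → IsFiniteLength R (LocCoh.H (IsLocalRing.maximalIdeal R) i M)) ↔ ((∀ p ∈ (Module.annihilator R M).minimalPrimes, ringKrullDim (R ⧸ p) = n) ∧ ∀ (p : Ideal R) [p.IsPrime], p ≠ IsLocalRing.maximalIdeal R → Module.annihilator R M ≤ p → LocCoh.IsCohenMacaulayModule (Localization.AtPrime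 p) (LocalizedModule p.primeCompl M)) := by
  letI : Algebra R' R := g.toAlgebra
  have hg' : Function.Surjective (algebraMap R' R) := hg
  letI : Module R' M := Module.compHom M (algebraMap R' R)
  haveI : IsScalarTower R' R M := IsScalarTower.of_algebraMap_smul (fun _ _ => rfl)
  obtain ⟨r, hr, -, -⟩ := Groth.Agent.Lib.H29Gorenstein.gorenstein_invariants R'
  -- catenarity of the quotients of `R`
  have hcat : ∀ (q : Ideal R), CAlg.IsCatenary (R ⧸ q) := by
    intro q
    haveI : LocCoh.IsGorensteinRing R' :=
      ((Groth.Agent.S0345.result R').mp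
        LocCoh.IsGorensteinLocalRing.exists_hasInjectiveDimensionLT).1
    haveI : LocCoh.IsCohenMacaulayRing R' := Groth.Agent.Lib.H8Liaison.isCMRing_of_isGorensteinRing R'
    exact Groth.Agent.Lib.Catenary.isCatenary_of_surjective ((Ideal.Quotient.mk q).comp g)
      (Ideal.Quotient.mk_surjective.comp hg) Groth.Agent.Lib.CMCat33.isCatenary_of_isCM
  -- step B
  have hB : (∀ i : ℕ, i < n → IsFiniteLength R (LocCoh.H (IsLocalRing.maximalIdeal R) i M)) ↔
      ∀ (p : Ideal R) [p.IsPrime], p ≠ IsLocalRing.maximalIdeal R → ∀ e : ℕ,
        ringKrullDim (R ⧸ p) = e →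
        (n : ℕ∞) ≤ LocCoh.depth (Localization.AtPrime p) (LocalizedModule p.primeCompl M) + e := by
    constructor
    · intro h p _ hp e he
      rw [le_depth_add_iff]
      intro j hj
      exact (Groth.Agent.Lib.H26GorFin.isFiniteLength_H_iff R' r hr R hg' M (j + e)).mp
        (h (j + e) hj) p hp e j he rfl
    · intro h i hi
      rw [Groth.Agent.Lib.H26GorFin.isFiniteLength_H_iff R' r hr R hg' M i]
      intro p _ hp e j he hje
      exact (le_depth_add_iff (LocalizedModule p.primeCompl M) n e).mp (h p hp e he) j (by omega)
  rw [hB]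
  constructor
  · intro h
    constructor
    · -- equidimensionality
      intro p hpmin
      haveI hpP : p.IsPrime := hpmin.1.1
      have hpM : Module.annihilator R M ≤ p := hpmin.1.2
      have hsupp : (⟨p, hpP⟩ : PrimeSpectrum R) ∈ Module.support R M := by
        rw [Module.mem_support_iff_of_finite]
        exact hpM
      have hle : ringKrullDim (R ⧸ p) ≤ n := by
        rw [← hn]
        exact Groth.Agent.Lib.DepthRees.ringKrullDim_quotient_le_supportDim ⟨p, hpP⟩ hsupp
      obtain ⟨e, he⟩ := Groth.Agent.Lib.H26GorFin.exists_nat_ringKrullDim_quotient p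
        (Ideal.IsPrime.ne_top hpP)
      rw [he] at hle ⊢
      have hle' : e ≤ n := by exact_mod_cast hle
      by_cases hpm : p = IsLocalRing.maximalIdeal R
      · -- support is a point
        have hsub : Subsingleton (Module.support R M) := by
          refine ⟨fun a b => Subtype.ext ?_⟩
          have key : ∀ P : PrimeSpectrum R, P ∈ Module.support R M →
              P.asIdeal = IsLocalRing.maximalIdeal R := by
            intro P hP
            rw [Module.mem_support_iff_of_finite] at hP
            have h1 : P.asIdeal ≤ p := by
              rw [hpm]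
              exact IsLocalRing.le_maximalIdeal (Ideal.IsPrime.ne_top P.2)
            have h2 := hpmin.2 ⟨P.2, hP⟩ h1
            rw [← hpm]
            exact le_antisymm h1 h2
          exact PrimeSpectrum.ext ((key a.1 a.2).trans (key b.1 b.2).symm)
        have h0 : Module.supportDim R M ≤ 0 := Order.krullDim_nonpos_of_subsingleton
        rw [hn] at h0
        have hn0 : n = 0 := by
          have : (n : WithBot ℕ∞) ≤ ((0 : ℕ) : WithBot ℕ∞) := by simpa using h0
          have : n ≤ 0 := by exact_mod_cast this
          omega
        have : e = n := by omega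
        rw [this]
      · have h1 := h p hpm e he
        haveI hnt : Nontrivial (LocalizedModule p.primeCompl M) := Module.mem_support_iff.mp hsupp
        have h2 := Groth.Agent.Lib.DepthRees.depth_le_supportDim
          (R := Localization.AtPrime p) (LocalizedModule p.primeCompl M)
        have h3 := Groth.Agent.Lib.SerreSk.supportDim_localization_le_zero_of_mem_minimalPrimes
          p M hpmin
        have h4 : ((LocCoh.depth (Localization.AtPrime p) (LocalizedModule p.primeCompl M) : ℕ∞) :
            WithBot ℕ∞) ≤ ((0 : ℕ∞) : WithBot ℕ∞) := h2.trans h3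
        have h5 : LocCoh.depth (Localization.AtPrime p) (LocalizedModule p.primeCompl M) = 0 :=
          le_antisymm (WithBot.coe_le_coe.mp h4) bot_le
        rw [h5, zero_add] at h1
        have : n ≤ e := by exact_mod_cast h1
        have : e = n := by omega
        rw [this]
    · -- CM on the punctured support
      intro p _ hpm hpM
      have hsupp : (⟨p, inferInstance⟩ : PrimeSpectrum R) ∈ Module.support R M := by
        rw [Module.mem_support_iff_of_finite]
        exact hpM
      obtain ⟨e, he⟩ := Groth.Agent.Lib.H26GorFin.exists_nat_ringKrullDim_quotient p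
        (Ideal.IsPrime.ne_top inferInstance)
      have h1 := h p hpm e he
      haveI hnt : Nontrivial (LocalizedModule p.primeCompl M) := Module.mem_support_iff.mp hsupp
      have h2 := Groth.Agent.Lib.DepthRees.depth_le_supportDim
        (R := Localization.AtPrime p) (LocalizedModule p.primeCompl M)
      have h3 := Groth.Agent.Lib.DepthLoc33.supportDim_localization_add_ringKrullDim_quotient_le p M
      rw [hn, he] at h3
      obtain ⟨s, hs⟩ := Groth.Agent.Lib.H8CM.exists_nat_supportDim
        (R := Localization.AtPrime p) (M := LocalizedModule p.primeCompl M)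
      unfold LocCoh.IsCohenMacaulayModule
      rw [hs] at h2 h3 ⊢
      have hdle : LocCoh.depth (Localization.AtPrime p) (LocalizedModule p.primeCompl M) ≤ (s : ℕ∞) :=
        WithBot.coe_le_coe.mp h2
      obtain ⟨d, hd⟩ := ENat.ne_top_iff_exists.mp
        (ne_top_of_le_ne_top (ENat.coe_ne_top s) hdle)
      rw [← hd] at h1 hdle ⊢
      have h1' : n ≤ d + e := by exact_mod_cast h1
      have h3' : s + e ≤ n := by exact_mod_cast h3
      have hds : d ≤ s := by exact_mod_cast hdle
      have : s = d := by omega
      rw [this]
      rfl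
  · rintro ⟨hE, hCM⟩ p _ hpm e he
    by_cases hpM : Module.annihilator R M ≤ p
    · obtain ⟨q, hqmin, hqp⟩ := Ideal.exists_minimalPrimes_le hpM
      haveI hqP : q.IsPrime := hqmin.1.1
      have h1 := dim_le_of_catenary M q p (hcat q) hqmin.1.2 hqp
      rw [hE q hqmin, he] at h1
      have h2 := hCM p hpm hpM
      unfold LocCoh.IsCohenMacaulayModule at h2
      rw [h2] at h1
      exact_mod_cast h1
    · have hsub : Subsingleton (LocalizedModule p.primeCompl M) := by
        have : (⟨p, inferInstance⟩ : PrimeSpectrum R) ∉ Module.support R M := by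
          rw [Module.mem_support_iff_of_finite]
          exact hpM
        rw [Module.mem_support_iff, not_nontrivial_iff_subsingleton] at this
        exact this
      rw [Groth.Agent.Lib.H8CM.depth_eq_top_of_subsingleton]
      simp


end Groth.Agent.S17755
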