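import Groth.Statements.S17756
import Groth.Agent.S5170
import Mathlib.Algebra.Module.SpanRankOperations

set_option autoImplicit false
universe u
open Matlis

namespace Groth.Agent.S17756

section aux

open IsLocalRing

variable {R : Type u} [CommRing R] [IsLocalRing R] {M : Type u} [AddCommGroup M] [Module R M]

/-- The minimal number of generators is the length of `M ⧸ m M`. -/
theorem spanFinrank_top_eq_length [Module.Finite R M] :
    ((⊤ : Submodule R M).spanFinrank : ℕ∞) =
      Module.length R (M ⧸ (maximalIdeal R • (⊤ : Submodule R M))) := by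
  have h1 := IsLocalRing.spanFinrank_eq_finrank_quotient (⊤ : Submodule R M) Module.Finite.fg_top
  have hmap : (maximalIdeal R • (⊤ : Submodule R (⊤ : Submodule R M))).map
      (Submodule.topEquiv : (⊤ : Submodule R M) ≃ₗ[R] M).toLinearMap =
      maximalIdeal R • (⊤ : Submodule R M) := by
    rw [Submodule.map_smul'', Submodule.map_top, LinearEquiv.range]
  have e : ((⊤ : Submodule R M) ⧸ (maximalIdeal R • (⊤ : Submodule R (⊤ : Submodule R M)))) ≃ₗ[R]
      (M ⧸ (maximalIdeal R • (⊤ : Submodule R M))) :=
    Submodule.Quotient.equiv _ _ Submodule.topEquiv hmap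
  have hsurj : Function.Surjective (algebraMap R (R ⧸ maximalIdeal R)) :=
    Ideal.Quotient.mk_surjective
  have : Module.Finite (R ⧸ maximalIdeal R)
      ((⊤ : Submodule R M) ⧸ (maximalIdeal R • (⊤ : Submodule R (⊤ : Submodule R M)))) :=
    Module.Finite.of_restrictScalars_finite R _ _
  rw [h1, ← e.length_eq, Module.length_eq_of_surjective (S := R) (R := R ⧸ maximalIdeal R) hsurj]
  let _ : Field (R ⧸ maximalIdeal R) := Ideal.Quotient.field (maximalIdeal R)
  exact (Module.length_eq_finrank (R ⧸ maximalIdeal R) _).symm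

variable {E : Type u} [AddCommGroup E] [Module R E]

/-- The socle of the dual of `M` is the dual of `M ⧸ m M`. -/
theorem length_torsionBy_dual :
    Module.length R (LocCoh.torsionBy (maximalIdeal R) (M →ₗ[R] E)) =
      Module.length R ((M ⧸ (maximalIdeal R • (⊤ : Submodule R M))) →ₗ[R] E) := by
  let Ψ : ((M ⧸ (maximalIdeal R • (⊤ : Submodule R M))) →ₗ[R] E) →ₗ[R] (M →ₗ[R] E) :=
    LinearMap.lcomp R E (Submodule.mkQ _)
  have hmem : ∀ χ, Ψ χ ∈ LocCoh.torsionBy (maximalIdeal R) (M →ₗ[R] E) := by
    intro χ
    rw [Submodule.mem_torsionBySet_iff]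
    rintro ⟨a, ha⟩
    refine LinearMap.ext fun x => ?_
    change a • χ (Submodule.Quotient.mk x) = 0
    rw [← map_smul, ← Submodule.Quotient.mk_smul,
      (Submodule.Quotient.mk_eq_zero _).mpr (Submodule.smul_mem_smul ha Submodule.mem_top),
      map_zero]
  let Ψ' := Ψ.codRestrict _ hmem
  have hinj : Function.Injective Ψ' := by
    intro χ₁ χ₂ h
    have h' : Ψ χ₁ = Ψ χ₂ := congrArg Subtype.val h
    refine LinearMap.ext fun q => ?_
    obtain ⟨x, rfl⟩ := Submodule.mkQ_surjective _ q
    exact LinearMap.congr_fun h' x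
  have hsurj : Function.Surjective Ψ' := by
    rintro ⟨φ, hφ⟩
    rw [Submodule.mem_torsionBySet_iff] at hφ
    have hle : maximalIdeal R • (⊤ : Submodule R M) ≤ LinearMap.ker φ := by
      rw [Submodule.smul_le]
      intro a ha x _
      rw [LinearMap.mem_ker, map_smul]
      exact LinearMap.congr_fun (hφ ⟨a, ha⟩) x
    refine ⟨Submodule.liftQ _ φ hle, ?_⟩
    apply Subtype.ext
    exact Submodule.liftQ_mkQ _ φ hle
  exact (LinearEquiv.ofBijective Ψ' ⟨hinj, hsurj⟩).length_eq.symm

end aux


/-- Let R be a Noetherian local ring with maximal ideal m and residue field k, E an injective hull of k,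
and M a finitely generated R-module with Matlis dual M^v = Hom_R(M, E). Then the minimal number of
generators of M equals the k-dimension of the socle of M^v, the submodule of elements of M^v killed
by m (stated as its length as an R-module). -/
theorem result (R : Type u) [CommRing R] [IsNoetherianRing R] [IsLocalRing R] (E : Type u) [AddCommGroup E] [Module R E] (f : IsLocalRing.ResidueField R →ₗ[R] E) (hf : InjHull.IsInjectiveHull f) (M : Type u) [AddCommGroup M] [Module R M] [Module.Finite R M] : ((⊤ : Submodule R M).spanFinrank : ℕ∞) = Module.length R (LocCoh.torsionBy (IsLocalRing.maximalIdeal R) (M →ₗ[R] E)) := by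
  have hA := spanFinrank_top_eq_length (R := R) (M := M)
  have hfl : IsFiniteLength R (M ⧸ (IsLocalRing.maximalIdeal R • (⊤ : Submodule R M))) := by
    rw [← Module.length_ne_top_iff, ← hA]
    exact ENat.natCast_ne_top _
  rw [length_torsionBy_dual, Groth.Agent.S5170.result R E f hf _ hfl, hA]

end Groth.Agent.S17756
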