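import Groth.Statements.S17762
import Mathlib.Tactic
import Groth.Agent.Lib.H26GorFin
-- import your own Groth.Agent.* helpers here

set_option autoImplicit false
universe u
open LocCoh

namespace Groth.Agent.S17762

/-- Let R be a Noetherian local ring with maximal ideal m which is a homomorphic image of a Gorenstein
local ring, M a finitely generated R-module, J an ideal of R and i a natural number. Then J is
contained in the radical of the annihilator of H^i_m(M) if and only if for every prime ideal p of R
not containing J, the local cohomology module H^j_{pR_p}(M_p) over R_p vanishes for the index j with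
j + dim(R ⧸ p) = i (no condition when i < dim(R ⧸ p)). -/
theorem result (R : Type u) [CommRing R] [IsNoetherianRing R] [IsLocalRing R] (R' : Type u) [CommRing R'] [LocCoh.IsGorensteinLocalRing R'] (g : R' →+* R) (hg : Function.Surjective g) (M : Type u) [AddCommGroup M] [Module R M] [Module.Finite R M] (J : Ideal R) (i : ℕ) : J ≤ (Module.annihilator R (LocCoh.H (IsLocalRing.maximalIdeal R) i M)).radical ↔ ∀ (p : Ideal R) [p.IsPrime], ¬ J ≤ p → ∀ j : ℕ, (j : WithBot ℕ∞) + ringKrullDim (R ⧸ p) = i → Subsingleton (LocCoh.H (IsLocalRing.maximalIdeal (Localization.AtPrime p)) j (LocalizedModule p.primeCompl M)) := by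
  letI : Algebra R' R := g.toAlgebra
  have hg' : Function.Surjective (algebraMap R' R) := hg
  letI : Module R' M := Module.compHom M (algebraMap R' R)
  haveI : IsScalarTower R' R M := IsScalarTower.of_algebraMap_smul (fun _ _ => rfl)
  obtain ⟨r, hr, -, -⟩ := Groth.Agent.Lib.H29Gorenstein.gorenstein_invariants R'
  have h1 : J ≤ (Module.annihilator R (LocCoh.H (IsLocalRing.maximalIdeal R) i M)).radical ↔
      (∀ y ∈ J, ∃ k : ℕ, ∀ x : LocCoh.H (IsLocalRing.maximalIdeal R) i M, y ^ k • x = 0) := by
    constructor
    · intro h y hy
      obtain ⟨k, hk⟩ := Ideal.mem_radical_iff.mp (h hy)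
      exact ⟨k, fun x => Module.mem_annihilator.mp hk x⟩
    · intro h y hy
      obtain ⟨k, hk⟩ := h y hy
      exact Ideal.mem_radical_iff.mpr ⟨k, Module.mem_annihilator.mpr hk⟩
  rw [h1, Groth.Agent.Lib.H26GorFin.forall_pow_smul_H_iff R' r hr R hg' M J i]
  constructor
  · intro h p _ hp j hj
    obtain ⟨e, he⟩ := Groth.Agent.Lib.H26GorFin.exists_nat_ringKrullDim_quotient p
      (Ideal.IsPrime.ne_top inferInstance)
    refine h p hp e j he ?_
    rw [he] at hj
    exact_mod_cast hj
  · intro h p _ hp e j he hje
    refine h p hp j ?_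
    rw [he]
    exact_mod_cast hje


end Groth.Agent.S17762
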