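import Groth.Statements.S17765
import Groth.Agent.Lib.H87Vasc
import Groth.Agent.Lib.H87Serre2

set_option autoImplicit false
universe u
open CategoryTheory
open LocCoh

namespace Groth.Agent.S17765

open Groth.Agent.Lib

/-- Localizing a finite module at an associated prime gives a module of depth zero. -/
theorem depth_localizedModule_eq_zero {R : Type u} [CommRing R] [IsNoetherianRing R] (M : Type u)
    [AddCommGroup M] [Module R M] [Module.Finite R M] (p : Ideal R) [p.IsPrime]
    (hp : p ∈ associatedPrimes R M) :
    Nontrivial (LocalizedModule p.primeCompl M) ∧
    LocCoh.depth (Localization.AtPrime p) (LocalizedModule p.primeCompl M) = 0 := by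
  have key := Module.associatedPrimes.preimage_comap_associatedPrimes_eq_associatedPrimes_of_isLocalizedModule
    p.primeCompl (Localization.AtPrime p) (LocalizedModule.mkLinearMap p.primeCompl M)
  have hmem : IsLocalRing.maximalIdeal (Localization.AtPrime p) ∈
      associatedPrimes (Localization.AtPrime p) (LocalizedModule p.primeCompl M) := by
    rw [← key, Set.mem_preimage]
    have := IsLocalization.AtPrime.under_maximalIdeal (Localization.AtPrime p) p
    rw [Ideal.under] at this
    rw [this]
    exact hp
  have hnt : Nontrivial (LocalizedModule p.primeCompl M) := by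
    by_contra hn
    rw [not_nontrivial_iff_subsingleton] at hn
    rw [associatedPrimes.eq_empty_of_subsingleton] at hmem
    exact hmem
  exact ⟨hnt, (DepthFlat33.depth_eq_zero_iff _).mpr hmem⟩

/-- Let B be a regular local ring, M a finitely generated B-module and p an associated prime ideal of M.
Then the height of p is at most the projective dimension of M: for every n such that M has
projective dimension at most n, ht p ≤ n. -/
theorem result (B : Type u) [CommRing B] [IsRegularLocalRing B] (M : Type u) [AddCommGroup M] [Module B M] [Module.Finite B M] (p : Ideal B) (hp : p ∈ associatedPrimes B M) (n : ℕ) (hn : HasProjectiveDimensionLE (ModuleCat.of B M) n) : p.height ≤ n := by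
  have hprime : p.IsPrime := hp.isPrime
  have hregp : IsRegularLocalRing (Localization.AtPrime p) :=
    H87Serre2.isRegularLocalRing_localization p
  have hpd := H87Vasc.hasProjectiveDimensionLT_localizedModule p.primeCompl M (n + 1) hn
  obtain ⟨hnt, hdepth⟩ := depth_localizedModule_eq_zero M p hp
  obtain ⟨e, he, h1, h2⟩ :=
    H87AB.exists_projectiveDimension_eq (LocalizedModule p.primeCompl M) (n + 1) hpd
  have hAB := H87AB.auslander_buchsbaum' (LocalizedModule p.primeCompl M) e h1 h2
  rw [hdepth, add_zero] at hAB
  have hdim := H87AB.depth_self_of_isRegularLocalRing (Localization.AtPrime p)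
  rw [hAB, IsLocalization.AtPrime.ringKrullDim_eq_height p (Localization.AtPrime p)] at hdim
  have h3 : p.height = (e : ℕ∞) := by exact_mod_cast hdim.symm
  rw [h3]
  exact_mod_cast (by omega : e ≤ n)

end Groth.Agent.S17765
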