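import Groth.Statements.S17766
import Mathlib.Tactic
import Groth.Agent.Lib.H26CanonIdeal
import Groth.Agent.Lib.ExtBridge

set_option autoImplicit false
universe u
open CategoryTheory Opposite
open LocCoh

namespace Groth.Agent.S17766

open Groth.Agent.Lib.H26SurjHull Groth.Agent.Lib.H26FinExt in
/-- the main statement, with `Abelian.Ext`. -/
theorem aux (B : Type u) [CommRing B] [IsRegularLocalRing B] (p : Ideal B) [p.IsPrime]
    [LocCoh.IsCohenMacaulayLocalRing (B ⧸ p)] (r : ℕ) (hr : p.height = r) :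
    Nonempty (Abelian.Ext.{u} (ModuleCat.of B (B ⧸ p)) (ModuleCat.of B B) r ≃ₗ[B] (B ⧸ p)) ∨
      ∃ I : Ideal (B ⧸ p), I ≠ ⊤ ∧
        (∀ q ∈ associatedPrimes (B ⧸ p) ((B ⧸ p) ⧸ I), q.height = 1) ∧
        Nonempty (Abelian.Ext.{u} (ModuleCat.of B (B ⧸ p)) (ModuleCat.of B B) r ≃ₗ[B] I) := by
  haveI hG : LocCoh.IsGorensteinLocalRing B := Groth.Agent.S0342.result B
  haveI : LocCoh.IsCohenMacaulayLocalRing B :=
    Groth.Agent.Lib.H26CMDim.isCohenMacaulayLocalRing_of_gorenstein B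
  obtain ⟨dB, hB, -, -⟩ := Groth.Agent.Lib.H29Gorenstein.gorenstein_invariants B
  obtain ⟨n, hn⟩ := Groth.Agent.Lib.H26GorFin.exists_nat_ringKrullDim_quotient p
    (Ideal.IsPrime.ne_top inferInstance)
  have hc : r + n = dB := Groth.Agent.Lib.H26CMDim.height_add_quotient_dim dB hB p r n hr hn
  have hg : Function.Surjective (algebraMap B (B ⧸ p)) := Ideal.Quotient.mk_surjective
  obtain ⟨E, _, _, f, hf⟩ := Groth.Agent.S0299.result (B ⧸ p) (IsLocalRing.ResidueField (B ⧸ p))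
  have hTk : ∀ y : B, algebraMap B (B ⧸ p) y = 0 →
      ∀ x : Abelian.Ext.{u} (ModuleCat.of B (B ⧸ p)) (ModuleCat.of B B) r, y • x = 0 := fun y hy x =>
    smul_ext_eq_zero_of_left (B ⧸ p) _ y (fun z => by rw [Algebra.smul_def, hy, zero_mul]) r x
  letI iT := moduleOfKilled hg _ hTk
  haveI iT2 := isScalarTower_moduleOfKilled hg _ hTk
  obtain ⟨e₀⟩ := Groth.Agent.Lib.H26CanonQuot.canon_ext B dB hB (B ⧸ p) hg n hn f hf r hc
  haveI : Module.Finite B (B ⧸ p) := Module.Finite.of_surjective (Algebra.linearMap B (B ⧸ p)) hg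
  haveI : Module.Finite B (Abelian.Ext.{u} (ModuleCat.of B (B ⧸ p)) (ModuleCat.of B B) r) :=
    finite_ext B r (B ⧸ p)
  haveI : Module.Finite (B ⧸ p) (Abelian.Ext.{u} (ModuleCat.of B (B ⧸ p)) (ModuleCat.of B B) r) :=
    Module.Finite.of_restrictScalars_finite B (B ⧸ p) _
  obtain ⟨I, hI0, ⟨κ⟩⟩ := Groth.Agent.Lib.H26CanonIdeal.exists_equiv_ideal B (B ⧸ p) hg n hn f hf _ e₀
  by_cases hI : I = ⊤
  · left
    subst hI
    exact ⟨(κ.restrictScalars B).trans ((Submodule.topEquiv : _ ≃ₗ[B ⧸ p] (B ⧸ p)).restrictScalars B)⟩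
  · right
    refine ⟨I, hI, ?_, ⟨κ.restrictScalars B⟩⟩
    intro q hq
    apply le_antisymm (Groth.Agent.Lib.H26CanonIdeal.height_le_one (B ⧸ p) n hn f hf _ e₀ I hI κ q hq)
    rw [ENat.one_le_iff_ne_zero]
    intro h0
    have hqp : q.IsPrime := hq.isPrime
    have hmin : q ∈ minimalPrimes (B ⧸ p) := (Ideal.height_eq_zero_iff (I := q)).mp h0
    rw [IsDomain.minimalPrimes_eq_singleton_bot, Set.mem_singleton_iff] at hmin
    -- `I ≤ q`
    obtain ⟨-, x, hx⟩ := (isAssociatedPrime_iff (I := q) (M := (B ⧸ p) ⧸ I)).mp hq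
    apply hI0
    rw [eq_bot_iff]
    intro a ha
    have : a ∈ q := by
      rw [hx, Submodule.mem_colon_singleton]
      obtain ⟨y, rfl⟩ := Ideal.Quotient.mk_surjective x
      rw [Submodule.mem_bot]
      change a • (Ideal.Quotient.mk I y) = 0
      rw [← Ideal.Quotient.mk_eq_mk, ← Submodule.Quotient.mk_smul, Submodule.Quotient.mk_eq_zero]
      exact I.mul_mem_right y ha
    rw [hmin] at this
    exact this

/-- Let B be a regular local ring, p a prime ideal of B of height r, and suppose that A = B ⧸ p is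
Cohen–Macaulay. Then the B-module Ext^r_B(A, B) is isomorphic either to A itself or to a proper
ideal I of A which is unmixed of height one, i.e. every associated prime of A ⧸ I has height one in
A (existence of a B-linear isomorphism in each case). -/
theorem result (B : Type u) [CommRing B] [IsRegularLocalRing B] (p : Ideal B) [p.IsPrime] [LocCoh.IsCohenMacaulayLocalRing (B ⧸ p)] (r : ℕ) (hr : p.height = r) : Nonempty (((Ext B (ModuleCat.{u} B) r).obj (op (ModuleCat.of B (B ⧸ p)))).obj (ModuleCat.of B B) ≃ₗ[B] (B ⧸ p)) ∨ ∃ I : Ideal (B ⧸ p), I ≠ ⊤ ∧ (∀ q ∈ associatedPrimes (B ⧸ p) ((B ⧸ p) ⧸ I), q.height = 1) ∧ Nonempty (((Ext B (ModuleCat.{u} B) r).obj (op (ModuleCat.of B (B ⧸ p)))).obj (ModuleCat.of B B) ≃ₗ[B] I) := by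
  have e := Groth.Agent.Lib.ExtBridge.bridge (ModuleCat.of B (B ⧸ p)) (ModuleCat.of B B) r
  rcases aux B p r hr with ⟨⟨φ⟩⟩ | ⟨I, hI, hq, ⟨φ⟩⟩
  · exact Or.inl ⟨e.trans φ⟩
  · exact Or.inr ⟨I, hI, hq, ⟨e.trans φ⟩⟩


end Groth.Agent.S17766
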