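import Groth.Statements.S17769
import Groth.Agent.Lib.H74GrCM
import Groth.Agent.Lib.H74GrReg1

set_option autoImplicit false
universe u
open GrLC

namespace Groth.Agent.S17769

/-- Let R = ⊕_{n ≥ 0} R_n be a Noetherian positively ℤ-graded ring which is standard graded (its
irrelevant ideal is generated by R_1), *local with unique homogeneous maximal ideal m,
Cohen–Macaulay, and of Krull dimension d + 1. Let x be a homogeneous element of degree k lying in m
which is a non-zerodivisor on R, and let N be R ⧸ xR as a graded R-module, presented by a surjective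
degree-preserving R-linear map π : R → N with kernel xR. Writing a(·) for the largest degree in
which the top graded local cohomology with support in m is nonzero (computed from *injective
resolutions I of R and F of N), one has a(R ⧸ xR) = a(R) + k, that is, the end of H^d_m(N) equals
the end of H^{d+1}_m(R) plus k. (The published statement does not require x to lie in m; for a
homogeneous unit x of degree 0 one has R ⧸ xR = 0, whose local cohomology vanishes, and the formula
fails. The proof uses that H^d_m(R ⧸ xR) is the top local cohomology, i.e. that x is not a unit, so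
x is taken in m here; for a standard graded ring this excludes only the units of degree 0.) -/
theorem result (R : Type u) [CommRing R] [LocCoh.IsCohenMacaulayRing R] (𝒜 : ℤ → AddSubgroup R) [GradedRing 𝒜] (hpos : ∀ n : ℤ, n < 0 → 𝒜 n = ⊥) (hstd : Ideal.span (⋃ n ∈ Set.Ioi (0 : ℤ), (𝒜 n : Set R)) = Ideal.span ((𝒜 1 : AddSubgroup R) : Set R)) (m : HomogeneousIdeal 𝒜) (hm : GrLC.IsStarLocal 𝒜 m) (d : ℕ) (hd : ringKrullDim R = (d + 1 : ℕ)) (I : GrLC.StarInjRes 𝒜 𝒜) (x : R) (k : ℤ) (hxk : x ∈ 𝒜 k) (hxm : x ∈ m.toIdeal) (hx : IsSMulRegular R x) (N : Type u) [AddCommGroup N] [Module R N] (𝒩 : ℤ → AddSubgroup N) [DirectSum.Decomposition 𝒩] [SetLike.GradedSMul 𝒜 𝒩] (π : R →ₗ[R] N) (hπ : GrLC.IsGrHom 𝒜 𝒩 π) (hπs : Function.Surjective π) (hπk : LinearMap.ker π = Ideal.span {x}) (F : GrLC.StarInjRes 𝒜 𝒩) : GrLC.endDeg (F.Hgr m d) = GrLC.endDeg (I.Hgr m (d + 1)) + ((k : WithTop ℤ) : WithBot (WithTop ℤ)) := by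
  have hk : 0 ≤ k := by
    by_contra hcon
    have hk' : k < 0 := by omega
    have hx0 : x = 0 := by
      have : x ∈ (⊥ : AddSubgroup R) := hpos k hk' ▸ hxk
      exact this
    have hsub : Subsingleton R := by
      refine subsingleton_of_forall_eq 0 fun r => ?_
      apply hx
      show x • r = x • 0
      rw [hx0, zero_smul, zero_smul]
    rw [ringKrullDim_eq_bot_of_subsingleton] at hd
    exact absurd hd.symm (WithBot.coe_ne_bot)
  have hker : LinearMap.ker π = LinearMap.range (x • (LinearMap.id : R →ₗ[R] R)) := by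
    rw [hπk]
    ext r
    rw [Ideal.mem_span_singleton', LinearMap.mem_range]
    constructor
    · rintro ⟨a, rfl⟩
      exact ⟨a, by simp [mul_comm]⟩
    · rintro ⟨a, rfl⟩
      exact ⟨a, by simp [mul_comm]⟩
  have hlow : Subsingleton (I.H m d) :=
    Groth.Agent.Lib.H74GrCM.subsingleton_H_of_lt_dim 𝒜 hpos m hm (d + 1) hd I d (Nat.lt_succ_self d)
  exact Groth.Agent.Lib.H74GrReg.step I F m hk hxk hxm hx hπ hπs hker d hlow

end Groth.Agent.S17769
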