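import Groth.Statements.S17774
import Mathlib.Tactic
import Groth.Agent.Lib.H29LocalDualityCM
import Groth.Agent.Lib.H26CMDim
import Groth.Agent.Lib.H26GorDual
import Groth.Agent.S0302

set_option autoImplicit false
universe u
open CategoryTheory Opposite
open LocCoh

namespace Groth.Agent.S17774

/-- Let (S, n) be a Gorenstein local ring, I an ideal of S of height g such that R = S ⧸ I is a
Cohen–Macaulay local ring, of Krull dimension d, and E an injective hull of the residue field of S.
Then the canonical module of R is Ext^g_S(R, S), in the following sense: the Matlis dual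
Hom_S(Ext^g_S(R, S), E) is isomorphic as an S-module to the top local cohomology H^d_n(R) of R
regarded as an S-module (existence of an S-linear isomorphism; Hom into E over S and local
cohomology with support in n agree with the corresponding notions over R for R-modules). -/
theorem result (S : Type u) [CommRing S] [LocCoh.IsGorensteinLocalRing S] (I : Ideal S) (g : ℕ) (hg : I.height = g) [LocCoh.IsCohenMacaulayLocalRing (S ⧸ I)] (d : ℕ) (hd : ringKrullDim (S ⧸ I) = d) (E : Type u) [AddCommGroup E] [Module S E] (f : IsLocalRing.ResidueField S →ₗ[S] E) (hf : InjHull.IsInjectiveHull f) : Nonempty ((((Ext S (ModuleCat.{u} S) g).obj (op (ModuleCat.of S (S ⧸ I)))).obj (ModuleCat.of S S) →ₗ[S] E) ≃ₗ[S] LocCoh.H (IsLocalRing.maximalIdeal S) d (S ⧸ I)) := by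
  have hCM : LocCoh.IsCohenMacaulayLocalRing S :=
    Groth.Agent.Lib.H26CMDim.isCohenMacaulayLocalRing_of_gorenstein S
  obtain ⟨n, hn, -, -⟩ := Groth.Agent.Lib.H29Gorenstein.gorenstein_invariants S
  obtain ⟨f0, hf0⟩ := Groth.Agent.Lib.H26GorDual.gorenstein_exists_isInjectiveHull_H S n hn
  obtain ⟨e, -⟩ := Groth.Agent.S0302.result S _ E _ f hf f0 hf0
  let eK : (S →ₗ[S] E) ≃ₗ[S] LocCoh.H (IsLocalRing.maximalIdeal S) n S :=
    (LinearMap.ringLmapEquivSelf S S E) ≪≫ₗ e
  have hgd : g + d = n := Groth.Agent.Lib.H26CMDim.height_add_quotient_dim n hn I g d hg hd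
  obtain ⟨φ⟩ := Groth.Agent.Lib.H29LocalDualityCM.cm_localDuality n hn f hf eK g d hgd (S ⧸ I)
  exact ⟨(φ ≪≫ₗ LinearEquiv.congrLeft E S
    (Groth.Agent.Lib.ExtBridge.bridge (ModuleCat.of S (S ⧸ I)) (ModuleCat.of S S) g).symm).symm⟩


end Groth.Agent.S17774
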