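import Groth.Statements.S17776
import Groth.Agent.Lib.ExtCechKoszul
import Groth.Agent.Lib.KoszulLim9

set_option autoImplicit false
universe u
open CategoryTheory CategoryTheory.Limits
attribute [local instance] HasDerivedCategory.standard
open LocCoh

namespace Groth.Agent.S17776

open CochainComplex HomologicalComplex Groth.Agent.Lib.KoszulCone Groth.Agent.Lib.KoszulElem
  Groth.Agent.Lib.ExtCechTors Groth.Agent.Lib.ExtCechKoszul in
/-- one step: degree zero of the cocone of `K → K_f` -/
theorem zeroStep {R : Type u} [CommRing R] (K : DRing.Cx R) (f : R)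
    (hK : IsZero (K.X (0 + -1))) {N : Type u} [AddCommGroup N] [Module R N]
    (t : K.X 0 →ₗ[R] N) (ht : Function.Bijective t) (P : N → Prop)
    (hcoc : ∀ z, K.d 0 1 z = 0 ↔ P (t z)) :
    ∃ t' : (CochainComplex.mappingCocone (DerCA.locCxUnit (Submonoid.powers f) K)).X 0 →ₗ[R] N,
      Function.Bijective t' ∧
      ∀ z, (CochainComplex.mappingCocone (DerCA.locCxUnit (Submonoid.powers f) K)).d 0 1 z = 0 ↔
        (P (t' z) ∧ ∃ n : ℕ, f ^ n • t' z = 0) := by
  have hsub : Subsingleton (((DerCA.locCx (Submonoid.powers f)).obj K).X (0 + -1)) := by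
    apply ModuleCat.subsingleton_of_isZero
    exact (DerCA.locFunctor (Submonoid.powers f)).map_isZero hK
  have hdeg := degExact_cocone (DerCA.locCxUnit (Submonoid.powers f) K) 0
  -- the projection to `K^0` is bijective
  have hpinj : Function.Injective
      ((mappingCocone.fst (DerCA.locCxUnit (Submonoid.powers f) K)).f 0) := by
    intro z z' hzz
    have h1 : (mappingCocone.fst (DerCA.locCxUnit (Submonoid.powers f) K)).f 0 (z - z') = 0 := by
      rw [map_sub, hzz, sub_self]
    obtain ⟨b, hb⟩ := (hdeg.2.1 _).mp h1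
    have hb0 : b = 0 :=
      Subsingleton.elim (α := ((DerCA.locCx (Submonoid.powers f)).obj K).X (0 + -1)) _ _
    rw [hb0, map_zero] at hb
    exact sub_eq_zero.mp hb.symm
  have hpbij : Function.Bijective
      ((mappingCocone.fst (DerCA.locCxUnit (Submonoid.powers f) K)).f 0) := ⟨hpinj, hdeg.2.2⟩
  -- cocycles
  have hF2 : ∀ z' : (CochainComplex.mappingCocone (DerCA.locCxUnit (Submonoid.powers f) K)).X 0,
      (CochainComplex.mappingCocone (DerCA.locCxUnit (Submonoid.powers f) K)).d 0 1 z' = 0 ↔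
        K.d 0 1 ((mappingCocone.fst (DerCA.locCxUnit (Submonoid.powers f) K)).f 0 z') = 0 ∧
        (DerCA.locCxUnit (Submonoid.powers f) K).f 0
          ((mappingCocone.fst (DerCA.locCxUnit (Submonoid.powers f) K)).f 0 z') = 0 := by
    intro z'
    have key := d_eq_zero_iff (DerCA.locCxUnit (Submonoid.powers f) K) (0 + -1) z'
    have hs : sndE (DerCA.locCxUnit (Submonoid.powers f) K) (0 + -1) z' = 0 :=
      Subsingleton.elim (α := ((DerCA.locCx (Submonoid.powers f)).obj K).X (0 + -1)) _ _
    rw [hs, map_zero, add_zero] at key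
    have hp : (mappingCocone.fst (DerCA.locCxUnit (Submonoid.powers f) K)).f 0 z' =
        fstE (DerCA.locCxUnit (Submonoid.powers f) K) (0 + -1) z' := by
      rw [fst_f_eq]
      rfl
    rw [hp]
    have hd : (CochainComplex.mappingCocone (DerCA.locCxUnit (Submonoid.powers f) K)).d 0 1 z' = 0 ↔
        (mappingCone (DerCA.locCxUnit (Submonoid.powers f) K)).d (0 + -1) (0 + -1 + 1) z' = 0 := by
      have h1 := shift_d_apply (mappingCone (DerCA.locCxUnit (Submonoid.powers f) K)) 0 1 z'
      constructor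
      · intro h
        have h2 : -(mappingCone (DerCA.locCxUnit (Submonoid.powers f) K)).d
            (0 + -1) (1 + -1) z' = 0 := h1.symm.trans h
        exact neg_eq_zero.mp h2
      · intro h
        refine h1.trans ?_
        have h2 : (mappingCone (DerCA.locCxUnit (Submonoid.powers f) K)).d
            (0 + -1) (1 + -1) z' = 0 := h
        exact neg_eq_zero.mpr h2
    rw [hd]
    exact key
  refine ⟨t ∘ₗ ((mappingCocone.fst (DerCA.locCxUnit (Submonoid.powers f) K)).f 0).hom,
    ?_, fun z' => ?_⟩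
  · show Function.Bijective (t ∘ ((mappingCocone.fst (DerCA.locCxUnit (Submonoid.powers f) K)).f 0))
    exact ht.comp hpbij
  rw [hF2, hcoc]
  show _ ↔ (P (t ((mappingCocone.fst (DerCA.locCxUnit (Submonoid.powers f) K)).f 0 z')) ∧
    ∃ n : ℕ, f ^ n • t ((mappingCocone.fst (DerCA.locCxUnit (Submonoid.powers f) K)).f 0 z') = 0)
  generalize (mappingCocone.fst (DerCA.locCxUnit (Submonoid.powers f) K)).f 0 z' = a
  constructor
  · rintro ⟨h1, h2⟩
    refine ⟨h1, ?_⟩
    obtain ⟨⟨_, n, rfl⟩, hn⟩ := loc_eq_zero (Submonoid.powers f) K 0 a h2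
    refine ⟨n, ?_⟩
    rw [← map_smul, hn, map_zero]
  · rintro ⟨h1, n, hn⟩
    refine ⟨h1, ?_⟩
    have h3 : f ^ n • a = 0 := by
      apply ht.1
      rw [map_smul, map_zero]
      exact hn
    have h4 : f ^ n • (DerCA.locCxUnit (Submonoid.powers f) K).f 0 a = 0 := by
      rw [← map_smul, h3, map_zero]
    exact (loc_smul_bijective (Submonoid.powers f) K 0 ⟨f ^ n, n, rfl⟩).1
      (h4.trans (smul_zero _).symm)

/-- degree zero of the extended Cech complex: the term is `M` and the cocycles are the elements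
killed by powers of all entries -/
theorem zeroData {R : Type u} [CommRing R] (M : ModuleCat.{u} R) : ∀ fs : List R,
    ∃ t : (DerCA.extCech M fs).X 0 →ₗ[R] M, Function.Bijective t ∧
      ∀ z, (DerCA.extCech M fs).d 0 1 z = 0 ↔ ∀ f ∈ fs, ∃ n : ℕ, f ^ n • t z = 0
  | [] => by
    refine ⟨(HomologicalComplex.singleObjXSelf (ComplexShape.up ℤ) 0 M).hom.hom,
      ConcreteCategory.bijective_of_isIso _, fun z => ?_⟩
    constructor
    · intro _ f hf
      exact absurd hf List.not_mem_nil
    · intro _
      have h0 : (DerCA.extCech M []).d 0 1 = 0 := HomologicalComplex.single_obj_d _ _ _ _ _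
      rw [h0]
      rfl
  | f :: fs => by
    obtain ⟨t, ht, hcoc⟩ := zeroData M fs
    obtain ⟨t', ht', hcoc'⟩ := zeroStep (DerCA.extCech M fs) f
      (Groth.Agent.Lib.ExtCech.isZero_extCech_X M fs (0 + -1) (Or.inl (by norm_num)))
      t ht (fun m => ∀ g ∈ fs, ∃ n : ℕ, g ^ n • m = 0) hcoc
    refine ⟨t', ht', fun z => ?_⟩
    refine (hcoc' z).trans ?_
    constructor
    · rintro ⟨h1, h2⟩ g hg
      rcases List.mem_cons.mp hg with rfl | hg
      · exact h2
      · exact h1 g hg
    · intro h
      exact ⟨fun g hg => h g (List.mem_cons_of_mem _ hg), h f List.mem_cons_self⟩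


open CochainComplex HomologicalComplex Groth.Agent.Lib.KoszulElem in
/-- recognising the homology of a complex of modules as a submodule -/
theorem nonempty_homology_linearEquiv_sub {A : Type u} [CommRing A]
    (K : CochainComplex (ModuleCat.{u} A) ℤ) (i j k : ℤ) (hij : i + 1 = j) (hjk : j + 1 = k)
    (N : Type u) [AddCommGroup N] [Module A N] (e : K.X j →ₗ[A] N) (P : Submodule A N)
    (h0 : ∀ w : K.X i, e (K.d i j w) = 0)
    (hker : ∀ z : K.X j, K.d j k z = 0 → e z = 0 → ∃ w : K.X i, z = K.d i j w)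
    (hmem : ∀ z : K.X j, K.d j k z = 0 → e z ∈ P)
    (hsurj : ∀ y ∈ P, ∃ z : K.X j, K.d j k z = 0 ∧ e z = y) :
    Nonempty (K.homology j ≃ₗ[A] P) := by
  have hk : K.d i j ≫ ModuleCat.ofHom e = 0 := by
    apply ModuleCat.hom_ext
    apply LinearMap.ext
    intro w
    exact h0 w
  let Φ : K.homology j ⟶ ModuleCat.of A N :=
    K.homologyι j ≫ K.descOpcycles (ModuleCat.ofHom e) i (by simp; omega) hk
  have hΦ : ∀ c : K.cycles j, Φ (K.homologyπ j c) = e (K.iCycles j c) := by
    intro c
    have h1 : K.homologyπ j ≫ Φ = K.iCycles j ≫ ModuleCat.ofHom e := by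
      simp only [Φ]
      rw [← Category.assoc, K.homology_π_ι, Category.assoc, K.p_descOpcycles]
    have h2 := ConcreteCategory.congr_hom h1 c
    rw [ConcreteCategory.comp_apply, ConcreteCategory.comp_apply] at h2
    exact h2
  have hinj : Function.Injective Φ.hom := by
    rw [← LinearMap.ker_eq_bot, LinearMap.ker_eq_bot']
    intro x hx
    obtain ⟨c, rfl⟩ := exists_cycle K j x
    have hx' : e (K.iCycles j c) = 0 := (hΦ c).symm.trans hx
    obtain ⟨w, hw⟩ := hker _ (d_iCycles K j k c) hx'
    exact homologyπ_eq_zero_of_boundary K i j hij c w hw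
  have hrange : LinearMap.range Φ.hom = P := by
    apply le_antisymm
    · rintro _ ⟨x, rfl⟩
      obtain ⟨c, rfl⟩ := exists_cycle K j x
      have h1 : Φ.hom (K.homologyπ j c) = e (K.iCycles j c) := hΦ c
      rw [h1]
      exact hmem _ (d_iCycles K j k c)
    · intro y hy
      obtain ⟨z, hz, rfl⟩ := hsurj y hy
      obtain ⟨c, rfl⟩ := exists_cycle_of_d_eq_zero K j k hjk z hz
      exact ⟨K.homologyπ j c, hΦ c⟩
  exact ⟨(LinearEquiv.ofInjective Φ.hom hinj).trans (LinearEquiv.ofEq _ _ hrange)⟩


/-- Let R be an arbitrary commutative ring, x_1, …, x_n a finite list of elements of R generating the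
ideal I, and M an R-module. Then the degree-zero cohomology of the extended Čech complex 0 → M → ⊕
M_{x_i} → ⊕ M_{x_i x_j} → ⋯ is isomorphic to Γ_I(M), the submodule of elements of M annihilated by
some power of I (existence of an isomorphism of R-modules; R need not be Noetherian). -/
theorem result (R : Type u) [CommRing R] (fs : List R) (M : Type u) [AddCommGroup M] [Module R M] : Nonempty (DerCA.extCechH fs (ModuleCat.of R M) 0 ≅ (DRing.gammaI (Ideal.span {x | x ∈ fs})).obj (ModuleCat.of R M)) := by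
  obtain ⟨t, ht, hcoc⟩ := zeroData (ModuleCat.of R M) fs
  have hsub : Subsingleton ((DerCA.extCech (ModuleCat.of R M) fs).X (-1)) := by
    apply ModuleCat.subsingleton_of_isZero
    exact Groth.Agent.Lib.ExtCech.isZero_extCech_X (ModuleCat.of R M) fs (-1) (Or.inl (by norm_num))
  obtain ⟨e⟩ := nonempty_homology_linearEquiv_sub (DerCA.extCech (ModuleCat.of R M) fs) (-1) 0 1
    (by norm_num) (by norm_num) M t (DRing.torsionSub (Ideal.span {x | x ∈ fs}) M)
    (fun w => by
      have hw : w = 0 := Subsingleton.elim _ _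
      rw [hw, map_zero, map_zero])
    (fun z _ hz => ⟨0, by
      rw [map_zero]
      apply ht.1
      rw [hz, map_zero]⟩)
    (fun z hz => by
      rw [Groth.Agent.Lib.KoszulLim9.mem_torsionSub_iff]
      obtain ⟨n, _, hn⟩ := Groth.Agent.Lib.ExtCechTors.exists_common_pow (t z) fs ((hcoc z).mp hz)
      exact ⟨n, hn⟩)
    (fun y hy => by
      obtain ⟨z, rfl⟩ := ht.2 y
      refine ⟨z, (hcoc z).mpr ?_, rfl⟩
      obtain ⟨n, hn⟩ := (Groth.Agent.Lib.KoszulLim9.mem_torsionSub_iff fs M _).mp hy
      exact fun f hf => ⟨n, hn f hf⟩)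
  exact ⟨e.toModuleIso⟩

end Groth.Agent.S17776

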