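import Groth.Statements.S17779
import Mathlib.Algebra.Group.ForwardDiff
import Mathlib.Data.Nat.Choose.Sum
import Mathlib.Tactic.LinearCombination
import Mathlib.Tactic.Ring
import Mathlib.Tactic.NormNum

set_option autoImplicit false
open DRR

namespace Groth.Agent.S17779

open Finset Nat fwdDiff in
theorem two_mul_choose_two (n : ℕ) : 2 * (n + 1).choose 2 = (n + 1) * n := by
  induction n with
  | zero => simp
  | succ n ih =>
    have h : (n + 2).choose 2 = (n + 1).choose 1 + (n + 1).choose 2 := by
      rw [show (2 : ℕ) = 1 + 1 from rfl, Nat.choose_succ_succ]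
    rw [h, Nat.choose_one_right, mul_add, ih]
    ring

open Finset Nat fwdDiff in
/-- `Δ^n [r^(n+1)] (0) = C(n+1, 2) * n!` -/
theorem fwdDiff_iter_pow_succ_zero (n : ℕ) :
    Δ_[1]^[n] (fun r : ℤ => r ^ (n + 1)) 0 = ((n + 1).choose 2 : ℤ) * (n ! : ℤ) := by
  induction n with
  | zero => simp
  | succ m ih =>
    have h1 : (Δ_[1] fun (r : ℤ) ↦ r ^ (m + 2)) =
        ∑ i ∈ range (m + 2), (m + 2).choose i • fun r ↦ r ^ i := by
      ext x
      simp [nsmul_eq_mul, fwdDiff, add_pow, sum_range_succ, mul_comm]
    rw [Function.iterate_succ_apply, h1, fwdDiff_iter_finsetSum]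
    simp only [fwdDiff_iter_const_smul]
    rw [sum_range_succ, sum_range_succ, Pi.add_apply, Pi.add_apply, Finset.sum_apply]
    rw [Finset.sum_eq_zero (fun i hi => by
      rw [fwdDiff_iter_pow_eq_zero_of_lt (mem_range.1 hi), smul_zero]; rfl)]
    rw [fwdDiff_iter_eq_factorial]
    simp only [Pi.smul_apply, zero_add, ih]
    have h2 := two_mul_choose_two m
    have h3 : (m + 2).choose 2 = (m + 1) + (m + 1).choose 2 := by
      rw [show (2 : ℕ) = 1 + 1 from rfl, Nat.choose_succ_succ, Nat.choose_one_right]
    have h4 : (m + 2).choose m = (m + 2).choose 2 := by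
      have := Nat.choose_symm (by omega : 2 ≤ m + 2)
      rw [show m + 2 - 2 = m by omega] at this
      exact this
    have h5 : (m + 2).choose (m + 1) = m + 2 := by
      have := Nat.choose_symm (by omega : 1 ≤ m + 2)
      simp only [Nat.choose_one_right] at this
      rw [show m + 2 - 1 = m + 1 by omega] at this
      exact this
    rw [h4, h5, h3, Nat.factorial_succ]
    have h2' : (2 : ℤ) * ((m + 1).choose 2 : ℤ) = ((m : ℤ) + 1) * m := by exact_mod_cast h2
    simp only [nsmul_eq_mul, Pi.natCast_def, Nat.cast_add, Nat.cast_mul, Nat.cast_one, Nat.cast_ofNat]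
    linear_combination (m ! : ℤ) * (1 : ℤ) * h2'

open Finset Nat fwdDiff in
/-- For natural numbers n and k with k ≤ n + 1, the alternating sum over j = 0, …, n of (−1)^(n−j) C(n,
j) j^k (with the convention 0^0 = 1) equals n! · n(n+1)/2 when k = n + 1, equals n! when k = n, and
vanishes when k < n. (The published statement takes n ≥ 1 and divides through by n!; the case n = 0
holds as well and is included.) -/
theorem result (n k : ℕ) (hk : k ≤ n + 1) :
    (∑ j ∈ Finset.range (n + 1), (-1 : ℤ) ^ (n - j) * (n.choose j : ℤ) * (j : ℤ) ^ k) =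
      (if k = n + 1 then (((n + 1).choose 2 * n.factorial : ℕ) : ℤ)
        else if k = n then (n.factorial : ℤ) else 0) := by
  have h := fwdDiff_iter_eq_sum_shift (1 : ℤ) (fun r : ℤ => r ^ k) n 0
  simp only [zero_add, smul_eq_mul, nsmul_eq_mul, mul_one] at h
  rw [← h]
  split_ifs with h1 h2
  · subst h1
    rw [fwdDiff_iter_pow_succ_zero]
    push_cast; ring
  · subst h2
    rw [fwdDiff_iter_eq_factorial]
    simp
  · have hlt : k < n := by omega
    rw [fwdDiff_iter_pow_eq_zero_of_lt hlt]
    rfl

end Groth.Agent.S17779
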