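import Groth.Statements.S17780
import Groth.Agent.S17779

set_option autoImplicit false
universe u
open DRR

namespace Groth.Agent.S17780

/-- For x, y in a commutative ring and a natural number n, (n+1)! · x · y^n equals the sum over j = 0,
…, n of (−1)^(n−j) C(n, j) (x + j y)^(n+1), minus (n · (n+1)!/2) · y^(n+1). (The published identity
is stated in ℚ[x, y] with an overall factor 1/(n+1) and the coefficients C(n, j)(−1)^(n−j)/n!; it is
given here multiplied through by (n+1)!, which makes it an identity with integer coefficients valid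
in every commutative ring; n · (n+1)!/2 is an integer.) -/
theorem result (A : Type u) [CommRing A] (x y : A) (n : ℕ) :
    ((n + 1).factorial : A) * x * y ^ n =
      (∑ j ∈ Finset.range (n + 1), (-1 : A) ^ (n - j) * (n.choose j : A) * (x + (j : A) * y) ^ (n + 1))
        - ((n * (n + 1).factorial / 2 : ℕ) : A) * y ^ (n + 1) := by
  have key : ∀ k : ℕ, k ≤ n + 1 →
      (∑ j ∈ Finset.range (n + 1), (-1 : A) ^ (n - j) * (n.choose j : A) * (j : A) ^ k) =
        (if k = n + 1 then (((n + 1).choose 2 * n.factorial : ℕ) : A)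
          else if k = n then (n.factorial : A) else 0) := by
    intro k hk
    have h := congrArg (Int.cast : ℤ → A) (Groth.Agent.S17779.result n k hk)
    push_cast at h
    rw [h]
    push_cast
    rfl
  have hexp : ∀ j : ℕ, (x + (j : A) * y) ^ (n + 1) =
      ∑ i ∈ Finset.range (n + 2), x ^ i * y ^ (n + 1 - i) * ((n + 1).choose i : A) * (j : A) ^ (n + 1 - i) := by
    intro j
    rw [add_pow]
    refine Finset.sum_congr rfl fun i _ => ?_
    rw [mul_pow]
    ring
  have hsum : (∑ j ∈ Finset.range (n + 1), (-1 : A) ^ (n - j) * (n.choose j : A) * (x + (j : A) * y) ^ (n + 1)) =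
      ∑ i ∈ Finset.range (n + 2), x ^ i * y ^ (n + 1 - i) * ((n + 1).choose i : A) *
        (∑ j ∈ Finset.range (n + 1), (-1 : A) ^ (n - j) * (n.choose j : A) * (j : A) ^ (n + 1 - i)) := by
    simp_rw [hexp, Finset.mul_sum]
    rw [Finset.sum_comm]
    refine Finset.sum_congr rfl fun i _ => Finset.sum_congr rfl fun j _ => ?_
    ring
  rw [hsum]
  rw [Finset.sum_range_succ' _ (n + 1), Finset.sum_range_succ' _ n]
  rw [Finset.sum_eq_zero (fun i hi => by
    have hi' := Finset.mem_range.1 hi
    rw [key (n + 1 - (i + 1 + 1)) (by omega)]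
    have h1 : n + 1 - (i + 1 + 1) ≠ n + 1 := by omega
    have h2 : n + 1 - (i + 1 + 1) ≠ n := by omega
    rw [if_neg h1, if_neg h2, mul_zero])]
  rw [key (n + 1 - (0 + 1)) (by omega), key (n + 1 - 0) (by omega)]
  have e1 : n + 1 - (0 + 1) = n := by omega
  have e2 : n + 1 - 0 = n + 1 := by omega
  rw [e1, e2, if_neg (by omega : n ≠ n + 1), if_pos rfl, if_pos rfl]
  have h2 := Groth.Agent.S17779.two_mul_choose_two n
  have h3 : n * (n + 1).factorial / 2 = (n + 1).choose 2 * n.factorial := by
    rw [Nat.factorial_succ]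
    apply Nat.div_eq_of_eq_mul_left (by norm_num)
    calc n * ((n + 1) * n.factorial) = ((n + 1) * n) * n.factorial := by ring
      _ = (2 * (n + 1).choose 2) * n.factorial := by rw [h2]
      _ = (n + 1).choose 2 * n.factorial * 2 := by ring
  rw [h3]
  simp only [zero_add, pow_zero, pow_one, Nat.choose_zero_right, Nat.choose_one_right, Nat.cast_one,
    Nat.factorial_succ]
  push_cast
  ring

end Groth.Agent.S17780
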