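import Groth.Statements.S17781
import Mathlib
-- import your own Groth.Agent.* helpers here

set_option autoImplicit false
open Variety

namespace Groth.Agent.S17781


theorem not_dvd_choose_pred (p : ℕ) (hp : p.Prime) :
    ∀ (j d : ℕ), 1 ≤ d → p ^ j ∣ d → ¬ p ∣ (d - 1).choose (p ^ j - 1) := by
  intro j
  induction j with
  | zero =>
    intro d hd _
    simp [hp.one_lt.ne']
  | succ j ih =>
    intro d hd hdvd
    have : Fact p.Prime := ⟨hp⟩
    obtain ⟨e, rfl⟩ : p ∣ d := dvd_trans (dvd_pow_self p (Nat.succ_ne_zero j)) hdvd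
    have hp1 : 1 ≤ p := hp.one_lt.le
    have he : 1 ≤ e := by
      rcases e with _ | e
      · simp at hd
      · omega
    have hje : p ^ j ∣ e := by
      rw [pow_succ'] at hdvd
      exact (Nat.mul_dvd_mul_iff_left hp.pos).mp hdvd
    have hpj : 1 ≤ p ^ j := Nat.one_le_pow _ _ hp.pos
    have h12 : (p * e - 1) / p = e - 1 ∧ (p * e - 1) % p = p - 1 := by
      rw [Nat.div_mod_unique hp.pos]
      refine ⟨?_, by omega⟩
      obtain ⟨e', rfl⟩ : ∃ e', e = e' + 1 := ⟨e - 1, by omega⟩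
      rw [Nat.add_sub_cancel, mul_add, mul_one]
      omega
    have h34 : (p ^ (j + 1) - 1) / p = p ^ j - 1 ∧ (p ^ (j + 1) - 1) % p = p - 1 := by
      rw [Nat.div_mod_unique hp.pos]
      refine ⟨?_, by omega⟩
      obtain ⟨e', he'⟩ : ∃ e', p ^ j = e' + 1 := ⟨p ^ j - 1, by omega⟩
      rw [pow_succ', he', Nat.add_sub_cancel, mul_add, mul_one]
      omega
    have key := Choose.choose_modEq_choose_mod_mul_choose_div_nat (n := p * e - 1)
      (k := p ^ (j + 1) - 1) (p := p)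
    rw [h12.1, h12.2, h34.1, h34.2, Nat.choose_self, one_mul] at key
    intro hdiv
    exact ih e he hje
      (Nat.modEq_zero_iff_dvd.mp (key.symm.trans (Nat.modEq_zero_iff_dvd.mpr hdiv)))

theorem quot_gcd_dvd_choose (d n : ℕ) (hd : 1 ≤ d) (hn : 1 ≤ n) :
    d / Nat.gcd d n ∣ d.choose n := by
  obtain ⟨d', rfl⟩ : ∃ d', d = d' + 1 := ⟨d - 1, by omega⟩
  obtain ⟨n', rfl⟩ : ∃ n', n = n' + 1 := ⟨n - 1, by omega⟩
  have hg : 0 < Nat.gcd (d' + 1) (n' + 1) := Nat.gcd_pos_of_pos_left _ (by omega)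
  have hcop := Nat.coprime_div_gcd_div_gcd hg
  have hmul := Nat.add_one_mul_choose_eq d' n'
  -- (d'+1) * C(d', n') = C(d'+1, n'+1) * (n'+1)
  set g := Nat.gcd (d' + 1) (n' + 1) with hgdef
  have hdg : (d' + 1) = g * ((d' + 1) / g) := (Nat.mul_div_cancel' (Nat.gcd_dvd_left _ _)).symm
  have hng : (n' + 1) = g * ((n' + 1) / g) := (Nat.mul_div_cancel' (Nat.gcd_dvd_right _ _)).symm
  have h2 : ((d' + 1) / g) * d'.choose n' = (d' + 1).choose (n' + 1) * ((n' + 1) / g) := by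
    apply Nat.eq_of_mul_eq_mul_left hg
    calc g * ((d' + 1) / g * d'.choose n') = (g * ((d' + 1) / g)) * d'.choose n' := by ring
      _ = (d' + 1) * d'.choose n' := by rw [← hdg]
      _ = (d' + 1).choose (n' + 1) * (n' + 1) := hmul
      _ = (d' + 1).choose (n' + 1) * (g * ((n' + 1) / g)) := by rw [← hng]
      _ = g * ((d' + 1).choose (n' + 1) * ((n' + 1) / g)) := by ring
  exact hcop.dvd_of_dvd_mul_right ⟨_, h2.symm⟩

theorem dvd_quot_of_dvd_choose (d N δ ℓ : ℕ) (hd : 1 ≤ d) (hδ : δ ∣ d) (h1 : 1 ≤ δ) (hN : δ ≤ N)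
    (h : ∀ n ∈ Finset.Icc 1 N, ℓ ∣ d.choose n) : ℓ ∣ d / δ := by
  rw [Nat.dvd_iff_prime_pow_dvd_dvd]
  intro p k hp hpk
  -- j = multiplicity of p in δ
  have hδ0 : δ ≠ 0 := by omega
  obtain ⟨j, δ', hδ', rfl⟩ : ∃ j δ', ¬ p ∣ δ' ∧ δ = p ^ j * δ' :=
    Nat.exists_eq_pow_mul_and_not_dvd hδ0 p hp.ne_one
  have hpj1 : 1 ≤ p ^ j := Nat.one_le_pow _ _ hp.pos
  have hδ'1 : 1 ≤ δ' := by
    rcases δ' with _ | δ'
    · simp at hδ0
    · omega
  have hpjN : p ^ j ≤ N := le_trans (Nat.le_mul_of_pos_right _ hδ'1) hN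
  have hpjd : p ^ j ∣ d := dvd_trans (dvd_mul_right _ _) hδ
  have hC : p ^ k ∣ d.choose (p ^ j) :=
    dvd_trans hpk (h _ (Finset.mem_Icc.mpr ⟨hpj1, hpjN⟩))
  have hnd := not_dvd_choose_pred p hp j d hd hpjd
  obtain ⟨d', rfl⟩ : ∃ d', d = d' + 1 := ⟨d - 1, by omega⟩
  obtain ⟨m, hm⟩ : ∃ m, p ^ j = m + 1 := ⟨p ^ j - 1, by omega⟩
  rw [Nat.add_sub_cancel, hm, Nat.add_sub_cancel] at hnd
  rw [hm] at hC
  have hmul := Nat.add_one_mul_choose_eq d' m
  -- (d'+1) * C(d', m) = C(d'+1, m+1) * (m+1)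
  have h3 : p ^ (k + j) ∣ (d' + 1) * d'.choose m := by
    rw [hmul, pow_add, hm]
    exact Nat.mul_dvd_mul hC dvd_rfl
  have hcop : Nat.Coprime (p ^ (k + j)) (d'.choose m) :=
    Nat.Coprime.pow_left _ ((Nat.Prime.coprime_iff_not_dvd hp).mpr hnd)
  have h4 : p ^ (k + j) ∣ d' + 1 := hcop.dvd_of_dvd_mul_right h3
  -- d'+1 = p^j * δ' * q
  obtain ⟨q, hq⟩ := hδ
  have hquot : (d' + 1) / (p ^ j * δ') = q := by
    rw [hq]; exact Nat.mul_div_cancel_left _ (by positivity)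
  rw [hquot]
  rw [hq, pow_add, mul_comm (p ^ k) (p ^ j), mul_assoc] at h4
  have h5 : p ^ k ∣ δ' * q := (Nat.mul_dvd_mul_iff_left (by positivity)).mp h4
  have hcop2 : Nat.Coprime (p ^ k) δ' :=
    Nat.Coprime.pow_left _ ((Nat.Prime.coprime_iff_not_dvd hp).mpr hδ')
  exact hcop2.dvd_of_dvd_mul_left h5

/-- the Euler characteristic -/
def chi (d n : ℕ) : ℤ := 1 - (-1 : ℤ) ^ n * ((d - 1).choose n : ℤ)

theorem chi_zero (d : ℕ) : chi d 0 = 0 := by simp [chi]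

theorem chi_succ (d n : ℕ) (hd : 1 ≤ d) :
    chi d (n + 1) = chi d n + (-1 : ℤ) ^ n * (d.choose (n + 1) : ℤ) := by
  obtain ⟨e, rfl⟩ : ∃ e, d = e + 1 := ⟨d - 1, by omega⟩
  simp only [chi, Nat.add_sub_cancel, Nat.choose_succ_succ]
  push_cast
  ring

theorem dvd_chi_iff (d N : ℕ) (hd : 1 ≤ d) (g : ℤ) :
    (∀ n ∈ Finset.Icc 1 N, g ∣ chi d n) ↔ (∀ n ∈ Finset.Icc 1 N, g ∣ (d.choose n : ℤ)) := by
  have step : ∀ n, g ∣ chi d n → (g ∣ chi d (n + 1) ↔ g ∣ (d.choose (n + 1) : ℤ)) := by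
    intro n hn
    rw [chi_succ d n hd, dvd_add_right hn]
    exact IsUnit.dvd_mul_left ((isUnit_one.neg).pow n)
  constructor
  · intro h n hn
    rw [Finset.mem_Icc] at hn
    obtain ⟨m, rfl⟩ : ∃ m, n = m + 1 := ⟨n - 1, by omega⟩
    have hm : g ∣ chi d m := by
      rcases Nat.eq_zero_or_pos m with rfl | hm
      · rw [chi_zero]; exact dvd_zero _
      · exact h m (Finset.mem_Icc.mpr ⟨hm, by omega⟩)
    exact (step m hm).mp (h _ (Finset.mem_Icc.mpr hn))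
  · intro h
    have : ∀ n, n ≤ N → g ∣ chi d n := by
      intro n
      induction n with
      | zero => intro _; rw [chi_zero]; exact dvd_zero _
      | succ m ih =>
        intro hm
        exact (step m (ih (by omega))).mpr (h _ (Finset.mem_Icc.mpr ⟨by omega, hm⟩))
    intro n hn
    exact this n (Finset.mem_Icc.mp hn).2

theorem main (d N : ℕ) (hd : 1 ≤ d) (_hN : 1 ≤ N) :
    (Finset.Icc 1 N).gcd (fun n => 1 - (-1 : ℤ) ^ n * ((d - 1).choose n : ℤ)) =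
      ((Finset.Icc 1 N).filter (fun δ => δ ∣ d)).gcd (fun δ => ((d / δ : ℕ) : ℤ)) := by
  change (Finset.Icc 1 N).gcd (fun n => chi d n) = _
  apply dvd_antisymm_of_normalize_eq (Finset.normalize_gcd) (Finset.normalize_gcd)
  · apply Finset.dvd_gcd
    intro δ hδ
    rw [Finset.mem_filter, Finset.mem_Icc] at hδ
    have h1 : ∀ n ∈ Finset.Icc 1 N, (Finset.Icc 1 N).gcd (fun n => chi d n) ∣ (d.choose n : ℤ) :=
      (dvd_chi_iff d N hd _).mp (fun n hn => Finset.gcd_dvd hn)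
    rw [Int.dvd_natCast]
    apply dvd_quot_of_dvd_choose d N δ _ hd hδ.2 hδ.1.1 hδ.1.2
    intro n hn
    exact Int.dvd_natCast.mp (h1 n hn)
  · apply Finset.dvd_gcd
    rw [dvd_chi_iff d N hd]
    intro n hn
    have hn' := Finset.mem_Icc.mp hn
    have hg1 : 1 ≤ Nat.gcd d n := Nat.gcd_pos_of_pos_left _ (by omega)
    have hgN : Nat.gcd d n ≤ N := le_trans (Nat.gcd_le_right _ (by omega)) hn'.2
    have hmem : Nat.gcd d n ∈ (Finset.Icc 1 N).filter (fun δ => δ ∣ d) :=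
      Finset.mem_filter.mpr ⟨Finset.mem_Icc.mpr ⟨hg1, hgN⟩, Nat.gcd_dvd_left _ _⟩
    exact dvd_trans (Finset.gcd_dvd (f := fun δ => ((d / δ : ℕ) : ℤ)) hmem)
      (Int.natCast_dvd_natCast.mpr (quot_gcd_dvd_choose d n hd hn'.1))


/-- Let d ≥ 1 and N ≥ 1 be integers and let I(d, N) be the greatest common divisor of the quotients d/δ
over the divisors δ of d with 1 ≤ δ ≤ N. Then I(d, N) equals the greatest common divisor of the
integers χ(d, n) = 1 − (−1)^n C(d − 1, n) for 1 ≤ n ≤ N (χ(d, n) is the Euler characteristic of O_H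
for a degree-d hypersurface H in projective n-space). Both greatest common divisors are taken in ℤ,
normalised to be non-negative. -/
theorem result (d N : ℕ) (hd : 1 ≤ d) (hN : 1 ≤ N) :
    (Finset.Icc 1 N).gcd (fun n => 1 - (-1 : ℤ) ^ n * ((d - 1).choose n : ℤ)) =
      ((Finset.Icc 1 N).filter (fun δ => δ ∣ d)).gcd (fun δ => ((d / δ : ℕ) : ℤ)) := by
  exact main d N hd hN

end Groth.Agent.S17781
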