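import Groth.Statements.S17794
import Groth.Agent.Lib.H69QuotPres
import Groth.Agent.Lib.H69DescentAffine
import Groth.Agent.Lib.H69FppfLocal
import Groth.Agent.Lib.PtsPullback18
import Groth.Agent.Lib.AlgSpBasic
import Groth.Agent.Lib.FlatDescend45

set_option autoImplicit false
set_option maxHeartbeats 400000
universe u
open CategoryTheory CategoryTheory.Limits MonoidalCategory CartesianMonoidalCategory MonObj GrpObj AlgebraicGeometry
open GrpSch

namespace Groth.Agent.S17794

section Cat

universe v₁ u₁
variable {C : Type u₁} [Category.{v₁} C] [CartesianMonoidalCategory C]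
  {G Q N : C} [GrpObj G] [GrpObj Q] (f : G ⟶ Q) [IsMonHom f] (i : N ⟶ G)

include f in
/-- Translating the kernel by a section: `N ⊗ T ≅ G ×_Q T` via `(n, t) ↦ (i n · s t, t)`. -/
lemma isPullback_translate (hK : IsPullback i (toUnit N) f η[Q]) {T : C} (s : T ⟶ G) :
    IsPullback ((fst N T ≫ i) * (snd N T ≫ s)) (snd N T) f (s ≫ f) := by
  have hif : ∀ {W : C} (n : W ⟶ N), (n ≫ i) ≫ f = 1 := by
    intro W n
    rw [Category.assoc, hK.w, ← Category.assoc, toUnit_unique (n ≫ toUnit N) (toUnit W),
      Hom.one_def]
  have hθ : ∀ {W : C} (p : W ⟶ N ⊗ T),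
      p ≫ ((fst N T ≫ i) * (snd N T ≫ s)) = ((p ≫ fst N T) ≫ i) * ((p ≫ snd N T) ≫ s) := by
    intro W p
    rw [MonObj.comp_mul, Category.assoc, Category.assoc]
  refine Groth.Agent.Lib.PtsPullback18.isPullback_of_points ?_ ?_ ?_
  · rw [MonObj.mul_comp, hif, _root_.one_mul, Category.assoc]
  · intro W x y hxy
    have hc : (x * (y ≫ s)⁻¹) ≫ f = toUnit W ≫ η[Q] := by
      rw [MonObj.mul_comp, GrpObj.inv_comp, hxy, Category.assoc, mul_inv_cancel, Hom.one_def]
    refine ⟨lift (hK.lift _ (toUnit W) hc) y, ?_, lift_snd _ _⟩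
    rw [hθ, lift_fst, lift_snd, hK.lift_fst, inv_mul_cancel_right]
  · intro W p₁ p₂ h1 h2
    apply CartesianMonoidalCategory.hom_ext
    · apply hK.hom_ext
      · rw [hθ, hθ, h2] at h1
        exact mul_right_cancel h1
      · exact toUnit_unique _ _
    · exact h2

end Cat

open Groth.Agent.Lib.H69QuotPres Groth.Agent.Lib.H69AlgSp

theorem epi_repMap_iff {S : Scheme.{u}} {V W : Over S} (g : V ⟶ W) :
    Epi (QuotSh.repMap Scheme.fppfPrecoverage g) ↔ Epi ((AlgSp.yon S).map g) := by
  have h := rIso_naturality g
  constructor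
  · intro hE
    have h1 : Epi ((rIso V).hom ≫ (AlgSp.yon S).map g) := by
      rw [← h]
      exact epi_comp _ _
    exact epi_of_epi (rIso V).hom _
  · intro hE
    have h1 : Epi (QuotSh.repMap Scheme.fppfPrecoverage g ≫ (rIso W).hom) := by
      rw [h]
      exact epi_comp _ _
    have e : QuotSh.repMap Scheme.fppfPrecoverage g =
        (QuotSh.repMap Scheme.fppfPrecoverage g ≫ (rIso W).hom) ≫ (rIso W).inv := by
      rw [Category.assoc, Iso.hom_inv_id, Category.comp_id]
    rw [e]
    exact epi_comp _ _

end Groth.Agent.S17794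

namespace Groth.Agent.S17794

/-- Let S be a scheme and f : G → H a homomorphism of S-group schemes, both of finite presentation over
S (locally of finite presentation, quasi-compact and quasi-separated), and let i : N → G be the
kernel of f (the square formed by i, f, the unit section of H and N → S is cartesian). Then f is
faithfully flat (flat and surjective) if and only if the map of representable sheaves h_G → h_H
induced by f on the big fppf site of S is an epimorphism of sheaves of sets and N is flat over S. -/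
theorem result {S : Scheme.{u}} {G H N : Over S} [GrpObj G] [GrpObj H] (f : G ⟶ H) [IsMonHom f] [LocallyOfFinitePresentation G.hom] [QuasiCompact G.hom] [QuasiSeparated G.hom] [LocallyOfFinitePresentation H.hom] [QuasiCompact H.hom] [QuasiSeparated H.hom] (i : N ⟶ G) (hi : AlgGrp.IsKernel i f) : (Flat f.left ∧ Surjective f.left) ↔ (Epi (QuotSh.repMap Scheme.fppfPrecoverage f) ∧ Flat N.hom) := by
  constructor
  · rintro ⟨hfl, hsurj⟩
    have hlfp : LocallyOfFinitePresentation f.left := by
      have : LocallyOfFinitePresentation (f.left ≫ H.hom) := by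
        rw [Over.w f]
        infer_instance
      exact Groth.Agent.Lib.AlgSpBasic.locallyOfFinitePresentation_of_comp f.left H.hom this inferInstance
    refine ⟨?_, ?_⟩
    · rw [epi_repMap_iff]
      have := Groth.Agent.Lib.H69DescentAffine.isLocallySurjective_yon_map f
      exact (Sheaf.isLocallySurjective_iff_epi _).1 this
    · have sq := hi.map (Over.forget S)
      have h1 : Flat (toUnit N).left := MorphismProperty.of_isPullback (P := @Flat) sq hfl
      have h2 : N.hom = (toUnit N).left := by
        simp
      rw [h2]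
      exact h1
  · rintro ⟨hepi, hNfl⟩
    rw [epi_repMap_iff] at hepi
    have hloc : Sheaf.IsLocallySurjective ((AlgSp.yon S).map f) :=
      (Sheaf.isLocallySurjective_iff_epi _).2 hepi
    obtain ⟨R, hR, hlift⟩ := Groth.Agent.Lib.H69AlgSp.exists_cover_lift ((AlgSp.yon S).map f)
      (𝟙 ((AlgSp.yon S).obj H))
    have hsec : ∀ ⦃T : Scheme.{u}⦄ (g : T ⟶ H.left), R g →
        ∃ s : Over.mk (g ≫ H.hom) ⟶ G, s ≫ f = (Over.homMk g : Over.mk (g ≫ H.hom) ⟶ H) := by
      intro T g hg
      obtain ⟨y, hy⟩ := hlift g hg
      obtain ⟨s, rfl⟩ := (AlgSp.yon S).map_surjective y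
      refine ⟨s, (AlgSp.yon S).map_injective ?_⟩
      rw [Functor.map_comp, hy, Category.comp_id]
    have hsq : ∀ ⦃T : Scheme.{u}⦄ (g : T ⟶ H.left), R g →
        ∃ (s : Over.mk (g ≫ H.hom) ⟶ G) (θ : N ⊗ Over.mk (g ≫ H.hom) ⟶ G), s.left ≫ f.left = g ∧
          IsPullback θ.left (snd N (Over.mk (g ≫ H.hom))).left f.left g := by
      intro T g hg
      obtain ⟨s, hs⟩ := hsec g hg
      have sq := isPullback_translate f i hi s
      rw [hs] at sq
      refine ⟨s, _, ?_, by simpa using sq.map (Over.forget S)⟩
      have := congrArg (fun k => k.left) hs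
      simpa using this
    constructor
    · refine Groth.Agent.Lib.H69FppfLocal.of_forall_pullbackSnd_fppf @Flat f.left R hR ?_
      intro T g hg
      obtain ⟨s, θ, hs, sqL⟩ := hsq g hg
      have hsnd : Flat (snd N (Over.mk (g ≫ H.hom))).left := by
        show Flat (pullback.snd N.hom (g ≫ H.hom))
        infer_instance
      have e : pullback.snd f.left g = sqL.isoPullback.inv ≫ (snd N (Over.mk (g ≫ H.hom))).left := by
        rw [IsPullback.isoPullback_inv_snd]
      rw [e]
      infer_instance
    · refine Groth.Agent.Lib.H69FppfLocal.of_forall_pullbackSnd_fppf @Surjective f.left R hR ?_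
      intro T g hg
      obtain ⟨s, θ, hs, sqL⟩ := hsq g hg
      have hσ : pullback.lift s.left (𝟙 T) (hs.trans (Category.id_comp g).symm) ≫ pullback.snd f.left g = 𝟙 T :=
        pullback.lift_snd _ _ _
      have : Surjective (pullback.lift s.left (𝟙 T) (hs.trans (Category.id_comp g).symm) ≫ pullback.snd f.left g) := by
        rw [hσ]
        exact ⟨fun x => ⟨x, by simp⟩⟩
      exact Surjective.of_comp (pullback.lift s.left (𝟙 T) (hs.trans (Category.id_comp g).symm)) _

end Groth.Agent.S17794
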