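import Groth.Statements.S17797
import Mathlib.RingTheory.EssentialFiniteness
import Mathlib.RingTheory.AlgebraicIndependent.TranscendenceBasis
import Mathlib.RingTheory.Localization.AtPrime.Basic
import Mathlib.RingTheory.Localization.FractionRing
import Mathlib.RingTheory.LocalRing.ResidueField.Basic
import Mathlib.RingTheory.IntegralClosure.IsIntegralClosure.Basic

set_option autoImplicit false
universe u
open CAlg

namespace Groth.Agent.S17797

/-- Suppose k is a field of characteristic zero and S is a local domain that is an essentially
finite-type k-algebra. Then there are an extension field K of k, a K-algebra A of finite type and a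
maximal ideal m of A such that S is isomorphic over k to the localization A_m. -/
theorem result (k : Type u) [Field k] [CharZero k] (S : Type u) [CommRing S] [IsDomain S] [IsLocalRing S] [Algebra k S] [Algebra.EssFiniteType k S] : ∃ (K : Type u) (_ : Field K) (_ : Algebra k K) (A : Type u) (_ : CommRing A) (_ : Algebra K A) (_ : Algebra k A) (_ : IsScalarTower k K A) (_ : Algebra.FiniteType K A) (m : Ideal A) (_ : m.IsMaximal), Nonempty (S ≃ₐ[k] Localization.AtPrime m) := by
  classical
  obtain ⟨s, hs⟩ := exists_isTranscendenceBasis k (IsLocalRing.ResidueField S)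
  have hlift : ∀ i : s, ∃ y : S, IsLocalRing.residue S y = i.1 :=
    fun i => IsLocalRing.residue_surjective i.1
  choose x hx using hlift
  let φ : MvPolynomial s k →ₐ[k] S := MvPolynomial.aeval x
  have hres : ∀ p : MvPolynomial s k, IsLocalRing.residue S (φ p) =
      MvPolynomial.aeval (fun i : s => (i : IsLocalRing.ResidueField S)) p := by
    intro p
    have h1 : (IsScalarTower.toAlgHom k S (IsLocalRing.ResidueField S)).comp φ =
        MvPolynomial.aeval (fun i : s => (i : IsLocalRing.ResidueField S)) := by
      apply MvPolynomial.algHom_ext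
      intro i
      simp only [AlgHom.comp_apply, φ, MvPolynomial.aeval_X]
      exact hx i
    exact congrArg (fun f => f p) h1
  have hunit : ∀ p : nonZeroDivisors (MvPolynomial s k), IsUnit ((φ : MvPolynomial s k →+* S) p) := by
    intro p
    by_contra hnu
    have h0 : IsLocalRing.residue S (φ p.1) = 0 :=
      (IsLocalRing.residue_eq_zero_iff _).mpr ((IsLocalRing.mem_maximalIdeal _).mpr hnu)
    rw [hres] at h0
    exact nonZeroDivisors.ne_zero p.2 ((injective_iff_map_eq_zero _).mp hs.1 _ h0)
  let K := FractionRing (MvPolynomial s k)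
  let ψ : K →+* S := IsLocalization.lift (M := nonZeroDivisors (MvPolynomial s k)) hunit
  have hψ : ∀ p : MvPolynomial s k, ψ (algebraMap _ K p) = φ p :=
    fun p => IsLocalization.lift_eq hunit p
  let algKS : Algebra K S := ψ.toAlgebra
  have towerS : IsScalarTower k K S := IsScalarTower.of_algebraMap_eq (fun c => by
    show algebraMap k S c = ψ (algebraMap k K c)
    rw [IsScalarTower.algebraMap_apply k (MvPolynomial s k) K, hψ]
    exact (φ.commutes c).symm)
  let algKκ : Algebra K (IsLocalRing.ResidueField S) :=
    ((IsLocalRing.residue S).comp ψ).toAlgebra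
  have towerκ : IsScalarTower K S (IsLocalRing.ResidueField S) :=
    IsScalarTower.of_algebraMap_eq (fun c => rfl)
  have towerκ' : IsScalarTower k K (IsLocalRing.ResidueField S) :=
    IsScalarTower.of_algebraMap_eq (fun c => by
      rw [IsScalarTower.algebraMap_apply k S (IsLocalRing.ResidueField S),
        IsScalarTower.algebraMap_apply k K S, ← IsScalarTower.algebraMap_apply K S])
  have algκ : Algebra.IsAlgebraic K (IsLocalRing.ResidueField S) := by
    rw [hs.isAlgebraic_iff (S := K)]
    intro i
    have hi : (i : IsLocalRing.ResidueField S) =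
        algebraMap K (IsLocalRing.ResidueField S) (algebraMap (MvPolynomial s k) K (MvPolynomial.X i)) := by
      show _ = IsLocalRing.residue S (ψ _)
      rw [hψ]
      simp only [φ, MvPolynomial.aeval_X]
      exact (hx i).symm
    rw [hi]
    exact isAlgebraic_algebraMap _
  obtain ⟨σ, hσ⟩ := (Algebra.essFiniteType_iff (R := k) (S := S)).mp inferInstance
  let A : Subalgebra K S := Algebra.adjoin K (σ : Set S)
  have hAσ : ∀ z ∈ Algebra.adjoin k (σ : Set S), z ∈ A := by
    intro z hz
    have hle : Algebra.adjoin k (σ : Set S) ≤ A.restrictScalars k :=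
      Algebra.adjoin_le (Algebra.subset_adjoin (R := K))
    exact hle hz
  let m : Ideal A := (IsLocalRing.maximalIdeal S).comap (algebraMap A S)
  have hmmax : m.IsMaximal := by
    let g : A →ₐ[K] IsLocalRing.ResidueField S :=
      (IsScalarTower.toAlgHom K S (IsLocalRing.ResidueField S)).comp A.val
    let _ : Field g.range := (Subalgebra.isField_of_algebraic g.range).toField
    have hker : m = RingHom.ker g.rangeRestrict := by
      ext a
      rw [RingHom.mem_ker, Ideal.mem_comap, ← IsLocalRing.residue_eq_zero_iff, Subtype.ext_iff]
      rfl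
    rw [hker]
    exact RingHom.ker_isMaximal_of_surjective _ g.rangeRestrict_surjective
  have hloc : IsLocalization m.primeCompl S := by
    rw [isLocalization_iff]
    refine ⟨?_, ?_, ?_⟩
    · rintro ⟨a, ha⟩
      have hnm : (a : S) ∉ IsLocalRing.maximalIdeal S := fun h => ha h
      exact IsLocalRing.notMem_maximalIdeal.mp hnm
    · intro z
      obtain ⟨t, ht, htu, hzt⟩ := hσ z
      refine ⟨(⟨z * t, hAσ _ hzt⟩, ⟨⟨t, hAσ _ ht⟩, ?_⟩), rfl⟩
      intro h
      exact (IsLocalRing.mem_maximalIdeal _).mp h htu
    · intro a b hab
      exact ⟨1, by rw [Subtype.ext hab]⟩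
  have hloc' : IsLocalization.AtPrime S m := hloc
  let e : S ≃ₐ[A] Localization.AtPrime m :=
    IsLocalization.algEquiv m.primeCompl S (Localization.AtPrime m)
  refine ⟨K, inferInstance, inferInstance, A, inferInstance, inferInstance, inferInstance,
    inferInstance, ?_, m, hmmax, ⟨e.restrictScalars k⟩⟩
  exact (Subalgebra.fg_iff_finiteType A).mp (Subalgebra.fg_adjoin_finset σ)

end Groth.Agent.S17797
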