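import Groth.Statements.S17814
import Mathlib
import Groth.Agent.S2890
import Groth.Agent.Lib.IdealComap

set_option autoImplicit false
set_option linter.style.haveILetI false
universe u
open CategoryTheory CategoryTheory.Limits AlgebraicGeometry
open SDiv

namespace Groth.Agent.S17814

section helpers
open scoped TensorProduct nonZeroDivisors

/-- L0 -/
theorem exists_notMem_mul_eq_zero {A : Type*} [CommRing A] [IsReduced A] {𝔭 : Ideal A}
    (h𝔭 : 𝔭 ∈ minimalPrimes A) {p : A} (hp : p ∈ 𝔭) : ∃ s, s ∉ 𝔭 ∧ s * p = 0 := by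
  haveI : 𝔭.IsPrime := h𝔭.1.1
  have hred : IsReduced (Localization.AtPrime 𝔭) := inferInstance
  have h1 := IsLocalization.AtPrime.radical_map_of_mem_minimalPrimes (Localization.AtPrime 𝔭) 𝔭 ⊥ h𝔭
  rw [Ideal.map_bot] at h1
  have h2 : (⊥ : Ideal (Localization.AtPrime 𝔭)).radical = ⊥ :=
    nilradical_eq_bot_iff.mpr hred
  rw [h2] at h1
  have h3 : algebraMap A (Localization.AtPrime 𝔭) p = 0 := by
    have : algebraMap A (Localization.AtPrime 𝔭) p ∈ Ideal.map (algebraMap A (Localization.AtPrime 𝔭)) 𝔭 :=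
      Ideal.mem_map_of_mem _ hp
    rw [← h1] at this
    exact this
  obtain ⟨m, hm⟩ := (IsLocalization.map_eq_zero_iff 𝔭.primeCompl (Localization.AtPrime 𝔭) p).mp h3
  exact ⟨m.1, m.2, hm⟩

/-- L1 -/
theorem eq_zero_of_forall_mem_minimalPrimes_smul {A M : Type*} [CommRing A] [IsReduced A]
    [IsNoetherianRing A] [AddCommGroup M] [Module A M] [Module.Flat A M] (b : M)
    (hb : ∀ 𝔭 ∈ minimalPrimes A, b ∈ (𝔭 • ⊤ : Submodule A M)) : b = 0 := by
  classical
  let J : Ideal A := LinearMap.ker (LinearMap.toSpanSingleton A M b)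
  have hJ : ∀ a, a ∈ J ↔ a • b = 0 := fun a => by
    show LinearMap.toSpanSingleton A M b a = 0 ↔ _
    rw [LinearMap.toSpanSingleton_apply]
  -- J is not contained in any minimal prime
  have hnot : ∀ 𝔭 ∈ minimalPrimes A, ¬ J ≤ 𝔭 := by
    intro 𝔭 h𝔭 hle
    haveI : 𝔭.IsPrime := h𝔭.1.1
    have key : ∀ m ∈ (𝔭 • ⊤ : Submodule A M), ∃ s, s ∉ 𝔭 ∧ s • m = 0 := by
      intro m hm
      refine Submodule.smul_induction_on hm ?_ ?_
      · intro r hr n _
        obtain ⟨s, hs, hsr⟩ := exists_notMem_mul_eq_zero h𝔭 hr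
        exact ⟨s, hs, by rw [smul_smul, hsr, zero_smul]⟩
      · rintro x y ⟨s, hs, hsx⟩ ⟨s', hs', hsy⟩
        refine ⟨s * s', fun h => (Ideal.IsPrime.mem_or_mem ‹_› h).elim hs hs', ?_⟩
        rw [smul_add, mul_smul s s' y, hsy, smul_zero, mul_comm, mul_smul, hsx, smul_zero, add_zero]
    obtain ⟨s, hs, hsb⟩ := key b (hb 𝔭 h𝔭)
    exact hs (hle ((hJ s).mpr hsb))
  -- prime avoidance
  have hfin : (minimalPrimes A).Finite := minimalPrimes.finite_of_isNoetherianRing A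
  have hnot' : ¬ ((J : Set A) ⊆ ⋃ 𝔭 ∈ minimalPrimes A, ((id 𝔭 : Ideal A) : Set A)) := by
    rw [Ideal.subset_union_prime_finite hfin (f := id) ⊥ ⊥ (fun 𝔭 h𝔭 _ _ => h𝔭.1.1)]
    rintro ⟨𝔭, h𝔭, hle⟩
    exact hnot 𝔭 h𝔭 hle
  obtain ⟨s₀, hs₀J, hs₀⟩ := Set.not_subset.mp hnot'
  have hs₀' : ∀ 𝔭 ∈ minimalPrimes A, s₀ ∉ 𝔭 := by
    intro 𝔭 h𝔭 hmem
    exact hs₀ (Set.mem_biUnion h𝔭 hmem)
  -- s₀ is a nonzerodivisor
  have hs₀nzd : s₀ ∈ A⁰ := by
    rw [mem_nonZeroDivisors_iff_right]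
    intro a ha
    have : a ∈ sInf (minimalPrimes A) := by
      rw [Submodule.mem_sInf]
      intro 𝔭 h𝔭
      have hpr : Ideal.IsPrime 𝔭 := h𝔭.1.1
      have h0 : a * s₀ ∈ 𝔭 := by rw [ha]; exact Submodule.zero_mem 𝔭
      exact (Ideal.IsPrime.mem_or_mem hpr h0).resolve_right (hs₀' 𝔭 h𝔭)
    rw [minimalPrimes, Ideal.sInf_minimalPrimes] at this
    have h2 : (⊥ : Ideal A).radical = ⊥ := nilradical_eq_bot_iff.mpr inferInstance
    rw [h2] at this
    exact this
  have hreg := Module.Flat.isSMulRegular_of_nonZeroDivisors (M := M) hs₀nzd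
  exact hreg (by show s₀ • b = s₀ • 0; rw [(hJ s₀).mp hs₀J, smul_zero])

/-- L2' -/
theorem mem_ker_smul_top_of_tmul_eq_zero {A B' K : Type*} [CommRing A] [AddCommGroup B'] [Module A B']
    [CommRing K] [Algebra A K] [Module.Flat A B'] (y : B')
    (hy : (1 : K) ⊗ₜ[A] y = 0) :
    y ∈ (RingHom.ker (algebraMap A K) • ⊤ : Submodule A B') := by
  set 𝔞 : Ideal A := RingHom.ker (algebraMap A K) with h𝔞
  -- the injective A-linear map A/𝔞 → K
  let j : (A ⧸ 𝔞) →ₗ[A] K := Submodule.liftQ 𝔞 (Algebra.linearMap A K) (by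
    intro a ha
    exact ha)
  have hj : Function.Injective j := by
    rw [← LinearMap.ker_eq_bot]
    exact Submodule.ker_liftQ_eq_bot _ _ _ (le_of_eq rfl)
  have hinj := Module.Flat.rTensor_preserves_injective_linearMap (M := B') j hj
  have h1 : (Submodule.Quotient.mk (1 : A) : A ⧸ 𝔞) ⊗ₜ[A] y = 0 := by
    apply hinj
    rw [LinearMap.rTensor_tmul, map_zero]
    have : j (Submodule.Quotient.mk (1 : A)) = 1 := by
      show Algebra.linearMap A K 1 = 1
      simp
    rw [this, hy]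
  have h2 := congrArg (TensorProduct.quotTensorEquivQuotSMul B' 𝔞) h1
  rw [map_zero] at h2
  have h3 : TensorProduct.quotTensorEquivQuotSMul B' 𝔞 ((Submodule.Quotient.mk (1 : A) : A ⧸ 𝔞) ⊗ₜ[A] y)
      = Submodule.Quotient.mk y := by
    have := TensorProduct.quotTensorEquivQuotSMul_mk_tmul (M := B') 𝔞 1 y
    rw [one_smul] at this
    exact this
  rw [h3] at h2
  exact (Submodule.Quotient.mk_eq_zero _).mp h2


/-- the pushout computation -/
theorem tmul_eq_zero_of_isPushout {A B K P : CommRingCat.{u}} {φ : A ⟶ B} {κ : A ⟶ K} {ψ : B ⟶ P}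
    {ι : K ⟶ P} (h : IsPushout φ κ ψ ι) (I' : Ideal B) (x : B) (hx : ψ.hom x ∈ I'.map ψ.hom) :
    letI := φ.hom.toAlgebra
    letI := κ.hom.toAlgebra
    (1 : K) ⊗ₜ[A] (Ideal.Quotient.mk I' x) = 0 := by
  letI := φ.hom.toAlgebra
  letI := κ.hom.toAlgebra
  let r : B ⟶ CommRingCat.of (K ⊗[A] (B ⧸ I')) :=
    CommRingCat.ofHom ((Algebra.TensorProduct.includeRight (R := A) (A := K)
      (B := B ⧸ I')).toRingHom.comp (Ideal.Quotient.mk I'))
  let q : K ⟶ CommRingCat.of (K ⊗[A] (B ⧸ I')) :=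
    CommRingCat.ofHom (Algebra.TensorProduct.includeLeftRingHom)
  have hcomm : φ ≫ r = κ ≫ q := by
    ext a
    show (1 : K) ⊗ₜ[A] (Ideal.Quotient.mk I' (φ.hom a)) = (κ.hom a) ⊗ₜ[A] (1 : B ⧸ I')
    have h1 : Ideal.Quotient.mk I' (φ.hom a) = a • (1 : B ⧸ I') := by
      rw [Algebra.smul_def, mul_one]
      rfl
    have h2 : κ.hom a = a • (1 : K) := by
      rw [Algebra.smul_def, mul_one]
      rfl
    rw [h1, h2, TensorProduct.smul_tmul]
  have hd : ψ ≫ h.desc r q hcomm = r := h.inl_desc _ _ _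
  have hle : I'.map ψ.hom ≤ RingHom.ker (h.desc r q hcomm).hom := by
    rw [Ideal.map_le_iff_le_comap]
    intro y hy
    rw [Ideal.mem_comap, RingHom.mem_ker]
    have h1 := congr($(hd).hom y)
    rw [CommRingCat.hom_comp, RingHom.comp_apply] at h1
    rw [h1]
    show (1 : K) ⊗ₜ[A] (Ideal.Quotient.mk I' y) = 0
    rw [Ideal.Quotient.eq_zero_iff_mem.mpr hy, TensorProduct.tmul_zero]
  have h3 := RingHom.mem_ker.mp (hle hx)
  have h1 := congr($(hd).hom x)
  rw [CommRingCat.hom_comp, RingHom.comp_apply, h3] at h1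
  exact h1.symm

set_option maxHeartbeats 1600000 in
/-- the chart computation -/
theorem ideal_le_of_fibres {𝒞 T : Scheme.{u}} [IsLocallyNoetherian T] [AlgebraicGeometry.IsReduced T]
    (π : 𝒞 ⟶ T) (D D' : 𝒞.IdealSheafData) [Flat (D'.subschemeι ≫ π)]
    (hfib : ∀ t : ↥T, D.comap (pullback.fst π (T.fromSpecResidueField t)) ≤
      D'.comap (pullback.fst π (T.fromSpecResidueField t)))
    {U : 𝒞.Opens} {V : T.Opens} (hU : IsAffineOpen U) (hV : IsAffineOpen V) (hUV : U ≤ π ⁻¹ᵁ V) :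
    D.ideal ⟨U, hU⟩ ≤ D'.ideal ⟨U, hU⟩ := by
  letI := (π.appLE V U hUV).hom.toAlgebra
  haveI : _root_.IsReduced Γ(T, V) := inferInstance
  haveI : IsNoetherianRing Γ(T, V) := IsLocallyNoetherian.component_noetherian ⟨V, hV⟩
  haveI hflat : Module.Flat Γ(T, V) (Γ(𝒞, U) ⧸ D'.ideal ⟨U, hU⟩) := by
    have h1 := Groth.Agent.S2890.flat_quot_ker D'.subschemeι π hU hV hUV
    have h2 : D'.subschemeι.ker = D' := D'.ker_subschemeι
    rw [h2] at h1
    exact h1
  intro x hx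
  rw [← Ideal.Quotient.eq_zero_iff_mem]
  refine eq_zero_of_forall_mem_minimalPrimes_smul (A := Γ(T, V)) _ (fun 𝔭 h𝔭 => ?_)
  haveI h𝔭p : 𝔭.IsPrime := h𝔭.1.1
  -- the point `t`
  obtain ⟨t, ht⟩ : ∃ t : T, t = hV.fromSpec ⟨𝔭, h𝔭p⟩ := ⟨_, rfl⟩
  have htV : t ∈ V := by
    have h1 : t ∈ Set.range hV.fromSpec := ht ▸ Set.mem_range_self _
    rw [hV.range_fromSpec] at h1
    exact h1
  have hbasic : ∀ a : Γ(T, V), t ∈ T.basicOpen a ↔ a ∉ 𝔭 := by
    intro a
    have : (⟨𝔭, h𝔭p⟩ : Spec Γ(T, V)) ∈ hV.fromSpec ⁻¹ᵁ T.basicOpen a ↔ a ∉ 𝔭 := by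
      rw [hV.fromSpec_preimage_basicOpen]
      rfl
    rw [ht]
    exact this
  -- the fibre chart
  have H : IsPullback (pullback.fst π (T.fromSpecResidueField t))
      (pullback.snd π (T.fromSpecResidueField t)) π (T.fromSpecResidueField t) :=
    IsPullback.of_hasPullback _ _
  have hW'le : (⊤ : (Spec (T.residueField t)).Opens) ≤ (T.fromSpecResidueField t) ⁻¹ᵁ V := by
    intro z _
    show T.fromSpecResidueField _ z ∈ V
    rw [Scheme.fromSpecResidueField_apply]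
    exact htV
  have hW' : IsAffineOpen (⊤ : (Spec (T.residueField t)).Opens) := isAffineOpen_top _
  have hiso := isIso_pushoutSection_of_isAffineOpen H hW'le hUV rfl hV hW' hU
  have hpo := (isIso_pushoutSection_iff H hW'le hUV rfl).mp hiso
  have hW : IsAffineOpen ((pullback.fst π (T.fromSpecResidueField t)) ⁻¹ᵁ U ⊓
      (pullback.snd π (T.fromSpecResidueField t)) ⁻¹ᵁ ⊤) := by
    have : IsAffine (V : Scheme) := hV
    have : IsAffine ((⊤ : (Spec (T.residueField t)).Opens) : Scheme) := hW'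
    have : IsAffine (U : Scheme) := hU
    exact IsAffine.of_isIso (Scheme.Hom.isPullback_resLE H hW'le hUV rfl).isoPullback.hom
  -- the ideals on the fibre
  have h1 := hfib t ⟨_, hW⟩
  rw [Groth.Agent.Lib.IdealComap.ideal_comap D _ U hU _ hW inf_le_left,
    Groth.Agent.Lib.IdealComap.ideal_comap D' _ U hU _ hW inf_le_left] at h1
  have hx' := h1 (Ideal.mem_map_of_mem _ hx)
  have h2 := tmul_eq_zero_of_isPushout hpo (D'.ideal ⟨U, hU⟩) x hx'
  letI := ((T.fromSpecResidueField t).appLE V ⊤ hW'le).hom.toAlgebra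
  have h3 := mem_ker_smul_top_of_tmul_eq_zero (A := Γ(T, V))
    (K := Γ(Spec (T.residueField t), ⊤)) _ h2
  -- the kernel of evaluation at `t` is `𝔭`
  have hker : RingHom.ker (algebraMap Γ(T, V) Γ(Spec (T.residueField t), ⊤)) ≤ 𝔭 := by
    intro a ha
    by_contra hcon
    have h4 : t ∈ T.basicOpen a := (hbasic a).mpr hcon
    have h5 := Scheme.basicOpen_appLE (T.fromSpecResidueField t) ⊤ V hW'le a
    have h6 : ((T.fromSpecResidueField t).appLE V ⊤ hW'le).hom a = 0 := ha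
    rw [show ((T.fromSpecResidueField t).appLE V ⊤ hW'le) a = 0 from h6,
      Scheme.basicOpen_zero] at h5
    obtain ⟨z⟩ : Nonempty (Spec (T.residueField t)) := inferInstance
    have h7 : z ∈ (⊤ : (Spec (T.residueField t)).Opens) ⊓
        (T.fromSpecResidueField t) ⁻¹ᵁ (T.basicOpen a) := by
      refine ⟨trivial, ?_⟩
      show T.fromSpecResidueField t z ∈ T.basicOpen a
      rw [Scheme.fromSpecResidueField_apply]
      exact h4
    rw [← h5] at h7
    exact h7
  exact Submodule.smul_mono_left hker h3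

end helpers

/-- Let T be a reduced locally Noetherian scheme, π : 𝒞 ⟶ T a proper smooth morphism of relative
dimension 1, and D, D' relative effective divisors on 𝒞/T: closed subschemes whose ideal sheaves are
locally generated by a single nonzerodivisor and which are flat over T. If for every point t of T
the fibre of D over t contains the fibre of D' as closed subschemes of 𝒞_t (containment of ideal
sheaves the other way), then D contains D': the ideal sheaf of D is contained in that of D'. (The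
published statement has no hypothesis on T; over T = Spec k[ε] the divisors x = 0 and x = ε on the
projective line have equal fibres while neither contains the other. This row assumes T reduced and
locally Noetherian.) -/
theorem result {𝒞 T : Scheme.{u}} [IsLocallyNoetherian T] [AlgebraicGeometry.IsReduced T]
    (π : 𝒞 ⟶ T) [IsProper π] [SmoothOfRelativeDimension 1 π]
    (D D' : 𝒞.IdealSheafData)
    (hD : BlowUp.IsEffCartierIdeal D ∧ Flat (D.subschemeι ≫ π))
    (hD' : BlowUp.IsEffCartierIdeal D' ∧ Flat (D'.subschemeι ≫ π))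
    (hfib : ∀ t : ↥T, D.comap (pullback.fst π (T.fromSpecResidueField t)) ≤
      D'.comap (pullback.fst π (T.fromSpecResidueField t))) :
    D ≤ D' := by
  haveI := hD'.2
  refine Scheme.IdealSheafData.le_of_iSup_eq_top
    (ι := {U : 𝒞.affineOpens // ∃ V : T.affineOpens, U.1 ≤ π ⁻¹ᵁ V.1}) (fun i => i.1) ?_ ?_
  · rw [eq_top_iff]
    intro x _
    obtain ⟨V, hV, hxV⟩ : ∃ V : T.Opens, IsAffineOpen V ∧ π x ∈ V := by
      obtain ⟨_, ⟨V, hV, rfl⟩, hxV, -⟩ := T.isBasis_affineOpens.exists_subset_of_mem_open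
        (Set.mem_univ (π x)) isOpen_univ
      exact ⟨V, hV, hxV⟩
    obtain ⟨U, hU, hxU, hUV⟩ : ∃ U : 𝒞.Opens, IsAffineOpen U ∧ x ∈ U ∧ U ≤ π ⁻¹ᵁ V := by
      obtain ⟨_, ⟨U, hU, rfl⟩, hxU, hUV⟩ := 𝒞.isBasis_affineOpens.exists_subset_of_mem_open
        (show x ∈ ((π ⁻¹ᵁ V : 𝒞.Opens) : Set 𝒞) from hxV) (π ⁻¹ᵁ V).2
      exact ⟨U, hU, hxU, hUV⟩
    exact TopologicalSpace.Opens.mem_iSup.mpr ⟨⟨⟨U, hU⟩, ⟨V, hV⟩, hUV⟩, hxU⟩
  · rintro ⟨⟨U, hU⟩, ⟨V, hV⟩, hUV⟩
    exact ideal_le_of_fibres π D D' hfib hU hV hUV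

end Groth.Agent.S17814
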