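import Groth.Statements.S17825
import Mathlib.AlgebraicGeometry.Morphisms.Separated
import Mathlib.CategoryTheory.Limits.Preserves.Shapes.Equalizers
import Mathlib.CategoryTheory.Limits.Yoneda

set_option autoImplicit false
universe u
open CategoryTheory CategoryTheory.Limits AlgebraicGeometry
open JacVar

namespace Groth.Agent.S17825

/-- Let S be a scheme, Y an S-scheme separated over S, F a presheaf of sets on the category of
S-schemes, f : h_Y ⟶ F a morphism from the functor of points of Y, and s : F ⟶ h_Y a section of f (s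
followed by f is the identity). Then F is represented by a closed subscheme of Y: there are an
S-scheme Z, a morphism i : Z ⟶ Y over S which is a closed immersion, and an isomorphism F ≅ h_Z
whose composite with h_i : h_Z ⟶ h_Y is s. (The published lemma treats the case where Y is the r-th
symmetric power of a curve, F the functor of degree-r invertible families modulo twisting and f the
divisor-class map.) -/
theorem result {S : Scheme.{u}} (Y : Over S) [IsSeparated Y.hom]
    (F : (Over S)ᵒᵖ ⥤ Type u) (f : yoneda.obj Y ⟶ F) (s : F ⟶ yoneda.obj Y) (hsf : s ≫ f = 𝟙 F) :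
    ∃ (Z : Over S) (i : Z ⟶ Y), IsClosedImmersion i.left ∧
      ∃ e : F ≅ yoneda.obj Z, e.hom ≫ yoneda.map i = s := by
  let π : Y ⟶ Y := yoneda.preimage (f ≫ s)
  have hπ : yoneda.map π = f ≫ s := yoneda.map_preimage _
  let i : equalizer π (𝟙 Y) ⟶ Y := equalizer.ι π (𝟙 Y)
  have hcond : i ≫ π = i ≫ 𝟙 Y := equalizer.condition π (𝟙 Y)
  have hlim := isLimitForkMapOfIsLimit yoneda hcond (equalizerIsEqualizer π (𝟙 Y))
  have hs : s ≫ yoneda.map π = s ≫ yoneda.map (𝟙 Y) := by
    rw [hπ, ← Category.assoc, hsf, Category.id_comp, yoneda.map_id, Category.comp_id]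
  obtain ⟨l, hl⟩ := Fork.IsLimit.lift' hlim s hs
  have hl' : l ≫ yoneda.map i = s := hl
  refine ⟨equalizer π (𝟙 Y), i, inferInstance, ⟨l, yoneda.map i ≫ f, ?_, ?_⟩, hl'⟩
  · rw [← Category.assoc, hl', hsf]
  · apply Fork.IsLimit.hom_ext hlim
    show ((yoneda.map i ≫ f) ≫ l) ≫ yoneda.map i = 𝟙 _ ≫ yoneda.map i
    rw [Category.assoc, hl', Category.assoc, ← hπ, ← yoneda.map_comp, hcond, Category.comp_id,
      Category.id_comp]

end Groth.Agent.S17825
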