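import Groth.Statements.S7578
import Groth.Agent.S7577
import Mathlib.Topology.NoetherianSpace
import Mathlib.Topology.LocallyConstant.Basic

set_option autoImplicit false
universe u
open PtTop

namespace Groth.Agent.S7578

/-- Let X be a topological space which is locally Noetherian (every point has a Noetherian
neighbourhood) and sober, and let δ, δ' be two dimension functions on X. Then δ − δ' is locally
constant. -/
theorem result {X : Type u} [TopologicalSpace X] [QuasiSober X] [T0Space X]
    (hX : ∀ x : X, ∃ E ∈ nhds x, TopologicalSpace.NoetherianSpace E)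
    (δ δ' : X → ℤ) (hδ : PtTop.IsDimensionFunction δ) (hδ' : PtTop.IsDimensionFunction δ') :
    IsLocallyConstant (fun x => δ x - δ' x) := by
  have hspec : ∀ ξ x : X, ξ ⤳ x → δ ξ - δ' ξ = δ x - δ' x := by
    intro ξ x h
    have h1 := (Groth.Agent.S7577.result δ hδ).2 ξ x h
    have h2 := (Groth.Agent.S7577.result δ' hδ').2 ξ x h
    rw [h1] at h2
    have h3 : (δ ξ - δ x).toNat = (δ' ξ - δ' x).toNat := by exact_mod_cast h2
    have h4 : δ x ≤ δ ξ := by
      by_cases he : ξ = x
      · rw [he]
      · exact (hδ.1 ξ x h he).le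
    have h5 : δ' x ≤ δ' ξ := by
      by_cases he : ξ = x
      · rw [he]
      · exact (hδ'.1 ξ x h he).le
    omega
  rw [IsLocallyConstant.iff_exists_open]
  intro x
  obtain ⟨E, hE, hEN⟩ := hX x
  obtain ⟨U, hUE, hUo, hxU⟩ := mem_nhds_iff.mp hE
  have : TopologicalSpace.NoetherianSpace U := by
    rw [TopologicalSpace.noetherianSpace_set_iff] at hEN ⊢
    exact fun t ht => hEN t (ht.trans hUE)
  have hS : (irreducibleComponents U).Finite :=
    TopologicalSpace.NoetherianSpace.finite_irreducibleComponents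
  let B : Set U := ⋃ Z ∈ {Z ∈ irreducibleComponents U | (⟨x, hxU⟩ : U) ∉ Z}, Z
  have hB : IsClosed B :=
    (hS.subset (Set.sep_subset _ _)).isClosed_biUnion
      (fun Z hZ => isClosed_of_mem_irreducibleComponents Z hZ.1)
  refine ⟨Subtype.val '' Bᶜ, hUo.isOpenMap_subtype_val _ hB.isOpen_compl, ⟨⟨x, hxU⟩, ?_, rfl⟩, ?_⟩
  · intro hx
    obtain ⟨Z, hZ, hxZ⟩ := Set.mem_iUnion₂.mp hx
    exact hZ.2 hxZ
  · rintro _ ⟨y, hy, rfl⟩
    have hZ : irreducibleComponent y ∈ irreducibleComponents U :=
      irreducibleComponent_mem_irreducibleComponents y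
    have hyZ : y ∈ irreducibleComponent y := mem_irreducibleComponent
    have hxZ : (⟨x, hxU⟩ : U) ∈ irreducibleComponent y := by
      by_contra hcon
      exact hy (Set.mem_biUnion (show irreducibleComponent y ∈
        {Z ∈ irreducibleComponents U | (⟨x, hxU⟩ : U) ∉ Z} from ⟨hZ, hcon⟩) hyZ)
    have hirr : IsIrreducible (closure (Subtype.val '' irreducibleComponent y : Set X)) :=
      (isIrreducible_irreducibleComponent.image _ continuous_subtype_val.continuousOn).closure
    have hξ := hirr.isGenericPoint_genericPoint isClosed_closure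
    have h1 : hirr.genericPoint ⤳ y.1 := hξ.specializes (subset_closure ⟨y, hyZ, rfl⟩)
    have h2 : hirr.genericPoint ⤳ x := hξ.specializes (subset_closure ⟨⟨x, hxU⟩, hxZ, rfl⟩)
    show δ y.1 - δ' y.1 = δ x - δ' x
    rw [← hspec _ y.1 h1, hspec _ x h2]

end Groth.Agent.S7578
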