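-- Statement S6461.
import Groth.Statements.S6461
import Groth.Agent.Lib.H30CatSpace
import Groth.Agent.Lib.CMCat33
import Groth.Agent.Lib.CMRingEquiv96
import Groth.Agent.S12445
import Groth.Agent.S12447
import Groth.Agent.S7578
import Mathlib

set_option autoImplicit false
universe u
open CategoryTheory AlgebraicGeometry
open Cyc

namespace Groth.Agent.S6461

open Groth.Agent.Lib

/-- the coordinate ring of an affine open of a scheme with CM local rings is a CM ring -/
theorem isCM_affine {X : Scheme.{u}} [IsLocallyNoetherian X]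
    (hCM : ∀ x : X, LocCoh.IsCohenMacaulayLocalRing ↑(X.presheaf.stalk x))
    {V : X.Opens} (hV : IsAffineOpen V) : LocCoh.IsCohenMacaulayRing Γ(X, V) := by
  haveI : IsNoetherianRing Γ(X, V) := IsLocallyNoetherian.component_noetherian ⟨V, hV⟩
  refine { (inferInstance : IsNoetherianRing Γ(X, V)) with
    isCohenMacaulayLocalRing_localization := fun p hp => ?_ }
  let y : PrimeSpectrum Γ(X, V) := ⟨p, hp⟩
  have hy : hV.fromSpec y ∈ V := (hV.isoSpec.inv y).2
  letI := X.presheaf.algebra_section_stalk ⟨hV.fromSpec y, hy⟩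
  haveI : IsLocalization.AtPrime (X.presheaf.stalk (hV.fromSpec y)) p :=
    hV.isLocalization_stalk' y hy
  haveI := hCM (hV.fromSpec y)
  exact CMRingEquiv96.isCohenMacaulayLocalRing_of_ringEquiv (IsLocalization.algEquiv p.primeCompl
    (X.presheaf.stalk (hV.fromSpec y)) (Localization.AtPrime p)).toRingEquiv

/-- minus the height is a dimension function on the spectrum of a CM ring -/
theorem height_dim (A : Type u) [CommRing A] [hA : LocCoh.IsCohenMacaulayRing A] :
    (∀ y y' : PrimeSpectrum A, y ⤳ y' → y ≠ y' →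
      -((y'.asIdeal.height.toNat : ℤ)) < -((y.asIdeal.height.toNat : ℤ))) ∧
    (∀ y y' : PrimeSpectrum A, y ⤳ y' → y ≠ y' →
      (∀ z : PrimeSpectrum A, y ⤳ z → z ⤳ y' → z = y ∨ z = y') →
      -((y.asIdeal.height.toNat : ℤ)) = -((y'.asIdeal.height.toNat : ℤ)) + 1) := by
  haveI : IsNoetherianRing A := inferInstance
  have hfin : ∀ y : PrimeSpectrum A, y.asIdeal.height ≠ ⊤ :=
    fun y => Ideal.height_ne_top_of_isPrime
  refine ⟨fun y y' hsp hne => ?_, fun y y' hsp hne himm => ?_⟩
  · have hlt : y < y' := lt_of_le_of_ne ((PrimeSpectrum.le_iff_specializes y y').mpr hsp) hne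
    have h1 : y.asIdeal.height < y'.asIdeal.height := by
      rw [PrimeSpectrum.height_eq_orderHeight, PrimeSpectrum.height_eq_orderHeight]
      apply Order.height_strictMono hlt
      rw [← PrimeSpectrum.height_eq_orderHeight]
      exact lt_top_iff_ne_top.mpr (hfin y)
    have h2 : y.asIdeal.height.toNat < y'.asIdeal.height.toNat := by
      rw [← ENat.natCast_toNat (hfin y), ← ENat.natCast_toNat (hfin y')] at h1
      exact_mod_cast h1
    omega
  · have hlt : y < y' := lt_of_le_of_ne ((PrimeSpectrum.le_iff_specializes y y').mpr hsp) hne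
    have hcov : y ⋖ y' := by
      refine ⟨hlt, fun z hyz hzy' => ?_⟩
      rcases himm z ((PrimeSpectrum.le_iff_specializes y z).mp hyz.le)
        ((PrimeSpectrum.le_iff_specializes z y').mp hzy'.le) with h | h
      · exact hyz.ne' h
      · exact hzy'.ne h
    have h1 := CMCat33.height_eq_add_one_of_covBy hcov
    have h2 : y'.asIdeal.height.toNat = y.asIdeal.height.toNat + 1 := by
      rw [← ENat.natCast_toNat (hfin y), ← ENat.natCast_toNat (hfin y')] at h1
      exact_mod_cast h1
    omega

theorem main (X : Scheme.{u}) (δ : X → ℤ) (hX : Cyc.IsSetup X δ)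
    (hCM : ∀ x : X, LocCoh.IsCohenMacaulayLocalRing ↑(X.presheaf.stalk x)) (x : X) :
    ∃ (U : X.Opens) (n : ℤ), x ∈ U ∧
      ∀ ξ : X, ξ ∈ U → (∀ ξ' : X, ξ' ⤳ ξ → ξ' = ξ) → δ ξ = n := by
  obtain ⟨hN, -, hδ⟩ := hX
  obtain ⟨V, hV, hxV, -⟩ := TopologicalSpace.Opens.isBasis_iff_nbhd.mp X.isBasis_affineOpens
    (U := ⊤) (x := x) trivial
  haveI : IsNoetherianRing Γ(X, V) := IsLocallyNoetherian.component_noetherian ⟨V, hV⟩
  haveI hA : LocCoh.IsCohenMacaulayRing Γ(X, V) := isCM_affine hCM hV
  let h : (V : Set X) ≃ₜ PrimeSpectrum Γ(X, V) := Groth.Agent.S12445.homeo hV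
  -- first dimension function: restriction of δ
  have hδ₁ : PtTop.IsDimensionFunction (fun v : (V : Set X) => δ v.1) := by
    refine ⟨fun v w hvw hne => ?_, fun v w hvw => ?_⟩
    · exact (hδ v.1 w.1 (Topology.IsInducing.subtypeVal.specializes_iff.mpr hvw)
        (fun h => hne (Subtype.ext h))).1
    · obtain ⟨hsp, hne, himm⟩ := hvw
      have hsp' : v.1 ⤳ w.1 := Topology.IsInducing.subtypeVal.specializes_iff.mpr hsp
      refine (hδ v.1 w.1 hsp' (fun h => hne (Subtype.ext h))).2 ?_
      intro z hvz hzw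
      have hzV : z ∈ V := hzw.mem_open V.2 w.2
      rcases himm ⟨z, hzV⟩ (Topology.IsInducing.subtypeVal.specializes_iff.mp hvz)
        (Topology.IsInducing.subtypeVal.specializes_iff.mp hzw) with h | h
      · exact Or.inl (congrArg Subtype.val h)
      · exact Or.inr (congrArg Subtype.val h)
  -- second dimension function: minus the height
  have hδ₂ : PtTop.IsDimensionFunction
      (fun v : (V : Set X) => -(((h v).asIdeal.height.toNat : ℤ))) := by
    obtain ⟨h1, h2⟩ := height_dim Γ(X, V)
    exact Groth.Agent.S12447.isDimensionFunction_comp h h.isInducing h.injective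
      (fun y => -((y.asIdeal.height.toNat : ℤ))) (fun y y' _ => h1 y y')
      (fun y y' _ hsp hne himm => h2 y y' hsp hne (fun z => himm z (h.surjective.range_eq ▸ Set.mem_univ z)))
  haveI : QuasiSober (V : Set X) := V.isOpenEmbedding'.quasiSober
  haveI : TopologicalSpace.NoetherianSpace (V : Set X) :=
    (TopologicalSpace.noetherianSpace_iff_of_homeomorph h).mpr inferInstance
  have hlc := Groth.Agent.S7578.result (X := (V : Set X))
    (fun v => ⟨Set.univ, Filter.univ_mem, inferInstance⟩) _ _ hδ₁ hδ₂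
  have hopen := hlc.isOpen_fiber (δ x - -(((h ⟨x, hxV⟩).asIdeal.height.toNat : ℤ)))
  refine ⟨⟨Subtype.val '' _, V.2.isOpenMap_subtype_val _ hopen⟩,
    δ x + ((h ⟨x, hxV⟩).asIdeal.height.toNat : ℤ), ⟨⟨x, hxV⟩, rfl, rfl⟩, ?_⟩
  rintro _ ⟨v, hv, rfl⟩ hmax
  have hv' : δ v.1 - -(((h v).asIdeal.height.toNat : ℤ)) =
      δ x - -(((h ⟨x, hxV⟩).asIdeal.height.toNat : ℤ)) := hv
  have hmin : IsMin (h v) := by
    intro q hq
    have h1 : (h.symm q) ⤳ v := by
      have : h (h.symm q) ⤳ h v := by
        rw [h.apply_symm_apply]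
        exact (PrimeSpectrum.le_iff_specializes q (h v)).mp hq
      exact h.isInducing.specializes_iff.mp this
    have h2 : (h.symm q).1 ⤳ v.1 := Topology.IsInducing.subtypeVal.specializes_iff.mpr h1
    have h3 := hmax _ h2
    have h4 : h.symm q = v := Subtype.ext h3
    rw [← h4, h.apply_symm_apply]
  have hht : (h v).asIdeal.height = 0 := by
    rw [PrimeSpectrum.height_eq_orderHeight]
    exact Order.height_eq_zero.mpr hmin
  rw [hht] at hv'
  simp at hv'
  omega

/-- If all local rings of X are Cohen–Macaulay then every x ∈ X has an open neighbourhood U and an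
integer n with δ(ξ) = n for every generic point ξ of an irreducible component of U (every point of U
maximal under specialization). Here a pair (X, δ) with Cyc.IsSetup plays the role of a scheme
locally of finite type over the base (S, δ) (X locally Noetherian with universally catenary local
rings, δ a dimension function). -/
theorem result (X : Scheme.{u}) (δ : X → ℤ) (hX : Cyc.IsSetup X δ) (hCM : ∀ x : X, LocCoh.IsCohenMacaulayLocalRing ↑(X.presheaf.stalk x)) (x : X) : ∃ (U : X.Opens) (n : ℤ), x ∈ U ∧ ∀ ξ : X, ξ ∈ U → (∀ ξ' : X, ξ' ⤳ ξ → ξ' = ξ) → δ ξ = n := by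
  exact main X δ hX hCM x

end Groth.Agent.S6461
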