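-- Statement S17839.
import Groth.Statements.S17839
import Groth.Agent.Lib.H8CM6
import Groth.Agent.S6461
import Groth.Agent.S9684
import Mathlib

set_option autoImplicit false
universe u
open CategoryTheory AlgebraicGeometry
open Cyc

namespace Groth.Agent.S17839

theorem isDimFun_base {S : Scheme.{u}} [IsLocallyNoetherian S]
    (hreg : ∀ s : S, IsRegularLocalRing (S.presheaf.stalk s))
    (δS : S → ℤ)
    (hδS : ∀ s : S, ringKrullDim (S.presheaf.stalk s) = ((-δS s).toNat : WithBot ℕ∞) ∧ δS s ≤ 0) :
    Cyc.IsDimFun S δS := by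
  have hCM : ∀ s : S, LocCoh.IsCohenMacaulayLocalRing ↑(S.presheaf.stalk s) := fun s =>
    haveI := hreg s
    Groth.Agent.Lib.H8CM.isCMLocalRing_of_isRegularLocalRing
  intro s t hst hne
  obtain ⟨V, hV, htV⟩ : ∃ V : S.Opens, IsAffineOpen V ∧ t ∈ V := by
    obtain ⟨_, ⟨V, hV, rfl⟩, hxV, -⟩ := S.isBasis_affineOpens.exists_subset_of_mem_open
      (Set.mem_univ t) isOpen_univ
    exact ⟨V, hV, hxV⟩
  have hsV : s ∈ V := hst.mem_open V.2 htV
  haveI : IsNoetherianRing Γ(S, V) := IsLocallyNoetherian.component_noetherian ⟨V, hV⟩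
  haveI hA : LocCoh.IsCohenMacaulayRing Γ(S, V) := Groth.Agent.S6461.isCM_affine hCM hV
  obtain ⟨h1, h2⟩ := Groth.Agent.S6461.height_dim Γ(S, V)
  -- δS in terms of heights
  have hht : ∀ (z : S) (hz : z ∈ V),
      δS z = -(((hV.primeIdealOf ⟨z, hz⟩).asIdeal.height.toNat : ℤ)) := by
    intro z hz
    have hdim : ringKrullDim (S.presheaf.stalk z) = (hV.primeIdealOf ⟨z, hz⟩).asIdeal.height := by
      letI := S.presheaf.algebra_section_stalk ⟨z, hz⟩
      haveI := hV.isLocalization_stalk ⟨z, hz⟩
      exact IsLocalization.AtPrime.ringKrullDim_eq_height _ _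
    obtain ⟨hd, hle⟩ := hδS z
    rw [hdim] at hd
    have hfin : (hV.primeIdealOf ⟨z, hz⟩).asIdeal.height ≠ ⊤ := Ideal.height_ne_top_of_isPrime
    have : (hV.primeIdealOf ⟨z, hz⟩).asIdeal.height = ((-δS z).toNat : ℕ∞) := by
      exact_mod_cast hd
    rw [this]
    simp only [ENat.toNat_natCast]
    omega
  set P := hV.primeIdealOf ⟨s, hsV⟩ with hP
  set P' := hV.primeIdealOf ⟨t, htV⟩ with hP'
  have hfs : hV.fromSpec P = s := hV.fromSpec_primeIdealOf ⟨s, hsV⟩
  have hft : hV.fromSpec P' = t := hV.fromSpec_primeIdealOf ⟨t, htV⟩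
  have hsp : P ⤳ P' :=
    hV.fromSpec.isOpenEmbedding.isInducing.specializes_iff.mp (by rw [hfs, hft]; exact hst)
  have hne' : P ≠ P' := fun h => hne (by rw [← hfs, ← hft, h])
  rw [hht s hsV, hht t htV]
  refine ⟨h1 P P' hsp hne', fun himm => h2 P P' hsp hne' ?_⟩
  intro z hPz hzP'
  have h3 : s ⤳ hV.fromSpec z := by rw [← hfs]; exact hPz.map hV.fromSpec.continuous
  have h4 : hV.fromSpec z ⤳ t := by rw [← hft]; exact hzP'.map hV.fromSpec.continuous
  rcases himm _ h3 h4 with h | h
  · exact Or.inl (hV.fromSpec.isOpenEmbedding.injective (by rw [h, hfs]))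
  · exact Or.inr (hV.fromSpec.isOpenEmbedding.injective (by rw [h, hft]))

/-- Let S be a locally Noetherian scheme all of whose local rings are regular and universally catenary,
and δS : S → ℤ the function with δS(s) = −dim O_{S,s}. Let f : X ⟶ S be locally of finite type and δ
: X → ℤ the induced function, δ(x) = δS(f x) + trdeg_{κ(f x)} κ(x) — the S-dimension: for X
irreducible with generic point ξ, δ(ξ) is the transcendence degree of the function field of X over
κ(f ξ) minus dim O_{S, f ξ}. Then δ is a dimension function on X: it drops strictly along every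
nontrivial specialization and by exactly one along immediate ones; equivalently, for irreducible
closed subsets V ⊆ W of X with generic points v and w, codim(V, W) = δ(w) − δ(v). (The published
statement fixes S Noetherian, excellent, regular and separated and X separated of finite type over
S; its proof uses only the hypotheses listed.) -/
theorem result {X S : Scheme.{u}} (f : X ⟶ S)
    [LocallyOfFiniteType f] [IsLocallyNoetherian S]
    (hreg : ∀ s : S, IsRegularLocalRing (S.presheaf.stalk s))
    (huc : ∀ s : S, CAlg.IsUniversallyCatenary (S.presheaf.stalk s))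
    (δS : S → ℤ) (hδS : ∀ s : S, ringKrullDim (S.presheaf.stalk s) = ((-δS s).toNat : WithBot ℕ∞) ∧ δS s ≤ 0)
    (δ : X → ℤ) (hδ : Cyc.DeltaCompat f δ δS) :
    Cyc.IsDimFun X δ := by
  exact Groth.Agent.S9684.main f δS ⟨inferInstance, huc, isDimFun_base hreg δS hδS⟩ δ hδ

end Groth.Agent.S17839
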