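import Groth.Statements.S17840
import Mathlib
import Groth.Agent.Lib.H56ValFib2

set_option autoImplicit false
universe u
open CategoryTheory AlgebraicGeometry
open Cyc

namespace Groth.Agent.S17840

/-- Let (Y, δY) be a locally Noetherian scheme with universally catenary local rings and a dimension
function, f : X ⟶ Y a flat morphism locally of finite type between irreducible schemes with generic
points ξ and η, and δX the induced function on X, δX(x) = δY(f x) + trdeg_{κ(f x)} κ(x). Put d =
δX(ξ) − δY(η). Then d ≥ 0, every irreducible component of every fibre of f has dimension d, and for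
every point x of X the fibre of f over f(x) has dimension d. (The published statement is for schemes
separated of finite type over a Noetherian excellent regular separated base S with δ the S-dimension
— transcendence degree of the residue field minus the dimension of the local ring of S at the image
point — and for the fibre over every point of Y; the fibre over a point outside f(X) is empty, so
the dimension statement is made here at points of the image; this row allows any dimension function
δY on a locally Noetherian Y with universally catenary local rings, with δX induced from it.) -/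
theorem result {X Y : Scheme.{u}} (f : X ⟶ Y) [Flat f] [LocallyOfFiniteType f]
    [IrreducibleSpace X] [IrreducibleSpace Y] (δX : X → ℤ) (δY : Y → ℤ) (hY : Cyc.IsSetup Y δY)
    (hδ : Cyc.DeltaCompat f δX δY) :
    0 ≤ δX (genericPoint X) - δY (genericPoint Y) ∧
      Cyc.HasRelDim f (δX (genericPoint X) - δY (genericPoint Y)).toNat ∧
      ∀ x : X, topologicalKrullDim ↥(f.fiber (f x)) =
        ((δX (genericPoint X) - δY (genericPoint Y)).toNat : WithBot ℕ∞) := by
  have hN : IsLocallyNoetherian Y := hY.1
  have hlfp : LocallyOfFinitePresentation f := by
    rw [HasRingHomProperty.iff_appLE (P := @LocallyOfFinitePresentation)]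
    intro U V e
    have : IsNoetherianRing Γ(Y, U) := IsLocallyNoetherian.component_noetherian U
    exact RingHom.FinitePresentation.of_finiteType.mp (f.finiteType_appLE U.2 V.2 e)
  have hopen : IsOpenMap f.base := f.isOpenMap
  have hfξ : f.base (genericPoint X) = genericPoint Y := by
    obtain ⟨x', hx', hfx'⟩ := Flat.generalizingMap f (genericPoint_specializes (f.base (genericPoint X)))
    have : x' = genericPoint X := (hx'.antisymm (genericPoint_specializes x')).eq
    rw [← hfx', this]
  obtain ⟨n, hn, hδξ⟩ := hδ (genericPoint X)
  have hnt : n = Groth.Agent.Lib.H56OpenDim.tdeg f (genericPoint X) := by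
    have h1 := Groth.Agent.Lib.H56OpenDim.trdeg_eq_tdeg f (genericPoint X)
    rw [hn] at h1
    exact_mod_cast h1
  have hd : δX (genericPoint X) - δY (genericPoint Y) = (n : ℤ) := by
    rw [hδξ, hfξ]; ring
  rw [hd, Int.toNat_natCast]
  have hsub : ∀ y : Y, Groth.Agent.Lib.H56OpenDim.compDims f y ⊆ {n} := by
    intro y
    refine (Groth.Agent.Lib.H56OpenDim.compDims_subset_of_specializes f y (genericPoint Y)
      (fun x _ U hU => hopen.image_mem_nhds hU) (genericPoint_specializes y)
      (fun η' hη' => (hη'.antisymm (genericPoint_specializes η')).eq)).trans ?_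
    rintro m ⟨x, hx, hxmax, rfl⟩
    have : genericPoint X = x := hxmax _ (genericPoint_specializes x) (hfξ.trans hx.symm)
    rw [Set.mem_singleton_iff, hnt, this]
  refine ⟨Int.natCast_nonneg n, ?_, ?_⟩
  · intro y T hT
    have hmem : topologicalKrullDim ↥T ∈
        (fun Z : Set ↥(f.fiber y) => topologicalKrullDim ↥Z) '' irreducibleComponents ↥(f.fiber y) :=
      ⟨T, hT, rfl⟩
    rw [Groth.Agent.Lib.H56OpenDim.image_dim_irreducibleComponents_fiber] at hmem
    obtain ⟨m, hm, hmT⟩ := hmem
    rw [← hmT, Set.mem_singleton_iff.mp (hsub y hm)]
  · intro x
    apply Groth.Agent.Lib.H56ValTrdeg.dim_fiber_eq_of_compDims_eq_singleton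
    apply Set.Subset.antisymm (hsub _)
    rintro m rfl
    obtain ⟨w, -, hfw, hwmax, -⟩ := Groth.Agent.Lib.H56OpenDim.exists_maxInFibre_fibreDimAt_eq f x
    have hmem : Groth.Agent.Lib.H56OpenDim.tdeg f w ∈
        Groth.Agent.Lib.H56OpenDim.compDims f (f.base x) := ⟨w, hfw, hwmax, rfl⟩
    have := hsub _ hmem
    rw [Set.mem_singleton_iff] at this
    rw [← this]
    exact hmem

end Groth.Agent.S17840
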