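import Groth.Statements.S17843
import Mathlib.RingTheory.Localization.Integral
import Mathlib.RingTheory.Localization.Algebra

set_option autoImplicit false
universe u v
open CAlg

namespace Groth.Agent.S17843

open Polynomial

section aux
variable {R : Type u} [CommRing R] (r : R)

local notation "L" => Localization.Away r
local notation "ι" => algebraMap R (Localization.Away r)

theorem lift_scaled (q : L[X]) :
    ∃ N : ℕ, ∀ n : ℕ, N ≤ n → ∃ Q : R[X], Q.map ι = C (ι (r ^ n)) * q := by
  obtain ⟨b, hb, h⟩ := IsLocalization.integerNormalization_spec (Submonoid.powers r) q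
  obtain ⟨N, rfl⟩ := hb
  refine ⟨N, fun n hn => ⟨C (r ^ (n - N)) * IsLocalization.integerNormalization (Submonoid.powers r) q, ?_⟩⟩
  rw [Polynomial.map_mul, h, Polynomial.map_C, ← algebraMap_smul L (r ^ N) q, Polynomial.smul_eq_C_mul,
    ← mul_assoc, ← C_mul, ← map_mul, ← pow_add, Nat.sub_add_cancel hn]

theorem lift_eval (p : L[X]) (a : R) (hp : p.eval 0 = ι a) :
    ∃ N : ℕ, ∀ n : ℕ, N ≤ n → ∃ P : R[X], P.eval 0 = a ∧
      P.map ι = p.comp (C (ι (r ^ n)) * X) := by
  obtain ⟨N, hN⟩ := lift_scaled r p.divX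
  refine ⟨N, fun n hn => ?_⟩
  obtain ⟨Q₀, hQ₀⟩ := hN n hn
  refine ⟨Q₀.comp (C (r ^ n) * X) * X + C a, by simp, ?_⟩
  have hp' : p = p.divX * X + C (ι a) := by
    conv_lhs => rw [← divX_mul_X_add p, coeff_zero_eq_eval_zero, hp]
  rw [Polynomial.map_add, Polynomial.map_mul, Polynomial.map_comp, hQ₀, Polynomial.map_C,
    Polynomial.map_X, Polynomial.map_mul, Polynomial.map_C, Polynomial.map_X]
  conv_rhs => rw [hp']
  simp only [add_comp, mul_comp, C_comp, X_comp]
  ring

theorem ker_map (h : R[X]) (hh : h.map ι = 0) : ∃ s : ℕ, C (r ^ s) * h = 0 := by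
  let := Polynomial.algebra R L
  have := Polynomial.isLocalization (Submonoid.powers r) L
  have h0 : algebraMap R[X] L[X] h = 0 := hh
  obtain ⟨⟨m, hm⟩, hm'⟩ :=
    (IsLocalization.map_eq_zero_iff ((Submonoid.powers r).map (C : R →+* R[X])) L[X] h).mp h0
  obtain ⟨_, ⟨s, rfl⟩, rfl⟩ := hm
  exact ⟨s, hm'⟩

theorem comp_eq_zero (Q : R[X]) (h0 : Q.eval 0 = 0) (hQ : Q.map ι = 0) :
    ∃ s : ℕ, ∀ t : ℕ, s ≤ t → Q.comp (C (r ^ t) * X) = 0 := by
  have hQ' : Q = Q.divX * X := by
    conv_lhs => rw [← divX_mul_X_add Q, coeff_zero_eq_eval_zero, h0, C_0, add_zero]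
  have h1 : Q.divX.map ι = 0 := by
    have : Q.divX.map ι * X = 0 := by
      rw [← Polynomial.map_X ι, ← Polynomial.map_mul, ← hQ', hQ]
    ext n
    have := congrArg (fun p => p.coeff (n + 1)) this
    simpa [coeff_mul_X] using this
  obtain ⟨s, hs⟩ := ker_map r _ h1
  refine ⟨s, fun t ht => ?_⟩
  rw [hQ', mul_comp, X_comp]
  have : C (r ^ t) * Q.divX = 0 := by
    rw [← Nat.sub_add_cancel ht, pow_add, C_mul, mul_assoc, hs, mul_zero]
  calc Q.divX.comp (C (r ^ t) * X) * (C (r ^ t) * X)
      = (C (r ^ t) * Q.divX).comp (C (r ^ t) * X) * X := by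
        rw [mul_comp, C_comp]; ring
    _ = 0 := by rw [this, zero_comp, zero_mul]

end aux

/-- In the case of an affine scheme of finite presentation, let B be a finitely presented R-algebra, r ∈
R, and x : B → R[1/r][T] an R-algebra homomorphism whose value at T = 0, a homomorphism B → R[1/r],
is induced by a homomorphism x̃₀ : B → R. Then for every large enough n, the homomorphism x(rⁿT) : B
→ R[1/r][T] is induced by a homomorphism x̃ : B → R[T] whose value at T = 0 is x̃₀. The published
statement is for algebraic spaces locally of finite presentation over R; this row takes an affine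
scheme of finite presentation. -/
theorem result
    (R : Type u) (B : Type v) [CommRing R] [CommRing B] [Algebra R B]
    [Algebra.FinitePresentation R B] (r : R)
    (x : B →ₐ[R] Polynomial (Localization.Away r))
    (x₀ : B →ₐ[R] R)
    (hx₀ : (algebraMap R (Localization.Away r)).comp x₀.toRingHom =
      (Polynomial.evalRingHom 0).comp x.toRingHom) :
    ∃ N : ℕ, ∀ n : ℕ, N ≤ n →
      ∃ y : B →ₐ[R] Polynomial R,
        (Polynomial.evalRingHom 0).comp y.toRingHom = x₀.toRingHom ∧
        (Polynomial.mapRingHom (algebraMap R (Localization.Away r))).comp y.toRingHom =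
          (Polynomial.aeval (Polynomial.C (algebraMap R (Localization.Away r) (r ^ n)) * Polynomial.X) :
              Polynomial (Localization.Away r) →ₐ[Localization.Away r] Polynomial (Localization.Away r)).toRingHom.comp
            x.toRingHom := by
  classical
  obtain ⟨k, f, hf, hker⟩ := Algebra.FinitePresentation.out (R := R) (A := B)
  obtain ⟨S, hS⟩ := hker
  have hp : ∀ i : Fin k, (x (f (MvPolynomial.X i))).eval 0 =
      algebraMap R (Localization.Away r) (x₀ (f (MvPolynomial.X i))) := fun i =>
    (RingHom.congr_fun hx₀ (f (MvPolynomial.X i))).symm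
  choose N hN using fun i => lift_eval r _ _ (hp i)
  set N₀ := Finset.univ.sup N with hN₀
  choose P hP0 hPm using fun i => hN i N₀ (Finset.le_sup (Finset.mem_univ i))
  let y₀ : MvPolynomial (Fin k) R →ₐ[R] R[X] := MvPolynomial.aeval P
  have F1 : ∀ g, (y₀ g).eval 0 = x₀ (f g) := by
    have : (Polynomial.aeval (0 : R) : R[X] →ₐ[R] R).comp y₀ = x₀.comp f := by
      apply MvPolynomial.algHom_ext
      intro i
      simp [y₀, hP0, coe_aeval_eq_eval]
    intro g
    have := AlgHom.congr_fun this g
    simpa [coe_aeval_eq_eval] using this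
  have F2 : ∀ g, (y₀ g).map (algebraMap R (Localization.Away r)) =
      (x (f g)).comp (C (algebraMap R (Localization.Away r) (r ^ N₀)) * X) := by
    have : (Polynomial.mapAlg R (Localization.Away r)).comp y₀ =
        ((Polynomial.aeval (C (algebraMap R (Localization.Away r) (r ^ N₀)) * X) :
          (Localization.Away r)[X] →ₐ[Localization.Away r] (Localization.Away r)[X]).restrictScalars R).comp
          (x.comp f) := by
      apply MvPolynomial.algHom_ext
      intro i
      simp only [AlgHom.comp_apply, y₀, MvPolynomial.aeval_X, mapAlg_eq_map, hPm,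
        AlgHom.restrictScalars_apply]
      rfl
    intro g
    have := AlgHom.congr_fun this g
    simp only [AlgHom.comp_apply, mapAlg_eq_map, AlgHom.restrictScalars_apply] at this
    rw [this]
    rfl
  have F3 : ∀ g ∈ S, ∃ s : ℕ, ∀ t : ℕ, s ≤ t → (y₀ g).comp (C (r ^ t) * X) = 0 := by
    intro g hg
    have hfg : f g = 0 := by
      have : g ∈ RingHom.ker f.toRingHom := by
        rw [← hS]; exact Ideal.subset_span hg
      exact this
    apply comp_eq_zero r
    · rw [F1, hfg, map_zero]
    · rw [F2, hfg, map_zero, zero_comp]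
  choose! s hs using F3
  refine ⟨N₀ + S.sup s, fun n hn => ?_⟩
  obtain ⟨t, rfl⟩ : ∃ t, n = N₀ + t := ⟨n - N₀, by omega⟩
  have ht : S.sup s ≤ t := by omega
  let yn : MvPolynomial (Fin k) R →ₐ[R] R[X] :=
    (Polynomial.aeval (C (r ^ t) * X) : R[X] →ₐ[R] R[X]).comp y₀
  have hyn : ∀ g, yn g = (y₀ g).comp (C (r ^ t) * X) := fun g => rfl
  have hle : RingHom.ker f.toRingHom ≤ RingHom.ker yn.toRingHom := by
    rw [← hS, Ideal.span_le]
    intro g hg
    show yn g = 0
    rw [hyn]
    exact hs g hg t (le_trans (Finset.le_sup hg) ht)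
  refine ⟨AlgHom.liftOfSurjective f hf yn hle, ?_, ?_⟩
  · apply RingHom.ext
    intro b
    obtain ⟨g, rfl⟩ := hf b
    show eval 0 (AlgHom.liftOfSurjective f hf yn hle (f g)) = x₀ (f g)
    rw [AlgHom.liftOfSurjective_apply, hyn, eval_comp, ← F1]
    simp
  · apply RingHom.ext
    intro b
    obtain ⟨g, rfl⟩ := hf b
    show (AlgHom.liftOfSurjective f hf yn hle (f g)).map (algebraMap R (Localization.Away r)) =
      (x (f g)).comp (C (algebraMap R (Localization.Away r) (r ^ (N₀ + t))) * X)
    rw [AlgHom.liftOfSurjective_apply, hyn, Polynomial.map_comp, F2, comp_assoc]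
    congr 1
    simp only [Polynomial.map_mul, Polynomial.map_C, Polynomial.map_X, mul_comp, C_comp, X_comp,
      pow_add, map_mul]
    ring


end Groth.Agent.S17843
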