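import Groth.Statements.S17854
import Mathlib
import Groth.Agent.Lib.SmoothTower

set_option autoImplicit false
open TensorProduct
universe u
open EtAlg

namespace Groth.Agent.S17854

section Helpers

namespace P1
open IsLocalRing

/-- If `k` is local with finite residue field, `R` a f.t. `k`-algebra and `m` a maximal ideal of `R`
over the maximal ideal of `k`, then `R ⧸ m` is finite. -/
theorem finite_quot (k : Type u) [CommRing k] [IsLocalRing k] [Finite (ResidueField k)]
    (R : Type u) [CommRing R] [Algebra k R] [Algebra.FiniteType k R]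
    (m : Ideal R) [m.IsMaximal] (hm : m.comap (algebraMap k R) = maximalIdeal k) :
    Finite (R ⧸ m) := by
  letI : Field (R ⧸ m) := Ideal.Quotient.field m
  let f : ResidueField k →+* R ⧸ m :=
    Ideal.quotientMap m (algebraMap k R) (le_of_eq hm.symm)
  letI : Algebra (ResidueField k) (R ⧸ m) := f.toAlgebra
  haveI : IsScalarTower k (ResidueField k) (R ⧸ m) := by
    refine IsScalarTower.of_algebraMap_eq' ?_
    ext a
    rfl
  haveI : Algebra.FiniteType k (R ⧸ m) :=
    Algebra.FiniteType.of_surjective (Ideal.Quotient.mkₐ k m) (Ideal.Quotient.mkₐ_surjective k m)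
  haveI : Algebra.FiniteType (ResidueField k) (R ⧸ m) :=
    Algebra.FiniteType.of_restrictScalars_finiteType k (ResidueField k) (R ⧸ m)
  haveI : Module.Finite (ResidueField k) (R ⧸ m) :=
    finite_of_finite_type_of_isJacobsonRing (ResidueField k) (R ⧸ m)
  exact Module.finite_of_finite (ResidueField k)

end P1

namespace P2
open TensorProduct KaehlerDifferential

variable (k : Type u) [CommRing k] (R : Type u) [CommRing R] [Algebra k R] (m : Ideal R)

/-- `1 ⊗ D r` in the fibre `(R ⧸ m) ⊗ Ω[R/k]`. -/
noncomputable def tm (r : R) : (R ⧸ m) ⊗[R] Ω[R⁄k] := (1 : R ⧸ m) ⊗ₜ[R] D k R r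

theorem tm_add (a b : R) : tm k R m (a + b) = tm k R m a + tm k R m b := by
  simp [tm, tmul_add]

theorem tm_sub (a b : R) : tm k R m (a - b) = tm k R m a - tm k R m b := by
  simp [tm, tmul_sub]

theorem one_tmul_smul (a : R) (ω : Ω[R⁄k]) :
    (1 : R ⧸ m) ⊗ₜ[R] (a • ω) = (Ideal.Quotient.mk m a) • ((1 : R ⧸ m) ⊗ₜ[R] ω) := by
  rw [TensorProduct.tmul_smul, TensorProduct.smul_tmul', TensorProduct.smul_tmul', smul_eq_mul,
    mul_one, Algebra.smul_def, mul_one]
  rfl

theorem tm_pow_card [Fintype (R ⧸ m)] (a : R) : tm k R m (a ^ Fintype.card (R ⧸ m)) = 0 := by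
  unfold tm
  rw [Derivation.leibniz_pow, ← Nat.cast_smul_eq_nsmul R, one_tmul_smul, map_natCast,
    Nat.cast_card_eq_zero, zero_smul]

theorem one_tmul_mem (ω : Ω[R⁄k]) :
    (1 : R ⧸ m) ⊗ₜ[R] ω ∈ Submodule.span (R ⧸ m) (Set.range (tm k R m)) := by
  have hω : ω ∈ Submodule.span R (Set.range (D k R)) := by
    rw [KaehlerDifferential.span_range_derivation]; trivial
  induction hω using Submodule.span_induction with
  | mem ω h => obtain ⟨r, rfl⟩ := h; exact Submodule.subset_span ⟨r, rfl⟩
  | zero => rw [tmul_zero]; exact zero_mem _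
  | add a b _ _ ha hb => rw [tmul_add]; exact add_mem ha hb
  | smul a ω _ h => rw [one_tmul_smul]; exact Submodule.smul_mem _ _ h

theorem span_tm : Submodule.span (R ⧸ m) (Set.range (tm k R m)) = ⊤ := by
  rw [eq_top_iff]
  rintro z -
  induction z using TensorProduct.induction_on with
  | zero => exact zero_mem _
  | tmul c ω =>
    have h1 : c ⊗ₜ[R] ω = c • ((1 : R ⧸ m) ⊗ₜ[R] ω) := by
      rw [TensorProduct.smul_tmul', smul_eq_mul, mul_one]
    rw [h1]
    exact Submodule.smul_mem _ _ (one_tmul_mem k R m ω)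
  | add a b ha hb => exact add_mem ha hb

/-- Choice of coordinates. -/
theorem exists_coords [m.IsMaximal] [Finite (R ⧸ m)] (d : ℕ) (hd : 0 < d)
    (hdim : Module.finrank (R ⧸ m) ((R ⧸ m) ⊗[R] Ω[R⁄k]) = d) :
    ∃ x : Fin d → R,
      Submodule.span (R ⧸ m) (Set.range fun i => tm k R m (x i)) = ⊤ ∧
      ∀ c : R ⧸ m, ∃ p : MvPolynomial (Fin d) k,
        Ideal.Quotient.mk m (MvPolynomial.aeval x p) = c := by
  classical
  letI : Field (R ⧸ m) := Ideal.Quotient.field m
  letI : Fintype (R ⧸ m) := Fintype.ofFinite _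
  haveI : Module.Finite (R ⧸ m) ((R ⧸ m) ⊗[R] Ω[R⁄k]) :=
    Module.finite_of_finrank_pos (by rw [hdim]; exact hd)
  obtain ⟨f, hf, hfspan, -⟩ := Submodule.exists_fun_fin_finrank_span_eq (R ⧸ m)
    (Set.range (tm k R m))
  replace hfspan : Submodule.span (R ⧸ m) (Set.range f) = ⊤ := hfspan.trans (span_tm k R m)
  have hn : Module.finrank (R ⧸ m)
      (Submodule.span (R ⧸ m) (Set.range (tm k R m))) = d := by
    rw [span_tm, finrank_top, hdim]
  choose r hr using hf
  let y : Fin d → R := fun i => r (Fin.cast hn.symm i)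
  have hy : Submodule.span (R ⧸ m) (Set.range fun i => tm k R m (y i)) = ⊤ := by
    rw [← hfspan]
    congr 1
    ext z
    constructor
    · rintro ⟨i, rfl⟩
      exact ⟨Fin.cast hn.symm i, (hr _).symm⟩
    · rintro ⟨i, rfl⟩
      exact ⟨Fin.cast hn i, by simp [y, hr]⟩
  -- generator of the unit group
  obtain ⟨θ, hθ⟩ := IsCyclic.exists_monoid_generator (α := (R ⧸ m)ˣ)
  obtain ⟨t, ht⟩ := Ideal.Quotient.mk_surjective (θ : R ⧸ m)
  set q := Fintype.card (R ⧸ m) with hq
  let i0 : Fin d := ⟨0, hd⟩
  let x : Fin d → R := Function.update y i0 (y i0 - (y i0) ^ q + t ^ q)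
  have hx_tm : ∀ i, tm k R m (x i) = tm k R m (y i) := by
    intro i
    by_cases hi : i = i0
    · subst hi
      simp only [x, Function.update_self]
      rw [tm_add, tm_sub, tm_pow_card, tm_pow_card, sub_zero, add_zero]
    · simp only [x, Function.update_of_ne hi]
  have hx0 : Ideal.Quotient.mk m (x i0) = θ := by
    simp only [x, Function.update_self, map_add, map_sub, map_pow]
    rw [FiniteField.pow_card, FiniteField.pow_card, sub_self, zero_add, ht]
  refine ⟨x, ?_, ?_⟩
  · simp only [hx_tm]
    exact hy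
  · intro c
    by_cases hc : c = 0
    · exact ⟨0, by simp [hc]⟩
    · obtain ⟨j, hj⟩ := hθ (Units.mk0 c hc)
      refine ⟨MvPolynomial.X i0 ^ j, ?_⟩
      rw [map_pow, MvPolynomial.aeval_X, map_pow, hx0]
      have := congrArg Units.val hj
      simpa using this

end P2

namespace P3
open TensorProduct KaehlerDifferential

/-- Transport of a fibre basis at a maximal ideal `m` to the residue field of the localization. -/
theorem exists_basis_fibre {R : Type u} [CommRing R] (m : Ideal R) [m.IsMaximal]
    {M N : Type u} [AddCommGroup M] [Module R M] [AddCommGroup N] [Module R N]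
    [Module (Localization.AtPrime m) N] [IsScalarTower R (Localization.AtPrime m) N]
    (f : M →ₗ[R] N) [IsLocalizedModule m.primeCompl f] {ι : Type} [Fintype ι]
    (b : Module.Basis ι (R ⧸ m) ((R ⧸ m) ⊗[R] M)) (y : ι → M)
    (hb : ∀ i, b i = (1 : R ⧸ m) ⊗ₜ[R] y i) :
    ∃ b' : Module.Basis ι m.ResidueField (m.ResidueField ⊗[Localization.AtPrime m] N),
      ∀ i, b' i = (1 : m.ResidueField) ⊗ₜ[Localization.AtPrime m] f (y i) := by
  let e0 : (Localization.AtPrime m) ⊗[R] M ≃ₗ[Localization.AtPrime m] N :=
    (IsLocalizedModule.isBaseChange m.primeCompl (Localization.AtPrime m) f).equiv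
  let e1 : m.ResidueField ⊗[Localization.AtPrime m] ((Localization.AtPrime m) ⊗[R] M)
      ≃ₗ[m.ResidueField] m.ResidueField ⊗[Localization.AtPrime m] N :=
    TensorProduct.AlgebraTensorModule.congr (LinearEquiv.refl m.ResidueField m.ResidueField) e0
  let e2 : m.ResidueField ⊗[Localization.AtPrime m] ((Localization.AtPrime m) ⊗[R] M)
      ≃ₗ[m.ResidueField] m.ResidueField ⊗[R] M :=
    TensorProduct.AlgebraTensorModule.cancelBaseChange R (Localization.AtPrime m)
      m.ResidueField m.ResidueField M
  let e3 : m.ResidueField ⊗[R ⧸ m] ((R ⧸ m) ⊗[R] M) ≃ₗ[m.ResidueField] m.ResidueField ⊗[R] M :=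
    TensorProduct.AlgebraTensorModule.cancelBaseChange R (R ⧸ m)
      m.ResidueField m.ResidueField M
  refine ⟨(b.baseChange m.ResidueField).map (e3 ≪≫ₗ e2.symm ≪≫ₗ e1), fun i => ?_⟩
  rw [Module.Basis.map_apply, Module.Basis.baseChange_apply, hb]
  simp only [LinearEquiv.trans_apply]
  have h3 : e3 ((1 : m.ResidueField) ⊗ₜ[R ⧸ m] ((1 : R ⧸ m) ⊗ₜ[R] y i)) =
      (1 : m.ResidueField) ⊗ₜ[R] y i := by
    simp only [e3, TensorProduct.AlgebraTensorModule.cancelBaseChange_tmul, one_smul]
  have h2 : e2.symm ((1 : m.ResidueField) ⊗ₜ[R] y i) =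
      (1 : m.ResidueField) ⊗ₜ[Localization.AtPrime m]
        ((1 : Localization.AtPrime m) ⊗ₜ[R] y i) := by
    simp only [e2, TensorProduct.AlgebraTensorModule.cancelBaseChange_symm_tmul]
  have h1 : e1 ((1 : m.ResidueField) ⊗ₜ[Localization.AtPrime m]
        ((1 : Localization.AtPrime m) ⊗ₜ[R] y i)) =
      (1 : m.ResidueField) ⊗ₜ[Localization.AtPrime m] f (y i) := by
    simp only [e1, TensorProduct.AlgebraTensorModule.congr_tmul, LinearEquiv.refl_apply, e0,
      IsBaseChange.equiv_tmul, one_smul]
  rw [h3, h2, h1]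

end P3

namespace P4
open TensorProduct KaehlerDifferential

theorem isEtaleAt (k : Type u) [CommRing k] (R : Type u) [CommRing R] [Algebra k R]
    [Algebra.FinitePresentation k R] (m : Ideal R) [m.IsMaximal] [Algebra.IsSmoothAt k m] (d : ℕ)
    [Algebra (MvPolynomial (Fin d) k) R] [IsScalarTower k (MvPolynomial (Fin d) k) R]
    (hdim : Module.finrank (R ⧸ m) ((R ⧸ m) ⊗[R] Ω[R⁄k]) = d)
    (hspan : Submodule.span (R ⧸ m) (Set.range fun i : Fin d =>
      P2.tm k R m (algebraMap (MvPolynomial (Fin d) k) R (MvPolynomial.X i))) = ⊤) :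
    Algebra.IsEtaleAt (MvPolynomial (Fin d) k) m := by
  letI : Field (R ⧸ m) := Ideal.Quotient.field m
  haveI : Algebra.FormallySmooth k (Localization.AtPrime m) := ‹Algebra.IsSmoothAt k m›
  haveI : Module.Finite (Localization.AtPrime m) Ω[Localization.AtPrime m⁄k] :=
    Module.Finite.of_isLocalizedModule m.primeCompl
      (KaehlerDifferential.map k k R (Localization.AtPrime m))
  -- fibre basis
  let b : Module.Basis (Fin d) (R ⧸ m) ((R ⧸ m) ⊗[R] Ω[R⁄k]) :=
    basisOfTopLeSpanOfCardEqFinrank _ (le_of_eq hspan.symm) (by simp [hdim])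
  obtain ⟨b', hb'⟩ := P3.exists_basis_fibre m (KaehlerDifferential.map k k R (Localization.AtPrime m))
    b (fun i => D k R (algebraMap (MvPolynomial (Fin d) k) R (MvPolynomial.X i)))
    (fun i => by simp [b, P2.tm])
  let v : Fin d → Ω[Localization.AtPrime m⁄k] := fun i =>
    D k (Localization.AtPrime m) (algebraMap (MvPolynomial (Fin d) k) (Localization.AtPrime m)
      (MvPolynomial.X i))
  have hb'v : ∀ i, b' i = (TensorProduct.mk (Localization.AtPrime m)
      (IsLocalRing.ResidueField (Localization.AtPrime m)) Ω[Localization.AtPrime m⁄k] 1 ∘ v) i := by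
    intro i
    rw [hb', KaehlerDifferential.map_D]
    simp only [Function.comp_apply, TensorProduct.mk_apply, v]
    rw [← IsScalarTower.algebraMap_apply]
  have hfun : (TensorProduct.mk (Localization.AtPrime m)
      (IsLocalRing.ResidueField (Localization.AtPrime m)) Ω[Localization.AtPrime m⁄k] 1 ∘ v) =
      ⇑b' := funext fun i => (hb'v i).symm
  have hbij : Function.Bijective (Finsupp.linearCombination (Localization.AtPrime m) v) := by
    refine Module.IsLocalRing.linearCombination_bijective_of_flat v ?_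
    rw [hfun]
    refine ⟨b'.linearIndependent, ?_⟩
    rw [← LinearMap.range_eq_top, Finsupp.range_linearCombination, b'.span_eq]
  -- the base change basis
  let B : Module.Basis (Fin d) (Localization.AtPrime m)
      ((Localization.AtPrime m) ⊗[MvPolynomial (Fin d) k] Ω[MvPolynomial (Fin d) k⁄k]) :=
    (KaehlerDifferential.mvPolynomialBasis k (Fin d)).baseChange (Localization.AtPrime m)
  have hcomp : (KaehlerDifferential.mapBaseChange k (MvPolynomial (Fin d) k)
      (Localization.AtPrime m)) =
      (Finsupp.linearCombination (Localization.AtPrime m) v) ∘ₗ B.repr.toLinearMap := by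
    refine B.ext fun i => ?_
    simp only [LinearMap.coe_comp, LinearEquiv.coe_coe, Function.comp_apply,
      Module.Basis.repr_self, Finsupp.linearCombination_single, one_smul]
    simp only [B, Module.Basis.baseChange_apply, KaehlerDifferential.mvPolynomialBasis_apply,
      KaehlerDifferential.mapBaseChange_tmul, KaehlerDifferential.map_D, one_smul, v]
  rw [Algebra.IsEtaleAt, Groth.Agent.Lib.SmoothTower.formallyEtale_iff_bijective k
    (MvPolynomial (Fin d) k) (Localization.AtPrime m), hcomp]
  exact hbij.comp B.repr.bijective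

end P4

namespace P5
open TensorProduct KaehlerDifferential

theorem surj_away {P R : Type u} [CommRing P] [CommRing R] (m : Ideal R) [m.IsMaximal]
    (ψ : P →+* R) (hψ : ∀ c : R ⧸ m, ∃ p, Ideal.Quotient.mk m (ψ p) = c) (g : R) (hg : g ∉ m) :
    Function.Surjective ((Ideal.Quotient.mk (m.map (algebraMap R (Localization.Away g)))).comp
      ((algebraMap R (Localization.Away g)).comp ψ)) := by
  intro z
  obtain ⟨z', rfl⟩ := Ideal.Quotient.mk_surjective z
  obtain ⟨n, a, hna⟩ := IsLocalization.Away.surj g z'
  obtain ⟨b, i, hi, hbi⟩ := Ideal.IsMaximal.exists_inv ‹m.IsMaximal› hg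
  set π := Ideal.Quotient.mk (m.map (algebraMap R (Localization.Away g))) with hπ
  have hker : ∀ r ∈ m, π (algebraMap R (Localization.Away g) r) = 0 := fun r hr =>
    Ideal.Quotient.eq_zero_iff_mem.mpr (Ideal.mem_map_of_mem _ hr)
  have h1 : π (algebraMap R (Localization.Away g) (b * g)) = 1 := by
    have : b * g = 1 - i := by rw [← hbi]; ring
    rw [this, map_sub, map_sub, hker i hi, map_one, map_one, sub_zero]
  have h2 : π z' = π (algebraMap R (Localization.Away g) (a * b ^ n)) := by
    calc π z' = π z' * (π (algebraMap R (Localization.Away g) (b * g))) ^ n := by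
          rw [h1, one_pow, mul_one]
      _ = π (z' * algebraMap R (Localization.Away g) g ^ n) *
            π (algebraMap R (Localization.Away g) b) ^ n := by
          simp only [map_mul, map_pow]; ring
      _ = π (algebraMap R (Localization.Away g) (a * b ^ n)) := by
          rw [hna]; simp only [map_mul, map_pow]
  obtain ⟨p, hp⟩ := hψ (Ideal.Quotient.mk m (a * b ^ n))
  refine ⟨p, ?_⟩
  rw [h2]
  simp only [RingHom.comp_apply]
  rw [← sub_eq_zero, ← map_sub, ← map_sub]
  exact hker _ (Ideal.Quotient.eq.mp hp)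

theorem main
    (k : Type u) [CommRing k] [IsLocalRing k] [Finite (IsLocalRing.ResidueField k)]
    (R : Type u) [CommRing R] [Algebra k R] [Algebra.FinitePresentation k R]
    (m : Ideal R) [m.IsMaximal] (hm : m.comap (algebraMap k R) = IsLocalRing.maximalIdeal k)
    [Algebra.IsSmoothAt k m] (d : ℕ) (hd : 0 < d)
    (hdim : Module.finrank (R ⧸ m) ((R ⧸ m) ⊗[R] KaehlerDifferential k R) = d) :
    ∃ g : R, g ∉ m ∧ ∃ φ : MvPolynomial (Fin d) k →ₐ[k] Localization.Away g,
      φ.toRingHom.Etale ∧
      Function.Surjective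
        ((Ideal.Quotient.mk (m.map (algebraMap R (Localization.Away g)))).comp φ.toRingHom) := by
  haveI : Finite (R ⧸ m) := P1.finite_quot k R m hm
  obtain ⟨x, hxspan, hxsurj⟩ := P2.exists_coords k R m d hd hdim
  letI : Algebra (MvPolynomial (Fin d) k) R := (MvPolynomial.aeval x).toRingHom.toAlgebra
  haveI : IsScalarTower k (MvPolynomial (Fin d) k) R :=
    IsScalarTower.of_algebraMap_eq' (MvPolynomial.aeval x).comp_algebraMap.symm
  haveI : Algebra.FinitePresentation (MvPolynomial (Fin d) k) R :=
    Algebra.FinitePresentation.of_restrict_scalars_finitePresentation k _ R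
  have hx : ∀ i, algebraMap (MvPolynomial (Fin d) k) R (MvPolynomial.X i) = x i := fun i => by
    rw [RingHom.algebraMap_toAlgebra]
    exact MvPolynomial.aeval_X x i
  haveI : Algebra.IsEtaleAt (MvPolynomial (Fin d) k) m :=
    P4.isEtaleAt k R m d hdim (by simp only [hx]; exact hxspan)
  obtain ⟨g, hg, hét⟩ := Algebra.exists_etale_of_isEtaleAt (R := MvPolynomial (Fin d) k) m
  refine ⟨g, hg, IsScalarTower.toAlgHom k (MvPolynomial (Fin d) k) (Localization.Away g), ?_, ?_⟩
  · have : (IsScalarTower.toAlgHom k (MvPolynomial (Fin d) k) (Localization.Away g)).toRingHom =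
        algebraMap (MvPolynomial (Fin d) k) (Localization.Away g) := rfl
    rw [this, RingHom.etale_algebraMap]
    exact hét
  · have : (IsScalarTower.toAlgHom k (MvPolynomial (Fin d) k) (Localization.Away g)).toRingHom =
        (algebraMap R (Localization.Away g)).comp
          (algebraMap (MvPolynomial (Fin d) k) R) :=
      IsScalarTower.algebraMap_eq _ _ _
    rw [this]
    exact surj_away m _ (fun c => by
      obtain ⟨p, hp⟩ := hxsurj c
      exact ⟨p, by rw [RingHom.algebraMap_toAlgebra]; exact hp⟩) g hg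

end P5

end Helpers

/-- In the case of a base with finite residue field, let k be a local ring whose residue field is
finite, R a finitely presented k-algebra and m a maximal ideal of R over the maximal ideal of k such
that R is smooth over k at m of relative dimension d > 0 (the module of Kähler differentials of R
over k has rank d at m). Then there are g ∉ m and an étale k-algebra homomorphism φ : k[x₁, …, x_d]
→ R[1/g] which induces an isomorphism of residue fields at m, i.e. k[x₁, …, x_d] → R[1/g]/m R[1/g]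
is surjective. The published statement is for any local ring k; this row takes the residue field of
k finite. -/
theorem result
    (k : Type u) [CommRing k] [IsLocalRing k] [Finite (IsLocalRing.ResidueField k)]
    (R : Type u) [CommRing R] [Algebra k R] [Algebra.FinitePresentation k R]
    (m : Ideal R) [m.IsMaximal] (hm : m.comap (algebraMap k R) = IsLocalRing.maximalIdeal k)
    [Algebra.IsSmoothAt k m] (d : ℕ) (hd : 0 < d)
    (hdim : Module.finrank (R ⧸ m) ((R ⧸ m) ⊗[R] KaehlerDifferential k R) = d) :
    ∃ g : R, g ∉ m ∧ ∃ φ : MvPolynomial (Fin d) k →ₐ[k] Localization.Away g,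
      φ.toRingHom.Etale ∧
      Function.Surjective
        ((Ideal.Quotient.mk (m.map (algebraMap R (Localization.Away g)))).comp φ.toRingHom) := by
  exact P5.main k R m hm d hd hdim

end Groth.Agent.S17854
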