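import Groth.Statements.S17859
import Mathlib.LinearAlgebra.Contraction
import Mathlib.RingTheory.Finiteness.Cardinality

set_option autoImplicit false
open CategoryTheory MonoidalCategory
universe u
open Algz

namespace Groth.Agent.S17859

open TensorProduct

namespace RDual

variable (R : Type u) [CommRing R] (M : Type u) [AddCommGroup M] [Module R M]

/-- dual "basis" of a finite projective module -/
theorem exists_dual_family [Module.Finite R M] [Module.Projective R M] :
    ∃ (n : ℕ) (m : Fin n → M) (φ : Fin n → Module.Dual R M), ∀ x : M, ∑ i, φ i x • m i = x := by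
  obtain ⟨n, f, hf⟩ := Module.Finite.exists_fin' R M
  obtain ⟨s, hs⟩ := Module.projective_lifting_property f LinearMap.id hf
  refine ⟨n, fun i => f (Pi.single i 1), fun i => LinearMap.proj i ∘ₗ s, fun x => ?_⟩
  have h1 : s x = ∑ i, (s x i) • (Pi.single i (1 : R) : Fin n → R) := by
    funext j
    simp [Finset.sum_apply, Pi.single_apply]
  have h2 : f (s x) = x := LinearMap.congr_fun hs x
  conv_rhs => rw [← h2, h1, map_sum]
  simp [map_smul]

variable {R M} {n : ℕ} (m : Fin n → M) (φ : Fin n → Module.Dual R M)

/-- coevaluation attached to a dual family -/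
noncomputable def coev : R →ₗ[R] M ⊗[R] Module.Dual R M :=
  LinearMap.toSpanSingleton R _ (∑ i, m i ⊗ₜ[R] φ i)

theorem coev_apply (r : R) : coev m φ r = r • ∑ i, m i ⊗ₜ[R] φ i := rfl

variable (h : ∀ x : M, ∑ i, φ i x • m i = x)
include h

theorem tri1 :
    (contractLeft R M).rTensor _ ∘ₗ (TensorProduct.assoc R _ _ _).symm.toLinearMap ∘ₗ
        (coev m φ).lTensor (Module.Dual R M) =
      (TensorProduct.lid R _).symm.toLinearMap ∘ₗ (TensorProduct.rid R _).toLinearMap := by
  apply TensorProduct.ext'
  intro ψ r
  simp only [LinearMap.coe_comp, Function.comp_apply, LinearEquiv.coe_toLinearMap,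
    LinearMap.lTensor_tmul, coev_apply, rid_tmul, lid_symm_apply]
  rw [TensorProduct.tmul_smul, map_smul, map_smul, TensorProduct.tmul_sum, map_sum, map_sum]
  simp only [assoc_symm_tmul, LinearMap.rTensor_tmul, contractLeft_apply]
  have : ∑ i, ψ (m i) ⊗ₜ[R] φ i = (1 : R) ⊗ₜ[R] ψ := by
    have e : ∀ i, ψ (m i) ⊗ₜ[R] φ i = (1 : R) ⊗ₜ[R] (ψ (m i) • φ i) := fun i => by
      rw [TensorProduct.tmul_smul, TensorProduct.smul_tmul', smul_eq_mul, mul_one]
    simp only [e]
    rw [← TensorProduct.tmul_sum]
    congr 1
    apply LinearMap.ext
    intro x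
    simp only [LinearMap.sum_apply, LinearMap.smul_apply, smul_eq_mul]
    conv_rhs => rw [← h x, map_sum]
    simp [map_smul, mul_comm]
  rw [this, TensorProduct.tmul_smul]

theorem tri2 :
    (contractLeft R M).lTensor _ ∘ₗ (TensorProduct.assoc R _ _ _).toLinearMap ∘ₗ
        (coev m φ).rTensor M =
      (TensorProduct.rid R _).symm.toLinearMap ∘ₗ (TensorProduct.lid R _).toLinearMap := by
  apply TensorProduct.ext'
  intro r x
  simp only [LinearMap.coe_comp, Function.comp_apply, LinearEquiv.coe_toLinearMap,
    LinearMap.rTensor_tmul, coev_apply, lid_tmul, rid_symm_apply]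
  rw [← TensorProduct.smul_tmul', map_smul, map_smul, TensorProduct.sum_tmul, map_sum, map_sum]
  simp only [assoc_tmul, LinearMap.lTensor_tmul, contractLeft_apply]
  have : ∑ i, m i ⊗ₜ[R] φ i x = x ⊗ₜ[R] (1 : R) := by
    have e : ∀ i, m i ⊗ₜ[R] φ i x = (φ i x • m i) ⊗ₜ[R] (1 : R) := fun i => by
      rw [TensorProduct.smul_tmul, smul_eq_mul, mul_one]
    simp only [e]
    rw [← TensorProduct.sum_tmul, h x]
  rw [this, ← TensorProduct.smul_tmul']

end RDual


/-- Over an affine scheme, that is for modules over a commutative ring `R`, a finitely generated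
projective `R`-module `M`, viewed as an object of the monoidal category of `R`-modules (tensor
product over `R`), has a right dual. (The published statement is the equivalence, for quasi-coherent
sheaves on a quasi-compact quasi-separated scheme, between being dualizable and being a vector
bundle; stated here is the affine case of the implication from vector bundle to dualizable. The
converse implication, that a module admitting a dual is finitely generated projective, is stated
separately and is not repeated here.) -/
theorem result (R : Type u) [CommRing R] (M : ModuleCat.{u} R)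
    [Module.Finite R M] [Module.Projective R M] : Nonempty (HasRightDual M) := by
  obtain ⟨n, m, φ, h⟩ := RDual.exists_dual_family R M
  refine ⟨@HasRightDual.mk _ _ _ M (ModuleCat.of R (Module.Dual R M)) ?_⟩
  exact
    { coevaluation' := ModuleCat.ofHom (RDual.coev m φ)
      evaluation' := ModuleCat.ofHom (contractLeft R M)
      coevaluation_evaluation' := by
        ext : 1
        exact RDual.tri1 m φ h
      evaluation_coevaluation' := by
        ext : 1
        exact RDual.tri2 m φ h }

end Groth.Agent.S17859
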