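import Groth.Statements.S17860
import Mathlib
import Groth.Agent.Lib.LocGen97
-- import your own Groth.Agent.* helpers here

set_option autoImplicit false
open CategoryTheory AlgebraicGeometry
universe u
open Algz

namespace Groth.Agent.S17860

/-- Let `R` be a commutative ring and `M` a finite `R`-module. Suppose `Spec R` is covered by opens `U
0, …, U (m-1)` (not necessarily affine) such that over each `U i` the restriction of the associated
sheaf of modules `M~` is a quotient of the free module of rank `n` (it is generated by `n` sections
over `U i`). Then `M` is generated by `n * m` elements. -/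
theorem result (R : CommRingCat.{u}) (M : ModuleCat.{u} R)
    [Module.Finite R M] (n m : ℕ) (U : Fin m → (Spec R).Opens) (hU : ⨆ i, U i = ⊤)
    (hgen : ∀ i, ∃ φ : FlatMod.freeMod (↑(U i)) n ⟶ (AlgebraicGeometry.tilde M).restrict (U i).ι, Epi φ) :
    ∃ s : Fin (n * m) → M, Submodule.span R (Set.range s) = ⊤ := by
  obtain ⟨a, ha, hle⟩ := Groth.Agent.Lib.LocGen97.exists_partition (R := R) U hU
  have h : ∀ i, ∃ t : Fin n → M, ∀ x : M, ∃ k : ℕ,
      a i ^ k • x ∈ Submodule.span R (Set.range t) := by
    intro i
    obtain ⟨φ, hφ⟩ := hgen i
    exact Groth.Agent.Lib.LocGen97.exists_gens_of_epi R M n (U i) φ (a i) (hle i)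
  choose t ht using h
  exact Groth.Agent.Lib.LocGen97.span_eq_top_of_pow_smul_mem a ha t ht

end Groth.Agent.S17860
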