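import Groth.Statements.S17863
import Mathlib.RingTheory.AdicCompletion.RingHom

set_option autoImplicit false
open CategoryTheory AlgebraicGeometry
universe u
open Algz

namespace Groth.Agent.S17863

/-- an open immersion into `Spec A` whose range contains `V(I)` with `I` in the Jacobson radical:
every morphism... -/
theorem range_subset_of_jacobson {A : Type u} [CommRing A] (I : Ideal A)
    (hI : I ≤ (⊥ : Ideal A).jacobson) {Y X : Scheme.{u}} (j : X ⟶ Y) [IsOpenImmersion j]
    (F : Spec (CommRingCat.of A) ⟶ Y)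
    (h : ∀ p : PrimeSpectrum A, I ≤ p.asIdeal → F p ∈ Set.range j) :
    Set.range F ⊆ Set.range j := by
  rintro _ ⟨p, rfl⟩
  by_contra hp
  have hZ : IsClosed (F ⁻¹' (Set.range j)ᶜ) :=
    (j.isOpenEmbedding.isOpen_range.isClosed_compl).preimage F.continuous
  obtain ⟨m, hm, hpm⟩ := Ideal.exists_le_maximal (p : PrimeSpectrum A).asIdeal
    (p : PrimeSpectrum A).isPrime.ne_top
  let q : PrimeSpectrum A := ⟨m, hm.isPrime⟩
  have hpq : (p : PrimeSpectrum A) ⤳ q := (PrimeSpectrum.le_iff_specializes _ _).mp hpm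
  have hq : q ∈ F ⁻¹' (Set.range j)ᶜ := hZ.stableUnderSpecialization hpq hp
  exact hq (h q (hI.trans (sInf_le ⟨bot_le, hm⟩)))


/-- Let `A` be a commutative ring which is `I`-adically complete for an ideal `I` and let `X` be a
quasi-affine scheme. Then the natural map from `X(A)` to compatible systems in the `X(A/I^n)` is
bijective: two morphisms `Spec A ⟶ X` with the same restriction to every `Spec (A/I^n)` are equal,
and every family of morphisms `Spec (A/I^n) ⟶ X` compatible with the transition maps `Spec (A/I^n) ⟶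
Spec (A/I^(n+1))` is the family of restrictions of a morphism `Spec A ⟶ X`. -/
theorem result (A : Type u) [CommRing A] (I : Ideal A) [IsAdicComplete I A]
    (X : Scheme.{u}) [X.IsQuasiAffine] :
    (∀ f g : Spec (CommRingCat.of A) ⟶ X,
      (∀ n : ℕ, Spec.map (CommRingCat.ofHom (Ideal.Quotient.mk (I ^ n))) ≫ f =
        Spec.map (CommRingCat.ofHom (Ideal.Quotient.mk (I ^ n))) ≫ g) → f = g) ∧
    (∀ e : ∀ n : ℕ, Spec (CommRingCat.of (A ⧸ I ^ n)) ⟶ X,
      (∀ n : ℕ, Spec.map (CommRingCat.ofHom (Ideal.Quotient.factorPowSucc I n)) ≫ e (n + 1) = e n) →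
      ∃ f : Spec (CommRingCat.of A) ⟶ X,
        ∀ n : ℕ, Spec.map (CommRingCat.ofHom (Ideal.Quotient.mk (I ^ n))) ≫ f = e n) := by
  have hjmono : Mono X.toSpecΓ := inferInstance
  refine ⟨fun f g h => ?_, fun e he => ?_⟩
  · rw [← cancel_mono X.toSpecΓ, ← Spec.map_preimage (f ≫ X.toSpecΓ),
      ← Spec.map_preimage (g ≫ X.toSpecΓ)]
    congr 1
    have key : ∀ n : ℕ, Spec.preimage (f ≫ X.toSpecΓ) ≫ CommRingCat.ofHom (Ideal.Quotient.mk (I ^ n)) =
        Spec.preimage (g ≫ X.toSpecΓ) ≫ CommRingCat.ofHom (Ideal.Quotient.mk (I ^ n)) := by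
      intro n
      apply Spec.map_injective
      rw [Spec.map_comp, Spec.map_comp, Spec.map_preimage, Spec.map_preimage, reassoc_of% (h n)]
    apply CommRingCat.hom_ext
    apply DFunLike.coe_injective
    apply IsHausdorff.funext' I
    intro n x
    exact congrArg (fun φ => φ.hom x) (key n)
  · let φ : ∀ n : ℕ, Γ(X, ⊤) →+* A ⧸ I ^ n := fun n => (Spec.preimage (e n ≫ X.toSpecΓ)).hom
    have hφ : ∀ {m : ℕ}, (Ideal.Quotient.factorPow I (Nat.le_succ m)).comp (φ (m + 1)) = φ m := by
      intro m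
      have : Spec.preimage (e (m + 1) ≫ X.toSpecΓ) ≫
          CommRingCat.ofHom (Ideal.Quotient.factorPowSucc I m) = Spec.preimage (e m ≫ X.toSpecΓ) := by
        apply Spec.map_injective
        rw [Spec.map_comp, Spec.map_preimage, Spec.map_preimage, reassoc_of% (he m)]
      exact congrArg (fun ψ => ψ.hom) this
    have hφ' : ∀ {m n : ℕ} (hle : m ≤ n), (Ideal.Quotient.factorPow I hle).comp (φ n) = φ m :=
      fun hle => IsAdicComplete.StrictMono.factorPow_comp_eq_of_factorPow_comp_succ_eq'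
        (a := id) strictMono_id φ hφ hle
    let Φ : Γ(X, ⊤) →+* A := IsAdicComplete.liftRingHom I φ hφ'
    let F : Spec (CommRingCat.of A) ⟶ Spec Γ(X, ⊤) := Spec.map (CommRingCat.ofHom Φ)
    have hF : ∀ n : ℕ, Spec.map (CommRingCat.ofHom (Ideal.Quotient.mk (I ^ n))) ≫ F =
        e n ≫ X.toSpecΓ := by
      intro n
      rw [← Spec.map_preimage (e n ≫ X.toSpecΓ), ← Spec.map_comp]
      congr 1
      apply CommRingCat.hom_ext
      exact IsAdicComplete.mk_comp_liftRingHom I φ hφ' n
    have hrange : Set.range F ⊆ Set.range X.toSpecΓ := by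
      apply range_subset_of_jacobson I (IsAdicComplete.le_jacobson_bot I)
      intro p hp
      have hp' : p ∈ Set.range (PrimeSpectrum.comap (Ideal.Quotient.mk (I ^ 1))) := by
        rw [_root_.range_comap_of_surjective _ _ Ideal.Quotient.mk_surjective]
        simpa [PrimeSpectrum.mem_zeroLocus] using hp
      obtain ⟨p', rfl⟩ := hp'
      have := congrArg (fun ψ : Spec (CommRingCat.of (A ⧸ I ^ 1)) ⟶ Spec Γ(X, ⊤) => ψ p') (hF 1)
      exact ⟨e 1 p', this.symm⟩
    refine ⟨IsOpenImmersion.lift X.toSpecΓ F hrange, fun n => ?_⟩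
    rw [← cancel_mono X.toSpecΓ, Category.assoc, IsOpenImmersion.lift_fac, hF]


end Groth.Agent.S17863
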