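import Groth.Statements.S17864
import Mathlib.RingTheory.Finiteness.Cardinality

set_option autoImplicit false
universe u
open Algz

namespace Groth.Agent.S17864

section aux
variable {A : Type u} [CommRing A] (I : Ideal A) (Q : Type u) [AddCommGroup Q] [Module A Q]

/-- dual "basis" of a finite projective module -/
theorem exists_dual_family [Module.Finite A Q] [Module.Projective A Q] :
    ∃ (n : ℕ) (m : Fin n → Q) (φ : Fin n → Q →ₗ[A] A), ∀ x : Q, ∑ i, φ i x • m i = x := by
  obtain ⟨n, f, hf⟩ := Module.Finite.exists_fin' A Q
  obtain ⟨s, hs⟩ := Module.projective_lifting_property f LinearMap.id hf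
  refine ⟨n, fun i => f (Pi.single i 1), fun i => LinearMap.proj i ∘ₗ s, fun x => ?_⟩
  have h1 : s x = ∑ i, (s x i) • (Pi.single i (1 : A) : Fin n → A) := by
    funext j
    simp [Finset.sum_apply, Pi.single_apply]
  have h2 : f (s x) = x := LinearMap.congr_fun hs x
  conv_rhs => rw [← h2, h1, map_sum]
  simp [map_smul]

variable {Q}

theorem map_mem {N : Type u} [AddCommGroup N] [Module A N] (φ : Q →ₗ[A] N) (J : Ideal A) {q : Q}
    (hq : q ∈ (J • ⊤ : Submodule A Q)) : φ q ∈ (J • ⊤ : Submodule A N) :=
  Submodule.smul_top_le_comap_smul_top J φ hq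

variable (Q)

theorem isAdicComplete_of_finite_projective [IsAdicComplete I A] [Module.Finite A Q]
    [Module.Projective A Q] : IsAdicComplete I Q := by
  obtain ⟨k, m, φ, h⟩ := exists_dual_family (A := A) Q
  refine { haus' := fun x hx => ?_, prec' := fun f hf => ?_ }
  · have : ∀ i, φ i x = 0 := fun i => by
      apply IsHausdorff.haus (I := I) inferInstance
      intro n
      rw [SModEq.zero]
      exact map_mem (φ i) _ (SModEq.zero.mp (hx n))
    rw [← h x]
    simp [this]
  · have hc : ∀ i, ∃ L : A, ∀ n, φ i (f n) ≡ L [SMOD (I ^ n • ⊤ : Submodule A A)] := fun i => by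
      apply IsPrecomplete.prec (I := I) inferInstance
      intro a b hab
      rw [SModEq.sub_mem, ← map_sub]
      exact map_mem (φ i) _ (SModEq.sub_mem.mp (hf hab))
    choose L hL using hc
    refine ⟨∑ i, L i • m i, fun n => ?_⟩
    rw [SModEq.sub_mem]
    have e : f n - ∑ i, L i • m i = ∑ i, (φ i (f n) - L i) • m i := by
      simp only [sub_smul, Finset.sum_sub_distrib, h]
    rw [e]
    refine Submodule.sum_mem _ fun i _ => ?_
    have := SModEq.sub_mem.mp (hL i n)
    rw [smul_eq_mul, Ideal.mul_top] at this
    exact Submodule.smul_mem_smul this Submodule.mem_top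

end aux

/-- The full-faithfulness assertion. Let `A` be a commutative ring which is `I`-adically complete for an
ideal `I`, and `P`, `Q` finitely generated projective `A`-modules. An `A`-linear map `P → Q` is
determined by its reductions modulo the powers `I^n`, and every family of `A`-linear maps `P/I^n P →
Q/I^n Q` compatible with the transition maps is the family of reductions of an `A`-linear map `P →
Q`. (The companion assertion, that compatible systems of finite projective modules over the rings
`A/I^n` lift to `A`, is not restated here.) -/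
theorem result (A : Type u) [CommRing A] (I : Ideal A)
    [IsAdicComplete I A] (P Q : Type u) [AddCommGroup P] [Module A P] [Module.Finite A P]
    [Module.Projective A P] [AddCommGroup Q] [Module A Q] [Module.Finite A Q] [Module.Projective A Q] :
    (∀ f f' : P →ₗ[A] Q, (∀ n : ℕ, f.reduceModIdeal (I ^ n) = f'.reduceModIdeal (I ^ n)) → f = f') ∧
    (∀ g : ∀ n : ℕ, P ⧸ (I ^ n • ⊤ : Submodule A P) →ₗ[A] Q ⧸ (I ^ n • ⊤ : Submodule A Q),
      (∀ n : ℕ, AdicCompletion.transitionMap I Q (Nat.le_succ n) ∘ₗ g (n + 1) =
        g n ∘ₗ AdicCompletion.transitionMap I P (Nat.le_succ n)) →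
      ∃ f : P →ₗ[A] Q, ∀ n : ℕ, f.reduceModIdeal (I ^ n) = g n) := by
  have : IsAdicComplete I Q := isAdicComplete_of_finite_projective I Q
  refine ⟨fun f f' h => ?_, fun g hg => ?_⟩
  · apply LinearMap.ext
    intro p
    rw [← sub_eq_zero]
    apply IsHausdorff.haus (I := I) inferInstance
    intro n
    rw [SModEq.zero, ← Submodule.Quotient.mk_eq_zero, Submodule.Quotient.mk_sub, sub_eq_zero]
    have := LinearMap.congr_fun (h n) (Submodule.Quotient.mk p)
    simpa using this
  · let F : ∀ n : ℕ, P →ₗ[A] Q ⧸ (I ^ n • ⊤ : Submodule A Q) := fun n =>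
      g n ∘ₗ Submodule.mkQ (I ^ n • ⊤ : Submodule A P)
    have hsucc : ∀ {m : ℕ}, Submodule.factorPow I Q (Nat.le_succ m) ∘ₗ F (m + 1) = F m := by
      intro m
      apply LinearMap.ext
      intro p
      have := LinearMap.congr_fun (hg m) (Submodule.Quotient.mk p)
      simpa [F] using this
    have hF : ∀ {m n : ℕ} (hle : m ≤ n), Submodule.factorPow I Q hle ∘ₗ F n = F m := by
      intro m n hle
      induction n, hle using Nat.le_induction with
      | base =>
        apply LinearMap.ext
        intro p
        simp
      | succ n hmn ih =>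
        apply LinearMap.ext
        intro p
        have e1 := LinearMap.congr_fun ih p
        have e2 := LinearMap.congr_fun (hsucc (m := n)) p
        simp only [LinearMap.comp_apply] at e1 e2 ⊢
        rw [← e1, ← e2]
        obtain ⟨q, hq⟩ := Submodule.Quotient.mk_surjective _ (F (n + 1) p)
        rw [← hq]
        rfl
    refine ⟨IsAdicComplete.lift I F hF, fun n => ?_⟩
    apply LinearMap.ext
    intro p
    obtain ⟨p, rfl⟩ := Submodule.Quotient.mk_surjective _ p
    have := IsAdicComplete.mk_lift (I := I) hF n p
    simp [F]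


end Groth.Agent.S17864
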