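import Groth.Statements.S17869
-- import your own Groth.Agent.* helpers here
import Mathlib

set_option autoImplicit false
open CategoryTheory AlgebraicGeometry
universe u
open Algz

namespace Groth.Agent.S17869

/-- In the case of schemes. Let `U` be a quasi-compact quasi-separated scheme and `V 0, …, V (k-1)`
quasi-compact open subschemes which cover `U`. Then the canonical morphism from the disjoint union
`∐ V i` to `U` is a Nisnevich cover of length at most `k`. (The published example states more
generally that, for a Nisnevich cover of `Y` of length at most `m` with source `U`, the composite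
from the disjoint union `∐ V i` to `Y` has length at most `m * k`; stated here is the case of the
identity of `U`, to which the published argument reduces, and the general bound follows by composing
Nisnevich covers. The original form is for quasi-compact quasi-separated algebraic spaces, with the
members of the cover quasi-compact; stated here for schemes.) -/
theorem result {U : Scheme.{u}} [CompactSpace U] [QuasiSeparatedSpace U]
    (k : ℕ) (V : Fin k → U.Opens) (hV : ∀ i, IsCompact (V i : Set U)) (hcov : ⨆ i, V i = ⊤) :
    W4c5algebraiztannaka.IsNisCoverLen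
      (Limits.Sigma.desc (fun i => (V i).ι) : (∐ fun i => ((V i : U.Opens) : Scheme.{u})) ⟶ U) k := by
  classical
  -- the opens W j = union of V i for i ≥ j
  let Wt : ℕ → Set ↥U := fun j => ⋃ (i : Fin k) (_ : j ≤ i.val), (V i : Set ↥U)
  have hWopen : ∀ j, IsOpen (Wt j) := fun j =>
    isOpen_iUnion fun i => isOpen_iUnion fun _ => (V i).2
  have hWcompact : ∀ j, IsCompact (Wt j) := fun j =>
    isCompact_iUnion fun i => by
      by_cases h : j ≤ i.val
      · simpa [h] using hV i
      · simp [h]
  have hW0 : Wt 0 = Set.univ := by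
    have h1 : ((⨆ i, V i : U.Opens) : Set ↥U) = Set.univ := by rw [hcov]; rfl
    rw [← h1]
    ext x
    simp [Wt]
  have hWk : Wt k = ∅ := by
    ext x
    simp only [Wt, Set.mem_iUnion, Set.mem_empty_iff_false, iff_false, not_exists]
    intro i hi
    exact absurd i.2 (not_lt.mpr hi)
  have hWanti : ∀ a b, a ≤ b → Wt b ⊆ Wt a := by
    intro a b hab x hx
    simp only [Wt, Set.mem_iUnion] at hx ⊢
    obtain ⟨i, hi, hxi⟩ := hx
    exact ⟨i, hab.trans hi, hxi⟩
  have hWsucc : ∀ j : Fin k, Wt j.val = (V j : Set ↥U) ∪ Wt (j.val + 1) := by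
    intro j
    ext x
    simp only [Wt, Set.mem_iUnion, Set.mem_union]
    constructor
    · rintro ⟨i, hi, hxi⟩
      rcases Nat.eq_or_lt_of_le hi with h | h
      · left
        have : i = j := Fin.ext h.symm
        rw [← this]; exact hxi
      · right
        exact ⟨i, h, hxi⟩
    · rintro (hx | ⟨i, hi, hxi⟩)
      · exact ⟨j, le_rfl, hx⟩
      · exact ⟨i, (Nat.le_succ _).trans hi, hxi⟩
  refine ⟨IsZariskiLocalAtSource.sigmaDesc (P := @Etale) (fun i => inferInstance),
    fun j => (Wt j.val)ᶜ, ?_, ?_, ?_, ?_, ?_⟩
  · show (Wt 0)ᶜ = ∅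
    rw [hW0]; simp
  · show (Wt (Fin.last k).val)ᶜ = Set.univ
    rw [Fin.val_last, hWk]; simp
  · intro a b hab
    exact Set.compl_subset_compl.mpr (hWanti _ _ hab)
  · intro j
    exact ⟨(hWopen _).isClosed_compl, ((hWcompact _).isConstructible (hWopen _)).compl⟩
  · intro j
    -- closed subset of V j
    let C : TopologicalSpace.Closeds ↥((V j : U.Opens) : Scheme.{u}) :=
      ⟨(V j).ι ⁻¹' (Wt (j.val + 1))ᶜ, ((hWopen _).isClosed_compl).preimage (V j).ι.continuous⟩
    let I := Scheme.IdealSheafData.vanishingIdeal C
    refine ⟨I.subscheme, I.subschemeι ≫ (V j).ι,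
      I.subschemeι ≫ Limits.Sigma.ι (fun i => ((V i : U.Opens) : Scheme.{u})) j, inferInstance, ?_, ?_⟩
    · have h1 : Set.range (fun t : ↥I.subscheme => (I.subschemeι ≫ (V j).ι) t) =
          (V j).ι '' (Set.range I.subschemeι) := by
        ext x
        simp only [Set.mem_range, Set.mem_image, Scheme.Hom.comp_apply]
        constructor
        · rintro ⟨t, rfl⟩
          exact ⟨_, ⟨t, rfl⟩, rfl⟩
        · rintro ⟨_, ⟨t, rfl⟩, rfl⟩
          exact ⟨t, rfl⟩
      rw [h1, Scheme.IdealSheafData.range_subschemeι,
        Scheme.IdealSheafData.coe_support_vanishingIdeal]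
      show (V j).ι '' ((V j).ι ⁻¹' (Wt (j.val + 1))ᶜ) = (Wt j.succ.val)ᶜ \ (Wt j.castSucc.val)ᶜ
      rw [Set.image_preimage_eq_inter_range, Scheme.Opens.range_ι, Fin.val_succ,
        Fin.val_castSucc, hWsucc j]
      ext x
      simp only [Set.mem_inter_iff, Set.mem_compl_iff, Set.mem_sdiff, Set.mem_union, not_or,
        not_and, not_not]
      tauto
    · rw [Category.assoc, Limits.Sigma.ι_desc]

end Groth.Agent.S17869
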