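import Groth.Statements.S17872
import Mathlib.LinearAlgebra.Dual.Lemmas
import Mathlib.Algebra.Polynomial.Roots
import Mathlib.Algebra.Polynomial.BigOperators

set_option autoImplicit false
universe u v
open GRRSing

namespace Groth.Agent.S17872

/-- Let H be a vector space over a field K and let b_0, …, b_l be elements of H. If the sum of the t ^ i
• b_i vanishes for infinitely many scalars t of K, then all the b_i are zero. -/
theorem result {K : Type u} {H : Type v} [Field K] [AddCommGroup H] [Module K H]
    (l : ℕ) (b : Fin (l + 1) → H)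
    (h : Set.Infinite {t : K | ∑ i : Fin (l + 1), t ^ (i : ℕ) • b i = 0}) :
    b = 0 := by
  funext i
  rw [Pi.zero_apply, ← Module.forall_dual_apply_eq_zero_iff K]
  intro φ
  let p : Polynomial K := ∑ j : Fin (l + 1), Polynomial.C (φ (b j)) * Polynomial.X ^ (j : ℕ)
  have hp : p = 0 := by
    apply Polynomial.eq_zero_of_infinite_isRoot
    refine h.mono (fun t ht => ?_)
    have h1 := congrArg φ ht
    rw [map_sum, map_zero] at h1
    simp only [map_smul, smul_eq_mul] at h1
    change Polynomial.eval t p = 0
    simp only [p, Polynomial.eval_finsetSum, Polynomial.eval_mul, Polynomial.eval_C,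
      Polynomial.eval_pow, Polynomial.eval_X]
    rw [← h1]
    exact Finset.sum_congr rfl (fun j _ => mul_comm _ _)
  have h2 := congrArg (fun q : Polynomial K => q.coeff (i : ℕ)) hp
  simp only [p, Polynomial.finsetSum_coeff, Polynomial.coeff_C_mul, Polynomial.coeff_X_pow,
    Polynomial.coeff_zero] at h2
  rw [Finset.sum_eq_single i] at h2
  · simpa using h2
  · intro j _ hj
    have : (i : ℕ) ≠ (j : ℕ) := fun h3 => hj (Fin.ext h3.symm)
    simp [this]
  · intro hi
    exact absurd (Finset.mem_univ i) hi

end Groth.Agent.S17872
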