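import Groth.Statements.S17875
import Mathlib.Data.Nat.Choose.Sum
import Mathlib.Data.Nat.Choose.Cast
import Mathlib.Tactic.FieldSimp

set_option autoImplicit false
universe u
open Polynomial
open GRRSing

namespace Groth.Agent.S17875


variable {R : Type u} [CommRing R] [Algebra ℚ R]

theorem part1 (r : R) (δ : ℕ) (hr : (r - 1) ^ (δ + 1) = 0) (n : ℕ) :
    r ^ n = ∑ k ∈ Finset.range (δ + 1),
      ((descPochhammer ℚ k).eval (n : ℚ) / (k.factorial : ℚ)) • (r - 1) ^ k := by
  have hcoef : ∀ k : ℕ, ((descPochhammer ℚ k).eval (n : ℚ) / (k.factorial : ℚ)) • (r - 1) ^ k =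
      (r - 1) ^ k * (n.choose k : R) := by
    intro k
    rw [descPochhammer_eval_eq_descFactorial, Nat.descFactorial_eq_factorial_mul_choose]
    have hk : (k.factorial : ℚ) ≠ 0 := Nat.cast_ne_zero.2 (Nat.factorial_ne_zero k)
    push_cast
    rw [mul_div_cancel_left₀ _ hk, Nat.cast_smul_eq_nsmul, nsmul_eq_mul, mul_comm]
  simp_rw [hcoef]
  have h1 : r ^ n = ∑ k ∈ Finset.range (n + 1), (r - 1) ^ k * (n.choose k : R) := by
    conv_lhs => rw [show r = (r - 1) + 1 by ring, add_pow]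
    refine Finset.sum_congr rfl fun k _ => ?_
    rw [one_pow, mul_one]
  rw [h1]
  have hA : ∑ k ∈ Finset.range (n + 1), (r - 1) ^ k * (n.choose k : R) =
      ∑ k ∈ Finset.range (n + δ + 1), (r - 1) ^ k * (n.choose k : R) := by
    refine Finset.sum_subset (Finset.range_mono (by omega)) fun k _ hk => ?_
    rw [Finset.mem_range, not_lt] at hk
    rw [Nat.choose_eq_zero_of_lt (by omega), Nat.cast_zero, mul_zero]
  have hB : ∑ k ∈ Finset.range (δ + 1), (r - 1) ^ k * (n.choose k : R) =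
      ∑ k ∈ Finset.range (n + δ + 1), (r - 1) ^ k * (n.choose k : R) := by
    refine Finset.sum_subset (Finset.range_mono (by omega)) fun k _ hk => ?_
    rw [Finset.mem_range, not_lt] at hk
    rw [pow_eq_zero_of_le hk hr, zero_mul]
  rw [hA, hB]

theorem coeff_descPochhammer (k j : ℕ) :
    (descPochhammer R k).coeff j = algebraMap ℚ R (((descPochhammer ℤ k).coeff j : ℤ) : ℚ) := by
  rw [← descPochhammer_map (Int.castRingHom R) k, coeff_map, eq_intCast, map_intCast]

theorem coeff_descPochhammer_eq_zero (k j : ℕ) (h : k < j) : (descPochhammer ℤ k).coeff j = 0 := by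
  apply coeff_eq_zero_of_natDegree_lt
  rw [descPochhammer_natDegree]
  exact h

theorem part2 (r : R) (δ : ℕ) :
    (∑ k ∈ Finset.range (δ + 1), ((k.factorial : ℚ)⁻¹ • (descPochhammer R k * Polynomial.C ((r - 1) ^ k))) =
      ∑ j ∈ Finset.range (δ + 1), Polynomial.C (∑ k ∈ Finset.range (δ + 1), ∑ u ∈ Finset.range (k + 1),
        (((-1 : ℚ) ^ (k - u) * (((descPochhammer ℤ k).coeff j : ℤ) : ℚ)) / ((u.factorial * (k - u).factorial : ℕ) : ℚ)) • r ^ u) * Polynomial.X ^ j) := by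
  ext j
  rw [finsetSum_coeff, finsetSum_coeff]
  simp_rw [coeff_C_mul_X_pow, coeff_smul, coeff_mul_C]
  rw [Finset.sum_ite_eq]
  by_cases hj : j ∈ Finset.range (δ + 1)
  · rw [if_pos hj]
    refine Finset.sum_congr rfl fun k _ => ?_
    rw [sub_pow, Finset.mul_sum, Finset.smul_sum]
    refine Finset.sum_congr rfl fun u hu => ?_
    rw [Finset.mem_range, Nat.lt_succ_iff] at hu
    rw [coeff_descPochhammer, Algebra.smul_def, Algebra.smul_def]
    have hpar : ((-1 : R)) ^ (u + k) = algebraMap ℚ R ((-1) ^ (k - u)) := by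
      rw [map_pow, map_neg, map_one]
      have : u + k = (k - u) + 2 * u := by omega
      rw [this, pow_add, pow_mul]
      simp
    have hch : (k.choose u : R) = algebraMap ℚ R ((k.factorial : ℚ) / (u.factorial * (k - u).factorial)) := by
      rw [← Nat.cast_choose ℚ hu, map_natCast]
    rw [hpar, hch, one_pow, mul_one]
    have hk : (k.factorial : ℚ) ≠ 0 := Nat.cast_ne_zero.2 (Nat.factorial_ne_zero k)
    have hu' : (u.factorial : ℚ) ≠ 0 := Nat.cast_ne_zero.2 (Nat.factorial_ne_zero u)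
    have hku : ((k - u).factorial : ℚ) ≠ 0 := Nat.cast_ne_zero.2 (Nat.factorial_ne_zero _)
    have hq : ((-1 : ℚ) ^ (k - u) * (((descPochhammer ℤ k).coeff j : ℤ) : ℚ)) /
        ((u.factorial * (k - u).factorial : ℕ) : ℚ) =
        (k.factorial : ℚ)⁻¹ * ((((descPochhammer ℤ k).coeff j : ℤ) : ℚ) * ((-1) ^ (k - u) *
          ((k.factorial : ℚ) / (u.factorial * (k - u).factorial)))) := by
      push_cast
      field_simp
    rw [hq]
    simp only [map_mul]
    ring
  · rw [if_neg hj]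
    rw [Finset.mem_range, not_lt] at hj
    refine Finset.sum_eq_zero fun k hk => ?_
    rw [Finset.mem_range] at hk
    rw [coeff_descPochhammer, coeff_descPochhammer_eq_zero k j (by omega)]
    simp

theorem result' {R : Type u} [CommRing R] [Algebra ℚ R]
    (r : R) (δ : ℕ) (hr : (r - 1) ^ (δ + 1) = 0) :
    (∀ n : ℕ, r ^ n = ∑ k ∈ Finset.range (δ + 1), ((descPochhammer ℚ k).eval (n : ℚ) / (k.factorial : ℚ)) • (r - 1) ^ k) ∧
    (∑ k ∈ Finset.range (δ + 1), ((k.factorial : ℚ)⁻¹ • (descPochhammer R k * Polynomial.C ((r - 1) ^ k))) =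
      ∑ j ∈ Finset.range (δ + 1), Polynomial.C (∑ k ∈ Finset.range (δ + 1), ∑ u ∈ Finset.range (k + 1),
        (((-1 : ℚ) ^ (k - u) * (((descPochhammer ℤ k).coeff j : ℤ) : ℚ)) / ((u.factorial * (k - u).factorial : ℕ) : ℚ)) • r ^ u) * Polynomial.X ^ j) :=
  ⟨part1 r δ hr, part2 r δ⟩


/-- Let R be a commutative ℚ-algebra, r an element of R and δ a natural number with (r - 1) ^ (δ + 1) =
0. Write s(k, j) for the signed Stirling numbers of the first kind, the coefficients of x (x - 1) ⋯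
(x - k + 1) = Σ_j s(k, j) x ^ j. Then (i) for every natural number n, r ^ n = Σ_{k ≤ δ} [n (n - 1) ⋯
(n - k + 1) / k!] (r - 1) ^ k; and (ii) in the polynomial ring R[x], Σ_{k ≤ δ} [x (x - 1) ⋯ (x - k +
1) / k!] (r - 1) ^ k = Σ_{j ≤ δ} [Σ_{k ≤ δ} Σ_{u ≤ k} (-1) ^ (k - u) s(k, j) / (u! (k - u)!) · r ^
u] x ^ j. -/
theorem result {R : Type u} [CommRing R] [Algebra ℚ R]
    (r : R) (δ : ℕ) (hr : (r - 1) ^ (δ + 1) = 0) :
    (∀ n : ℕ, r ^ n = ∑ k ∈ Finset.range (δ + 1), ((descPochhammer ℚ k).eval (n : ℚ) / (k.factorial : ℚ)) • (r - 1) ^ k) ∧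
    (∑ k ∈ Finset.range (δ + 1), ((k.factorial : ℚ)⁻¹ • (descPochhammer R k * Polynomial.C ((r - 1) ^ k))) =
      ∑ j ∈ Finset.range (δ + 1), Polynomial.C (∑ k ∈ Finset.range (δ + 1), ∑ u ∈ Finset.range (k + 1),
        (((-1 : ℚ) ^ (k - u) * (((descPochhammer ℤ k).coeff j : ℤ) : ℚ)) / ((u.factorial * (k - u).factorial : ℕ) : ℚ)) • r ^ u) * Polynomial.X ^ j) := by
  exact result' r δ hr

end Groth.Agent.S17875
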