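import Groth.Statements.S17877
import Groth.Agent.Lib.H87FibreGen

set_option autoImplicit false
universe u
open GRRSing

namespace Groth.Agent.S17877

/-- Let K be a field with algebraic closure K̄ and Z = Spec A an affine scheme of finite type over K of
dimension d whose geometric fibre Spec (K̄ ⊗_K A) is integral with at most hypersurface
singularities (at every prime the embedding dimension of the local ring, the dimension of 𝔪/𝔪² over
the residue field, is at most the height of the prime plus one). Then for every prime p of A the
(Ω_{A/K})_p is generated over A_p by at most d + 1 elements. (The published statement is for any Z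
of finite type over K; the assertion is local on Z and the hypotheses pass to affine opens.) -/
theorem result
    {K : Type u} [Field K] {A : Type u} [CommRing A] [Algebra K A] [Algebra.FiniteType K A]
    [IsDomain (TensorProduct K (AlgebraicClosure K) A)]
    (hhyp : ∀ (q : Ideal (TensorProduct K (AlgebraicClosure K) A)) [q.IsPrime],
      (Module.finrank (IsLocalRing.ResidueField (Localization.AtPrime q))
          (IsLocalRing.CotangentSpace (Localization.AtPrime q)) : ℕ∞) ≤ q.height + 1)
    (d : ℕ) (hd : ringKrullDim A = d) (p : Ideal A) [p.IsPrime] :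
    ∃ s : Finset (LocalizedModule p.primeCompl (KaehlerDifferential K A)),
      s.card ≤ d + 1 ∧ Submodule.span (Localization.AtPrime p) (s : Set (LocalizedModule p.primeCompl (KaehlerDifferential K A))) = ⊤ := by
  classical
  -- notation
  letI : Algebra A (TensorProduct K (AlgebraicClosure K) A) := Algebra.TensorProduct.rightAlgebra
  have hpo : Algebra.IsPushout K (AlgebraicClosure K) A (TensorProduct K (AlgebraicClosure K) A) :=
    TensorProduct.isPushout
  -- `A → Ā` is integral and injective
  have hintK : (algebraMap K (AlgebraicClosure K)).IsIntegral :=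
    Algebra.isIntegral_def.mp inferInstance
  have hint : Algebra.IsIntegral A (TensorProduct K (AlgebraicClosure K) A) :=
    Algebra.isIntegral_def.mpr
      (RingHom.isIntegral_isStableUnderBaseChange K (AlgebraicClosure K) A _ hintK)
  have hinj : Function.Injective (algebraMap A (TensorProduct K (AlgebraicClosure K) A)) :=
    Algebra.TensorProduct.includeRight_injective (FaithfulSMul.algebraMap_injective K _)
  -- a prime `q` over `p` and a maximal ideal `m ⊇ q`
  obtain ⟨q, -, hqprime, hq⟩ := Ideal.exists_ideal_over_prime_of_isIntegral
    (S := TensorProduct K (AlgebraicClosure K) A) p ⊥ (by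
      rw [← RingHom.ker_eq_comap_bot, (RingHom.injective_iff_ker_eq_bot _).mp hinj]
      exact bot_le)
  obtain ⟨m, hm, hqm⟩ := Ideal.exists_le_maximal q hqprime.ne_top
  haveI : IsNoetherianRing (TensorProduct K (AlgebraicClosure K) A) :=
    Algebra.FiniteType.isNoetherianRing (AlgebraicClosure K) _
  -- at `m`
  have hk := Groth.Agent.Lib.H87FibreGen.algebraMap_residueField_surjective_of_isAlgClosed
    (AlgebraicClosure K) (TensorProduct K (AlgebraicClosure K) A) m
  have h0 := Groth.Agent.Lib.H87FibreGen.finrank_tensor_kaehler_le_cotangentSpace_atPrime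
    (AlgebraicClosure K) (TensorProduct K (AlgebraicClosure K) A) m hk
  have hdim : ringKrullDim (TensorProduct K (AlgebraicClosure K) A) ≤ (d : WithBot ℕ∞) := by
    rw [← hd]
    exact Groth.Agent.Lib.H87FibreGen.ringKrullDim_le_of_isIntegral
  have hht : m.height ≤ (d : ℕ∞) := by
    have h1 := (Ideal.height_le_ringKrullDim_of_ne_top hm.ne_top).trans hdim
    exact_mod_cast h1
  have h1 : Module.finrank m.ResidueField
      (TensorProduct (TensorProduct K (AlgebraicClosure K) A) m.ResidueField
        (KaehlerDifferential (AlgebraicClosure K) (TensorProduct K (AlgebraicClosure K) A))) ≤ d + 1 := by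
    have h2 := (hhyp m).trans (add_le_add_left hht 1)
    have h3 : (Module.finrank (IsLocalRing.ResidueField (Localization.AtPrime m))
          (IsLocalRing.CotangentSpace (Localization.AtPrime m))) ≤ d + 1 := by
      exact_mod_cast h2
    exact h0.trans h3
  -- spread out and specialize to `q`
  obtain ⟨s, f, hs, hf, hsf⟩ :=
    Groth.Agent.Lib.H87FibreGen.exists_finset_of_finrank_le m (d + 1) h1
  have h2 := (Groth.Agent.Lib.H87FibreGen.finrank_le_card_of_smul_mem q s f
    (fun h => hf (hqm h)) hsf).trans hs
  -- transfer along `Ā ⊗ Ω[A/K] ≃ Ω[Ā/K̄]`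
  let e : TensorProduct A (TensorProduct K (AlgebraicClosure K) A) (KaehlerDifferential K A)
      ≃ₗ[TensorProduct K (AlgebraicClosure K) A]
      KaehlerDifferential (AlgebraicClosure K) (TensorProduct K (AlgebraicClosure K) A) :=
    KaehlerDifferential.tensorKaehlerEquiv K (AlgebraicClosure K) A _
  have h3 : Module.finrank q.ResidueField
      (TensorProduct (TensorProduct K (AlgebraicClosure K) A) q.ResidueField
        (TensorProduct A (TensorProduct K (AlgebraicClosure K) A) (KaehlerDifferential K A))) ≤ d + 1 := by
    rw [(TensorProduct.AlgebraTensorModule.congr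
      (LinearEquiv.refl q.ResidueField q.ResidueField) e).finrank_eq]
    exact h2
  rw [Groth.Agent.Lib.H87FibreGen.finrank_residueField_baseChange p q hq.symm] at h3
  -- generators downstairs
  obtain ⟨s', f', hs', hf', hsf'⟩ :=
    Groth.Agent.Lib.H87FibreGen.exists_finset_of_finrank_le p (d + 1) h3
  refine ⟨s'.image (LocalizedModule.mkLinearMap p.primeCompl (KaehlerDifferential K A)),
    Finset.card_image_le.trans hs', ?_⟩
  rw [Finset.coe_image]
  exact Groth.Agent.Lib.H87FibreGen.span_localizedModule_eq_top p s' f' hf' hsf'

end Groth.Agent.S17877
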