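import Groth.Statements.S17878
import Mathlib
-- import your own Groth.Agent.* helpers here

set_option autoImplicit false
universe u
open Filter Topology
open GRRSing

namespace Groth.Agent.S17878

open Finset

/-- `r n y = ∑ₖ kⁿ yᵏ`. -/
noncomputable def rr (n : ℕ) (y : ℂ) : ℂ := ∑' k : ℕ, (k : ℂ) ^ n * y ^ k

theorem rr_summable (n : ℕ) {y : ℂ} (hy : ‖y‖ < 1) : Summable (fun k : ℕ => (k : ℂ) ^ n * y ^ k) :=
  summable_pow_mul_geometric_of_norm_lt_one n hy

theorem rr_rec (n : ℕ) {y : ℂ} (hy : ‖y‖ < 1) :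
    rr n y - y * ∑ i ∈ range (n + 1), (n.choose i : ℂ) * rr i y = if n = 0 then 1 else 0 := by
  have h1 : ∑ i ∈ range (n + 1), (n.choose i : ℂ) * rr i y =
      ∑' k : ℕ, ((k : ℂ) + 1) ^ n * y ^ k := by
    have hs : ∀ i ∈ range (n + 1), HasSum (fun k : ℕ => (n.choose i : ℂ) * ((k : ℂ) ^ i * y ^ k))
        ((n.choose i : ℂ) * rr i y) := fun i _ => ((rr_summable i hy).hasSum).mul_left _
    have := (hasSum_sum hs).tsum_eq
    rw [← this]
    congr 1
    ext k
    rw [add_pow]
    rw [Finset.sum_mul]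
    refine Finset.sum_congr rfl fun i _ => ?_
    rw [one_pow]; ring
  have hsum1 : Summable (fun k : ℕ => ((k : ℂ) + 1) ^ n * y ^ k) := by
    have hs : ∀ i ∈ range (n + 1), Summable (fun k : ℕ => (n.choose i : ℂ) * ((k : ℂ) ^ i * y ^ k)) :=
      fun i _ => (rr_summable i hy).mul_left _
    have := summable_sum hs
    convert this using 1
    ext k
    rw [add_pow, Finset.sum_mul]
    refine Finset.sum_congr rfl fun i _ => ?_
    rw [one_pow]; ring
  rw [h1]
  have h2 : rr n y = (0 : ℂ) ^ n + ∑' k : ℕ, ((k : ℂ) + 1) ^ n * y ^ (k + 1) := by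
    unfold rr
    rw [(rr_summable n hy).tsum_eq_zero_add]
    simp
  have h3 : y * ∑' k : ℕ, ((k : ℂ) + 1) ^ n * y ^ k = ∑' k : ℕ, ((k : ℂ) + 1) ^ n * y ^ (k + 1) := by
    rw [← tsum_mul_left]
    congr 1
    ext k
    ring
  rw [h2, h3, add_sub_cancel_right]
  rcases n with _ | n
  · simp
  · simp

theorem rr_formula (n : ℕ) {y : ℂ} (hy : ‖y‖ < 1) :
    rr n y = ((if n = 0 then 1 else 0) + y * ∑ i ∈ range n, (n.choose i : ℂ) * rr i y) / (1 - y) := by
  have h1 : (1 : ℂ) - y ≠ 0 := by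
    intro h
    have : y = 1 := by linear_combination -h
    rw [this] at hy; simp at hy
  have h := rr_rec n hy
  rw [Finset.sum_range_succ, Nat.choose_self, Nat.cast_one, one_mul] at h
  rw [eq_div_iff h1]
  linear_combination h

theorem E_rec (E : ℕ → ℚ)
    (hE : PowerSeries.mk (fun j => E j / (j.factorial : ℚ)) * (PowerSeries.exp ℚ + 1) = 2) (n : ℕ) :
    2 * E n + ∑ i ∈ range n, (n.choose i : ℚ) * E i = if n = 0 then 2 else 0 := by
  have h := congrArg (PowerSeries.coeff n) hE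
  rw [PowerSeries.coeff_mul, Finset.Nat.sum_antidiagonal_eq_sum_range_succ_mk] at h
  have h2 : PowerSeries.coeff n (2 : PowerSeries ℚ) = if n = 0 then 2 else 0 := by
    have : (2 : PowerSeries ℚ) = PowerSeries.C (2 : ℚ) := (map_ofNat (PowerSeries.C (R := ℚ)) 2).symm
    rw [this, PowerSeries.coeff_C]
  rw [h2] at h
  have hterm : ∀ i ∈ range (n + 1), PowerSeries.coeff i (PowerSeries.mk fun j => E j / (j.factorial : ℚ)) *
      PowerSeries.coeff (n - i) (PowerSeries.exp ℚ + 1) * (n.factorial : ℚ) =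
      (n.choose i : ℚ) * E i + (if i = n then E n else 0) := by
    intro i hi
    rw [Finset.mem_range] at hi
    rw [PowerSeries.coeff_mk, map_add, PowerSeries.coeff_exp, PowerSeries.coeff_one]
    have hfac : (n.factorial : ℚ) = n.choose i * (i.factorial * (n - i).factorial) := by
      rw [← Nat.choose_mul_factorial_mul_factorial (show i ≤ n by omega)]
      push_cast; ring
    have hi0 : (i.factorial : ℚ) ≠ 0 := by exact_mod_cast Nat.factorial_ne_zero i
    have hni0 : ((n - i).factorial : ℚ) ≠ 0 := by exact_mod_cast Nat.factorial_ne_zero (n - i)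
    by_cases hin : i = n
    · subst hin
      simp only [Nat.sub_self, Nat.factorial_zero, Nat.cast_one, if_true, Nat.choose_self]
      field_simp
      rw [Algebra.algebraMap_self, RingHom.id_apply]
    · rw [if_neg (show ¬ (n - i = 0) by omega), if_neg hin, add_zero, add_zero, hfac,
        Algebra.algebraMap_self, RingHom.id_apply]
      field_simp
  have h3 := congrArg (fun x => x * (n.factorial : ℚ)) h
  simp only [Finset.sum_mul] at h3
  rw [Finset.sum_congr rfl hterm, Finset.sum_add_distrib, Finset.sum_ite_eq' (range (n + 1)) n,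
    if_pos (Finset.mem_range.mpr (Nat.lt_succ_self n)), Finset.sum_range_succ, Nat.choose_self] at h3
  have hn0 : (n.factorial : ℚ) ≠ 0 := by exact_mod_cast Nat.factorial_ne_zero n
  rcases n with _ | n
  · simp at h3 ⊢
    linarith
  · simp only [Nat.succ_ne_zero, if_false, zero_mul] at h3 ⊢
    push_cast at h3 ⊢
    linarith

theorem norm_ofReal_lt_one {y : ℝ} (hy : y ∈ Set.Ioo (-1 : ℝ) 1) : ‖(y : ℂ)‖ < 1 := by
  rw [Complex.norm_real, Real.norm_eq_abs, abs_lt]
  exact ⟨hy.1, hy.2⟩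

theorem rr_tendsto (E : ℕ → ℚ)
    (hE : PowerSeries.mk (fun j => E j / (j.factorial : ℚ)) * (PowerSeries.exp ℚ + 1) = 2) (n : ℕ) :
    Tendsto (fun y : ℝ => rr n (y : ℂ)) (𝓝[Set.Ioo (-1 : ℝ) 1] (-1 : ℝ)) (𝓝 (((E n : ℚ) : ℂ) / 2)) := by
  induction n using Nat.strong_induction_on with
  | _ n ih =>
    have hy : Tendsto (fun y : ℝ => (y : ℂ)) (𝓝[Set.Ioo (-1 : ℝ) 1] (-1 : ℝ)) (𝓝 ((-1 : ℝ) : ℂ)) :=
      (Complex.continuous_ofReal.tendsto _).mono_left nhdsWithin_le_nhds
    have hform : Tendsto (fun y : ℝ => ((if n = 0 then (1 : ℂ) else 0) +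
        (y : ℂ) * ∑ i ∈ range n, (n.choose i : ℂ) * rr i (y : ℂ)) / (1 - (y : ℂ)))
        (𝓝[Set.Ioo (-1 : ℝ) 1] (-1 : ℝ))
        (𝓝 (((if n = 0 then (1 : ℂ) else 0) +
        ((-1 : ℝ) : ℂ) * ∑ i ∈ range n, (n.choose i : ℂ) * (((E i : ℚ) : ℂ) / 2)) / (1 - ((-1 : ℝ) : ℂ)))) := by
      refine Tendsto.div ?_ (tendsto_const_nhds.sub hy) ?_
      · refine tendsto_const_nhds.add (hy.mul ?_)
        refine tendsto_finsetSum _ fun i hi => ?_
        exact tendsto_const_nhds.mul (ih i (Finset.mem_range.mp hi))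
      · push_cast; norm_num
    have hval : ((if n = 0 then (1 : ℂ) else 0) +
        ((-1 : ℝ) : ℂ) * ∑ i ∈ range n, (n.choose i : ℂ) * (((E i : ℚ) : ℂ) / 2)) / (1 - ((-1 : ℝ) : ℂ)) =
        ((E n : ℚ) : ℂ) / 2 := by
      have h := E_rec E hE n
      have h' : (2 : ℂ) * ((E n : ℚ) : ℂ) + ∑ i ∈ range n, (n.choose i : ℂ) * ((E i : ℚ) : ℂ) =
          if n = 0 then 2 else 0 := by
        have := congrArg (fun x : ℚ => (x : ℂ)) h
        push_cast at this
        rw [this]
        split_ifs <;> norm_num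
      have h2 : ∑ i ∈ range n, (n.choose i : ℂ) * (((E i : ℚ) : ℂ) / 2) =
          (∑ i ∈ range n, (n.choose i : ℂ) * ((E i : ℚ) : ℂ)) / 2 := by
        rw [Finset.sum_div]
        refine Finset.sum_congr rfl fun i _ => ?_
        ring
      rw [h2]
      push_cast
      have h3 : ∑ i ∈ range n, (n.choose i : ℂ) * ((E i : ℚ) : ℂ) =
          (if n = 0 then (2 : ℂ) else 0) - 2 * ((E n : ℚ) : ℂ) := by
        rw [← h']; ring
      rw [h3]
      split_ifs <;> ring
    rw [← hval]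
    refine hform.congr' ?_
    filter_upwards [self_mem_nhdsWithin] with y hy'
    exact (rr_formula n (norm_ofReal_lt_one hy')).symm

theorem hasSum_main {T : Type u} [NormedCommRing T] [NormedAlgebra ℂ T] (P : Polynomial T)
    {y : ℂ} (hy : ‖y‖ < 1) :
    HasSum (fun k : ℕ => y ^ k • P.eval (k : T))
      (∑ j ∈ range (P.natDegree + 1), rr j y • P.coeff j) := by
  have hterm : ∀ k : ℕ, y ^ k • P.eval (k : T) =
      ∑ j ∈ range (P.natDegree + 1), (((k : ℂ) ^ j * y ^ k) • P.coeff j) := by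
    intro k
    rw [Polynomial.eval_eq_sum_range, Finset.smul_sum]
    refine Finset.sum_congr rfl fun j _ => ?_
    have h1 : ((k : T)) ^ j = ((k : ℂ) ^ j) • (1 : T) := by
      rw [← Algebra.algebraMap_eq_smul_one, map_pow, map_natCast]
    rw [h1, mul_smul_comm, mul_one, smul_smul, mul_comm]
  simp only [hterm]
  exact hasSum_sum fun j _ => ((rr_summable j hy).hasSum).smul_const (P.coeff j)

/-- Let T be a nonzero commutative normed ℂ-algebra such that the map ℂ → T/nilradical(T) is surjective,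
let P = Σ_j d_j x ^ j be a polynomial over T and put h_k = P(k). Let E_0, E_1, … be the rational
numbers with 2/(e^t + 1) = Σ_j E_j t ^ j / j! (so E_0 = 1, E_1 = -1/2). Then for every complex y
with |y| < 1 the series Σ_k h_k y ^ k converges in T, and as y → -1 along real y in (-1, 1) its sum
tends to (1/2) Σ_j E_j d_j. (The published statement allows any norm topology on T as a complex
vector space; this row takes T a normed ℂ-algebra.) -/
theorem result {T : Type u} [NormedCommRing T] [NormedAlgebra ℂ T] [Nontrivial T]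
    (hT : Function.Surjective (algebraMap ℂ (T ⧸ nilradical T)))
    (E : ℕ → ℚ) (hE : PowerSeries.mk (fun j => E j / (j.factorial : ℚ)) * (PowerSeries.exp ℚ + 1) = 2)
    (P : Polynomial T) :
    (∀ y : ℂ, ‖y‖ < 1 → Summable (fun k : ℕ => y ^ k • P.eval (k : T))) ∧
    Tendsto (fun y : ℝ => ∑' k : ℕ, ((y : ℂ) ^ k) • P.eval (k : T)) (𝓝[Set.Ioo (-1 : ℝ) 1] (-1 : ℝ))
      (𝓝 ((2 : ℂ)⁻¹ • ∑ j ∈ Finset.range (P.natDegree + 1), ((E j : ℚ) : ℂ) • P.coeff j)) := by
  refine ⟨fun y hy => (hasSum_main P hy).summable, ?_⟩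
  have hlim : Tendsto (fun y : ℝ => ∑ j ∈ Finset.range (P.natDegree + 1), rr j (y : ℂ) • P.coeff j)
      (𝓝[Set.Ioo (-1 : ℝ) 1] (-1 : ℝ))
      (𝓝 (∑ j ∈ Finset.range (P.natDegree + 1), (((E j : ℚ) : ℂ) / 2) • P.coeff j)) :=
    tendsto_finsetSum _ fun j _ => (rr_tendsto E hE j).smul_const (P.coeff j)
  have hval : (2 : ℂ)⁻¹ • ∑ j ∈ Finset.range (P.natDegree + 1), ((E j : ℚ) : ℂ) • P.coeff j =
      ∑ j ∈ Finset.range (P.natDegree + 1), (((E j : ℚ) : ℂ) / 2) • P.coeff j := by
    rw [Finset.smul_sum]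
    refine Finset.sum_congr rfl fun j _ => ?_
    rw [smul_smul]; congr 1; ring
  rw [hval]
  refine hlim.congr' ?_
  filter_upwards [self_mem_nhdsWithin] with y hy'
  exact ((hasSum_main P (norm_ofReal_lt_one hy')).tsum_eq).symm

end Groth.Agent.S17878
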