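import Groth.Statements.S17881
-- import your own Groth.Agent.* helpers here

set_option autoImplicit false
universe u
open CAlg

namespace Groth.Agent.S17881

/-- Let O be a subring of a nontrivial commutative ring A. The following are equivalent: (i) A is a
local ring, every non-unit of A belongs to O, and for every unit u of A one of u, u⁻¹ belongs to O —
equivalently O is the preimage in the local ring A of a valuation ring of the residue field of A,
which makes O a semi-valuation ring with semi-fraction ring A; (ii) for all f, g in A generating the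
unit ideal, either f ∈ gO or g ∈ fO. (A is taken nontrivial: over the zero ring (ii) holds and (i)
fails.) -/
theorem result (A : Type u) [CommRing A] [Nontrivial A]
    (O : Subring A) :
    (IsLocalRing A ∧ (∀ a : A, ¬ IsUnit a → a ∈ O) ∧ (∀ u : Aˣ, (u : A) ∈ O ∨ ((u⁻¹ : Aˣ) : A) ∈ O)) ↔
      ∀ f g : A, IsCoprime f g → (∃ o ∈ O, f = g * o) ∨ (∃ o ∈ O, g = f * o) := by
  constructor
  · rintro ⟨hloc, hnon, hunit⟩ f g hfg
    -- a helper: if `g` is a unit then the conclusion holds
    have key : ∀ f g : A, IsUnit g → (∃ o ∈ O, f = g * o) ∨ (∃ o ∈ O, g = f * o) := by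
      intro f g hg
      obtain ⟨v, rfl⟩ := hg
      by_cases hf : IsUnit f
      · obtain ⟨w, rfl⟩ := hf
        rcases hunit (v⁻¹ * w) with h | h
        · left
          refine ⟨_, h, ?_⟩
          rw [Units.val_mul, ← mul_assoc, Units.mul_inv, one_mul]
        · right
          refine ⟨_, h, ?_⟩
          rw [mul_inv_rev, inv_inv, Units.val_mul, ← mul_assoc, Units.mul_inv, one_mul]
      · left
        refine ⟨(v⁻¹ : Aˣ) * f, hnon _ ?_, ?_⟩
        · intro hu
          exact hf ((Units.isUnit_units_mul v⁻¹ f).1 hu)
        · rw [← mul_assoc, Units.mul_inv, one_mul]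
    obtain ⟨x, y, hxy⟩ := hfg
    rcases hloc.isUnit_or_isUnit_of_add_one hxy with h | h
    · -- `f` is a unit
      have hf : IsUnit f := isUnit_of_mul_isUnit_right h
      rcases key g f hf with h' | h'
      · exact Or.inr h'
      · exact Or.inl h'
    · have hg : IsUnit g := isUnit_of_mul_isUnit_right h
      exact key f g hg
  · intro H
    have hloc : IsLocalRing A := by
      refine IsLocalRing.of_isUnit_or_isUnit_one_sub_self (fun a => ?_)
      have hc : IsCoprime a (1 - a) := ⟨1, 1, by ring⟩
      rcases H a (1 - a) hc with ⟨o, -, ho⟩ | ⟨o, -, ho⟩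
      · right
        refine IsUnit.of_mul_eq_one (1 + o) ?_
        calc (1 - a) * (1 + o) = (1 - a) + (1 - a) * o := by ring
          _ = (1 - a) + a := by rw [← ho]
          _ = 1 := by ring
      · left
        refine IsUnit.of_mul_eq_one (1 + o) ?_
        calc a * (1 + o) = a + a * o := by ring
          _ = a + (1 - a) := by rw [← ho]
          _ = 1 := by ring
    refine ⟨hloc, ?_, ?_⟩
    · intro a ha
      have hc : IsCoprime a 1 := isCoprime_one_right
      rcases H a 1 hc with ⟨o, ho, h⟩ | ⟨o, -, h⟩
      · rw [one_mul] at h
        rw [h]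
        exact ho
      · exact absurd (IsUnit.of_mul_eq_one o h.symm) ha
    · intro u
      have hc : IsCoprime (u : A) 1 := isCoprime_one_right
      rcases H u 1 hc with ⟨o, ho, h⟩ | ⟨o, ho, h⟩
      · left
        rw [one_mul] at h
        rw [h]
        exact ho
      · right
        have h2 : ((u⁻¹ : Aˣ) : A) = o := by
          rw [Units.inv_eq_of_mul_eq_one_right h.symm]
        rw [h2]
        exact ho

end Groth.Agent.S17881
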