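import Groth.Statements.S17882
import Mathlib.LinearAlgebra.Matrix.Adjugate
import Mathlib.LinearAlgebra.LinearIndependent.Lemmas

set_option autoImplicit false
universe u
open CAlg

namespace Groth.Agent.S17882

/-- Let B be a commutative ring, r ≥ 1, N a finitely generated submodule of B^r, and n_1, …, n_r ∈ N.
Suppose the determinant of the matrix with rows n_1, …, n_r is a nonzerodivisor of B and that the
determinant of every matrix whose rows lie in N is a multiple of it (the image of the top exterior
power of N in that of B^r ≅ B is the principal ideal generated by n_1 ∧ ⋯ ∧ n_r, a nonzerodivisor).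
Then n_1, …, n_r are linearly independent over B and span N: N is free of rank r with this basis. -/
theorem result (B : Type u) [CommRing B] (r : ℕ) (hr : 0 < r)
    (N : Submodule B (Fin r → B)) (hN : N.FG) (n : Fin r → (Fin r → B)) (hn : ∀ i, n i ∈ N)
    (hgen : ∀ m : Fin r → (Fin r → B), (∀ i, m i ∈ N) →
      Matrix.det (Matrix.of m) ∈ Ideal.span {Matrix.det (Matrix.of n)})
    (hnzd : Matrix.det (Matrix.of n) ∈ nonZeroDivisors B) :
    LinearIndependent B n ∧ Submodule.span B (Set.range n) = N := by
  classical
  set M : Matrix (Fin r) (Fin r) B := Matrix.of n with hM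
  set D := M.det with hD
  have hreg : ∀ z : B, z * D = 0 → z = 0 := fun z hz => hnzd.2 z hz
  -- linear combinations of the rows
  have hcomb : ∀ c : Fin r → B, ∑ i, c i • n i = Matrix.vecMul c M := by
    intro c
    funext j
    simp [Matrix.vecMul, dotProduct, hM, Finset.sum_apply]
  constructor
  · rw [Fintype.linearIndependent_iff]
    intro c hc i
    rw [hcomb] at hc
    have h1 : Matrix.vecMul (Matrix.vecMul c M) M.adjugate = 0 := by
      rw [hc, Matrix.zero_vecMul]
    rw [Matrix.vecMul_vecMul, Matrix.mul_adjugate, Matrix.vecMul_smul, Matrix.vecMul_one] at h1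
    have h2 := congrFun h1 i
    simp only [Pi.smul_apply, smul_eq_mul, Pi.zero_apply] at h2
    exact hreg _ (by rw [mul_comm]; exact h2)
  · apply le_antisymm
    · rw [Submodule.span_le]
      rintro _ ⟨i, rfl⟩
      exact hn i
    · intro x hx
      have hdet : ∀ i, ∃ e : B, e * D = (M.updateRow i x).det := by
        intro i
        have hmem := hgen (Function.update n i x) (fun k => by
          by_cases hk : k = i
          · subst hk
            rw [Function.update_self]
            exact hx
          · rw [Function.update_of_ne hk]
            exact hn k)
        rw [Ideal.mem_span_singleton'] at hmem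
        obtain ⟨e, he⟩ := hmem
        refine ⟨e, he.trans ?_⟩
        congr 1
      choose e he using hdet
      have h3 : M.transpose.mulVec (Matrix.cramer M.transpose x) = D • x := by
        rw [Matrix.mulVec_cramer, Matrix.det_transpose]
      have h4 : x = ∑ i, e i • n i := by
        funext j
        have h5 := congrFun h3 j
        simp only [Matrix.mulVec, dotProduct, Matrix.transpose_apply, Matrix.cramer_transpose_apply,
          Pi.smul_apply, smul_eq_mul] at h5
        have h6 : (x j - (∑ i, e i • n i) j) * D = 0 := by
          rw [sub_mul, mul_comm (x j) D, ← h5, Finset.sum_apply, Finset.sum_mul]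
          rw [sub_eq_zero]
          refine Finset.sum_congr rfl (fun i _ => ?_)
          rw [← he i]
          simp [hM]
          ring
        have h7 := hreg _ h6
        exact sub_eq_zero.mp h7
      rw [h4]
      exact Submodule.sum_mem _ (fun i _ => Submodule.smul_mem _ _ (Submodule.subset_span ⟨i, rfl⟩))

end Groth.Agent.S17882
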