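import Groth.Statements.S17886
import Groth.Agent.Lib.ChowGen85e

set_option autoImplicit false
universe u
open CategoryTheory AlgebraicGeometry
open FlatMor

namespace Groth.Agent.S17886

/-- Let S be a Noetherian scheme and f : X → S separated and of finite type. Then X is covered by
finitely many affine opens U_1, …, U_n each of which is dense in X and quasi-projective over S (of
finite type with a relatively ample invertible module). -/
theorem result {S X : Scheme.{u}} (f : X ⟶ S)
    [IsNoetherian S] [IsSeparated f] [QuasiCompact f] [LocallyOfFiniteType f] :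
    ∃ (n : ℕ) (U : Fin n → X.Opens), (⨆ i, U i) = ⊤ ∧
      ∀ i, IsAffineOpen (U i) ∧ Dense ((U i : Set X)) ∧ RelProj.IsQuasiProjective ((U i).ι ≫ f) := by
  classical
  have : IsLocallyNoetherian X := LocallyOfFiniteType.isLocallyNoetherian f
  have : CompactSpace X := QuasiCompact.compactSpace_of_compactSpace f
  have : IsNoetherian X := ⟨⟩
  have hirr : (irreducibleComponents (X : Type u)).Finite :=
    TopologicalSpace.NoetherianSpace.finite_irreducibleComponents
  have hV := fun x : X => Groth.Agent.Lib.ChowGen85.exists_good_dense_affine_nhds f hirr x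
  choose V hVx hVa hVg hVd using hV
  obtain ⟨t, ht⟩ := CompactSpace.elim_nhds_subcover (fun x => (V x : Set X))
    (fun x => (V x).isOpen.mem_nhds (hVx x))
  let e : Fin t.card ≃ ↥t := t.equivFin.symm
  refine ⟨t.card, fun i => V (e i).1, ?_, fun i => ⟨hVa _, hVd _, ?_⟩⟩
  · rw [eq_top_iff]
    intro x _
    have hx : x ∈ (⊤ : Set X) := trivial
    rw [← ht] at hx
    simp only [Set.mem_iUnion] at hx
    obtain ⟨y, hy, hxy⟩ := hx
    refine TopologicalSpace.Opens.mem_iSup.mpr ⟨e.symm ⟨y, hy⟩, ?_⟩
    change x ∈ V (e (e.symm ⟨y, hy⟩)).1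
    rw [Equiv.apply_symm_apply]
    exact hxy
  · exact Groth.Agent.Lib.HQuasiProjH3.isQuasiProjective_of_isHQuasiProjective
      (Groth.Agent.Lib.ChowGen85.Good.isHQuasiProjective f (hVg _) (hVa _).isCompact)

end Groth.Agent.S17886
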