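import Groth.Statements.S17887
import Groth.Agent.Lib.BlowUpUniv5
import Mathlib.AlgebraicGeometry.Morphisms.SchemeTheoreticallyDominant
import Mathlib.AlgebraicGeometry.Noetherian

set_option autoImplicit false
universe u
open CategoryTheory AlgebraicGeometry
open BlowUp

namespace Groth.Agent.S17887

open Groth.Agent.Lib.BlowUpUniv CategoryTheory.Limits TopologicalSpace

/-- Injectivity of restriction to `π ⁻¹ U` on a small affine open where the exceptional ideal is
generated by a nonzerodivisor. -/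
theorem app_injective_of_good {X X' : Scheme.{u}} [IsNoetherian X]
    (U : X.Opens) [IsSchemeTheoreticallyDominant U.ι] (𝓘 : X.IdealSheafData)
    (π : X' ⟶ X) (hπ : BlowUp.IsBlowUp π 𝓘)
    (V : X'.affineOpens) (t : Γ(X', V.1)) (ht : t ∈ nonZeroDivisors Γ(X', V.1))
    (hI : (𝓘.comap π).ideal V = Ideal.span {t}) :
    Function.Injective ((π ⁻¹ᵁ U).ι.app V.1).hom := by
  set O : X'.Opens := π ⁻¹ᵁ U with hO
  set D : X'.Opens := X'.basicOpen t with hDdef
  have hDV : D ≤ V.1 := X'.basicOpen_le t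
  haveI hflat : Flat (D.ι ≫ π) := flat_basicOpen_ι_comp hπ V t hI
  -- the pullback of `U` to `D`
  let pX := pullback.fst U.ι (D.ι ≫ π)
  let pY := pullback.snd U.ι (D.ι ≫ π)
  haveI : IsSchemeTheoreticallyDominant pY :=
    IsSchemeTheoreticallyDominant.of_isPullback (IsPullback.of_hasPullback U.ι (D.ι ≫ π))
  have hpYinj : Function.Injective (pY.app ⊤).hom := pY.app_injective ⊤
  -- `pY ≫ D.ι` factors through `O`
  have hrange : Set.range (pY ≫ D.ι) ⊆ Set.range O.ι := by
    rintro _ ⟨z, rfl⟩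
    rw [Scheme.Opens.range_ι]
    change π ((pY ≫ D.ι) z) ∈ U
    rw [← Scheme.Hom.comp_apply, Category.assoc, ← pullback.condition, Scheme.Hom.comp_apply]
    exact (pX z).2
  let k : pullback U.ι (D.ι ≫ π) ⟶ (O : Scheme) := IsOpenImmersion.lift O.ι (pY ≫ D.ι) hrange
  have hk : k ≫ O.ι = pY ≫ D.ι := IsOpenImmersion.lift_fac _ _ _
  -- localization injectivity
  have hloc : IsLocalization.Away t Γ(X', D) := V.2.isLocalization_basicOpen t
  have hinj1 : Function.Injective (X'.presheaf.map (homOfLE hDV).op).hom :=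
    IsLocalization.injective (M := Submonoid.powers t) Γ(X', D) (Submonoid.powers_le.mpr ht)
  have hinj2 : Function.Injective (D.ι.appLE D ⊤ D.ι_preimage_self.ge).hom :=
    (ConcreteCategory.bijective_of_isIso _).1
  rw [injective_iff_map_eq_zero]
  intro s hs
  apply hinj1
  apply hinj2
  apply hpYinj
  rw [map_zero, map_zero, map_zero]
  -- compute the composite in two ways
  have e1 : (⊤ : (pullback U.ι (D.ι ≫ π)).Opens) ≤ (pY ≫ D.ι) ⁻¹ᵁ V.1 := by
    intro z _
    exact hDV (pY z).2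
  have hc1 : (pY ≫ D.ι).appLE V.1 ⊤ e1 =
      X'.presheaf.map (homOfLE hDV).op ≫ D.ι.appLE D ⊤ D.ι_preimage_self.ge ≫ pY.app ⊤ := by
    rw [Scheme.Hom.app_eq_appLE, Scheme.Hom.appLE_comp_appLE, Scheme.Hom.map_appLE]
    rfl
  have e2 : (⊤ : (pullback U.ι (D.ι ≫ π)).Opens) ≤ (k ≫ O.ι) ⁻¹ᵁ V.1 := by
    rw [hk]; exact e1
  have hc2 : (k ≫ O.ι).appLE V.1 ⊤ e2 =
      O.ι.app V.1 ≫ k.appLE (O.ι ⁻¹ᵁ V.1) ⊤ (fun z _ => e2 (Set.mem_univ z)) := by
    rw [Scheme.Hom.app_eq_appLE, Scheme.Hom.appLE_comp_appLE]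
  have hc3 : (pY ≫ D.ι).appLE V.1 ⊤ e1 = (k ≫ O.ι).appLE V.1 ⊤ e2 := by
    congr 1
    exact hk.symm
  have : ((pY ≫ D.ι).appLE V.1 ⊤ e1).hom s = 0 := by
    rw [hc3, hc2, CommRingCat.hom_comp, RingHom.comp_apply, hs, map_zero]
  rw [hc1] at this
  exact this

/-- Let X be a Noetherian scheme, U ⊆ X an open subscheme that is schematically dense in X, I a
quasi-coherent ideal sheaf on X whose support does not meet U, and π : X' → X a blowing-up of X
along I. Then π⁻¹(U) is schematically dense in X'. -/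
theorem result {X X' : Scheme.{u}} [IsNoetherian X]
    (U : X.Opens) [IsSchemeTheoreticallyDominant U.ι] (𝓘 : X.IdealSheafData)
    (hU : Disjoint (𝓘.support : Set X) (U : Set X)) (π : X' ⟶ X) (hπ : BlowUp.IsBlowUp π 𝓘) :
    IsSchemeTheoreticallyDominant (π ⁻¹ᵁ U).ι := by
  rw [isSchemeTheoreticallyDominant_iff]
  choose V t hxV _ ht hI using fun x : X' => exists_good hπ x ⊤ trivial
  refine Scheme.IdealSheafData.ext_of_iSup_eq_top V ?_ (fun x => ?_)
  · rw [eq_top_iff]
    intro x _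
    exact Opens.mem_iSup.2 ⟨x, hxV x⟩
  · rw [Scheme.IdealSheafData.ideal_bot, Pi.bot_apply, eq_bot_iff]
    refine (Scheme.Hom.ideal_ker_le _ (V x)).trans ?_
    rw [le_bot_iff, ← RingHom.injective_iff_ker_eq_bot]
    exact app_injective_of_good U 𝓘 π hπ (V x) (t x) (ht x) (hI x)

end Groth.Agent.S17887
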