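import Groth.Statements.S17889
import Groth.Agent.Lib.BlowUpSeparate68

set_option autoImplicit false
universe u
open CategoryTheory AlgebraicGeometry TopologicalSpace
open BlowUp

namespace Groth.Agent.S17889

/-- Let X be a Noetherian scheme, X₀ ⊆ X an open subscheme, p : Z → X a morphism of finite type with Z
Noetherian, and F ⊆ X, G ⊆ Z closed subsets with p⁻¹(F ∩ X₀) ∩ G = ∅. Let a be a quasi-coherent
ideal sheaf on X whose support does not meet X₀, which contains the vanishing ideal I_F of F, and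
which is contained in the kernel ideal of V(I_F·O_Z + I_G) → Z → X (the ideal of the
scheme-theoretic image under p of p⁻¹(F) ∩ G). Let π : X' → X be a blowing-up along a, Z' = Z ×_X X'
with projections π' : Z' → Z and p' : Z' → X'. Then p'⁻¹ of the closure in X' of π⁻¹(F ∩ X₀) is
disjoint from the closure in Z' of π'⁻¹(G ∩ p⁻¹(X₀)). Taking a to be that kernel ideal shows such an
a exists. -/
theorem result
    {X Z : Scheme.{u}} [IsNoetherian X] [IsNoetherian Z] (p : Z ⟶ X) [LocallyOfFiniteType p]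
    (X₀ : X.Opens) (F : Closeds X) (G : Closeds Z)
    (hFG : p.base ⁻¹' ((F : Set X) ∩ (X₀ : Set X)) ∩ (G : Set Z) = ∅)
    (𝔞 : X.IdealSheafData) (h₁ : Disjoint (𝔞.support : Set X) (X₀ : Set X))
    (h₂ : Scheme.IdealSheafData.vanishingIdeal F ≤ 𝔞)
    (h₃ : 𝔞 ≤ (((Scheme.IdealSheafData.vanishingIdeal F).comap p ⊔
      Scheme.IdealSheafData.vanishingIdeal G).subschemeι ≫ p).ker)
    {X' : Scheme.{u}} (π : X' ⟶ X) (hπ : BlowUp.IsBlowUp π 𝔞) :
    (Limits.pullback.snd p π).base ⁻¹' closure (π.base ⁻¹' ((F : Set X) ∩ (X₀ : Set X))) ∩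
      closure ((Limits.pullback.fst p π).base ⁻¹' ((G : Set Z) ∩ (p ⁻¹ᵁ X₀ : Set Z))) = ∅ := by
  classical
  rw [Set.eq_empty_iff_forall_notMem]
  rintro z' ⟨hz1, hz2⟩
  have hcond : Limits.pullback.fst p π ≫ p = Limits.pullback.snd p π ≫ π := Limits.pullback.condition
  -- the inequality of ideal sheaves on `Z'`
  have h₃' : 𝔞.comap p ≤ (Scheme.IdealSheafData.vanishingIdeal F).comap p ⊔
      Scheme.IdealSheafData.vanishingIdeal G :=
    Scheme.IdealSheafData.le_map_iff_comap_le.mp h₃
  have hi : (𝔞.comap π).comap (Limits.pullback.snd p π) ≤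
      ((Scheme.IdealSheafData.vanishingIdeal F).comap π).comap (Limits.pullback.snd p π) ⊔
        (Scheme.IdealSheafData.vanishingIdeal G).comap (Limits.pullback.fst p π) := by
    rw [← Scheme.IdealSheafData.comap_comp, ← Scheme.IdealSheafData.comap_comp, ← hcond,
      Scheme.IdealSheafData.comap_comp, Scheme.IdealSheafData.comap_comp]
    refine (Scheme.IdealSheafData.comap_mono _ h₃').trans (le_of_eq ?_)
    exact (Scheme.IdealSheafData.map_gc (Limits.pullback.fst p π)).l_sup
  have hFE : (Scheme.IdealSheafData.vanishingIdeal F).comap π ≤ 𝔞.comap π :=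
    Scheme.IdealSheafData.comap_mono _ h₂
  -- supports
  have hsuppE : ∀ y : X', y ∈ (𝔞.comap π).support → π y ∉ X₀ := by
    intro y hy hy0
    rw [Scheme.IdealSheafData.support_comap] at hy
    exact Set.disjoint_left.1 h₁ hy hy0
  have hsuppF : ∀ y : X', π y ∈ (F : Set X) →
      y ∈ ((Scheme.IdealSheafData.vanishingIdeal F).comap π).support := by
    intro y hy
    rw [Scheme.IdealSheafData.support_comap]
    change π y ∈ ((Scheme.IdealSheafData.vanishingIdeal F).support : Set X)
    rw [Scheme.IdealSheafData.coe_support_vanishingIdeal]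
    exact hy
  -- local data
  obtain ⟨U', hx'U', t, -, hEt⟩ := hπ.1 ((Limits.pullback.snd p π) z')
  obtain ⟨_, ⟨N, hN, rfl⟩, hz'N, hNle⟩ :=
    (Limits.pullback p π).isBasis_affineOpens.exists_subset_of_mem_open
      (show z' ∈ (Limits.pullback.snd p π) ⁻¹ᵁ U'.1 from hx'U')
      ((Limits.pullback.snd p π) ⁻¹ᵁ U'.1).2
  set φ := ((Limits.pullback.snd p π).appLE U'.1 N hNle).hom with hφ
  have hE_N : ((𝔞.comap π).comap (Limits.pullback.snd p π)).ideal ⟨N, hN⟩ = Ideal.span {φ t} := by
    rw [Groth.Agent.Lib.IdealComap.ideal_comap _ (Limits.pullback.snd p π) U'.1 U'.2 N hN hNle,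
      hEt, Ideal.map_span, Set.image_singleton]
  have hF_N : (((Scheme.IdealSheafData.vanishingIdeal F).comap π).comap
      (Limits.pullback.snd p π)).ideal ⟨N, hN⟩ =
      Ideal.map φ (((Scheme.IdealSheafData.vanishingIdeal F).comap π).ideal U') :=
    Groth.Agent.Lib.IdealComap.ideal_comap _ (Limits.pullback.snd p π) U'.1 U'.2 N hN hNle
  -- Lemma B on `X'`
  have hB := Groth.Agent.Lib.BlowUpSeparate68.le_span_mul_P U' t
    (((Scheme.IdealSheafData.vanishingIdeal F).comap π).ideal U')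
    (hEt ▸ hFE U') (π.base ⁻¹' ((F : Set X) ∩ (X₀ : Set X)))
    (fun y hy hyS => ⟨Groth.Agent.Lib.BlowUpSeparate68.ideal_le_P_of_mem_support _ U' y hy
        (hsuppF y hyS.1),
      fun ht => hsuppE y (Groth.Agent.Lib.BlowUpSeparate68.mem_support_of_span_singleton _ U' t hEt
        y hy ht) hyS.2⟩)
    ((Limits.pullback.snd p π) z') hx'U' hz1
  -- decomposition on `N`
  have ht' : φ t ∈ Ideal.map φ (((Scheme.IdealSheafData.vanishingIdeal F).comap π).ideal U') ⊔
      ((Scheme.IdealSheafData.vanishingIdeal G).comap (Limits.pullback.fst p π)).ideal ⟨N, hN⟩ := by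
    have h5 := hi ⟨N, hN⟩
    rw [Scheme.IdealSheafData.ideal_sup, Pi.sup_apply, hE_N, hF_N] at h5
    exact h5 (Ideal.mem_span_singleton_self _)
  obtain ⟨a, ha, γ, hγ, hsum⟩ := Submodule.mem_sup.mp ht'
  have ha' : a ∈ Ideal.span {φ t} *
      Groth.Agent.Lib.BlowUpSeparate68.P ⟨N, hN⟩ z' hz'N := by
    have h6 : Ideal.map φ (((Scheme.IdealSheafData.vanishingIdeal F).comap π).ideal U') ≤
        Ideal.map φ (Ideal.span {t} *
          Groth.Agent.Lib.BlowUpSeparate68.P U' ((Limits.pullback.snd p π) z') hx'U') :=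
      Ideal.map_mono hB
    rw [Ideal.map_mul, Ideal.map_span, Set.image_singleton] at h6
    exact Ideal.mul_mono_right
      (Groth.Agent.Lib.BlowUpSeparate68.map_P_le (Limits.pullback.snd p π) U' ⟨N, hN⟩ hNle z' hz'N)
      (h6 ha)
  obtain ⟨β, hβ, rfl⟩ := Ideal.mem_span_singleton_mul.1 ha'
  refine Groth.Agent.Lib.BlowUpSeparate68.false_of_mul_eq ⟨N, hN⟩ (φ t) (1 - β) γ ?_ z' hz'N ?_
    ((Limits.pullback.fst p π).base ⁻¹' ((G : Set Z) ∩ (p ⁻¹ᵁ X₀ : Set Z))) hz2 ?_
  · linear_combination (-1 : Γ(Limits.pullback p π, N)) * hsum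
  · intro h1
    apply (Groth.Agent.Lib.BlowUpSeparate68.P ⟨N, hN⟩ z' hz'N).ne_top_iff_one.1
      (IsAffineOpen.primeIdealOf hN ⟨z', hz'N⟩).isPrime.ne_top
    have := Ideal.add_mem _ h1 hβ
    simpa using this
  · intro y hy hyS
    constructor
    · refine Groth.Agent.Lib.BlowUpSeparate68.ideal_le_P_of_mem_support _ ⟨N, hN⟩ y hy ?_ hγ
      rw [Scheme.IdealSheafData.support_comap]
      change (Limits.pullback.fst p π) y ∈
        ((Scheme.IdealSheafData.vanishingIdeal G).support : Set Z)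
      rw [Scheme.IdealSheafData.coe_support_vanishingIdeal]
      exact hyS.1
    · intro ht
      have h7 := Groth.Agent.Lib.BlowUpSeparate68.mem_support_of_span_singleton _ ⟨N, hN⟩ (φ t)
        hE_N y hy ht
      rw [Scheme.IdealSheafData.support_comap] at h7
      apply hsuppE _ h7
      have h8 : π ((Limits.pullback.snd p π) y) = p ((Limits.pullback.fst p π) y) := by
        rw [← Scheme.Hom.comp_apply, ← Scheme.Hom.comp_apply, hcond]
      rw [h8]
      exact hyS.2

end Groth.Agent.S17889
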