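import Groth.Statements.S17897
import Mathlib

set_option autoImplicit false
universe u
open CategoryTheory AlgebraicGeometry
open ValCrit

namespace Groth.Agent.S17897

/-- transport of a factorization through `fromSpecStalk` along an equality of points -/
lemma exists_factor_of_eq {X : Scheme.{u}} {S : CommRingCat.{u}} (x₁ x₂ : X) (h : x₁ = x₂)
    (ψ : X.presheaf.stalk x₁ ⟶ S) :
    ∃ ψ₂ : X.presheaf.stalk x₂ ⟶ S,
      Spec.map ψ₂ ≫ X.fromSpecStalk x₂ = Spec.map ψ ≫ X.fromSpecStalk x₁ := by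
  subst h; exact ⟨ψ, rfl⟩

/-- cancel `fromSpecStalk` (a monomorphism) -/
lemma eq_of_specMap_fromSpecStalk_eq {X : Scheme.{u}} {S : CommRingCat.{u}} (x : X)
    (a b : X.presheaf.stalk x ⟶ S)
    (h : Spec.map a ≫ X.fromSpecStalk x = Spec.map b ≫ X.fromSpecStalk x) : a = b := by
  haveI : Mono (X.fromSpecStalk x) := inferInstance
  exact Spec.map_injective ((cancel_mono _).mp h)

set_option backward.isDefEq.respectTransparency.types false in
/-- both `φ : Spec R → X` and `γ : Spec L → X` factor through `Spec 𝒪_{X,x}`, `x = φ(closed point)` -/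
lemma exists_beta {X : Scheme.{u}} (K : Type u) [Field K] (R : ValuationSubring K)
    (φ : Spec (CommRingCat.of ↥R) ⟶ X) (L : CommRingCat.{u}) [IsLocalRing L]
    (hsub : ∀ p q : Spec L, p = q) (γ : Spec L ⟶ X)
    (g : L ⟶ CommRingCat.of K)
    (w : Spec.map (CommRingCat.ofHom R.subtype) ≫ φ = Spec.map g ≫ γ) :
    ∃ (x : X) (ψ : X.presheaf.stalk x ⟶ CommRingCat.of ↥R) (β : X.presheaf.stalk x ⟶ L),
      Spec.map ψ ≫ X.fromSpecStalk x = φ ∧ Spec.map β ≫ X.fromSpecStalk x = γ ∧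
      ∀ (R' : Type u) [CommRing R'] [IsLocalRing R'] (ρ : R' →+* ↥R) [IsLocalHom ρ]
        (φ'' : Spec (CommRingCat.of R') ⟶ X), Spec.map (CommRingCat.ofHom ρ) ≫ φ'' = φ →
        ∃ ψ₂ : X.presheaf.stalk x ⟶ CommRingCat.of R', Spec.map ψ₂ ≫ X.fromSpecStalk x = φ'' := by
  have hsp : γ (IsLocalRing.closedPoint L) ⤳ φ (IsLocalRing.closedPoint ↥R) := by
    have h1 : γ (IsLocalRing.closedPoint L) =
        φ (Spec.map (CommRingCat.ofHom R.subtype) (IsLocalRing.closedPoint K)) := by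
      have h2 : (Spec.map (CommRingCat.ofHom R.subtype) ≫ φ) (IsLocalRing.closedPoint K) =
          (Spec.map g ≫ γ) (IsLocalRing.closedPoint K) := by rw [w]
      rw [Scheme.Hom.comp_apply, Scheme.Hom.comp_apply,
        hsub (Spec.map g (IsLocalRing.closedPoint K)) (IsLocalRing.closedPoint L)] at h2
      exact h2.symm
    rw [h1]
    exact (IsLocalRing.specializes_closedPoint _).map φ.continuous
  refine ⟨φ (IsLocalRing.closedPoint ↥R), Scheme.stalkClosedPointTo φ,
    X.presheaf.stalkSpecializes hsp ≫ Scheme.stalkClosedPointTo γ,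
    Scheme.Spec_stalkClosedPointTo_fromSpecStalk φ, ?_, ?_⟩
  · rw [Spec.map_comp, Category.assoc, Scheme.SpecMap_stalkSpecializes_fromSpecStalk]
    exact Scheme.Spec_stalkClosedPointTo_fromSpecStalk γ
  · intro R' _ _ ρ _ φ'' c1
    haveI : IsLocalHom (CommRingCat.ofHom ρ).hom := ‹IsLocalHom ρ›
    have hx'' : φ'' (IsLocalRing.closedPoint R') = φ (IsLocalRing.closedPoint ↥R) := by
      rw [← c1, Scheme.Hom.comp_apply, Spec_closedPoint]
    obtain ⟨ψ₂, hψ₂⟩ := exists_factor_of_eq _ _ hx'' (Scheme.stalkClosedPointTo φ'')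
    rw [Scheme.Spec_stalkClosedPointTo_fromSpecStalk] at hψ₂
    exact ⟨ψ₂, hψ₂⟩

/-- the restriction `g⁻¹(R) → R` is a local homomorphism -/
lemma isLocalHom_rho {K : Type u} [Field K] (R : ValuationSubring K) {L : Type u} [Field L]
    (g : L →+* K) (ρ : ↥(R.comap g) →+* ↥R)
    (hρ : ∀ x : ↥(R.comap g), ((ρ x : ↥R) : K) = g (x : L)) : IsLocalHom ρ := by
  refine ⟨fun a ha' => ?_⟩
  have hne : (a : L) ≠ 0 := by
    intro h0
    have : ((ρ a : ↥R) : K) = 0 := by rw [hρ, h0, map_zero]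
    have h3 : ρ a = 0 := Subtype.ext this
    rw [h3] at ha'
    exact not_isUnit_zero ha'
  obtain ⟨b, hb⟩ := ha'.exists_right_inv
  have hinv : (a : L)⁻¹ ∈ R.comap g := by
    rw [ValuationSubring.mem_comap, map_inv₀, ← hρ]
    have h4 : ((ρ a : ↥R) : K) * (b : K) = 1 := by
      have := congrArg (Subtype.val) hb
      simpa using this
    have h5 : ((ρ a : ↥R) : K)⁻¹ = (b : K) := inv_eq_of_mul_eq_one_right h4
    rw [h5]; exact b.2
  refine ⟨⟨a, ⟨_, hinv⟩, ?_, ?_⟩, rfl⟩
  · apply Subtype.ext; simp [hne]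
  · apply Subtype.ext; simp [hne]


/-- Let f : Y → X be a morphism of schemes (not assumed separated), R a valuation ring with fraction
field K, and i : Spec K → Y, φ : Spec R → X with i ≫ f = (Spec K → Spec R) ≫ φ. Let y be the point
of Y hit by i and g : κ(y) → K the induced embedding, R' = g⁻¹(R) the induced valuation ring of κ(y)
and ρ : R' → R the restriction of g. Then φ factors uniquely through Spec R → Spec R': there is a
unique φ' : Spec R' → X with (Spec ρ) ≫ φ' = φ whose restriction to the generic point Spec κ(y) is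
the canonical morphism Spec κ(y) → Y followed by f. (Here y and g are given as data with Spec g
followed by Spec κ(y) → Y equal to i, and ρ as data by its defining equation.) -/
theorem result {X Y : Scheme.{u}} (f : Y ⟶ X)
    (K : Type u) [Field K] (R : ValuationSubring K)
    (i : Spec (CommRingCat.of K) ⟶ Y) (φ : Spec (CommRingCat.of ↥R) ⟶ X)
    (w : Spec.map (CommRingCat.ofHom R.subtype) ≫ φ = i ≫ f)
    (y : Y) (g : Y.residueField y ⟶ CommRingCat.of K) (hg : Spec.map g ≫ Y.fromSpecResidueField y = i)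
    (ρ : ↥(R.comap g.hom) →+* ↥R)
    (hρ : ∀ x : ↥(R.comap g.hom), ((ρ x : ↥R) : K) = g.hom (x : ↑(Y.residueField y))) :
    ∃! φ' : Spec (CommRingCat.of ↥(R.comap g.hom)) ⟶ X,
      Spec.map (CommRingCat.ofHom ρ) ≫ φ' = φ ∧
      Spec.map (CommRingCat.ofHom (R.comap g.hom).subtype) ≫ φ' = Y.fromSpecResidueField y ≫ f := by
  have w' : Spec.map (CommRingCat.ofHom R.subtype) ≫ φ =
      Spec.map g ≫ (Y.fromSpecResidueField y ≫ f) := by
    rw [w, ← hg, Category.assoc]
  obtain ⟨x, ψ, β, hψ, hβ, huniq⟩ :=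
    exists_beta K R φ (Y.residueField y) (fun p q => Subsingleton.elim p q)
      (Y.fromSpecResidueField y ≫ f) g w'
  have hαβ : β ≫ g = ψ ≫ CommRingCat.ofHom R.subtype := by
    apply eq_of_specMap_fromSpecStalk_eq
    rw [Spec.map_comp, Category.assoc, hβ, Spec.map_comp, Category.assoc, hψ, w']
  have hαβ' : ∀ t, g.hom (β.hom t) = ((ψ.hom t : ↥R) : K) := fun t =>
    congrArg (fun h => h.hom t) hαβ
  -- the factorization through `R'`
  have hmem : ∀ t, β.hom t ∈ R.comap g.hom := fun t => by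
    rw [ValuationSubring.mem_comap, hαβ']; exact (ψ.hom t).2
  set ψ' : X.presheaf.stalk x ⟶ CommRingCat.of ↥(R.comap g.hom) :=
    CommRingCat.ofHom (β.hom.codRestrict (R.comap g.hom) hmem) with hψ'def
  have h1 : ψ' ≫ CommRingCat.ofHom ρ = ψ := by
    ext t
    change ((ρ (ψ'.hom t) : ↥R) : K) = _
    rw [hρ, ← hαβ']
    rfl
  have h2 : ψ' ≫ CommRingCat.ofHom (R.comap g.hom).subtype = β := by
    ext t; rfl
  refine ⟨Spec.map ψ' ≫ X.fromSpecStalk x, ⟨?_, ?_⟩, ?_⟩
  · rw [← Category.assoc, ← Spec.map_comp, h1, hψ]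
  · rw [← Category.assoc, ← Spec.map_comp, h2, hβ]
  · rintro φ'' ⟨c1, c2⟩
    haveI := isLocalHom_rho R g.hom ρ hρ
    obtain ⟨ψ₂, hψ₂⟩ := huniq _ ρ φ'' c1
    have h3 : ψ₂ ≫ CommRingCat.ofHom (R.comap g.hom).subtype = β := by
      apply eq_of_specMap_fromSpecStalk_eq
      rw [Spec.map_comp, Category.assoc, hψ₂, c2, hβ]
    have h4 : ψ₂ = ψ' := by
      ext t
      have := congrArg (fun h => h.hom t) h3
      exact this
    rw [← hψ₂, h4]

end Groth.Agent.S17897
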