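import Groth.Statements.S17898
import Mathlib

set_option autoImplicit false
universe u
open CategoryTheory AlgebraicGeometry
open ValCrit

namespace Groth.Agent.S17898

/-- transport of a factorization through `fromSpecStalk` along an equality of points -/
lemma exists_factor_of_eq {X : Scheme.{u}} {S : CommRingCat.{u}} (x₁ x₂ : X) (h : x₁ = x₂)
    (ψ : X.presheaf.stalk x₁ ⟶ S) :
    ∃ ψ₂ : X.presheaf.stalk x₂ ⟶ S,
      Spec.map ψ₂ ≫ X.fromSpecStalk x₂ = Spec.map ψ ≫ X.fromSpecStalk x₁ := by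
  subst h; exact ⟨ψ, rfl⟩

/-- cancel `fromSpecStalk` (a monomorphism) -/
lemma eq_of_specMap_fromSpecStalk_eq {X : Scheme.{u}} {S : CommRingCat.{u}} (x : X)
    (a b : X.presheaf.stalk x ⟶ S)
    (h : Spec.map a ≫ X.fromSpecStalk x = Spec.map b ≫ X.fromSpecStalk x) : a = b := by
  haveI : Mono (X.fromSpecStalk x) := inferInstance
  exact Spec.map_injective ((cancel_mono _).mp h)

set_option backward.isDefEq.respectTransparency.types false in
/-- a morphism from a local scheme whose closed point maps to a generization of `x`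
factors through `Spec 𝒪_{X,x}` -/
lemma exists_factor_of_specializes {X : Scheme.{u}} {S : Type u} [CommRing S] [IsLocalRing S]
    (m : Spec (CommRingCat.of S) ⟶ X) (x : X) (h : m (IsLocalRing.closedPoint S) ⤳ x) :
    ∃ ψ : X.presheaf.stalk x ⟶ CommRingCat.of S, Spec.map ψ ≫ X.fromSpecStalk x = m := by
  refine ⟨X.presheaf.stalkSpecializes h ≫ Scheme.stalkClosedPointTo m, ?_⟩
  rw [Spec.map_comp, Category.assoc, Scheme.SpecMap_stalkSpecializes_fromSpecStalk]
  exact Scheme.Spec_stalkClosedPointTo_fromSpecStalk m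

set_option backward.isDefEq.respectTransparency.types false in
/-- image of the closed point under a composite with `Spec` of a local homomorphism -/
lemma comp_closedPoint {X : Scheme.{u}} {S T : Type u} [CommRing S] [IsLocalRing S]
    [CommRing T] [IsLocalRing T] (ρ : S →+* T) [IsLocalHom ρ] (m : Spec (CommRingCat.of S) ⟶ X) :
    (Spec.map (CommRingCat.ofHom ρ) ≫ m) (IsLocalRing.closedPoint T) =
      m (IsLocalRing.closedPoint S) := by
  haveI : IsLocalHom (CommRingCat.ofHom ρ).hom := ‹IsLocalHom ρ›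
  rw [Scheme.Hom.comp_apply, Spec_closedPoint]

set_option backward.isDefEq.respectTransparency.types false in
/-- any point of `Spec S` maps to a generization of the image of the closed point -/
lemma comp_specializes {X : Scheme.{u}} {S T : Type u} [CommRing S] [IsLocalRing S]
    [CommRing T] (ρ : S →+* T) (m : Spec (CommRingCat.of S) ⟶ X) (p : Spec (CommRingCat.of T)) :
    (Spec.map (CommRingCat.ofHom ρ) ≫ m) p ⤳ m (IsLocalRing.closedPoint S) := by
  rw [Scheme.Hom.comp_apply]
  exact (IsLocalRing.specializes_closedPoint _).map m.continuous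


set_option backward.isDefEq.respectTransparency.types false in
/-- H1: `m : Spec S → Y` and `m' : Spec S' → Y` which agree on a common "generic point" `Spec T`
both factor through the local ring at `m(closed point)`. -/
lemma exists_common_factor {Y : Scheme.{u}} {S S' T : Type u} [CommRing S] [IsLocalRing S]
    [CommRing S'] [IsLocalRing S'] [CommRing T] [IsLocalRing T]
    (a : S →+* T) (b : S' →+* T) [IsLocalHom b]
    (m : Spec (CommRingCat.of S) ⟶ Y) (m' : Spec (CommRingCat.of S') ⟶ Y)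
    (hc : Spec.map (CommRingCat.ofHom a) ≫ m = Spec.map (CommRingCat.ofHom b) ≫ m') :
    ∃ (y₀ : Y) (θt : Y.presheaf.stalk y₀ ⟶ CommRingCat.of S)
      (θ' : Y.presheaf.stalk y₀ ⟶ CommRingCat.of S'),
      Spec.map θt ≫ Y.fromSpecStalk y₀ = m ∧ Spec.map θ' ≫ Y.fromSpecStalk y₀ = m' ∧
      ∀ (S₂ : Type u) [CommRing S₂] [IsLocalRing S₂] (σ : S₂ →+* S) [IsLocalHom σ]
        (h' : Spec (CommRingCat.of S₂) ⟶ Y), Spec.map (CommRingCat.ofHom σ) ≫ h' = m →
        ∃ θ'' : Y.presheaf.stalk y₀ ⟶ CommRingCat.of S₂, Spec.map θ'' ≫ Y.fromSpecStalk y₀ = h' := by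
  refine ⟨m (IsLocalRing.closedPoint S), ?_⟩
  obtain ⟨θt, hθt⟩ := exists_factor_of_specializes m (m (IsLocalRing.closedPoint S)) specializes_rfl
  have hsp : m' (IsLocalRing.closedPoint S') ⤳ m (IsLocalRing.closedPoint S) := by
    rw [← comp_closedPoint b m', ← hc]
    exact comp_specializes a m _
  obtain ⟨θ', hθ'⟩ := exists_factor_of_specializes m' (m (IsLocalRing.closedPoint S)) hsp
  refine ⟨θt, θ', hθt, hθ', ?_⟩
  intro S₂ _ _ σ _ h' hh'
  apply exists_factor_of_specializes
  rw [← comp_closedPoint σ h', hh']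

set_option backward.isDefEq.respectTransparency.types false in
/-- H2: two morphisms from a local scheme which agree after precomposing with `Spec` of a local
homomorphism both factor through the same local ring. -/
lemma exists_common_factor' {X : Scheme.{u}} {S S₂ : Type u} [CommRing S] [IsLocalRing S]
    [CommRing S₂] [IsLocalRing S₂] (σ : S₂ →+* S) [IsLocalHom σ]
    (u v : Spec (CommRingCat.of S₂) ⟶ X)
    (huv : Spec.map (CommRingCat.ofHom σ) ≫ u = Spec.map (CommRingCat.ofHom σ) ≫ v) :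
    ∃ (x₀ : X) (a b : X.presheaf.stalk x₀ ⟶ CommRingCat.of S₂),
      Spec.map a ≫ X.fromSpecStalk x₀ = u ∧ Spec.map b ≫ X.fromSpecStalk x₀ = v := by
  refine ⟨v (IsLocalRing.closedPoint S₂), ?_⟩
  obtain ⟨b, hb⟩ := exists_factor_of_specializes v (v (IsLocalRing.closedPoint S₂)) specializes_rfl
  have hsp : u (IsLocalRing.closedPoint S₂) ⤳ v (IsLocalRing.closedPoint S₂) := by
    rw [← comp_closedPoint σ u, huv, comp_closedPoint σ v]
  obtain ⟨a, ha⟩ := exists_factor_of_specializes u (v (IsLocalRing.closedPoint S₂)) hsp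
  exact ⟨a, b, ha, hb⟩

/-- the maximal ideal of the bigger valuation ring lies in the smaller one -/
lemma mem_of_residue_eq_zero {K : Type u} [Field K] (R R' : ValuationSubring K) (hRR' : R ≤ R')
    (z : ↥R') (hz : IsLocalRing.residue ↥R' z = 0) : (z : K) ∈ R := by
  by_cases h0 : (z : K) = 0
  · rw [h0]; exact R.zero_mem
  rcases R.mem_or_inv_mem (z : K) with h | h
  · exact h
  · exfalso
    have hu : IsUnit z := by
      refine ⟨⟨z, ⟨(z : K)⁻¹, hRR' h⟩, ?_, ?_⟩, rfl⟩
      · apply Subtype.ext; simp [h0]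
      · apply Subtype.ext; simp [h0]
    rw [IsLocalRing.residue_eq_zero_iff] at hz
    exact hz hu


/-- Let f : Y → X be a morphism of schemes (not assumed separated), K a field with valuation rings R ⊆
R' (inclusion ι), i : Spec K → Y and φ : Spec R → X a commutative square over f, and g : Spec R' → Y
a lift of Spec R' → Spec R → X restricting to i on Spec K. Let K̃ be the residue field of R', R̃ ⊆
K̃ the image of R (a valuation ring of K̃) with the surjection σ : R → R̃. Then every h̃ : Spec R̃ →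
Y whose restriction to Spec K̃ is Spec K̃ → Spec R' → Y (via g) and which lies over Spec R̃ → Spec R
→ X is induced by a unique h : Spec R → Y compatible with the whole diagram: h restricts to i on
Spec K, lies over φ, restricts to g along Spec R' → Spec R and to h̃ along Spec R̃ → Spec R. (ι, R̃,
σ are given as data pinned by their defining equations.) -/
theorem result {X Y : Scheme.{u}} (f : Y ⟶ X)
    (K : Type u) [Field K] (R R' : ValuationSubring K) (hRR' : R ≤ R')
    (ι : ↥R →+* ↥R') (hι : ∀ x : ↥R, ((ι x : ↥R') : K) = (x : K))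
    (i : Spec (CommRingCat.of K) ⟶ Y) (φ : Spec (CommRingCat.of ↥R) ⟶ X)
    (w : Spec.map (CommRingCat.ofHom R.subtype) ≫ φ = i ≫ f)
    (g : Spec (CommRingCat.of ↥R') ⟶ Y) (hg₁ : Spec.map (CommRingCat.ofHom R'.subtype) ≫ g = i)
    (hg₂ : g ≫ f = Spec.map (CommRingCat.ofHom ι) ≫ φ)
    (Rt : ValuationSubring (IsLocalRing.ResidueField ↥R')) (σ : ↥R →+* ↥Rt) (hσs : Function.Surjective σ)
    (hσ : ∀ x : ↥R, ((σ x : ↥Rt) : IsLocalRing.ResidueField ↥R') = IsLocalRing.residue ↥R' (ι x))
    (ht : Spec (CommRingCat.of ↥Rt) ⟶ Y)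
    (hht₁ : Spec.map (CommRingCat.ofHom Rt.subtype) ≫ ht =
      Spec.map (CommRingCat.ofHom (IsLocalRing.residue ↥R')) ≫ g)
    (hht₂ : ht ≫ f = Spec.map (CommRingCat.ofHom σ) ≫ φ) :
    ∃! h : Spec (CommRingCat.of ↥R) ⟶ Y, Spec.map (CommRingCat.ofHom R.subtype) ≫ h = i ∧ h ≫ f = φ ∧
      Spec.map (CommRingCat.ofHom ι) ≫ h = g ∧ Spec.map (CommRingCat.ofHom σ) ≫ h = ht := by
  haveI hσloc : IsLocalHom σ := hσs.isLocalHom
  have hιinj : Function.Injective ι := fun a b hab => by
    apply Subtype.ext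
    rw [← hι a, ← hι b, hab]
  obtain ⟨y₀, θt, θ', hθt, hθ', huniq⟩ :=
    exists_common_factor Rt.subtype (IsLocalRing.residue ↥R') ht g hht₁
  -- compatibility of `θ'` and `θt`
  have hcomp : θ' ≫ CommRingCat.ofHom (IsLocalRing.residue ↥R') =
      θt ≫ CommRingCat.ofHom Rt.subtype := by
    apply eq_of_specMap_fromSpecStalk_eq
    rw [Spec.map_comp, Category.assoc, hθ', Spec.map_comp, Category.assoc, hθt, hht₁]
  have hcomp' : ∀ t, IsLocalRing.residue ↥R' (θ'.hom t) =
      ((θt.hom t : ↥Rt) : IsLocalRing.ResidueField ↥R') := fun t =>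
    congrArg (fun h => h.hom t) hcomp
  have hmem : ∀ t, (R'.subtype.comp θ'.hom) t ∈ R := by
    intro t
    obtain ⟨r, hr⟩ := hσs (θt.hom t)
    have h1 : IsLocalRing.residue ↥R' (θ'.hom t - ι r) = 0 := by
      rw [map_sub, hcomp', ← hr, hσ, sub_self]
    have h2 := mem_of_residue_eq_zero R R' hRR' _ h1
    have h3 : ((R'.subtype.comp θ'.hom) t : K) = ((θ'.hom t - ι r : ↥R') : K) + (r : K) := by
      simp [hι]
    rw [h3]
    exact R.add_mem _ _ h2 r.2
  set θ : Y.presheaf.stalk y₀ ⟶ CommRingCat.of ↥R :=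
    CommRingCat.ofHom ((R'.subtype.comp θ'.hom).codRestrict R hmem) with hθdef
  have e3 : θ ≫ CommRingCat.ofHom ι = θ' := by
    ext t
    change ((ι (θ.hom t) : ↥R') : K) = _
    rw [hι]; rfl
  have e1 : θ ≫ CommRingCat.ofHom R.subtype = θ' ≫ CommRingCat.ofHom R'.subtype := by
    ext t; rfl
  have e4 : θ ≫ CommRingCat.ofHom σ = θt := by
    ext t
    change ((σ (θ.hom t) : ↥Rt) : IsLocalRing.ResidueField ↥R') = _
    rw [hσ, ← hcomp']
    congr 1
    exact congrArg (fun h => h.hom t) e3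
  have c1 : Spec.map (CommRingCat.ofHom R.subtype) ≫ Spec.map θ ≫ Y.fromSpecStalk y₀ = i := by
    rw [← Category.assoc, ← Spec.map_comp, e1, Spec.map_comp, Category.assoc, hθ', hg₁]
  have c3 : Spec.map (CommRingCat.ofHom ι) ≫ Spec.map θ ≫ Y.fromSpecStalk y₀ = g := by
    rw [← Category.assoc, ← Spec.map_comp, e3, hθ']
  have c4 : Spec.map (CommRingCat.ofHom σ) ≫ Spec.map θ ≫ Y.fromSpecStalk y₀ = ht := by
    rw [← Category.assoc, ← Spec.map_comp, e4, hθt]
  have c2 : (Spec.map θ ≫ Y.fromSpecStalk y₀) ≫ f = φ := by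
    have huv : Spec.map (CommRingCat.ofHom σ) ≫ ((Spec.map θ ≫ Y.fromSpecStalk y₀) ≫ f) =
        Spec.map (CommRingCat.ofHom σ) ≫ φ := by
      rw [← Category.assoc, c4, hht₂]
    obtain ⟨x₀, a, b, ha, hb⟩ := exists_common_factor' σ _ _ huv
    have hab : a ≫ CommRingCat.ofHom ι = b ≫ CommRingCat.ofHom ι := by
      apply eq_of_specMap_fromSpecStalk_eq
      have l1 : Spec.map (a ≫ CommRingCat.ofHom ι) ≫ X.fromSpecStalk x₀ = g ≫ f := by
        rw [Spec.map_comp, Category.assoc, ha, ← c3]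
        simp only [Category.assoc]
      have l2 : Spec.map (b ≫ CommRingCat.ofHom ι) ≫ X.fromSpecStalk x₀ =
          Spec.map (CommRingCat.ofHom ι) ≫ φ := by
        rw [Spec.map_comp, Category.assoc, hb]
      rw [l1, l2, hg₂]
    have hab' : a = b := by
      ext t
      have := congrArg (fun h => h.hom t) hab
      exact congrArg Subtype.val (hιinj this)
    rw [← ha, hab', hb]
  refine ⟨Spec.map θ ≫ Y.fromSpecStalk y₀, ⟨c1, c2, c3, c4⟩, ?_⟩
  rintro h' ⟨d1, d2, d3, d4⟩
  obtain ⟨θ'', hθ''⟩ := huniq _ σ h' d4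
  have h5 : θ'' ≫ CommRingCat.ofHom ι = θ' := by
    apply eq_of_specMap_fromSpecStalk_eq
    rw [Spec.map_comp, Category.assoc, hθ'', d3, hθ']
  have h6 : θ'' = θ := by
    ext t
    have := congrArg (fun h => h.hom t) (h5.trans e3.symm)
    exact congrArg Subtype.val (hιinj this)
  rw [← hθ'', h6]

end Groth.Agent.S17898
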