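import Groth.Statements.S17899
import Groth.Agent.Lib.MilnorProps24c
import Groth.Agent.Lib.SemiVal76A
import Groth.Agent.Lib.SemiVal76B

set_option autoImplicit false
universe u
open TensorProduct
open CAlg

namespace Groth.Agent.S17899

/-- Let A be a local ring with residue field K, R a valuation ring of K and O ⊆ A the preimage of R
under A → K (so O is a semi-valuation ring with semi-fraction ring A, S = Spec O is glued from U =
Spec A and T = Spec R). Let C be an O-algebra of finite type which is U-admissible (C → A ⊗_O C
injective) and such that A ⊗_O C is flat and of finite presentation over A. Then C is flat and of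
finite presentation over O. (The published assertion is more general: the base may be any
quasi-compact quasi-separated U-admissible scheme over Spec O, and the scheme over it any
quasi-compact quasi-separated admissible scheme. This row is the case of an affine scheme over Spec
O itself, the case in which the published proof carries out its argument.) -/
theorem result
    (A : Type u) [CommRing A] [IsLocalRing A] (R : ValuationSubring (IsLocalRing.ResidueField A))
    (O : Subring A) (hO : O = R.toSubring.comap (IsLocalRing.residue A))
    (C : Type u) [CommRing C] [Algebra ↥O C] [Algebra.FiniteType ↥O C]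
    (hadm : Function.Injective (Algebra.TensorProduct.includeRight : C →ₐ[↥O] A ⊗[↥O] C))
    (hflat : Module.Flat A (A ⊗[↥O] C)) (hfp : Algebra.FinitePresentation A (A ⊗[↥O] C)) :
    Module.Flat ↥O C ∧ Algebra.FinitePresentation ↥O C := by
  subst hO
  let φ : ↥(R.toSubring.comap (IsLocalRing.residue A)) →+* ↥R :=
    { toFun := fun o => ⟨IsLocalRing.residue A o, o.2⟩
      map_one' := by ext; simp
      map_mul' := fun x y => by ext; simp
      map_zero' := by ext; simp
      map_add' := fun x y => by ext; simp }
  letI : Algebra ↥(R.toSubring.comap (IsLocalRing.residue A)) ↥R := φ.toAlgebra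
  have hφ : ∀ o : ↥(R.toSubring.comap (IsLocalRing.residue A)),
      ((algebraMap ↥(R.toSubring.comap (IsLocalRing.residue A)) ↥R o : ↥R) :
        IsLocalRing.ResidueField A) = IsLocalRing.residue A (o : A) := fun o => rfl
  haveI : IsScalarTower ↥(R.toSubring.comap (IsLocalRing.residue A)) ↥R
      (IsLocalRing.ResidueField A) := IsScalarTower.of_algebraMap_eq (fun o => rfl)
  have hmem : ∀ a : A, IsLocalRing.residue A a ∈ R →
      a ∈ R.toSubring.comap (IsLocalRing.residue A) := fun a ha => ha
  have hsq : EtMil.IsFibreSquare ↥(R.toSubring.comap (IsLocalRing.residue A)) ↥R A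
      (IsLocalRing.ResidueField A) := by
    refine ⟨IsLocalRing.residue_surjective, ?_⟩
    intro b a' hba
    have hba' : (b : IsLocalRing.ResidueField A) = IsLocalRing.residue A a' := hba
    refine ⟨⟨a', hmem a' (hba' ▸ b.2)⟩, ⟨?_, rfl⟩, ?_⟩
    · apply Subtype.ext
      rw [hφ]
      exact hba'.symm
    · rintro o ⟨-, ho⟩
      apply Subtype.ext
      exact ho
  have hsurj : Function.Surjective
      (algebraMap ↥(R.toSubring.comap (IsLocalRing.residue A)) ↥R) := by
    intro r
    obtain ⟨a, ha⟩ := IsLocalRing.residue_surjective (r : IsLocalRing.ResidueField A)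
    refine ⟨⟨a, hmem a (ha ▸ r.2)⟩, ?_⟩
    apply Subtype.ext
    rw [hφ]
    exact ha
  haveI : Module.IsTorsionFree ↥R (↥R ⊗[↥(R.toSubring.comap (IsLocalRing.residue A))] C) := by
    refine Groth.Agent.Lib.SemiVal76.isTorsionFree_tensor (A := A) hsurj ?_ ?_ C ?_
    · intro o ho
      have h1 : IsLocalRing.residue A (o : A) ≠ 0 := by
        intro h0
        apply ho
        apply Subtype.ext
        rw [hφ, h0]
        rfl
      have h2 : (o : A) ∉ IsLocalRing.maximalIdeal A := fun hm =>
        h1 ((IsLocalRing.residue_eq_zero_iff _).mpr hm)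
      exact (IsLocalRing.notMem_maximalIdeal.mp h2)
    · intro a i hi
      have h1 : IsLocalRing.residue A (i : A) = 0 := by
        rw [← hφ, hi]
        rfl
      have h2 : IsLocalRing.residue A (a * (i : A)) = 0 := by
        rw [map_mul, h1, mul_zero]
      refine ⟨⟨a * (i : A), hmem _ (h2 ▸ R.zero_mem)⟩, ?_, rfl⟩
      apply Subtype.ext
      rw [hφ]
      exact h2
    · intro c c' h
      exact hadm h
  haveI : Module.Flat ↥R (↥R ⊗[↥(R.toSubring.comap (IsLocalRing.residue A))] C) :=
    (Module.Flat.flat_iff_torsion_eq_bot_of_isBezout).mpr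
      ((Submodule.isTorsionFree_iff_torsion_eq_bot).mp inferInstance)
  haveI : Module.Flat ↥(R.toSubring.comap (IsLocalRing.residue A)) C :=
    Groth.Agent.Lib.MilnorProps24.flat_of_baseChange _ ↥R A (IsLocalRing.ResidueField A) hsq C
  haveI : Algebra.FinitePresentation ↥R
      (↥R ⊗[↥(R.toSubring.comap (IsLocalRing.residue A))] C) :=
    Groth.Agent.Lib.SemiVal76.finitePresentation_of_isTorsionFree ↥R _
  exact ⟨inferInstance,
    Groth.Agent.Lib.MilnorProps24.finitePresentation_of_baseChange _ ↥R A
      (IsLocalRing.ResidueField A) hsq C⟩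

end Groth.Agent.S17899
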