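import Groth.Statements.S17900
import Groth.Agent.Lib.FlatOfExact
import Mathlib.Tactic

set_option autoImplicit false
universe u
open TensorProduct
open Pinch

namespace Groth.Agent.S17900

/-- Let R be a commutative ring and let B' → B → A, B' → A' → A be a commutative square of R-algebras
which is a fibre square (B' = B ×_A A') with A' → A surjective. If B, A' and A are flat over R then
B' is flat over R. -/
theorem result (R B' B A' A : Type u) [CommRing R] [CommRing B'] [CommRing B] [CommRing A'] [CommRing A]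
    [Algebra B' B] [Algebra B' A'] [Algebra B A] [Algebra A' A] [Algebra B' A]
    [IsScalarTower B' B A] [IsScalarTower B' A' A]
    [Algebra R B'] [Algebra R B] [Algebra R A'] [Algebra R A]
    [IsScalarTower R B' B] [IsScalarTower R B' A'] [IsScalarTower R B' A] [IsScalarTower R B A] [IsScalarTower R A' A]
    (hsq : EtMil.IsFibreSquare B' B A' A)
    [Module.Flat R B] [Module.Flat R A'] [Module.Flat R A] :
    Module.Flat R B' := by
  obtain ⟨hsurj, hex⟩ := hsq
  let gB : B' →ₗ[R] B := (IsScalarTower.toAlgHom R B' B).toLinearMap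
  let gA' : B' →ₗ[R] A' := (IsScalarTower.toAlgHom R B' A').toLinearMap
  let fB : B →ₗ[R] A := (IsScalarTower.toAlgHom R B A).toLinearMap
  let fA' : A' →ₗ[R] A := (IsScalarTower.toAlgHom R A' A).toLinearMap
  let g : B' →ₗ[R] B × A' := gB.prod gA'
  let f : B × A' →ₗ[R] A := fB.coprod (-fA')
  have hgB : ∀ x, gB x = algebraMap B' B x := fun _ => rfl
  have hgA' : ∀ x, gA' x = algebraMap B' A' x := fun _ => rfl
  have hfB : ∀ x, fB x = algebraMap B A x := fun _ => rfl
  have hfA' : ∀ x, fA' x = algebraMap A' A x := fun _ => rfl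
  have hf_apply : ∀ p : B × A', f p = algebraMap B A p.1 - algebraMap A' A p.2 := by
    intro p
    simp [f, hfB, hfA', sub_eq_add_neg]
  have hg_apply : ∀ x : B', g x = (algebraMap B' B x, algebraMap B' A' x) := fun _ => rfl
  haveI : Module.Flat R (B × A') := Groth.Agent.Lib.FlatOfExact.flat_prod
  refine Groth.Agent.Lib.FlatOfExact.flat_of_exact g f ?_ ?_ ?_
  · -- injective
    intro x y hxy
    rw [hg_apply, hg_apply, Prod.mk.injEq] at hxy
    have hcomp : algebraMap B A (algebraMap B' B y) = algebraMap A' A (algebraMap B' A' y) := by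
      rw [← IsScalarTower.algebraMap_apply, ← IsScalarTower.algebraMap_apply]
    obtain ⟨z, _, hz⟩ := hex _ _ hcomp
    rw [hz x ⟨hxy.1, hxy.2⟩, hz y ⟨rfl, rfl⟩]
  · -- surjective
    intro a
    obtain ⟨a', ha'⟩ := hsurj (-a)
    refine ⟨(0, a'), ?_⟩
    rw [hf_apply]
    simp [ha']
  · -- exact
    intro p
    constructor
    · intro hp
      rw [hf_apply, sub_eq_zero] at hp
      obtain ⟨z, ⟨hz1, hz2⟩, _⟩ := hex _ _ hp
      exact ⟨z, by rw [hg_apply, hz1, hz2]⟩
    · rintro ⟨z, rfl⟩
      rw [hf_apply, hg_apply, sub_eq_zero]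
      simp only
      rw [← IsScalarTower.algebraMap_apply, ← IsScalarTower.algebraMap_apply]

end Groth.Agent.S17900
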