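import Groth.Statements.S17901
import Groth.Agent.Lib.FlatOfExact
import Mathlib.Tactic

set_option autoImplicit false
universe u
open TensorProduct
open Pinch

namespace Groth.Agent.S17901

/-- Let R be a commutative ring and let B' → B → A, B' → A' → A be a fibre square of R-algebras (B' = B
×_A A') with A' → A surjective, where B, A' and A are flat over R. Then for every commutative
R-algebra R' the square obtained by applying R' ⊗_R − is again a fibre square: R' ⊗_R A' → R' ⊗_R A
is surjective and every pair of elements of R' ⊗_R B and R' ⊗_R A' with the same image in R' ⊗_R A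
is the image of a unique element of R' ⊗_R B'. (The published lemma concludes that the base-changed
square of spectra is co-cartesian in ringed spaces; this row states the ring form, surjective edge
and fibre product, which its proof establishes before translating it to ringed spaces.) -/
theorem result (R B' B A' A : Type u) [CommRing R] [CommRing B'] [CommRing B] [CommRing A'] [CommRing A]
    [Algebra B' B] [Algebra B' A'] [Algebra B A] [Algebra A' A] [Algebra B' A]
    [IsScalarTower B' B A] [IsScalarTower B' A' A]
    [Algebra R B'] [Algebra R B] [Algebra R A'] [Algebra R A]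
    [IsScalarTower R B' B] [IsScalarTower R B' A'] [IsScalarTower R B' A] [IsScalarTower R B A] [IsScalarTower R A' A]
    (hsq : EtMil.IsFibreSquare B' B A' A)
    [Module.Flat R B] [Module.Flat R A'] [Module.Flat R A]
    (R' : Type u) [CommRing R'] [Algebra R R'] :
    Function.Surjective (Algebra.TensorProduct.map (AlgHom.id R R') (IsScalarTower.toAlgHom R A' A)) ∧
    ∀ (x : R' ⊗[R] B) (y : R' ⊗[R] A'),
      Algebra.TensorProduct.map (AlgHom.id R R') (IsScalarTower.toAlgHom R B A) x =
        Algebra.TensorProduct.map (AlgHom.id R R') (IsScalarTower.toAlgHom R A' A) y →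
      ∃! z : R' ⊗[R] B',
        Algebra.TensorProduct.map (AlgHom.id R R') (IsScalarTower.toAlgHom R B' B) z = x ∧
        Algebra.TensorProduct.map (AlgHom.id R R') (IsScalarTower.toAlgHom R B' A') z = y := by
  obtain ⟨hsurj, hex⟩ := hsq
  let gB : B' →ₗ[R] B := (IsScalarTower.toAlgHom R B' B).toLinearMap
  let gA' : B' →ₗ[R] A' := (IsScalarTower.toAlgHom R B' A').toLinearMap
  let fB : B →ₗ[R] A := (IsScalarTower.toAlgHom R B A).toLinearMap
  let fA' : A' →ₗ[R] A := (IsScalarTower.toAlgHom R A' A).toLinearMap
  let g : B' →ₗ[R] B × A' := gB.prod gA'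
  let f : B × A' →ₗ[R] A := fB.coprod (-fA')
  have hgB : ∀ x, gB x = algebraMap B' B x := fun _ => rfl
  have hgA' : ∀ x, gA' x = algebraMap B' A' x := fun _ => rfl
  have hfB : ∀ x, fB x = algebraMap B A x := fun _ => rfl
  have hfA' : ∀ x, fA' x = algebraMap A' A x := fun _ => rfl
  have hf_apply : ∀ p : B × A', f p = algebraMap B A p.1 - algebraMap A' A p.2 := by
    intro p
    simp [f, hfB, hfA', sub_eq_add_neg]
  have hg_apply : ∀ x : B', g x = (algebraMap B' B x, algebraMap B' A' x) := fun _ => rfl
  have hg : Function.Injective g := by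
    intro x y hxy
    rw [hg_apply, hg_apply, Prod.mk.injEq] at hxy
    have hcomp : algebraMap B A (algebraMap B' B y) = algebraMap A' A (algebraMap B' A' y) := by
      rw [← IsScalarTower.algebraMap_apply, ← IsScalarTower.algebraMap_apply]
    obtain ⟨z, _, hz⟩ := hex _ _ hcomp
    rw [hz x ⟨hxy.1, hxy.2⟩, hz y ⟨rfl, rfl⟩]
  have hf : Function.Surjective f := by
    intro a
    obtain ⟨a', ha'⟩ := hsurj (-a)
    refine ⟨(0, a'), ?_⟩
    rw [hf_apply]
    simp [ha']
  have H : Function.Exact g f := by
    intro p
    constructor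
    · intro hp
      rw [hf_apply, sub_eq_zero] at hp
      obtain ⟨z, ⟨hz1, hz2⟩, _⟩ := hex _ _ hp
      exact ⟨z, by rw [hg_apply, hz1, hz2]⟩
    · rintro ⟨z, rfl⟩
      rw [hf_apply, hg_apply, sub_eq_zero]
      simp only
      rw [← IsScalarTower.algebraMap_apply, ← IsScalarTower.algebraMap_apply]
  have hinj : Function.Injective (g.lTensor R') :=
    LinearMap.lTensor_injective_of_exact_of_flat f hf g hg H R'
  have hexact : Function.Exact (g.lTensor R') (f.lTensor R') := lTensor_exact R' H hf
  -- identify the algebra maps with lTensor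
  have hmap : ∀ {C D : Type u} [CommRing C] [CommRing D] [Algebra R C] [Algebra R D]
      (φ : C →ₐ[R] D) (t : R' ⊗[R] C),
      Algebra.TensorProduct.map (AlgHom.id R R') φ t = φ.toLinearMap.lTensor R' t := by
    intro C D _ _ _ _ φ t
    induction t using TensorProduct.induction_on with
    | zero => simp
    | tmul r c => simp
    | add a b ha hb => rw [map_add, map_add, ha, hb]
  have key : ∀ w : R' ⊗[R] (B × A'),
      w = (LinearMap.inl R B A').lTensor R' ((LinearMap.fst R B A').lTensor R' w) +
        (LinearMap.inr R B A').lTensor R' ((LinearMap.snd R B A').lTensor R' w) := by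
    intro w
    rw [← LinearMap.comp_apply, ← LinearMap.comp_apply, ← LinearMap.lTensor_comp,
      ← LinearMap.lTensor_comp, ← LinearMap.add_apply, ← LinearMap.lTensor_add]
    have hid : LinearMap.inl R B A' ∘ₗ LinearMap.fst R B A' +
        LinearMap.inr R B A' ∘ₗ LinearMap.snd R B A' = LinearMap.id := by
      ext <;> simp
    rw [hid, LinearMap.lTensor_id, LinearMap.id_apply]
  have hfstg : LinearMap.fst R B A' ∘ₗ g = gB := by ext; rfl
  have hsndg : LinearMap.snd R B A' ∘ₗ g = gA' := by ext; rfl
  have hfinl : f ∘ₗ LinearMap.inl R B A' = fB := by ext; simp [f]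
  have hfinr : f ∘ₗ LinearMap.inr R B A' = -fA' := by ext; simp [f]
  have hfst : ∀ z, (LinearMap.fst R B A').lTensor R' (g.lTensor R' z) = gB.lTensor R' z := by
    intro z
    rw [← LinearMap.comp_apply, ← LinearMap.lTensor_comp, hfstg]
  have hsnd : ∀ z, (LinearMap.snd R B A').lTensor R' (g.lTensor R' z) = gA'.lTensor R' z := by
    intro z
    rw [← LinearMap.comp_apply, ← LinearMap.lTensor_comp, hsndg]
  refine ⟨?_, ?_⟩
  · have : Function.Surjective (fA'.lTensor R') :=
      LinearMap.lTensor_surjective R' hsurj
    intro t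
    obtain ⟨s, hs⟩ := this t
    exact ⟨s, by rw [hmap]; exact hs⟩
  · intro x y hxy
    rw [hmap, hmap] at hxy
    change fB.lTensor R' x = fA'.lTensor R' y at hxy
    set w : R' ⊗[R] (B × A') :=
      (LinearMap.inl R B A').lTensor R' x + (LinearMap.inr R B A').lTensor R' y with hw
    have hfw : f.lTensor R' w = 0 := by
      rw [hw, map_add, ← LinearMap.comp_apply, ← LinearMap.comp_apply, ← LinearMap.lTensor_comp,
        ← LinearMap.lTensor_comp, hfinl, hfinr, LinearMap.lTensor_neg, LinearMap.neg_apply, hxy,
        add_neg_cancel]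
    obtain ⟨z, hz⟩ := (hexact w).mp hfw
    have hfstw : (LinearMap.fst R B A').lTensor R' w = x := by
      rw [hw, map_add, ← LinearMap.comp_apply, ← LinearMap.comp_apply, ← LinearMap.lTensor_comp,
        ← LinearMap.lTensor_comp]
      have e1 : LinearMap.fst R B A' ∘ₗ LinearMap.inl R B A' = LinearMap.id := by ext; simp
      have e2 : LinearMap.fst R B A' ∘ₗ LinearMap.inr R B A' = 0 := by ext; simp
      rw [e1, e2, LinearMap.lTensor_id, LinearMap.lTensor_zero]
      simp
    have hsndw : (LinearMap.snd R B A').lTensor R' w = y := by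
      rw [hw, map_add, ← LinearMap.comp_apply, ← LinearMap.comp_apply, ← LinearMap.lTensor_comp,
        ← LinearMap.lTensor_comp]
      have e1 : LinearMap.snd R B A' ∘ₗ LinearMap.inl R B A' = 0 := by ext; simp
      have e2 : LinearMap.snd R B A' ∘ₗ LinearMap.inr R B A' = LinearMap.id := by ext; simp
      rw [e1, e2, LinearMap.lTensor_id, LinearMap.lTensor_zero]
      simp
    refine ⟨z, ⟨?_, ?_⟩, ?_⟩
    · rw [hmap]
      change gB.lTensor R' z = x
      rw [← hfst, hz, hfstw]
    · rw [hmap]
      change gA'.lTensor R' z = y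
      rw [← hsnd, hz, hsndw]
    · rintro z' ⟨hz1, hz2⟩
      rw [hmap] at hz1 hz2
      change gB.lTensor R' z' = x at hz1
      change gA'.lTensor R' z' = y at hz2
      apply hinj
      rw [key (g.lTensor R' z'), key (g.lTensor R' z), hfst, hsnd, hfst, hsnd, hz1, hz2,
        ← hfst z, ← hsnd z, hz, hfstw, hsndw]

end Groth.Agent.S17901
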