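import Groth.Statements.S17903
import Groth.Agent.Lib.SheafedPushout24
import Groth.Agent.Lib.Ferrand24m

set_option autoImplicit false
universe u
open CategoryTheory AlgebraicGeometry
open Pinch

namespace Groth.Agent.S17903

open Groth.Agent.Lib.Ferrand24 Groth.Agent.Lib.RingFibreSq24 Groth.Agent.Lib.SheafedPushout24 CategoryTheory.Limits in
/-- Let S be a scheme and Z → X, Z → Z', X → X', Z' → X' a commutative square of S-schemes in which Z →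
X and Z' → X' are closed immersions and Z → Z' and X → X' are affine, and which is a pushout square
in the category of ringed spaces. If X, Z and Z' are flat over S then X' is flat over S. -/
theorem result {S X Z Z' X' : Scheme.{u}}
    (fX : X ⟶ S) (fZ' : Z' ⟶ S) (fX' : X' ⟶ S) (ι : Z ⟶ X) (q : Z ⟶ Z') (π : X ⟶ X') (ι' : Z' ⟶ X')
    [IsClosedImmersion ι] [IsClosedImmersion ι'] [IsAffineHom q] [IsAffineHom π]
    (hq : q ≫ fZ' = ι ≫ fX) (hπ : π ≫ fX' = fX) (hι' : ι' ≫ fX' = fZ')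
    (hpo : IsPushout ((Scheme.forgetToLocallyRingedSpace ⋙ LocallyRingedSpace.forgetToSheafedSpace).map ι) ((Scheme.forgetToLocallyRingedSpace ⋙ LocallyRingedSpace.forgetToSheafedSpace).map q)
      ((Scheme.forgetToLocallyRingedSpace ⋙ LocallyRingedSpace.forgetToSheafedSpace).map π) ((Scheme.forgetToLocallyRingedSpace ⋙ LocallyRingedSpace.forgetToSheafedSpace).map ι'))
    [Flat fX] [Flat (ι ≫ fX)] [Flat fZ'] :
    Flat fX' := by
  have hP : IsPushout ι q π ι' := isPushout_of_sheafedSpace hpo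
  haveI : IsAffineHom ι' := inferInstance
  have hpair : ∀ V : X'.Opens, ι ⁻¹ᵁ π ⁻¹ᵁ V = q ⁻¹ᵁ ι' ⁻¹ᵁ V := by
    intro V
    rw [← Scheme.Hom.comp_preimage, ← Scheme.Hom.comp_preimage, hP.w]
  have hXc : ∀ x : X, ∃ k : Pair ι q, IsAffineOpen k.G ∧ IsAffineOpen k.H ∧ x ∈ k.G := by
    intro x
    obtain ⟨_, ⟨V, hV, rfl⟩, hxV, -⟩ :=
      X'.isBasis_affineOpens.exists_subset_of_mem_open (Set.mem_univ (π x)) isOpen_univ
    exact ⟨⟨π ⁻¹ᵁ V, ι' ⁻¹ᵁ V, hpair V⟩, hV.preimage π, hV.preimage ι', hxV⟩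
  have hTc : ∀ y : Z', ∃ k : Pair ι q, IsAffineOpen k.G ∧ IsAffineOpen k.H ∧ y ∈ k.H := by
    intro y
    obtain ⟨_, ⟨V, hV, rfl⟩, hyV, -⟩ :=
      X'.isBasis_affineOpens.exists_subset_of_mem_open (Set.mem_univ (ι' y)) isOpen_univ
    exact ⟨⟨π ⁻¹ᵁ V, ι' ⁻¹ᵁ V, hpair V⟩, hV.preimage π, hV.preimage ι', hyV⟩
  haveI h1 : Flat (π ≫ fX') := by
    rw [hπ]
    infer_instance
  haveI h2 : Flat (ι' ≫ fX') := by
    rw [hι']
    infer_instance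
  haveI h0 : Flat (ι ≫ π ≫ fX') := by
    rw [hπ]
    infer_instance
  rw [HasRingHomProperty.iff_exists_appLE (P := @Flat)
    (RingHom.Flat.stableUnderComposition.stableUnderCompositionWithLocalizationAway
      RingHom.Flat.holdsForLocalizationAway).left]
  intro x
  obtain ⟨_, ⟨R₀, hR₀, rfl⟩, hxR, -⟩ :=
    S.isBasis_affineOpens.exists_subset_of_mem_open (Set.mem_univ (fX' x)) isOpen_univ
  obtain ⟨_, ⟨U, hU, rfl⟩, hxU, hUR⟩ :=
    X'.isBasis_affineOpens.exists_subset_of_mem_open (show x ∈ fX' ⁻¹ᵁ R₀ from hxR) (fX' ⁻¹ᵁ R₀).2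
  have hh : ι ⁻¹ᵁ π ⁻¹ᵁ U ≤ q ⁻¹ᵁ ι' ⁻¹ᵁ U := (hpair U).le
  have sq := sections_isFibreSq hXc hTc hP U hU (hU.preimage π) (hU.preimage ι') hh
  have hp : Function.Surjective (ι.app (π ⁻¹ᵁ U)).hom := ι.app_surjective _ (hU.preimage π)
  rw [Scheme.Hom.app_eq_appLE, Scheme.Hom.app_eq_appLE, Scheme.Hom.app_eq_appLE] at sq
  rw [Scheme.Hom.app_eq_appLE] at hp
  refine ⟨⟨R₀, hR₀⟩, ⟨U, hU⟩, hxU, hUR, flat_of_isFibreSq _ _ _ _ _ sq hp ?_ ?_ ?_⟩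
  · rw [Scheme.Hom.appLE_comp_appLE]
    exact HasRingHomProperty.appLE @Flat (ι' ≫ fX') inferInstance ⟨R₀, hR₀⟩
      ⟨ι' ⁻¹ᵁ U, hU.preimage ι'⟩ _
  · rw [Scheme.Hom.appLE_comp_appLE]
    exact HasRingHomProperty.appLE @Flat (π ≫ fX') inferInstance ⟨R₀, hR₀⟩
      ⟨π ⁻¹ᵁ U, hU.preimage π⟩ _
  · rw [Scheme.Hom.appLE_comp_appLE, Scheme.Hom.appLE_comp_appLE]
    exact HasRingHomProperty.appLE @Flat (ι ≫ π ≫ fX') h0 ⟨R₀, hR₀⟩
      ⟨ι ⁻¹ᵁ π ⁻¹ᵁ U, (hU.preimage π).preimage ι⟩ _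

end Groth.Agent.S17903
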