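import Groth.Statements.S17904
import Groth.Agent.Lib.SheafedPushout24c

set_option autoImplicit false
universe u
open CategoryTheory AlgebraicGeometry
open Pinch

namespace Groth.Agent.S17904

open Groth.Agent.Lib.Ferrand24 Groth.Agent.Lib.SheafedPushout24 CategoryTheory.Limits in
/-- Let S be a scheme and Z → X, Z → Z', X → X', Z' → X' a commutative square of S-schemes in which Z →
X and Z' → X' are closed immersions and Z → Z' and X → X' are affine, which is a pushout square in
the category of ringed spaces, with X, Z and Z' flat over S. Then for every morphism T → S the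
square of base changes Z_T → X_T, Z_T → Z'_T, X_T → X'_T, Z'_T → X'_T is a pushout square in the
category of ringed spaces. -/
theorem result {S X Z Z' X' : Scheme.{u}}
    (fX : X ⟶ S) (fZ' : Z' ⟶ S) (fX' : X' ⟶ S) (ι : Z ⟶ X) (q : Z ⟶ Z') (π : X ⟶ X') (ι' : Z' ⟶ X')
    [IsClosedImmersion ι] [IsClosedImmersion ι'] [IsAffineHom q] [IsAffineHom π]
    (hq : q ≫ fZ' = ι ≫ fX) (hπ : π ≫ fX' = fX) (hι' : ι' ≫ fX' = fZ')
    (hpo : IsPushout ((Scheme.forgetToLocallyRingedSpace ⋙ LocallyRingedSpace.forgetToSheafedSpace).map ι) ((Scheme.forgetToLocallyRingedSpace ⋙ LocallyRingedSpace.forgetToSheafedSpace).map q)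
      ((Scheme.forgetToLocallyRingedSpace ⋙ LocallyRingedSpace.forgetToSheafedSpace).map π) ((Scheme.forgetToLocallyRingedSpace ⋙ LocallyRingedSpace.forgetToSheafedSpace).map ι'))
    [Flat fX] [Flat (ι ≫ fX)] [Flat fZ']
    {T : Scheme.{u}} (g : T ⟶ S) :
    IsPushout
      ((Scheme.forgetToLocallyRingedSpace ⋙ LocallyRingedSpace.forgetToSheafedSpace).map
        ((Over.pullback g).map (Over.homMk ι rfl : Over.mk (ι ≫ fX) ⟶ Over.mk fX)).left)
      ((Scheme.forgetToLocallyRingedSpace ⋙ LocallyRingedSpace.forgetToSheafedSpace).map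
        ((Over.pullback g).map (Over.homMk q hq : Over.mk (ι ≫ fX) ⟶ Over.mk fZ')).left)
      ((Scheme.forgetToLocallyRingedSpace ⋙ LocallyRingedSpace.forgetToSheafedSpace).map
        ((Over.pullback g).map (Over.homMk π hπ : Over.mk fX ⟶ Over.mk fX')).left)
      ((Scheme.forgetToLocallyRingedSpace ⋙ LocallyRingedSpace.forgetToSheafedSpace).map
        ((Over.pullback g).map (Over.homMk ι' hι' : Over.mk fZ' ⟶ Over.mk fX')).left) := by
  have hP : IsPushout ι q π ι' := isPushout_of_sheafedSpace hpo
  haveI : IsAffineHom ι' := inferInstance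
  obtain ⟨hX, hT⟩ := charts_of_isAffineHom (ι := ι) (ξ := q) (a := π) (b := ι') hP.w
  let iO : Over.mk (ι ≫ fX) ⟶ Over.mk fX := Over.homMk ι rfl
  let qO : Over.mk (ι ≫ fX) ⟶ Over.mk fZ' := Over.homMk q hq
  let πO : Over.mk fX ⟶ Over.mk fX' := Over.homMk π hπ
  let ι'O : Over.mk fZ' ⟶ Over.mk fX' := Over.homMk ι' hι'
  haveI : IsClosedImmersion iO.left := ‹IsClosedImmersion ι›
  haveI : IsAffineHom πO.left := ‹IsAffineHom π›
  haveI : IsAffineHom ι'O.left := ‹IsAffineHom ι'›
  haveI : Flat (Over.mk (ι ≫ fX)).hom := ‹Flat (ι ≫ fX)›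
  have hP' := isPushout_overPullback_map (ι := iO) (ξ := qO) (a := πO) (b := ι'O) hX hT hP g
  have hP'' := hP'.map (Over.forget T)
  haveI : IsClosedImmersion ((Over.pullback g).map iO).left :=
    MorphismProperty.of_isPullback (P := @IsClosedImmersion)
      (isPullback_overPullback_map g iO) inferInstance
  haveI : IsAffineHom ((Over.pullback g).map πO).left :=
    MorphismProperty.of_isPullback (P := @IsAffineHom)
      (isPullback_overPullback_map g πO) inferInstance
  haveI : IsAffineHom ((Over.pullback g).map ι'O).left :=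
    MorphismProperty.of_isPullback (P := @IsAffineHom)
      (isPullback_overPullback_map g ι'O) inferInstance
  exact isPushout_sheafedSpace_of_ferrand (ι := ((Over.pullback g).map iO).left)
    (ξ := ((Over.pullback g).map qO).left) (a := ((Over.pullback g).map πO).left)
    (b := ((Over.pullback g).map ι'O).left) hP''

end Groth.Agent.S17904
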