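import Groth.Statements.S17905
import Groth.Agent.Lib.SheafedPushout24
import Groth.Agent.Lib.Ferrand24q
import Groth.Agent.Lib.MilnorEtale24b

set_option autoImplicit false
universe u
open CategoryTheory AlgebraicGeometry
open Pinch

namespace Groth.Agent.S17905

open Groth.Agent.Lib.Ferrand24 Groth.Agent.Lib.RingFibreSq24 Groth.Agent.Lib.SheafedPushout24 Groth.Agent.Lib.MilnorEtale24 CategoryTheory.Limits in
/-- Let S be a scheme and Z → X, Z → Z', X → X', Z' → X' a commutative square of S-schemes which is a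
pushout square in the category of ringed spaces, with Z → X and Z' → X' closed immersions, X → X'
affine, Z → Z' finite, flat and surjective, and X, Z, Z' flat over S. Suppose that for every T → S
the map O_T → (f_T)_* O_{X_T} induced by the base change f_T : X_T → T of X → S is an isomorphism.
Then for every T → S the map O_T → (f'_T)_* O_{X'_T} induced by the base change of X' → S is an
isomorphism. (The published lemma is stated for the pinching of a finite surjective Z → Z' whose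
fibres lie in affine opens of X, with X → S admitting a section; this row assumes X → X' only affine
and drops the affine-fibre and section conditions, which the printed proof does not use.) -/
theorem result {S X Z Z' X' : Scheme.{u}}
    (fX : X ⟶ S) (fZ' : Z' ⟶ S) (fX' : X' ⟶ S) (ι : Z ⟶ X) (q : Z ⟶ Z') (π : X ⟶ X') (ι' : Z' ⟶ X')
    [IsClosedImmersion ι] [IsClosedImmersion ι'] [IsFinite q] [Flat q] [Surjective q] [IsAffineHom π]
    (hq : q ≫ fZ' = ι ≫ fX) (hπ : π ≫ fX' = fX) (hι' : ι' ≫ fX' = fZ')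
    (hpo : IsPushout ((Scheme.forgetToLocallyRingedSpace ⋙ LocallyRingedSpace.forgetToSheafedSpace).map ι) ((Scheme.forgetToLocallyRingedSpace ⋙ LocallyRingedSpace.forgetToSheafedSpace).map q)
      ((Scheme.forgetToLocallyRingedSpace ⋙ LocallyRingedSpace.forgetToSheafedSpace).map π) ((Scheme.forgetToLocallyRingedSpace ⋙ LocallyRingedSpace.forgetToSheafedSpace).map ι'))
    [Flat fX] [Flat (ι ≫ fX)] [Flat fZ']
    (hX : ∀ (T : Scheme.{u}) (g : T ⟶ S) (U : T.Opens), IsIso ((Limits.pullback.snd fX g).app U))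
    (T : Scheme.{u}) (g : T ⟶ S) (U : T.Opens) :
    IsIso ((Limits.pullback.snd fX' g).app U) := by
  subst hπ
  subst hι'
  have hP : IsPushout ι q π ι' := isPushout_of_sheafedSpace hpo
  haveI : IsAffineHom ι' := inferInstance
  have hpair : ∀ V : X'.Opens, ι ⁻¹ᵁ π ⁻¹ᵁ V = q ⁻¹ᵁ ι' ⁻¹ᵁ V := by
    intro V
    rw [← Scheme.Hom.comp_preimage, ← Scheme.Hom.comp_preimage, hP.w]
  have hXc : ∀ x : X, ∃ k : Pair ι q, IsAffineOpen k.G ∧ IsAffineOpen k.H ∧ x ∈ k.G := by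
    intro x
    obtain ⟨_, ⟨V, hV, rfl⟩, hxV, -⟩ :=
      X'.isBasis_affineOpens.exists_subset_of_mem_open (Set.mem_univ (π x)) isOpen_univ
    exact ⟨⟨π ⁻¹ᵁ V, ι' ⁻¹ᵁ V, hpair V⟩, hV.preimage π, hV.preimage ι', hxV⟩
  have hTc : ∀ y : Z', ∃ k : Pair ι q, IsAffineOpen k.G ∧ IsAffineOpen k.H ∧ y ∈ k.H := by
    intro y
    obtain ⟨_, ⟨V, hV, rfl⟩, hyV, -⟩ :=
      X'.isBasis_affineOpens.exists_subset_of_mem_open (Set.mem_univ (ι' y)) isOpen_univ
    exact ⟨⟨π ⁻¹ᵁ V, ι' ⁻¹ᵁ V, hpair V⟩, hV.preimage π, hV.preimage ι', hyV⟩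
  haveI : Flat ((ι ≫ π) ≫ fX') := by
    rw [Category.assoc]
    infer_instance
  obtain ⟨a₁, b₁, ι₁, ξ₁, hP₁, hX₁, hT₁, hZ₁, hξ₁, ea2, eb2, ei2, ex2⟩ :=
    baseChange_flat_corner hXc hTc hP fX' g
  haveI : IsAffineHom a₁ := MorphismProperty.of_isPullback (P := @IsAffineHom) hX₁ inferInstance
  haveI : IsClosedImmersion b₁ :=
    MorphismProperty.of_isPullback (P := @IsClosedImmersion) hT₁ inferInstance
  haveI : IsAffineHom b₁ := inferInstance
  haveI : IsClosedImmersion ι₁ :=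
    MorphismProperty.of_isPullback (P := @IsClosedImmersion) hZ₁ inferInstance
  haveI : IsAffineHom q := inferInstance
  haveI : IsAffineHom ξ₁ := MorphismProperty.of_isPullback (P := @IsAffineHom) hξ₁ inferInstance
  haveI : Flat ξ₁ := MorphismProperty.of_isPullback (P := @Flat) hξ₁ inferInstance
  haveI : Surjective ξ₁ := MorphismProperty.of_isPullback (P := @Surjective) hξ₁ inferInstance
  have hpair₁ : ∀ W : (pullback fX' g).Opens, ι₁ ⁻¹ᵁ a₁ ⁻¹ᵁ W = ξ₁ ⁻¹ᵁ b₁ ⁻¹ᵁ W := by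
    intro W
    rw [← Scheme.Hom.comp_preimage, ← Scheme.Hom.comp_preimage, hP₁.w]
  have hXc₁ : ∀ x : ↥(pullback (π ≫ fX') g), ∃ k : Pair ι₁ ξ₁,
      IsAffineOpen k.G ∧ IsAffineOpen k.H ∧ x ∈ k.G := by
    intro x
    obtain ⟨_, ⟨V, hV, rfl⟩, hxV, -⟩ :=
      (pullback fX' g).isBasis_affineOpens.exists_subset_of_mem_open (Set.mem_univ (a₁ x))
        isOpen_univ
    exact ⟨⟨a₁ ⁻¹ᵁ V, b₁ ⁻¹ᵁ V, hpair₁ V⟩, hV.preimage a₁, hV.preimage b₁, hxV⟩
  have hTc₁ : ∀ y : ↥(pullback (ι' ≫ fX') g), ∃ k : Pair ι₁ ξ₁,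
      IsAffineOpen k.G ∧ IsAffineOpen k.H ∧ y ∈ k.H := by
    intro y
    obtain ⟨_, ⟨V, hV, rfl⟩, hyV, -⟩ :=
      (pullback fX' g).isBasis_affineOpens.exists_subset_of_mem_open (Set.mem_univ (b₁ y))
        isOpen_univ
    exact ⟨⟨a₁ ⁻¹ᵁ V, b₁ ⁻¹ᵁ V, hpair₁ V⟩, hV.preimage a₁, hV.preimage b₁, hyV⟩
  -- the opens
  have hVX : pullback.snd (π ≫ fX') g ⁻¹ᵁ U = a₁ ⁻¹ᵁ pullback.snd fX' g ⁻¹ᵁ U := by
    rw [← Scheme.Hom.comp_preimage, ea2]
  have hVZ' : pullback.snd (ι' ≫ fX') g ⁻¹ᵁ U = b₁ ⁻¹ᵁ pullback.snd fX' g ⁻¹ᵁ U := by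
    rw [← Scheme.Hom.comp_preimage, eb2]
  have hVZ1 : pullback.snd ((ι ≫ π) ≫ fX') g ⁻¹ᵁ U =
      ι₁ ⁻¹ᵁ pullback.snd (π ≫ fX') g ⁻¹ᵁ U := by
    rw [← Scheme.Hom.comp_preimage, ei2]
  have hVZ2 : pullback.snd ((ι ≫ π) ≫ fX') g ⁻¹ᵁ U =
      ξ₁ ⁻¹ᵁ pullback.snd (ι' ≫ fX') g ⁻¹ᵁ U := by
    rw [← Scheme.Hom.comp_preimage, ex2]
  have hbijX := (ConcreteCategory.isIso_iff_bijective _).mp (hX T g U)
  have efac : (pullback.snd fX' g).appLE U (pullback.snd fX' g ⁻¹ᵁ U) le_rfl ≫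
      a₁.appLE (pullback.snd fX' g ⁻¹ᵁ U) (pullback.snd (π ≫ fX') g ⁻¹ᵁ U) hVX.le =
      (pullback.snd (π ≫ fX') g).appLE U (pullback.snd (π ≫ fX') g ⁻¹ᵁ U) le_rfl :=
    appLE_of_comp_eq ea2 _ _ _ _ _ _
  have esq : a₁.appLE (pullback.snd fX' g ⁻¹ᵁ U) (pullback.snd (π ≫ fX') g ⁻¹ᵁ U) hVX.le ≫
      ι₁.appLE (pullback.snd (π ≫ fX') g ⁻¹ᵁ U) (pullback.snd ((ι ≫ π) ≫ fX') g ⁻¹ᵁ U) hVZ1.le =
      b₁.appLE (pullback.snd fX' g ⁻¹ᵁ U) (pullback.snd (ι' ≫ fX') g ⁻¹ᵁ U) hVZ'.le ≫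
      ξ₁.appLE (pullback.snd (ι' ≫ fX') g ⁻¹ᵁ U) (pullback.snd ((ι ≫ π) ≫ fX') g ⁻¹ᵁ U)
        hVZ2.le :=
    appLE_comp_sq hP₁.w _ _ _ _ _ _ _ _
  have hξinj := injective_appLE_of_flat_of_surjective_open ξ₁
    (pullback.snd (ι' ≫ fX') g ⁻¹ᵁ U) (pullback.snd ((ι ≫ π) ≫ fX') g ⁻¹ᵁ U) hVZ2
  rw [Scheme.Hom.app_eq_appLE] at hbijX ⊢
  rw [ConcreteCategory.isIso_iff_bijective]
  constructor
  · intro t₁ t₂ h
    apply hbijX.1
    have h1 := congr($(efac).hom t₁)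
    have h2 := congr($(efac).hom t₂)
    rw [CommRingCat.comp_apply] at h1 h2
    rw [← h1, ← h2]
    exact congrArg _ h
  · intro s
    obtain ⟨t, ht⟩ := hbijX.2
      ((a₁.appLE (pullback.snd fX' g ⁻¹ᵁ U) (pullback.snd (π ≫ fX') g ⁻¹ᵁ U) hVX.le).hom s)
    refine ⟨t, ?_⟩
    rw [← sub_eq_zero]
    -- the difference restricts to zero on both pieces
    have hα : (a₁.appLE (pullback.snd fX' g ⁻¹ᵁ U) (pullback.snd (π ≫ fX') g ⁻¹ᵁ U) hVX.le).hom
        (((pullback.snd fX' g).appLE U (pullback.snd fX' g ⁻¹ᵁ U) le_rfl).hom t - s) = 0 := by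
      rw [map_sub, sub_eq_zero, ← ht]
      exact congr($(efac).hom t)
    have hβ : (b₁.appLE (pullback.snd fX' g ⁻¹ᵁ U) (pullback.snd (ι' ≫ fX') g ⁻¹ᵁ U) hVZ'.le).hom
        (((pullback.snd fX' g).appLE U (pullback.snd fX' g ⁻¹ᵁ U) le_rfl).hom t - s) = 0 := by
      apply hξinj
      rw [map_zero]
      have h3 := congr($(esq).hom
        (((pullback.snd fX' g).appLE U (pullback.snd fX' g ⁻¹ᵁ U) le_rfl).hom t - s))
      rw [CommRingCat.comp_apply, CommRingCat.comp_apply, hα, map_zero] at h3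
      exact h3.symm
    apply section_eq_zero_of_locally
    intro x hx
    obtain ⟨_, ⟨W, hW, rfl⟩, hxW, hWV⟩ :=
      (pullback fX' g).isBasis_affineOpens.exists_subset_of_mem_open hx
        (pullback.snd fX' g ⁻¹ᵁ U).2
    refine ⟨W, hWV, hxW, ?_⟩
    have sq := sections_isFibreSq hXc₁ hTc₁ hP₁ W hW (hW.preimage a₁) (hW.preimage b₁)
      (hpair₁ W).le
    apply sq.inj
    · -- b₁ side
      have e1 : (pullback fX' g).presheaf.map (homOfLE hWV).op ≫ b₁.app W =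
          b₁.appLE (pullback.snd fX' g ⁻¹ᵁ U) (pullback.snd (ι' ≫ fX') g ⁻¹ᵁ U) hVZ'.le ≫
            (pullback (ι' ≫ fX') g).presheaf.map (homOfLE (show b₁ ⁻¹ᵁ W ≤
              pullback.snd (ι' ≫ fX') g ⁻¹ᵁ U from fun z hz => hVZ'.ge (hWV hz))).op := by
        rw [Scheme.Hom.app_eq_appLE, Scheme.Hom.map_appLE, Scheme.Hom.appLE_map]
      have e2 := congr($(e1).hom
        (((pullback.snd fX' g).appLE U (pullback.snd fX' g ⁻¹ᵁ U) le_rfl).hom t - s))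
      rw [CommRingCat.comp_apply, CommRingCat.comp_apply, hβ, map_zero] at e2
      exact e2
    · have e1 : (pullback fX' g).presheaf.map (homOfLE hWV).op ≫ a₁.app W =
          a₁.appLE (pullback.snd fX' g ⁻¹ᵁ U) (pullback.snd (π ≫ fX') g ⁻¹ᵁ U) hVX.le ≫
            (pullback (π ≫ fX') g).presheaf.map (homOfLE (show a₁ ⁻¹ᵁ W ≤
              pullback.snd (π ≫ fX') g ⁻¹ᵁ U from fun z hz => hVX.ge (hWV hz))).op := by
        rw [Scheme.Hom.app_eq_appLE, Scheme.Hom.map_appLE, Scheme.Hom.appLE_map]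
      have e2 := congr($(e1).hom
        (((pullback.snd fX' g).appLE U (pullback.snd fX' g ⁻¹ᵁ U) le_rfl).hom t - s))
      rw [CommRingCat.comp_apply, CommRingCat.comp_apply, hα, map_zero] at e2
      exact e2

end Groth.Agent.S17905
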