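import Groth.Statements.S17910
import Groth.Agent.Lib.SymTensorFlat

set_option autoImplicit false
universe u
open scoped TensorProduct
open SymTen

namespace Groth.Agent.S17910

open PiTensorProduct
open Groth.Agent.Lib.SymTensorFlat Groth.Agent.Lib.SymTensorColim

variable (R : Type u) [CommRing R] (A : Type u) [CommRing A] [Algebra R A]
  (P : Type u) [AddCommGroup P] [Module R P] [Module A P] [IsScalarTower R A P] (d : ℕ)

theorem tpowAct_tprod (α : Fin d → A) (p : Fin d → P) :
    SymTen.tpowAct R A P d (tprod R α) (tprod R p) = tprod R (fun k => α k • p k) := by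
  unfold SymTen.tpowAct
  rw [PiTensorProduct.lift.tprod, MultilinearMap.compLinearMap_apply]
  show PiTensorProduct.map _ (tprod R p) = _
  rw [PiTensorProduct.map_tprod]
  rfl

/-- equivariance of the action -/
theorem reindex_tpowAct (σ : Equiv.Perm (Fin d)) (a : ⨂[R] _ : Fin d, A) (x : ⨂[R] _ : Fin d, P) :
    reindex R (fun _ : Fin d => P) σ (SymTen.tpowAct R A P d a x) =
      SymTen.tpowAct R A P d (reindex R (fun _ : Fin d => A) σ a)
        (reindex R (fun _ : Fin d => P) σ x) := by
  induction a using PiTensorProduct.induction_on with
  | smul_tprod r α =>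
    induction x using PiTensorProduct.induction_on with
    | smul_tprod s p =>
      simp only [map_smul, LinearMap.smul_apply, reindex_tprod, tpowAct_tprod]
    | add x y hx hy =>
      simp only [map_add, hx, hy]
  | add a b ha hb =>
    simp only [map_add, LinearMap.add_apply, ha, hb]


section alt

variable {R : Type u} [CommRing R] {P : Type u} [AddCommGroup P] [Module R P] {d : ℕ}

theorem mem_altSpan_of_eq (p : Fin d → P) (i j : Fin d) (hij : i ≠ j) (h : p i = p j) :
    tprod R p ∈ SymTen.altSpan R P d :=
  Submodule.subset_span ⟨p, i, j, hij, h, rfl⟩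

/-- `p + p∘(i j)` lies in the alternating span -/
theorem pair_mem (p : Fin d → P) (i j : Fin d) (hij : i ≠ j) :
    tprod R p + tprod R (p ∘ Equiv.swap i j) ∈ SymTen.altSpan R P d := by
  classical
  set u := p i with hu
  set v := p j with hv
  have hji : j ≠ i := Ne.symm hij
  -- the four terms
  let q : P → P → Fin d → P := fun wj wi => Function.update (Function.update p j wj) i wi
  have hq_i : ∀ wj wi, q wj wi i = wi := fun wj wi => Function.update_self _ _ _
  have hq_j : ∀ wj wi, q wj wi j = wj := fun wj wi => by
    show Function.update (Function.update p j wj) i wi j = wj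
    rw [Function.update_of_ne hji, Function.update_self]
  have h1 : tprod R (q (u + v) (u + v)) =
      tprod R (q u u) + tprod R (q u v) + (tprod R (q v u) + tprod R (q v v)) := by
    have e1 : ∀ wj : P, tprod R (q wj (u + v)) = tprod R (q wj u) + tprod R (q wj v) := by
      intro wj
      exact (PiTensorProduct.tprod R (s := fun _ : Fin d => P)).map_update_add
        (Function.update p j wj) i u v
    have e2 : ∀ wi : P, tprod R (q (u + v) wi) = tprod R (q u wi) + tprod R (q v wi) := by
      intro wi
      have c1 : ∀ w : P, q w wi = Function.update (Function.update p i wi) j w := fun w =>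
        Function.update_comm hji w wi p
      rw [c1, c1, c1]
      exact (PiTensorProduct.tprod R (s := fun _ : Fin d => P)).map_update_add
        (Function.update p i wi) j u v
    rw [e1, e2, e2]
    abel
  have h2 : q v u = p := by
    show Function.update (Function.update p j v) i u = p
    rw [Function.update_eq_self, Function.update_eq_self]
  have h3 : q u v = p ∘ Equiv.swap i j := by
    funext k
    show Function.update (Function.update p j u) i v k = p (Equiv.swap i j k)
    by_cases hki : k = i
    · subst hki
      rw [Function.update_self, Equiv.swap_apply_left]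
    · by_cases hkj : k = j
      · subst hkj
        rw [Function.update_of_ne hki, Function.update_self, Equiv.swap_apply_right]
      · rw [Function.update_of_ne hki, Function.update_of_ne hkj,
          Equiv.swap_apply_of_ne_of_ne hki hkj]
  have h4 : tprod R p + tprod R (p ∘ Equiv.swap i j) =
      tprod R (q (u + v) (u + v)) - tprod R (q u u) - tprod R (q v v) := by
    rw [h1, h2, h3]
    abel
  rw [h4]
  refine Submodule.sub_mem _ (Submodule.sub_mem _ ?_ ?_) ?_
  · exact mem_altSpan_of_eq _ i j hij (by rw [hq_i, hq_j])
  · exact mem_altSpan_of_eq _ i j hij (by rw [hq_i, hq_j])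
  · exact mem_altSpan_of_eq _ i j hij (by rw [hq_i, hq_j])


/-- tensors invariant under a transposition lie in the alternating span (free case) -/
theorem inv_mem_free {r : ℕ} (b : Module.Basis (Fin r) R P) (i j : Fin d) (hij : i ≠ j)
    (y : ⨂[R] _ : Fin d, P)
    (hy : reindex R (fun _ : Fin d => P) (Equiv.swap i j) y = y) :
    y ∈ SymTen.altSpan R P d := by
  classical
  set τ := Equiv.swap i j with hτ
  have hτi : τ i = j := Equiv.swap_apply_left i j
  have hτj : τ j = i := Equiv.swap_apply_right i j
  have hττ : ∀ c : Fin d → Fin r, (c ∘ τ) ∘ τ = c := by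
    intro c
    funext k
    simp [hτ]
  have hcoord : ∀ c : Fin d → Fin r, (tbasis b d).repr y (c ∘ τ) = (tbasis b d).repr y c := by
    intro c
    have := repr_reindex b d τ y c
    rw [hy] at this
    exact this.symm
  have hBc : ∀ c : Fin d → Fin r, tbasis b d c = PiTensorProduct.tprod R (fun k => b (c k)) :=
    fun c => Basis.piTensorProduct_apply _ _
  rw [← (tbasis b d).sum_repr y]
  rw [← Finset.sum_filter_add_sum_filter_not Finset.univ (fun c : Fin d → Fin r => c i = c j)]
  apply Submodule.add_mem
  · apply Submodule.sum_mem
    intro c hc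
    apply Submodule.smul_mem
    rw [hBc]
    exact mem_altSpan_of_eq _ i j hij (by rw [(Finset.mem_filter.1 hc).2])
  · rw [← Finset.sum_filter_add_sum_filter_not
      (Finset.univ.filter (fun c : Fin d → Fin r => ¬ c i = c j)) (fun c => c i < c j)]
    simp only [Finset.filter_filter]
    have h2 : ∑ c ∈ Finset.univ.filter (fun c : Fin d → Fin r => ¬ c i = c j ∧ ¬ c i < c j),
        (tbasis b d).repr y c • tbasis b d c =
        ∑ c ∈ Finset.univ.filter (fun c : Fin d → Fin r => ¬ c i = c j ∧ c i < c j),
        (tbasis b d).repr y c • tbasis b d (c ∘ τ) := by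
      refine Finset.sum_bij' (fun c _ => c ∘ τ) (fun c _ => c ∘ τ) ?_ ?_ ?_ ?_ ?_
      · intro c hc
        simp only [Finset.mem_filter, Finset.mem_univ, true_and, Function.comp_apply, hτi, hτj]
          at hc ⊢
        obtain ⟨h1, h2⟩ := hc
        refine ⟨fun h => h1 h.symm, ?_⟩
        rcases lt_trichotomy (c i) (c j) with h | h | h
        · exact absurd h h2
        · exact absurd h h1
        · exact h
      · intro c hc
        simp only [Finset.mem_filter, Finset.mem_univ, true_and, Function.comp_apply, hτi, hτj]
          at hc ⊢
        obtain ⟨h1, h2⟩ := hc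
        exact ⟨fun h => h1 h.symm, not_lt.2 h2.le⟩
      · intro c _; exact hττ c
      · intro c _; exact hττ c
      · intro c _
        rw [hcoord, hττ]
    rw [h2, add_comm, ← Finset.sum_add_distrib]
    apply Submodule.sum_mem
    intro c _
    rw [← smul_add]
    apply Submodule.smul_mem
    rw [hBc, hBc, add_comm]
    exact pair_mem (fun k => b (c k)) i j hij

end alt


section proj

variable {R : Type u} [CommRing R] {P : Type u} [AddCommGroup P] [Module R P] {d : ℕ}

theorem map_altSpan {Q : Type u} [AddCommGroup Q] [Module R Q] (g : P →ₗ[R] Q)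
    (x : ⨂[R] _ : Fin d, P) (hx : x ∈ SymTen.altSpan R P d) :
    PiTensorProduct.map (fun _ : Fin d => g) x ∈ SymTen.altSpan R Q d := by
  have h : SymTen.altSpan R P d ≤
      (SymTen.altSpan R Q d).comap (PiTensorProduct.map (fun _ : Fin d => g)) := by
    unfold SymTen.altSpan
    rw [Submodule.span_le]
    rintro _ ⟨p, i, j, hij, hp, rfl⟩
    simp only [Submodule.comap_coe, Set.mem_preimage, SetLike.mem_coe]
    rw [PiTensorProduct.map_tprod]
    exact Submodule.subset_span ⟨fun k => g (p k), i, j, hij, by simp only [hp], rfl⟩
  exact h hx

/-- tensors invariant under a transposition lie in the alternating span (f.g. projective case) -/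
theorem inv_mem_proj [Module.Finite R P] [Module.Projective R P] (i j : Fin d) (hij : i ≠ j)
    (y : ⨂[R] _ : Fin d, P)
    (hy : reindex R (fun _ : Fin d => P) (Equiv.swap i j) y = y) :
    y ∈ SymTen.altSpan R P d := by
  obtain ⟨r, f, g, _, _, hfg⟩ := Module.Finite.exists_comp_eq_id_of_projective R P
  have h1 : PiTensorProduct.map (fun _ : Fin d => g) y ∈ SymTen.altSpan R (Fin r → R) d := by
    apply inv_mem_free (Pi.basisFun R (Fin r)) i j hij
    rw [← map_reindex_const, hy]
  have h2 := map_altSpan f _ h1
  rw [map_map_const, hfg] at h2
  have h3 : PiTensorProduct.map (fun _ : Fin d => (LinearMap.id : P →ₗ[R] P)) y = y := by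
    rw [PiTensorProduct.map_id]; rfl
  rw [h3] at h2
  exact h2

end proj

/-- Let R be a commutative ring, A a commutative R-algebra, d ≥ 0, and P an A-module that is finitely
generated projective (finite locally free) as an R-module. Let the d-fold tensor power of A over R
act on the d-fold tensor power of P over R factor by factor, and let I_d be the R-span of the pure
tensors p_1 ⊗ ⋯ ⊗ p_d with two equal factors p_i = p_j, i ≠ j (the submodule by which the tensor
power is divided to give the d-th exterior power). Then every symmetric tensor a ∈ TS^d_R(A) maps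
I_d into itself, so that TS^d_R(A) acts on the d-th exterior power of P over R. -/
theorem result (R : Type u) [CommRing R] (A : Type u) [CommRing A] [Algebra R A]
    (P : Type u) [AddCommGroup P] [Module R P] [Module A P] [IsScalarTower R A P]
    [Module.Finite R P] [Module.Projective R P] (d : ℕ)
    (a : ⨂[R] _ : Fin d, A) (ha : a ∈ SymTen.TS R A d)
    (x : ⨂[R] _ : Fin d, P) (hx : x ∈ SymTen.altSpan R P d) :
    SymTen.tpowAct R A P d a x ∈ SymTen.altSpan R P d := by
  classical
  have h : SymTen.altSpan R P d ≤
      (SymTen.altSpan R P d).comap (SymTen.tpowAct R A P d a) := by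
    unfold SymTen.altSpan
    rw [Submodule.span_le]
    rintro _ ⟨p, i, j, hij, hp, rfl⟩
    simp only [Submodule.comap_coe, Set.mem_preimage, SetLike.mem_coe]
    apply inv_mem_proj i j hij
    rw [reindex_tpowAct, (SymTen.mem_TS_iff R A d a).1 ha (Equiv.swap i j),
      PiTensorProduct.reindex_tprod]
    congr 2
    funext k
    rw [Equiv.symm_swap]
    by_cases hki : k = i
    · subst hki
      rw [Equiv.swap_apply_left, hp]
    · by_cases hkj : k = j
      · subst hkj
        rw [Equiv.swap_apply_right, hp]
      · rw [Equiv.swap_apply_of_ne_of_ne hki hkj]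
  exact h hx

end Groth.Agent.S17910
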