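import Groth.Statements.S17913
import Groth.Agent.Lib.H43GerbConj

set_option autoImplicit false
set_option backward.isDefEq.respectTransparency false
set_option backward.isDefEq.respectTransparency.types false
set_option linter.style.haveILetI false
universe u
open CategoryTheory AlgebraicGeometry
open Gerb
open CategoryTheory.Functor
open Groth.Agent.Lib.FibGrpd Groth.Agent.Lib.H43StkDescent Groth.Agent.Lib.H43GerbConj

namespace Groth.Agent.S17913


section Helpers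

universe v₂ u₂ v₁ u₁

variable {C : Type u₁} [Category.{v₁} C] {𝒳 : BasedCategory.{v₂, u₂} C} [FibCat.IsFibGrpd 𝒳.p]

/-- uniqueness of the pullback of `g` -/
theorem gc_uniq (Φ : 𝒳 ⥤ᵇ 𝒳) {x : 𝒳.obj} (G : Φ.obj x ⟶ x) [𝒳.p.IsHomLift (𝟙 (𝒳.p.obj x)) G]
    {x' : 𝒳.obj} (c : x' ⟶ x) (g' : Φ.obj x' ⟶ x') [𝒳.p.IsHomLift (𝟙 (𝒳.p.obj x')) g']
    (h : g' ≫ c = Φ.map c ≫ G) : g' = gc Φ G c := by
  haveI hc := FibCat.IsFibGrpd.isStronglyCartesian (p := 𝒳.p) c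
  apply IsStronglyCartesian.ext 𝒳.p (𝒳.p.map c) c (𝟙 (𝒳.p.obj x'))
  rw [h, gc_fac]

theorem isHomLift_from_terminal {z' t : 𝒳.obj} (c : z' ⟶ t) (T : C) (hT : 𝒳.p.obj t = T)
    (hT' : Limits.IsTerminal T) : 𝒳.p.IsHomLift (hT'.from (𝒳.p.obj z')) c := by
  subst hT
  have : hT'.from (𝒳.p.obj z') = 𝒳.p.map c := hT'.hom_ext _ _
  rw [this]; infer_instance

end Helpers

/-- Let S be a scheme, 𝒳 and 𝒴 gerbes over the big fppf site of schemes over S, φ : 𝒳 → 𝒴 and ψ : 𝒴 → 𝒳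
functors over Sch_S, and x an object of 𝒳 over S itself such that φ is surjective on automorphism
groups along x: for every object x' of 𝒳 admitting a morphism to x (every pullback of x), every
automorphism of φ(x') over the identity is φ(α) for some automorphism α of x' over the identity. Let
g : ψ(φ(x)) → x be an isomorphism lying over the identity such that conjugation by g after ψ ∘ φ is
the identity of the automorphism sheaf of x: whenever c : x' → x is a morphism of 𝒳 and g' :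
ψ(φ(x')) → x' is the morphism over the identity with ψ(φ(c)) ≫ g = g' ≫ c, every automorphism α of
x' over the identity satisfies ψ(φ(α)) ≫ g' = g' ≫ α. Then φ ∘ ψ is isomorphic to the identity on
every fibre of 𝒴: there are isomorphisms σ_z : φ(ψ(z)) → z for all objects z of 𝒴, lying over
identities and natural in morphisms lying over identities, so that φ and ψ are mutually
quasi-inverse on every fibre. (The published corollary does not assume that φ is surjective on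
automorphism groups; its proof uses that φ is full, and without that hypothesis the conclusion fails
— take for 𝒳 the base category over itself, for 𝒴 the gerbe of torsors under the group of order two,
for φ the trivial torsor and for ψ the structure functor. The published corollary also concludes
that ψ ∘ φ is isomorphic to the identity on every fibre of 𝒳; that part follows from the hypotheses
on g alone and is stated separately.) -/
theorem result (S : Scheme.{u}) (𝒳 𝒴 : AlgSt.Cat S)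
    (h𝒳 : Gerb.IsGerbe (QuotSh.J Scheme.fppfPrecoverage S) 𝒳)
    (h𝒴 : Gerb.IsGerbe (QuotSh.J Scheme.fppfPrecoverage S) 𝒴)
    (φ : 𝒳 ⥤ᵇ 𝒴) (ψ : 𝒴 ⥤ᵇ 𝒳) (x : 𝒳.obj) (hx : 𝒳.p.obj x = Over.mk (𝟙 S))
    (hφ : ∀ (x' : 𝒳.obj) (c : x' ⟶ x), Function.Surjective (Gerb.autMap φ x'))
    (g : ψ.obj (φ.obj x) ⟶ x) [IsIso g] (hg : 𝒳.p.IsHomLift (𝟙 (𝒳.p.obj x)) g)
    (hconj : ∀ (x' : 𝒳.obj) (c : x' ⟶ x) (g' : ψ.obj (φ.obj x') ⟶ x'), 𝒳.p.IsHomLift (𝟙 (𝒳.p.obj x')) g' →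
      ψ.map (φ.map c) ≫ g = g' ≫ c → ∀ α : Gerb.AutO x', ψ.map (φ.map α.hom.1) ≫ g' = g' ≫ α.hom.1) :
    ∃ σ : ∀ z : 𝒴.obj, φ.obj (ψ.obj z) ⟶ z,
      (∀ z, IsIso (σ z) ∧ 𝒴.p.IsHomLift (𝟙 (𝒴.p.obj z)) (σ z)) ∧
      (∀ (z z' : 𝒴.obj) (f : z ⟶ z'), 𝒴.p.IsHomLift (𝟙 (𝒴.p.obj z)) f →
        φ.map (ψ.map f) ≫ σ z' = σ z ≫ f) := by
  haveI := h𝒳.1.1
  haveI := h𝒴.1.1
  haveI := hg
  let Ψ : 𝒳 ⥤ᵇ 𝒳 := BasedFunctor.comp φ ψ
  let Φ : 𝒴 ⥤ᵇ 𝒴 := BasedFunctor.comp ψ φ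
  have hTX : Limits.IsTerminal (𝒳.p.obj x) := by
    rw [hx]; exact Over.mkIdTerminal
  have hxY : 𝒴.p.obj (φ.obj x) = 𝒳.p.obj x := φ.w_obj x
  have hTY : Limits.IsTerminal (𝒴.p.obj (φ.obj x)) := by
    rw [hxY]; exact hTX
  let G : Φ.obj (φ.obj x) ⟶ φ.obj x := φ.map g
  haveI hG : 𝒴.p.IsHomLift (𝟙 (𝒴.p.obj (φ.obj x))) G := by
    rw [hxY]; infer_instance
  -- the conjugation condition for `Ψ`
  have conjΨ : ∀ (x' : 𝒳.obj) (c : x' ⟶ x) (α : Gerb.AutO x'),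
      Ψ.map α.hom.1 ≫ gc Ψ g c = gc Ψ g c ≫ α.hom.1 := fun x' c α =>
    hconj x' c (gc Ψ g c) inferInstance (gc_fac Ψ g c).symm α
  -- compatibility of pullbacks of `g` with `φ`
  have hγ : ∀ (x' : 𝒳.obj) (c' : x' ⟶ x), gc Φ G (φ.map c') = φ.map (gc Ψ g c') := by
    intro x' c'
    symm
    haveI : 𝒴.p.IsHomLift (𝟙 (𝒴.p.obj (φ.obj x'))) (φ.map (gc Ψ g c')) := by
      rw [φ.w_obj x']; infer_instance
    apply gc_uniq Φ G (φ.map c') (φ.map (gc Ψ g c'))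
    rw [← φ.map_comp, gc_fac, φ.map_comp]
    rfl
  refine exists_fiberwise_iso Φ G (QuotSh.J Scheme.fppfPrecoverage S) h𝒴.1 hTY h𝒴.2.2 ?_
  intro z' c β hβ
  haveI := hβ
  -- reduce to an object in the image of `φ`
  set U := 𝒴.p.obj z' with hU
  haveI hc : 𝒴.p.IsHomLift (hTX.from U) c := isHomLift_from_terminal c _ hxY hTX
  obtain ⟨x', c', hc'⟩ := FibCat.IsFibGrpd.exists_lift (p := 𝒳.p) (x := x) (hTX.from U)
  haveI hφc' : 𝒴.p.IsHomLift (hTX.from U) (φ.map c') := inferInstance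
  obtain ⟨ι, hι, hιfac⟩ := exists_iso_of_isHomLift (hTX.from U) (φ.map c') c
  haveI hιinv : 𝒴.p.IsHomLift (𝟙 U) ι.inv := IsHomLift.lift_id_inv 𝒴.p U ι
  have hx'U : 𝒴.p.obj (φ.obj x') = U := IsHomLift.domain_eq 𝒴.p (hTX.from U) (φ.map c')
  have hx'U' : 𝒳.p.obj x' = U := IsHomLift.domain_eq 𝒳.p (hTX.from U) c'
  let β' : φ.obj x' ⟶ φ.obj x' := ι.inv ≫ β ≫ ι.hom
  have hβ' : 𝒴.p.IsHomLift (𝟙 U) β' := by
    have : 𝒴.p.IsHomLift (𝟙 U ≫ 𝟙 U ≫ 𝟙 U) (ι.inv ≫ β ≫ ι.hom) := inferInstance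
    simpa using this
  have hβ'' : 𝒴.p.IsHomLift (𝟙 (𝒴.p.obj (φ.obj x'))) β' := by
    rw [hx'U]; exact hβ'
  haveI : IsIso β' := isIso_of_isHomLift_isIso 𝒴.p (𝟙 U) β'
  haveI hinv : 𝒴.p.IsHomLift (𝟙 (𝒴.p.obj (φ.obj x'))) (inv β') := inferInstance
  let βA : Gerb.AutO (φ.obj x') :=
    { hom := ⟨β', hβ''⟩
      inv := ⟨inv β', hinv⟩
      hom_inv_id := Subtype.ext (IsIso.hom_inv_id β')
      inv_hom_id := Subtype.ext (IsIso.inv_hom_id β') }
  obtain ⟨α, hα⟩ := hφ x' c' βA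
  have hα' : φ.map α.hom.1 = β' := by
    have := congrArg (fun b : Gerb.AutO (φ.obj x') => b.hom.1) hα
    exact this
  -- the conjugation identity on `φ x'`
  let γ := gc Φ G (φ.map c')
  have e1 : Φ.map β' ≫ γ = γ ≫ β' := by
    have := congrArg (fun m => φ.map m) (conjΨ x' c' α)
    simp only [Functor.map_comp] at this
    change φ.map (ψ.map (φ.map α.hom.1)) ≫ φ.map (gc Ψ g c') =
      φ.map (gc Ψ g c') ≫ φ.map α.hom.1 at this
    rw [hα', ← hγ] at this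
    exact this
  -- transport along `ι`
  have e2 : Φ.map ι.hom ≫ γ = gc Φ G c ≫ ι.hom := by
    have := gc_comp Φ G ι.hom (φ.map c')
    rw [hιfac] at this
    exact this
  have e3 : gc Φ G c = Φ.map ι.hom ≫ γ ≫ ι.inv := by
    rw [← Category.assoc, e2, Category.assoc, Iso.hom_inv_id, Category.comp_id]
  have e4 : β = ι.hom ≫ β' ≫ ι.inv := by
    simp only [β', Category.assoc, Iso.hom_inv_id, Category.comp_id, Iso.hom_inv_id_assoc]
  have e5 : Φ.map ι.inv ≫ Φ.map ι.hom = 𝟙 _ := by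
    rw [← Φ.map_comp, Iso.inv_hom_id]; exact Φ.map_id _
  calc Φ.map β ≫ gc Φ G c
      = Φ.map ι.hom ≫ Φ.map β' ≫ (Φ.map ι.inv ≫ Φ.map ι.hom) ≫ γ ≫ ι.inv := by
        rw [e3, e4, Φ.map_comp, Φ.map_comp]; simp only [Category.assoc]
    _ = Φ.map ι.hom ≫ (Φ.map β' ≫ γ) ≫ ι.inv := by
        rw [e5, Category.id_comp]; simp only [Category.assoc]
    _ = Φ.map ι.hom ≫ γ ≫ β' ≫ ι.inv := by rw [e1]; simp only [Category.assoc]
    _ = gc Φ G c ≫ β := by
        rw [e3, e4]; simp only [Category.assoc, Iso.inv_hom_id_assoc]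

end Groth.Agent.S17913
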