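import Groth.Statements.S17933
import Mathlib.RingTheory.AdjoinRoot
import Mathlib.LinearAlgebra.FreeModule.PID
import Mathlib.RingTheory.Noetherian.Basic

set_option autoImplicit false
universe u

namespace Groth.Agent.S17933

open Polynomial

theorem z_pow_n (R : Type u) [CommRing R] (n : ℕ) : MultCrv.z R n ^ n = 0 := by
  change (Ideal.Quotient.mk (Ideal.span {(X : R[X]) ^ n}) X) ^ n = 0
  rw [← map_pow, Ideal.Quotient.eq_zero_iff_mem]
  exact Ideal.subset_span (Set.mem_singleton _)

theorem finite_R (R : Type u) [CommRing R] (n : ℕ) (M : Type u) [AddCommGroup M]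
    [Module (MultCrv.Rn R n) M] [Module R M] [IsScalarTower R (MultCrv.Rn R n) M]
    [Module.Finite (MultCrv.Rn R n) M] : Module.Finite R M := by
  have hfinA : Module.Finite R (MultCrv.Rn R n) := (Polynomial.monic_X_pow n).finite_quotient
  exact Module.Finite.trans (MultCrv.Rn R n) M

theorem result (R : Type u) [CommRing R] [IsDomain R] [IsDiscreteValuationRing R] (n : ℕ) (hn : 1 ≤ n) (M : Type u) [AddCommGroup M] [Module (MultCrv.Rn R n) M] [Module R M] [IsScalarTower R (MultCrv.Rn R n) M] [Module.Finite (MultCrv.Rn R n) M] : Module.IsTorsionFree R M ↔ Module.Free R ↥(MultCrv.filt2 R n M 1) := by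
  have hfinM : Module.Finite R M := finite_R R n M
  constructor
  · intro htf
    have h1 : Module.IsTorsionFree R ↥(MultCrv.filt2 R n M 1) :=
      Function.Injective.moduleIsTorsionFree (fun x : ↥(MultCrv.filt2 R n M 1) => (x : M))
        Subtype.val_injective (fun r m => rfl)
    have h2 : Module.Finite R ↥(MultCrv.filt2 R n M 1) :=
      Module.Finite.of_injective ((MultCrv.filt2 R n M 1).subtype.restrictScalars R)
        Subtype.val_injective
    exact Module.free_of_finite_type_torsion_free'
  · intro hfree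
    refine ⟨fun r hr m₁ m₂ hm => ?_⟩
    have hr0 : r ≠ 0 := hr.ne_zero
    have hm' : r • (m₁ - m₂) = 0 := by
      rw [smul_sub]; exact sub_eq_zero.2 hm
    by_contra hne
    have hm0 : m₁ - m₂ ≠ 0 := sub_ne_zero.2 hne
    classical
    have hex : ∃ j, MultCrv.z R n ^ j • (m₁ - m₂) = 0 := ⟨n, by rw [z_pow_n]; exact zero_smul (MultCrv.Rn R n) (m₁ - m₂)⟩
    have hj0 : Nat.find hex ≠ 0 := by
      intro h0
      have := Nat.find_spec hex
      rw [h0, pow_zero, one_smul] at this
      exact hm0 this
    obtain ⟨j, hj⟩ : ∃ j, Nat.find hex = j + 1 := ⟨Nat.find hex - 1, by omega⟩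
    have ht0 : MultCrv.z R n ^ j • (m₁ - m₂) ≠ 0 := Nat.find_min hex (by omega)
    have htz : MultCrv.z R n ^ 1 • (MultCrv.z R n ^ j • (m₁ - m₂)) = 0 := by
      rw [smul_smul, ← pow_add, add_comm, ← hj]
      exact Nat.find_spec hex
    have htmem : MultCrv.z R n ^ j • (m₁ - m₂) ∈ MultCrv.filt2 R n M 1 := by
      rw [MultCrv.filt2, Submodule.mem_torsionBy_iff]
      exact htz
    have hrt : r • (⟨_, htmem⟩ : ↥(MultCrv.filt2 R n M 1)) = 0 := by
      apply Subtype.ext
      change r • (MultCrv.z R n ^ j • (m₁ - m₂)) = 0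
      rw [smul_comm, hm', smul_zero]
    have htf : Module.IsTorsionFree R ↥(MultCrv.filt2 R n M 1) := inferInstance
    rcases smul_eq_zero.1 hrt with h | h
    · exact hr0 h
    · exact ht0 (congrArg Subtype.val h)

end Groth.Agent.S17933
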