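import Groth.Statements.S17934
import Groth.Agent.S17933
import Mathlib.RingTheory.AdjoinRoot
import Mathlib.LinearAlgebra.FreeModule.PID
import Mathlib.RingTheory.Noetherian.Basic

set_option autoImplicit false
universe u

namespace Groth.Agent.S17934

open Polynomial

theorem result (R : Type u) [CommRing R] [IsDomain R] [IsDiscreteValuationRing R] (n : ℕ) (hn : 1 ≤ n) (M : Type u) [AddCommGroup M] [Module (MultCrv.Rn R n) M] [Module R M] [IsScalarTower R (MultCrv.Rn R n) M] [Module.Finite (MultCrv.Rn R n) M] [Module.IsTorsionFree R M] (i : ℕ) (hi : 1 ≤ i) (hin : i ≤ n) : Module.Free R (MultCrv.G2 R n M i) := by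
  have hfinM : Module.Finite R M := Groth.Agent.S17933.finite_R R n M
  have h2 : Module.Finite R ↥(MultCrv.filt2 R n M i) :=
    Module.Finite.of_injective ((MultCrv.filt2 R n M i).subtype.restrictScalars R)
      Subtype.val_injective
  have h3 : Module.Finite R (MultCrv.G2 R n M i) :=
    Module.Finite.of_surjective
      ((Submodule.mkQ (Submodule.comap (MultCrv.filt2 R n M i).subtype
        (MultCrv.filt2 R n M (i - 1)))).restrictScalars R)
      (Submodule.mkQ_surjective _)
  have h4 : Module.IsTorsionFree R (MultCrv.G2 R n M i) := by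
    refine ⟨fun r hr q₁ q₂ hq => ?_⟩
    have hr0 : r ≠ 0 := hr.ne_zero
    obtain ⟨u₁, rfl⟩ := Submodule.Quotient.mk_surjective _ q₁
    obtain ⟨u₂, rfl⟩ := Submodule.Quotient.mk_surjective _ q₂
    have hq' : Submodule.Quotient.mk (p := Submodule.comap (MultCrv.filt2 R n M i).subtype
        (MultCrv.filt2 R n M (i - 1))) (r • u₁) = Submodule.Quotient.mk (r • u₂) := hq
    rw [Submodule.Quotient.eq, Submodule.mem_comap] at hq' ⊢
    rw [MultCrv.filt2, Submodule.mem_torsionBy_iff] at hq' ⊢
    have h5 : r • (MultCrv.z R n ^ (i - 1) • ((u₁ : M) - (u₂ : M))) = 0 := by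
      rw [smul_comm]
      have : (MultCrv.filt2 R n M i).subtype (r • u₁ - r • u₂) = r • ((u₁ : M) - (u₂ : M)) := by
        rw [smul_sub]; rfl
      rw [← this]
      exact hq'
    have h6 := (smul_eq_zero.1 h5).resolve_left hr0
    exact h6
  exact Module.free_of_finite_type_torsion_free'

end Groth.Agent.S17934
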