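import Groth.Statements.S17935
import Groth.Agent.Lib.MultCrvDual2

set_option autoImplicit false
universe u
open MultCrv

namespace Groth.Agent.S17935

/-- Let R be a discrete valuation ring, n ≥ 1, A = R[X]/(X^n), and M a finitely generated A-module. Then
M is reflexive over A (the evaluation map into the double A-dual is bijective) if and only if M is
torsion-free as an R-module. (Statement at a closed point of the sheaf statement on a primitive
multiple curve of multiplicity n, whose local rings are of the form R[X]/(X^n) with R the local ring
of the reduced smooth curve, torsion-freeness of a coherent sheaf there meaning no nonzero subsheaf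
with finite support; stated for every discrete valuation ring R.) -/
theorem result (R : Type u) [CommRing R] [IsDomain R] [IsDiscreteValuationRing R] (n : ℕ) (hn : 1 ≤ n) (M : Type u) [AddCommGroup M] [Module (MultCrv.Rn R n) M] [Module R M] [IsScalarTower R (MultCrv.Rn R n) M] [Module.Finite (MultCrv.Rn R n) M] : Module.IsReflexive (MultCrv.Rn R n) M ↔ Module.IsTorsionFree R M := by
  have htfA := Groth.Agent.Lib.MultCrvDual.isTorsionFree_Rn R n
  have hfinA := Groth.Agent.Lib.MultCrvDual.finite_Rn R n
  have hn1 : n - 1 < n := by omega
  constructor
  · -- reflexive modules are torsion-free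
    intro hrefl
    refine ⟨fun r hr m₁ m₂ h => ?_⟩
    apply (Module.bijective_dual_eval (MultCrv.Rn R n) M).1
    apply LinearMap.ext
    intro l
    rw [Module.Dual.eval_apply, Module.Dual.eval_apply]
    have h1 : r • l m₁ = r • l m₂ := by
      rw [← LinearMap.map_smul_of_tower, ← LinearMap.map_smul_of_tower]
      exact congrArg l h
    exact Module.IsTorsionFree.isSMulRegular (M := MultCrv.Rn R n) hr h1
  · -- torsion-free modules are reflexive
    intro htf
    have hfinM : Module.Finite R M := Module.Finite.trans (MultCrv.Rn R n) M
    have hfreeM : Module.Free R M := inferInstance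
    have hR := Module.bijective_dual_eval R M
    refine ⟨⟨?_, ?_⟩⟩
    · -- injective
      rw [injective_iff_map_eq_zero]
      intro m hm
      apply (injective_iff_map_eq_zero _).mp hR.1
      apply LinearMap.ext
      intro lam
      rw [Module.Dual.eval_apply, LinearMap.zero_apply,
        ← Groth.Agent.Lib.MultCrvDual.toR_lift hn lam, Groth.Agent.Lib.MultCrvDual.toR_apply]
      have := LinearMap.congr_fun hm (Groth.Agent.S17941.lift lam)
      rw [Module.Dual.eval_apply, LinearMap.zero_apply] at this
      rw [this, map_zero]
    · -- surjective
      intro ξ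
      let ξ' : Module.Dual R (Module.Dual R M) :=
        { toFun := fun lam => Groth.Agent.S17941.cf R n (n - 1) hn1
            (ξ (Groth.Agent.S17941.lift lam))
          map_add' := fun lam mu => by
            rw [Groth.Agent.Lib.MultCrvDual.lift_add, map_add, map_add]
          map_smul' := fun r lam => by
            rw [Groth.Agent.Lib.MultCrvDual.lift_smul, map_smul, algebraMap_smul, map_smul]
            rfl }
      obtain ⟨m, hm⟩ := hR.2 ξ'
      have hm' : ∀ lam : M →ₗ[R] R, lam m =
          Groth.Agent.S17941.cf R n (n - 1) hn1 (ξ (Groth.Agent.S17941.lift lam)) := by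
        intro lam
        have := LinearMap.congr_fun hm lam
        rw [Module.Dual.eval_apply] at this
        exact this
      refine ⟨m, ?_⟩
      apply LinearMap.ext
      intro l
      rw [Module.Dual.eval_apply]
      apply Groth.Agent.S17941.eq_of_cf
      intro j hj
      have key : ∀ a : MultCrv.Rn R n, Groth.Agent.S17941.cf R n j hj a =
          Groth.Agent.S17941.cf R n (n - 1) hn1 (MultCrv.z R n ^ (n - 1 - j) * a) := by
        intro a
        rw [Groth.Agent.S17941.cf_z_pow_mul, dif_pos (by omega)]
        have hkey : n - 1 - (n - 1 - j) = j := by omega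
        congr 2
        exact hkey.symm
      rw [key (l m), key (ξ l)]
      have h1 : MultCrv.z R n ^ (n - 1 - j) * ξ l = ξ (MultCrv.z R n ^ (n - 1 - j) • l) := by
        rw [map_smul, smul_eq_mul]
      have h2 : MultCrv.z R n ^ (n - 1 - j) * l m = (MultCrv.z R n ^ (n - 1 - j) • l) m := by
        rw [LinearMap.smul_apply, smul_eq_mul]
      rw [h1, h2, ← Groth.Agent.Lib.MultCrvDual.lift_toR hn (MultCrv.z R n ^ (n - 1 - j) • l),
        ← hm', Groth.Agent.Lib.MultCrvDual.lift_toR, Groth.Agent.Lib.MultCrvDual.toR_apply]

end Groth.Agent.S17935
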