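import Groth.Statements.S17937
import Groth.Agent.Lib.MultCrvDual2

set_option autoImplicit false
universe u
open MultCrv

namespace Groth.Agent.S17937

open CategoryTheory in
/-- Let R be a discrete valuation ring, n ≥ 1, A = R[X]/(X^n), and M a finitely generated A-module with
Ext^1_A(M, A) = 0. Then M is torsion-free as an R-module. (Statement at a closed point of the sheaf
statement on a primitive multiple curve of multiplicity n, whose local rings are of the form
R[X]/(X^n) with R the local ring of the reduced smooth curve; stated for every discrete valuation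
ring R.) -/
theorem result (R : Type u) [CommRing R] [IsDomain R] [IsDiscreteValuationRing R] (n : ℕ) (hn : 1 ≤ n) (M : Type u) [AddCommGroup M] [Module (MultCrv.Rn R n) M] [Module R M] [IsScalarTower R (MultCrv.Rn R n) M] [Module.Finite (MultCrv.Rn R n) M] (h : Subsingleton (Abelian.Ext (ModuleCat.of (MultCrv.Rn R n) M) (ModuleCat.of (MultCrv.Rn R n) (MultCrv.Rn R n)) 1)) : Module.IsTorsionFree R M := by
  classical
  obtain ⟨c⟩ := Groth.Agent.Lib.MultCrvDual.nonempty_cover R n M
  have hfinK := c.finite_K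
  have htfK := c.isTorsionFree_K
  have htfA := Groth.Agent.Lib.MultCrvDual.isTorsionFree_Rn R n
  have hfinA := Groth.Agent.Lib.MultCrvDual.finite_Rn R n
  -- every `A`-linear form on `K` extends to the free module
  have hext : ∀ φ : c.K →ₗ[Rn R n] Rn R n, ∃ ψ : (Fin c.m → Rn R n) →ₗ[Rn R n] Rn R n,
      ∀ k : c.K, ψ k = φ k := by
    intro φ
    have h0 : c.shortExact.extClass.comp (Abelian.Ext.mk₀ (ModuleCat.ofHom φ)) (add_comm 1 0) = 0 :=
      Subsingleton.elim _ _
    rw [c.extClass_comp_mk₀_eq_zero_iff] at h0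
    obtain ⟨ψ, hψ⟩ := h0
    refine ⟨ψ.hom, fun k => ?_⟩
    have := congrArg (fun g => g.hom k) hψ
    exact this
  -- hence every `R`-linear form on `K` extends
  have hextR : ∀ lam : c.K →ₗ[R] R, ∃ mu : (Fin c.m → Rn R n) →ₗ[R] R, ∀ k : c.K, mu k = lam k := by
    intro lam
    obtain ⟨ψ, hψ⟩ := hext (Groth.Agent.S17941.lift lam)
    refine ⟨Groth.Agent.Lib.MultCrvDual.toR hn ψ, fun k => ?_⟩
    rw [Groth.Agent.Lib.MultCrvDual.toR_apply, hψ, ← Groth.Agent.Lib.MultCrvDual.toR_apply hn,
      Groth.Agent.Lib.MultCrvDual.toR_lift]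
  have hfinRK : Module.Finite R c.K := Module.Finite.trans (Rn R n) c.K
  have hfreeK : Module.Free R c.K := inferInstance
  let b := Module.Free.chooseBasis R c.K
  choose mu hmu using fun i => hextR (b.coord i)
  -- saturation of `K`
  have hsat : ∀ (r : R) (f : Fin c.m → Rn R n), r ≠ 0 → r • f ∈ c.K → f ∈ c.K := by
    intro r f hr hrf
    have h1 := b.sum_repr ⟨r • f, hrf⟩
    have h2 : ∀ i, b.repr ⟨r • f, hrf⟩ i = r * mu i f := by
      intro i
      have := hmu i ⟨r • f, hrf⟩
      rw [Module.Basis.coord_apply] at this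
      rw [← this, map_smul, smul_eq_mul]
    have h3 : r • f = r • ∑ i, mu i f • (b i : Fin c.m → Rn R n) := by
      have h1' : ((∑ i, b.repr ⟨r • f, hrf⟩ i • b i : c.K) : Fin c.m → Rn R n) = r • f :=
        congrArg Subtype.val h1
      rw [← h1', Submodule.coe_sum, Finset.smul_sum]
      refine Finset.sum_congr rfl fun i _ => ?_
      rw [Submodule.coe_smul_of_tower, h2, mul_smul]
    have h4 : f = ∑ i, mu i f • (b i : Fin c.m → Rn R n) :=
      (Module.IsTorsionFree.isSMulRegular (M := Fin c.m → Rn R n)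
        (IsRegular.of_ne_zero hr)) h3
    rw [h4]
    exact Submodule.sum_mem _ fun i _ => Submodule.smul_of_tower_mem _ _ (b i).2
  refine ⟨fun r hr m₁ m₂ h => ?_⟩
  have hr0 : r ≠ 0 := hr.ne_zero
  rw [← sub_eq_zero]
  obtain ⟨f, hf⟩ := c.surj (m₁ - m₂)
  have hrf : r • f ∈ c.K := by
    rw [LinearMap.mem_ker, ← algebraMap_smul (Rn R n) r f, map_smul, hf, algebraMap_smul,
      smul_sub, sub_eq_zero]
    exact h
  have := hsat r f hr0 hrf
  rw [← hf]
  exact this

end Groth.Agent.S17937
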