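import Groth.Statements.S17940
import Groth.Agent.S17945
import Groth.Agent.S17946

set_option autoImplicit false
universe u
open MultCrv

namespace Groth.Agent.S17940

open Polynomial

section Helpers

variable (R : Type u) [CommRing R] (n : ℕ)

lemma z_pow_n : z R n ^ n = 0 := Groth.Agent.S17945.z_pow_n R n

lemma mem_filt {M : Type*} [AddCommGroup M] [Module (Rn R n) M] (j : ℕ) (u : M) :
    u ∈ filt R n M j ↔ ∃ m : M, z R n ^ j • m = u := by
  simp only [filt, LinearMap.mem_range, LinearMap.smul_apply, LinearMap.id_apply]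

lemma mem_filt2 {M : Type*} [AddCommGroup M] [Module (Rn R n) M] (j : ℕ) (x : M) :
    x ∈ filt2 R n M j ↔ z R n ^ j • x = 0 := by
  simp only [filt2, Submodule.mem_torsionBy_iff]

/-- Annihilator of `z^k` in `R[X]/(X^n)` is `(z^(n-k))`. -/
lemma z_pow_mul_eq_zero_iff [IsDomain R] (k : ℕ) (hk : k ≤ n) (a : Rn R n) :
    z R n ^ k * a = 0 ↔ ∃ b, a = z R n ^ (n - k) * b := by
  constructor
  · intro h
    obtain ⟨p, rfl⟩ := Ideal.Quotient.mk_surjective a
    have h1 : (Ideal.Quotient.mk (Ideal.span {(X : R[X]) ^ n})) (X ^ k * p) = 0 := by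
      rw [map_mul, map_pow]; exact h
    rw [Ideal.Quotient.eq_zero_iff_mem, Ideal.mem_span_singleton] at h1
    have h2 : (X : R[X]) ^ n = X ^ k * X ^ (n - k) := by
      rw [← pow_add]; congr 1; omega
    rw [h2, mul_dvd_mul_iff_left (pow_ne_zero k X_ne_zero)] at h1
    obtain ⟨q, rfl⟩ := h1
    exact ⟨Ideal.Quotient.mk _ q, by rw [map_mul, map_pow]⟩
  · rintro ⟨b, rfl⟩
    rw [← mul_assoc, ← pow_add, show k + (n - k) = n by omega, z_pow_n, zero_mul]

variable (m : Fin n → ℕ)

/-- The free module `⊕_i A^(m i)`. -/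
abbrev Fr : Type u := (i : Fin n) → Fin (m i) → Rn R n

/-- The standard projection `⊕ A^(m i) → ⊕ (A/z^(i+1))^(m i)`. -/
noncomputable def proj : Fr R n m →ₗ[Rn R n] QFModel R n m :=
  (QFModel.equivPi R n m).symm.toLinearMap ∘ₗ
    (LinearMap.pi fun i => LinearMap.pi fun k =>
      (Submodule.mkQ (Ideal.span {z R n ^ (i.1 + 1)})) ∘ₗ LinearMap.proj k ∘ₗ LinearMap.proj i)

lemma proj_apply (f : Fr R n m) (i : Fin n) (k : Fin (m i)) :
    QFModel.equivPi R n m (proj R n m f) i k
      = Ideal.Quotient.mk (Ideal.span {z R n ^ (i.1 + 1)}) (f i k) := rfl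

lemma proj_surjective : Function.Surjective (proj R n m) := by
  intro g
  have : ∀ i k, ∃ a : Rn R n, Ideal.Quotient.mk (Ideal.span {z R n ^ (i.1 + 1)}) a
      = QFModel.equivPi R n m g i k :=
    fun i k => Ideal.Quotient.mk_surjective (QFModel.equivPi R n m g i k)
  choose f hf using this
  refine ⟨f, ?_⟩
  apply (QFModel.equivPi R n m).injective
  funext i k
  rw [proj_apply, hf]

lemma mem_ker_proj (f : Fr R n m) :
    f ∈ LinearMap.ker (proj R n m) ↔ ∀ i k, ∃ b, f i k = z R n ^ (i.1 + 1) * b := by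
  rw [LinearMap.mem_ker, ← LinearEquiv.map_eq_zero_iff (QFModel.equivPi R n m)]
  constructor
  · intro h i k
    have h1 : QFModel.equivPi R n m (proj R n m f) i k = 0 := by rw [h]; rfl
    rw [proj_apply, Ideal.Quotient.eq_zero_iff_mem, Ideal.mem_span_singleton] at h1
    exact h1
  · intro h
    funext i k
    rw [proj_apply]
    show _ = (0 : Oi R n (i.1 + 1))
    rw [Ideal.Quotient.eq_zero_iff_mem, Ideal.mem_span_singleton]
    exact h i k

lemma ker_proj_le_filt : LinearMap.ker (proj R n m) ≤ filt R n (Fr R n m) 1 := by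
  intro f hf
  rw [mem_ker_proj] at hf
  choose b hb using hf
  rw [mem_filt]
  refine ⟨fun i k => z R n ^ i.1 * b i k, ?_⟩
  funext i k
  rw [hb i k, pow_one, pow_succ']
  show z R n * (z R n ^ i.1 * b i k) = _
  rw [mul_assoc]

/-- Reversed index. -/
def ri (j : Fin n) (hj : j.1 + 1 < n) : Fin n := ⟨n - 2 - j.1, by omega⟩

lemma ri_val (j : Fin n) (hj : j.1 + 1 < n) : (ri n j hj).1 = n - 2 - j.1 := rfl

lemma ri_lt (j : Fin n) (hj : j.1 + 1 < n) : (ri n j hj).1 + 1 < n := by
  rw [ri_val]; omega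

lemma ri_ri (j : Fin n) (hj : j.1 + 1 < n) : ri n (ri n j hj) (ri_lt n j hj) = j := by
  apply Fin.ext
  rw [ri_val, ri_val]; omega

lemma rev_eq (j : Fin n) (hj : j.1 + 1 < n) : revType n m j = m (ri n j hj) := by
  unfold revType
  rw [dif_pos hj]
  rfl

lemma rev_eq_zero (j : Fin n) (hj : ¬ j.1 + 1 < n) : revType n m j = 0 := by
  unfold revType
  rw [dif_neg hj]

lemma rev_ri (i : Fin n) (hi : i.1 + 1 < n) : revType n m (ri n i hi) = m i := by
  rw [rev_eq n m _ (ri_lt n i hi), ri_ri]

lemma dep_congr {m' : Fin n → ℕ} (g : (i : Fin n) → Fin (m' i) → Rn R n) {i i' : Fin n}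
    (e : i = i') (k : Fin (m' i)) (k' : Fin (m' i')) (hk : k.1 = k'.1) : g i k = g i' k' := by
  subst e
  congr 1
  exact Fin.ext hk

/-- The map `⊕_j A^(rev j) → ⊕_i A^(m i)`, multiplication by `z^(i+1)` on the block `i`. -/
noncomputable def Psi : Fr R n (revType n m) →ₗ[Rn R n] Fr R n m where
  toFun h := fun i k =>
    if hi : i.1 + 1 < n then
      z R n ^ (i.1 + 1) * h (ri n i hi) (Fin.cast (rev_ri n m i hi).symm k)
    else 0
  map_add' h h' := by
    funext i k
    by_cases hi : i.1 + 1 < n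
    · simp only [dif_pos hi, Pi.add_apply, mul_add]
    · simp only [dif_neg hi, Pi.add_apply, add_zero]
  map_smul' a h := by
    funext i k
    by_cases hi : i.1 + 1 < n
    · simp only [dif_pos hi, Pi.smul_apply, smul_eq_mul, RingHom.id_apply]
      ring
    · simp only [dif_neg hi, Pi.smul_apply, smul_zero]

lemma Psi_apply_pos (h : Fr R n (revType n m)) (i : Fin n) (k : Fin (m i)) (hi : i.1 + 1 < n) :
    Psi R n m h i k
      = z R n ^ (i.1 + 1) * h (ri n i hi) (Fin.cast (rev_ri n m i hi).symm k) := by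
  show (if hi : i.1 + 1 < n then
      z R n ^ (i.1 + 1) * h (ri n i hi) (Fin.cast (rev_ri n m i hi).symm k) else 0) = _
  rw [dif_pos hi]

lemma Psi_apply_neg (h : Fr R n (revType n m)) (i : Fin n) (k : Fin (m i)) (hi : ¬ i.1 + 1 < n) :
    Psi R n m h i k = 0 := by
  show (if hi : i.1 + 1 < n then
      z R n ^ (i.1 + 1) * h (ri n i hi) (Fin.cast (rev_ri n m i hi).symm k) else 0) = _
  rw [dif_neg hi]

lemma range_Psi [IsDomain R] : LinearMap.range (Psi R n m) = LinearMap.ker (proj R n m) := by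
  apply le_antisymm
  · rintro _ ⟨h, rfl⟩
    rw [mem_ker_proj]
    intro i k
    by_cases hi : i.1 + 1 < n
    · exact ⟨_, Psi_apply_pos R n m h i k hi⟩
    · refine ⟨0, ?_⟩
      rw [Psi_apply_neg R n m h i k hi, mul_zero]
  · intro f hf
    rw [mem_ker_proj] at hf
    choose b hb using hf
    refine ⟨fun j k' => if hj : j.1 + 1 < n then
      b (ri n j hj) (Fin.cast (rev_eq n m j hj) k') else 0, ?_⟩
    funext i k
    by_cases hi : i.1 + 1 < n
    · rw [Psi_apply_pos R n m _ i k hi, dif_pos (ri_lt n i hi), hb i k]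
      congr 1
      exact dep_congr R n b (ri_ri n i hi) _ _ rfl
    · rw [Psi_apply_neg R n m _ i k hi, hb i k]
      have : i.1 + 1 = n := by have := i.2; omega
      rw [this, z_pow_n, zero_mul]

lemma ker_Psi [IsDomain R] :
    LinearMap.ker (Psi R n m) = LinearMap.ker (proj R n (revType n m)) := by
  ext h
  rw [mem_ker_proj, LinearMap.mem_ker]
  constructor
  · intro hh j k'
    by_cases hj : j.1 + 1 < n
    · have h1 : Psi R n m h (ri n j hj) (Fin.cast (rev_eq n m j hj) k') = 0 := by
        rw [hh]; rfl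
      rw [Psi_apply_pos R n m h _ _ (ri_lt n j hj)] at h1
      have h2 : h (ri n (ri n j hj) (ri_lt n j hj))
          (Fin.cast (rev_ri n m (ri n j hj) (ri_lt n j hj)).symm (Fin.cast (rev_eq n m j hj) k'))
          = h j k' := dep_congr R n h (ri_ri n j hj) _ _ rfl
      rw [h2, z_pow_mul_eq_zero_iff R n _ (by rw [ri_val]; omega)] at h1
      obtain ⟨c, hc⟩ := h1
      refine ⟨c, ?_⟩
      rw [hc]
      congr 2
      rw [ri_val]; omega
    · exact (Fin.cast (rev_eq_zero n m j hj) k').elim0
  · intro hh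
    choose c hc using hh
    funext i k
    by_cases hi : i.1 + 1 < n
    · rw [Psi_apply_pos R n m h i k hi, hc, ← mul_assoc, ← pow_add]
      have : i.1 + 1 + ((ri n i hi).1 + 1) = n := by rw [ri_val]; omega
      rw [this, z_pow_n, zero_mul]
      rfl
    · rw [Psi_apply_neg R n m h i k hi]
      rfl

/-- The kernel of the standard projection is the model module of the reversed type. -/
noncomputable def kerProjEquiv [IsDomain R] :
    ↥(LinearMap.ker (proj R n m)) ≃ₗ[Rn R n] QFModel R n (revType n m) :=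
  let e1 : ↥(LinearMap.ker (proj R n m)) ≃ₗ[Rn R n] ↥(LinearMap.range (Psi R n m)) :=
    LinearEquiv.ofEq (LinearMap.ker (proj R n m)) (LinearMap.range (Psi R n m))
      (range_Psi R n m).symm
  let e2 : (Fr R n (revType n m) ⧸ LinearMap.ker (Psi R n m)) ≃ₗ[Rn R n]
      ↥(LinearMap.range (Psi R n m)) := (Psi R n m).quotKerEquivRange
  let e3 : (Fr R n (revType n m) ⧸ LinearMap.ker (Psi R n m)) ≃ₗ[Rn R n]
      (Fr R n (revType n m) ⧸ LinearMap.ker (proj R n (revType n m))) :=
    Submodule.quotEquivOfEq (LinearMap.ker (Psi R n m))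
      (LinearMap.ker (proj R n (revType n m))) (ker_Psi R n m)
  let e4 : (Fr R n (revType n m) ⧸ LinearMap.ker (proj R n (revType n m))) ≃ₗ[Rn R n]
      QFModel R n (revType n m) :=
    LinearMap.quotKerEquivOfSurjective (proj R n (revType n m))
      (proj_surjective R n (revType n m))
  e1.trans (e2.symm.trans (e3.trans e4))

end Helpers

/-- Let R be a discrete valuation ring, n ≥ 1, A = R[X]/(X^n) with z the class of X, and M an A-module
that is quasi-free of type (m_1, …, m_n), i.e. isomorphic to the direct sum of m_i copies of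
A/(z^i). Let φ be a surjective A-linear map from a finitely generated free module A^r onto M that is
bijective modulo z (the preimage of zM is zA^r). Then the kernel of φ is quasi-free of type
(m_{n-1}, m_{n-2}, …, m_1, 0). (Statement at a closed point of the sheaf statement on a primitive
multiple curve of multiplicity n with local rings R[X]/(X^n), for the kernel of a surjection from a
vector bundle onto a quasi locally free sheaf that is an isomorphism on the reduced curve; stated
for every discrete valuation ring R.) -/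
theorem result (R : Type u) [CommRing R] [IsDomain R] [IsDiscreteValuationRing R] (n : ℕ) (hn : 1 ≤ n) (m : Fin n → ℕ) (M : Type u) [AddCommGroup M] [Module (MultCrv.Rn R n) M] (hM : MultCrv.IsQuasiFreeOfType R n M m) (r : ℕ) (φ : (Fin r → MultCrv.Rn R n) →ₗ[MultCrv.Rn R n] M) (hφ : Function.Surjective φ) (hφz : ∀ f : Fin r → MultCrv.Rn R n, φ f ∈ MultCrv.filt R n M 1 → f ∈ MultCrv.filt R n (Fin r → MultCrv.Rn R n) 1) : MultCrv.IsQuasiFreeOfType R n ↥(LinearMap.ker φ) (MultCrv.revType n m) := by
  obtain ⟨e⟩ := hM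
  -- lift `e ∘ φ` through the standard free cover of the model
  obtain ⟨θ, hθ⟩ := Module.projective_lifting_property (proj R n m) (e.toLinearMap ∘ₗ φ)
    (proj_surjective R n m)
  have hθ' : ∀ u, proj R n m (θ u) = e (φ u) := fun u => LinearMap.congr_fun hθ u
  have hsurj : Function.Surjective θ := by
    rw [Groth.Agent.S17945.result R n hn]
    intro v
    obtain ⟨u, hu⟩ := hφ (e.symm (proj R n m v))
    refine ⟨u, ker_proj_le_filt R n m ?_⟩
    rw [LinearMap.mem_ker, map_sub, hθ', hu, e.apply_symm_apply, sub_self]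
  have hinj : Function.Injective θ := by
    rw [Groth.Agent.S17946.result R n hn]
    intro u hu1 hu2
    rw [mem_filt2, pow_one] at hu1
    -- `u = z^(n-1) w`
    have h1 : ∀ x, ∃ b, u x = z R n ^ (n - 1) * b := fun x =>
      (z_pow_mul_eq_zero_iff R n 1 hn (u x)).1 (by
        have := congrFun hu1 x
        rw [pow_one]
        exact this)
    choose w hw using h1
    have huw : u = z R n ^ (n - 1) • w := by
      funext x
      rw [hw x]
      rfl
    -- `θ w ∈ z F`
    have h2 : z R n ^ (n - 1) • θ w = 0 := by rw [← map_smul, ← huw, hu2]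
    have h3 : ∀ i k, ∃ b, θ w i k = z R n ^ (n - (n - 1)) * b := fun i k =>
      (z_pow_mul_eq_zero_iff R n (n - 1) (by omega) (θ w i k)).1 (congrFun (congrFun h2 i) k)
    choose b hb using h3
    have h4 : θ w = z R n • b := by
      funext i k
      rw [hb i k, show n - (n - 1) = 1 by omega, pow_one]
      rfl
    -- hence `φ w ∈ z M`
    have h5 : φ w ∈ filt R n M 1 := by
      rw [mem_filt]
      refine ⟨e.symm (proj R n m b), ?_⟩
      rw [pow_one, ← map_smul, ← map_smul, ← h4, hθ', e.symm_apply_apply]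
    have h6 := hφz w h5
    rw [mem_filt] at h6
    obtain ⟨w', hw'⟩ := h6
    rw [huw, ← hw', smul_smul, ← pow_add, show n - 1 + 1 = n by omega, z_pow_n]
    exact zero_smul (Rn R n) w'
  let Θ : (Fin r → Rn R n) ≃ₗ[Rn R n] Fr R n m := LinearEquiv.ofBijective θ ⟨hinj, hsurj⟩
  have hker : LinearMap.ker φ
      = (LinearMap.ker (proj R n m)).comap (Θ : (Fin r → Rn R n) →ₗ[Rn R n] Fr R n m) := by
    ext u
    rw [Submodule.mem_comap, LinearMap.mem_ker, LinearMap.mem_ker]
    show φ u = 0 ↔ proj R n m (θ u) = 0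
    rw [hθ', LinearEquiv.map_eq_zero_iff]
  exact ⟨(LinearEquiv.ofEq _ _ hker).trans
    ((LinearEquiv.ofSubmodule' Θ (LinearMap.ker (proj R n m))).trans (kerProjEquiv R n m))⟩

end Groth.Agent.S17940
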