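import Groth.Statements.S17942
import Groth.Agent.Lib.MultCrvDual

set_option autoImplicit false
universe u
open MultCrv

namespace Groth.Agent.S17942

open CategoryTheory in
/-- Let R be a discrete valuation ring, n ≥ 1, A = R[X]/(X^n), and M a finitely generated A-module. Then
Ext^i_A(M, A) = 0 for every i ≥ 2. (Statement at a closed point of the sheaf statement on a
primitive multiple curve of multiplicity n, whose local rings are of the form R[X]/(X^n) with R the
local ring of the reduced smooth curve; stated for every discrete valuation ring R.) -/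
theorem result (R : Type u) [CommRing R] [IsDomain R] [IsDiscreteValuationRing R] (n : ℕ) (hn : 1 ≤ n) (M : Type u) [AddCommGroup M] [Module (MultCrv.Rn R n) M] [Module.Finite (MultCrv.Rn R n) M] (i : ℕ) (hi : 2 ≤ i) : Subsingleton (Abelian.Ext (ModuleCat.of (MultCrv.Rn R n) M) (ModuleCat.of (MultCrv.Rn R n) (MultCrv.Rn R n)) i) := by
  obtain ⟨k, rfl⟩ : ∃ k, i = (k + 1) + 1 := ⟨i - 2, by omega⟩
  obtain ⟨c⟩ := Groth.Agent.Lib.MultCrvDual.nonempty_cover R n M
  have := c.finite_K
  have := c.isTorsionFree_K
  exact Groth.Agent.Lib.MultCrvDual.subsingleton_ext_succ_of_subsingleton c.shortExact _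
    (Groth.Agent.Lib.MultCrvDual.subsingleton_ext_self_of_isTorsionFree hn k c.K)

end Groth.Agent.S17942
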