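import Groth.Statements.S17943
import Groth.Agent.Lib.MultCrvDual

set_option autoImplicit false
universe u
open MultCrv

namespace Groth.Agent.S17943

/-- Let R be a discrete valuation ring, n ≥ 1, A = R[X]/(X^n) with z the class of X, and M a finitely
generated A-module. For 0 ≤ i < n the R-modules G^(i+1)(M) = M^(i+1)/M^(i) (M^(j) the elements
killed by z^j) and G_i(M) = z^i M/z^(i+1) M have the same rank over R. (Statement at a closed point
of the sheaf statement on a primitive multiple curve of multiplicity n with local rings R[X]/(X^n),
where the rank of a coherent sheaf on the reduced smooth curve is its generic rank, here the rank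
over R of the stalk; the equality of degrees that the published statement gives together with this
rank equality is a statement on the global curve and is not part of this row; stated for every
discrete valuation ring R.) -/
theorem result (R : Type u) [CommRing R] [IsDomain R] [IsDiscreteValuationRing R] (n : ℕ) (hn : 1 ≤ n) (M : Type u) [AddCommGroup M] [Module (MultCrv.Rn R n) M] [Module R M] [IsScalarTower R (MultCrv.Rn R n) M] [Module.Finite (MultCrv.Rn R n) M] (i : ℕ) (hi : i < n) : Module.finrank R (MultCrv.G2 R n M (i + 1)) = Module.finrank R (MultCrv.G1 R n M i) := by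
  have hfinA := Groth.Agent.Lib.MultCrvDual.finite_Rn R n
  have hfinM : Module.Finite R M := Module.Finite.trans (MultCrv.Rn R n) M
  have hfinsub : ∀ N : Submodule (MultCrv.Rn R n) M, Module.Finite R N := fun N =>
    Module.Finite.of_injective (N.subtype.restrictScalars R) N.injective_subtype
  -- rank of a subquotient
  have hquot : ∀ (N N' : Submodule (MultCrv.Rn R n) M), N' ≤ N →
      Module.finrank R (↥N ⧸ Submodule.comap N.subtype N') =
        Module.finrank R N - Module.finrank R N' := by
    intro N N' hle
    have := hfinsub N
    rw [Submodule.finrank_quotient]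
    congr 1
    exact ((Submodule.comapSubtypeEquivOfLe hle).restrictScalars R).finrank_eq
  -- rank-nullity for multiplication by `z^j`
  have hrn : ∀ j : ℕ, Module.finrank R (MultCrv.filt R n M j) =
      Module.finrank R M - Module.finrank R (MultCrv.filt2 R n M j) := by
    intro j
    let f : M →ₗ[MultCrv.Rn R n] M := (MultCrv.z R n ^ j) • LinearMap.id
    have hker : LinearMap.ker f = MultCrv.filt2 R n M j := by
      ext x
      simp only [LinearMap.mem_ker, MultCrv.filt2, Submodule.mem_torsionBy_iff, f,
        LinearMap.smul_apply, LinearMap.id_apply]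
    have h1 : Module.finrank R (MultCrv.filt R n M j) = Module.finrank R (M ⧸ LinearMap.ker f) :=
      ((LinearMap.quotKerEquivRange f).restrictScalars R).finrank_eq.symm
    rw [h1, Submodule.finrank_quotient, hker]
  have hmono2 : ∀ j, MultCrv.filt2 R n M j ≤ MultCrv.filt2 R n M (j + 1) := by
    intro j x hx
    simp only [MultCrv.filt2, Submodule.mem_torsionBy_iff] at hx ⊢
    rw [pow_succ, mul_comm, mul_smul, hx, smul_zero]
  have hmono1 : ∀ j, MultCrv.filt R n M (j + 1) ≤ MultCrv.filt R n M j := by
    rintro j _ ⟨y, rfl⟩
    refine ⟨MultCrv.z R n • y, ?_⟩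
    simp only [LinearMap.smul_apply, LinearMap.id_apply]
    rw [← mul_smul, ← pow_succ]
  have hle2 : ∀ j, Module.finrank R (MultCrv.filt2 R n M j) ≤ Module.finrank R M := fun j =>
    Submodule.finrank_le ((MultCrv.filt2 R n M j).restrictScalars R)
  have hle22 : Module.finrank R (MultCrv.filt2 R n M i) ≤
      Module.finrank R (MultCrv.filt2 R n M (i + 1)) := by
    have := hfinsub (MultCrv.filt2 R n M (i + 1))
    rw [← ((Submodule.comapSubtypeEquivOfLe (hmono2 i)).restrictScalars R).finrank_eq]
    exact Submodule.finrank_le ((Submodule.comap (MultCrv.filt2 R n M (i + 1)).subtype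
      (MultCrv.filt2 R n M i)).restrictScalars R)
  have e1 : Module.finrank R (MultCrv.G2 R n M (i + 1)) =
      Module.finrank R (MultCrv.filt2 R n M (i + 1)) - Module.finrank R (MultCrv.filt2 R n M i) :=
    hquot _ _ (hmono2 i)
  have e2 : Module.finrank R (MultCrv.G1 R n M i) =
      Module.finrank R (MultCrv.filt R n M i) - Module.finrank R (MultCrv.filt R n M (i + 1)) :=
    hquot _ _ (hmono1 i)
  rw [e1, e2, hrn i, hrn (i + 1)]
  have := hle2 i
  have := hle2 (i + 1)
  omega

end Groth.Agent.S17943
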