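import Groth.Statements.S17944
import Groth.Agent.Lib.MultCrvDual

set_option autoImplicit false
universe u
open MultCrv

namespace Groth.Agent.S17944

section general

variable {R : Type u} [CommRing R] [IsDomain R] {A : Type u} [CommRing A]
variable {X : Type u} [AddCommGroup X] [Module A X] [Module R X] [SMul R A] [IsScalarTower R A X]

/-- Torsion-freeness of a quotient is saturation of the submodule. -/
lemma isTorsionFree_quotient_iff (P : Submodule A X) :
    Module.IsTorsionFree R (X ⧸ P) ↔ ∀ r : R, r ≠ 0 → ∀ u : X, r • u ∈ P → u ∈ P := by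
  constructor
  · intro h r hr u hu
    have h1 : r • (Submodule.Quotient.mk u : X ⧸ P) = r • (0 : X ⧸ P) := by
      rw [smul_zero, ← Submodule.Quotient.mk_smul, Submodule.Quotient.mk_eq_zero]
      exact hu
    have := h.isSMulRegular (IsRegular.of_ne_zero hr) h1
    exact (Submodule.Quotient.mk_eq_zero P).mp this
  · intro h
    refine ⟨fun r hr x y hxy => ?_⟩
    obtain ⟨u, rfl⟩ := Submodule.Quotient.mk_surjective P x
    obtain ⟨v, rfl⟩ := Submodule.Quotient.mk_surjective P y
    rw [← sub_eq_zero, ← Submodule.Quotient.mk_sub, Submodule.Quotient.mk_eq_zero]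
    apply h r hr.ne_zero
    rw [smul_sub]
    have : (Submodule.Quotient.mk (r • u) : X ⧸ P) = Submodule.Quotient.mk (r • v) := hxy
    rwa [← sub_eq_zero, ← Submodule.Quotient.mk_sub, Submodule.Quotient.mk_eq_zero] at this

omit [IsDomain R] in
lemma finite_quotient [Module.Finite R X] (P : Submodule A X) : Module.Finite R (X ⧸ P) :=
  Module.Finite.of_surjective (P.mkQ.restrictScalars R) (Submodule.mkQ_surjective P)

end general

section specific

variable (R : Type u) [CommRing R] [IsDomain R] (n : ℕ) (M : Type u) [AddCommGroup M]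
  [Module (Rn R n) M] [Module R M] [IsScalarTower R (Rn R n) M]

/-- Saturation of `z^(i+1) M` in `z^i M`. -/
def P (i : ℕ) : Prop :=
  ∀ r : R, r ≠ 0 → ∀ m : M, (∃ y : M, r • z R n ^ i • m = z R n ^ (i + 1) • y) →
    ∃ y' : M, z R n ^ i • m = z R n ^ (i + 1) • y'

/-- Saturation of `M^(i) + z M^(i+2)` in `M^(i+1)`. -/
def Q (i : ℕ) : Prop :=
  ∀ r : R, r ≠ 0 → ∀ x : M, z R n ^ (i + 1) • x = 0 →
    (∃ y : M, z R n ^ (i + 2) • y = 0 ∧ z R n ^ i • (r • x - z R n • y) = 0) →
    ∃ y' : M, z R n ^ (i + 2) • y' = 0 ∧ z R n ^ i • (x - z R n • y') = 0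

lemma mem_filt (j : ℕ) (u : M) : u ∈ filt R n M j ↔ ∃ m : M, z R n ^ j • m = u := by
  simp only [filt, LinearMap.mem_range, LinearMap.smul_apply, LinearMap.id_apply]

lemma mem_filt2 (j : ℕ) (x : M) : x ∈ filt2 R n M j ↔ z R n ^ j • x = 0 := by
  simp only [filt2, Submodule.mem_torsionBy_iff]

lemma G1_tf_iff (i : ℕ) : Module.IsTorsionFree R (G1 R n M i) ↔ P R n M i := by
  rw [isTorsionFree_quotient_iff]
  constructor
  · intro h r hr m ⟨y, hy⟩
    have hu : z R n ^ i • m ∈ filt R n M i := (mem_filt R n M i _).mpr ⟨m, rfl⟩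
    have := h r hr ⟨z R n ^ i • m, hu⟩ (by
      rw [Submodule.mem_comap]
      change r • z R n ^ i • m ∈ filt R n M (i + 1)
      exact (mem_filt R n M (i + 1) _).mpr ⟨y, hy.symm⟩)
    rw [Submodule.mem_comap] at this
    obtain ⟨y', hy'⟩ := (mem_filt R n M (i + 1) _).mp this
    exact ⟨y', hy'.symm⟩
  · intro h r hr u hu
    obtain ⟨u, huM⟩ := u
    obtain ⟨m, rfl⟩ := (mem_filt R n M i u).mp huM
    rw [Submodule.mem_comap] at hu ⊢
    change r • z R n ^ i • m ∈ filt R n M (i + 1) at hu
    change z R n ^ i • m ∈ filt R n M (i + 1)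
    obtain ⟨y, hy⟩ := (mem_filt R n M (i + 1) _).mp hu
    obtain ⟨y', hy'⟩ := h r hr m ⟨y, hy.symm⟩
    exact (mem_filt R n M (i + 1) _).mpr ⟨y', hy'.symm⟩

lemma mem_range_lamG2 (i : ℕ) (x : M) (hx : x ∈ filt2 R n M (i + 1)) :
    (Submodule.Quotient.mk ⟨x, hx⟩ : G2 R n M (i + 1)) ∈ LinearMap.range (lamG2 R n M i) ↔
      ∃ y : M, z R n ^ (i + 2) • y = 0 ∧ z R n ^ i • (x - z R n • y) = 0 := by
  constructor
  · rintro ⟨η, hη⟩
    obtain ⟨⟨y, hy⟩, rfl⟩ := Submodule.Quotient.mk_surjective _ η
    refine ⟨y, (mem_filt2 R n M (i + 2) y).mp hy, ?_⟩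
    have h1 : (Submodule.Quotient.mk (zDown R n M (i + 1) ⟨y, hy⟩) : G2 R n M (i + 1)) =
        Submodule.Quotient.mk ⟨x, hx⟩ := hη
    rw [Submodule.Quotient.eq, Submodule.mem_comap] at h1
    have h2 : z R n • y - x ∈ filt2 R n M i := h1
    rw [mem_filt2] at h2
    rw [← neg_sub, smul_neg, h2, neg_zero]
  · rintro ⟨y, hy, hxy⟩
    have hy' : y ∈ filt2 R n M (i + 2) := (mem_filt2 R n M (i + 2) y).mpr hy
    refine ⟨Submodule.Quotient.mk ⟨y, hy'⟩, ?_⟩
    change (Submodule.Quotient.mk (zDown R n M (i + 1) ⟨y, hy'⟩) : G2 R n M (i + 1)) =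
        Submodule.Quotient.mk ⟨x, hx⟩
    rw [Submodule.Quotient.eq, Submodule.mem_comap]
    change z R n • y - x ∈ filt2 R n M i
    rw [mem_filt2, ← neg_sub, smul_neg, hxy, neg_zero]

lemma Gam2_tf_iff (i : ℕ) : Module.IsTorsionFree R (Gam2 R n M i) ↔ Q R n M i := by
  rw [isTorsionFree_quotient_iff]
  constructor
  · intro h r hr x hx ⟨y, hy, hxy⟩
    have hx' : x ∈ filt2 R n M (i + 1) := (mem_filt2 R n M (i + 1) x).mpr hx
    have hrx' : r • x ∈ filt2 R n M (i + 1) := Submodule.smul_of_tower_mem _ r hx'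
    have h1 : r • (Submodule.Quotient.mk ⟨x, hx'⟩ : G2 R n M (i + 1)) ∈
        LinearMap.range (lamG2 R n M i) := by
      have : r • (Submodule.Quotient.mk ⟨x, hx'⟩ : G2 R n M (i + 1)) =
          Submodule.Quotient.mk ⟨r • x, hrx'⟩ := rfl
      rw [this, mem_range_lamG2]
      exact ⟨y, hy, hxy⟩
    exact (mem_range_lamG2 R n M i x hx').mp (h r hr _ h1)
  · intro h r hr ξ hξ
    obtain ⟨⟨x, hx'⟩, rfl⟩ := Submodule.Quotient.mk_surjective _ ξ
    have hrx' : r • x ∈ filt2 R n M (i + 1) := Submodule.smul_of_tower_mem _ r hx'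
    have : r • (Submodule.Quotient.mk ⟨x, hx'⟩ : G2 R n M (i + 1)) =
        Submodule.Quotient.mk ⟨r • x, hrx'⟩ := rfl
    rw [this, mem_range_lamG2] at hξ
    rw [mem_range_lamG2]
    exact h r hr x ((mem_filt2 R n M (i + 1) x).mp hx') hξ

end specific

section equiv

variable (R : Type u) [CommRing R] [IsDomain R] (n : ℕ) (M : Type u) [AddCommGroup M]
  [Module (Rn R n) M] [Module R M] [IsScalarTower R (Rn R n) M]

omit [IsDomain R] in
lemma Q_of_P (i : ℕ) (h : P R n M i) : Q R n M i := by
  intro r hr x hx ⟨y, hy, hxy⟩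
  have h1 : r • z R n ^ i • x = z R n ^ (i + 1) • y := by
    rw [smul_sub, sub_eq_zero] at hxy
    rw [smul_comm, hxy, pow_succ, mul_smul]
  obtain ⟨y', hy'⟩ := h r hr x ⟨y, h1⟩
  refine ⟨y', ?_, ?_⟩
  · rw [pow_succ', mul_smul, ← hy', ← mul_smul, ← pow_succ', hx]
  · rw [smul_sub, hy', ← mul_smul, ← pow_succ, sub_self]

omit [IsDomain R] in
lemma P_of_P_succ_of_Q (i : ℕ) (h1 : P R n M (i + 1)) (h2 : Q R n M i) : P R n M i := by
  intro r hr m ⟨y, hy⟩
  -- apply `P (i+1)`
  have e1 : r • z R n ^ (i + 1) • m = z R n ^ (i + 1 + 1) • y := by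
    rw [pow_succ' _ (i + 1), mul_smul, ← hy, pow_succ', mul_smul, smul_comm r (z R n)]
  obtain ⟨y', hy'⟩ := h1 r hr m ⟨y, e1⟩
  -- the element `x = m - z y'`
  have hx : z R n ^ (i + 1) • (m - z R n • y') = 0 := by
    rw [smul_sub, hy', ← mul_smul, ← pow_succ, sub_self]
  have hy2 : z R n ^ (i + 2) • (y - r • y') = 0 := by
    rw [smul_sub, smul_comm _ r, ← hy', ← e1, sub_self]
  have hxy : z R n ^ i • (r • (m - z R n • y') - z R n • (y - r • y')) = 0 := by
    have e2 : r • (m - z R n • y') - z R n • (y - r • y') = r • m - z R n • y := by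
      rw [smul_sub, smul_sub, smul_comm r (z R n) y']
      abel
    rw [e2, smul_sub, smul_comm _ r, hy, ← mul_smul, ← pow_succ, sub_self]
  obtain ⟨y₃, -, hy₃⟩ := h2 r hr (m - z R n • y') hx ⟨y - r • y', hy2, hxy⟩
  refine ⟨y₃ + y', ?_⟩
  rw [smul_sub, smul_sub, sub_sub, sub_eq_zero] at hy₃
  rw [hy₃, smul_add, pow_succ, mul_smul, mul_smul, add_comm]

end equiv

/-- Let R be a discrete valuation ring, n ≥ 1, A = R[X]/(X^n) with z the class of X, and M a finitely
generated A-module. Then the graded pieces G_i(M) = z^i M/z^(i+1) M are free R-modules for all 0 ≤ i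
< n if and only if the modules Γ^(i)(M) are free R-modules for all 0 ≤ i < n, where Γ^(i)(M) is the
cokernel of the map M^(i+2)/M^(i+1) → M^(i+1)/M^(i) induced by multiplication by z (M^(j) the
elements killed by z^j). (Statement at a closed point P of the sheaf statement on a primitive
multiple curve of multiplicity n, whose local rings are R[X]/(X^n) with R the local ring of the
reduced smooth curve: the published conditions are local freeness on the reduced curve of the
corresponding sheaves, read here at P; the published statement also asserts that these conditions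
are equivalent to the stalk being quasi-free, i.e. isomorphic to a direct sum of modules A/(z^j),
which is not part of this row; stated for every discrete valuation ring R.) -/
theorem result (R : Type u) [CommRing R] [IsDomain R] [IsDiscreteValuationRing R] (n : ℕ) (hn : 1 ≤ n) (M : Type u) [AddCommGroup M] [Module (MultCrv.Rn R n) M] [Module R M] [IsScalarTower R (MultCrv.Rn R n) M] [Module.Finite (MultCrv.Rn R n) M] : (∀ i : ℕ, i < n → Module.Free R (MultCrv.G1 R n M i)) ↔ (∀ i : ℕ, i < n → Module.Free R (MultCrv.Gam2 R n M i)) := by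
  have hfinA := Groth.Agent.Lib.MultCrvDual.finite_Rn R n
  have hfinM : Module.Finite R M := Module.Finite.trans (MultCrv.Rn R n) M
  have hfinsub : ∀ N : Submodule (MultCrv.Rn R n) M, Module.Finite R N := fun N =>
    Module.Finite.of_injective (N.subtype.restrictScalars R) N.injective_subtype
  have hfinG1 : ∀ i, Module.Finite R (MultCrv.G1 R n M i) := fun i =>
    have := hfinsub (filt R n M i)
    finite_quotient (Submodule.comap (filt R n M i).subtype (filt R n M (i + 1)))
  have hfinG2 : ∀ i, Module.Finite R (MultCrv.G2 R n M i) := fun i =>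
    have := hfinsub (filt2 R n M i)
    finite_quotient (Submodule.comap (filt2 R n M i).subtype (filt2 R n M (i - 1)))
  have hfinGam : ∀ i, Module.Finite R (MultCrv.Gam2 R n M i) := fun i =>
    have := hfinG2 (i + 1)
    finite_quotient (LinearMap.range (lamG2 R n M i))
  have hG1 : ∀ i, Module.Free R (MultCrv.G1 R n M i) ↔ P R n M i := by
    intro i
    rw [← G1_tf_iff]
    have := hfinG1 i
    exact ⟨fun _ => inferInstance, fun _ => inferInstance⟩
  have hGam : ∀ i, Module.Free R (MultCrv.Gam2 R n M i) ↔ Q R n M i := by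
    intro i
    rw [← Gam2_tf_iff]
    have := hfinGam i
    exact ⟨fun _ => inferInstance, fun _ => inferInstance⟩
  simp only [hG1, hGam]
  constructor
  · intro h i hi
    exact Q_of_P R n M i (h i hi)
  · intro h
    have hPn : P R n M n := by
      intro r _ m _
      refine ⟨0, ?_⟩
      rw [Groth.Agent.S17941.z_pow_n, smul_zero]
      exact zero_smul (Rn R n) m
    have key : ∀ k : ℕ, k ≤ n → P R n M (n - k) := by
      intro k
      induction k with
      | zero => intro _; exact hPn
      | succ k ih =>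
        intro hk
        have h1 : n - (k + 1) + 1 = n - k := by omega
        apply P_of_P_succ_of_Q R n M (n - (k + 1))
        · rw [h1]; exact ih (by omega)
        · exact h _ (by omega)
    intro i hi
    have := key (n - i) (by omega)
    rwa [show n - (n - i) = i by omega] at this

end Groth.Agent.S17944
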