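import Groth.Statements.S17962

set_option autoImplicit false
open CategoryTheory CategoryTheory.Limits AlgebraicGeometry
universe u
open Hensel

namespace Groth.Agent.S17962

section aux

variable {P Q Z : Scheme.{u}}

theorem preimage_comp (a : P ⟶ Q) (b : Q ⟶ Z) (U : Set ↥Z) :
    (a ≫ b).base ⁻¹' U = a.base ⁻¹' (b.base ⁻¹' U) := by
  ext x
  simp

theorem preimage_iso_hom_inv (e : P ≅ Q) (V : Set ↥P) :
    e.hom.base ⁻¹' (e.inv.base ⁻¹' V) = V := by
  rw [← preimage_comp, e.hom_inv_id]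
  ext x
  simp

theorem preimage_iso_inv_hom (e : P ≅ Q) (V : Set ↥Q) :
    e.inv.base ⁻¹' (e.hom.base ⁻¹' V) = V := by
  rw [← preimage_comp, e.inv_hom_id]
  ext x
  simp

/-- Transfer of the clopen lifting property along an isomorphism over `Z`. -/
theorem transfer (e : P ≅ Q) (p : P ⟶ Z) (q : Q ⟶ Z) (he : e.hom ≫ q = p)
    (hQ : ∀ V : Set ↥Q, IsClopen V → ∃! U : Set ↥Z, IsClopen U ∧ q.base ⁻¹' U = V)
    (V : Set ↥P) (hV : IsClopen V) : ∃! U : Set ↥Z, IsClopen U ∧ p.base ⁻¹' U = V := by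
  have hV' : IsClopen (e.inv.base ⁻¹' V) := hV.preimage e.inv.continuous
  obtain ⟨U, ⟨hU, hUV⟩, huniq⟩ := hQ _ hV'
  refine ⟨U, ⟨hU, ?_⟩, ?_⟩
  · rw [← he, preimage_comp, hUV, preimage_iso_hom_inv]
  · rintro U₂ ⟨hU₂, hU₂V⟩
    apply huniq
    refine ⟨hU₂, ?_⟩
    have he' : e.inv ≫ p = q := by rw [← he, e.inv_hom_id_assoc]
    rw [← he', preimage_comp, hU₂V]

end aux

/-- Let i : X₀ ⟶ X be a closed immersion such that (X, X₀) is a henselian couple, i.e. for every finite
morphism g : Y ⟶ X every open-closed subset of Y ×_X X₀ is the inverse image under the first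
projection of exactly one open-closed subset of Y. Then for every finite morphism h : Y ⟶ X the
couple (Y, Y ×_X X₀), with the first projection as closed immersion, is again henselian. -/
theorem result {X X₀ : Scheme.{u}}
    (i : X₀ ⟶ X) [IsClosedImmersion i]
    (hX : ∀ (Y : Scheme.{u}) (g : Y ⟶ X), IsFinite g →
      ∀ V : Set ↥(pullback g (i)), IsClopen V →
        ∃! U : Set ↥Y, IsClopen U ∧ (pullback.fst g (i)).base ⁻¹' U = V)
    {Y : Scheme.{u}} (h : Y ⟶ X) [IsFinite h] :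
    ∀ (Z : Scheme.{u}) (g : Z ⟶ Y), IsFinite g →
      ∀ V : Set ↥(pullback g (pullback.fst h i)), IsClopen V →
        ∃! U : Set ↥Z, IsClopen U ∧ (pullback.fst g (pullback.fst h i)).base ⁻¹' U = V := by
  intro Z g hg V hV
  have hgh : IsFinite (g ≫ h) := inferInstance
  exact transfer (pullbackRightPullbackFstIso h i g) _ _
    (pullbackRightPullbackFstIso_hom_fst h i g) (hX Z (g ≫ h) hgh) V hV

end Groth.Agent.S17962
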