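import Groth.Statements.S17970
import Groth.Agent.Lib.PiLocalDecomp22
import Groth.Agent.Lib.HenselIdem

set_option autoImplicit false
universe u
open Hensel

namespace Groth.Agent.S17970

/-- Let A be a local ring with maximal ideal m and B a commutative A-algebra which is finitely generated
as an A-module. Then B is ring-isomorphic to a finite product of local rings if and only if every
idempotent of B/mB is the image of an idempotent of B. (Reduction modulo mB is always injective on
the idempotents of B, because mB lies in the Jacobson radical of B; so this surjectivity amounts to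
the bijectivity on idempotents in the printed assertion.) -/
theorem result
    (A : Type u) [CommRing A] [IsLocalRing A] (B : Type u) [CommRing B] [Algebra A B] [Module.Finite A B] :
    (∃ (ι : Type u) (_ : Fintype ι) (C : ι → Type u) (_ : ∀ j, CommRing (C j)),
        (∀ j, IsLocalRing (C j)) ∧ Nonempty (B ≃+* (∀ j, C j))) ↔
      Set.SurjOn (Ideal.Quotient.mk (Ideal.map (algebraMap A B) (IsLocalRing.maximalIdeal A)))
        {e : B | IsIdempotentElem e} {e | IsIdempotentElem e} := by
  set 𝔪B : Ideal B := Ideal.map (algebraMap A B) (IsLocalRing.maximalIdeal A) with h𝔪B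
  constructor
  · rintro ⟨ι, _, C, _, hloc, ⟨φ⟩⟩
    have := hloc
    intro y hy
    obtain ⟨e, he, hey⟩ :=
      Groth.Agent.Lib.PiLocalDecomp22.exists_idempotent_lift_of_ringEquiv φ 𝔪B y hy
    exact ⟨e, he, hey⟩
  · intro hsurj
    have hJ : 𝔪B ≤ Ideal.jacobson ⊥ :=
      Groth.Agent.Lib.HenselIdem.map_le_jacobson_of_isIntegral (B := B)
        (IsLocalRing.maximalIdeal A)
        (by rw [IsLocalRing.jacobson_eq_maximalIdeal ⊥ bot_ne_top])
    -- the quotient is artinian
    have hfin : Module.Finite (A ⧸ IsLocalRing.maximalIdeal A) (B ⧸ 𝔪B) :=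
      Module.Finite.of_restrictScalars_finite A _ _
    letI : Field (A ⧸ IsLocalRing.maximalIdeal A) := Ideal.Quotient.field _
    have hart : IsArtinianRing (B ⧸ 𝔪B) :=
      IsArtinianRing.of_finite (A ⧸ IsLocalRing.maximalIdeal A) (B ⧸ 𝔪B)
    have hlift : ∀ x : B ⧸ 𝔪B, IsIdempotentElem x → ∃ e : B, IsIdempotentElem e ∧
        Ideal.Quotient.mk 𝔪B e = x := by
      intro x hx
      obtain ⟨e, he, hex⟩ := hsurj hx
      exact ⟨e, he, hex⟩
    obtain ⟨hF, ε, hcoi, hloc⟩ :=
      Groth.Agent.Lib.PiLocalDecomp22.exists_completeOrthogonalIdempotents 𝔪B hJ hlift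
    exact ⟨MaximalSpectrum (B ⧸ 𝔪B), hF, fun i => B ⧸ Ideal.span {1 - ε i}, inferInstance, hloc,
      ⟨RingEquiv.ofBijective _ hcoi.bijective_pi⟩⟩

end Groth.Agent.S17970
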