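import Groth.Statements.S17972
import Groth.Agent.Lib.EssEtaleLift
import Groth.Agent.Lib.JacobianEtale

set_option autoImplicit false
universe u
open Hensel

namespace Groth.Agent.S17972

/-- Let A be a henselian local ring with maximal ideal m, let P_1, …, P_n be polynomials over A in n
variables and a₀ ∈ A^n a point with P_i(a₀) ∈ m for all i whose Jacobian determinant
det(∂P_i/∂T_j)(a₀) is a unit of A, i.e. nonzero in the residue field. Then there is a ∈ A^n
congruent to a₀ modulo m in each coordinate with P_i(a) = 0 for all i. -/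
theorem result
    (A : Type u) [CommRing A] [HenselianLocalRing A] (n : ℕ)
    (P : Fin n → MvPolynomial (Fin n) A) (a₀ : Fin n → A)
    (h₀ : ∀ i, MvPolynomial.eval a₀ (P i) ∈ IsLocalRing.maximalIdeal A)
    (hJ : IsUnit (Matrix.of (fun i j => MvPolynomial.eval a₀ (MvPolynomial.pderiv j (P i)))).det) :
    ∃ a : Fin n → A, (∀ i, MvPolynomial.eval a (P i) = 0) ∧
      ∀ j, a j - a₀ j ∈ IsLocalRing.maximalIdeal A := by
  classical
  let κ := IsLocalRing.ResidueField A
  let B := Groth.Agent.Lib.JacobianEtale.Quot P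
  let C := Groth.Agent.Lib.JacobianEtale.Loc P
  -- the residue point
  let χ₀ : MvPolynomial (Fin n) A →ₐ[A] κ :=
    MvPolynomial.aeval (fun i => IsLocalRing.residue A (a₀ i))
  have hχ₀ : ∀ p : MvPolynomial (Fin n) A,
      χ₀ p = IsLocalRing.residue A (MvPolynomial.eval a₀ p) := by
    intro p
    have : (χ₀ : MvPolynomial (Fin n) A →+* κ) =
        (IsLocalRing.residue A).comp (MvPolynomial.eval a₀) := by
      apply MvPolynomial.ringHom_ext
      · intro r
        simp [χ₀]
        rfl
      · intro i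
        simp [χ₀]
    exact RingHom.congr_fun this p
  -- descend to the quotient
  have hker : ∀ p ∈ Ideal.span (Set.range P), χ₀ p = 0 := by
    intro p hp
    have hle : Ideal.span (Set.range P) ≤ RingHom.ker (χ₀ : MvPolynomial (Fin n) A →+* κ) := by
      rw [Ideal.span_le]
      rintro _ ⟨i, rfl⟩
      change χ₀ (P i) = 0
      rw [hχ₀, IsLocalRing.residue_eq_zero_iff]
      exact h₀ i
    exact hle hp
  let χ₁ : B →ₐ[A] κ := Ideal.Quotient.liftₐ _ χ₀ hker
  have hχ₁ : ∀ p, χ₁ (Ideal.Quotient.mk _ p) = χ₀ p := fun p => rfl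
  have hjac : IsUnit (χ₁ (Groth.Agent.Lib.JacobianEtale.jac P)) := by
    rw [Groth.Agent.Lib.JacobianEtale.jac_eq, hχ₁, hχ₀, RingHom.map_det, RingHom.map_det]
    have : ((IsLocalRing.residue A).mapMatrix ((MvPolynomial.eval a₀).mapMatrix
        (Matrix.of fun i j => (MvPolynomial.pderiv i) (P j)))) =
        ((IsLocalRing.residue A).mapMatrix
          (Matrix.of (fun i j => MvPolynomial.eval a₀ (MvPolynomial.pderiv j (P i))))).transpose := by
      ext i j
      rfl
    rw [this, Matrix.det_transpose, ← RingHom.map_det]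
    exact hJ.map _
  let χ : C →ₐ[A] κ :=
    IsLocalization.liftAlgHom (M := Submonoid.powers (Groth.Agent.Lib.JacobianEtale.jac P))
      (f := χ₁) (by
        rintro ⟨_, k, rfl⟩
        simpa using hjac.pow k)
  have hχ : ∀ x, χ (algebraMap B C x) = χ₁ x := fun x => by
    change (IsLocalization.lift _) ((algebraMap B C) x) = χ₁ x
    rw [IsLocalization.lift_eq]
    rfl
  let q : Ideal C := RingHom.ker (χ : C →+* κ)
  have hq : q.IsPrime := RingHom.ker_isPrime _
  obtain ⟨σ, hσ⟩ := Groth.Agent.Lib.EssEtaleLift.exists_algHom_lift (A := A) (C := C) (B := A) q χ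
    (fun x hx => hx)
  let ι : MvPolynomial (Fin n) A →ₐ[A] C :=
    (IsScalarTower.toAlgHom A B C).comp (Ideal.Quotient.mkₐ A _)
  have hι : ∀ p, ι p = algebraMap B C (Ideal.Quotient.mk _ p) := fun _ => rfl
  let a : Fin n → A := fun j => σ (ι (MvPolynomial.X j))
  have heval : ∀ p : MvPolynomial (Fin n) A, MvPolynomial.eval a p = σ (ι p) := by
    intro p
    have : MvPolynomial.aeval a = σ.comp ι := by
      apply MvPolynomial.algHom_ext
      intro i
      simp [a]
    have h2 := congr($this p)
    rw [AlgHom.comp_apply] at h2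
    rw [← h2]
    rfl
  refine ⟨a, fun i => ?_, fun j => ?_⟩
  · rw [heval, hι]
    have : (Ideal.Quotient.mk (Ideal.span (Set.range P))) (P i) = 0 := by
      rw [Ideal.Quotient.eq_zero_iff_mem]
      exact Ideal.subset_span ⟨i, rfl⟩
    rw [this, map_zero, map_zero]
  · rw [← IsLocalRing.residue_eq_zero_iff, map_sub, sub_eq_zero]
    change IsLocalRing.residue A (σ (ι (MvPolynomial.X j))) = _
    rw [hσ, hι, hχ, hχ₁, hχ₀, MvPolynomial.eval_X]

end Groth.Agent.S17972
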