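import Groth.Statements.S17973
import Groth.Agent.Lib.FpModelLocalization61

set_option autoImplicit false
universe u
open EGA4loc

namespace Groth.Agent.S17973

/-- Let A be a local ring, B a local ring which is a local-etale A-algebra (isomorphic over A to the
localization of an etale A-algebra at a prime ideal lying over the maximal ideal of A), and C a
local-etale B-algebra, regarded as an A-algebra through B. Then C is a local-etale A-algebra. -/
theorem result (A : Type u) [CommRing A] [IsLocalRing A]
    (B : Type u) [CommRing B] [IsLocalRing B] [Algebra A B]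
    (C : Type u) [CommRing C] [Algebra B C] [Algebra A C] [IsScalarTower A B C]
    (hB : EGA4loc.IsEssentiallyEtale A B) (hC : EGA4loc.IsEssentiallyEtale B C) :
    EGA4loc.IsEssentiallyEtale A C := by
  obtain ⟨D, iD1, iD2, q, iq, hDet, hq, ⟨eB⟩⟩ := hB
  obtain ⟨E, iE1, iE2, r, ir, hEet, hr, ⟨eC⟩⟩ := hC
  -- `B` as a `D`-algebra, the localization of `D` at `q`
  letI : Algebra D B := ((eB.symm : Localization.AtPrime q →+* B).comp
    (algebraMap D (Localization.AtPrime q))).toAlgebra
  haveI : IsScalarTower A D B := IsScalarTower.of_algebraMap_eq fun a => by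
    show algebraMap A B a = eB.symm (algebraMap D (Localization.AtPrime q) (algebraMap A D a))
    rw [← IsScalarTower.algebraMap_apply A D (Localization.AtPrime q), eB.symm.commutes]
  let eB' : Localization.AtPrime q ≃ₐ[D] B :=
    { eB.symm.toRingEquiv with commutes' := fun d => rfl }
  haveI : IsLocalization.AtPrime B q :=
    IsLocalization.isLocalization_of_algEquiv q.primeCompl eB'
  -- `E` as a `D`-algebra and as an `A`-algebra
  letI : Algebra D E := ((algebraMap B E).comp (algebraMap D B)).toAlgebra
  haveI : IsScalarTower D B E := IsScalarTower.of_algebraMap_eq fun _ => rfl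
  letI : Algebra A E := ((algebraMap B E).comp (algebraMap A B)).toAlgebra
  haveI : IsScalarTower A B E := IsScalarTower.of_algebraMap_eq fun _ => rfl
  haveI : IsScalarTower A D E := IsScalarTower.of_algebraMap_eq fun a => by
    show algebraMap B E (algebraMap A B a) = algebraMap B E (algebraMap D B (algebraMap A D a))
    rw [← IsScalarTower.algebraMap_apply A D B]
  haveI : Algebra.FinitePresentation B E := hEet.finitePresentation
  obtain ⟨E₀, iE₀1, iE₀2, hfp, ψ, hloc⟩ :=
    Groth.Agent.Lib.FpModelLocalization61.exists_fp_model q.primeCompl B E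
  letI : Algebra A E₀ := ((algebraMap D E₀).comp (algebraMap A D)).toAlgebra
  haveI : IsScalarTower A D E₀ := IsScalarTower.of_algebraMap_eq fun _ => rfl
  haveI : Algebra.FinitePresentation A D := hDet.finitePresentation
  haveI : Algebra.FinitePresentation A E₀ := Algebra.FinitePresentation.trans A D E₀
  let ψA : E₀ →ₐ[A] E := ψ.restrictScalars A
  have hlocA : letI := ψA.toRingHom.toAlgebra
      IsLocalization (Algebra.algebraMapSubmonoid E₀ q.primeCompl) E := hloc
  -- the localization of `E` at `r` is formally étale over `A`
  haveI : IsScalarTower A B (Localization.AtPrime r) :=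
    IsScalarTower.of_algebraMap_eq fun a => by
      rw [IsScalarTower.algebraMap_apply A E (Localization.AtPrime r),
        IsScalarTower.algebraMap_apply B E (Localization.AtPrime r),
        ← IsScalarTower.algebraMap_apply A B E]
  have hfe : Algebra.FormallyEtale A (Localization.AtPrime r) := by
    haveI : Algebra.FormallyEtale A D := hDet.formallyEtale
    haveI : Algebra.FormallyEtale D B := Algebra.FormallyEtale.of_isLocalization q.primeCompl
    haveI : Algebra.FormallyEtale A B := Algebra.FormallyEtale.comp A D B
    haveI : Algebra.FormallyEtale B E := hEet.formallyEtale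
    haveI : Algebra.FormallyEtale A E := Algebra.FormallyEtale.comp A B E
    haveI : Algebra.FormallyEtale E (Localization.AtPrime r) :=
      Algebra.FormallyEtale.of_isLocalization r.primeCompl
    exact Algebra.FormallyEtale.comp A E (Localization.AtPrime r)
  have hfe₀ : Algebra.IsEtaleAt A (r.comap ψA.toRingHom) :=
    Groth.Agent.Lib.FpModelLocalization61.isEtaleAt_comap_of_isLocalization ψA _ hlocA r hfe
  obtain ⟨f, hf, -, hEt⟩ := Groth.Agent.Lib.FpModelLocalization61.exists_etale_away (R := A) E₀
    (r.comap ψA.toRingHom) 1 (fun h => (Ideal.IsPrime.ne_top inferInstance)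
      ((Ideal.eq_top_iff_one _).mpr h))
  obtain ⟨s, hs, hcomap, ⟨e⟩⟩ :=
    Groth.Agent.Lib.FpModelLocalization61.exists_atPrime_away_equiv ψA _ hlocA r f hf
  refine ⟨Localization.Away f, inferInstance, inferInstance, s, hs, hEt, ?_,
    ⟨(eC.restrictScalars A).trans e.symm⟩⟩
  -- the prime `s` lies over the maximal ideal of `A`
  have h1 : s.comap (algebraMap A (Localization.Away f)) =
      (s.comap (algebraMap E₀ (Localization.Away f))).comap (algebraMap A E₀) := by
    rw [Ideal.comap_comap, ← IsScalarTower.algebraMap_eq]
  rw [h1, hcomap]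
  have h2 : (r.comap ψA.toRingHom).comap (algebraMap A E₀) = r.comap (algebraMap A E) := by
    rw [Ideal.comap_comap]
    congr 1
    ext a
    exact ψA.commutes a
  rw [h2, IsScalarTower.algebraMap_eq A B E, ← Ideal.comap_comap, hr,
    IsScalarTower.algebraMap_eq A D B, ← Ideal.comap_comap]
  have h3 : (IsLocalRing.maximalIdeal B).comap (algebraMap D B) = q :=
    IsLocalization.AtPrime.under_maximalIdeal B q
  rw [h3, hq]

end Groth.Agent.S17973
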