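import Groth.Statements.S17974
-- import your own Groth.Agent.* helpers here
import Groth.Agent.Lib.UnramEq

set_option autoImplicit false
universe u
open Unram

namespace Groth.Agent.S17974

/-- Let A be a commutative ring, B an unramified A-algebra (formally unramified and of finite type), C
an A-algebra, p a prime ideal of C, and u, v : B → C two A-algebra homomorphisms which agree after
composition with C → C/p. Then there is an element f of C not in p such that u and v agree after
composition with the localization map C → C[1/f]. -/
theorem result
    (A : Type u) [CommRing A] (B : Type u) [CommRing B] [Algebra A B]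
    [Algebra.FormallyUnramified A B] [Algebra.FiniteType A B]
    (C : Type u) [CommRing C] [Algebra A C] (p : Ideal C) [p.IsPrime]
    (u v : B →ₐ[A] C)
    (huv : (Ideal.Quotient.mk p).comp u.toRingHom = (Ideal.Quotient.mk p).comp v.toRingHom) :
    ∃ f : C, f ∉ p ∧
      (algebraMap C (Localization.Away f)).comp u.toRingHom =
        (algebraMap C (Localization.Away f)).comp v.toRingHom := by
  have h1 : ∀ b, u b - v b ∈ p := by
    intro b
    have := RingHom.congr_fun huv b
    simp only [RingHom.comp_apply] at this
    exact Ideal.Quotient.eq.mp this
  obtain ⟨f, hf, hfe⟩ := Groth.Agent.Lib.UnramEq.exists_away_eq p u v h1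
  refine ⟨f, hf, ?_⟩
  ext b
  exact hfe b

end Groth.Agent.S17974
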