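import Groth.Statements.S17975
import Mathlib.RingTheory.Nakayama
import Mathlib.RingTheory.LocalRing.MaximalIdeal.Basic
import Mathlib.RingTheory.Ideal.Maps

set_option autoImplicit false
universe u
open Hensel

namespace Groth.Agent.S17975


open Polynomial

theorem result'
    (A : Type u) [CommRing A] [IsLocalRing A] (C : Type u) [CommRing C] [Algebra A C] [Module.Finite A C]
    (Q₀ : Polynomial (IsLocalRing.ResidueField A)) (hQ₀ : Q₀.Monic)
    (e : (C ⧸ Ideal.map (algebraMap A C) (IsLocalRing.maximalIdeal A)) ≃ₐ[A] AdjoinRoot Q₀)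
    (x : C) (hx : e (Ideal.Quotient.mk (Ideal.map (algebraMap A C) (IsLocalRing.maximalIdeal A)) x) = AdjoinRoot.root Q₀) :
    Algebra.adjoin A {x} = ⊤ ∧
      ∃ Q : Polynomial A, Q.Monic ∧ Q.natDegree = Q₀.natDegree ∧
        Polynomial.map (IsLocalRing.residue A) Q = Q₀ ∧ Polynomial.aeval x Q = 0 := by
  classical
  let m := IsLocalRing.maximalIdeal A
  let mC := Ideal.map (algebraMap A C) m
  let n := Q₀.natDegree
  let ψ : C →ₐ[A] AdjoinRoot Q₀ := e.toAlgHom.comp (Ideal.Quotient.mkₐ A mC)
  have hψx : ψ x = AdjoinRoot.root Q₀ := hx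
  have hker : ∀ c : C, ψ c = 0 → c ∈ (m • ⊤ : Submodule A C) := by
    intro c hc
    have h1 : Ideal.Quotient.mk mC c = 0 := e.injective (by simpa [ψ] using hc)
    rw [Ideal.Quotient.eq_zero_iff_mem] at h1
    rw [Ideal.smul_top_eq_map]
    exact h1
  have hsmul : ∀ (a : A) (y : AdjoinRoot Q₀), a • y = (IsLocalRing.residue A a) • y := by
    intro a y
    rw [Algebra.smul_def, Algebra.smul_def, AdjoinRoot.algebraMap_eq', AdjoinRoot.algebraMap_eq]
    rfl
  let pb := AdjoinRoot.powerBasis' hQ₀
  -- Step A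
  have hA : (⊤ : Submodule A C) ≤
      Submodule.span A (Set.range fun i : Fin n => x ^ (i : ℕ)) ⊔ m • ⊤ := by
    intro c _
    have hrepr := pb.basis.sum_repr (ψ c)
    choose a ha using fun i => IsLocalRing.residue_surjective (pb.basis.repr (ψ c) i)
    have h1 : ψ (∑ i : Fin n, a i • x ^ (i : ℕ)) = ψ c := by
      rw [map_sum, ← hrepr]
      refine Finset.sum_congr rfl (fun i _ => ?_)
      rw [map_smul, map_pow, hψx, hsmul, ha i, PowerBasis.coe_basis]
      rfl
    have h2 : c - ∑ i : Fin n, a i • x ^ (i : ℕ) ∈ (m • ⊤ : Submodule A C) :=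
      hker _ (by rw [map_sub, h1, sub_self])
    have h3 : c = ∑ i : Fin n, a i • x ^ (i : ℕ) + (c - ∑ i : Fin n, a i • x ^ (i : ℕ)) := by
      abel
    rw [h3]
    refine Submodule.add_mem_sup (Submodule.sum_mem _ fun i _ => ?_) h2
    exact Submodule.smul_mem _ _ (Submodule.subset_span ⟨i, rfl⟩)
  -- Step B
  have hB : (⊤ : Submodule A C) ≤ Submodule.span A (Set.range fun i : Fin n => x ^ (i : ℕ)) :=
    Submodule.le_of_le_smul_of_le_jacobson_bot Module.Finite.fg_top
      (IsLocalRing.maximalIdeal_le_jacobson ⊥) hA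
  constructor
  · -- Step C
    rw [eq_top_iff]
    intro c _
    have hc := hB (Submodule.mem_top : c ∈ ⊤)
    have hle : Submodule.span A (Set.range fun i : Fin n => x ^ (i : ℕ)) ≤
        Subalgebra.toSubmodule (Algebra.adjoin A {x}) := by
      rw [Submodule.span_le]
      rintro _ ⟨i, rfl⟩
      exact Subalgebra.pow_mem _ (Algebra.self_mem_adjoin_singleton A x) _
    exact hle hc
  · -- Step D
    have hxn := hB (Submodule.mem_top : x ^ n ∈ ⊤)
    obtain ⟨a, ha⟩ := (Submodule.mem_span_range_iff_exists_fun A).mp hxn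
    set q : A[X] := ∑ i : Fin n, Polynomial.C (a i) * X ^ (i : ℕ) with hq
    have hqdeg : q.degree < (X ^ n : A[X]).degree := by
      rw [degree_X_pow]; exact degree_sum_fin_lt a
    have hQmonic : (X ^ n - q).Monic := (monic_X_pow n).sub_of_left hqdeg
    have hQdeg : (X ^ n - q).natDegree = n := by
      apply natDegree_eq_of_degree_eq_some
      rw [degree_sub_eq_left_of_degree_lt hqdeg, degree_X_pow]
    have haeval : aeval x (X ^ n - q) = 0 := by
      rw [map_sub, map_pow, aeval_X, hq, map_sum, ← ha, sub_eq_zero]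
      refine Finset.sum_congr rfl (fun i _ => ?_)
      rw [map_mul, aeval_C, map_pow, aeval_X, Algebra.smul_def]
    refine ⟨X ^ n - q, hQmonic, hQdeg, ?_, haeval⟩
    -- Step E
    have h1 : ψ (aeval x (X ^ n - q)) = 0 := by rw [haeval, map_zero]
    rw [← aeval_algHom_apply, hψx] at h1
    have h2 : aeval (AdjoinRoot.root Q₀) (X ^ n - q) =
        AdjoinRoot.mk Q₀ (Polynomial.map (IsLocalRing.residue A) (X ^ n - q)) := by
      rw [← AdjoinRoot.aeval_eq, aeval_def, aeval_def, eval₂_map, AdjoinRoot.algebraMap_eq']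
      rfl
    rw [h2, AdjoinRoot.mk_eq_zero] at h1
    refine eq_of_monic_of_dvd_of_natDegree_le hQ₀ (hQmonic.map _) h1 ?_
    rw [hQmonic.natDegree_map, hQdeg]


/-- Let A be a local ring with maximal ideal m and residue field k, C a commutative A-algebra which is
finitely generated as an A-module, Q₀ a monic polynomial of degree n over k, e an A-algebra
isomorphism from C/mC to k[T]/(Q₀), and x an element of C whose class is sent by e to the class of
T. Then x generates C as an A-algebra, and x is a root of a monic polynomial Q over A of degree n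
whose reduction modulo m equals Q₀. -/
theorem result
    (A : Type u) [CommRing A] [IsLocalRing A] (C : Type u) [CommRing C] [Algebra A C] [Module.Finite A C]
    (Q₀ : Polynomial (IsLocalRing.ResidueField A)) (hQ₀ : Q₀.Monic)
    (e : (C ⧸ Ideal.map (algebraMap A C) (IsLocalRing.maximalIdeal A)) ≃ₐ[A] AdjoinRoot Q₀)
    (x : C) (hx : e (Ideal.Quotient.mk (Ideal.map (algebraMap A C) (IsLocalRing.maximalIdeal A)) x) = AdjoinRoot.root Q₀) :
    Algebra.adjoin A {x} = ⊤ ∧
      ∃ Q : Polynomial A, Q.Monic ∧ Q.natDegree = Q₀.natDegree ∧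
        Polynomial.map (IsLocalRing.residue A) Q = Q₀ ∧ Polynomial.aeval x Q = 0 := by
  exact result' A C Q₀ hQ₀ e x hx

end Groth.Agent.S17975
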