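import Groth.Statements.S1798
import Groth.Agent.Lib.PuncturedAnn92

set_option autoImplicit false
universe u
open CategoryTheory AlgebraicGeometry
open LocCoh

namespace Groth.Agent.S1798

/-- Let A be a ring, J ⊆ I finitely generated ideals, U the open complement of V(I) in Spec A and p ≥ 0.
If some power of J kills H^p(U, O_U), then for each finite locally free O_U-module F some power of J
kills H^p(U, F). -/
theorem result (A : Type u) [CommRing A] (J I : Ideal A) (hJI : J ≤ I) (hJ : J.FG) (hI : I.FG) (p n : ℕ) (hO : ∀ a ∈ J ^ n, ∀ x : Coh.HH (↑(LocCoh.puncturedOpen A I)) (Coh.structureModule (↑(LocCoh.puncturedOpen A I))) p, a • x = 0) (F : (↑(LocCoh.puncturedOpen A I) : Scheme.{u}).Modules) (hF : FlatMod.IsFinLocFree F) : ∃ m : ℕ, ∀ a ∈ J ^ m, ∀ x : Coh.HH (↑(LocCoh.puncturedOpen A I)) F p, a • x = 0 := by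
  classical
  -- the punctured open is quasi-compact and quasi-separated
  have hcomp : IsCompact ((LocCoh.puncturedOpen A I : (Spec (CommRingCat.of A)).Opens) :
      Set (Spec (CommRingCat.of A))) :=
    (PrimeSpectrum.isCompact_isOpen_iff_ideal.mpr ⟨I, hI, rfl⟩).1
  haveI : CompactSpace ↥(↑(LocCoh.puncturedOpen A I) : Scheme.{u}) :=
    isCompact_iff_compactSpace.mp hcomp
  haveI : QuasiSeparatedSpace ↥(↑(LocCoh.puncturedOpen A I) : Scheme.{u}) :=
    (LocCoh.puncturedOpen A I).ι.isOpenEmbedding.quasiSeparatedSpace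
  -- the annihilator and the colon ideal
  let 𝔞 : Ideal A := Module.annihilator A (Coh.HH (↑(LocCoh.puncturedOpen A I)) F p)
  let 𝔠 : Ideal A := Submodule.colon 𝔞 (↑(J ^ n) : Set A)
  have h𝔠 : ∀ g : A, (∀ d ∈ J ^ n, ∀ z : Coh.HH (↑(LocCoh.puncturedOpen A I)) F p,
      (g * d) • z = 0) → g ∈ 𝔠 := by
    intro g hg
    rw [Submodule.mem_colon]
    intro d hd
    rw [Module.mem_annihilator]
    intro z
    rw [smul_eq_mul]
    exact hg d hd z
  -- `I` is contained in the radical of the colon ideal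
  have hrad : I ≤ 𝔠.radical := by
    rw [Ideal.radical_eq_sInf]
    refine le_sInf ?_
    rintro q ⟨hcq, hq⟩
    by_contra hIq
    have hxU : (⟨q, hq⟩ : PrimeSpectrum A) ∈ LocCoh.puncturedOpen A I := hIq
    obtain ⟨f, K, hf, hfK⟩ := Groth.Agent.Lib.PuncturedAnn92.exists_pow_mul_smul_eq_zero
      (LocCoh.puncturedOpen A I) p F hF ⟨⟨q, hq⟩, hxU⟩
    have hfq : f ∉ q := hf
    have : f ^ K ∈ 𝔠 := h𝔠 _ (fun d hd z => hfK d (fun y => hO d hd y) z)
    exact hfq (hq.mem_of_pow_mem K (hcq this))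
  obtain ⟨M, hM⟩ := Ideal.exists_pow_le_of_le_radical_of_fg hrad hI
  refine ⟨M + n, fun a ha x => ?_⟩
  have hle : J ^ (M + n) ≤ 𝔞 := by
    rw [pow_add]
    refine Ideal.mul_le.mpr (fun g hg d hd => ?_)
    have hg' : g ∈ 𝔠 := hM (Ideal.pow_right_mono hJI M hg)
    rw [Submodule.mem_colon] at hg'
    have := hg' d hd
    rwa [smul_eq_mul] at this
  exact Module.mem_annihilator.mp (hle ha) x

end Groth.Agent.S1798
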