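import Groth.Statements.S17982
import Groth.Agent.Lib.PiLocalization22

set_option autoImplicit false
universe u
open Hensel

namespace Groth.Agent.S17982

/-- Let A be a local ring and B a commutative A-algebra which is finitely generated as an A-module. Then
B is ring-isomorphic to a finite product of local rings if and only if the canonical homomorphism
from B to the product of the localizations of B at its maximal ideals is bijective. -/
theorem result
    (A : Type u) [CommRing A] [IsLocalRing A] (B : Type u) [CommRing B] [Algebra A B] [Module.Finite A B] :
    (∃ (ι : Type u) (_ : Fintype ι) (C : ι → Type u) (_ : ∀ j, CommRing (C j)),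
        (∀ j, IsLocalRing (C j)) ∧ Nonempty (B ≃+* (∀ j, C j))) ↔
    Function.Bijective
      (RingHom.pi (fun n : MaximalSpectrum B => algebraMap B (Localization.AtPrime n.asIdeal))) := by
  have hfun : (RingHom.pi (fun n : MaximalSpectrum B =>
      algebraMap B (Localization.AtPrime n.asIdeal)) : B → _) =
      (MaximalSpectrum.toPiLocalization B : B → _) := by
    funext b n
    rfl
  constructor
  · rintro ⟨ι, _, C, _, hloc, ⟨φ⟩⟩
    have := hloc
    rw [hfun]
    exact Groth.Agent.Lib.PiLocalization22.toPiLocalization_bijective_of_ringEquiv φ
  · intro hbij
    have hsurj : Function.Surjective (MaximalSpectrum.toPiLocalization B) := by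
      rw [← hfun]
      exact hbij.2
    have hfin : Finite (MaximalSpectrum B) :=
      MaximalSpectrum.finite_of_toPiLocalization_surjective hsurj
    exact ⟨MaximalSpectrum B, Fintype.ofFinite _, fun n => Localization.AtPrime n.asIdeal,
      inferInstance, fun n => inferInstance, ⟨RingEquiv.ofBijective _ hbij⟩⟩

end Groth.Agent.S17982
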