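import Groth.Statements.S17983
import Mathlib

set_option autoImplicit false
universe u
open WeilNum Polynomial

namespace Groth.Agent.S17983

theorem result (p e : ℕ) [Fact p.Prime] (he : 0 < e)
    (K : Type u) [Field K] [CharZero K] (π : K) (hπ : IsIntegral ℤ π)
    (hweil : ∀ z ∈ (minpoly ℤ π).aroots ℂ, ‖z‖ = Real.sqrt ((p : ℝ) ^ e))
    (hnr : ∀ z ∈ (minpoly ℤ π).aroots ℂ, z.im ≠ 0) :
    Even (minpoly ℤ π).natDegree ∧
      ∀ r ≤ (minpoly ℤ π).natDegree / 2,
        (minpoly ℤ π).coeff ((minpoly ℤ π).natDegree / 2 - r) =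
          (p : ℤ) ^ (e * r) * (minpoly ℤ π).coeff ((minpoly ℤ π).natDegree / 2 + r) := by
  classical
  have hp0 : 0 < p := (Fact.out : p.Prime).pos
  have hq0 : (0:ℝ) < (p:ℝ)^e := by positivity
  set P := minpoly ℤ π with hPdef
  have hmonic : P.Monic := minpoly.monic hπ
  have hirr : Irreducible P := minpoly.irreducible hπ
  set n := P.natDegree with hn
  set PC : ℂ[X] := P.map (algebraMap ℤ ℂ) with hPC
  have hPCmonic : PC.Monic := hmonic.map _
  have hdegPC : PC.natDegree = n := hmonic.natDegree_map _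
  have hsplit : PC.Splits := IsAlgClosed.splits PC
  have hsep : PC.Separable := by
    have h1 : minpoly ℚ π = P.map (algebraMap ℤ ℚ) :=
      minpoly.isIntegrallyClosed_eq_field_fractions' ℚ hπ
    have h2 : (minpoly ℚ π).Separable := (minpoly.irreducible hπ.tower_top).separable
    have h3 : PC = (P.map (algebraMap ℤ ℚ)).map (algebraMap ℚ ℂ) := by
      rw [Polynomial.map_map, hPC]; congr 1
    rw [h3, ← h1]; exact h2.map
  have hnodup : PC.roots.Nodup := nodup_roots hsep
  have hcard : PC.roots.card = n := by rw [← hsplit.natDegree_eq_card_roots, hdegPC]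
  have hnorm : ∀ z ∈ PC.roots, ‖z‖ = Real.sqrt ((p:ℝ)^e) := hweil
  have him : ∀ z ∈ PC.roots, z.im ≠ 0 := hnr
  have hPC0 : PC ≠ 0 := hPCmonic.ne_zero
  have hmem : ∀ z, z ∈ PC.roots ↔ eval₂ (Int.castRingHom ℂ) z P = 0 := by
    intro z
    rw [mem_roots hPC0, IsRoot.def, hPC, eval_map]; rfl
  have hconj : ∀ z ∈ PC.roots, (starRingEnd ℂ) z ∈ PC.roots := by
    intro z hz
    rw [hmem] at hz ⊢
    have := Polynomial.hom_eval₂ P (Int.castRingHom ℂ) (starRingEnd ℂ) z
    rw [hz, map_zero] at this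
    rw [show (starRingEnd ℂ).comp (Int.castRingHom ℂ) = Int.castRingHom ℂ from Subsingleton.elim _ _] at this
    exact this.symm
  have hzz : ∀ z ∈ PC.roots, z * (starRingEnd ℂ z) = ((p:ℂ)^e) := by
    intro z hz
    rw [Complex.mul_conj, Complex.normSq_eq_norm_sq, hnorm z hz, Real.sq_sqrt hq0.le]
    push_cast; rfl
  -- the finset of roots
  set s : Finset ℂ := ⟨PC.roots, hnodup⟩ with hs
  have hsmem : ∀ z, z ∈ s ↔ z ∈ PC.roots := fun z => Iff.rfl
  have hscard : s.card = n := hcard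
  have heven : Even n := by
    have h1 := Finset.prod_involution (s := s) (f := fun _ => (-1 : ℤ))
      (fun a _ => starRingEnd ℂ a) (by simp)
      (fun a ha _ => by
        intro hc
        exact him a ha (Complex.conj_eq_iff_im.mp hc))
      (fun a ha => hconj a ha) (fun a ha => Complex.conj_conj a)
    rw [Finset.prod_const, hscard] at h1
    exact (neg_one_pow_eq_one_iff_even (by norm_num)).mp h1
  obtain ⟨d, hd⟩ := heven
  have hd2 : n / 2 = d := by omega
  -- constant coefficient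
  set w : ℂ := ((Real.sqrt ((p:ℝ)^e) : ℝ) : ℂ) with hw
  have hw2 : w ^ 2 = (p:ℂ)^e := by
    rw [hw, ← Complex.ofReal_pow, Real.sq_sqrt hq0.le]; push_cast; rfl
  have hw0 : w ≠ 0 := by
    intro h0
    rw [h0] at hw2
    have : (p:ℂ)^e ≠ 0 := by
      have : (p:ℂ) ≠ 0 := by exact_mod_cast hp0.ne'
      exact pow_ne_zero _ this
    exact this (by rw [← hw2]; ring)
  have hprod : PC.roots.prod = (p:ℂ)^(e * d) := by
    have h1 := Finset.prod_involution (s := s) (f := fun z : ℂ => z / w)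
      (fun a _ => starRingEnd ℂ a)
      (fun a ha => by
        show a / w * (starRingEnd ℂ a / w) = 1
        rw [div_mul_div_comm, hzz a ha, ← sq, hw2, div_self]
        have : (p:ℂ) ≠ 0 := by exact_mod_cast hp0.ne'
        exact pow_ne_zero _ this)
      (fun a ha _ => by
        intro hc
        exact him a ha (Complex.conj_eq_iff_im.mp hc))
      (fun a ha => hconj a ha) (fun a ha => Complex.conj_conj a)
    rw [Finset.prod_div_distrib, Finset.prod_const, hscard, div_eq_one_iff_eq (pow_ne_zero _ hw0)] at h1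
    have h2 : ∏ z ∈ s, z = PC.roots.prod := by
      rw [Finset.prod_eq_multiset_prod, Multiset.map_id']
    rw [← h2, h1, hd, ← two_mul, pow_mul, hw2, ← pow_mul]
  have ha0C : PC.coeff 0 = (p:ℂ)^(e * d) := by
    rw [hsplit.coeff_zero_eq_prod_roots_of_monic hPCmonic, hdegPC, hd, hprod, ← two_mul, pow_mul]
    norm_num
  have ha0 : P.coeff 0 = (p:ℤ)^(e*d) := by
    have : ((P.coeff 0 : ℤ) : ℂ) = (((p:ℤ)^(e*d) : ℤ) : ℂ) := by
      rw [hPC, coeff_map] at ha0C
      rw [show ((P.coeff 0 : ℤ) : ℂ) = algebraMap ℤ ℂ (P.coeff 0) from rfl, ha0C]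
      push_cast; rfl
    exact_mod_cast this
  set q : ℤ := (p:ℤ)^e with hq
  have hqC : ((q:ℤ):ℂ) = (p:ℂ)^e := by rw [hq]; push_cast; rfl
  have hqne : q ≠ 0 := pow_ne_zero _ (by exact_mod_cast hp0.ne')
  set Q : ℤ[X] := ∑ j ∈ Finset.range (n+1), C (P.coeff j * q^j) * X^(n - j) with hQ
  have hQcoeff : ∀ j ≤ n, Q.coeff (n - j) = P.coeff j * q^j := by
    intro j hj
    rw [hQ, finsetSum_coeff]
    rw [Finset.sum_eq_single j]
    · rw [coeff_C_mul_X_pow]; simp
    · intro i hi hij
      rw [coeff_C_mul_X_pow, if_neg]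
      rw [Finset.mem_range] at hi
      omega
    · intro hj'; exact absurd (Finset.mem_range.mpr (by omega)) hj'
  have hQdeg : Q.natDegree ≤ n := by
    rw [hQ]
    apply natDegree_sum_le_of_forall_le
    intro j _
    exact (natDegree_C_mul_X_pow_le _ _).trans (Nat.sub_le _ _)
  have hQroot : ∀ z ∈ PC.roots, eval₂ (Int.castRingHom ℂ) z Q = 0 := by
    intro z hz
    have hz' := (hmem _).mp (hconj z hz)
    rw [eval₂_eq_sum_range] at hz'
    rw [hQ, eval₂_finsetSum]
    have key : ∀ j ∈ Finset.range (n+1),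
        eval₂ (Int.castRingHom ℂ) z (C (P.coeff j * q^j) * X^(n-j)) =
          z^n * ((Int.castRingHom ℂ) (P.coeff j) * (starRingEnd ℂ z)^j) := by
      intro j hj
      rw [Finset.mem_range] at hj
      rw [eval₂_mul, eval₂_C, eval₂_pow, eval₂_X]
      have : z^n = z^j * z^(n-j) := by rw [← pow_add]; congr 1; omega
      rw [this, map_mul, map_pow]
      rw [show (Int.castRingHom ℂ) q = ((q:ℤ):ℂ) from rfl, hqC, ← hzz z hz, mul_pow]; ring
    rw [Finset.sum_congr rfl key, ← Finset.mul_sum, hz', mul_zero]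
  have hnpos : 0 < n := minpoly.natDegree_pos hπ
  obtain ⟨z, hz⟩ : ∃ z, z ∈ PC.roots := by
    apply Multiset.card_pos_iff_exists_mem.mp; rw [hcard]; exact hnpos
  have hzint : IsIntegral ℤ z := ⟨P, hmonic, (hmem z).mp hz⟩
  have hPz : minpoly ℤ z = P := by
    have h1 : minpoly ℤ z ∣ P := minpoly.isIntegrallyClosed_dvd hzint ((hmem z).mp hz)
    have h2 := (minpoly.irreducible hzint).dvd_symm hirr h1
    exact eq_of_monic_of_associated (minpoly.monic hzint) hmonic (associated_of_dvd_dvd h1 h2)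
  have hdvd : P ∣ Q := by
    rw [← hPz]; exact minpoly.isIntegrallyClosed_dvd hzint (hQroot z hz)
  obtain ⟨R, hR⟩ := hdvd
  have hQn : Q.coeff n = P.coeff 0 := by
    have := hQcoeff 0 (Nat.zero_le _)
    simpa using this
  have hQ0 : Q ≠ 0 := by
    intro h0
    rw [h0, coeff_zero, ha0] at hQn
    exact (pow_ne_zero _ (by exact_mod_cast hp0.ne')) hQn.symm
  have hR0 : R ≠ 0 := by
    rintro rfl
    exact hQ0 (by rw [hR, mul_zero])
  have hRdeg : R.natDegree = 0 := by
    have := natDegree_mul hmonic.ne_zero hR0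
    rw [← hR] at this; omega
  obtain ⟨c, rfl⟩ : ∃ c, R = C c := ⟨R.coeff 0, eq_C_of_natDegree_eq_zero hRdeg⟩
  have hc : c = P.coeff 0 := by
    have := congrArg (fun f => f.coeff n) hR
    beta_reduce at this
    rw [hQn, mul_comm, coeff_C_mul, hn, hmonic.coeff_natDegree, mul_one] at this
    exact this.symm
  have hcoef : ∀ j ≤ n, P.coeff j * q^j = P.coeff 0 * P.coeff (n - j) := by
    intro j hj
    rw [← hQcoeff j hj, hR, mul_comm P, coeff_C_mul, hc]
  refine ⟨⟨d, hd⟩, ?_⟩
  intro r hr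
  rw [hd2] at hr ⊢
  have h1 := hcoef (d - r) (by omega)
  rw [show n - (d - r) = d + r by omega, ha0] at h1
  have h2 : (p:ℤ)^(e*d) = q^(d-r) * (p:ℤ)^(e*r) := by
    rw [hq, ← pow_mul, ← pow_add]; congr 1
    rw [← Nat.mul_add]; congr 1; omega
  rw [h2] at h1
  have h3 : q^(d-r) ≠ 0 := pow_ne_zero _ hqne
  apply mul_left_cancel₀ h3
  rw [mul_comm, h1]; ring

end Groth.Agent.S17983
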