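import Groth.Statements.S17987
import Groth.Agent.Lib.UltraNewton
import Groth.Agent.S17983
open Groth.Agent.Lib.UltraNewton

set_option autoImplicit false
universe u
open scoped Classical
open WeilNum

namespace Groth.Agent.S17987

/-- Let p be a prime, e ≥ 1 and q = p^e, and let (π_i) be a finite family of nonreal Weil q-numbers: π_i
lies in a field K_i of characteristic zero, is integral over ℤ with minimal polynomial P_i, every
complex root of P_i has absolute value √q, and no complex root of P_i is real; in particular deg P_i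
= 2d_i is even. Call π_i ordinary when exactly half of the roots of P_i in an algebraic closure of
ℚ_p, counted with multiplicity, are p-adic units (have absolute value 1). Then all π_i are ordinary
if and only if p does not divide ∏_i a_{d_i}, the product of the middle coefficients of the P_i
(this product is the value at F = V = 0 of the symmetric polynomial h_w of the family). -/
theorem result (p e : ℕ) [Fact p.Prime] (he : 0 < e)
    (ι : Type) [Fintype ι] (K : ι → Type u) [∀ i, Field (K i)] [∀ i, CharZero (K i)] (π : ∀ i, K i)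
    (hint : ∀ i, IsIntegral ℤ (π i))
    (hweil : ∀ i, ∀ z ∈ (minpoly ℤ (π i)).aroots ℂ, ‖z‖ = Real.sqrt ((p : ℝ) ^ e))
    (hnr : ∀ i, ∀ z ∈ (minpoly ℤ (π i)).aroots ℂ, z.im ≠ 0) :
    (∀ i, 2 * Multiset.card (((minpoly ℤ (π i)).aroots (PadicAlgCl p)).filter (fun z => ‖z‖ = 1)) = (minpoly ℤ (π i)).natDegree) ↔
      ¬ ((p : ℤ) ∣ ∏ i, (minpoly ℤ (π i)).coeff ((minpoly ℤ (π i)).natDegree / 2)) := by
  classical
  have hpZ : Prime (p : ℤ) := Nat.prime_iff_prime_int.mp (Fact.out : p.Prime)
  -- per-index statement
  have key : ∀ i, (2 * Multiset.card (((minpoly ℤ (π i)).aroots (PadicAlgCl p)).filter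
        (fun z => ‖z‖ = 1)) = (minpoly ℤ (π i)).natDegree) ↔
      ¬ ((p : ℤ) ∣ (minpoly ℤ (π i)).coeff ((minpoly ℤ (π i)).natDegree / 2)) := by
    intro i
    obtain ⟨⟨d, hd⟩, hsym⟩ := Groth.Agent.S17983.result p e he (K i) (π i) (hint i) (hweil i) (hnr i)
    obtain ⟨h1, h2, h3⟩ := padic_first_segment p (minpoly.monic (hint i))
    set P := minpoly ℤ (π i) with hP
    set m := Multiset.card ((P.aroots (PadicAlgCl p)).filter (fun z => ‖z‖ < 1)) with hm
    set u := Multiset.card ((P.aroots (PadicAlgCl p)).filter (fun z => ‖z‖ = 1)) with hu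
    have hd2 : P.natDegree / 2 = d := by omega
    rw [hd2] at hsym ⊢
    -- p divides a_j for j < d
    have hlow : ∀ j < d, (p : ℤ) ∣ P.coeff j := by
      intro j hj
      have := hsym (d - j) (by omega)
      rw [show d - (d - j) = j by omega] at this
      rw [this]
      apply Dvd.dvd.mul_right
      exact dvd_pow_self _ (by
        have : 0 < e * (d - j) := Nat.mul_pos he (by omega)
        omega)
    constructor
    · intro h2u
      have hmd : m = d := by omega
      rw [← hmd]; exact h2
    · intro hnd
      have h4 : ¬ d < m := fun h => hnd (h1 d h)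
      have h5 : ¬ m < d := fun h => h2 (hlow m h)
      omega
  rw [Prime.dvd_finsetProd_iff hpZ]
  constructor
  · intro hall
    rintro ⟨i, _, hi⟩
    exact (key i).mp (hall i) hi
  · intro hno i
    exact (key i).mpr (fun hi => hno ⟨i, Finset.mem_univ i, hi⟩)

end Groth.Agent.S17987
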