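import Groth.Statements.S18003
import Mathlib.FieldTheory.Minpoly.IsIntegrallyClosed
import Mathlib.RingTheory.Coprime.Lemmas
import Mathlib.RingTheory.Polynomial.UniqueFactorization
import Mathlib.RingTheory.Adjoin.Basic
import Mathlib.Tactic

set_option autoImplicit false
universe u
open MvPolynomial
open WeilNum

namespace Groth.Agent.S18003

theorem exists_pow_mul_eq (q : ℤ) (g : MvPolynomial (Fin 2) ℤ) :
    ∃ (N : ℕ) (s : Polynomial ℤ) (a : MvPolynomial (Fin 2) ℤ),
      X 0 ^ N * g = Polynomial.aeval (X 0 : MvPolynomial (Fin 2) ℤ) s + (X 0 * X 1 - C q) * a := by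
  induction g using MvPolynomial.induction_on with
  | C c =>
    refine ⟨0, Polynomial.C c, 0, ?_⟩
    simp
  | add g₁ g₂ h₁ h₂ =>
    obtain ⟨N₁, s₁, a₁, e₁⟩ := h₁
    obtain ⟨N₂, s₂, a₂, e₂⟩ := h₂
    refine ⟨N₁ + N₂, Polynomial.X ^ N₂ * s₁ + Polynomial.X ^ N₁ * s₂, X 0 ^ N₂ * a₁ + X 0 ^ N₁ * a₂, ?_⟩
    have : X 0 ^ (N₁ + N₂) * (g₁ + g₂) =
        X 0 ^ N₂ * (X 0 ^ N₁ * g₁) + X 0 ^ N₁ * (X 0 ^ N₂ * g₂ : MvPolynomial (Fin 2) ℤ) := by ring
    rw [this, e₁, e₂]
    simp only [map_add, map_mul, map_pow, Polynomial.aeval_X]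
    ring
  | mul_X g i h =>
    obtain ⟨N, s, a, e⟩ := h
    fin_cases i
    · refine ⟨N, s * Polynomial.X, a * X 0, ?_⟩
      have : X 0 ^ N * (g * X (0 : Fin 2)) = (X 0 ^ N * g) * X 0 := by ring
      simp only [Fin.zero_eta, Fin.isValue]
      rw [this, e]
      simp only [map_mul, Polynomial.aeval_X]
      ring
    · refine ⟨N + 1, Polynomial.C q * s, Polynomial.aeval (X 0 : MvPolynomial (Fin 2) ℤ) s +
        (X 0 * X 1 - C q) * a + C q * a, ?_⟩
      have : X 0 ^ (N + 1) * (g * X (1 : Fin 2)) = (X 0 * X 1) * (X 0 ^ N * g) := by ring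
      simp only [Fin.mk_one, Fin.isValue]
      rw [this, e]
      simp only [map_mul, Polynomial.aeval_C]
      have hC : (algebraMap ℤ (MvPolynomial (Fin 2) ℤ)) q = C q := rfl
      rw [hC]
      ring

section general

variable {R' : Type*} [CommRing R'] (φ : MvPolynomial (Fin 2) ℤ →ₐ[ℤ] R') (q : ℤ)
  (Pw : Polynomial ℤ) {T : Type*} [AddCommGroup T] (FT : T →ₗ[ℤ] T)

theorem injective_of_aeval_eq_zero [Module.IsTorsionFree ℤ T] (h3 : Pw.coeff 0 ≠ 0)
    (hP : Polynomial.aeval FT Pw = 0) : Function.Injective FT := by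
  rw [injective_iff_map_eq_zero]
  intro t ht
  have hdiv : Pw = Pw.divX * Polynomial.X + Polynomial.C (Pw.coeff 0) := (Polynomial.divX_mul_X_add Pw).symm
  rw [hdiv] at hP
  have := LinearMap.congr_fun hP t
  simp only [map_add, map_mul, Polynomial.aeval_X, Polynomial.aeval_C, LinearMap.add_apply,
    Module.End.mul_apply, ht, map_zero, zero_add, Module.algebraMap_end_apply, LinearMap.zero_apply] at this
  exact (smul_eq_zero_iff_right h3).mp this

theorem pow_injective_of_injective (hFT : Function.Injective FT) (N : ℕ) :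
    Function.Injective ((FT ^ N : Module.End ℤ T)) := by
  induction N with
  | zero => exact fun x y h => h
  | succ n ih =>
    rw [pow_succ]
    exact fun x y h => hFT (ih h)

theorem exists_module_of [Module.IsTorsionFree ℤ T]
    (hq : φ (X 0) * φ (X 1) = (q : R'))
    (h2 : ∀ s : Polynomial ℤ, Polynomial.aeval (φ (X 0)) s = 0 → Pw ∣ s)
    (h3 : Pw.coeff 0 ≠ 0)
    (hP : Polynomial.aeval FT Pw = 0) (VT : T →ₗ[ℤ] T) (hFV : FT ∘ₗ VT = q • LinearMap.id) :
    ∃ _ : Module φ.range T, ∀ t : T, (⟨φ (X 0), AlgHom.mem_range_self _ _⟩ : φ.range) • t = FT t := by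
  have hFT : Function.Injective FT := injective_of_aeval_eq_zero Pw FT h3 hP
  have hFV' : ∀ t, FT (VT t) = q • t := fun t => LinearMap.congr_fun hFV t
  have hVF : ∀ t, VT (FT t) = q • t := fun t => hFT (by rw [hFV', map_smul])
  have hcomm : FT * VT = VT * FT := by
    ext t
    simp only [Module.End.mul_apply, hFV', hVF]
  let s : Set (Module.End ℤ T) := {FT, VT}
  have hs : ∀ a ∈ s, ∀ b ∈ s, a * b = b * a := by
    intro a ha b hb
    rcases ha with rfl | rfl <;> rcases hb with rfl | rfl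
    · rfl
    · exact hcomm
    · exact hcomm.symm
    · rfl
  let _ : CommRing (Algebra.adjoin ℤ s) := Algebra.adjoinCommRingOfComm ℤ hs
  let fC : Algebra.adjoin ℤ s := ⟨FT, Algebra.subset_adjoin (Set.mem_insert _ _)⟩
  let vC : Algebra.adjoin ℤ s := ⟨VT, Algebra.subset_adjoin (Set.mem_insert_of_mem _ rfl)⟩
  let ψ : MvPolynomial (Fin 2) ℤ →ₐ[ℤ] Algebra.adjoin ℤ s := MvPolynomial.aeval ![fC, vC]
  let Ψ : MvPolynomial (Fin 2) ℤ →ₐ[ℤ] Module.End ℤ T := (Algebra.adjoin ℤ s).val.comp ψ
  have hΨ0 : Ψ (X 0) = FT := by simp [Ψ, ψ, fC]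
  have hΨ1 : Ψ (X 1) = VT := by simp [Ψ, ψ, vC]
  have hker : ∀ g, φ g = 0 → Ψ g = 0 := by
    intro g hg
    obtain ⟨N, s', a, e⟩ := exists_pow_mul_eq q g
    have e1 := congrArg φ e
    have e2 := congrArg Ψ e
    simp only [map_mul, map_pow, map_add, map_sub, hg, mul_zero] at e1
    rw [← Polynomial.aeval_algHom_apply] at e1
    have hCq : φ (C q) = (q : R') := by
      rw [← MvPolynomial.algebraMap_eq, AlgHom.commutes]; simp
    rw [hCq, hq, sub_self, zero_mul, add_zero] at e1
    obtain ⟨w, hw⟩ := h2 s' e1.symm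
    have hs' : Polynomial.aeval FT s' = 0 := by rw [hw, map_mul, hP, zero_mul]
    simp only [map_mul, map_pow, map_add, map_sub, hΨ0, hΨ1] at e2
    rw [← Polynomial.aeval_algHom_apply, hΨ0, hs', zero_add] at e2
    have hCq' : Ψ (C q) = q • (1 : Module.End ℤ T) := by
      rw [← MvPolynomial.algebraMap_eq, AlgHom.commutes, Algebra.algebraMap_eq_smul_one]
    have hz : FT * VT - Ψ (C q) = 0 := by
      rw [hCq', sub_eq_zero]
      ext t
      simp [hFV']
    rw [hz, zero_mul] at e2
    ext t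
    have := LinearMap.congr_fun e2 t
    simp only [Module.End.mul_apply, LinearMap.zero_apply] at this ⊢
    exact pow_injective_of_injective FT hFT N (by rw [this, map_zero])
  let f : MvPolynomial (Fin 2) ℤ →+* φ.range := φ.rangeRestrict.toRingHom
  have hf : Function.Surjective f := φ.rangeRestrict_surjective
  have hle : RingHom.ker f ≤ RingHom.ker Ψ.toRingHom := by
    intro g hg
    rw [RingHom.mem_ker] at hg ⊢
    apply hker
    have := congrArg Subtype.val hg
    simpa [f] using this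
  let ρ : φ.range →+* Module.End ℤ T := f.liftOfSurjective hf ⟨Ψ.toRingHom, hle⟩
  refine ⟨Module.compHom T ρ, ?_⟩
  intro t
  have h0 : (⟨φ (X 0), AlgHom.mem_range_self _ _⟩ : φ.range) = f (X 0) := rfl
  rw [h0]
  change ρ (f (X 0)) t = FT t
  rw [RingHom.liftOfSurjective_comp_apply]
  change Ψ (X 0) t = FT t
  rw [hΨ0]

theorem of_module
    (hq : φ (X 0) * φ (X 1) = (q : R'))
    (h1 : Polynomial.aeval (φ (X 0)) Pw = 0)
    [Module φ.range T]
    (hF : ∀ t : T, (⟨φ (X 0), AlgHom.mem_range_self _ _⟩ : φ.range) • t = FT t) :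
    Polynomial.aeval FT Pw = 0 ∧ ∃ VT : T →ₗ[ℤ] T, FT ∘ₗ VT = q • LinearMap.id := by
  let ρ : φ.range →+* Module.End ℤ T :=
    (addMonoidEndRingEquivInt T).toRingHom.comp (Module.toAddMonoidEnd φ.range T)
  have hρ : ∀ (r : φ.range) (t : T), ρ r t = r • t := fun r t => rfl
  let ρA : φ.range →ₐ[ℤ] Module.End ℤ T := ρ.toIntAlgHom
  have hρA : ∀ (r : φ.range) (t : T), ρA r t = r • t := fun r t => rfl
  let x0 : φ.range := ⟨φ (X 0), AlgHom.mem_range_self _ _⟩
  let x1 : φ.range := ⟨φ (X 1), AlgHom.mem_range_self _ _⟩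
  have hx0 : ρA x0 = FT := by
    ext t
    rw [hρA]
    exact hF t
  have hz : Polynomial.aeval x0 Pw = 0 := by
    apply Subtype.val_injective
    have := Polynomial.aeval_algHom_apply φ.range.val x0 Pw
    simp only [Subalgebra.coe_val] at this
    rw [← this]
    exact h1
  refine ⟨?_, ρA x1, ?_⟩
  · rw [← hx0, Polynomial.aeval_algHom_apply, hz, map_zero]
  · ext t
    simp only [LinearMap.comp_apply, LinearMap.smul_apply, LinearMap.id_apply]
    rw [← hx0, hρA, hρA, smul_smul]
    have : x0 * x1 = (q : φ.range) := by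
      apply Subtype.val_injective
      simp only [x0, x1, MulMemClass.mk_mul_mk, hq]
      simp
    rw [this]
    exact Int.cast_smul_eq_zsmul _ q t

end general

/-- Let p be a prime, e ≥ 1 and q = p^e; let (π_i) be a finite family of pairwise nonconjugate Weil
q-numbers (π_i in a field K_i of characteristic zero, integral over ℤ with minimal polynomial P_i,
all complex roots of P_i of absolute value √q, P_i ≠ P_j for i ≠ j) of even total degree Σ_i deg
P_i, P_w = ∏_i P_i, and R_w ⊆ ∏_i K_i the minimal central order, the image of ℤ[F, V] → ∏_i K_i, F ↦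
(π_i), V ↦ (q/π_i). Let T be a finitely generated free ℤ-module and F_T an endomorphism of T. Then
there exists an R_w-module structure on the additive group T in which the class of F acts as F_T if
and only if P_w(F_T) = 0 (equivalently: F_T is semisimple after tensoring with ℚ, with eigenvalues
among the conjugates of the π_i) and there is an endomorphism V_T of T with F_T ∘ V_T = q. When it
exists the structure is determined by F_T (the class of V acts as V_T = q·F_T⁻¹), and reflexive
R_w-modules are exactly the ℤ-free finitely generated ones, so this identifies the objects of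
Refl(R_w) with such pairs (T, F_T); the uniqueness remark is not part of the formal statement. -/
theorem result (p e : ℕ) [Fact p.Prime] (he : 0 < e)
    (ι : Type) [Fintype ι] (K : ι → Type u) [∀ i, Field (K i)] [∀ i, CharZero (K i)] (π : ∀ i, K i)
    (hint : ∀ i, IsIntegral ℤ (π i))
    (hweil : ∀ i, ∀ z ∈ (minpoly ℤ (π i)).aroots ℂ, ‖z‖ = Real.sqrt ((p : ℝ) ^ e))
    (hinj : ∀ i j, minpoly ℤ (π i) = minpoly ℤ (π j) → i = j)
    (D : ℕ) (hD : ∑ i, (minpoly ℤ (π i)).natDegree = 2 * D)
    (T : Type) [AddCommGroup T] [Module.Finite ℤ T] [Module.Free ℤ T] (FT : T →ₗ[ℤ] T) :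
    (∃ _ : Module (MvPolynomial.aeval ![fun i => π i, fun i => ((p : K i) ^ e) / π i] :
        MvPolynomial (Fin 2) ℤ →ₐ[ℤ] ((i : ι) → K i)).range T,
        ∀ t : T, (⟨(MvPolynomial.aeval ![fun i => π i, fun i => ((p : K i) ^ e) / π i] :
        MvPolynomial (Fin 2) ℤ →ₐ[ℤ] ((i : ι) → K i)) (X 0), AlgHom.mem_range_self _ _⟩ : (MvPolynomial.aeval ![fun i => π i, fun i => ((p : K i) ^ e) / π i] :
        MvPolynomial (Fin 2) ℤ →ₐ[ℤ] ((i : ι) → K i)).range) • t = FT t) ↔
      (Polynomial.aeval FT (∏ i, minpoly ℤ (π i)) = 0 ∧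
        ∃ VT : T →ₗ[ℤ] T, FT ∘ₗ VT = ((p : ℤ) ^ e) • LinearMap.id) := by
  have hp : (0 : ℝ) < (p : ℝ) ^ e := by
    have := (Fact.out : p.Prime).pos
    positivity
  have hπ : ∀ i, π i ≠ 0 := by
    intro i h0
    have hm : minpoly ℤ (π i) = Polynomial.X := by
      rw [h0]
      have := minpoly.eq_X_sub_C_of_algebraMap_inj (A := ℤ) (B := K i) 0
        (FaithfulSMul.algebraMap_injective ℤ (K i))
      simpa using this
    have h := hweil i 0 (by rw [hm]; simp)
    rw [norm_zero] at h
    have := Real.sqrt_pos.mpr hp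
    linarith
  set φ : MvPolynomial (Fin 2) ℤ →ₐ[ℤ] ((i : ι) → K i) :=
    MvPolynomial.aeval ![fun i => π i, fun i => ((p : K i) ^ e) / π i] with hφ
  have hφ0 : φ (X 0) = fun i => π i := by simp [hφ]
  have hφ1 : φ (X 1) = fun i => ((p : K i) ^ e) / π i := by simp [hφ]
  have hq : φ (X 0) * φ (X 1) = (((p : ℤ) ^ e : ℤ) : (i : ι) → K i) := by
    rw [hφ0, hφ1]
    funext i
    simp only [Pi.mul_apply, Pi.intCast_apply]
    rw [mul_div_cancel₀ _ (hπ i)]
    push_cast
    rfl
  have h1 : Polynomial.aeval (φ (X 0)) (∏ i, minpoly ℤ (π i)) = 0 := by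
    rw [hφ0]
    funext i
    rw [Polynomial.aeval_pi_apply₂, map_prod]
    exact Finset.prod_eq_zero (Finset.mem_univ i) (minpoly.aeval _ _)
  have h2 : ∀ s : Polynomial ℤ, Polynomial.aeval (φ (X 0)) s = 0 → (∏ i, minpoly ℤ (π i)) ∣ s := by
    intro s hs
    rw [hφ0] at hs
    apply Fintype.prod_dvd_of_isRelPrime
    · intro i j hij
      change IsRelPrime (minpoly ℤ (π i)) (minpoly ℤ (π j))
      have hi := (minpoly.prime_of_isIntegrallyClosed (hint i)).irreducible
      have hj := (minpoly.prime_of_isIntegrallyClosed (hint j)).irreducible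
      rw [hi.isRelPrime_iff_not_dvd, hi.dvd_irreducible_iff_associated hj]
      intro hass
      exact hij (hinj i j (Polynomial.eq_of_monic_of_associated (minpoly.monic (hint i))
        (minpoly.monic (hint j)) hass))
    · intro i
      apply minpoly.isIntegrallyClosed_dvd (hint i)
      have := congrFun hs i
      rwa [Polynomial.aeval_pi_apply₂] at this
  have h3 : (∏ i, minpoly ℤ (π i)).coeff 0 ≠ 0 := by
    rw [Polynomial.coeff_zero_prod]
    refine Finset.prod_ne_zero_iff.mpr fun i _ hc => hπ i ?_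
    have hX : Polynomial.X ∣ minpoly ℤ (π i) := Polynomial.X_dvd_iff.mpr hc
    have hi := (minpoly.prime_of_isIntegrallyClosed (hint i)).irreducible
    rw [Polynomial.irreducible_X.dvd_irreducible_iff_associated hi] at hX
    have hm := Polynomial.eq_of_monic_of_associated Polynomial.monic_X (minpoly.monic (hint i)) hX
    have := minpoly.aeval ℤ (π i)
    rwa [← hm, Polynomial.aeval_X] at this
  constructor
  · rintro ⟨inst, hF⟩
    exact @of_module _ _ φ ((p : ℤ) ^ e) _ _ _ FT hq h1 inst hF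
  · rintro ⟨hP, VT, hFV⟩
    exact exists_module_of φ ((p : ℤ) ^ e) _ FT hq h2 h3 hP VT hFV

end Groth.Agent.S18003
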