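import Groth.Statements.S18015
import Mathlib.RingTheory.Ideal.AssociatedPrime.Finiteness
import Mathlib.Algebra.Homology.ShortComplex.ModuleCat
import Mathlib.CategoryTheory.Limits.Preserves.Shapes.Zero
import Mathlib.RingTheory.Noetherian.Basic

set_option autoImplicit false
universe u
open CategoryTheory
open Coh

namespace Groth.Agent.S18015

lemma shortExact_of {B : Type u} [CommRing B] {N₁ N₂ N₃ : Type u} [AddCommGroup N₁] [Module B N₁]
    [AddCommGroup N₂] [Module B N₂] [AddCommGroup N₃] [Module B N₃] (f : N₁ →ₗ[B] N₂)
    (g : N₂ →ₗ[B] N₃)
    (hf : Function.Injective f) (hg : Function.Surjective g) (hfg : Function.Exact f g) :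
    (ShortComplex.mk (ModuleCat.ofHom f) (ModuleCat.ofHom g)
      (by ext x; exact hfg.apply_apply_eq_zero x)).ShortExact := by
  refine ShortComplex.ShortExact.mk' ?_ ?_ ?_
  · rw [ShortComplex.ShortExact.moduleCat_exact_iff_function_exact]
    exact hfg
  · exact (ModuleCat.mono_iff_injective _).2 hf
  · exact (ModuleCat.epi_iff_surjective _).2 hg

/-- Let A be a Noetherian commutative ring and F an additive functor from A-modules to A-modules which
is half-exact, i.e. for every short exact sequence 0 → M' → M → M'' → 0 the sequence F(M') → F(M) →
F(M'') is exact at F(M). Then F(M) is a finitely generated A-module for every finitely generated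
A-module M if and only if F(A/p) is a finitely generated A-module for every prime ideal p of A. (The
published statement takes F from quasi-coherent sheaves on Spec A to abelian groups, with A acting
on each F(M) through F; this row allows any additive functor between A-module categories, A-linear
or not, and the same argument applies, since it uses only that each map F(f) is A-linear.) -/
theorem result {A : Type u} [CommRing A] [IsNoetherianRing A]
    (F : ModuleCat.{u} A ⥤ ModuleCat.{u} A) [F.Additive]
    (hF : ∀ S : ShortComplex (ModuleCat.{u} A), S.ShortExact → (S.map F).Exact) :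
    (∀ M : ModuleCat.{u} A, Module.Finite A M → Module.Finite A (F.obj M)) ↔
      ∀ p : PrimeSpectrum A, Module.Finite A (F.obj (ModuleCat.of A (A ⧸ p.asIdeal))) := by
  constructor
  · intro h p
    exact h _ (inferInstanceAs (Module.Finite A (A ⧸ p.asIdeal)))
  · intro h M hM
    suffices H : ∀ (N : Type u) [AddCommGroup N] [Module A N], Module.Finite A N →
        Module.Finite A (F.obj (ModuleCat.of A N)) from H M hM
    intro N _ _ hN
    induction hN using IsNoetherianRing.induction_on_isQuotientEquivQuotientPrime A with
    | subsingleton N =>
      have hz : Limits.IsZero (F.obj (ModuleCat.of A N)) :=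
        F.map_isZero (ModuleCat.isZero_of_subsingleton _)
      have : Subsingleton (F.obj (ModuleCat.of A N)) := ModuleCat.subsingleton_of_isZero hz
      infer_instance
    | quotient N p f =>
      have e : F.obj (ModuleCat.of A N) ≅ F.obj (ModuleCat.of A (A ⧸ p.asIdeal)) :=
        F.mapIso f.toModuleIso
      have := h p
      exact Module.Finite.equiv e.toLinearEquiv.symm
    | exact N₁ N₂ N₃ f g hf hg hfg h₁ h₃ =>
      have ex := hF _ (shortExact_of f g hf hg hfg)
      rw [ShortComplex.ShortExact.moduleCat_exact_iff_function_exact] at ex
      let f' : F.obj (ModuleCat.of A N₁) →ₗ[A] F.obj (ModuleCat.of A N₂) :=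
        (F.map (ModuleCat.ofHom f)).hom
      let g' : F.obj (ModuleCat.of A N₂) →ₗ[A] F.obj (ModuleCat.of A N₃) :=
        (F.map (ModuleCat.ofHom g)).hom
      have ex' : Function.Exact f' g' := ex
      have hn3 : IsNoetherian A (F.obj (ModuleCat.of A N₃)) := isNoetherian_of_isNoetherianRing_of_finite A _
      rw [Module.finite_def]
      apply Submodule.fg_of_fg_map_of_fg_inf_ker g'
      · exact IsNoetherian.noetherian _
      · rw [top_inf_eq, (LinearMap.exact_iff.1 ex')]
        rw [LinearMap.range_eq_map]
        exact (Module.finite_def.1 h₁).map f'

end Groth.Agent.S18015
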