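import Groth.Statements.S18019
import Mathlib.Algebra.Polynomial.Div
import Mathlib.Algebra.Polynomial.Eval.Degree
import Mathlib.Algebra.Polynomial.Degree.Lemmas
import Mathlib.Algebra.Polynomial.RingDivision
import Mathlib.Algebra.CharP.Two

set_option autoImplicit false
universe u
open ClassStk

namespace Groth.Agent.S18019

open Polynomial

theorem u_comp (R : Type u) [CommRing R] [CharP R 2] (a : R) :
    (X * (X + C a) : R[X]).comp (X + C a) = X * (X + C a) := by
  have h2 : (C a + C a : R[X]) = 0 := by
    rw [← C_add, CharTwo.add_self_eq_zero, C_0]
  simp only [mul_comp, add_comp, X_comp, C_comp]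
  rw [add_assoc, h2, add_zero]
  ring

theorem u_monic (R : Type u) [CommRing R] [Nontrivial R] (a : R) :
    (X * (X + C a) : R[X]).Monic :=
  monic_X.mul (monic_X_add_C a)

theorem u_degree (R : Type u) [CommRing R] [IsDomain R] (a : R) :
    (X * (X + C a) : R[X]).degree = 2 := by
  rw [degree_mul, degree_X, degree_X_add_C]
  rfl

theorem mem_of_invariant (R : Type u) [CommRing R] [IsDomain R]
    [CharP R 2] (a : R) (ha : a ≠ 0) :
    ∀ (n : ℕ) (f : R[X]), f.natDegree = n → f.comp (X + C a) = f →
      f ∈ Algebra.adjoin R ({X * (X + C a)} : Set R[X]) := by
  intro n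
  induction n using Nat.strong_induction_on with
  | _ n ih =>
    intro f hn hf
    set u : R[X] := X * (X + C a) with hu
    have hum : u.Monic := u_monic R a
    have hud : u.degree = 2 := u_degree R a
    have hund : u.natDegree = 2 := natDegree_eq_of_degree_eq_some hud
    set q := f /ₘ u with hq
    set r := f %ₘ u with hr
    have hfqr : r + u * q = f := modByMonic_add_div f u
    have hrdeg : r.degree < u.degree := degree_modByMonic_lt f hum
    -- the transformed decomposition
    have hcomp : r.comp (X + C a) + u * q.comp (X + C a) = f := by
      have := congrArg (fun p => p.comp (X + C a)) hfqr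
      simp only [add_comp, mul_comp] at this
      rw [hu, u_comp R a, hf] at this
      exact this
    have hrcdeg : (r.comp (X + C a)).degree < u.degree := by
      have h1 : (r.comp (X + C a)).natDegree = r.natDegree := by
        rw [natDegree_comp, natDegree_X_add_C, mul_one]
      by_cases hr0 : r = 0
      · rw [hr0, zero_comp, degree_zero, hud]; exact WithBot.bot_lt_coe _
      · have hrc0 : r.comp (X + C a) ≠ 0 := by
          intro h
          have : r.natDegree = 0 := by rw [← h1, h, natDegree_zero]
          rw [eq_C_of_natDegree_eq_zero this, C_comp] at h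
          exact hr0 (by rw [eq_C_of_natDegree_eq_zero this, h])
        rw [degree_eq_natDegree hrc0, h1, ← degree_eq_natDegree hr0]
        exact hrdeg
    obtain ⟨hq', hr'⟩ := div_modByMonic_unique (q.comp (X + C a)) (r.comp (X + C a)) hum
      ⟨hcomp, hrcdeg⟩
    -- q and r are invariant
    have hqinv : q.comp (X + C a) = q := hq'.symm
    have hrinv : r.comp (X + C a) = r := hr'.symm
    -- r is constant
    have hrle : r.degree ≤ 1 := by
      rw [hud] at hrdeg
      exact Order.le_of_lt_succ hrdeg
    have hrC : r = C (r.coeff 0) := by
      have h1 := eq_X_add_C_of_degree_le_one hrle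
      have h2 : r.coeff 1 * a = 0 := by
        have h3 := hrinv
        rw [h1] at h3
        simp only [add_comp, mul_comp, C_comp, X_comp] at h3
        have h4 : C (r.coeff 1) * C a = (0 : R[X]) := by
          have : C (r.coeff 1) * (X + C a) + C (r.coeff 0)
              = C (r.coeff 1) * X + C (r.coeff 0) + C (r.coeff 1) * C a := by ring
          rw [this] at h3
          exact add_eq_left.mp h3
        rw [← C_mul, C_eq_zero] at h4
        exact h4
      have h5 : r.coeff 1 = 0 := by
        rcases mul_eq_zero.mp h2 with h | h
        · exact h
        · exact absurd h ha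
      rw [h5, C_0, zero_mul, zero_add] at h1
      exact h1
    have hrmem : r ∈ Algebra.adjoin R ({u} : Set R[X]) := by
      rw [hrC]
      exact Subalgebra.algebraMap_mem _ _
    have humem : u ∈ Algebra.adjoin R ({u} : Set R[X]) :=
      Algebra.subset_adjoin (Set.mem_singleton u)
    by_cases hlt : f.natDegree < 2
    · have : f %ₘ u = f := by
        rw [modByMonic_eq_self_iff hum, hud]
        by_cases hf0 : f = 0
        · rw [hf0, degree_zero]; exact WithBot.bot_lt_coe _
        · rw [degree_eq_natDegree hf0]
          exact_mod_cast hlt
      rw [← this]
      exact hrmem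
    · have hqd : q.natDegree < n := by
        rw [hq, natDegree_divByMonic f hum, hund, ← hn]
        omega
      have hqmem := ih q.natDegree hqd q rfl hqinv
      rw [← hfqr]
      exact Subalgebra.add_mem _ hrmem (Subalgebra.mul_mem _ humem hqmem)

theorem invariant_of_mem (R : Type u) [CommRing R] [CharP R 2] (a : R) (f : R[X])
    (hf : f ∈ Algebra.adjoin R ({X * (X + C a)} : Set R[X])) : f.comp (X + C a) = f := by
  induction hf using Algebra.adjoin_induction with
  | mem x hx =>
    rw [Set.mem_singleton_iff] at hx
    rw [hx]
    exact u_comp R a
  | algebraMap r =>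
    rw [Polynomial.algebraMap_apply, Algebra.algebraMap_self_apply, C_comp]
  | add x y _ _ hx hy => rw [add_comp, hx, hy]
  | mul x y _ _ hx hy => rw [mul_comp, hx, hy]

open Polynomial in
/-- Let R be an integral domain of characteristic 2 and let a be a nonzero element of R, so that x ↦ x +
a defines an R-algebra involution of the polynomial ring R[x] (an action of the group of order two).
A polynomial f is invariant, f(x + a) = f(x), if and only if f belongs to the R-subalgebra generated
by u = x (x + a); in other words the ring of invariants is the polynomial ring R[u]. -/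
theorem result (R : Type u) [CommRing R] [IsDomain R]
    [CharP R 2] (a : R) (ha : a ≠ 0) (f : Polynomial R) :
    f.comp (X + C a) = f ↔ f ∈ Algebra.adjoin R ({X * (X + C a)} : Set (Polynomial R)) := by
  constructor
  · intro hf
    exact mem_of_invariant R a ha f.natDegree f rfl hf
  · intro hf
    exact invariant_of_mem R a f hf

end Groth.Agent.S18019
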