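import Groth.Statements.S1802
import Groth.Agent.Lib.PuncturedCoh9
import Groth.Agent.S0356
import Groth.Agent.S0043

set_option autoImplicit false
universe u
open AlgebraicGeometry
open LocCoh

namespace Groth.Agent.S1802

open Groth.Agent.Lib.PuncturedCoh9 CategoryTheory in


/-- For a Noetherian ring. Let I be an ideal of a Noetherian ring A with cd(A, I) = 1, i.e. H^i_I(M) = 0
for all modules M and all i ≥ 2 but H^1_I(M) ≠ 0 for some M. Then the open subscheme Spec A minus
V(I) is nonempty and affine. -/
theorem result (A : Type u) [CommRing A] [IsNoetherianRing A] (I : Ideal A) (h1 : LocCoh.CdLE A I 1) (h0 : ¬ LocCoh.CdLE A I 0) : Nonempty (↑(LocCoh.puncturedOpen A I) : Scheme.{u}) ∧ IsAffine (↑(LocCoh.puncturedOpen A I) : Scheme.{u}) := by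
  constructor
  · by_contra hemp
    apply h0
    -- I is nilpotent
    have hnil : I ≤ nilradical A := by
      intro a ha
      rw [nilradical_eq_sInf, Ideal.mem_sInf]
      intro P hP
      by_contra haP
      apply hemp
      refine ⟨⟨⟨P, hP⟩, ?_⟩⟩
      intro hx
      exact haP (hx ha)
    obtain ⟨n, hn⟩ : ∃ n : ℕ, I ^ n = ⊥ := by
      have hN : IsNilpotent (nilradical A) := IsNoetherianRing.isNilpotent_nilradical A
      obtain ⟨n, hn⟩ := hN
      refine ⟨n, ?_⟩
      rw [eq_bot_iff, ← Ideal.zero_eq_bot, ← hn]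
      exact Ideal.pow_right_mono hnil n
    intro M _ _ i hi
    apply Groth.Agent.Lib.LocCohTorsion.subsingleton_H_of_isPowerTorsion I i hi M
    intro m
    refine ⟨n, fun a ha => ?_⟩
    rw [hn, Ideal.mem_bot] at ha
    rw [ha, zero_smul]
  · set U := LocCoh.puncturedOpen A I with hU
    haveI : CompactSpace (↑U : Scheme.{u}) := isCompact_iff_compactSpace.mp (isCompact_opens U)
    haveI : (↑U : Scheme.{u}).IsQuasiAffine := Scheme.IsQuasiAffine.of_isImmersion U.ι
    apply Groth.Agent.S0043.result
    intro p hp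
    obtain ⟨e⟩ := Groth.Agent.S0356.result A I A p hp
    haveI : Subsingleton (LocCoh.H I (p + 1) A) := h1 A (p + 1) (by omega)
    haveI : Subsingleton (Coh.HH (↑U : Scheme.{u})
        ((tilde (R := CommRingCat.of A) (ModuleCat.of A A)).restrict U.ι) p) :=
      e.toEquiv.subsingleton
    let e1 : Coh.structureModule (↑U : Scheme.{u}) ≅
        (tilde (R := CommRingCat.of A) (ModuleCat.of A A)).restrict U.ι :=
      (Scheme.Modules.restrictUnitIso U.ι).symm ≪≫
        (Scheme.Modules.restrictFunctor U.ι).mapIso (tildeSelf (R := CommRingCat.of A)).symm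
    exact Groth.Agent.Lib.CohLES.subsingleton_of_iso e1 p

end Groth.Agent.S1802
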