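import Groth.Statements.S18020
import Groth.Agent.Lib.Inertia76

set_option autoImplicit false
universe u
open W4c5stacksedinertia

namespace Groth.Agent.S18020

open W4c5stacksedinertia in
/-- In the rational vector space K with basis the isomorphism classes of finite groups (the class of a
group standing for its classifying groupoid), the inertia operator, which sends the class of a
finite group to the sum over its conjugacy classes of the classes of the centralizers of
representatives, preserves the subspace spanned by the classes of groups of order at most `n`. -/
theorem result (n : ℕ) (v : K) (hv : v ∈ Kle n) :
    inertia v ∈ Kle n := by
  exact Groth.Agent.Lib.Inertia76.inertiaR_mem_Kle 1 n hv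

end Groth.Agent.S18020
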