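import Groth.Statements.S18026
import Groth.Agent.Lib.HenselFin

set_option autoImplicit false
universe u
open Hensel

namespace Groth.Agent.S18026

open AlgebraicGeometry CategoryTheory in
/-- Let `A` be a henselian discrete valuation ring and `f : T ⟶ Spec A` an étale surjective morphism of
schemes. Then some open subscheme `U` of `T` is finite over `Spec A` and still maps onto it; in
particular `U → Spec A` is a finite étale cover sitting inside `T` as an open subscheme (étaleness
of the restriction is automatic, and surjectivity records that `U` meets the closed fibre). (The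
published statement asks for an open component of `T` finite étale over `Spec A`; when `T` is not
separated — two copies of `Spec A` glued along the generic point — no open and closed subset of `T`
is finite over `Spec A`, while the published proof constructs an open subscheme, the spectrum of the
local ring of `T` at a point of the closed fibre; so this row asks only for an open subscheme.) -/
theorem result
    (A : Type u) [CommRing A] [IsDomain A] [IsDiscreteValuationRing A] [HenselianLocalRing A]
    (T : Scheme.{u}) (f : T ⟶ Spec (CommRingCat.of A)) [Etale f] [Surjective f] :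
    ∃ U : T.Opens, IsFinite (U.ι ≫ f) ∧ Surjective (U.ι ≫ f) := by
  obtain ⟨t, ht⟩ := f.surjective (IsLocalRing.closedPoint A)
  obtain ⟨V, hVaff, htV, -⟩ :=
    exists_isAffineOpen_mem_and_subset (X := T) (x := t) (U := ⊤) trivial
  have : IsAffine V.toScheme := hVaff
  have hqf : LocallyQuasiFinite (V.ι ≫ f) :=
    Groth.Agent.Lib.HenselFin.locallyQuasiFinite_of_etale _
  obtain ⟨W, -, hWfin, hW⟩ :=
    Groth.Agent.Lib.HenselFin.exists_clopen_finite_of_henselianLocalRing A (V.ι ≫ f)
  refine ⟨V.ι ''ᵁ W, ?_, ?_⟩
  · have h1 : (V.ι ''ᵁ W).ι ≫ f = (V.ι.isoImage W).inv ≫ (W.ι ≫ V.ι ≫ f) := by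
      rw [← Scheme.Hom.isoImage_inv_ι_assoc]
    rw [h1]
    infer_instance
  · have htW : (⟨t, htV⟩ : V.toScheme) ∈ W := hW ⟨t, htV⟩ (by
      change f t = _; exact ht)
    have hopen : IsOpen (Set.range ((V.ι ''ᵁ W).ι ≫ f)) :=
      ((V.ι ''ᵁ W).ι ≫ f).isOpenMap.isOpen_range
    have hmem : IsLocalRing.closedPoint A ∈ Set.range ((V.ι ''ᵁ W).ι ≫ f) := by
      have htU : t ∈ V.ι ''ᵁ W := ⟨⟨t, htV⟩, htW, rfl⟩
      exact ⟨⟨t, htU⟩, by change f t = _; exact ht⟩
    constructor
    intro p
    exact (IsLocalRing.specializes_closedPoint p).mem_open hopen hmem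

end Groth.Agent.S18026
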