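import Groth.Statements.S18027
import Groth.Agent.Lib.GrpDimImm45

set_option autoImplicit false
universe u
open CategoryTheory MonoidalCategory CartesianMonoidalCategory MonObj GrpObj AlgebraicGeometry CategoryTheory.Limits
open AlgGrp

namespace Groth.Agent.S18027

/-- Let `k` be a field and `u : G ⟶ H` a homomorphism of smooth `k`-group schemes which is a closed
immersion, where `G` and `H` have the same dimension. Then `u` carries the connected component of
the identity of `G` onto the connected component of the identity of `H`; as `u` is a closed
immersion and `H` is reduced, `u` therefore restricts to an isomorphism between the identity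
components. (The second printed assertion, on the groups of components, is not included.) -/
theorem result (k : Type u) [Field k]
    (G H : Over (Spec (CommRingCat.of k))) [GrpObj G] [GrpObj H]
    [Smooth G.hom] [Smooth H.hom] (u : G ⟶ H) [IsMonHom u] [IsClosedImmersion u.left]
    (hdim : topologicalKrullDim ↥G.left = topologicalKrullDim ↥H.left)
    (t : ↥((𝟙_ (Over (Spec (CommRingCat.of k)))).left)) :
    ⇑u.left.base '' connectedComponent (η[G].left.base t) = connectedComponent (η[H].left.base t) := by
  have hG : LocallyOfFiniteType G.hom := inferInstance
  have hH : LocallyOfFiniteType H.hom := inferInstance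
  have hpt : ∀ (X : Over (Spec (CommRingCat.of k))) [GrpObj X],
      η[X].left.base t = Groth.Agent.Lib.GrpTopPts45.unitPt X := by
    intro X _
    unfold Groth.Agent.Lib.GrpTopPts45.unitPt
    congr 1
    exact Subsingleton.elim (α := PrimeSpectrum k) _ _
  rw [hpt G, hpt H]
  exact Groth.Agent.Lib.GrpDimImm45.image_cc_eq u hdim

end Groth.Agent.S18027
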