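import Groth.Statements.S18040
import Groth.Agent.Lib.CayleyBacharach

set_option autoImplicit false
universe u
open AdjLin

namespace Groth.Agent.S18040

/-- Let k be an algebraically closed field of characteristic zero and Z a finite set of points of
projective 3-space over k, realised as points of the projectivization of k⁴, a homogeneous form in
four variables being evaluated at the chosen representative of a point (its vanishing does not
depend on the choice). Suppose Z has the Cayley–Bacharach property in degree n: every form of degree
n vanishing at all points of Z but one vanishes at that point as well. Then for every m ≤ n, either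
there is a nonzero form of degree n − m vanishing at every point of Z, or the rank of the evaluation
map from forms of degree m to functions on Z is at most the number of points of Z minus the
dimension of the space of forms of degree n − m. -/
theorem result (k : Type u) [Field k] [IsAlgClosed k] [CharZero k]
    (Z : Finset (Projectivization k (Fin 4 → k))) (n : ℕ)
    (hCB : (∀ z ∈ Z, ∀ p : MvPolynomial (Fin 4) k, p.IsHomogeneous n →
      (∀ z' ∈ Z, z' ≠ z → MvPolynomial.eval z'.rep p = 0) → MvPolynomial.eval z.rep p = 0))
    (m : ℕ) (hm : m ≤ n) :
    (∃ s : MvPolynomial (Fin 4) k, s.IsHomogeneous (n - m) ∧ s ≠ 0 ∧ ∀ z ∈ Z, MvPolynomial.eval z.rep s = 0) ∨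
      Module.finrank k (LinearMap.range
          ((LinearMap.pi fun z : ↥Z => (MvPolynomial.aeval (R := k) z.1.rep).toLinearMap) ∘ₗ
            (MvPolynomial.homogeneousSubmodule (Fin 4) k m).subtype)) +
        Module.finrank k ↥(MvPolynomial.homogeneousSubmodule (Fin 4) k (n - m)) ≤ Z.card := by
  classical
  by_cases hex : ∃ s : MvPolynomial (Fin 4) k, s.IsHomogeneous (n - m) ∧ s ≠ 0 ∧
      ∀ z ∈ Z, MvPolynomial.eval z.rep s = 0
  · exact Or.inl hex
  · right
    let v : ↥Z → Fin 4 → k := fun z => z.1.rep
    have hCB' : ∀ i : ↥Z, ∀ p : MvPolynomial (Fin 4) k, p.IsHomogeneous n →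
        (∀ j, j ≠ i → MvPolynomial.eval (v j) p = 0) → MvPolynomial.eval (v i) p = 0 := by
      intro i p hp hj
      apply hCB i.1 i.2 p hp
      intro z' hz' hne
      exact hj ⟨z', hz'⟩ (fun h => hne (congrArg Subtype.val h))
    have hbound := Groth.Agent.Lib.CayleyBacharach.finrank_range_evalMap_add_le v n m hm hCB'
    have hinj : Function.Injective (Groth.Agent.Lib.CayleyBacharach.evalMap v (n - m)) := by
      rw [← LinearMap.ker_eq_bot, LinearMap.ker_eq_bot']
      intro p hp
      by_contra hne
      apply hex
      refine ⟨p.1, (MvPolynomial.mem_homogeneousSubmodule _ _).mp p.2, fun h => hne (Subtype.ext h), ?_⟩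
      intro z hz
      have := congrFun hp ⟨z, hz⟩
      rwa [Groth.Agent.Lib.CayleyBacharach.evalMap_apply] at this
    rw [LinearMap.finrank_range_of_inj hinj, Fintype.card_coe] at hbound
    exact hbound

end Groth.Agent.S18040
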