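import Groth.Statements.S18042
import Groth.Agent.Lib.CayleyBacharachPlane

set_option autoImplicit false
universe u
open AdjLin

namespace Groth.Agent.S18042

open Module in
/-- a subspace of dimension `≤ 3` of a space of dimension `≥ 3` extends to one of dimension `3`. -/
theorem exists_finrank_eq_three {K V : Type*} [Field K] [AddCommGroup V] [Module K V]
    [FiniteDimensional K V] (hV : 3 ≤ finrank K V) :
    ∀ (m : ℕ) (W : Submodule K V), finrank K ↥W + m = 3 → ∃ W' : Submodule K V, W ≤ W' ∧ finrank K ↥W' = 3
  | 0, W, h => ⟨W, le_rfl, by omega⟩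
  | m + 1, W, h => by
    have hlt : finrank K ↥W < finrank K V := by omega
    have hne : W ≠ ⊤ := by
      rintro rfl
      rw [finrank_top] at hlt
      exact lt_irrefl _ hlt
    obtain ⟨v, hv⟩ : ∃ v, v ∉ W := by
      by_contra hcon
      push Not at hcon
      exact hne (eq_top_iff.mpr fun x _ => hcon x)
    have hv0 : v ≠ 0 := fun h0 => hv (h0 ▸ W.zero_mem)
    have hdisj : W ⊓ Submodule.span K {v} = ⊥ := by
      rw [← disjoint_iff]
      exact (Submodule.disjoint_span_singleton' hv0).mpr hv
    have h1 := Submodule.finrank_sup_add_finrank_inf_eq W (Submodule.span K {v})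
    rw [hdisj, finrank_bot, finrank_span_singleton hv0] at h1
    obtain ⟨W', hle, hW'⟩ := exists_finrank_eq_three hV m (W ⊔ Submodule.span K {v}) (by omega)
    exact ⟨W', le_trans le_sup_left hle, hW'⟩

theorem submodule_le_iff {K V : Type*} [Field K] [AddCommGroup V] [Module K V]
    (z : Projectivization K V) (W : Submodule K V) : z.submodule ≤ W ↔ z.rep ∈ W := by
  rw [Projectivization.submodule_eq, Submodule.span_singleton_le_iff_mem]

/-- Let k be an algebraically closed field of characteristic zero, n ≥ 1, and Z a finite set of points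
of projective 3-space over k (points of the projectivization of k⁴, forms in four variables being
evaluated at the chosen representative) with the Cayley–Bacharach property in degree n: every form
of degree n vanishing at all points of Z but one vanishes at that point as well. If Z has at most 3n
+ 1 points, then either all points of Z lie in one plane (a common 3-dimensional subspace of k⁴), or
they lie on the union of two skew lines (two 2-dimensional subspaces of k⁴ meeting in zero), each
line carrying at least n + 1 points of Z, and Z has at least 2n + 3 points. (The source states this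
for an arbitrary zero-dimensional subscheme, with a third alternative, containment in the
first-order thickening of a line; for the reduced subschemes treated here that alternative is a case
of coplanarity.) -/
theorem result (k : Type u) [Field k] [IsAlgClosed k] [CharZero k]
    (Z : Finset (Projectivization k (Fin 4 → k))) (n : ℕ) (hn : 1 ≤ n)
    (hCB : (∀ z ∈ Z, ∀ p : MvPolynomial (Fin 4) k, p.IsHomogeneous n →
      (∀ z' ∈ Z, z' ≠ z → MvPolynomial.eval z'.rep p = 0) → MvPolynomial.eval z.rep p = 0))
    (hcard : Z.card ≤ 3 * n + 1) :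
    (∃ W : Submodule k (Fin 4 → k), Module.finrank k ↥W = 3 ∧ ∀ z ∈ Z, z.submodule ≤ W) ∨
      (∃ W₁ W₂ : Submodule k (Fin 4 → k), Module.finrank k ↥W₁ = 2 ∧ Module.finrank k ↥W₂ = 2 ∧ W₁ ⊓ W₂ = ⊥ ∧
        (∀ z ∈ Z, z.submodule ≤ W₁ ∨ z.submodule ≤ W₂) ∧
        n + 1 ≤ Set.ncard {z : Projectivization k (Fin 4 → k) | z ∈ Z ∧ z.submodule ≤ W₁} ∧
        n + 1 ≤ Set.ncard {z : Projectivization k (Fin 4 → k) | z ∈ Z ∧ z.submodule ≤ W₂} ∧
        2 * n + 3 ≤ Z.card) := by
  have hCB' : Groth.Agent.Lib.CayleyBacharach.CB Z n := hCB
  obtain ⟨n', rfl⟩ : ∃ n', n = n' + 1 := ⟨n - 1, by omega⟩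
  rcases Groth.Agent.Lib.CayleyBacharach.CB.plane_or_skew n' Z hCB' hcard with hcop | hskew
  · left
    obtain ⟨H, hH, hZH⟩ := hcop
    have hV : 3 ≤ Module.finrank k (Fin 4 → k) := by
      rw [Module.finrank_fintype_fun_eq_card, Fintype.card_fin]; omega
    obtain ⟨W, hle, hW⟩ := exists_finrank_eq_three hV (3 - Module.finrank k ↥H) H (by omega)
    refine ⟨W, hW, ?_⟩
    intro z hz
    rw [submodule_le_iff]
    exact hle (hZH z hz)
  · right
    obtain ⟨W₁, W₂, hW₁, hW₂, hinf, hall, hc₁, hc₂, htot⟩ := hskew
    refine ⟨W₁, W₂, hW₁, hW₂, hinf, ?_, ?_, ?_, htot⟩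
    · intro z hz
      rw [submodule_le_iff, submodule_le_iff]
      exact hall z hz
    · simp only [submodule_le_iff]
      exact hc₁
    · simp only [submodule_le_iff]
      exact hc₂

end Groth.Agent.S18042
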