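import Groth.Statements.S18049
import Mathlib.Tactic.Linarith
import Mathlib.Tactic.Ring

set_option autoImplicit false
open STCI

namespace Groth.Agent.S18049

/-- For natural numbers 0 < k < N such that k does not divide N, ⌊N/k⌋ ≤ (N - k)/gcd(k, N); stated here
in the equivalent cleared form ⌊N/k⌋ · gcd(k, N) ≤ N - k. -/
theorem result (k N : ℕ) (hk : 0 < k) (hkN : k < N) (hndvd : ¬ k ∣ N) :
    N / k * Nat.gcd k N ≤ N - k := by
  set g := Nat.gcd k N with hg
  have hgk : g ∣ k := Nat.gcd_dvd_left k N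
  have hgN : g ∣ N := Nat.gcd_dvd_right k N
  have hgr : g ∣ N % k := (Nat.dvd_mod_iff hgk).mpr hgN
  have hr0 : 0 < N % k := by
    rcases Nat.eq_zero_or_pos (N % k) with h | h
    · exact absurd (Nat.dvd_of_mod_eq_zero h) hndvd
    · exact h
  have hrk : N % k < k := Nat.mod_lt N hk
  obtain ⟨a, ha⟩ := hgk
  obtain ⟨b, hb⟩ := hgr
  have hdm : k * (N / k) + N % k = N := Nat.div_add_mod N k
  have hq : 1 ≤ N / k := Nat.div_pos hkN.le hk
  have hgpos : 0 < g := Nat.gcd_pos_of_pos_left N hk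
  have hb1 : 1 ≤ b := by
    rcases Nat.eq_zero_or_pos b with h | h
    · rw [h, mul_zero] at hb; omega
    · exact h
  have hab : b + 1 ≤ a := by
    have : g * b < g * a := by rw [← ha, ← hb]; exact hrk
    have := Nat.lt_of_mul_lt_mul_left this
    omega
  set q := N / k with hq'
  -- goal: q * g + k ≤ N
  suffices h : q * g + k ≤ N by omega
  rw [← hdm, hb, ha]
  obtain ⟨a', ha'⟩ : ∃ a', a = b + 1 + a' := ⟨a - (b + 1), by omega⟩
  obtain ⟨q', hq''⟩ : ∃ q', q = 1 + q' := ⟨q - 1, by omega⟩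
  obtain ⟨b', hb'⟩ : ∃ b', b = 1 + b' := ⟨b - 1, by omega⟩
  rw [ha', hq'', hb']
  nlinarith [Nat.zero_le (g * a' * q'), Nat.zero_le (g * b' * q'), Nat.zero_le (g * q'), Nat.zero_le (g * b')]

end Groth.Agent.S18049
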