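import Groth.Statements.S18051
import Groth.Agent.Lib.Euclid
import Mathlib.Tactic.FieldSimp
import Mathlib.Tactic.Positivity

set_option autoImplicit false
open STCI

namespace Groth.Agent.S18051

/-- The rational inequality behind the three-step Euclid bound. -/
theorem key (a b r s : ℚ) (ha : 2 ≤ a) (hb : 1 ≤ b) (hs : 0 < s) (hsr : s < r) :
    ((r * b + s) - r) / a + (r - s) / (a + b) + s / (a + b + 1)
      ≤ (r * b + s) ^ 2 / ((r * b + s) * a + r) := by
  have hr : 0 < r := lt_trans hs hsr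
  have ha0 : 0 < a := by linarith
  have hb0 : 0 < b := by linarith
  have hk : 0 < r * b + s := by positivity
  have hN : 0 < (r * b + s) * a + r := by positivity
  have hab : 0 < a + b := by linarith
  have hab1 : 0 < a + b + 1 := by linarith
  have hks : s ≤ r * b + s := by nlinarith
  have hkr : r ≤ r * b + s := by nlinarith
  -- the numerator of the difference
  have hP1 : 0 ≤ (b - 1) * r * ((a - 1) * (r * b + s) * (a + b + 1) - s) := by
    have h1 : 0 ≤ b - 1 := by linarith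
    have h2 : (r * b + s) ≤ (a - 1) * (r * b + s) * (a + b + 1) := by
      have h3 : (r * b + s) ≤ (a - 1) * (r * b + s) := by nlinarith
      have h4 : 0 ≤ (a - 1) * (r * b + s) := by nlinarith
      nlinarith
    have h5 : 0 ≤ (a - 1) * (r * b + s) * (a + b + 1) - s := by linarith
    positivity
  have hP2 : 0 ≤ s * (a ^ 2 * (r * b + s) - 2 * r) := by
    have h1 : 4 ≤ a ^ 2 := by nlinarith
    have h2 : 4 * (r * b + s) ≤ a ^ 2 * (r * b + s) := by nlinarith
    have h3 : 0 ≤ a ^ 2 * (r * b + s) - 2 * r := by linarith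
    positivity
  have hdiff : (r * b + s) ^ 2 / ((r * b + s) * a + r)
      - (((r * b + s) - r) / a + (r - s) / (a + b) + s / (a + b + 1))
      = ((b - 1) * r * ((a - 1) * (r * b + s) * (a + b + 1) - s)
          + s * (a ^ 2 * (r * b + s) - 2 * r))
        / (a * (a + b) * (a + b + 1) * ((r * b + s) * a + r)) := by
    field_simp
    ring
  have hnn : 0 ≤ ((b - 1) * r * ((a - 1) * (r * b + s) * (a + b + 1) - s)
          + s * (a ^ 2 * (r * b + s) - 2 * r))
        / (a * (a + b) * (a + b + 1) * ((r * b + s) * a + r)) := by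
    apply div_nonneg
    · linarith
    · positivity
  linarith

open W4c5stcicurvesp3 Groth.Agent.Lib.Euclid in
/-- Unfolding of the first Euclidean steps. -/
theorem unfold (k N : ℕ) (hk : 0 < k) (hkN : 2 * k ≤ N)
    (h1 : irem N k 1 ≠ 0) (h2 : irem N k 2 ≠ 0) :
    ∃ a b r s : ℕ, irem N k 0 = k ∧ irem N k 1 = r ∧ irem N k 2 = s ∧ idiv N k 1 = a ∧
      idiv N k 2 = b ∧ 2 ≤ a ∧ 1 ≤ b ∧ 0 < s ∧ s < r ∧ k = r * b + s ∧ N = k * a + r := by
  have hr : N % k ≠ 0 := h1
  have e2 : irem N k 2 = k % (N % k) := by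
    rw [irem_add_two, irem_one, irem_zero, if_neg hr]
  have d2 : idiv N k 2 = k / (N % k) := by
    rw [idiv_add_two, irem_one, irem_zero, if_neg hr]
  have hrpos : 0 < N % k := Nat.pos_of_ne_zero hr
  have hrk : N % k < k := Nat.mod_lt N hk
  refine ⟨N / k, k / (N % k), N % k, k % (N % k), rfl, rfl, e2, rfl, d2, ?_, ?_, ?_, ?_, ?_, ?_⟩
  · exact (Nat.le_div_iff_mul_le hk).mpr hkN
  · exact Nat.div_pos hrk.le hrpos
  · rw [← e2]; exact Nat.pos_of_ne_zero h2
  · exact Nat.mod_lt k hrpos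
  · exact (Nat.div_add_mod k (N % k)).symm
  · exact (Nat.div_add_mod N k).symm

open W4c5stcicurvesp3 in
/-- Let k ≤ N/2 be positive integers and let r_i = rem_i(N, k), d_i = div_i(N, k) be the iterated
Euclidean remainders and quotients of (N, k) (r_0 = k, r_1 = N mod k, r_2 = r_0 mod r_1, d_1 =
⌊N/k⌋, d_2 = ⌊r_0/r_1⌋). If the least positive t with r_t = 0 satisfies t ≥ 3, i.e. r_1 ≠ 0 and r_2
≠ 0, then (r_0 - r_1)/d_1 + (r_1 - r_2)/(d_1 + d_2) + r_2/(d_1 + d_2 + 1) ≤ k²/N (in ℚ). -/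
theorem result (k N : ℕ) (hk : 0 < k) (hkN : 2 * k ≤ N)
    (h1 : irem N k 1 ≠ 0) (h2 : irem N k 2 ≠ 0) :
    ((irem N k 0 : ℚ) - irem N k 1) / (idiv N k 1)
      + ((irem N k 1 : ℚ) - irem N k 2) / ((idiv N k 1 : ℚ) + idiv N k 2)
      + (irem N k 2 : ℚ) / ((idiv N k 1 : ℚ) + idiv N k 2 + 1)
      ≤ (k : ℚ) ^ 2 / N := by
  obtain ⟨a, b, r, s, e0, e1, e2, d1, d2, ha, hb, hs, hsr, hkeq, hNeq⟩ := unfold k N hk hkN h1 h2
  rw [e0, e1, e2, d1, d2]
  have hk' : (k : ℚ) = (r : ℚ) * b + s := by exact_mod_cast hkeq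
  have hN' : (N : ℚ) = ((r : ℚ) * b + s) * a + r := by rw [← hk']; exact_mod_cast hNeq
  rw [hN', hk']
  exact key a b r s (by exact_mod_cast ha) (by exact_mod_cast hb) (by exact_mod_cast hs)
    (by exact_mod_cast hsr)

end Groth.Agent.S18051
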