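import Groth.Statements.S18052
import Groth.Agent.S18051
import Mathlib.Tactic.FieldSimp
import Mathlib.Tactic.Positivity
import Mathlib.Algebra.BigOperators.Field

set_option autoImplicit false
open STCI

namespace Groth.Agent.S18052

open W4c5stcicurvesp3 Groth.Agent.Lib.Euclid

theorem irem_succ_succ_le (a b n : ℕ) : irem a b (n + 2) ≤ irem a b (n + 1) := by
  rw [irem_add_two]
  split_ifs with h
  · exact Nat.zero_le _
  · exact (Nat.mod_lt _ (Nat.pos_of_ne_zero h)).le

/-- case `t = 2` -/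
theorem key2 (a b r : ℚ) (ha : 1 ≤ a) (hb : 1 ≤ b) (hr : 0 < r) :
    (r * b - r) / a + (r - 0) / (a + b) ≤ (r * b) ^ 2 / ((r * b) * a + r) := by
  have ha0 : 0 < a := by linarith
  have hb0 : 0 < b := by linarith
  have hN : 0 < (r * b) * a + r := by positivity
  have hab : 0 < a + b := by linarith
  have hdiff : (r * b) ^ 2 / ((r * b) * a + r) - ((r * b - r) / a + (r - 0) / (a + b))
      = (r ^ 2 * b * ((a - 1) * (b - 1))) / (a * (a + b) * ((r * b) * a + r)) := by
    field_simp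
    ring
  have hnn : 0 ≤ (r ^ 2 * b * ((a - 1) * (b - 1))) / (a * (a + b) * ((r * b) * a + r)) := by
    apply div_nonneg
    · have h1 : 0 ≤ a - 1 := by linarith
      have h2 : 0 ≤ b - 1 := by linarith
      positivity
    · positivity
  linarith


open W4c5stcicurvesp3 in
/-- Let k ≤ N/2 be positive integers, let r_i = rem_i(N, k) and d_i = div_i(N, k) be the iterated
Euclidean remainders and quotients of (N, k) (r_0 = k, r_1 = N mod k, …; d_1 = ⌊N/k⌋, d_i =
⌊r_{i-2}/r_{i-1}⌋), and let t be the least positive integer with r_t = 0. Then the sum over i = 0,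
…, t - 1 of (r_i - r_{i+1})/(d_1 + ⋯ + d_{i+1}) is at most k²/N (in ℚ). -/
theorem result (k N t : ℕ) (hk : 0 < k) (hkN : 2 * k ≤ N) (ht : 0 < t)
    (hzero : irem N k t = 0) (hmin : ∀ i, 0 < i → i < t → irem N k i ≠ 0) :
    ∑ i ∈ Finset.range t, ((irem N k i : ℚ) - irem N k (i + 1)) / (∑ j ∈ Finset.Icc 1 (i + 1), (idiv N k j : ℚ))
      ≤ (k : ℚ) ^ 2 / N := by
  have hr0 : irem N k 0 = k := rfl
  have ha : 2 ≤ N / k := (Nat.le_div_iff_mul_le hk).mpr hkN
  have hNeq : N = k * (N / k) + N % k := (Nat.div_add_mod N k).symm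
  obtain ⟨t, rfl⟩ : ∃ t', t = t' + 1 := ⟨t - 1, by omega⟩
  rcases Nat.eq_zero_or_pos t with ht0 | ht0
  · -- t = 1
    subst ht0
    have hmod : N % k = 0 := hzero
    have hN' : (N : ℚ) = (k : ℚ) * ((N / k : ℕ) : ℚ) := by
      have : N = k * (N / k) := by omega
      exact_mod_cast this
    simp only [zero_add, Finset.range_one, Finset.sum_singleton, Finset.Icc_self]
    rw [hr0, show irem N k 1 = 0 from hzero, idiv_one]
    have ha' : (0 : ℚ) < ((N / k : ℕ) : ℚ) := by exact_mod_cast (by omega : 0 < N / k)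
    have hk' : (0 : ℚ) < (k : ℚ) := by exact_mod_cast hk
    rw [hN']
    apply le_of_eq
    field_simp
    simp
  obtain ⟨t, rfl⟩ : ∃ t', t = t' + 1 := ⟨t - 1, by omega⟩
  have h1 : irem N k 1 ≠ 0 := hmin 1 Nat.one_pos (by omega)
  have hr : N % k ≠ 0 := h1
  have hrpos : 0 < N % k := Nat.pos_of_ne_zero hr
  have hrk : N % k < k := Nat.mod_lt N hk
  have e2 : irem N k 2 = k % (N % k) := by
    rw [irem_add_two, irem_one, irem_zero, if_neg hr]
  have d2 : idiv N k 2 = k / (N % k) := by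
    rw [idiv_add_two, irem_one, irem_zero, if_neg hr]
  have hb : 1 ≤ k / (N % k) := Nat.div_pos hrk.le hrpos
  have hkeq : k = (N % k) * (k / (N % k)) + k % (N % k) := (Nat.div_add_mod k (N % k)).symm
  have hD2 : ∑ j ∈ Finset.Icc 1 2, (idiv N k j : ℚ) = (idiv N k 1 : ℚ) + idiv N k 2 := by
    rw [show Finset.Icc 1 2 = {1, 2} from rfl, Finset.sum_pair (by norm_num)]
  have hD1 : ∑ j ∈ Finset.Icc 1 1, (idiv N k j : ℚ) = (idiv N k 1 : ℚ) := by
    rw [Finset.Icc_self, Finset.sum_singleton]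
  rcases Nat.eq_zero_or_pos t with ht1 | ht1
  · -- t = 2
    subst ht1
    have hz : k % (N % k) = 0 := by rw [← e2]; exact hzero
    rw [Finset.sum_range_succ, Finset.sum_range_one]
    simp only [zero_add]
    rw [show (1 + 1) = 2 from rfl, hD1, hD2, hr0, show irem N k 2 = 0 from hzero, irem_one,
      idiv_one, d2]
    have hk' : (k : ℚ) = ((N % k : ℕ) : ℚ) * ((k / (N % k) : ℕ) : ℚ) := by
      have : k = (N % k) * (k / (N % k)) := by omega
      exact_mod_cast this
    have hN' : (N : ℚ) = (((N % k : ℕ) : ℚ) * ((k / (N % k) : ℕ) : ℚ)) * ((N / k : ℕ) : ℚ)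
        + ((N % k : ℕ) : ℚ) := by
      rw [← hk']; exact_mod_cast hNeq
    rw [hN', hk', Nat.cast_zero]
    exact key2 _ _ _ (by exact_mod_cast (by omega : 1 ≤ N / k)) (by exact_mod_cast hb)
      (by exact_mod_cast hrpos)
  -- t ≥ 3
  obtain ⟨t, rfl⟩ : ∃ t', t = t' + 1 := ⟨t - 1, by omega⟩
  have h2 : irem N k 2 ≠ 0 := hmin 2 (by omega) (by omega)
  have h3 := Groth.Agent.S18051.result k N hk hkN h1 h2
  refine le_trans ?_ h3
  rw [Finset.sum_range_succ', Finset.sum_range_succ']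
  simp only [zero_add]
  rw [show (0 + 1 + 1) = 2 from rfl, hD1, hD2]
  have hd3 : 1 ≤ idiv N k 3 := by
    rw [idiv_add_two, if_neg h2]
    exact Nat.div_pos (irem_succ_succ_le N k 0) (Nat.pos_of_ne_zero h2)
  have hD2pos : (0 : ℚ) < (idiv N k 1 : ℚ) + idiv N k 2 + 1 := by positivity
  have hbound : ∀ i ∈ Finset.range (t + 1),
      ((irem N k (i + 1 + 1) : ℚ) - irem N k (i + 1 + 1 + 1))
        / (∑ j ∈ Finset.Icc 1 (i + 1 + 1 + 1), (idiv N k j : ℚ))
      ≤ ((irem N k (i + 2) : ℚ) - irem N k (i + 2 + 1)) / ((idiv N k 1 : ℚ) + idiv N k 2 + 1) := by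
    intro i _
    have hnum : (0 : ℚ) ≤ (irem N k (i + 2) : ℚ) - irem N k (i + 2 + 1) := by
      rw [sub_nonneg]
      exact_mod_cast irem_succ_succ_le N k (i + 1)
    have hden : (idiv N k 1 : ℚ) + idiv N k 2 + 1
        ≤ ∑ j ∈ Finset.Icc 1 (i + 1 + 1 + 1), (idiv N k j : ℚ) := by
      have hsub : ({1, 2, 3} : Finset ℕ) ⊆ Finset.Icc 1 (i + 1 + 1 + 1) := by
        intro x hx
        simp only [Finset.mem_insert, Finset.mem_singleton] at hx
        rw [Finset.mem_Icc]
        omega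
      have := Finset.sum_le_sum_of_subset_of_nonneg (f := fun j => (idiv N k j : ℚ)) hsub
        (fun j _ _ => Nat.cast_nonneg _)
      refine le_trans ?_ this
      rw [Finset.sum_insert (by decide), Finset.sum_pair (by norm_num)]
      have : (1 : ℚ) ≤ (idiv N k 3 : ℚ) := by exact_mod_cast hd3
      linarith
    exact div_le_div_of_nonneg_left hnum hD2pos hden
  have hsum := Finset.sum_le_sum hbound
  have htel : ∑ i ∈ Finset.range (t + 1),
      ((irem N k (i + 2) : ℚ) - irem N k (i + 2 + 1)) / ((idiv N k 1 : ℚ) + idiv N k 2 + 1)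
      = (irem N k 2 : ℚ) / ((idiv N k 1 : ℚ) + idiv N k 2 + 1) := by
    rw [← Finset.sum_div]
    congr 1
    have := Finset.sum_range_sub' (fun i => (irem N k (i + 2) : ℚ)) (t + 1)
    simp only [zero_add] at this
    have hz : irem N k (t + 1 + 2) = 0 := hzero
    rw [hz, Nat.cast_zero, sub_zero] at this
    rw [← this]
  rw [htel] at hsum
  linarith

end Groth.Agent.S18052
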