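import Groth.Statements.S18053
import Mathlib.Tactic.Linarith
import Mathlib.Tactic.NormNum
import Mathlib.Algebra.BigOperators.Field

set_option autoImplicit false
open STCI

namespace Groth.Agent.S18053

/-- Let (p_k)_{k ≥ 1} be a sequence of nonnegative integers and n a nonnegative integer such that (i)
p_1 ≤ 9 - (2/5)n, (ii) p_1 ≥ p_2 ≥ p_3 ≥ ⋯, (iii) Σ_k p_k ≤ 19 - n, and (iv) n/4 + Σ_{k ≥ 1}
p_k/(k(k+1)) ≥ 6. Then n = 0 and (p_k) is one of (9, 8, 2), (9, 9), (9, 9, 1) (followed by zeros).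
Here the sequence is indexed from 0 (so p 0 is p_1 and the weight of p k is 1/((k+1)(k+2))), (iii)
is stated for every partial sum, and the series in (iv) is the real sum Σ' over all k. -/
theorem result (p : ℕ → ℕ) (n : ℕ)
    (h1 : (p 0 : ℝ) ≤ 9 - (2 / 5 : ℝ) * n) (h2 : Antitone p)
    (h3 : ∀ m : ℕ, ((∑ k ∈ Finset.range m, p k : ℕ) : ℝ) ≤ 19 - (n : ℝ))
    (h4 : (6 : ℝ) ≤ (n : ℝ) / 4 + ∑' k : ℕ, (p k : ℝ) / (((k : ℝ) + 1) * ((k : ℝ) + 2))) :
    n = 0 ∧ (p = (fun k => if k = 0 then 9 else if k = 1 then 8 else if k = 2 then 2 else 0)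
      ∨ p = (fun k => if k = 0 then 9 else if k = 1 then 9 else 0)
      ∨ p = (fun k => if k = 0 then 9 else if k = 1 then 9 else if k = 2 then 1 else 0)) := by
  have h3' : ∀ m, ∑ k ∈ Finset.range m, p k + n ≤ 19 := by
    intro m
    have := h3 m
    have h : ((∑ k ∈ Finset.range m, p k : ℕ) : ℝ) + (n : ℝ) ≤ 19 := by linarith
    exact_mod_cast h
  have hzero : ∀ k, 19 ≤ k → p k = 0 := by
    intro k hk
    by_contra hne
    have hpos : 1 ≤ p k := Nat.one_le_iff_ne_zero.mpr hne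
    have hle : ∑ j ∈ Finset.range (k + 1), 1 ≤ ∑ j ∈ Finset.range (k + 1), p j := by
      apply Finset.sum_le_sum
      intro j hj
      have hjk : j ≤ k := Nat.lt_succ_iff.mp (Finset.mem_range.mp hj)
      exact le_trans hpos (h2 hjk)
    rw [Finset.sum_const, Finset.card_range, smul_eq_mul, mul_one] at hle
    have := h3' (k + 1)
    omega
  have htsum : ∑' k : ℕ, (p k : ℝ) / (((k : ℝ) + 1) * ((k : ℝ) + 2))
      = ∑ k ∈ Finset.range 19, (p k : ℝ) / (((k : ℝ) + 1) * ((k : ℝ) + 2)) := by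
    apply tsum_eq_sum
    intro k hk
    have hk' : 19 ≤ k := by
      rw [Finset.mem_range, not_lt] at hk
      exact hk
    rw [hzero k hk', Nat.cast_zero, zero_div]
  rw [htsum] at h4
  obtain ⟨R, hR⟩ : ∃ R, R = ∑ k ∈ Finset.range 16, p (k + 3) := ⟨_, rfl⟩
  have hsum19 : ∑ k ∈ Finset.range 19, p k = p 0 + p 1 + p 2 + R := by
    rw [Finset.sum_range_succ', Finset.sum_range_succ', Finset.sum_range_succ', hR]
    ring
  have htail : ∑ k ∈ Finset.range 16,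
      (p (k + 3) : ℝ) / ((((k + 3 : ℕ) : ℝ) + 1) * (((k + 3 : ℕ) : ℝ) + 2)) ≤ (R : ℝ) / 20 := by
    rw [hR, Nat.cast_sum, Finset.sum_div]
    apply Finset.sum_le_sum
    intro k _
    apply div_le_div_of_nonneg_left (Nat.cast_nonneg _) (by norm_num)
    push_cast
    nlinarith [(Nat.cast_nonneg k : (0 : ℝ) ≤ (k : ℝ))]
  have hbound : ∑ k ∈ Finset.range 19, (p k : ℝ) / (((k : ℝ) + 1) * ((k : ℝ) + 2))
      ≤ (p 0 : ℝ) / 2 + (p 1 : ℝ) / 6 + (p 2 : ℝ) / 12 + (R : ℝ) / 20 := by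
    rw [Finset.sum_range_succ', Finset.sum_range_succ', Finset.sum_range_succ']
    have e0 : (p 0 : ℝ) / ((((0 : ℕ) : ℝ) + 1) * (((0 : ℕ) : ℝ) + 2)) = (p 0 : ℝ) / 2 := by
      norm_num
    have e1 : (p (0 + 1) : ℝ) / ((((0 + 1 : ℕ) : ℝ) + 1) * (((0 + 1 : ℕ) : ℝ) + 2))
        = (p 1 : ℝ) / 6 := by
      norm_num
    have e2 : (p (0 + 1 + 1) : ℝ) / ((((0 + 1 + 1 : ℕ) : ℝ) + 1) * (((0 + 1 + 1 : ℕ) : ℝ) + 2))
        = (p 2 : ℝ) / 12 := by
      norm_num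
    rw [e0, e1, e2]
    have := htail
    linarith
  have hineq : 360 ≤ 15 * n + 30 * p 0 + 10 * p 1 + 5 * p 2 + 3 * R := by
    have h : (360 : ℝ) ≤ 15 * (n : ℝ) + 30 * (p 0 : ℝ) + 10 * (p 1 : ℝ) + 5 * (p 2 : ℝ)
        + 3 * (R : ℝ) := by linarith
    exact_mod_cast h
  have h1' : 5 * p 0 + 2 * n ≤ 45 := by
    have h : 5 * (p 0 : ℝ) + 2 * (n : ℝ) ≤ 45 := by linarith
    exact_mod_cast h
  have h10 : p 1 ≤ p 0 := h2 (by norm_num)
  have h21 : p 2 ≤ p 1 := h2 (by norm_num)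
  have hsumle := h3' 19
  rw [hsum19] at hsumle
  have hRpos : 0 < R → 1 ≤ p 2 := by
    intro hpos
    rw [hR] at hpos
    obtain ⟨k, _, hk⟩ := Finset.exists_ne_zero_of_sum_ne_zero hpos.ne'
    exact le_trans (Nat.one_le_iff_ne_zero.mpr hk) (h2 (by omega))
  have hcases : n = 0 ∧ ((p 0 = 9 ∧ p 1 = 8 ∧ p 2 = 2 ∧ R = 0) ∨ (p 0 = 9 ∧ p 1 = 9 ∧ p 2 = 0 ∧ R = 0)
      ∨ (p 0 = 9 ∧ p 1 = 9 ∧ p 2 = 1 ∧ R = 0)) := by
    omega
  obtain ⟨hn0, hc⟩ := hcases
  refine ⟨hn0, ?_⟩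
  have hR0 : R = 0 := by rcases hc with h | h | h <;> exact h.2.2.2
  have hge3 : ∀ k, 3 ≤ k → p k = 0 := by
    intro k hk
    rcases Nat.lt_or_ge k 19 with hlt | hge
    · rw [hR0] at hR
      have := (Finset.sum_eq_zero_iff.mp hR.symm) (k - 3) (Finset.mem_range.mpr (by omega))
      rwa [Nat.sub_add_cancel hk] at this
    · exact hzero k hge
  have hfun : ∀ a b c : ℕ, p 0 = a → p 1 = b → p 2 = c →
      p = (fun k => if k = 0 then a else if k = 1 then b else if k = 2 then c else 0) := by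
    intro a b c ha hb hc'
    funext k
    rcases k with _ | _ | _ | k
    · simp [ha]
    · simp [hb]
    · simp [hc']
    · have := hge3 (k + 3) (by omega)
      simp [this]
  rcases hc with h | h | h
  · left
    exact hfun 9 8 2 h.1 h.2.1 h.2.2.1
  · right; left
    have := hfun 9 9 0 h.1 h.2.1 h.2.2.1
    rw [this]
    funext k
    by_cases h0 : k = 0
    · simp [h0]
    · by_cases h1 : k = 1
      · simp [h1]
      · simp [h0, h1]
  · right; right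
    exact hfun 9 9 1 h.1 h.2.1 h.2.2.1

end Groth.Agent.S18053
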