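import Groth.Statements.S18054
import Mathlib.Tactic.Linarith
import Mathlib.Tactic.Ring
import Mathlib.Tactic.IntervalCases

set_option autoImplicit false
open STCI

namespace Groth.Agent.S18054

/-- Let s, t, d, g be integers with t ≥ s ≥ 4, d ≥ 1, g ≥ 0 and d dividing st; put n = st/d and assume n
≥ 2; put r = d[n(s - 4) + t] + (2 - 2g)n and assume r ≤ (s/3)(2s² - 6s + 7) - 1. Then d ≤ g + 3.
(The bound is written cleared of the denominator 3; s(2s² - 6s + 7) is always divisible by 3, so
this is the same condition.) -/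
theorem result (s t d g n : ℤ) (hs : 4 ≤ s) (hst : s ≤ t) (hd : 1 ≤ d) (hg : 0 ≤ g)
    (hn : s * t = d * n) (hn2 : 2 ≤ n)
    (hr : 3 * (d * (n * (s - 4) + t) + (2 - 2 * g) * n) ≤ s * (2 * s ^ 2 - 6 * s + 7) - 3) :
    d ≤ g + 3 := by
  by_contra hcon
  have hd4 : g + 4 ≤ d := by omega
  have ht4 : 4 ≤ t := le_trans hs hst
  have hX : 3 * (s * t * (s - 6) + d * t + 10 * n) ≤ s * (2 * s ^ 2 - 6 * s + 7) - 3 := by
    have h1 : 0 ≤ (d - 4 - g) * n := mul_nonneg (by linarith) (by linarith)
    have h2 : d * n * s = s * t * s := by rw [← hn]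
    nlinarith
  have hAG : 40 * s * t ^ 2 ≤ (d * t + 10 * n) ^ 2 := by
    have h := sq_nonneg (d * t - 10 * n)
    have h2 : d * t * n = s * t * t := by rw [hn]; ring
    nlinarith
  have hXpos : 0 < d * t + 10 * n := by
    have : 0 ≤ d * t := mul_nonneg (by linarith) (by linarith)
    linarith
  obtain ⟨X, hXdef⟩ : ∃ X, X = d * t + 10 * n := ⟨_, rfl⟩
  rw [← hXdef] at hAG hXpos
  have hX' : 3 * (s * t * (s - 6) + X) ≤ s * (2 * s ^ 2 - 6 * s + 7) - 3 := by
    rw [hXdef]; linarith
  have hcase : s = 4 ∨ s = 5 ∨ 6 ≤ s := by omega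
  rcases hcase with rfl | rfl | hs6
  · -- s = 4
    have hXt : 12 * t < X := by
      by_contra hle
      rw [not_lt] at hle
      have h1 : X ^ 2 ≤ (12 * t) ^ 2 := by nlinarith
      nlinarith
    have htle : t ≤ 4 := by linarith
    have hteq : t = 4 := le_antisymm htle ht4
    subst hteq
    have hd7 : d ≤ 7 := by linarith
    have hn3 : n ≤ 3 := by linarith
    have hd4' : 4 ≤ d := by linarith
    interval_cases d <;> interval_cases n <;> omega
  · -- s = 5
    have hXt : 14 * t < X := by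
      by_contra hle
      rw [not_lt] at hle
      have h1 : X ^ 2 ≤ (14 * t) ^ 2 := by nlinarith
      nlinarith
    linarith
  · -- s ≥ 6
    have hXt : 15 * t < X := by
      by_contra hle
      rw [not_lt] at hle
      have h1 : X ^ 2 ≤ (15 * t) ^ 2 := by nlinarith
      have h2 : 240 * t ^ 2 ≤ 40 * s * t ^ 2 := by
        have : 0 ≤ t ^ 2 := sq_nonneg t
        nlinarith
      nlinarith
    have h3 : 0 ≤ (t - s) * (s * (s - 6)) :=
      mul_nonneg (by linarith) (mul_nonneg (by linarith) (by linarith))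
    nlinarith [mul_nonneg (by linarith : (0 : ℤ) ≤ s) (sq_nonneg (s - 6))]

end Groth.Agent.S18054
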