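import Groth.Statements.S18055
import Mathlib.Tactic.Linarith
import Mathlib.Tactic.Ring
import Mathlib.Algebra.Order.GroupWithZero.Basic

set_option autoImplicit false
open STCI

namespace Groth.Agent.S18055

/-- Let d ≥ 1, g ≥ 0 and 1 ≤ s ≤ t be integers with d dividing st, put n = st/d and r = d[n(s - 4) + t]
+ (2 - 2g)n, and assume n ≥ 2, r > 0 and (n - 1) divides r. Then s < 2d² and t < 2d⁴. This is the
statement about the degree data (d, g the degree and genus of the curve, s ≤ t the degrees of the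
two surfaces) to which the published proof reduces the degree bound: there the divisibility and
positivity express that r/(n - 1), the common value of the type numbers of the pair, is a positive
integer; the geometric hypotheses themselves are not part of this row. -/
theorem result (d g s t n : ℤ) (hd : 1 ≤ d) (hg : 0 ≤ g) (hs : 1 ≤ s) (hst : s ≤ t)
    (hn : s * t = d * n) (hn2 : 2 ≤ n)
    (hpos : 0 < d * (n * (s - 4) + t) + (2 - 2 * g) * n)
    (hdvd : (n - 1) ∣ d * (n * (s - 4) + t) + (2 - 2 * g) * n) :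
    s < 2 * d ^ 2 ∧ t < 2 * d ^ 4 := by
  obtain ⟨c, hc⟩ : ∃ c, c = d * (s - 4) + 2 - 2 * g := ⟨_, rfl⟩
  have hr : d * (n * (s - 4) + t) + (2 - 2 * g) * n = n * c + d * t := by rw [hc]; ring
  rw [hr] at hpos hdvd
  have hd0 : 0 < d := by linarith
  have hn0 : 0 < n := by linarith
  have ht1 : 1 ≤ t := le_trans hs hst
  have hdvd1 : (n - 1) ∣ c + d * t := by
    have h : n * c + d * t = (n - 1) * c + (c + d * t) := by ring
    rw [h] at hdvd
    exact (Int.dvd_add_right (Dvd.intro _ rfl)).mp hdvd
  have hdvd2 : (n - 1) ∣ s * c + d ^ 2 := by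
    have h1 : (n - 1) ∣ s * (c + d * t) := Dvd.dvd.mul_left hdvd1 s
    have h2 : s * (c + d * t) = (n - 1) * d ^ 2 + (s * c + d ^ 2) := by
      have h3 : s * (d * t) = d * (s * t) := by ring
      rw [mul_add, h3, hn]; ring
    rw [h2] at h1
    exact (Int.dvd_add_right (Dvd.intro _ rfl)).mp h1
  have hcle : c ≤ d * (s - 4) + 2 := by rw [hc]; linarith
  have hs_lt : s < 2 * d ^ 2 := by
    by_contra hge
    rw [not_lt] at hge
    have h1 : 2 * d * t ≤ n := by
      have h : d * (2 * d * t) ≤ d * n := by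
        rw [← hn]
        have : 2 * d ^ 2 * t ≤ s * t := mul_le_mul_of_nonneg_right hge (by linarith)
        linarith [this, (by ring : d * (2 * d * t) = 2 * d ^ 2 * t)]
      exact le_of_mul_le_mul_left h hd0
    have hc0 : 0 ≤ c := by
      by_contra hneg
      rw [not_le] at hneg
      have h2 : n * c ≤ n * (-1) := mul_le_mul_of_nonneg_left (by linarith) hn0.le
      have h3 : 0 < d * t := mul_pos hd0 (by linarith)
      linarith
    have hpos1 : 0 < c + d * t := by
      have h3 : 0 < d * t := mul_pos hd0 (by linarith)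
      linarith
    have hle := Int.le_of_dvd hpos1 hdvd1
    have h4 : n ≤ 2 * (d * (s - 4) + 2) + 2 := by linarith
    have h5 : s * t ≤ d * (2 * (d * (s - 4) + 2) + 2) := by
      rw [hn]; exact mul_le_mul_of_nonneg_left h4 hd0.le
    have h6 : s * s ≤ s * t := mul_le_mul_of_nonneg_left hst (by linarith)
    have h7 : 2 * d ^ 2 * s ≤ s * s := mul_le_mul_of_nonneg_right hge (by linarith)
    nlinarith
  refine ⟨hs_lt, ?_⟩
  by_contra hge
  rw [not_lt] at hge
  have hpos2 : 0 < s * c + d ^ 2 := by
    have h1 : s * (n * c + d * t) = n * (s * c + d ^ 2) := by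
      have h3 : s * (d * t) = d * (s * t) := by ring
      rw [mul_add, h3, hn]; ring
    have h2 : 0 < s * (n * c + d * t) := mul_pos (by linarith) hpos
    rw [h1] at h2
    exact pos_of_mul_pos_right h2 hn0.le
  have hle := Int.le_of_dvd hpos2 hdvd2
  have h3 : s * c ≤ s * (d * (s - 4) + 2) := mul_le_mul_of_nonneg_left hcle (by linarith)
  have h4 : n ≤ s * (d * (s - 4) + 2) + d ^ 2 + 1 := by linarith
  have h5 : s * t ≤ d * (s * (d * (s - 4) + 2) + d ^ 2 + 1) := by
    rw [hn]; exact mul_le_mul_of_nonneg_left h4 hd0.le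
  have h6 : s * (2 * d ^ 4) ≤ s * t := mul_le_mul_of_nonneg_left hge (by linarith)
  have h7 : 0 ≤ (s - 1) * (2 * d ^ 2 - 1 - s) := mul_nonneg (by linarith) (by linarith)
  have h8 : d ^ 3 ≤ d ^ 4 := by
    have : 0 ≤ d ^ 3 := by positivity
    nlinarith
  have h9 : d ≤ d ^ 2 := by nlinarith
  nlinarith [mul_nonneg (sq_nonneg d) h7]

end Groth.Agent.S18055
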