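import Groth.Statements.S18056
import Groth.Agent.Lib.ArtinSmoothField2
import Mathlib.RingTheory.LocalRing.Length

set_option autoImplicit false
universe u v
open STCI

namespace Groth.Agent.S18056

/-- Let A → B be a homomorphism of Artinian local rings that is flat and formally smooth, where A has a
subring that is a field. Then A and B have the same length, each as a module over itself. -/
theorem result (A : Type u) (B : Type v) [CommRing A] [CommRing B]
    [IsLocalRing A] [IsLocalRing B] [IsArtinianRing A] [IsArtinianRing B] [Algebra A B]
    [Module.Flat A B] [Algebra.FormallySmooth A B] (hK : ∃ K : Subring A, IsField K) :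
    Module.length A A = Module.length B B := by
  classical
  -- the structure map is local
  have hloc : IsLocalHom (algebraMap A B) := by
    constructor
    intro a ha
    by_contra hna
    have hmem : a ∈ IsLocalRing.maximalIdeal A := hna
    have hnil : IsNilpotent a := by
      have h1 := IsArtinianRing.isNilpotent_jacobson_bot (R := A)
      rw [IsLocalRing.jacobson_eq_maximalIdeal ⊥ bot_ne_top] at h1
      obtain ⟨n, hn⟩ := h1
      refine ⟨n, ?_⟩
      have : a ^ n ∈ IsLocalRing.maximalIdeal A ^ n := Ideal.pow_mem_pow hmem n
      rw [hn] at this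
      simpa using this
    exact (hnil.map (algebraMap A B)).not_isUnit ha
  have key := IsLocalRing.length_baseChange A B A
  rw [(TensorProduct.AlgebraTensorModule.rid A B B).length_eq] at key
  suffices h1 : Module.length B (B ⧸ (IsLocalRing.maximalIdeal A).map (algebraMap A B)) = 1 by
    rw [key, h1, mul_one]
  have hlt : (IsLocalRing.maximalIdeal A).map (algebraMap A B) ≠ ⊤ :=
    (IsLocalRing.map_maximalIdeal_lt_top (algebraMap A B)).ne
  have : Nontrivial (B ⧸ (IsLocalRing.maximalIdeal A).map (algebraMap A B)) :=
    Ideal.Quotient.nontrivial_iff.mpr hlt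
  -- the closed fibre as a tensor product
  let κ := A ⧸ IsLocalRing.maximalIdeal A
  let _ : Field κ := Ideal.Quotient.field _
  let C := TensorProduct A κ B
  let e : C ≃+* (B ⧸ (IsLocalRing.maximalIdeal A).map (algebraMap A B)) :=
    ((Algebra.TensorProduct.comm A κ B).toRingEquiv).trans
      (Algebra.TensorProduct.quotIdealMapEquivTensorQuot B (IsLocalRing.maximalIdeal A)).symm.toRingEquiv
  have hQloc : IsLocalRing (B ⧸ (IsLocalRing.maximalIdeal A).map (algebraMap A B)) :=
    IsLocalRing.of_surjective' (Ideal.Quotient.mk _) Ideal.Quotient.mk_surjective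
  have hQart : IsArtinianRing (B ⧸ (IsLocalRing.maximalIdeal A).map (algebraMap A B)) :=
    (Ideal.Quotient.mk_surjective
      (I := (IsLocalRing.maximalIdeal A).map (algebraMap A B))).isArtinianRing
  have hCloc : IsLocalRing C := e.symm.isLocalRing
  have hCart : IsArtinianRing C := e.symm.isArtinianRing
  have hfs : Algebra.FormallySmooth κ C := inferInstance
  have hfld : IsField C := Groth.Agent.Lib.ArtinSmoothField2.isField_of_formallySmooth_field κ C
  have hfld' : IsField (B ⧸ (IsLocalRing.maximalIdeal A).map (algebraMap A B)) :=
    e.symm.toMulEquiv.isField hfld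
  have hmax : ((IsLocalRing.maximalIdeal A).map (algebraMap A B)).IsMaximal :=
    Ideal.Quotient.maximal_of_isField _ hfld'
  rw [Module.length_eq_one_iff, isSimpleModule_iff_quot_maximal]
  exact ⟨_, hmax, ⟨LinearEquiv.refl _ _⟩⟩

end Groth.Agent.S18056
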