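import Groth.Statements.S18057
import Groth.Agent.S18056
import Groth.Agent.Lib.GenericStalk45
import Groth.Agent.Lib.FormallySmoothHomAffine

set_option autoImplicit false
universe u
open STCI

namespace Groth.Agent.S18057

open AlgebraicGeometry CategoryTheory in
/-- For a morphism f : X' → X between irreducible Noetherian schemes that is flat and formally smooth,
with X defined over a field (rendered: the ring of global sections of X contains a subring that is a
field, which for nonempty X is the same as giving a morphism from X to the spectrum of a field), the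
local rings of X' and X at their generic points η', η (Artinian local rings) satisfy length
O_{X',η'} = length O_{X,η}. Formal smoothness is the infinitesimal lifting property against
square-zero thickenings of affine schemes. -/
theorem result {X' X : Scheme.{u}} (f : X' ⟶ X)
    [IrreducibleSpace ↥X'] [IrreducibleSpace ↥X] [IsNoetherian X'] [IsNoetherian X] [Flat f]
    (hf : MoreMor.IsFormallySmoothHom f) (hK : ∃ K : Subring Γ(X, ⊤), IsField K) :
    Module.length (X'.presheaf.stalk (genericPoint X')) (X'.presheaf.stalk (genericPoint X'))
      = Module.length (X.presheaf.stalk (genericPoint X)) (X.presheaf.stalk (genericPoint X)) := by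
  have hη : f (genericPoint X') = genericPoint X :=
    Groth.Agent.Lib.GenericStalk45.map_genericPoint_of_flat f
  have hart : IsArtinianRing (X.presheaf.stalk (f (genericPoint X'))) := by
    rw [hη]; exact Groth.Agent.Lib.GenericStalk45.isArtinianRing_stalk_genericPoint X
  rw [← hη]
  let φ := (f.stalkMap (genericPoint X')).hom
  let _ : Algebra (X.presheaf.stalk (f (genericPoint X'))) (X'.presheaf.stalk (genericPoint X')) :=
    φ.toAlgebra
  have hflat : Module.Flat (X.presheaf.stalk (f (genericPoint X')))
      (X'.presheaf.stalk (genericPoint X')) := Flat.stalkMap f _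
  have hfs : Algebra.FormallySmooth (X.presheaf.stalk (f (genericPoint X')))
      (X'.presheaf.stalk (genericPoint X')) :=
    Groth.Agent.Lib.FormallySmoothHomAffine.formallySmooth_stalkMap f hf _
  have hart' : IsArtinianRing (X'.presheaf.stalk (genericPoint X')) :=
    Groth.Agent.Lib.GenericStalk45.isArtinianRing_stalk_genericPoint X'
  -- the field inside the stalk
  have hK' : ∃ K : Subring (X.presheaf.stalk (f (genericPoint X'))), IsField K := by
    obtain ⟨K, hKf⟩ := hK
    let g : Γ(X, ⊤) →+* X.presheaf.stalk (f (genericPoint X')) :=
      (X.presheaf.germ ⊤ (f (genericPoint X')) trivial).hom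
    refine ⟨K.map g, ?_⟩
    refine { exists_pair_ne := ⟨0, 1, zero_ne_one⟩, mul_comm := mul_comm, mul_inv_cancel := ?_ }
    rintro ⟨x, k, hk, rfl⟩ hx
    have hk0 : (⟨k, hk⟩ : K) ≠ 0 := by
      rintro h
      apply hx
      have : k = 0 := congrArg Subtype.val h
      subst this
      ext
      simp
    obtain ⟨⟨k', hk'⟩, hkk'⟩ := hKf.mul_inv_cancel hk0
    refine ⟨⟨g k', k', hk', rfl⟩, ?_⟩
    ext
    have : k * k' = 1 := congrArg Subtype.val hkk'
    simp [← map_mul, this]
  exact (Groth.Agent.S18056.result _ _ hK').symm

end Groth.Agent.S18057
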