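import Mathlib
import Groth.Agent.Lib.StDominant27
import Groth.Statements.S18063

set_option autoImplicit false
universe u
open CategoryTheory MonoidalCategory CartesianMonoidalCategory MonObj GrpObj AlgebraicGeometry CategoryTheory.Limits
open AlgGrp

namespace Groth.Agent.S18063

section Helpers

/-- If the base change of a monoid object along `f` is commutative, the two multiplications agree
after applying `Over.pullback f`. -/
theorem map_braiding_mul {S S' : Scheme.{u}} (f : S' ⟶ S) (G : Over S) [GrpObj G]
    [IsCommMonObj (Red.bc f G)] :
    (Over.pullback f).map ((β_ G G).hom ≫ μ[G]) = (Over.pullback f).map μ[G] := by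
  have h := IsCommMonObj.mul_comm (Red.bc f G)
  have hμ : μ[Red.bc f G] = Functor.LaxMonoidal.μ (Over.pullback f) G G ≫ (Over.pullback f).map μ[G] :=
    rfl
  rw [hμ, ← Functor.LaxBraided.braided_assoc, ← Functor.map_comp] at h
  exact (cancel_epi _).mp h

end Helpers

/-- A is a discrete valuation ring, K denotes its field of fractions and k its residue field, and G is
an A-group scheme that is flat, separated and of finite presentation. If the generic fibre G_K is
commutative, then the special fibre G_k is commutative. (The published statement does not require G
separated over A, and its proof argues by density of the generic fibre; without separatedness the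
conclusion fails: gluing copies of Spec A indexed by a finite non-abelian group along their common
generic point gives a flat group scheme of finite presentation over A whose generic fibre is the
trivial group and whose special fibre is that non-abelian constant group. So G is taken separated
here.) -/
theorem result (A : Type u) [CommRing A] [IsDomain A] [IsDiscreteValuationRing A]
    (K : Type u) [Field K] [Algebra A K] [IsFractionRing A K]
    (G : Over (Spec (CommRingCat.of A))) [GrpObj G] [Flat G.hom] [LocallyOfFinitePresentation G.hom] [QuasiCompact G.hom]
    [IsSeparated G.hom] [IsCommMonObj (Red.bc (Spec.map (CommRingCat.ofHom (algebraMap A K))) G)] :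
    IsCommMonObj (Red.bc (Spec.map (CommRingCat.ofHom (algebraMap A (IsLocalRing.ResidueField A)))) G) := by
  have h1 := Groth.Agent.S18063.map_braiding_mul
    (Spec.map (CommRingCat.ofHom (algebraMap A K))) G
  have h2 : pullback.fst (G ⊗ G).hom (Spec.map (CommRingCat.ofHom (algebraMap A K))) ≫
        ((β_ G G).hom ≫ μ[G]).left =
      pullback.fst (G ⊗ G).hom (Spec.map (CommRingCat.ofHom (algebraMap A K))) ≫ μ[G].left := by
    have key : ∀ (m : G ⊗ G ⟶ G),
        ((Over.pullback (Spec.map (CommRingCat.ofHom (algebraMap A K)))).map m).left ≫
          pullback.fst G.hom (Spec.map (CommRingCat.ofHom (algebraMap A K))) =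
        pullback.fst (G ⊗ G).hom (Spec.map (CommRingCat.ofHom (algebraMap A K))) ≫ m.left := by
      intro m
      dsimp only [Over.pullback]
      exact pullback.lift_fst _ _ _
    rw [← key, ← key, h1]
  have hdomK : IsSchemeTheoreticallyDominant (Spec.map (CommRingCat.ofHom (algebraMap A K))) :=
    Groth.Agent.Lib.StDominant27.isSchemeTheoreticallyDominant_SpecMap _
      (IsFractionRing.injective A K)
  have hflat : Flat (G ⊗ G).hom := by
    rw [Over.tensorObj_hom]
    infer_instance
  have hd : IsSchemeTheoreticallyDominant
      (pullback.fst (G ⊗ G).hom (Spec.map (CommRingCat.ofHom (algebraMap A K)))) := inferInstance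
  have h3 : ((β_ G G).hom ≫ μ[G]) = μ[G] := by
    apply Over.OverMorphism.ext
    exact Groth.Agent.Lib.StDominant27.ext_of_isSchemeTheoreticallyDominant_of_isSeparated G.hom
      (by rw [Over.w, Over.w]) _ h2
  have : IsCommMonObj G := ⟨h3⟩
  infer_instance

end Groth.Agent.S18063
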