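import Groth.Statements.S18069
-- import your own Groth.Agent.* helpers here

set_option autoImplicit false
universe u
open CategoryTheory MonoidalCategory CartesianMonoidalCategory MonObj GrpObj AlgebraicGeometry CategoryTheory.Limits
open AlgGrp

namespace Groth.Agent.S18069

open CategoryTheory CategoryTheory.Limits AlgebraicGeometry TensorProduct in
lemma injective_algebraMap_of_injective {R S T P : Type u} [CommRing R] [CommRing S] [CommRing T]
    [CommRing P] [Algebra R S] [Algebra R T] [Algebra S P] [Algebra T P] [Algebra R P]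
    [IsScalarTower R S P] [IsScalarTower R T P] [Algebra.IsPushout R T S P]
    [Module.Flat R T] (h : Function.Injective (algebraMap R S)) :
    Function.Injective (algebraMap T P) := by
  have hbc : IsBaseChange T (IsScalarTower.toAlgHom R S P).toLinearMap :=
    Algebra.IsPushout.out
  let e : T ⊗[R] S ≃ₗ[T] P := hbc.equiv
  have key : ∀ t : T, algebraMap T P t =
      e ((Algebra.linearMap R S).lTensor T ((TensorProduct.rid R T).symm t)) := by
    intro t
    simp only [TensorProduct.rid_symm_apply, LinearMap.lTensor_tmul, Algebra.linearMap_apply,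
      map_one, e, IsBaseChange.equiv_tmul, AlgHom.toLinearMap_apply, Algebra.smul_def]
    exact (_root_.mul_one _).symm
  have : (algebraMap T P : T → P) =
      e ∘ ((Algebra.linearMap R S).lTensor T) ∘ (TensorProduct.rid R T).symm := by
    funext t; exact key t
  rw [this]
  refine e.injective.comp (Function.Injective.comp ?_ (TensorProduct.rid R T).symm.injective)
  exact Module.Flat.lTensor_preserves_injective_linearMap _ h

open CategoryTheory CategoryTheory.Limits AlgebraicGeometry in
lemma bijective_left_of_isPushout {k : Type u} [Field k]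
    {A B P : CommRingCat.{u}} {a : CommRingCat.of k ⟶ A} {b : CommRingCat.of k ⟶ B}
    {inl : A ⟶ P} {inr : B ⟶ P} (h : IsPushout a b inl inr) [Nontrivial B]
    (hab : Function.Bijective (a ≫ inl).hom) : Function.Bijective a.hom := by
  algebraize [a.hom, b.hom, inl.hom, inr.hom, inl.hom.comp a.hom]
  have : IsScalarTower k B P := .of_algebraMap_eq' <| congr($(h.1.1).hom)
  have h1 : Algebra.IsPushout k A B P := CommRingCat.isPushout_iff_isPushout.mp h
  have h2 : Algebra.IsPushout k B A P := Algebra.IsPushout.symm h1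
  have hinj : Function.Injective (algebraMap k B) := (algebraMap k B).injective
  have hinl : Function.Injective (algebraMap A P) :=
    @injective_algebraMap_of_injective k B A P _ _ _ _ _ _ _ _ _ _ _ h1 inferInstance hinj
  have hinl' : Function.Injective inl.hom := hinl
  refine ⟨?_, ?_⟩
  · have : Function.Injective (inl.hom ∘ a.hom) := by
      have := hab.1
      simpa [CommRingCat.hom_comp] using this
    exact Function.Injective.of_comp this
  · intro x
    obtain ⟨c, hc⟩ := hab.2 (inl.hom x)
    refine ⟨c, hinl' ?_⟩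
    simpa [CommRingCat.hom_comp] using hc


/-- Let k be a field and G₁, G₂ connected k-group schemes of finite type. Then G₁ × G₂ is anti-affine,
i.e. O(G₁ × G₂) = k, if and only if G₁ and G₂ are both anti-affine. -/
theorem result (k : Type u) [Field k]
    (G₁ G₂ : Over (Spec (CommRingCat.of k))) [GrpObj G₁] [LocallyOfFiniteType G₁.hom] [QuasiCompact G₁.hom] [ConnectedSpace ↥G₁.left]
    [GrpObj G₂] [LocallyOfFiniteType G₂.hom] [QuasiCompact G₂.hom] [ConnectedSpace ↥G₂.left] :
    Function.Bijective ((Scheme.ΓSpecIso (CommRingCat.of k)).inv ≫ (G₁ ⊗ G₂).hom.appTop).hom ↔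
      Function.Bijective ((Scheme.ΓSpecIso (CommRingCat.of k)).inv ≫ G₁.hom.appTop).hom ∧ Function.Bijective ((Scheme.ΓSpecIso (CommRingCat.of k)).inv ≫ G₂.hom.appTop).hom := by
  classical
  have hpb : IsPullback (pullback.fst G₁.hom G₂.hom) (pullback.snd G₁.hom G₂.hom) G₁.hom G₂.hom :=
    IsPullback.of_hasPullback _ _
  have : IsLocallyNoetherian G₁.left := LocallyOfFiniteType.isLocallyNoetherian G₁.hom
  have : CompactSpace G₁.left := QuasiCompact.compactSpace_of_compactSpace G₁.hom
  have : IsLocallyNoetherian G₂.left := LocallyOfFiniteType.isLocallyNoetherian G₂.hom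
  have : CompactSpace G₂.left := QuasiCompact.compactSpace_of_compactSpace G₂.hom
  have hflat : ∀ (G : Over (Spec (CommRingCat.of k))), G.hom.appTop.hom.Flat := by
    intro G
    have e : G.hom.appTop = (Scheme.ΓSpecIso (CommRingCat.of k)).hom ≫
        ((Scheme.ΓSpecIso (CommRingCat.of k)).inv ≫ G.hom.appTop) := by simp
    rw [e, CommRingCat.hom_comp]
    refine RingHom.Flat.comp (RingHom.Flat.of_bijective
      (ConcreteCategory.bijective_of_isIso (Scheme.ΓSpecIso (CommRingCat.of k)).hom)) ?_
    algebraize [((Scheme.ΓSpecIso (CommRingCat.of k)).inv ≫ G.hom.appTop).hom]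
    show Module.Flat k _
    infer_instance
  have e : ∀ {A B : Scheme.{u}} (t : A ⟶ B) (e : (⊤ : A.Opens) ≤ t ⁻¹ᵁ ⊤),
      t.appLE ⊤ ⊤ e = t.appTop := fun t e => Scheme.Hom.appLE_eq_app t (U := ⊤)
  have hpo : IsPushout G₁.hom.appTop G₂.hom.appTop (pullback.fst G₁.hom G₂.hom).appTop
      (pullback.snd G₁.hom G₂.hom).appTop := by
    have hl2 : (⊤ : G₂.left.Opens) ≤ G₂.hom ⁻¹ᵁ ⊤ := by simp
    have hl1 : (⊤ : G₁.left.Opens) ≤ G₁.hom ⁻¹ᵁ ⊤ := by simp
    have h1 := isIso_pushoutSection_of_isCompact_of_flat_right_of_ringHomFlat hpb (US := ⊤)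
      (UT := ⊤) (UX := ⊤) (UY := ⊤) hl2 hl1 (by simp) (isAffineOpen_top _)
      isCompact_univ isQuasiSeparated_univ isCompact_univ isQuasiSeparated_univ
      (by rw [e]; exact hflat G₁)
    have h2 := (isIso_pushoutSection_iff hpb (US := ⊤) (UT := ⊤)
      (UX := ⊤) (UY := ⊤) hl2 hl1 (by simp)).mp h1
    rw [e, e, e, e] at h2
    exact h2
  have hpo' : IsPushout ((Scheme.ΓSpecIso (CommRingCat.of k)).inv ≫ G₁.hom.appTop)
      ((Scheme.ΓSpecIso (CommRingCat.of k)).inv ≫ G₂.hom.appTop)
      (pullback.fst G₁.hom G₂.hom).appTop (pullback.snd G₁.hom G₂.hom).appTop := by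
    refine hpo.of_iso (Scheme.ΓSpecIso (CommRingCat.of k)) (Iso.refl _) (Iso.refl _) (Iso.refl _)
      ?_ ?_ ?_ ?_ <;> simp
  have hN1 : Nontrivial Γ(G₁.left, ⊤) := by
    exact @Scheme.component_nontrivial G₁.left ⊤ ⟨⟨Classical.arbitrary _, trivial⟩⟩
  have hN2 : Nontrivial Γ(G₂.left, ⊤) := by
    exact @Scheme.component_nontrivial G₂.left ⊤ ⟨⟨Classical.arbitrary _, trivial⟩⟩
  have hhom : (Scheme.ΓSpecIso (CommRingCat.of k)).inv ≫ (G₁ ⊗ G₂).hom.appTop =
      ((Scheme.ΓSpecIso (CommRingCat.of k)).inv ≫ G₁.hom.appTop) ≫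
        (pullback.fst G₁.hom G₂.hom).appTop := by
    rw [Over.tensorObj_hom, Category.assoc, Scheme.Hom.comp_appTop]
  rw [hhom]
  constructor
  · intro hab
    refine ⟨bijective_left_of_isPushout hpo' hab, ?_⟩
    have hab' : Function.Bijective (((Scheme.ΓSpecIso (CommRingCat.of k)).inv ≫ G₂.hom.appTop) ≫
        (pullback.snd G₁.hom G₂.hom).appTop).hom := by
      rw [← hpo'.w]; exact hab
    exact bijective_left_of_isPushout hpo'.flip hab'
  · rintro ⟨h1, h2⟩
    have i2 : IsIso ((Scheme.ΓSpecIso (CommRingCat.of k)).inv ≫ G₂.hom.appTop) :=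
      (ConcreteCategory.isIso_iff_bijective _).mpr h2
    have i3 : IsIso (pullback.fst G₁.hom G₂.hom).appTop := hpo'.isIso_inl_of_isIso
    rw [CommRingCat.hom_comp]
    exact (ConcreteCategory.bijective_of_isIso (pullback.fst G₁.hom G₂.hom).appTop).comp h1

end Groth.Agent.S18069
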