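import Groth.Statements.S18070
import Groth.Agent.Lib.AntiAffExt45

set_option autoImplicit false
universe u
open CategoryTheory MonoidalCategory CartesianMonoidalCategory MonObj GrpObj AlgebraicGeometry CategoryTheory.Limits
open AlgGrp

namespace Groth.Agent.S18070

/-- Let k be a field and 1 → G₁ → G → G₂ → 1 an exact sequence of k-group schemes of finite type with
G₁, G₂ connected (i : G₁ → G a homomorphism and closed immersion which is the kernel of the flat
surjective homomorphism q : G → G₂). Anti-affineness passes from G to the quotient G₂; in the other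
direction, G is anti-affine whenever G₁ and G₂ both are. -/
theorem result (k : Type u) [Field k]
    (G₁ G G₂ : Over (Spec (CommRingCat.of k))) [GrpObj G₁] [LocallyOfFiniteType G₁.hom] [QuasiCompact G₁.hom] [ConnectedSpace ↥G₁.left]
    [GrpObj G] [LocallyOfFiniteType G.hom] [QuasiCompact G.hom]
    [GrpObj G₂] [LocallyOfFiniteType G₂.hom] [QuasiCompact G₂.hom] [ConnectedSpace ↥G₂.left]
    (i : G₁ ⟶ G) [IsMonHom i] [IsClosedImmersion i.left] (q : G ⟶ G₂) [IsMonHom q] [Surjective q.left] [Flat q.left]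
    (hex : AlgGrp.IsKernel i q) :
    (Function.Bijective ((Scheme.ΓSpecIso (CommRingCat.of k)).inv ≫ G.hom.appTop).hom → Function.Bijective ((Scheme.ΓSpecIso (CommRingCat.of k)).inv ≫ G₂.hom.appTop).hom) ∧
    (Function.Bijective ((Scheme.ΓSpecIso (CommRingCat.of k)).inv ≫ G₁.hom.appTop).hom → Function.Bijective ((Scheme.ΓSpecIso (CommRingCat.of k)).inv ≫ G₂.hom.appTop).hom → Function.Bijective ((Scheme.ΓSpecIso (CommRingCat.of k)).inv ≫ G.hom.appTop).hom) := by
  have hN : IsLocallyNoetherian G.left := LocallyOfFiniteType.isLocallyNoetherian G.hom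
  have hN₁ : IsLocallyNoetherian G₁.left := LocallyOfFiniteType.isLocallyNoetherian G₁.hom
  have hN₂ : IsLocallyNoetherian G₂.left := LocallyOfFiniteType.isLocallyNoetherian G₂.hom
  have hC : CompactSpace ↥G.left := QuasiCompact.compactSpace_of_compactSpace G.hom
  have hC₁ : CompactSpace ↥G₁.left := QuasiCompact.compactSpace_of_compactSpace G₁.hom
  have hqc : QuasiCompact (q.left ≫ G₂.hom) := by rw [Over.w q]; infer_instance
  have hqc' : QuasiCompact q.left := QuasiCompact.of_comp q.left G₂.hom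
  have hinj : Function.Injective q.left.appTop.hom :=
    Groth.Agent.Lib.FlatSurj18.app_injective_of_flat_of_surjective q.left ⊤
  have hcomp : ((Scheme.ΓSpecIso (CommRingCat.of k)).inv ≫ G.hom.appTop).hom =
      q.left.appTop.hom.comp ((Scheme.ΓSpecIso (CommRingCat.of k)).inv ≫ G₂.hom.appTop).hom := by
    rw [← Over.w q, Scheme.Hom.comp_appTop]
    rfl
  have hcomp' : ∀ c, ((Scheme.ΓSpecIso (CommRingCat.of k)).inv ≫ G.hom.appTop).hom c =
      q.left.appTop.hom (((Scheme.ΓSpecIso (CommRingCat.of k)).inv ≫ G₂.hom.appTop).hom c) := by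
    intro c; rw [hcomp]; rfl
  refine ⟨fun hG => ⟨?_, ?_⟩, fun hG₁ hG₂ => ⟨?_, ?_⟩⟩
  · intro a b hab
    apply hG.1
    rw [hcomp' a, hcomp' b, hab]
  · intro t
    obtain ⟨c, hc⟩ := hG.2 (q.left.appTop.hom t)
    refine ⟨c, hinj ?_⟩
    rw [← hcomp' c, hc]
  · intro a b hab
    apply hG₂.1
    apply hinj
    rw [← hcomp' a, ← hcomp' b, hab]
  · intro f
    have h1 : Function.Bijective G₁.hom.appTop.hom := by
      have e : G₁.hom.appTop.hom = ((Scheme.ΓSpecIso (CommRingCat.of k)).inv ≫ G₁.hom.appTop).hom.comp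
          (Scheme.ΓSpecIso (CommRingCat.of k)).hom.hom := by
        rw [← CommRingCat.hom_comp, Iso.hom_inv_id_assoc]
      rw [e]
      exact hG₁.comp
        (ConcreteCategory.bijective_of_isIso (Scheme.ΓSpecIso (CommRingCat.of k)).hom)
    obtain ⟨f₂, hf₂⟩ := Groth.Agent.Lib.AntiAffExt45.exists_desc_fn i q hex h1 f
    obtain ⟨c, hc⟩ := hG₂.2 f₂
    exact ⟨c, by rw [hcomp' c, hc, hf₂]⟩

end Groth.Agent.S18070
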