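import Groth.Statements.S18112
import Groth.Agent.Lib.IntValuedPoly
-- import your own Groth.Agent.* helpers here

set_option autoImplicit false
universe u
open CategoryTheory CategoryTheory.Limits MonoidalCategory CartesianMonoidalCategory MonObj GrpObj AlgebraicGeometry
open AbVar

namespace Groth.Agent.S18112

open Polynomial in
/-- The purely arithmetic core: a polynomial `Q` of degree `≤ g` such that `b ^ (2 g) * Q (a / b)`
is an integer whenever `a / b` lies in `(u, v)` has `g! * Q ∈ ℤ[X]` coefficientwise. -/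
theorem arithmetic_core (g : ℕ) (u v : ℚ) (huv : u < v) (Q : Polynomial ℚ) (hQ : Q.natDegree ≤ g)
    (hpoly : ∀ (a : ℤ) (b : ℕ), 0 < b → u < (a : ℚ) / (b : ℚ) → (a : ℚ) / (b : ℚ) < v →
      ∃ N : ℕ, (N : ℚ) / (b : ℚ) ^ (2 * g) = Q.eval ((a : ℚ) / (b : ℚ)))
    (j : ℕ) : ∃ z : ℤ, (Nat.factorial g : ℚ) * Q.coeff j = (z : ℚ) := by
  by_cases hj : g < j
  · exact ⟨0, by rw [coeff_eq_zero_of_natDegree_lt (lt_of_le_of_lt hQ hj)]; simp⟩
  have hj' : j ≤ g := not_lt.mp hj
  have hvu : 0 < v - u := sub_pos.mpr huv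
  obtain ⟨b₀, hb₀⟩ := exists_nat_gt (((g : ℚ) + 2) / (v - u))
  have key : ∀ b : ℕ, b₀ ≤ b → 0 < b →
      ∃ z : ℤ, ((g.factorial : ℚ) * Q.coeff j) * (b : ℚ) ^ (2 * g - j) = z := by
    intro b hb hbpos
    have hbQ : (0 : ℚ) < b := by exact_mod_cast hbpos
    have hbne : (b : ℚ) ≠ 0 := ne_of_gt hbQ
    have hlen : (g : ℚ) + 2 < (v - u) * b := by
      have h1 : ((g : ℚ) + 2) / (v - u) < b := lt_of_lt_of_le hb₀ (by exact_mod_cast hb)
      rwa [div_lt_iff₀ hvu, mul_comm] at h1
    set Pb : Polynomial ℚ := C ((b : ℚ) ^ (2 * g)) * Q.comp (C ((b : ℚ)⁻¹) * X) with hPb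
    have hPbdeg : Pb.natDegree ≤ g := by
      refine (natDegree_C_mul_le _ _).trans ?_
      refine natDegree_comp_le.trans ?_
      calc Q.natDegree * (C ((b : ℚ)⁻¹) * X).natDegree ≤ Q.natDegree * 1 :=
            Nat.mul_le_mul_left _ ((natDegree_C_mul_le _ _).trans natDegree_X_le)
        _ ≤ g := by rw [_root_.mul_one]; exact hQ
    set a₀ : ℤ := ⌊u * b⌋ + 1 with ha₀
    have hval : ∀ m : ℕ, m ≤ g → ∃ z : ℤ, Pb.eval ((a₀ : ℚ) + m) = z := by
      intro m hm
      have hmQ : (m : ℚ) ≤ g := by exact_mod_cast hm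
      have hfl1 : u * b < (⌊u * b⌋ : ℚ) + 1 := Int.lt_floor_add_one _
      have hfl2 : (⌊u * b⌋ : ℚ) ≤ u * b := Int.floor_le _
      have hcast : (((a₀ + (m : ℤ) : ℤ)) : ℚ) = (⌊u * b⌋ : ℚ) + 1 + m := by
        rw [ha₀]; push_cast; ring
      have h1 : u < ((a₀ + (m : ℤ) : ℤ) : ℚ) / (b : ℚ) := by
        rw [lt_div_iff₀ hbQ, hcast]
        have : (0 : ℚ) ≤ m := by positivity
        linarith
      have h2 : ((a₀ + (m : ℤ) : ℤ) : ℚ) / (b : ℚ) < v := by
        rw [div_lt_iff₀ hbQ, hcast]
        nlinarith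
      obtain ⟨N, hN⟩ := hpoly (a₀ + m) b hbpos h1 h2
      refine ⟨(N : ℤ), ?_⟩
      rw [hPb, eval_mul, eval_C, eval_comp, eval_mul, eval_C, eval_X]
      have harg : (b : ℚ)⁻¹ * ((a₀ : ℚ) + m) = ((a₀ + (m : ℤ) : ℤ) : ℚ) / (b : ℚ) := by
        push_cast; field_simp
      rw [harg, ← hN]
      push_cast
      field_simp
    obtain ⟨R, hR⟩ := Groth.Agent.Lib.IntValuedPoly.exists_int_poly g Pb hPbdeg a₀ hval
    refine ⟨R.coeff j, ?_⟩
    have hc := congrArg (fun p => p.coeff j) hR
    simp only [coeff_map, coeff_C_mul, hPb, comp_C_mul_X_coeff, eq_intCast] at hc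
    rw [hc]
    have hpow : (b : ℚ) ^ (2 * g) = (b : ℚ) ^ (2 * g - j) * (b : ℚ) ^ j :=
      (pow_sub_mul_pow _ (by omega)).symm
    rw [hpow, inv_pow]
    field_simp
  obtain ⟨z1, hz1⟩ := key (b₀ + 1) (Nat.le_succ _) (Nat.succ_pos _)
  obtain ⟨z2, hz2⟩ := key (b₀ + 1 + 1) (by omega) (Nat.succ_pos _)
  exact Groth.Agent.Lib.IntValuedPoly.int_of_mul_pow_coprime _ (b₀ + 1) (2 * g - j) ⟨z1, hz1⟩
    ⟨z2, by rw [← hz2]; push_cast; ring⟩

/-- Let k be an algebraically closed field of characteristic zero, A an abelian variety over k (a proper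
smooth k-group scheme with geometrically connected fibres) of dimension g, (A^t, φ) a given dual
abelian variety of A for the fppf topology with A^t itself an abelian variety, and P an invertible
module on A ×_k A^t whose class is a Poincaré class; for a k-point α of A^t write P_α for the
restriction of P to A × {α}. Let L be an ample invertible O_A-module with an inverse L' (L ⊗ L' ≅
O_A), negative powers of L meaning powers of L'. For a coherent O_A-module G write h^i_gen(G) for
the generic value of h^i(A, G ⊗ P_α), rendered as the minimum over all k-points α of A^t (the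
generic value by semicontinuity), and for b ≥ 1 let b_A : A → A be multiplication by b. Let F be a
coherent O_A-module and i ≥ 0, and consider the i-th cohomological rank function of F with respect
to L, the function on the rationals x = a/b (b ≥ 1) with value b^{-2g} · h^i_gen(b_A^* F ⊗ L^{ab}).
Suppose that on an open interval (u, v), u < v rational, this function agrees with a polynomial Q
with rational coefficients of degree at most g. Then every coefficient of Q lies in (1/g!)ℤ, i.e. g!
· Q has integer coefficients. (Stated for a coherent module; the source allows any object of the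
bounded derived category of coherent modules. The degree bound on Q, which the source takes from the
local polynomiality of rank functions, is made a hypothesis here.) -/
theorem result (k : Type u) [Field k] [IsAlgClosed k] [CharZero k]
    (A At : Over (Spec (CommRingCat.of k))) [GrpObj A] [IsProper A.hom] [Smooth A.hom] [GeometricallyConnected A.hom]
    [GrpObj At] [IsProper At.hom] [Smooth At.hom] [GeometricallyConnected At.hom]
    (φ : ∀ T : Over (Spec (CommRingCat.of k)), PicF.Cl (PicF.XT A.hom T) → (T ⟶ At))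
    (hφ : AbDual.IsDualAV Scheme.fppfPrecoverage A At φ)
    (P : (pullback A.hom At.hom).Modules) (hP : PicF.IsInvertible P)
    (hPξ : AbDual.IsPoincareCl A At φ (PicF.cl P))
    (g : ℕ) (hg : topologicalKrullDim ↥A.left = g)
    (L L' : A.left.Modules) (hL : CohB1.IsAmple L) (hLL' : Nonempty (CohB1.tensorMod L L' ≅ Coh.structureModule A.left))
    (F : A.left.Modules) (hF : Coh.IsCoh F) (i : ℕ) (u v : ℚ) (huv : u < v)
    (Q : Polynomial ℚ) (hQ : Q.natDegree ≤ g)
    (hpoly : ∀ (a : ℤ) (b : ℕ), 0 < b → u < (a : ℚ) / (b : ℚ) → (a : ℚ) / (b : ℚ) < v →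
      ((W4c5cohrankabvar.hgen k P (W4c5cohrankabvar.twist A F L L' b (a * b)) i : ℕ) : ℚ) / (b : ℚ) ^ (2 * g) =
        Q.eval ((a : ℚ) / (b : ℚ)))
    (j : ℕ) : ∃ z : ℤ, (Nat.factorial g : ℚ) * Q.coeff j = (z : ℚ) := by
  refine arithmetic_core g u v huv Q hQ ?_ j
  intro a b hb h1 h2
  exact ⟨_, hpoly a b hb h1 h2⟩

end Groth.Agent.S18112
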