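import Mathlib
import Groth.Statements.S18121

set_option autoImplicit false
universe u
open Pinch

namespace Groth.Agent.S18121

section Helpers

open Polynomial

variable {B : Type u} [CommRing B] (b : B)

local notation "g" => ((X : B[X]) ^ 2 - C b)
local notation "B'" => AdjoinRoot ((X : B[X]) ^ 2 - C b)
local notation "z" => AdjoinRoot.root ((X : B[X]) ^ 2 - C b)

theorem z_sq : (z : B') * z = algebraMap B B' b := by
  have h : aeval (z : B') g = 0 := by
    rw [AdjoinRoot.aeval_eq, AdjoinRoot.mk_self]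
  simp only [map_sub, map_pow, aeval_X, aeval_C] at h
  linear_combination h

/-- spanning: every element of `B'` is `α + β z` -/
theorem exists_repr (w : B') : ∃ α β : B, w = algebraMap B B' α + algebraMap B B' β * z := by
  have hw : w ∈ Algebra.adjoin B ({z} : Set B') := by
    rw [AdjoinRoot.adjoinRoot_eq_top]; trivial
  induction hw using Algebra.adjoin_induction with
  | mem x hx =>
    rw [Set.mem_singleton_iff] at hx
    exact ⟨0, 1, by rw [hx]; simp⟩
  | algebraMap r => exact ⟨r, 0, by simp⟩
  | add x y _ _ hx hy =>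
    obtain ⟨α, β, rfl⟩ := hx
    obtain ⟨α', β', rfl⟩ := hy
    exact ⟨α + α', β + β', by simp only [map_add]; ring⟩
  | mul x y _ _ hx hy =>
    obtain ⟨α, β, rfl⟩ := hx
    obtain ⟨α', β', rfl⟩ := hy
    refine ⟨α * α' + β * β' * b, α * β' + α' * β, ?_⟩
    simp only [map_add, map_mul]
    linear_combination (algebraMap B B' β * algebraMap B B' β') * z_sq b

/-- independence of `1, z` -/
theorem repr_eq_zero [Nontrivial B] (α β : B)
    (h : algebraMap B B' α + algebraMap B B' β * z = 0) : α = 0 ∧ β = 0 := by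
  have hmonic : (g).Monic := monic_X_pow_sub_C b (by norm_num)
  have h1 : AdjoinRoot.mk g (C α + C β * X) = 0 := by
    rw [map_add, map_mul, AdjoinRoot.mk_C, AdjoinRoot.mk_C, AdjoinRoot.mk_X]
    exact h
  rw [AdjoinRoot.mk_eq_zero] at h1
  have h2 : C α + C β * X = 0 := by
    by_contra hne
    refine hmonic.not_dvd_of_degree_lt hne ?_ h1
    rw [degree_X_pow_sub_C (by norm_num) b]
    refine lt_of_le_of_lt (degree_add_le _ _) ?_
    refine max_lt (lt_of_le_of_lt degree_C_le (by norm_num)) ?_
    refine lt_of_le_of_lt (degree_C_mul_X_le β) (by norm_num)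
  have hα := congrArg (fun p => coeff p 0) h2
  have hβ := congrArg (fun p => coeff p 1) h2
  simp at hα hβ
  exact ⟨hα, hβ⟩

/-- normal form `F0(v) + u F1(v)` -/
noncomputable def Phi (F0 F1 : B[X]) : MvPolynomial (Fin 2) B :=
  Polynomial.aeval (MvPolynomial.X 1 : MvPolynomial (Fin 2) B) F0 +
    MvPolynomial.X 0 * Polynomial.aeval (MvPolynomial.X 1 : MvPolynomial (Fin 2) B) F1

/-- the generator of the kernel -/
noncomputable abbrev qq : MvPolynomial (Fin 2) B :=
  MvPolynomial.X 0 ^ 2 - MvPolynomial.C b * MvPolynomial.X 1 ^ 2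

theorem exists_normal_form (F : MvPolynomial (Fin 2) B) :
    ∃ F0 F1 : B[X], F - Phi F0 F1 ∈ Ideal.span {qq b} := by
  induction F using MvPolynomial.induction_on with
  | C a =>
    refine ⟨C a, 0, ?_⟩
    simp [Phi]
  | add p q hp hq =>
    obtain ⟨F0, F1, h1⟩ := hp
    obtain ⟨G0, G1, h2⟩ := hq
    refine ⟨F0 + G0, F1 + G1, ?_⟩
    have : p + q - Phi (F0 + G0) (F1 + G1) = (p - Phi F0 F1) + (q - Phi G0 G1) := by
      simp only [Phi, map_add]; ring
    rw [this]
    exact Ideal.add_mem _ h1 h2
  | mul_X p i hp =>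
    obtain ⟨F0, F1, h1⟩ := hp
    fin_cases i
    · refine ⟨C b * X ^ 2 * F1, F0, ?_⟩
      have : p * MvPolynomial.X (0 : Fin 2) - Phi (C b * X ^ 2 * F1) F0 =
          (p - Phi F0 F1) * MvPolynomial.X 0 +
            Polynomial.aeval (MvPolynomial.X 1 : MvPolynomial (Fin 2) B) F1 * qq b := by
        simp only [Phi, map_mul, map_pow, aeval_C, aeval_X, MvPolynomial.algebraMap_eq, qq]
        ring
      rw [show ((⟨0, by decide⟩ : Fin 2)) = 0 from rfl, this]
      exact Ideal.add_mem _ (Ideal.mul_mem_right _ _ h1)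
        (Ideal.mul_mem_left _ _ (Ideal.subset_span rfl))
    · refine ⟨F0 * X, F1 * X, ?_⟩
      have : p * MvPolynomial.X (1 : Fin 2) - Phi (F0 * X) (F1 * X) =
          (p - Phi F0 F1) * MvPolynomial.X 1 := by
        simp only [Phi, map_mul, aeval_X]
        ring
      rw [show ((⟨1, by decide⟩ : Fin 2)) = 1 from rfl, this]
      exact Ideal.mul_mem_right _ _ h1

/-- the map `Ψ` -/
noncomputable abbrev Psi : MvPolynomial (Fin 2) B →ₐ[B] B'[X] :=
  MvPolynomial.aeval ![C (z : B') * X, X]

theorem Psi_Phi (F0 F1 : B[X]) :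
    Psi b (Phi F0 F1) = F0.map (algebraMap B B') + C (z : B') * X * F1.map (algebraMap B B') := by
  have h1 : ∀ F : B[X], Psi b (Polynomial.aeval (MvPolynomial.X 1 : MvPolynomial (Fin 2) B) F) =
      F.map (algebraMap B B') := by
    intro F
    rw [← Polynomial.aeval_algHom_apply, ← aeval_X_left_eq_map]
    congr 1
    simp [Psi]
  rw [Phi, map_add, map_mul, h1, h1]
  congr 2
  simp [Psi]

theorem Psi_qq : Psi b (qq b) = 0 := by
  simp only [Psi, qq, map_sub, map_pow, map_mul, MvPolynomial.aeval_X, MvPolynomial.aeval_C,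
    Matrix.cons_val_zero, Matrix.cons_val_one]
  rw [mul_pow, ← C_pow, pow_two (z : B'), z_sq b]
  simp [Polynomial.algebraMap_apply]

theorem normal_form_eq_zero [Nontrivial B] (F0 F1 : B[X])
    (h : F0.map (algebraMap B B') + C (z : B') * X * F1.map (algebraMap B B') = 0) :
    F0 = 0 ∧ F1 = 0 := by
  have hc : ∀ n, (algebraMap B B' (F0.coeff (n + 1)) + algebraMap B B' (F1.coeff n) * z = 0) := by
    intro n
    have := congrArg (fun p => coeff p (n + 1)) h
    simp only [coeff_add, coeff_map, mul_assoc, coeff_C_mul, coeff_X_mul, coeff_zero] at this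
    rw [← this]; ring
  have h0 : algebraMap B B' (F0.coeff 0) + algebraMap B B' 0 * z = 0 := by
    have := congrArg (fun p => coeff p 0) h
    simp only [coeff_add, coeff_map, mul_assoc, coeff_C_mul, coeff_X_mul_zero, coeff_zero,
      mul_zero, add_zero] at this
    rw [map_zero, zero_mul, add_zero]
    exact this
  constructor
  · ext n
    rcases n with _ | n
    · exact (repr_eq_zero b _ _ h0).1
    · exact (repr_eq_zero b _ _ (hc n)).1
  · ext n
    exact (repr_eq_zero b _ _ (hc n)).2

theorem exists_decomp (G : B'[X]) :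
    ∃ F0 F1 : B[X], G = F0.map (algebraMap B B') + C (z : B') * F1.map (algebraMap B B') := by
  induction G using Polynomial.induction_on' with
  | add p q hp hq =>
    obtain ⟨F0, F1, rfl⟩ := hp
    obtain ⟨G0, G1, rfl⟩ := hq
    exact ⟨F0 + G0, F1 + G1, by simp only [Polynomial.map_add]; ring⟩
  | monomial n w =>
    obtain ⟨α, β, rfl⟩ := exists_repr b w
    refine ⟨monomial n α, monomial n β, ?_⟩
    rw [Polynomial.map_monomial, Polynomial.map_monomial, C_mul_monomial, ← map_add]
    congr 1
    ring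

end Helpers

/-- Let B be a commutative ring, b an element of B, B' := B[z]/(z^2 - b) the rank-two B-algebra with z^2
= b, and Ψ : B[u, v] → B'[t] the B-algebra homomorphism with u ↦ z t and v ↦ t. Then the kernel of Ψ
is the principal ideal generated by u^2 - b v^2, and a polynomial of B'[t] lies in the image of Ψ as
soon as its constant coefficient lies in B. Equivalently, B[u, v]/(u^2 - b v^2) is the fibre product
of B'[t] and B over B' (for t ↦ 0 and the inclusion of B): the pinching of Spec B' × 𝔸¹ along Spec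
B' × {0} by the double cover Spec B' → Spec B is the hypersurface u^2 = b v^2 over B; for B = K[w]
and b = w this is the pinch point u^2 = v^2 w. -/
theorem result (B : Type u) [CommRing B] (b : B) :
    letI Ψ : MvPolynomial (Fin 2) B →ₐ[B] Polynomial (AdjoinRoot (Polynomial.X ^ 2 - Polynomial.C b)) :=
      MvPolynomial.aeval
        ![Polynomial.C (AdjoinRoot.root (Polynomial.X ^ 2 - Polynomial.C b)) * Polynomial.X, Polynomial.X]
    RingHom.ker Ψ.toRingHom =
        Ideal.span {MvPolynomial.X 0 ^ 2 - MvPolynomial.C b * MvPolynomial.X 1 ^ 2} ∧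
      ∀ G : Polynomial (AdjoinRoot (Polynomial.X ^ 2 - Polynomial.C b)),
        (∃ c : B, G.coeff 0 = algebraMap B (AdjoinRoot (Polynomial.X ^ 2 - Polynomial.C b)) c) →
          G ∈ Ψ.range := by
  show RingHom.ker (Psi b).toRingHom = Ideal.span {qq b} ∧
    ∀ G : Polynomial (AdjoinRoot (Polynomial.X ^ 2 - Polynomial.C b)),
      (∃ c : B, G.coeff 0 = algebraMap B (AdjoinRoot (Polynomial.X ^ 2 - Polynomial.C b)) c) →
        G ∈ (Psi b).range
  rcases subsingleton_or_nontrivial B with hB | hB
  · refine ⟨Subsingleton.elim _ _, fun G _ => ?_⟩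
    have : Subsingleton (AdjoinRoot ((Polynomial.X : Polynomial B) ^ 2 - Polynomial.C b)) := by
      refine ⟨fun x y => ?_⟩
      have h1 : (1 : AdjoinRoot ((Polynomial.X : Polynomial B) ^ 2 - Polynomial.C b)) = 0 := by
        rw [← map_one (algebraMap B _), Subsingleton.elim (1 : B) 0, map_zero]
      rw [← mul_one x, ← mul_one y, h1, mul_zero, mul_zero]
    exact ⟨0, Subsingleton.elim _ _⟩
  have hle : Ideal.span {qq b} ≤ RingHom.ker (Psi b).toRingHom := by
    rw [Ideal.span_le, Set.singleton_subset_iff]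
    exact Psi_qq b
  refine ⟨le_antisymm ?_ hle, ?_⟩
  · intro F hF
    obtain ⟨F0, F1, h1⟩ := exists_normal_form b F
    have h2 : Psi b (F - Phi F0 F1) = 0 := hle h1
    have h3 : Psi b F = 0 := hF
    rw [map_sub, h3, zero_sub, neg_eq_zero, Psi_Phi] at h2
    obtain ⟨rfl, rfl⟩ := normal_form_eq_zero b F0 F1 h2
    have : Phi (0 : Polynomial B) 0 = 0 := by simp [Phi]
    rwa [this, sub_zero] at h1
  · rintro G ⟨c, hc⟩
    obtain ⟨F0, F1, rfl⟩ := exists_decomp b G
    have h0 : algebraMap B (AdjoinRoot ((Polynomial.X : Polynomial B) ^ 2 - Polynomial.C b))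
          (F0.coeff 0 - c) +
        algebraMap B _ (F1.coeff 0) * AdjoinRoot.root _ = 0 := by
      simp only [Polynomial.coeff_add, Polynomial.coeff_map, Polynomial.coeff_C_mul] at hc
      rw [map_sub]
      linear_combination hc
    have hF1 : F1.coeff 0 = 0 := (repr_eq_zero b _ _ h0).2
    obtain ⟨F1', rfl⟩ := Polynomial.X_dvd_iff.mpr hF1
    refine ⟨Phi F0 F1', ?_⟩
    show Psi b (Phi F0 F1') = _
    rw [Psi_Phi, Polynomial.map_mul, Polynomial.map_X]
    ring

end Groth.Agent.S18121
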