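import Groth.Statements.S18122
import Mathlib.Tactic.LinearCombination
import Mathlib.Algebra.MvPolynomial.Division
import Mathlib.Algebra.MvPolynomial.Derivation
-- import your own Groth.Agent.* helpers here

set_option autoImplicit false
universe u
open Pinch

namespace Groth.Agent.S18122

/-- Let K be a field in which 2 ≠ 0, S = K[x, y], and R ⊆ S the K-subalgebra generated by x^2, x y and
y; R is the coordinate ring of the pinch point u^2 = v^2 w (u = x y, v = y, w = x^2) and S is its
normalization. Then restriction along R ⊆ S is a bijection from the K-derivations S → S onto the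
K-derivations R → S: every K-derivation R → S extends uniquely to S. In sheaf terms, the natural
injective map from the tangent sheaf of the normalization to the dual of the pulled-back sheaf of
differentials of the pinch point is an isomorphism. (The text works over an algebraically closed
field of characteristic different from 2 and for every semi-smooth variety; only this model case is
stated, and the computation uses only 2 ≠ 0.) -/
theorem result
    (K : Type u) [Field K] [NeZero (2 : K)] :
    letI R : Subalgebra K (MvPolynomial (Fin 2) K) :=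
      Algebra.adjoin K {MvPolynomial.X 0 ^ 2, MvPolynomial.X 0 * MvPolynomial.X 1, MvPolynomial.X 1}
    ∀ δ : Derivation K R (MvPolynomial (Fin 2) K),
      ∃! D : Derivation K (MvPolynomial (Fin 2) K) (MvPolynomial (Fin 2) K),
        ∀ r : R, D (r : MvPolynomial (Fin 2) K) = δ r := by
  classical
  set x : MvPolynomial (Fin 2) K := MvPolynomial.X 0 with hx
  set y : MvPolynomial (Fin 2) K := MvPolynomial.X 1 with hy
  set R : Subalgebra K (MvPolynomial (Fin 2) K) := Algebra.adjoin K {x ^ 2, x * y, y} with hR
  intro δ
  have h2 : (2 : K) ≠ 0 := NeZero.ne 2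
  obtain ⟨a, ha⟩ : ∃ a : R, (a : MvPolynomial (Fin 2) K) = x ^ 2 :=
    ⟨⟨x ^ 2, Algebra.subset_adjoin (by simp)⟩, rfl⟩
  obtain ⟨b, hb⟩ : ∃ b : R, (b : MvPolynomial (Fin 2) K) = x * y :=
    ⟨⟨x * y, Algebra.subset_adjoin (by simp)⟩, rfl⟩
  obtain ⟨c, hc⟩ : ∃ c : R, (c : MvPolynomial (Fin 2) K) = y :=
    ⟨⟨y, Algebra.subset_adjoin (by simp)⟩, rfl⟩
  have hrel : b * b = a * (c * c) := by
    apply Subtype.ext
    push_cast
    rw [ha, hb, hc]; ring
  have h1 := congrArg δ hrel
  rw [δ.leibniz, δ.leibniz, δ.leibniz] at h1
  simp only [Subalgebra.smul_def, smul_eq_mul, ha, hb, hc, Subalgebra.coe_mul] at h1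
  have hy0 : y ≠ 0 := MvPolynomial.X_ne_zero 1
  have hx0 : x ≠ 0 := MvPolynomial.X_ne_zero 0
  have h3 : 2 * x * δ b - 2 * x ^ 2 * δ c - y * δ a = 0 := by
    have h2' : y * (2 * x * δ b - 2 * x ^ 2 * δ c - y * δ a) = 0 := by linear_combination h1
    exact (mul_eq_zero.mp h2').resolve_left hy0
  have h4 : x ∣ y * δ a := ⟨2 * δ b - 2 * x * δ c, by linear_combination -h3⟩
  have h5 : x ∣ δ a := by
    refine (MvPolynomial.X_prime.dvd_or_dvd h4).resolve_left ?_
    rw [MvPolynomial.X_dvd_X]
    decide
  obtain ⟨q, hq⟩ := h5
  have h6 : 2 * δ b = 2 * x * δ c + y * q := by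
    apply mul_left_cancel₀ hx0
    rw [hq] at h3
    linear_combination h3
  obtain ⟨half, hhalf⟩ : ∃ half : MvPolynomial (Fin 2) K, half * 2 = 1 := by
    refine ⟨MvPolynomial.C (2⁻¹ : K), ?_⟩
    have : (2 : MvPolynomial (Fin 2) K) = MvPolynomial.C (2 : K) :=
      (map_ofNat MvPolynomial.C 2).symm
    rw [this, ← MvPolynomial.C_mul, inv_mul_cancel₀ h2, MvPolynomial.C_1]
  have h7 : δ b = x * δ c + y * (half * q) := by
    calc δ b = (half * 2) * δ b := by rw [hhalf, one_mul]
      _ = half * (2 * x * δ c + y * q) := by rw [mul_assoc, h6]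
      _ = (half * 2) * (x * δ c) + y * (half * q) := by ring
      _ = x * δ c + y * (half * q) := by rw [hhalf, one_mul]
  let D : Derivation K (MvPolynomial (Fin 2) K) (MvPolynomial (Fin 2) K) :=
    MvPolynomial.mkDerivation K ![half * q, δ c]
  have hDx : D x = half * q := by
    change MvPolynomial.mkDerivation K ![half * q, δ c] (MvPolynomial.X 0) = _
    rw [MvPolynomial.mkDerivation_X]; rfl
  have hDy : D y = δ c := by
    change MvPolynomial.mkDerivation K ![half * q, δ c] (MvPolynomial.X 1) = _
    rw [MvPolynomial.mkDerivation_X]; rfl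
  refine ⟨D, ?_, ?_⟩
  · have hcomp : D.compAlgebraMap R = δ := by
      refine Derivation.ext_of_adjoin_eq_top _ Algebra.adjoin_adjoin_coe_preimage ?_
      intro r hr
      change D (r : MvPolynomial (Fin 2) K) = δ r
      rcases hr with h | h | h
      · have hra : r = a := Subtype.ext (h.trans ha.symm)
        rw [hra, ha, pow_two, D.leibniz, hDx, hq, smul_eq_mul]
        calc x * (half * q) + x * (half * q) = (half * 2) * (x * q) := by ring
          _ = x * q := by rw [hhalf, one_mul]
      · have hrb : r = b := Subtype.ext (h.trans hb.symm)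
        rw [hrb, hb, D.leibniz, hDx, hDy, h7, smul_eq_mul, smul_eq_mul]
      · have hrc : r = c := Subtype.ext (h.trans hc.symm)
        rw [hrc, hc, hDy]
    intro r
    have := congrArg (fun d : Derivation K R (MvPolynomial (Fin 2) K) => d r) hcomp
    exact this
  · intro D' hD'
    apply MvPolynomial.derivation_ext
    intro i
    fin_cases i
    · change D' x = D x
      have h8 := hD' a
      rw [ha, pow_two, D'.leibniz, hq, smul_eq_mul] at h8
      have h9 : x * (2 * D' x) = x * q := by linear_combination h8
      have h10 := mul_left_cancel₀ hx0 h9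
      rw [hDx]
      calc D' x = (half * 2) * D' x := by rw [hhalf, one_mul]
        _ = half * (2 * D' x) := by ring
        _ = half * q := by rw [h10]
    · change D' y = D y
      have h8 := hD' c
      rw [hc] at h8
      rw [h8, hDy]

end Groth.Agent.S18122
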