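import Mathlib
import Groth.Statements.S18123

set_option autoImplicit false
universe u
open Pinch

namespace Groth.Agent.S18123

section Helpers

open MvPolynomial

variable {K : Type u} [Field K]

/-- every `y`-free monomial has even `x`-degree -/
def Good (f : MvPolynomial (Fin 2) K) : Prop :=
  ∀ m ∈ f.support, m 1 = 0 → Even (m 0)

/-- the pinch subalgebra -/
noncomputable abbrev Rsub (K : Type u) [Field K] : Subalgebra K (MvPolynomial (Fin 2) K) :=
  Algebra.adjoin K {(X 0 : MvPolynomial (Fin 2) K) ^ 2, X 0 * X 1, X 1}

theorem good_of_mem {r : MvPolynomial (Fin 2) K} (hr : r ∈ Rsub K) : Good r := by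
  classical
  induction hr using Algebra.adjoin_induction with
  | mem f hf =>
    rcases hf with rfl | rfl | rfl
    · intro m hm _
      rw [X_pow_eq_monomial, support_monomial, if_neg one_ne_zero, Finset.mem_singleton] at hm
      rw [hm]; simp
    · intro m hm h1
      have : (X 0 * X 1 : MvPolynomial (Fin 2) K) =
          monomial (Finsupp.single 0 1 + Finsupp.single 1 1) 1 := by
        rw [X, X, monomial_mul, one_mul]
      rw [this, support_monomial, if_neg one_ne_zero, Finset.mem_singleton] at hm
      rw [hm] at h1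
      simp at h1
    · intro m hm h1
      rw [X, support_monomial, if_neg one_ne_zero, Finset.mem_singleton] at hm
      rw [hm] at h1
      simp at h1
  | algebraMap c =>
    intro m hm _
    have : m = 0 := by
      have h := support_monomial_subset (s := (0 : Fin 2 →₀ ℕ)) (a := c) hm
      simpa using h
    rw [this]; simp
  | add f g _ _ hf hg =>
    intro m hm h1
    rcases Finset.mem_union.mp (support_add hm) with h | h
    · exact hf m h h1
    · exact hg m h h1
  | mul f g _ _ hf hg =>
    intro m hm h1
    obtain ⟨a, ha, b, hb, rfl⟩ := Finset.mem_add.mp (support_mul f g hm)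
    have h1' : a 1 + b 1 = 0 := by simpa using h1
    have := hf a ha (by omega)
    have := hg b hb (by omega)
    simp only [Finsupp.coe_add, Pi.add_apply]
    exact Even.add ‹_› ‹_›

theorem monomial_eq_X_pow (m : Fin 2 →₀ ℕ) :
    (monomial m (1 : K) : MvPolynomial (Fin 2) K) = X 0 ^ (m 0) * X 1 ^ (m 1) := by
  rw [monomial_eq, C_1, one_mul, Finsupp.prod_fintype _ _ (fun i => by simp), Fin.prod_univ_two]

theorem monomial_mem {m : Fin 2 →₀ ℕ} (hm : m 1 = 0 → Even (m 0)) :
    (monomial m (1 : K) : MvPolynomial (Fin 2) K) ∈ Rsub K := by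
  have hx2 : (X 0 : MvPolynomial (Fin 2) K) ^ 2 ∈ Rsub K :=
    Algebra.subset_adjoin (by simp)
  have hxy : (X 0 * X 1 : MvPolynomial (Fin 2) K) ∈ Rsub K :=
    Algebra.subset_adjoin (by simp)
  have hy : (X 1 : MvPolynomial (Fin 2) K) ∈ Rsub K :=
    Algebra.subset_adjoin (by simp)
  rw [monomial_eq_X_pow]
  obtain ⟨k, hk | hk⟩ : ∃ k, m 0 = 2 * k ∨ m 0 = 2 * k + 1 := by
    rcases Nat.even_or_odd' (m 0) with ⟨k, hk⟩
    exact ⟨k, hk⟩
  · rw [hk, pow_mul]
    exact mul_mem (pow_mem hx2 k) (pow_mem hy _)
  · have h1 : m 1 ≠ 0 := by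
      intro h
      have := hm h
      rw [hk] at this
      exact (Nat.not_even_iff_odd.mpr ⟨k, rfl⟩) this
    obtain ⟨j, hj⟩ := Nat.exists_eq_succ_of_ne_zero h1
    have : (X 0 : MvPolynomial (Fin 2) K) ^ (m 0) * X 1 ^ (m 1) =
        (X 0 ^ 2) ^ k * (X 0 * X 1) * X 1 ^ j := by
      rw [hk, hj, Nat.succ_eq_add_one]; ring
    rw [this]
    exact mul_mem (mul_mem (pow_mem hx2 k) hxy) (pow_mem hy j)

theorem mem_of_good {f : MvPolynomial (Fin 2) K} (hf : Good f) : f ∈ Rsub K := by
  rw [← support_sum_monomial_coeff f]
  refine sum_mem fun m hm => ?_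
  have : (monomial m (coeff m f) : MvPolynomial (Fin 2) K) = coeff m f • monomial m (1 : K) := by
    rw [smul_monomial, smul_eq_mul, mul_one]
  rw [this]
  exact Subalgebra.smul_mem _ (monomial_mem (hf m hm)) _

theorem good_X1_mul (f : MvPolynomial (Fin 2) K) : Good (X 1 * f) := by
  intro m hm h1
  exfalso
  rw [support_X_mul, Finset.mem_map] at hm
  obtain ⟨a, _, rfl⟩ := hm
  simp at h1

theorem good_two_nsmul [NeZero (2 : K)] {f : MvPolynomial (Fin 2) K} (h : Good (2 • f)) :
    Good f := by
  intro m hm h1
  apply h m _ h1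
  have : (2 • f : MvPolynomial (Fin 2) K) = (2 : K) • f := (ofNat_smul_eq_nsmul K 2 f).symm
  rw [this, support_smul_eq (NeZero.ne (2 : K))]
  exact hm

theorem eq_single_of_apply_one_eq_zero {m : Fin 2 →₀ ℕ} (h : m 1 = 0) :
    m = Finsupp.single 0 (m 0) := by
  ext i
  fin_cases i
  · simp
  · simp [h]

end Helpers

/-- Let K be a field in which 2 ≠ 0, S = K[x, y], and R ⊆ S the K-subalgebra generated by x^2, x y, y,
the coordinate ring of the pinch point with normalization S, obtained by gluing the plane along the
line y = 0 via x ↦ -x. A K-derivation D of S maps R into R if and only if D(y) is a multiple of y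
and D(x) = y s + x p(x^2) for some s in S and some polynomial p in one variable. Every K-derivation
R → S extends uniquely to S, and under this identification the derivations mapping R into R form the
image of the tangent sheaf of the pinch point in that of its normalization; so this image contains y
times all derivations of S, and modulo those it is spanned by the odd multiples x^(2k+1) ∂/∂x, the
part of the tangent sheaf of the line y = 0 invariant under x ↦ -x. (The text works over an
algebraically closed field of characteristic different from 2; the computation uses only 2 ≠ 0.) -/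
theorem result
    (K : Type u) [Field K] [NeZero (2 : K)]
    (D : Derivation K (MvPolynomial (Fin 2) K) (MvPolynomial (Fin 2) K)) :
    letI x : MvPolynomial (Fin 2) K := MvPolynomial.X 0
    letI y : MvPolynomial (Fin 2) K := MvPolynomial.X 1
    letI R : Subalgebra K (MvPolynomial (Fin 2) K) := Algebra.adjoin K {x ^ 2, x * y, y}
    (∀ r ∈ R, D r ∈ R) ↔
      (D y ∈ Ideal.span {y} ∧
        ∃ (s : MvPolynomial (Fin 2) K) (p : Polynomial K), D x = y * s + x * Polynomial.aeval (x ^ 2) p) := by
  classical
  show (∀ r ∈ Rsub K, D r ∈ Rsub K) ↔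
    (D (MvPolynomial.X 1) ∈ Ideal.span {(MvPolynomial.X 1 : MvPolynomial (Fin 2) K)} ∧
      ∃ (s : MvPolynomial (Fin 2) K) (p : Polynomial K),
        D (MvPolynomial.X 0) = MvPolynomial.X 1 * s +
          MvPolynomial.X 0 * Polynomial.aeval ((MvPolynomial.X 0 : MvPolynomial (Fin 2) K) ^ 2) p)
  have hx2 : (MvPolynomial.X 0 : MvPolynomial (Fin 2) K) ^ 2 ∈ Rsub K :=
    Algebra.subset_adjoin (by simp)
  have hxy : (MvPolynomial.X 0 * MvPolynomial.X 1 : MvPolynomial (Fin 2) K) ∈ Rsub K :=
    Algebra.subset_adjoin (by simp)
  have hy : (MvPolynomial.X 1 : MvPolynomial (Fin 2) K) ∈ Rsub K :=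
    Algebra.subset_adjoin (by simp)
  set Ax := D (MvPolynomial.X 0) with hAx
  set By := D (MvPolynomial.X 1) with hBy
  constructor
  · intro h
    have gBy : Good By := good_of_mem (h _ hy)
    have gxy : Good (MvPolynomial.X 0 * By + MvPolynomial.X 1 * Ax) := by
      have := good_of_mem (h _ hxy)
      rwa [Derivation.leibniz, smul_eq_mul, smul_eq_mul] at this
    have gx2 : Good (MvPolynomial.X 0 * Ax) := by
      have := good_of_mem (h _ hx2)
      rw [Derivation.leibniz_pow, smul_eq_mul] at this
      have h2 := good_two_nsmul this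
      simpa using h2
    -- y divides By
    have c1 : ∀ m ∈ By.support, m 1 ≠ 0 := by
      intro m hm h1
      have he := gBy m hm h1
      have hmem : Finsupp.single 0 1 + m ∈
          (MvPolynomial.X 0 * By + MvPolynomial.X 1 * Ax).support := by
        rw [MvPolynomial.mem_support_iff, MvPolynomial.coeff_add, MvPolynomial.coeff_X_mul,
          MvPolynomial.coeff_X_mul', if_neg, add_zero]
        · exact MvPolynomial.mem_support_iff.mp hm
        · simp [h1]
      have := gxy _ hmem (by simp [h1])
      simp only [Finsupp.coe_add, Pi.add_apply, Finsupp.single_eq_same] at this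
      rw [add_comm, Nat.even_add_one] at this
      exact this he
    have c2 : ∀ m ∈ Ax.support, m 1 = 0 → Odd (m 0) := by
      intro m hm h1
      have hmem : Finsupp.single 0 1 + m ∈ (MvPolynomial.X 0 * Ax).support := by
        rw [MvPolynomial.mem_support_iff, MvPolynomial.coeff_X_mul]
        exact MvPolynomial.mem_support_iff.mp hm
      have := gx2 _ hmem (by simp [h1])
      simp only [Finsupp.coe_add, Pi.add_apply, Finsupp.single_eq_same] at this
      rw [add_comm, Nat.even_add_one] at this
      exact Nat.not_even_iff_odd.mp this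
    refine ⟨?_, ?_⟩
    · rw [Ideal.mem_span_singleton, ← MvPolynomial.support_sum_monomial_coeff By]
      refine Finset.dvd_sum fun m hm => ?_
      rw [MvPolynomial.X_dvd_monomial]
      exact Or.inr (c1 m hm)
    · refine ⟨∑ m ∈ Ax.support.filter (fun m => m 1 ≠ 0),
          MvPolynomial.monomial (m - Finsupp.single 1 1) (MvPolynomial.coeff m Ax),
        ∑ m ∈ Ax.support.filter (fun m => ¬ m 1 ≠ 0),
          Polynomial.monomial ((m 0 - 1) / 2) (MvPolynomial.coeff m Ax), ?_⟩
      conv_lhs => rw [← MvPolynomial.support_sum_monomial_coeff Ax,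
        ← Finset.sum_filter_add_sum_filter_not _ (fun m => m 1 ≠ 0)]
      rw [Finset.mul_sum, map_sum, Finset.mul_sum]
      congr 1
      · refine Finset.sum_congr rfl fun m hm => ?_
        have hm1 : m 1 ≠ 0 := (Finset.mem_filter.mp hm).2
        have hle : Finsupp.single 1 1 ≤ m := by
          rw [Finsupp.single_le_iff]
          omega
        rw [MvPolynomial.X, MvPolynomial.monomial_mul, one_mul, add_tsub_cancel_of_le hle]
      · refine Finset.sum_congr rfl fun m hm => ?_
        have hm' := Finset.mem_filter.mp hm
        have hm1 : m 1 = 0 := not_not.mp hm'.2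
        obtain ⟨k, hk⟩ := c2 m hm'.1 hm1
        rw [Polynomial.aeval_monomial, MvPolynomial.algebraMap_eq]
        have hk' : (m 0 - 1) / 2 = k := by omega
        rw [hk']
        generalize MvPolynomial.coeff m Ax = c
        rw [eq_single_of_apply_one_eq_zero hm1, hk, ← MvPolynomial.C_mul_X_pow_eq_monomial]
        ring
  · rintro ⟨hBy', s, p, hAx'⟩
    obtain ⟨b, hb⟩ := Ideal.mem_span_singleton.mp hBy'
    intro r hr
    induction hr using Algebra.adjoin_induction with
    | mem f hf =>
      rcases hf with rfl | rfl | rfl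
      · rw [Derivation.leibniz_pow, smul_eq_mul, ← hAx, hAx']
        apply nsmul_mem
        have : (MvPolynomial.X 0 : MvPolynomial (Fin 2) K) ^ (2 - 1) *
            (MvPolynomial.X 1 * s + MvPolynomial.X 0 *
              Polynomial.aeval ((MvPolynomial.X 0 : MvPolynomial (Fin 2) K) ^ 2) p) =
            MvPolynomial.X 1 * (MvPolynomial.X 0 * s) + MvPolynomial.X 0 ^ 2 *
              Polynomial.aeval ((MvPolynomial.X 0 : MvPolynomial (Fin 2) K) ^ 2) p := by
          ring
        rw [this]
        refine add_mem (mem_of_good (good_X1_mul _)) (mul_mem hx2 ?_)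
        have h1 := Polynomial.aeval_mem_adjoin_singleton K
          ((MvPolynomial.X 0 : MvPolynomial (Fin 2) K) ^ 2) (p := p)
        exact Algebra.adjoin_mono (by simp) h1
      · rw [Derivation.leibniz, smul_eq_mul, smul_eq_mul, ← hAx, ← hBy, hb]
        have : (MvPolynomial.X 0 : MvPolynomial (Fin 2) K) * (MvPolynomial.X 1 * b) +
            MvPolynomial.X 1 * Ax = MvPolynomial.X 1 * (MvPolynomial.X 0 * b + Ax) := by ring
        rw [this]
        exact mem_of_good (good_X1_mul _)
      · rw [← hBy, hb]
        exact mem_of_good (good_X1_mul _)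
    | algebraMap c =>
      rw [Derivation.map_algebraMap]
      exact zero_mem _
    | add f g _ _ hf hg =>
      rw [map_add]
      exact add_mem hf hg
    | mul f g hf' hg' hf hg =>
      rw [Derivation.leibniz, smul_eq_mul, smul_eq_mul]
      exact add_mem (mul_mem hf' hg) (mul_mem hg' hf)

end Groth.Agent.S18123
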