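import Groth.Statements.S18125
import Mathlib.RingTheory.MvPolynomial.Ideal
-- import your own Groth.Agent.* helpers here

set_option autoImplicit false
universe u
open Pinch

namespace Groth.Agent.S18125

/-- Let K be a field in which 2 ≠ 0, n ≥ 0, S = K[u, v, w, t_1, …, t_n] (u, v, w the first three
variables), h = u^2 - v^2 w the equation of the pinch-point model, and Jac the ideal generated by h
and its three partial derivatives 2u, -2vw, -v^2, which cuts out the scheme-theoretic singular locus
of {h = 0}. Then the ideal (u, v) of the double locus is Jac + (v), and the colon ideal of Jac by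
(v) is (u, v, w). Consequently (u, v)/Jac, the ideal of the double locus restricted to the singular
locus, is an invertible sheaf on the pinch locus u = v = w = 0: it is free of rank one over K[t_1,
…, t_n] on the class of v. (The text states this for every semi-smooth variety and reduces to this
model; K algebraically closed is not needed for the model computation.) -/
theorem result
    (K : Type u) [Field K] [NeZero (2 : K)] (n : ℕ) :
    letI u : MvPolynomial (Fin (n + 3)) K := MvPolynomial.X 0
    letI v : MvPolynomial (Fin (n + 3)) K := MvPolynomial.X 1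
    letI w : MvPolynomial (Fin (n + 3)) K := MvPolynomial.X 2
    letI Jac : Ideal (MvPolynomial (Fin (n + 3)) K) :=
      Ideal.span {u ^ 2 - v ^ 2 * w, 2 * u, -(2 * v * w), -(v ^ 2)}
    Ideal.span {u, v} = Jac ⊔ Ideal.span {v} ∧ Jac.colon (Ideal.span {v}) = Ideal.span {u, v, w} := by
  classical
  set u : MvPolynomial (Fin (n + 3)) K := MvPolynomial.X 0 with hu_def
  set v : MvPolynomial (Fin (n + 3)) K := MvPolynomial.X 1 with hv_def
  set w : MvPolynomial (Fin (n + 3)) K := MvPolynomial.X 2 with hw_def
  set Jac : Ideal (MvPolynomial (Fin (n + 3)) K) :=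
      Ideal.span {u ^ 2 - v ^ 2 * w, 2 * u, -(2 * v * w), -(v ^ 2)} with hJac
  have h01 : (0 : Fin (n + 3)) ≠ 1 := by
    intro h; have := congrArg Fin.val h; simp at this
  have h02 : (0 : Fin (n + 3)) ≠ 2 := by
    intro h; have := congrArg Fin.val h; simp at this
    rw [Nat.mod_eq_of_lt (by omega)] at this; omega
  have h12 : (1 : Fin (n + 3)) ≠ 2 := by
    intro h; have := congrArg Fin.val h; simp at this
    rw [Nat.mod_eq_of_lt (by omega)] at this; omega
  have h2 : (2 : K) ≠ 0 := NeZero.ne 2
  have hC2 : (MvPolynomial.C (2⁻¹ : K) : MvPolynomial (Fin (n + 3)) K) * 2 = 1 := by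
    have : (2 : MvPolynomial (Fin (n + 3)) K) = MvPolynomial.C (2 : K) :=
      (map_ofNat MvPolynomial.C 2).symm
    rw [this, ← MvPolynomial.C_mul, inv_mul_cancel₀ h2, MvPolynomial.C_1]
  have hgen1 : u ^ 2 - v ^ 2 * w ∈ Jac := Ideal.subset_span (by simp)
  have hgen2 : 2 * u ∈ Jac := Ideal.subset_span (by simp)
  have hgen3 : -(2 * v * w) ∈ Jac := Ideal.subset_span (by simp)
  have hgen4 : -(v ^ 2) ∈ Jac := Ideal.subset_span (by simp)
  have huJ : u ∈ Jac := by
    have := Jac.mul_mem_left (MvPolynomial.C (2⁻¹ : K)) hgen2
    rwa [← mul_assoc, hC2, one_mul] at this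
  have hvvJ : v * v ∈ Jac := by
    have := Jac.neg_mem hgen4
    rwa [neg_neg, pow_two] at this
  have hvwJ : v * w ∈ Jac := by
    have := Jac.mul_mem_left (MvPolynomial.C (2⁻¹ : K)) (Jac.neg_mem hgen3)
    rwa [neg_neg, mul_assoc 2 v w, ← mul_assoc, hC2, one_mul] at this
  constructor
  · apply le_antisymm
    · rw [Ideal.span_le]
      intro x hx
      rcases hx with rfl | rfl
      · exact Ideal.mem_sup_left huJ
      · exact Ideal.mem_sup_right (Ideal.subset_span rfl)
    · have hu : u ∈ Ideal.span {u, v} := Ideal.subset_span (by simp)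
      have hv : v ∈ Ideal.span {u, v} := Ideal.subset_span (by simp)
      rw [sup_le_iff]
      constructor
      · rw [Ideal.span_le]
        intro x hx
        rcases hx with rfl | rfl | rfl | rfl
        · have : u ^ 2 - v ^ 2 * w = u * u - (v * w) * v := by ring
          rw [this]
          exact Ideal.sub_mem _ (Ideal.mul_mem_left _ _ hu) (Ideal.mul_mem_left _ _ hv)
        · exact Ideal.mul_mem_left _ _ hu
        · have : -(2 * v * w) = (-(2 * w)) * v := by ring
          rw [this]
          exact Ideal.mul_mem_left _ _ hv
        · have : -(v ^ 2) = (-v) * v := by ring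
          rw [this]
          exact Ideal.mul_mem_left _ _ hv
      · rw [Ideal.span_le]
        intro x hx
        rcases hx with rfl
        exact hv
  · -- the colon ideal
    have hJ' : Jac ≤ Ideal.span ((fun s => MvPolynomial.monomial s (1 : K)) ''
        ({Finsupp.single 0 1, Finsupp.single 1 1 + Finsupp.single 2 1, Finsupp.single 1 2} :
          Set (Fin (n + 3) →₀ ℕ))) := by
      have hu' : u ∈ Ideal.span ((fun s => MvPolynomial.monomial s (1 : K)) ''
        ({Finsupp.single 0 1, Finsupp.single 1 1 + Finsupp.single 2 1, Finsupp.single 1 2} :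
          Set (Fin (n + 3) →₀ ℕ))) :=
        Ideal.subset_span ⟨Finsupp.single 0 1, by simp, rfl⟩
      have hvw' : v * w ∈ Ideal.span ((fun s => MvPolynomial.monomial s (1 : K)) ''
        ({Finsupp.single 0 1, Finsupp.single 1 1 + Finsupp.single 2 1, Finsupp.single 1 2} :
          Set (Fin (n + 3) →₀ ℕ))) := by
        refine Ideal.subset_span ⟨Finsupp.single 1 1 + Finsupp.single 2 1, by simp, ?_⟩
        change MvPolynomial.monomial _ 1 = MvPolynomial.X 1 * MvPolynomial.X 2
        rw [MvPolynomial.X, MvPolynomial.X, MvPolynomial.monomial_mul, mul_one]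
      have hvv' : v ^ 2 ∈ Ideal.span ((fun s => MvPolynomial.monomial s (1 : K)) ''
        ({Finsupp.single 0 1, Finsupp.single 1 1 + Finsupp.single 2 1, Finsupp.single 1 2} :
          Set (Fin (n + 3) →₀ ℕ))) := by
        refine Ideal.subset_span ⟨Finsupp.single 1 2, by simp, ?_⟩
        change MvPolynomial.monomial _ 1 = MvPolynomial.X 1 ^ 2
        rw [MvPolynomial.X_pow_eq_monomial]
      rw [Ideal.span_le]
      intro x hx
      rcases hx with rfl | rfl | rfl | rfl
      · have : u ^ 2 - v ^ 2 * w = u * u - w * v ^ 2 := by ring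
        rw [this]
        exact Ideal.sub_mem _ (Ideal.mul_mem_left _ _ hu') (Ideal.mul_mem_left _ _ hvv')
      · exact Ideal.mul_mem_left _ _ hu'
      · have : -(2 * v * w) = (-2) * (v * w) := by ring
        rw [this]
        exact Ideal.mul_mem_left _ _ hvw'
      · exact neg_mem hvv'
    have hspan : (Ideal.span {u, v, w} : Ideal (MvPolynomial (Fin (n + 3)) K)) =
        Ideal.span (MvPolynomial.X '' ({0, 1, 2} : Set (Fin (n + 3)))) := by
      congr 1
      simp [Set.image_insert_eq, u, v, w]
    apply le_antisymm
    · intro f hf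
      rw [Ideal.mem_colon_span_singleton] at hf
      have hf' := hJ' hf
      rw [MvPolynomial.mem_ideal_span_monomial_image] at hf'
      rw [hspan, MvPolynomial.mem_ideal_span_X_image]
      intro m hm
      have hm' : m + Finsupp.single 1 1 ∈ (f * v).support := by
        rw [MvPolynomial.support_mul_X]
        exact Finset.mem_map_of_mem _ hm
      obtain ⟨s, hs, hsm⟩ := hf' _ hm'
      rcases hs with rfl | rfl | rfl
      · refine ⟨0, by simp, ?_⟩
        have := hsm 0
        simp [h01.symm] at this
        omega
      · refine ⟨2, by simp, ?_⟩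
        have := hsm 2
        simp [h12, h12.symm] at this
        omega
      · refine ⟨1, by simp, ?_⟩
        have := hsm 1
        simp at this
        omega
    · rw [Ideal.span_le]
      intro x hx
      rw [SetLike.mem_coe, Ideal.mem_colon_span_singleton]
      rcases hx with rfl | rfl | rfl
      · exact Ideal.mul_mem_right _ _ huJ
      · exact hvvJ
      · rw [mul_comm]; exact hvwJ

end Groth.Agent.S18125
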