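import Groth.Statements.S18126
import Groth.Agent.Lib.AssFibreMin32
import Groth.Agent.Lib.ConormalKoszul32
import Mathlib.RingTheory.Smooth.Locus

set_option autoImplicit false
universe u
open Deform

namespace Groth.Agent.S18126

/-- Let A be a Noetherian ring in which 2 is invertible and P a flat A-algebra which is a local complete
intersection over A (of finite type, with Koszul-regular kernel for some polynomial presentation)
and whose fibres are generically smooth: every prime of P minimal among the primes of its fibre over
A lies in the smooth locus of A → P. Then the first homology of the naive cotangent complex of P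
over A vanishes, H_1(NL_{P/A}) = 0: for every presentation P = S/I by a polynomial A-algebra S the
conormal sequence 0 → I/I^2 → Ω_{S/A} ⊗_S P → Ω_{P/A} → 0 is exact on the left. Since the cotangent
complex of a local complete intersection is this two-term complex, it is quasi-isomorphic to Ω_{P/A}
in degree 0, which is the identification that makes T^1 = Ext^1(Ω_{P/A}, P) the degree-one
cohomology of RHom of the cotangent complex into P. (The text states the latter identification for a
flat local complete intersection morphism of Noetherian schemes with generically smooth fibres; the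
row is its affine content.) -/
theorem result
    (A : Type u) [CommRing A] [IsNoetherianRing A] (h2 : IsUnit (2 : A))
    (P : Type u) [CommRing P] [Algebra A P] [Module.Flat A P] (hlci : LCI.IsLCI A P)
    (hgs : ∀ 𝔓 : PrimeSpectrum P,
      (∀ 𝔔 : PrimeSpectrum P, 𝔔 ≤ 𝔓 →
          𝔔.asIdeal.comap (algebraMap A P) = 𝔓.asIdeal.comap (algebraMap A P) → 𝔔 = 𝔓) →
        𝔓 ∈ Algebra.smoothLocus A P) :
    Subsingleton (Algebra.H1Cotangent A P) := by
  have hft : Algebra.FiniteType A P := hlci.1
  have hN : IsNoetherianRing P := Algebra.FiniteType.isNoetherianRing A P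
  have hlci' := hlci
  obtain ⟨-, n, f, hf, hK⟩ := hlci
  have hfe : (MvPolynomial.aeval (R := A) fun i : Fin n => f (MvPolynomial.X i)) = f := by
    apply MvPolynomial.algHom_ext
    intro i
    simp
  let G : Algebra.Generators A P (Fin n) :=
    Algebra.Generators.ofSurjective (fun i => f (MvPolynomial.X i)) (by rw [hfe]; exact hf)
  have hker : G.toExtension.ker = RingHom.ker f.toRingHom := by
    ext x
    change algebraMap G.Ring P x = 0 ↔ f x = 0
    rw [Algebra.Generators.algebraMap_apply]
    change (MvPolynomial.aeval (R := A) fun i : Fin n => f (MvPolynomial.X i)) x = 0 ↔ f x = 0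
    rw [hfe]
  have hK' : LCI.IsKoszulRegularIdeal G.toExtension.ker := by
    rw [hker]
    exact hK
  obtain ⟨hfin, hproj⟩ :=
    Groth.Agent.Lib.ConormalKoszul32.finite_projective_cotangent G.toExtension hK'
  obtain ⟨s, hs⟩ := Module.projective_def'.mp hproj
  have hsinj : Function.Injective s := by
    intro a b hab
    have := congrArg (Finsupp.linearCombination P id) hab
    have ha := LinearMap.congr_fun hs a
    have hb := LinearMap.congr_fun hs b
    simp only [LinearMap.coe_comp, Function.comp_apply, LinearMap.id_coe, id_eq] at ha hb
    rw [← ha, ← hb]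
    exact this
  -- the injection of `H¹` into the conormal module
  let ι : Algebra.H1Cotangent A P →ₗ[P] G.toExtension.Cotangent :=
    (LinearMap.ker G.toExtension.cotangentComplex).subtype ∘ₗ G.equivH1Cotangent.symm.toLinearMap
  have hι : Function.Injective ι :=
    Subtype.val_injective.comp G.equivH1Cotangent.symm.injective
  refine ⟨fun x y => ?_⟩
  rw [← sub_eq_zero]
  by_contra hne
  set z := x - y with hz
  have h1 : s (ι z) ≠ 0 := by
    intro h0
    exact hne (hι (hsinj (by rw [h0, map_zero, map_zero])))
  obtain ⟨m, hm⟩ : ∃ m, s (ι z) m ≠ 0 := by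
    by_contra hall
    push Not at hall
    exact h1 (Finsupp.ext hall)
  obtain ⟨q, hq, hle⟩ := exists_le_isAssociatedPrime_of_isNoetherianRing (R := P) (s (ι z) m) hm
  have hqp : q.IsPrime := hq.isPrime
  -- `q` is minimal in its fibre, hence in the smooth locus
  have hsm : (⟨q, hqp⟩ : PrimeSpectrum P) ∈ Algebra.smoothLocus A P := by
    refine hgs ⟨q, hqp⟩ fun 𝔔 hQle hQunder => ?_
    have := 𝔔.2
    exact PrimeSpectrum.ext
      (Groth.Agent.Lib.AssFibreMin32.eq_of_le_of_mem_associatedPrimes hlci' q hq 𝔔.asIdeal hQle
        hQunder)
  rw [Algebra.smoothLocus_eq_compl_support_inter] at hsm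
  have hns : (⟨q, hqp⟩ : PrimeSpectrum P) ∉ Module.support P (Algebra.H1Cotangent A P) := hsm.1
  rw [Module.mem_support_iff_exists_annihilator] at hns
  push Not at hns
  obtain ⟨c, hc, hcq⟩ := SetLike.not_le_iff_exists.mp (hns z)
  apply hcq
  apply hle
  rw [Submodule.mem_colon_singleton, Submodule.mem_bot]
  have hcz : c • z = 0 := (Submodule.mem_annihilator_span_singleton z c).mp hc
  rw [← Finsupp.smul_apply, ← map_smul, ← map_smul, hcz, map_zero, map_zero]
  rfl

end Groth.Agent.S18126
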