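import Groth.Statements.S18127
import Mathlib

set_option autoImplicit false
universe u
open LocAlg

namespace Groth.Agent.S18127

open Matrix in
/-- Lifting a product of transvections over the residue field to a determinant-one matrix. -/
theorem exists_lift_transvec {R : Type u} [CommRing R] [IsLocalRing R] {n : ℕ}
    (L : List (Matrix.TransvectionStruct (Fin n) (IsLocalRing.ResidueField R))) :
    ∃ P : Matrix (Fin n) (Fin n) R, P.det = 1 ∧
      P.map (IsLocalRing.residue R) = (L.map Matrix.TransvectionStruct.toMatrix).prod := by
  induction L with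
  | nil => exact ⟨1, by simp, by simp⟩
  | cons t L ih =>
    obtain ⟨P, hP, hP'⟩ := ih
    obtain ⟨c, hc⟩ := IsLocalRing.residue_surjective (R := R) t.c
    refine ⟨Matrix.transvection t.i t.j c * P, ?_, ?_⟩
    · rw [Matrix.det_mul, Matrix.det_transvection_of_ne _ _ t.hij, hP, one_mul]
    · rw [List.map_cons, List.prod_cons, ← hP', Matrix.map_mul]
      congr 1
      ext a b
      simp [Matrix.transvection, Matrix.TransvectionStruct.toMatrix, Matrix.single_apply,
        Matrix.one_apply]
      split_ifs <;> simp [hc]

/-- Let R be a local ring with maximal ideal m and algebraically closed residue field, and M an n × n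
matrix over R whose reduction modulo m has rank at most r. Then the determinant of M lies in m^(n −
r). (The published setting is the local ring of germs of holomorphic functions at a point of a
complex manifold, where this says that the determinant vanishes to order at least n − r at a point
where the matrix has rank at most r.) -/
theorem result
    {R : Type u} [CommRing R] [IsLocalRing R] [IsAlgClosed (IsLocalRing.ResidueField R)]
    {n : ℕ} (M : Matrix (Fin n) (Fin n) R) (r : ℕ)
    (hr : (M.map (IsLocalRing.residue R)).rank ≤ r) :
    M.det ∈ IsLocalRing.maximalIdeal R ^ (n - r) := by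
  classical
  obtain ⟨L, L', D, hD⟩ :=
    Matrix.Pivot.exists_list_transvec_mul_mul_list_transvec_eq_diagonal
      (M.map (IsLocalRing.residue R))
  obtain ⟨P, hP, hP'⟩ := exists_lift_transvec (R := R) L
  obtain ⟨Q, hQ, hQ'⟩ := exists_lift_transvec (R := R) L'
  set N := P * M * Q with hN
  have hdet : N.det = M.det := by
    rw [hN, Matrix.det_mul, Matrix.det_mul, hP, hQ, one_mul, mul_one]
  have hNmap : N.map (IsLocalRing.residue R) = Matrix.diagonal D := by
    rw [hN, Matrix.map_mul, Matrix.map_mul, hP', hQ', hD]
  -- rank computation
  have hrank : Fintype.card {i // D i ≠ 0} ≤ r := by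
    rw [← Matrix.rank_diagonal, ← hD]
    have h1 : IsUnit ((L.map Matrix.TransvectionStruct.toMatrix).prod).det := by
      rw [Matrix.TransvectionStruct.det_toMatrix_prod]; exact isUnit_one
    have h2 : IsUnit ((L'.map Matrix.TransvectionStruct.toMatrix).prod).det := by
      rw [Matrix.TransvectionStruct.det_toMatrix_prod]; exact isUnit_one
    rw [Matrix.rank_mul_eq_left_of_isUnit_det _ _ h2, Matrix.rank_mul_eq_right_of_isUnit_det _ _ h1]
    exact hr
  set Z : Finset (Fin n) := Finset.univ.filter (fun i => D i = 0) with hZ
  have hZcard : n - r ≤ Z.card := by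
    have h3 : Fintype.card {i // D i ≠ 0} = (Finset.univ.filter (fun i => ¬ D i = 0)).card :=
      Fintype.card_subtype _
    have h4 : Z.card + (Finset.univ.filter (fun i => ¬ D i = 0)).card = n := by
      have := Finset.card_filter_add_card_filter_not (s := (Finset.univ : Finset (Fin n)))
        (fun i => D i = 0)
      simpa only [Finset.card_univ, Fintype.card_fin] using this
    omega
  rw [← hdet]
  refine Ideal.pow_le_pow_right hZcard ?_
  rw [Matrix.det_apply]
  refine Ideal.sum_mem _ fun σ _ => ?_
  refine Submodule.smul_of_tower_mem _ _ ?_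
  have hcol : ∀ i ∈ Z, ∀ j, N j i ∈ IsLocalRing.maximalIdeal R := by
    intro i hi j
    rw [hZ, Finset.mem_filter] at hi
    rw [← IsLocalRing.residue_eq_zero_iff]
    have := congrFun (congrFun hNmap j) i
    rw [Matrix.map_apply] at this
    rw [this, Matrix.diagonal_apply]
    split_ifs with h
    · subst h; exact hi.2
    · rfl
  rw [← Finset.prod_mul_prod_compl Z]
  refine Ideal.mul_mem_right _ _ ?_
  have := Ideal.prod_mem_prod (s := Z) (I := fun _ => IsLocalRing.maximalIdeal R)
    (x := fun i => N (σ i) i) (fun i hi => hcol i hi _)
  rwa [Finset.prod_const] at this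

end Groth.Agent.S18127
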