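import Groth.Statements.S18128
import Groth.Agent.Lib.H29Acyclic2

set_option autoImplicit false
universe u
open CAlg

namespace Groth.Agent.S18128

open CategoryTheory CategoryTheory.Limits

section aux

variable {R : Type u} [CommRing R]

/-- The chain complex of the matrices `A j` for `j + 1 ≤ e`, with zero differentials above. -/
noncomputable def cplx (e : ℕ) (n : ℕ → ℕ) (A : (i : ℕ) → Matrix (Fin (n i)) (Fin (n (i + 1))) R)
    (hA : ∀ i, i + 2 ≤ e → A i * A (i + 1) = 0) : ChainComplex (ModuleCat.{u} R) ℕ :=
  ChainComplex.of (fun j => ModuleCat.of R (Fin (n j) → R))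
    (fun j => if j + 1 ≤ e then ModuleCat.ofHom (A j).mulVecLin else 0)
    (fun j => by
      by_cases h : j + 2 ≤ e
      · have h1 : j + 1 ≤ e := by omega
        have h2 : j + 1 + 1 ≤ e := by omega
        rw [if_pos h1, if_pos h2, ← ModuleCat.ofHom_comp, ← Matrix.mulVecLin_mul, hA j h]
        ext x
        simp
      · have h2 : ¬ (j + 1 + 1 ≤ e) := by omega
        rw [if_neg h2, zero_comp])

lemma cplx_d_of_le (e : ℕ) (n : ℕ → ℕ) (A : (i : ℕ) → Matrix (Fin (n i)) (Fin (n (i + 1))) R)
    (hA : ∀ i, i + 2 ≤ e → A i * A (i + 1) = 0) (j : ℕ) (hj : j + 1 ≤ e) :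
    (cplx e n A hA).d (j + 1) j = ModuleCat.ofHom (A j).mulVecLin := by
  unfold cplx
  refine (ChainComplex.of_d (fun j => ModuleCat.of R (Fin (n j) → R))
    (fun j => if j + 1 ≤ e then ModuleCat.ofHom (A j).mulVecLin else 0) j).trans ?_
  exact if_pos hj

lemma cplx_d_of_not_le (e : ℕ) (n : ℕ → ℕ) (A : (i : ℕ) → Matrix (Fin (n i)) (Fin (n (i + 1))) R)
    (hA : ∀ i, i + 2 ≤ e → A i * A (i + 1) = 0) (j : ℕ) (hj : ¬ j + 1 ≤ e) :
    (cplx e n A hA).d (j + 1) j = 0 := by
  unfold cplx
  refine (ChainComplex.of_d (fun j => ModuleCat.of R (Fin (n j) → R))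
    (fun j => if j + 1 ≤ e then ModuleCat.ofHom (A j).mulVecLin else 0) j).trans ?_
  exact if_neg hj

/-- Exactness at `j + 1` in terms of kernel and range. -/
lemma cplx_exactAt_iff (e : ℕ) (n : ℕ → ℕ) (A : (i : ℕ) → Matrix (Fin (n i)) (Fin (n (i + 1))) R)
    (hA : ∀ i, i + 2 ≤ e → A i * A (i + 1) = 0) (j : ℕ) :
    (cplx e n A hA).ExactAt (j + 1) ↔
      LinearMap.range ((cplx e n A hA).d (j + 2) (j + 1)).hom =
        LinearMap.ker ((cplx e n A hA).d (j + 1) j).hom := by
  rw [HomologicalComplex.exactAt_iff' _ (j + 2) (j + 1) j (by simp) (by simp),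
    ShortComplex.moduleCat_exact_iff_range_eq_ker]
  exact Iff.rfl

end aux


/-- Local step of Buchsbaum–Eisenbud: let R be a Noetherian local ring with maximal ideal m, and 0 →
R^(n_e) → ⋯ → R^(n_1) → R^(n_0) a complex of finite free modules, the map R^(n_(i+1)) → R^(n_i)
being given by the matrix A i, with 1 ≤ e and e at most the depth of R (there is an R-regular
sequence of length e inside m). If for every prime ideal p ≠ m the complex of matrices over R_p
obtained by localization is exact at R_p^(n_e), …, R_p^(n_1), then the complex is exact at R^(n_e),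
…, R^(n_1). -/
theorem result
    {R : Type u} [CommRing R] [IsLocalRing R] [IsNoetherianRing R]
    (e : ℕ) (he : 1 ≤ e) (n : ℕ → ℕ) (A : (i : ℕ) → Matrix (Fin (n i)) (Fin (n (i + 1))) R)
    (hA : ∀ i, i + 2 ≤ e → A i * A (i + 1) = 0)
    (rs : List R) (hlen : rs.length = e) (hmem : ∀ x ∈ rs, x ∈ IsLocalRing.maximalIdeal R)
    (hreg : RingTheory.Sequence.IsRegular R rs)
    (hloc : ∀ (p : Ideal R) [p.IsPrime], p ≠ IsLocalRing.maximalIdeal R →
      LinearMap.ker ((A (e - 1)).map (algebraMap R (Localization.AtPrime p))).mulVecLin = ⊥ ∧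
        ∀ i, i + 2 ≤ e →
          LinearMap.ker ((A i).map (algebraMap R (Localization.AtPrime p))).mulVecLin =
            LinearMap.range ((A (i + 1)).map (algebraMap R (Localization.AtPrime p))).mulVecLin) :
    LinearMap.ker (A (e - 1)).mulVecLin = ⊥ ∧
      ∀ i, i + 2 ≤ e → LinearMap.ker (A i).mulVecLin = LinearMap.range (A (i + 1)).mulVecLin := by
  classical
  set K := cplx e n A hA with hKdef
  let N : ModuleCat.{u} R := ModuleCat.of R (R ⧸ IsLocalRing.maximalIdeal R)
  have hd : K.d (e + 1) e = 0 := cplx_d_of_not_le e n A hA e (by omega)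
  have hExt : ∀ j q, j ≤ e → q < j → ∀ x : Abelian.Ext N (K.X j) q, x = 0 := by
    intro j q hj hq x
    exact Groth.Agent.Lib.H29Acyclic2.ext_residue_pi_eq_zero rs hmem hreg (n j) q (by omega) x
  -- localization: cycles become boundaries after multiplication by some `s ∉ p`
  have hlocal : ∀ (p : Ideal R) [p.IsPrime], p ≠ IsLocalRing.maximalIdeal R → ∀ j, j + 1 ≤ e →
      ∀ z : Fin (n (j + 1)) → R, (A j).mulVecLin z = 0 →
        ∃ s : R, s ∉ p ∧ s • z ∈ LinearMap.range (K.d (j + 2) (j + 1)).hom := by
    intro p _ hp j hj z hz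
    obtain ⟨hl1, hl2⟩ := hloc p hp
    have hzloc : ((A j).map (algebraMap R (Localization.AtPrime p))).mulVecLin
        ((algebraMap R (Localization.AtPrime p)) ∘ z) = 0 := by
      funext k
      have := RingHom.map_mulVec (algebraMap R (Localization.AtPrime p)) (A j) z k
      simp only [Matrix.mulVecLin_apply] at hz ⊢
      rw [← this, hz]
      simp
    by_cases hje : j + 2 ≤ e
    · have h1 := hl2 j hje
      have h2 : (algebraMap R (Localization.AtPrime p)) ∘ z ∈ LinearMap.range
          ((A (j + 1)).map (algebraMap R (Localization.AtPrime p))).mulVecLin := by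
        rw [← h1]; exact hzloc
      obtain ⟨s, hs, hsz⟩ := Groth.Agent.Lib.H29Acyclic2.exists_smul_mem_range p (A (j + 1)) z h2
      refine ⟨s, hs, ?_⟩
      rw [cplx_d_of_le e n A hA (j + 1) hje]
      exact hsz
    · have hje' : j + 1 = e := by omega
      have hj' : j = e - 1 := by omega
      subst hj'
      have h2 : (algebraMap R (Localization.AtPrime p)) ∘ z = 0 := by
        have : (algebraMap R (Localization.AtPrime p)) ∘ z ∈ LinearMap.ker
            ((A (e - 1)).map (algebraMap R (Localization.AtPrime p))).mulVecLin := hzloc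
        rw [hl1] at this
        exact this
      obtain ⟨s, hs, hsz⟩ := Groth.Agent.Lib.H29Acyclic2.exists_smul_eq_zero_of_map_eq_zero p z
        (fun k => congr_fun h2 k)
      exact ⟨s, hs, by rw [hsz]; exact Submodule.zero_mem _⟩
  -- main claim: exactness at every `j + 1 ≤ e`
  have main : ∀ d j, j + 1 ≤ e → e ≤ j + 1 + d → K.ExactAt (j + 1) := by
    intro d
    induction d using Nat.strong_induction_on with
    | _ d ih =>
      intro j hj hd'
      have hK : ∀ j', j + 1 < j' → j' ≤ e → IsZero (K.homology j') := by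
        intro j' h1 h2
        obtain ⟨j'', rfl⟩ : ∃ j'', j' = j'' + 1 := ⟨j' - 1, by omega⟩
        exact (HomologicalComplex.exactAt_iff_isZero_homology K _).mp
          (ih (e - (j'' + 1)) (by omega) j'' h2 (by omega))
      have hhom : ∀ f : N ⟶ K.homology (j + 1), f = 0 :=
        Groth.Agent.Lib.H29Acyclic2.hom_homology_eq_zero K N e hd hExt (j + 1) (by omega) hj hK
      rw [HomologicalComplex.exactAt_iff_isZero_homology]
      by_contra hnz
      have hnt : Nontrivial (K.homology (j + 1)) := by
        by_contra hn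
        rw [not_nontrivial_iff_subsingleton] at hn
        exact hnz (ModuleCat.isZero_of_subsingleton _)
      obtain ⟨p, hp⟩ := associatedPrimes.nonempty R (K.homology (j + 1))
      by_cases hpm : p = IsLocalRing.maximalIdeal R
      · -- a nonzero map from the residue field
        subst hpm
        obtain ⟨_, f, hf⟩ := (isAssociatedPrime_iff_exists_injective_linearMap _ _).mp hp
        have hf0 := hhom (ModuleCat.ofHom f)
        have h10 : f (1 : R ⧸ IsLocalRing.maximalIdeal R) = 0 := by
          have := congrArg (fun g : N ⟶ K.homology (j + 1) =>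
            g.hom (1 : R ⧸ IsLocalRing.maximalIdeal R)) hf0
          exact this
        have h11 : (1 : R ⧸ IsLocalRing.maximalIdeal R) = 0 := hf (by rw [h10, map_zero])
        exact one_ne_zero h11
      · -- `h` is killed by some `s ∉ p`
        obtain ⟨hpprime, h, hph⟩ := isAssociatedPrime_iff.mp hp
        obtain ⟨z, rfl⟩ := (ModuleCat.epi_iff_surjective (K.homologyπ (j + 1))).mp inferInstance h
        have hz0 : (A j).mulVecLin ((K.iCycles (j + 1)).hom z) = 0 := by
          have h1 : (K.iCycles (j + 1) ≫ K.d (j + 1) j).hom z = 0 := by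
            rw [HomologicalComplex.iCycles_d]; rfl
          rw [cplx_d_of_le e n A hA j hj] at h1
          exact h1
        obtain ⟨s, hs, w, hw⟩ := hlocal p hpm j hj _ hz0
        have h2 : s • z = (K.toCycles (j + 2) (j + 1)).hom w := by
          apply (ModuleCat.mono_iff_injective (K.iCycles (j + 1))).mp inferInstance
          have h4 : (K.toCycles (j + 2) (j + 1) ≫ K.iCycles (j + 1)).hom w =
              (K.d (j + 2) (j + 1)).hom w := by
            rw [HomologicalComplex.toCycles_i]
          have h5 : (K.iCycles (j + 1)).hom (s • z) = s • (K.iCycles (j + 1)).hom z :=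
            map_smul _ _ _
          exact h5.trans (hw.symm.trans h4.symm)
        have h3 : s • (K.homologyπ (j + 1)).hom z = 0 := by
          rw [← map_smul, h2]
          have : (K.toCycles (j + 2) (j + 1) ≫ K.homologyπ (j + 1)).hom w = 0 := by
            rw [HomologicalComplex.toCycles_comp_homologyπ]; rfl
          exact this
        apply hs
        rw [hph, Submodule.mem_colon_singleton, Submodule.mem_bot]
        exact h3
  constructor
  · obtain ⟨e', rfl⟩ : ∃ e', e = e' + 1 := ⟨e - 1, by omega⟩
    have h1 := (cplx_exactAt_iff (e' + 1) n A hA e').mp (main 0 e' le_rfl (by omega))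
    rw [cplx_d_of_not_le (e' + 1) n A hA (e' + 1) (by omega),
      cplx_d_of_le (e' + 1) n A hA e' le_rfl] at h1
    show LinearMap.ker (A e').mulVecLin = ⊥
    apply le_antisymm _ bot_le
    intro x hx
    have hx' : x ∈ LinearMap.ker (ModuleCat.Hom.hom (ModuleCat.ofHom (A e').mulVecLin)) := hx
    obtain ⟨y, rfl⟩ := h1.ge hx'
    exact Submodule.zero_mem _
  · intro i hi
    have h1 := (cplx_exactAt_iff e n A hA i).mp (main (e - (i + 1)) i (by omega) (by omega))
    rw [cplx_d_of_le e n A hA (i + 1) hi, cplx_d_of_le e n A hA i (by omega)] at h1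
    exact h1.symm

end Groth.Agent.S18128
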