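import Groth.Statements.S18136
import Mathlib

set_option autoImplicit false
universe u v
open IsLocalRing
open CAlg

namespace Groth.Agent.S18136


lemma li_iff {B : Type u} [CommRing B] [IsLocalRing B] {κ : Type*} [Fintype κ]
    (x : κ → maximalIdeal B) :
    LinearIndependent (ResidueField B) (⇑(maximalIdeal B).toCotangent ∘ x) ↔
      ∀ a : κ → B, (∑ i, a i * (x i : B)) ∈ maximalIdeal B ^ 2 → ∀ i, a i ∈ maximalIdeal B := by
  classical
  have key : ∀ a : κ → B, (∑ i, residue B (a i) • ((maximalIdeal B).toCotangent (x i))) = 0 ↔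
      (∑ i, a i * (x i : B)) ∈ maximalIdeal B ^ 2 := by
    intro a
    have h1 : (∑ i, residue B (a i) • ((maximalIdeal B).toCotangent (x i))) =
        (maximalIdeal B).toCotangent (∑ i, a i • x i) := by
      rw [map_sum]
      refine Finset.sum_congr rfl (fun i _ => ?_)
      rw [map_smul]
      exact IsScalarTower.algebraMap_smul (ResidueField B) (a i) _
    rw [h1, Ideal.toCotangent_eq_zero]
    simp
  rw [Fintype.linearIndependent_iff]
  constructor
  · intro h a ha i
    have := h (fun i => residue B (a i)) ((key a).mpr ha) i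
    exact (residue_eq_zero_iff _).mp this
  · intro h g hg i
    choose a ha using fun i => residue_surjective (R := B) (g i)
    have hg' : (∑ i, residue B (a i) • ((maximalIdeal B).toCotangent (x i))) = 0 := by
      simpa [ha] using hg
    have := h a ((key a).mp hg') i
    rw [← ha i]
    exact (residue_eq_zero_iff _).mpr this


theorem result' {A : Type u} [CommRing A] [IsRegularLocalRing A]
    {ι : Type v} [Preorder ι] [Nonempty ι] [IsDirected ι (· ≤ ·)]
    (B : ι → Type u) [∀ j, CommRing (B j)] [∀ j, IsRegularLocalRing (B j)]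
    (φ : ∀ i j, i ≤ j → (B i →+* B j)) (hφloc : ∀ i j (h : i ≤ j), IsLocalHom (φ i j h))
    (hφ : ∀ i j l (hij : i ≤ j) (hjl : j ≤ l), (φ j l hjl).comp (φ i j hij) = φ i l (hij.trans hjl))
    (ψ : ∀ j, B j →+* A) (hψ : ∀ i j (h : i ≤ j), (ψ j).comp (φ i j h) = ψ i)
    (hsurj : ∀ a : A, ∃ j, ∃ x : B j, ψ j x = a)
    (hker : ∀ j (x : B j), ψ j x = 0 → ∃ l, ∃ h : j ≤ l, φ j l h x = 0)
    (c d : ℕ) (f : Fin c → maximalIdeal A) (g : Fin d → maximalIdeal A)
    (hind : LinearIndependent (ResidueField A) (⇑(maximalIdeal A).toCotangent ∘ Sum.elim f g)) :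
    ∃ j₀ : ι, ∃ (P : ∀ j, j₀ ≤ j → Ideal (B j)) (Q : ∀ j, j₀ ≤ j → Ideal (B j)),
      (∀ j (hj : j₀ ≤ j), ∃ (F : Fin c → maximalIdeal (B j)) (E : Fin d → maximalIdeal (B j)),
        LinearIndependent (ResidueField (B j)) (⇑(maximalIdeal (B j)).toCotangent ∘ Sum.elim F E) ∧
        P j hj = Ideal.span (Set.range (fun s => (F s : B j))) ∧
        Q j hj = P j hj ⊔ Ideal.span (Set.range (fun t => (E t : B j)))) ∧
      (∀ i j (hi : j₀ ≤ i) (hij : i ≤ j),
        (P i hi).map (φ i j hij) = P j (le_trans hi hij) ∧ (Q i hi).map (φ i j hij) = Q j (le_trans hi hij)) ∧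
      (∀ j (hj : j₀ ≤ j),
        (P j hj).map (ψ j) = Ideal.span (Set.range (fun s => (f s : A))) ∧
        (Q j hj).map (ψ j) = Ideal.span (Set.range (fun s => (f s : A))) ⊔ Ideal.span (Set.range (fun t => (g t : A)))) := by
  classical
  have hφa : ∀ i j l (hij : i ≤ j) (hjl : j ≤ l) (x : B i),
      φ j l hjl (φ i j hij x) = φ i l (hij.trans hjl) x :=
    fun i j l hij hjl x => RingHom.congr_fun (hφ i j l hij hjl) x
  have hψa : ∀ i j (h : i ≤ j) (x : B i), ψ j (φ i j h x) = ψ i x :=
    fun i j h x => RingHom.congr_fun (hψ i j h) x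
  -- ψ is local
  have hψloc : ∀ j (x : B j), IsUnit (ψ j x) → IsUnit x := by
    intro j x hx
    obtain ⟨y, hy⟩ := hx.exists_right_inv
    obtain ⟨l, y', rfl⟩ := hsurj y
    obtain ⟨k, hjk, hlk⟩ := exists_ge_ge j l
    have h0 : ψ k (φ j k hjk x * φ l k hlk y' - 1) = 0 := by
      rw [map_sub, map_mul, hψa, hψa, hy, map_one, sub_self]
    obtain ⟨k', hkk', h1⟩ := hker k _ h0
    rw [map_sub, map_mul, map_one, hφa, hφa, sub_eq_zero] at h1
    have : IsUnit (φ j k' (hjk.trans hkk') x) := IsUnit.of_mul_eq_one _ h1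
    exact (hφloc j k' _).map_nonunit x this
  have hψmem : ∀ j (x : B j), x ∈ maximalIdeal (B j) → ψ j x ∈ maximalIdeal A := by
    intro j x hx
    rw [mem_maximalIdeal, mem_nonunits_iff] at hx ⊢
    exact fun h => hx (hψloc j x h)
  have hψmem' : ∀ j (x : B j), ψ j x ∈ maximalIdeal A → x ∈ maximalIdeal (B j) := by
    intro j x hx
    rw [mem_maximalIdeal, mem_nonunits_iff] at hx ⊢
    exact fun h => hx (h.map (ψ j))
  have hφmem : ∀ i j (h : i ≤ j) (x : B i), x ∈ maximalIdeal (B i) →
      φ i j h x ∈ maximalIdeal (B j) := by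
    intro i j h x hx
    rw [mem_maximalIdeal, mem_nonunits_iff] at hx ⊢
    exact fun h' => hx ((hφloc i j h).map_nonunit x h')
  -- lifts
  choose jf xf hxf using fun s : Fin c => hsurj (f s : A)
  choose jg xg hxg using fun t : Fin d => hsurj (g t : A)
  obtain ⟨j₀, hj₀⟩ := Finset.exists_le ((Finset.univ.image jf) ∪ (Finset.univ.image jg))
  have hjf : ∀ s, jf s ≤ j₀ := fun s => hj₀ _ (by simp)
  have hjg : ∀ t, jg t ≤ j₀ := fun t => hj₀ _ (by simp)
  let F₀ : Fin c → B j₀ := fun s => φ (jf s) j₀ (hjf s) (xf s)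
  let E₀ : Fin d → B j₀ := fun t => φ (jg t) j₀ (hjg t) (xg t)
  have hF₀ : ∀ s, ψ j₀ (F₀ s) = f s := fun s => by simp only [F₀, hψa, hxf]
  have hE₀ : ∀ t, ψ j₀ (E₀ t) = g t := fun t => by simp only [E₀, hψa, hxg]
  have hF₀m : ∀ s, F₀ s ∈ maximalIdeal (B j₀) := fun s => hψmem' _ _ (by rw [hF₀]; exact (f s).2)
  have hE₀m : ∀ t, E₀ t ∈ maximalIdeal (B j₀) := fun t => hψmem' _ _ (by rw [hE₀]; exact (g t).2)
  refine ⟨j₀, fun j hj => Ideal.span (Set.range (fun s => φ j₀ j hj (F₀ s))),
    fun j hj => Ideal.span (Set.range (fun s => φ j₀ j hj (F₀ s))) ⊔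
      Ideal.span (Set.range (fun t => φ j₀ j hj (E₀ t))), ?_, ?_, ?_⟩
  · intro j hj
    refine ⟨fun s => ⟨φ j₀ j hj (F₀ s), hφmem _ _ _ _ (hF₀m s)⟩,
      fun t => ⟨φ j₀ j hj (E₀ t), hφmem _ _ _ _ (hE₀m t)⟩, ?_, rfl, rfl⟩
    rw [li_iff]
    intro a ha i
    apply hψmem'
    have h2 : (∑ i, ψ j (a i) * ((Sum.elim f g i : maximalIdeal A) : A)) ∈ maximalIdeal A ^ 2 := by
      have h3 : ψ j (∑ i, a i * ((Sum.elim (fun s => (⟨φ j₀ j hj (F₀ s), hφmem _ _ _ _ (hF₀m s)⟩ :
          maximalIdeal (B j))) (fun t => ⟨φ j₀ j hj (E₀ t), hφmem _ _ _ _ (hE₀m t)⟩) i :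
          maximalIdeal (B j)) : B j)) ∈ maximalIdeal A ^ 2 := by
        have h4 : Ideal.map (ψ j) (maximalIdeal (B j) ^ 2) ≤ maximalIdeal A ^ 2 := by
          rw [Ideal.map_pow]
          apply Ideal.pow_right_mono
          rw [Ideal.map_le_iff_le_comap]
          exact fun x hx => hψmem j x hx
        exact h4 (Ideal.mem_map_of_mem _ ha)
      rw [map_sum] at h3
      convert h3 using 1
      refine Finset.sum_congr rfl (fun i _ => ?_)
      rw [map_mul]
      congr 1
      rcases i with s | t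
      · simp only [Sum.elim_inl]; rw [hψa, hF₀]
      · simp only [Sum.elim_inr]; rw [hψa, hE₀]
    exact (li_iff _).mp hind (fun i => ψ j (a i)) h2 i
  · intro i j hi hij
    have hP : Ideal.map (φ i j hij) (Ideal.span (Set.range (fun s => φ j₀ i hi (F₀ s)))) =
        Ideal.span (Set.range (fun s => φ j₀ j (le_trans hi hij) (F₀ s))) := by
      rw [Ideal.map_span, ← Set.range_comp]
      congr 2
      ext s
      simp only [Function.comp_apply, hφa]
    have hQ : Ideal.map (φ i j hij) (Ideal.span (Set.range (fun t => φ j₀ i hi (E₀ t)))) =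
        Ideal.span (Set.range (fun t => φ j₀ j (le_trans hi hij) (E₀ t))) := by
      rw [Ideal.map_span, ← Set.range_comp]
      congr 2
      ext s
      simp only [Function.comp_apply, hφa]
    exact ⟨hP, by rw [Ideal.map_sup, hP, hQ]⟩
  · intro j hj
    have hP : Ideal.map (ψ j) (Ideal.span (Set.range (fun s => φ j₀ j hj (F₀ s)))) =
        Ideal.span (Set.range (fun s => (f s : A))) := by
      rw [Ideal.map_span, ← Set.range_comp]
      congr 2
      ext s
      simp only [Function.comp_apply, hψa, hF₀]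
    have hQ : Ideal.map (ψ j) (Ideal.span (Set.range (fun t => φ j₀ j hj (E₀ t)))) =
        Ideal.span (Set.range (fun t => (g t : A))) := by
      rw [Ideal.map_span, ← Set.range_comp]
      congr 2
      ext s
      simp only [Function.comp_apply, hψa, hE₀]
    exact ⟨hP, by rw [Ideal.map_sup, hP, hQ]⟩


/-- Let A be a regular local ring with maximal ideal m and residue field k, written as a directed
colimit of regular local rings A_j with local transition maps (compatible maps ψ_j : A_j → A that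
are jointly surjective, an element dying in A dying at some later stage). Let f_1, …, f_c, g_1, …,
g_d ∈ m have linearly independent classes in m/m^2 over k, and put I = (f_1, …, f_c) ⊆ I' = (f_1, …,
f_c, g_1, …, g_d) (so I is generated by part of a regular system of parameters of A and I'/I by part
of a regular system of parameters of A/I; for a regular local ring the condition on I ⊆ I' is stated
through such a joint family). Then there are an index j_0 and ideals I_j ⊆ I'_j ⊆ A_j for j ≥ j_0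
such that: each I_j is generated by c elements and I'_j by these together with d further elements of
the maximal ideal m_j, the c + d classes in m_j/m_j^2 being linearly independent over the residue
field of A_j; the transition maps carry I_i, I'_i onto generators of I_j, I'_j for j_0 ≤ i ≤ j; and
I_j, I'_j generate I, I' in A. -/
theorem result
    {A : Type u} [CommRing A] [IsRegularLocalRing A]
    {ι : Type v} [Preorder ι] [Nonempty ι] [IsDirected ι (· ≤ ·)]
    (B : ι → Type u) [∀ j, CommRing (B j)] [∀ j, IsRegularLocalRing (B j)]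
    (φ : ∀ i j, i ≤ j → (B i →+* B j)) (hφloc : ∀ i j (h : i ≤ j), IsLocalHom (φ i j h))
    (hφ : ∀ i j l (hij : i ≤ j) (hjl : j ≤ l), (φ j l hjl).comp (φ i j hij) = φ i l (hij.trans hjl))
    (ψ : ∀ j, B j →+* A) (hψ : ∀ i j (h : i ≤ j), (ψ j).comp (φ i j h) = ψ i)
    (hsurj : ∀ a : A, ∃ j, ∃ x : B j, ψ j x = a)
    (hker : ∀ j (x : B j), ψ j x = 0 → ∃ l, ∃ h : j ≤ l, φ j l h x = 0)
    (c d : ℕ) (f : Fin c → maximalIdeal A) (g : Fin d → maximalIdeal A)
    (hind : LinearIndependent (ResidueField A) (⇑(maximalIdeal A).toCotangent ∘ Sum.elim f g)) :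
    ∃ j₀ : ι, ∃ (P : ∀ j, j₀ ≤ j → Ideal (B j)) (Q : ∀ j, j₀ ≤ j → Ideal (B j)),
      (∀ j (hj : j₀ ≤ j), ∃ (F : Fin c → maximalIdeal (B j)) (E : Fin d → maximalIdeal (B j)),
        LinearIndependent (ResidueField (B j)) (⇑(maximalIdeal (B j)).toCotangent ∘ Sum.elim F E) ∧
        P j hj = Ideal.span (Set.range (fun s => (F s : B j))) ∧
        Q j hj = P j hj ⊔ Ideal.span (Set.range (fun t => (E t : B j)))) ∧
      (∀ i j (hi : j₀ ≤ i) (hij : i ≤ j),
        (P i hi).map (φ i j hij) = P j (le_trans hi hij) ∧ (Q i hi).map (φ i j hij) = Q j (le_trans hi hij)) ∧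
      (∀ j (hj : j₀ ≤ j),
        (P j hj).map (ψ j) = Ideal.span (Set.range (fun s => (f s : A))) ∧
        (Q j hj).map (ψ j) = Ideal.span (Set.range (fun s => (f s : A))) ⊔ Ideal.span (Set.range (fun t => (g t : A)))) := by
  exact result' B φ hφloc hφ ψ hψ hsurj hker c d f g hind

end Groth.Agent.S18136
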