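import Groth.Statements.S18153
import Mathlib.LinearAlgebra.Matrix.Adjugate
import Mathlib.RingTheory.MvPolynomial.Basic
import Mathlib.LinearAlgebra.Multilinear.Basis

set_option autoImplicit false
universe u w
open FrobAlg

namespace Groth.Agent.S18153

section aux

open MvPolynomial

variable {R : Type u} [CommRing R] {m : ℕ} {σ : Type w}

theorem det_eq_zero_of_col_sum_zero (hm : 0 < m) (N : Matrix (Fin m) (Fin m) R)
    (h : ∀ j, ∑ i, N i j = 0) : N.det = 0 := by
  have h1 : Matrix.vecMul (fun _ => (1 : R)) N = 0 := by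
    ext j; simp [Matrix.vecMul, dotProduct, h j]
  have h2 : Matrix.vecMul (fun _ => (1 : R)) (N * N.adjugate) = 0 := by
    rw [← Matrix.vecMul_vecMul, h1, Matrix.zero_vecMul]
  rw [Matrix.mul_adjugate, Matrix.vecMul_smul, Matrix.vecMul_one] at h2
  have := congrFun h2 ⟨0, hm⟩
  simpa using this

/-- The coefficient of the "Euler–Jacobian" determinant as a multilinear map. -/
noncomputable def Φ (T : (Fin m ⊕ σ) →₀ ℕ) :
    MultilinearMap R (fun _ : Fin m => MvPolynomial (Fin m ⊕ σ) R) R :=
  (lcoeff R T).compMultilinearMap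
    (((Matrix.detRowAlternating (R := MvPolynomial (Fin m ⊕ σ) R)
        (n := Fin m)).toMultilinearMap.restrictScalars R).compLinearMap
      (fun _ => LinearMap.pi (fun j : Fin m =>
        (LinearMap.mulLeft R (X (Sum.inl j) : MvPolynomial (Fin m ⊕ σ) R)).comp
          ((pderiv (Sum.inl j) : Derivation R (MvPolynomial (Fin m ⊕ σ) R) _).toLinearMap))))

theorem Φ_apply (T : (Fin m ⊕ σ) →₀ ℕ) (f : Fin m → MvPolynomial (Fin m ⊕ σ) R) :
    Φ T f = coeff T (Matrix.of fun i j : Fin m =>
      X (Sum.inl j) * pderiv (Sum.inl j) (f i)).det := rfl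

theorem Φ_eq_zero (hm : 0 < m) (T : (Fin m ⊕ σ) →₀ ℕ)
    (hT : ∀ j : Fin m, ((T (Sum.inl j) : ℕ) : R) = 0) : (Φ T : MultilinearMap R _ R) = 0 := by
  classical
  apply Module.Basis.ext_multilinear (fun _ => basisMonomials (Fin m ⊕ σ) R)
  intro v
  simp only [coe_basisMonomials, zero_apply]
  rw [Φ_apply]
  have e1 : (Matrix.of fun i j : Fin m =>
      X (Sum.inl j) * pderiv (Sum.inl j) (monomial (v i) (1 : R))) =
      Matrix.of fun i j : Fin m => monomial (v i) (1 : R) *
        ((C : R →+* MvPolynomial (Fin m ⊕ σ) R).mapMatrix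
          (Matrix.of fun i j : Fin m => ((v i (Sum.inl j) : ℕ) : R))) i j := by
    ext i j : 2
    simp only [Matrix.of_apply, RingHom.mapMatrix_apply, Matrix.map_apply]
    rw [X_mul_pderiv_monomial, mul_comm, C_mul_monomial, smul_monomial]
    simp
  rw [e1, Matrix.det_mul_column, ← RingHom.map_det, ← monomial_sum_one, mul_comm, C_mul_monomial,
    coeff_monomial]
  split_ifs with h
  · rw [mul_one]
    apply det_eq_zero_of_col_sum_zero hm
    intro j
    simp only [Matrix.of_apply]
    rw [← Nat.cast_sum, ← hT j, ← h]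
    simp
  · rfl

end aux

/-- Let R be a commutative ring of prime characteristic p and f_1, …, f_m (m ≥ 1) polynomials over R in
the variables t_1, …, t_m and a further, possibly empty, family of variables s_a. Then in the m × m
Jacobian determinant det(∂f_i/∂t_j) with respect to the t-variables, the coefficient of the monomial
t_1^{p-1} ⋯ t_m^{p-1} (all s-exponents zero) vanishes. (In the source this is the claim, for formal
power series in n ≥ m variables over the base field, to which the proof of the proposition reduces;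
the coefficient in question only involves truncations of the f_i, so the polynomial form over any
ring of characteristic p is the same assertion.) -/
theorem result
    (p : ℕ) [Fact p.Prime] (R : Type u) [CommRing R] [CharP R p]
    {m : ℕ} (hm : 0 < m) (σ : Type w) (f : Fin m → MvPolynomial (Fin m ⊕ σ) R) :
    MvPolynomial.coeff
        (Finsupp.sumElim (Finsupp.equivFunOnFinite.symm fun _ : Fin m => p - 1) (0 : σ →₀ ℕ))
        (Matrix.of fun i j : Fin m => MvPolynomial.pderiv (Sum.inl j) (f i)).det = 0 := by
  classical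
  set T := (Finsupp.sumElim (Finsupp.equivFunOnFinite.symm fun _ : Fin m => p - 1) (0 : σ →₀ ℕ))
    with hT
  set U : (Fin m ⊕ σ) →₀ ℕ := ∑ j : Fin m, Finsupp.single (Sum.inl j) 1 with hU
  have hp : 1 ≤ p := (Fact.out : p.Prime).one_lt.le
  have hUT : ∀ j : Fin m, (U + T) (Sum.inl j) = p := by
    intro j
    rw [Finsupp.add_apply, hU, Finsupp.finsetSum_apply, hT]
    simp [Finsupp.single_apply]
    omega
  have h0 := Φ_eq_zero (R := R) (σ := σ) hm (U + T) (by
    intro j; rw [hUT j]; exact CharP.cast_eq_zero R p)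
  have h1 := congrArg (fun φ => φ f) h0
  simp only [zero_apply] at h1
  rw [Φ_apply, Matrix.det_mul_row] at h1
  have h2 : (∏ j : Fin m, (MvPolynomial.X (Sum.inl j) : MvPolynomial (Fin m ⊕ σ) R)) =
      MvPolynomial.monomial U 1 := by
    rw [hU, MvPolynomial.monomial_sum_one]
    rfl
  rw [h2, MvPolynomial.coeff_monomial_mul, one_mul] at h1
  exact h1

end Groth.Agent.S18153
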