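import Groth.Statements.S18155
import Mathlib.RingTheory.WittVector.Domain
import Mathlib.RingTheory.Smooth.StandardSmoothOfFree
import Mathlib.RingTheory.Smooth.Flat

set_option autoImplicit false
universe u v
open FrobAlg

namespace Groth.Agent.S18155

section witt

variable (p : ℕ) [Fact p.Prime] (k : Type u) [CommRing k] [CharP k p]

theorem W2_mul_eq_zero (x y : W2 p k) (hx : res p k x = 0) (hy : res p k y = 0) : x * y = 0 := by
  obtain ⟨X, rfl⟩ := WittVector.truncate_surjective p 2 k x
  obtain ⟨Y, rfl⟩ := WittVector.truncate_surjective p 2 k y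
  rw [res_truncate] at hx hy
  have hX : X = WittVector.verschiebung (X.shift 1) :=
    WittVector.eq_iterate_verschiebung (n := 1) (fun i hi => by
      obtain rfl : i = 0 := by omega
      exact hx)
  have hY : Y = WittVector.verschiebung (Y.shift 1) :=
    WittVector.eq_iterate_verschiebung (n := 1) (fun i hi => by
      obtain rfl : i = 0 := by omega
      exact hy)
  rw [← map_mul, hX, hY, ← WittVector.verschiebung_mul_frobenius, WittVector.frobenius_verschiebung]
  apply TruncatedWittVector.ext
  intro i
  rw [WittVector.coeff_truncate, TruncatedWittVector.coeff_zero]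
  fin_cases i
  · exact WittVector.verschiebung_coeff_zero _
  · show (WittVector.verschiebung _).coeff (Nat.succ 0) = 0
    rw [WittVector.verschiebung_coeff_succ, ← mul_assoc]
    exact WittVector.mul_charP_coeff_zero _

theorem ker_res_sq : (RingHom.ker (res p k)) ^ 2 = ⊥ := by
  rw [eq_bot_iff, pow_two, Ideal.mul_le]
  intro x hx y hy
  rw [Ideal.mem_bot]
  exact W2_mul_eq_zero p k x y hx hy

end witt

section lift

/-- Ring-hom form of the infinitesimal lifting property of a formally smooth algebra. -/
theorem exists_lift_ringHom {R S T U : Type*} [CommRing R] [CommRing S] [CommRing T] [CommRing U]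
    [Algebra R S] [Algebra.FormallySmooth R S]
    (a : R →+* T) (g : T →+* U) (hg : Function.Surjective g) (hg' : IsNilpotent (RingHom.ker g))
    (f : S →+* U) (h : f.comp (algebraMap R S) = g.comp a) :
    ∃ l : S →+* T, l.comp (algebraMap R S) = a ∧ g.comp l = f := by
  letI : Algebra R T := a.toAlgebra
  letI : Algebra R U := (g.comp a).toAlgebra
  let fA : S →ₐ[R] U := { f with commutes' := fun r => RingHom.congr_fun h r }
  let gA : T →ₐ[R] U := { g with commutes' := fun r => rfl }
  let l := Algebra.FormallySmooth.liftOfSurjective fA gA hg hg'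
  refine ⟨l.toRingHom, ?_, ?_⟩
  · ext r
    exact l.commutes r
  · ext x
    exact Algebra.FormallySmooth.liftOfSurjective_apply fA gA hg hg' x

/-- The `p`-th power map on a ring in which `p = 0`. -/
def powHom (p : ℕ) (hp : p.Prime) (C : Type*) [CommRing C] (hpC : (p : C) = 0) : C →+* C where
  toFun x := x ^ p
  map_one' := one_pow p
  map_mul' x y := mul_pow x y p
  map_zero' := zero_pow hp.ne_zero
  map_add' x y := by
    rw [add_pow_prime_eq hp, hpC]
    simp

theorem isUnit_of_map_of_nilpotent_ker {S T : Type*} [CommRing S] [CommRing T] (g : S →+* T)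
    (hg : Function.Surjective g) (hI : RingHom.ker g ^ 2 = ⊥) (u : S) (hu : IsUnit (g u)) :
    IsUnit u := by
  obtain ⟨w, hw⟩ := hu.exists_right_inv
  obtain ⟨v, rfl⟩ := hg w
  have he : u * v - 1 ∈ RingHom.ker g := by
    rw [RingHom.mem_ker, map_sub, map_mul, hw, map_one, sub_self]
  have hnil : IsNilpotent (u * v - 1) := by
    refine ⟨2, ?_⟩
    have : (u * v - 1) ^ 2 ∈ RingHom.ker g ^ 2 := Ideal.pow_mem_pow he 2
    rwa [hI, Ideal.mem_bot] at this
  have h1 : IsUnit (u * v) := by
    have := hnil.isUnit_add_one
    rwa [sub_add_cancel] at this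
  exact isUnit_of_mul_isUnit_left h1

end lift

section main

open MvPolynomial

variable {A C : Type v} [CommRing A] [CommRing C] [Algebra A C]
  {B : Type v} [CommRing B] (π : B →+* A)
  {n r : Type} [Finite n] [Finite r] (P : Algebra.SubmersivePresentation A C n r)
  (F : r → MvPolynomial n B)

/-- The lifted algebra `B[x]/(F)`. -/
abbrev Blift : Type v := MvPolynomial n B ⧸ Ideal.span (Set.range F)

/-- The map `B[x] → A[x] → C`. -/
noncomputable def q : MvPolynomial n B →+* C :=
  (aeval P.val : MvPolynomial n A →ₐ[A] C).toRingHom.comp (MvPolynomial.map π)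

theorem q_apply (x : MvPolynomial n B) : q π P x = aeval P.val (MvPolynomial.map π x) := rfl

variable (hF : ∀ j, MvPolynomial.map π (F j) = P.relation j)
include hF

theorem q_F (j : r) : q π P (F j) = 0 := by
  rw [q_apply, hF, P.aeval_val_relation]

theorem span_le_ker_q : Ideal.span (Set.range F) ≤ RingHom.ker (q π P) := by
  rw [Ideal.span_le]
  rintro _ ⟨j, rfl⟩
  exact q_F π P F hF j

/-- The reduction map `B[x]/(F) → C`. -/
noncomputable def π' : Blift F →+* C :=
  Ideal.Quotient.lift _ (q π P) (fun x hx => span_le_ker_q π P F hF hx)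

theorem π'_mk (x : MvPolynomial n B) :
    π' π P F hF (Ideal.Quotient.mk _ x) = aeval P.val (MvPolynomial.map π x) := rfl

theorem π'_algebraMap (b : B) :
    π' π P F hF (algebraMap B (Blift F) b) = algebraMap A C (π b) := by
  show π' π P F hF (Ideal.Quotient.mk _ (MvPolynomial.C b)) = _
  rw [π'_mk, MvPolynomial.map_C, aeval_C]

theorem ker_q (hπ : Function.Surjective π) :
    RingHom.ker (q π P) = Ideal.span (Set.range F) ⊔ Ideal.map MvPolynomial.C (RingHom.ker π) := by
  have h1 : RingHom.ker (q π P) = Ideal.comap (MvPolynomial.map π)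
      (RingHom.ker (aeval P.val : MvPolynomial n A →ₐ[A] C).toRingHom) := by
    rw [q, RingHom.comap_ker]
  have h2 : RingHom.ker (aeval P.val : MvPolynomial n A →ₐ[A] C).toRingHom =
      Ideal.map (MvPolynomial.map π) (Ideal.span (Set.range F)) := by
    rw [Ideal.map_span, ← Set.range_comp]
    have : (MvPolynomial.map π) ∘ F = P.relation := funext hF
    rw [this, P.span_range_relation_eq_ker, P.ker_eq_ker_aeval_val]
    rfl
  rw [h1, h2, Ideal.comap_map_of_surjective _ (MvPolynomial.map_surjective π hπ),
    ← RingHom.ker_eq_comap_bot, MvPolynomial.ker_map]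

theorem ker_π' (hπ : Function.Surjective π) :
    RingHom.ker (π' π P F hF) = Ideal.map (algebraMap B (Blift F)) (RingHom.ker π) := by
  rw [π', Ideal.ker_quotient_lift, ker_q π P F hF hπ, Ideal.map_sup, Ideal.map_map]
  have : Ideal.map (Ideal.Quotient.mk (Ideal.span (Set.range F))) (Ideal.span (Set.range F)) = ⊥ := by
    rw [Ideal.map_quotient_self]
  rw [this, bot_sup_eq]
  rfl

theorem π'_surjective (hπ : Function.Surjective π) : Function.Surjective (π' π P F hF) := by
  intro c
  obtain ⟨y, rfl⟩ := P.aeval_val_surjective c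
  obtain ⟨x, rfl⟩ := MvPolynomial.map_surjective π hπ y
  exact ⟨Ideal.Quotient.mk _ x, rfl⟩

omit hF in
/-- The naive pre-submersive presentation of `B[x]/(F)`. -/
noncomputable def preP : Algebra.PreSubmersivePresentation B (Blift F) n r :=
  Algebra.PreSubmersivePresentation.naive (v := F) P.map P.map_inj

theorem π'_jacobian : π' π P F hF (preP P F).jacobian = P.jacobian := by
  classical
  cases nonempty_fintype r
  rw [Algebra.PreSubmersivePresentation.jacobian_eq_jacobiMatrix_det,
    Algebra.PreSubmersivePresentation.jacobian_eq_jacobiMatrix_det]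
  show π' π P F hF (Ideal.Quotient.mk _ _) = _
  rw [π'_mk, RingHom.map_det, Algebra.Generators.algebraMap_apply, AlgHom.map_det, AlgHom.map_det]
  congr 1
  ext i j
  simp only [RingHom.mapMatrix_apply, Matrix.map_apply, AlgHom.mapMatrix_apply]
  have e1 : (preP P F).jacobiMatrix i j = pderiv (P.map i) (F j) :=
    Algebra.PreSubmersivePresentation.jacobiMatrix_naive _ _ _ _ i j
  rw [e1, Algebra.PreSubmersivePresentation.jacobiMatrix_apply, ← pderiv_map, hF]

end main

/-- Let k be an algebraically closed field of characteristic p, A a commutative k-algebra and C an étale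
A-algebra. If A admits a flat lifting over W_2(k) together with a lift of Frobenius, then so does C.
(The source states this for an étale cover Y → X of smooth varieties over k; its argument uses only
that Y is étale over X, and the affine case is stated here with no smoothness or finiteness
hypothesis on A over k.) -/
theorem result
    (p : ℕ) [Fact p.Prime] (k : Type u) [Field k] [IsAlgClosed k] [CharP k p]
    (A C : Type v) [CommRing A] [CommRing C] [Algebra k A] [Algebra k C]
    [Algebra A C] [IsScalarTower k A C] [Algebra.Etale A C]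
    (hA : FrobAlg.IsFLiftable p k A) : FrobAlg.IsFLiftable p k C := by
  obtain ⟨B, _, ι, π, Φ, hΦ⟩ := hA
  have hSS : Algebra.IsStandardSmooth A C := by
    have := (Algebra.Etale.iff_isStandardSmoothOfRelativeDimension_zero (R := A) (S := C)).mp
      inferInstance
    exact Algebra.IsStandardSmoothOfRelativeDimension.isStandardSmooth 0
  obtain ⟨n, r, _, _, ⟨P⟩⟩ := hSS.out
  have hsurj := MvPolynomial.map_surjective (σ := n) π hΦ.surj
  choose F hF using fun j => hsurj (P.relation j)
  have hkerπ' := ker_π' π P F hF hΦ.surj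
  have hπ's := π'_surjective π P F hF hΦ.surj
  have hsq : RingHom.ker (π' π P F hF) ^ 2 = ⊥ := by
    rw [hkerπ', hΦ.ker_eq, Ideal.map_map, ← Ideal.map_pow, ker_res_sq, Ideal.map_bot]
  have hunit : IsUnit (preP P F).jacobian :=
    isUnit_of_map_of_nilpotent_ker _ hπ's hsq _ (by
      rw [π'_jacobian π P F hF]; exact P.jacobian_isUnit)
  let Q : Algebra.SubmersivePresentation B (Blift F) n r :=
    { preP P F with jacobian_isUnit := hunit }
  haveI : Algebra.IsStandardSmooth B (Blift F) := Q.isStandardSmooth
  have hpC : (p : C) = 0 := by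
    rw [← map_natCast (algebraMap k C) p, CharP.cast_eq_zero k p, map_zero]
  obtain ⟨Φ', hΦ'1, hΦ'2⟩ := exists_lift_ringHom (R := B) (S := Blift F) (T := Blift F) (U := C)
    ((algebraMap B (Blift F)).comp Φ) (π' π P F hF) hπ's ⟨2, hsq⟩
    ((powHom p Fact.out C hpC).comp (π' π P F hF)) (by
      ext b
      simp only [RingHom.comp_apply, π'_algebraMap]
      show (algebraMap A C (π b)) ^ p = _
      rw [hΦ.red, map_pow])
  refine ⟨Blift F, inferInstance, (algebraMap B (Blift F)).comp ι, π' π P F hF, Φ', ?_⟩
  refine { flat := ?_, surj := hπ's, ker_eq := ?_, comm := ?_, semi := ?_, red := ?_ }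
  · exact RingHom.Flat.comp hΦ.flat (RingHom.flat_algebraMap_iff.mpr inferInstance)
  · rw [hkerπ', hΦ.ker_eq, Ideal.map_map]
  · ext w
    have := RingHom.congr_fun hΦ.comm w
    simp only [RingHom.comp_apply] at this ⊢
    rw [π'_algebraMap, this, ← IsScalarTower.algebraMap_apply]
  · rw [← RingHom.comp_assoc, hΦ'1, RingHom.comp_assoc, hΦ.semi, RingHom.comp_assoc]
  · intro b
    exact RingHom.congr_fun hΦ'2 b

end Groth.Agent.S18155
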