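import Groth.Statements.S18156

set_option autoImplicit false
universe u v
open CAlg

namespace Groth.Agent.S18156

section aux

variable {k : Type u} [CommRing k] {A : Type v} [CommRing A] [Algebra k A]
  (I : Ideal A) (D : Derivation k A A)

/-- A derivation maps `I^(n+1)` into `I^n`. -/
theorem D_mem_pow (n : ℕ) : ∀ x ∈ I ^ (n + 1), D x ∈ I ^ n := by
  induction n with
  | zero => intro x _; simp
  | succ n ih =>
    intro x hx
    rw [pow_succ] at hx
    refine Submodule.mul_induction_on hx ?_ ?_
    · intro a ha b hb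
      rw [Derivation.leibniz]
      refine Ideal.add_mem _ ?_ ?_
      · rw [smul_eq_mul]
        exact Ideal.mul_mem_right _ _ ha
      · rw [smul_eq_mul, pow_succ, mul_comm b]
        exact Ideal.mul_mem_mul (ih a ha) hb
    · intro a b ha hb
      rw [map_add]
      exact Ideal.add_mem _ ha hb

theorem D_mem_pow_smul_top (n : ℕ) (x : A) (hx : x ∈ (I ^ (n + 1) • ⊤ : Ideal A)) :
    D x ∈ (I ^ n • ⊤ : Ideal A) := by
  have h : ∀ m : ℕ, (I ^ m • ⊤ : Ideal A) = I ^ m := fun m => by
    ext x; simp
  rw [h] at hx ⊢
  exact D_mem_pow I D n x hx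

/-- The map induced by `D` on the quotients. -/
noncomputable def Dn (n : ℕ) (x : A ⧸ (I ^ (n + 1) • ⊤ : Ideal A)) : A ⧸ (I ^ n • ⊤ : Ideal A) :=
  Quotient.liftOn' x (fun a => Submodule.Quotient.mk (D a)) (by
    intro a b hab
    rw [Submodule.quotientRel_def] at hab
    show Submodule.Quotient.mk (D a) = Submodule.Quotient.mk (D b)
    rw [Submodule.Quotient.eq, ← map_sub]
    exact D_mem_pow_smul_top I D n _ hab)

theorem Dn_mk (n : ℕ) (a : A) :
    Dn I D n (Submodule.Quotient.mk a) = Submodule.Quotient.mk (D a) := rfl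

theorem Dn_add (n : ℕ) (x y : A ⧸ (I ^ (n + 1) • ⊤ : Ideal A)) :
    Dn I D n (x + y) = Dn I D n x + Dn I D n y := by
  obtain ⟨a, rfl⟩ := Submodule.Quotient.mk_surjective _ x
  obtain ⟨b, rfl⟩ := Submodule.Quotient.mk_surjective _ y
  rw [← Submodule.Quotient.mk_add, Dn_mk, Dn_mk, Dn_mk, map_add, Submodule.Quotient.mk_add]

theorem Dn_smul (n : ℕ) (c : k) (x : A ⧸ (I ^ (n + 1) • ⊤ : Ideal A)) :
    Dn I D n (c • x) = c • Dn I D n x := by
  obtain ⟨a, rfl⟩ := Submodule.Quotient.mk_surjective _ x
  rw [← Submodule.Quotient.mk_smul, Dn_mk, Dn_mk, Derivation.map_smul, Submodule.Quotient.mk_smul]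

/-- The extension of `D` to the completion, as a function. -/
noncomputable def DhatFun (x : AdicCompletion I A) : AdicCompletion I A :=
  ⟨fun n => Dn I D n (x.val (n + 1)), by
    intro m n hmn
    obtain ⟨a, ha⟩ := Submodule.Quotient.mk_surjective _ (x.val (n + 1))
    have h1 : x.val (m + 1) = Submodule.Quotient.mk a := by
      rw [← x.property (Nat.succ_le_succ hmn), ← ha]; rfl
    simp only [h1, ← ha, Dn_mk]; rfl⟩

theorem DhatFun_val (x : AdicCompletion I A) (n : ℕ) :
    (DhatFun I D x).val n = Dn I D n (x.val (n + 1)) := rfl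

theorem val_of_val_succ (x : AdicCompletion I A) (n : ℕ) (a : A)
    (ha : x.val (n + 1) = Submodule.Quotient.mk a) : x.val n = Submodule.Quotient.mk a := by
  rw [← x.property (Nat.le_succ n), ha]; rfl

end aux

/-- Let k be a field and A a regular local ring that is a k-algebra, with maximal ideal m and m-adic
completion Â. Then every k-derivation D of A into itself extends to a k-derivation D̂ of Â into
itself along the canonical map ρ : A → Â, in the sense that D̂(ρ(a)) = ρ(D(a)) for every a ∈ A. (The
source works throughout over an algebraically closed field of characteristic p; neither assumption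
enters this statement.) -/
theorem result
    (k : Type u) [Field k] (A : Type v) [CommRing A] [Algebra k A] [IsRegularLocalRing A]
    (D : Derivation k A A) :
    ∃ Dhat : Derivation k (AdicCompletion (IsLocalRing.maximalIdeal A) A)
        (AdicCompletion (IsLocalRing.maximalIdeal A) A),
      ∀ a : A, Dhat (algebraMap A (AdicCompletion (IsLocalRing.maximalIdeal A) A) a) =
        algebraMap A (AdicCompletion (IsLocalRing.maximalIdeal A) A) (D a) := by
  set I := IsLocalRing.maximalIdeal A with hI
  refine ⟨Derivation.mk' 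
    { toFun := DhatFun I D
      map_add' := ?_
      map_smul' := ?_ } ?_, ?_⟩
  · intro x y
    apply AdicCompletion.ext
    intro n
    rw [DhatFun_val, AdicCompletion.val_add_apply, AdicCompletion.val_add_apply, Dn_add]
    rfl
  · intro c x
    apply AdicCompletion.ext
    intro n
    rw [DhatFun_val, AdicCompletion.val_smul_apply, Dn_smul]
    rfl
  · intro x y
    apply AdicCompletion.ext
    intro n
    obtain ⟨a, ha⟩ := Submodule.Quotient.mk_surjective _ (x.val (n + 1))
    obtain ⟨b, hb⟩ := Submodule.Quotient.mk_surjective _ (y.val (n + 1))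
    have ha' := val_of_val_succ I x n a ha.symm
    have hb' := val_of_val_succ I y n b hb.symm
    show (DhatFun I D (x * y)).val n = (x • DhatFun I D y + y • DhatFun I D x).val n
    rw [AdicCompletion.val_add_apply, DhatFun_val, AdicCompletion.val_mul, ← ha, ← hb]
    have e1 : (x • DhatFun I D y).val n = x.val n * (DhatFun I D y).val n := rfl
    have e2 : (y • DhatFun I D x).val n = y.val n * (DhatFun I D x).val n := rfl
    rw [e1, e2, DhatFun_val, DhatFun_val, ← ha, ← hb, ha', hb', Dn_mk, Dn_mk]
    have e3 : (Submodule.Quotient.mk a * Submodule.Quotient.mk b :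
        A ⧸ (I ^ (n + 1) • ⊤ : Ideal A)) = Submodule.Quotient.mk (a * b) := rfl
    rw [e3, Dn_mk, Derivation.leibniz]
    rfl
  · intro a
    apply AdicCompletion.ext
    intro n
    rfl

end Groth.Agent.S18156
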