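import Groth.Statements.S18177
import Groth.Agent.Lib.H40FunFldSeries

set_option autoImplicit false
open FunFld

namespace Groth.Agent.S18177

/-- Let `k` be an algebraically closed field of characteristic zero and `K/k` a function field of one
variable (the function field of a smooth projective curve over `k`). A `g^r_d` is a divisor `D` of
degree `d` with a subspace `V ⊆ L(D)` of dimension `r + 1`; for a place `P` and `n ≥ 0`, `V(-nP) = V
∩ L(D - nP)` is the space of members vanishing to order at least `n` at `P`, so `dim V(-nP)` counts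
the vanishing orders `m_0 < ⋯ < m_r` of `V` at `P` that are at least `n`, and the weight of `V` at
`P` is `∑_{n=1}^{d} dim V(-nP) - r(r+1)/2`. Let `(D, V)` be a `g^r_d` with `r ≥ 1` and `P ≠ Q`
places at which the weights are large: `w(V, P) + w(V, Q) ≥ (r+1)(d-r) - (r-1)`, that is `(r+1)d + 1
≤ ∑_{n=1}^{d} dim V(-nP) + ∑_{n=1}^{d} dim V(-nQ) + r`. Then `V` contains members with divisors `m_i
Q + (d - m_i) P` for two different indices `i`, and hence `m(Q - P)` is a principal divisor for some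
`1 ≤ m ≤ d`. (In the source `K` is an elliptic tail of a degenerate curve, `P` its node and `Q` the
limit of the moving ramification point, the weight hypothesis coming from `ρ ≤ 0`; it concludes that
only finitely many `Q` are possible. The torsion assertion holds in any genus and is what is stated
here.) (The source states this for curves over the complex numbers.) -/
theorem result
    (k : Type*) [Field k] [IsAlgClosed k] [CharZero k]
    (K : Type*) [Field K] [Algebra k K] (hK : FunFld.IsFunctionField k K)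
    (d r : ℕ) (hr : 1 ≤ r) (D : FunFld.Divisor k K) (hD : D.deg = d)
    (V : Submodule k K) (hV : V ≤ FunFld.L D) (hVr : Module.finrank k ↥V = r + 1)
    (P Q : FunFld.Place k K) (hPQ : P ≠ Q)
    (hw : (r + 1) * d + 1 ≤
      (∑ n ∈ Finset.range d, Module.finrank k ↥(V ⊓ FunFld.L (D - Finsupp.single P ((n : ℤ) + 1)))) +
        (∑ n ∈ Finset.range d, Module.finrank k ↥(V ⊓ FunFld.L (D - Finsupp.single Q ((n : ℤ) + 1)))) + r) :
    ∃ m : ℕ, 1 ≤ m ∧ m ≤ d ∧ ∃ h : K, h ≠ 0 ∧
      FunFld.div k h = Finsupp.single Q (m : ℤ) - Finsupp.single P (m : ℤ) := by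
  have hfin : FiniteDimensional k ↥V := Module.finite_of_finrank_pos (by omega)
  have hdegP := Groth.Agent.Lib.H40FunFld.deg_eq_one_of_isAlgClosed hK P
  have hdegQ := Groth.Agent.Lib.H40FunFld.deg_eq_one_of_isAlgClosed hK Q
  -- the dimension functions
  set a : ℕ → ℕ := Groth.Agent.Lib.H40FunFld.vdim V D P with ha
  set b : ℕ → ℕ := Groth.Agent.Lib.H40FunFld.vdim V D Q with hb
  have ha0 : a 0 = r + 1 := by rw [ha, Groth.Agent.Lib.H40FunFld.vdim_zero hV, hVr]
  have hb0 : b 0 = r + 1 := by rw [hb, Groth.Agent.Lib.H40FunFld.vdim_zero hV, hVr]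
  have hbstep : ∀ n, b n ≤ b (n + 1) + 1 := fun n =>
    Groth.Agent.Lib.H40FunFld.vdim_le_succ_add_one hK V D hdegQ n
  have hab : ∀ n, n ≤ d + 1 → a n + b (d + 1 - n) ≤ r + 1 := by
    intro n hn
    have h1 := Groth.Agent.Lib.H40FunFld.finrank_vanishing_add_le hK D hD V hPQ hn
    rw [hVr] at h1
    have e : (d : ℤ) + 1 - n = ((d + 1 - n : ℕ) : ℤ) := by omega
    rw [e] at h1
    exact h1
  have hw' : (r + 1) * d + 1 ≤
      (∑ n ∈ Finset.range d, a (n + 1)) + (∑ n ∈ Finset.range d, b (n + 1)) + r := by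
    have e1 : ∀ n : ℕ, a (n + 1) =
        Module.finrank k ↥(V ⊓ FunFld.L (D - Finsupp.single P ((n : ℤ) + 1))) := by
      intro n
      rw [ha]; unfold Groth.Agent.Lib.H40FunFld.vdim
      have : ((n + 1 : ℕ) : ℤ) = (n : ℤ) + 1 := by push_cast; ring
      rw [this]
    have e2 : ∀ n : ℕ, b (n + 1) =
        Module.finrank k ↥(V ⊓ FunFld.L (D - Finsupp.single Q ((n : ℤ) + 1))) := by
      intro n
      rw [hb]; unfold Groth.Agent.Lib.H40FunFld.vdim
      have : ((n + 1 : ℕ) : ℤ) = (n : ℤ) + 1 := by push_cast; ring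
      rw [this]
    simp only [e1, e2]
    exact hw
  obtain ⟨n₁, n₂, hlt, hn₂, h1, h2⟩ :=
    Groth.Agent.Lib.H40FunFld.exists_two_of_sum_large ha0 hb0 hbstep hab hw'
  obtain ⟨s₁, -, hs₁0, hs₁⟩ := Groth.Agent.Lib.H40FunFld.exists_section_of_vdim hK hD V hPQ
    (n := n₁) (by omega) (by rw [hVr]; exact h1)
  obtain ⟨s₂, -, hs₂0, hs₂⟩ := Groth.Agent.Lib.H40FunFld.exists_section_of_vdim hK hD V hPQ
    (n := n₂) hn₂ (by rw [hVr]; exact h2)
  refine ⟨n₂ - n₁, by omega, by omega, s₁ * s₂⁻¹, mul_ne_zero hs₁0 (inv_ne_zero hs₂0), ?_⟩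
  rw [Groth.Agent.Lib.H40FunFld.div_mul hK hs₁0 (inv_ne_zero hs₂0),
    Groth.Agent.Lib.H40FunFld.div_inv hK]
  have e1 : FunFld.div k s₁ = Finsupp.single P (n₁ : ℤ) + Finsupp.single Q ((d - n₁ : ℕ) : ℤ) - D :=
    by rw [← hs₁]; abel
  have e2 : FunFld.div k s₂ = Finsupp.single P (n₂ : ℤ) + Finsupp.single Q ((d - n₂ : ℕ) : ℤ) - D :=
    by rw [← hs₂]; abel
  rw [e1, e2]
  have c1 : ((d - n₁ : ℕ) : ℤ) = (d : ℤ) - n₁ := by omega
  have c2 : ((d - n₂ : ℕ) : ℤ) = (d : ℤ) - n₂ := by omega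
  have c3 : ((n₂ - n₁ : ℕ) : ℤ) = (n₂ : ℤ) - n₁ := by omega
  rw [c1, c2, c3]
  classical
  ext R
  simp only [Finsupp.add_apply, Finsupp.sub_apply, Finsupp.neg_apply, Finsupp.single_apply]
  split_ifs <;> ring

end Groth.Agent.S18177
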