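import Groth.Statements.S18188
import Mathlib
import Groth.Agent.Lib.RootSum57
-- import your own Groth.Agent.* helpers here

set_option autoImplicit false
universe u
open OrbRR

namespace Groth.Agent.S18188

open Finset Groth.Agent.Lib.RootSum57

theorem geom_root {K : Type*} [Field K] {N : ℕ} {ζ : K} (hζ : IsPrimitiveRoot ζ N) (t : ℕ) :
    ∑ i ∈ range N, ζ ^ (i * t) = if N ∣ t then (N : K) else 0 := by
  split_ifs with h
  · have : ∀ i ∈ range N, ζ ^ (i * t) = 1 := by
      intro i _
      rw [mul_comm, pow_mul, (hζ.pow_eq_one_iff_dvd t).mpr h, one_pow]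
    rw [Finset.sum_congr rfl this]; simp
  · have h1 : ζ ^ t ≠ 1 := fun h' => h ((hζ.pow_eq_one_iff_dvd t).mp h')
    have h2 : ∑ i ∈ range N, ζ ^ (i * t) = ∑ i ∈ range N, (ζ ^ t) ^ i := by
      refine Finset.sum_congr rfl fun i _ => ?_
      rw [mul_comm, pow_mul]
    rw [h2]
    have h3 := geom_sum_mul (ζ ^ t) N
    rw [← pow_mul, mul_comm t N, pow_mul, hζ.pow_eq_one, one_pow, sub_self] at h3
    rcases mul_eq_zero.mp h3 with h4 | h4
    · exact h4
    · exact absurd (sub_eq_zero.mp h4) h1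

/-- Let K be a field in which 6 ≠ 0, let j < N be natural numbers (so N ≥ 1), and let ζ ∈ K be a
primitive N-th root of unity. Then the sum over i = 1, …, N − 1 of ζ^{ij} / (2 − ζ^i − ζ^{−i})
equals j(j − N)/2 + (N² − 1)/12. (The published setting is characteristic zero; the identity is
stated here over any field of characteristic different from 2 and 3, where the published proof
applies unchanged: a field containing a primitive N-th root of unity has characteristic prime to N,
and each denominator 2 − ζ^i − ζ^{−i} = −(1 − ζ^i)²/ζ^i with 0 < i < N is nonzero. In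
characteristics 2 and 3 the right-hand side has no meaning.) -/
theorem result (K : Type u) [Field K] (h6 : (6 : K) ≠ 0)
    (N j : ℕ) (hj : j < N) (ζ : K) (hζ : IsPrimitiveRoot ζ N) :
    ∑ i ∈ Finset.Ioo 0 N, ζ ^ (i * j) / (2 - ζ ^ i - (ζ ^ i)⁻¹) =
      (j : K) * ((j : K) - (N : K)) / 2 + ((N : K) ^ 2 - 1) / 12 := by
  have hNpos : 0 < N := by omega
  have h2 : (2 : K) ≠ 0 := fun h => h6 (by linear_combination 3 * h)
  have : NeZero N := ⟨hNpos.ne'⟩
  have hN0 : (N : K) ≠ 0 := (hζ.neZero').ne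
  have hζ0 : ζ ≠ 0 := hζ.ne_zero hNpos.ne'
  set f : ℕ → K := fun l => (l : K) * ((l : K) - (N : K)) / 2 + ((N : K) ^ 2 - 1) / 12 with hf
  -- rewrite each term
  have hterm : ∀ i ∈ Finset.Ioo 0 N, ζ ^ (i * j) / (2 - ζ ^ i - (ζ ^ i)⁻¹) =
      (∑ l ∈ range N, f l * ζ ^ (i * (j + l))) / (N : K) := by
    intro i hi
    rw [Finset.mem_Ioo] at hi
    have hω : ζ ^ i ≠ 1 := hζ.pow_ne_one_of_pos_of_lt hi.1.ne' hi.2
    have hω0 : ζ ^ i ≠ 0 := pow_ne_zero _ hζ0
    have hω' : ζ ^ i - 1 ≠ 0 := sub_ne_zero.mpr hω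
    have hωN : (ζ ^ i) ^ N = 1 := by
      rw [← pow_mul, mul_comm, pow_mul, hζ.pow_eq_one, one_pow]
    have hq := sum_quad_root h2 (ζ ^ i) hω N hωN (((N : K) ^ 2 - 1) / 12)
    have hs : ∑ l ∈ range N, f l * ζ ^ (i * (j + l)) =
        ζ ^ (i * j) * ∑ l ∈ range N, f l * (ζ ^ i) ^ l := by
      rw [Finset.mul_sum]
      refine Finset.sum_congr rfl fun l _ => ?_
      rw [mul_add, pow_add, ← pow_mul]; ring
    rw [hs, hq]
    have hden : 2 - ζ ^ i - (ζ ^ i)⁻¹ ≠ 0 := by
      have : 2 - ζ ^ i - (ζ ^ i)⁻¹ = -(ζ ^ i - 1) ^ 2 / ζ ^ i := by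
        field_simp; ring
      rw [this]
      exact div_ne_zero (neg_ne_zero.mpr (pow_ne_zero _ hω')) hω0
    rw [div_eq_div_iff hden hN0]
    field_simp
    ring
  rw [Finset.sum_congr rfl hterm]
  -- extend to range N
  have hIoo : Finset.Ioo 0 N = (range N).erase 0 := by
    ext i; simp only [Finset.mem_Ioo, Finset.mem_erase, Finset.mem_range]; omega
  have h0 : (∑ l ∈ range N, f l * ζ ^ (0 * (j + l))) / (N : K) = 0 := by
    have : ∑ l ∈ range N, f l * ζ ^ (0 * (j + l)) = ∑ l ∈ range N, f l := by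
      refine Finset.sum_congr rfl fun l _ => ?_
      rw [zero_mul, pow_zero, mul_one]
    rw [this, sum_f_zero h6 N, zero_div]
  have hext : ∑ i ∈ Finset.Ioo 0 N, (∑ l ∈ range N, f l * ζ ^ (i * (j + l))) / (N : K) =
      ∑ i ∈ range N, (∑ l ∈ range N, f l * ζ ^ (i * (j + l))) / (N : K) := by
    rw [hIoo, ← Finset.add_sum_erase (range N) _ (Finset.mem_range.mpr hNpos), h0, zero_add]
  rw [hext, ← Finset.sum_div, Finset.sum_comm]
  have hinner : ∀ l ∈ range N, ∑ i ∈ range N, f l * ζ ^ (i * (j + l)) =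
      f l * (if N ∣ j + l then (N : K) else 0) := by
    intro l _
    rw [← Finset.mul_sum, geom_root hζ]
  rw [Finset.sum_congr rfl hinner]
  -- only l = (N - j) % N contributes
  have hdvd : ∀ l ∈ range N, (N ∣ j + l) ↔ l = (N - j) % N := by
    intro l hl
    rw [Finset.mem_range] at hl
    constructor
    · rintro ⟨c, hc⟩
      have hc1 : c = 0 ∨ c = 1 := by
        rcases c with _ | _ | c
        · left; rfl
        · right; rfl
        · exfalso; nlinarith
      rcases hc1 with rfl | rfl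
      · have : j = 0 := by omega
        have : l = 0 := by omega
        subst_vars; simp
      · have : l = N - j := by omega
        rw [this]
        rcases Nat.eq_zero_or_pos j with rfl | hjpos
        · omega
        · rw [Nat.mod_eq_of_lt (by omega)]
    · intro h
      rcases Nat.eq_zero_or_pos j with rfl | hjpos
      · rw [Nat.sub_zero, Nat.mod_self] at h; subst h; simp
      · rw [Nat.mod_eq_of_lt (by omega)] at h
        subst h
        exact ⟨1, by omega⟩
  have hsum2 : ∑ l ∈ range N, f l * (if N ∣ j + l then (N : K) else 0) =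
      ∑ l ∈ range N, if l = (N - j) % N then f l * (N : K) else 0 := by
    refine Finset.sum_congr rfl fun l hl => ?_
    by_cases h : N ∣ j + l
    · rw [if_pos h, if_pos ((hdvd l hl).mp h)]
    · rw [if_neg h, if_neg (fun h' => h ((hdvd l hl).mpr h')), mul_zero]
  rw [hsum2, Finset.sum_ite_eq' (range N) ((N - j) % N),
    if_pos (Finset.mem_range.mpr (Nat.mod_lt _ hNpos))]
  rw [mul_div_assoc, div_self hN0, mul_one]
  rcases Nat.eq_zero_or_pos j with rfl | hjpos
  · rw [Nat.sub_zero, Nat.mod_self]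
  · rw [Nat.mod_eq_of_lt (by omega)]
    simp only [hf]
    rw [Nat.cast_sub hj.le]
    ring

end Groth.Agent.S18188
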