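import Groth.Statements.S18189
import Mathlib
import Groth.Agent.Lib.RootSum57
-- import your own Groth.Agent.* helpers here

set_option autoImplicit false
open OrbRR

namespace Groth.Agent.S18189

open Finset Groth.Agent.Lib.RootSum57

theorem key_pos (ω : ℂ) (hn : ‖ω‖ = 1) (hω : ω ≠ 1) :
    (-ω / (ω - 1) ^ 2).im = 0 ∧ 0 ≤ (-ω / (ω - 1) ^ 2).re := by
  have hω0 : ω ≠ 0 := by
    intro h; rw [h] at hn; simp at hn
  have hω' : ω - 1 ≠ 0 := sub_ne_zero.mpr hω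
  have hconj : (starRingEnd ℂ) ω = ω⁻¹ := (Complex.inv_eq_conj hn).symm
  have h1 : ((Complex.normSq (1 - ω) : ℝ) : ℂ) = (1 - ω) * (1 - ω⁻¹) := by
    rw [← Complex.mul_conj, map_sub, map_one, hconj]
  have h2 : -ω / (ω - 1) ^ 2 = (((Complex.normSq (1 - ω))⁻¹ : ℝ) : ℂ) := by
    rw [Complex.ofReal_inv, h1]
    field_simp
    ring
  rw [h2]
  refine ⟨Complex.ofReal_im _, ?_⟩
  rw [Complex.ofReal_re]
  exact inv_nonneg.mpr (Complex.normSq_nonneg _)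


/-- Let N ≥ 1 be a natural number, let ζ ∈ ℂ be a primitive N-th root of unity, and put f(i) = i(i −
N)/2 + (N² − 1)/12 for 0 ≤ i < N. For every natural number m the complex number ε_m = (1/N)
∑_{i=0}^{N−1} f(i) ζ^{mi}, an eigenvalue of the symmetric circulant N × N matrix with (i, j) entry
f(j − i)/N, is real and nonnegative. -/
theorem result (N : ℕ) (hN : 0 < N) (ζ : ℂ)
    (hζ : IsPrimitiveRoot ζ N) (m : ℕ) :
    (∑ i ∈ Finset.range N,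
        ((i : ℂ) * ((i : ℂ) - (N : ℂ)) / 2 + ((N : ℂ) ^ 2 - 1) / 12) / (N : ℂ) * ζ ^ (m * i)).im = 0 ∧
    0 ≤ (∑ i ∈ Finset.range N,
        ((i : ℂ) * ((i : ℂ) - (N : ℂ)) / 2 + ((N : ℂ) ^ 2 - 1) / 12) / (N : ℂ) * ζ ^ (m * i)).re := by
  have hN0 : (N : ℂ) ≠ 0 := by exact_mod_cast hN.ne'
  have hsum : (∑ i ∈ Finset.range N,
        ((i : ℂ) * ((i : ℂ) - (N : ℂ)) / 2 + ((N : ℂ) ^ 2 - 1) / 12) / (N : ℂ) * ζ ^ (m * i)) =
      (∑ i ∈ Finset.range N,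
        ((i : ℂ) * ((i : ℂ) - (N : ℂ)) / 2 + ((N : ℂ) ^ 2 - 1) / 12) * (ζ ^ m) ^ i) / (N : ℂ) := by
    rw [Finset.sum_div]
    refine Finset.sum_congr rfl fun i _ => ?_
    rw [pow_mul]; ring
  rw [hsum]
  have hωN : (ζ ^ m) ^ N = 1 := by
    rw [← pow_mul, mul_comm, pow_mul, hζ.pow_eq_one, one_pow]
  by_cases hω : ζ ^ m = 1
  · rw [hω]
    simp only [one_pow, mul_one]
    rw [sum_f_zero (by norm_num) N]
    simp
  · rw [sum_quad_root (by norm_num) _ hω N hωN]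
    have : -(N : ℂ) * ζ ^ m / (ζ ^ m - 1) ^ 2 / (N : ℂ) = -(ζ ^ m) / (ζ ^ m - 1) ^ 2 := by
      field_simp
    rw [this]
    exact key_pos _ (Complex.norm_eq_one_of_pow_eq_one hωN hN.ne') hω

end Groth.Agent.S18189
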