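import Groth.Statements.S18190
import Mathlib

set_option autoImplicit false
open OrbRR

namespace Groth.Agent.S18190

open Finset Matrix in
lemma psd_of_laplacian {N : ℕ} [NeZero N] (c : ZMod N → ℝ) (h1 : ∀ d, c (-d) = c d)
    (h2 : ∑ d, c d = 0)
    (h3 : ∀ d, 2 * c d - c (d - 1) - c (d + 1) = (if d = 0 then 1 else 0) - 1 / (N : ℝ)) :
    (Matrix.of fun i j : ZMod N => c (j - i)).PosSemidef := by
  refine Matrix.PosSemidef.of_dotProduct_mulVec_nonneg ?_ ?_
  · ext i j
    simp only [Matrix.conjTranspose_apply, Matrix.of_apply, star_trivial]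
    rw [← h1 (i - j), neg_sub]
  · intro x
    set y : ZMod N → ℝ := fun i => ∑ j, c (j - i) * x j with hy
    have hquad : star x ⬝ᵥ ((Matrix.of fun i j : ZMod N => c (j - i)) *ᵥ x) = ∑ i, x i * y i := by
      simp [dotProduct, Matrix.mulVec, hy]
    rw [hquad]
    have hsumy : ∑ i, y i = 0 := by
      simp only [hy]
      rw [Finset.sum_comm]
      have : ∀ j, ∑ i, c (j - i) * x j = 0 := by
        intro j
        rw [← Finset.sum_mul]
        have : ∑ i, c (j - i) = ∑ d, c d := Equiv.sum_comp (Equiv.subLeft j) c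
        rw [this, h2, zero_mul]
      simp [this]
    have hlap : ∀ i, 2 * y i - y (i + 1) - y (i - 1) = x i - (∑ j, x j) / N := by
      intro i
      simp only [hy]
      have : ∀ j, 2 * (c (j - i) * x j) - c (j - (i + 1)) * x j - c (j - (i - 1)) * x j =
          ((if j - i = 0 then 1 else 0) - 1 / (N : ℝ)) * x j := by
        intro j
        rw [← h3 (j - i)]
        have e1 : j - (i + 1) = j - i - 1 := by ring
        have e2 : j - (i - 1) = j - i + 1 := by ring
        rw [e1, e2]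
        ring
      rw [Finset.mul_sum, ← Finset.sum_sub_distrib, ← Finset.sum_sub_distrib]
      rw [Finset.sum_congr rfl (fun j _ => this j)]
      simp only [sub_mul, Finset.sum_sub_distrib, ite_mul, one_mul, zero_mul, sub_eq_zero]
      rw [Finset.sum_ite_eq' Finset.univ i (fun j => x j)]
      simp [Finset.mul_sum, div_eq_inv_mul]
    have hshift1 : ∑ i, y (i + 1) * y (i + 1) = ∑ i, y i * y i :=
      Equiv.sum_comp (Equiv.addRight (1 : ZMod N)) (fun i => y i * y i)
    have hshift2 : ∑ i, y i * y (i - 1) = ∑ i, y (i + 1) * y i := by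
      rw [← Equiv.sum_comp (Equiv.addRight (1 : ZMod N)) (fun i => y i * y (i - 1))]
      simp
    have key : ∑ i, x i * y i = ∑ i, (y (i + 1) - y i) ^ 2 := by
      have e1 : ∑ i, y i * (2 * y i - y (i + 1) - y (i - 1)) = ∑ i, x i * y i := by
        simp_rw [hlap, mul_sub, Finset.sum_sub_distrib, ← Finset.sum_mul, hsumy, zero_mul, sub_zero]
        exact Finset.sum_congr rfl fun i _ => mul_comm _ _
      rw [← e1]
      have e2 : ∑ i, (y (i + 1) - y i) ^ 2 =
          ∑ i, y (i + 1) * y (i + 1) - 2 * ∑ i, y (i + 1) * y i + ∑ i, y i * y i := by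
        rw [Finset.mul_sum, ← Finset.sum_sub_distrib, ← Finset.sum_add_distrib]
        exact Finset.sum_congr rfl fun i _ => by ring
      have e3 : ∑ i, y i * (2 * y i - y (i + 1) - y (i - 1)) =
          2 * ∑ i, y i * y i - ∑ i, y (i + 1) * y i - ∑ i, y i * y (i - 1) := by
        rw [Finset.mul_sum, ← Finset.sum_sub_distrib, ← Finset.sum_sub_distrib]
        exact Finset.sum_congr rfl fun i _ => by ring
      rw [e2, e3, hshift1, hshift2]
      ring
    rw [key]
    exact Finset.sum_nonneg fun i _ => sq_nonneg _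

noncomputable def cfun (N : ℕ) (d : ZMod N) : ℝ :=
  (((d.val : ℝ) * ((d.val : ℝ) - (N : ℝ))) / 2 + ((N : ℝ) ^ 2 - 1) / 12) / (N : ℝ)

lemma cfun_neg (N : ℕ) [NeZero N] (d : ZMod N) : cfun N (-d) = cfun N d := by
  unfold cfun
  rw [ZMod.neg_val]
  split_ifs with h
  · subst h; simp
  · have hlt : d.val < N := ZMod.val_lt d
    rw [Nat.cast_sub hlt.le]
    ring

lemma cfun_sum (N : ℕ) [NeZero N] : ∑ d : ZMod N, cfun N d = 0 := by
  obtain ⟨n, rfl⟩ := Nat.exists_eq_succ_of_ne_zero (NeZero.ne N)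
  have h : ∀ m : ℕ, ∑ v ∈ Finset.range m,
      ((((v : ℝ) * ((v : ℝ) - ((n + 1 : ℕ) : ℝ))) / 2 + (((n + 1 : ℕ) : ℝ) ^ 2 - 1) / 12) /
        ((n + 1 : ℕ) : ℝ)) =
      (((m : ℝ) - 1) * m * (2 * m - 1) / 12 - ((n + 1 : ℕ) : ℝ) * m * (m - 1) / 4 +
        ((((n + 1 : ℕ) : ℝ)) ^ 2 - 1) / 12 * m) / ((n + 1 : ℕ) : ℝ) := by
    intro m
    induction m with
    | zero => simp
    | succ m ih =>
      rw [Finset.sum_range_succ, ih]
      push_cast
      ring
  have h2 : ∑ d : ZMod (n + 1), cfun (n + 1) d =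
      ∑ v ∈ Finset.range (n + 1),
      ((((v : ℝ) * ((v : ℝ) - ((n + 1 : ℕ) : ℝ))) / 2 + (((n + 1 : ℕ) : ℝ) ^ 2 - 1) / 12) /
        ((n + 1 : ℕ) : ℝ)) := by
    rw [← Fin.sum_univ_eq_sum_range]
    rfl
  rw [h2, h]
  have hne : ((n + 1 : ℕ) : ℝ) ≠ 0 := by positivity
  push_cast
  field_simp
  ring

lemma cfun_lap (N : ℕ) [NeZero N] (d : ZMod N) :
    2 * cfun N d - cfun N (d - 1) - cfun N (d + 1) = (if d = 0 then 1 else 0) - 1 / (N : ℝ) := by
  have hNpos : (0 : ℝ) < N := by exact_mod_cast Nat.pos_of_ne_zero (NeZero.ne N)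
  have hNne : (N : ℝ) ≠ 0 := hNpos.ne'
  have hlt : d.val < N := ZMod.val_lt d
  -- value of d + 1
  have hadd : (((d + 1).val : ℝ) * (((d + 1).val : ℝ) - N)) =
      ((d.val : ℝ) + 1) * ((d.val : ℝ) + 1 - N) := by
    rw [ZMod.val_add, ZMod.val_one_eq_one_mod, Nat.add_mod_mod]
    rcases Nat.lt_or_ge (d.val + 1) N with h | h
    · rw [Nat.mod_eq_of_lt h]; push_cast; ring
    · have : d.val + 1 = N := le_antisymm hlt h
      rw [this, Nat.mod_self]
      have : (d.val : ℝ) + 1 = N := by exact_mod_cast this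
      rw [this]; simp
  by_cases hd : d = 0
  · subst hd
    simp only [if_true]
    have hsub : ((0 - 1 : ZMod N).val : ℝ) = (N : ℝ) - 1 := by
      rw [zero_sub, ZMod.neg_val]
      split_ifs with h1
      · have : N = 1 := by
          by_contra hN
          have : Fact (1 < N) := ⟨lt_of_le_of_ne (Nat.pos_of_ne_zero (NeZero.ne N)) (Ne.symm hN)⟩
          exact one_ne_zero h1
        subst this; simp
      · have h1' : (1 : ZMod N).val ≤ N := (ZMod.val_lt _).le
        rw [Nat.cast_sub h1']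
        have : N ≠ 1 := by
          rintro rfl
          exact h1 (Subsingleton.elim _ _)
        have : Fact (1 < N) := ⟨lt_of_le_of_ne (Nat.pos_of_ne_zero (NeZero.ne N)) (Ne.symm this)⟩
        rw [ZMod.val_one]; simp
    unfold cfun
    rw [hadd, hsub]
    simp only [ZMod.val_zero, Nat.cast_zero]
    field_simp
    ring
  · simp only [if_neg hd]
    have hv : 1 ≤ d.val := Nat.one_le_iff_ne_zero.2 (by rwa [Ne, ZMod.val_eq_zero])
    have hN2 : Fact (1 < N) := ⟨lt_of_le_of_lt hv hlt⟩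
    have hsub : ((d - 1).val : ℝ) = (d.val : ℝ) - 1 := by
      rw [ZMod.val_sub (by rw [ZMod.val_one]; exact hv), ZMod.val_one, Nat.cast_sub hv]
      simp
    unfold cfun
    rw [hadd, hsub]
    field_simp
    ring


/-- Let N ≥ 1 and let f : ℤ/Nℤ → ℚ be f(x) = x(x − N)/2 + (N² − 1)/12, where x is read as its
representative with 0 ≤ x < N. The real N × N matrix indexed by ℤ/Nℤ whose (i, j) entry is f(j −
i)/N, a symmetric circulant matrix, is positive semidefinite. -/
theorem result (N : ℕ) [NeZero N] :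
    (Matrix.of fun i j : ZMod N =>
        ((((j - i).val : ℝ) * (((j - i).val : ℝ) - (N : ℝ))) / 2 + ((N : ℝ) ^ 2 - 1) / 12) / (N : ℝ)).PosSemidef := by
  exact psd_of_laplacian (cfun N) (cfun_neg N) (cfun_sum N) (cfun_lap N)

end Groth.Agent.S18190
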