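import Groth.Statements.S18195
import Groth.Agent.Lib.LocImm3

set_option autoImplicit false
universe u
open LocImm

namespace Groth.Agent.S18195

set_option backward.isDefEq.respectTransparency.types false in
open CategoryTheory AlgebraicGeometry in
/-- Let `f : X ⟶ Y` and `g : Y ⟶ Z` be morphisms of Noetherian schemes with `g` separated and `f ≫ g` a
localizing immersion (localizing and injective on points). If `f` has schematically dense image,
i.e. each ring map `Γ(Y, U) → Γ(X, f⁻¹U)` is injective, then `f` is a localizing immersion. -/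
theorem result {X Y Z : Scheme.{u}} [IsNoetherian X] [IsNoetherian Y] [IsNoetherian Z]
    (f : X ⟶ Y) (g : Y ⟶ Z) (hfg : LocImm.IsLocImmersion (f ≫ g)) [IsSeparated g]
    (hd : ∀ U : Y.Opens, Function.Injective (f.app U).hom) : LocImm.IsLocImmersion f := by
  open Limits Groth.Agent.Lib.LocImm in
  have hsnd : LocImm.IsLocImmersion (pullback.snd (f ≫ g) g) :=
    IsLocImmersion.pullback_snd g hfg
  let Γ : X ⟶ pullback (f ≫ g) g := pullback.lift (𝟙 X) f (by simp)
  have hΓ1 : Γ ≫ pullback.fst (f ≫ g) g = 𝟙 X := pullback.lift_fst _ _ _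
  have hΓ2 : Γ ≫ pullback.snd (f ≫ g) g = f := pullback.lift_snd _ _ _
  have : IsClosedImmersion (Γ ≫ pullback.fst (f ≫ g) g) := by rw [hΓ1]; infer_instance
  have hΓc : IsClosedImmersion Γ := IsClosedImmersion.of_comp Γ (pullback.fst (f ≫ g) g)
  have hfker : f.ker = ⊥ := by
    ext U : 2
    rw [Scheme.Hom.ker_apply]
    simp only [Scheme.IdealSheafData.ideal_bot, Pi.bot_apply]
    exact (RingHom.injective_iff_ker_eq_bot _).1 (hd U.1)
  have hker : Γ.ker = ⊥ := by
    apply eq_bot_of_map_eq_bot (pullback.snd (f ≫ g) g) hsnd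
    rw [Scheme.IdealSheafData.map_ker, hΓ2, hfker]
  have hiso : IsIso Γ := IsClosedImmersion.isIso_iff_ker_eq_bot.2 hker
  have hloc : LocImm.IsLocalizing (Γ ≫ pullback.snd (f ≫ g) g) :=
    (MorphismProperty.cancel_left_of_respectsIso @LocImm.IsLocalizing.{u} Γ
      (pullback.snd (f ≫ g) g)).2 hsnd.1
  have hinj : Function.Injective (Γ ≫ pullback.snd (f ≫ g) g) := by
    have hc : (⇑(Γ ≫ pullback.snd (f ≫ g) g) : X → Y) = pullback.snd (f ≫ g) g ∘ Γ := by
      ext; simp
    rw [hc]
    exact hsnd.2.comp Γ.homeomorph.injective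
  rw [hΓ2] at hloc hinj
  exact ⟨hloc, hinj⟩

end Groth.Agent.S18195
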