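import Groth.Statements.S18196
import Groth.Agent.Lib.LocImm

set_option autoImplicit false
universe u
open LocImm

namespace Groth.Agent.S18196

open CategoryTheory AlgebraicGeometry in
/-- Let `f : X ⟶ Y` and `g : Y ⟶ Z` be morphisms of Noetherian schemes with `g` separated and `f ≫ g` a
localizing immersion (localizing and injective on points). If `f` is proper then `f` is a closed
immersion. -/
theorem result {X Y Z : Scheme.{u}} [IsNoetherian X] [IsNoetherian Y] [IsNoetherian Z]
    (f : X ⟶ Y) (g : Y ⟶ Z) (hfg : LocImm.IsLocImmersion (f ≫ g)) [IsSeparated g] [IsProper f] : IsClosedImmersion f := by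
  have hcomp : (⇑(f ≫ g) : X → Z) = g ∘ f := by ext; simp
  have hinj : Function.Injective f := by
    have h2 := hfg.2
    change Function.Injective ⇑(f ≫ g) at h2
    rw [hcomp] at h2
    exact h2.of_comp
  have hce : Topology.IsClosedEmbedding f :=
    Topology.IsClosedEmbedding.of_continuous_injective_isClosedMap f.continuous hinj f.isClosedMap
  refine { stalkMap_surjective := fun x => ?_, isClosedEmbedding := hce }
  have hiso : IsIso ((f ≫ g).stalkMap x) :=
    Groth.Agent.Lib.LocImm.IsLocalizing.isIso_stalkMap hfg.1 x
  rw [Scheme.Hom.stalkMap_comp] at hiso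
  have hbij : Function.Bijective (g.stalkMap (f x) ≫ f.stalkMap x) :=
    (ConcreteCategory.isIso_iff_bijective _).1 hiso
  have : (⇑(g.stalkMap (f x) ≫ f.stalkMap x)) = f.stalkMap x ∘ g.stalkMap (f x) := by
    ext; simp
  rw [this] at hbij
  exact hbij.2.of_comp

end Groth.Agent.S18196
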