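import Groth.Statements.S18199
import Groth.Agent.Lib.LocImm11

set_option autoImplicit false
universe u
open LocImm

namespace Groth.Agent.S18199

open CategoryTheory AlgebraicGeometry in
/-- A separated, universally closed morphism of Noetherian schemes that is essentially of finite type is
proper; thus no new class of proper-like morphisms arises among essentially finite-type ones. -/
theorem result {X S : Scheme.{u}} [IsNoetherian X] [IsNoetherian S] (f : X ⟶ S) [IsSeparated f] [EssFT.EssFiniteType f] [UniversallyClosed f] : IsProper f := by
  obtain ⟨Y, k, p, hY, hk, hs, hl, hq, hkp⟩ := Groth.Agent.Lib.LocImm.hasFact_of_essFiniteType f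
  have huc : UniversallyClosed k := by
    have : UniversallyClosed (k ≫ p) := by rw [hkp]; infer_instance
    exact MorphismProperty.of_postcomp (W := @UniversallyClosed) (W' := @IsSeparated) k p hs this
  have hcl : IsClosed (Set.range k) := k.isClosedMap.isClosed_range
  have hopen : IsOpenImmersion k :=
    Groth.Agent.Lib.LocImm.IsLocImmersion.isOpenImmersion_of_isClosed_range hk hcl
  have hlft : LocallyOfFiniteType f := by rw [← hkp]; infer_instance
  exact { }

end Groth.Agent.S18199
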