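import Groth.Statements.S18201
import Groth.Agent.Lib.LocImm12

set_option autoImplicit false
universe u
open LocImm

namespace Groth.Agent.S18201

open CategoryTheory AlgebraicGeometry in
/-- Let `P` be a property of morphisms of schemes such that (α) for every separated, essentially
finite-type `f : X ⟶ Y` of Noetherian schemes and every localizing immersion `i : W ⟶ X` (`W`
Noetherian; localizing and injective on points), `P f` implies `P (i ≫ f)`; and (β) for every
separated finite-type `f : X ⟶ Y` of Noetherian schemes, (i) `P f` holds whenever `P` holds for each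
composite `Spec O_{X,x} ⟶ X ⟶ Y`, and (ii) the set of `x` for which that composite satisfies `P` is
open. Then (i) and (ii) hold for every separated, essentially finite-type `f : X ⟶ Y` of Noetherian
schemes, and any such `f` with `P f` factors as a localizing immersion `X ⟶ Z` (`Z` Noetherian)
followed by a separated morphism of finite type `h : Z ⟶ Y` satisfying `P`. -/
theorem result (P : MorphismProperty Scheme.{u})
    (hα : ∀ {W X Y : Scheme.{u}} [IsNoetherian W] [IsNoetherian X] [IsNoetherian Y] (i : W ⟶ X) (f : X ⟶ Y) [IsSeparated f] [EssFT.EssFiniteType f], LocImm.IsLocImmersion i → P f → P (i ≫ f))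
    (hβ₁ : ∀ {X Y : Scheme.{u}} [IsNoetherian X] [IsNoetherian Y] (f : X ⟶ Y) [IsSeparated f] [LocallyOfFiniteType f], (∀ x : X, P (X.fromSpecStalk x ≫ f)) → P f)
    (hβ₂ : ∀ {X Y : Scheme.{u}} [IsNoetherian X] [IsNoetherian Y] (f : X ⟶ Y) [IsSeparated f] [LocallyOfFiniteType f], IsOpen {x : X | P (X.fromSpecStalk x ≫ f)})
    {X Y : Scheme.{u}} [IsNoetherian X] [IsNoetherian Y] (f : X ⟶ Y) [IsSeparated f] [EssFT.EssFiniteType f] :
    ((∀ x : X, P (X.fromSpecStalk x ≫ f)) → P f) ∧ IsOpen {x : X | P (X.fromSpecStalk x ≫ f)} ∧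
      (P f → ∃ (Z : Scheme.{u}) (i : X ⟶ Z) (h : Z ⟶ Y), IsNoetherian Z ∧ LocImm.IsLocImmersion i ∧ IsSeparated h ∧ LocallyOfFiniteType h ∧ QuasiCompact h ∧ P h ∧ i ≫ h = f) := by
  obtain ⟨Z, k, p, hZ, hk, hs, hl, hq, hkp⟩ := Groth.Agent.Lib.LocImm.hasFact_of_essFiniteType f
  have hpess : EssFT.EssFiniteType p := { }
  have hstalk : ∀ x : X, IsIso (k.stalkMap x) := fun x =>
    Groth.Agent.Lib.LocImm.IsLocalizing.isIso_stalkMap hk.1 x
  -- transfer lemma
  have T : ∀ {A B : Scheme.{u}} [IsNoetherian A] [IsNoetherian B] (g : A ⟶ B) (q : B ⟶ Y)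
      [IsSeparated q] (hq : EssFT.LocallyEssFiniteType q) (x : A) [IsIso (g.stalkMap x)],
      P (B.fromSpecStalk (g x) ≫ q) → P (A.fromSpecStalk x ≫ g ≫ q) := by
    intro A B _ _ g q _ hq x _ hP
    have h1 : Spec.map (g.stalkMap x) ≫ B.fromSpecStalk (g x) = A.fromSpecStalk x ≫ g :=
      Scheme.SpecMap_stalkMap_fromSpecStalk g
    have e : A.fromSpecStalk x ≫ g ≫ q = Spec.map (g.stalkMap x) ≫ B.fromSpecStalk (g x) ≫ q := by
      rw [← Category.assoc, ← h1, Category.assoc]
    rw [e]
    have : EssFT.EssFiniteType (B.fromSpecStalk (g x) ≫ q) :=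
      Groth.Agent.Lib.LocImm.essFiniteType_comp _ _
        (Groth.Agent.Lib.LocImm.locallyEssFiniteType_of_isLocalizing
          (Groth.Agent.Lib.LocImm.isLocImmersion_fromSpecStalk B (g x)).1) hq
    exact hα (Spec.map (g.stalkMap x)) (B.fromSpecStalk (g x) ≫ q)
      (Groth.Agent.Lib.LocImm.isLocImmersion_of_isIso _) hP
  have T' : ∀ x : X, P (X.fromSpecStalk x ≫ f) → P (Z.fromSpecStalk (k x) ≫ p) := by
    intro x hP
    have h1 : Spec.map (k.stalkMap x) ≫ Z.fromSpecStalk (k x) = X.fromSpecStalk x ≫ k :=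
      Scheme.SpecMap_stalkMap_fromSpecStalk k
    have e : Z.fromSpecStalk (k x) ≫ p = Spec.map (inv (k.stalkMap x)) ≫ X.fromSpecStalk x ≫ f := by
      calc Z.fromSpecStalk (k x) ≫ p
          = Spec.map (inv (k.stalkMap x)) ≫ (Spec.map (k.stalkMap x) ≫ Z.fromSpecStalk (k x)) ≫ p := by
            rw [← Category.assoc (Spec.map (inv (k.stalkMap x))), ← Category.assoc (Spec.map (inv (k.stalkMap x))),
              ← Spec.map_comp, IsIso.hom_inv_id, Spec.map_id, Category.id_comp]
        _ = Spec.map (inv (k.stalkMap x)) ≫ X.fromSpecStalk x ≫ f := by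
            rw [h1, Category.assoc, hkp]
    rw [e]
    have : EssFT.EssFiniteType (X.fromSpecStalk x ≫ f) :=
      Groth.Agent.Lib.LocImm.essFiniteType_comp _ _
        (Groth.Agent.Lib.LocImm.locallyEssFiniteType_of_isLocalizing
          (Groth.Agent.Lib.LocImm.isLocImmersion_fromSpecStalk X x).1) inferInstance
    exact hα (Spec.map (inv (k.stalkMap x))) (X.fromSpecStalk x ≫ f)
      (Groth.Agent.Lib.LocImm.isLocImmersion_of_isIso _) hP
  have hiff : ∀ x : X, P (X.fromSpecStalk x ≫ f) ↔ P (Z.fromSpecStalk (k x) ≫ p) := by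
    intro x
    refine ⟨T' x, fun h => ?_⟩
    have := T k p hpess.toLocallyEssFiniteType x h
    rwa [hkp] at this
  -- the open set
  have hOopen : IsOpen {z : Z | P (Z.fromSpecStalk z ≫ p)} := hβ₂ p
  let O : Z.Opens := ⟨{z : Z | P (Z.fromSpecStalk z ≫ p)}, hOopen⟩
  have key : (∀ x : X, P (X.fromSpecStalk x ≫ f)) →
      ∃ (Z' : Scheme.{u}) (i : X ⟶ Z') (h : Z' ⟶ Y), IsNoetherian Z' ∧ LocImm.IsLocImmersion i ∧
        IsSeparated h ∧ LocallyOfFiniteType h ∧ QuasiCompact h ∧ P h ∧ i ≫ h = f := by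
    intro hall
    have hNO : IsNoetherian (O : Scheme.{u}) := Groth.Agent.Lib.LocImm.isNoetherian_opens O
    have hrange : Set.range k ⊆ O := by
      rintro _ ⟨x, rfl⟩
      exact (hiff x).1 (hall x)
    let k' : X ⟶ O := IsOpenImmersion.lift O.ι k (by simpa using hrange)
    have hk' : k' ≫ O.ι = k := IsOpenImmersion.lift_fac _ _ _
    have hlk' : LocImm.IsLocImmersion k' := by
      refine ⟨MorphismProperty.of_postcomp (W := @LocImm.IsLocalizing.{u}) (W' := @IsOpenImmersion)
        k' O.ι inferInstance (by rw [hk']; exact hk.1), ?_⟩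
      have hi : Function.Injective (k' ≫ O.ι) := by rw [hk']; exact hk.2
      have hc : (⇑(k' ≫ O.ι) : X → Z) = O.ι ∘ k' := by ext; simp
      rw [hc] at hi
      exact hi.of_comp
    have hPp' : P (O.ι ≫ p) := by
      refine hβ₁ (O.ι ≫ p) fun z' => ?_
      exact T O.ι p hpess.toLocallyEssFiniteType z' z'.2
    exact ⟨O, k', O.ι ≫ p, hNO, hlk', inferInstance, inferInstance, inferInstance, hPp',
      by rw [← Category.assoc, hk', hkp]⟩
  refine ⟨fun hall => ?_, ?_, fun hPf => ?_⟩
  · obtain ⟨Z', i, h, hZ', hi, hs', hl', hq', hPh, hih⟩ := key hall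
    have : EssFT.EssFiniteType h := { }
    rw [← hih]
    exact hα i h hi hPh
  · have : {x : X | P (X.fromSpecStalk x ≫ f)} = k ⁻¹' {z : Z | P (Z.fromSpecStalk z ≫ p)} := by
      ext x
      exact hiff x
    rw [this]
    exact hOopen.preimage k.continuous
  · refine key fun x => ?_
    exact hα (X.fromSpecStalk x) f (Groth.Agent.Lib.LocImm.isLocImmersion_fromSpecStalk X x) hPf

end Groth.Agent.S18201
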