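import Groth.Statements.S18213
import Groth.Agent.S18201
import Groth.Agent.S0386
import Groth.Agent.Lib.LocImm12

set_option autoImplicit false
universe u
open LocImm

namespace Groth.Agent.S18213

open CategoryTheory AlgebraicGeometry in
theorem flat_fromSpecStalk_comp_iff {X Y : Scheme.{u}} (f : X ⟶ Y)
    (hopen : IsOpen {x : X | (f.stalkMap x).hom.Flat}) (x : X) :
    Flat (X.fromSpecStalk x ≫ f) ↔ (f.stalkMap x).hom.Flat := by
  have hloc : ∀ z, IsIso ((X.fromSpecStalk x).stalkMap z) := fun z =>
    Groth.Agent.Lib.LocImm.IsLocalizing.isIso_stalkMap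
      (Groth.Agent.Lib.LocImm.isLocImmersion_fromSpecStalk X x).1 z
  have key : ∀ z, ((X.fromSpecStalk x ≫ f).stalkMap z).hom.Flat ↔
      (f.stalkMap (X.fromSpecStalk x z)).hom.Flat := by
    intro z
    have e : ((X.fromSpecStalk x ≫ f).stalkMap z).hom =
        ((X.fromSpecStalk x).stalkMap z).hom.comp (f.stalkMap (X.fromSpecStalk x z)).hom :=
      congrArg CommRingCat.Hom.hom (Scheme.Hom.stalkMap_comp (X.fromSpecStalk x) f z)
    rw [e]
    have := hloc z
    constructor
    · intro h
      have h2 : (f.stalkMap (X.fromSpecStalk x z)).hom =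
          (inv ((X.fromSpecStalk x).stalkMap z)).hom.comp
            (((X.fromSpecStalk x).stalkMap z).hom.comp (f.stalkMap (X.fromSpecStalk x z)).hom) := by
        rw [← RingHom.comp_assoc, ← CommRingCat.hom_comp, IsIso.hom_inv_id]
        rfl
      rw [h2]
      exact RingHom.Flat.comp h (RingHom.Flat.of_bijective
        (ConcreteCategory.bijective_of_isIso (inv ((X.fromSpecStalk x).stalkMap z))))
    · intro h
      exact RingHom.Flat.comp h (RingHom.Flat.of_bijective
        (ConcreteCategory.bijective_of_isIso ((X.fromSpecStalk x).stalkMap z)))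
  rw [Flat.iff_flat_stalkMap]
  constructor
  · intro h
    have := (key (IsLocalRing.closedPoint _)).mp (h _)
    rwa [Scheme.fromSpecStalk_closedPoint] at this
  · intro h z
    rw [key]
    have hz : X.fromSpecStalk x z ⤳ x := by
      have : X.fromSpecStalk x z ∈ Set.range (X.fromSpecStalk x) := ⟨z, rfl⟩
      rwa [Scheme.range_fromSpecStalk] at this
    exact hz.mem_open hopen h

open CategoryTheory AlgebraicGeometry in
/-- Let `f : X ⟶ Y` be a separated morphism of Noetherian schemes, essentially of finite type. Then the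
set of points `x` for which the composite `Spec O_{X,x} ⟶ X ⟶ Y` is flat is open, and if `f` is flat
it factors as a localizing immersion `i : X ⟶ Z` (localizing and injective on points, `Z`
Noetherian) followed by a separated flat morphism of finite type `h : Z ⟶ Y`. -/
theorem result {X Y : Scheme.{u}} [IsNoetherian X] [IsNoetherian Y] (f : X ⟶ Y) [IsSeparated f] [EssFT.EssFiniteType f] :
    IsOpen {x : X | Flat (X.fromSpecStalk x ≫ f)} ∧
      (Flat f → ∃ (Z : Scheme.{u}) (i : X ⟶ Z) (h : Z ⟶ Y), IsNoetherian Z ∧ LocImm.IsLocImmersion i ∧ IsSeparated h ∧ LocallyOfFiniteType h ∧ QuasiCompact h ∧ Flat h ∧ i ≫ h = f) := by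
  have hopen : ∀ {X Y : Scheme.{u}} [IsNoetherian X] [IsNoetherian Y] (f : X ⟶ Y) [IsSeparated f]
      [LocallyOfFiniteType f], IsOpen {x : X | (f.stalkMap x).hom.Flat} := by
    intro X Y _ _ f _ _
    have : LocallyOfFinitePresentation f :=
      (LocallyOfFinitePresentation.iff_locallyOfFiniteType (f := f)).mpr inferInstance
    exact Groth.Agent.S0386.result f
  have h := Groth.Agent.S18201.result (@Flat)
    (fun {W X Y} _ _ _ i f _ _ hi hf => by
      have : Flat i := Groth.Agent.Lib.LocImm.IsLocalizing.flat hi.1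
      have : Flat f := hf
      infer_instance)
    (fun {X Y} _ _ f _ _ hx => by
      rw [Flat.iff_flat_stalkMap]
      intro x
      exact (flat_fromSpecStalk_comp_iff f (hopen f) x).mp (hx x))
    (fun {X Y} _ _ f _ _ => by
      have e : {x : X | Flat (X.fromSpecStalk x ≫ f)} = {x : X | (f.stalkMap x).hom.Flat} := by
        ext x
        exact flat_fromSpecStalk_comp_iff f (hopen f) x
      rw [e]
      exact hopen f)
    f
  exact ⟨h.2.1, h.2.2⟩

end Groth.Agent.S18213
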