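import Mathlib
import Groth.Agent.Lib.AttrUnram27
import Groth.Statements.S18234

set_option autoImplicit false
universe u
open CategoryTheory MonoidalCategory CartesianMonoidalCategory AlgebraicGeometry Opposite
open Magnet

namespace Groth.Agent.S18234

/-- Let S be a scheme, M a finitely generated abelian group, N a submonoid of M, X and Y schemes over S
with actions of the diagonalizable group scheme D(M)_S, and f : X → Y a formally unramified
equivariant S-morphism. If the attractors X^N and Y^N are represented by S-schemes Z_X and Z_Y, and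
j : Z_X → Z_Y is the S-morphism that corresponds to f^N under the two representing bijections, then
j is formally unramified. (Stated for schemes; the published statement is for algebraic spaces over
S.) -/
theorem result (S : Scheme.{u}) (M : Type) [AddCommGroup M]
    [AddGroup.FG M] (N : AddSubmonoid M) {X Y : Over S} (aX : Magnet.MonAct (Magnet.AMonS S M) X)
    (aY : Magnet.MonAct (Magnet.AMonS S M) Y) (f : X ⟶ Y) (hf : Magnet.MonAct.IsEquivariant aX aY f)
    [FormallyUnramified f.left] {ZX ZY : Over S} (eX : (Magnet.attr aX N).RepresentableBy ZX) (eY : (Magnet.attr aY N).RepresentableBy ZY)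
    (j : ZX ⟶ ZY) (hj : ∀ (T : Over S) (z : T ⟶ ZX),
      eY.homEquiv (z ≫ j) = (Magnet.MonAct.eqvHom.postcomp (Magnet.subAct S M N) f hf).app (op T) (eX.homEquiv z)) :
    FormallyUnramified j.left := by
  refine FormallyUnramified.of_hom_ext j.left ?_
  intro R S₀ φ hφ hker g₁ g₂ h12 hgf
  have hstr : g₁ ≫ ZX.hom = g₂ ≫ ZX.hom := by
    have h := congrArg (· ≫ ZY.hom) hgf
    simpa only [Category.assoc, Over.w] using h
  have hci : IsClosedImmersion (Over.homMk (Spec.map φ) rfl :
      Over.mk (Spec.map φ ≫ g₁ ≫ ZX.hom) ⟶ Over.mk (g₁ ≫ ZX.hom)).left :=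
    IsClosedImmersion.spec_of_surjective φ hφ
  have hnil : IsNilpotent (Over.homMk (Spec.map φ) rfl :
      Over.mk (Spec.map φ ≫ g₁ ≫ ZX.hom) ⟶ Over.mk (g₁ ≫ ZX.hom)).left.ker :=
    Groth.Agent.Lib.SqZeroSpec.isNilpotent_ker_SpecMap φ.hom hφ hker
  have key : eX.homEquiv (Over.homMk g₁ rfl : Over.mk (g₁ ≫ ZX.hom) ⟶ ZX) =
      eX.homEquiv (Over.homMk g₂ hstr.symm : Over.mk (g₁ ≫ ZX.hom) ⟶ ZX) := by
    refine Groth.Agent.Lib.AttrUnram27.eqvHom_ext_of_thickening (Magnet.subAct S M N) aX aY f hf
      (Over.homMk (Spec.map φ) rfl :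
        Over.mk (Spec.map φ ≫ g₁ ≫ ZX.hom) ⟶ Over.mk (g₁ ≫ ZX.hom)) hnil _ _ ?_ ?_
    · rw [← eX.homEquiv_comp, ← eX.homEquiv_comp]
      congr 1
      ext
      exact h12
    · rw [← hj, ← hj]
      congr 1
      ext
      exact hgf
  have h := eX.homEquiv.injective key
  exact congrArg (fun z => z.left) h

end Groth.Agent.S18234
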