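import Mathlib
import Groth.Agent.Lib.MagnetDense27
import Groth.Statements.S18286

set_option autoImplicit false
universe u
open CategoryTheory MonoidalCategory CartesianMonoidalCategory MonObj AlgebraicGeometry Opposite
open Magnet

namespace Groth.Agent.S18286

section Helpers

/-- An equivariant `φ : A(N)_S ⊗ T ⟶ X` restricted to `A(M)_S ⊗ T` is the orbit map of its value on
the unit section. -/
theorem whiskerRight_comp_eq {S : Scheme.{u}} {M : Type} [AddCommMonoid M] {X : Over S}
    (a : Magnet.MonAct (Magnet.AMonS S M) X) (N : AddSubmonoid M) (T : Over S)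
    (φ : Magnet.AMonS S N ⊗ T ⟶ X)
    (hφ : Magnet.MonAct.IsEquivariant ((Magnet.subAct S M N).prod
      (Magnet.MonAct.trivial (Magnet.AMonS S M) T)) a φ) :
    (Magnet.AMonS.map S N.subtype ▷ T) ≫ φ =
      (Magnet.AMonS S M ◁ (lift (toUnit T ≫ η[Magnet.AMonS S N]) (𝟙 T) ≫ φ)) ≫ a.act := by
  apply Magnet.hom_ext_lift₂
  intro T' g y
  rw [Magnet.MonAct.mem_eqvHom_iff] at hφ
  have h1 := hφ T' g (1 : T' ⟶ Magnet.AMonS S N) y
  have h2 : lift g (1 : T' ⟶ Magnet.AMonS S N) ≫ (Magnet.subAct S M N).act =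
      g ≫ Magnet.AMonS.map S N.subtype := by
    unfold Magnet.subAct
    rw [Magnet.MonAct.lift_restrict_act, Magnet.MonAct.lift_regular_act, _root_.mul_one]
  have h3 : lift (1 : T' ⟶ Magnet.AMonS S N) y ≫ φ =
      y ≫ lift (toUnit T ≫ η[Magnet.AMonS S N]) (𝟙 T) ≫ φ := by
    rw [← Category.assoc, comp_lift, Category.comp_id, ← Category.assoc,
      toUnit_unique (y ≫ toUnit T) (toUnit T'), Hom.one_def]
  rw [h2, h3] at h1
  rw [lift_whiskerRight_assoc, h1, lift_whiskerLeft_assoc]


/-- An equivariant map `A(N)_S ⊗ T ⟶ Y` whose restriction to the unit section lands in the closed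
stable subscheme `Z` factors through `Z`. -/
theorem exists_factor {S : Scheme.{u}} {M : Type} [AddCommMonoid M] (N : AddSubmonoid M)
    (Y Z : Over S) (aY : Magnet.MonAct (Magnet.AMonS S M) Y)
    (aZ : Magnet.MonAct (Magnet.AMonS S M) Z) (f : Z ⟶ Y) [IsClosedImmersion f.left]
    (hf : Magnet.MonAct.IsEquivariant aZ aY f) (T : Over S)
    (φ : Magnet.AMonS S N ⊗ T ⟶ Y)
    (hφ : Magnet.MonAct.IsEquivariant ((Magnet.subAct S M N).prod
      (Magnet.MonAct.trivial (Magnet.AMonS S M) T)) aY φ)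
    (z : T ⟶ Z) (hz : lift (toUnit T ≫ η[Magnet.AMonS S N]) (𝟙 T) ≫ φ = z ≫ f) :
    ∃ φ' : Magnet.AMonS S N ⊗ T ⟶ Z, φ' ≫ f = φ := by
  have hdom := Groth.Agent.Lib.MagnetDense27.isSchemeTheoreticallyDominant_whiskerRight_map S
    N.subtype Subtype.val_injective T
  have hf' : aZ.act ≫ f = (Magnet.AMonS S M ◁ f) ≫ aY.act := hf
  have hcomp : (Magnet.AMonS.map S N.subtype ▷ T) ≫ φ =
      ((Magnet.AMonS S M ◁ z) ≫ aZ.act) ≫ f := by
    rw [Groth.Agent.S18286.whiskerRight_comp_eq aY N T φ hφ, hz, MonoidalCategory.whiskerLeft_comp,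
      Category.assoc, Category.assoc, hf']
  have hker : f.left.ker ≤ φ.left.ker := by
    have h1 : ((Magnet.AMonS.map S N.subtype ▷ T).left ≫ φ.left).ker = φ.left.ker := by
      rw [Scheme.Hom.ker_comp, (Magnet.AMonS.map S N.subtype ▷ T).left.ker_eq_bot,
        Scheme.IdealSheafData.map_bot]
    rw [← h1, ← Over.comp_left, hcomp, Over.comp_left]
    exact Scheme.Hom.le_ker_comp _ _
  have hcl : IsClosedImmersion.lift f.left φ.left hker ≫ f.left = φ.left :=
    IsClosedImmersion.lift_fac _ _ _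
  exact ⟨Over.homMk (IsClosedImmersion.lift f.left φ.left hker)
    (by rw [← Over.w f, ← Category.assoc, hcl, Over.w]), Over.OverMorphism.ext hcl⟩

end Helpers

/-- Let Y be an S-scheme affine over S with an action of the diagonalizable monoid scheme A(M)_S of a
commutative monoid M, let f : Z → Y be an equivariant closed immersion (for an action of A(M)_S on
Z), and let N ⊆ M be a submonoid (magnet). Then Z^N = Z ×_Y Y^N: the square of functors on S-schemes
formed by f^N : Z^N → Y^N, the canonical maps Z^N → Z and Y^N → Y (evaluation at the unit section)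
and f is cartesian. -/
theorem result (S : Scheme.{u}) (M : Type) [AddCommMonoid M]
    (N : AddSubmonoid M) (Y Z : Over S) [IsAffineHom Y.hom] (aY : Magnet.MonAct (Magnet.AMonS S M) Y)
    (aZ : Magnet.MonAct (Magnet.AMonS S M) Z) (f : Z ⟶ Y) [IsClosedImmersion f.left]
    (hf : Magnet.MonAct.IsEquivariant aZ aY f) :
    IsPullback (Magnet.MonAct.eqvHom.postcomp (Magnet.subAct S M N) f hf) (Magnet.attrToX aZ N)
      (Magnet.attrToX aY N) (yoneda.map f) := by
  have hmono : Mono f := by
    have : Mono f.left := inferInstance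
    exact Over.mono_of_mono_left f
  refine IsPullback.of_forall_isPullback_app fun T => ?_
  rw [Limits.Types.isPullback_iff]
  refine ⟨?_, ?_, ?_⟩
  · ext φ
    exact (Category.assoc _ _ _).symm
  · rintro φ₁ φ₂ ⟨h1, -⟩
    apply Subtype.ext
    have := congrArg Subtype.val h1
    exact (cancel_mono f).mp this
  · rintro ⟨φ, hφ⟩ z hz
    obtain ⟨φ', hφ'⟩ := Groth.Agent.S18286.exists_factor N Y Z aY aZ f hf (unop T) φ hφ z hz
    have hf' : aZ.act ≫ f = (Magnet.AMonS S M ◁ f) ≫ aY.act := hf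
    have heq : Magnet.MonAct.IsEquivariant
        ((Magnet.subAct S M N).prod (Magnet.MonAct.trivial (Magnet.AMonS S M) (unop T))) aZ φ' := by
      have h := hφ
      unfold Magnet.MonAct.IsEquivariant at h ⊢
      rw [← cancel_mono f, Category.assoc, hφ', h, Category.assoc, hf', ← hφ',
        MonoidalCategory.whiskerLeft_comp, Category.assoc]
    refine ⟨⟨φ', heq⟩, Subtype.ext hφ', ?_⟩
    apply (cancel_mono f).mp
    refine Eq.trans ?_ hz
    change (lift (toUnit (unop T) ≫ η[Magnet.AMonS S N]) (𝟙 (unop T)) ≫ φ') ≫ f = _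
    rw [Category.assoc, hφ']
    rfl

end Groth.Agent.S18286
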