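import Groth.Statements.S18243
import Groth.Agent.Lib.MagnetPushout24
import Groth.Agent.Lib.MagnetPushout24b
import Groth.Agent.Lib.MonoidFibreSq24b
import Groth.Agent.Lib.EqvHomPullback24

set_option autoImplicit false
universe u
open CategoryTheory MonoidalCategory CartesianMonoidalCategory AlgebraicGeometry Opposite
open Magnet

namespace Groth.Agent.S18243

open Groth.Agent.Lib.Ferrand24 Groth.Agent.Lib.MonoidFibreSq24 Groth.Agent.Lib.EqvHomPullback24 Groth.Agent.Lib.MagnetPushout24 CategoryTheory.Limits in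
/-- Let T be an affine scheme and T̄ → T a first-order thickening, M a finitely generated abelian group,
N a submonoid of M and F a face of N. Consider the span A(F)_T ← A(F)_T ×_T T̄ → A(N)_T ×_T T̄
formed by the first projection and by the face closed immersion A(F) → A(N) times T̄, everything
with its action of the diagonalizable group scheme D(M)_T (acting trivially on T̄). Then there are a
T-scheme P, affine, with morphisms ν₁ : A(F)_T → P and ν₂ : A(N)_T ×_T T̄ → P forming a push-out
square in T-schemes, and an action of D(M)_T on P for which ν₁ and ν₂ are equivariant, such that P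
is also a push-out for equivariant morphisms: for every T-scheme X with an action of D(M)_T and
equivariant f₁ : A(F)_T → X, f₂ : A(N)_T ×_T T̄ → X agreeing on A(F)_T ×_T T̄, the induced morphism
P → X is equivariant. (Stated for schemes over T; the published statement is in algebraic spaces
over T.) -/
theorem result (T : Scheme.{u}) [IsAffine T] (M : Type) [AddCommGroup M]
    [AddGroup.FG M] {N F : AddSubmonoid M} (hF : Magnet.IsFace N F) (Tb : Over T)
    (hTb : MoreMor.IsFirstOrderThickening Tb.hom) :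
    ∃ (P : Over T) (ν₁ : Magnet.AMonS T F ⟶ P) (ν₂ : Magnet.AMonS T N ⊗ Tb ⟶ P)
      (hP : IsPushout (CartesianMonoidalCategory.fst (Magnet.AMonS T F) Tb) (Magnet.AMonS.faceMap T hF ▷ Tb) ν₁ ν₂)
      (aP : Magnet.MonAct (Magnet.AMonS T M) P),
      IsAffine P.left ∧ Magnet.MonAct.IsEquivariant (Magnet.subAct T M F) aP ν₁ ∧
      Magnet.MonAct.IsEquivariant ((Magnet.subAct T M N).prod (Magnet.MonAct.trivial (Magnet.AMonS T M) Tb)) aP ν₂ ∧
      ∀ (X : Over T) (aX : Magnet.MonAct (Magnet.AMonS T M) X) (f₁ : Magnet.AMonS T F ⟶ X)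
        (f₂ : Magnet.AMonS T N ⊗ Tb ⟶ X)
        (w : CartesianMonoidalCategory.fst (Magnet.AMonS T F) Tb ≫ f₁ = (Magnet.AMonS.faceMap T hF ▷ Tb) ≫ f₂),
        Magnet.MonAct.IsEquivariant (Magnet.subAct T M F) aX f₁ →
        Magnet.MonAct.IsEquivariant ((Magnet.subAct T M N).prod (Magnet.MonAct.trivial (Magnet.AMonS T M) Tb)) aX f₂ →
        Magnet.MonAct.IsEquivariant aP aX (hP.desc f₁ f₂ w) := by
  -- basic instances
  haveI : IsClosedImmersion Tb.hom := hTb.1.1
  have haffK : ∀ K : AddSubmonoid M, IsAffine (Magnet.AMonS T ↥K).left := by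
    intro K
    haveI := isAffine_AMon_left (ULift.{u} ℤ) K
    exact (inferInstance : IsAffine (pullback (Magnet.AMon (ULift.{u} ℤ) ↥K).hom
      (Limits.IsTerminal.from specULiftZIsTerminal T)))
  haveI := haffK F
  haveI := haffK N
  haveI : IsAffine (Magnet.AMonS T ↥N ⊗ Tb).left :=
    (inferInstance : IsAffine (pullback (Magnet.AMonS T ↥N).hom Tb.hom))
  haveI : IsClosedImmersion (CartesianMonoidalCategory.fst (Magnet.AMonS T ↥F) Tb).left :=
    (inferInstance : IsClosedImmersion (pullback.fst (Magnet.AMonS T ↥F).hom Tb.hom))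
  haveI := isClosedImmersion_faceMapS_left T hF
  haveI : IsClosedImmersion (Magnet.AMonS.faceMap T hF ▷ Tb).left :=
    MorphismProperty.of_isPullback (P := @IsClosedImmersion)
      (isPullback_whiskerRight_left (Magnet.AMonS.faceMap T hF) Tb) inferInstance
  -- flatness of `D(M)_T`
  haveI hflat0 : Flat (Magnet.AMon (ULift.{u} ℤ) M).hom := by
    change Flat (Spec.map (CommRingCat.ofHom
      (algebraMap (ULift.{u} ℤ) (MonoidAlgebra (ULift.{u} ℤ) (Multiplicative M)))))
    rw [AlgebraicGeometry.Flat.SpecMap_iff]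
    change (algebraMap (ULift.{u} ℤ) (MonoidAlgebra (ULift.{u} ℤ) (Multiplicative M))).Flat
    rw [RingHom.flat_algebraMap_iff]
    infer_instance
  haveI hflat1 : Flat (Magnet.AMonS T M).hom := by
    change Flat (pullback.snd _ _)
    infer_instance
  haveI hflat2 : Flat (Magnet.AMonS T M ⊗ Magnet.AMonS T M).hom := by
    change Flat (pullback.fst (Magnet.AMonS T M).hom (Magnet.AMonS T M).hom ≫ (Magnet.AMonS T M).hom)
    infer_instance
  -- the pushout
  obtain ⟨P, ν₁, ν₂, hP, hPl, hPaff, hν₁, hν₂⟩ := exists_affine_pushout_over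
    (CartesianMonoidalCategory.fst (Magnet.AMonS T ↥F) Tb) (Magnet.AMonS.faceMap T hF ▷ Tb)
  haveI : IsAffineHom ν₁.left := inferInstance
  haveI : IsAffineHom ν₂.left := inferInstance
  have h1 := isPushout_whiskerLeft_of_flat hPl (Magnet.AMonS T M)
  have h2 := isPushout_whiskerLeft_of_flat hPl (Magnet.AMonS T M ⊗ Magnet.AMonS T M)
  obtain ⟨aP, e1, e2, e3⟩ := exists_monAct_of_isPushout
    ((Magnet.subAct T M F).prod (Magnet.MonAct.trivial (Magnet.AMonS T M) Tb))
    (Magnet.subAct T M F)
    ((Magnet.subAct T M N).prod (Magnet.MonAct.trivial (Magnet.AMonS T M) Tb))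
    (Magnet.MonAct.isEquivariant_prod_fst _ _)
    (isEquivariant_whiskerRight (Magnet.isEquivariant_faceMapS T hF) Tb) hP h1 h2
  exact ⟨P, ν₁, ν₂, hP, aP, hPaff, e1, e2, e3⟩

end Groth.Agent.S18243
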