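import Groth.Statements.S18251
import Mathlib
-- import your own Groth.Agent.* helpers here

set_option autoImplicit false
universe u
open W4c5m1nsnscurves
open Curves

namespace Groth.Agent.S18251

open scoped MonomialOrder

/-- lexicographic order with the second variable first -/
noncomputable def mo : MonomialOrder (Fin 2) := (MonomialOrder.lex : MonomialOrder (Fin 2)ᵒᵈ)

theorem mo_lt_of_lt (c d : Fin 2 →₀ ℕ) (h : c 1 < d 1) : c ≺[mo] d := by
  show (toLex c : Lex ((Fin 2)ᵒᵈ →₀ ℕ)) < toLex d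
  refine ⟨(1 : Fin 2), ?_, h⟩
  intro j hj
  exfalso
  have hj' : (1 : Fin 2) < OrderDual.ofDual j := hj
  have := Fin.le_last (OrderDual.ofDual j)
  exact absurd hj' (not_lt.mpr this)

noncomputable def e12 : Fin 2 →₀ ℕ := Finsupp.single 0 1 + Finsupp.single 1 2

noncomputable abbrev gpol (R : Type u) [CommRing R] (a b c d : R) : MvPolynomial (Fin 2) R :=
  MvPolynomial.X 0 * MvPolynomial.X 1 ^ 2 - MvPolynomial.X 0 ^ 2 * MvPolynomial.X 1 -
    (MvPolynomial.C a * MvPolynomial.X 0 * MvPolynomial.X 1 + MvPolynomial.C b * MvPolynomial.X 0 +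
      MvPolynomial.C c * MvPolynomial.X 1 + MvPolynomial.C d)

noncomputable def rest (R : Type u) [CommRing R] (a b c d : R) : MvPolynomial (Fin 2) R :=
  MvPolynomial.monomial (Finsupp.single 0 2 + Finsupp.single 1 1) 1 +
    MvPolynomial.monomial (Finsupp.single 0 1 + Finsupp.single 1 1) a +
    MvPolynomial.monomial (Finsupp.single 0 1) b +
    MvPolynomial.monomial (Finsupp.single 1 1) c + MvPolynomial.monomial 0 d

theorem gpol_eq (R : Type u) [CommRing R] (a b c d : R) :
    gpol R a b c d = MvPolynomial.monomial e12 1 - rest R a b c d := by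
  have hX : ∀ i : Fin 2, (MvPolynomial.X i : MvPolynomial (Fin 2) R) =
      MvPolynomial.monomial (Finsupp.single i 1) 1 := fun i => rfl
  have h1 : (MvPolynomial.X 0 * MvPolynomial.X 1 ^ 2 : MvPolynomial (Fin 2) R) =
      MvPolynomial.monomial e12 1 := by
    rw [MvPolynomial.X_pow_eq_monomial, hX 0, MvPolynomial.monomial_mul, one_mul]
    rfl
  have h2 : (MvPolynomial.X 0 ^ 2 * MvPolynomial.X 1 : MvPolynomial (Fin 2) R) =
      MvPolynomial.monomial (Finsupp.single 0 2 + Finsupp.single 1 1) 1 := by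
    rw [MvPolynomial.X_pow_eq_monomial, hX 1, MvPolynomial.monomial_mul, one_mul]
  have h3 : (MvPolynomial.C a * MvPolynomial.X 0 * MvPolynomial.X 1 : MvPolynomial (Fin 2) R) =
      MvPolynomial.monomial (Finsupp.single 0 1 + Finsupp.single 1 1) a := by
    rw [hX 0, hX 1, MvPolynomial.C_mul_monomial, MvPolynomial.monomial_mul, mul_one, mul_one]
  have h4 : (MvPolynomial.C b * MvPolynomial.X 0 : MvPolynomial (Fin 2) R) =
      MvPolynomial.monomial (Finsupp.single 0 1) b := by
    rw [hX 0, MvPolynomial.C_mul_monomial, mul_one]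
  have h5 : (MvPolynomial.C c * MvPolynomial.X 1 : MvPolynomial (Fin 2) R) =
      MvPolynomial.monomial (Finsupp.single 1 1) c := by
    rw [hX 1, MvPolynomial.C_mul_monomial, mul_one]
  have h6 : (MvPolynomial.C d : MvPolynomial (Fin 2) R) = MvPolynomial.monomial 0 d := rfl
  unfold gpol rest
  rw [h1, h2, h3, h4, h5, h6]
  ring

theorem coeff_rest (R : Type u) [CommRing R] (a b c d : R) (e : Fin 2 →₀ ℕ) (he : 2 ≤ e 1) :
    MvPolynomial.coeff e (rest R a b c d) = 0 := by
  unfold rest
  simp only [MvPolynomial.coeff_add, MvPolynomial.coeff_monomial]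
  have h1 : Finsupp.single (0 : Fin 2) 2 + Finsupp.single 1 1 ≠ e := by
    intro h; rw [← h] at he; simp at he
  have h2 : Finsupp.single (0 : Fin 2) 1 + Finsupp.single 1 1 ≠ e := by
    intro h; rw [← h] at he; simp at he
  have h3 : Finsupp.single (0 : Fin 2) 1 ≠ e := by
    intro h; rw [← h] at he; simp at he
  have h4 : Finsupp.single (1 : Fin 2) 1 ≠ e := by
    intro h; rw [← h] at he; simp at he
  have h5 : (0 : Fin 2 →₀ ℕ) ≠ e := by
    intro h; rw [← h] at he; simp at he
  rw [if_neg h1, if_neg h2, if_neg h3, if_neg h4, if_neg h5]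
  simp

theorem e12_one : e12 1 = 2 := by
  unfold e12
  simp

theorem zero_lt_e12 : 0 ≺[mo] e12 := by
  apply mo_lt_of_lt
  rw [e12_one]
  simp

theorem degree_rest_lt (R : Type u) [CommRing R] (a b c d : R) :
    mo.degree (rest R a b c d) ≺[mo] e12 := by
  rw [MonomialOrder.degree_lt_iff zero_lt_e12]
  intro e he
  apply mo_lt_of_lt
  rw [e12_one]
  by_contra hcon
  push Not at hcon
  rw [MvPolynomial.mem_support_iff] at he
  exact he (coeff_rest R a b c d e hcon)

theorem degree_gpol (R : Type u) [CommRing R] [Nontrivial R] (a b c d : R) :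
    mo.degree (gpol R a b c d) = e12 := by
  classical
  have h1 : mo.degree (MvPolynomial.monomial e12 (1 : R)) = e12 := by
    rw [MonomialOrder.degree_monomial, if_neg one_ne_zero]
  rw [gpol_eq, sub_eq_add_neg, MonomialOrder.degree_add_of_lt, h1]
  rw [MonomialOrder.degree_neg, h1]
  exact degree_rest_lt R a b c d

theorem leadingCoeff_gpol (R : Type u) [CommRing R] [Nontrivial R] (a b c d : R) :
    mo.leadingCoeff (gpol R a b c d) = 1 := by
  unfold MonomialOrder.leadingCoeff
  rw [degree_gpol, gpol_eq, MvPolynomial.coeff_sub, MvPolynomial.coeff_monomial, if_pos rfl,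
    coeff_rest R a b c d e12 (by rw [e12_one]), sub_zero]

noncomputable def ex : Option (ℕ ⊕ (Fin 2 × ℕ)) → (Fin 2 →₀ ℕ)
  | none => 0
  | some (Sum.inl k) => Finsupp.single 0 (k + 1) + Finsupp.single 1 1
  | some (Sum.inr (y, k)) => Finsupp.single y (k + 1)

theorem ex_vals (j : Option (ℕ ⊕ (Fin 2 × ℕ))) :
    (j = none ∧ ex j 0 = 0 ∧ ex j 1 = 0) ∨
    (∃ k, j = some (Sum.inl k) ∧ ex j 0 = k + 1 ∧ ex j 1 = 1) ∨
    (∃ k, j = some (Sum.inr (0, k)) ∧ ex j 0 = k + 1 ∧ ex j 1 = 0) ∨
    (∃ k, j = some (Sum.inr (1, k)) ∧ ex j 0 = 0 ∧ ex j 1 = k + 1) := by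
  rcases j with _ | (k | ⟨y, k⟩)
  · left; exact ⟨rfl, rfl, rfl⟩
  · right; left; exact ⟨k, rfl, by simp [ex], by simp [ex]⟩
  · fin_cases y
    · right; right; left; exact ⟨k, rfl, by simp [ex], by simp [ex]⟩
    · right; right; right; exact ⟨k, rfl, by simp [ex], by simp [ex]⟩

theorem ex_injective : Function.Injective ex := by
  intro j j' h
  have h0 : ex j 0 = ex j' 0 := by rw [h]
  have h1 : ex j 1 = ex j' 1 := by rw [h]
  rcases ex_vals j with ⟨rfl, a0, a1⟩ | ⟨k, rfl, a0, a1⟩ | ⟨k, rfl, a0, a1⟩ | ⟨k, rfl, a0, a1⟩ <;>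
  rcases ex_vals j' with ⟨rfl, b0, b1⟩ | ⟨k', rfl, b0, b1⟩ | ⟨k', rfl, b0, b1⟩ | ⟨k', rfl, b0, b1⟩ <;>
  first
    | rfl
    | (exfalso; omega)
    | (have : k = k' := by omega
       subst this; rfl)

theorem e12_le_iff (c : Fin 2 →₀ ℕ) : e12 ≤ c ↔ 1 ≤ c 0 ∧ 2 ≤ c 1 := by
  rw [Finsupp.le_def]
  constructor
  · intro h
    have h0 := h 0
    have h1 := h 1
    simp [e12] at h0 h1
    exact ⟨h0, h1⟩
  · rintro ⟨h0, h1⟩ i
    fin_cases i
    · simpa [e12] using h0
    · simpa [e12] using h1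

theorem ex_not_ge (j : Option (ℕ ⊕ (Fin 2 × ℕ))) : ¬ (e12 ≤ ex j) := by
  rw [e12_le_iff]
  rcases ex_vals j with ⟨rfl, a0, a1⟩ | ⟨k, rfl, a0, a1⟩ | ⟨k, rfl, a0, a1⟩ | ⟨k, rfl, a0, a1⟩ <;>
  omega

theorem exists_ex (c : Fin 2 →₀ ℕ) (h : ¬ e12 ≤ c) : ∃ j, ex j = c := by
  rw [e12_le_iff] at h
  have hext : ∀ c' : Fin 2 →₀ ℕ, c' 0 = c 0 → c' 1 = c 1 → c' = c := by
    intro c' h0 h1
    ext i
    fin_cases i
    · exact h0
    · exact h1
  by_cases h0 : c 0 = 0
  · by_cases h1 : c 1 = 0
    · exact ⟨none, hext _ (by simp [ex, h0]) (by simp [ex, h1])⟩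
    · refine ⟨some (Sum.inr (1, c 1 - 1)), hext _ ?_ ?_⟩
      · simp [ex, h0]
      · simp [ex]; omega
  · by_cases h1 : c 1 = 0
    · refine ⟨some (Sum.inr (0, c 0 - 1)), hext _ ?_ ?_⟩
      · simp [ex]; omega
      · simp [ex, h1]
    · have h1' : c 1 = 1 := by omega
      refine ⟨some (Sum.inl (c 0 - 1)), hext _ ?_ ?_⟩
      · simp [ex]; omega
      · simp [ex, h1']

theorem cmon3_eq (R : Type u) [CommRing R] (a b c d : R) (j : Option (ℕ ⊕ (Fin 2 × ℕ))) :
    cmon3 R a b c d j =
      Ideal.Quotient.mkₐ R (Ideal.span {gpol R a b c d}) (MvPolynomial.monomial (ex j) 1) := by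
  have hX : ∀ i : Fin 2, (MvPolynomial.X i : MvPolynomial (Fin 2) R) =
      MvPolynomial.monomial (Finsupp.single i 1) 1 := fun i => rfl
  rcases j with _ | (k | ⟨y, k⟩)
  · have h : (MvPolynomial.monomial (ex none) (1 : R)) = 1 := rfl
    rw [h]
    exact (map_one _).symm
  · have h : (MvPolynomial.X 0 ^ (k + 1) * MvPolynomial.X 1 : MvPolynomial (Fin 2) R) =
        MvPolynomial.monomial (ex (some (Sum.inl k))) 1 := by
      unfold ex
      rw [MvPolynomial.X_pow_eq_monomial, hX 1, MvPolynomial.monomial_mul, one_mul]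
    exact congrArg (Ideal.Quotient.mk (Ideal.span {gpol R a b c d})) h
  · have h : (MvPolynomial.X y ^ (k + 1) : MvPolynomial (Fin 2) R) =
        MvPolynomial.monomial (ex (some (Sum.inr (y, k)))) 1 := by
      unfold ex
      rw [MvPolynomial.X_pow_eq_monomial]
    exact congrArg (Ideal.Quotient.mk (Ideal.span {gpol R a b c d})) h

theorem span_cmon3 (R : Type u) [CommRing R] [Nontrivial R] (a b c d : R) :
    Submodule.span R (Set.range (cmon3 R a b c d)) = ⊤ := by
  rw [eq_top_iff]
  intro x _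
  obtain ⟨f, rfl⟩ := Ideal.Quotient.mk_surjective x
  have hu : IsUnit (mo.leadingCoeff (gpol R a b c d)) := by
    rw [leadingCoeff_gpol]; exact isUnit_one
  obtain ⟨q, r, hf, _, hr⟩ := MonomialOrder.div_single hu f
  rw [degree_gpol] at hr
  have hmk : Ideal.Quotient.mk (Ideal.span {gpol R a b c d}) f =
      Ideal.Quotient.mkₐ R (Ideal.span {gpol R a b c d}) r := by
    rw [hf, map_add]
    have : Ideal.Quotient.mk (Ideal.span {gpol R a b c d}) (q * gpol R a b c d) = 0 := by
      rw [Ideal.Quotient.eq_zero_iff_mem]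
      exact Ideal.mul_mem_left _ _ (Ideal.subset_span rfl)
    rw [this, zero_add]
    rfl
  show Ideal.Quotient.mk (Ideal.span {gpol R a b c d}) f ∈ _
  rw [hmk, MvPolynomial.as_sum r, map_sum]
  apply Submodule.sum_mem
  intro e he
  obtain ⟨j, hj⟩ := exists_ex e (hr e he)
  have : MvPolynomial.monomial e (MvPolynomial.coeff e r) =
      MvPolynomial.coeff e r • MvPolynomial.monomial (ex j) (1 : R) := by
    rw [MvPolynomial.smul_monomial, hj, smul_eq_mul, mul_one]
  rw [this, map_smul]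
  rw [← cmon3_eq]
  exact Submodule.smul_mem _ _ (Submodule.subset_span ⟨j, rfl⟩)

theorem coeff_lincomb (R : Type u) [CommRing R] (l : Option (ℕ ⊕ (Fin 2 × ℕ)) →₀ R)
    (e : Fin 2 →₀ ℕ) :
    MvPolynomial.coeff e (Finsupp.linearCombination R
      (fun j => MvPolynomial.monomial (ex j) (1 : R)) l) =
      ∑ j ∈ l.support, if ex j = e then l j else 0 := by
  rw [Finsupp.linearCombination_apply, Finsupp.sum, MvPolynomial.coeff_sum]
  apply Finset.sum_congr rfl
  intro j _
  rw [MvPolynomial.smul_monomial, MvPolynomial.coeff_monomial, smul_eq_mul, mul_one]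

theorem coeff_lincomb_ex (R : Type u) [CommRing R] (l : Option (ℕ ⊕ (Fin 2 × ℕ)) →₀ R)
    (j₀ : Option (ℕ ⊕ (Fin 2 × ℕ))) :
    MvPolynomial.coeff (ex j₀) (Finsupp.linearCombination R
      (fun j => MvPolynomial.monomial (ex j) (1 : R)) l) = l j₀ := by
  rw [coeff_lincomb]
  have : ∀ j ∈ l.support, (if ex j = ex j₀ then l j else 0) = if j = j₀ then l j else 0 := by
    intro j _
    by_cases h : j = j₀
    · rw [if_pos h, if_pos (by rw [h])]
    · rw [if_neg h, if_neg (fun h' => h (ex_injective h'))]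
  rw [Finset.sum_congr rfl this, Finset.sum_ite_eq']
  by_cases hj : j₀ ∈ l.support
  · rw [if_pos hj]
  · rw [if_neg hj]
    exact (Finsupp.notMem_support_iff.mp hj).symm

theorem support_lincomb (R : Type u) [CommRing R] (l : Option (ℕ ⊕ (Fin 2 × ℕ)) →₀ R)
    (e : Fin 2 →₀ ℕ) (he : e ∈ (Finsupp.linearCombination R
      (fun j => MvPolynomial.monomial (ex j) (1 : R)) l).support) : ∃ j, ex j = e := by
  rw [MvPolynomial.mem_support_iff, coeff_lincomb] at he
  by_contra hcon
  push Not at hcon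
  apply he
  apply Finset.sum_eq_zero
  intro j _
  rw [if_neg (hcon j)]

theorem linindep_cmon3 (R : Type u) [CommRing R] [Nontrivial R] (a b c d : R) :
    LinearIndependent R (cmon3 R a b c d) := by
  rw [linearIndependent_iff]
  intro l hl
  set p := Finsupp.linearCombination R (fun j => MvPolynomial.monomial (ex j) (1 : R)) l with hp
  have hφ : (Ideal.Quotient.mkₐ R (Ideal.span {gpol R a b c d})).toLinearMap p = 0 := by
    rw [hp, Finsupp.apply_linearCombination]
    rw [← hl]
    congr 2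
    funext j
    exact (cmon3_eq R a b c d j).symm
  have hmem : p ∈ Ideal.span {gpol R a b c d} := by
    rw [← Ideal.Quotient.eq_zero_iff_mem]
    exact hφ
  rw [Ideal.mem_span_singleton] at hmem
  obtain ⟨h, hh⟩ := hmem
  have hreg : IsRegular (mo.leadingCoeff (gpol R a b c d)) := by
    rw [leadingCoeff_gpol]; exact isRegular_one
  by_cases h0 : h = 0
  · rw [h0, mul_zero] at hh
    ext j
    rw [← coeff_lincomb_ex R l j, ← hp, hh]
    simp
  · exfalso
    have hdeg := MonomialOrder.degree_mul_of_isRegular_left (m := mo) hreg h0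
    rw [← hh, degree_gpol] at hdeg
    have hlc := MonomialOrder.leadingCoeff_mul_of_isRegular_left (m := mo) (g := h) hreg
    rw [← hh, leadingCoeff_gpol, one_mul] at hlc
    have hpne : p ≠ 0 := by
      intro hp0
      rw [hp0, MonomialOrder.leadingCoeff_zero] at hlc
      exact h0 ((MonomialOrder.leadingCoeff_eq_zero_iff (m := mo)).mp hlc.symm)
    have hsup := MonomialOrder.degree_mem_support (m := mo) hpne
    obtain ⟨j, hj⟩ := support_lincomb R l _ hsup
    apply ex_not_ge j
    rw [hj, hdeg]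
    exact le_self_add

/-- Case n = 3: let R be a commutative ring and a, b, c, d elements of R (a point of U_3, which is
affine 4-space, so no condition is imposed). Then in the R-algebra R[x_2, x_3]/(x_2 x_3² − x_2² x_3
− a x_2 x_3 − b x_2 − c x_3 − d) the classes of the monomials 1, x_2^k x_3, x_2^k and x_3^k (k ≥ 1)
are linearly independent over R and span, i.e. form an R-basis. -/
theorem result (R : Type u) [CommRing R] (a b c d : R) :
    LinearIndependent R (cmon3 R a b c d) ∧
      Submodule.span R (Set.range (cmon3 R a b c d)) = ⊤ := by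
  rcases subsingleton_or_nontrivial R with hR | hR
  · have : Subsingleton (CurveAlg3 R a b c d) := Module.subsingleton R _
    exact ⟨linearIndependent_of_subsingleton, Subsingleton.elim _ _⟩
  · exact ⟨linindep_cmon3 R a b c d, span_cmon3 R a b c d⟩

end Groth.Agent.S18251
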