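import Groth.Statements.S18256
import Mathlib.RingTheory.LocalRing.Module
import Mathlib.RingTheory.Nakayama
import Mathlib.LinearAlgebra.TensorProduct.RightExactness
import Mathlib.RingTheory.HopkinsLevitzki

set_option autoImplicit false
set_option linter.unusedSectionVars false
universe u
open ArtFun

namespace Groth.Agent.S18256

section Aux

open IsLocalRing TensorProduct CategoryTheory

variable {R : Type u} [CommRing R] [IsArtinianRing R] [IsLocalRing R]
variable {k : Type u} [Field k] [Algebra R k] (hk : Function.Surjective (algebraMap R k))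

include hk in
theorem algebraMap_eq_zero_of_mem {x : R} (hx : x ∈ maximalIdeal R) : algebraMap R k x = 0 := by
  have hmax : (RingHom.ker (algebraMap R k)).IsMaximal := RingHom.ker_isMaximal_of_surjective _ hk
  have h := IsLocalRing.eq_maximalIdeal hmax
  rw [← h] at hx
  exact hx

/-- `R ⧸ 𝔞` as an object. -/
noncomputable def quotObj (𝔞 : Ideal R) (h𝔞 : 𝔞 ≤ maximalIdeal R) : ArtFun.Art R k :=
  have hnt : Nontrivial (R ⧸ 𝔞) := Ideal.Quotient.nontrivial_iff.2 (fun h =>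
    (IsLocalRing.maximalIdeal.isMaximal R).ne_top (top_le_iff.1 (h ▸ h𝔞)))
  { carrier := R ⧸ 𝔞
    isLocalRing := IsLocalRing.of_surjective' (Ideal.Quotient.mk 𝔞) Ideal.Quotient.mk_surjective
    isArtinianRing := inferInstance
    res := Ideal.Quotient.liftₐ 𝔞 (Algebra.ofId R k) (fun x hx => algebraMap_eq_zero_of_mem hk (h𝔞 hx))
    res_surjective := fun c => by
      obtain ⟨r, hr⟩ := hk c
      exact ⟨Ideal.Quotient.mk 𝔞 r, hr⟩ }

/-- the projection `R ⧸ 𝔞 → R ⧸ 𝔟`. -/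
noncomputable def quotMap {𝔞 𝔟 : Ideal R} (h𝔞 : 𝔞 ≤ maximalIdeal R) (h𝔟 : 𝔟 ≤ maximalIdeal R)
    (hle : 𝔞 ≤ 𝔟) : quotObj hk 𝔞 h𝔞 ⟶ quotObj hk 𝔟 h𝔟 :=
  ⟨Ideal.Quotient.factorₐ R hle, AlgHom.ext fun x => by
    obtain ⟨y, rfl⟩ := Ideal.Quotient.mk_surjective x
    rfl⟩

theorem mem_ker_quotMap {𝔞 𝔟 : Ideal R} (h𝔞 : 𝔞 ≤ maximalIdeal R) (h𝔟 : 𝔟 ≤ maximalIdeal R)
    (hle : 𝔞 ≤ 𝔟) (r : R) :
    (Ideal.Quotient.mk 𝔞 r : quotObj hk 𝔞 h𝔞) ∈ RingHom.ker (quotMap hk h𝔞 h𝔟 hle).toAlgHom ↔ r ∈ 𝔟 := by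
  constructor
  · intro h
    exact Ideal.Quotient.eq_zero_iff_mem.1 (RingHom.mem_ker.1 h)
  · intro h
    exact RingHom.mem_ker.2 (Ideal.Quotient.eq_zero_iff_mem.2 h)

theorem isSmallExt_quotMap {𝔞 𝔟 : Ideal R} (h𝔞 : 𝔞 ≤ maximalIdeal R) (h𝔟 : 𝔟 ≤ maximalIdeal R)
    (hle : 𝔞 ≤ 𝔟) (t : R) (htn : t ∉ 𝔞) (hspan : 𝔟 = 𝔞 ⊔ Ideal.span {t})
    (hm : maximalIdeal R * 𝔟 ≤ 𝔞) : ArtFun.Art.IsSmallExt (quotMap hk h𝔞 h𝔟 hle) := by
  have htb : t ∈ 𝔟 := by
    rw [hspan]
    exact Ideal.mem_sup_right (Ideal.subset_span rfl)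
  have hker : RingHom.ker (quotMap hk h𝔞 h𝔟 hle).toAlgHom =
      Ideal.span {(Ideal.Quotient.mk 𝔞 t : quotObj hk 𝔞 h𝔞)} := by
    apply le_antisymm
    · intro x hx
      obtain ⟨r, rfl⟩ := Ideal.Quotient.mk_surjective x
      have hr : r ∈ 𝔟 := (mem_ker_quotMap hk h𝔞 h𝔟 hle r).1 hx
      rw [hspan] at hr
      obtain ⟨a, ha, s, hs, rfl⟩ := Submodule.mem_sup.1 hr
      obtain ⟨c, rfl⟩ := Ideal.mem_span_singleton'.1 hs
      have e : (Ideal.Quotient.mk 𝔞 (a + c * t) : quotObj hk 𝔞 h𝔞) =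
          Ideal.Quotient.mk 𝔞 c * Ideal.Quotient.mk 𝔞 t := by
        rw [map_add, map_mul, Ideal.Quotient.eq_zero_iff_mem.2 ha, zero_add]
      rw [e]
      exact Ideal.mul_mem_left _ _ (Ideal.subset_span rfl)
    · refine Ideal.span_le.2 ?_
      rintro _ rfl
      exact (mem_ker_quotMap hk h𝔞 h𝔟 hle t).2 htb
  refine ⟨?_, ?_, ?_, ?_⟩
  · intro x
    obtain ⟨y, rfl⟩ := Ideal.Quotient.mk_surjective x
    exact ⟨Ideal.Quotient.mk 𝔞 y, rfl⟩
  · rw [hker]
    intro h0
    have : (Ideal.Quotient.mk 𝔞 t : quotObj hk 𝔞 h𝔞) ∈ (⊥ : Ideal (quotObj hk 𝔞 h𝔞)) :=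
      h0 ▸ Ideal.subset_span rfl
    exact htn (Ideal.Quotient.eq_zero_iff_mem.1 ((Ideal.mem_bot).1 this))
  · rw [hker]
    exact ⟨⟨_, rfl⟩⟩
  · rw [eq_bot_iff, Ideal.mul_le]
    intro x hx y hy
    obtain ⟨x', rfl⟩ := Ideal.Quotient.mk_surjective x
    obtain ⟨y', rfl⟩ := Ideal.Quotient.mk_surjective y
    have hx' : x' ∈ maximalIdeal R := by
      rw [IsLocalRing.mem_maximalIdeal] at hx ⊢
      exact fun hu => hx (hu.map (Ideal.Quotient.mk 𝔞))
    have hy' : y' ∈ 𝔟 := (mem_ker_quotMap hk h𝔞 h𝔟 hle y').1 hy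
    rw [Ideal.mem_bot]
    change Ideal.Quotient.mk 𝔞 x' * Ideal.Quotient.mk 𝔞 y' = 0
    rw [← map_mul, Ideal.Quotient.eq_zero_iff_mem]
    exact hm (Ideal.mul_mem_mul hx' hy')

variable (M : Type u) [AddCommGroup M] [Module R M]

include hk in
/-- the key step: vanishing of `Tor₁(M, R/𝔞)` passes to `Tor₁(M, R/𝔟)` along a small extension. -/
theorem step
    (h : ∀ (A' A : ArtFun.Art R k) (p : A' ⟶ A), ArtFun.Art.IsSmallExt p →
      Function.Injective
        (LinearMap.lTensor M (((RingHom.ker p.toAlgHom).restrictScalars R).subtype)))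
    {𝔞 𝔟 : Ideal R} (h𝔞 : 𝔞 ≤ maximalIdeal R) (h𝔟 : 𝔟 ≤ maximalIdeal R)
    (hle : 𝔞 ≤ 𝔟) (t : R) (htn : t ∉ 𝔞) (hspan : 𝔟 = 𝔞 ⊔ Ideal.span {t})
    (hm : maximalIdeal R * 𝔟 ≤ 𝔞)
    (T𝔞 : Function.Injective (LinearMap.lTensor M (𝔞.subtype : ↥𝔞 →ₗ[R] R))) :
    Function.Injective (LinearMap.lTensor M (𝔟.subtype : ↥𝔟 →ₗ[R] R)) := by
  have hinj := h _ _ (quotMap hk h𝔞 h𝔟 hle) (isSmallExt_quotMap hk h𝔞 h𝔟 hle t htn hspan hm)
  set K := (RingHom.ker (quotMap hk h𝔞 h𝔟 hle).toAlgHom).restrictScalars R with hK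
  let g : ↥𝔟 →ₗ[R] ↥K :=
    { toFun := fun b => ⟨Ideal.Quotient.mk 𝔞 (b : R), (mem_ker_quotMap hk h𝔞 h𝔟 hle b).2 b.2⟩
      map_add' := fun x y => Subtype.ext (map_add _ _ _)
      map_smul' := fun c x => Subtype.ext (by
        change Ideal.Quotient.mk 𝔞 (c * (x : R)) = c • Ideal.Quotient.mk 𝔞 (x : R)
        rw [map_mul]
        rfl) }
  let f : ↥𝔞 →ₗ[R] ↥𝔟 := Submodule.inclusion hle
  have hfg : Function.Exact f g := by
    intro y
    constructor
    · intro hy
      have h1 : Ideal.Quotient.mk 𝔞 (y : R) = 0 := congrArg Subtype.val hy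
      exact ⟨⟨y, Ideal.Quotient.eq_zero_iff_mem.1 h1⟩, rfl⟩
    · rintro ⟨x, rfl⟩
      apply Subtype.ext
      exact Ideal.Quotient.eq_zero_iff_mem.2 x.2
  have hgsurj : Function.Surjective g := by
    rintro ⟨z, hz⟩
    obtain ⟨r, rfl⟩ := Ideal.Quotient.mk_surjective z
    exact ⟨⟨r, (mem_ker_quotMap hk h𝔞 h𝔟 hle r).1 hz⟩, rfl⟩
  have hexact := lTensor_exact M hfg hgsurj
  let mkl : R →ₗ[R] (quotObj hk 𝔞 h𝔞).carrier := (Ideal.Quotient.mkₐ R 𝔞).toLinearMap
  have hcompat : K.subtype ∘ₗ g = mkl ∘ₗ 𝔟.subtype :=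
    LinearMap.ext fun _ => rfl
  have hcompat2 : 𝔟.subtype ∘ₗ f = 𝔞.subtype := LinearMap.ext fun _ => rfl
  rw [injective_iff_map_eq_zero]
  intro x hx
  have e1 : (LinearMap.lTensor M K.subtype) ∘ₗ (LinearMap.lTensor M g) =
      (LinearMap.lTensor M mkl) ∘ₗ (LinearMap.lTensor M 𝔟.subtype) := by
    rw [← LinearMap.lTensor_comp, ← LinearMap.lTensor_comp, hcompat]
  have h1 : (LinearMap.lTensor M K.subtype) ((LinearMap.lTensor M g) x) = 0 := by
    have := LinearMap.congr_fun e1 x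
    rw [LinearMap.comp_apply, LinearMap.comp_apply, hx, map_zero] at this
    exact this
  have h2 : (LinearMap.lTensor M g) x = 0 := by
    apply hinj
    rw [h1, map_zero]
  obtain ⟨y, rfl⟩ := (hexact x).1 h2
  have h3 : (LinearMap.lTensor M 𝔞.subtype) y = 0 := by
    rw [← hcompat2, LinearMap.lTensor_comp, LinearMap.comp_apply, hx]
  have h4 : y = 0 := by
    apply T𝔞
    rw [h3, map_zero]
  rw [h4, map_zero]

theorem subsingleton_tensor_bot : Subsingleton (M ⊗[R] ↥(⊥ : Ideal R)) := by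
  constructor
  intro x y
  have h0 : ∀ z : M ⊗[R] ↥(⊥ : Ideal R), z = 0 := by
    intro z
    induction z using TensorProduct.induction_on with
    | zero => rfl
    | tmul m n =>
      have : n = 0 := Subtype.ext ((Submodule.mem_bot R).1 n.2)
      rw [this, TensorProduct.tmul_zero]
    | add a b ha hb => rw [ha, hb, add_zero]
  rw [h0 x, h0 y]

include hk in
/-- vanishing of `Tor₁(M, R/𝔟)` for every ideal in the maximal ideal. -/
theorem injective_lTensor_subtype
    (h : ∀ (A' A : ArtFun.Art R k) (p : A' ⟶ A), ArtFun.Art.IsSmallExt p →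
      Function.Injective
        (LinearMap.lTensor M (((RingHom.ker p.toAlgHom).restrictScalars R).subtype)))
    (𝔟 : Ideal R) : 𝔟 ≤ maximalIdeal R →
    Function.Injective (LinearMap.lTensor M (𝔟.subtype : ↥𝔟 →ₗ[R] R)) := by
  classical
  induction 𝔟 using IsArtinian.induction with
  | hgt 𝔟 ih =>
    intro h𝔟
    by_cases hbot : 𝔟 = ⊥
    · subst hbot
      have := subsingleton_tensor_bot (R := R) M
      exact Function.injective_of_subsingleton _
    · -- a maximal proper sub-ideal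
      have hne : {J : Ideal R | J < 𝔟}.Nonempty := ⟨⊥, bot_lt_iff_ne_bot.2 hbot⟩
      obtain ⟨𝔞, h𝔞lt, h𝔞max⟩ := (wellFounded_gt (α := Ideal R)).has_min _ hne
      have h𝔞lt' : 𝔞 < 𝔟 := h𝔞lt
      have hle : 𝔞 ≤ 𝔟 := h𝔞lt'.le
      obtain ⟨t, htb, htn⟩ := SetLike.exists_of_lt h𝔞lt'
      have hmaxeq : ∀ J : Ideal R, 𝔞 < J → J ≤ 𝔟 → J = 𝔟 := by
        intro J hJ hJb
        by_contra hne'
        exact h𝔞max J (lt_of_le_of_ne hJb hne') hJ
      have hspan : 𝔟 = 𝔞 ⊔ Ideal.span {t} := by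
        symm
        apply hmaxeq
        · apply lt_of_le_of_ne le_sup_left
          intro heq
          apply htn
          rw [heq]
          exact Ideal.mem_sup_right (Ideal.subset_span rfl)
        · exact sup_le hle ((Ideal.span_singleton_le_iff_mem _).2 htb)
      have hm : maximalIdeal R * 𝔟 ≤ 𝔞 := by
        by_contra hnot
        have h1 : 𝔞 ⊔ maximalIdeal R * 𝔟 = 𝔟 := by
          apply hmaxeq
          · apply lt_of_le_of_ne le_sup_left
            intro heq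
            apply hnot
            rw [heq]
            exact le_sup_right
          · exact sup_le hle Ideal.mul_le_right
        have h2 : 𝔟 ≤ 𝔞 := by
          refine Submodule.le_of_le_smul_of_le_jacobson_bot (I := maximalIdeal R)
            (IsNoetherian.noetherian 𝔟) (IsLocalRing.maximalIdeal_le_jacobson _) ?_
          exact h1.ge
        exact absurd (lt_of_lt_of_le h𝔞lt' h2) (lt_irrefl _)
      exact step hk M h (hle.trans h𝔟) h𝔟 hle t htn hspan hm (ih 𝔞 h𝔞lt' (hle.trans h𝔟))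

end Aux


open CategoryTheory TensorProduct in
/-- Let R be an Artinian local ring with residue field k and M a finitely generated R-module. Suppose
that for every small extension p : A' → A of local Artinian R-algebras with residue field k (p
surjective, its kernel I a nonzero principal ideal killed by the maximal ideal of A'), the map M ⊗_R
I → M ⊗_R A' induced by the inclusion I ⊆ A' is injective (equivalently, the sequence 0 → M ⊗_R I →
M ⊗_R A' → M ⊗_R A → 0 is exact). Then M is a free R-module. (The printed conclusion reads free over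
the residue field; the proof establishes freeness over R, which is what is stated here.) -/
theorem result
    (R : Type u) [CommRing R] [IsArtinianRing R] [IsLocalRing R]
    (k : Type u) [Field k] [Algebra R k] (hk : Function.Surjective (algebraMap R k))
    (M : Type u) [AddCommGroup M] [Module R M] [Module.Finite R M]
    (h : ∀ (A' A : ArtFun.Art R k) (p : A' ⟶ A), ArtFun.Art.IsSmallExt p →
      Function.Injective
        (LinearMap.lTensor M (((RingHom.ker p.toAlgHom).restrictScalars R).subtype))) :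
    Module.Free R M := by
  have hfp : Module.FinitePresentation R M := Module.finitePresentation_of_finite R M
  apply Module.free_of_maximalIdeal_rTensor_injective
  rw [← LinearMap.lTensor_inj_iff_rTensor_inj]
  exact injective_lTensor_subtype hk M h _ le_rfl

end Groth.Agent.S18256
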