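import Groth.Statements.S18263
import Groth.Agent.Lib.ConfigHM38

set_option autoImplicit false
universe u
open InvQ

namespace Groth.Agent.S18263

/-- Let k be an algebraically closed field in which m! is non-zero, n ≥ 1 and m ≤ n natural numbers, and
p_1, …, p_m non-zero vectors of k^(n+1), an ordered configuration of m points of projective n-space,
encoded by the product π = ∏_i (Σ_j p_i,j x_j) of its linear forms, on which the special linear
group SL(n+1) acts by substitution; let a be the point of the affine space of degree-m forms in n +
1 variables whose form is π. Then a is not stable for SL(n+1): a configuration of at most n points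
of projective n-space is never stable. (The case n = 0 is excluded: there the group is trivial and
the empty configuration is stable. The published statement allows any characteristic; this row
assumes m! non-zero in k, as the space of forms used here requires.) -/
theorem result (k : Type u) [Field k] [IsAlgClosed k] (n m : ℕ) (hn : 1 ≤ n) (hmn : m ≤ n)
    (hm : (Nat.factorial m : k) ≠ 0) (p : Fin m → Fin (n + 1) → k) (hp : ∀ i, p i ≠ 0)
    (a : CoordGrp.FormIdx (n + 1) m → k)
    (ha : CoordGrp.formPoly a = ∏ i, ∑ j, MvPolynomial.C (p i j) * MvPolynomial.X j) :
    ¬ @GLin.IsStableVec k _ (CoordGrp.SLn (n + 1) k) _ _ (CoordGrp.FormIdx (n + 1) m)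
      (GLin.comodAlong ((CoordGrp.SLn.mkHom (n + 1) k).comp (CoordGrp.Mat.toGLn (n + 1) k)) (CoordGrp.formsCoact k (n + 1) m))
      (GLin.isCoactAlg_comodAlong ((CoordGrp.SLn.mkHom (n + 1) k).comp (CoordGrp.Mat.toGLn (n + 1) k)) (CoordGrp.formsCoact k (n + 1) m) (CoordGrp.formsCoact_isCoactAlg k (n + 1) m)) a := by
  classical
  rcases Nat.eq_zero_or_pos m with hm0 | hmpos
  · subst hm0
    set e : Fin (n + 1) → k := Pi.single 0 1 with he
    have he0 : e ≠ 0 := by
      intro h
      have := congrFun h 0
      simp [he] at this
    refine Groth.Agent.Lib.ConfigHM38.not_isStableVec_of_subspace hm p a ha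
      (Submodule.span k {e}) ?_ ?_ ?_
    · rw [Ne, Submodule.span_singleton_eq_bot]
      exact he0
    · intro htop
      have h1 : Module.finrank k (Submodule.span k {e}) = 1 := finrank_span_singleton he0
      rw [htop, finrank_top, Module.finrank_fin_fun] at h1
      omega
    · simp
  · set W := Submodule.span k (Set.range p) with hW
    have hmem : ∀ i, p i ∈ W := fun i => Submodule.subset_span ⟨i, rfl⟩
    have hfin : Module.finrank k W ≤ m := by
      have := finrank_range_le_card (R := k) p
      simpa [Set.finrank] using this
    refine Groth.Agent.Lib.ConfigHM38.not_isStableVec_of_subspace hm p a ha W ?_ ?_ ?_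
    · intro hbot
      have := hmem ⟨0, hmpos⟩
      rw [hbot, Submodule.mem_bot] at this
      exact hp _ this
    · intro htop
      rw [htop, finrank_top, Module.finrank_fin_fun] at hfin
      omega
    · have hcard : Nat.card {i : Fin m // p i ∈ W} = m := by
        rw [Nat.card_eq_fintype_card, Fintype.card_subtype]
        have : (Finset.univ.filter fun i => p i ∈ W) = Finset.univ := by
          ext i; simp [hmem i]
        rw [this, Finset.card_univ, Fintype.card_fin]
      rw [hcard]
      exact Nat.mul_le_mul_left m (by omega)

end Groth.Agent.S18263
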