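import Groth.Statements.S19202
import Mathlib

set_option autoImplicit false
universe u
open CategoryTheory AlgebraicGeometry
open FlatMor

namespace Groth.Agent.S19202
set_option linter.style.haveILetI false
set_option linter.unusedSectionVars false

open scoped nonZeroDivisors

section Helpers

lemma flat_of_torsionFree {R S : Type*} [CommRing R] [CommRing S] [IsDedekindDomain R]
    (φ : R →+* S) (h : ∀ (r : R) (s : S), r ≠ 0 → φ r * s = 0 → s = 0) : φ.Flat := by
  letI := φ.toAlgebra
  show Module.Flat R S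
  rw [IsDedekindDomain.flat_iff_torsion_eq_bot, eq_bot_iff]
  rintro s ⟨⟨r, hr⟩, hs⟩
  have hr0 : r ≠ 0 := nonZeroDivisors.ne_zero hr
  have e : algebraMap R S = φ := RingHom.algebraMap_toAlgebra φ
  refine h r s hr0 ?_
  rw [← e, ← Algebra.smul_def]
  exact hs

lemma torsionFree_of_flat {R S : Type*} [CommRing R] [CommRing S] [IsDomain R]
    (φ : R →+* S) (hφ : φ.Flat) (r : R) (s : S) (hr : r ≠ 0) (h : φ r * s = 0) : s = 0 := by
  letI := φ.toAlgebra
  haveI : Module.Flat R S := hφ
  have := Module.Flat.isSMulRegular_of_nonZeroDivisors (M := S)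
    (mem_nonZeroDivisors_of_ne_zero hr)
  apply this
  have e : algebraMap R S = φ := RingHom.algebraMap_toAlgebra φ
  simp only [Algebra.smul_def, e, mul_zero]
  exact h

variable {R : Type u} [CommRing R] [IsDomain R] {Y : Scheme.{u}}
  (q : Y ⟶ Spec (CommRingCat.of R))

/-- the structure map `R → Γ(Y, U)` -/
noncomputable def rho (U : Y.Opens) : R →+* Γ(Y, U) :=
  (q.appLE ⊤ U le_top).hom.comp (Scheme.ΓSpecIso (CommRingCat.of R)).inv.hom

lemma rho_res {U V : Y.Opens} (h : V ≤ U) (r : R) :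
    (Y.presheaf.map (homOfLE h).op).hom (rho q U r) = rho q V r := by
  unfold rho
  have := Scheme.Hom.appLE_map q (U := ⊤) (V := U) le_top (homOfLE h).op
  have h2 := congrArg (fun φ => φ.hom ((Scheme.ΓSpecIso (CommRingCat.of R)).inv.hom r)) this
  exact h2

/-- saturation of an ideal with respect to nonzero scalars of `R` -/
def satIdeal (I : Scheme.IdealSheafData Y) (U : Y.affineOpens) : Ideal Γ(Y, U) where
  carrier := {a | ∃ r : R, r ≠ 0 ∧ rho q U.1 r * a ∈ I.ideal U}
  add_mem' := by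
    rintro a b ⟨r, hr, ha⟩ ⟨r', hr', hb⟩
    refine ⟨r * r', mul_ne_zero hr hr', ?_⟩
    have : rho q U.1 (r * r') * (a + b) =
        rho q U.1 r' * (rho q U.1 r * a) + rho q U.1 r * (rho q U.1 r' * b) := by
      rw [map_mul]; ring
    rw [this]
    exact add_mem (Ideal.mul_mem_left _ _ ha) (Ideal.mul_mem_left _ _ hb)
  zero_mem' := ⟨1, one_ne_zero, by simp⟩
  smul_mem' := by
    rintro c a ⟨r, hr, ha⟩
    refine ⟨r, hr, ?_⟩
    have : rho q U.1 r * (c • a) = c * (rho q U.1 r * a) := by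
      rw [smul_eq_mul]; ring
    rw [this]
    exact Ideal.mul_mem_left _ _ ha

lemma mem_satIdeal (I : Scheme.IdealSheafData Y) (U : Y.affineOpens) (a : Γ(Y, U)) :
    a ∈ satIdeal q I U ↔ ∃ r : R, r ≠ 0 ∧ rho q U.1 r * a ∈ I.ideal U := Iff.rfl

set_option backward.isDefEq.respectTransparency false in
/-- the saturation as ideal sheaf data -/
def sat (I : Scheme.IdealSheafData Y) : Scheme.IdealSheafData Y where
  ideal := satIdeal q I
  map_ideal_basicOpen := by
    intro U s
    apply le_antisymm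
    · refine Ideal.map_le_iff_le_comap.mpr fun a ha => ?_
      obtain ⟨r, hr, ha⟩ := ha
      refine ⟨r, hr, ?_⟩
      have h1 := rho_res q (Y.basicOpen_le s) r
      have key : (Y.presheaf.map (homOfLE (Y.basicOpen_le s)).op).hom (rho q U.1 r * a) ∈
          Ideal.map (Y.presheaf.map (homOfLE (Y.basicOpen_le s)).op).hom (I.ideal U) :=
        Ideal.mem_map_of_mem _ ha
      rw [I.map_ideal_basicOpen U s, map_mul, h1] at key
      exact key
    · intro x hx
      have := U.2.isLocalization_basicOpen s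
      obtain ⟨a, ⟨_, n, rfl⟩, rfl⟩ := IsLocalization.exists_mk'_eq (.powers s) x
      obtain ⟨r, hr, hx⟩ := hx
      refine (IsLocalization.mk'_mem_map_algebraMap_iff _ _ _ _ _).mpr ?_
      have h1 : algebraMap Γ(Y, U.1) Γ(Y, Y.basicOpen s) (rho q U.1 r) =
          rho q (Y.basicOpen s) r := rho_res q (Y.basicOpen_le s) r
      have hx' : algebraMap Γ(Y, U.1) Γ(Y, Y.basicOpen s) (rho q U.1 r) *
          IsLocalization.mk' Γ(Y, Y.basicOpen s) a
            (⟨s ^ n, n, rfl⟩ : Submonoid.powers s) ∈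
          Ideal.map (algebraMap Γ(Y, U.1) Γ(Y, Y.basicOpen s)) (I.ideal U) := by
        rw [h1]
        have h2 := I.map_ideal_basicOpen U s
        have h3 : Ideal.map (algebraMap Γ(Y, U.1) Γ(Y, Y.basicOpen s)) (I.ideal U) =
            I.ideal (Y.affineBasicOpen s) := h2
        rw [h3]
        exact hx
      rw [IsLocalization.mul_mk'_eq_mk'_of_mul] at hx'
      obtain ⟨s', hs', hmem⟩ := (IsLocalization.mk'_mem_map_algebraMap_iff _ _ _ _ _).mp hx'
      refine ⟨s', hs', r, hr, ?_⟩
      have : rho q U.1 r * (s' * a) = s' * (rho q U.1 r * a) := by ring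
      rw [this]
      exact hmem

lemma rho_flat {X : Scheme.{u}} (p : X ⟶ Spec (CommRingCat.of R)) [Flat p] (W : X.affineOpens) :
    (rho p W.1).Flat := by
  unfold rho
  refine RingHom.Flat.comp ?_ ?_
  · exact RingHom.Flat.of_bijective
      (ConcreteCategory.bijective_of_isIso (Scheme.ΓSpecIso (CommRingCat.of R)).inv)
  · exact HasRingHomProperty.appLE @Flat p inferInstance ⟨⊤, isAffineOpen_top _⟩ W _

lemma rho_comp {X : Scheme.{u}} (f : X ⟶ Y) (U : Y.Opens) (W : X.Opens) (hW : W ≤ f ⁻¹ᵁ U) (r : R) :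
    (f.appLE U W hW).hom (rho q U r) = rho (f ≫ q) W r := by
  unfold rho
  have := Scheme.Hom.appLE_comp_appLE f q ⊤ U W le_top hW
  have h2 := congrArg (fun φ => φ.hom ((Scheme.ΓSpecIso (CommRingCat.of R)).inv.hom r)) this
  exact h2

lemma sat_ker_le {X : Scheme.{u}} (f : X ⟶ Y) [Flat (f ≫ q)] :
    sat q f.ker ≤ f.ker := by
  refine Scheme.IdealSheafData.le_ofIdeals_iff.mpr ?_
  intro U a ha
  obtain ⟨r, hr, ha⟩ := ha
  have h0 : (f.app U.1).hom (rho q U.1 r * a) = 0 := f.ideal_ker_le U ha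
  show (f.app U.1).hom a = 0
  fapply TopCat.Sheaf.eq_of_locally_eq' X.sheaf
    (fun W : {W : X.affineOpens // W.1 ≤ f ⁻¹ᵁ U.1} => W.1.1)
    (f ⁻¹ᵁ U.1) (fun W => homOfLE W.2)
  · intro x hx
    obtain ⟨_, ⟨W, hW, rfl⟩, hxW, hWV⟩ := X.isBasis_affineOpens.exists_subset_of_mem_open hx
      (f ⁻¹ᵁ U.1).isOpen
    exact TopologicalSpace.Opens.mem_iSup.mpr ⟨⟨⟨W, hW⟩, hWV⟩, hxW⟩
  · rintro ⟨W, hW⟩
    show (X.presheaf.map (homOfLE hW).op).hom ((f.app U.1).hom a) =
      (X.presheaf.map (homOfLE hW).op).hom 0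
    rw [map_zero]
    show (f.appLE U.1 W.1 hW).hom a = 0
    have h1 : (f.appLE U.1 W.1 hW).hom (rho q U.1 r * a) = 0 := by
      show (X.presheaf.map (homOfLE hW).op).hom ((f.app U.1).hom (rho q U.1 r * a)) = 0
      rw [h0, map_zero]
    rw [map_mul, rho_comp] at h1
    exact torsionFree_of_flat _ (rho_flat (f ≫ q) W) r _ hr h1

set_option backward.isDefEq.respectTransparency false in
lemma cover_comp {X : Scheme.{u}} (f : X ⟶ Y) (U : Y.affineOpens) :
    f.ker.subschemeCover.f U ≫ f.imageι ≫ q =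
      Spec.map ((Scheme.ΓSpecIso (CommRingCat.of R)).inv ≫ q.appLE ⊤ U.1 le_top ≫
        CommRingCat.ofHom (Ideal.Quotient.mk (f.ker.ideal U))) := by
  have h1 : f.ker.subschemeCover.f U ≫ f.imageι =
      f.ker.glueDataObjι U ≫ U.1.ι := f.ker.subschemeCover_map_subschemeι U
  have h2 : U.2.fromSpec ≫ q = Spec.map (q.appLE ⊤ U.1 le_top) ≫
      Spec.map (Scheme.ΓSpecIso (CommRingCat.of R)).inv := by
    rw [← IsAffineOpen.SpecMap_appLE_fromSpec q (isAffineOpen_top _) U.2 le_top,
      IsAffineOpen.fromSpec_top, Scheme.isoSpec_Spec_inv]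
  have e0 : f.ker.subschemeCover.f U ≫ f.imageι ≫ q =
      (f.ker.glueDataObjι U ≫ U.1.ι) ≫ q := by
    rw [← h1, Category.assoc]
  rw [e0, Scheme.IdealSheafData.glueDataObjι_ι, Category.assoc, h2, ← Spec.map_comp,
    ← Spec.map_comp, Category.assoc]

set_option backward.isDefEq.respectTransparency false in
lemma flat_cover {R : Type u} [CommRing R] [IsDedekindDomain R] {Y : Scheme.{u}}
    (q : Y ⟶ Spec (CommRingCat.of R)) {X : Scheme.{u}} (f : X ⟶ Y)
    (hsat : sat q f.ker ≤ f.ker) (U : Y.affineOpens) :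
    Flat (f.ker.subschemeCover.f U ≫ f.imageι ≫ q) := by
  rw [cover_comp, Flat.SpecMap_iff]
  show ((Ideal.Quotient.mk (f.ker.ideal U)).comp (rho q U.1)).Flat
  apply flat_of_torsionFree
  intro r x hr hx
  obtain ⟨a, rfl⟩ := Ideal.Quotient.mk_surjective x
  rw [RingHom.comp_apply, ← map_mul, Ideal.Quotient.eq_zero_iff_mem] at hx
  rw [Ideal.Quotient.eq_zero_iff_mem]
  exact hsat U ⟨r, hr, hx⟩

end Helpers


/-- Let R be a Dedekind domain, X and Y schemes over Spec R with X flat over Spec R, and f : X → Y a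
morphism over Spec R. Then the scheme-theoretic image of f, i.e. the closed subscheme of Y cut out
by the kernel ideal sheaf of f, is flat over Spec R. (The published statement takes the base to be a
non-singular curve and f proper; this row takes the spectrum of any Dedekind domain and any morphism
f over it.) -/
theorem result (R : Type u) [CommRing R] [IsDedekindDomain R]
    {X Y : Scheme.{u}} (p : X ⟶ Spec (CommRingCat.of R)) (q : Y ⟶ Spec (CommRingCat.of R))
    (f : X ⟶ Y) (w : f ≫ q = p) [Flat p] : Flat (f.imageι ≫ q) := by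
  subst w
  have hsat := sat_ker_le q f
  haveI : IsZariskiLocalAtSource @Flat :=
    HasRingHomProperty.instIsZariskiLocalAtSource (Q := RingHom.Flat)
  rw [IsZariskiLocalAtSource.iff_of_openCover (P := @Flat) f.ker.subschemeCover.openCover]
  exact fun U => flat_cover q f hsat U

end Groth.Agent.S19202
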