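import Groth.Statements.S18266
import Mathlib
import Groth.Agent.S19202

set_option autoImplicit false
universe u
open CategoryTheory AlgebraicGeometry
open FDesc

namespace Groth.Agent.S18266
set_option linter.style.haveILetI false
set_option linter.unusedSectionVars false

open CategoryTheory.Limits

section Helpers

/-- In a pushout square of commutative rings with one leg flat and the other injective,
the map parallel to the injective leg is injective. -/
lemma injective_of_isPushout {R A B P : CommRingCat.{u}} {f : R ⟶ A} {g : R ⟶ B}
    {a : A ⟶ P} {b : B ⟶ P} (H : IsPushout f g a b) (hf : f.hom.Flat)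
    (hg : Function.Injective g.hom) : Function.Injective a.hom := by
  algebraize [f.hom, g.hom]
  have H' : IsPushout f g
      (CommRingCat.ofHom (S := TensorProduct R A B) Algebra.TensorProduct.includeLeftRingHom)
      (CommRingCat.ofHom (S := TensorProduct R A B) Algebra.TensorProduct.includeRight.toRingHom) :=
    CommRingCat.isPushout_tensorProduct R A B
  have e := IsPushout.inl_isoIsPushout_hom _ _ H' H
  have hinj : Function.Injective
      (Algebra.TensorProduct.includeLeftRingHom : A →+* TensorProduct R A B) :=
    Algebra.TensorProduct.includeLeft_injective (S := R) (A := A) (B := B) hg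
  have : a.hom = (H'.isoIsPushout _ _ H).hom.hom.comp
      (Algebra.TensorProduct.includeLeftRingHom : A →+* TensorProduct R A B) := by
    exact congrArg CommRingCat.Hom.hom e.symm
  rw [this]
  exact (ConcreteCategory.bijective_of_isIso (H'.isoIsPushout _ _ H).hom).injective.comp hinj

/-- sections of a flat `S`-scheme over an affine open inject into sections of the base change
along `b : T ⟶ S` (`S`, `T` affine) when `Γ(S) → Γ(T)` is injective. -/
lemma app_fst_injective {Z S T : Scheme.{u}} [IsAffine S] [IsAffine T] (p : Z ⟶ S) (b : T ⟶ S)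
    [Flat p] (hb : Function.Injective (b.appLE ⊤ ⊤ le_top).hom) (W : Z.affineOpens) :
    Function.Injective ((pullback.fst p b).app W.1).hom := by
  have H : IsPullback (pullback.fst p b) (pullback.snd p b) p b := IsPullback.of_hasPullback p b
  have hiso := isIso_pushoutSection_of_isAffineOpen H (US := ⊤) (UT := ⊤) (UX := W.1)
    (UY := (pullback.fst p b) ⁻¹ᵁ W.1 ⊓ (pullback.snd p b) ⁻¹ᵁ ⊤) le_top le_top rfl
    (isAffineOpen_top S) (isAffineOpen_top T) W.2
  have hpo := (isIso_pushoutSection_iff H (US := ⊤) (UT := ⊤) (UX := W.1)
    (UY := (pullback.fst p b) ⁻¹ᵁ W.1 ⊓ (pullback.snd p b) ⁻¹ᵁ ⊤) le_top le_top rfl).mp hiso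
  have hflat : (p.appLE ⊤ W.1 le_top).hom.Flat :=
    HasRingHomProperty.appLE @Flat p inferInstance ⟨⊤, isAffineOpen_top _⟩ W _
  have hinj := injective_of_isPushout hpo hflat hb
  intro t t' htt
  apply hinj
  have : ∀ t, ((pullback.fst p b).appLE W.1
      ((pullback.fst p b) ⁻¹ᵁ W.1 ⊓ (pullback.snd p b) ⁻¹ᵁ ⊤) (by simp)).hom t =
      ((pullback p b).presheaf.map (homOfLE (inf_le_left)).op).hom
        (((pullback.fst p b).app W.1).hom t) := fun t => rfl
  rw [this, this, htt]

variable (R : CommRingCat.{u}) (η : Spec R)

set_option backward.isDefEq.respectTransparency.types false in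
/-- the ring map underlying `Spec κ(η) ⟶ Spec R` -/
noncomputable def beta : R ⟶ (Spec R).residueField η :=
  CommRingCat.ofHom (algebraMap R η.asIdeal.ResidueField) ≫
    (Scheme.Spec.residueFieldIso R η).inv

set_option backward.isDefEq.respectTransparency.types false in
lemma specMap_beta : Spec.map (beta R η) = (Spec R).fromSpecResidueField η := by
  unfold beta
  rw [Spec.map_comp]
  exact Scheme.Spec.map_residueFieldIso_inv_eq_fromSpecResidueField R η

set_option backward.isDefEq.respectTransparency.types false in
lemma beta_injective (hη : η.asIdeal = ⊥) : Function.Injective (beta R η).hom := by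
  unfold beta
  rw [CommRingCat.hom_comp]
  refine (ConcreteCategory.bijective_of_isIso
    (Scheme.Spec.residueFieldIso R η).inv).injective.comp ?_
  rw [CommRingCat.hom_ofHom, injective_iff_map_eq_zero]
  intro a ha
  have := Ideal.algebraMap_residueField_eq_zero.mp ha
  rw [hη] at this
  exact this

lemma appLE_top_injective (hη : η.asIdeal = ⊥) :
    Function.Injective (((Spec R).fromSpecResidueField η).appLE ⊤ ⊤ le_top).hom := by
  rw [← specMap_beta]
  have h1 : (Spec.map (beta R η)).appLE ⊤ ⊤ le_top = (Spec.map (beta R η)).appTop := by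
    simp only [Scheme.Hom.appLE]
    exact Category.comp_id _
  have h2 : (Spec.map (beta R η)).appTop = (Scheme.ΓSpecIso _).hom ≫ beta R η ≫
      (Scheme.ΓSpecIso _).inv := by
    rw [← Category.assoc, ← Scheme.ΓSpecIso_naturality, Category.assoc, Iso.hom_inv_id,
      Category.comp_id]
  rw [h1, h2, CommRingCat.hom_comp, CommRingCat.hom_comp]
  exact (ConcreteCategory.bijective_of_isIso (Scheme.ΓSpecIso _).inv).injective.comp
    ((beta_injective R η hη).comp
      (ConcreteCategory.bijective_of_isIso (Scheme.ΓSpecIso _).hom).injective)

lemma flat_fromSpecResidueField {A : Type u} [CommRing A] [IsDedekindDomain A]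
    (η : ↥(Spec (CommRingCat.of A))) (hη : η.asIdeal = ⊥) :
    Flat ((Spec (CommRingCat.of A)).fromSpecResidueField η) := by
  rw [← specMap_beta, Flat.SpecMap_iff]
  apply Groth.Agent.S19202.flat_of_torsionFree
  intro r s hr hs
  have h1 : (beta (CommRingCat.of A) η).hom r ≠ 0 := by
    intro h0
    exact hr (beta_injective _ η hη (by rw [h0, map_zero]))
  rcases mul_eq_zero.mp hs with h | h
  · exact absurd h h1
  · exact h

end Helpers


/-- Let A be a discrete valuation ring, η the generic point of Spec A, and f : X → Spec A a morphism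
from an arbitrary scheme X. The scheme-theoretic closure of the generic fibre X_η in X (the flat
completion) is flat over Spec A, and it is the largest closed subscheme of X flat over Spec A: for
every closed immersion i : Z → X with Z flat over Spec A, the ideal sheaf of the flat completion is
contained in the ideal sheaf of i. -/
theorem result (A : Type u) [CommRing A] [IsDomain A]
    [IsDiscreteValuationRing A] {X : Scheme.{u}} (f : X ⟶ Spec (CommRingCat.of A))
    (η : ↥(Spec (CommRingCat.of A))) (hη : η.asIdeal = ⊥) :
    Flat ((f.fiberι η).imageι ≫ f) ∧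
      ∀ (Z : Scheme.{u}) (i : Z ⟶ X), IsClosedImmersion i → Flat (i ≫ f) → (f.fiberι η).ker ≤ i.ker := by
  haveI : IsDedekindDomain A := inferInstance
  have hb := flat_fromSpecResidueField η hη
  constructor
  · haveI : Flat (f.fiberι η ≫ f) := by
      rw [Scheme.Hom.fiber_fac]
      infer_instance
    exact Groth.Agent.S19202.result A (f.fiberι η ≫ f) f (f.fiberι η) rfl
  · intro Z i hi hflat U a ha
    rw [Scheme.Hom.ker_apply]
    show (i.app U.1).hom a = 0
    have h0 : ((f.fiberι η).app U.1).hom a = 0 := (f.fiberι η).ideal_ker_le U ha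
    -- the affine open `i ⁻¹ U`
    have hW : IsAffineOpen (i ⁻¹ᵁ U.1) := U.2.preimage i
    let b := (Spec (CommRingCat.of A)).fromSpecResidueField η
    have hinj := app_fst_injective (i ≫ f) b (appLE_top_injective _ η hη) ⟨_, hW⟩
    apply hinj
    rw [map_zero]
    -- the map between generic fibres
    let h : pullback (i ≫ f) b ⟶ f.fiber η :=
      pullback.lift (pullback.fst (i ≫ f) b ≫ i) (pullback.snd (i ≫ f) b)
        (by rw [Category.assoc]; exact pullback.condition)
    have hh : h ≫ f.fiberι η = pullback.fst (i ≫ f) b ≫ i := pullback.lift_fst _ _ _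
    have e1 : ((pullback.fst (i ≫ f) b ≫ i).app U.1).hom a = 0 := by
      rw [Scheme.Hom.congr_app hh.symm U.1]
      change ((pullback (i ≫ f) b).presheaf.map _).hom
        ((h.app _).hom (((f.fiberι η).app U.1).hom a)) = 0
      rw [h0, map_zero, map_zero]
    exact e1

end Groth.Agent.S18266
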