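import Groth.Statements.S18283
import Mathlib
-- import your own Groth.Agent.* helpers here

set_option autoImplicit false
universe u v
open CAlgX

namespace Groth.Agent.S18283

section
variable {A : Type u} [CommRing A] {ι : Type v} [Fintype ι] [DecidableEq ι]

/-- the marked vectors -/
def fvec (H : Finset ι) (c : ι → ι → A) (j : ι) : ι → A :=
  Pi.single j (1 : A) - ∑ i ∈ Hᶜ, c j i • Pi.single i (1 : A)

lemma fvec_apply_of_mem (H : Finset ι) (c : ι → ι → A) (j k : ι) (hk : k ∈ H) :
    fvec H c j k = if k = j then 1 else 0 := by
  unfold fvec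
  rw [Pi.sub_apply, Finset.sum_apply]
  have h0 : ∑ i ∈ Hᶜ, (c j i • Pi.single i (1 : A)) k = 0 := by
    apply Finset.sum_eq_zero
    intro i hi
    have hik : k ≠ i := by
      rintro rfl
      exact (Finset.mem_compl.1 hi) hk
    simp [hik]
  rw [h0, sub_zero, Pi.single_apply]

lemma wedge_zero_of_span (H : Finset ι) (c : ι → ι → A)
    (v : Fin (H.card + 1) → ι → A)
    (hv : ∀ k, v k ∈ Submodule.span A ((fun j => fvec H c j) '' ↑H)) :
    exteriorPower.ιMulti A (H.card + 1) v = 0 := by
  classical
  have : ∀ k, ∃ a : ι → A, v k = ∑ j ∈ H, a j • fvec H c j := by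
    intro k
    obtain ⟨l, hl, hlv⟩ := (Finsupp.mem_span_image_iff_linearCombination A).1 (hv k)
    refine ⟨l, ?_⟩
    rw [← hlv, Finsupp.linearCombination_apply,
      Finsupp.sum_of_support_subset l ((Finsupp.mem_supported A l).1 hl) _ (by simp)]
  choose a ha using this
  have hv' : v = fun k => ∑ j ∈ H, a k j • fvec H c j := funext ha
  rw [hv']
  change (exteriorPower.ιMulti A (H.card + 1)).toMultilinearMap _ = 0
  rw [MultilinearMap.map_sum_finset]
  apply Finset.sum_eq_zero
  intro r hr
  rw [Fintype.mem_piFinset] at hr
  rw [MultilinearMap.map_smul_univ]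
  obtain ⟨x, -, y, -, hxy, hr'⟩ := Finset.exists_ne_map_eq_of_card_lt_of_maps_to
    (s := (Finset.univ : Finset (Fin (H.card + 1)))) (t := H) (f := r) (by simp) (fun k _ => hr k)
  have : (exteriorPower.ιMulti A (H.card + 1)).toMultilinearMap (fun i => fvec H c (r i)) = 0 :=
    AlternatingMap.map_eq_zero_of_eq _ _ (by simp [hr']) hxy
  rw [this, smul_zero]

lemma mem_span_of_wedge (H : Finset ι) (c : ι → ι → A) (M : Submodule A (ι → A))
    (hf : ∀ j ∈ H, fvec H c j ∈ M)
    (hw : ∀ v : Fin (H.card + 1) → ι → A, (∀ k, v k ∈ M) →
          exteriorPower.ιMulti A (H.card + 1) v = 0)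
    (m : ι → A) (hm : m ∈ M) :
    m ∈ Submodule.span A ((fun j => fvec H c j) '' ↑H) := by
  classical
  set m' : ι → A := m - ∑ j ∈ H, m j • fvec H c j with hm'
  have hm'M : m' ∈ M := sub_mem hm (Submodule.sum_mem _ fun j hj => M.smul_mem _ (hf j hj))
  have hm'H : ∀ k ∈ H, m' k = 0 := by
    intro k hk
    rw [hm', Pi.sub_apply, Finset.sum_apply]
    have : ∑ j ∈ H, (m j • fvec H c j) k = m k := by
      rw [Finset.sum_eq_single k]
      · simp [fvec_apply_of_mem H c k k hk]
      · intro j _ hjk
        simp [fvec_apply_of_mem H c j k hk, hjk.symm]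
      · intro hk'; exact absurd hk hk'
    rw [this, sub_self]
  -- m' vanishes outside H as well
  have hm'0 : m' = 0 := by
    funext i
    by_cases hi : i ∈ H
    · exact hm'H i hi
    · let e : Fin H.card ≃ H := H.equivFin.symm
      let v : Fin (H.card + 1) → ι → A := Fin.cons m' (fun k => fvec H c (e k))
      let φ : Fin (H.card + 1) → Module.Dual A (ι → A) :=
        Fin.cons (LinearMap.proj i) (fun k => LinearMap.proj (e k : ι))
      have hvM : ∀ k, v k ∈ M := by
        intro k
        refine Fin.cases ?_ (fun k => ?_) k
        · exact hm'M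
        · exact hf _ (e k).2
      have h0 := hw v hvM
      have h1 : exteriorPower.pairingDual A (ι → A) (H.card + 1)
          (exteriorPower.ιMulti _ _ φ) (exteriorPower.ιMulti _ _ v) = 0 := by
        rw [h0, map_zero]
      rw [exteriorPower.pairingDual_ιMulti_ιMulti, Matrix.det_succ_row_zero,
        Fin.sum_univ_succ] at h1
      have hrest : ∑ j : Fin H.card, (-1 : A) ^ ((j.succ : Fin (H.card + 1)) : ℕ) *
          (Matrix.of fun a b => φ b (v a)) 0 j.succ *
          ((Matrix.of fun a b => φ b (v a)).submatrix Fin.succ j.succ.succAbove).det = 0 := by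
        apply Finset.sum_eq_zero
        intro j _
        have : (Matrix.of fun a b => φ b (v a)) 0 j.succ = 0 := by
          simp only [Matrix.of_apply, φ, v, Fin.cons_succ, Fin.cons_zero, LinearMap.proj_apply]
          exact hm'H _ (e j).2
        rw [this, mul_zero, zero_mul]
      rw [hrest, add_zero] at h1
      have hsub : ((Matrix.of fun a b => φ b (v a)).submatrix Fin.succ
          (Fin.succAbove (0 : Fin (H.card + 1)))) = 1 := by
        ext a b
        simp only [Matrix.submatrix_apply, Matrix.of_apply, Fin.succAbove_zero, φ, v,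
          Fin.cons_succ, LinearMap.proj_apply]
        rw [fvec_apply_of_mem H c _ _ (e b).2, Matrix.one_apply]
        by_cases hab : a = b
        · subst hab; simp
        · have : (e b : ι) ≠ (e a : ι) := fun h => hab (e.injective (Subtype.ext h)).symm
          simp [hab, this]
      rw [hsub, Matrix.det_one] at h1
      simpa [φ, v] using h1
  have : m = ∑ j ∈ H, m j • fvec H c j := by
    have := hm'0
    rw [hm', sub_eq_zero] at this
    exact this
  rw [this]
  exact Submodule.sum_mem _ fun j hj =>
    Submodule.smul_mem _ _ (Submodule.subset_span ⟨j, hj, rfl⟩)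

end

/-- Let A be a commutative ring, ι a finite index type, H a finite set of indices (the head indices) and
c : ι → ι → A a table of coefficients; for j ∈ H put f_j = e_j − Σ_{i ∉ H} c_{ji} e_i in the free
module A^ι, so that each f_j has head e_j with coefficient 1 and tail supported outside H. If a
submodule M of A^ι contains every f_j with j ∈ H, then M is the A-span of these f_j if and only if
every wedge product of |H|+1 elements of M vanishes in the (|H|+1)-st exterior power of A^ι
(equivalently, every (|H|+1)-minor of every matrix whose rows lie in M vanishes). The published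
statement is the case where A is a Noetherian algebra over a field of characteristic zero, A^ι is
the degree-(m+1) part of the polynomial ring over A with its basis of terms, H is the set of
degree-(m+1) terms of a strongly stable monomial ideal generated in degree m, and M is the
degree-(m+1) part of an ideal generated by a marked set on that monomial ideal; this row allows any
commutative ring and any submodule containing the marked polynomials. -/
theorem result
    {A : Type u} [CommRing A] {ι : Type v} [Fintype ι] [DecidableEq ι]
    (H : Finset ι) (c : ι → ι → A) (M : Submodule A (ι → A))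
    (hf : ∀ j ∈ H, (Pi.single j (1 : A) - ∑ i ∈ Hᶜ, c j i • Pi.single i (1 : A)) ∈ M) :
    M = Submodule.span A ((fun j => Pi.single j (1 : A) - ∑ i ∈ Hᶜ, c j i • Pi.single i (1 : A)) '' ↑H)
      ↔ ∀ v : Fin (H.card + 1) → ι → A, (∀ k, v k ∈ M) →
          exteriorPower.ιMulti A (H.card + 1) v = 0 := by
  classical
  change M = Submodule.span A ((fun j => fvec H c j) '' ↑H) ↔ _
  constructor
  · intro hM v hv
    exact wedge_zero_of_span H c v (fun k => hM ▸ hv k)
  · intro hw
    apply le_antisymm
    · intro m hm
      exact mem_span_of_wedge H c M hf hw m hm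
    · rw [Submodule.span_le]
      rintro _ ⟨j, hj, rfl⟩
      exact hf j hj

end Groth.Agent.S18283
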