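import Mathlib
import Groth.Agent.Lib.MagnetDense27
import Groth.Statements.S18285

set_option autoImplicit false
universe u
open CategoryTheory MonoidalCategory CartesianMonoidalCategory MonObj AlgebraicGeometry Opposite
open Magnet

namespace Groth.Agent.S18285

section Helpers

/-- An equivariant `φ : A(N)_S ⊗ T ⟶ X` restricted to `A(M)_S ⊗ T` is the orbit map of its value on
the unit section. -/
theorem whiskerRight_comp_eq {S : Scheme.{u}} {M : Type} [AddCommMonoid M] {X : Over S}
    (a : Magnet.MonAct (Magnet.AMonS S M) X) (N : AddSubmonoid M) (T : Over S)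
    (φ : Magnet.AMonS S N ⊗ T ⟶ X)
    (hφ : Magnet.MonAct.IsEquivariant ((Magnet.subAct S M N).prod
      (Magnet.MonAct.trivial (Magnet.AMonS S M) T)) a φ) :
    (Magnet.AMonS.map S N.subtype ▷ T) ≫ φ =
      (Magnet.AMonS S M ◁ (lift (toUnit T ≫ η[Magnet.AMonS S N]) (𝟙 T) ≫ φ)) ≫ a.act := by
  apply Magnet.hom_ext_lift₂
  intro T' g y
  rw [Magnet.MonAct.mem_eqvHom_iff] at hφ
  have h1 := hφ T' g (1 : T' ⟶ Magnet.AMonS S N) y
  have h2 : lift g (1 : T' ⟶ Magnet.AMonS S N) ≫ (Magnet.subAct S M N).act =
      g ≫ Magnet.AMonS.map S N.subtype := by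
    unfold Magnet.subAct
    rw [Magnet.MonAct.lift_restrict_act, Magnet.MonAct.lift_regular_act, _root_.mul_one]
  have h3 : lift (1 : T' ⟶ Magnet.AMonS S N) y ≫ φ =
      y ≫ lift (toUnit T ≫ η[Magnet.AMonS S N]) (𝟙 T) ≫ φ := by
    rw [← Category.assoc, comp_lift, Category.comp_id, ← Category.assoc,
      toUnit_unique (y ≫ toUnit T) (toUnit T'), Hom.one_def]
  rw [h2, h3] at h1
  rw [lift_whiskerRight_assoc, h1, lift_whiskerLeft_assoc]

end Helpers

/-- Let X be an S-scheme separated over S with an action of the diagonalizable monoid scheme A(M)_S of a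
commutative monoid M, and N a submonoid of M. Then the canonical map from the attractor X^N to X
(evaluation at the unit section of A(N)_S) is a monomorphism: for every S-scheme T it is injective
on T-points. (The published statement allows X to be an algebraic space over S; here X is a scheme.) -/
theorem result (S : Scheme.{u}) (M : Type) [AddCommMonoid M]
    (X : Over S) [IsSeparated X.hom] (a : Magnet.MonAct (Magnet.AMonS S M) X) (N : AddSubmonoid M) (T : Over S) :
    Function.Injective (fun φ => (Magnet.attrToX a N).app (op T) φ) := by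
  rintro ⟨φ₁, h₁⟩ ⟨φ₂, h₂⟩ h12
  apply Subtype.ext
  have h3 : lift (toUnit T ≫ η[Magnet.AMonS S N]) (𝟙 T) ≫ φ₁ =
      lift (toUnit T ≫ η[Magnet.AMonS S N]) (𝟙 T) ≫ φ₂ := h12
  refine Groth.Agent.Lib.MagnetDense27.hom_ext_of_whiskerRight_map S N.subtype
    Subtype.val_injective ?_
  rw [Groth.Agent.S18285.whiskerRight_comp_eq a N T φ₁ h₁,
    Groth.Agent.S18285.whiskerRight_comp_eq a N T φ₂ h₂, h3]

end Groth.Agent.S18285
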