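import Mathlib
import Groth.Agent.Lib.MagnetDense27
import Groth.Statements.S18288

set_option autoImplicit false
universe u
open CategoryTheory MonoidalCategory CartesianMonoidalCategory MonObj AlgebraicGeometry Opposite
open Magnet

namespace Groth.Agent.S18288

section Helpers

theorem AMon_map_id (R : Type u) [CommRing R] (M : Type) [AddCommMonoid M] :
    Magnet.AMon.map R (AddMonoidHom.id M) = 𝟙 _ := by
  ext : 1
  rw [Magnet.AMon.map_left]
  change Spec.map _ = 𝟙 _
  rw [← Spec.map_id]
  congr 1
  apply CommRingCat.hom_ext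
  apply MonoidAlgebra.ringHom_ext
  · intro r; simp
  · intro m; simp

theorem AMonS_map_id (S : Scheme.{u}) (M : Type) [AddCommMonoid M] :
    Magnet.AMonS.map S (AddMonoidHom.id M) = 𝟙 _ := by
  rw [Magnet.AMonS.map, Groth.Agent.S18288.AMon_map_id, CategoryTheory.Functor.map_id]

theorem isIso_AMonS_map (S : Scheme.{u}) {N M : Type} [AddCommMonoid N] [AddCommMonoid M]
    (g : N →+ M) (hg : Function.Bijective g) : IsIso (Magnet.AMonS.map S g) := by
  let e := AddEquiv.ofBijective g hg
  refine ⟨Magnet.AMonS.map S e.symm.toAddMonoidHom, ?_, ?_⟩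
  · rw [← Magnet.AMonS.map_comp, ← Groth.Agent.S18288.AMonS_map_id]
    congr 1
    ext x
    exact e.apply_symm_apply x
  · rw [← Magnet.AMonS.map_comp, ← Groth.Agent.S18288.AMonS_map_id]
    congr 1
    ext x
    exact e.symm_apply_apply x


theorem equivariant_aux (S : Scheme.{u}) (M Z : Type) [AddCommMonoid M]
    [AddCommGroup Z] (f : M →+ Z) (hf : Function.Injective f) (Y : AddSubmonoid Z)
    {X : Over S} [IsSeparated X.hom]
    (a : Magnet.MonAct (Magnet.AMonS S M) X) (T : Over S)
    [IsIso (Magnet.AMonS.map S ((f.comp (Y.comap f).subtype).codRestrict Y (fun x => x.2)))]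
    (ψ : Magnet.AMonS S Y ⊗ T ⟶ X)
    (hψ : Magnet.MonAct.IsEquivariant ((Magnet.subAct S Z Y).prod
      (Magnet.MonAct.trivial (Magnet.AMonS S Z) T)) (a.restrict (Magnet.AMonS.map S f)) ψ) :
    Magnet.MonAct.IsEquivariant ((Magnet.subAct S M (Y.comap f)).prod
      (Magnet.MonAct.trivial (Magnet.AMonS S M) T)) a
      ((inv (Magnet.AMonS.map S ((f.comp (Y.comap f).subtype).codRestrict Y (fun x => x.2))) ▷ T) ≫ ψ) := by
  set e := Magnet.AMonS.map S ((f.comp (Y.comap f).subtype).codRestrict Y (fun x => x.2)) with he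
  have hcomp : Magnet.AMonS.map S f ≫ Magnet.AMonS.map S (Y.comap f).subtype =
      Magnet.AMonS.map S Y.subtype ≫ e := by
    rw [he, ← Magnet.AMonS.map_comp, ← Magnet.AMonS.map_comp]
    rfl
  unfold Magnet.MonAct.IsEquivariant
  apply Groth.Agent.Lib.MagnetDense27.hom_ext_of_whiskerRight_map S f hf
  apply Magnet.hom_ext_lift₂
  intro T' z w
  rw [Magnet.MonAct.mem_eqvHom_iff] at hψ
  have h1 := hψ T' z ((w ≫ fst _ _) ≫ inv e) (w ≫ snd _ _)
  have hw : w = lift (w ≫ fst _ _) (w ≫ snd _ _) := (lift_comp_fst_snd w).symm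
  generalize w ≫ fst _ _ = b at h1 hw
  generalize w ≫ snd _ _ = t at h1 hw
  subst hw
  have key : (lift (z ≫ Magnet.AMonS.map S f) b ≫ (Magnet.subAct S M (Y.comap f)).act) ≫ inv e =
      lift z (b ≫ inv e) ≫ (Magnet.subAct S Z Y).act := by
    rw [IsIso.comp_inv_eq]
    unfold Magnet.subAct
    rw [Magnet.MonAct.lift_restrict_act, Magnet.MonAct.lift_regular_act, Magnet.MonAct.lift_restrict_act,
      Magnet.MonAct.lift_regular_act, MonObj.mul_comp, Category.assoc, Category.assoc, hcomp, Category.assoc,
      IsIso.inv_hom_id, Category.comp_id]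
  rw [lift_whiskerRight_assoc, lift_whiskerRight_assoc, Magnet.MonAct.lift_prod_act_assoc,
    Magnet.MonAct.lift_trivial_act, lift_whiskerLeft_assoc, lift_whiskerRight_assoc, lift_whiskerRight_assoc,
    key, h1, Magnet.MonAct.lift_restrict_act]

end Helpers

/-- Let M be a commutative monoid with an injective homomorphism f : M → Z into a commutative group Z
(so M is cancellative; the published statement takes Z to be the group completion of M, and the same
argument applies to any such Z), let Y be a submonoid of Z contained in the image of M, and let X be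
an S-scheme separated over S with an action of the diagonalizable monoid scheme A(M)_S. Regard X as
a D(Z)_S-scheme through D(Z)_S → A(M)_S. Then the canonical map of attractors X^{f⁻¹Y ⊂ M} → X^{Y ⊂
Z} is an isomorphism: a D(Z)_S-equivariant family out of A(Y)_S is automatically A(M)_S-equivariant.
(The published statement allows X to be an algebraic space; here X is a scheme.) -/
theorem result (S : Scheme.{u}) (M Z : Type) [AddCommMonoid M]
    [AddCommGroup Z] (f : M →+ Z) (hf : Function.Injective f) (Y : AddSubmonoid Z)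
    (hY : Y ≤ AddMonoidHom.mrange f) (X : Over S) [IsSeparated X.hom]
    (a : Magnet.MonAct (Magnet.AMonS S M) X) :
    IsIso (Magnet.attrComap a f Y) := by
  have hg : Function.Bijective ((f.comp (Y.comap f).subtype).codRestrict Y (fun x => x.2)) := by
    constructor
    · intro x y hxy
      apply Subtype.ext
      apply hf
      exact congrArg Subtype.val hxy
    · intro y
      obtain ⟨m, hm⟩ := hY y.2
      refine ⟨⟨m, ?_⟩, Subtype.ext hm⟩
      change f m ∈ Y
      rw [hm]
      exact y.2
  have hiso : IsIso (Magnet.AMonS.map S ((f.comp (Y.comap f).subtype).codRestrict Y (fun x => x.2))) :=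
    Groth.Agent.S18288.isIso_AMonS_map S _ hg
  rw [NatTrans.isIso_iff_isIso_app]
  intro T
  rw [isIso_iff_bijective]
  constructor
  · intro φ₁ φ₂ h
    apply Subtype.ext
    have h' := congrArg Subtype.val h
    rw [Magnet.attrComap_app_coe, Magnet.attrComap_app_coe] at h'
    exact (cancel_epi _).mp h'
  · intro ψ
    refine ⟨⟨(inv (Magnet.AMonS.map S ((f.comp (Y.comap f).subtype).codRestrict Y (fun x => x.2))) ▷ unop T) ≫ ψ.1, ?_⟩,
      Subtype.ext ?_⟩
    · exact Groth.Agent.S18288.equivariant_aux S M Z f hf Y a (unop T) ψ.1 ψ.2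
    · refine (Magnet.attrComap_app_coe a f Y T _).trans ?_
      exact MonoidalCategory.hom_inv_whiskerRight'_assoc _ _ _

end Groth.Agent.S18288
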