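import Mathlib
import Groth.Agent.Lib.DiagDescent27b
import Groth.Agent.S18286
import Groth.Statements.S18289

set_option autoImplicit false
universe u
open CategoryTheory MonoidalCategory CartesianMonoidalCategory MonObj AlgebraicGeometry Opposite
open Magnet

namespace Groth.Agent.S18289

section Helpers

open Groth.Agent.Lib.DiagDescent27

variable {S : Scheme.{u}} {M : Type} [AddCommGroup M] (Z : AddSubgroup M) {X : Over S}
  (a : AlgGrp.Action (Red.DS S M) X)

/-- the value at the unit section of an equivariant map is fixed by `D(M/Z)` -/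
theorem fixed_of_equivariant (T : Over S) (φ : Magnet.AMonS S Z.toAddSubmonoid ⊗ T ⟶ X)
    (hφ : Magnet.MonAct.IsEquivariant ((Magnet.subAct S M Z.toAddSubmonoid).prod
      (Magnet.MonAct.trivial (Magnet.AMonS S M) T)) (Magnet.MonAct.ofAction a) φ)
    (T' : Over S) (t : T' ⟶ T) (k : T' ⟶ Magnet.AMonS S (M ⧸ Z)) :
    lift k (t ≫ lift (toUnit T ≫ η[Magnet.AMonS S Z.toAddSubmonoid]) (𝟙 T) ≫ φ) ≫
      ((Magnet.MonAct.ofAction a).restrict (Magnet.AMonS.map S (QuotientAddGroup.mk' Z))).act =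
      t ≫ lift (toUnit T ≫ η[Magnet.AMonS S Z.toAddSubmonoid]) (𝟙 T) ≫ φ := by
  rw [Magnet.MonAct.lift_restrict_act]
  have h3 : t ≫ lift (toUnit T ≫ η[Magnet.AMonS S Z.toAddSubmonoid]) (𝟙 T) ≫ φ =
      lift (1 : T' ⟶ Magnet.AMonS S Z.toAddSubmonoid) t ≫ φ := by
    rw [← Category.assoc, comp_lift, Category.comp_id, ← Category.assoc,
      toUnit_unique (t ≫ toUnit T) (toUnit T'), Hom.one_def]
  have h1 := (Magnet.MonAct.mem_eqvHom_iff φ).mp hφ T'
    (k ≫ Magnet.AMonS.map S (QuotientAddGroup.mk' Z)) 1 t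
  have h2 : lift (k ≫ Magnet.AMonS.map S (QuotientAddGroup.mk' Z))
      (1 : T' ⟶ Magnet.AMonS S Z.toAddSubmonoid) ≫ (Magnet.subAct S M Z.toAddSubmonoid).act = 1 := by
    unfold Magnet.subAct
    rw [Magnet.MonAct.lift_restrict_act, Magnet.MonAct.lift_regular_act, _root_.mul_one,
      Category.assoc, (isPullback_AMonS_ker S Z).w, ← Category.assoc,
      toUnit_unique (k ≫ toUnit _) (toUnit T'), ← Hom.one_def]
  rw [h3, ← h1, h2]


/-- the orbit map of a `D(M/Z)`-fixed point is constant on the fibres of `D(M) ⊗ T ⟶ D(Z) ⊗ T` -/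
theorem orbit_kernel_pair (T : Over S) (x : T ⟶ X)
    (hx : ∀ (T' : Over S) (t : T' ⟶ T) (k : T' ⟶ Magnet.AMonS S (M ⧸ Z)),
      lift k (t ≫ x) ≫ ((Magnet.MonAct.ofAction a).restrict
        (Magnet.AMonS.map S (QuotientAddGroup.mk' Z))).act = t ≫ x)
    (W : Over S) (g₁ g₂ : W ⟶ Magnet.AMonS S M ⊗ T)
    (hg : g₁ ≫ (Magnet.AMonS.map S Z.toAddSubmonoid.subtype ▷ T) =
      g₂ ≫ (Magnet.AMonS.map S Z.toAddSubmonoid.subtype ▷ T)) :
    g₁ ≫ (Magnet.AMonS S M ◁ x) ≫ (Magnet.MonAct.ofAction a).act =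
      g₂ ≫ (Magnet.AMonS S M ◁ x) ≫ (Magnet.MonAct.ofAction a).act := by
  have e1 : g₁ = lift (g₁ ≫ fst _ _) (g₁ ≫ snd _ _) := (lift_comp_fst_snd g₁).symm
  have e2 : g₂ = lift (g₂ ≫ fst _ _) (g₂ ≫ snd _ _) := (lift_comp_fst_snd g₂).symm
  have hm : (g₁ ≫ fst _ _) ≫ Magnet.AMonS.map S Z.toAddSubmonoid.subtype =
      (g₂ ≫ fst _ _) ≫ Magnet.AMonS.map S Z.toAddSubmonoid.subtype := by
    have := congrArg (fun f => f ≫ fst _ _) hg
    simpa [Category.assoc, whiskerRight_fst] using this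
  have ht : g₁ ≫ snd _ _ = g₂ ≫ snd _ _ := by
    have := congrArg (fun f => f ≫ snd _ _) hg
    simpa [Category.assoc, whiskerRight_snd] using this
  generalize g₁ ≫ fst _ _ = m₁ at e1 hm
  generalize g₂ ≫ fst _ _ = m₂ at e2 hm
  generalize g₁ ≫ snd _ _ = t at e1 ht
  rw [← ht] at e2
  subst e1 e2
  clear ht
  rw [lift_whiskerLeft_assoc, lift_whiskerLeft_assoc]
  have hmι : (m₁ * m₂⁻¹) ≫ Magnet.AMonS.map S Z.toAddSubmonoid.subtype = 1 := by
    rw [MonObj.mul_comp, hm, ← MonObj.mul_comp, mul_inv_cancel, MonObj.one_comp]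
  have hcond : (m₁ * m₂⁻¹) ≫ Magnet.AMonS.map S Z.toAddSubmonoid.subtype =
      toUnit W ≫ η[Magnet.AMonS S Z.toAddSubmonoid] := by
    rw [hmι, Hom.one_def]
  have hk : (isPullback_AMonS_ker S Z).lift (m₁ * m₂⁻¹) (toUnit W) hcond ≫
      Magnet.AMonS.map S (QuotientAddGroup.mk' Z) = m₁ * m₂⁻¹ :=
    (isPullback_AMonS_ker S Z).lift_fst _ _ _
  have hm1 : m₁ = m₂ * (m₁ * m₂⁻¹) := by
    rw [mul_comm m₁, mul_inv_cancel_left]
  have hfix := hx W t ((isPullback_AMonS_ker S Z).lift (m₁ * m₂⁻¹) (toUnit W) hcond)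
  rw [Magnet.MonAct.lift_restrict_act, hk] at hfix
  conv_lhs => rw [hm1]
  rw [Magnet.MonAct.lift_mul_act, hfix]


/-- the map from the attractor to the fixed points -/
noncomputable def toFixed : Magnet.attr (Magnet.MonAct.ofAction a) Z.toAddSubmonoid ⟶
    Magnet.MonAct.fixedPsh ((Magnet.MonAct.ofAction a).restrict
      (Magnet.AMonS.map S (QuotientAddGroup.mk' Z))) where
  app T := TypeCat.ofHom fun φ =>
    ⟨lift (toUnit (unop T) ≫ η[Magnet.AMonS S Z.toAddSubmonoid]) (𝟙 (unop T)) ≫ φ.1,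
      fun T' t k => fixed_of_equivariant Z a (unop T) φ.1 φ.2 T' t k⟩
  naturality _ _ t := ConcreteCategory.hom_ext _ _ fun φ => Subtype.ext
    (ConcreteCategory.congr_hom
      ((Magnet.attrToX (Magnet.MonAct.ofAction a) Z.toAddSubmonoid).naturality t) φ)

theorem toFixed_app_coe (T : (Over S)ᵒᵖ)
    (φ : (Magnet.attr (Magnet.MonAct.ofAction a) Z.toAddSubmonoid).obj T) :
    ((toFixed Z a).app T φ).1 =
      lift (toUnit (unop T) ≫ η[Magnet.AMonS S Z.toAddSubmonoid]) (𝟙 (unop T)) ≫ φ.1 := rfl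

theorem toFixed_app_injective (T : (Over S)ᵒᵖ) : Function.Injective ((toFixed Z a).app T) := by
  intro φ₁ φ₂ h
  have hx : lift (toUnit (unop T) ≫ η[Magnet.AMonS S Z.toAddSubmonoid]) (𝟙 (unop T)) ≫ φ₁.1 =
      lift (toUnit (unop T) ≫ η[Magnet.AMonS S Z.toAddSubmonoid]) (𝟙 (unop T)) ≫ φ₂.1 :=
    congrArg Subtype.val h
  have hepi : Epi (Magnet.AMonS.map S Z.toAddSubmonoid.subtype ▷ unop T) :=
    ((isFpqc_AMonS_map_subtype S Z).whiskerRight S (unop T)).epi S
  apply Subtype.ext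
  rw [← cancel_epi (Magnet.AMonS.map S Z.toAddSubmonoid.subtype ▷ unop T),
    Groth.Agent.S18286.whiskerRight_comp_eq (Magnet.MonAct.ofAction a) Z.toAddSubmonoid (unop T)
      φ₁.1 φ₁.2,
    Groth.Agent.S18286.whiskerRight_comp_eq (Magnet.MonAct.ofAction a) Z.toAddSubmonoid (unop T)
      φ₂.1 φ₂.2, hx]

theorem toFixed_app_surjective (T : (Over S)ᵒᵖ) : Function.Surjective ((toFixed Z a).app T) := by
  rintro ⟨x, hx⟩
  have hp := (isFpqc_AMonS_map_subtype S Z).whiskerRight S (unop T)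
  obtain ⟨v, hv⟩ := exists_desc_of_isFpqc S
    (Magnet.AMonS.map S Z.toAddSubmonoid.subtype ▷ unop T) hp
    ((Magnet.AMonS S M ◁ x) ≫ (Magnet.MonAct.ofAction a).act)
    (orbit_kernel_pair Z a (unop T) x hx)
  have hveq : Magnet.MonAct.IsEquivariant ((Magnet.subAct S M Z.toAddSubmonoid).prod
      (Magnet.MonAct.trivial (Magnet.AMonS S M) (unop T))) (Magnet.MonAct.ofAction a) v := by
    have hepi : Epi (Magnet.AMonS S M ◁ (Magnet.AMonS.map S Z.toAddSubmonoid.subtype ▷ unop T)) :=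
      (hp.whiskerLeft S (Magnet.AMonS S M)).epi S
    unfold Magnet.MonAct.IsEquivariant
    rw [← cancel_epi (Magnet.AMonS S M ◁ (Magnet.AMonS.map S Z.toAddSubmonoid.subtype ▷ unop T))]
    apply Magnet.hom_ext_lift₂
    intro T' g w
    have hw : w = lift (w ≫ fst _ _) (w ≫ snd _ _) := (lift_comp_fst_snd w).symm
    generalize w ≫ fst _ _ = g' at hw
    generalize w ≫ snd _ _ = t at hw
    subst hw
    have hact : lift g (g' ≫ Magnet.AMonS.map S Z.toAddSubmonoid.subtype) ≫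
        (Magnet.subAct S M Z.toAddSubmonoid).act =
        (g * g') ≫ Magnet.AMonS.map S Z.toAddSubmonoid.subtype := by
      unfold Magnet.subAct
      rw [Magnet.MonAct.lift_restrict_act, Magnet.MonAct.lift_regular_act, MonObj.mul_comp]
    rw [lift_whiskerLeft_assoc, lift_whiskerLeft_assoc, lift_whiskerRight,
      Magnet.MonAct.lift_prod_act_assoc, Magnet.MonAct.lift_trivial_act, hact,
      ← lift_whiskerRight_assoc, hv, lift_whiskerLeft_assoc, lift_whiskerLeft_assoc]
    have hv' : lift (g' ≫ Magnet.AMonS.map S Z.toAddSubmonoid.subtype) t ≫ v =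
        lift g' (t ≫ x) ≫ (Magnet.MonAct.ofAction a).act := by
      rw [← lift_whiskerRight_assoc, hv, lift_whiskerLeft_assoc]
    rw [hv', Magnet.MonAct.lift_mul_act]
  refine ⟨⟨v, hveq⟩, Subtype.ext ?_⟩
  change lift (toUnit (unop T) ≫ η[Magnet.AMonS S Z.toAddSubmonoid]) (𝟙 (unop T)) ≫ v = x
  rw [← IsMonHom.one_hom (Magnet.AMonS.map S Z.toAddSubmonoid.subtype), ← Category.assoc,
    ← lift_whiskerRight_assoc, hv, lift_whiskerLeft_assoc, Category.id_comp, ← Hom.one_def,
    Magnet.MonAct.lift_one_act]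

end Helpers

/-- Let M be a finitely generated commutative group, Z a subgroup of M and X an S-scheme with an action
of the diagonalizable group scheme D(M)_S. Then the attractor X^Z, for Z regarded as a magnet of M,
is identified with the fixed-point functor of X under the subgroup D(M/Z)_S (acting through D(M/Z)_S
→ D(M)_S): there is an isomorphism of functors on S-schemes from X^Z to the fixed points whose
composite with the inclusion of the fixed points into X is the canonical map X^Z → X. (The published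
statement allows X to be an algebraic space; here X is a scheme.) -/
theorem result (S : Scheme.{u}) (M : Type) [AddCommGroup M] [AddGroup.FG M]
    (Z : AddSubgroup M) (X : Over S) (a : AlgGrp.Action (Red.DS S M) X) :
    ∃ e : Magnet.attr (Magnet.MonAct.ofAction a) Z.toAddSubmonoid ≅
        Magnet.MonAct.fixedPsh ((Magnet.MonAct.ofAction a).restrict (Magnet.AMonS.map S (QuotientAddGroup.mk' Z))),
      e.hom ≫ Magnet.MonAct.fixedPshι _ = Magnet.attrToX (Magnet.MonAct.ofAction a) Z.toAddSubmonoid := by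
  have hiso : IsIso (Groth.Agent.S18289.toFixed Z a) := by
    rw [NatTrans.isIso_iff_isIso_app]
    intro T
    rw [isIso_iff_bijective]
    exact ⟨Groth.Agent.S18289.toFixed_app_injective Z a T,
      Groth.Agent.S18289.toFixed_app_surjective Z a T⟩
  refine ⟨asIso (Groth.Agent.S18289.toFixed Z a), ?_⟩
  ext T φ
  rfl

end Groth.Agent.S18289
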