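import Groth.Statements.S18294
import Mathlib.CategoryTheory.Sites.SubcanonicalOver
import Mathlib.AlgebraicGeometry.Sites.Fpqc

set_option autoImplicit false
universe u v₁ u₁
open CategoryTheory MonoidalCategory CartesianMonoidalCategory MonObj AlgebraicGeometry Opposite
open Magnet Magnet.MonAct

namespace Groth.Agent.S18294

section General

variable {C : Type u₁} [Category.{v₁} C] [CartesianMonoidalCategory C] (J : GrothendieckTopology C)

/-- In a cartesian monoidal category with a topology for which `h_X` is a sheaf, the functor of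
equivariant maps `T ↦ Hom^A(B ⊗ T, X)` is a sheaf. -/
theorem isSheaf_eqvHom {A B X : C} [MonObj A] (ρ : MonAct A B) (a : MonAct A X)
    (hX : Presieve.IsSheaf J (yoneda.obj X)) : Presieve.IsSheaf J (eqvHom ρ a) := by
  intro T R hR x hx
  rw [Presieve.compatible_iff_sieveCompatible] at hx
  -- transport lemma
  have xcongr : ∀ {Y : C} (f f' : Y ⟶ T) (e : f = f') (hf : R f) (hf' : R f'),
      x f hf = x f' hf' := by
    intro Y f f' e hf hf'; subst e; rfl
  -- the pulled back sieve on `B ⊗ T`
  have hR' : R.pullback (snd B T) ∈ J (B ⊗ T) := J.pullback_stable (snd B T) hR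
  let y : Presieve.FamilyOfElements (yoneda.obj X) (R.pullback (snd B T)).arrows :=
    fun W h hh => lift (h ≫ fst B T) (𝟙 W) ≫ (x (h ≫ snd B T) hh).1
  have hy : y.Compatible := by
    rw [Presieve.compatible_iff_sieveCompatible]
    intro W Z h g hh
    change lift ((g ≫ h) ≫ fst B T) (𝟙 Z) ≫ (x ((g ≫ h) ≫ snd B T) _).1 =
      g ≫ lift (h ≫ fst B T) (𝟙 W) ≫ (x (h ≫ snd B T) hh).1
    have e1 : x ((g ≫ h) ≫ snd B T) (by simpa using R.downward_closed hh g) =
        (eqvHom ρ a).map g.op (x (h ≫ snd B T) hh) := by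
      rw [← hx (h ≫ snd B T) g hh]
      exact xcongr _ _ (Category.assoc _ _ _) _ _
    rw [e1, eqvHom_map_coe, Quiver.Hom.unop_op, lift_whiskerLeft_assoc, Category.id_comp,
      ← Category.assoc g (lift _ _), comp_lift, Category.comp_id, Category.assoc]
  obtain ⟨φ, hφ, hφu⟩ := hX _ hR' y hy
  -- key formula
  have key : ∀ {W : C} (β : W ⟶ B) (f : W ⟶ T) (hf : R f),
      lift β f ≫ φ = lift β (𝟙 W) ≫ (x f hf).1 := by
    intro W β f hf
    have hh : (R.pullback (snd B T)) (lift β f) := by
      change R (lift β f ≫ snd B T)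
      rw [lift_snd]; exact hf
    have := hφ (lift β f) hh
    change lift β f ≫ φ = lift (lift β f ≫ fst B T) (𝟙 W) ≫ (x (lift β f ≫ snd B T) hh).1 at this
    rw [this, xcongr _ f (lift_snd _ _) hh hf, lift_fst]
  -- equivariance of φ
  have hφeq : IsEquivariant (ρ.prod (MonAct.trivial A T)) a φ := by
    unfold IsEquivariant
    have hR'' : R.pullback (snd A (B ⊗ T) ≫ snd B T) ∈ J (A ⊗ (B ⊗ T)) :=
      J.pullback_stable _ hR
    refine ((hX _ hR'').isSeparatedFor).ext ?_
    intro W h hh
    change h ≫ (ρ.prod (MonAct.trivial A T)).act ≫ φ = h ≫ (A ◁ φ) ≫ a.act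
    have hf : R (h ≫ snd A (B ⊗ T) ≫ snd B T) := hh
    set g := h ≫ fst A (B ⊗ T) with hg
    set b := h ≫ snd A (B ⊗ T) ≫ fst B T with hb
    set f := h ≫ snd A (B ⊗ T) ≫ snd B T with hf'
    have hh' : h = lift g (lift b f) := by
      apply CartesianMonoidalCategory.hom_ext
      · rw [lift_fst]
      · rw [lift_snd]
        apply CartesianMonoidalCategory.hom_ext
        · rw [lift_fst, Category.assoc]
        · rw [lift_snd, Category.assoc]
    rw [hh', lift_prod_act_assoc, lift_trivial_act, key _ f hf, lift_whiskerLeft_assoc, key _ f hf]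
    have h1 := (mem_eqvHom_iff (x f hf).1).mp (x f hf).2 W g b (𝟙 W)
    exact h1
  refine ⟨⟨φ, hφeq⟩, ?_, ?_⟩
  · intro Y f hf
    apply Subtype.ext
    change (B ◁ f) ≫ φ = (x f hf).1
    have e0 : B ◁ f = lift (fst B Y) (snd B Y ≫ f) := by
      apply CartesianMonoidalCategory.hom_ext <;> simp
    have hf2 : R (snd B Y ≫ f) := R.downward_closed hf _
    rw [e0, key _ _ hf2]
    have e1 : x (snd B Y ≫ f) hf2 = (eqvHom ρ a).map (snd B Y).op (x f hf) := (hx f (snd B Y) hf)
    rw [e1, eqvHom_map_coe]
    simp only [Quiver.Hom.unop_op, lift_whiskerLeft_assoc, Category.id_comp, lift_fst_snd]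
  · intro ψ hψ
    apply Subtype.ext
    change ψ.1 = φ
    apply hφu
    intro W h hh
    change h ≫ ψ.1 = lift (h ≫ fst B T) (𝟙 W) ≫ (x (h ≫ snd B T) hh).1
    have := congrArg Subtype.val (hψ (h ≫ snd B T) hh)
    change (B ◁ (h ≫ snd B T)) ≫ ψ.1 = (x (h ≫ snd B T) hh).1 at this
    rw [← this, lift_whiskerLeft_assoc, Category.id_comp, lift_comp_fst_snd]

end General

/-- Let A be a monoid object in schemes over S acting on S-schemes B and X (in the source A is the
diagonalizable monoid scheme A(M)_S and B = A(N)_S for a magnet N, so that the functor below is the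
attractor X^N). Then the functor on S-schemes T ↦ (morphisms B ×_S T → X over S equivariant for A
acting on the first factor) is a sheaf for the fppf topology. -/
theorem result (S : Scheme.{u}) (A B X : Over S) [MonObj A] (ρ : Magnet.MonAct A B)
    (a : Magnet.MonAct A X) :
    Presheaf.IsSheaf (QuotSh.J Scheme.fppfPrecoverage S) (Magnet.MonAct.eqvHom ρ a) := by
  rw [isSheaf_iff_isSheaf_of_type]
  apply isSheaf_eqvHom
  exact GrothendieckTopology.Subcanonical.isSheaf_of_isRepresentable _

end Groth.Agent.S18294
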