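import Mathlib
import Groth.Agent.Lib.DiagDescent27d
import Groth.Statements.S18298

set_option autoImplicit false
universe u
open CategoryTheory MonoidalCategory CartesianMonoidalCategory MonObj AlgebraicGeometry Opposite
open Magnet

namespace Groth.Agent.S18298

section Helpers

open Groth.Agent.Lib.DiagDescent27

variable {S : Scheme.{u}} {M Z : Type} [AddCommGroup M] [AddCommGroup Z] (f : M →+ Z)
  (Y : AddSubmonoid Z) (hY : Y ≤ AddMonoidHom.mrange f) {X : Over S}
  (a : AlgGrp.Action (Red.DS S M) X)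

/-- `g : f⁻¹Y → Y` -/
abbrev gY : (Y.comap f) →+ Y := (f.comp (Y.comap f).subtype).codRestrict Y (fun x => x.2)

theorem ker_le : f.ker.toAddSubmonoid ≤ Y.comap f := by
  intro m hm
  change f m ∈ Y
  rw [(AddMonoidHom.mem_ker).mp hm]
  exact Y.zero_mem

include hY in
theorem gY_surjective : Function.Surjective (gY f Y) := by
  intro y
  obtain ⟨m, hm⟩ := hY y.2
  refine ⟨⟨m, ?_⟩, Subtype.ext hm⟩
  change f m ∈ Y
  rw [hm]
  exact y.2

theorem gY_ker (n n' : Y.comap f) (h : gY f Y n = gY f Y n') :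
    ∃ k : f.ker.toAddSubmonoid, n' = n + AddSubmonoid.inclusion (ker_le f Y) k := by
  have h' : f n = f n' := congrArg Subtype.val h
  refine ⟨⟨(n' : M) - n, ?_⟩, ?_⟩
  · change (n' : M) - n ∈ f.ker
    rw [AddMonoidHom.mem_ker, map_sub, h', sub_self]
  · apply Subtype.ext
    change (n' : M) = n + ((n' : M) - n)
    abel

theorem gY_inclusion (k : f.ker.toAddSubmonoid) :
    gY f Y (AddSubmonoid.inclusion (ker_le f Y) k) = 0 := by
  apply Subtype.ext
  exact (AddMonoidHom.mem_ker).mp k.2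


include hY in
theorem kernel_pair (T : Over S) (ψ : Magnet.AMonS S Y ⊗ T ⟶ X)
    (hψ : Magnet.MonAct.IsEquivariant ((Magnet.subAct S Z Y).prod
      (Magnet.MonAct.trivial (Magnet.AMonS S Z) T))
      ((Magnet.MonAct.ofAction a).restrict (Magnet.AMonS.map S f)) ψ)
    (W : Over S) (g₁ g₂ : W ⟶ Magnet.AMonS S M ⊗ (Magnet.AMonS S Y ⊗ T))
    (hg : g₁ ≫ indMap S (Y.comap f) (gY f Y) T = g₂ ≫ indMap S (Y.comap f) (gY f Y) T) :
    g₁ ≫ (Magnet.AMonS S M ◁ ψ) ≫ (Magnet.MonAct.ofAction a).act =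
      g₂ ≫ (Magnet.AMonS S M ◁ ψ) ≫ (Magnet.MonAct.ofAction a).act := by
  have hKer := isPullback_AMonS_ker' S (AddSubmonoid.inclusion (ker_le f Y)) (gY f Y)
    (gY_surjective f Y hY) (gY_ker f Y) (gY_inclusion f Y)
  have hres : Magnet.AMonS.map S (Y.comap f).subtype ≫
      Magnet.AMonS.map S (AddSubmonoid.inclusion (ker_le f Y)) =
      Magnet.AMonS.map S f.ker.toAddSubmonoid.subtype := by
    rw [← Magnet.AMonS.map_comp]; rfl
  have hgr : ∀ {W : Over S} (y : W ⟶ Magnet.AMonS S Y),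
      (y ≫ Magnet.AMonS.map S (gY f Y)) ≫
        Magnet.AMonS.map S (AddSubmonoid.inclusion (ker_le f Y)) = 1 := by
    intro W y
    rw [Category.assoc, hKer.w, ← Category.assoc, toUnit_unique (y ≫ toUnit _) (toUnit W),
      Hom.one_def]
  have hFres : Magnet.AMonS.map S Y.subtype ≫ Magnet.AMonS.map S (gY f Y) =
      Magnet.AMonS.map S f ≫ Magnet.AMonS.map S (Y.comap f).subtype := by
    rw [← Magnet.AMonS.map_comp, ← Magnet.AMonS.map_comp]; rfl
  have hmono : Mono (Magnet.AMonS.map S (gY f Y)) := ⟨fun p q hpq =>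
    hKer.hom_ext hpq (toUnit_unique _ _)⟩
  have e1 : g₁ = lift (g₁ ≫ fst _ _) (lift ((g₁ ≫ snd _ _) ≫ fst _ _) ((g₁ ≫ snd _ _) ≫ snd _ _)) := by
    rw [lift_comp_fst_snd, lift_comp_fst_snd]
  have e2 : g₂ = lift (g₂ ≫ fst _ _) (lift ((g₂ ≫ snd _ _) ≫ fst _ _) ((g₂ ≫ snd _ _) ≫ snd _ _)) := by
    rw [lift_comp_fst_snd, lift_comp_fst_snd]
  generalize g₁ ≫ fst _ _ = d₁ at e1
  generalize (g₁ ≫ snd _ _) ≫ fst _ _ = y₁ at e1
  generalize (g₁ ≫ snd _ _) ≫ snd _ _ = t₁ at e1
  generalize g₂ ≫ fst _ _ = d₂ at e2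
  generalize (g₂ ≫ snd _ _) ≫ fst _ _ = y₂ at e2
  generalize (g₂ ≫ snd _ _) ≫ snd _ _ = t₂ at e2
  subst e1 e2
  rw [lift_indMap, lift_indMap] at hg
  have h1a := congrArg (fun e => e ≫ fst _ _) hg
  have h1b := congrArg (fun e => e ≫ snd _ _) hg
  simp only [lift_fst, lift_snd] at h1a h1b
  subst h1b
  clear hg
  -- the difference
  have hE' : ((d₂⁻¹ * d₁) ≫ Magnet.AMonS.map S (Y.comap f).subtype) *
      (y₁ ≫ Magnet.AMonS.map S (gY f Y)) = y₂ ≫ Magnet.AMonS.map S (gY f Y) := by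
    rw [MonObj.mul_comp, _root_.mul_assoc, h1a, ← _root_.mul_assoc, ← MonObj.mul_comp,
      inv_mul_cancel, MonObj.one_comp, _root_.one_mul]
  have hdK : (d₂⁻¹ * d₁) ≫ Magnet.AMonS.map S f.ker.toAddSubmonoid.subtype = 1 := by
    have := congrArg (fun e => e ≫ Magnet.AMonS.map S (AddSubmonoid.inclusion (ker_le f Y))) hE'
    rw [MonObj.mul_comp, hgr, hgr, _root_.mul_one, Category.assoc, hres] at this
    exact this
  obtain ⟨W', c, z, hc, hcz⟩ := exists_fpqc_lift S f (d₂⁻¹ * d₁) hdK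
  have hepi : Epi c := hc.epi S
  rw [← cancel_epi c]
  have hd1 : c ≫ d₁ = (c ≫ d₂) * (z ≫ Magnet.AMonS.map S f) := by
    rw [← hcz, ← MonObj.comp_mul, mul_inv_cancel_left]
  have hy : (z ≫ Magnet.AMonS.map S Y.subtype) * (c ≫ y₁) = c ≫ y₂ := by
    rw [← cancel_mono (Magnet.AMonS.map S (gY f Y)), MonObj.mul_comp, Category.assoc, hFres,
      ← Category.assoc, ← hcz, Category.assoc, Category.assoc, Category.assoc, ← MonObj.comp_mul,
      hE']
  have hψ' := (Magnet.MonAct.mem_eqvHom_iff ψ).mp hψ W' z (c ≫ y₁) (c ≫ t₁)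
  have hρ : lift z (c ≫ y₁) ≫ (Magnet.subAct S Z Y).act = c ≫ y₂ := by
    unfold Magnet.subAct
    rw [Magnet.MonAct.lift_restrict_act, Magnet.MonAct.lift_regular_act, hy]
  rw [hρ, Magnet.MonAct.lift_restrict_act] at hψ'
  rw [← Category.assoc c, ← Category.assoc c, comp_lift, comp_lift, comp_lift, comp_lift,
    lift_whiskerLeft_assoc, lift_whiskerLeft_assoc, hd1, Magnet.MonAct.lift_mul_act, ← hψ']


theorem indMap_comp (T : Over S) (φ : Magnet.AMonS S (Y.comap f) ⊗ T ⟶ X)
    (hφ : Magnet.MonAct.IsEquivariant ((Magnet.subAct S M (Y.comap f)).prod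
      (Magnet.MonAct.trivial (Magnet.AMonS S M) T)) (Magnet.MonAct.ofAction a) φ) :
    indMap S (Y.comap f) (gY f Y) T ≫ φ =
      (Magnet.AMonS S M ◁ ((Magnet.AMonS.map S (gY f Y) ▷ T) ≫ φ)) ≫
        (Magnet.MonAct.ofAction a).act := by
  unfold indMap
  have h : ((Magnet.subAct S M (Y.comap f)).prod
      (Magnet.MonAct.trivial (Magnet.AMonS S M) T)).act ≫ φ =
      (Magnet.AMonS S M ◁ φ) ≫ (Magnet.MonAct.ofAction a).act := hφ
  rw [Category.assoc, h, ← Category.assoc, ← MonoidalCategory.whiskerLeft_comp]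

include hY in
theorem exists_preimage (T : Over S) (ψ : Magnet.AMonS S Y ⊗ T ⟶ X)
    (hψ : Magnet.MonAct.IsEquivariant ((Magnet.subAct S Z Y).prod
      (Magnet.MonAct.trivial (Magnet.AMonS S Z) T))
      ((Magnet.MonAct.ofAction a).restrict (Magnet.AMonS.map S f)) ψ) :
    ∃ v : Magnet.AMonS S (Y.comap f) ⊗ T ⟶ X,
      Magnet.MonAct.IsEquivariant ((Magnet.subAct S M (Y.comap f)).prod
        (Magnet.MonAct.trivial (Magnet.AMonS S M) T)) (Magnet.MonAct.ofAction a) v ∧
      (Magnet.AMonS.map S (gY f Y) ▷ T) ≫ v = ψ := by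
  have hq := isFpqc_indMap S (Y.comap f) f.ker (ker_le f Y) (gY f Y) (gY_surjective f Y hY)
    (gY_ker f Y) (gY_inclusion f Y) T
  obtain ⟨v, hv⟩ := exists_desc_of_isFpqc S (indMap S (Y.comap f) (gY f Y) T) hq
    ((Magnet.AMonS S M ◁ ψ) ≫ (Magnet.MonAct.ofAction a).act)
    (kernel_pair f Y hY a T ψ hψ)
  refine ⟨v, ?_, ?_⟩
  · have hepi : Epi (Magnet.AMonS S M ◁ indMap S (Y.comap f) (gY f Y) T) :=
      (hq.whiskerLeft S (Magnet.AMonS S M)).epi S
    unfold Magnet.MonAct.IsEquivariant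
    rw [← cancel_epi (Magnet.AMonS S M ◁ indMap S (Y.comap f) (gY f Y) T)]
    apply Magnet.hom_ext_lift₂
    intro T' d w
    have hw : w = lift (w ≫ fst _ _) (lift ((w ≫ snd _ _) ≫ fst _ _) ((w ≫ snd _ _) ≫ snd _ _)) := by
      rw [lift_comp_fst_snd, lift_comp_fst_snd]
    generalize w ≫ fst _ _ = d' at hw
    generalize (w ≫ snd _ _) ≫ fst _ _ = y at hw
    generalize (w ≫ snd _ _) ≫ snd _ _ = t at hw
    subst hw
    have hact : lift d ((d' ≫ Magnet.AMonS.map S (Y.comap f).subtype) *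
        (y ≫ Magnet.AMonS.map S (gY f Y))) ≫ (Magnet.subAct S M (Y.comap f)).act =
        ((d * d') ≫ Magnet.AMonS.map S (Y.comap f).subtype) *
          (y ≫ Magnet.AMonS.map S (gY f Y)) := by
      unfold Magnet.subAct
      rw [Magnet.MonAct.lift_restrict_act, Magnet.MonAct.lift_regular_act, MonObj.mul_comp,
        _root_.mul_assoc]
    rw [lift_whiskerLeft_assoc, lift_whiskerLeft_assoc, lift_indMap,
      Magnet.MonAct.lift_prod_act_assoc, Magnet.MonAct.lift_trivial_act, hact, ← lift_indMap_assoc,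
      hv, lift_whiskerLeft_assoc, lift_whiskerLeft_assoc, ← lift_indMap_assoc, hv,
      lift_whiskerLeft_assoc, Magnet.MonAct.lift_mul_act]
  · apply Magnet.hom_ext_lift₂
    intro T' y t
    have h1 : lift (1 : T' ⟶ Magnet.AMonS S M) (lift y t) ≫ indMap S (Y.comap f) (gY f Y) T =
        lift (y ≫ Magnet.AMonS.map S (gY f Y)) t := by
      rw [lift_indMap, MonObj.one_comp, _root_.one_mul]
    rw [lift_whiskerRight_assoc, ← h1, Category.assoc, hv, lift_whiskerLeft_assoc,
      Magnet.MonAct.lift_one_act]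

end Helpers

/-- Let f : M → Z be a homomorphism of finitely generated commutative groups, Y a submonoid of Z
contained in the image f(M), N = f⁻¹(Y), and X an S-scheme with an action of the diagonalizable
group scheme D(M)_S. Regard X as a D(Z)_S-scheme through D(Z)_S → D(M)_S. Then the canonical map of
attractors X^{N ⊂ M} → X^{Y ⊂ Z} (precomposition with A(Y)_S → A(N)_S) is an isomorphism. (The
published statement has no condition on Y; its argument passes through a quotient of D(M)_T ×_T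
A(Y)_T by the diagonalizable group of f(M) + Y^gp, whose action is not free in general — for f
multiplication by 2 on the integers and Y the natural numbers the points over the vertex of A(Y)
have stabilizer μ₂ — but is free when Y lies in f(M), so the statement is given here under that
condition. X may be an algebraic space in the source; here it is a scheme.) -/
theorem result (S : Scheme.{u}) (M Z : Type) [AddCommGroup M] [AddCommGroup Z]
    [AddGroup.FG M] [AddGroup.FG Z] (f : M →+ Z) (Y : AddSubmonoid Z) (hY : Y ≤ AddMonoidHom.mrange f)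
    (X : Over S) (a : AlgGrp.Action (Red.DS S M) X) :
    IsIso (Magnet.attrComap (Magnet.MonAct.ofAction a) f Y) := by
  rw [NatTrans.isIso_iff_isIso_app]
  intro T
  rw [isIso_iff_bijective]
  constructor
  · intro φ₁ φ₂ h
    have hq := Groth.Agent.Lib.DiagDescent27.isFpqc_indMap S (Y.comap f) f.ker
      (Groth.Agent.S18298.ker_le f Y) (Groth.Agent.S18298.gY f Y)
      (Groth.Agent.S18298.gY_surjective f Y hY)
      (Groth.Agent.S18298.gY_ker f Y) (Groth.Agent.S18298.gY_inclusion f Y) (unop T)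
    have hepi : Epi (Groth.Agent.Lib.DiagDescent27.indMap S (Y.comap f)
        (Groth.Agent.S18298.gY f Y) (unop T)) := hq.epi S
    apply Subtype.ext
    have h' : (Magnet.AMonS.map S (Groth.Agent.S18298.gY f Y) ▷ unop T) ≫ φ₁.1 =
        (Magnet.AMonS.map S (Groth.Agent.S18298.gY f Y) ▷ unop T) ≫ φ₂.1 :=
      congrArg Subtype.val h
    rw [← cancel_epi (Groth.Agent.Lib.DiagDescent27.indMap S (Y.comap f)
        (Groth.Agent.S18298.gY f Y) (unop T)),
      Groth.Agent.S18298.indMap_comp f Y a (unop T) φ₁.1 φ₁.2,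
      Groth.Agent.S18298.indMap_comp f Y a (unop T) φ₂.1 φ₂.2, h']
  · intro ψ
    obtain ⟨v, hveq, hv⟩ := Groth.Agent.S18298.exists_preimage f Y hY a (unop T) ψ.1 ψ.2
    exact ⟨⟨v, hveq⟩, Subtype.ext hv⟩

end Groth.Agent.S18298
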