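import Mathlib
import Groth.Agent.Lib.IdealSheafDesc27
import Groth.Agent.Lib.AttrUnram27
import Groth.Statements.S18299

set_option autoImplicit false
universe u
open CategoryTheory MonoidalCategory CartesianMonoidalCategory MonObj AlgebraicGeometry Opposite
open Magnet

namespace Groth.Agent.S18299

section Helpers
open CategoryTheory.Limits Groth.Agent.Lib.IdealSheafDesc27

theorem singleton_mem {X Y : Scheme.{u}} (p : X ⟶ Y) [Flat p] [Surjective p]
    [LocallyOfFinitePresentation p] :
    Presieve.ofArrows (fun _ : PUnit.{u+1} => X) (fun _ => p) ∈ Scheme.fpqcPrecoverage Y := by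
  rw [Presieve.ofArrows_pUnit]
  exact Scheme.fppfPrecoverage_le_fpqcPrecoverage Y p.singleton_mem_fppfPrecoverage

/-- A closed immersion through which an fppf covering morphism factors is an isomorphism. -/
theorem isIso_of_isClosedImmersion_of_fppf {T' E T : Scheme.{u}} (l : T' ⟶ E) (e : E ⟶ T)
    [IsClosedImmersion e] [Flat (l ≫ e)] [Surjective (l ≫ e)]
    [LocallyOfFinitePresentation (l ≫ e)] : IsIso e := by
  rw [IsClosedImmersion.isIso_iff_ker_eq_bot]
  have hg := singleton_mem (l ≫ e)
  have h0 : ∀ i j : PUnit.{u+1}, (⊥ : T'.IdealSheafData).comap (pullback.fst (l ≫ e) (l ≫ e)) =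
      (⊥ : T'.IdealSheafData).comap (pullback.snd (l ≫ e) (l ≫ e)) := by
    intros; rw [Scheme.IdealSheafData.comap_bot, Scheme.IdealSheafData.comap_bot]
  obtain ⟨J, -, hJ⟩ := existsUnique_comap_eq (g := fun _ : PUnit.{u+1} => l ≫ e) hg (fun _ => ⊥) h0
  have h2 : ⊥ = J := hJ _ (fun _ => Scheme.IdealSheafData.comap_bot _)
  have h1 : e.ker = J := by
    refine hJ _ (fun _ => ?_)
    rw [Scheme.IdealSheafData.comap_comp]
    have : e.ker.comap e = ⊥ := by
      rw [← Scheme.IdealSheafData.ker_fst_of_isClosedImmersion e e]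
      exact Scheme.Hom.ker_eq_bot_of_isIso _
    rw [this, Scheme.IdealSheafData.comap_bot]
  rw [h1, ← h2]

variable {S : Scheme.{u}}

/-- Fixedness of a point descends along `p` with `G ◁ p` epi. -/
theorem fixed_of_comp {G X T T' : Over S} [MonObj G] (a : MonAct G X) (p : T' ⟶ T) [Epi (G ◁ p)]
    (x : T ⟶ X)
    (hx : ∀ (T'' : Over S) (t : T'' ⟶ T') (g : T'' ⟶ G), lift g (t ≫ p ≫ x) ≫ a.act = t ≫ p ≫ x)
    (T'' : Over S) (t : T'' ⟶ T) (g : T'' ⟶ G) : lift g (t ≫ x) ≫ a.act = t ≫ x := by
  have key : (G ◁ x) ≫ a.act = snd G T ≫ x := by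
    rw [← cancel_epi (G ◁ p)]
    have h1 := hx (G ⊗ T') (snd G T') (fst G T')
    have e1 : lift (fst G T') (snd G T' ≫ p ≫ x) = (G ◁ p) ≫ (G ◁ x) := by
      rw [← MonoidalCategory.whiskerLeft_comp]
      apply CartesianMonoidalCategory.hom_ext
      · rw [lift_fst, whiskerLeft_fst]
      · rw [lift_snd, whiskerLeft_snd]
    rw [e1, Category.assoc] at h1
    rw [h1, whiskerLeft_snd_assoc]
  have e2 : lift g (t ≫ x) = lift g t ≫ (G ◁ x) := by
    rw [lift_whiskerLeft]
  rw [e2, Category.assoc, key, lift_snd_assoc]

/-- `G ◁ p` is an epimorphism when `p.left` is an fppf covering morphism. -/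
theorem epi_whiskerLeft (G : Over S) {T T' : Over S} (p : T' ⟶ T) [Flat p.left] [Surjective p.left]
    [LocallyOfFinitePresentation p.left] : Epi (G ◁ p) := by
  have sq := Groth.Agent.Lib.AttrUnram27.isPullback_whiskerLeft G p
  have h1 : Flat (G ◁ p).left := MorphismProperty.of_isPullback sq.flip ‹_›
  have h2 : Surjective (G ◁ p).left := MorphismProperty.of_isPullback sq.flip ‹_›
  have h3 : LocallyOfFinitePresentation (G ◁ p).left := MorphismProperty.of_isPullback sq.flip ‹_›
  have : Epi (G ◁ p).left := inferInstance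
  exact (Over.forget S).epi_of_epi_map this


section Main

variable {G X U : Over S} [MonObj G] {a : MonAct G X} {b : MonAct G U} {f : U ⟶ X}
  {hf : MonAct.IsEquivariant b a f}
  (hfpr : IsPullback (MonAct.fixedPsh.map f hf) (MonAct.fixedPshι b) (MonAct.fixedPshι a) (yoneda.map f))
  {W' : Over S} {i' : W' ⟶ U} (e' : (MonAct.fixedPsh b).RepresentableBy W')
  (hcompat : ∀ (T : Over S) (w : T ⟶ W'), (MonAct.fixedPshι b).app (op T) (e'.homEquiv w) = w ≫ i')

include hfpr hcompat in
theorem factor_of_factor {T : Over S} (q₁ q₂ : T ⟶ U) (hq : q₁ ≫ f = q₂ ≫ f) (w₁ : T ⟶ W')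
    (hw₁ : w₁ ≫ i' = q₁) : ∃ w₂ : T ⟶ W', w₂ ≫ i' = q₂ := by
  have hy : (e'.homEquiv w₁).1 = q₁ := by rw [← hw₁]; exact hcompat T w₁
  have hpb := hfpr.map ((evaluation _ _).obj (op T))
  obtain ⟨x₁, -, hx₁⟩ := Types.exists_of_isPullback hpb
    ((MonAct.fixedPsh.map f hf).app (op T) (e'.homEquiv w₁)) q₂ (by
      change (e'.homEquiv w₁).1 ≫ f = q₂ ≫ f
      rw [hy, hq])
  refine ⟨e'.homEquiv.symm x₁, ?_⟩
  rw [← hcompat, Equiv.apply_symm_apply]
  exact hx₁

include hfpr hcompat in
theorem factor_of_factor_left {Z : Scheme.{u}} (q₁ q₂ : Z ⟶ U.left) (hq : q₁ ≫ f.left = q₂ ≫ f.left)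
    (w₁ : Z ⟶ W'.left) (hw₁ : w₁ ≫ i'.left = q₁) : ∃ w₂ : Z ⟶ W'.left, w₂ ≫ i'.left = q₂ := by
  let T : Over S := Over.mk (q₁ ≫ U.hom)
  let Q₁ : T ⟶ U := Over.homMk q₁ rfl
  let Q₂ : T ⟶ U := Over.homMk q₂ (by
    change q₂ ≫ U.hom = q₁ ≫ U.hom
    rw [← Over.w f, ← Category.assoc, ← hq, Category.assoc])
  let W₁ : T ⟶ W' := Over.homMk w₁ (by
    change w₁ ≫ W'.hom = q₁ ≫ U.hom
    rw [← Over.w i', ← Category.assoc, hw₁])
  obtain ⟨w₂, hw₂⟩ := factor_of_factor hfpr e' hcompat Q₁ Q₂ (by ext1; exact hq) W₁ (by ext1; exact hw₁)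
  exact ⟨w₂.left, congrArg CommaMorphism.left hw₂⟩

include hfpr hcompat in
theorem comap_fst_eq_comap_snd [IsClosedImmersion i'.left] :
    (i'.left.ker).comap (pullback.fst f.left f.left) = (i'.left.ker).comap (pullback.snd f.left f.left) := by
  rw [← Scheme.IdealSheafData.ker_fst_of_isClosedImmersion i'.left (pullback.fst f.left f.left),
    ← Scheme.IdealSheafData.ker_fst_of_isClosedImmersion i'.left (pullback.snd f.left f.left)]
  apply le_antisymm
  · -- z₂ factors through z₁
    obtain ⟨w, hw⟩ := factor_of_factor_left hfpr e' hcompat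
      (pullback.fst (pullback.snd f.left f.left) i'.left ≫ pullback.snd f.left f.left)
      (pullback.fst (pullback.snd f.left f.left) i'.left ≫ pullback.fst f.left f.left)
      (by rw [Category.assoc, Category.assoc, pullback.condition])
      (pullback.snd (pullback.snd f.left f.left) i'.left) pullback.condition.symm
    have hfac : pullback.lift (pullback.fst (pullback.snd f.left f.left) i'.left) w hw.symm ≫
        pullback.fst (pullback.fst f.left f.left) i'.left =
        pullback.fst (pullback.snd f.left f.left) i'.left := pullback.lift_fst _ _ _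
    rw [← hfac]
    exact Scheme.Hom.le_ker_comp _ _
  · obtain ⟨w, hw⟩ := factor_of_factor_left hfpr e' hcompat
      (pullback.fst (pullback.fst f.left f.left) i'.left ≫ pullback.fst f.left f.left)
      (pullback.fst (pullback.fst f.left f.left) i'.left ≫ pullback.snd f.left f.left)
      (by rw [Category.assoc, Category.assoc, pullback.condition])
      (pullback.snd (pullback.fst f.left f.left) i'.left) pullback.condition.symm
    have hfac : pullback.lift (pullback.fst (pullback.fst f.left f.left) i'.left) w hw.symm ≫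
        pullback.fst (pullback.snd f.left f.left) i'.left =
        pullback.fst (pullback.fst f.left f.left) i'.left := pullback.lift_fst _ _ _
    rw [← hfac]
    exact Scheme.Hom.le_ker_comp _ _


include hfpr hcompat in
theorem main [Etale f.left] [Surjective f.left] [IsClosedImmersion i'.left] :
    ∃ (W : Over S) (i : W ⟶ X) (e : (MonAct.fixedPsh a).RepresentableBy W),
      IsClosedImmersion i.left ∧ ∀ (T : Over S) (w : T ⟶ W),
        (MonAct.fixedPshι a).app (op T) (e.homEquiv w) = w ≫ i := by
  have hg := singleton_mem f.left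
  have hdesc := comap_fst_eq_comap_snd hfpr e' hcompat
  obtain ⟨J, hJ, -⟩ := existsUnique_comap_eq (g := fun _ : PUnit.{u+1} => f.left) hg
    (fun _ => i'.left.ker) (fun _ _ => hdesc)
  have hJ' : J.comap f.left = i'.left.ker := hJ PUnit.unit
  let W : Over S := Over.mk (J.subschemeι ≫ X.hom)
  let i : W ⟶ X := Over.homMk J.subschemeι rfl
  -- `i` is a fixed point
  have hfix : ∀ (T'' : Over S) (t : T'' ⟶ W) (g : T'' ⟶ G), lift g (t ≫ i) ≫ a.act = t ≫ i := by
    let T' : Over S := Over.mk (pullback.snd f.left J.subschemeι ≫ W.hom)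
    let p : T' ⟶ W := Over.homMk (pullback.snd f.left J.subschemeι) rfl
    let qU : T' ⟶ U := Over.homMk (pullback.fst f.left J.subschemeι) (by
      change pullback.fst _ _ ≫ U.hom = pullback.snd _ _ ≫ J.subschemeι ≫ X.hom
      rw [← Over.w f, ← Category.assoc, pullback.condition, Category.assoc])
    have hker : i'.left.ker ≤ (pullback.fst f.left J.subschemeι).ker := by
      rw [Scheme.IdealSheafData.ker_fst_of_isClosedImmersion, Scheme.IdealSheafData.ker_subschemeι, hJ']
    let wl := IsClosedImmersion.lift i'.left (pullback.fst f.left J.subschemeι) hker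
    have hwl : wl ≫ i'.left = pullback.fst f.left J.subschemeι := IsClosedImmersion.lift_fac _ _ _
    let w' : T' ⟶ W' := Over.homMk wl (by
      change wl ≫ W'.hom = _
      rw [← Over.w i', ← Category.assoc, hwl]; exact Over.w qU)
    have hw' : w' ≫ i' = qU := by ext1; exact hwl
    have hpq : p ≫ i = qU ≫ f := by ext1; exact pullback.condition.symm
    have : Flat p.left := inferInstanceAs (Flat (pullback.snd f.left J.subschemeι))
    have : Surjective p.left := inferInstanceAs (Surjective (pullback.snd f.left J.subschemeι))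
    have : LocallyOfFinitePresentation p.left :=
      inferInstanceAs (LocallyOfFinitePresentation (pullback.snd f.left J.subschemeι))
    have : Epi (G ◁ p) := epi_whiskerLeft G p
    apply fixed_of_comp a p i
    intro T'' t g
    have hy1 : (e'.homEquiv (t ≫ w')).1 = t ≫ qU := by
      rw [← hw', ← Category.assoc]; exact hcompat _ _
    have hz := ((MonAct.fixedPsh.map f hf).app (op T'') (e'.homEquiv (t ≫ w'))).2 T'' (𝟙 _) g
    rw [MonAct.fixedPsh.map_app_coe, hy1, Category.id_comp, Category.assoc, ← hpq] at hz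
    exact hz
  -- every fixed point factors through `i`
  have hlift : ∀ (T : Over S) (x : (MonAct.fixedPsh a).obj (op T)), ∃ z : T ⟶ W, z ≫ i = x.1 := by
    intro T x
    have hkerv : J.subschemeι.ker ≤ (i'.left ≫ f.left).ker := by
      rw [Scheme.IdealSheafData.ker_subschemeι, ← Scheme.IdealSheafData.map_ker,
        Scheme.IdealSheafData.le_map_iff_comap_le, hJ']
    let v := IsClosedImmersion.lift J.subschemeι (i'.left ≫ f.left) hkerv
    have hv : v ≫ J.subschemeι = i'.left ≫ f.left := IsClosedImmersion.lift_fac _ _ _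
    let T' : Over S := Over.mk (pullback.fst x.1.left f.left ≫ T.hom)
    let p : T' ⟶ T := Over.homMk (pullback.fst x.1.left f.left) rfl
    let q : T' ⟶ U := Over.homMk (pullback.snd x.1.left f.left) (by
      change pullback.snd _ _ ≫ U.hom = pullback.fst _ _ ≫ T.hom
      rw [← Over.w f, ← Category.assoc, ← pullback.condition, Category.assoc, Over.w x.1])
    have hpq : p ≫ x.1 = q ≫ f := by ext1; exact pullback.condition
    have hpb := hfpr.map ((evaluation _ _).obj (op T'))
    obtain ⟨y, -, hy⟩ := Types.exists_of_isPullback hpb ((MonAct.fixedPsh a).map p.op x) q (by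
      change p ≫ x.1 = q ≫ f; exact hpq)
    let w := e'.homEquiv.symm y
    have hw : w ≫ i' = q := by rw [← hcompat, Equiv.apply_symm_apply]; exact hy
    have h1 : w.left ≫ i'.left = q.left := congrArg CommaMorphism.left hw
    have hcond : p.left ≫ x.1.left = (w.left ≫ v) ≫ J.subschemeι := by
      rw [Category.assoc, hv, ← Category.assoc, h1]; exact pullback.condition
    let l := pullback.lift p.left (w.left ≫ v) hcond
    have hl : l ≫ pullback.fst x.1.left J.subschemeι = pullback.fst x.1.left f.left :=
      pullback.lift_fst _ _ _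
    have : Flat (l ≫ pullback.fst x.1.left J.subschemeι) := by rw [hl]; infer_instance
    have : Surjective (l ≫ pullback.fst x.1.left J.subschemeι) := by rw [hl]; infer_instance
    have : LocallyOfFinitePresentation (l ≫ pullback.fst x.1.left J.subschemeι) := by
      rw [hl]; infer_instance
    have := isIso_of_isClosedImmersion_of_fppf l (pullback.fst x.1.left J.subschemeι)
    refine ⟨Over.homMk (inv (pullback.fst x.1.left J.subschemeι) ≫ pullback.snd x.1.left J.subschemeι) ?_, ?_⟩
    · change (inv _ ≫ pullback.snd _ _) ≫ J.subschemeι ≫ X.hom = T.hom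
      rw [Category.assoc, ← Category.assoc (pullback.snd _ _), ← pullback.condition, Category.assoc,
        Over.w x.1, IsIso.inv_hom_id_assoc]
    · ext1
      change (inv _ ≫ pullback.snd _ _) ≫ J.subschemeι = x.1.left
      rw [Category.assoc, ← pullback.condition, IsIso.inv_hom_id_assoc]
  have hmono : Mono i := by
    have : Mono i.left := inferInstanceAs (Mono J.subschemeι)
    exact (Over.forget S).mono_of_mono_map this
  let eqv : ∀ T : Over S, (T ⟶ W) ≃ (MonAct.fixedPsh a).obj (op T) := fun T =>
    { toFun := fun z => ⟨z ≫ i, fun T'' t g => by rw [← Category.assoc]; exact hfix T'' (t ≫ z) g⟩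
      invFun := fun x => (hlift T x).choose
      left_inv := fun z => by rw [← cancel_mono i]; exact (hlift T _).choose_spec
      right_inv := fun x => Subtype.ext (hlift T x).choose_spec }
  refine ⟨W, i, ⟨fun {T} => eqv T, ?_⟩, inferInstanceAs (IsClosedImmersion J.subschemeι), fun T w => rfl⟩
  intro T T' g z
  apply Subtype.ext
  exact Category.assoc _ _ _

end Main

end Helpers

/-- Let Q be a commutative group, X and U S-schemes with actions of the diagonalizable group scheme
D(Q)_S, and f : U → X an equivariant morphism over S which is étale and surjective and fixed-point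
reflecting: the square formed by the fixed-point functors U^{D(Q)} → X^{D(Q)} over U → X is
cartesian (an FPR atlas). If the fixed-point functor of U is represented by a closed subscheme of U
— which holds when U is a disjoint union of D(Q)_S-stable S-affine schemes, by the affine
representability of attractors — then the fixed-point functor of X is represented by a closed
subscheme of X, compatibly with its inclusion into X. (In the source Q = M/Z for a subgroup Z of a
commutative group M acting through D(M)_S, the fixed points of D(M/Z)_S being the attractor X^Z, and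
X may be an algebraic space; here X is a scheme.) -/
theorem result (S : Scheme.{u}) (Q : Type)
    [AddCommGroup Q] (X U : Over S) (aX : AlgGrp.Action (Red.DS S Q) X) (aU : AlgGrp.Action (Red.DS S Q) U)
    (f : U ⟶ X) [Etale f.left] [Surjective f.left]
    (hf : Magnet.MonAct.IsEquivariant (Magnet.MonAct.ofAction aU) (Magnet.MonAct.ofAction aX) f)
    (hfpr : IsPullback (Magnet.MonAct.fixedPsh.map f hf) (Magnet.MonAct.fixedPshι (Magnet.MonAct.ofAction aU))
      (Magnet.MonAct.fixedPshι (Magnet.MonAct.ofAction aX)) (yoneda.map f))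
    (hU : ∃ (W' : Over S) (i' : W' ⟶ U) (e' : (Magnet.MonAct.fixedPsh (Magnet.MonAct.ofAction aU)).RepresentableBy W'),
      IsClosedImmersion i'.left ∧ ∀ (T : Over S) (w : T ⟶ W'),
        (Magnet.MonAct.fixedPshι (Magnet.MonAct.ofAction aU)).app (op T) (e'.homEquiv w) = w ≫ i') :
    ∃ (W : Over S) (i : W ⟶ X) (e : (Magnet.MonAct.fixedPsh (Magnet.MonAct.ofAction aX)).RepresentableBy W),
      IsClosedImmersion i.left ∧ ∀ (T : Over S) (w : T ⟶ W),
        (Magnet.MonAct.fixedPshι (Magnet.MonAct.ofAction aX)).app (op T) (e.homEquiv w) = w ≫ i := by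
  obtain ⟨W', i', e', hi', hcompat⟩ := hU
  exact Groth.Agent.S18299.main hfpr e' hcompat

end Groth.Agent.S18299
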