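import Mathlib
import Groth.Statements.S18300

set_option autoImplicit false
universe u
open CategoryTheory MonoidalCategory CartesianMonoidalCategory MonObj AlgebraicGeometry Opposite
open Magnet

namespace Groth.Agent.S18300

section Helpers

open CategoryTheory.Limits ActBC

/-- MonAct version of `ActBC.equivIsoBcComp`. -/
theorem bcComp_act {S S' S'' : Scheme.{u}} (f : S'' ⟶ S') (g : S' ⟶ S) {d : S'' ⟶ S}
    (h : f ≫ g = d) {A X : Over S} [MonObj A] (a : Magnet.MonAct A X) :
    ((a.bc g).bc f).act ≫ (ActBC.bcCompIso f g X h).hom =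
      (Red.bc f (Red.bc g A) ◁ (ActBC.bcCompIso f g X h).hom) ≫
        ((ActBC.bcCompIso f g A h).hom ▷ Red.bc d X) ≫ (a.bc d).act := by
  ext
  apply pullback.hom_ext
  · simp only [Magnet.MonAct.bc_act, Over.comp_left, Category.assoc,
      bcCompIso_hom_left_fst, pullback_map_left_fst, pullback_map_left_fst_assoc]
    simp only [← Category.assoc]
    congr 1
    simp only [Category.assoc]
    apply pullback.hom_ext
    · simp only [Category.assoc]
      rw [μ_left_fst_fst, μ_left_fst_fst_assoc, μ_left_fst_fst, Over.whiskerRight_left_fst_assoc,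
        Over.whiskerLeft_left_fst_assoc, bcCompIso_hom_left_fst]
    · simp only [Category.assoc]
      rw [μ_left_fst_snd, μ_left_fst_snd_assoc, μ_left_fst_snd, Over.whiskerRight_left_snd_assoc,
        Over.whiskerLeft_left_snd_assoc, bcCompIso_hom_left_fst]
  · exact (Over.w _).trans (Over.w _).symm

/-- Conjugating an equivariant map by intertwining isomorphisms. -/
theorem isEquivariant_conj_iff {C : Type*} [Category C] [CartesianMonoidalCategory C]
    {A₁ A₂ N₁ N₂ X₁ X₂ : C} [MonObj A₁] [MonObj A₂]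
    (iA : A₁ ⟶ A₂) [IsIso iA] (iN : N₁ ≅ N₂) (iX : X₁ ≅ X₂)
    (ρ₁ : Magnet.MonAct A₁ N₁) (ρ₂ : Magnet.MonAct A₂ N₂)
    (a₁ : Magnet.MonAct A₁ X₁) (a₂ : Magnet.MonAct A₂ X₂)
    (h1 : ρ₁.act ≫ iN.hom = (A₁ ◁ iN.hom) ≫ (iA ▷ N₂) ≫ ρ₂.act)
    (h2 : a₁.act ≫ iX.hom = (A₁ ◁ iX.hom) ≫ (iA ▷ X₂) ≫ a₂.act)
    (ψ : N₂ ⟶ X₂) :
    Magnet.MonAct.IsEquivariant ρ₂ a₂ ψ ↔
      Magnet.MonAct.IsEquivariant ρ₁ a₁ (iN.hom ≫ ψ ≫ iX.inv) := by
  unfold Magnet.MonAct.IsEquivariant
  rw [← cancel_mono iX.hom]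
  simp only [Category.assoc, Iso.inv_hom_id, Category.comp_id]
  rw [reassoc_of% h1, h2, ← MonoidalCategory.whiskerLeft_comp_assoc]
  simp only [Category.assoc, Iso.inv_hom_id, Category.comp_id]
  have e := whisker_exchange iA ψ
  rw [MonoidalCategory.whiskerLeft_comp_assoc, reassoc_of% e, cancel_epi, cancel_epi]

end Helpers

/-- Let X be an S-scheme with an action of the diagonalizable monoid scheme A(M)_S of a commutative
monoid M, N a submonoid of M, and T an S-scheme; X_T = X ×_S T carries the base-changed action of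
A(M)_T. Then X^N ×_S T = (X_T)^N objectwise: for every scheme T'' over T, the value of the attractor
X^N at T'' (regarded over S) is in bijection with the value at T'' of the attractor of X_T, namely
the maps A(N)_T ×_T T'' → X_T equivariant for the base-changed actions; the bijection is pinned by
requiring that, under the identifications of both sides with equivariant morphisms between base
changes to T'', it is conjugation by the canonical isomorphisms (Y ×_S T) ×_T T'' ≅ Y ×_S T'' for Y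
= A(N)_S and Y = X. (Naturality in T'' is not part of this statement; X may be an algebraic space in
the source, here it is a scheme.) -/
theorem result (S : Scheme.{u}) (M : Type) [AddCommMonoid M] (N : AddSubmonoid M)
    (X : Over S) (a : Magnet.MonAct (Magnet.AMonS S M) X) (T : Over S) (T'' : Over T.left) :
    ∃ Φ : (Magnet.attr a N).obj (op ((Over.map T.hom).obj T'')) ≃
        (Magnet.MonAct.eqvHom ((Magnet.subAct S M N).bc T.hom) (a.bc T.hom)).obj (op T''),
      ∀ φ, (Magnet.eqvHomEquivBc T'' ((Magnet.subAct S M N).bc T.hom) (a.bc T.hom) (Φ φ)).1 ≫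
          (ActBC.bcCompIso T''.hom T.hom X rfl).hom =
        (ActBC.bcCompIso T''.hom T.hom (Magnet.AMonS S N) rfl).hom ≫
          (Magnet.eqvHomEquivBc ((Over.map T.hom).obj T'') (Magnet.subAct S M N) a φ).1 := by
  have key : ∀ ψ : Red.bc (T''.hom ≫ T.hom) (Magnet.AMonS S N) ⟶ Red.bc (T''.hom ≫ T.hom) X,
      Magnet.MonAct.IsEquivariant ((Magnet.subAct S M N).bc (T''.hom ≫ T.hom))
        (a.bc (T''.hom ≫ T.hom)) ψ ↔
      Magnet.MonAct.IsEquivariant (((Magnet.subAct S M N).bc T.hom).bc T''.hom)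
        ((a.bc T.hom).bc T''.hom)
        ((ActBC.bcCompIso T''.hom T.hom (Magnet.AMonS S N) rfl).hom ≫ ψ ≫
          (ActBC.bcCompIso T''.hom T.hom X rfl).inv) := fun ψ =>
    Groth.Agent.S18300.isEquivariant_conj_iff
      (ActBC.bcCompIso T''.hom T.hom (Magnet.AMonS S M) rfl).hom
      (ActBC.bcCompIso T''.hom T.hom (Magnet.AMonS S N) rfl)
      (ActBC.bcCompIso T''.hom T.hom X rfl) _ _ _ _
      (Groth.Agent.S18300.bcComp_act T''.hom T.hom rfl (Magnet.subAct S M N))
      (Groth.Agent.S18300.bcComp_act T''.hom T.hom rfl a) ψ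
  let E : {ψ : Red.bc (T''.hom ≫ T.hom) (Magnet.AMonS S N) ⟶ Red.bc (T''.hom ≫ T.hom) X //
        Magnet.MonAct.IsEquivariant ((Magnet.subAct S M N).bc (T''.hom ≫ T.hom))
          (a.bc (T''.hom ≫ T.hom)) ψ} ≃
      {χ : Red.bc T''.hom (Red.bc T.hom (Magnet.AMonS S N)) ⟶ Red.bc T''.hom (Red.bc T.hom X) //
        Magnet.MonAct.IsEquivariant (((Magnet.subAct S M N).bc T.hom).bc T''.hom)
          ((a.bc T.hom).bc T''.hom) χ} :=
    Equiv.subtypeEquiv
      (Iso.homCongr (ActBC.bcCompIso T''.hom T.hom (Magnet.AMonS S N) rfl).symm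
        (ActBC.bcCompIso T''.hom T.hom X rfl).symm)
      (fun ψ => key ψ)
  refine ⟨((Magnet.eqvHomEquivBc ((Over.map T.hom).obj T'') (Magnet.subAct S M N) a).trans E).trans
    (Magnet.eqvHomEquivBc T'' ((Magnet.subAct S M N).bc T.hom) (a.bc T.hom)).symm, ?_⟩
  intro φ
  simp only [Equiv.trans_apply, Equiv.apply_symm_apply]
  change ((ActBC.bcCompIso T''.hom T.hom (Magnet.AMonS S N) rfl).hom ≫ _ ≫
    (ActBC.bcCompIso T''.hom T.hom X rfl).inv) ≫ _ = _
  simp only [Category.assoc, Iso.inv_hom_id, Category.comp_id]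

end Groth.Agent.S18300
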