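import Groth.Statements.S18305
import Groth.Agent.Lib.Ferrand24r
import Groth.Agent.Lib.Ferrand24b
import Groth.Agent.Lib.MonoidFibreSq24

set_option autoImplicit false
universe u
open CategoryTheory MonoidalCategory CartesianMonoidalCategory MonObj AlgebraicGeometry Opposite
open Magnet

namespace Groth.Agent.S18305

open Groth.Agent.Lib.Ferrand24 Groth.Agent.Lib.RingFibreSq24 Groth.Agent.Lib.MonoidFibreSq24 in
/-- Let M be a commutative monoid and N ≤ L ≤ L' submonoids of M with L a face of L'; let N' be the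
submonoid L' minus (L minus N), of which N is a face. Then for every scheme S the diagonalizable
monoid scheme A(N')_S is the push-out of A(L')_S ← A(L)_S → A(N)_S in schemes over S: the square
formed by the face morphism A(L)_S → A(L')_S, the morphism A(L)_S → A(N)_S dual to N ⊆ L, the
morphism A(L')_S → A(N')_S dual to N' ⊆ L' and the face morphism A(N)_S → A(N')_S is cocartesian.
(That N' is a submonoid with face N is assumed here as data; it is a separate elementary statement.) -/
theorem result (S : Scheme.{u}) (M : Type) [AddCommMonoid M]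
    (N N' L L' : AddSubmonoid M) (hNL : N ≤ L) (hN'L' : N' ≤ L') (hL : Magnet.IsFace L' L)
    (hN : Magnet.IsFace N' N) (hdiff : (N' : Set M) = (L' : Set M) \ ((L : Set M) \ (N : Set M))) :
    IsPushout (Magnet.AMonS.faceMap S hL) (Magnet.AMonS.map S (AddSubmonoid.inclusion hNL))
      (Magnet.AMonS.map S (AddSubmonoid.inclusion hN'L')) (Magnet.AMonS.faceMap S hN) := by
  -- the square over `ℤ`
  have hsurj : Function.Surjective (faceAlgHom (ULift.{u} ℤ) hL).toRingHom := by
    intro x
    refine ⟨(MonoidAlgebra.mapDomainBialgHom (ULift.{u} ℤ)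
      (AddMonoidHom.toMultiplicative (AddSubmonoid.inclusion hL.le))).toAlgHom x, ?_⟩
    exact AlgHom.congr_fun (faceAlgHom_comp_mapDomain (ULift.{u} ℤ) hL) x
  have sq := isFibreSq (R := ULift.{u} ℤ) N N' L L' hNL hN'L' hL hN hdiff
  have hP₀ := (good_Spec sq hsurj).isPushout
  haveI : IsClosedImmersion (AMon.faceMap (ULift.{u} ℤ) hL).left :=
    IsClosedImmersion.spec_of_surjective _ hsurj
  haveI : Flat (AMon (ULift.{u} ℤ) ↥L).hom := by
    change Flat (Spec.map (CommRingCat.ofHom
      (algebraMap (ULift.{u} ℤ) (MonoidAlgebra (ULift.{u} ℤ) (Multiplicative ↥L)))))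
    rw [AlgebraicGeometry.Flat.SpecMap_iff]
    change (algebraMap (ULift.{u} ℤ) (MonoidAlgebra (ULift.{u} ℤ) (Multiplicative ↥L))).Flat
    rw [RingHom.flat_algebraMap_iff]
    infer_instance
  have haff : ∀ K : AddSubmonoid M, IsAffine (AMon (ULift.{u} ℤ) ↥K).left := fun K =>
    (inferInstance : IsAffine (Spec (CommRingCat.of
      (MonoidAlgebra (ULift.{u} ℤ) (Multiplicative ↥K)))))
  haveI := haff L
  haveI := haff L'
  haveI := haff N
  haveI := haff N'
  refine isPushout_overPullback_map ?_ ?_ hP₀ _
  · intro x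
    exact ⟨⟨⊤, ⊤, rfl⟩, isAffineOpen_top _, isAffineOpen_top _, trivial⟩
  · intro t
    exact ⟨⟨⊤, ⊤, rfl⟩, isAffineOpen_top _, isAffineOpen_top _, trivial⟩

end Groth.Agent.S18305
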