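import Groth.Statements.S18329
import Groth.Agent.Lib.IdemTensor55a
import Groth.Agent.Lib.IdemTensor55b
import Groth.Agent.Lib.CoeffSpace

set_option autoImplicit false
universe u
open TensorProduct
open SGA3

namespace Groth.Agent.S18329

open Groth.Agent.Lib.IdemTensor55 Groth.Agent.Lib.CoeffSpace

section Aux

variable {k : Type u} [Field k] {V : Type u} [AddCommGroup V] [Module k V]

theorem comm_rTensor {X : Type u} [AddCommGroup X] [Module k X] (f : X →ₗ[k] V)
    (y : X ⊗[k] V) :
    TensorProduct.comm k V V (f.rTensor V y) = f.lTensor V (TensorProduct.comm k X V y) := by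
  induction y using TensorProduct.induction_on with
  | zero => simp
  | add x y hx hy => simp only [map_add, hx, hy]
  | tmul a b => simp

theorem mem_range_rTensor_subtype_iff (X : Submodule k V) (t : V ⊗[k] V) :
    t ∈ LinearMap.range (X.subtype.rTensor V) ↔
      TensorProduct.comm k V V t ∈ LinearMap.range (X.subtype.lTensor V) := by
  constructor
  · rintro ⟨y, rfl⟩
    exact ⟨TensorProduct.comm k X V y, (comm_rTensor X.subtype y).symm⟩
  · rintro ⟨z, hz⟩
    refine ⟨(TensorProduct.comm k X V).symm z, ?_⟩
    apply (TensorProduct.comm k V V).injective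
    rw [comm_rTensor, LinearEquiv.apply_symm_apply, hz]

/-- `(U ⊗ U) ∩ (W ⊗ W) = (U ∩ W) ⊗ (U ∩ W)` over a field. -/
theorem mem_range_map_inf (U W : Submodule k V) (t : V ⊗[k] V)
    (hU : t ∈ LinearMap.range (TensorProduct.map U.subtype U.subtype))
    (hW : t ∈ LinearMap.range (TensorProduct.map W.subtype W.subtype)) :
    t ∈ LinearMap.range (TensorProduct.map (U ⊓ W).subtype (U ⊓ W).subtype) := by
  rw [mem_range_map_subtype_iff] at hU hW ⊢
  obtain ⟨hU1, hU2⟩ := hU
  obtain ⟨hW1, hW2⟩ := hW
  constructor
  · rw [mem_range_rTensor_subtype_iff] at hU1 hW1 ⊢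
    rw [mem_range_lTensor_subtype_iff] at hU1 hW1 ⊢
    exact fun ψ => ⟨hU1 ψ, hW1 ψ⟩
  · rw [mem_range_lTensor_subtype_iff] at hU2 hW2 ⊢
    exact fun ψ => ⟨hU2 ψ, hW2 ψ⟩

end Aux

/-- Let k be an algebraically closed field of prime characteristic p and A a commutative Hopf algebra
over k, the coordinate ring of an affine k-group G, quotient groups of G being read as
sub-Hopf-algebras of A (subalgebras stable under comultiplication and antipode). Let B₀ be the
subalgebra of elements of A that are separable over k (its spectrum is the group of connected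
components π₀(G)) and let C be the largest cocommutative sub-Hopf-algebra of A (its spectrum is the
largest commutative quotient group G_ab). Then B₀ ⊓ C, whose spectrum is π₀(G_ab), is the largest
cocommutative sub-Hopf-algebra of A contained in B₀, whose spectrum is the largest commutative
quotient of π₀(G): the canonical homomorphism from π₀(G_ab) to (π₀(G))_ab is an isomorphism. (The
abelianization is rendered through its universal property among affine quotient groups, as the
largest cocommutative sub-Hopf-algebra, rather than as the quotient by the derived subgroup.) -/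
theorem result (k A : Type u) [Field k] [IsAlgClosed k]
    (p : ℕ) [Fact p.Prime] [CharP k p] [CommRing A] [HopfAlgebra k A]
    (B₀ : Subalgebra k A) (hB₀ : ∀ a : A, a ∈ B₀ ↔ IsSeparable k a)
    (C : Subalgebra k A) (hC : SGA3.IsHopfSubalgebra k A C)
    (hCc : ∀ c ∈ C, TensorProduct.comm k A A (Coalgebra.comul c) = Coalgebra.comul c)
    (hCmax : ∀ D : Subalgebra k A, SGA3.IsHopfSubalgebra k A D →
      (∀ d ∈ D, TensorProduct.comm k A A (Coalgebra.comul d) = Coalgebra.comul d) → D ≤ C) :
    IsGreatest {D : Subalgebra k A | SGA3.IsHopfSubalgebra k A D ∧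
      (∀ d ∈ D, TensorProduct.comm k A A (Coalgebra.comul d) = Coalgebra.comul d) ∧ D ≤ B₀}
      (B₀ ⊓ C) := by
  have hidemB : ∀ e : A, IsIdempotentElem e → e ∈ B₀ := fun e he =>
    (hB₀ e).2 (isSeparable_of_isIdempotentElem e he)
  -- the comultiplication of a combination of idempotents lies in `B₀ ⊗ B₀`
  have key : ∀ x ∈ Submodule.span k {e : A | IsIdempotentElem e},
      CoalgebraStruct.comul (R := k) (A := A) x ∈
        LinearMap.range (TensorProduct.map (Subalgebra.toSubmodule B₀).subtype
          (Subalgebra.toSubmodule B₀).subtype) := by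
    intro x hx
    refine Submodule.span_induction ?_ ?_ ?_ ?_ hx
    · intro e he
      have hΔ : IsIdempotentElem (CoalgebraStruct.comul (R := k) (A := A) e) :=
        he.map (Bialgebra.comulAlgHom k A)
      have hmem := mem_idemSpan (k := k) _ hΔ
      refine (Submodule.span_le.2 ?_) hmem
      rintro _ ⟨f, g, hf, hg, rfl⟩
      exact ⟨(⟨f, hidemB f hf⟩ : Subalgebra.toSubmodule B₀) ⊗ₜ[k]
        (⟨g, hidemB g hg⟩ : Subalgebra.toSubmodule B₀), rfl⟩
    · rw [map_zero]; exact Submodule.zero_mem _
    · intro x y _ _ hx hy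
      rw [map_add]; exact Submodule.add_mem _ hx hy
    · intro c x _ hx
      rw [map_smul]; exact Submodule.smul_mem _ c hx
  have hsepmap : ∀ (φ : A →ₐ[k] A) (x : A), IsSeparable k x → IsSeparable k (φ x) := by
    intro φ x hx
    refine Polynomial.Separable.of_dvd hx (minpoly.dvd k (φ x) ?_)
    rw [Polynomial.aeval_algHom_apply, minpoly.aeval, map_zero]
  refine ⟨⟨⟨?_, ?_⟩, ?_, inf_le_left⟩, ?_⟩
  · intro b hb
    have h1 : CoalgebraStruct.comul (R := k) (A := A) b ∈
        LinearMap.range (TensorProduct.map (Subalgebra.toSubmodule C).subtype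
          (Subalgebra.toSubmodule C).subtype) := hC.1 b hb.2
    have h2 := key b (mem_span_idem_of_isSeparable b ((hB₀ b).1 hb.1))
    have h3 := mem_range_map_inf _ _ _ h2 h1
    exact h3
  · intro b hb
    refine ⟨(hB₀ _).2 ?_, hC.2 b hb.2⟩
    exact hsepmap (HopfAlgebra.antipodeAlgHom k A) b ((hB₀ b).1 hb.1)
  · intro d hd
    exact hCc d hd.2
  · rintro D ⟨hD, hDc, hDB⟩
    exact le_inf hDB (hCmax D hD hDc)

end Groth.Agent.S18329
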