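import Groth.Statements.S1835
import Mathlib.Tactic
import Mathlib.RingTheory.Length
import Mathlib.RingTheory.KrullDimension.NonZeroDivisors
import Mathlib.RingTheory.HopkinsLevitzki
import Mathlib.RingTheory.Nakayama
import Mathlib.RingTheory.KrullDimension.Zero
-- import your own Groth.Agent.* helpers here

set_option autoImplicit false
universe u
open CycAlg

namespace Groth.Agent.S1835

lemma le_length_of_chain {R : Type*} [CommRing R] (p : Ideal R) (m : ℕ) (I : ℕ → Ideal R)
    (hp : ∀ j ≤ m, p ≤ I j) (hI : ∀ j < m, I (j + 1) < I j) :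
    (m : ℕ∞) ≤ Module.length R (R ⧸ p) := by
  let s : LTSeries (Set.Ici (p : Submodule R R)) :=
    { length := m
      toFun := fun k => ⟨I (m - k), hp _ (Nat.sub_le _ _)⟩
      step := fun k => by
        show I (m - (k.castSucc : ℕ)) < I (m - (k.succ : ℕ))
        have hk : (k : ℕ) < m := k.2
        have h := hI (m - ((k : ℕ) + 1)) (by omega)
        have e : m - ((k : ℕ) + 1) + 1 = m - (k : ℕ) := by omega
        rw [e] at h
        simpa using h }
  have h1 := Order.LTSeries.length_le_krullDim s
  have h2 : Order.krullDim (Submodule R (R ⧸ p)) = Order.krullDim (Set.Ici (p : Submodule R R)) :=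
    Order.krullDim_eq_of_orderIso (Submodule.comapMkQRelIso p)
  have h3 : (Module.length R (R ⧸ p) : WithBot ℕ∞) = Order.krullDim (Submodule R (R ⧸ p)) :=
    Module.coe_length R (R ⧸ p)
  have h4 : ((m : ℕ∞) : WithBot ℕ∞) ≤ (Module.length R (R ⧸ p) : WithBot ℕ∞) := by
    rw [h3, h2]
    exact_mod_cast h1
  exact_mod_cast h4

lemma finiteLength_quot (R : Type*) [CommRing R] [IsNoetherianRing R]
    (hR : ringKrullDim R = 1) (b : R) (hb : b ∈ nonZeroDivisors R) :
    Module.length R (R ⧸ Ideal.span {b}) ≠ ⊤ := by
  have h := ringKrullDim_quotient_succ_le_of_nonZeroDivisor hb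
  rw [hR] at h
  have hdim : ringKrullDim (R ⧸ Ideal.span {b}) ≤ ((0 : ℕ) : WithBot ℕ∞) := by
    generalize ringKrullDim (R ⧸ Ideal.span {b}) = x at h
    induction x using WithBot.recBotCoe with
    | bot => exact bot_le
    | coe e =>
      have h' : (e + 1 : ℕ∞) ≤ 1 := by exact_mod_cast h
      have : e = 0 := by
        by_contra he
        have : 1 ≤ e := Order.one_le_iff_pos.mpr (pos_iff_ne_zero.mpr he)
        have h2 : (1 : ℕ∞) + 1 ≤ 1 := le_trans (add_le_add_left this 1) h'
        exact absurd h2 (by decide)
      rw [this]; rfl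
  have : Ring.KrullDimLE 0 (R ⧸ Ideal.span {b}) := Ring.krullDimLE_iff.mpr hdim
  have : IsArtinianRing (R ⧸ Ideal.span {b}) := isArtinianRing_iff_krullDimLE_zero.mpr this
  have : IsArtinian R (R ⧸ Ideal.span {b}) :=
    isArtinian_of_surjective_algebraMap (R := R ⧸ Ideal.span {b}) (S := R)
      Ideal.Quotient.mk_surjective
  exact Module.length_ne_top


/-- Let R be a Noetherian local ring of dimension 1, a a nonzerodivisor in the maximal ideal and b a
nonzerodivisor. There is an integer n such that whenever b = a^m c in some finite extension ring R ⊆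
R', one has m ≤ n. -/
theorem result (R : Type u) [CommRing R] [IsNoetherianRing R] [IsLocalRing R] (hR : ringKrullDim R = 1) (a b : R) (ha : a ∈ nonZeroDivisors R) (ham : a ∈ IsLocalRing.maximalIdeal R) (hb : b ∈ nonZeroDivisors R) : ∃ n : ℕ, ∀ (R' : Type u) [CommRing R'] [Algebra R R'], Function.Injective (algebraMap R R') → Module.Finite R R' → ∀ (m : ℕ) (c : R'), algebraMap R R' b = algebraMap R R' a ^ m * c → m ≤ n := by
  have hRnt : Nontrivial R := inferInstance
  refine ⟨(Module.length R (R ⧸ Ideal.span {b})).toNat, ?_⟩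
  intro R' _ _ hinj hfin m c hbc
  have hlen := finiteLength_quot R hR b hb
  -- the chain of ideals
  let N : ℕ → Submodule R R' := fun j =>
    (Ideal.span {algebraMap R R' a ^ j}).restrictScalars R
  let I : ℕ → Ideal R := fun j => Submodule.comap (Algebra.linearMap R R') (N j)
  have hImem : ∀ j (r : R), r ∈ I j ↔ ∃ x : R', algebraMap R R' r = algebraMap R R' a ^ j * x := by
    intro j r
    show algebraMap R R' r ∈ Ideal.span {algebraMap R R' a ^ j} ↔ _
    rw [Ideal.mem_span_singleton']
    constructor
    · rintro ⟨x, hx⟩; exact ⟨x, by rw [← hx, mul_comm]⟩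
    · rintro ⟨x, hx⟩; exact ⟨x, by rw [hx, mul_comm]⟩
  have hanz : ∀ j, a ^ j ≠ 0 := by
    intro j h0
    have : a ^ j ∈ nonZeroDivisors R := pow_mem ha j
    rw [h0] at this
    exact zero_notMem_nonZeroDivisors this
  have hstrict : ∀ j, I (j + 1) < I j := by
    intro j
    refine lt_of_le_of_ne ?_ ?_
    · intro r hr
      rw [hImem] at hr ⊢
      obtain ⟨x, hx⟩ := hr
      exact ⟨algebraMap R R' a * x, by rw [hx, pow_succ]; ring⟩
    · intro heq
      have haj : a ^ j ∈ I j := (hImem j _).mpr ⟨1, by rw [map_pow, mul_one]⟩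
      rw [← heq, hImem] at haj
      obtain ⟨c', hc'⟩ := haj
      rw [map_pow] at hc'
      -- Nakayama
      have hNoeth : IsNoetherian R R' := isNoetherian_of_isNoetherianRing_of_finite R R'
      have hfg : (N j).FG := IsNoetherian.noetherian (N j)
      have hle : N j ≤ IsLocalRing.maximalIdeal R • N j := by
        intro x hx
        have hx' : x ∈ Ideal.span {algebraMap R R' a ^ j} := hx
        rw [Ideal.mem_span_singleton'] at hx'
        obtain ⟨y, rfl⟩ := hx'
        have e : y * algebraMap R R' a ^ j = a • (algebraMap R R' a ^ j * (c' * y)) := by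
          rw [Algebra.smul_def]
          conv_lhs => rw [hc']
          ring
        rw [e]
        apply Submodule.smul_mem_smul ham
        show algebraMap R R' a ^ j * (c' * y) ∈ Ideal.span {algebraMap R R' a ^ j}
        exact Ideal.mul_mem_right _ _ (Ideal.subset_span rfl)
      have hbot := Submodule.eq_bot_of_le_smul_of_le_jacobson_bot (IsLocalRing.maximalIdeal R) (N j)
        hfg hle (IsLocalRing.maximalIdeal_le_jacobson ⊥)
      have h0 : algebraMap R R' a ^ j = 0 := by
        have : algebraMap R R' a ^ j ∈ N j := by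
          show algebraMap R R' a ^ j ∈ Ideal.span {algebraMap R R' a ^ j}
          exact Ideal.subset_span rfl
        rw [hbot] at this
        exact this
      rw [← map_pow] at h0
      exact hanz j (hinj (by rw [h0, map_zero]))
  have hanti : ∀ j k, j ≤ k → I k ≤ I j := by
    intro j k hjk
    induction hjk with
    | refl => exact le_rfl
    | step _ ih => exact (hstrict _).le.trans ih
  have hbm : Ideal.span {b} ≤ I m := by
    rw [Ideal.span_le]
    intro r hr
    rw [Set.mem_singleton_iff] at hr
    rw [hr]
    exact (hImem m b).mpr ⟨c, hbc⟩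
  have key := le_length_of_chain (Ideal.span {b}) m I
    (fun j hj => hbm.trans (hanti j m hj)) (fun j _ => hstrict j)
  rw [← ENat.natCast_toNat hlen] at key
  exact_mod_cast key
end Groth.Agent.S1835
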