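import Groth.Statements.S1836
import Groth.Agent.Lib.LocFact5

set_option autoImplicit false
universe u
open CycAlg

namespace Groth.Agent.S1836

set_option maxHeartbeats 1600000
set_option linter.style.haveILetI false
open Groth.Agent.Lib.LocFact

/-- Let A be a Noetherian local ring of dimension 1 and a₁, …, a_r (r ≥ 2) nonzerodivisors, not all
units. There is a finite extension ring A ⊆ B with B/A killed by a power of the maximal ideal such
that at every maximal ideal of B there is a nonzerodivisor π of the local ring B_𝔪 with each a_i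
equal to a unit of B_𝔪 times a power of π. -/
theorem result (A : Type u) [CommRing A] [IsNoetherianRing A] [IsLocalRing A] (hA : ringKrullDim A = 1) (r : ℕ) (hr : 2 ≤ r) (a : Fin r → A) (ha : ∀ i, a i ∈ nonZeroDivisors A) (hna : ∃ i, ¬ IsUnit (a i)) : ∃ (B : Type u) (_ : CommRing B) (_ : Algebra A B), CycAlg.IsFinExt A B (IsLocalRing.maximalIdeal A) ∧ ∀ q : MaximalSpectrum B, ∃ π : Localization.AtPrime q.asIdeal, π ∈ nonZeroDivisors (Localization.AtPrime q.asIdeal) ∧ ∀ i, ∃ (v : (Localization.AtPrime q.asIdeal)ˣ) (e : ℕ), algebraMap A (Localization.AtPrime q.asIdeal) (a i) = (v : Localization.AtPrime q.asIdeal) * π ^ e := by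
  classical
  haveI : Ring.KrullDimLE 1 A := Ring.krullDimLE_iff.mpr hA.le
  let L := FractionRing A
  obtain ⟨i₀, hi₀⟩ := hna
  have hdm : a i₀ ∈ IsLocalRing.maximalIdeal A := (IsLocalRing.mem_maximalIdeal _).mpr hi₀
  let B₀ : Subalgebra A L := ⊥
  have hB₀ : (Subalgebra.toSubmodule B₀).FG := by
    rw [Algebra.toSubmodule_bot, Submodule.one_eq_span]
    exact Submodule.fg_span_singleton _
  let xs : Finset L := Finset.univ.image fun i => algebraMap A L (a i)
  have hv : Valid B₀ xs := by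
    intro x hx
    obtain ⟨i, -, rfl⟩ := Finset.mem_image.mp hx
    exact ⟨B₀.algebraMap_mem _, IsLocalization.map_units L ⟨a i, ha i⟩⟩
  obtain ⟨B₁, xs', -, hfg₁, hv₁, hcl, hg₁⟩ := exists_good (ha i₀) hdm B₀ hB₀ xs hv
  refine ⟨B₁, inferInstance, inferInstance, isFinExt_of_fg B₁ hfg₁, ?_⟩
  intro q
  haveI := q.isMaximal.isPrime
  obtain ⟨π, hπ, hmon⟩ := local_monomial B₁ xs' hv₁ hg₁ q.asIdeal
  refine ⟨π, hπ, fun i => ?_⟩
  have hmem : algebraMap A L (a i) ∈ Submonoid.closure (xs' : Set L) :=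
    hcl (Submonoid.subset_closure (Finset.mem_coe.mpr
      (Finset.mem_image.mpr ⟨i, Finset.mem_univ i, rfl⟩)))
  obtain ⟨hz, v, e, hve⟩ := hmon _ hmem
  refine ⟨v, e, ?_⟩
  rw [IsScalarTower.algebraMap_apply A B₁ (Localization.AtPrime q.asIdeal), ← hve]
  rfl

end Groth.Agent.S1836
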