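import Groth.Statements.S18365
import Mathlib.Tactic.Abel

set_option autoImplicit false
universe u
open CAlg

namespace Groth.Agent.S18365

section helpers
variable {A : Type u} [CommRing A] {ι : Type} (𝔓 : ι → Ideal A) [∀ i, (𝔓 i).IsPrime]

theorem mem_K_iff (P : Type u) [AddCommGroup P] [Module A P] (T : Set ι) (x : P) :
    x ∈ (⨅ i ∈ T, LinearMap.ker (LocalizedModule.mkLinearMap (𝔓 i).primeCompl P)) ↔
      ∀ i ∈ T, ∃ s, s ∉ 𝔓 i ∧ s • x = 0 := by
  simp only [Submodule.mem_iInf, LocalizedModule.mem_ker_mkLinearMap_iff]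
  rfl

theorem mem_pi_smul_top {P : Type u} [AddCommGroup P] [Module A P] (π : A) (x : P) :
    x ∈ Ideal.span {π} • (⊤ : Submodule A P) ↔ ∃ p : P, π • p = x := by
  rw [Submodule.ideal_span_singleton_smul, Submodule.mem_smul_pointwise_iff_exists]
  simp

end helpers

/-- Let A be a Noetherian ring, π an element of A, (𝔓_i)_{i ∈ ι} an injective finite family listing
exactly the minimal prime ideals over (π), and M a finitely generated A-module on which π acts
injectively; put M̄ = M/πM. For T ⊆ ι let K(T) ⊆ M̄ be the submodule of elements whose image in the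
localisation of M̄ at 𝔓_i vanishes for every i ∈ T, and N(T) ⊆ M its preimage; assume K(ι) = 0.
Suppose that M̄ decomposes at Y, i.e. K(Y) + K(Yᶜ) = M̄, and that for a subset Z the module
N(Y)/πN(Y) decomposes at Z, i.e. its submodule of elements vanishing at every 𝔓_i (i ∈ Z) and its
submodule of elements vanishing at every 𝔓_i (i ∉ Z) together span it. Then M̄ decomposes at Z: K(Z)
+ K(Zᶜ) = M̄. (Geometric meaning: for a flat family of curves over a discrete valuation ring with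
uniformizer π, I a torsion-free rank-one sheaf flat over the base, Y a subcurve of the special fibre
X(s) at which I(s) decomposes and I^Y = ker(I → I(s)_Y): if I^Y(s) decomposes at a subcurve Z then
so does I(s); decomposition of a sheaf at Z is the surjectivity of I(s) → I(s)_Z ⊕ I(s)_{Z^c},
checked on stalks. Reducedness of the special fibre and rank one are not used.) -/
theorem result
    (A : Type u) [CommRing A] [IsNoetherianRing A] (π : A)
    (ι : Type) [Finite ι] (𝔓 : ι → Ideal A) [∀ i, (𝔓 i).IsPrime]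
    (h𝔓 : ∀ i, 𝔓 i ∈ (Ideal.span {π}).minimalPrimes) (h𝔓inj : Function.Injective 𝔓)
    (h𝔓surj : ∀ 𝔔 ∈ (Ideal.span {π}).minimalPrimes, ∃ i, 𝔓 i = 𝔔)
    (M : Type u) [AddCommGroup M] [Module A M] [Module.Finite A M]
    (hπ : ∀ m : M, π • m = 0 → m = 0)
    (K : Set ι → Submodule A (M ⧸ Ideal.span {π} • (⊤ : Submodule A M)))
    (hK : ∀ T : Set ι, K T = ⨅ i ∈ T, LinearMap.ker
      (LocalizedModule.mkLinearMap (𝔓 i).primeCompl (M ⧸ Ideal.span {π} • (⊤ : Submodule A M))))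
    (htf : K Set.univ = ⊥)
    (N : Set ι → Submodule A M)
    (hN : ∀ T : Set ι, N T = (K T).comap (Submodule.mkQ (Ideal.span {π} • (⊤ : Submodule A M))))
    (Y Z : Set ι) (hY : K Y ⊔ K Yᶜ = ⊤)
    (K' : Set ι → Submodule A (↥(N Y) ⧸ Ideal.span {π} • (⊤ : Submodule A ↥(N Y))))
    (hK' : ∀ T : Set ι, K' T = ⨅ i ∈ T, LinearMap.ker
      (LocalizedModule.mkLinearMap (𝔓 i).primeCompl (↥(N Y) ⧸ Ideal.span {π} • (⊤ : Submodule A ↥(N Y)))))
    (hZ : K' Z ⊔ K' Zᶜ = ⊤) :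
    K Z ⊔ K Zᶜ = ⊤ := by
  classical
  have memK : ∀ (T : Set ι) (x : M ⧸ Ideal.span {π} • (⊤ : Submodule A M)),
      x ∈ K T ↔ ∀ i ∈ T, ∃ s, s ∉ 𝔓 i ∧ s • x = 0 := by
    intro T x; rw [hK T]; exact mem_K_iff 𝔓 _ T x
  have memK' : ∀ (T : Set ι) (x : ↥(N Y) ⧸ Ideal.span {π} • (⊤ : Submodule A ↥(N Y))),
      x ∈ K' T ↔ ∀ i ∈ T, ∃ s, s ∉ 𝔓 i ∧ s • x = 0 := by
    intro T x; rw [hK' T]; exact mem_K_iff 𝔓 _ T x
  have hcap : ∀ (T : Set ι) (x : M ⧸ Ideal.span {π} • (⊤ : Submodule A M)),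
      x ∈ K T → x ∈ K Tᶜ → x = 0 := by
    intro T x h1 h2
    have : x ∈ K Set.univ := by
      rw [memK]; intro i _
      by_cases hi : i ∈ T
      · exact (memK T x).1 h1 i hi
      · exact (memK Tᶜ x).1 h2 i hi
    rw [htf] at this; simpa using this
  have hle : Ideal.span {π} • (⊤ : Submodule A ↥(N Y)) ≤
      (Ideal.span {π} • (⊤ : Submodule A M)).comap (N Y).subtype := by
    intro x hx
    obtain ⟨p, rfl⟩ := (mem_pi_smul_top π x).1 hx
    rw [Submodule.mem_comap, map_smul]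
    exact (mem_pi_smul_top π _).2 ⟨_, rfl⟩
  set q := Submodule.mkQ (Ideal.span {π} • (⊤ : Submodule A M)) with hq
  set q' := Submodule.mkQ (Ideal.span {π} • (⊤ : Submodule A ↥(N Y))) with hq'
  let φ := Submodule.mapQ (Ideal.span {π} • (⊤ : Submodule A ↥(N Y)))
    (Ideal.span {π} • (⊤ : Submodule A M)) (N Y).subtype hle
  have hφ : ∀ n : N Y, φ (q' n) = q (n : M) := fun n => rfl
  have hφK : ∀ (T : Set ι) z, z ∈ K' T → φ z ∈ K T := by
    intro T z hz; rw [memK]; intro i hi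
    obtain ⟨s, hs, h0⟩ := (memK' T z).1 hz i hi
    exact ⟨s, hs, by rw [← map_smul, h0, map_zero]⟩
  have memN : ∀ m : M, m ∈ N Y ↔ q m ∈ K Y := by intro m; rw [hN]; rfl
  have hq0 : ∀ m : M, q m = 0 ↔ ∃ p : M, π • p = m := by
    intro m
    rw [hq, Submodule.mkQ_apply, Submodule.Quotient.mk_eq_zero]
    exact mem_pi_smul_top π m
  have hq'0 : ∀ n : N Y, q' n = 0 ↔ ∃ p : N Y, π • p = n := by
    intro n
    rw [hq', Submodule.mkQ_apply, Submodule.Quotient.mk_eq_zero]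
    exact mem_pi_smul_top π n
  -- Step A
  have stepA : ∀ n : N Y, q (n : M) ∈ K Z ⊔ K Zᶜ := by
    intro n
    have : q' n ∈ K' Z ⊔ K' Zᶜ := by rw [hZ]; trivial
    obtain ⟨z, hz, z', hz', hzz⟩ := Submodule.mem_sup.1 this
    rw [← hφ, ← hzz, map_add]
    exact Submodule.add_mem_sup (hφK _ _ hz) (hφK _ _ hz')
  -- key claim for halves
  have half : ∀ (W : Set ι) (m1 : M) (h1 : π • m1 ∈ N Y),
      q' ⟨π • m1, h1⟩ ∈ K' W → q m1 ∈ K Z ⊔ K Zᶜ ⊔ K W := by
    intro W m1 h1 hz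
    have : q m1 ∈ K Y ⊔ K Yᶜ := by rw [hY]; trivial
    obtain ⟨a, ha, a', ha', haa⟩ := Submodule.mem_sup.1 this
    rw [← haa]
    refine Submodule.add_mem_sup ?_ ?_
    · obtain ⟨ma, rfl⟩ := Submodule.mkQ_surjective _ a
      exact stepA ⟨ma, (memN ma).2 ha⟩
    · rw [memK]; intro i hi
      obtain ⟨s, hs, h0⟩ := (memK' W _).1 hz i hi
      refine ⟨s, hs, ?_⟩
      rw [← map_smul, hq'0] at h0
      obtain ⟨n4, hn4⟩ := h0
      have e : π • (n4 : M) = π • (s • m1) := by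
        have := congrArg (Subtype.val) hn4
        simpa [smul_comm s π m1] using this
      have hsm : s • m1 ∈ N Y := by
        have : (n4 : M) = s • m1 := by
          have h := hπ ((n4 : M) - s • m1) (by rw [smul_sub, e, sub_self])
          exact sub_eq_zero.1 h
        rw [← this]; exact n4.2
      have h3 : s • (a + a') ∈ K Y := by
        rw [haa, ← map_smul]; exact (memN _).1 hsm
      have h4 : s • a' ∈ K Y := by
        have := (K Y).sub_mem h3 ((K Y).smul_mem s ha)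
        simpa [smul_add] using this
      exact hcap Y _ h4 ((K Yᶜ).smul_mem s ha')
  -- Step B
  rw [eq_top_iff]; rintro x -
  obtain ⟨m, rfl⟩ := Submodule.mkQ_surjective (Ideal.span {π} • (⊤ : Submodule A M)) x
  change q m ∈ K Z ⊔ K Zᶜ
  have hπm : π • m ∈ N Y := by
    rw [memN, (hq0 (π • m)).2 ⟨m, rfl⟩]; exact (K Y).zero_mem
  have : q' ⟨π • m, hπm⟩ ∈ K' Z ⊔ K' Zᶜ := by rw [hZ]; trivial
  obtain ⟨z, hz, z', hz', hzz⟩ := Submodule.mem_sup.1 this
  obtain ⟨n1, rfl⟩ := Submodule.mkQ_surjective _ z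
  obtain ⟨n2, rfl⟩ := Submodule.mkQ_surjective _ z'
  change q' n1 ∈ K' Z at hz
  change q' n2 ∈ K' Zᶜ at hz'
  change q' n1 + q' n2 = q' ⟨π • m, hπm⟩ at hzz
  have h0 : q' (⟨π • m, hπm⟩ - n1 - n2) = 0 := by
    rw [map_sub, map_sub, ← hzz]; abel
  obtain ⟨n3, hn3⟩ := (hq'0 _).1 h0
  have hn3' : π • (n3 : M) = π • m - n1 - n2 := by
    have := congrArg (Subtype.val) hn3
    simpa using this
  have hsum : q (n1 : M) + q (n2 : M) = 0 := by
    have : (n1 : M) + n2 = π • (m - n3) := by rw [smul_sub, hn3']; abel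
    rw [← map_add, this]; exact (hq0 _).2 ⟨_, rfl⟩
  have hqn1 : q (n1 : M) = 0 := by
    apply hcap Z
    · rw [← hφ]; exact hφK _ _ hz
    · rw [eq_neg_of_add_eq_zero_left hsum]
      exact (K Zᶜ).neg_mem (by rw [← hφ]; exact hφK _ _ hz')
  have hqn2 : q (n2 : M) = 0 := by rwa [hqn1, zero_add] at hsum
  obtain ⟨m1, hm1⟩ := (hq0 _).1 hqn1
  obtain ⟨m2, hm2⟩ := (hq0 _).1 hqn2
  have hm : m = m1 + m2 + n3 := by
    have h := hπ (m - (m1 + m2 + n3)) (by
      rw [smul_sub, smul_add, smul_add, hm1, hm2, hn3']; abel)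
    exact sub_eq_zero.1 h
  have e1 : q m1 ∈ K Z ⊔ K Zᶜ := by
    have h1 : π • m1 ∈ N Y := by rw [hm1]; exact n1.2
    have := half Z m1 h1 (by
      have : (⟨π • m1, h1⟩ : N Y) = n1 := Subtype.ext hm1
      rw [this]; exact hz)
    exact (sup_le le_rfl le_sup_left : K Z ⊔ K Zᶜ ⊔ K Z ≤ K Z ⊔ K Zᶜ) this
  have e2 : q m2 ∈ K Z ⊔ K Zᶜ := by
    have h2 : π • m2 ∈ N Y := by rw [hm2]; exact n2.2
    have := half Zᶜ m2 h2 (by
      have : (⟨π • m2, h2⟩ : N Y) = n2 := Subtype.ext hm2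
      rw [this]; exact hz')
    exact (sup_le le_rfl le_sup_right : K Z ⊔ K Zᶜ ⊔ K Zᶜ ≤ K Z ⊔ K Zᶜ) this
  rw [hm, map_add, map_add]
  exact (K Z ⊔ K Zᶜ).add_mem ((K Z ⊔ K Zᶜ).add_mem e1 e2) (stepA n3)

end Groth.Agent.S18365
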