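import Groth.Statements.S18364
import Groth.Agent.S18365
import Mathlib.RingTheory.Ideal.Maximal

set_option autoImplicit false
universe u
open CAlg

namespace Groth.Agent.S18364

theorem exists_mul_pow_mem_span {A : Type u} [CommRing A] (π : A) (P : Ideal A) [P.IsPrime]
    (hP : P ∈ (Ideal.span {π}).minimalPrimes) (s : A) (hs : s ∈ P) :
    ∃ t, t ∉ P ∧ ∃ e : ℕ, t * s ^ e ∈ Ideal.span {π} := by
  by_contra hcon
  push Not at hcon
  have hdisj : Disjoint ((Ideal.span {π} : Ideal A) : Set A)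
      ((P.primeCompl ⊔ Submonoid.powers s : Submonoid A) : Set A) := by
    rw [Set.disjoint_left]
    intro x hx hxS
    obtain ⟨y, hy, z, ⟨e, rfl⟩, rfl⟩ := Submonoid.mem_sup.1 hxS
    exact hcon y hy e hx
  obtain ⟨q, hq, hle, hqS⟩ := Ideal.exists_le_prime_disjoint _ _ hdisj
  have hqP : q ≤ P := by
    intro x hx
    by_contra hxP
    exact Set.disjoint_left.1 hqS hx ((le_sup_left : P.primeCompl ≤ _) hxP)
  have hPq : P ≤ q := hP.2 ⟨hq, hle⟩ hqP
  exact Set.disjoint_left.1 hqS (hPq hs)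
    ((le_sup_right : Submonoid.powers s ≤ _) (Submonoid.mem_powers s))


/-- Let A be a Noetherian ring, π an element of A, and (𝔓_i)_{i ∈ ι} an injective finite family listing
exactly the minimal prime ideals over (π). Let M be a finitely generated A-module and M̄ = M/πM. For
a subset T of ι let K(T) ⊆ M̄ be the submodule of elements whose image in the localisation of M̄ at
𝔓_i is zero for every i ∈ T, and N(T) ⊆ M its preimage in M. Assume K(ι) = 0, i.e. no nonzero
element of M̄ vanishes at all the minimal primes (every associated prime of M̄ is one of the 𝔓_i).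
Then for every subset Y of ι with complement Z one has N(Y) ∩ N(Z) = πM, and the same construction
applied to the module N(Y) instead of M — the preimage in N(Y) of the elements of N(Y)/πN(Y)
vanishing at every 𝔓_i with i ∈ Z — is, as a submodule of M, equal to N(Y) ∩ N(Z). (Geometric
meaning: A is the local ring of a flat family of curves over a discrete valuation ring with
uniformizer π at a point of the reduced special fibre, M the stalk of a torsion-free rank-one sheaf
I, Y a set of components of the special fibre through the point, and N(Y) the stalk of the kernel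
I^Y of I → I(s)_Y; the statement is (I^Y)^Z = I^Y ∩ I^Z = πI. Reducedness of A/πA, flatness and rank
one are not used.) -/
theorem result
    (A : Type u) [CommRing A] [IsNoetherianRing A] (π : A)
    (ι : Type) [Finite ι] (𝔓 : ι → Ideal A) [∀ i, (𝔓 i).IsPrime]
    (h𝔓 : ∀ i, 𝔓 i ∈ (Ideal.span {π}).minimalPrimes) (h𝔓inj : Function.Injective 𝔓)
    (h𝔓surj : ∀ 𝔔 ∈ (Ideal.span {π}).minimalPrimes, ∃ i, 𝔓 i = 𝔔)
    (M : Type u) [AddCommGroup M] [Module A M] [Module.Finite A M]
    (K : Set ι → Submodule A (M ⧸ Ideal.span {π} • (⊤ : Submodule A M)))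
    (hK : ∀ T : Set ι, K T = ⨅ i ∈ T, LinearMap.ker
      (LocalizedModule.mkLinearMap (𝔓 i).primeCompl (M ⧸ Ideal.span {π} • (⊤ : Submodule A M))))
    (htf : K Set.univ = ⊥)
    (N : Set ι → Submodule A M)
    (hN : ∀ T : Set ι, N T = (K T).comap (Submodule.mkQ (Ideal.span {π} • (⊤ : Submodule A M))))
    (Y : Set ι) :
    N Y ⊓ N Yᶜ = Ideal.span {π} • (⊤ : Submodule A M) ∧
    Submodule.map (N Y).subtype
      ((⨅ i ∈ Yᶜ, LinearMap.ker (LocalizedModule.mkLinearMap (𝔓 i).primeCompl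
          (↥(N Y) ⧸ Ideal.span {π} • (⊤ : Submodule A ↥(N Y))))).comap
        (Submodule.mkQ (Ideal.span {π} • (⊤ : Submodule A ↥(N Y)))))
      = N Y ⊓ N Yᶜ := by
  classical
  have memK : ∀ (T : Set ι) (x : M ⧸ Ideal.span {π} • (⊤ : Submodule A M)),
      x ∈ K T ↔ ∀ i ∈ T, ∃ s, s ∉ 𝔓 i ∧ s • x = 0 := by
    intro T x; rw [hK T]; exact Groth.Agent.S18365.mem_K_iff 𝔓 _ T x
  set q := Submodule.mkQ (Ideal.span {π} • (⊤ : Submodule A M)) with hq
  have memN : ∀ (T : Set ι) (m : M), m ∈ N T ↔ q m ∈ K T := by intro T m; rw [hN]; rfl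
  have hq0 : ∀ m : M, q m = 0 ↔ ∃ p : M, π • p = m := by
    intro m
    rw [hq, Submodule.mkQ_apply, Submodule.Quotient.mk_eq_zero]
    exact Groth.Agent.S18365.mem_pi_smul_top π m
  -- part 1
  have part1 : N Y ⊓ N Yᶜ = Ideal.span {π} • (⊤ : Submodule A M) := by
    ext m
    rw [Submodule.mem_inf, memN, memN, Groth.Agent.S18365.mem_pi_smul_top, ← hq0]
    constructor
    · rintro ⟨h1, h2⟩
      have : q m ∈ K Set.univ := by
        rw [memK]; intro i _
        by_cases hi : i ∈ Y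
        · exact (memK Y _).1 h1 i hi
        · exact (memK Yᶜ _).1 h2 i hi
      rw [htf] at this; simpa using this
    · intro h0
      rw [h0]
      exact ⟨(K Y).zero_mem, (K Yᶜ).zero_mem⟩
  refine ⟨part1, ?_⟩
  -- part 2
  have hq'0 : ∀ n : N Y, n ∈ Ideal.span {π} • (⊤ : Submodule A ↥(N Y)) ↔
      ∃ p : N Y, π • p = n := fun n => Groth.Agent.S18365.mem_pi_smul_top π n
  ext x
  rw [Submodule.mem_map]
  constructor
  · rintro ⟨n, hn, rfl⟩
    rw [Submodule.mem_comap, Groth.Agent.S18365.mem_K_iff 𝔓 _ Yᶜ] at hn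
    refine ⟨n.2, ?_⟩
    change (n : M) ∈ N Yᶜ
    rw [memN, memK]
    intro i hi
    obtain ⟨s, hs, h0⟩ := hn i hi
    refine ⟨s, hs, ?_⟩
    rw [← map_smul, Submodule.mkQ_apply, Submodule.Quotient.mk_eq_zero, hq'0] at h0
    obtain ⟨p, hp⟩ := h0
    rw [← map_smul, hq0]
    refine ⟨(p : M), ?_⟩
    have := congrArg Subtype.val hp
    simpa using this
  · intro hx
    have hxN : x ∈ N Y := hx.1
    refine ⟨⟨x, hxN⟩, ?_, rfl⟩
    rw [part1, Groth.Agent.S18365.mem_pi_smul_top] at hx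
    obtain ⟨m, rfl⟩ := hx
    rw [Submodule.mem_comap, Groth.Agent.S18365.mem_K_iff 𝔓 _ Yᶜ]
    intro i hi
    -- for each j ∈ Y choose s_j ∈ 𝔓 j \ 𝔓 i, t_j ∉ 𝔓 j, e_j with t_j s_j^{e_j} ∈ (π)
    have hj : ∀ j : ι, j ∈ Y → ∃ s t : A, ∃ e : ℕ, s ∉ 𝔓 i ∧ t ∉ 𝔓 j ∧
        t * s ^ e ∈ Ideal.span {π} := by
      intro j hjY
      have hne : 𝔓 j ≠ 𝔓 i := fun h => hi (h𝔓inj h ▸ hjY)
      have hnle : ¬ 𝔓 j ≤ 𝔓 i := by
        intro hle
        exact hne (le_antisymm hle ((h𝔓 i).2 (h𝔓 j).1 hle))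
      obtain ⟨s, hsj, hsi⟩ := Set.not_subset.1 hnle
      obtain ⟨t, ht, e, hte⟩ := exists_mul_pow_mem_span π (𝔓 j) (h𝔓 j) s hsj
      exact ⟨s, t, e, hsi, ht, hte⟩
    choose! sf tf ef hsf htf' hte using hj
    letI : Fintype ι := Fintype.ofFinite ι
    set S : A := ∏ j ∈ Finset.univ.filter (· ∈ Y), sf j ^ ef j with hS
    have hSi : S ∉ 𝔓 i := by
      rw [hS]
      intro hmem
      obtain ⟨j, hjmem, hjP⟩ := (Ideal.IsPrime.prod_mem_iff (hp := inferInstance)).1 hmem
      rw [Finset.mem_filter] at hjmem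
      exact hsf j hjmem.2 (Ideal.IsPrime.mem_of_pow_mem inferInstance _ hjP)
    have hSm : S • m ∈ N Y := by
      rw [memN, memK]
      intro j hjY
      refine ⟨tf j, htf' j hjY, ?_⟩
      rw [← map_smul, hq0, smul_smul]
      have hjmem : j ∈ Finset.univ.filter (· ∈ Y) := by simp [hjY]
      have hfac : tf j * S = (∏ j' ∈ (Finset.univ.filter (· ∈ Y)).erase j, sf j' ^ ef j') *
          (tf j * sf j ^ ef j) := by
        rw [hS, ← Finset.mul_prod_erase _ _ hjmem]
        ring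
      obtain ⟨c, hc⟩ := Ideal.mem_span_singleton'.1 (hte j hjY)
      refine ⟨((∏ j' ∈ (Finset.univ.filter (· ∈ Y)).erase j, sf j' ^ ef j') * c) • m, ?_⟩
      rw [hfac, ← hc, smul_smul]
      congr 1
      ring
    refine ⟨S, hSi, ?_⟩
    rw [← map_smul, Submodule.mkQ_apply, Submodule.Quotient.mk_eq_zero, hq'0]
    refine ⟨⟨S • m, hSm⟩, ?_⟩
    apply Subtype.ext
    simp only [Submodule.coe_smul, smul_comm π S m]

end Groth.Agent.S18364
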