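import Groth.Statements.S18367
import Mathlib.Tactic
import Groth.Agent.S14128a
import Groth.Agent.Lib.H87AB
import Groth.Agent.Lib.H26FinLenExt

set_option autoImplicit false
universe u
open CategoryTheory CategoryTheory.Limits
open LocAlg

namespace Groth.Agent.S18367

/-- Let R be a Cohen–Macaulay local ring of Krull dimension g and K = (K^0 → K^1 → ⋯) a bounded cochain
complex of finitely generated free R-modules (K^i = 0 for i > N) such that every cohomology module
H^i(K) has finite length. Then H^i(K) = 0 for all i < g. -/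
theorem result (R : Type u) [CommRing R]
    [LocCoh.IsCohenMacaulayLocalRing R] (g : ℕ) (hg : ringKrullDim R = g) (K : CochainComplex (ModuleCat.{u} R) ℕ)
    (N : ℕ) (hbd : ∀ i, N < i → IsZero (K.X i)) (hfree : ∀ i, Module.Free R (K.X i) ∧ Module.Finite R (K.X i))
    (hfl : ∀ i, IsFiniteLength R (K.homology i)) (i : ℕ) (hi : i < g) :
    IsZero (K.homology i) := by
  classical
  have hCM := LocCoh.IsCohenMacaulayLocalRing.supportDim_eq_depth (R := R)
  rw [Module.supportDim_self_eq_ringKrullDim, hg] at hCM
  have hd : LocCoh.depth R R = g := by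
    have h1 : ((g : ℕ∞) : WithBot ℕ∞) = ((LocCoh.depth R R : ℕ∞) : WithBot ℕ∞) := by
      rw [← hCM]; rfl
    exact (WithBot.coe_injective h1).symm
  have hD := (Groth.Agent.Lib.H87AB.depth_eq_iff (R := R) R g).mp hd
  obtain ⟨hD1, hD2⟩ := hD
  have hExt : ∀ i l j, j < g → ∀ x : Abelian.Ext (K.homology i) (K.X l) j, x = 0 := by
    intro i l j hj x
    have := (hfree l).1
    have := (hfree l).2
    have h1 : Subsingleton (Abelian.Ext (ModuleCat.of R (R ⧸ IsLocalRing.maximalIdeal R))
        (ModuleCat.of R (K.X l)) j) :=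
      Groth.Agent.Lib.H87AB.subsingleton_ext_free (Module.finBasis R (K.X l)) j (hD1 j hj)
    have h2 : Subsingleton (Abelian.Ext (ModuleCat.of R (K.homology i))
        (ModuleCat.of R (K.X l)) j) :=
      Groth.Agent.Lib.H26FinLenExt.subsingleton_ext_of_isFiniteLength _ j h1 _ (hfl i)
    exact Subsingleton.elim (α := Abelian.Ext (ModuleCat.of R (K.homology i))
        (ModuleCat.of R (K.X l)) j) x 0
  induction i using Nat.strong_induction_on with
  | _ i ih =>
    exact Groth.Agent.S14128a.acyclicity K g i hi (fun k hk => ih k hk (by omega)) (hExt i)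


end Groth.Agent.S18367
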