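import Groth.Statements.S18370
import Mathlib.Tactic.Ring
import Mathlib.Tactic.Linarith

set_option autoImplicit false
universe u
open CategoryTheory CategoryTheory.Limits MonoidalCategory CartesianMonoidalCategory MonObj GrpObj AlgebraicGeometry
open GrpSch

namespace Groth.Agent.S18370

/-- Let S be a scheme and G a commutative S-group scheme which is killed by a natural number n, i.e. the
n-th power map of G is the trivial homomorphism, and let n = a·b with a and b coprime. If i_a : G_a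
→ G and i_b : G_b → G are scheme-theoretic kernels of the a-th and b-th power maps of G, then the
morphism G_a ×_S G_b → G sending (x, y) to i_a(x)·i_b(y) is an isomorphism of S-schemes. (The
published statement assumes n ≠ 0; the case n = 0, where {a, b} = {0, 1} and one kernel is all of G
while the other is trivial, is included here.) -/
theorem result {S : Scheme.{u}} (G Ga Gb : Over S)
    [GrpObj G] [IsCommMonObj G] (n a b : ℕ) (hn : n = a * b) (hab : Nat.Coprime a b)
    (hG : (𝟙 G) ^ n = 1)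
    (ia : Ga ⟶ G) (hia : AlgGrp.IsKernel ia ((𝟙 G) ^ a))
    (ib : Gb ⟶ G) (hib : AlgGrp.IsKernel ib ((𝟙 G) ^ b)) :
    IsIso ((fst Ga Gb ≫ ia) * (snd Ga Gb ≫ ib)) := by
  obtain ⟨u, v, huv⟩ : ∃ u v : ℤ, (a : ℤ) * u + (b : ℤ) * v = 1 :=
    ⟨Nat.gcdA a b, Nat.gcdB a b, by
      rw [← Nat.gcd_eq_gcd_ab, Nat.Coprime.gcd_eq_one hab]; simp⟩
  have hpowG : ∀ {T : Over S} (x : T ⟶ G), x ^ n = 1 := by
    intro T x
    have := congrArg (fun f => x ≫ f) hG
    simpa [MonObj.comp_pow] using this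
  have hia_pow : ∀ {T : Over S} (x : T ⟶ Ga), (x ≫ ia) ^ a = 1 := by
    intro T x
    have := congrArg (fun f => x ≫ f) hia.w
    simp only [MonObj.comp_pow, Category.comp_id] at this
    rw [this, ← CategoryTheory.Hom.one_def, MonObj.comp_one]
  have hib_pow : ∀ {T : Over S} (x : T ⟶ Gb), (x ≫ ib) ^ b = 1 := by
    intro T x
    have := congrArg (fun f => x ≫ f) hib.w
    simp only [MonObj.comp_pow, Category.comp_id] at this
    rw [this, ← CategoryTheory.Hom.one_def, MonObj.comp_one]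
  have hwa : ((𝟙 G) ^ ((b : ℤ) * v)) ≫ ((𝟙 G) ^ a) = toUnit G ≫ η[G] := by
    rw [MonObj.comp_pow, Category.comp_id, ← CategoryTheory.Hom.one_def, ← zpow_natCast, ← zpow_mul]
    have : (b : ℤ) * v * a = (n : ℤ) * v := by rw [hn]; push_cast; ring
    rw [this, zpow_mul, zpow_natCast, hpowG, one_zpow]
  have hwb : ((𝟙 G) ^ ((a : ℤ) * u)) ≫ ((𝟙 G) ^ b) = toUnit G ≫ η[G] := by
    rw [MonObj.comp_pow, Category.comp_id, ← CategoryTheory.Hom.one_def, ← zpow_natCast, ← zpow_mul]
    have : (a : ℤ) * u * b = (n : ℤ) * u := by rw [hn]; push_cast; ring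
    rw [this, zpow_mul, zpow_natCast, hpowG, one_zpow]
  let pa : G ⟶ Ga := hia.lift ((𝟙 G) ^ ((b : ℤ) * v)) (toUnit G) hwa
  let pb : G ⟶ Gb := hib.lift ((𝟙 G) ^ ((a : ℤ) * u)) (toUnit G) hwb
  have hpa : pa ≫ ia = (𝟙 G) ^ ((b : ℤ) * v) := hia.lift_fst _ _ _
  have hpb : pb ≫ ib = (𝟙 G) ^ ((a : ℤ) * u) := hib.lift_fst _ _ _
  set m := (fst Ga Gb ≫ ia) * (snd Ga Gb ≫ ib) with hm
  have hma : m ^ ((b : ℤ) * v) = fst Ga Gb ≫ ia := by
    rw [hm, mul_zpow, zpow_mul (snd Ga Gb ≫ ib), zpow_natCast, hib_pow, one_zpow, _root_.mul_one]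
    have : (b : ℤ) * v = 1 - a * u := by linarith
    rw [this, zpow_sub, zpow_one, zpow_mul, zpow_natCast, hia_pow, one_zpow, inv_one, _root_.mul_one]
  have hmb : m ^ ((a : ℤ) * u) = snd Ga Gb ≫ ib := by
    rw [hm, mul_zpow, zpow_mul (fst Ga Gb ≫ ia), zpow_natCast, hia_pow, one_zpow, _root_.one_mul]
    have : (a : ℤ) * u = 1 - b * v := by linarith
    rw [this, zpow_sub, zpow_one, zpow_mul, zpow_natCast, hib_pow, one_zpow, inv_one, _root_.mul_one]
  refine ⟨CartesianMonoidalCategory.lift pa pb, ?_, ?_⟩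
  · apply CartesianMonoidalCategory.hom_ext
    · apply hia.hom_ext
      · simp only [Category.assoc, lift_fst, Category.id_comp, hpa]
        rw [GrpObj.comp_zpow, Category.comp_id, hma]
      · exact toUnit_unique _ _
    · apply hib.hom_ext
      · simp only [Category.assoc, lift_snd, Category.id_comp, hpb]
        rw [GrpObj.comp_zpow, Category.comp_id, hmb]
      · exact toUnit_unique _ _
  · rw [hm, MonObj.comp_mul, lift_fst_assoc, lift_snd_assoc, hpa, hpb, ← zpow_add]
    have : (b : ℤ) * v + a * u = 1 := by linarith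
    rw [this, zpow_one]

end Groth.Agent.S18370
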