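import Groth.Statements.S18374
import Mathlib

set_option autoImplicit false
universe u
open PhiStab

namespace Groth.Agent.S18374
set_option backward.isDefEq.respectTransparency.types false
set_option linter.style.haveILetI false
set_option linter.unusedSectionVars false

open Finset

variable {V E : Type u} [Fintype V] [Fintype E] [DecidableEq V] [DecidableEq E]
variable (ends : E → V × V)

/-- adjacency inside `S` -/
def RS (S : Finset V) (a b : V) : Prop := a ∈ S ∧ b ∈ S ∧ LabGraph.Adj ends a b

def ConnS (S : Finset V) : Prop :=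
  S.Nonempty ∧ ∀ a ∈ S, ∀ b ∈ S, Relation.ReflTransGen (RS ends S) a b

lemma RS_symm (S : Finset V) {a b : V} (h : RS ends S a b) : RS ends S b a := by
  obtain ⟨ha, hb, e, he⟩ := h
  exact ⟨hb, ha, e, he.symm⟩

lemma reach_symm (S : Finset V) {a b : V} (h : Relation.ReflTransGen (RS ends S) a b) :
    Relation.ReflTransGen (RS ends S) b a := by
  induction h with
  | refl => exact Relation.ReflTransGen.refl
  | @tail b c _ hbc ih => exact Relation.ReflTransGen.head (RS_symm ends S hbc) ih

lemma adj_ind_iff (S : Finset V) (a b : {v : V // v ∈ S}) :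
    LabGraph.Adj (indEnds ends S) a b ↔ LabGraph.Adj ends a.1 b.1 := by
  constructor
  · rintro ⟨e, he | he⟩
    · refine ⟨e.1, Or.inl ?_⟩
      have h1 := congrArg (fun p => (p.1.1, p.2.1)) he
      exact h1
    · refine ⟨e.1, Or.inr ?_⟩
      have h1 := congrArg (fun p => (p.1.1, p.2.1)) he
      exact h1
  · rintro ⟨e, he | he⟩
    · have hin : e ∈ inner ends S := by
        simp only [PhiStab.inner, mem_filter, mem_univ, true_and, he]
        exact ⟨a.2, b.2⟩
      refine ⟨⟨e, hin⟩, Or.inl ?_⟩
      apply Prod.ext <;> apply Subtype.ext <;> simp [indEnds, he]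
    · have hin : e ∈ inner ends S := by
        simp only [PhiStab.inner, mem_filter, mem_univ, true_and, he]
        exact ⟨b.2, a.2⟩
      refine ⟨⟨e, hin⟩, Or.inr ?_⟩
      apply Prod.ext <;> apply Subtype.ext <;> simp [indEnds, he]

lemma connected_ind_iff (S : Finset V) :
    LabGraph.Connected (indEnds ends S) ↔ ConnS ends S := by
  constructor
  · rintro ⟨⟨v0⟩, h⟩
    refine ⟨⟨v0.1, v0.2⟩, fun a ha b hb => ?_⟩
    have := h ⟨a, ha⟩ ⟨b, hb⟩
    have key : ∀ x y : {v : V // v ∈ S}, Relation.ReflTransGen (LabGraph.Adj (indEnds ends S)) x y →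
        Relation.ReflTransGen (RS ends S) x.1 y.1 := by
      intro x y hxy
      induction hxy with
      | refl => exact Relation.ReflTransGen.refl
      | @tail y z _ hyz ih =>
        exact ih.tail ⟨y.2, z.2, (adj_ind_iff ends S y z).mp hyz⟩
    exact key _ _ this
  · rintro ⟨⟨v0, hv0⟩, h⟩
    refine ⟨⟨⟨v0, hv0⟩⟩, fun a b => ?_⟩
    have key : ∀ x y : V, Relation.ReflTransGen (RS ends S) x y → ∀ (hx : x ∈ S) (hy : y ∈ S),
        Relation.ReflTransGen (LabGraph.Adj (indEnds ends S)) ⟨x, hx⟩ ⟨y, hy⟩ := by
      intro x y hxy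
      induction hxy with
      | refl => intro hx hy; exact Relation.ReflTransGen.refl
      | @tail y z _ hyz ih =>
        intro hx hz
        exact (ih hx hyz.1).tail ((adj_ind_iff ends S ⟨y, hyz.1⟩ ⟨z, hz⟩).mpr hyz.2.2)
    exact key _ _ (h a.1 a.2 b.1 b.2) a.2 b.2

/-- edges between `A` and `B` -/
def EAB (A B : Finset V) : Finset E :=
  univ.filter (fun e => ((ends e).1 ∈ A ∧ (ends e).2 ∈ B) ∨ ((ends e).1 ∈ B ∧ (ends e).2 ∈ A))

noncomputable def gg (φ : V → ℝ) (m : V → ℤ) (N : Finset E) (S : Finset V) : ℝ :=
  (degOn ends m N S : ℝ) - (∑ v ∈ S, φ v) + (LabGraph.cut ends S : ℝ) / 2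

noncomputable def xx (N : Finset E) (A B : Finset V) : ℝ :=
  ((EAB ends A B).card : ℝ) - ((N ∩ EAB ends A B).card : ℝ)

lemma xx_nonneg (N : Finset E) (A B : Finset V) : 0 ≤ xx ends N A B := by
  unfold xx
  have : (N ∩ EAB ends A B).card ≤ (EAB ends A B).card := card_le_card inter_subset_right
  have : ((N ∩ EAB ends A B).card : ℝ) ≤ ((EAB ends A B).card : ℝ) := by exact_mod_cast this
  linarith

lemma card_inner_union (N : Finset E) (A B : Finset V) (hAB : Disjoint A B) :
    (N ∩ inner ends (A ∪ B)).card =
      (N ∩ inner ends A).card + (N ∩ inner ends B).card + (N ∩ EAB ends A B).card := by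
  unfold PhiStab.inner EAB
  simp only [inter_filter, inter_univ, card_filter]
  rw [← sum_add_distrib, ← sum_add_distrib]
  refine sum_congr rfl fun e _ => ?_
  have h1 := fun h => (disjoint_left.mp hAB) (a := (ends e).1) h
  have h2 := fun h => (disjoint_left.mp hAB) (a := (ends e).2) h
  simp only [mem_union]
  by_cases a1 : (ends e).1 ∈ A <;> by_cases a2 : (ends e).2 ∈ A <;>
    by_cases b1 : (ends e).1 ∈ B <;> by_cases b2 : (ends e).2 ∈ B <;> simp_all

lemma cut_union (A B : Finset V) (hAB : Disjoint A B) :
    LabGraph.cut ends (A ∪ B) + 2 * (EAB ends A B).card =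
      LabGraph.cut ends A + LabGraph.cut ends B := by
  unfold LabGraph.cut EAB
  simp only [card_filter]
  rw [mul_sum, ← sum_add_distrib, ← sum_add_distrib]
  refine sum_congr rfl fun e _ => ?_
  have h1 := fun h => (disjoint_left.mp hAB) (a := (ends e).1) h
  have h2 := fun h => (disjoint_left.mp hAB) (a := (ends e).2) h
  simp only [mem_union]
  by_cases a1 : (ends e).1 ∈ A <;> by_cases a2 : (ends e).2 ∈ A <;>
    by_cases b1 : (ends e).1 ∈ B <;> by_cases b2 : (ends e).2 ∈ B <;> simp_all

lemma gg_union (φ : V → ℝ) (m : V → ℤ) (N : Finset E) (A B : Finset V) (hAB : Disjoint A B) :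
    gg ends φ m N (A ∪ B) = gg ends φ m N A + gg ends φ m N B - xx ends N A B := by
  unfold gg xx degOn
  rw [sum_union hAB, sum_union hAB, card_inner_union ends N A B hAB]
  have hc := cut_union ends A B hAB
  have hc' : (LabGraph.cut ends (A ∪ B) : ℝ) + 2 * ((EAB ends A B).card : ℝ) =
      (LabGraph.cut ends A : ℝ) + (LabGraph.cut ends B : ℝ) := by exact_mod_cast hc
  push_cast
  linarith

def NoEdges (A B : Finset V) : Prop :=
  ∀ e : E, ¬(((ends e).1 ∈ A ∧ (ends e).2 ∈ B) ∨ ((ends e).1 ∈ B ∧ (ends e).2 ∈ A))

lemma xx_eq_zero (N : Finset E) (A B : Finset V) (h : NoEdges ends A B) : xx ends N A B = 0 := by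
  have : EAB ends A B = ∅ := by
    unfold EAB
    exact filter_eq_empty_iff.mpr fun e _ => h e
  unfold xx
  rw [this]
  simp

lemma EAB_union_left (S A B : Finset V) (h : NoEdges ends A B) :
    EAB ends (S ∪ A) B = EAB ends S B := by
  unfold EAB
  apply filter_congr
  intro e _
  have := h e
  simp only [mem_union]
  tauto

lemma gg_univ (φ : V → ℝ) (m : V → ℤ) (N : Finset E)
    (hdeg : (∑ v : V, φ v) = (totDeg m N : ℝ)) : gg ends φ m N univ = 0 := by
  unfold gg degOn
  have h1 : PhiStab.inner ends (univ : Finset V) = univ := by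
    unfold PhiStab.inner
    simp
  have h2 : LabGraph.cut ends (univ : Finset V) = 0 := by
    unfold LabGraph.cut
    simp
  rw [h1, h2, inter_univ, hdeg]
  unfold totDeg
  simp

lemma gg_split (φ : V → ℝ) (m : V → ℤ) (N : Finset E)
    (hdeg : (∑ v : V, φ v) = (totDeg m N : ℝ)) (S A B : Finset V)
    (hSA : Disjoint S A) (hSB : Disjoint S B) (hAB : Disjoint A B) (hcov : S ∪ A ∪ B = univ)
    (hno : NoEdges ends A B) :
    gg ends φ m N S = gg ends φ m N (S ∪ A) + gg ends φ m N (S ∪ B) := by
  have h0 := gg_univ ends φ m N hdeg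
  rw [← hcov, gg_union ends φ m N (S ∪ A) B (disjoint_union_left.mpr ⟨hSB, hAB⟩)] at h0
  have h1 : xx ends N (S ∪ A) B = xx ends N S B := by
    unfold xx
    rw [EAB_union_left ends S A B hno]
  have h2 := gg_union ends φ m N S B hSB
  rw [h1] at h0
  linarith

lemma gg_add_of_noEdges (φ : V → ℝ) (m : V → ℤ) (N : Finset E) (A B : Finset V)
    (hAB : Disjoint A B) (hno : NoEdges ends A B) :
    gg ends φ m N (A ∪ B) = gg ends φ m N A + gg ends φ m N B := by
  rw [gg_union ends φ m N A B hAB, xx_eq_zero ends N A B hno, sub_zero]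

open Classical in
/-- the connected component of `a` inside `T` -/
noncomputable def comp (T : Finset V) (a : V) : Finset V :=
  T.filter (fun v => Relation.ReflTransGen (RS ends T) a v)

lemma mem_comp (T : Finset V) (a v : V) :
    v ∈ comp ends T a ↔ v ∈ T ∧ Relation.ReflTransGen (RS ends T) a v := by
  classical
  unfold comp
  rw [mem_filter]

lemma self_mem_comp (T : Finset V) (a : V) (ha : a ∈ T) : a ∈ comp ends T a :=
  (mem_comp ends T a a).mpr ⟨ha, Relation.ReflTransGen.refl⟩

lemma comp_subset (T : Finset V) (a : V) : comp ends T a ⊆ T :=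
  fun v hv => ((mem_comp ends T a v).mp hv).1

lemma noEdges_comp (T : Finset V) (a : V) : NoEdges ends (comp ends T a) (T \ comp ends T a) := by
  intro e
  rintro (⟨h1, h2⟩ | ⟨h1, h2⟩)
  · rw [mem_sdiff] at h2
    rw [mem_comp] at h1
    apply h2.2
    rw [mem_comp]
    exact ⟨h2.1, h1.2.tail ⟨h1.1, h2.1, e, Or.inl rfl⟩⟩
  · rw [mem_sdiff] at h1
    rw [mem_comp] at h2
    apply h1.2
    rw [mem_comp]
    exact ⟨h1.1, h2.2.tail ⟨h2.1, h1.1, e, Or.inr rfl⟩⟩

lemma noEdges_symm {A B : Finset V} (h : NoEdges ends A B) : NoEdges ends B A := by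
  intro e he
  exact h e he.symm

/-- a non-connected nonempty set splits -/
lemma exists_split (T : Finset V) (hT : T.Nonempty) (hnc : ¬ ConnS ends T) :
    ∃ A B : Finset V, A.Nonempty ∧ B.Nonempty ∧ Disjoint A B ∧ A ∪ B = T ∧ NoEdges ends A B := by
  unfold ConnS at hnc
  push Not at hnc
  obtain ⟨a, ha, b, hb, hab⟩ := hnc hT
  refine ⟨comp ends T a, T \ comp ends T a, ⟨a, self_mem_comp ends T a ha⟩, ⟨b, ?_⟩,
    disjoint_sdiff, ?_, noEdges_comp ends T a⟩
  · rw [mem_sdiff, mem_comp]
    exact ⟨hb, fun h => hab h.2⟩
  · exact union_sdiff_of_subset (comp_subset ends T a)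

lemma reduce_conn (φ : V → ℝ) (m : V → ℤ) (N : Finset E) (P : ℝ → Prop)
    (hadd : ∀ x y, P x → P y → P (x + y))
    (h : ∀ S : Finset V, ConnS ends S → S ≠ univ → P (gg ends φ m N S)) :
    ∀ S : Finset V, S.Nonempty → S ≠ univ → P (gg ends φ m N S) := by
  intro S
  induction S using Finset.strongInduction with
  | H S ih =>
    intro hne hS
    by_cases hc : ConnS ends S
    · exact h S hc hS
    · obtain ⟨A, B, hA, hB, hAB, hu, hno⟩ := exists_split ends S hne hc
      have hAS : A ⊂ S := by
        rw [← hu]
        refine ⟨subset_union_left, fun hsub => ?_⟩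
        obtain ⟨b, hb⟩ := hB
        exact (disjoint_left.mp hAB) (hsub (mem_union_right _ hb)) hb
      have hBS : B ⊂ S := by
        rw [← hu]
        refine ⟨subset_union_right, fun hsub => ?_⟩
        obtain ⟨a, ha⟩ := hA
        exact (disjoint_left.mp hAB) ha (hsub (mem_union_left _ ha))
      have hAne : A ≠ univ := fun h' => hAS.ne (by rw [h'] at hAS ⊢; exact (hAS.not_subset (subset_univ _)).elim)
      have hBne : B ≠ univ := fun h' => hBS.ne (by rw [h'] at hBS ⊢; exact (hBS.not_subset (subset_univ _)).elim)
      rw [← hu, gg_add_of_noEdges ends φ m N A B hAB hno]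
      exact hadd _ _ (ih A hAS hA hAne) (ih B hBS hB hBne)

lemma conn_union (hconn : LabGraph.Connected ends) (S A : Finset V) (hS : ConnS ends S)
    (hno : NoEdges ends A (Sᶜ \ A)) : ConnS ends (S ∪ A) := by
  obtain ⟨s0, hs0⟩ := hS.1
  have key : ∀ w, Relation.ReflTransGen (LabGraph.Adj ends) w s0 → w ∈ S ∪ A →
      Relation.ReflTransGen (RS ends (S ∪ A)) w s0 := by
    intro w hw
    induction hw using Relation.ReflTransGen.head_induction_on with
    | refl => intro _; exact Relation.ReflTransGen.refl
    | @head a b hab hbc ih =>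
      intro ha
      rcases mem_union.mp ha with haS | haA
      · have hle : RS ends S ≤ RS ends (S ∪ A) :=
          fun x y hxy => ⟨mem_union_left _ hxy.1, mem_union_left _ hxy.2.1, hxy.2.2⟩
        exact Relation.ReflTransGen.mono hle _ _ (hS.2 a haS s0 hs0)
      · have hb : b ∈ S ∪ A := by
          by_contra hb
          obtain ⟨e, he⟩ := hab
          have hbS : b ∉ S := fun h => hb (mem_union_left _ h)
          have hbA : b ∉ A := fun h => hb (mem_union_right _ h)
          have hb' : b ∈ Sᶜ \ A := mem_sdiff.mpr ⟨mem_compl.mpr hbS, hbA⟩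
          rcases he with he | he
          · exact hno e (Or.inl ⟨by rw [he]; exact haA, by rw [he]; exact hb'⟩)
          · exact hno e (Or.inr ⟨by rw [he]; exact hb', by rw [he]; exact haA⟩)
        exact Relation.ReflTransGen.head ⟨ha, hb, hab⟩ (ih hb)
  refine ⟨⟨s0, mem_union_left _ hs0⟩, fun a ha b hb => ?_⟩
  exact (key a (hconn.2 a s0) ha).trans (reach_symm ends _ (key b (hconn.2 b s0) hb))

lemma reduce_elem (hconn : LabGraph.Connected ends) (φ : V → ℝ) (m : V → ℤ) (N : Finset E)
    (hdeg : (∑ v : V, φ v) = (totDeg m N : ℝ)) (P : ℝ → Prop)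
    (hadd : ∀ x y, P x → P y → P (x + y))
    (h : ∀ S : Finset V, ConnS ends S → ConnS ends Sᶜ → P (gg ends φ m N S)) :
    ∀ S : Finset V, ConnS ends S → S ≠ univ → P (gg ends φ m N S) := by
  have main : ∀ T : Finset V, ∀ S : Finset V, Sᶜ = T → ConnS ends S → S ≠ univ →
      P (gg ends φ m N S) := by
    intro T
    induction T using Finset.strongInduction with
    | H T ih =>
      intro S hST hS hne
      by_cases hc : ConnS ends Sᶜ
      · exact h S hS hc
      · have hTne : (Sᶜ).Nonempty := by
          rw [nonempty_iff_ne_empty]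
          intro h0
          apply hne
          rw [← compl_compl S, h0, compl_empty]
        obtain ⟨A, B, hA, hB, hAB, hu, hno⟩ := exists_split ends Sᶜ hTne hc
        have hBeq : Sᶜ \ A = B := by rw [← hu, union_sdiff_cancel_left hAB]
        have hAeq : Sᶜ \ B = A := by rw [← hu, union_sdiff_cancel_right hAB]
        have hSA : Disjoint S A := by
          rw [disjoint_left]
          intro x hxS hxA
          have : x ∈ Sᶜ := hu ▸ mem_union_left _ hxA
          exact (mem_compl.mp this) hxS
        have hSB : Disjoint S B := by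
          rw [disjoint_left]
          intro x hxS hxB
          have : x ∈ Sᶜ := hu ▸ mem_union_right _ hxB
          exact (mem_compl.mp this) hxS
        have hcov : S ∪ A ∪ B = univ := by
          rw [union_assoc, hu, union_compl]
        have c1 : ConnS ends (S ∪ A) := conn_union ends hconn S A hS (by rw [hBeq]; exact hno)
        have c2 : ConnS ends (S ∪ B) :=
          conn_union ends hconn S B hS (by rw [hAeq]; exact noEdges_symm ends hno)
        have e1 : (S ∪ A)ᶜ = B := by
          rw [compl_union, ← hu]
          ext x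
          simp only [mem_inter, mem_union, mem_compl]
          constructor
          · rintro ⟨h1 | h1, h2⟩
            · exact (h2 h1).elim
            · exact h1
          · intro hx
            exact ⟨Or.inr hx, fun hxA => (disjoint_left.mp hAB) hxA hx⟩
        have e2 : (S ∪ B)ᶜ = A := by
          rw [compl_union, ← hu]
          ext x
          simp only [mem_inter, mem_union, mem_compl]
          constructor
          · rintro ⟨h1 | h1, h2⟩
            · exact h1
            · exact (h2 h1).elim
          · intro hx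
            exact ⟨Or.inl hx, fun hxB => (disjoint_left.mp hAB) hx hxB⟩
        have hBT : B ⊂ T := by
          rw [← hST, ← hu]
          refine ⟨subset_union_right, fun hsub => ?_⟩
          obtain ⟨a, ha⟩ := hA
          exact (disjoint_left.mp hAB) ha (hsub (mem_union_left _ ha))
        have hAT : A ⊂ T := by
          rw [← hST, ← hu]
          refine ⟨subset_union_left, fun hsub => ?_⟩
          obtain ⟨b, hb⟩ := hB
          exact (disjoint_left.mp hAB) (hsub (mem_union_right _ hb)) hb
        have n1 : S ∪ A ≠ univ := by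
          intro h'
          rw [h', compl_univ] at e1
          exact hB.ne_empty e1.symm
        have n2 : S ∪ B ≠ univ := by
          intro h'
          rw [h', compl_univ] at e2
          exact hA.ne_empty e2.symm
        rw [gg_split ends φ m N hdeg S A B hSA hSB hAB hcov hno]
        exact hadd _ _ (ih B hBT (S ∪ A) e1 c1 n1) (ih A hAT (S ∪ B) e2 c2 n2)
  intro S hS hne
  exact main Sᶜ S rfl hS hne

lemma elementary_iff (S : Finset V) :
    IsElementary ends S ↔ ConnS ends S ∧ ConnS ends Sᶜ := by
  unfold IsElementary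
  rw [connected_ind_iff, connected_ind_iff]


open PhiStab in
/-- Let (V, E, ends) be a connected finite multigraph, φ a real weighting of its vertices and (m, N) a
sheaf datum on it (an integer multidegree m and a set N of edges, the non-free nodes) whose total
degree Σ_v m v + #N equals Σ_v φ v. Then (m, N) is φ-semistable, i.e. Σ_{v ∈ S} φ v - cut S / 2 ≤
deg_S(m, N) for every nonempty proper vertex set S, if and only if this inequality holds for every
elementary S (one for which S and its complement both induce connected subgraphs); and likewise for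
φ-stability with strict inequalities. This is the statement for a rank-1 torsion-free sheaf of
degree g - 1 on a stable pointed curve with this dual graph, written for the sheaf's combinatorial
datum, on which alone the stability inequalities depend and which takes all values. -/
theorem result {V E : Type u} [Fintype V] [Fintype E] [DecidableEq V] [DecidableEq E]
    (ends : E → V × V) (hconn : LabGraph.Connected ends)
    (φ : V → ℝ) (m : V → ℤ) (N : Finset E) (hdeg : (∑ v : V, φ v) = (totDeg m N : ℝ)) :
    (IsSemistable ends φ m N ↔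
      ∀ S : Finset V, IsElementary ends S →
        (∑ v ∈ S, φ v) - (LabGraph.cut ends S : ℝ) / 2 ≤ (degOn ends m N S : ℝ)) ∧
    (IsStable ends φ m N ↔
      ∀ S : Finset V, IsElementary ends S →
        (∑ v ∈ S, φ v) - (LabGraph.cut ends S : ℝ) / 2 < (degOn ends m N S : ℝ)) := by
  have hel : ∀ S : Finset V, IsElementary ends S → S.Nonempty ∧ S ≠ Finset.univ := by
    intro S hS
    rw [elementary_iff] at hS
    refine ⟨hS.1.1, fun h => ?_⟩
    have := hS.2.1
    rw [h, Finset.compl_univ] at this
    exact Finset.not_nonempty_empty this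
  have hgg : ∀ S : Finset V, gg ends φ m N S =
      (degOn ends m N S : ℝ) - ((∑ v ∈ S, φ v) - (LabGraph.cut ends S : ℝ) / 2) := by
    intro S
    unfold gg
    ring
  constructor
  · constructor
    · intro h S hS
      exact h S (hel S hS).1 (hel S hS).2
    · intro h S hne hS
      have := reduce_conn ends φ m N (fun x => 0 ≤ x) (fun x y hx hy => add_nonneg hx hy)
        (reduce_elem ends hconn φ m N hdeg (fun x => 0 ≤ x) (fun x y hx hy => add_nonneg hx hy)
          (fun S h1 h2 => by
            have := h S ((elementary_iff ends S).mpr ⟨h1, h2⟩)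
            rw [hgg]
            linarith)) S hne hS
      rw [hgg] at this
      linarith
  · constructor
    · intro h S hS
      exact h S (hel S hS).1 (hel S hS).2
    · intro h S hne hS
      have := reduce_conn ends φ m N (fun x => 0 < x) (fun x y hx hy => add_pos hx hy)
        (reduce_elem ends hconn φ m N hdeg (fun x => 0 < x) (fun x y hx hy => add_pos hx hy)
          (fun S h1 h2 => by
            have := h S ((elementary_iff ends S).mpr ⟨h1, h2⟩)
            rw [hgg]
            linarith)) S hne hS
      rw [hgg] at this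
      linarith

end Groth.Agent.S18374
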