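import Groth.Statements.S18382
import Groth.Agent.Lib.LabGraphTree2
import Mathlib
-- import your own Groth.Agent.* helpers here

set_option autoImplicit false
universe u
open PhiStab

namespace Groth.Agent.S18382

open Groth.Agent.Lib.LabGraphTree in
theorem side_fst {V E : Type u} [Fintype V] [Fintype E] [DecidableEq V] [DecidableEq E]
    (ends : E → V × V) (e : E) : (ends e).1 ∈ PhiStab.side ends e := by
  classical
  unfold PhiStab.side
  exact Finset.mem_filter.mpr ⟨Finset.mem_univ _, Relation.ReflTransGen.refl⟩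

theorem side_closed {V E : Type u} [Fintype V] [Fintype E] [DecidableEq V] [DecidableEq E]
    (ends : E → V × V) (e e' : E) (hne : e' ≠ e) :
    (ends e').1 ∈ PhiStab.side ends e ↔ (ends e').2 ∈ PhiStab.side ends e := by
  classical
  unfold PhiStab.side
  have hmem : e' ∈ Finset.univ.erase e := Finset.mem_erase.mpr ⟨hne, Finset.mem_univ _⟩
  constructor
  · intro h
    have h' := (Finset.mem_filter.mp h).2
    exact Finset.mem_filter.mpr ⟨Finset.mem_univ _, h'.tail ⟨⟨e', hmem⟩, Or.inl rfl⟩⟩
  · intro h
    have h' := (Finset.mem_filter.mp h).2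
    exact Finset.mem_filter.mpr ⟨Finset.mem_univ _, h'.tail ⟨⟨e', hmem⟩, Or.inr rfl⟩⟩

open Groth.Agent.Lib.LabGraphTree in
theorem snd_notMem_side {V E : Type u} [Fintype V] [Fintype E] [DecidableEq V] [DecidableEq E]
    (ends : E → V × V) (hF : DualGr.IsForest ends) (e : E) :
    (ends e).2 ∉ PhiStab.side ends e := by
  classical
  intro h
  unfold PhiStab.side at h
  have h' := (Finset.mem_filter.mp h).2
  obtain ⟨γ', hγ'⟩ := exists_mulVec_eq_of_reach (ZMod 2)
    (PhiStab.spanEnds ends (Finset.univ.erase e)) (ends e).1 (ends e).2 h'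
  have h1 := incR_sub_mulVec' (ZMod 2) ends (Finset.univ.erase e) γ'
  have h2 : Matrix.mulVec (incR (ZMod 2) ends)
      (extE (ZMod 2) (Finset.univ.erase e) γ' - Pi.single e 1) = 0 := by
    rw [Matrix.mulVec_sub, incR_mulVec_single, ← h1]
    have : Matrix.mulVec (incR (ZMod 2) (fun e' : ↥(Finset.univ.erase e) => ends e'.1)) γ' =
        Pi.single (ends e).2 1 - Pi.single (ends e).1 1 := hγ'
    rw [this, sub_self]
  have h3 := (isForest_iff ends).1 hF _ h2
  have h4 := congrFun h3 e
  rw [Pi.sub_apply, extE_apply_not_mem _ _ _ _ (by simp), Pi.single_eq_same] at h4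
  simp at h4

open Groth.Agent.Lib.LabGraphTree in
theorem sum_side_mulVec {V E : Type u} [Fintype V] [Fintype E] [DecidableEq V] [DecidableEq E]
    (ends : E → V × V) (hF : DualGr.IsForest ends) (e : E) (γ : E → ℝ) :
    ∑ v ∈ PhiStab.side ends e, (Matrix.mulVec (incR ℝ ends) γ) v = - γ e := by
  simp only [incR_mulVec_apply]
  rw [Finset.sum_comm]
  rw [Finset.sum_eq_single e]
  · rw [Finset.sum_sub_distrib, Finset.sum_ite_eq, Finset.sum_ite_eq, if_neg (snd_notMem_side ends hF e),
      if_pos (side_fst ends e)]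
    ring
  · intro e' _ hne
    rw [Finset.sum_sub_distrib, Finset.sum_ite_eq, Finset.sum_ite_eq]
    by_cases h : (ends e').1 ∈ PhiStab.side ends e
    · rw [if_pos h, if_pos ((side_closed ends e e' hne).1 h), sub_self]
    · rw [if_neg h, if_neg (fun h' => h ((side_closed ends e e' hne).2 h')), sub_self]
  · intro h; exact absurd (Finset.mem_univ e) h

open PhiStab in
/-- Let (V, E, ends) be a finite tree, that is a connected multigraph without circuits. For every family
of real numbers c_e indexed by the edges and every real c₀ there is exactly one real weighting φ of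
the vertices such that, for each edge e, the sum of φ over the side of e containing its first
endpoint (the vertices joined to that endpoint by a chain of edges other than e) equals c_e, and the
sum of φ over all vertices equals c₀. The lemma itself — a system of stability parameters on all
treelike marked graphs compatible with contractions is determined by its components on the
two-vertex graphs — reduces to this square linear system being nondegenerate. -/
theorem result {V E : Type u} [Fintype V] [Fintype E] [DecidableEq V] [DecidableEq E]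
    (ends : E → V × V) (hT : DualGr.IsTree ends)
    (c : E → ℝ) (c₀ : ℝ) :
    ∃! φ : V → ℝ, (∀ e : E, (∑ v ∈ side ends e, φ v) = c e) ∧ (∑ v : V, φ v) = c₀ := by
  obtain ⟨hG, hF⟩ := hT
  let Φ : (V → ℝ) →ₗ[ℝ] (E → ℝ) × ℝ :=
    LinearMap.prod (LinearMap.pi fun e => ∑ v ∈ side ends e, LinearMap.proj v)
      (∑ v, LinearMap.proj v)
  have hΦ : ∀ φ : V → ℝ, Φ φ = (fun e => ∑ v ∈ side ends e, φ v, ∑ v, φ v) := by
    intro φ
    refine Prod.ext (funext fun e => ?_) ?_
    · simp [Φ, LinearMap.sum_apply]
    · simp [Φ]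
  have hinj : Function.Injective Φ := by
    rw [← LinearMap.ker_eq_bot, LinearMap.ker_eq_bot']
    intro φ hφ
    rw [hΦ] at hφ
    have h1 : ∀ e, ∑ v ∈ side ends e, φ v = 0 := fun e => congrFun (congrArg Prod.fst hφ) e
    have h2 : ∑ v, φ v = 0 := congrArg Prod.snd hφ
    obtain ⟨γ, hγ⟩ := Groth.Agent.Lib.LabGraphTree.exists_mulVec_eq_of_sum_eq_zero ℝ ends hG φ h2
    have hγ0 : γ = 0 := by
      funext e
      have := sum_side_mulVec ends hF e γ
      rw [hγ, h1 e] at this
      simpa using this.symm
    rw [← hγ, hγ0]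
    simp
  have hfr : Module.finrank ℝ (V → ℝ) = Module.finrank ℝ ((E → ℝ) × ℝ) := by
    rw [Module.finrank_prod, Module.finrank_fintype_fun_eq_card, Module.finrank_fintype_fun_eq_card,
      Module.finrank_self]
    exact (Groth.Agent.Lib.LabGraphTree.card_add_one_of_isTree ends ⟨hG, hF⟩).symm
  have hsurj : Function.Surjective Φ :=
    (LinearMap.injective_iff_surjective_of_finrank_eq_finrank hfr).1 hinj
  obtain ⟨φ, hφ⟩ := hsurj (c, c₀)
  rw [hΦ] at hφ
  have hφ1 : ∀ e, ∑ v ∈ side ends e, φ v = c e := fun e => congrFun (congrArg Prod.fst hφ) e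
  have hφ2 : ∑ v, φ v = c₀ := congrArg Prod.snd hφ
  refine ⟨φ, ⟨hφ1, hφ2⟩, ?_⟩
  rintro ψ ⟨hψ1, hψ2⟩
  apply hinj
  rw [hΦ, hΦ]
  refine Prod.ext (funext fun e => ?_) ?_
  · show ∑ v ∈ side ends e, ψ v = ∑ v ∈ side ends e, φ v
    rw [hψ1 e, hφ1 e]
  · show ∑ v, ψ v = ∑ v, φ v
    rw [hψ2, hφ2]

end Groth.Agent.S18382
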