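import Groth.Statements.S18375
import Groth.Agent.S18382
import Groth.Agent.Lib.LabGraphTree2
import Mathlib
-- import your own Groth.Agent.* helpers here

set_option autoImplicit false
universe u
open PhiStab

namespace Groth.Agent.S18375

open Groth.Agent.Lib.LabGraphTree in
theorem sum_side_mulVecR {V E : Type u} [Fintype V] [Fintype E] [DecidableEq V] [DecidableEq E]
    (R : Type) [CommRing R]
    (ends : E → V × V) (hF : DualGr.IsForest ends) (e : E) (γ : E → R) :
    ∑ v ∈ PhiStab.side ends e, (Matrix.mulVec (incR R ends) γ) v = - γ e := by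
  simp only [incR_mulVec_apply]
  rw [Finset.sum_comm]
  rw [Finset.sum_eq_single e]
  · rw [Finset.sum_sub_distrib, Finset.sum_ite_eq, Finset.sum_ite_eq,
      if_neg (Groth.Agent.S18382.snd_notMem_side ends hF e),
      if_pos (Groth.Agent.S18382.side_fst ends e)]
    ring
  · intro e' _ hne
    rw [Finset.sum_sub_distrib, Finset.sum_ite_eq, Finset.sum_ite_eq]
    by_cases h : (ends e').1 ∈ PhiStab.side ends e
    · rw [if_pos h, if_pos ((Groth.Agent.S18382.side_closed ends e e' hne).1 h), sub_self]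
    · rw [if_neg h, if_neg (fun h' => h ((Groth.Agent.S18382.side_closed ends e e' hne).2 h')),
        sub_self]
  · intro h; exact absurd (Finset.mem_univ e) h

open Groth.Agent.Lib.LabGraphTree in
theorem exists_int_sideSum {V E : Type u} [Fintype V] [Fintype E] [DecidableEq V] [DecidableEq E]
    (ends : E → V × V) (hT : DualGr.IsTree ends) (c : E → ℤ) (c₀ : ℤ) :
    ∃ m : V → ℤ, (∀ e : E, (∑ v ∈ PhiStab.side ends e, m v) = c e) ∧ (∑ v : V, m v) = c₀ := by
  obtain ⟨hG, hF⟩ := hT
  obtain ⟨v₀⟩ := hG.1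
  let γ : E → ℤ := fun e => -(c e - if v₀ ∈ PhiStab.side ends e then c₀ else 0)
  refine ⟨fun v => (if v = v₀ then c₀ else 0) + (Matrix.mulVec (incR ℤ ends) γ) v, ?_, ?_⟩
  · intro e
    rw [Finset.sum_add_distrib, sum_side_mulVecR ℤ ends hF e γ, Finset.sum_ite_eq']
    simp only [γ]
    ring
  · rw [Finset.sum_add_distrib, sum_incR_mulVec, Finset.sum_ite_eq']
    simp

noncomputable def indS {V : Type u} [DecidableEq V] (S : Finset V) (v : V) : ℝ :=
  if v ∈ S then 1 else 0

noncomputable def muOf {V E : Type u} [Fintype V] [Fintype E] [DecidableEq V] [DecidableEq E]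
    (ends : E → V × V) (φ : V → ℝ) (m : V → ℤ) (v : V) : ℝ :=
  (m v : ℝ) - φ v + (1 / 2) * ∑ e, ((if (ends e).1 = v then (1 : ℝ) else 0) +
    (if (ends e).2 = v then 1 else 0))

noncomputable def fOf {V E : Type u} [Fintype V] [Fintype E] [DecidableEq V] [DecidableEq E]
    (ends : E → V × V) (φ : V → ℝ) (m : V → ℤ) (N : Finset E) (S : Finset V) : ℝ :=
  (PhiStab.degOn ends m N S : ℝ) - ∑ v ∈ S, φ v + (LabGraph.cut ends S : ℝ) / 2

theorem card_inter_inner {V E : Type u} [Fintype V] [Fintype E] [DecidableEq V] [DecidableEq E]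
    (ends : E → V × V) (N : Finset E) (S : Finset V) :
    ((N ∩ PhiStab.inner ends S).card : ℝ) = ∑ e ∈ N, indS S (ends e).1 * indS S (ends e).2 := by
  rw [← Finset.filter_mem_eq_inter, Finset.card_filter, Nat.cast_sum]
  apply Finset.sum_congr rfl
  intro e _
  have : e ∈ PhiStab.inner ends S ↔ (ends e).1 ∈ S ∧ (ends e).2 ∈ S := by
    simp [PhiStab.inner]
  unfold indS
  by_cases h1 : (ends e).1 ∈ S <;> by_cases h2 : (ends e).2 ∈ S <;> simp [this, h1, h2]

theorem cut_eq_sum {V E : Type u} [Fintype V] [Fintype E] [DecidableEq V] [DecidableEq E]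
    (ends : E → V × V) (S : Finset V) :
    (LabGraph.cut ends S : ℝ) = ∑ e, (indS S (ends e).1 + indS S (ends e).2 -
      2 * (indS S (ends e).1 * indS S (ends e).2)) := by
  unfold LabGraph.cut
  rw [Finset.card_filter, Nat.cast_sum]
  apply Finset.sum_congr rfl
  intro e _
  unfold indS
  by_cases h1 : (ends e).1 ∈ S <;> by_cases h2 : (ends e).2 ∈ S <;> simp [h1, h2] <;> norm_num

theorem handshake {V E : Type u} [Fintype V] [Fintype E] [DecidableEq V] [DecidableEq E]
    (ends : E → V × V) (φ : V → ℝ) (m : V → ℤ) (T : Finset E) (S : Finset V) :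
    fOf ends φ m Tᶜ S = ∑ v ∈ S, muOf ends φ m v -
      ∑ e ∈ T, indS S (ends e).1 * indS S (ends e).2 := by
  have hdeg : ∑ v ∈ S, (1 / 2 : ℝ) * ∑ e, ((if (ends e).1 = v then (1 : ℝ) else 0) +
      (if (ends e).2 = v then 1 else 0)) =
      (1 / 2) * ∑ e, (indS S (ends e).1 + indS S (ends e).2) := by
    rw [← Finset.mul_sum, Finset.sum_comm]
    congr 1
    apply Finset.sum_congr rfl
    intro e _
    rw [Finset.sum_add_distrib, Finset.sum_ite_eq, Finset.sum_ite_eq]
    rfl
  have hsplit := Finset.sum_compl_add_sum T (fun e => indS S (ends e).1 * indS S (ends e).2)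
  unfold fOf PhiStab.degOn muOf
  push_cast
  rw [card_inter_inner, cut_eq_sum, Finset.sum_add_distrib, Finset.sum_sub_distrib, hdeg,
    Finset.sum_sub_distrib, Finset.sum_add_distrib, ← Finset.mul_sum]
  linarith

theorem indS_mul_self {V : Type u} [DecidableEq V] (S : Finset V) (v : V) :
    indS S v * indS S v = indS S v := by
  unfold indS
  by_cases h : v ∈ S <;> simp [h]

theorem fOf_univ {V E : Type u} [Fintype V] [Fintype E] [DecidableEq V] [DecidableEq E]
    (ends : E → V × V) (φ : V → ℝ) (m : V → ℤ) (N : Finset E) :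
    fOf ends φ m N Finset.univ = (PhiStab.totDeg m N : ℝ) - ∑ v, φ v := by
  have h1 : PhiStab.inner ends (Finset.univ : Finset V) = Finset.univ := by
    simp [PhiStab.inner]
  have h2 : LabGraph.cut ends (Finset.univ : Finset V) = 0 := by
    simp [LabGraph.cut]
  unfold fOf PhiStab.degOn PhiStab.totDeg
  rw [h1, h2, Finset.inter_univ]
  simp

theorem sum_muOf_univ {V E : Type u} [Fintype V] [Fintype E] [DecidableEq V] [DecidableEq E]
    (ends : E → V × V) (φ : V → ℝ) (m : V → ℤ) (T : Finset E)
    (hdeg : (∑ v, φ v) = (PhiStab.totDeg m Tᶜ : ℝ)) :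
    ∑ v, muOf ends φ m v = (T.card : ℝ) := by
  have h := handshake ends φ m T Finset.univ
  rw [fOf_univ, hdeg, sub_self] at h
  have h2 : ∑ e ∈ T, indS (Finset.univ : Finset V) (ends e).1 * indS Finset.univ (ends e).2 =
      (T.card : ℝ) := by
    simp [indS]
  rw [h2] at h
  linarith

/-- the core formula -/
theorem core_formula {V E : Type u} [Fintype V] [Fintype E] [DecidableEq V] [DecidableEq E]
    (ends : E → V × V) (T : Finset E) (hT : DualGr.IsTree (PhiStab.spanEnds ends T))
    (φ : V → ℝ) (m : V → ℤ) (hdeg : (∑ v, φ v) = (PhiStab.totDeg m Tᶜ : ℝ)) (S : Finset V) :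
    fOf ends φ m Tᶜ S = ∑ e : ↥T,
      (indS S (ends e.1).1 * fOf ends φ m Tᶜ (PhiStab.side (PhiStab.spanEnds ends T) e) +
        indS S (ends e.1).2 * (1 - fOf ends φ m Tᶜ (PhiStab.side (PhiStab.spanEnds ends T) e)) -
        indS S (ends e.1).1 * indS S (ends e.1).2) := by
  classical
  set g : ↥T → ℝ := fun e => fOf ends φ m Tᶜ (PhiStab.side (PhiStab.spanEnds ends T) e) with hg
  let μ' : V → ℝ := fun v => ∑ e : ↥T, ((if (ends e.1).1 = v then g e else 0) +
    (if (ends e.1).2 = v then 1 - g e else 0))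
  have hsumS : ∀ S' : Finset V, ∑ v ∈ S', μ' v = ∑ e : ↥T,
      (indS S' (ends e.1).1 * g e + indS S' (ends e.1).2 * (1 - g e)) := by
    intro S'
    simp only [μ']
    rw [Finset.sum_comm]
    apply Finset.sum_congr rfl
    intro e _
    rw [Finset.sum_add_distrib, Finset.sum_ite_eq, Finset.sum_ite_eq]
    unfold indS
    by_cases h1 : (ends e.1).1 ∈ S' <;> by_cases h2 : (ends e.1).2 ∈ S' <;> simp [h1, h2]
  have hTsum : ∀ S' : Finset V, ∑ e ∈ T, indS S' (ends e).1 * indS S' (ends e).2 =
      ∑ e : ↥T, indS S' (ends e.1).1 * indS S' (ends e.1).2 := by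
    intro S'
    rw [← Finset.sum_coe_sort T]
  have hμ : muOf ends φ m = μ' := by
    have hu := Groth.Agent.S18382.result (PhiStab.spanEnds ends T) hT
      (fun e => ∑ v ∈ PhiStab.side (PhiStab.spanEnds ends T) e, muOf ends φ m v)
      (∑ v, muOf ends φ m v)
    refine hu.unique ⟨fun e => rfl, rfl⟩ ⟨fun e => ?_, ?_⟩
    · have hs := handshake ends φ m T (PhiStab.side (PhiStab.spanEnds ends T) e)
      rw [hTsum] at hs
      rw [hsumS]
      have hkey : ∑ e' : ↥T,
          (indS (PhiStab.side (PhiStab.spanEnds ends T) e) (ends e'.1).1 * g e' +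
            indS (PhiStab.side (PhiStab.spanEnds ends T) e) (ends e'.1).2 * (1 - g e')) -
          ∑ e' : ↥T, indS (PhiStab.side (PhiStab.spanEnds ends T) e) (ends e'.1).1 *
            indS (PhiStab.side (PhiStab.spanEnds ends T) e) (ends e'.1).2 = g e := by
        rw [← Finset.sum_sub_distrib]
        rw [Finset.sum_eq_single e]
        · have h1 := Groth.Agent.S18382.side_fst (PhiStab.spanEnds ends T) e
          have h2 := Groth.Agent.S18382.snd_notMem_side (PhiStab.spanEnds ends T) hT.2 e
          have h1' : (ends e.1).1 ∈ PhiStab.side (PhiStab.spanEnds ends T) e := h1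
          have h2' : (ends e.1).2 ∉ PhiStab.side (PhiStab.spanEnds ends T) e := h2
          simp [indS, h1', h2']
        · intro e' _ hne
          have hc := Groth.Agent.S18382.side_closed (PhiStab.spanEnds ends T) e e' hne
          have hc' : (ends e'.1).1 ∈ PhiStab.side (PhiStab.spanEnds ends T) e ↔
              (ends e'.1).2 ∈ PhiStab.side (PhiStab.spanEnds ends T) e := hc
          unfold indS
          by_cases h1 : (ends e'.1).1 ∈ PhiStab.side (PhiStab.spanEnds ends T) e
          · rw [if_pos h1, if_pos (hc'.1 h1)]; ring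
          · rw [if_neg h1, if_neg (fun h => h1 (hc'.2 h))]; ring
        · intro h; exact absurd (Finset.mem_univ e) h
      have hge : g e = fOf ends φ m Tᶜ (PhiStab.side (PhiStab.spanEnds ends T) e) := rfl
      linarith
    · have h1 := hsumS Finset.univ
      rw [sum_muOf_univ ends φ m T hdeg]
      rw [h1]
      simp [indS]
  have hs := handshake ends φ m T S
  rw [hTsum, hμ, hsumS, ← Finset.sum_sub_distrib] at hs
  exact hs

theorem stable_iff_fOf {V E : Type u} [Fintype V] [Fintype E] [DecidableEq V] [DecidableEq E]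
    (ends : E → V × V) (φ : V → ℝ) (m : V → ℤ) (N : Finset E) :
    PhiStab.IsStable ends φ m N ↔
      ∀ S : Finset V, S.Nonempty → S ≠ Finset.univ → 0 < fOf ends φ m N S := by
  unfold PhiStab.IsStable fOf
  constructor
  · intro h S h1 h2
    have := h S h1 h2
    linarith
  · intro h S h1 h2
    have := h S h1 h2
    linarith

theorem semistable_iff_fOf {V E : Type u} [Fintype V] [Fintype E] [DecidableEq V] [DecidableEq E]
    (ends : E → V × V) (φ : V → ℝ) (m : V → ℤ) (N : Finset E) :
    PhiStab.IsSemistable ends φ m N ↔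
      ∀ S : Finset V, S.Nonempty → S ≠ Finset.univ → 0 ≤ fOf ends φ m N S := by
  unfold PhiStab.IsSemistable fOf
  constructor
  · intro h S h1 h2
    have := h S h1 h2
    linarith
  · intro h S h1 h2
    have := h S h1 h2
    linarith

/-- value on the complement of a side -/
theorem fOf_compl_side {V E : Type u} [Fintype V] [Fintype E] [DecidableEq V] [DecidableEq E]
    (ends : E → V × V) (T : Finset E) (hT : DualGr.IsTree (PhiStab.spanEnds ends T))
    (φ : V → ℝ) (m : V → ℤ) (hdeg : (∑ v, φ v) = (PhiStab.totDeg m Tᶜ : ℝ)) (e : ↥T) :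
    fOf ends φ m Tᶜ (PhiStab.side (PhiStab.spanEnds ends T) e)ᶜ =
      1 - fOf ends φ m Tᶜ (PhiStab.side (PhiStab.spanEnds ends T) e) := by
  rw [core_formula ends T hT φ m hdeg (PhiStab.side (PhiStab.spanEnds ends T) e)ᶜ]
  rw [Finset.sum_eq_single e]
  · have h1 : (ends e.1).1 ∈ PhiStab.side (PhiStab.spanEnds ends T) e :=
      Groth.Agent.S18382.side_fst (PhiStab.spanEnds ends T) e
    have h2 : (ends e.1).2 ∉ PhiStab.side (PhiStab.spanEnds ends T) e :=
      Groth.Agent.S18382.snd_notMem_side (PhiStab.spanEnds ends T) hT.2 e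
    simp [indS, h1, h2]
  · intro e' _ hne
    have hc' : (ends e'.1).1 ∈ PhiStab.side (PhiStab.spanEnds ends T) e ↔
        (ends e'.1).2 ∈ PhiStab.side (PhiStab.spanEnds ends T) e :=
      Groth.Agent.S18382.side_closed (PhiStab.spanEnds ends T) e e' hne
    unfold indS
    by_cases h1 : (ends e'.1).1 ∈ PhiStab.side (PhiStab.spanEnds ends T) e
    · have h2 := hc'.1 h1
      simp [h1, h2]
    · have h2 : (ends e'.1).2 ∉ PhiStab.side (PhiStab.spanEnds ends T) e := fun h => h1 (hc'.2 h)
      simp [h1, h2]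
  · intro h; exact absurd (Finset.mem_univ e) h

theorem side_nonempty_ne_univ {V E : Type u} [Fintype V] [Fintype E] [DecidableEq V]
    [DecidableEq E] (ends : E → V × V) (hF : DualGr.IsForest ends) (e : E) :
    (PhiStab.side ends e).Nonempty ∧ PhiStab.side ends e ≠ Finset.univ ∧
      (PhiStab.side ends e)ᶜ.Nonempty ∧ (PhiStab.side ends e)ᶜ ≠ Finset.univ := by
  have h1 := Groth.Agent.S18382.side_fst ends e
  have h2 := Groth.Agent.S18382.snd_notMem_side ends hF e
  refine ⟨⟨_, h1⟩, ?_, ⟨(ends e).2, Finset.mem_compl.mpr h2⟩, ?_⟩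
  · intro h
    rw [h] at h2
    exact h2 (Finset.mem_univ _)
  · intro h
    have : (ends e).1 ∈ (PhiStab.side ends e)ᶜ := by rw [h]; exact Finset.mem_univ _
    exact Finset.mem_compl.mp this h1

theorem stable_side_bounds {V E : Type u} [Fintype V] [Fintype E] [DecidableEq V] [DecidableEq E]
    (ends : E → V × V) (T : Finset E) (hT : DualGr.IsTree (PhiStab.spanEnds ends T))
    (φ : V → ℝ) (m : V → ℤ) (hdeg : (∑ v, φ v) = (PhiStab.totDeg m Tᶜ : ℝ))
    (hst : PhiStab.IsStable ends φ m Tᶜ) (e : ↥T) :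
    0 < fOf ends φ m Tᶜ (PhiStab.side (PhiStab.spanEnds ends T) e) ∧
      fOf ends φ m Tᶜ (PhiStab.side (PhiStab.spanEnds ends T) e) < 1 := by
  rw [stable_iff_fOf] at hst
  obtain ⟨h1, h2, h3, h4⟩ := side_nonempty_ne_univ (PhiStab.spanEnds ends T) hT.2 e
  have ha := hst _ h1 h2
  have hb := hst _ h3 h4
  rw [fOf_compl_side ends T hT φ m hdeg e] at hb
  exact ⟨ha, by linarith⟩

open PhiStab in
/-- Let (V, E, ends) be a finite multigraph and T a set of edges forming a spanning tree (the spanning
subgraph with edge set T is connected and contains no circuit), b an integer and φ a nondegenerate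
real weighting of the vertices with Σ_v φ v = b. Then there is a unique integer multidegree m for
which the sheaf datum (m, Tᶜ), not locally free exactly at the edges outside T, has total degree b
and is φ-stable. This is the statement that a stable pointed curve with this dual graph carries a
φ-stable rank-1 torsion-free sheaf of degree g - 1 = b failing to be locally free exactly at the
nodes outside T, of uniquely determined multidegree, written for the combinatorial datum. -/
theorem result {V E : Type u} [Fintype V] [Fintype E] [DecidableEq V] [DecidableEq E]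
    (ends : E → V × V) (T : Finset E)
    (hT : DualGr.IsTree (spanEnds ends T)) (b : ℤ) (φ : V → ℝ) (hφ : (∑ v : V, φ v) = (b : ℝ))
    (hnd : Nondegenerate ends φ) :
    ∃! m : V → ℤ, totDeg m Tᶜ = b ∧ IsStable ends φ m Tᶜ := by
  classical
  -- existence
  let x : ↥T → ℝ := fun e => (∑ v ∈ side (spanEnds ends T) e, φ v) -
    (LabGraph.cut ends (side (spanEnds ends T) e) : ℝ) / 2
  let d : ↥T → ℤ := fun e => ⌈x e⌉
  obtain ⟨m, hm1, hm2⟩ := exists_int_sideSum (spanEnds ends T) hT
    (fun e => d e - ((Tᶜ ∩ inner ends (side (spanEnds ends T) e)).card : ℤ))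
    (b - (Tᶜ.card : ℤ))
  have htot : totDeg m Tᶜ = b := by
    unfold totDeg
    rw [hm2]
    ring
  have hdeg : (∑ v, φ v) = (totDeg m Tᶜ : ℝ) := by rw [hφ, htot]
  have hg : ∀ e : ↥T, fOf ends φ m Tᶜ (side (spanEnds ends T) e) = (d e : ℝ) - x e := by
    intro e
    unfold fOf degOn
    rw [hm1 e]
    simp only [x]
    push_cast
    ring
  have hg0 : ∀ e : ↥T, 0 ≤ fOf ends φ m Tᶜ (side (spanEnds ends T) e) := by
    intro e
    rw [hg e]
    have := Int.le_ceil (x e)
    simp only [d]
    linarith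
  have hg1 : ∀ e : ↥T, fOf ends φ m Tᶜ (side (spanEnds ends T) e) ≤ 1 := by
    intro e
    rw [hg e]
    have := Int.ceil_lt_add_one (x e)
    simp only [d]
    linarith
  have hss : IsSemistable ends φ m Tᶜ := by
    rw [semistable_iff_fOf]
    intro S _ _
    rw [core_formula ends T hT φ m hdeg S]
    apply Finset.sum_nonneg
    intro e _
    have h0 := hg0 e
    have h1 := hg1 e
    unfold indS
    by_cases hp : (ends e.1).1 ∈ S <;> by_cases hq : (ends e.1).2 ∈ S <;> simp [hp, hq] <;>
      linarith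
  have hst : IsStable ends φ m Tᶜ := hnd m Tᶜ hdeg hss
  refine ⟨m, ⟨htot, hst⟩, ?_⟩
  -- uniqueness
  rintro m' ⟨htot', hst'⟩
  have hdeg' : (∑ v, φ v) = (totDeg m' Tᶜ : ℝ) := by rw [hφ, htot']
  have hside : ∀ e : ↥T, ∑ v ∈ side (spanEnds ends T) e, m' v =
      ∑ v ∈ side (spanEnds ends T) e, m v := by
    intro e
    obtain ⟨ha, hb⟩ := stable_side_bounds ends T hT φ m hdeg hst e
    obtain ⟨ha', hb'⟩ := stable_side_bounds ends T hT φ m' hdeg' hst' e
    unfold fOf at ha hb ha' hb'
    have h1 : ((degOn ends m' Tᶜ (side (spanEnds ends T) e) : ℤ) : ℝ) -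
        (degOn ends m Tᶜ (side (spanEnds ends T) e) : ℝ) < 1 := by linarith
    have h2 : ((degOn ends m Tᶜ (side (spanEnds ends T) e) : ℤ) : ℝ) -
        (degOn ends m' Tᶜ (side (spanEnds ends T) e) : ℝ) < 1 := by linarith
    have h1' : degOn ends m' Tᶜ (side (spanEnds ends T) e) -
        degOn ends m Tᶜ (side (spanEnds ends T) e) < 1 := by exact_mod_cast h1
    have h2' : degOn ends m Tᶜ (side (spanEnds ends T) e) -
        degOn ends m' Tᶜ (side (spanEnds ends T) e) < 1 := by exact_mod_cast h2
    unfold degOn at h1' h2'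
    omega
  have hsum : ∑ v, m' v = ∑ v, m v := by
    unfold totDeg at htot htot'
    omega
  have hu := Groth.Agent.S18382.result (spanEnds ends T) hT
    (fun e => ∑ v ∈ side (spanEnds ends T) e, (m v : ℝ)) (∑ v, (m v : ℝ))
  have heq : (fun v => (m' v : ℝ)) = fun v => (m v : ℝ) := by
    refine hu.unique ⟨fun e => ?_, ?_⟩ ⟨fun e => rfl, rfl⟩
    · have := hside e
      have h : ((∑ v ∈ side (spanEnds ends T) e, m' v : ℤ) : ℝ) =
          ((∑ v ∈ side (spanEnds ends T) e, m v : ℤ) : ℝ) := by rw [this]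
      push_cast at h
      exact h
    · have h : ((∑ v, m' v : ℤ) : ℝ) = ((∑ v, m v : ℤ) : ℝ) := by rw [hsum]
      push_cast at h
      exact h
  funext v
  have := congrFun heq v
  exact_mod_cast this

end Groth.Agent.S18375
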