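import Groth.Statements.S18376
import Mathlib
import Groth.Agent.S18374
import Groth.Agent.Lib.LabGraphTree2
import Groth.Agent.Lib.H87LabGraph
import Groth.Agent.S18375

set_option autoImplicit false
universe u
open PhiStab

namespace Groth.Agent.S18376
set_option backward.isDefEq.respectTransparency.types false
set_option linter.style.haveILetI false
set_option linter.unusedSectionVars false

open Finset Groth.Agent.S18374

variable {V E : Type u} [Fintype V] [Fintype E] [DecidableEq V] [DecidableEq E]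
variable (ends : E → V × V)

/-- existence half of S18375 in hypothesis form -/
def H75 : Prop :=
  ∀ (T : Finset E), DualGr.IsTree (spanEnds ends T) → ∀ (b : ℤ) (φ : V → ℝ),
    (∑ v : V, φ v) = (b : ℝ) → Nondegenerate ends φ →
    ∃ m : V → ℤ, totDeg m Tᶜ = b ∧ IsStable ends φ m Tᶜ

/-- the edge set: inner edges of `S` and of its complement plus one edge -/
def T0 (S : Finset V) (e0 : E) : Finset E :=
  PhiStab.inner ends S ∪ PhiStab.inner ends Sᶜ ∪ {e0}

lemma connected_T0 (S : Finset V) (hS : ConnS ends S) (hS' : ConnS ends Sᶜ) (e0 : E)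
    (he0 : ((ends e0).1 ∈ S ∧ (ends e0).2 ∉ S) ∨ ((ends e0).1 ∉ S ∧ (ends e0).2 ∈ S)) :
    LabGraph.Connected (fun e : ↥(T0 ends S e0) => ends e.1) := by
  obtain ⟨s0, hs0⟩ := hS.1
  refine ⟨⟨s0⟩, ?_⟩
  have h1 : RS ends S ≤ LabGraph.Adj (fun e : ↥(T0 ends S e0) => ends e.1) := by
    rintro a b ⟨ha, hb, e, he⟩
    have hin : e ∈ T0 ends S e0 := by
      unfold T0
      apply mem_union_left
      apply mem_union_left
      unfold PhiStab.inner
      rw [mem_filter]
      rcases he with he | he <;> simp [he, ha, hb]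
    exact ⟨⟨e, hin⟩, he⟩
  have h2 : RS ends Sᶜ ≤ LabGraph.Adj (fun e : ↥(T0 ends S e0) => ends e.1) := by
    rintro a b ⟨ha, hb, e, he⟩
    have hin : e ∈ T0 ends S e0 := by
      unfold T0
      apply mem_union_left
      apply mem_union_right
      unfold PhiStab.inner
      rw [mem_filter]
      rcases he with he | he <;> simp only [he, mem_univ, true_and] <;> exact ⟨by assumption, by assumption⟩
    exact ⟨⟨e, hin⟩, he⟩
  have he0in : e0 ∈ T0 ends S e0 := by
    unfold T0
    exact mem_union_right _ (mem_singleton_self e0)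
  -- the two endpoints of e0
  obtain ⟨u0, w0, hu0, hw0, hadj⟩ : ∃ u0 w0 : V, u0 ∈ S ∧ w0 ∈ Sᶜ ∧
      LabGraph.Adj (fun e : ↥(T0 ends S e0) => ends e.1) w0 u0 := by
    rcases he0 with ⟨h, h'⟩ | ⟨h, h'⟩
    · exact ⟨(ends e0).1, (ends e0).2, h, mem_compl.mpr h', ⟨⟨e0, he0in⟩, Or.inr rfl⟩⟩
    · exact ⟨(ends e0).2, (ends e0).1, h', mem_compl.mpr h, ⟨⟨e0, he0in⟩, Or.inl rfl⟩⟩
  have key : ∀ v : V, Relation.ReflTransGen
      (LabGraph.Adj (fun e : ↥(T0 ends S e0) => ends e.1)) v u0 := by
    intro v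
    by_cases hv : v ∈ S
    · exact Relation.ReflTransGen.mono h1 _ _ (hS.2 v hv u0 hu0)
    · have := Relation.ReflTransGen.mono h2 _ _ (hS'.2 v (mem_compl.mpr hv) w0 hw0)
      exact this.tail hadj
  intro v w
  exact (key v).trans (Groth.Agent.Lib.LabGraphTree.reach_symm _ _ _ (key w))

lemma exists_stable_lt_one (hconn : LabGraph.Connected ends) (h75 : H75 ends) (b : ℤ) (φ : V → ℝ)
    (hφ : (∑ v : V, φ v) = (b : ℝ)) (hnd : Nondegenerate ends φ) (S : Finset V)
    (hS : ConnS ends S) (hS' : ConnS ends Sᶜ) :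
    ∃ (m : V → ℤ) (N : Finset E), totDeg m N = b ∧ IsStable ends φ m N ∧
      gg ends φ m N S < 1 := by
  have hSne : S ≠ univ := by
    intro h
    have := hS'.1
    rw [h, compl_univ] at this
    exact not_nonempty_empty this
  obtain ⟨e0, he0⟩ := Groth.Agent.Lib.H87LabGraph.exists_crossing ends hconn S hS.1 hSne
  have hc := connected_T0 ends S hS hS' e0 he0
  have hsp := ((Groth.Agent.Lib.LabGraphTree.connected_sub_iff ends (T0 ends S e0)).mp hc)
  obtain ⟨T, hTsub, hT⟩ :=
    Groth.Agent.Lib.LabGraphTree.exists_isSpanningTree_subset ends hsp.1 (T0 ends S e0) hsp.2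
  obtain ⟨m, hm, hst⟩ := h75 T hT b φ hφ hnd
  refine ⟨m, Tᶜ, hm, hst, ?_⟩
  have hdeg : (∑ v : V, φ v) = (totDeg m Tᶜ : ℝ) := by rw [hφ, hm]
  have h0 := gg_univ ends φ m Tᶜ hdeg
  have hdisj : Disjoint S Sᶜ := disjoint_compl_right
  rw [← union_compl S, gg_union ends φ m Tᶜ S Sᶜ hdisj] at h0
  have hpos : 0 < gg ends φ m Tᶜ Sᶜ := by
    have := hst Sᶜ hS'.1 (by
      intro h
      have h' := hS.1
      rw [← compl_compl S, h, compl_univ] at h'
      exact not_nonempty_empty h')
    unfold gg
    linarith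
  -- xx ≤ 1
  have hxx : xx ends Tᶜ S Sᶜ ≤ 1 := by
    unfold xx
    have hsub : EAB ends S Sᶜ \ Tᶜ ⊆ {e0} := by
      intro e he
      rw [mem_sdiff, mem_compl, not_not] at he
      have heT0 := hTsub he.2
      have hE := he.1
      unfold EAB at hE
      rw [mem_filter] at hE
      unfold T0 at heT0
      rw [mem_union, mem_union] at heT0
      rcases heT0 with (h | h) | h
      · unfold PhiStab.inner at h
        rw [mem_filter] at h
        rcases hE.2 with ⟨_, h2⟩ | ⟨h1, _⟩
        · exact ((mem_compl.mp h2) h.2.2).elim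
        · exact ((mem_compl.mp h1) h.2.1).elim
      · unfold PhiStab.inner at h
        rw [mem_filter] at h
        rcases hE.2 with ⟨h1, _⟩ | ⟨_, h2⟩
        · exact ((mem_compl.mp h.2.1) h1).elim
        · exact ((mem_compl.mp h.2.2) h2).elim
      · exact h
    have hcard : (EAB ends S Sᶜ \ Tᶜ).card ≤ 1 := by
      have := card_le_card hsub
      rwa [card_singleton] at this
    have hsplit : (Tᶜ ∩ EAB ends S Sᶜ).card + (EAB ends S Sᶜ \ Tᶜ).card =
        (EAB ends S Sᶜ).card := by
      rw [inter_comm]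
      exact card_inter_add_card_sdiff _ _
    have h1 : ((EAB ends S Sᶜ).card : ℝ) =
        ((Tᶜ ∩ EAB ends S Sᶜ).card : ℝ) + ((EAB ends S Sᶜ \ Tᶜ).card : ℝ) := by
      exact_mod_cast hsplit.symm
    have h2 : ((EAB ends S Sᶜ \ Tᶜ).card : ℝ) ≤ 1 := by exact_mod_cast hcard
    linarith
  linarith

theorem core {V E : Type u} [Fintype V] [Fintype E] [DecidableEq V] [DecidableEq E]
    (ends : E → V × V) (h75 : H75 ends)
    (hconn : LabGraph.Connected ends) (b : ℤ) (φ₁ φ₂ : V → ℝ) (h₁ : (∑ v : V, φ₁ v) = (b : ℝ))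
    (h₂ : (∑ v : V, φ₂ v) = (b : ℝ)) (hnd : Nondegenerate ends φ₁) :
    (∀ (m : V → ℤ) (N : Finset E), totDeg m N = b → IsStable ends φ₁ m N → IsSemistable ends φ₂ m N) ↔
      InClosedPolytope ends φ₁ φ₂ := by
  constructor
  · -- (=>)
    intro H S hS d hd
    have hS2 := (elementary_iff ends S).mp hS
    obtain ⟨m, N, hm, hst, hlt⟩ :=
      exists_stable_lt_one ends hconn h75 b φ₁ h₁ hnd S hS2.1 hS2.2
    have hss := H m N hm hst
    have hSne : S ≠ univ := by
      intro h
      have := hS2.2.1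
      rw [h, compl_univ] at this
      exact not_nonempty_empty this
    have h2 := hss S hS2.1.1 hSne
    unfold gg at hlt
    unfold ell at hd ⊢
    -- degOn S ≤ d
    have hDd : degOn ends m N S ≤ d := by
      have : ((degOn ends m N S : ℤ) : ℝ) < (d : ℝ) + 1 := by linarith
      have : degOn ends m N S < d + 1 := by exact_mod_cast this
      omega
    have hDd' : ((degOn ends m N S : ℤ) : ℝ) ≤ (d : ℝ) := by exact_mod_cast hDd
    linarith
  · -- (<=)
    intro H m N hm hst
    have hdeg : (∑ v : V, φ₂ v) = (totDeg m N : ℝ) := by rw [h₂, hm]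
    rw [(Groth.Agent.S18374.result ends hconn φ₂ m N hdeg).1]
    intro S hS
    have hS2 := (elementary_iff ends S).mp hS
    have hSne : S ≠ univ := by
      intro h
      have := hS2.2.1
      rw [h, compl_univ] at this
      exact not_nonempty_empty this
    have h1 := hst S hS2.1.1 hSne
    have := H S hS (degOn ends m N S) (by unfold ell; linarith)
    unfold ell at this
    linarith

lemma h75 : H75 ends := by
  intro T hT b φ hφ hnd
  obtain ⟨m, hm, -⟩ := Groth.Agent.S18375.result ends T hT b φ hφ hnd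
  exact ⟨m, hm⟩


open PhiStab in
/-- Let (V, E, ends) be a connected finite multigraph, b an integer, and φ₁, φ₂ real weightings of the
vertices with Σ_v φ₁ v = Σ_v φ₂ v = b, φ₁ nondegenerate. Then every φ₁-stable sheaf datum (m, N) of
total degree b is φ₂-semistable if and only if φ₂ lies in the closed stability polytope of φ₁, that
is, for every elementary vertex set S and every integer d with d - Σ_{v ∈ S} φ₁ v + cut S / 2 > 0
one has d - Σ_{v ∈ S} φ₂ v + cut S / 2 ≥ 0. Membership in the closure of the polytope is expressed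
by this half-space condition, the form in which the source's proof uses it; the sheaves of degree g
- 1 = b on stable pointed curves with this dual graph enter through their combinatorial data. -/
theorem result {V E : Type u} [Fintype V] [Fintype E] [DecidableEq V] [DecidableEq E]
    (ends : E → V × V)
    (hconn : LabGraph.Connected ends) (b : ℤ) (φ₁ φ₂ : V → ℝ) (h₁ : (∑ v : V, φ₁ v) = (b : ℝ))
    (h₂ : (∑ v : V, φ₂ v) = (b : ℝ)) (hnd : Nondegenerate ends φ₁) :
    (∀ (m : V → ℤ) (N : Finset E), totDeg m N = b → IsStable ends φ₁ m N → IsSemistable ends φ₂ m N) ↔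
      InClosedPolytope ends φ₁ φ₂ := by
  exact core ends (h75 ends) hconn b φ₁ φ₂ h₁ h₂ hnd

end Groth.Agent.S18376
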