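import Groth.Statements.S18377
import Groth.Agent.Lib.Verlinde23k

set_option autoImplicit false
open Complex
open VerlindeComb

namespace Groth.Agent.S18377

/-- Let r, k ≥ 1 be integers and v_1 > v_2 > ⋯ > v_r ≥ 0 integers below r + k; put z_j = exp(2πi v_j /
(r + k)) and, for μ = (μ_1, …, μ_r), let S_μ(z) = det(z_j^{μ_i + r - i}) / det(z_j^{r - i}) be the
value of the Schur polynomial (the z_j are distinct, so the Vandermonde denominator is nonzero).
Then, summing over all μ with k > μ_1 ≥ ⋯ ≥ μ_r ≥ 0 and writing μ* = (k - μ_r, …, k - μ_1), one has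
Σ_μ S_μ(z) S_{μ*}(z) = exp(2πi k (v_1 + ⋯ + v_r) / (r + k)) · k (r + k)^{r-1} / ∏_{i<j} (2 sin(π
(v_i - v_j) / (r + k)))². Indices are 0-based below: μ i stands for μ_{i+1}. -/
theorem result (r k : ℕ) (hr : 1 ≤ r) (hk : 1 ≤ k)
    (v : Fin r → ℕ) (hv : StrictAnti v) (hvlt : ∀ i, v i < r + k)
    (z : Fin r → ℂ) (hz : ∀ j, z j = Complex.exp (2 * Real.pi * Complex.I * (v j : ℂ) / ((r : ℂ) + k)))
    (S : (Fin r → ℕ) → ℂ)
    (hS : ∀ μ : Fin r → ℕ, S μ =
      (Matrix.of fun i j : Fin r => z j ^ (μ i + (r - 1 - (i : ℕ)))).det /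
        (Matrix.of fun i j : Fin r => z j ^ (r - 1 - (i : ℕ))).det) :
    (∑ μ ∈ (Finset.univ : Finset (Fin r → Fin k)).filter (fun μ : Fin r → Fin k => Antitone μ),
        S (fun i => (μ i : ℕ)) * S (fun i => k - (μ (Fin.rev i) : ℕ))) =
      Complex.exp (2 * Real.pi * Complex.I * (k : ℂ) * ((∑ j, v j : ℕ) : ℂ) / ((r : ℂ) + k)) *
        ((k : ℂ) * ((r : ℂ) + k) ^ (r - 1)) /
        (∏ p ∈ (Finset.univ : Finset (Fin r × Fin r)).filter (fun p => p.1 < p.2),
          (((2 : ℝ) * Real.sin (Real.pi * ((v p.1 : ℝ) - (v p.2 : ℝ)) / ((r : ℝ) + k))) ^ 2 : ℝ) : ℂ) := by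
  obtain ⟨s, rfl⟩ : ∃ s, r = s + 1 := ⟨r - 1, by omega⟩
  have : NeZero (s + 1 + k) := ⟨by omega⟩
  set N := s + 1 + k with hN
  set ζ := Groth.Agent.Lib.Verlinde23.zeta N with hζdef
  have hζp : IsPrimitiveRoot ζ N := Groth.Agent.Lib.Verlinde23.zeta_isPrimitiveRoot N (by omega)
  have hζ0 : ζ ≠ 0 := hζp.ne_zero (by omega)
  have hNM : N = k + s + 1 := by omega
  have hζp' : IsPrimitiveRoot ζ (k + s + 1) := hNM ▸ hζp
  have hzv : ∀ j, z j = ζ ^ v j := by
    intro j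
    rw [hz, hζdef, Groth.Agent.Lib.Verlinde23.zeta_pow]
    congr 1
    rw [hN]
    push_cast
    ring
  have hvN : ∀ i, v i < k + s + 1 := fun i => by have := hvlt i; omega
  set D1 := Groth.Agent.Lib.Verlinde23.E ζ (Groth.Agent.Lib.Verlinde23.delta (s + 1)) v with hD1
  set D1' := Groth.Agent.Lib.Verlinde23.E ζ⁻¹ (Groth.Agent.Lib.Verlinde23.delta (s + 1)) v with hD1'
  set Z : ℂ := ∏ j, ζ ^ v j with hZ
  have hZ0 : Z ≠ 0 := Finset.prod_ne_zero_iff.mpr fun j _ => pow_ne_zero _ hζ0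
  set Zp : ℂ := (∏ j, ζ⁻¹ ^ v j) ^ (s + k) with hZp
  have hZpZ : Zp = (Z ^ (s + k))⁻¹ := by
    rw [hZp, hZ, ← inv_pow, ← Finset.prod_inv_distrib]
    congr 2
    funext j
    rw [inv_pow]
  have hZp0 : Zp ≠ 0 := by rw [hZpZ]; exact inv_ne_zero (pow_ne_zero _ hZ0)
  set ε : ℂ := ((Equiv.Perm.sign (Fin.revPerm : Equiv.Perm (Fin (s + 1))) : ℤ) : ℂ) with hε
  have hεε : ε * ε = 1 := Groth.Agent.Lib.Verlinde23.sign_mul_sign _
  have hinj : Function.Injective (fun j => ζ ^ v j) := by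
    intro i j hij
    have h1 : v i = v j := hζp.pow_inj (by have := hvlt i; omega) (by have := hvlt j; omega) hij
    exact hv.injective h1
  have hD10 : D1 ≠ 0 := Groth.Agent.Lib.Verlinde23.E_delta_ne_zero ζ v hinj
  have hδle : ∀ i, Groth.Agent.Lib.Verlinde23.delta (s + 1) i ≤ s := by
    intro i
    unfold Groth.Agent.Lib.Verlinde23.delta
    omega
  have d2 := Groth.Agent.Lib.Verlinde23.E_dual ζ hζ0 (Groth.Agent.Lib.Verlinde23.delta (s + 1)) v s hδle
  have hδeq : (fun i => s - Groth.Agent.Lib.Verlinde23.delta (s + 1) (Fin.rev i)) =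
      Groth.Agent.Lib.Verlinde23.delta (s + 1) := by
    funext i
    rw [Groth.Agent.Lib.Verlinde23.delta_rev, Groth.Agent.Lib.Verlinde23.delta_val]
  rw [hδeq] at d2
  -- the summand
  set T : (Fin (s + 1) → ℕ) → ℂ := fun m => S m * S (fun i => k - m (Fin.rev i)) with hT
  have hre := Groth.Agent.Lib.Verlinde23.sum_antitone_eq_sum_strictAnti (s := s) (K := k) (M := k + s)
    (by omega) rfl T
  have hLHS : (∑ μ ∈ (Finset.univ : Finset (Fin (s + 1) → Fin k)).filter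
        (fun μ : Fin (s + 1) → Fin k => Antitone μ),
        S (fun i => (μ i : ℕ)) * S (fun i => k - (μ (Fin.rev i) : ℕ))) =
      ∑ μ ∈ (Finset.univ : Finset (Fin (s + 1) → Fin k)).filter
        (fun μ : Fin (s + 1) → Fin k => Antitone μ), T (fun i => (μ i : ℕ)) := rfl
  rw [hLHS, hre]
  have hterm : ∀ t ∈ (Finset.univ.filter fun t : Fin (s + 1) → Fin (k + s) => StrictAnti t),
      T (fun i => (t i : ℕ) - Groth.Agent.Lib.Verlinde23.delta (s + 1) i) =
        (ε / (Zp * (D1 * D1))) * (Groth.Agent.Lib.Verlinde23.E ζ (fun j => (t j : ℕ)) v *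
          Groth.Agent.Lib.Verlinde23.E ζ⁻¹ (fun j => (t j : ℕ)) v) := by
    intro t ht
    rw [Finset.mem_filter] at ht
    have : NeZero (k + s) := ⟨by omega⟩
    set w : Fin (s + 1) → ℕ := fun j => (t j : ℕ) with hw
    set m : Fin (s + 1) → ℕ := fun i => w i - Groth.Agent.Lib.Verlinde23.delta (s + 1) i with hm
    have hlow : ∀ i, Groth.Agent.Lib.Verlinde23.delta (s + 1) i ≤ w i :=
      Groth.Agent.Lib.Verlinde23.DSet_low t ht.2
    have hhigh : ∀ i, m i < k :=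
      Groth.Agent.Lib.Verlinde23.strictAnti_high (K := k) (by omega) rfl t ht.2
    have hwN : ∀ i, w i ≤ s + k := fun i => by have := (t i).2; simp only [hw]; omega
    have e1 : (fun i => m i + (s + 1 - 1 - (i : ℕ))) = w := by
      funext i
      have := hlow i
      simp only [hm, Groth.Agent.Lib.Verlinde23.delta] at this ⊢
      omega
    have hS1 : S m = Groth.Agent.Lib.Verlinde23.E ζ w v / D1 := by
      rw [hS, Groth.Agent.Lib.Verlinde23.det_pow_eq_E ζ z v _ hzv,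
        Groth.Agent.Lib.Verlinde23.det_pow_eq_E ζ z v _ hzv, e1]
      rfl
    have e2 : (fun i => (k - m (Fin.rev i)) + (s + 1 - 1 - (i : ℕ))) =
        fun i => s + k - w (Fin.rev i) := by
      funext i
      have h1 := hlow (Fin.rev i)
      have h2 := hhigh (Fin.rev i)
      have h3 := Groth.Agent.Lib.Verlinde23.delta_rev s i
      have h4 := i.2
      simp only [hm] at h2 ⊢
      rw [h3] at h1 h2 ⊢
      omega
    have d1 := Groth.Agent.Lib.Verlinde23.E_dual ζ⁻¹ (inv_ne_zero hζ0) w v (s + k) hwN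
    rw [inv_inv] at d1
    have hdual : Groth.Agent.Lib.Verlinde23.E ζ (fun i => s + k - w (Fin.rev i)) v =
        ε * Groth.Agent.Lib.Verlinde23.E ζ⁻¹ w v / Zp :=
      eq_div_of_mul_eq hZp0 (by rw [mul_comm]; exact d1)
    have hS2 : S (fun i => k - m (Fin.rev i)) =
        (ε * Groth.Agent.Lib.Verlinde23.E ζ⁻¹ w v / Zp) / D1 := by
      rw [hS, Groth.Agent.Lib.Verlinde23.det_pow_eq_E ζ z v _ hzv,
        Groth.Agent.Lib.Verlinde23.det_pow_eq_E ζ z v _ hzv, e2, hdual]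
      rfl
    simp only [hT]
    rw [hS1, hS2]
    field_simp
  rw [Finset.sum_congr rfl hterm, ← Finset.mul_sum,
    Groth.Agent.Lib.Verlinde23.sum_strictAnti_norm ζ hζp' v hv.injective hvN]
  -- RHS
  have hP : (∏ p ∈ (Finset.univ : Finset (Fin (s + 1) × Fin (s + 1))).filter (fun p => p.1 < p.2),
          (((2 : ℝ) * Real.sin (Real.pi * ((v p.1 : ℝ) - (v p.2 : ℝ)) / (((s + 1 : ℕ) : ℝ) + k))) ^ 2 : ℝ) : ℂ) =
      D1 * D1' := by
    rw [← Complex.ofReal_prod]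
    exact Groth.Agent.Lib.Verlinde23.P_eq N (((s + 1 : ℕ) : ℝ) + k) (by rw [hN]; push_cast; ring) v
  have hexp : Complex.exp (2 * Real.pi * Complex.I * (k : ℂ) * ((∑ j, v j : ℕ) : ℂ) /
      (((s + 1 : ℕ) : ℂ) + k)) = Z ^ k := by
    rw [hZ, Finset.prod_pow_eq_pow_sum, ← pow_mul, hζdef, Groth.Agent.Lib.Verlinde23.zeta_pow]
    congr 1
    rw [hN]
    push_cast
    ring
  have hD1' : D1' = ε * D1 / Z ^ s := eq_div_of_mul_eq (pow_ne_zero _ hZ0) (by rw [mul_comm]; exact d2)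
  rw [hP, hexp, hD1', hZpZ]
  have hZs : Z ^ s ≠ 0 := pow_ne_zero _ hZ0
  have hε0 : ε ≠ 0 := fun h => by rw [h, zero_mul] at hεε; exact zero_ne_one hεε
  rw [pow_add]
  simp only [Nat.add_sub_cancel]
  have hNk : (((k + s + 1 : ℕ) : ℂ) - ((s + 1 : ℕ) : ℂ)) = (k : ℂ) := by push_cast; ring
  have hNc : ((k + s + 1 : ℕ) : ℂ) = ((s + 1 : ℕ) : ℂ) + k := by push_cast; ring
  rw [hNk, hNc]
  field_simp
  linear_combination ((k : ℂ) * (((s + 1 : ℕ) : ℂ) + k) ^ s) * hεε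

end Groth.Agent.S18377
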