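import Groth.Statements.S18378
import Groth.Agent.Lib.Verlinde23j

set_option autoImplicit false
open Complex
open VerlindeComb

namespace Groth.Agent.S18378

/-- Let r, k ≥ 1 be integers and v, v' two integer vectors with r + k > v_1 > ⋯ > v_r ≥ 0 and r + k >
v'_1 > ⋯ > v'_r ≥ 0 whose difference v - v' is not a constant vector (a, …, a). Put z_j = exp(2πi
v_j / (r + k)), z'_j = exp(2πi v'_j / (r + k)), let S_μ(w) = det(w_j^{μ_i + r - i}) / det(w_j^{r -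
i}) be the Schur value at w = z or z', and write |x| for the sum of the coordinates of a vector and
μ* = (k - μ_r, …, k - μ_1). Then the sum over all μ with k ≥ μ_1 ≥ ⋯ ≥ μ_{r-1} ≥ μ_r = 0 of exp(-2πi
|μ| |v| / (r (r + k))) · exp(-2πi |μ*| |v'| / (r (r + k))) · S_μ(z) · S_{μ*}(z') is zero. The
vanishing is the orthogonality of distinct characters and holds exactly for non-equivalent v, v';
for v - v' constant the sum is nonzero. Indices are 0-based below: μ i stands for μ_{i+1}. -/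
theorem result (r k : ℕ) (hr : 1 ≤ r)
    (hk : 1 ≤ k) (v v' : Fin r → ℕ) (hv : StrictAnti v) (hvlt : ∀ i, v i < r + k) (hv' : StrictAnti v')
    (hv'lt : ∀ i, v' i < r + k) (hne : ¬ ∃ a : ℤ, ∀ i, (v i : ℤ) - (v' i : ℤ) = a)
    (z z' : Fin r → ℂ) (hz : ∀ j, z j = Complex.exp (2 * Real.pi * Complex.I * (v j : ℂ) / ((r : ℂ) + k)))
    (hz' : ∀ j, z' j = Complex.exp (2 * Real.pi * Complex.I * (v' j : ℂ) / ((r : ℂ) + k)))
    (S S' : (Fin r → ℕ) → ℂ)
    (hS : ∀ μ : Fin r → ℕ, S μ =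
      (Matrix.of fun i j : Fin r => z j ^ (μ i + (r - 1 - (i : ℕ)))).det /
        (Matrix.of fun i j : Fin r => z j ^ (r - 1 - (i : ℕ))).det)
    (hS' : ∀ μ : Fin r → ℕ, S' μ =
      (Matrix.of fun i j : Fin r => z' j ^ (μ i + (r - 1 - (i : ℕ)))).det /
        (Matrix.of fun i j : Fin r => z' j ^ (r - 1 - (i : ℕ))).det) :
    (∑ μ ∈ (Finset.univ : Finset (Fin r → Fin (k + 1))).filter
        (fun μ : Fin r → Fin (k + 1) => Antitone μ ∧ ∀ i : Fin r, (i : ℕ) = r - 1 → (μ i : ℕ) = 0),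
      Complex.exp (-(2 * Real.pi * Complex.I * ((∑ i, (μ i : ℕ) : ℕ) : ℂ) * ((∑ j, v j : ℕ) : ℂ) /
          ((r : ℂ) * ((r : ℂ) + k)))) *
      Complex.exp (-(2 * Real.pi * Complex.I * ((∑ i, (k - (μ (Fin.rev i) : ℕ)) : ℕ) : ℂ) *
          ((∑ j, v' j : ℕ) : ℂ) / ((r : ℂ) * ((r : ℂ) + k)))) *
      S (fun i => (μ i : ℕ)) * S' (fun i => k - (μ (Fin.rev i) : ℕ))) = 0 := by
  obtain ⟨s, rfl⟩ : ∃ s, r = s + 1 := ⟨r - 1, by omega⟩
  have : NeZero (s + 1 + k) := ⟨by omega⟩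
  set N := s + 1 + k with hN
  set ω := Groth.Agent.Lib.Verlinde23.zeta ((s + 1) * N) with hω
  have hωp : IsPrimitiveRoot ω ((s + 1) * N) :=
    Groth.Agent.Lib.Verlinde23.zeta_isPrimitiveRoot _ (Nat.mul_ne_zero (by omega) (by omega))
  have hω0 : ω ≠ 0 := hωp.ne_zero (Nat.mul_ne_zero (by omega) (by omega))
  have hζ : ω ^ (s + 1) = Groth.Agent.Lib.Verlinde23.zeta N :=
    Groth.Agent.Lib.Verlinde23.zeta_mul_pow (s + 1) N (by omega)
  set ζ := Groth.Agent.Lib.Verlinde23.zeta N with hζdef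
  have hζp : IsPrimitiveRoot ζ N := Groth.Agent.Lib.Verlinde23.zeta_isPrimitiveRoot N (by omega)
  have hζ0 : ζ ≠ 0 := hζp.ne_zero (by omega)
  have hzv : ∀ j, z j = ζ ^ v j := by
    intro j
    rw [hz, hζdef, Groth.Agent.Lib.Verlinde23.zeta_pow]
    congr 1
    rw [hN]
    push_cast
    ring
  have hzv' : ∀ j, z' j = ζ ^ v' j := by
    intro j
    rw [hz', hζdef, Groth.Agent.Lib.Verlinde23.zeta_pow]
    congr 1
    rw [hN]
    push_cast
    ring
  -- the summand as a function of the ℕ-valued tuple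
  set T : (Fin (s + 1) → ℕ) → ℂ := fun m =>
    Complex.exp (-(2 * Real.pi * Complex.I * ((∑ i, m i : ℕ) : ℂ) * ((∑ j, v j : ℕ) : ℂ) /
          (((s + 1 : ℕ) : ℂ) * (((s + 1 : ℕ) : ℂ) + k)))) *
      Complex.exp (-(2 * Real.pi * Complex.I * ((∑ i, (k - m (Fin.rev i)) : ℕ) : ℂ) *
          ((∑ j, v' j : ℕ) : ℂ) / (((s + 1 : ℕ) : ℂ) * (((s + 1 : ℕ) : ℂ) + k)))) *
      S m * S' (fun i => k - m (Fin.rev i)) with hT
  have hre := Groth.Agent.Lib.Verlinde23.sum_antitone_last_eq_sum_DSet (s := s) (K := k + 1) (M := N)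
    (by omega) (by omega) T
  have hLHS : (∑ μ ∈ (Finset.univ : Finset (Fin (s + 1) → Fin (k + 1))).filter
        (fun μ : Fin (s + 1) → Fin (k + 1) =>
          Antitone μ ∧ ∀ i : Fin (s + 1), (i : ℕ) = s + 1 - 1 → (μ i : ℕ) = 0),
      Complex.exp (-(2 * Real.pi * Complex.I * ((∑ i, (μ i : ℕ) : ℕ) : ℂ) * ((∑ j, v j : ℕ) : ℂ) /
          (((s + 1 : ℕ) : ℂ) * (((s + 1 : ℕ) : ℂ) + k)))) *
      Complex.exp (-(2 * Real.pi * Complex.I * ((∑ i, (k - (μ (Fin.rev i) : ℕ)) : ℕ) : ℂ) *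
          ((∑ j, v' j : ℕ) : ℂ) / (((s + 1 : ℕ) : ℂ) * (((s + 1 : ℕ) : ℂ) + k)))) *
      S (fun i => (μ i : ℕ)) * S' (fun i => k - (μ (Fin.rev i) : ℕ))) =
      ∑ μ ∈ (Finset.univ : Finset (Fin (s + 1) → Fin (k + 1))).filter
        (fun μ : Fin (s + 1) → Fin (k + 1) =>
          Antitone μ ∧ ∀ i : Fin (s + 1), (i : ℕ) = s + 1 - 1 → (μ i : ℕ) = 0),
        T (fun i => (μ i : ℕ)) := rfl
  rw [hLHS, hre]
  -- data
  have hvN : ∀ i, v i < N := fun i => by rw [hN]; exact hvlt i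
  have hv'N : ∀ i, v' i < N := fun i => by rw [hN]; exact hv'lt i
  set D1 := Groth.Agent.Lib.Verlinde23.E ζ (Groth.Agent.Lib.Verlinde23.delta (s + 1)) v with hD1
  set D2 := Groth.Agent.Lib.Verlinde23.E ζ (Groth.Agent.Lib.Verlinde23.delta (s + 1)) v' with hD2
  set Zp : ℂ := (∏ j, ζ⁻¹ ^ v' j) ^ (s + k) with hZp
  have hZp0 : Zp ≠ 0 :=
    pow_ne_zero _ (Finset.prod_ne_zero_iff.mpr fun j _ => pow_ne_zero _ (inv_ne_zero hζ0))
  set ε : ℂ := ((Equiv.Perm.sign (Fin.revPerm : Equiv.Perm (Fin (s + 1))) : ℤ) : ℂ) with hε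
  set V : ℤ := ((∑ j, v j : ℕ) : ℤ) with hV
  set V' : ℤ := ((∑ j, v' j : ℕ) : ℤ) with hV'
  set Dl : ℤ := ((∑ i, Groth.Agent.Lib.Verlinde23.delta (s + 1) i : ℕ) : ℤ) with hDl
  set Kc : ℂ := ω ^ (Dl * V - (((s : ℤ) + 1) * k + Dl) * V') * ε / (Zp * D1 * D2) with hKc
  have hterm : ∀ t ∈ Groth.Agent.Lib.Verlinde23.DSet s N,
      T (fun i => (t i : ℕ) - Groth.Agent.Lib.Verlinde23.delta (s + 1) i) =
        Kc * Groth.Agent.Lib.Verlinde23.G ω v v' (fun j => (t j : ℕ)) := by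
    intro t ht
    have htD := (Groth.Agent.Lib.Verlinde23.mem_DSet t).mp ht
    set w : Fin (s + 1) → ℕ := fun j => (t j : ℕ) with hw
    set m : Fin (s + 1) → ℕ := fun i => w i - Groth.Agent.Lib.Verlinde23.delta (s + 1) i with hm
    have hlow : ∀ i, Groth.Agent.Lib.Verlinde23.delta (s + 1) i ≤ w i :=
      Groth.Agent.Lib.Verlinde23.DSet_low t htD.1
    have hhigh : ∀ i, m i < k + 1 :=
      Groth.Agent.Lib.Verlinde23.strictAnti_high (K := k + 1) (by omega) (by omega) t htD.1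
    have hwN : ∀ i, w i ≤ s + k := fun i => by have := (t i).2; simp only [hw]; omega
    -- S m
    have e1 : (fun i => m i + (s + 1 - 1 - (i : ℕ))) = w := by
      funext i
      have := hlow i
      simp only [hm, Groth.Agent.Lib.Verlinde23.delta] at this ⊢
      omega
    have hS1 : S m = Groth.Agent.Lib.Verlinde23.E ζ v w / D1 := by
      rw [hS, Groth.Agent.Lib.Verlinde23.det_pow_eq_E ζ z v _ hzv,
        Groth.Agent.Lib.Verlinde23.det_pow_eq_E ζ z v _ hzv, e1,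
        Groth.Agent.Lib.Verlinde23.E_transpose ζ w v]
      rfl
    -- S' m*
    have e2 : (fun i => (k - m (Fin.rev i)) + (s + 1 - 1 - (i : ℕ))) =
        fun i => s + k - w (Fin.rev i) := by
      funext i
      have h1 := hlow (Fin.rev i)
      have h2 := hhigh (Fin.rev i)
      have h3 := Groth.Agent.Lib.Verlinde23.delta_rev s i
      have h4 := i.2
      simp only [hm] at h2 ⊢
      rw [h3] at h1 h2 ⊢
      omega
    have d1 := Groth.Agent.Lib.Verlinde23.E_dual ζ⁻¹ (inv_ne_zero hζ0) w v' (s + k) hwN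
    rw [inv_inv] at d1
    have hdual : Groth.Agent.Lib.Verlinde23.E ζ (fun i => s + k - w (Fin.rev i)) v' =
        ε * Groth.Agent.Lib.Verlinde23.E ζ⁻¹ v' w / Zp := by
      rw [Groth.Agent.Lib.Verlinde23.E_transpose ζ⁻¹ v' w]
      exact eq_div_of_mul_eq hZp0 (by rw [mul_comm]; exact d1)
    have hS2 : S' (fun i => k - m (Fin.rev i)) =
        (ε * Groth.Agent.Lib.Verlinde23.E ζ⁻¹ v' w / Zp) / D2 := by
      rw [hS', Groth.Agent.Lib.Verlinde23.det_pow_eq_E ζ z' v' _ hzv',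
        Groth.Agent.Lib.Verlinde23.det_pow_eq_E ζ z' v' _ hzv', e2, hdual]
      rfl
    -- exponents
    have hn1 : ((∑ i, m i : ℕ) : ℤ) = ((∑ j, w j : ℕ) : ℤ) - Dl := by
      rw [hDl]
      push_cast
      rw [← Finset.sum_sub_distrib]
      refine Finset.sum_congr rfl fun i _ => ?_
      simp only [hm]
      rw [Nat.cast_sub (hlow i)]
    have hn2 : ((∑ i, (k - m (Fin.rev i)) : ℕ) : ℤ) = ((s : ℤ) + 1) * k - ((∑ i, m i : ℕ) : ℤ) := by
      push_cast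
      have hrev : ∑ x : Fin (s + 1), (m x.rev : ℤ) = ∑ x, (m x : ℤ) :=
        Equiv.sum_comp Fin.revPerm (fun i => (m i : ℤ))
      rw [Finset.sum_congr rfl (fun i _ => Nat.cast_sub (Nat.lt_succ_iff.mp (hhigh (Fin.rev i)))),
        Finset.sum_sub_distrib, hrev]
      simp
    have hexp : ω ^ (-(((∑ i, m i : ℕ) : ℤ) * V)) * ω ^ (-(((∑ i, (k - m (Fin.rev i)) : ℕ) : ℤ) * V')) =
        ω ^ (Dl * V - (((s : ℤ) + 1) * k + Dl) * V') * ω ^ (-((V - V') * ((∑ j, w j : ℕ) : ℤ))) := by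
      rw [← zpow_add₀ hω0, ← zpow_add₀ hω0, hn2, hn1]
      congr 1
      ring
    simp only [hT]
    rw [Groth.Agent.Lib.Verlinde23.cexp_eq, Groth.Agent.Lib.Verlinde23.cexp_eq, hS1, hS2]
    unfold Groth.Agent.Lib.Verlinde23.G
    rw [hζ, hKc]
    linear_combination (Groth.Agent.Lib.Verlinde23.E ζ v w / D1 *
      (ε * Groth.Agent.Lib.Verlinde23.E ζ⁻¹ v' w / Zp / D2)) * hexp
  rw [Finset.sum_congr rfl hterm, ← Finset.mul_sum,
    Groth.Agent.Lib.Verlinde23.sum_DSet_G_eq_zero ω hωp v v' hv hv' hvN hv'N hne, mul_zero]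

end Groth.Agent.S18378
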