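import Groth.Statements.S18379
import Groth.Agent.Lib.Verlinde23i

set_option autoImplicit false
open VerlindeComb

namespace Groth.Agent.S18379

/-- Let r, k ≥ 1 be integers. Summing over all integer vectors v with r + k > v_1 > v_2 > ⋯ > v_{r-1} >
v_r = 0, one has Σ_v ∏_{i<j} (2 sin(π (v_i - v_j) / (r + k)))² = r (r + k)^{r-1}; that is, the
genus-zero Verlinde number of rank r and level k with no parabolic points, defined as (r (r +
k)^{r-1})⁻¹ times this sum, equals 1. Indices are 0-based below: v i stands for v_{i+1}. -/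
theorem result (r k : ℕ) (hr : 1 ≤ r) (hk : 1 ≤ k) :
    (∑ v ∈ (Finset.univ : Finset (Fin r → Fin (r + k))).filter
        (fun v : Fin r → Fin (r + k) => StrictAnti v ∧ ∀ i : Fin r, (i : ℕ) = r - 1 → (v i : ℕ) = 0),
      ∏ p ∈ (Finset.univ : Finset (Fin r × Fin r)).filter (fun p => p.1 < p.2),
        ((2 : ℝ) * Real.sin (Real.pi * ((v p.1 : ℕ) - (v p.2 : ℕ) : ℝ) / ((r : ℝ) + k))) ^ 2) =
      (r : ℝ) * ((r : ℝ) + k) ^ (r - 1) := by
  obtain ⟨s, rfl⟩ : ∃ s, r = s + 1 := ⟨r - 1, by omega⟩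
  have : NeZero (s + 1 + k) := ⟨by omega⟩
  set N := s + 1 + k with hN
  set ζ := Groth.Agent.Lib.Verlinde23.zeta N with hζdef
  have hζp : IsPrimitiveRoot ζ N := Groth.Agent.Lib.Verlinde23.zeta_isPrimitiveRoot N (by omega)
  have hδanti : StrictAnti (Groth.Agent.Lib.Verlinde23.delta (s + 1)) := by
    intro i j hij
    unfold Groth.Agent.Lib.Verlinde23.delta
    have := i.2
    have := j.2
    rw [Fin.lt_def] at hij
    omega
  have hδN : ∀ i, Groth.Agent.Lib.Verlinde23.delta (s + 1) i < N := by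
    intro i
    unfold Groth.Agent.Lib.Verlinde23.delta
    omega
  have hset : (Finset.univ : Finset (Fin (s + 1) → Fin (s + 1 + k))).filter
        (fun v : Fin (s + 1) → Fin (s + 1 + k) =>
          StrictAnti v ∧ ∀ i : Fin (s + 1), (i : ℕ) = s + 1 - 1 → (v i : ℕ) = 0) =
      Groth.Agent.Lib.Verlinde23.DSet s N := rfl
  rw [hset]
  apply Complex.ofReal_injective
  rw [Complex.ofReal_sum]
  have hterm : ∀ v ∈ Groth.Agent.Lib.Verlinde23.DSet s N,
      ((∏ p ∈ (Finset.univ : Finset (Fin (s + 1) × Fin (s + 1))).filter (fun p => p.1 < p.2),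
        ((2 : ℝ) * Real.sin (Real.pi * ((v p.1 : ℕ) - (v p.2 : ℕ) : ℝ) / (((s + 1 : ℕ) : ℝ) + k))) ^ 2 : ℝ) : ℂ) =
      Groth.Agent.Lib.Verlinde23.E ζ (Groth.Agent.Lib.Verlinde23.delta (s + 1)) (fun j => (v j : ℕ)) *
        Groth.Agent.Lib.Verlinde23.E ζ⁻¹ (Groth.Agent.Lib.Verlinde23.delta (s + 1)) (fun j => (v j : ℕ)) := by
    intro v _
    exact Groth.Agent.Lib.Verlinde23.P_eq N (((s + 1 : ℕ) : ℝ) + k) (by rw [hN]; push_cast; ring)
      (fun j => (v j : ℕ))
  rw [Finset.sum_congr rfl hterm,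
    Groth.Agent.Lib.Verlinde23.sum_DSet_norm ζ hζp _ hδanti hδN]
  rw [hN]
  push_cast
  simp

end Groth.Agent.S18379
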