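import Groth.Statements.S18384
import Mathlib
set_option linter.style.haveILetI false

set_option autoImplicit false
universe u
open CategoryTheory CategoryTheory.Limits AlgebraicGeometry
open Coherent

namespace Groth.Agent.S18384

section Aux
open IsLocalRing

variable {X S : Scheme.{u}} (p : X ⟶ S) (x : X) (n : ℕ)

/-- the truncated local ring `O_{X,x}/m^{n+1}` -/
abbrev TX : Type u := (X.presheaf.stalk x : Type u) ⧸ maximalIdeal (X.presheaf.stalk x : Type u) ^ (n + 1)

/-- the quotient map `O_{X,x} → O_{X,x}/m^{n+1}` -/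
noncomputable abbrev qX : X.presheaf.stalk x ⟶ CommRingCat.of (TX x n) :=
  CommRingCat.ofHom (Ideal.Quotient.mk (maximalIdeal (X.presheaf.stalk x : Type u) ^ (n + 1)))

theorem pow_le_comap :
    maximalIdeal (S.presheaf.stalk (p.base x) : Type u) ^ (n + 1) ≤
      (maximalIdeal (X.presheaf.stalk x : Type u) ^ (n + 1)).comap (p.stalkMap x).hom := by
  have h1 : maximalIdeal (S.presheaf.stalk (p.base x) : Type u) ≤
      (maximalIdeal (X.presheaf.stalk x : Type u)).comap (p.stalkMap x).hom :=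
    ((IsLocalRing.local_hom_TFAE (p.stalkMap x).hom).out 0 3).mp
      (inferInstance : IsLocalHom (p.stalkMap x).hom)
  exact (Ideal.pow_right_mono h1 (n + 1)).trans (Ideal.le_comap_pow _ _)

/-- the induced map on truncations -/
noncomputable abbrev qMap : CommRingCat.of (TX (p.base x) n) ⟶ CommRingCat.of (TX x n) :=
  CommRingCat.ofHom (Ideal.quotientMap _ (p.stalkMap x).hom (pow_le_comap p x n))

/-- `Spec (O_{X,x}/m^{n+1}) ⟶ X` -/
noncomputable abbrev cMap : Spec (CommRingCat.of (TX x n)) ⟶ X :=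
  Spec.map (qX x n) ≫ X.fromSpecStalk x

theorem comm : cMap x n ≫ p = Spec.map (qMap p x n) ≫
    (Spec.map (CommRingCat.ofHom (Ideal.Quotient.mk
      (maximalIdeal (S.presheaf.stalk (p.base x)) ^ (n + 1)))) ≫ S.fromSpecStalk (p.base x)) := by
  rw [cMap, Category.assoc, ← Scheme.SpecMap_stalkMap_fromSpecStalk, ← Spec.map_comp_assoc,
    ← Spec.map_comp_assoc]
  congr 2

/-- the lift to the fibre product -/
theorem le_ker_cMap (I : X.IdealSheafData)
    (g : pullback p (Spec.map (CommRingCat.ofHom (Ideal.Quotient.mk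
        (maximalIdeal (S.presheaf.stalk (p.base x)) ^ (n + 1)))) ≫ S.fromSpecStalk (p.base x)) ⟶
        I.subscheme)
    (hg : g ≫ I.subschemeι = pullback.fst p _) : I ≤ (cMap x n).ker := by
  have h1 : cMap x n = (pullback.lift (cMap x n) (Spec.map (qMap p x n)) (comm p x n) ≫ g) ≫
      I.subschemeι := by
    rw [Category.assoc, hg, pullback.lift_fst]
  rw [h1]
  conv_lhs => rw [← I.ker_subschemeι]
  exact Scheme.Hom.le_ker_comp _ _

/-- the closed point of the spectrum of a local ring, as a point of the scheme -/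
noncomputable def clPt (R : CommRingCat.{u}) [IsLocalRing R] : ↥(Spec R) :=
  (closedPoint R : PrimeSpectrum R)

theorem germ_mem_pow (I : X.IdealSheafData) (hI : I ≤ (cMap x n).ker) (W : X.affineOpens)
    (hxW : x ∈ W.1) (a : Γ(X, W.1)) (ha : a ∈ I.ideal W) :
    (X.presheaf.germ W.1 x hxW).hom a ∈ maximalIdeal (X.presheaf.stalk x : Type u) ^ (n + 1) := by
  have h1 : a ∈ RingHom.ker ((cMap x n).app W.1).hom := (cMap x n).ideal_ker_le W (hI W ha)
  have hne : maximalIdeal (X.presheaf.stalk x : Type u) ^ (n + 1) ≠ ⊤ := by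
    intro h
    have h2 : maximalIdeal (X.presheaf.stalk x : Type u) ^ (n + 1) ≤ maximalIdeal _ :=
      Ideal.pow_le_self (Nat.succ_ne_zero n)
    rw [h] at h2
    exact (maximalIdeal.isMaximal _).ne_top (top_le_iff.mp h2)
  haveI : Nontrivial (TX x n) := Ideal.Quotient.nontrivial_iff.mpr hne
  haveI : IsLocalRing (TX x n) :=
    IsLocalRing.of_surjective' (Ideal.Quotient.mk _) Ideal.Quotient.mk_surjective
  haveI : IsLocalHom (qX x n).hom := IsLocalHom.of_surjective _ Ideal.Quotient.mk_surjective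
  have hcl : (cMap x n) (clPt (CommRingCat.of (TX x n))) ∈ W.1 := by
    have : (cMap x n) (clPt (CommRingCat.of (TX x n))) = x := by
      rw [Scheme.Hom.comp_apply]
      have h5 : (Spec.map (qX x n)) (clPt (CommRingCat.of (TX x n))) =
          clPt (X.presheaf.stalk x) := Spec_closedPoint
      rw [h5]
      exact Scheme.fromSpecStalk_closedPoint
    rw [this]; exact hxW
  have h2 := Scheme.germ_stalkClosedPointTo (cMap x n) W.1 hcl
  have h3 := Scheme.germ_stalkClosedPointTo_Spec_fromSpecStalk (qX x n) W.1 hcl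
  have h4 : (qX x n).hom ((X.presheaf.germ W.1 x hxW).hom a) = 0 := by
    have e1 := congrArg (fun f => f.hom a) h3
    have e2 := congrArg (fun f => f.hom a) h2
    simp only [CommRingCat.hom_comp, RingHom.comp_apply] at e1 e2
    rw [← e1, e2, RingHom.mem_ker.mp h1, map_zero]
  exact Ideal.Quotient.eq_zero_iff_mem.mp h4

section
variable {X : Scheme.{u}}


theorem exists_basicOpen_ideal_eq_bot [IsLocallyNoetherian X] (I : X.IdealSheafData) (x : X)
    (W : X.affineOpens) (hxW : x ∈ W.1)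
    (h : ∀ a ∈ I.ideal W, (X.presheaf.germ W.1 x hxW).hom a = 0) :
    ∃ s : Γ(X, W.1), x ∈ X.basicOpen s ∧ I.ideal (X.affineBasicOpen s) = ⊥ := by
  classical
  haveI : IsNoetherianRing Γ(X, W.1) := IsLocallyNoetherian.component_noetherian W
  obtain ⟨T, hT⟩ := (isNoetherianRing_iff_ideal_fg _).mp inferInstance (I.ideal W)
  letI := TopCat.Presheaf.algebra_section_stalk X.presheaf ⟨x, hxW⟩
  haveI : IsLocalization.AtPrime (X.presheaf.stalk x) (W.2.primeIdealOf ⟨x, hxW⟩).asIdeal :=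
    W.2.isLocalization_stalk ⟨x, hxW⟩
  have key : ∀ a ∈ T, ∃ s : Γ(X, W.1), s ∉ (W.2.primeIdealOf ⟨x, hxW⟩).asIdeal ∧ s * a = 0 := by
    intro a ha
    have ha' : a ∈ I.ideal W := hT ▸ Ideal.subset_span ha
    have h0 : algebraMap Γ(X, W.1) (X.presheaf.stalk x) a = 0 := h a ha'
    obtain ⟨⟨s, hs⟩, hsa⟩ := (IsLocalization.map_eq_zero_iff
      (W.2.primeIdealOf ⟨x, hxW⟩).asIdeal.primeCompl (X.presheaf.stalk x) a).mp h0
    exact ⟨s, hs, hsa⟩
  choose! σ hσ1 hσ2 using key
  refine ⟨∏ a ∈ T, σ a, ?_, ?_⟩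
  · rw [Scheme.mem_basicOpen X _ x hxW]
    refine (IsLocalization.AtPrime.isUnit_to_map_iff (X.presheaf.stalk x)
      (W.2.primeIdealOf ⟨x, hxW⟩).asIdeal _).mpr ?_
    show (∏ a ∈ T, σ a) ∈ (W.2.primeIdealOf ⟨x, hxW⟩).asIdeal.primeCompl
    exact Submonoid.prod_mem _ (fun a ha => hσ1 a ha)
  · have hmap := I.map_ideal_basicOpen W (∏ a ∈ T, σ a)
    have hle : (I.ideal W).map
        (X.presheaf.map (homOfLE (X.basicOpen_le (∏ a ∈ T, σ a))).op).hom ≤ ⊥ := by
      rw [Ideal.map_le_iff_le_comap, ← hT, Ideal.span_le]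
      intro a ha
      rw [SetLike.mem_coe, Ideal.mem_comap, Ideal.mem_bot]
      have hu : IsUnit ((X.presheaf.map (homOfLE (X.basicOpen_le (∏ a ∈ T, σ a))).op).hom
          (∏ a ∈ T, σ a)) := X.toRingedSpace.isUnit_res_basicOpen _
      have h0 : (∏ a ∈ T, σ a) * a = 0 := by
        rw [← Finset.prod_erase_mul T σ ha, mul_assoc, hσ2 a ha, mul_zero]
      have h1 := congrArg (X.presheaf.map (homOfLE (X.basicOpen_le (∏ a ∈ T, σ a))).op).hom h0
      rw [map_mul, map_zero] at h1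
      exact (hu.mul_right_eq_zero).mp h1
    exact le_bot_iff.mp (hmap.ge.trans hle)


theorem exists_lift_of_cover [IsLocallyNoetherian X] (I : X.IdealSheafData) (U : X.Opens)
    (hU : ∀ y ∈ U, ∃ W : X.affineOpens, y ∈ W.1 ∧ I.ideal W = ⊥) :
    ∃ g : (U : Scheme.{u}) ⟶ I.subscheme, g ≫ I.subschemeι = U.ι := by
  have H : I.subschemeι.ker ≤ U.ι.ker := by
    rw [I.ker_subschemeι]
    refine Scheme.IdealSheafData.le_ofIdeals_iff.mpr fun W' a ha => ?_
    rw [RingHom.mem_ker, Scheme.Opens.ι_app]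
    have hV : ∀ y : X, y ∈ U.ι ''ᵁ U.ι ⁻¹ᵁ W'.1 → y ∈ U ∧ y ∈ W'.1 := by
      intro y hy
      rw [Scheme.Hom.image_preimage_eq_opensRange_inf, Scheme.Opens.opensRange_ι] at hy
      exact hy
    -- local data
    have key : ∀ y : (U.ι ''ᵁ U.ι ⁻¹ᵁ W'.1 : X.Opens), ∃ W'' : X.affineOpens,
        y.1 ∈ W''.1 ∧ W''.1 ≤ U.ι ''ᵁ U.ι ⁻¹ᵁ W'.1 ∧ W''.1 ≤ W'.1 ∧ I.ideal W'' = ⊥ := by
      rintro ⟨y, hy⟩
      obtain ⟨hyU, hyW'⟩ := hV y hy
      obtain ⟨W, hyW, hW⟩ := hU y hyU
      obtain ⟨_, ⟨W'', hW'', rfl⟩, hyW'', hle⟩ := X.isBasis_affineOpens.exists_subset_of_mem_open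
        (show y ∈ ((U.ι ''ᵁ U.ι ⁻¹ᵁ W'.1) ⊓ W.1 : X.Opens) from ⟨hy, hyW⟩)
        ((U.ι ''ᵁ U.ι ⁻¹ᵁ W'.1) ⊓ W.1 : X.Opens).isOpen
      refine ⟨⟨W'', hW''⟩, hyW'', fun z hz => (hle hz).1, fun z hz => (hV z (hle hz).1).2, ?_⟩
      have h1 : W'' ≤ W.1 := fun z hz => (hle hz).2
      rw [← I.map_ideal (U := ⟨W'', hW''⟩) (V := W) h1, hW, Ideal.map_bot]
    choose W'' h1 h2 h3 h4 using key
    refine X.sheaf.eq_of_locally_eq' (fun y => (W'' y).1) _ (fun y => homOfLE (h2 y)) ?_ _ _ ?_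
    · intro y hy
      exact TopologicalSpace.Opens.mem_iSup.mpr ⟨⟨y, hy⟩, h1 ⟨y, hy⟩⟩
    · intro y
      have h5 := I.ideal_le_comap_ideal (U := W'' y) (V := W') (h3 y) ha
      rw [Ideal.mem_comap, h4 y, Ideal.mem_bot] at h5
      have h6 : (X.presheaf.map (homOfLE (h2 y)).op).hom
          ((X.presheaf.map (homOfLE (x := U.ι ''ᵁ U.ι ⁻¹ᵁ W'.1)
            (Set.image_preimage_subset _ _)).op).hom a) = 0 := by
        rw [← CommRingCat.comp_apply, ← Functor.map_comp]
        exact h5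
      exact h6.trans (map_zero _).symm
  exact ⟨IsClosedImmersion.lift I.subschemeι U.ι H, IsClosedImmersion.lift_fac _ _ _⟩

end

theorem main {X S : Scheme.{u}}
    [IsLocallyNoetherian X] [IsLocallyNoetherian S] (p : X ⟶ S) (t : S) (I : X.IdealSheafData)
    (h : ∀ n : ℕ, ∃ g : pullback p (Spec.map (CommRingCat.ofHom (Ideal.Quotient.mk
        (IsLocalRing.maximalIdeal ↑(S.presheaf.stalk t) ^ (n + 1)))) ≫ S.fromSpecStalk t) ⟶ I.subscheme,
        g ≫ I.subschemeι = pullback.fst p _) :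
    ∃ U : X.Opens, (∀ x : X, p.base x = t → x ∈ U) ∧
      ∃ g : (U : Scheme.{u}) ⟶ I.subscheme, g ≫ I.subschemeι = U.ι := by
  have key : ∀ x : X, p.base x = t → ∃ W : X.affineOpens, x ∈ W.1 ∧ I.ideal W = ⊥ := by
    intro x hx
    subst hx
    obtain ⟨_, ⟨W, hW, rfl⟩, hxW, -⟩ :=
      X.isBasis_affineOpens.exists_subset_of_mem_open (Set.mem_univ x) isOpen_univ
    have hgerm : ∀ a ∈ I.ideal ⟨W, hW⟩, (X.presheaf.germ W x hxW).hom a = 0 := by
      intro a ha
      have hmem : ∀ n : ℕ, (X.presheaf.germ W x hxW).hom a ∈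
          maximalIdeal (X.presheaf.stalk x : Type u) ^ (n + 1) := fun n => by
        obtain ⟨g, hg⟩ := h n
        exact germ_mem_pow x n I (le_ker_cMap p x n I g hg) ⟨W, hW⟩ hxW a ha
      have hk := Ideal.iInf_pow_eq_bot_of_isLocalRing (maximalIdeal (X.presheaf.stalk x : Type u))
        (maximalIdeal.isMaximal _).ne_top
      have h2 : (X.presheaf.germ W x hxW).hom a ∈
          ⨅ i, maximalIdeal (X.presheaf.stalk x : Type u) ^ i := by
        rw [Ideal.mem_iInf]
        intro i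
        cases i with
        | zero => simp
        | succ n => exact hmem n
      rw [hk] at h2
      exact h2
    obtain ⟨s, hxs, hs⟩ := exists_basicOpen_ideal_eq_bot I x ⟨W, hW⟩ hxW hgerm
    exact ⟨X.affineBasicOpen s, hxs, hs⟩
  choose W hW1 hW2 using key
  refine ⟨⨆ (x : {x : X // p.base x = t}), (W x.1 x.2).1,
    fun x hx => TopologicalSpace.Opens.mem_iSup.mpr ⟨⟨x, hx⟩, hW1 x hx⟩,
    exists_lift_of_cover I _ ?_⟩
  intro y hy
  obtain ⟨⟨x, hx⟩, hyx⟩ := TopologicalSpace.Opens.mem_iSup.mp hy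
  exact ⟨W x hx, hyx, hW2 x hx⟩

end Aux

/-- Let p : X → S be a morphism of locally Noetherian schemes, t a point of S, m the maximal ideal of
the local ring O_{S,t}, and Z the closed subscheme of X defined by a quasi-coherent ideal I. Suppose
that for every n ≥ 1 the projection X ×_S Spec(O_{S,t}/m^n) → X factors through Z. Then there is an
open subscheme U of X containing every point of the fibre p⁻¹(t) such that the inclusion U → X
factors through Z. -/
theorem result {X S : Scheme.{u}}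
    [IsLocallyNoetherian X] [IsLocallyNoetherian S] (p : X ⟶ S) (t : S) (I : X.IdealSheafData)
    (h : ∀ n : ℕ, ∃ g : pullback p (Spec.map (CommRingCat.ofHom (Ideal.Quotient.mk
        (IsLocalRing.maximalIdeal ↑(S.presheaf.stalk t) ^ (n + 1)))) ≫ S.fromSpecStalk t) ⟶ I.subscheme,
        g ≫ I.subschemeι = pullback.fst p _) :
    ∃ U : X.Opens, (∀ x : X, p.base x = t → x ∈ U) ∧
      ∃ g : (U : Scheme.{u}) ⟶ I.subscheme, g ≫ I.subschemeι = U.ι := by
  exact main p t I h

end Groth.Agent.S18384
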