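import Groth.Statements.S18385
import Groth.Agent.Lib.H77IsogFib

set_option autoImplicit false
set_option linter.style.haveILetI false
universe u
open CategoryTheory CategoryTheory.Limits MonoidalCategory CartesianMonoidalCategory MonObj GrpObj AlgebraicGeometry
open AbSch

namespace Groth.Agent.S18385

/-- (2) ⇔ (3): let S be a scheme, A and B abelian schemes over S (S-group schemes, smooth and proper
over S with geometrically connected fibres) whose fibres A_s and B_s have the same dimension for
every point s of S, and f : A → B a homomorphism of S-group schemes. Then f is locally quasi-finite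
if and only if f is surjective (and then f is an isogeny). -/
theorem result {S : Scheme.{u}} (A B : Over S)
    [GrpObj A] [Smooth A.hom] [IsProper A.hom] [GeometricallyConnected A.hom]
    [GrpObj B] [Smooth B.hom] [IsProper B.hom] [GeometricallyConnected B.hom]
    (f : A ⟶ B) [IsMonHom f]
    (hdim : ∀ s : S, topologicalKrullDim ↥(A.hom.fiber s) = topologicalKrullDim ↥(B.hom.fiber s)) :
    LocallyQuasiFinite f.left ↔ Surjective f.left := by
  have hlftA : LocallyOfFiniteType A.hom := inferInstance
  have hlft : LocallyOfFiniteType f.left := by
    have : LocallyOfFiniteType (f.left ≫ B.hom) := by rw [Over.w f]; infer_instance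
    exact locallyOfFiniteType_of_comp f.left B.hom
  -- data on the fibres
  have key : ∀ s : S, (LocallyQuasiFinite (Groth.Agent.Lib.H71HomLocus.fibHom f s).left ↔
      Surjective (Groth.Agent.Lib.H71HomLocus.fibHom f s).left) := by
    intro s
    let κ : Type u := S.residueField s
    let t := S.fromSpecResidueField s
    let As : Over (Spec (CommRingCat.of κ)) := Red.bc t A
    let Bs : Over (Spec (CommRingCat.of κ)) := Red.bc t B
    let fs : As ⟶ Bs := Groth.Agent.Lib.H71HomLocus.fibHom f s
    letI : GrpObj As := Red.grpObj_bc t A
    letI : GrpObj Bs := Red.grpObj_bc t B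
    haveI : IsMonHom fs := inferInstanceAs (IsMonHom ((Over.pullback t).map f))
    haveI hsmA : Smooth As.hom := inferInstanceAs (Smooth (pullback.snd A.hom t))
    haveI hsmB : Smooth Bs.hom := inferInstanceAs (Smooth (pullback.snd B.hom t))
    haveI hpA : IsProper As.hom := inferInstanceAs (IsProper (pullback.snd A.hom t))
    haveI hpB : IsProper Bs.hom := inferInstanceAs (IsProper (pullback.snd B.hom t))
    haveI : LocallyOfFiniteType As.hom := inferInstance
    haveI : LocallyOfFiniteType Bs.hom := inferInstance
    haveI : ConnectedSpace As.left := inferInstanceAs (ConnectedSpace (A.hom.fiber s))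
    haveI : ConnectedSpace Bs.left := inferInstanceAs (ConnectedSpace (B.hom.fiber s))
    haveI : IrreducibleSpace As.left :=
      Groth.Agent.Lib.H77IsogFib.irreducibleSpace_of_connectedSpace As
    haveI : IrreducibleSpace Bs.left :=
      Groth.Agent.Lib.H77IsogFib.irreducibleSpace_of_connectedSpace Bs
    have hd : topologicalKrullDim As.left = topologicalKrullDim Bs.left := hdim s
    constructor
    · intro h
      haveI : LocallyQuasiFinite fs.left := h
      exact Groth.Agent.Lib.H77IsogFib.surjective_of_lqf_field fs hd
    · intro h
      haveI : Surjective fs.left := h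
      exact Groth.Agent.Lib.H77IsogFib.lqf_of_surjective_field fs hd
  constructor
  · intro h
    apply Groth.Agent.Lib.H77IsogFib.surjective_of_forall_fibre f
    intro s
    rw [← key s]
    exact MorphismProperty.of_isPullback (Groth.Agent.Lib.H71HomLocus.isPullback_fibHom f s) h
  · intro h
    apply Groth.Agent.Lib.H77IsogFib.lqf_of_forall_fibre f
    intro s
    rw [key s]
    exact MorphismProperty.of_isPullback (Groth.Agent.Lib.H71HomLocus.isPullback_fibHom f s) h

end Groth.Agent.S18385
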