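import Groth.Statements.S18386
import Mathlib.RingTheory.Ideal.IdempotentFG
import Mathlib.AlgebraicGeometry.Noetherian

set_option autoImplicit false
universe u
open LVCorr

namespace Groth.Agent.S18386

open AlgebraicGeometry in
/-- Let X be a connected Noetherian scheme and I a quasi-coherent sheaf of ideals on X, different from
the structure sheaf, such that I^k = I^(k+1) for some natural number k. Then I^k = 0. -/
theorem result (X : Scheme.{u}) [AlgebraicGeometry.IsNoetherian X]
    [ConnectedSpace X] (I : X.IdealSheafData) (hI : I ≠ ⊤) (k : ℕ)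
    (h : I ^ k = I ^ (k + 1)) : I ^ k = ⊥ := by
  have hk : k ≠ 0 := by
    rintro rfl
    apply hI
    simpa using h.symm
  have hpow : ∀ m : ℕ, I ^ (k + m) = I ^ k := by
    intro m
    induction m with
    | zero => rfl
    | succ m ih => rw [← add_assoc, pow_succ, ih, ← pow_succ, ← h]
  set J := I ^ k with hJ
  have hJJ : J * J = J := by rw [hJ, ← pow_add, hpow]
  -- local idempotent generators
  have hloc : ∀ U : X.affineOpens, ∃ e : Γ(X, U.1), IsIdempotentElem e ∧
      J.ideal U = Ideal.span {e} := by
    intro U
    have : IsNoetherianRing Γ(X, U.1) := IsLocallyNoetherian.component_noetherian U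
    have hfg : (J.ideal U).FG := IsNoetherian.noetherian _
    have hid : IsIdempotentElem (J.ideal U) := by
      have := congrArg (fun K : X.IdealSheafData => K.ideal U) hJJ
      exact (by simpa using this : J.ideal U * J.ideal U = J.ideal U)
    exact (Ideal.isIdempotentElem_iff_of_fg _ hfg).1 hid
  -- support is open
  have hopen : IsOpen (J.support : Set X) := by
    rw [isOpen_iff_forall_mem_open]
    intro x hx
    obtain ⟨_, ⟨U, hU, rfl⟩, hxU, -⟩ :=
      X.isBasis_affineOpens.exists_subset_of_mem_open (Set.mem_univ x) isOpen_univ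
    obtain ⟨e, he, hJe⟩ := hloc ⟨U, hU⟩
    refine ⟨(J.support : Set X) ∩ U, Set.inter_subset_left, ?_, hx, hxU⟩
    rw [Scheme.IdealSheafData.coe_support_inter J ⟨U, hU⟩, hJe, Scheme.zeroLocus_span,
      ← hU.fromSpec_image_zeroLocus, PrimeSpectrum.zeroLocus_eq_basicOpen_of_isIdempotentElem e he]
    exact hU.fromSpec.isOpenEmbedding.isOpenMap _ (PrimeSpectrum.basicOpen _).isOpen
  have hclopen : IsClopen (J.support : Set X) := ⟨J.support.isClosed, hopen⟩
  have hsupp : J.support = I.support := Scheme.IdealSheafData.support_pow I k hk
  rcases isClopen_iff.1 hclopen with h0 | h1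
  · exfalso
    apply hI
    rw [← Scheme.IdealSheafData.support_eq_bot_iff, ← hsupp]
    exact TopologicalSpace.Closeds.ext h0
  · -- support is everything, so J ≤ nilradical
    have htop : (⊤ : TopologicalSpace.Closeds X) ≤ J.support := by
      intro x _
      have : x ∈ (J.support : Set X) := by rw [h1]; trivial
      exact this
    have hnil : J ≤ X.nilradical := by
      rw [← Scheme.IdealSheafData.vanishingIdeal_top]
      exact Scheme.IdealSheafData.le_support_iff_le_vanishingIdeal.1 htop
    ext U : 2
    obtain ⟨e, he, hJe⟩ := hloc U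
    rw [hJe]
    have hen : e ∈ (X.nilradical).ideal U := hnil U (by rw [hJe]; exact Ideal.mem_span_singleton_self e)
    have hen' : IsNilpotent e := by
      have : e ∈ (⊥ : Ideal Γ(X, U.1)).radical := by simpa [Scheme.nilradical] using hen
      exact mem_nilradical.1 (by rwa [nilradical])
    obtain ⟨n, hn⟩ := hen'
    have : e = 0 := by
      cases n with
      | zero =>
        have h10 : (1 : Γ(X, U.1)) = 0 := by simpa using hn
        rw [← mul_one e, h10, mul_zero]
      | succ n => rw [← he.pow_succ_eq n]; exact hn
    simp [this]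

end Groth.Agent.S18386
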