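import Groth.Statements.S18387
import Mathlib.RingTheory.Nakayama
import Mathlib.RingTheory.KrullDimension.Basic
import Mathlib.LinearAlgebra.FiniteDimensional.Lemmas
import Mathlib.RingTheory.Jacobson.Ideal

set_option autoImplicit false
universe u
open LVCorr

namespace Groth.Agent.S18387

/-- In the affine form which its proof establishes. Let A be a commutative algebra over a field F which
is finite-dimensional of dimension d over F. Then the d-th power of the nilradical of A vanishes.
(Applied to the fibre algebra A = B/mB of a quasi-finite morphism over a closed point with maximal
ideal m, this says that the d-th power of the radical of mB lies in mB, i.e. the ramification of the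
morphism at that point is at most the degree d of the fibre.) -/
theorem result (F A : Type u) [Field F] [CommRing A] [Algebra F A]
    [FiniteDimensional F A] : nilradical A ^ Module.finrank F A = ⊥ := by
  set N := nilradical A with hN
  haveI : IsNoetherianRing A := IsNoetherianRing.of_finite F A
  have hjac : N ≤ Ideal.jacobson ⊥ := by
    rw [Ideal.jacobson_bot]
    exact nilradical_le_jacobson A
  -- Nakayama: a power equal to the next one vanishes
  have hnak : ∀ i : ℕ, N ^ (i + 1) = N ^ i → N ^ i = ⊥ := by
    intro i hi
    apply Submodule.eq_bot_of_le_smul_of_le_jacobson_bot N (N ^ i) (IsNoetherian.noetherian _) _ hjac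
    rw [smul_eq_mul, ← pow_succ', hi]
  have key : ∀ i : ℕ, N ^ i = ⊥ ∨
      Module.finrank F ((N ^ i).restrictScalars F) + i ≤ Module.finrank F A := by
    intro i
    induction i with
    | zero =>
      right
      rw [pow_zero, Ideal.one_eq_top, add_zero]
      exact Submodule.finrank_le _
    | succ i ih =>
      rcases ih with h0 | hle
      · left
        rw [pow_succ, h0, Ideal.bot_mul]
      · by_cases heq : N ^ (i + 1) = N ^ i
        · left
          rw [heq]
          exact hnak i heq
        · right
          have hlt : (N ^ (i + 1)).restrictScalars F < (N ^ i).restrictScalars F := by
            apply lt_of_le_of_ne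
            · intro a ha
              exact Ideal.pow_le_pow_right (Nat.le_succ i) ha
            · intro h
              apply heq
              ext a
              exact (SetLike.ext_iff.mp h a)
          have := Submodule.finrank_lt_finrank_of_lt hlt
          omega
  rcases key (Module.finrank F A) with h0 | hle
  · exact h0
  · have h0 : Module.finrank F ((N ^ Module.finrank F A).restrictScalars F) = 0 := by omega
    rw [Submodule.finrank_eq_zero] at h0
    ext a
    have := SetLike.ext_iff.mp h0 a
    simpa using this

end Groth.Agent.S18387
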