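import Groth.Statements.S18389
import Mathlib.AlgebraicGeometry.Morphisms.Proper

set_option autoImplicit false
universe u
open LVCorr

namespace Groth.Agent.S18389

open AlgebraicGeometry CategoryTheory in
/-- Let j : C → C̄ be an open immersion with dense image and jX : X → X̄ an open immersion, and let c₁ :
C → X and c̄₁ : C̄ → X̄ satisfy j followed by c̄₁ equals c₁ followed by jX, with c̄₁ separated. Let
U be an open subset of X such that c₁⁻¹(U) is dense in C and the restriction c₁⁻¹(U) → U of c₁ is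
proper. Then c̄₁⁻¹(jX(U)) = j(c₁⁻¹(U)) as open subsets of C̄. (In the source all schemes are
separated of finite type over a field, C̄ and X̄ are compactifications of a correspondence and of X,
so that c̄₁ is automatically separated.) -/
theorem result {C Cb X Xb : Scheme.{u}}
    (j : C ⟶ Cb) [IsOpenImmersion j] (hj : DenseRange j.base)
    (jX : X ⟶ Xb) [IsOpenImmersion jX] (c₁ : C ⟶ X) (cb₁ : Cb ⟶ Xb) [IsSeparated cb₁]
    (h : j ≫ cb₁ = c₁ ≫ jX) (U : X.Opens) (hU : Dense ((c₁ ⁻¹ᵁ U : C.Opens) : Set C))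
    [IsProper (c₁ ∣_ U)] :
    cb₁ ⁻¹ᵁ (jX ''ᵁ U) = j ''ᵁ (c₁ ⁻¹ᵁ U) := by
  have hpt : ∀ y : C, cb₁.base (j.base y) = jX.base (c₁.base y) := by
    intro y
    have := congrArg (fun f => f.base y) h
    simpa using this
  have hle : j ''ᵁ (c₁ ⁻¹ᵁ U) ≤ cb₁ ⁻¹ᵁ (jX ''ᵁ U) := by
    rintro x ⟨y, hy, rfl⟩
    change cb₁.base (j.base y) ∈ jX ''ᵁ U
    rw [hpt]
    exact ⟨c₁.base y, hy, rfl⟩
  apply le_antisymm _ hle
  set V := c₁ ⁻¹ᵁ U with hV
  set W := cb₁ ⁻¹ᵁ (jX ''ᵁ U) with hW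
  have hrange : Set.range (V.ι ≫ j).base ⊆ Set.range W.ι.base := by
    rintro _ ⟨y, rfl⟩
    rw [Scheme.Opens.range_ι]
    apply hle
    exact ⟨y.1, y.2, by simp⟩
  let g : V.toScheme ⟶ W.toScheme := IsOpenImmersion.lift W.ι (V.ι ≫ j) hrange
  have hg : g ≫ W.ι = V.ι ≫ j := IsOpenImmersion.lift_fac _ _ _
  have hcomp : g ≫ (cb₁ ∣_ (jX ''ᵁ U)) = (c₁ ∣_ U) ≫ (jX.isoImage U).hom := by
    rw [← cancel_mono (jX ''ᵁ U).ι]
    simp only [Category.assoc, morphismRestrict_ι, Scheme.Hom.isoImage_hom_ι]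
    rw [reassoc_of% hg, h, morphismRestrict_ι_assoc]
  have : IsProper (g ≫ (cb₁ ∣_ (jX ''ᵁ U))) := by
    rw [hcomp]; infer_instance
  have : IsProper g := IsProper.of_comp g (cb₁ ∣_ (jX ''ᵁ U))
  have hgpt : ∀ y : V, (W.ι.base (g.base y)) = j.base y.1 := by
    intro y
    have := congrArg (fun f => f.base y) hg
    simpa using this
  have hclosed : IsClosed (Set.range g.base) := g.isClosedMap.isClosed_range
  have hdense : Dense (Set.range g.base) := by
    have h1 : Dense (j.base '' (V : Set C)) := hj.dense_image j.continuous hU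
    have h2 : Dense (W.ι.base ⁻¹' (j.base '' (V : Set C))) :=
      h1.preimage W.ι.isOpenEmbedding.isOpenMap
    refine h2.mono ?_
    rintro w ⟨y, hy, hyw⟩
    refine ⟨⟨y, hy⟩, ?_⟩
    apply W.ι.isOpenEmbedding.injective
    rw [hgpt]; exact hyw
  have hsurj : Set.range g.base = Set.univ := by
    rw [← hclosed.closure_eq]; exact hdense.closure_eq
  intro x hx
  obtain ⟨y, hy⟩ := (Set.ext_iff.1 hsurj ⟨x, hx⟩).2 trivial
  refine ⟨y.1, y.2, ?_⟩
  have e := hgpt y
  rw [hy] at e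
  exact e.symm

end Groth.Agent.S18389
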