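import Groth.Statements.S18390
import Mathlib.RingTheory.Ideal.Operations
import Mathlib.RingTheory.Ideal.Maps
import Mathlib.RingTheory.Finiteness.Basic
import Mathlib.Tactic.Ring

set_option autoImplicit false
universe u
open LVCorr

namespace Groth.Agent.S18390

theorem sup_pow_add_le {R : Type u} [CommRing R] (P Q : Ideal R) (n m : ℕ) :
    (P ⊔ Q) ^ (n + m) ≤ P ^ n * (P ⊔ Q) ^ m ⊔ Q ^ m * (P ⊔ Q) ^ n := by
  have key : ∀ i j : ℕ, i + j = n + m → P ^ i * Q ^ j ≤
      P ^ n * (P ⊔ Q) ^ m ⊔ Q ^ m * (P ⊔ Q) ^ n := by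
    intro i j hij
    by_cases hn : n ≤ i
    · refine le_trans ?_ le_sup_left
      obtain ⟨d, rfl⟩ := Nat.exists_eq_add_of_le hn
      have hm : m = d + j := by omega
      rw [pow_add, mul_assoc, hm, pow_add]
      exact Ideal.mul_mono_right (Ideal.mul_mono (Ideal.pow_right_mono le_sup_left d)
        (Ideal.pow_right_mono le_sup_right j))
    · refine le_trans ?_ le_sup_right
      have hmj : m ≤ j := by omega
      obtain ⟨d, rfl⟩ := Nat.exists_eq_add_of_le hmj
      have hn' : n = i + d := by omega
      rw [pow_add, mul_comm (P ^ i), mul_assoc, hn', pow_add, mul_comm (Q ^ d)]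
      exact Ideal.mul_mono_right (Ideal.mul_mono (Ideal.pow_right_mono le_sup_left i)
        (Ideal.pow_right_mono le_sup_right d))
  rw [← Ideal.add_eq_sup, add_pow, Ideal.sum_eq_sup]
  apply Finset.sup_le
  intro i hi
  rw [Finset.mem_range] at hi
  exact Ideal.mul_le_left.trans (key i (n + m - i) (by omega))


/-- In the affine, ring-theoretic form which its proof establishes. Let φ : A' → A be a ring
homomorphism, I' a finitely generated ideal of A' and I an ideal of A containing the image of I'.
Then some power I'^k is mapped into I^(k+1) if and only if for every n ≥ 1 and every a ∈ I'^n there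
is a k with φ(a)^k ∈ I^(nk+1). (Geometrically, for a morphism f : (X, Z) → (X', Z') of pairs with Z
a closed subscheme of the preimage of Z', the normal cone of Z in X is the spectrum of the
associated graded algebra of I, and the second condition says that the induced map of normal cones
sends the normal cone of Z set-theoretically into the zero section Z'; the source states the
equivalence in that language.) -/
theorem result (A' A : Type u) [CommRing A'] [CommRing A]
    (φ : A' →+* A) (I' : Ideal A') (hI' : I'.FG) (I : Ideal A) (hle : I'.map φ ≤ I) :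
    (∃ k : ℕ, (I' ^ k).map φ ≤ I ^ (k + 1)) ↔
      ∀ n : ℕ, 1 ≤ n → ∀ a ∈ I' ^ n, ∃ k : ℕ, 1 ≤ k ∧ φ a ^ k ∈ I ^ (n * k + 1) := by
  constructor
  · rintro ⟨k0, hk0⟩ n hn a ha
    rcases Nat.eq_zero_or_pos k0 with rfl | hk0pos
    · -- `I = ⊤`
      have hI : I = ⊤ := by
        rw [eq_top_iff]
        have : (1 : A) ∈ ((I' ^ 0).map φ) := by
          rw [pow_zero, Ideal.one_eq_top, Ideal.map_top]; trivial
        have h1 := hk0 this
        rw [zero_add, pow_one] at h1
        exact (Ideal.eq_top_iff_one I).2 h1 ▸ le_rfl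
      refine ⟨1, le_rfl, ?_⟩
      rw [hI, Ideal.top_pow]; trivial
    · refine ⟨k0, hk0pos, ?_⟩
      have h1 : a ^ k0 ∈ (I' ^ k0) ^ n := by
        rw [← pow_mul, mul_comm, pow_mul]
        exact Ideal.pow_mem_pow ha k0
      have h2 : φ (a ^ k0) ∈ ((I' ^ k0) ^ n).map φ := Ideal.mem_map_of_mem φ h1
      rw [Ideal.map_pow] at h2
      have h3 : ((I' ^ k0).map φ) ^ n ≤ I ^ (n * k0 + 1) := by
        refine (Ideal.pow_right_mono hk0 n).trans ?_
        rw [← pow_mul]
        apply Ideal.pow_le_pow_right
        nlinarith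
      rw [map_pow] at h2
      exact h3 h2
  · intro h
    -- strengthened invariant
    have key : ∀ J' : Ideal A', J'.FG → J' ≤ I' →
        ∃ k : ℕ, ∀ m : ℕ, (J' ^ k * I' ^ m).map φ ≤ I ^ (k + m + 1) := by
      intro J' hJ'
      refine Submodule.fg_induction (R := A') (M := A')
        (motive := fun (J' : Ideal A') _ => J' ≤ I' →
          ∃ k : ℕ, ∀ m : ℕ, (J' ^ k * I' ^ m).map φ ≤ I ^ (k + m + 1)) ?_ ?_ J' hJ'
      · intro a ha
        have haI : a ∈ I' := ha (Submodule.mem_span_singleton_self a)
        obtain ⟨k, hk1, hk⟩ := h 1 le_rfl a (by rwa [pow_one])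
        refine ⟨k, fun m => ?_⟩
        change ((Ideal.span {a}) ^ k * I' ^ m).map φ ≤ I ^ (k + m + 1)
        rw [Ideal.map_mul, Ideal.map_pow, Ideal.map_pow, Ideal.map_span, Set.image_singleton,
          Ideal.span_singleton_pow]
        have e : k + m + 1 = (1 * k + 1) + m := by ring
        rw [e, pow_add]
        refine Ideal.mul_mono ?_ (Ideal.pow_right_mono hle m)
        rw [Ideal.span_le, Set.singleton_subset_iff]
        exact hk
      · intro J₁ J₂ _ _ h1 h2 hJ
        obtain ⟨k₁, hk₁⟩ := h1 (le_sup_left.trans hJ)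
        obtain ⟨k₂, hk₂⟩ := h2 (le_sup_right.trans hJ)
        refine ⟨k₁ + k₂, fun m => ?_⟩
        have hpow : (J₁ ⊔ J₂) ^ (k₁ + k₂) * I' ^ m ≤
            J₁ ^ k₁ * I' ^ (k₂ + m) ⊔ J₂ ^ k₂ * I' ^ (k₁ + m) := by
          refine (Ideal.mul_mono_left (sup_pow_add_le J₁ J₂ k₁ k₂)).trans ?_
          rw [Ideal.sup_mul]
          apply sup_le_sup
          · rw [mul_assoc, pow_add I']
            exact Ideal.mul_mono_right (Ideal.mul_mono_left (Ideal.pow_right_mono hJ k₂))
          · rw [mul_assoc, pow_add I']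
            exact Ideal.mul_mono_right (Ideal.mul_mono_left (Ideal.pow_right_mono hJ k₁))
        refine (Ideal.map_mono hpow).trans ?_
        rw [Ideal.map_sup]
        apply sup_le
        · refine (hk₁ (k₂ + m)).trans (le_of_eq ?_)
          congr 1; ring
        · refine (hk₂ (k₁ + m)).trans (le_of_eq ?_)
          congr 1; ring
    obtain ⟨k, hk⟩ := key I' hI' le_rfl
    refine ⟨k, ?_⟩
    have := hk 0
    rwa [pow_zero, Ideal.one_eq_top, Ideal.mul_top, add_zero] at this

end Groth.Agent.S18390
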