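import Groth.Statements.S18391
import Groth.Agent.Lib.DVRSpread18

set_option autoImplicit false
universe u
open LVCorr

namespace Groth.Agent.S18391

/-- Let A be a normal (integrally closed) Noetherian domain and z an element of A such that the radical
of the principal ideal (z) is prime. Then there exist elements w, t of A and a natural number r,
with w not in the radical of (z), such that in the localization A[1/w] the ideal generated by z
equals the ideal generated by t^r and the ideal generated by t is prime. (The condition on w is the
one the printed proof produces and the later use of the lemma needs.) -/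
theorem result (A : Type u) [CommRing A] [IsDomain A]
    [IsNoetherianRing A] [IsIntegrallyClosed A] (z : A) (hz : (Ideal.span {z}).radical.IsPrime) :
    ∃ (w t : A) (r : ℕ), w ∉ (Ideal.span {z}).radical ∧
      Ideal.span {algebraMap A (Localization.Away w) z} =
        Ideal.span {algebraMap A (Localization.Away w) t ^ r} ∧
      (Ideal.span {algebraMap A (Localization.Away w) t}).IsPrime := by
  classical
  have hprime : (Ideal.span {z}).radical.IsPrime := hz
  by_cases hz0 : z = 0
  · subst hz0
    have : IsDomain (Localization.Away (1 : A)) :=
      IsLocalization.isDomain_localization (M := Submonoid.powers (1 : A))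
        (powers_le_nonZeroDivisors_of_noZeroDivisors one_ne_zero)
    refine ⟨1, 0, 1, ?_, ?_, ?_⟩
    · intro h
      exact hprime.ne_top ((Ideal.eq_top_iff_one _).mpr h)
    · simp
    · rw [map_zero, Ideal.span_singleton_eq_bot.mpr rfl]
      exact Ideal.isPrime_bot
  · set p := (Ideal.span {z}).radical with hp
    have hzp : z ∈ p := Ideal.le_radical (Ideal.mem_span_singleton_self z)
    have hmin : p ∈ (Ideal.span {z}).minimalPrimes :=
      ⟨⟨hprime, Ideal.le_radical⟩, fun q hq _ => (hq.1.radical_le_iff.mpr hq.2)⟩
    have hht1 : p.height ≤ 1 :=
      Ideal.height_le_one_of_isPrincipal_of_mem_minimalPrimes (Ideal.span {z}) p hmin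
    have hht : ∀ q : Ideal A, q.IsPrime → q < p → q = ⊥ := by
      intro q hq hqp
      have h1 := (Ideal.height_le_iff (n := 1)).mp (by exact_mod_cast hht1) q hq hqp
      have h0 : q.height = 0 := by
        have : q.height < 1 := by exact_mod_cast h1
        exact Order.lt_one_iff.mp this
      exact Ideal.height_eq_zero_iff_eq_bot.mp h0
    obtain ⟨t, htp, hmax, hpow⟩ := Groth.Agent.Lib.DVRSpread18.exists_uniformizer p hht
    have hinj : Function.Injective (algebraMap A (Localization.AtPrime p)) :=
      IsLocalization.injective _ p.primeCompl_le_nonZeroDivisors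
    have hI0 : (Ideal.span {z}).map (algebraMap A (Localization.AtPrime p)) ≠ ⊥ := by
      rw [Ideal.map_span, Set.image_singleton]
      intro h
      rw [Ideal.span_singleton_eq_bot] at h
      exact hz0 (hinj (by rw [h, map_zero]))
    obtain ⟨r, hr⟩ := hpow _ hI0
    have hr' : (Ideal.span {z}).map (algebraMap A (Localization.AtPrime p)) =
        (Ideal.span {t ^ r}).map (algebraMap A (Localization.AtPrime p)) := by
      rw [hr, hmax, Ideal.span_singleton_pow, Ideal.map_span, Set.image_singleton, map_pow]
    obtain ⟨s1, hs1, h1⟩ := Groth.Agent.Lib.DVRSpread18.exists_mul_mem_of_mem_map p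
      (I := Ideal.span {z}) (x := t ^ r)
      (by rw [hr']; exact Ideal.mem_map_of_mem _ (Ideal.mem_span_singleton_self _))
    obtain ⟨s2, hs2, h2⟩ := Groth.Agent.Lib.DVRSpread18.exists_mul_mem_of_mem_map p
      (I := Ideal.span {t ^ r}) (x := z)
      (by rw [← hr']; exact Ideal.mem_map_of_mem _ (Ideal.mem_span_singleton_self _))
    obtain ⟨s3, hs3, h3⟩ := Groth.Agent.Lib.DVRSpread18.exists_mul_forall_mem_of_fg p
      (IsNoetherian.noetherian p) (I := Ideal.span {t})
      (by rw [Localization.AtPrime.map_eq_maximalIdeal, hmax, Ideal.map_span,
            Set.image_singleton])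
    have hw : s1 * s2 * s3 ∉ p := fun h =>
      (hprime.mem_or_mem h).elim (fun h' => (hprime.mem_or_mem h').elim hs1 hs2) hs3
    refine ⟨s1 * s2 * s3, t, r, hw, ?_, ?_⟩
    · apply le_antisymm
      · rw [Ideal.span_singleton_le_iff_mem]
        have := Groth.Agent.Lib.DVRSpread18.mem_map_away_of_mul_mem (w := s1 * s2 * s3) h2
          ⟨s1 * s3, by ring⟩
        rwa [Ideal.map_span, Set.image_singleton, map_pow] at this
      · rw [Ideal.span_singleton_le_iff_mem]
        have := Groth.Agent.Lib.DVRSpread18.mem_map_away_of_mul_mem (w := s1 * s2 * s3) h1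
          ⟨s2 * s3, by ring⟩
        rwa [Ideal.map_span, Set.image_singleton, map_pow] at this
    · have heq : Ideal.span {algebraMap A (Localization.Away (s1 * s2 * s3)) t} =
          p.map (algebraMap A (Localization.Away (s1 * s2 * s3))) := by
        apply le_antisymm
        · rw [Ideal.span_singleton_le_iff_mem]
          exact Ideal.mem_map_of_mem _ htp
        · rw [Ideal.map_le_iff_le_comap]
          intro x hx
          have := Groth.Agent.Lib.DVRSpread18.mem_map_away_of_mul_mem (w := s1 * s2 * s3)
            (h3 x hx) ⟨s1 * s2, by ring⟩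
          rwa [Ideal.map_span, Set.image_singleton] at this
      rw [heq]
      refine IsLocalization.isPrime_of_isPrime_disjoint (Submonoid.powers (s1 * s2 * s3)) _ p
        hprime ?_
      exact (Ideal.disjoint_powers_iff_notMem_of_isPrime _).mpr hw

end Groth.Agent.S18391
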