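import Groth.Statements.S18392
import Mathlib.RingTheory.Ideal.KrullsHeightTheorem
import Mathlib.RingTheory.Ideal.MinimalPrime.Noetherian

set_option autoImplicit false
universe u
open LVCorr

namespace Groth.Agent.S18392

/-- Let A be a normal (integrally closed) Noetherian domain and z an element of A such that the radical
of (z) is prime. Then for every non-empty open subset V of Spec A contained in the basic open set
D(z) (that is, every non-empty open subset of Spec A[1/z]) there is an element x of A, not in the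
radical of (z), such that the basic open set D(xz) = Spec A[1/xz] is contained in V. -/
theorem result (A : Type u) [CommRing A]
    [IsDomain A] [IsNoetherianRing A] [IsIntegrallyClosed A] (z : A)
    (hz : (Ideal.span {z}).radical.IsPrime) (V : Set (PrimeSpectrum A)) (hV : IsOpen V)
    (hVz : V ⊆ (PrimeSpectrum.basicOpen z : Set (PrimeSpectrum A))) (hne : V.Nonempty) :
    ∃ x : A, x ∉ (Ideal.span {z}).radical ∧
      ((PrimeSpectrum.basicOpen (x * z) : TopologicalSpace.Opens (PrimeSpectrum A)) :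
        Set (PrimeSpectrum A)) ⊆ V := by
  classical
  set 𝔭 : Ideal A := (Ideal.span {z}).radical with h𝔭
  -- 𝔭 is a minimal prime of (z), hence of height ≤ 1
  have h𝔭min : 𝔭 ∈ (Ideal.span {z}).minimalPrimes := by
    rw [← Ideal.radical_minimalPrimes, Ideal.minimalPrimes_eq_subsingleton_self]
    rfl
  have hht : 𝔭.height ≤ 1 :=
    Ideal.height_le_one_of_isPrincipal_of_mem_minimalPrimes (Ideal.span {z}) 𝔭 h𝔭min
  have hz𝔭 : z ∈ 𝔭 := Ideal.le_radical (Ideal.subset_span rfl)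
  -- pick a basic open in V
  obtain ⟨pt, hpt⟩ := hne
  obtain ⟨_, ⟨g, rfl⟩, hptg, hgV⟩ :=
    PrimeSpectrum.isTopologicalBasis_basic_opens.exists_subset_of_mem_open hpt hV
  have hg𝔭 : g ∈ 𝔭 := by
    have : PrimeSpectrum.basicOpen g ≤ PrimeSpectrum.basicOpen z := fun p hp => hVz (hgV hp)
    exact (PrimeSpectrum.basicOpen_le_basicOpen_iff g z).mp this
  have hg0 : g ≠ 0 := by
    rintro rfl
    exact hptg (by simp)
  -- finitely many minimal primes of (g)
  have hfin : (Ideal.span {g}).minimalPrimes.Finite :=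
    Ideal.finite_minimalPrimes_of_isNoetherianRing A (Ideal.span {g})
  set S : Finset (Ideal A) := hfin.toFinset.erase 𝔭 with hS
  have hnot : ¬ (S.inf id ≤ 𝔭) := by
    intro hle
    obtain ⟨𝔮, h𝔮S, h𝔮le⟩ := (Ideal.IsPrime.inf_le' hz).mp hle
    rw [hS, Finset.mem_erase, Set.Finite.mem_toFinset] at h𝔮S
    obtain ⟨h𝔮ne, h𝔮min⟩ := h𝔮S
    have h𝔮prime : 𝔮.IsPrime := h𝔮min.1.1
    have h𝔮lt : 𝔮 < 𝔭 := lt_of_le_of_ne h𝔮le h𝔮ne
    have hg𝔮 : g ∈ 𝔮 := h𝔮min.1.2 (Ideal.subset_span rfl)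
    have h1 : 𝔮.height + 1 ≤ 𝔭.height := Ideal.height_add_one_le_of_lt_of_isPrime h𝔮lt
    have h2 : 𝔮.height = 0 := by
      have h3 : 𝔮.height + 1 ≤ 1 := h1.trans hht
      by_contra hne0
      have h4 : 1 ≤ 𝔮.height := Order.one_le_iff_pos.mpr (pos_iff_ne_zero.mpr hne0)
      have h5 : (1 : ℕ∞) + 1 ≤ 1 := (add_le_add_left h4 1).trans h3
      exact absurd h5 (by decide)
    rw [Ideal.height_eq_zero_iff_eq_bot] at h2
    rw [h2] at hg𝔮
    exact hg0 (by simpa using hg𝔮)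
  obtain ⟨x, hxS, hx𝔭⟩ := Set.not_subset.mp hnot
  refine ⟨x, hx𝔭, ?_⟩
  intro P hP
  apply hgV
  change g ∉ P.asIdeal
  intro hgP
  have hxz : x * z ∉ P.asIdeal := hP
  have hxP : x ∉ P.asIdeal := fun h => hxz (P.asIdeal.mul_mem_right _ h)
  have hzP : z ∉ P.asIdeal := fun h => hxz (P.asIdeal.mul_mem_left _ h)
  have hle : Ideal.span {g} ≤ P.asIdeal := by
    rw [Ideal.span_le]
    intro y hy
    rw [Set.mem_singleton_iff] at hy
    rw [hy]; exact hgP
  obtain ⟨𝔮, h𝔮min, h𝔮P⟩ := Ideal.exists_minimalPrimes_le hle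
  by_cases h𝔮 : 𝔮 = 𝔭
  · exact hzP (h𝔮P (h𝔮 ▸ hz𝔭))
  · have h𝔮S : 𝔮 ∈ S := by
      rw [hS, Finset.mem_erase, Set.Finite.mem_toFinset]
      exact ⟨h𝔮, h𝔮min⟩
    have : S.inf id ≤ 𝔮 := Finset.inf_le (f := id) h𝔮S
    exact hxP (h𝔮P (this hxS))

end Groth.Agent.S18392
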