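import Groth.Statements.S18393
-- import your own Groth.Agent.* helpers here

set_option autoImplicit false
universe u v
open LVCorr

namespace Groth.Agent.S18393

/-- Stated for the underlying continuous maps. Let c₁, c₂ : C → X be continuous maps with C a Noetherian
topological space, let Z be a closed subset of X and B the closure in C of c₂⁻¹(Z) ∖ c₁⁻¹(Z). Call Z
locally invariant when every point x of Z has an open neighbourhood U such that every y in C with
c₂(y) ∈ Z ∩ U and c₁(y) ∈ U satisfies c₁(y) ∈ Z. Then Z is locally invariant if and only if for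
every irreducible subset T of B the closures of c₁(T) and of c₂(T) in X are disjoint. (The source
states this for a correspondence c = (c₁, c₂) : C → X × X of separated schemes of finite type over
an algebraically closed field and for the irreducible components of B; the condition for all
irreducible subsets of B is the same condition.) -/
theorem result {C : Type u} {X : Type v}
    [TopologicalSpace C] [TopologicalSpace X] [TopologicalSpace.NoetherianSpace C]
    (c₁ c₂ : C → X) (hc₁ : Continuous c₁) (hc₂ : Continuous c₂) (Z : Set X) (hZ : IsClosed Z) :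
    (∀ x ∈ Z, ∃ U : Set X, IsOpen U ∧ x ∈ U ∧
        ∀ y : C, c₂ y ∈ Z → c₂ y ∈ U → c₁ y ∈ U → c₁ y ∈ Z) ↔
      ∀ T : Set C, T ⊆ closure (c₂ ⁻¹' Z \ c₁ ⁻¹' Z) → IsIrreducible T →
        closure (c₁ '' T) ∩ closure (c₂ '' T) = ∅ := by
  have hBsub : closure (c₂ ⁻¹' Z \ c₁ ⁻¹' Z) ⊆ c₂ ⁻¹' Z :=
    closure_minimal (fun y hy => hy.1) (hZ.preimage hc₂)
  constructor
  · intro hLI T hT hTirr
    by_contra hne
    obtain ⟨x, hx1, hx2⟩ := Set.nonempty_iff_ne_empty.mpr hne
    have hxZ : x ∈ Z := by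
      have : closure (c₂ '' T) ⊆ Z := by
        apply closure_minimal _ hZ
        rintro _ ⟨y, hy, rfl⟩
        exact hBsub (hT hy)
      exact this hx2
    obtain ⟨U, hUo, hxU, hU⟩ := hLI x hxZ
    -- T meets c₁⁻¹ U and c₂⁻¹ U
    obtain ⟨_, hu1, ⟨y1, hy1T, rfl⟩⟩ := mem_closure_iff.mp hx1 U hUo hxU
    obtain ⟨_, hu2, ⟨y2, hy2T, rfl⟩⟩ := mem_closure_iff.mp hx2 U hUo hxU
    obtain ⟨y, hyT, hy1, hy2⟩ := hTirr.2 (c₁ ⁻¹' U) (c₂ ⁻¹' U) (hUo.preimage hc₁) (hUo.preimage hc₂)
      ⟨y1, hy1T, hu1⟩ ⟨y2, hy2T, hu2⟩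
    -- the open set c₁⁻¹ U ∩ c₂⁻¹ U meets the closure, hence the set itself
    obtain ⟨w, ⟨hw1, hw2⟩, hwD⟩ := mem_closure_iff.mp (hT hyT) (c₁ ⁻¹' U ∩ c₂ ⁻¹' U)
      ((hUo.preimage hc₁).inter (hUo.preimage hc₂)) ⟨hy1, hy2⟩
    exact hwD.2 (hU w hwD.1 hw2 hw1)
  · intro hR x hxZ
    obtain ⟨S, hSf, hSc, hSi, hSU⟩ :=
      TopologicalSpace.NoetherianSpace.exists_finite_set_isClosed_irreducible
        (isClosed_closure : IsClosed (closure (c₂ ⁻¹' Z \ c₁ ⁻¹' Z)))
    -- for each irreducible piece choose a closed set avoiding x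
    have hchoice : ∀ T ∈ S, ∃ K : Set X, IsClosed K ∧ x ∉ K ∧
        (K = closure (c₁ '' T) ∨ K = closure (c₂ '' T)) := by
      intro T hT
      have hTsub : T ⊆ closure (c₂ ⁻¹' Z \ c₁ ⁻¹' Z) := by
        rw [hSU]; exact Set.subset_sUnion_of_mem hT
      have hdisj := hR T hTsub (hSi T hT)
      by_cases hx1 : x ∈ closure (c₁ '' T)
      · refine ⟨closure (c₂ '' T), isClosed_closure, ?_, Or.inr rfl⟩
        intro hx2
        have : x ∈ closure (c₁ '' T) ∩ closure (c₂ '' T) := ⟨hx1, hx2⟩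
        rw [hdisj] at this
        exact this
      · exact ⟨closure (c₁ '' T), isClosed_closure, hx1, Or.inl rfl⟩
    choose! K hKc hKx hK using hchoice
    refine ⟨⋂ T ∈ S, (K T)ᶜ, hSf.isOpen_biInter fun T hT => (hKc T hT).isOpen_compl, ?_, ?_⟩
    · simp only [Set.mem_iInter, Set.mem_compl_iff]
      exact fun T hT => hKx T hT
    · intro y hy2Z hy2U hy1U
      by_contra hy1Z
      have hyB : y ∈ closure (c₂ ⁻¹' Z \ c₁ ⁻¹' Z) := subset_closure ⟨hy2Z, hy1Z⟩
      rw [hSU] at hyB
      obtain ⟨T, hTS, hyT⟩ := hyB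
      simp only [Set.mem_iInter, Set.mem_compl_iff] at hy1U hy2U
      rcases hK T hTS with h | h
      · apply hy1U T hTS
        rw [h]
        exact subset_closure ⟨y, hyT, rfl⟩
      · apply hy2U T hTS
        rw [h]
        exact subset_closure ⟨y, hyT, rfl⟩

end Groth.Agent.S18393
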