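import Groth.Statements.S18397
import Mathlib
import Groth.Agent.Lib.FrobContract37b

set_option autoImplicit false
universe u
open LVCorr

namespace Groth.Agent.S18397

open AlgebraicGeometry CategoryTheory CategoryTheory.Limits Groth.Agent.Lib.FrobContract37
  Groth.Agent.Lib.FrobContract37b

open AlgebraicGeometry CategoryTheory CategoryTheory.Limits in
/-- Let k₀ be a finite field with p^e elements, K an algebraic closure of k₀, C₀ a scheme locally of
finite type over k₀, C = C₀ ×_{k₀} Spec K with its projections, and Fr : C → C the n-th power of the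
geometric Frobenius (over K, compatible with the (e·n)-th power of the absolute p-Frobenius of C₀).
Let X be locally of finite type over K and c₁, c₂ : C → X morphisms over K with c₂ quasi-finite, and
let d < p^(e n) be such that for every closed point x of X, with J_x the inverse image under c₂ of
the ideal sheaf of the reduced point x, one has (√J_x)^d ⊂ J_x (d bounds the ramification of c₂).
Then the twisted correspondence (c₁ ∘ Fr, c₂) is contracting near every closed point in a
neighbourhood of its fixed points: for every closed point x of X there is an open subset W of C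
containing every point of C whose image under (c₁ ∘ Fr, c₂) : C → X ×_K X lies in the diagonal, such
that, writing L and J for the inverse image ideal sheaves on W of the ideal of x under c₁ ∘ Fr and
under c₂, one has L ⊂ J and L^k ⊂ J^(k+1) for some k. (In the source the correspondence is defined
over k₀ and the twist is written with the geometric Frobenius of X.) -/
theorem result {C C₀ X : Scheme.{u}}
    (p : ℕ) [Fact p.Prime] (k₀ : Type u) [Field k₀] [Fintype k₀] [CharP k₀ p] (e : ℕ)
    (hq : Fintype.card k₀ = p ^ e) (K : Type u) [Field K] [Algebra k₀ K] [IsAlgClosure k₀ K]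
    (f₀ : C₀ ⟶ Spec (CommRingCat.of k₀)) [LocallyOfFiniteType f₀] [FrobSch.IsCharP C₀ p]
    (πC₀ : C ⟶ C₀) (πK : C ⟶ Spec (CommRingCat.of K))
    (hC : IsPullback πC₀ πK f₀ (Spec.map (CommRingCat.ofHom (algebraMap k₀ K))))
    (n : ℕ) (Fr : C ⟶ C)
    (hFr₀ : Fr ≫ πC₀ = πC₀ ≫ End.asHom (End.of (FrobSch.frob C₀ p) ^ (e * n)))
    (hFrK : Fr ≫ πK = πK)
    (pX : X ⟶ Spec (CommRingCat.of K)) [LocallyOfFiniteType pX]
    (c₁ c₂ : C ⟶ X) (hc₁ : c₁ ≫ pX = πK) (hc₂ : c₂ ≫ pX = πK)
    [LocallyQuasiFinite c₂] [LocallyOfFiniteType c₂]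
    (hcomm : (Fr ≫ c₁) ≫ pX = c₂ ≫ pX) (d : ℕ) (hn : d < p ^ (e * n))
    (hd : ∀ (x : X) (hx : IsClosed ({x} : Set X)),
      ((Scheme.IdealSheafData.vanishingIdeal ⟨{x}, hx⟩).comap c₂).radical ^ d ≤
        (Scheme.IdealSheafData.vanishingIdeal ⟨{x}, hx⟩).comap c₂)
    (x : X) (hx : IsClosed ({x} : Set X)) :
    ∃ W : C.Opens,
      (pullback.lift (Fr ≫ c₁) c₂ hcomm).base ⁻¹' Set.range (pullback.diagonal pX).base ⊆ (W : Set C) ∧
      (Scheme.IdealSheafData.vanishingIdeal ⟨{x}, hx⟩).comap (W.ι ≫ Fr ≫ c₁) ≤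
        (Scheme.IdealSheafData.vanishingIdeal ⟨{x}, hx⟩).comap (W.ι ≫ c₂) ∧
      ∃ k : ℕ, (Scheme.IdealSheafData.vanishingIdeal ⟨{x}, hx⟩).comap (W.ι ≫ Fr ≫ c₁) ^ k ≤
        (Scheme.IdealSheafData.vanishingIdeal ⟨{x}, hx⟩).comap (W.ι ≫ c₂) ^ (k + 1) := by
  have hK : IsAlgClosed K := IsAlgClosure.isAlgClosed k₀
  set Ix := Scheme.IdealSheafData.vanishingIdeal ⟨{x}, hx⟩ with hIx
  have hsupp : (Ix.support : Set X) = {x} := Scheme.IdealSheafData.coe_support_vanishingIdeal _
  let R : Set C := {y | c₂.base y = x ∧ (Fr ≫ c₁).base y ≠ x}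
  have hRcl : IsClosed R :=
    isClosed_of_subset_of_isClosed_of_isDiscrete (D := c₂.base ⁻¹' {x}) (fun y hy ↦ hy.1)
      (hx.preimage c₂.continuous) (c₂.isDiscrete_preimage_singleton x)
  let W : C.Opens := ⟨Rᶜ, hRcl.isOpen_compl⟩
  have hWmem : ∀ w : W, c₂.base w.1 = x → (Fr ≫ c₁).base w.1 = x := by
    intro w hw
    by_contra hne
    exact w.2 ⟨hw, hne⟩
  refine ⟨W, ?_, ?_⟩
  · rintro y ⟨z, hz⟩
    have h1 : (Fr ≫ c₁).base y = z := by
      have e1 : (pullback.lift (Fr ≫ c₁) c₂ hcomm ≫ pullback.fst pX pX).base y =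
          (pullback.diagonal pX ≫ pullback.fst pX pX).base z := by
        change (pullback.fst pX pX).base ((pullback.lift (Fr ≫ c₁) c₂ hcomm).base y) =
          (pullback.fst pX pX).base ((pullback.diagonal pX).base z)
        rw [hz]
      rw [pullback.lift_fst, pullback.diagonal_fst] at e1
      exact e1
    have h2 : c₂.base y = z := by
      have e1 : (pullback.lift (Fr ≫ c₁) c₂ hcomm ≫ pullback.snd pX pX).base y =
          (pullback.diagonal pX ≫ pullback.snd pX pX).base z := by
        change (pullback.snd pX pX).base ((pullback.lift (Fr ≫ c₁) c₂ hcomm).base y) =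
          (pullback.snd pX pX).base ((pullback.diagonal pX).base z)
        rw [hz]
      rw [pullback.lift_snd, pullback.diagonal_snd] at e1
      exact e1
    intro hyR
    exact hyR.2 (h1.trans (h2.symm.trans hyR.1))
  · set j := W.ι with hj
    have hLW : Ix.comap (j ≫ Fr ≫ c₁) = (Ix.comap (Fr ≫ c₁)).comap j :=
      Scheme.IdealSheafData.comap_comp _ _ _
    have hJW : Ix.comap (j ≫ c₂) = (Ix.comap c₂).comap j :=
      Scheme.IdealSheafData.comap_comp _ _ _
    have a1 : Ix.comap (j ≫ Fr ≫ c₁) ≤ (Ix.comap (j ≫ Fr ≫ c₁)).radical ^ (p ^ (e * n)) := by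
      have h0 := comap_le_radical_pow p k₀ K f₀ πC₀ πK hC (e * n) Fr hFr₀ hFrK (Ix.comap c₁)
      rw [← Scheme.IdealSheafData.comap_comp] at h0
      have h0' := Scheme.IdealSheafData.comap_mono j h0
      simp only at h0'
      rw [Groth.Agent.Lib.IdealSheafComap.comap_pow, comap_radical_of_isOpenImmersion, ← hLW] at h0'
      exact h0'
    have a2 : (Ix.comap (j ≫ Fr ≫ c₁)).radical ≤ (Ix.comap (j ≫ c₂)).radical := by
      rw [← Scheme.IdealSheafData.vanishingIdeal_support,
        ← Scheme.IdealSheafData.vanishingIdeal_support]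
      apply Scheme.IdealSheafData.vanishingIdeal_antimono
      rw [Scheme.IdealSheafData.support_comap, Scheme.IdealSheafData.support_comap]
      intro w hw
      have hw' : (j ≫ c₂).base w ∈ (Ix.support : Set X) := hw
      rw [hsupp, Set.mem_singleton_iff] at hw'
      have : (j ≫ Fr ≫ c₁).base w ∈ (Ix.support : Set X) := by
        rw [hsupp, Set.mem_singleton_iff]
        exact hWmem w hw'
      exact this
    have a3 : (Ix.comap (j ≫ c₂)).radical ^ d ≤ Ix.comap (j ≫ c₂) := by
      have h0' := Scheme.IdealSheafData.comap_mono j (hd x hx)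
      simp only at h0'
      rw [Groth.Agent.Lib.IdealSheafComap.comap_pow, comap_radical_of_isOpenImmersion, ← hJW] at h0'
      exact h0'
    obtain ⟨b1, b2⟩ := contract_of_le_radical_pow _ _ _ _ a1 a2 a3 hn
    exact ⟨b1, d, b2⟩

end Groth.Agent.S18397
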