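import Groth.Statements.S18403
import Groth.Agent.Lib.H79Cubic9

set_option autoImplicit false
universe u
open Cubic
open Groth.Agent.Lib.H79Cubic

namespace Groth.Agent.S18403

open MvPolynomial in
/-- Let f be a nonzero homogeneous cubic in three variables over ℂ whose plane curve is smooth (at every
nonzero zero of f some partial derivative of f is nonzero). Then f is projectively equivalent to a
Hesse cubic: there are an invertible matrix A, a constant c ≠ 0 and a parameter k with k³ ≠ 1 such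
that the linear substitution X_i ↦ Σ_j A_ij X_j carries f to c · (X₀³ + X₁³ + X₂³ − 3k·X₀X₁X₂). -/
theorem result (f : MvPolynomial (Fin 3) ℂ) (hf : f.IsHomogeneous 3)
    (hf0 : f ≠ 0) (hsm : ∀ v : Fin 3 → ℂ, v ≠ 0 → eval v f = 0 → ∃ i : Fin 3, eval v (pderiv i f) ≠ 0) :
    ∃ (A : Matrix (Fin 3) (Fin 3) ℂ) (k c : ℂ), IsUnit A.det ∧ k ^ 3 ≠ 1 ∧ c ≠ 0 ∧
      aeval (fun i : Fin 3 => ∑ j : Fin 3, C (A i j) * X j) f = C c * HesseCubic.form k := by
  classical
  open MvPolynomial in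
  have hS := symTri_smooth hf hsm
  obtain ⟨S, hSdef⟩ : ∃ S, S = symTri f := ⟨_, rfl⟩
  have hSF : ∀ v, S.F v = eval v f := by intro v; rw [hSdef]; exact symTri_F hf v
  have hdim : Module.finrank ℂ (Fin 3 → ℂ) = 3 := by simp
  obtain ⟨v, u, hv, hFv, hli, hall⟩ := exists_flex hf hS
  rw [← hSdef] at hS hFv hall
  obtain ⟨μ, hμ⟩ := S.refl_of_tangent hdim hS hFv hli (hall v) (hall u)
  obtain ⟨p, μp, hμp, hFp, hlip⟩ := S.exists_second_flex hdim hS hμ hFv
  obtain ⟨b0, b1, b2, hli3, h01, h02, h10, h12, h20, h21⟩ :=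
    S.exists_diag_basis hdim hS hμ hμp hFv hFp hlip
  obtain ⟨c0, c1, c2, k, hlic, hk, hform⟩ :=
    S.exists_hesse_basis hdim hS hli3 h01 h02 h10 h12 h20 h21
  obtain ⟨A, hA⟩ : ∃ A : Matrix (Fin 3) (Fin 3) ℂ, A = Matrix.of (fun i j => ![c0, c1, c2] j i) :=
    ⟨_, rfl⟩
  have hmul : ∀ w : Fin 3 → ℂ, A.mulVec w = w 0 • c0 + w 1 • c1 + w 2 • c2 := by
    intro w
    funext i
    rw [hA]
    simp only [Matrix.mulVec, dotProduct, Matrix.of_apply, Fin.sum_univ_three,
      Matrix.cons_val_zero, Matrix.cons_val_one, Matrix.cons_val_two, Matrix.head_cons,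
      Matrix.tail_cons, Pi.add_apply, Pi.smul_apply, smul_eq_mul]
    ring
  refine ⟨A, k, 1, ?_, hk, one_ne_zero, ?_⟩
  · rw [← Matrix.isUnit_iff_isUnit_det, ← Matrix.linearIndependent_cols_iff_isUnit]
    have : A.col = ![c0, c1, c2] := by
      funext j i
      rw [hA]; rfl
    rw [this]; exact hlic
  · apply MvPolynomial.funext
    intro w
    rw [eval_aeval_subst, hmul, ← hSF, hform]
    simp [HesseCubic.form]

end Groth.Agent.S18403
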