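import Groth.Statements.S18405
import Groth.Agent.S18403
import Groth.Agent.S18404

set_option autoImplicit false
universe u
open Cubic
open Groth.Agent.Lib.H79Cubic

namespace Groth.Agent.S18405

open MvPolynomial in
/-- Let f be a nonzero homogeneous cubic in three variables over ℂ whose plane curve is smooth (at every
nonzero zero of f some partial derivative is nonzero), and let A be an invertible matrix whose
linear substitution X_i ↦ Σ_j A_ij X_j multiplies f by a constant, so that v ↦ A·v is a projective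
automorphism of the curve. If A·v is proportional to v for every flex v of the curve (every nonzero
zero v of f through which some line meets the curve with multiplicity three: there is w linearly
independent from v with f(v + t·w) = t³·f(w) for all t), then A is a scalar matrix: the projective
automorphisms of a smooth plane cubic act faithfully on its flexes. -/
theorem result (f : MvPolynomial (Fin 3) ℂ) (hf : f.IsHomogeneous 3)
    (hf0 : f ≠ 0) (hsm : ∀ v : Fin 3 → ℂ, v ≠ 0 → eval v f = 0 → ∃ i : Fin 3, eval v (pderiv i f) ≠ 0)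
    (A : Matrix (Fin 3) (Fin 3) ℂ) (hA : IsUnit A.det)
    (hAf : ∃ c : ℂ, aeval (fun i : Fin 3 => ∑ j : Fin 3, C (A i j) * X j) f = C c * f)
    (hfix : ∀ v : Fin 3 → ℂ, v ≠ 0 → eval v f = 0 →
      (∃ w : Fin 3 → ℂ, LinearIndependent ℂ ![v, w] ∧ ∀ t : ℂ, eval (v + t • w) f = t ^ 3 * eval w f) →
      ∃ d : ℂ, A.mulVec v = d • v) :
    ∃ c : ℂ, A = c • (1 : Matrix (Fin 3) (Fin 3) ℂ) := by
  classical
  open MvPolynomial in
  obtain ⟨B, k, c0, hB, hk, hc0, hBf⟩ := Groth.Agent.S18403.result f hf hf0 hsm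
  have hBev : ∀ w : Fin 3 → ℂ, eval (B.mulVec w) f = c0 * eval w (HesseCubic.form k) := by
    intro w
    rw [← eval_aeval_subst, hBf]; simp
  have hBinj : Function.Injective B.mulVec := by
    rw [Matrix.mulVec_injective_iff_isUnit, Matrix.isUnit_iff_isUnit_det]; exact hB
  obtain ⟨ω, hω1, hω3, hωne, hω2ne, hω0⟩ := exists_omega
  -- flexes of the Hesse cubic are carried to flexes of f, hence fixed by A
  have key : ∀ P : Fin 3 → ℂ, P ≠ 0 → eval P (HesseCubic.form k) = 0 →
      (∃ γ c : ℂ, γ ^ 3 = 1 ∧ (P = c • ![0, 1, -γ] ∨ P = c • ![-γ, 0, 1] ∨ P = c • ![1, -γ, 0])) →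
      ∃ d : ℂ, A.mulVec (B.mulVec P) = d • B.mulVec P := by
    intro P hP hPh hP9
    obtain ⟨w, hwli, hw⟩ := (Groth.Agent.S18404.result k hk P hP hPh).mpr hP9
    apply hfix
    · intro h
      apply hP
      apply hBinj
      rw [h, Matrix.mulVec_zero]
    · rw [hBev, hPh, mul_zero]
    · refine ⟨B.mulVec w, ?_, ?_⟩
      · have := hwli.map' (Matrix.mulVecLin B) (by
          rw [LinearMap.ker_eq_bot]; exact hBinj)
        have h2 : (⇑(Matrix.mulVecLin B) ∘ ![P, w]) = ![B.mulVec P, B.mulVec w] := by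
          funext i
          fin_cases i <;> rfl
        rw [h2] at this
        exact this
      · intro t
        rw [← Matrix.mulVec_smul, ← Matrix.mulVec_add, hBev, hBev, hw t]; ring
  have hform : ∀ x y z : ℂ, eval ![x, y, z] (HesseCubic.form k)
      = x ^ 3 + y ^ 3 + z ^ 3 - 3 * k * (x * y * z) := by
    intro x y z
    simp [HesseCubic.form]
  have hne : ∀ x y z : ℂ, z ≠ 0 → (![x, y, z] : Fin 3 → ℂ) ≠ 0 := by
    intro x y z hz h
    have := congrFun h 2
    simp at this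
    exact hz this
  obtain ⟨d1, hd1⟩ := key ![0, 1, -1] (hne _ _ _ (by norm_num)) (by rw [hform]; ring)
    ⟨1, 1, by norm_num, Or.inl (by rw [one_smul])⟩
  obtain ⟨d2, hd2⟩ := key ![0, 1, -ω] (hne _ _ _ (neg_ne_zero.mpr hω0))
    (by rw [hform]; linear_combination -hω3) ⟨ω, 1, hω3, Or.inl (by rw [one_smul])⟩
  obtain ⟨d3, hd3⟩ := key ![-1, 0, 1] (hne _ _ _ one_ne_zero) (by rw [hform]; ring)
    ⟨1, 1, by norm_num, Or.inr (Or.inl (by rw [one_smul]))⟩
  obtain ⟨d4, hd4⟩ := key ![-ω, 0, 1] (hne _ _ _ one_ne_zero)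
    (by rw [hform]; linear_combination -hω3) ⟨ω, 1, hω3, Or.inr (Or.inl (by rw [one_smul]))⟩
  obtain ⟨q1, hq1⟩ : ∃ q1, q1 = B.mulVec ![0, 1, -1] := ⟨_, rfl⟩
  obtain ⟨q2, hq2⟩ : ∃ q2, q2 = B.mulVec ![0, 1, -ω] := ⟨_, rfl⟩
  obtain ⟨q3, hq3⟩ : ∃ q3, q3 = B.mulVec ![-1, 0, 1] := ⟨_, rfl⟩
  rw [← hq1] at hd1
  rw [← hq2] at hd2
  rw [← hq3] at hd3
  have hP4 : (![-ω, 0, 1] : Fin 3 → ℂ)
      = (-1:ℂ) • ![0, 1, -1] + (1:ℂ) • ![0, 1, -ω] + ω • ![-1, 0, 1] := by
    funext i
    fin_cases i <;> simp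
  have hq4 : B.mulVec ![-ω, 0, 1] = (-1:ℂ) • q1 + (1:ℂ) • q2 + ω • q3 := by
    rw [hP4, Matrix.mulVec_add, Matrix.mulVec_add, Matrix.mulVec_smul, Matrix.mulVec_smul,
      Matrix.mulVec_smul, hq1, hq2, hq3]
  rw [hq4] at hd4
  have hliP : LinearIndependent ℂ ![(![0, 1, -1] : Fin 3 → ℂ), ![0, 1, -ω], ![-1, 0, 1]] := by
    rw [Fintype.linearIndependent_iff]
    intro c hc
    simp only [Fin.sum_univ_three, Matrix.cons_val_zero, Matrix.cons_val_one,
      Matrix.cons_val_two, Matrix.head_cons, Matrix.tail_cons] at hc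
    have h0 := congrFun hc 0
    have h1 := congrFun hc 1
    have h2 := congrFun hc 2
    simp at h0 h1 h2
    have hc2 : c 2 = 0 := h0
    have hc0 : c 0 = 0 := by
      have : c 0 * (ω - 1) = 0 := by linear_combination h2 + ω * h1 - hc2
      exact (mul_eq_zero.mp this).resolve_right (sub_ne_zero.mpr hωne)
    have hc1 : c 1 = 0 := by linear_combination h1 - hc0
    intro i
    fin_cases i
    · exact hc0
    · exact hc1
    · exact hc2
  have hliq : LinearIndependent ℂ ![q1, q2, q3] := by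
    have := hliP.map' (Matrix.mulVecLin B) (by rw [LinearMap.ker_eq_bot]; exact hBinj)
    have h2 : (⇑(Matrix.mulVecLin B) ∘ ![(![0, 1, -1] : Fin 3 → ℂ), ![0, 1, -ω], ![-1, 0, 1]])
        = ![q1, q2, q3] := by
      funext i
      fin_cases i
      · exact hq1.symm
      · exact hq2.symm
      · exact hq3.symm
    rw [h2] at this
    exact this
  -- all eigenvalues agree
  have hd : d1 = d4 ∧ d2 = d4 ∧ d3 = d4 := by
    have e : A.mulVec ((-1:ℂ) • q1 + (1:ℂ) • q2 + ω • q3)
        = (-1:ℂ) • d1 • q1 + (1:ℂ) • d2 • q2 + ω • d3 • q3 := by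
      rw [Matrix.mulVec_add, Matrix.mulVec_add, Matrix.mulVec_smul, Matrix.mulVec_smul,
        Matrix.mulVec_smul, hd1, hd2, hd3]
    rw [hd4] at e
    have e' : ((-1:ℂ) * (d4 - d1)) • q1 + ((1:ℂ) * (d4 - d2)) • q2 + (ω * (d4 - d3)) • q3 = 0 := by
      have : ((-1:ℂ) * (d4 - d1)) • q1 + ((1:ℂ) * (d4 - d2)) • q2 + (ω * (d4 - d3)) • q3
          = d4 • ((-1:ℂ) • q1 + (1:ℂ) • q2 + ω • q3)
            - ((-1:ℂ) • d1 • q1 + (1:ℂ) • d2 • q2 + ω • d3 • q3) := by module
      rw [this, e, sub_self]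
    obtain ⟨h1, h2, h3⟩ := li3_coeff hliq e'
    refine ⟨?_, ?_, ?_⟩
    · have := (mul_eq_zero.mp h1).resolve_left (by norm_num)
      linear_combination -this
    · have := (mul_eq_zero.mp h2).resolve_left one_ne_zero
      linear_combination -this
    · have := (mul_eq_zero.mp h3).resolve_left hω0
      linear_combination -this
  obtain ⟨e1, e2, e3⟩ := hd
  refine ⟨d4, ?_⟩
  apply matrix_ext_mulVec
  intro w
  have hdim : Module.finrank ℂ (Fin 3 → ℂ) = 3 := by simp
  obtain ⟨x, y, z, rfl⟩ := SymTri.span3 hdim hliq w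
  rw [Matrix.mulVec_add, Matrix.mulVec_add, Matrix.mulVec_smul, Matrix.mulVec_smul,
    Matrix.mulVec_smul, hd1, hd2, hd3, e1, e2, e3, Matrix.smul_mulVec, Matrix.one_mulVec]
  module

end Groth.Agent.S18405
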