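import Groth.Statements.S18406
import Groth.Agent.Lib.H79Cubic5

set_option autoImplicit false
universe u
open Cubic
open Groth.Agent.Lib.H79Cubic

namespace Groth.Agent.S18406

open MvPolynomial in
/-- Let f be a nonzero homogeneous cubic in three variables over ℂ whose plane curve is smooth (at every
nonzero zero of f some partial derivative is nonzero), and let v and v′ be flexes of the curve, that
is nonzero zeros of f through each of which some line meets the curve with multiplicity three (there
is a vector w linearly independent from the point with f(point + t·w) = t³·f(w) for every t). Then a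
projective automorphism of the curve carries the point of v to the point of v′: there are an
invertible matrix A whose substitution X_i ↦ Σ_j A_ij X_j multiplies f by a constant c, and a
constant d with A·v = d·v′. (The published statement gives more: a subgroup of the projective
automorphism group isomorphic to C₃ × C₃ acts simply transitively on the nine flexes; only
transitivity is stated here.) -/
theorem result (f : MvPolynomial (Fin 3) ℂ) (hf : f.IsHomogeneous 3)
    (hf0 : f ≠ 0) (hsm : ∀ v : Fin 3 → ℂ, v ≠ 0 → eval v f = 0 → ∃ i : Fin 3, eval v (pderiv i f) ≠ 0)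
    (v v' : Fin 3 → ℂ) (hv : v ≠ 0) (hv' : v' ≠ 0) (hfv : eval v f = 0) (hfv' : eval v' f = 0)
    (hflex : (∃ w : Fin 3 → ℂ, LinearIndependent ℂ ![v, w] ∧ ∀ t : ℂ, eval (v + t • w) f = t ^ 3 * eval w f))
    (hflex' : (∃ w : Fin 3 → ℂ, LinearIndependent ℂ ![v', w] ∧ ∀ t : ℂ, eval (v' + t • w) f = t ^ 3 * eval w f)) :
    ∃ (A : Matrix (Fin 3) (Fin 3) ℂ) (c d : ℂ), IsUnit A.det ∧
      aeval (fun i : Fin 3 => ∑ j : Fin 3, C (A i j) * X j) f = C c * f ∧ A.mulVec v = d • v' := by
  classical
  open MvPolynomial in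
  have hS := symTri_smooth hf hsm
  obtain ⟨S, hSdef⟩ : ∃ S, S = symTri f := ⟨_, rfl⟩
  have hSF : ∀ v, S.F v = eval v f := by intro v; rw [hSdef]; exact symTri_F hf v
  have hdim : Module.finrank ℂ (Fin 3 → ℂ) = 3 := by simp
  rw [← hSdef] at hS
  have hFv : S.F v = 0 := by rw [hSF]; exact hfv
  have hFv' : S.F v' = 0 := by rw [hSF]; exact hfv'
  by_cases hmem : v' ∈ Submodule.span ℂ {v}
  · obtain ⟨c, hc⟩ := Submodule.mem_span_singleton.mp hmem
    have hc0 : c ≠ 0 := by
      rintro rfl
      rw [zero_smul] at hc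
      exact hv' hc.symm
    refine ⟨1, 1, c⁻¹, by simp, ?_, ?_⟩
    · rw [aeval_subst_eq_iff]
      intro w
      rw [Matrix.one_mulVec, one_mul]
    · rw [Matrix.one_mulVec, ← hc, smul_smul, inv_mul_cancel₀ hc0, one_smul]
  · have hli : LinearIndependent ℂ ![v, v'] := li_of_not_mem_span hv hmem
    obtain ⟨w, hwli, hw⟩ := hflex
    obtain ⟨w', hwli', hw'⟩ := hflex'
    have hsp := S.flex_special hdim hS hFv hwli (fun t => by rw [hSF, hSF]; exact hw t)
    have hsp' := S.flex_special hdim hS hFv' hwli' (fun t => by rw [hSF, hSF]; exact hw' t)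
    obtain ⟨μ, hμ⟩ := S.exists_refl_of_special hS hv hFv hsp
    obtain ⟨μ', hμ'⟩ := S.exists_refl_of_special hS hv' hFv' hsp'
    obtain ⟨α, hα⟩ : ∃ α, S.T v' v' v = α := ⟨_, rfl⟩
    obtain ⟨β, hβ⟩ : ∃ β, S.T v v v' = β := ⟨_, rfl⟩
    have r1 : α = β * μ v' := by rw [← hα, ← hβ]; exact hμ.two_point S v'
    have r2 : β = α * μ' v := by rw [← hα, ← hβ]; exact hμ'.two_point S v
    have hFL : ∀ x y : ℂ, S.F (x • v + y • v') = 3 * x * y * (x * β + y * α) := by
      intro x y
      rw [S.F_lin2, hFv, hFv', hβ]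
      have : S.T v v' v' = α := by rw [← hα, S.s13 v v' v']
      rw [this]; ring
    have hβ0 : β ≠ 0 := by
      intro hβ0
      have hα0 : α = 0 := by rw [r1, hβ0, zero_mul]
      obtain ⟨w0, hw0⟩ := hS v hv hFv
      have hK := finrank_ker_functional' (S.T v v) hw0
      rw [hdim] at hK
      have hKeq : Submodule.span ℂ ({v, v'} : Set (Fin 3 → ℂ)) = LinearMap.ker (S.T v v) := by
        apply Submodule.eq_of_le_of_finrank_eq
        · rw [Submodule.span_le]
          intro z hz
          rcases hz with h | h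
          · rw [h]; exact hFv
          · rw [Set.mem_singleton_iff] at h
            rw [h]
            change S.T v v v' = 0
            rw [hβ, hβ0]
        · rw [finrank_span_pair_of_li hli]; omega
      refine S.not_vanish_on_ker hS (S.T v v) hw0 (a := v) (b := v') hFv (by rw [hβ, hβ0]) hli ?_
      intro z hz
      have : z ∈ Submodule.span ℂ ({v, v'} : Set (Fin 3 → ℂ)) := by rw [hKeq]; exact hz
      obtain ⟨a, b, rfl⟩ := Submodule.mem_span_pair.mp this
      rw [hFL, hβ0, hα0]; ring
    have hα0 : α ≠ 0 := by intro h; apply hβ0; rw [r2, h, zero_mul]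
    have hμv' : μ v' = α / β := by rw [r1]; field_simp
    have hμ'v : μ' v = β / α := by rw [r2]; field_simp
    obtain ⟨hν, hFp⟩ := S.isRefl_conj (by norm_num) hS hμ hFv hμ' hFv'
    obtain ⟨p, hp⟩ : ∃ p, p = SymTri.refl v μ v' := ⟨_, rfl⟩
    obtain ⟨ν, hνdef⟩ : ∃ ν : (Fin 3 → ℂ) →ₗ[ℂ] ℂ, ν = μ' ∘ₗ SymTri.refl v μ := ⟨_, rfl⟩
    rw [← hp, ← hνdef] at hν
    rw [← hp] at hFp
    rw [hSdef] at hν
    have hFp' : eval p f = 0 := by rw [← hSF]; exact hFp
    obtain ⟨h1, -, -, h4⟩ := reflMatrix_spec hf hν hFp'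
    refine ⟨reflMatrix p ν, 1, β / α, ?_, h4, ?_⟩
    · have : (reflMatrix p ν).det * (reflMatrix p ν).det = 1 := by
        rw [← Matrix.det_mul, h1, Matrix.det_one]
      exact IsUnit.of_mul_eq_one _ this
    · rw [reflMatrix_mulVec]
      have hνv : ν v = -(β / α) := by
        rw [hνdef, LinearMap.comp_apply, SymTri.refl_e v μ hμ.mu_e, map_neg, hμ'v]
      rw [hνv, hp, SymTri.refl_apply, hμv']
      have : -(β / α) * (α / β) = -1 := by field_simp
      rw [neg_smul, sub_neg_eq_add, smul_sub, smul_smul]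
      have h2 : β / α * (α / β) = 1 := by field_simp
      rw [h2, one_smul]; abel

end Groth.Agent.S18406
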