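import Groth.Statements.S18409
import Groth.Agent.Lib.H79Cubic2

set_option autoImplicit false
universe u
open Cubic
open Groth.Agent.Lib.H79Cubic

namespace Groth.Agent.S18409

open MvPolynomial in
/-- Let f be a nonzero homogeneous cubic in four variables over ℂ whose surface S = V_+(f) ⊂ P³ is
smooth (at every nonzero zero of f some partial derivative is nonzero); a line on S is a
2-dimensional subspace of ℂ⁴ on which f vanishes, and an Eckardt point of S is a nonzero vector
lying on three distinct lines on S. Let e and e′ be Eckardt points of S that are not proportional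
and let L be their span, a plane in ℂ⁴, i.e. the line of P³ through the two points. Then exactly one
of the two cases occurs: either f vanishes identically on L (the line lies on S), or L contains a
third Eckardt point e″, proportional to neither e nor e′, and every zero of f in L is proportional
to e, e′ or e″ (the line meets S in exactly three points, all Eckardt points). -/
theorem result (f : MvPolynomial (Fin 4) ℂ) (hf : f.IsHomogeneous 3)
    (hf0 : f ≠ 0) (hsm : ∀ v : Fin 4 → ℂ, v ≠ 0 → eval v f = 0 → ∃ i : Fin 4, eval v (pderiv i f) ≠ 0)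
    (e e' : Fin 4 → ℂ) (he : e ≠ 0) (he' : e' ∉ Submodule.span ℂ {e})
    (hE : (∃ U : Fin 3 → Submodule ℂ (Fin 4 → ℂ), Function.Injective U ∧
        ∀ i : Fin 3, Module.finrank ℂ ↥(U i) = 2 ∧ e ∈ U i ∧ ∀ u ∈ U i, eval u f = 0))
    (hE' : (∃ U : Fin 3 → Submodule ℂ (Fin 4 → ℂ), Function.Injective U ∧
        ∀ i : Fin 3, Module.finrank ℂ ↥(U i) = 2 ∧ e' ∈ U i ∧ ∀ u ∈ U i, eval u f = 0)) :
    Xor (∀ u ∈ Submodule.span ℂ {e, e'}, eval u f = 0)
      (∃ e'' : Fin 4 → ℂ, e'' ∈ Submodule.span ℂ {e, e'} ∧ e'' ∉ Submodule.span ℂ {e} ∧ e'' ∉ Submodule.span ℂ {e'} ∧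
        (∃ U : Fin 3 → Submodule ℂ (Fin 4 → ℂ), Function.Injective U ∧
        ∀ i : Fin 3, Module.finrank ℂ ↥(U i) = 2 ∧ e'' ∈ U i ∧ ∀ u ∈ U i, eval u f = 0) ∧
        ∀ u ∈ Submodule.span ℂ {e, e'}, eval u f = 0 →
          u ∈ Submodule.span ℂ {e} ∨ u ∈ Submodule.span ℂ {e'} ∨ u ∈ Submodule.span ℂ {e''}) := by
  classical
  open MvPolynomial in
  have hS := symTri_smooth hf hsm
  obtain ⟨S, hSdef⟩ : ∃ S, S = symTri f := ⟨_, rfl⟩
  rw [← hSdef] at hS
  have hSF : ∀ v, S.F v = eval v f := by intro v; rw [hSdef]; exact symTri_F hf v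
  have hdim : Module.finrank ℂ (Fin 4 → ℂ) = 4 := by simp
  have he'0 : e' ≠ 0 := fun h => he' (h ▸ Submodule.zero_mem _)
  have hli : LinearIndependent ℂ ![e, e'] := li_of_not_mem_span he he'
  have hcoef : ∀ x y x' y' : ℂ, x • e + y • e' = x' • e + y' • e' → x = x' ∧ y = y' := by
    intro x y x' y' h
    have h0 : (x - x') • e + (y - y') • e' = 0 := by
      rw [sub_smul, sub_smul]
      have : x • e - x' • e + (y • e' - y' • e') = (x • e + y • e') - (x' • e + y' • e') := by abel
      rw [this, h, sub_self]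
    have := (LinearIndependent.pair_iff.mp hli) _ _ h0
    exact ⟨sub_eq_zero.mp this.1, sub_eq_zero.mp this.2⟩
  have toThree : ∀ v : Fin 4 → ℂ, (∃ U : Fin 3 → Submodule ℂ (Fin 4 → ℂ), Function.Injective U ∧
        ∀ i : Fin 3, Module.finrank ℂ ↥(U i) = 2 ∧ v ∈ U i ∧ ∀ u ∈ U i, eval u f = 0) ↔
        S.HasThreeLines v := by
    intro v
    constructor
    · rintro ⟨U, hinj, hU⟩
      exact ⟨U, hinj, fun i => ⟨(hU i).1, (hU i).2.1, fun u hu => by
        rw [hSF]; exact (hU i).2.2 u hu⟩⟩
    · rintro ⟨U, hinj, hU⟩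
      exact ⟨U, hinj, fun i => ⟨(hU i).1, (hU i).2.1, fun u hu => by
        rw [← hSF]; exact (hU i).2.2 u hu⟩⟩
  have h3 : S.HasThreeLines e := (toThree e).mp hE
  have h3' : S.HasThreeLines e' := (toThree e').mp hE'
  obtain ⟨hFe, hsp⟩ := S.special_of_threeLines hdim hS he h3
  obtain ⟨hFe', hsp'⟩ := S.special_of_threeLines hdim hS he'0 h3'
  obtain ⟨μ, hμ⟩ := S.exists_refl_of_special hS he hFe hsp
  obtain ⟨μ', hμ'⟩ := S.exists_refl_of_special hS he'0 hFe' hsp'
  obtain ⟨α, hα⟩ : ∃ α, S.T e' e' e = α := ⟨_, rfl⟩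
  obtain ⟨β, hβ⟩ : ∃ β, S.T e e e' = β := ⟨_, rfl⟩
  have r1 : α = β * μ e' := by rw [← hα, ← hβ]; exact hμ.two_point S e'
  have r2 : β = α * μ' e := by rw [← hα, ← hβ]; exact hμ'.two_point S e
  have hFL : ∀ x y : ℂ, eval (x • e + y • e') f = 3 * x * y * (x * β + y * α) := by
    intro x y
    rw [← hSF, S.F_lin2, hFe, hFe', hβ]
    have : S.T e e' e' = α := by rw [← hα, S.s13 e e' e']
    rw [this]; ring
  by_cases hβ0 : β = 0
  · have hα0 : α = 0 := by rw [r1, hβ0, zero_mul]
    refine Or.inl ⟨?_, ?_⟩
    · intro u hu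
      obtain ⟨x, y, rfl⟩ := Submodule.mem_span_pair.mp hu
      rw [hFL, hβ0, hα0]; ring
    · rintro ⟨e'', he''L, he''1, he''2, -, hz⟩
      obtain ⟨a, b, rfl⟩ := Submodule.mem_span_pair.mp he''L
      have key : ∀ y : ℂ, y ≠ 0 → ∃ c : ℂ, c * a = 1 ∧ c * b = y := by
        intro y hy
        have hmem : (1:ℂ) • e + y • e' ∈ Submodule.span ℂ {e, e'} :=
          Submodule.mem_span_pair.mpr ⟨1, y, rfl⟩
        have hF0 : eval ((1:ℂ) • e + y • e') f = 0 := by rw [hFL, hβ0, hα0]; ring
        rcases hz _ hmem hF0 with h | h | h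
        · obtain ⟨c, hc⟩ := Submodule.mem_span_singleton.mp h
          have : c • e + (0:ℂ) • e' = (1:ℂ) • e + y • e' := by rw [zero_smul, add_zero]; exact hc
          exact absurd (hcoef _ _ _ _ this).2.symm hy
        · obtain ⟨c, hc⟩ := Submodule.mem_span_singleton.mp h
          have : (0:ℂ) • e + c • e' = (1:ℂ) • e + y • e' := by rw [zero_smul, zero_add]; exact hc
          exact absurd (hcoef _ _ _ _ this).1 zero_ne_one
        · obtain ⟨c, hc⟩ := Submodule.mem_span_singleton.mp h
          have : (c * a) • e + (c * b) • e' = (1:ℂ) • e + y • e' := by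
            rw [← hc, smul_add, smul_smul, smul_smul]
          exact ⟨c, hcoef _ _ _ _ this⟩
      obtain ⟨c1, h1a, h1b⟩ := key 1 one_ne_zero
      obtain ⟨c2, h2a, h2b⟩ := key 2 two_ne_zero
      have hab : a = b := by
        have hc1 : c1 ≠ 0 := by rintro rfl; simp at h1a
        exact mul_left_cancel₀ hc1 (h1a.trans h1b.symm)
      rw [← hab, h2a] at h2b
      norm_num at h2b
  · have hα0 : α ≠ 0 := by intro h; apply hβ0; rw [r2, h, zero_mul]
    refine Or.inr ⟨?_, ?_⟩
    · refine ⟨α • e + (-β) • e', Submodule.mem_span_pair.mpr ⟨α, -β, rfl⟩, ?_, ?_, ?_, ?_⟩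
      · intro h
        obtain ⟨c, hc⟩ := Submodule.mem_span_singleton.mp h
        have : c • e + (0:ℂ) • e' = α • e + (-β) • e' := by rw [zero_smul, add_zero]; exact hc
        have := (hcoef _ _ _ _ this).2
        exact hβ0 (by linear_combination this)
      · intro h
        obtain ⟨c, hc⟩ := Submodule.mem_span_singleton.mp h
        have : (0:ℂ) • e + c • e' = α • e + (-β) • e' := by rw [zero_smul, zero_add]; exact hc
        exact hα0 (hcoef _ _ _ _ this).1.symm
      · rw [toThree]
        have hmap := (h3'.map S (SymTri.reflEquiv e μ hμ.mu_e) (fun v => by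
          have := hμ.F_refl S hFe v
          rw [SymTri.refl_apply] at this
          rw [SymTri.reflEquiv_apply]; exact this)).smul S (-β)
        have heq : (-β) • (SymTri.reflEquiv e μ hμ.mu_e) e' = α • e + (-β) • e' := by
          rw [SymTri.reflEquiv_apply]
          have hμe' : μ e' = α / β := by rw [r1]; field_simp
          rw [hμe', smul_sub, smul_smul]
          have : -β * (α / β) = -α := by field_simp
          rw [this]; module
        rw [heq] at hmap
        exact hmap
      · intro u hu hFu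
        obtain ⟨x, y, rfl⟩ := Submodule.mem_span_pair.mp hu
        rw [hFL] at hFu
        rcases mul_eq_zero.mp hFu with h | h
        · rcases mul_eq_zero.mp h with h | h
          · rcases mul_eq_zero.mp h with h | h
            · norm_num at h
            · right; left
              rw [h, zero_smul, zero_add]
              exact Submodule.smul_mem _ _ (Submodule.subset_span rfl)
          · left
            rw [h, zero_smul, add_zero]
            exact Submodule.smul_mem _ _ (Submodule.subset_span rfl)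
        · right; right
          apply Submodule.mem_span_singleton.mpr
          refine ⟨x / α, ?_⟩
          rw [smul_add, smul_smul, smul_smul]
          have h1 : x / α * α = x := by field_simp
          have h2 : x / α * -β = y := by
            field_simp
            linear_combination -h
          rw [h1, h2]
    · intro hall
      have hmem : α • e + β • e' ∈ Submodule.span ℂ {e, e'} :=
        Submodule.mem_span_pair.mpr ⟨α, β, rfl⟩
      have := hall _ hmem
      rw [hFL] at this
      have h6 : 6 * α ^ 2 * β ^ 2 = 0 := by linear_combination this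
      have : α ^ 2 * β ^ 2 ≠ 0 := mul_ne_zero (pow_ne_zero _ hα0) (pow_ne_zero _ hβ0)
      apply this
      linear_combination (1/6 : ℂ) * h6

end Groth.Agent.S18409
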