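import Groth.Statements.S18410
import Groth.Agent.Lib.H79Cubic4

set_option autoImplicit false
universe u
open Cubic
open Groth.Agent.Lib.H79Cubic

namespace Groth.Agent.S18410

open MvPolynomial in
/-- Let f be a nonzero homogeneous cubic in four variables over ℂ whose surface S = V_+(f) ⊂ P³ is
smooth (at every nonzero zero of f some partial derivative is nonzero); a line on S is a
2-dimensional subspace of ℂ⁴ on which f vanishes, and an Eckardt point of S is a nonzero vector
lying on three distinct lines on S. Let e, e′ be non-proportional Eckardt points of S such that f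
vanishes on their span (the line joining them lies on S), and let A, A′ be their Eckardt
involutions: an involutory matrix A (A² = 1) whose +1-eigenspace is a hyperplane and with A·e = −e,
such that the substitution X_i ↦ Σ_j A_ij X_j multiplies f by a constant — that is, a projective
involution preserving S whose fixed locus is the disjoint union of a plane and the point of e, and
likewise A′ for e′. Then the two involutions commute as projective transformations (A·A′ is a scalar
multiple of A′·A) and each fixes the other point (A·e′ is proportional to e′ and A′·e to e). -/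
theorem result (f : MvPolynomial (Fin 4) ℂ) (hf : f.IsHomogeneous 3)
    (hf0 : f ≠ 0) (hsm : ∀ v : Fin 4 → ℂ, v ≠ 0 → eval v f = 0 → ∃ i : Fin 4, eval v (pderiv i f) ≠ 0)
    (e e' : Fin 4 → ℂ) (he : e ≠ 0) (he' : e' ∉ Submodule.span ℂ {e})
    (hE : (∃ U : Fin 3 → Submodule ℂ (Fin 4 → ℂ), Function.Injective U ∧
        ∀ i : Fin 3, Module.finrank ℂ ↥(U i) = 2 ∧ e ∈ U i ∧ ∀ u ∈ U i, eval u f = 0))
    (hE' : (∃ U : Fin 3 → Submodule ℂ (Fin 4 → ℂ), Function.Injective U ∧
        ∀ i : Fin 3, Module.finrank ℂ ↥(U i) = 2 ∧ e' ∈ U i ∧ ∀ u ∈ U i, eval u f = 0))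
    (hL : ∀ u ∈ Submodule.span ℂ {e, e'}, eval u f = 0)
    (A A' : Matrix (Fin 4) (Fin 4) ℂ)
    (hA : A * A = 1 ∧ Module.finrank ℂ ↥(LinearMap.ker (Matrix.toLin' A - LinearMap.id)) = 3 ∧
        A.mulVec e = -e ∧ ∃ c : ℂ, aeval (fun i : Fin 4 => ∑ j : Fin 4, C (A i j) * X j) f = C c * f)
    (hA' : A' * A' = 1 ∧ Module.finrank ℂ ↥(LinearMap.ker (Matrix.toLin' A' - LinearMap.id)) = 3 ∧
        A'.mulVec e' = -e' ∧ ∃ c : ℂ, aeval (fun i : Fin 4 => ∑ j : Fin 4, C (A' i j) * X j) f = C c * f) :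
    (∃ c : ℂ, A * A' = c • (A' * A)) ∧ (∃ d : ℂ, A.mulVec e' = d • e') ∧ (∃ d : ℂ, A'.mulVec e = d • e) := by
  classical
  open MvPolynomial in
  have hS := symTri_smooth hf hsm
  obtain ⟨S, hSdef⟩ : ∃ S, S = symTri f := ⟨_, rfl⟩
  have hSF : ∀ v, S.F v = eval v f := by intro v; rw [hSdef]; exact symTri_F hf v
  have hdim : Module.finrank ℂ (Fin 4 → ℂ) = 4 := by simp
  have he'0 : e' ≠ 0 := fun h => he' (h ▸ Submodule.zero_mem _)
  have hli : LinearIndependent ℂ ![e, e'] := li_of_not_mem_span he he'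
  have hli' : LinearIndependent ℂ ![e', e] := by
    rw [LinearIndependent.pair_iff] at hli ⊢
    intro s t hst
    have := hli t s (by rw [add_comm]; exact hst)
    exact ⟨this.2, this.1⟩
  obtain ⟨hFe, μ, hμ⟩ := eckardt_refl hf hsm he hE
  obtain ⟨hFe', μ', hμ'⟩ := eckardt_refl hf hsm he'0 hE'
  have hAeq := eckardt_matrix_eq hf hsm he hFe hμ A hA
  have hA'eq := eckardt_matrix_eq hf hsm he'0 hFe' hμ' A' hA'
  have h3 : S.HasThreeLines e := by rw [hSdef]; exact (hasThreeLines_iff hf e).mp hE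
  have h3' : S.HasThreeLines e' := by rw [hSdef]; exact (hasThreeLines_iff hf e').mp hE'
  rw [← hSdef] at hμ hμ' hS
  rw [← hSF] at hFe hFe'
  have hLS : ∀ w ∈ Submodule.span ℂ ({e, e'} : Set (Fin 4 → ℂ)), S.F w = 0 := by
    intro w hw; rw [hSF]; exact hL w hw
  obtain ⟨-, hβ, hq, -⟩ := (S.vanish_on_pair_iff e e').mp hLS
  have hα : S.T e' e' e = 0 := by rw [S.s13 e' e' e]; exact hq
  have hμe' : μ e' = 0 := S.mu_eq_zero_of_line hdim hS hμ hμ' hFe hFe' hli hβ hα h3
  have hμ'e : μ' e = 0 := S.mu_eq_zero_of_line hdim hS hμ' hμ hFe' hFe hli' hα hβ h3'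
  refine ⟨⟨1, ?_⟩, ⟨1, ?_⟩, ⟨1, ?_⟩⟩
  · rw [one_smul]
    apply matrix_ext_mulVec
    intro w
    rw [← Matrix.mulVec_mulVec, ← Matrix.mulVec_mulVec, hAeq, hA'eq]
    simp only [reflMatrix_mulVec, map_sub, map_smul, hμe', hμ'e, smul_eq_mul, mul_zero, sub_zero]
    abel
  · rw [hAeq, reflMatrix_mulVec, hμe', zero_smul, sub_zero, one_smul]
  · rw [hA'eq, reflMatrix_mulVec, hμ'e, zero_smul, sub_zero, one_smul]

end Groth.Agent.S18410
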