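import Groth.Statements.S18411
import Groth.Agent.Lib.H79Cubic3

set_option autoImplicit false
universe u
open Cubic
open Groth.Agent.Lib.H79Cubic

namespace Groth.Agent.S18411

open MvPolynomial in
/-- Let f be a nonzero homogeneous cubic in four variables over ℂ whose surface S = V_+(f) ⊂ P³ is
smooth (at every nonzero zero of f some partial derivative is nonzero); a line on S is a
2-dimensional subspace of ℂ⁴ on which f vanishes, and an Eckardt point of S is a nonzero vector
lying on three distinct lines on S. Let e, e′, e″ be pairwise non-proportional Eckardt points of S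
spanning a single plane L = span(e, e′) of ℂ⁴ on which f does not vanish identically (three
collinear Eckardt points whose line is not on S), and let A, A′, A″ be their Eckardt involutions: an
involutory matrix A (A² = 1) whose +1-eigenspace is a hyperplane and with A·e = −e, such that the
substitution X_i ↦ Σ_j A_ij X_j multiplies f by a constant — that is, a projective involution
preserving S whose fixed locus is the disjoint union of a plane and the point of e, and likewise for
e′ and e″. Then the three involutions generate, as projective transformations, a group isomorphic to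
the symmetric group on three letters: the product A·A′ is not a scalar matrix, its cube is, and A″
is a scalar multiple of A·A′·A. -/
theorem result (f : MvPolynomial (Fin 4) ℂ) (hf : f.IsHomogeneous 3)
    (hf0 : f ≠ 0) (hsm : ∀ v : Fin 4 → ℂ, v ≠ 0 → eval v f = 0 → ∃ i : Fin 4, eval v (pderiv i f) ≠ 0)
    (e e' e'' : Fin 4 → ℂ) (he : e ≠ 0) (he' : e' ∉ Submodule.span ℂ {e})
    (he''1 : e'' ∉ Submodule.span ℂ {e}) (he''2 : e'' ∉ Submodule.span ℂ {e'}) (he''L : e'' ∈ Submodule.span ℂ {e, e'})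
    (hE : (∃ U : Fin 3 → Submodule ℂ (Fin 4 → ℂ), Function.Injective U ∧
        ∀ i : Fin 3, Module.finrank ℂ ↥(U i) = 2 ∧ e ∈ U i ∧ ∀ u ∈ U i, eval u f = 0))
    (hE' : (∃ U : Fin 3 → Submodule ℂ (Fin 4 → ℂ), Function.Injective U ∧
        ∀ i : Fin 3, Module.finrank ℂ ↥(U i) = 2 ∧ e' ∈ U i ∧ ∀ u ∈ U i, eval u f = 0))
    (hE'' : (∃ U : Fin 3 → Submodule ℂ (Fin 4 → ℂ), Function.Injective U ∧
        ∀ i : Fin 3, Module.finrank ℂ ↥(U i) = 2 ∧ e'' ∈ U i ∧ ∀ u ∈ U i, eval u f = 0))
    (hL : ¬ ∀ u ∈ Submodule.span ℂ {e, e'}, eval u f = 0)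
    (A A' A'' : Matrix (Fin 4) (Fin 4) ℂ)
    (hA : A * A = 1 ∧ Module.finrank ℂ ↥(LinearMap.ker (Matrix.toLin' A - LinearMap.id)) = 3 ∧
        A.mulVec e = -e ∧ ∃ c : ℂ, aeval (fun i : Fin 4 => ∑ j : Fin 4, C (A i j) * X j) f = C c * f)
    (hA' : A' * A' = 1 ∧ Module.finrank ℂ ↥(LinearMap.ker (Matrix.toLin' A' - LinearMap.id)) = 3 ∧
        A'.mulVec e' = -e' ∧ ∃ c : ℂ, aeval (fun i : Fin 4 => ∑ j : Fin 4, C (A' i j) * X j) f = C c * f)
    (hA'' : A'' * A'' = 1 ∧ Module.finrank ℂ ↥(LinearMap.ker (Matrix.toLin' A'' - LinearMap.id)) = 3 ∧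
        A''.mulVec e'' = -e'' ∧ ∃ c : ℂ, aeval (fun i : Fin 4 => ∑ j : Fin 4, C (A'' i j) * X j) f = C c * f) :
    (¬ ∃ c : ℂ, A * A' = c • (1 : Matrix (Fin 4) (Fin 4) ℂ)) ∧ (∃ c : ℂ, (A * A') ^ 3 = c • (1 : Matrix (Fin 4) (Fin 4) ℂ)) ∧
      ∃ c : ℂ, A'' = c • (A * A' * A) := by
  classical
  open MvPolynomial in
  have hS := symTri_smooth hf hsm
  obtain ⟨S, hSdef⟩ : ∃ S, S = symTri f := ⟨_, rfl⟩
  have hSF : ∀ v, S.F v = eval v f := by intro v; rw [hSdef]; exact symTri_F hf v
  have he'0 : e' ≠ 0 := fun h => he' (h ▸ Submodule.zero_mem _)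
  have he''0 : e'' ≠ 0 := fun h => he''1 (h ▸ Submodule.zero_mem _)
  have hli : LinearIndependent ℂ ![e, e'] := li_of_not_mem_span he he'
  have hcoef : ∀ x y x' y' : ℂ, x • e + y • e' = x' • e + y' • e' → x = x' ∧ y = y' := by
    intro x y x' y' h
    have h0 : (x - x') • e + (y - y') • e' = 0 := by
      rw [sub_smul, sub_smul]
      have : x • e - x' • e + (y • e' - y' • e') = (x • e + y • e') - (x' • e + y' • e') := by abel
      rw [this, h, sub_self]
    have := (LinearIndependent.pair_iff.mp hli) _ _ h0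
    exact ⟨sub_eq_zero.mp this.1, sub_eq_zero.mp this.2⟩
  obtain ⟨hFe, μ, hμ⟩ := eckardt_refl hf hsm he hE
  obtain ⟨hFe', μ', hμ'⟩ := eckardt_refl hf hsm he'0 hE'
  obtain ⟨hFe'', μ'', hμ''⟩ := eckardt_refl hf hsm he''0 hE''
  have hAeq := eckardt_matrix_eq hf hsm he hFe hμ A hA
  have hA'eq := eckardt_matrix_eq hf hsm he'0 hFe' hμ' A' hA'
  have hA''eq := eckardt_matrix_eq hf hsm he''0 hFe'' hμ'' A'' hA''
  rw [← hSdef] at hμ hμ' hμ'' hS
  rw [← hSF] at hFe hFe' hFe''
  obtain ⟨α, hα⟩ : ∃ α, S.T e' e' e = α := ⟨_, rfl⟩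
  obtain ⟨β, hβ⟩ : ∃ β, S.T e e e' = β := ⟨_, rfl⟩
  have r1 : α = β * μ e' := by rw [← hα, ← hβ]; exact hμ.two_point S e'
  have r2 : β = α * μ' e := by rw [← hα, ← hβ]; exact hμ'.two_point S e
  have hFL : ∀ x y : ℂ, eval (x • e + y • e') f = 3 * x * y * (x * β + y * α) := by
    intro x y
    rw [← hSF, S.F_lin2, hFe, hFe', hβ]
    have : S.T e e' e' = α := by rw [← hα, S.s13 e e' e']
    rw [this]; ring
  have hβ0 : β ≠ 0 := by
    intro hβ0
    have hα0 : α = 0 := by rw [r1, hβ0, zero_mul]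
    apply hL
    intro u hu
    obtain ⟨x, y, rfl⟩ := Submodule.mem_span_pair.mp hu
    rw [hFL, hβ0, hα0]; ring
  have hα0 : α ≠ 0 := by intro h; apply hβ0; rw [r2, h, zero_mul]
  obtain ⟨x, y, hxy⟩ := Submodule.mem_span_pair.mp he''L
  have hx0 : x ≠ 0 := by
    rintro rfl
    apply he''2
    rw [← hxy, zero_smul, zero_add]
    exact Submodule.smul_mem _ _ (Submodule.subset_span rfl)
  have hy0 : y ≠ 0 := by
    rintro rfl
    apply he''1
    rw [← hxy, zero_smul, add_zero]
    exact Submodule.smul_mem _ _ (Submodule.subset_span rfl)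
  have hrel : x * β + y * α = 0 := by
    have h0 : eval (x • e + y • e') f = 0 := by rw [hxy, ← hSF]; exact hFe''
    rw [hFL] at h0
    rcases mul_eq_zero.mp h0 with h | h
    · rcases mul_eq_zero.mp h with h | h
      · rcases mul_eq_zero.mp h with h | h
        · norm_num at h
        · exact absurd h hx0
      · exact absurd h hy0
    · exact h
  -- the image points
  have hμe' : μ e' = α / β := by rw [r1]; field_simp
  have hμ'e : μ' e = β / α := by rw [r2]; field_simp
  have hp : SymTri.refl e μ e' = y⁻¹ • e'' := by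
    rw [SymTri.refl_apply, hμe', ← hxy, smul_add, smul_smul, smul_smul]
    have h1 : y⁻¹ * x = -(α / β) := by
      field_simp
      linear_combination hrel
    have h2 : y⁻¹ * y = 1 := by field_simp
    rw [h1, h2]; module
  have hp' : SymTri.refl e' μ' e = x⁻¹ • e'' := by
    rw [SymTri.refl_apply, hμ'e, ← hxy, smul_add, smul_smul, smul_smul]
    have h1 : x⁻¹ * y = -(β / α) := by
      field_simp
      linear_combination hrel
    have h2 : x⁻¹ * x = 1 := by field_simp
    rw [h1, h2]; module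
  have hconj : ∀ w, SymTri.refl e μ (SymTri.refl e' μ' (SymTri.refl e μ w))
      = SymTri.refl e'' μ'' w := by
    intro w
    have hν := hμ''.smul S (inv_ne_zero hy0)
    rw [S.refl_conj (by norm_num) hS hμ hFe hμ' hFe' hp.symm hν w,
      SymTri.refl_smul e'' μ'' (inv_ne_zero hy0)]
  have hconj' : ∀ w, SymTri.refl e' μ' (SymTri.refl e μ (SymTri.refl e' μ' w))
      = SymTri.refl e'' μ'' w := by
    intro w
    have hν := hμ''.smul S (inv_ne_zero hx0)
    rw [S.refl_conj (by norm_num) hS hμ' hFe' hμ hFe hp'.symm hν w,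
      SymTri.refl_smul e'' μ'' (inv_ne_zero hx0)]
  have hAAA : A * A' * A = A'' := by
    apply matrix_ext_mulVec
    intro w
    rw [← Matrix.mulVec_mulVec, ← Matrix.mulVec_mulVec, hAeq, hA'eq, hA''eq,
      reflMatrix_mulVec', reflMatrix_mulVec', reflMatrix_mulVec', reflMatrix_mulVec', hconj]
  have hAAA' : A' * A * A' = A'' := by
    apply matrix_ext_mulVec
    intro w
    rw [← Matrix.mulVec_mulVec, ← Matrix.mulVec_mulVec, hAeq, hA'eq, hA''eq,
      reflMatrix_mulVec', reflMatrix_mulVec', reflMatrix_mulVec', reflMatrix_mulVec', hconj']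
  refine ⟨?_, ?_, ?_⟩
  · rintro ⟨c, hc⟩
    have h1 : (A * A').mulVec e' = -(y⁻¹ • e'') := by
      rw [← Matrix.mulVec_mulVec, hA'.2.2.1, Matrix.mulVec_neg, hAeq, reflMatrix_mulVec', hp]
    rw [hc, Matrix.smul_mulVec, Matrix.one_mulVec] at h1
    apply he''2
    apply Submodule.mem_span_singleton.mpr
    refine ⟨-(y * c), ?_⟩
    have : e'' = -(y • (c • e')) := by
      rw [h1, smul_neg, smul_smul, mul_inv_cancel₀ hy0, one_smul, neg_neg]
    rw [this, neg_smul, mul_smul]
  · refine ⟨1, ?_⟩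
    have : (A * A') ^ 3 = (A * A' * A) * (A' * A * A') := by
      simp only [pow_succ, pow_zero, one_mul, mul_assoc]
    rw [this, hAAA, hAAA', hA''.1, one_smul]
  · exact ⟨1, by rw [one_smul, hAAA]⟩

end Groth.Agent.S18411
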