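import Groth.Statements.S18417
import Groth.Agent.Lib.TruncPoly89
import Groth.Agent.S5802

set_option autoImplicit false
universe u v
open CAlg Groth.Agent.Lib.TruncPoly89

namespace Groth.Agent.S18417

/-- Let R → A be a ring homomorphism and x_1, …, x_d a weakly regular sequence in A generating an ideal
J such that B = A/J is formally smooth over R. Then for every N ≥ 1 there is an isomorphism of
R-algebras e : A/J^N ≅ B[T_1, …, T_d]/(T_1, …, T_d)^N which sends the class of x_i to the class of
T_i and which is compatible with the projections to B: for every a ∈ A, e(a mod J^N) is congruent to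
the constant a mod J modulo the ideal generated by the variables. (The source also assumes R → A
smooth, which its argument does not use, and a regular sequence; weak regularity is what the
argument uses.) -/
theorem result
    (R : Type u) (A : Type v) [CommRing R] [CommRing A] [Algebra R A] (d : ℕ) (x : Fin d → A)
    (hreg : RingTheory.Sequence.IsWeaklyRegular A (List.ofFn x))
    [Algebra.FormallySmooth R (A ⧸ Ideal.span (Set.range x))] (N : ℕ) (hN : 1 ≤ N) :
    ∃ e : (A ⧸ Ideal.span (Set.range x) ^ N) ≃ₐ[R]
        (MvPolynomial (Fin d) (A ⧸ Ideal.span (Set.range x)) ⧸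
          Ideal.span (Set.range (MvPolynomial.X : Fin d → MvPolynomial (Fin d) (A ⧸ Ideal.span (Set.range x)))) ^ N),
      (∀ i : Fin d, e (Ideal.Quotient.mk _ (x i)) = Ideal.Quotient.mk _ (MvPolynomial.X i)) ∧
      ∀ a : A, e (Ideal.Quotient.mk _ a) - Ideal.Quotient.mk _ (MvPolynomial.C (Ideal.Quotient.mk _ a)) ∈
        (Ideal.span (Set.range (MvPolynomial.X : Fin d → MvPolynomial (Fin d) (A ⧸ Ideal.span (Set.range x))))).map
          (Ideal.Quotient.mk _) := by
  classical
  have hN0 : N ≠ 0 := by omega
  have hq := Groth.Agent.S5802.result A d x hreg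
  -- the projection
  let π : (A ⧸ Ideal.span (Set.range x) ^ N) →ₐ[R] (A ⧸ Ideal.span (Set.range x)) :=
    Ideal.Quotient.factorₐ R (Ideal.pow_le_self hN0)
  have hπsurj : Function.Surjective π := Ideal.Quotient.factor_surjective (Ideal.pow_le_self hN0)
  have hker : RingHom.ker (π : (A ⧸ Ideal.span (Set.range x) ^ N) →+* (A ⧸ Ideal.span (Set.range x))) =
      (Ideal.span (Set.range x)).map (Ideal.Quotient.mk (Ideal.span (Set.range x) ^ N)) :=
    Ideal.Quotient.factor_ker (Ideal.pow_le_self hN0)
  have hnil : IsNilpotent (RingHom.ker (π : (A ⧸ Ideal.span (Set.range x) ^ N) →+* (A ⧸ Ideal.span (Set.range x)))) := by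
    refine ⟨N, ?_⟩
    rw [hker, ← Ideal.map_pow, Ideal.map_quotient_self]
    rfl
  let σ : (A ⧸ Ideal.span (Set.range x)) →ₐ[R] (A ⧸ Ideal.span (Set.range x) ^ N) :=
    Algebra.FormallySmooth.liftOfSurjective (AlgHom.id R _) π hπsurj hnil
  have hσ : ∀ b, Ideal.Quotient.factor (Ideal.pow_le_self hN0) (σ b) = b := fun b =>
    Algebra.FormallySmooth.liftOfSurjective_apply (AlgHom.id R _) π hπsurj hnil b
  let y : Fin d → A ⧸ Ideal.span (Set.range x) ^ N := fun i => Ideal.Quotient.mk _ (x i)
  have hy_span : Ideal.span (Set.range y) =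
      (Ideal.span (Set.range x)).map (Ideal.Quotient.mk (Ideal.span (Set.range x) ^ N)) := by
    rw [Ideal.map_span, ← Set.range_comp]; rfl
  let ψbar : (MvPolynomial (Fin d) (A ⧸ Ideal.span (Set.range x)) ⧸
      Ideal.span (Set.range (MvPolynomial.X :
        Fin d → MvPolynomial (Fin d) (A ⧸ Ideal.span (Set.range x)))) ^ N) →ₐ[R]
      (A ⧸ Ideal.span (Set.range x) ^ N) :=
    Ideal.Quotient.liftₐ _ (psi σ y) (fun p hp => psi_mem_pow_eq_zero x N hN0 σ p hp)
  have hψbar : ∀ p, ψbar (Ideal.Quotient.mk _ p) = psi σ y p := fun p => rfl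
  have hinj : Function.Injective ψbar := by
    rw [injective_iff_map_eq_zero]
    intro q hq0
    obtain ⟨p, rfl⟩ := Ideal.Quotient.mk_surjective q
    rw [hψbar] at hq0
    exact Ideal.Quotient.eq_zero_iff_mem.mpr (mem_pow_of_psi_eq_zero x N hq hN0 σ hσ p hq0)
  have hsurj : Function.Surjective ψbar := by
    intro c
    obtain ⟨p, hp⟩ := psi_surjective σ y π hσ (hker.trans hy_span.symm) N
      (by rw [hy_span, ← Ideal.map_pow, Ideal.map_quotient_self]) c
    exact ⟨Ideal.Quotient.mk _ p, hp⟩
  let e₀ := AlgEquiv.ofBijective ψbar ⟨hinj, hsurj⟩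
  have he₀ : ∀ q, e₀ q = ψbar q := fun q => rfl
  refine ⟨e₀.symm, ?_, ?_⟩
  · intro i
    rw [AlgEquiv.symm_apply_eq, he₀, hψbar, psi_X]
  · intro a
    -- the augmentation
    let ε : (MvPolynomial (Fin d) (A ⧸ Ideal.span (Set.range x)) ⧸
      Ideal.span (Set.range (MvPolynomial.X :
        Fin d → MvPolynomial (Fin d) (A ⧸ Ideal.span (Set.range x)))) ^ N) →+*
        (A ⧸ Ideal.span (Set.range x)) :=
      Ideal.Quotient.lift _ MvPolynomial.constantCoeff (by
        intro p hp
        have h1 : p ∈ MvPolynomial.idealOfVars (Fin d) (A ⧸ Ideal.span (Set.range x)) ^ 1 :=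
          Ideal.pow_le_pow_right hN hp
        rw [MvPolynomial.mem_pow_idealOfVars_iff'] at h1
        exact h1 0 (by simp))
    have hε : ∀ q, ε q = π (ψbar q) := by
      intro q
      obtain ⟨p, rfl⟩ := Ideal.Quotient.mk_surjective q
      rw [hψbar]
      change MvPolynomial.constantCoeff p = _
      induction p using MvPolynomial.induction_on with
      | C b => simp [hσ, π]
      | add p q hp hq => rw [map_add, map_add, map_add, hp, hq]
      | mul_X p i hp =>
        rw [map_mul, map_mul, map_mul, psi_X]
        have : π (y i) = 0 := by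
          change Ideal.Quotient.factor (Ideal.pow_le_self hN0) (Ideal.Quotient.mk _ (x i)) = 0
          rw [Ideal.Quotient.factor_mk, Ideal.Quotient.eq_zero_iff_mem]
          exact Ideal.subset_span (Set.mem_range_self i)
        simp [this]
    have hkerε : ∀ q, ε q = 0 → q ∈ (Ideal.span (Set.range (MvPolynomial.X :
        Fin d → MvPolynomial (Fin d) (A ⧸ Ideal.span (Set.range x))))).map
          (Ideal.Quotient.mk (Ideal.span (Set.range (MvPolynomial.X :
        Fin d → MvPolynomial (Fin d) (A ⧸ Ideal.span (Set.range x)))) ^ N)) := by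
      intro q hq0
      obtain ⟨p, rfl⟩ := Ideal.Quotient.mk_surjective q
      apply Ideal.mem_map_of_mem
      have h0 : MvPolynomial.constantCoeff p = 0 := hq0
      have : p ∈ MvPolynomial.idealOfVars (Fin d) (A ⧸ Ideal.span (Set.range x)) ^ 1 := by
        rw [MvPolynomial.mem_pow_idealOfVars_iff']
        intro α hα
        have : α = 0 := by
          rw [Nat.lt_one_iff] at hα
          exact (Finsupp.degree_eq_zero_iff α).mp hα
        subst this
        exact h0
      simpa using this
    apply hkerε
    rw [map_sub, hε, hε, ← he₀, AlgEquiv.apply_symm_apply, hψbar, psi_C]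
    simp [hσ, π]

end Groth.Agent.S18417
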