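import Groth.Statements.S18421
import Groth.Agent.Lib.DPPolyExt75
-- import your own Groth.Agent.* helpers here

set_option autoImplicit false
universe u v w
open DPow

namespace Groth.Agent.S18421

open Groth.Agent.Lib.DPPoly75

/-- Let (R, I, γ) be a divided power ring, Λ a set and P = R⟨X_λ : λ ∈ Λ⟩ the divided power polynomial
algebra, presented concretely as an R-algebra P with elements x l n = X_λ^[n] such that X_λ^[0] = 1,
X_λ^[n] · X_λ^[m] = C(n+m, n) X_λ^[n+m], and the monomials ∏_λ X_λ^[e_λ] form an R-basis of P; let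
P_+ be the ideal generated by the X_λ^[n] with n ≥ 1 and δ_+ a divided power structure on P_+ with
δ_+,n(X_λ^[1]) = X_λ^[n]. Put J = IP + P_+. Then there is exactly one divided power structure δ on J
which is compatible with γ (the structure map R → P is a divided power morphism from (I, γ) to (J,
δ)) and with δ_+ (δ_n(y) = δ_+,n(y) for all y ∈ P_+ and all n). -/
theorem result (R : Type u) [CommRing R] {I : Ideal R}
    (γ : DividedPowers I) (Λ : Type w)
    (P : Type v) [CommRing P] [Algebra R P] (x : Λ → ℕ → P)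
    (hx0 : ∀ l, x l 0 = 1)
    (hxmul : ∀ l n m, x l n * x l m = ((n + m).choose n : P) * x l (n + m))
    (b : Module.Basis (Λ →₀ ℕ) R P) (hb : ∀ e : Λ →₀ ℕ, b e = e.prod (fun l k => x l k))
    (δplus : DividedPowers (Ideal.span {y : P | ∃ (l : Λ) (n : ℕ), 1 ≤ n ∧ y = x l n}))
    (hδplus : ∀ (l : Λ) (n : ℕ), δplus.dpow n (x l 1) = x l n) :
    ∃! δ : DividedPowers (I.map (algebraMap R P) ⊔ Ideal.span {y : P | ∃ (l : Λ) (n : ℕ), 1 ≤ n ∧ y = x l n}),
      γ.IsDPMorphism δ (algebraMap R P) ∧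
        ∀ (n : ℕ) (y : P), y ∈ Ideal.span {y : P | ∃ (l : Λ) (n : ℕ), 1 ≤ n ∧ y = x l n} →
          δ.dpow n y = δplus.dpow n y := by
  classical
  obtain ⟨δ, hδ1, hδ2⟩ := exists_dp₂ γ x hx0 hxmul b hb
  have hgens : {y : P | ∃ (l : Λ) (n : ℕ), 1 ≤ n ∧ y = x l n} ⊆
      ((I.map (algebraMap R P) ⊔ aug x : Ideal P) : Set P) :=
    fun y hy => Ideal.mem_sup_right (Ideal.subset_span hy)
  -- `P_+` is a sub-dp-ideal
  have hsub : δ.IsSubDPIdeal (aug x) := by
    refine (DividedPowers.span_isSubDPIdeal_iff (hI := δ) hgens).mpr ?_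
    rintro n hn _ ⟨i, m, hm, rfl⟩
    rw [hδ2 i n m hm]
    exact Ideal.mul_mem_left _ _
      (Ideal.subset_span ⟨i, n * m, Nat.mul_pos (Nat.pos_of_ne_zero hn) hm, rfl⟩)
  have hδ' : ∀ (l : Λ) (n : ℕ),
      (DividedPowers.IsSubDPIdeal.dividedPowers δ hsub).dpow n (x l 1) = x l n := by
    intro l n
    rw [DividedPowers.IsSubDPIdeal.dpow_eq_of_mem δ hsub (Ideal.subset_span ⟨l, 1, le_rfl, rfl⟩),
      hδ2 l n 1 le_rfl, Nat.uniformBell_one_right, Nat.cast_one, one_mul, mul_one]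
  have huniq := dp_unique x δplus (DividedPowers.IsSubDPIdeal.dividedPowers δ hsub) hδplus hδ'
  have hδ3 : ∀ (n : ℕ) (y : P), y ∈ aug x → δ.dpow n y = δplus.dpow n y := by
    intro n y hy
    rw [← huniq, DividedPowers.IsSubDPIdeal.dpow_eq_of_mem δ hsub hy]
  refine ⟨δ, ⟨⟨le_sup_left, fun a ha => hδ1 a ha _⟩, hδ3⟩, ?_⟩
  rintro δ₂ ⟨h1, h2⟩
  refine DividedPowers.dpow_eq_from_gens δ δ₂
    (S := (algebraMap R P) '' I ∪ {y : P | ∃ (l : Λ) (n : ℕ), 1 ≤ n ∧ y = x l n}) ?_ ?_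
  · rw [Ideal.span_union]; rfl
  · rintro n _ (⟨a, ha, rfl⟩ | hy)
    · rw [hδ1 a ha, h1.dpow_comp a ha]
    · rw [hδ3 n _ (Ideal.subset_span hy), h2 n _ (Ideal.subset_span hy)]

end Groth.Agent.S18421
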