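import Groth.Statements.S18423
import Mathlib
import Groth.Agent.S2195

set_option autoImplicit false
universe u v
open Pi1

namespace Groth.Agent.S18423

open Algebra

theorem result' (A : Type u) (B : Type v) [CommRing A] [CommRing B]
    [Algebra A B] [IsNoetherianRing A] [IsLocalRing A] (hdim : (2 : WithBot ℕ∞) ≤ ringKrullDim A)
    [Module.Finite A B] [Module.Flat A B]
    (h : ∀ q : PrimeSpectrum B, q.asIdeal.comap (algebraMap A B) ≠ IsLocalRing.maximalIdeal A →
      Algebra.IsEtaleAt A q.asIdeal) :
    Algebra.Etale A B := by
  haveI : Module.FinitePresentation A B := Module.finitePresentation_of_finite A B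
  haveI : Module.Free A B := Module.free_of_flat_of_isLocalRing
  let b := Module.finBasis A B
  rw [Groth.Agent.S2195.result b]
  by_contra hd
  set d := Algebra.discr A b with hd_def
  have hdm : d ∈ IsLocalRing.maximalIdeal A := (IsLocalRing.mem_maximalIdeal d).mpr hd
  have hne : Ideal.span {d} ≠ ⊤ := by
    rw [Ne, Ideal.span_singleton_eq_top]
    exact hd
  obtain ⟨p, hp⟩ := Ideal.nonempty_minimalPrimes hne
  haveI hpprime : p.IsPrime := hp.1.1
  have hdp : d ∈ p := hp.1.2 (Ideal.subset_span (Set.mem_singleton d))
  have hht : p.height ≤ 1 := Ideal.height_le_one_of_isPrincipal_of_mem_minimalPrimes _ p hp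
  have hpm : p ≠ IsLocalRing.maximalIdeal A := by
    intro heq
    have h1 : (IsLocalRing.maximalIdeal A).height ≤ 1 := heq ▸ hht
    have h2 := IsLocalRing.maximalIdeal_height_eq_ringKrullDim (R := A)
    rw [← h2] at hdim
    have h3 : ((IsLocalRing.maximalIdeal A).height : WithBot ℕ∞) ≤ 1 := by exact_mod_cast h1
    have h4 := hdim.trans h3
    exact absurd h4 (by decide)
  have hlt : p < IsLocalRing.maximalIdeal A :=
    lt_of_le_of_ne (IsLocalRing.le_maximalIdeal hpprime.ne_top) hpm
  obtain ⟨f, hfm, hfp⟩ := SetLike.exists_of_lt hlt
  let M := Submonoid.powers f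
  have hsub : (PrimeSpectrum.basicOpen (algebraMap A B f) : Set (PrimeSpectrum B))
      ⊆ Algebra.etaleLocus A B := by
    intro q hq
    apply h q
    intro heq
    apply hq
    have : f ∈ q.asIdeal.comap (algebraMap A B) := heq ▸ hfm
    exact this
  have hfe : Algebra.FormallyEtale A (Localization.Away (algebraMap A B f)) :=
    Algebra.basicOpen_subset_etaleLocus_iff.mp hsub
  haveI : IsLocalization (Submonoid.powers (algebraMap A B f))
      (Localization (Algebra.algebraMapSubmonoid B M)) := by
    have : Algebra.algebraMapSubmonoid B M = Submonoid.powers (algebraMap A B f) :=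
      Submonoid.map_powers _ _
    rw [← this]
    infer_instance
  let e : Localization.Away (algebraMap A B f) ≃ₐ[B] Localization (Algebra.algebraMapSubmonoid B M) :=
    IsLocalization.algEquiv (Submonoid.powers (algebraMap A B f)) _ _
  haveI : Algebra.FormallyEtale A (Localization (Algebra.algebraMapSubmonoid B M)) :=
    Algebra.FormallyEtale.of_equiv (e.restrictScalars A)
  haveI : Algebra.FormallyEtale (Localization M) (Localization (Algebra.algebraMapSubmonoid B M)) :=
    Algebra.FormallyEtale.localization_base M
  let bₘ := b.localizationLocalization (Localization M) M (Localization (Algebra.algebraMapSubmonoid B M))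
  haveI : Module.Finite (Localization M) (Localization (Algebra.algebraMapSubmonoid B M)) :=
    Module.Finite.of_basis bₘ
  haveI : IsNoetherianRing (Localization M) := IsLocalization.isNoetherianRing M _ inferInstance
  haveI : Algebra.FinitePresentation (Localization M) (Localization (Algebra.algebraMapSubmonoid B M)) :=
    Algebra.FinitePresentation.of_finiteType.mp inferInstance
  have het : Algebra.Etale (Localization M) (Localization (Algebra.algebraMapSubmonoid B M)) :=
    ⟨inferInstance, inferInstance⟩
  have hunit := (Groth.Agent.S2195.result bₘ).mp het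
  rw [Algebra.discr_localizationLocalization] at hunit
  have hdisj : Disjoint (M : Set A) (p : Set A) := by
    rw [Set.disjoint_left]
    rintro _ ⟨n, rfl⟩ hn
    exact hfp (hpprime.mem_of_pow_mem n hn)
  have hprime := IsLocalization.isPrime_of_isPrime_disjoint M (Localization M) p hpprime hdisj
  apply hprime.ne_top
  exact Ideal.eq_top_of_isUnit_mem _ (Ideal.mem_map_of_mem _ hdp) hunit


/-- Let A be a Noetherian local ring of Krull dimension at least 2 and B a finite flat commutative
A-algebra. If B is etale over A at every prime of B lying over a non-maximal prime of A (that is,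
Spec B is etale over the punctured spectrum of A), then B is etale over A. -/
theorem result (A : Type u) (B : Type v) [CommRing A] [CommRing B]
    [Algebra A B] [IsNoetherianRing A] [IsLocalRing A] (hdim : (2 : WithBot ℕ∞) ≤ ringKrullDim A)
    [Module.Finite A B] [Module.Flat A B]
    (h : ∀ q : PrimeSpectrum B, q.asIdeal.comap (algebraMap A B) ≠ IsLocalRing.maximalIdeal A →
      Algebra.IsEtaleAt A q.asIdeal) :
    Algebra.Etale A B := by
  exact result' A B hdim h

end Groth.Agent.S18423
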