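-- S18427: helper5: a proper flat model over a DVR with geometrically connected generic fibre has geometrically connected fibres (regularity/smoothness not needed), via Stein factorisation + universal openness of flat fp morphisms (Lib/GenConn5A), from S0002+S0058
import Groth.Statements.S18427
import Groth.Agent.S0002
import Groth.Agent.S0058
import Groth.Agent.Lib.GenConn5A

set_option autoImplicit false
universe u
open Models

namespace Groth.Agent.S18427

open CategoryTheory AlgebraicGeometry in
/-- Let R be a discrete valuation ring with fraction field K, C a smooth proper geometrically connected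
curve over K, and X a regular proper model of C over R (flat and proper over R, regular, with
generic fibre C). Then the structure morphism X → Spec R has geometrically connected fibres; in
particular the special fibre of X is geometrically connected over the residue field of R. -/
theorem result (R : Type u) [CommRing R] [IsDomain R]
    [IsDiscreteValuationRing R] (C X : Scheme.{u})
    (f : C ⟶ Spec (CommRingCat.of (FractionRing R))) (p : X ⟶ Spec (CommRingCat.of R))
    (hC : Curve.IsSmoothProperCurve (FractionRing R) C f) [GeometricallyConnected f]
    (hX : Models.IsRegularProperModel R X p C f) :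
    GeometricallyConnected p := by
  obtain ⟨⟨hflat, hlft, hqc, g, hpb⟩, hprop, -⟩ := hX
  haveI := hflat
  haveI := hprop
  haveI : LocallyOfFinitePresentation p :=
    LocallyOfFinitePresentation.iff_locallyOfFiniteType.mpr inferInstance
  haveI : UniversallyOpen p := inferInstance
  let c₀ : Spec (CommRingCat.of (FractionRing R)) ⟶ Spec (CommRingCat.of R) :=
    Spec.map (CommRingCat.ofHom (algebraMap R (FractionRing R)))
  let η₀ : ↥(Spec (CommRingCat.of R)) := c₀.base (IsLocalRing.closedPoint (FractionRing R))
  have hη₀ : ∀ y : ↥(Spec (CommRingCat.of R)), η₀ ⤳ y := by
    intro y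
    refine (PrimeSpectrum.le_iff_specializes (R := R) η₀ y).mp ?_
    change Ideal.comap (algebraMap R (FractionRing R))
      (IsLocalRing.maximalIdeal (FractionRing R)) ≤ y.asIdeal
    rw [IsLocalRing.maximalIdeal_eq_bot, Ideal.comap_bot_of_injective _
      (IsFractionRing.injective R (FractionRing R))]
    exact bot_le
  haveI : GeometricallyConnected (Limits.pullback.snd p c₀) := by
    have h1 : hpb.isoPullback.hom ≫ Limits.pullback.snd p c₀ = f := hpb.isoPullback_hom_snd
    have h2 : GeometricallyConnected (hpb.isoPullback.hom ≫ Limits.pullback.snd p c₀) := by
      rw [h1]; infer_instance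
    haveI : MorphismProperty.RespectsIso @GeometricallyConnected :=
      MorphismProperty.IsStableUnderBaseChange.respectsIso
    exact (MorphismProperty.cancel_left_of_respectsIso @GeometricallyConnected
      hpb.isoPullback.hom (Limits.pullback.snd p c₀)).mp h2
  refine Groth.Agent.Lib.GenConn5.geometricallyConnected_of_universallyOpen_of_generic
    (fun A _ _ X _ _ M hM n => Groth.Agent.S0002.result A X M hM n)
    (fun A _ _ I X _ _ M hM p => Groth.Agent.S0058.result A I X M hM p) p {η₀} ?_ ?_
  · rintro U hU ⟨y, hy⟩
    exact ⟨η₀, (hη₀ y).mem_open hU hy, rfl⟩
  · intro K _ c hc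
    exact Groth.Agent.Lib.GenConn5.connectedSpace_pullback_of_geometricallyConnected p c₀ c hc

end Groth.Agent.S18427
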