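import Groth.Statements.S18429
-- import your own Groth.Agent.* helpers here

set_option autoImplicit false
universe u
open SpinCurv

namespace Groth.Agent.S18429

theorem cong_lin (n r : ℕ) (e : ℕ → ℤ)
    (hdiv : ∀ j : ℕ, 1 ≤ j → j < n * r → (r : ℤ) ∣ e (j - 1) - 2 * e j + e (j + 1)) :
    ∀ j : ℕ, j ≤ n * r → (r : ℤ) ∣ (e j - e 0) - j * (e 1 - e 0) := by
  have hd : ∀ j : ℕ, j < n * r → (r : ℤ) ∣ (e (j + 1) - e j) - (e 1 - e 0) := by
    intro j
    induction j with
    | zero => intro _; simp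
    | succ j ih =>
      intro hj
      have h1 := ih (by omega)
      have h2 := hdiv (j + 1) (by omega) hj
      simp only [Nat.add_sub_cancel] at h2
      have : (e (j + 1 + 1) - e (j + 1)) - (e 1 - e 0) =
          (e j - 2 * e (j + 1) + e (j + 1 + 1)) + ((e (j + 1) - e j) - (e 1 - e 0)) := by ring
      rw [this]
      exact dvd_add h2 h1
  intro j
  induction j with
  | zero => intro _; simp
  | succ j ih =>
    intro hj
    have h1 := ih (by omega)
    have h2 := hd j (by omega)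
    have : (e (j + 1) - e 0) - ((j + 1 : ℕ) : ℤ) * (e 1 - e 0) =
        ((e j - e 0) - j * (e 1 - e 0)) + ((e (j + 1) - e j) - (e 1 - e 0)) := by
      push_cast; ring
    rw [this]
    exact dvd_add h1 h2

/-- Let n ≥ 1 and r ≥ 2 be integers and let e_0, …, e_{nr} be integers with e_0 = e_{nr} = 0 (the
coefficients of a chain of nr - 1 exceptional curves joining two non-exceptional components with
coefficient zero) such that at every interior index 1 ≤ j ≤ nr - 1 the second difference e_{j-1} - 2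
e_j + e_{j+1} (the degree of the divisor Σ e_i E_i on the j-th curve of the chain) is divisible by
r. Then there are integers e'_0, …, e'_{nr}, with e'_j ≡ e_j modulo r for every interior j, with
e'_0 = e'_{nr} = 0 and every e'_j ≤ 0, whose second differences at the interior indices are each 0
or r, and are nonzero at no two distinct interior indices. -/
theorem result (n r : ℕ) (hn : 1 ≤ n) (hr : 2 ≤ r)
    (e : ℕ → ℤ) (he0 : e 0 = 0) (henr : e (n * r) = 0)
    (hdiv : ∀ j : ℕ, 1 ≤ j → j < n * r → (r : ℤ) ∣ e (j - 1) - 2 * e j + e (j + 1)) :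
    ∃ e' : ℕ → ℤ, e' 0 = 0 ∧ e' (n * r) = 0 ∧
      (∀ j : ℕ, 1 ≤ j → j < n * r → (r : ℤ) ∣ e' j - e j) ∧
      (∀ j : ℕ, j ≤ n * r → e' j ≤ 0) ∧
      (∀ j : ℕ, 1 ≤ j → j < n * r →
        (e' (j - 1) - 2 * e' j + e' (j + 1) = 0 ∨ e' (j - 1) - 2 * e' j + e' (j + 1) = r)) ∧
      (∀ j j' : ℕ, 1 ≤ j → j < n * r → 1 ≤ j' → j' < n * r →
        e' (j - 1) - 2 * e' j + e' (j + 1) ≠ 0 → e' (j' - 1) - 2 * e' j' + e' (j' + 1) ≠ 0 → j = j') := by
  have hcong := cong_lin n r e hdiv
  have hrpos : (0 : ℤ) < r := by exact_mod_cast (by omega : 0 < r)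
  -- a ≡ -e 1 mod r, 0 ≤ a < r
  set a : ℤ := (-(e 1)) % (r : ℤ) with ha
  have ha0 : 0 ≤ a := Int.emod_nonneg _ hrpos.ne'
  have har : a < r := Int.emod_lt_of_pos _ hrpos
  have hac : (r : ℤ) ∣ a + e 1 := ⟨-((-(e 1)) / (r : ℤ)), by rw [ha, Int.emod_def]; ring⟩
  obtain ⟨aN, haN⟩ : ∃ aN : ℕ, (aN : ℤ) = a := ⟨a.toNat, Int.toNat_of_nonneg ha0⟩
  have haNr : aN < r := by exact_mod_cast (haN ▸ har : (aN : ℤ) < r)
  set j0 : ℕ := n * (r - aN) with hj0def
  have hj0 : (j0 : ℤ) = n * ((r : ℤ) - a) := by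
    rw [hj0def, ← haN]; push_cast [Nat.cast_sub haNr.le]; ring
  have hj0le : j0 ≤ n * r := Nat.mul_le_mul_left _ (Nat.sub_le _ _)
  -- congruence e j ≡ -a j
  have hej : ∀ j : ℕ, j ≤ n * r → (r : ℤ) ∣ -(a * j) - e j := by
    intro j hj
    have h1 := hcong j hj
    rw [he0] at h1
    simp only [sub_zero] at h1
    have : -(a * j) - e j = -((e j - j * e 1)) - j * (a + e 1) := by ring
    rw [this]
    exact dvd_sub (dvd_neg.2 h1) (Dvd.dvd.mul_left hac _)
  let e' : ℕ → ℤ := fun j => if j ≤ j0 then -(a * (j : ℤ)) else ((r : ℤ) - a) * ((j : ℤ) - (n : ℤ) * r)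
  have e'_le : ∀ j, j ≤ j0 → e' j = -(a * (j : ℤ)) := fun j hj => if_pos hj
  have e'_gt : ∀ j, j0 ≤ j → e' j = ((r : ℤ) - a) * ((j : ℤ) - (n : ℤ) * r) := by
    intro j hj
    rcases hj.eq_or_lt with h | h
    · rw [e'_le j h.symm.le, ← h]
      linear_combination (-(r : ℤ)) * hj0
    · exact if_neg (by omega)
  have hj0pos : aN ≠ 0 → 1 ≤ j0 ∧ j0 < n * r := by
    intro h
    constructor
    · exact Nat.mul_pos (by omega) (by omega)
    · exact Nat.mul_lt_mul_of_pos_left (by omega) (by omega)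
  -- second differences
  have sd_lt : ∀ j : ℕ, 1 ≤ j → j < j0 → e' (j - 1) - 2 * e' j + e' (j + 1) = 0 := by
    intro j h1 h2
    rw [e'_le (j - 1) (by omega), e'_le j (by omega), e'_le (j + 1) (by omega)]
    have : ((j - 1 : ℕ) : ℤ) = (j : ℤ) - 1 := by push_cast [Nat.cast_sub h1]; ring
    rw [this]; push_cast; ring
  have sd_gt : ∀ j : ℕ, 1 ≤ j → j0 < j → e' (j - 1) - 2 * e' j + e' (j + 1) = 0 := by
    intro j h1 h2
    rw [e'_gt (j - 1) (by omega), e'_gt j (by omega), e'_gt (j + 1) (by omega)]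
    have : ((j - 1 : ℕ) : ℤ) = (j : ℤ) - 1 := by push_cast [Nat.cast_sub h1]; ring
    rw [this]; push_cast; ring
  have sd_eq : 1 ≤ j0 → e' (j0 - 1) - 2 * e' j0 + e' (j0 + 1) = r := by
    intro h1
    rw [e'_le (j0 - 1) (by omega), e'_le j0 le_rfl, e'_gt (j0 + 1) (by omega)]
    have : ((j0 - 1 : ℕ) : ℤ) = (j0 : ℤ) - 1 := by push_cast [Nat.cast_sub h1]; ring
    rw [this]; push_cast
    linear_combination (r : ℤ) * hj0
  refine ⟨e', ?_, ?_, ?_, ?_, ?_, ?_⟩
  · rw [e'_le 0 (Nat.zero_le _)]; simp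
  · rw [e'_gt (n * r) hj0le]; push_cast; ring
  · intro j h1 h2
    rcases le_or_gt j j0 with h | h
    · rw [e'_le j h]; exact hej j h2.le
    · rw [e'_gt j h.le]
      have : ((r : ℤ) - a) * ((j : ℤ) - n * r) - e j = (-(a * j) - e j) + r * ((j : ℤ) - n * r + a * n) := by
        ring
      rw [this]
      exact dvd_add (hej j h2.le) (dvd_mul_right _ _)
  · intro j hj
    rcases le_or_gt j j0 with h | h
    · rw [e'_le j h]
      have : 0 ≤ a * (j : ℤ) := mul_nonneg ha0 (by positivity)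
      linarith
    · rw [e'_gt j h.le]
      have h1 : (0 : ℤ) ≤ (r : ℤ) - a := by linarith
      have h2 : (j : ℤ) - n * r ≤ 0 := by
        have : (j : ℤ) ≤ (n * r : ℕ) := by exact_mod_cast hj
        push_cast at this; linarith
      exact mul_nonpos_of_nonneg_of_nonpos h1 h2
  · intro j h1 h2
    rcases lt_trichotomy j j0 with h | h | h
    · exact Or.inl (sd_lt j h1 h)
    · subst h; exact Or.inr (sd_eq h1)
    · exact Or.inl (sd_gt j h1 h)
  · intro j j' h1 h2 h1' h2' hne hne'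
    have hj : j = j0 := by
      rcases lt_trichotomy j j0 with h | h | h
      · exact absurd (sd_lt j h1 h) hne
      · exact h
      · exact absurd (sd_gt j h1 h) hne
    have hj' : j' = j0 := by
      rcases lt_trichotomy j' j0 with h | h | h
      · exact absurd (sd_lt j' h1' h) hne'
      · exact h
      · exact absurd (sd_gt j' h1' h) hne'
    rw [hj, hj']

end Groth.Agent.S18429
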