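import Groth.Statements.S18431
import Mathlib.RingTheory.LocalRing.MaximalIdeal.Basic
import Mathlib.Algebra.Ring.GeomSum

set_option autoImplicit false
universe u
open SpinCurv

namespace Groth.Agent.S18431

/-- Let R be a Noetherian local ring in which the natural number r is invertible and let ξ, ζ ∈ R
satisfy ξ^r = 1 and ζ^r = 1. Then either ξ = ζ, or ξ - ζ is a unit of R. (Consequently an element of
R annihilated by ξ - ζ is zero unless ξ = ζ. In the published setting R is moreover complete; the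
step does not use completeness.) -/
theorem result (R : Type u) [CommRing R] [IsNoetherianRing R] [IsLocalRing R]
    (r : ℕ) (hr : IsUnit (r : R)) (ξ ζ : R) (hξ : ξ ^ r = 1) (hζ : ζ ^ r = 1) :
    ξ = ζ ∨ IsUnit (ξ - ζ) := by
  by_cases hu : IsUnit (ξ - ζ)
  · exact Or.inr hu
  left
  have hr0 : r ≠ 0 := by
    rintro rfl
    simp at hr
  -- ξ - ζ ∈ m
  have hm : ξ - ζ ∈ IsLocalRing.maximalIdeal R := (IsLocalRing.mem_maximalIdeal _).2 hu
  -- geometric sum: (ξ - ζ) * Σ ξ^i ζ^(r-1-i) = ξ^r - ζ^r = 0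
  have hgeom : (∑ i ∈ Finset.range r, ξ ^ i * ζ ^ (r - 1 - i)) * (ξ - ζ) = ξ ^ r - ζ ^ r :=
    (Commute.all ξ ζ).geom_sum₂_mul r
  rw [hξ, hζ, sub_self] at hgeom
  -- the sum is ≡ r ζ^(r-1) mod m, a unit
  have hζu : IsUnit ζ := IsUnit.of_pow_eq_one hζ hr0
  have hsum : IsUnit (∑ i ∈ Finset.range r, ξ ^ i * ζ ^ (r - 1 - i)) := by
    have hcong : (∑ i ∈ Finset.range r, ξ ^ i * ζ ^ (r - 1 - i)) - (r : R) * ζ ^ (r - 1) ∈
        IsLocalRing.maximalIdeal R := by
      have : (r : R) * ζ ^ (r - 1) = ∑ i ∈ Finset.range r, ζ ^ i * ζ ^ (r - 1 - i) := by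
        rw [Finset.sum_congr rfl (fun i hi => by
          rw [← pow_add, Nat.add_sub_cancel' (by have := Finset.mem_range.1 hi; omega)] :
          ∀ i ∈ Finset.range r, ζ ^ i * ζ ^ (r - 1 - i) = ζ ^ (r - 1))]
        simp
      rw [this, ← Finset.sum_sub_distrib]
      refine Submodule.sum_mem _ fun i _ => ?_
      rw [← sub_mul]
      exact Ideal.mul_mem_right _ _ (by
        have : ξ ^ i - ζ ^ i = (ξ - ζ) * ∑ j ∈ Finset.range i, ξ ^ j * ζ ^ (i - 1 - j) := by
          rw [mul_comm]; exact ((Commute.all ξ ζ).geom_sum₂_mul i).symm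
        rw [this]
        exact Ideal.mul_mem_right _ _ hm)
    have hunit : IsUnit ((r : R) * ζ ^ (r - 1)) := hr.mul (hζu.pow _)
    by_contra hn
    have hn' : (∑ i ∈ Finset.range r, ξ ^ i * ζ ^ (r - 1 - i)) ∈ IsLocalRing.maximalIdeal R :=
      (IsLocalRing.mem_maximalIdeal _).2 hn
    have : (r : R) * ζ ^ (r - 1) ∈ IsLocalRing.maximalIdeal R := by
      have := Ideal.sub_mem _ hn' hcong
      simpa using this
    exact (IsLocalRing.mem_maximalIdeal _).1 this hunit
  have := hsum.mul_right_eq_zero.1 hgeom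
  exact sub_eq_zero.1 this

end Groth.Agent.S18431
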