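import Groth.Statements.S18432
import Mathlib
import Groth.Agent.Lib.NodeRing97
-- import your own Groth.Agent.* helpers here

set_option autoImplicit false
universe u
open SpinCurv

namespace Groth.Agent.S18432

open MvPowerSeries Groth.Agent.Lib.NodeRing97 in
/-- the kernel computation in `R[[x, y]]` -/
theorem ker_aux (R : Type u) [CommRing R] [IsNoetherianRing R] [IsLocalRing R]
    (p q : R) (hpq : p * q ∈ IsLocalRing.maximalIdeal R) (a b : MvPowerSeries (Fin 2) R)
    (h1 : X 0 * a + C p * b ∈ Ideal.span {(X 0 * X 1 - C (p * q) : MvPowerSeries (Fin 2) R)})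
    (h2 : C q * a + X 1 * b ∈ Ideal.span {(X 0 * X 1 - C (p * q) : MvPowerSeries (Fin 2) R)}) :
    ∃ s t : MvPowerSeries (Fin 2) R, a = s * C p + t * X 1 ∧ b = - s * X 0 - t * C q := by
  obtain ⟨c, hc⟩ := Ideal.mem_span_singleton'.mp h1
  obtain ⟨e, he⟩ := Ideal.mem_span_singleton'.mp h2
  rw [map_mul] at hc he
  have hb' := eq_lowX_add (b + C q * c)
  have e1 : X 0 * (a - X 1 * c) + C p * (b + C q * c) = 0 := by linear_combination (-1 : MvPowerSeries (Fin 2) R) * hc
  have e2 : X 0 * ((a - X 1 * c) + C p * divX (b + C q * c)) + C p * lowX (b + C q * c) = 0 := by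
    linear_combination e1 - C p * hb'
  have e3 : C p * lowX (b + C q * c) = 0 := by
    ext d
    by_cases hd : d 0 = 0
    · have := congrArg (coeff d) e2
      rwa [map_add, coeff_X0_mul_of_zero _ d hd, zero_add] at this
    · rw [coeff_C_mul, coeff_lowX, if_neg hd, mul_zero, map_zero]
  have e4 : (a - X 1 * c) + C p * divX (b + C q * c) = 0 := by
    apply X0_mul_cancel
    rw [mul_zero]
    rw [e3, add_zero] at e2
    exact e2
  have e5 : X 1 * lowX (b + C q * c) = (X 0 * X 1 - C (p * q)) * (e - divX (b + C q * c)) := by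
    rw [map_mul]
    linear_combination (-1 : MvPowerSeries (Fin 2) R) * he - C q * e4 - X 1 * hb'
  have e6 : e - divX (b + C q * c) = 0 := by
    apply eq_zero_of_no_mixed (p * q) hpq
    intro d
    rw [← e5]
    have : d + e11 = (d + Finsupp.single 0 1) + Finsupp.single 1 1 := by
      unfold e11; rw [add_assoc]
    rw [this, coeff_X1_mul_add, coeff_lowX, if_neg]
    simp
  have e7 : lowX (b + C q * c) = 0 := by
    apply X1_mul_cancel
    rw [e5, e6, mul_zero, mul_zero]
  refine ⟨- divX (b + C q * c), c, ?_, ?_⟩
  · linear_combination e4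
  · rw [e7, zero_add] at hb'
    linear_combination hb'


/-- Let R be a complete Noetherian local ring, p, q elements of its maximal ideal, A = R[[x, y]]/(xy -
pq), and α(p, q) the A-linear endomorphism of A² with matrix (x p; q y), sending a column (a, b) to
(x a + p b, q a + y b). Then the kernel of α(p, q) is the submodule of A² generated by the columns
(p, -x) and (y, -q); equivalently the image of α(p, q) (the standard rank-one torsion-free module
E(p, q)) is presented by two generators ξ, v with the relations p ξ = x v and y ξ = q v. -/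
theorem result (R : Type u) [CommRing R] [IsNoetherianRing R] [IsLocalRing R]
    [IsAdicComplete (IsLocalRing.maximalIdeal R) R]
    (p q : R) (hp : p ∈ IsLocalRing.maximalIdeal R) (hq : q ∈ IsLocalRing.maximalIdeal R) :
    LinearMap.ker (Matrix.mulVecLin (SpinCurv.nodeAlpha R p q)) =
      Submodule.span (SpinCurv.NodeRing R (p * q))
        {![algebraMap R (SpinCurv.NodeRing R (p * q)) p, -SpinCurv.NodeRing.x R (p * q)],
         ![SpinCurv.NodeRing.y R (p * q), -algebraMap R (SpinCurv.NodeRing R (p * q)) q]} := by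
  have hpq : p * q ∈ IsLocalRing.maximalIdeal R := Ideal.mul_mem_right _ _ hp
  have hnode : Ideal.Quotient.mk (Ideal.span {(MvPowerSeries.X 0 * MvPowerSeries.X 1 -
      MvPowerSeries.C (p * q) : MvPowerSeries (Fin 2) R)})
      (MvPowerSeries.X 0 * MvPowerSeries.X 1 - MvPowerSeries.C (p * q)) = 0 :=
    Ideal.Quotient.eq_zero_iff_mem.mpr (Ideal.mem_span_singleton_self _)
  have halg : ∀ r : R, algebraMap R (SpinCurv.NodeRing R (p * q)) r =
      Ideal.Quotient.mk _ (MvPowerSeries.C r) := fun r => rfl
  have hxy : SpinCurv.NodeRing.x R (p * q) * SpinCurv.NodeRing.y R (p * q) =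
      algebraMap R (SpinCurv.NodeRing R (p * q)) p * algebraMap R (SpinCurv.NodeRing R (p * q)) q := by
    rw [halg, halg, ← map_mul, ← map_mul, ← map_mul, ← sub_eq_zero, ← map_sub]
    exact hnode
  apply le_antisymm
  · intro v hv
    rw [LinearMap.mem_ker, Matrix.mulVecLin_apply] at hv
    obtain ⟨a, ha⟩ := Ideal.Quotient.mk_surjective (v 0)
    obtain ⟨b, hb⟩ := Ideal.Quotient.mk_surjective (v 1)
    have h1 := congrFun hv 0
    have h2 := congrFun hv 1
    simp only [SpinCurv.nodeAlpha, Matrix.mulVec, dotProduct, Fin.sum_univ_two, Matrix.of_apply,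
      Matrix.cons_val_zero, Matrix.cons_val_one, Pi.zero_apply, Matrix.cons_val',
      Matrix.cons_val_fin_one] at h1 h2
    rw [← ha, ← hb, halg] at h1 h2
    rw [← map_mul, ← map_mul, ← map_add, Ideal.Quotient.eq_zero_iff_mem] at h1 h2
    obtain ⟨s, t, hs, ht⟩ := ker_aux R p q hpq a b h1 h2
    have hv' : v = (Ideal.Quotient.mk (Ideal.span {(MvPowerSeries.X 0 * MvPowerSeries.X 1 -
        MvPowerSeries.C (p * q) : MvPowerSeries (Fin 2) R)}) s) •
          ![algebraMap R (SpinCurv.NodeRing R (p * q)) p, -SpinCurv.NodeRing.x R (p * q)] +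
        (Ideal.Quotient.mk (Ideal.span {(MvPowerSeries.X 0 * MvPowerSeries.X 1 -
        MvPowerSeries.C (p * q) : MvPowerSeries (Fin 2) R)}) t) • ![SpinCurv.NodeRing.y R (p * q),
        -algebraMap R (SpinCurv.NodeRing R (p * q)) q] := by
      ext i
      fin_cases i
      · simp only [Fin.zero_eta, Fin.isValue, Pi.add_apply, Pi.smul_apply, Matrix.cons_val_zero,
          smul_eq_mul]
        rw [← ha, hs, halg]
        simp only [map_add, map_mul]
      · simp only [Fin.mk_one, Fin.isValue, Pi.add_apply, Pi.smul_apply, Matrix.cons_val_one,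
          smul_eq_mul, Matrix.cons_val_fin_one]
        rw [← hb, ht, halg]
        simp only [map_sub, map_mul, map_neg]
        ring
    rw [hv']
    exact Submodule.add_mem _
      (Submodule.smul_mem _ _ (Submodule.subset_span (Set.mem_insert _ _)))
      (Submodule.smul_mem _ _ (Submodule.subset_span (Set.mem_insert_of_mem _ rfl)))
  · rw [Submodule.span_le]
    intro v hv
    rw [Set.mem_insert_iff, Set.mem_singleton_iff] at hv
    rw [SetLike.mem_coe, LinearMap.mem_ker, Matrix.mulVecLin_apply]
    rcases hv with rfl | rfl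
    · ext i
      fin_cases i
      · simp only [SpinCurv.nodeAlpha, Matrix.mulVec, dotProduct, Fin.sum_univ_two, Matrix.of_apply,
          Matrix.cons_val_zero, Matrix.cons_val_one, Pi.zero_apply, Matrix.cons_val',
          Matrix.cons_val_fin_one, Fin.zero_eta]
        ring
      · simp only [SpinCurv.nodeAlpha, Matrix.mulVec, dotProduct, Fin.sum_univ_two, Matrix.of_apply,
          Matrix.cons_val_zero, Matrix.cons_val_one, Pi.zero_apply, Matrix.cons_val',
          Matrix.cons_val_fin_one, Fin.mk_one]
        linear_combination (-1 : SpinCurv.NodeRing R (p * q)) * hxy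
    · ext i
      fin_cases i
      · simp only [SpinCurv.nodeAlpha, Matrix.mulVec, dotProduct, Fin.sum_univ_two, Matrix.of_apply,
          Matrix.cons_val_zero, Matrix.cons_val_one, Pi.zero_apply, Matrix.cons_val',
          Matrix.cons_val_fin_one, Fin.zero_eta]
        linear_combination hxy
      · simp only [SpinCurv.nodeAlpha, Matrix.mulVec, dotProduct, Fin.sum_univ_two, Matrix.of_apply,
          Matrix.cons_val_zero, Matrix.cons_val_one, Pi.zero_apply, Matrix.cons_val',
          Matrix.cons_val_fin_one, Fin.mk_one]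
        ring

end Groth.Agent.S18432
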