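import Groth.Statements.S18433
import Mathlib
import Groth.Agent.Lib.NodeRing97
import Groth.Agent.Lib.NodeRing97b
-- import your own Groth.Agent.* helpers here

set_option autoImplicit false
universe u
open SpinCurv

namespace Groth.Agent.S18433

open MvPowerSeries Groth.Agent.Lib.NodeRing97 in
/-- injectivity in `R[[x, y]]` -/
theorem inj_aux (R : Type u) [CommRing R] [IsNoetherianRing R] [IsLocalRing R]
    (p q : R) (hpq : p * q ∈ IsLocalRing.maximalIdeal R) (u w : PowerSeries R)
    (h1 : X 0 * u.toMvPowerSeries (0 : Fin 2) + C p * w.toMvPowerSeries (1 : Fin 2) ∈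
      Ideal.span {(X 0 * X 1 - C (p * q) : MvPowerSeries (Fin 2) R)})
    (h2 : C q * u.toMvPowerSeries (0 : Fin 2) + X 1 * w.toMvPowerSeries (1 : Fin 2) ∈
      Ideal.span {(X 0 * X 1 - C (p * q) : MvPowerSeries (Fin 2) R)}) :
    u = 0 ∧ w = 0 := by
  obtain ⟨c, hc⟩ := Ideal.mem_span_singleton'.mp h1
  have hc0 : c = 0 := by
    apply eq_zero_of_no_mixed (p * q) hpq
    intro d
    rw [mul_comm, hc, map_add]
    have e1 : d + e11 = (d + Finsupp.single 1 1) + Finsupp.single 0 1 := by
      unfold e11; rw [add_assoc, add_comm (Finsupp.single 0 1)]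
    have e2 : coeff (d + e11) (X 0 * u.toMvPowerSeries (0 : Fin 2)) = 0 := by
      rw [e1, coeff_X0_mul_add]
      apply coeff_toMv0_of_ne
      simp
    have e3 : coeff (d + e11) (C p * w.toMvPowerSeries (1 : Fin 2)) = 0 := by
      rw [coeff_C_mul, coeff_toMv1_of_ne, mul_zero]
      simp [e11]
    rw [e2, e3, add_zero]
  rw [hc0, zero_mul] at hc
  have hu : u = 0 := by
    ext n
    rw [map_zero, ← coeff_toMv_single (0 : Fin 2) u n,
      ← coeff_X0_mul_add (u.toMvPowerSeries (0 : Fin 2)) (Finsupp.single 0 n)]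
    have := congrArg (coeff (Finsupp.single (0 : Fin 2) n + Finsupp.single 0 1)) hc
    rw [map_add, map_zero, coeff_C_mul, coeff_toMv1_of_ne, mul_zero, add_zero] at this
    · exact this.symm
    · simp
  subst hu
  rw [map_zero, mul_zero, zero_add] at h2
  obtain ⟨c', hc'⟩ := Ideal.mem_span_singleton'.mp h2
  have hc0' : c' = 0 := by
    apply eq_zero_of_no_mixed (p * q) hpq
    intro d
    rw [mul_comm, hc']
    have e1 : d + e11 = (d + Finsupp.single 0 1) + Finsupp.single 1 1 := by
      unfold e11; rw [add_assoc]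
    rw [e1, coeff_X1_mul_add]
    apply coeff_toMv1_of_ne
    simp
  rw [hc0', zero_mul] at hc'
  have hw : w.toMvPowerSeries (1 : Fin 2) = 0 := by
    apply X1_mul_cancel
    rw [← hc', mul_zero]
  refine ⟨rfl, ?_⟩
  apply PowerSeries.toMvPowerSeries_injective (1 : Fin 2)
  rw [hw, map_zero]


/-- Let R be a complete Noetherian local ring, p, q elements of its maximal ideal, A = R[[x, y]]/(xy -
pq), and α(p, q) the endomorphism (a, b) ↦ (x a + p b, q a + y b) of A². Restrict α(p, q) to pairs
(f, g) with f a power series in x alone and g a power series in y alone: the resulting map R[[x]] ×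
R[[y]] → A², (f, g) ↦ (x f + p g, q f + y g), is injective and has the same image as α(p, q). Thus
the image E(p, q) of α(p, q) is identified, R-linearly, with R[[x]] ⊕ R[[y]]. -/
theorem result (R : Type u) [CommRing R] [IsNoetherianRing R] [IsLocalRing R]
    [IsAdicComplete (IsLocalRing.maximalIdeal R) R]
    (p q : R) (hp : p ∈ IsLocalRing.maximalIdeal R) (hq : q ∈ IsLocalRing.maximalIdeal R) :
    Function.Injective (fun fg : PowerSeries R × PowerSeries R =>
        Matrix.mulVec (SpinCurv.nodeAlpha R p q)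
          ![SpinCurv.NodeRing.ofX R (p * q) fg.1, SpinCurv.NodeRing.ofY R (p * q) fg.2]) ∧
    Set.range (fun fg : PowerSeries R × PowerSeries R =>
        Matrix.mulVec (SpinCurv.nodeAlpha R p q)
          ![SpinCurv.NodeRing.ofX R (p * q) fg.1, SpinCurv.NodeRing.ofY R (p * q) fg.2]) =
      Set.range (Matrix.mulVec (SpinCurv.nodeAlpha R p q)) := by
  have hpq : p * q ∈ IsLocalRing.maximalIdeal R := Ideal.mul_mem_right _ _ hp
  have hnode : Ideal.Quotient.mk (Ideal.span {(MvPowerSeries.X 0 * MvPowerSeries.X 1 -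
      MvPowerSeries.C (p * q) : MvPowerSeries (Fin 2) R)})
      (MvPowerSeries.X 0 * MvPowerSeries.X 1 - MvPowerSeries.C (p * q)) = 0 :=
    Ideal.Quotient.eq_zero_iff_mem.mpr (Ideal.mem_span_singleton_self _)
  have halg : ∀ r : R, algebraMap R (SpinCurv.NodeRing R (p * q)) r =
      Ideal.Quotient.mk _ (MvPowerSeries.C r) := fun r => rfl
  have hxy : SpinCurv.NodeRing.x R (p * q) * SpinCurv.NodeRing.y R (p * q) =
      algebraMap R (SpinCurv.NodeRing R (p * q)) p * algebraMap R (SpinCurv.NodeRing R (p * q)) q := by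
    rw [halg, halg, ← map_mul, ← map_mul, ← map_mul, ← sub_eq_zero, ← map_sub]
    exact hnode
  have hmul : ∀ a b : SpinCurv.NodeRing R (p * q),
      Matrix.mulVec (SpinCurv.nodeAlpha R p q) ![a, b] =
        ![SpinCurv.NodeRing.x R (p * q) * a + algebraMap R (SpinCurv.NodeRing R (p * q)) p * b,
          algebraMap R (SpinCurv.NodeRing R (p * q)) q * a + SpinCurv.NodeRing.y R (p * q) * b] := by
    intro a b
    ext i
    fin_cases i
    · simp only [SpinCurv.nodeAlpha, Matrix.mulVec, dotProduct, Fin.sum_univ_two, Matrix.of_apply,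
        Matrix.cons_val_zero, Matrix.cons_val_one, Matrix.cons_val',
        Matrix.cons_val_fin_one, Fin.zero_eta]
    · simp only [SpinCurv.nodeAlpha, Matrix.mulVec, dotProduct, Fin.sum_univ_two, Matrix.of_apply,
        Matrix.cons_val_zero, Matrix.cons_val_one, Matrix.cons_val',
        Matrix.cons_val_fin_one, Fin.mk_one]
  constructor
  · rintro ⟨f, g⟩ ⟨f', g'⟩ hfg
    simp only at hfg
    rw [hmul, hmul] at hfg
    have h0 := congrFun hfg 0
    have h1 := congrFun hfg 1
    simp only [Matrix.cons_val_zero, Matrix.cons_val_one, Matrix.cons_val_fin_one] at h0 h1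
    have key := inj_aux R p q hpq (f - f') (g - g') (by
      rw [← Ideal.Quotient.eq_zero_iff_mem]
      simp only [map_add, map_mul, map_sub]
      rw [halg] at h0
      linear_combination h0) (by
      rw [← Ideal.Quotient.eq_zero_iff_mem]
      simp only [map_add, map_mul, map_sub]
      rw [halg] at h1
      linear_combination h1)
    rw [sub_eq_zero, sub_eq_zero] at key
    rw [key.1, key.2]
  · ext v
    constructor
    · rintro ⟨fg, rfl⟩
      exact ⟨_, rfl⟩
    · rintro ⟨w, rfl⟩
      obtain ⟨a, ha⟩ := Ideal.Quotient.mk_surjective (w 0)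
      obtain ⟨b, hb⟩ := Ideal.Quotient.mk_surjective (w 1)
      obtain ⟨fa, ga, hfa⟩ := Groth.Agent.Lib.NodeRing97.exists_normal_form
        (IsLocalRing.maximalIdeal R) (p * q) hpq a
      obtain ⟨fb, gb, hfb⟩ := Groth.Agent.Lib.NodeRing97.exists_normal_form
        (IsLocalRing.maximalIdeal R) (p * q) hpq b
      have hfa2 : Ideal.Quotient.mk (Ideal.span {(MvPowerSeries.X 0 * MvPowerSeries.X 1 -
          MvPowerSeries.C (p * q) : MvPowerSeries (Fin 2) R)}) a =
          Ideal.Quotient.mk _ (fa.toMvPowerSeries (0 : Fin 2)) +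
            SpinCurv.NodeRing.y R (p * q) * Ideal.Quotient.mk _ (ga.toMvPowerSeries (1 : Fin 2)) := by
        have := Ideal.Quotient.eq_zero_iff_mem.mpr hfa
        rw [map_sub, sub_eq_zero] at this
        rw [this, map_add (Ideal.Quotient.mk _), map_mul (Ideal.Quotient.mk _) (MvPowerSeries.X 1)]
      have hfb2 : Ideal.Quotient.mk (Ideal.span {(MvPowerSeries.X 0 * MvPowerSeries.X 1 -
          MvPowerSeries.C (p * q) : MvPowerSeries (Fin 2) R)}) b =
          Ideal.Quotient.mk _ (fb.toMvPowerSeries (0 : Fin 2)) +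
            SpinCurv.NodeRing.y R (p * q) * Ideal.Quotient.mk _ (gb.toMvPowerSeries (1 : Fin 2)) := by
        have := Ideal.Quotient.eq_zero_iff_mem.mpr hfb
        rw [map_sub, sub_eq_zero] at this
        rw [this, map_add (Ideal.Quotient.mk _), map_mul (Ideal.Quotient.mk _) (MvPowerSeries.X 1)]
      have hfb' := PowerSeries.eq_X_mul_shift_add_const fb
      have hfb3 : Ideal.Quotient.mk (Ideal.span {(MvPowerSeries.X 0 * MvPowerSeries.X 1 -
          MvPowerSeries.C (p * q) : MvPowerSeries (Fin 2) R)})
          (fb.toMvPowerSeries (0 : Fin 2)) =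
          SpinCurv.NodeRing.x R (p * q) *
            Ideal.Quotient.mk _ ((PowerSeries.mk fun n => PowerSeries.coeff (n + 1) fb).toMvPowerSeries
              (0 : Fin 2))
          + algebraMap R (SpinCurv.NodeRing R (p * q)) (PowerSeries.constantCoeff fb) := by
        conv_lhs => rw [hfb']
        rw [map_add (PowerSeries.toMvPowerSeries (0 : Fin 2)),
          map_mul (PowerSeries.toMvPowerSeries (0 : Fin 2)), PowerSeries.toMvPowerSeries_X,
          PowerSeries.toMvPowerSeries_C, map_add (Ideal.Quotient.mk _),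
          map_mul (Ideal.Quotient.mk _) (MvPowerSeries.X 0), halg]
      have hw : w = ![Ideal.Quotient.mk _ a, Ideal.Quotient.mk _ b] := by
        ext i
        fin_cases i
        · exact ha.symm
        · exact hb.symm
      refine ⟨(fa + PowerSeries.C p * (PowerSeries.mk fun n => PowerSeries.coeff (n + 1) fb),
        PowerSeries.C q * ga + PowerSeries.C (PowerSeries.constantCoeff fb) + PowerSeries.X * gb), ?_⟩
      simp only
      rw [hw, hmul, hmul]
      unfold SpinCurv.NodeRing.ofX SpinCurv.NodeRing.ofY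
      simp only [map_add, map_mul, PowerSeries.toMvPowerSeries_X, PowerSeries.toMvPowerSeries_C]
      rw [hfa2, hfb2, hfb3]
      simp only [← halg]
      ext i
      fin_cases i
      · simp only [Matrix.cons_val_zero, Fin.zero_eta]
        linear_combination (- Ideal.Quotient.mk _ (ga.toMvPowerSeries (1 : Fin 2))) * hxy
      · simp only [Matrix.cons_val_one, Matrix.cons_val_fin_one, Fin.mk_one]
        linear_combination (- Ideal.Quotient.mk _ ((PowerSeries.mk fun n => PowerSeries.coeff (n + 1) fb).toMvPowerSeries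
              (0 : Fin 2))) * hxy

end Groth.Agent.S18433
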