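import Mathlib
import Groth.Statements.S18434

set_option autoImplicit false
universe u
open SpinCurv

namespace Groth.Agent.S18434

section Helpers

open MvPowerSeries

variable {k : Type u} [Field k]

/-- A finitely supported function on `Fin 2` vanishing at `1` is `single 0 _`. -/
theorem eq_single0 (m : Fin 2 →₀ ℕ) (h : m 1 = 0) : m = Finsupp.single 0 (m 0) := by
  ext i
  fin_cases i
  · simp
  · simpa using h

theorem eq_single1 (m : Fin 2 →₀ ℕ) (h : m 0 = 0) : m = Finsupp.single 1 (m 1) := by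
  ext i
  fin_cases i
  · simpa using h
  · simp

/-- the coordinate map -/
noncomputable def Phi (u v : ℕ) :
    MvPowerSeries (Fin 2) k →ₗ[k] (Fin u → k) × (Fin (v - 1) → k) :=
  LinearMap.prod
    (LinearMap.pi fun i : Fin u => MvPowerSeries.coeff (R := k) (Finsupp.single (0 : Fin 2) (i : ℕ)))
    (LinearMap.pi fun j : Fin (v - 1) =>
      MvPowerSeries.coeff (R := k) (Finsupp.single (1 : Fin 2) ((j : ℕ) + 1)))

theorem Phi_eq_zero_iff (u v : ℕ) (z : MvPowerSeries (Fin 2) k) :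
    Phi u v z = 0 ↔ (∀ i, i < u → coeff (Finsupp.single (0 : Fin 2) i) z = 0) ∧
      (∀ j, j < v - 1 → coeff (Finsupp.single (1 : Fin 2) (j + 1)) z = 0) := by
  unfold Phi
  rw [LinearMap.prod_apply, Prod.mk_eq_zero]
  constructor
  · rintro ⟨h1, h2⟩
    exact ⟨fun i hi => congrFun h1 ⟨i, hi⟩, fun j hj => congrFun h2 ⟨j, hj⟩⟩
  · rintro ⟨h1, h2⟩
    exact ⟨funext fun i => h1 i i.2, funext fun j => h2 j j.2⟩

theorem Phi_apply (u v : ℕ) (z : MvPowerSeries (Fin 2) k) :
    Phi u v z = (fun i : Fin u => coeff (Finsupp.single (0 : Fin 2) (i : ℕ)) z,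
      fun j : Fin (v - 1) => coeff (Finsupp.single (1 : Fin 2) ((j : ℕ) + 1)) z) := rfl

theorem Phi_surjective (u v : ℕ) : Function.Surjective (Phi (k := k) u v) := by
  rintro ⟨p, q⟩
  let z : MvPowerSeries (Fin 2) k := fun m =>
    if m 1 = 0 then (if h : m 0 < u then p ⟨m 0, h⟩ else 0)
    else if m 0 = 0 then (if h : m 1 - 1 < v - 1 then q ⟨m 1 - 1, h⟩ else 0) else 0
  refine ⟨z, ?_⟩
  rw [Phi_apply]
  refine Prod.ext (funext fun i => ?_) (funext fun j => ?_)
  · show z (Finsupp.single 0 (i : ℕ)) = p i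
    simp [z]
  · show z (Finsupp.single 1 ((j : ℕ) + 1)) = q j
    simp [z]

theorem Phi_zero_of_dvd (u v : ℕ) (hu : 1 ≤ u) (hv : 1 ≤ v) (z : MvPowerSeries (Fin 2) k)
    (h : ((X 0 : MvPowerSeries (Fin 2) k) ∣ z ∧ (X 1 : MvPowerSeries (Fin 2) k) ∣ z) ∨
      (X 0 : MvPowerSeries (Fin 2) k) ^ u ∣ z ∨ (X 1 : MvPowerSeries (Fin 2) k) ^ v ∣ z) :
    Phi u v z = 0 := by
  rw [Phi_eq_zero_iff]
  rcases h with ⟨h0, h1⟩ | h | h
  · rw [X_dvd_iff] at h0 h1
    exact ⟨fun i _ => h1 _ (by simp), fun j _ => h0 _ (by simp)⟩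
  · rw [X_pow_dvd_iff] at h
    exact ⟨fun i hi => h _ (by simpa using hi), fun j _ => h _ (by simp; omega)⟩
  · rw [X_pow_dvd_iff] at h
    exact ⟨fun i _ => h _ (by simp; omega), fun j hj => h _ (by simp; omega)⟩

theorem mem_Jf_of_Phi_zero (u v : ℕ) (z : MvPowerSeries (Fin 2) k) (h : Phi u v z = 0) :
    z ∈ Ideal.span {(X 0 : MvPowerSeries (Fin 2) k) * X 1, X 0 ^ u, X 1 ^ v} := by
  rw [Phi_eq_zero_iff] at h
  obtain ⟨h1, h2⟩ := h
  let z0 : MvPowerSeries (Fin 2) k := fun m => if m 1 = 0 then coeff m z else 0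
  let z1 : MvPowerSeries (Fin 2) k := fun m => if m 0 = 0 ∧ m 1 ≠ 0 then coeff m z else 0
  have hz0 : ∀ m, coeff m z0 = if m 1 = 0 then coeff m z else 0 := fun m => rfl
  have hz1 : ∀ m, coeff m z1 = if m 0 = 0 ∧ m 1 ≠ 0 then coeff m z else 0 := fun m => rfl
  have hd0 : (X 0 : MvPowerSeries (Fin 2) k) ^ u ∣ z0 := by
    rw [X_pow_dvd_iff]
    intro m hm
    rw [hz0]
    split_ifs with hm1
    · rw [eq_single0 m hm1]
      exact h1 _ hm
    · rfl
  have hd1 : (X 1 : MvPowerSeries (Fin 2) k) ^ v ∣ z1 := by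
    rw [X_pow_dvd_iff]
    intro m hm
    rw [hz1]
    split_ifs with hm1
    · rw [eq_single1 m hm1.1]
      have : m 1 = (m 1 - 1) + 1 := by have := hm1.2; omega
      rw [this]
      exact h2 _ (by omega)
    · rfl
  have hz2 : ∀ m, (m 0 = 0 ∨ m 1 = 0) → coeff m (z - z0 - z1) = 0 := by
    intro m hm
    rw [map_sub, map_sub, hz0, hz1]
    by_cases hm1 : m 1 = 0
    · rw [if_pos hm1, if_neg (fun h => h.2 hm1)]; ring
    · have hm0 : m 0 = 0 := by tauto
      rw [if_neg hm1, if_pos ⟨hm0, hm1⟩]; ring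
  have hd2 : (X 0 : MvPowerSeries (Fin 2) k) * X 1 ∣ z - z0 - z1 := by
    have hx0 : (X 0 : MvPowerSeries (Fin 2) k) ∣ z - z0 - z1 := by
      rw [X_dvd_iff]
      exact fun m hm => hz2 m (Or.inl hm)
    obtain ⟨y, hy⟩ := hx0
    have hx1 : (X 1 : MvPowerSeries (Fin 2) k) ∣ y := by
      rw [X_dvd_iff]
      intro m hm
      have h3 := hz2 (Finsupp.single 0 1 + m) (Or.inr (by simpa using hm))
      rw [hy, X_def, coeff_add_monomial_mul, one_mul] at h3
      exact h3
    obtain ⟨y', rfl⟩ := hx1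
    exact ⟨y', by rw [hy]; ring⟩
  have hsum : z = (z - z0 - z1) + z0 + z1 := by ring
  rw [hsum]
  refine Ideal.add_mem _ (Ideal.add_mem _ ?_ ?_) ?_
  · obtain ⟨c, hc⟩ := hd2
    rw [hc]
    exact Ideal.mul_mem_right _ _ (Ideal.subset_span (by simp))
  · obtain ⟨c, hc⟩ := hd0
    rw [hc]
    exact Ideal.mul_mem_right _ _ (Ideal.subset_span (by simp))
  · obtain ⟨c, hc⟩ := hd1
    rw [hc]
    exact Ideal.mul_mem_right _ _ (Ideal.subset_span (by simp))

theorem Phi_zero_of_mem_Jf (u v : ℕ) (hu : 1 ≤ u) (hv : 1 ≤ v) (z : MvPowerSeries (Fin 2) k)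
    (h : z ∈ Ideal.span {(X 0 : MvPowerSeries (Fin 2) k) * X 1, X 0 ^ u, X 1 ^ v}) :
    Phi u v z = 0 := by
  rw [Ideal.mem_span_insert] at h
  obtain ⟨a, z', hz', rfl⟩ := h
  rw [Ideal.mem_span_insert] at hz'
  obtain ⟨b, z'', hz'', rfl⟩ := hz'
  rw [Ideal.mem_span_singleton'] at hz''
  obtain ⟨c, rfl⟩ := hz''
  rw [map_add, map_add, Phi_zero_of_dvd u v hu hv _ (Or.inl ⟨⟨a * X 1, by ring⟩, ⟨a * X 0, by ring⟩⟩),
    Phi_zero_of_dvd u v hu hv _ (Or.inr (Or.inl ⟨b, by ring⟩)),
    Phi_zero_of_dvd u v hu hv _ (Or.inr (Or.inr ⟨c, by ring⟩))]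
  simp

end Helpers

/-- Let k be a field, u, v ≥ 1 integers and w ∈ k nonzero. In the ring A = k[[x, y]]/(xy), the quotient
A/(x^u, w y^v) has dimension u + v - 1 over k (a basis is 1, x, …, x^{u-1}, y, …, y^{v-1}); this is
the length of the cokernel at the node of a map whose image is generated by x^u and w y^v. -/
theorem result (k : Type u) [Field k] (u v : ℕ) (hu : 1 ≤ u) (hv : 1 ≤ v)
    (w : k) (hw : w ≠ 0) :
    Module.finrank k (SpinCurv.NodeRing k 0 ⧸
      Ideal.span {SpinCurv.NodeRing.x k 0 ^ u, algebraMap k (SpinCurv.NodeRing k 0) w * SpinCurv.NodeRing.y k 0 ^ v}) =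
      u + v - 1 := by
  set I : Ideal (MvPowerSeries (Fin 2) k) := Ideal.span
    {(MvPowerSeries.X 0 * MvPowerSeries.X 1 - MvPowerSeries.C (0 : k) :
      MvPowerSeries (Fin 2) k)} with hI
  set I' : Ideal (SpinCurv.NodeRing k 0) := Ideal.span {SpinCurv.NodeRing.x k 0 ^ u,
    algebraMap k (SpinCurv.NodeRing k 0) w * SpinCurv.NodeRing.y k 0 ^ v} with hI'
  let π : MvPowerSeries (Fin 2) k →ₐ[k] (SpinCurv.NodeRing k 0 ⧸ I') :=
    (Ideal.Quotient.mkₐ k I').comp (Ideal.Quotient.mkₐ k I)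
  have hπ : ∀ z, π z = Ideal.Quotient.mk I' (Ideal.Quotient.mk I z) := fun z => rfl
  have hπsurj : Function.Surjective π :=
    (Ideal.Quotient.mkₐ_surjective k I').comp (Ideal.Quotient.mkₐ_surjective k I)
  have hC0 : (MvPowerSeries.C (0 : k) : MvPowerSeries (Fin 2) k) = 0 := map_zero _
  have hker : ∀ z, π z = 0 ↔ Phi u v z = 0 := by
    intro z
    constructor
    · intro hz
      apply Phi_zero_of_mem_Jf u v hu hv
      rw [hπ, Ideal.Quotient.eq_zero_iff_mem, hI', Ideal.mem_span_pair] at hz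
      obtain ⟨a, b, hab⟩ := hz
      obtain ⟨a', rfl⟩ := Ideal.Quotient.mk_surjective a
      obtain ⟨b', rfl⟩ := Ideal.Quotient.mk_surjective b
      have h1 : Ideal.Quotient.mk I (a' * MvPowerSeries.X 0 ^ u +
          b' * (MvPowerSeries.C w * MvPowerSeries.X 1 ^ v)) = Ideal.Quotient.mk I z := by
        rw [← hab]
        simp only [map_add, map_mul, map_pow]
        rfl
      rw [Ideal.Quotient.eq, hI, Ideal.mem_span_singleton'] at h1
      obtain ⟨c, hc⟩ := h1
      have hz' : z = (-c) * (MvPowerSeries.X 0 * MvPowerSeries.X 1) + (a' * MvPowerSeries.X 0 ^ u +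
          (b' * MvPowerSeries.C w) * MvPowerSeries.X 1 ^ v) := by
        rw [hC0, sub_zero] at hc
        linear_combination hc
      rw [hz']
      refine Ideal.add_mem _ (Ideal.mul_mem_left _ _ (Ideal.subset_span (by simp)))
        (Ideal.add_mem _ (Ideal.mul_mem_left _ _ (Ideal.subset_span (by simp)))
          (Ideal.mul_mem_left _ _ (Ideal.subset_span (by simp))))
    · intro hz
      have hmem := mem_Jf_of_Phi_zero u v z hz
      have hle : Ideal.span {(MvPowerSeries.X 0 : MvPowerSeries (Fin 2) k) * MvPowerSeries.X 1,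
          MvPowerSeries.X 0 ^ u, MvPowerSeries.X 1 ^ v} ≤ RingHom.ker π.toRingHom := by
        rw [Ideal.span_le]
        intro g hg
        simp only [Set.mem_insert_iff, Set.mem_singleton_iff] at hg
        rw [SetLike.mem_coe, RingHom.mem_ker]
        show π g = 0
        rw [hπ]
        rcases hg with rfl | rfl | rfl
        · have : Ideal.Quotient.mk I (MvPowerSeries.X 0 * MvPowerSeries.X 1) = 0 := by
            rw [Ideal.Quotient.eq_zero_iff_mem, hI]
            apply Ideal.subset_span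
            rw [Set.mem_singleton_iff, hC0, sub_zero]
          rw [this]
          exact map_zero _
        · rw [Ideal.Quotient.eq_zero_iff_mem, map_pow]
          exact Ideal.subset_span (Set.mem_insert _ _)
        · rw [Ideal.Quotient.eq_zero_iff_mem, map_pow]
          have h2 : (Ideal.Quotient.mk I (MvPowerSeries.X 1)) ^ v =
              algebraMap k (SpinCurv.NodeRing k 0) w⁻¹ *
                (algebraMap k (SpinCurv.NodeRing k 0) w * SpinCurv.NodeRing.y k 0 ^ v) := by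
            rw [← mul_assoc, ← map_mul, inv_mul_cancel₀ hw, map_one, one_mul]
          rw [h2]
          exact Ideal.mul_mem_left _ _
            (Ideal.subset_span (Set.mem_insert_of_mem _ (Set.mem_singleton _)))
      exact hle hmem
  have hkereq : LinearMap.ker π.toLinearMap = LinearMap.ker (Phi (k := k) u v) := by
    ext z
    rw [LinearMap.mem_ker, LinearMap.mem_ker]
    exact hker z
  have e1 := π.toLinearMap.quotKerEquivOfSurjective hπsurj
  have e2 := (Phi (k := k) u v).quotKerEquivOfSurjective (Phi_surjective u v)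
  rw [← e1.finrank_eq, hkereq, e2.finrank_eq, Module.finrank_prod, Module.finrank_fin_fun,
    Module.finrank_fin_fun]
  omega

end Groth.Agent.S18434
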