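import Groth.Statements.S18435
import Mathlib.RingTheory.MvPolynomial.Ideal
import Mathlib.Algebra.Polynomial.Laurent

set_option autoImplicit false
universe u
open SpinCurv

namespace Groth.Agent.S18435

open Polynomial LaurentPolynomial

variable (k : Type u) [Field k]

/-- `y ↦ 0` -/
noncomputable def evY0 : SpinCurv.PolyNodeRing k 0 →ₐ[k] k[X] :=
  Ideal.Quotient.liftₐ _ (MvPolynomial.aeval ![Polynomial.X, 0]) (by
    intro a ha
    have hle : Ideal.span {(MvPolynomial.X 0 * MvPolynomial.X 1 - MvPolynomial.C 0 :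
        MvPolynomial (Fin 2) k)} ≤
        RingHom.ker (MvPolynomial.aeval ![(Polynomial.X : k[X]), 0] : _ →ₐ[k] k[X]).toRingHom := by
      rw [Ideal.span_le, Set.singleton_subset_iff]
      simp [RingHom.mem_ker]
    exact hle ha)

/-- `x ↦ 0` -/
noncomputable def evX0 : SpinCurv.PolyNodeRing k 0 →ₐ[k] k[X] :=
  Ideal.Quotient.liftₐ _ (MvPolynomial.aeval ![0, Polynomial.X]) (by
    intro a ha
    have hle : Ideal.span {(MvPolynomial.X 0 * MvPolynomial.X 1 - MvPolynomial.C 0 :
        MvPolynomial (Fin 2) k)} ≤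
        RingHom.ker (MvPolynomial.aeval ![0, (Polynomial.X : k[X])] : _ →ₐ[k] k[X]).toRingHom := by
      rw [Ideal.span_le, Set.singleton_subset_iff]
      simp [RingHom.mem_ker]
    exact hle ha)

@[simp] theorem evY0_x : evY0 k (SpinCurv.PolyNodeRing.x k 0) = Polynomial.X := by
  simp [evY0, SpinCurv.PolyNodeRing.x]
@[simp] theorem evY0_y : evY0 k (SpinCurv.PolyNodeRing.y k 0) = 0 := by
  simp [evY0, SpinCurv.PolyNodeRing.y]
@[simp] theorem evX0_x : evX0 k (SpinCurv.PolyNodeRing.x k 0) = 0 := by
  simp [evX0, SpinCurv.PolyNodeRing.x]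
@[simp] theorem evX0_y : evX0 k (SpinCurv.PolyNodeRing.y k 0) = Polynomial.X := by
  simp [evX0, SpinCurv.PolyNodeRing.y]

theorem hom_ext {B : Type*} [CommRing B] [Algebra k B] (φ ψ : SpinCurv.PolyNodeRing k 0 →ₐ[k] B)
    (hx : φ (SpinCurv.PolyNodeRing.x k 0) = ψ (SpinCurv.PolyNodeRing.x k 0))
    (hy : φ (SpinCurv.PolyNodeRing.y k 0) = ψ (SpinCurv.PolyNodeRing.y k 0)) : φ = ψ := by
  apply Ideal.Quotient.algHom_ext
  apply MvPolynomial.algHom_ext
  intro i
  fin_cases i
  · exact hx
  · exact hy


theorem span_eq : Ideal.span {(MvPolynomial.X 0 * MvPolynomial.X 1 - MvPolynomial.C 0 :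
      MvPolynomial (Fin 2) k)} =
    Ideal.span ((fun s => MvPolynomial.monomial s (1 : k)) ''
      {(Finsupp.single 0 1 + Finsupp.single 1 1 : Fin 2 →₀ ℕ)}) := by
  congr 1
  rw [Set.image_singleton]
  congr 1
  rw [map_zero, sub_zero, MvPolynomial.X, MvPolynomial.X, MvPolynomial.monomial_mul, one_mul]

theorem coeff_aeval_Y0 (P : MvPolynomial (Fin 2) k) (m : Fin 2 →₀ ℕ) (hm : m 1 = 0) :
    (MvPolynomial.aeval ![(Polynomial.X : k[X]), 0] P).coeff (m 0) = MvPolynomial.coeff m P := by
  classical
  rw [MvPolynomial.aeval_def, MvPolynomial.eval₂_eq', Polynomial.finsetSum_coeff]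
  rw [Finset.sum_eq_single m]
  · simp [Fin.prod_univ_two, hm, Polynomial.coeff_C_mul]
  · intro d _ hd
    simp only [Fin.prod_univ_two, Matrix.cons_val_zero, Matrix.cons_val_one, Polynomial.algebraMap_apply,
      Algebra.algebraMap_self, RingHom.id_apply]
    by_cases h1 : d 1 = 0
    · have h0 : d 0 ≠ m 0 := by
        intro h0
        apply hd
        ext i; fin_cases i
        · exact h0
        · simp [h1, hm]
      rw [h1, pow_zero, mul_one, Polynomial.coeff_C_mul, Polynomial.coeff_X_pow, if_neg (Ne.symm h0),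
        mul_zero]
    · rw [zero_pow h1, mul_zero, mul_zero, Polynomial.coeff_zero]
  · intro hm'
    rw [MvPolynomial.notMem_support_iff.1 hm']
    simp

theorem coeff_aeval_X0 (P : MvPolynomial (Fin 2) k) (m : Fin 2 →₀ ℕ) (hm : m 0 = 0) :
    (MvPolynomial.aeval ![0, (Polynomial.X : k[X])] P).coeff (m 1) = MvPolynomial.coeff m P := by
  classical
  rw [MvPolynomial.aeval_def, MvPolynomial.eval₂_eq', Polynomial.finsetSum_coeff]
  rw [Finset.sum_eq_single m]
  · simp [Fin.prod_univ_two, hm, Polynomial.coeff_C_mul]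
  · intro d _ hd
    simp only [Fin.prod_univ_two, Matrix.cons_val_zero, Matrix.cons_val_one, Polynomial.algebraMap_apply,
      Algebra.algebraMap_self, RingHom.id_apply]
    by_cases h1 : d 0 = 0
    · have h0 : d 1 ≠ m 1 := by
        intro h0
        apply hd
        ext i; fin_cases i
        · simp [h1, hm]
        · exact h0
      rw [h1, pow_zero, one_mul, Polynomial.coeff_C_mul, Polynomial.coeff_X_pow, if_neg (Ne.symm h0),
        mul_zero]
    · rw [zero_pow h1, zero_mul, mul_zero, Polynomial.coeff_zero]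
  · intro hm'
    rw [MvPolynomial.notMem_support_iff.1 hm']
    simp

theorem joint_inj (a : SpinCurv.PolyNodeRing k 0) (h1 : evY0 k a = 0) (h2 : evX0 k a = 0) : a = 0 := by
  obtain ⟨P, rfl⟩ := Ideal.Quotient.mk_surjective a
  rw [Ideal.Quotient.eq_zero_iff_mem, span_eq, MvPolynomial.mem_ideal_span_monomial_image]
  intro m hm
  refine ⟨_, rfl, ?_⟩
  have h1' : MvPolynomial.aeval ![(Polynomial.X : k[X]), 0] P = 0 := h1
  have h2' : MvPolynomial.aeval ![0, (Polynomial.X : k[X])] P = 0 := h2
  have hc := MvPolynomial.mem_support_iff.1 hm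
  have hm1 : m 1 ≠ 0 := by
    intro h
    apply hc
    rw [← coeff_aeval_Y0 k P m h, h1', Polynomial.coeff_zero]
  have hm0 : m 0 ≠ 0 := by
    intro h
    apply hc
    rw [← coeff_aeval_X0 k P m h, h2', Polynomial.coeff_zero]
  intro i
  fin_cases i
  · simpa using Nat.one_le_iff_ne_zero.2 hm0
  · simpa using Nat.one_le_iff_ne_zero.2 hm1


theorem coeff0_eq (a : SpinCurv.PolyNodeRing k 0) : (evY0 k a).coeff 0 = (evX0 k a).coeff 0 := by
  have : ((Polynomial.aeval (0 : k)).comp (evY0 k)) = ((Polynomial.aeval (0 : k)).comp (evX0 k)) := by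
    apply hom_ext <;> simp
  have := congrArg (fun φ => φ a) this
  simpa [Polynomial.coeff_zero_eq_aeval_zero] using this

theorem toLaurent_coeff_nat (P : k[X]) (m : ℕ) : (Polynomial.toLaurent P).coeff (m : ℤ) = P.coeff m := by
  rw [LaurentPolynomial.coeff_toLaurent]
  exact Finsupp.mapDomain_apply Nat.castEmbedding.injective _ _

theorem toLaurent_coeff_neg (P : k[X]) (n : ℤ) (hn : n < 0) : (Polynomial.toLaurent P).coeff n = 0 := by
  rw [LaurentPolynomial.coeff_toLaurent]
  apply Finsupp.mapDomain_of_notMem_range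
  rintro ⟨m, hm⟩
  have : (m : ℤ) = n := hm
  omega

/-- Let k be a field and A = k[x, y]/(xy) the node, with the two affine charts U = Spec k[s, y]/(sy) and
V = Spec k[t, x]/(tx) of the curve obtained by the (p, q)-construction with p = q = 0, glued along
k[s, s⁻¹] by t = s⁻¹ (y ↦ 0 from U, x ↦ 0 from V), and with A → O(U) given by x ↦ 0, y ↦ y and A →
O(V) by x ↦ x, y ↦ 0. A global section of O(1) is a pair (g, f) with g = s f on U ∩ V. If such a
pair is annihilated by both x and y (acting through the two restriction maps), then g = 0 and f = 0;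
so the module of global sections of O(1) has no nonzero element killed by the maximal ideal (x, y),
i.e. its direct image on the node is torsion-free there. All three coordinate rings are written as
the quotient of the polynomial ring in two variables by the product of the variables, and the four
restriction homomorphisms are k-algebra maps pinned by their values on generators. (The published
proof reduces the torsion-freeness of the direct image of O(1), for general R, p, q, to exactly this
case of a field with p = q = 0.) -/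
theorem result (k : Type u) [Field k]
    (rU : SpinCurv.PolyNodeRing k 0 →ₐ[k] SpinCurv.PolyNodeRing k 0)
    (hrUx : rU (SpinCurv.PolyNodeRing.x k 0) = 0)
    (hrUy : rU (SpinCurv.PolyNodeRing.y k 0) = SpinCurv.PolyNodeRing.y k 0)
    (rV : SpinCurv.PolyNodeRing k 0 →ₐ[k] SpinCurv.PolyNodeRing k 0)
    (hrVx : rV (SpinCurv.PolyNodeRing.x k 0) = SpinCurv.PolyNodeRing.y k 0)
    (hrVy : rV (SpinCurv.PolyNodeRing.y k 0) = 0)
    (gU : SpinCurv.PolyNodeRing k 0 →ₐ[k] LaurentPolynomial k)
    (hgUs : gU (SpinCurv.PolyNodeRing.x k 0) = LaurentPolynomial.T 1)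
    (hgUy : gU (SpinCurv.PolyNodeRing.y k 0) = 0)
    (gV : SpinCurv.PolyNodeRing k 0 →ₐ[k] LaurentPolynomial k)
    (hgVt : gV (SpinCurv.PolyNodeRing.x k 0) = LaurentPolynomial.T (-1))
    (hgVx : gV (SpinCurv.PolyNodeRing.y k 0) = 0)
    (g f : SpinCurv.PolyNodeRing k 0) (hsec : gU g = LaurentPolynomial.T 1 * gV f)
    (hx : rU (SpinCurv.PolyNodeRing.x k 0) * g = 0 ∧ rV (SpinCurv.PolyNodeRing.x k 0) * f = 0)
    (hy : rU (SpinCurv.PolyNodeRing.y k 0) * g = 0 ∧ rV (SpinCurv.PolyNodeRing.y k 0) * f = 0) :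
    g = 0 ∧ f = 0 := by
  -- y * g = 0, y * f = 0
  have hyg : SpinCurv.PolyNodeRing.y k 0 * g = 0 := by rw [← hrUy]; exact hy.1
  have hyf : SpinCurv.PolyNodeRing.y k 0 * f = 0 := by rw [← hrVx]; exact hx.2
  have hXg : evX0 k g = 0 := by
    have := congrArg (evX0 k) hyg
    rw [map_mul, evX0_y, map_zero (evX0 k)] at this
    exact (mul_eq_zero.1 this).resolve_left Polynomial.X_ne_zero
  have hXf : evX0 k f = 0 := by
    have := congrArg (evX0 k) hyf
    rw [map_mul, evX0_y, map_zero (evX0 k)] at this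
    exact (mul_eq_zero.1 this).resolve_left Polynomial.X_ne_zero
  -- gU, gV in terms of evY0
  have hgU : gU = (Polynomial.toLaurentAlg).comp (evY0 k) := by
    apply hom_ext
    · rw [hgUs]; simp
    · rw [hgUy]; simp
  have hgV : gV = ((LaurentPolynomial.invert (R := k)).toAlgHom.comp Polynomial.toLaurentAlg).comp (evY0 k) := by
    apply hom_ext
    · rw [hgVt]; simp
    · rw [hgVx]; simp
  set G := evY0 k g with hG
  set F := evY0 k f with hF
  have hG0 : G.coeff 0 = 0 := by rw [hG, coeff0_eq, hXg, Polynomial.coeff_zero]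
  have hF0 : F.coeff 0 = 0 := by rw [hF, coeff0_eq, hXf, Polynomial.coeff_zero]
  have hsec' : Polynomial.toLaurent G = LaurentPolynomial.T 1 * LaurentPolynomial.invert (Polynomial.toLaurent F) := by
    have := hsec
    rw [hgU, hgV] at this
    simpa using this
  have hcoeff : ∀ n : ℤ, (Polynomial.toLaurent G).coeff n = (Polynomial.toLaurent F).coeff (1 - n) := by
    intro n
    rw [hsec', LaurentPolynomial.T, AddMonoidAlgebra.coeff_single_mul_apply, one_mul,
      LaurentPolynomial.invert_apply]
    congr 1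
    ring
  have hGz : G = 0 := by
    ext m
    rw [Polynomial.coeff_zero]
    rcases m with _ | _ | m
    · exact hG0
    · rw [← toLaurent_coeff_nat, hcoeff]
      have : (1 : ℤ) - ((0 + 1 : ℕ) : ℤ) = ((0 : ℕ) : ℤ) := by norm_num
      rw [this, toLaurent_coeff_nat]; exact hF0
    · rw [← toLaurent_coeff_nat, hcoeff]
      apply toLaurent_coeff_neg
      push_cast; omega
  have hFz : F = 0 := by
    rw [hGz, map_zero] at hsec'
    have h2 : LaurentPolynomial.invert (Polynomial.toLaurent F) = 0 :=
      ((LaurentPolynomial.isUnit_T (R := k) 1).mul_right_eq_zero).1 hsec'.symm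
    have h3 : Polynomial.toLaurent F = 0 := by
      simpa using h2
    exact Polynomial.toLaurent_eq_zero.1 h3
  exact ⟨joint_inj k g hGz hXg, joint_inj k f hFz hXf⟩

end Groth.Agent.S18435
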