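import Groth.Statements.S18445
import Groth.Agent.Lib.H59PowerSeriesLift
import Groth.Agent.Lib.ArtFunSurj

set_option autoImplicit false
universe u
open CategoryTheory
open Deform

namespace Groth.Agent.S18445

/-- Let k be a field of characteristic zero and R a complete local Noetherian k-algebra with residue
field k, with n the dimension of its cotangent space m_R/m_R². Then R is isomorphic as a k-algebra
to the power series ring k[[x_1, …, x_n]] if and only if for every local Artinian k-algebra A with
residue field k, all A-modules M and M' and every surjective A-linear map f : M' → M, every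
k-algebra homomorphism R → A ⊕ M into the trivial square-zero extension is the composite of some
k-algebra homomorphism R → A ⊕ M' with the map A ⊕ M' → A ⊕ M induced by f. (The modules are taken
in the universe of k, with the A-action on both sides equal; in positive characteristic the
criterion fails, e.g. for k[x]/(x^p).) -/
theorem result
    {k : Type u} [Field k] [CharZero k] (R : ArtFun.CRing k k) :
    Nonempty (R.carrier ≃ₐ[k] MvPowerSeries
        (Fin (Module.finrank (IsLocalRing.ResidueField R.carrier) (IsLocalRing.CotangentSpace R.carrier))) k) ↔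
      ∀ (A : ArtFun.Art k k) (M M' : Type u) [AddCommGroup M] [Module (↥A) M] [Module (↥A)ᵐᵒᵖ M]
        [IsCentralScalar (↥A) M] [Module k M] [IsScalarTower k (↥A) M] [IsScalarTower k (↥A)ᵐᵒᵖ M]
        [AddCommGroup M'] [Module (↥A) M'] [Module (↥A)ᵐᵒᵖ M'] [IsCentralScalar (↥A) M'] [Module k M']
        [IsScalarTower k (↥A) M'] [IsScalarTower k (↥A)ᵐᵒᵖ M'] (f : M' →ₗ[↥A] M),
        Function.Surjective f →
          ∀ φ : R.carrier →ₐ[k] TrivSqZeroExt (↥A) M,
            ∃ ψ : R.carrier →ₐ[k] TrivSqZeroExt (↥A) M',
              ∀ r : R.carrier, (ψ r).fst = (φ r).fst ∧ f (ψ r).snd = (φ r).snd := by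
  classical
  open Groth.Agent.Lib.H59PowerSeriesLift Groth.Agent.Lib.H59PowerSeriesCRing IsLocalRing in
  constructor
  · rintro ⟨e⟩ A M M' _ _ _ _ _ _ _ _ _ _ _ _ _ _ f hf φ
    obtain ⟨ψ', hψ'⟩ := lift_powerSeries _ f hf (φ.comp e.symm.toAlgHom)
    refine ⟨ψ'.comp e.toAlgHom, fun r => ?_⟩
    have h1 : tszeMapGen (k := k) f (ψ' (e r)) = φ r := by
      have := DFunLike.congr_fun hψ' (e r)
      change tszeMapGen (k := k) f (ψ' (e r)) = φ (e.symm (e r)) at this
      rwa [e.symm_apply_apply] at this
    constructor
    · change (ψ' (e r)).fst = _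
      rw [← h1, tszeMapGen_fst]
    · change f (ψ' (e r)).snd = _
      rw [← h1, tszeMapGen_snd]
  · intro H
    have hmk : maximalIdeal k = ⊥ := IsLocalRing.maximalIdeal_eq_bot
    have hcompl : IsAdicComplete (maximalIdeal k) k := by
      rw [hmk]; infer_instance
    let kC : ArtFun.CRing k k := Groth.Agent.Lib.H59BaseCRing.baseCRing (Function.surjective_id)
    have hb := exists_basis_gens R.carrier
    generalize Module.finrank (ResidueField R.carrier) (CotangentSpace R.carrier) = n at hb ⊢
    obtain ⟨x, hxm, hgen, hind⟩ := hb
    have hg : R.res.comp (Algebra.ofId k R.carrier) = kC.res :=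
      AlgHom.ext (fun l => R.res.commutes l)
    obtain ⟨u, hu, huc, hux⟩ := exists_hom_complete kC n R (Algebra.ofId k R.carrier) hg x hxm
    have hures : ∀ p, R.res (u p) = (ps kC n).res p := fun p => DFunLike.congr_fun hu p
    have hcomplP := (ps kC n).isAdicComplete
    have hcomplR := R.isAdicComplete
    have hum : ∀ p, p ∈ maximalIdeal (ps kC n).carrier ↔ u p ∈ maximalIdeal R.carrier := by
      intro p
      rw [ArtFun.CRing.mem_maximalIdeal_iff, ArtFun.CRing.mem_maximalIdeal_iff, hures]
    have hmapm : (maximalIdeal (ps kC n).carrier).map (u : (ps kC n).carrier →+* R.carrier) ≤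
        maximalIdeal R.carrier := by
      rw [Ideal.map_le_iff_le_comap]
      intro p hp
      exact (hum p).1 hp
    have husurj : Function.Surjective u := by
      apply ((Groth.Agent.Lib.ArtFunSurj.tfae_surjective (ps kC n).res R.res (ps kC n).res_surjective
        R.res_surjective u hu).out 1 0).1
      apply le_antisymm
      · exact sup_le hmapm (Ideal.pow_le_self two_ne_zero)
      · refine hgen.trans (sup_le ?_ le_sup_right)
        refine le_trans ?_ le_sup_left
        rw [Ideal.span_le]
        rintro _ ⟨i, rfl⟩
        rw [← hux i]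
        exact Ideal.mem_map_of_mem _ (psX_mem_maximalIdeal kC n i)
    have hkeru : RingHom.ker u ≤ maximalIdeal (ps kC n).carrier ^ 2 := by
      intro t ht
      have htm : t ∈ maximalIdeal (ps kC n).carrier := by
        rw [hum, (RingHom.mem_ker.1 ht : u t = 0)]
        exact Ideal.zero_mem _
      rw [maximalIdeal_ps] at htm
      have hbot : (maximalIdeal kC.carrier).map (psC kC n : kC.carrier →+* (ps kC n).carrier) = ⊥ := by
        have : maximalIdeal kC.carrier = ⊥ := hmk
        rw [this, Ideal.map_bot]
      rw [hbot, sup_bot_eq] at htm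
      obtain ⟨c, rfl⟩ := (Ideal.mem_span_range_iff_exists_fun).1 htm
      have h0 : u (∑ i, c i * psX kC n i) = 0 := ht
      rw [map_sum] at h0
      have hsum : ∑ i, u (c i) * x i ∈ maximalIdeal R.carrier ^ 2 := by
        have : ∑ i, u (c i) * x i = 0 := by
          rw [← h0]
          apply Finset.sum_congr rfl
          intro i _
          rw [map_mul, hux]
        rw [this]
        exact Ideal.zero_mem _
      have hc := hind (fun i => u (c i)) hsum
      apply Submodule.sum_mem
      intro i _
      rw [sq]
      exact Ideal.mul_mem_mul ((hum _).2 (hc i)) (psX_mem_maximalIdeal kC n i)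
    have hker : RingHom.ker u = ⊥ := ker_eq_bot_of_lift n u husurj hkeru H
    have huinj : Function.Injective u := (RingHom.injective_iff_ker_eq_bot _).2 hker
    exact ⟨(AlgEquiv.ofBijective u ⟨huinj, husurj⟩).symm⟩

end Groth.Agent.S18445
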