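import Groth.Statements.S18457
import Mathlib.Algebra.Order.Chebyshev
import Mathlib.Tactic
-- import your own Groth.Agent.* helpers here

set_option autoImplicit false
open Finset
open Surf

namespace Groth.Agent.S18457

theorem zero_or_one_of_sum_eq_zero (n : ℕ) (a : Fin n → ℤ) (ha : ∀ i, 0 ≤ a i)
    (h : ∑ i, a i * (a i - 1) = 0) : ∀ i, a i = 0 ∨ a i = 1 := by
  have hbnn : ∀ i ∈ (Finset.univ : Finset (Fin n)), 0 ≤ a i * (a i - 1) := by
    intro i _
    rcases (ha i).eq_or_lt with h0 | h0
    · rw [← h0]; simp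
    · exact mul_nonneg (ha i) (by omega)
  intro i
  have := (Finset.sum_eq_zero_iff_of_nonneg hbnn).1 h i (Finset.mem_univ i)
  rcases mul_eq_zero.1 this with h1 | h1
  · exact Or.inl h1
  · exact Or.inr (by omega)

theorem card_ones (n : ℕ) (a : Fin n → ℤ) (h01 : ∀ i, a i = 0 ∨ a i = 1) :
    ((Finset.univ.filter (fun i => a i = 1)).card : ℤ) = ∑ i, a i := by
  have : ∀ i, a i = if a i = 1 then 1 else 0 := by
    intro i
    rcases h01 i with h | h <;> simp [h]
  rw [Finset.sum_congr rfl (fun i _ => this i), Finset.sum_boole]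


/-- In the Picard lattice of the plane blown up at n ≤ 8 points, with basis h, e_1, …, e_n, form h² = 1,
e_i² = −1, all other products 0, and anticanonical class D = 3h − Σ e_i, let d·h − Σ a_i e_i be a
class with all a_i ≥ 0 (the class of the strict transform of a degree-d plane curve having
multiplicity a_i at the i-th point) which is a (−2)-class orthogonal to D, that is d² − Σ a_i² = −2
and 3d = Σ a_i. Then one of the following holds: d = 1 and every a_i is 0 or 1 with exactly three
equal to 1; d = 2 and every a_i is 0 or 1 with exactly six equal to 1; d = 3, n = 8, and one a_i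
equals 2 while the remaining seven equal 1. The published statement is geometric: under the
general-position hypotheses on the points, no smooth rational curve on the blown-up plane is
orthogonal to D; this row is the lattice enumeration its proof carries out (a line through three of
the points, a conic through six, a cubic through all eight and singular at one). -/
theorem result (n : ℕ) (hn : n ≤ 8)
    (d : ℤ) (a : Fin n → ℤ) (ha : ∀ i, 0 ≤ a i)
    (hsq : d ^ 2 - ∑ i, (a i) ^ 2 = -2) (hK : 3 * d = ∑ i, a i) :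
    (d = 1 ∧ (∀ i, a i = 0 ∨ a i = 1) ∧ (Finset.univ.filter (fun i => a i = 1)).card = 3) ∨
      (d = 2 ∧ (∀ i, a i = 0 ∨ a i = 1) ∧ (Finset.univ.filter (fun i => a i = 1)).card = 6) ∨
      (d = 3 ∧ n = 8 ∧ ∃ j, a j = 2 ∧ ∀ i, i ≠ j → a i = 1) := by
  have hq : ∑ i, (a i) ^ 2 = d ^ 2 + 2 := by linarith
  have hs : ∑ i, a i = 3 * d := hK.symm
  have hd0 : 0 ≤ d := by
    have : 0 ≤ ∑ i, a i := Finset.sum_nonneg (fun i _ => ha i)
    linarith
  have hcs : (∑ i, a i) ^ 2 ≤ ((Finset.univ : Finset (Fin n)).card : ℤ) * ∑ i, (a i) ^ 2 :=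
    sq_sum_le_card_mul_sum_sq
  rw [Finset.card_univ, Fintype.card_fin, hs, hq] at hcs
  have hn' : (n : ℤ) ≤ 8 := by exact_mod_cast hn
  have hd4 : d ≤ 4 := by nlinarith
  have hb : ∑ i, a i * (a i - 1) = d ^ 2 + 2 - 3 * d := by
    have : ∑ i, a i * (a i - 1) = ∑ i, (a i) ^ 2 - ∑ i, a i := by
      rw [← Finset.sum_sub_distrib]
      exact Finset.sum_congr rfl (fun i _ => by ring)
    rw [this, hq, hs]
  have hbnn : ∀ i ∈ (Finset.univ : Finset (Fin n)), 0 ≤ a i * (a i - 1) := by
    intro i _
    rcases (ha i).eq_or_lt with h0 | h0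
    · rw [← h0]; simp
    · exact mul_nonneg (ha i) (by omega)
  interval_cases d
  · -- d = 0
    exfalso
    have h0 : ∀ i ∈ (Finset.univ : Finset (Fin n)), a i = 0 :=
      (Finset.sum_eq_zero_iff_of_nonneg (fun i _ => ha i)).1 (by simpa using hs)
    have : ∑ i, (a i) ^ 2 = 0 := Finset.sum_eq_zero (fun i hi => by rw [h0 i hi]; ring)
    rw [this] at hq
    norm_num at hq
  · -- d = 1
    left
    have h01 := zero_or_one_of_sum_eq_zero n a ha (by rw [hb]; norm_num)
    refine ⟨rfl, h01, ?_⟩
    have := card_ones n a h01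
    rw [hs] at this
    exact_mod_cast this
  · -- d = 2
    right; left
    have h01 := zero_or_one_of_sum_eq_zero n a ha (by rw [hb]; norm_num)
    refine ⟨rfl, h01, ?_⟩
    have := card_ones n a h01
    rw [hs] at this
    exact_mod_cast this
  · -- d = 3
    right; right
    have hb2 : ∑ i, a i * (a i - 1) = 2 := by rw [hb]; norm_num
    -- some b_j ≠ 0
    obtain ⟨j, hj⟩ : ∃ j, a j * (a j - 1) ≠ 0 := by
      by_contra hcon
      push Not at hcon
      rw [Finset.sum_eq_zero (fun i _ => hcon i)] at hb2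
      norm_num at hb2
    have haj2 : 2 ≤ a j := by
      by_contra hlt
      have : a j = 0 ∨ a j = 1 := by have := ha j; omega
      rcases this with h | h <;> simp [h] at hj
    -- split the sum
    have hsplit : a j * (a j - 1) + ∑ i ∈ Finset.univ.erase j, a i * (a i - 1) = 2 := by
      rw [Finset.add_sum_erase Finset.univ (fun i => a i * (a i - 1)) (Finset.mem_univ j)]; exact hb2
    have hrest_nn : 0 ≤ ∑ i ∈ Finset.univ.erase j, a i * (a i - 1) :=
      Finset.sum_nonneg (fun i hi => hbnn i (Finset.mem_univ i))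
    have hbj : a j * (a j - 1) = 2 := by nlinarith
    have haj : a j = 2 := by nlinarith
    have hrest0 : ∑ i ∈ Finset.univ.erase j, a i * (a i - 1) = 0 := by linarith
    have h01 : ∀ i, i ≠ j → (a i = 0 ∨ a i = 1) := by
      intro i hij
      have := (Finset.sum_eq_zero_iff_of_nonneg
        (fun i hi => hbnn i (Finset.mem_univ i))).1 hrest0 i (Finset.mem_erase.2 ⟨hij, Finset.mem_univ i⟩)
      rcases mul_eq_zero.1 this with h1 | h1
      · exact Or.inl h1
      · exact Or.inr (by omega)
    -- sum of the others is 7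
    have hs7 : ∑ i ∈ Finset.univ.erase j, a i = 7 := by
      have := Finset.add_sum_erase Finset.univ a (Finset.mem_univ j)
      rw [hs, haj] at this
      linarith
    have hcard : ((Finset.univ.erase j : Finset (Fin n)).card : ℤ) = (n : ℤ) - 1 := by
      rw [Finset.card_erase_of_mem (Finset.mem_univ j), Finset.card_univ, Fintype.card_fin]
      have : 1 ≤ n := by
        rcases n with _ | n
        · exact j.elim0
        · omega
      push_cast [Nat.cast_sub this]
      ring
    have hsum1 : ∑ i ∈ Finset.univ.erase j, (1 - a i) = (n : ℤ) - 1 - 7 := by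
      rw [Finset.sum_sub_distrib, hs7, Finset.sum_const, nsmul_eq_mul, mul_one, hcard]
    have hterm_nn : ∀ i ∈ Finset.univ.erase j, 0 ≤ 1 - a i := by
      intro i hi
      rcases h01 i (Finset.ne_of_mem_erase hi) with h | h <;> rw [h] <;> norm_num
    have hsum_nn : 0 ≤ ∑ i ∈ Finset.univ.erase j, (1 - a i) := Finset.sum_nonneg hterm_nn
    have hn8 : (n : ℤ) = 8 := by linarith
    have hsum0 : ∑ i ∈ Finset.univ.erase j, (1 - a i) = 0 := by rw [hsum1, hn8]; norm_num
    refine ⟨rfl, by exact_mod_cast hn8, j, haj, ?_⟩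
    intro i hij
    have := (Finset.sum_eq_zero_iff_of_nonneg hterm_nn).1 hsum0 i
      (Finset.mem_erase.2 ⟨hij, Finset.mem_univ i⟩)
    linarith
  · -- d = 4
    exfalso
    have hq18 : ∑ i, (a i) ^ 2 = 18 := by rw [hq]; norm_num
    have hs12 : ∑ i, a i = 12 := by rw [hs]; norm_num
    have h1 : ∑ i, (2 * a i - 3) ^ 2 = 9 * (n : ℤ) - 72 := by
      have : ∑ i, (2 * a i - 3) ^ 2 = 4 * ∑ i, (a i) ^ 2 - 12 * ∑ i, a i + ∑ _i : Fin n, (9 : ℤ) := by
        rw [Finset.mul_sum, Finset.mul_sum, ← Finset.sum_sub_distrib, ← Finset.sum_add_distrib]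
        exact Finset.sum_congr rfl (fun i _ => by ring)
      rw [this, hq18, hs12, Finset.sum_const, Finset.card_univ, Fintype.card_fin, nsmul_eq_mul]
      ring
    have h2 : (n : ℤ) ≤ ∑ i, (2 * a i - 3) ^ 2 := by
      have : ∑ _i : Fin n, (1 : ℤ) ≤ ∑ i, (2 * a i - 3) ^ 2 := by
        apply Finset.sum_le_sum
        intro i _
        have h3 : (2 * a i - 3) ≠ 0 := by omega
        have : 0 < (2 * a i - 3) ^ 2 := by positivity
        omega
      simpa using this
    rw [h1] at h2
    omega

end Groth.Agent.S18457
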