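import Groth.Statements.S1846
import Mathlib.RingTheory.HopfAlgebra.Convolution
import Mathlib.RingTheory.Kaehler.Basic
import Mathlib.LinearAlgebra.TensorProduct.Basis
import Mathlib.LinearAlgebra.FreeModule.PID
import Mathlib.Tactic

set_option autoImplicit false
universe u v
open GrpSch

namespace Groth.Agent.S1846

open TensorProduct Coalgebra HopfAlgebra

section

variable (K : Type u) [Field K] (B : Type v) [CommRing B] [HopfAlgebra K B]

/-- the augmentation ideal. -/
abbrev I : Ideal B := RingHom.ker (Bialgebra.counitAlgHom K B)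

/-- `K·1 + I²` as a `K`-subspace. -/
def W₀ : Submodule K B :=
  Submodule.span K {(1 : B)} ⊔ ((I K B) ^ 2).restrictScalars K

/-- the cotangent space `I/I² = B/(K·1 + I²)`. -/
abbrev V : Type v := B ⧸ W₀ K B

/-- the projection. -/
abbrev π : B →ₗ[K] V K B := (W₀ K B).mkQ

variable {K B}

lemma sub_counit_mem (a : B) : a - algebraMap K B (counit a) ∈ I K B := by
  rw [RingHom.mem_ker, map_sub]
  simp

lemma π_mul (a b : B) :
    π K B (a * b) = (counit a : K) • π K B b + (counit b : K) • π K B a := by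
  rw [← map_smul, ← map_smul, ← map_add, ← sub_eq_zero, ← map_sub]
  simp only [Submodule.mkQ_apply, Submodule.Quotient.mk_eq_zero]
  have h : a * b - ((counit a : K) • b + (counit b : K) • a) =
      (a - algebraMap K B (counit a)) * (b - algebraMap K B (counit b))
        - ((counit a : K) * (counit b : K)) • (1 : B) := by
    simp only [Algebra.smul_def, map_mul]
    ring
  rw [h]
  refine Submodule.sub_mem _ (Submodule.mem_sup_right ?_)
    (Submodule.mem_sup_left (Submodule.smul_mem _ _ (Submodule.subset_span rfl)))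
  rw [Submodule.restrictScalars_mem, pow_two]
  exact Ideal.mul_mem_mul (sub_counit_mem a) (sub_counit_mem b)

/-- `id ⊗ ε`. -/
noncomputable def E : B ⊗[K] B →ₗ[K] B :=
  (TensorProduct.rid K B).toLinearMap ∘ₗ ((counit : B →ₗ[K] K).lTensor B)

@[simp] lemma E_tmul (a b : B) : E (K := K) (a ⊗ₜ[K] b) = (counit b : K) • a := by
  simp [E]

lemma E_comul (a : B) : E (K := K) (comul a) = a := by
  simp [E, Coalgebra.lTensor_counit_comul]

/-- `id ⊗ π`. -/
noncomputable def P : B ⊗[K] B →ₗ[K] B ⊗[K] V K B := (π K B).lTensor B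

@[simp] lemma P_tmul (a b : B) : P (K := K) (a ⊗ₜ[K] b) = a ⊗ₜ[K] π K B b := by
  simp [P]

lemma P_mul (x y : B ⊗[K] B) :
    P (x * y) = E x • P y + E y • P x := by
  induction x using TensorProduct.induction_on with
  | zero => simp
  | add x₁ x₂ h₁ h₂ => rw [add_mul, map_add, h₁, h₂, map_add, map_add, add_smul, smul_add]; abel
  | tmul a b =>
    induction y using TensorProduct.induction_on with
    | zero => simp
    | add y₁ y₂ h₁ h₂ => rw [mul_add, map_add, h₁, h₂, map_add, map_add, add_smul, smul_add]; abel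
    | tmul c e =>
      simp only [Algebra.TensorProduct.tmul_mul_tmul, P_tmul, E_tmul, π_mul, tmul_add, tmul_smul,
        TensorProduct.smul_tmul', smul_eq_mul]
      congr 1
      · rw [smul_mul_assoc]
      · rw [smul_mul_assoc, mul_comm]

/-- the derivation `b ↦ Σ b₁ ⊗ [b₂ - ε b₂]`. -/
noncomputable def D : Derivation K B (B ⊗[K] V K B) :=
  Derivation.mk' (P (K := K) ∘ₗ (comul : B →ₗ[K] B ⊗[K] B)) (fun a b => by
    simp only [LinearMap.comp_apply, Bialgebra.comul_mul, P_mul, E_comul])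

lemma D_apply (b : B) : D (K := K) b = P (comul b) := rfl

/-- `a ⊗ b ↦ S(a) • d b`. -/
noncomputable def W : B ⊗[K] B →ₗ[K] Ω[B⁄K] :=
  TensorProduct.lift (LinearMap.mk₂ K (fun a b => antipode K a • KaehlerDifferential.D K B b)
    (fun a₁ a₂ b => by rw [map_add, add_smul])
    (fun c a b => by rw [LinearMap.map_smul, smul_assoc])
    (fun a b₁ b₂ => by rw [map_add, smul_add])
    (fun c a b => by rw [Derivation.map_smul, smul_comm]))

@[simp] lemma W_tmul (a b : B) :
    W (K := K) (a ⊗ₜ[K] b) = antipode K a • KaehlerDifferential.D K B b := by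
  simp [W]

/-- `a ⊗ b ↦ S(a) b`. -/
noncomputable def m : B ⊗[K] B →ₗ[K] B := LinearMap.mul' K B ∘ₗ (antipode K).rTensor B

@[simp] lemma m_tmul (a b : B) : m (K := K) (a ⊗ₜ[K] b) = antipode K a * b := by
  simp [m]

lemma m_comul (a : B) : m (K := K) (comul a) = algebraMap K B (counit a) := by
  simp [m]

lemma W_mul (z w : B ⊗[K] B) : W (z * w) = m z • W w + m w • W z := by
  induction z using TensorProduct.induction_on with
  | zero => simp
  | add z₁ z₂ h₁ h₂ => rw [add_mul, map_add, h₁, h₂, map_add, map_add, add_smul, smul_add]; abel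
  | tmul a b =>
    induction w using TensorProduct.induction_on with
    | zero => simp
    | add w₁ w₂ h₁ h₂ => rw [mul_add, map_add, h₁, h₂, map_add, map_add, add_smul, smul_add]; abel
    | tmul c e =>
      simp only [Algebra.TensorProduct.tmul_mul_tmul, W_tmul, m_tmul, antipode_mul_distrib,
        Derivation.leibniz, smul_add, smul_smul]
      congr 1
      · congr 1; ring
      · congr 1; ring

/-- the "left invariant form" map `x ↦ Σ S(x₁) d x₂`. -/
noncomputable def ω : B →ₗ[K] Ω[B⁄K] := W (K := K) ∘ₗ (comul : B →ₗ[K] B ⊗[K] B)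

lemma ω_mul (x y : B) :
    ω (K := K) (x * y) = (counit x : K) • ω (K := K) y + (counit y : K) • ω (K := K) x := by
  simp only [ω, LinearMap.comp_apply, Bialgebra.comul_mul, W_mul, m_comul, algebraMap_smul]

lemma ω_one : ω (K := K) (1 : B) = 0 := by
  simp [ω, Algebra.TensorProduct.one_def]

lemma ω_W₀ (x : B) (hx : x ∈ W₀ K B) : ω (K := K) x = 0 := by
  rw [W₀, Submodule.mem_sup] at hx
  obtain ⟨y, hy, z, hz, rfl⟩ := hx
  rw [map_add]
  have h1 : ω (K := K) y = 0 := by
    obtain ⟨c, rfl⟩ := Submodule.mem_span_singleton.1 hy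
    rw [map_smul, ω_one, smul_zero]
  have h2 : ω (K := K) z = 0 := by
    rw [Submodule.restrictScalars_mem, pow_two] at hz
    refine Submodule.mul_induction_on hz (fun a ha b hb => ?_) (fun a b ha hb => ?_)
    · have ha' : (counit a : K) = 0 := ha
      have hb' : (counit b : K) = 0 := hb
      rw [ω_mul, ha', hb', zero_smul, zero_smul, add_zero]
    · rw [map_add, ha, hb, add_zero]
  rw [h1, h2, add_zero]

/-- `ω` on the cotangent space. -/
noncomputable def ωbar : V K B →ₗ[K] Ω[B⁄K] :=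
  (W₀ K B).liftQ (ω (K := K)) (fun x hx => ω_W₀ x hx)

@[simp] lemma ωbar_π (x : B) : ωbar (K := K) (π K B x) = ω (K := K) x := rfl

/-- `a ⊗ z ↦ a • W z`. -/
noncomputable def Q : B ⊗[K] (B ⊗[K] B) →ₗ[K] Ω[B⁄K] :=
  TensorProduct.lift (LinearMap.mk₂ K (fun a z => a • W (K := K) z)
    (fun a₁ a₂ z => by rw [add_smul])
    (fun c a z => by rw [smul_assoc])
    (fun a z₁ z₂ => by rw [map_add, smul_add])
    (fun c a z => by rw [LinearMap.map_smul, smul_comm]))

@[simp] lemma Q_tmul (a : B) (z : B ⊗[K] B) : Q (K := K) (a ⊗ₜ[K] z) = a • W (K := K) z := by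
  simp [Q]

/-- `a ⊗ z ↦ S a • P z`. -/
noncomputable def Q' : B ⊗[K] (B ⊗[K] B) →ₗ[K] B ⊗[K] V K B :=
  TensorProduct.lift (LinearMap.mk₂ K (fun a z => antipode K a • P (K := K) z)
    (fun a₁ a₂ z => by rw [map_add, add_smul])
    (fun c a z => by rw [LinearMap.map_smul, smul_assoc])
    (fun a z₁ z₂ => by rw [map_add, smul_add])
    (fun c a z => by rw [LinearMap.map_smul, smul_comm]))

@[simp] lemma Q'_tmul (a : B) (z : B ⊗[K] B) :
    Q' (K := K) (a ⊗ₜ[K] z) = antipode K a • P (K := K) z := by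
  simp [Q']

/-- coassociativity in the form we need. -/
lemma coassoc_sum (b : B) :
    ∑ i ∈ (ℛ K b).index, (ℛ K b).left i ⊗ₜ[K] comul (R := K) ((ℛ K b).right i) =
    ∑ i ∈ (ℛ K b).index, ∑ j ∈ (ℛ K ((ℛ K b).left i)).index,
      (ℛ K ((ℛ K b).left i)).left j ⊗ₜ[K] ((ℛ K ((ℛ K b).left i)).right j ⊗ₜ[K] (ℛ K b).right i) := by
  rw [sum_tmul_tmul_eq (ℛ K b) (fun i => ℛ K ((ℛ K b).left i)) (fun i => ℛ K ((ℛ K b).right i))]
  refine Finset.sum_congr rfl (fun i _ => ?_)
  rw [← TensorProduct.tmul_sum, (ℛ K ((ℛ K b).right i)).eq]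

lemma key1 (b : B) :
    ∑ i ∈ (ℛ K b).index, (ℛ K b).left i • ω (K := K) ((ℛ K b).right i) =
      KaehlerDifferential.D K B b := by
  have h1 : ∑ i ∈ (ℛ K b).index, (ℛ K b).left i • ω (K := K) ((ℛ K b).right i) =
      Q (K := K) (∑ i ∈ (ℛ K b).index, (ℛ K b).left i ⊗ₜ[K] comul (R := K) ((ℛ K b).right i)) := by
    simp [ω]
  rw [h1, coassoc_sum, map_sum]
  have h2 : ∀ i ∈ (ℛ K b).index,
      Q (K := K) (∑ j ∈ (ℛ K ((ℛ K b).left i)).index,
      (ℛ K ((ℛ K b).left i)).left j ⊗ₜ[K] ((ℛ K ((ℛ K b).left i)).right j ⊗ₜ[K] (ℛ K b).right i)) =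
      (counit (R := K) ((ℛ K b).left i)) • KaehlerDifferential.D K B ((ℛ K b).right i) := by
    intro i _
    rw [map_sum]
    simp only [Q_tmul, W_tmul, smul_smul]
    rw [← Finset.sum_smul, sum_mul_antipode_eq_smul, smul_assoc, one_smul]
  rw [Finset.sum_congr rfl h2]
  simp only [← Derivation.map_smul, ← map_sum]
  rw [sum_counit_smul]

lemma key2 (x : B) :
    ∑ i ∈ (ℛ K x).index, antipode K ((ℛ K x).left i) • D (K := K) ((ℛ K x).right i) =
      (1 : B) ⊗ₜ[K] π K B x := by
  have h1 : ∑ i ∈ (ℛ K x).index, antipode K ((ℛ K x).left i) • D (K := K) ((ℛ K x).right i) =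
      Q' (K := K) (∑ i ∈ (ℛ K x).index, (ℛ K x).left i ⊗ₜ[K] comul (R := K) ((ℛ K x).right i)) := by
    simp [D_apply]
  rw [h1, coassoc_sum, map_sum]
  have h2 : ∀ i ∈ (ℛ K x).index,
      Q' (K := K) (∑ j ∈ (ℛ K ((ℛ K x).left i)).index,
      (ℛ K ((ℛ K x).left i)).left j ⊗ₜ[K] ((ℛ K ((ℛ K x).left i)).right j ⊗ₜ[K] (ℛ K x).right i)) =
      (1 : B) ⊗ₜ[K] ((counit (R := K) ((ℛ K x).left i)) • π K B ((ℛ K x).right i)) := by
    intro i _
    rw [map_sum]
    simp only [Q'_tmul, P_tmul, TensorProduct.smul_tmul', smul_eq_mul]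
    rw [← TensorProduct.sum_tmul, sum_antipode_mul_eq_smul, TensorProduct.smul_tmul]
  rw [Finset.sum_congr rfl h2, ← TensorProduct.tmul_sum]
  simp only [← map_smul, ← map_sum]
  rw [sum_counit_smul]

/-- `Ω → B ⊗ V`. -/
noncomputable def Φ : Ω[B⁄K] →ₗ[B] B ⊗[K] V K B := (D (K := K)).liftKaehlerDifferential

lemma Φ_D (b : B) : Φ (K := K) (KaehlerDifferential.D K B b) = D (K := K) b :=
  Derivation.liftKaehlerDifferential_comp_D _ b

/-- `B ⊗ V → Ω`. -/
noncomputable def Ψ : B ⊗[K] V K B →ₗ[B] Ω[B⁄K] :=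
  TensorProduct.AlgebraTensorModule.lift
    ((LinearMap.lsmul B (V K B →ₗ[K] Ω[B⁄K])).flip (ωbar (K := K)))

@[simp] lemma Ψ_tmul (b : B) (v : V K B) :
    Ψ (K := K) (b ⊗ₜ[K] v) = b • ωbar (K := K) v := by
  simp [Ψ]

lemma Ψ_D (b : B) : Ψ (K := K) (D (K := K) b) = KaehlerDifferential.D K B b := by
  rw [D_apply, ← (ℛ K b).eq, map_sum, map_sum]
  simp only [P_tmul, Ψ_tmul, ωbar_π]
  exact key1 b

lemma Φ_ω (x : B) : Φ (K := K) (ω (K := K) x) = (1 : B) ⊗ₜ[K] π K B x := by
  rw [ω, LinearMap.comp_apply, ← (ℛ K x).eq, map_sum, map_sum]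
  simp only [W_tmul, map_smul, Φ_D]
  exact key2 x

/-- the isomorphism `Ω ≃ B ⊗ (I/I²)`. -/
noncomputable def equiv : Ω[B⁄K] ≃ₗ[B] B ⊗[K] V K B :=
  LinearEquiv.ofLinearMap (Φ (K := K)) (Ψ (K := K))
    (by
      apply TensorProduct.AlgebraTensorModule.ext
      intro b v
      obtain ⟨x, rfl⟩ := (W₀ K B).mkQ_surjective v
      have : b ⊗ₜ[K] (W₀ K B).mkQ x = b • ((1 : B) ⊗ₜ[K] π K B x) := by
        rw [TensorProduct.smul_tmul', smul_eq_mul, mul_one]
      simp only [LinearMap.comp_apply, LinearMap.id_apply, Ψ_tmul, map_smul]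
      rw [this]
      congr 1
      exact Φ_ω x)
    (by
      apply Derivation.liftKaehlerDifferential_unique
      ext b
      change Ψ (K := K) (Φ (K := K) (KaehlerDifferential.D K B b)) = KaehlerDifferential.D K B b
      rw [Φ_D, Ψ_D])

end

/-- Affine case of the last sentence: for a group scheme over a field the module of differentials is a
free module; stated for an affine group scheme Spec B, i.e. for a commutative Hopf algebra B over a
field K: Ω_{B/K} is a free B-module. -/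
theorem result (K : Type u) [Field K] (B : Type v) [CommRing B] [HopfAlgebra K B] : Module.Free B (Ω[B⁄K]) :=
  Module.Free.of_equiv (equiv (K := K) (B := B)).symm

end Groth.Agent.S1846
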