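import Groth.Statements.S18466
import Groth.Agent.Lib.GroupLikeSpan41

set_option autoImplicit false
universe u
open Hopf

namespace Groth.Agent.S18466

open Groth.Agent.Lib.GroupLikeSpan41

/-- Let k be a field and n ≥ 1. The constant group scheme ℤ/n over k is self-dual, that is, isomorphic
to its Cartier dual μ_n — equivalently the Hopf algebra of k-valued functions on the cyclic group of
order n and the group algebra of that group over k (group elements group-like) are isomorphic as
bialgebras — precisely when the field k has a primitive n-th root of unity, i.e. k contains n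
distinct n-th roots of unity in k. (The published statement assumes that the characteristic of k
does not divide n; both directions hold without that assumption by the same argument, since a
primitive n-th root of unity forces n to be nonzero in k, so it is omitted here.) -/
theorem result
    (k : Type u) [Field k] (n : ℕ) [NeZero n] :
    Nonempty (ConstGrp.F k (Multiplicative (ZMod n)) ≃ₐc[k] MonoidAlgebra k (Multiplicative (ZMod n))) ↔
      ∃ ζ : k, IsPrimitiveRoot ζ n := by
  classical
  have hn : n ≠ 0 := NeZero.ne n
  have hcardZ : Nat.card (Multiplicative (ZMod n)) = n := by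
    rw [Nat.card_congr Multiplicative.toAdd, Nat.card_zmod]
  have hfr : Module.finrank k (ConstGrp.F k (Multiplicative (ZMod n))) = n := by
    rw [Module.finrank_eq_card_basis (ConstGrp.basis k (Multiplicative (ZMod n))),
      ← Nat.card_eq_fintype_card, hcardZ]
  have hgen : ∀ w : Multiplicative (ZMod n),
      w = (Multiplicative.ofAdd (1 : ZMod n)) ^ (Multiplicative.toAdd w).val := by
    intro w
    rw [← ofAdd_nsmul, nsmul_eq_mul, mul_one, ZMod.natCast_zmod_val]
    rfl
  constructor
  · rintro ⟨e⟩
    have hgl : ∀ z : Multiplicative (ZMod n),
        IsGroupLikeElem k (e.symm (MonoidAlgebra.single z (1 : k))) := fun z =>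
      (MonoidAlgebra.isGroupLikeElem_single_one (R := k) (A := k) z).map e.symm
    have hchar := fun z => (isGroupLikeElem_F_iff k (Multiplicative (ZMod n)) _).1 (hgl z)
    have hpowm : ∀ (z w : Multiplicative (ZMod n)) (m : ℕ),
        (e.symm (MonoidAlgebra.single z (1 : k))) (w ^ m) =
          (e.symm (MonoidAlgebra.single z (1 : k))) w ^ m := by
      intro z w m
      induction m with
      | zero => rw [pow_zero, pow_zero]; exact (hchar z).1
      | succ m ih => rw [pow_succ, (hchar z).2, ih, pow_succ]
    have hroot : ∀ z : Multiplicative (ZMod n),
        (e.symm (MonoidAlgebra.single z (1 : k))) (Multiplicative.ofAdd (1 : ZMod n)) ^ n = 1 := by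
      intro z
      rw [← hpowm]
      have : (Multiplicative.ofAdd (1 : ZMod n)) ^ n = 1 := by
        rw [← ofAdd_nsmul, nsmul_eq_mul, mul_one, ZMod.natCast_self]
        rfl
      rw [this]
      exact (hchar z).1
    let ι : Multiplicative (ZMod n) → rootsOfUnity n k := fun z =>
      rootsOfUnity.mkOfPowEq _ (hroot z)
    have hι : Function.Injective ι := by
      intro z z' h
      have h1 : (e.symm (MonoidAlgebra.single z (1 : k))) (Multiplicative.ofAdd (1 : ZMod n)) =
          (e.symm (MonoidAlgebra.single z' (1 : k))) (Multiplicative.ofAdd (1 : ZMod n)) := by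
        have := congrArg (fun u : rootsOfUnity n k => ((u : kˣ) : k)) h
        simpa [ι] using this
      have h2 : e.symm (MonoidAlgebra.single z (1 : k)) = e.symm (MonoidAlgebra.single z' (1 : k)) := by
        apply ConstGrp.ext
        intro w
        rw [hgen w, hpowm, hpowm, h1]
      have h3 := e.symm.injective h2
      exact MonoidAlgebra.single_left_injective (one_ne_zero) h3
    apply card_rootsOfUnity_eq_iff_exists_isPrimitiveRoot.1
    apply le_antisymm (card_rootsOfUnity k n)
    calc n = Nat.card (Multiplicative (ZMod n)) := hcardZ.symm
      _ ≤ Nat.card (rootsOfUnity n k) := Nat.card_le_card_of_injective ι hι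
  · rintro ⟨ζ, hζ⟩
    let E : ZMod n → k := fun a => ζ ^ a.val
    have hE_add : ∀ a b : ZMod n, E (a + b) = E a * E b := by
      intro a b
      change ζ ^ (a + b).val = ζ ^ a.val * ζ ^ b.val
      rw [ZMod.val_add, ← pow_add, ← pow_eq_pow_mod _ hζ.pow_eq_one]
    have hE_zero : E 0 = 1 := by
      change ζ ^ (0 : ZMod n).val = 1
      rw [ZMod.val_zero, pow_zero]
    have hE_inj : Function.Injective E := by
      intro a b h
      exact ZMod.val_injective n (hζ.pow_inj (ZMod.val_lt a) (ZMod.val_lt b) h)
    let χ : ZMod n → ConstGrp.F k (Multiplicative (ZMod n)) := fun i j => E (i * Multiplicative.toAdd j)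
    have hχ : ∀ i, IsGroupLikeElem k (χ i) := by
      intro i
      rw [isGroupLikeElem_F_iff]
      refine ⟨?_, fun a b => ?_⟩
      · change E (i * 0) = 1
        rw [mul_zero, hE_zero]
      · change E (i * (Multiplicative.toAdd a + Multiplicative.toAdd b)) = _
        rw [mul_add, hE_add]
    let θ : Multiplicative (ZMod n) →* GroupLike k (ConstGrp.F k (Multiplicative (ZMod n))) :=
      { toFun := fun z => ⟨χ (Multiplicative.toAdd z), hχ _⟩
        map_one' := by
          apply GroupLike.val_injective
          apply ConstGrp.ext
          intro j
          change E (0 * _) = 1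
          rw [zero_mul, hE_zero]
        map_mul' := by
          intro z z'
          apply GroupLike.val_injective
          apply ConstGrp.ext
          intro j
          change E ((Multiplicative.toAdd z + Multiplicative.toAdd z') * _) = E _ * E _
          rw [add_mul, hE_add] }
    have hθinj : Function.Injective θ := by
      intro z z' h
      have h1 := congrArg (fun g : GroupLike k (ConstGrp.F k (Multiplicative (ZMod n))) =>
        g.val (Multiplicative.ofAdd (1 : ZMod n))) h
      change E (Multiplicative.toAdd z * 1) = E (Multiplicative.toAdd z' * 1) at h1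
      rw [mul_one, mul_one] at h1
      exact Multiplicative.toAdd.injective (hE_inj h1)
    have hle := card_groupLike_le k (ConstGrp.F k (Multiplicative (ZMod n)))
    have hfinΓ : Finite (GroupLike k (ConstGrp.F k (Multiplicative (ZMod n)))) :=
      (linearIndep_groupLikeVal (R := k) (A := ConstGrp.F k (Multiplicative (ZMod n)))).finite_of_isNoetherian
    have hge : n ≤ Nat.card (GroupLike k (ConstGrp.F k (Multiplicative (ZMod n)))) := by
      calc n = Nat.card (Multiplicative (ZMod n)) := hcardZ.symm
        _ ≤ _ := Nat.card_le_card_of_injective θ hθinj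
    have hcardΓ : Nat.card (GroupLike k (ConstGrp.F k (Multiplicative (ZMod n)))) =
        Module.finrank k (ConstGrp.F k (Multiplicative (ZMod n))) := by
      rw [hfr] at hle ⊢
      exact le_antisymm hle hge
    have hbij := bijective_liftGroupLike k (ConstGrp.F k (Multiplicative (ZMod n))) hcardΓ
    have hθbij : Function.Bijective θ := by
      rw [Nat.bijective_iff_injective_and_card]
      refine ⟨hθinj, ?_⟩
      rw [hcardΓ, hfr, hcardZ]
    let θe : Multiplicative (ZMod n) ≃* GroupLike k (ConstGrp.F k (Multiplicative (ZMod n))) :=
      MulEquiv.ofBijective θ hθbij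
    exact ⟨(BialgEquiv.ofBijective _ hbij).symm.trans (MonoidAlgebra.domCongrBialgEquiv k k θe.symm)⟩

end Groth.Agent.S18466
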