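import Groth.Statements.S18467
import Mathlib
-- import your own Groth.Agent.* helpers here

set_option autoImplicit false
universe u
open Hopf

namespace Groth.Agent.S18467

/-- character sum vanishes when some value minus one is a unit. -/
lemma sum_char_eq_zero {G R : Type*} [Group G] [Fintype G] [CommRing R] (ψ : G →* Rˣ) (g0 : G)
    (h : IsUnit ((ψ g0 : R) - 1)) : ∑ m : G, (ψ m : R) = 0 := by
  have h1 : (ψ g0 : R) * ∑ m : G, (ψ m : R) = ∑ m : G, (ψ m : R) := by
    rw [Finset.mul_sum]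
    refine Fintype.sum_equiv (Equiv.mulLeft g0) _ _ fun m => ?_
    simp [map_mul]
  have h2 : ((ψ g0 : R) - 1) * ∑ m : G, (ψ m : R) = 0 := by
    rw [sub_mul, h1, one_mul, sub_self]
  exact (h.mul_right_eq_zero).1 h2


/-- Let p be a prime and R a commutative ring containing an element u with u(p − 1) = 1, and let χ be a
homomorphism from the group of units of ℤ/p to the group of units of R such that χ(m) − 1 is a unit
of R for every m ≠ 1. For 0 ≤ i < p − 1 put e_i = u · Σ_m χ(m)^{−i} [m] in the group algebra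
R[(ℤ/p)ˣ]. Then the e_i are idempotents, e_i e_j = 0 for i ≠ j, and Σ_i e_i = 1. (The published
statement is for algebras over the subring of the p-adic integers generated over ℤ by the values of
the Teichmüller character χ and by 1/(p(p − 1)); the hypotheses on R and χ here are the properties
of that situation which the computation uses, so the row is stated for every such pair.) -/
theorem result
    (p : ℕ) [Fact p.Prime] (R : Type u) [CommRing R] (u : R) (hu : u * ((p - 1 : ℕ) : R) = 1)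
    (χ : (ZMod p)ˣ →* Rˣ) (hχ : ∀ m : (ZMod p)ˣ, m ≠ 1 → IsUnit ((χ m : R) - 1)) :
    CompleteOrthogonalIdempotents (fun i : Fin (p - 1) =>
      u • ∑ m : (ZMod p)ˣ, ((χ m⁻¹ : Rˣ) : R) ^ (i : ℕ) • MonoidAlgebra.of R (ZMod p)ˣ m) := by
  classical
  have hcard : Fintype.card (ZMod p)ˣ = p - 1 := ZMod.card_units p
  obtain ⟨g0, hg0⟩ := IsCyclic.exists_generator (α := (ZMod p)ˣ)
  have hord : orderOf g0 = p - 1 := by
    rw [orderOf_eq_card_of_forall_mem_zpowers hg0, Nat.card_eq_fintype_card, hcard]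
  rw [CompleteOrthogonalIdempotents.iff_ortho_complete]
  constructor
  · intro i j hij
    have key : ∀ g : (ZMod p)ˣ, ∑ m : (ZMod p)ˣ,
        ((χ m⁻¹ : Rˣ) : R) ^ (i : ℕ) * ((χ (m⁻¹ * g)⁻¹ : Rˣ) : R) ^ (j : ℕ) = 0 := by
      intro g
      let ψ : (ZMod p)ˣ →* Rˣ :=
        { toFun := fun m => (χ m⁻¹) ^ (i : ℕ) * (χ m) ^ (j : ℕ)
          map_one' := by simp
          map_mul' := fun a b => by
            simp only [mul_inv, map_mul, mul_pow]
            exact mul_mul_mul_comm _ _ _ _ }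
      have hψ : ∀ m, ((χ m⁻¹ : Rˣ) : R) ^ (i : ℕ) * ((χ (m⁻¹ * g)⁻¹ : Rˣ) : R) ^ (j : ℕ) =
          ((χ g⁻¹ : Rˣ) : R) ^ (j : ℕ) * (ψ m : R) := by
        intro m
        have : (χ m⁻¹) ^ (i : ℕ) * (χ (m⁻¹ * g)⁻¹) ^ (j : ℕ) =
            (χ g⁻¹) ^ (j : ℕ) * ψ m := by
          show _ = (χ g⁻¹) ^ (j : ℕ) * ((χ m⁻¹) ^ (i : ℕ) * (χ m) ^ (j : ℕ))
          rw [mul_inv_rev, inv_inv, map_mul, mul_pow]
          exact mul_left_comm _ _ _
        have := congrArg (fun x : Rˣ => (x : R)) this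
        simpa only [Units.val_mul, Units.val_pow_eq_pow_val] using this
      simp_rw [hψ]
      rw [← Finset.mul_sum, sum_char_eq_zero ψ g0, mul_zero]
      -- ψ g0 - 1 is a unit
      have hne : g0⁻¹ ^ (i : ℕ) * g0 ^ (j : ℕ) ≠ 1 := by
        intro h
        rw [inv_pow, inv_mul_eq_one] at h
        have := pow_injOn_Iio_orderOf (x := g0) (by simp [hord])
          (by simp [hord]) h
        exact hij (Fin.ext this)
      have := hχ _ hne
      simpa [ψ, map_mul, map_pow] using this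
    show (u • ∑ m, _) * (u • ∑ m, _) = 0
    rw [smul_mul_smul_comm, Finset.sum_mul_sum]
    have hsum : ∑ m : (ZMod p)ˣ, ∑ m' : (ZMod p)ˣ,
        (((χ m⁻¹ : Rˣ) : R) ^ (i : ℕ) • MonoidAlgebra.of R (ZMod p)ˣ m) *
          (((χ m'⁻¹ : Rˣ) : R) ^ (j : ℕ) • MonoidAlgebra.of R (ZMod p)ˣ m') = 0 := by
      calc _ = ∑ m : (ZMod p)ˣ, ∑ g : (ZMod p)ˣ,
            (((χ m⁻¹ : Rˣ) : R) ^ (i : ℕ) * ((χ (m⁻¹ * g)⁻¹ : Rˣ) : R) ^ (j : ℕ)) •
              MonoidAlgebra.of R (ZMod p)ˣ g := by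
            refine Finset.sum_congr rfl fun m _ => ?_
            refine Fintype.sum_equiv (Equiv.mulLeft m) _ _ fun m' => ?_
            rw [smul_mul_smul_comm, ← map_mul]
            simp
        _ = ∑ g : (ZMod p)ˣ, (∑ m : (ZMod p)ˣ,
            ((χ m⁻¹ : Rˣ) : R) ^ (i : ℕ) * ((χ (m⁻¹ * g)⁻¹ : Rˣ) : R) ^ (j : ℕ)) •
              MonoidAlgebra.of R (ZMod p)ˣ g := by
            rw [Finset.sum_comm]
            simp_rw [Finset.sum_smul]
        _ = 0 := by simp_rw [key]; simp
    rw [hsum, smul_zero]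
  · -- completeness
    rw [← Finset.smul_sum, Finset.sum_comm]
    simp_rw [← Finset.sum_smul]
    rw [Finset.sum_eq_single (1 : (ZMod p)ˣ)]
    · simp only [inv_one, map_one, Units.val_one, one_pow, Finset.sum_const, Finset.card_univ,
        Fintype.card_fin, map_one, nsmul_eq_mul, mul_one]
      rw [smul_smul, hu, one_smul]
    · intro m _ hm
      have hm' : m⁻¹ ≠ 1 := by simpa using hm
      have hgeom : ∑ i : Fin (p - 1), ((χ m⁻¹ : Rˣ) : R) ^ (i : ℕ) = 0 := by
        rw [Fin.sum_univ_eq_sum_range (fun i => ((χ m⁻¹ : Rˣ) : R) ^ i)]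
        have h1 := geom_sum_mul ((χ m⁻¹ : Rˣ) : R) (p - 1)
        have h2 : ((χ m⁻¹ : Rˣ) : R) ^ (p - 1) = 1 := by
          rw [← Units.val_pow_eq_pow_val, ← map_pow, ← hcard, pow_card_eq_one, map_one,
            Units.val_one]
        rw [h2, sub_self] at h1
        exact ((hχ _ hm').mul_left_eq_zero).1 h1
      rw [hgeom, zero_smul]
    · intro h; exact absurd (Finset.mem_univ _) h

end Groth.Agent.S18467
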