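import Groth.Statements.S18470
-- import your own Groth.Agent.* helpers here

set_option autoImplicit false
universe u v
open OortTate

namespace Groth.Agent.S18470

/-- Let R be a commutative ring and A a commutative Hopf algebra over R which is finitely generated and
projective as an R-module (a finite locally free group scheme G = Spec A, not assumed commutative),
and let A^D = Hom_R(A, R) be the dual algebra with its Hopf structure (the Cartier dual when A is
cocommutative), whose counit is evaluation at 1. Then restriction of linear forms to the
augmentation ideal I = ker ε_A of A is a bijection from the augmentation ideal of A^D onto the dual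
module Hom_R(I, R): the dual of the augmentation ideal of G is the augmentation ideal of the dual.
The published statement is for a group scheme of order p over a Λ_p-algebra; the argument uses only
the splitting A = R·1 ⊕ ker ε. -/
theorem result
    (R : Type u) [CommRing R] (A : Type v) [CommRing A] [HopfAlgebra R A]
    [Module.Finite R A] [Module.Projective R A] :
    Function.Bijective (fun f : LinearMap.ker (Bialgebra.counitAlgHom R (CartDual.D R A)).toLinearMap =>
      ((CartDual.toDual R A) (f : CartDual.D R A)).comp
        (LinearMap.ker (Bialgebra.counitAlgHom R A).toLinearMap).subtype) := by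
  classical
  let I := LinearMap.ker (Bialgebra.counitAlgHom R A).toLinearMap
  have hmemI : ∀ a : A, a - (CoalgebraStruct.counit (R := R) a) • (1 : A) ∈ I := by
    intro a
    show (Bialgebra.counitAlgHom R A).toLinearMap _ = 0
    rw [map_sub, map_smul]
    show CoalgebraStruct.counit (R := R) a -
      CoalgebraStruct.counit (R := R) a • CoalgebraStruct.counit (R := R) (1 : A) = 0
    rw [Bialgebra.counit_one, smul_eq_mul, mul_one, sub_self]
  have hf1 : ∀ f : LinearMap.ker (Bialgebra.counitAlgHom R (CartDual.D R A)).toLinearMap,
      (f : CartDual.D R A).ofConv 1 = 0 := by
    intro f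
    exact f.2
  constructor
  · intro f g hfg
    apply Subtype.ext
    apply WithConv.ofConv_injective
    apply LinearMap.ext
    intro a
    have h1 := LinearMap.congr_fun hfg ⟨_, hmemI a⟩
    simp only [LinearMap.coe_comp, Function.comp_apply, Submodule.subtype_apply,
      CartDual.toDual_apply] at h1
    rw [map_sub, map_sub, map_smul, map_smul, hf1 f, hf1 g, smul_zero, sub_zero, sub_zero] at h1
    exact h1
  · intro φ
    let π : A →ₗ[R] I := LinearMap.codRestrict I
      (LinearMap.id - (LinearMap.toSpanSingleton R A 1) ∘ₗ (Bialgebra.counitAlgHom R A).toLinearMap)
      (fun a => hmemI a)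
    have hπ1 : π 1 = 0 := by
      apply Subtype.ext
      show (1 : A) - (CoalgebraStruct.counit (R := R) (1 : A)) • (1 : A) = 0
      rw [Bialgebra.counit_one, one_smul, sub_self]
    have hπI : ∀ a : I, π a = a := by
      intro a
      apply Subtype.ext
      show (a : A) - (CoalgebraStruct.counit (R := R) (a : A)) • (1 : A) = a
      have : CoalgebraStruct.counit (R := R) (a : A) = 0 := a.2
      rw [this, zero_smul, sub_zero]
    refine ⟨⟨WithConv.toConv (φ ∘ₗ π), ?_⟩, ?_⟩
    · show (φ ∘ₗ π) 1 = 0
      rw [LinearMap.comp_apply, hπ1, map_zero]
    · apply LinearMap.ext
      intro a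
      show φ (π a) = φ a
      rw [hπI]

end Groth.Agent.S18470
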