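import Groth.Statements.S18471
import Groth.Agent.Lib.OortTate55b

set_option autoImplicit false
universe u
open OortTate

namespace Groth.Agent.S18471

open Groth.Agent.Lib.OortTate55

/-- Let p be a prime, R a commutative ring containing u with u(p − 1) = 1, and χ a homomorphism from the
units of ℤ/p to the units of R such that χ(m) − 1 is a unit for every m ≠ 1 (the situation of an
algebra over the subring Λ_p of the p-adic integers generated by the Teichmüller values and 1/(p(p −
1)), with χ the Teichmüller character, which is the published setting). Let A be a commutative and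
cocommutative Hopf algebra over R, finitely generated and projective as an R-module, such that the
p-th convolution power of the identity of A is the neutral element (a finite locally free
commutative group killed by p), and let A^D = Hom_R(A, R) be its dual Hopf algebra (the Cartier
dual). For i ≥ 0 let I_i(A) ⊆ A and I_i(A^D) ⊆ A^D be the submodules of elements f of the respective
augmentation ideals with [m]f = χ(m)^i f for every unit m of ℤ/p, [m] the power map. Then
restriction of linear forms to I_i(A) is a bijection from I_i(A^D) onto the dual module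
Hom_R(I_i(A), R). (The published statement is for a group scheme of order p over a Λ_p-algebra and
asserts an isomorphism of R-modules; the map here is the one its proof uses.) -/
theorem result
    (p : ℕ) [Fact p.Prime] (R : Type u) [CommRing R] (u : R) (hu : u * ((p - 1 : ℕ) : R) = 1)
    (χ : (ZMod p)ˣ →* Rˣ) (hχ : ∀ m : (ZMod p)ˣ, m ≠ 1 → IsUnit ((χ m : R) - 1))
    (A : Type u) [CommRing A] [HopfAlgebra R A] [Coalgebra.IsCocomm R A]
    [Module.Finite R A] [Module.Projective R A]
    (hp : (WithConv.toConv (AlgHom.id R A)) ^ p = 1) (i : ℕ) :
    Function.Bijective (fun f : OortTate.eigenAug R (CartDual.D R A) p χ i =>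
      ((CartDual.toDual R A) (f : CartDual.D R A)).comp (OortTate.eigenAug R A p χ i).subtype) := by
  classical
  let I := OortTate.eigenAug R A p χ i
  -- a ↦ a - ε(a)
  let q : A →ₗ[R] A :=
    LinearMap.id - (LinearMap.toSpanSingleton R A 1) ∘ₗ (Bialgebra.counitAlgHom R A).toLinearMap
  have hq : ∀ a : A, q a = a - (CoalgebraStruct.counit (R := R) a) • (1 : A) := fun a => rfl
  have hqker : ∀ a : A, q a ∈ LinearMap.ker (Bialgebra.counitAlgHom R A).toLinearMap := by
    intro a
    rw [mem_augKer_iff, hq, map_sub, map_smul, Bialgebra.counit_one, smul_eq_mul, mul_one, sub_self]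
  have hmem : ∀ a : A, ez u χ (i : ℤ) (q a) ∈ I := by
    intro a
    show _ ∈ OortTate.eigenAug R A p χ i
    rw [eigenAug_eq_map_ez u χ hp hu]
    exact ⟨q a, hqker a, rfl⟩
  have hpwm1 : ∀ m : (ZMod p)ˣ, pwm (R := R) m (1 : A) = 1 := fun m => map_one _
  constructor
  · intro f g hfg
    apply Subtype.ext
    apply WithConv.ofConv_injective
    apply LinearMap.ext
    intro a
    -- both f and g are determined by their values on I
    have key : ∀ (f : OortTate.eigenAug R (CartDual.D R A) p χ i) (a : A),
        (f : CartDual.D R A).ofConv a =
          (f : CartDual.D R A).ofConv (ez u χ (i : ℤ) (q a)) := by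
      intro f a
      obtain ⟨hf1, hfm⟩ := (mem_eigenAug_dual_iff χ i (f : CartDual.D R A)).1 f.2
      have h1 : (f : CartDual.D R A).ofConv a = (f : CartDual.D R A).ofConv (q a) := by
        rw [hq, map_sub, map_smul, hf1, smul_zero, sub_zero]
      rw [h1, ez_apply, map_smul, map_sum]
      simp only [map_smul, hfm, smul_eq_mul]
      simp only [← mul_assoc, cz_neg_mul_self, one_mul]
      rw [Finset.sum_const, Finset.card_univ, card_units_zmod, nsmul_eq_mul, ← mul_assoc, hu,
        one_mul]
    rw [key f a, key g a]
    have := LinearMap.congr_fun hfg ⟨_, hmem a⟩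
    exact this
  · intro φ
    let π : A →ₗ[R] I := LinearMap.codRestrict I (ez u χ (i : ℤ) ∘ₗ q) (fun a => hmem a)
    have hπ : ∀ a : A, ((π a : I) : A) = ez u χ (i : ℤ) (q a) := fun a => rfl
    have hfmem : WithConv.toConv (φ ∘ₗ π) ∈ OortTate.eigenAug R (CartDual.D R A) p χ i := by
      rw [mem_eigenAug_dual_iff]
      constructor
      · show φ (π 1) = 0
        have : π 1 = 0 := by
          apply Subtype.ext
          rw [hπ, hq, Bialgebra.counit_one, one_smul, sub_self, map_zero]
          rfl
        rw [this, map_zero]
      · intro m a
        show φ (π (pwm (R := R) m a)) = cz χ (i : ℤ) m * φ (π a)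
        have : π (pwm (R := R) m a) = cz χ (i : ℤ) m • π a := by
          apply Subtype.ext
          rw [hπ, Submodule.coe_smul, hπ, ← ez_pwm u χ hp]
          congr 1
          rw [hq, hq, map_sub, map_smul, hpwm1, counit_pwm]
        rw [this, map_smul, smul_eq_mul]
    refine ⟨⟨WithConv.toConv (φ ∘ₗ π), hfmem⟩, ?_⟩
    apply LinearMap.ext
    intro a
    show φ (π (a : A)) = φ a
    congr 1
    apply Subtype.ext
    rw [hπ]
    obtain ⟨ha1, ham⟩ := (mem_eigenAug_iff χ i (a : A)).1 a.2
    have hqa : q (a : A) = a := by rw [hq, ha1, zero_smul, sub_zero]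
    rw [hqa]
    exact ez_eq_self u χ hu i i (by simp) _ ham

end Groth.Agent.S18471
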