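import Mathlib
import Groth.Statements.S18479

set_option autoImplicit false
universe u v
open scoped TensorProduct
open OortTate

namespace Groth.Agent.S18479

section Helpers

open Coalgebra

variable {R : Type u} [CommRing R] {A : Type v} [CommRing A] [HopfAlgebra R A]

/-- `(f ⊗ g)` as a functional on `A ⊗ A` -/
noncomputable def pair (f g : A →ₗ[R] R) : A ⊗[R] A →ₗ[R] R :=
  LinearMap.mul' R R ∘ₗ TensorProduct.map f g

@[simp] theorem pair_tmul (f g : A →ₗ[R] R) (a b : A) : pair f g (a ⊗ₜ[R] b) = f a * g b := by
  simp [pair]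

theorem pair_counit_left (ψ : A →ₗ[R] R) (a : A) : pair counit ψ (comul a) = ψ a := by
  have h : pair (R := R) (A := A) counit ψ =
      ψ ∘ₗ (TensorProduct.lid R A).toLinearMap ∘ₗ counit.rTensor A := by
    ext p q
    simp
  rw [h]
  simp [rTensor_counit_comul]

theorem pair_counit_right (ψ : A →ₗ[R] R) (a : A) : pair ψ counit (comul a) = ψ a := by
  have h : pair (R := R) (A := A) ψ counit =
      ψ ∘ₗ (TensorProduct.rid R A).toLinearMap ∘ₗ counit.lTensor A := by
    ext p q
    simp [mul_comm]
  rw [h]
  simp [lTensor_counit_comul]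

variable (x : A) (hx : counit (R := R) x = 0)
  (hgen : ∀ f : A, counit (R := R) f = 0 → ∃ r : R, f = r • x)
  (hfree : ∀ r : R, r • x = 0 → r = 0)

include hgen in
theorem decomp (f : A) : ∃ s : R, f = algebraMap R A (counit f) + s • x := by
  obtain ⟨s, hs⟩ := hgen (f - algebraMap R A (counit f)) (by simp)
  exact ⟨s, by rw [← hs]; ring⟩

/-- the coordinate of `x` -/
noncomputable def phiFun (f : A) : R := Classical.choose (decomp x hgen f)

theorem phiFun_spec (f : A) : f = algebraMap R A (counit f) + phiFun x hgen f • x :=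
  Classical.choose_spec (decomp x hgen f)

include hx hfree in
theorem phiFun_unique (f : A) (r s : R) (h : f = algebraMap R A r + s • x) :
    r = counit f ∧ s = phiFun x hgen f := by
  have h1 : counit (R := R) f = r := by
    rw [h]; simp [hx]
  refine ⟨h1.symm, ?_⟩
  have h2 := phiFun_spec x hgen f
  rw [h1] at h2
  have h3 : (s - phiFun x hgen f) • x = 0 := by
    rw [sub_smul]
    have : algebraMap R A r + s • x = algebraMap R A r + phiFun x hgen f • x := by
      rw [← h, ← h2]
    have := add_left_cancel this
    rw [this, sub_self]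
  exact sub_eq_zero.mp (hfree _ h3)

/-- the coordinate functional -/
noncomputable def phi : A →ₗ[R] R where
  toFun := phiFun x hgen
  map_add' f g := by
    refine ((phiFun_unique x hx hgen hfree (f + g) (counit f + counit g)
      (phiFun x hgen f + phiFun x hgen g) ?_).2).symm
    conv_lhs => rw [phiFun_spec x hgen f, phiFun_spec x hgen g]
    rw [map_add, add_smul]; abel
  map_smul' c f := by
    refine ((phiFun_unique x hx hgen hfree (c • f) (c * counit f)
      (c * phiFun x hgen f) ?_).2).symm
    conv_lhs => rw [phiFun_spec x hgen f]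
    rw [smul_add, smul_smul, map_mul, ← Algebra.smul_def]

theorem phi_spec (f : A) : f = algebraMap R A (counit f) + phi x hx hgen hfree f • x :=
  phiFun_spec x hgen f

theorem phi_algebraMap_add_smul (r s : R) :
    phi x hx hgen hfree (algebraMap R A r + s • x) = s :=
  ((phiFun_unique x hx hgen hfree _ r s rfl).2).symm

theorem phi_one : phi x hx hgen hfree 1 = 0 := by
  have := phi_algebraMap_add_smul x hx hgen hfree 1 0
  simpa using this

theorem phi_x : phi x hx hgen hfree x = 1 := by
  have := phi_algebraMap_add_smul x hx hgen hfree 0 1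
  simpa using this

theorem tensor_decomp (t : A ⊗[R] A) :
    t = pair counit counit t • ((1 : A) ⊗ₜ[R] (1 : A))
      + pair (phi x hx hgen hfree) counit t • (x ⊗ₜ[R] (1 : A))
      + pair counit (phi x hx hgen hfree) t • ((1 : A) ⊗ₜ[R] x)
      + pair (phi x hx hgen hfree) (phi x hx hgen hfree) t • (x ⊗ₜ[R] x) := by
  induction t using TensorProduct.induction_on with
  | zero => simp
  | add s t hs ht =>
    conv_lhs => rw [hs, ht]
    simp only [map_add, add_smul]
    abel
  | tmul f g =>
    conv_lhs => rw [phi_spec x hx hgen hfree f, phi_spec x hx hgen hfree g]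
    simp only [pair_tmul, Algebra.algebraMap_eq_smul_one, TensorProduct.add_tmul,
      TensorProduct.tmul_add, ← TensorProduct.smul_tmul', TensorProduct.tmul_smul, smul_add,
      smul_smul]
    simp only [mul_comm]
    abel

end Helpers

/-- Let R be a commutative ring and A a commutative Hopf algebra over R whose augmentation ideal ker ε
is a free R-module of rank one with generator x (this is the situation of a group scheme of order 2
over a local ring: A free of rank 2, so ker ε is free of rank 1). Then there are a, b ∈ R with x² =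
a·x, Δ(x) = x ⊗ 1 + 1 ⊗ x + b·(x ⊗ x), and ab = −2; thus A is the Hopf algebra R[T]/(T² − aT) with
comultiplication T ↦ T ⊗ 1 + 1 ⊗ T + b T ⊗ T. (The copy works over a Noetherian local ring to get
freeness; the computation uses only that ker ε is free on x.) -/
theorem result
    (R : Type u) [CommRing R] (A : Type v) [CommRing A] [HopfAlgebra R A]
    (x : A) (hx : Bialgebra.counitAlgHom R A x = 0)
    (hgen : ∀ f : A, Bialgebra.counitAlgHom R A f = 0 → ∃ r : R, f = r • x)
    (hfree : ∀ r : R, r • x = 0 → r = 0) :
    ∃ a b : R, x * x = a • x ∧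
      Bialgebra.comulAlgHom R A x = x ⊗ₜ[R] 1 + 1 ⊗ₜ[R] x + b • (x ⊗ₜ[R] x) ∧ a * b = -2 := by
  have hx' : Coalgebra.counit (R := R) x = 0 := hx
  have hgen' : ∀ f : A, Coalgebra.counit (R := R) f = 0 → ∃ r : R, f = r • x := hgen
  set φ := phi x hx' hgen' hfree with hφ
  have hφ1 : φ 1 = 0 := phi_one x hx' hgen' hfree
  have hφx : φ x = 1 := phi_x x hx' hgen' hfree
  -- x * x = a • x
  obtain ⟨a, ha⟩ := hgen' (x * x) (by rw [Bialgebra.counit_mul, hx', mul_zero])
  -- comul x
  set b := pair φ φ (Coalgebra.comul x) with hb
  have hΔ : Coalgebra.comul (R := R) x = x ⊗ₜ[R] 1 + 1 ⊗ₜ[R] x + b • (x ⊗ₜ[R] x) := by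
    have h := tensor_decomp x hx' hgen' hfree (Coalgebra.comul x)
    rw [pair_counit_left, pair_counit_left, pair_counit_right, hx', ← hφ, hφx, ← hb] at h
    rw [h]
    simp only [zero_smul, one_smul, zero_add]
  refine ⟨a, b, ha, hΔ, ?_⟩
  -- first relation
  have h1 : a * a * (b * b) + 3 * (a * b) + 2 = 0 := by
    have hmul : Coalgebra.comul (R := R) (x * x) = Coalgebra.comul x * Coalgebra.comul x :=
      Bialgebra.comul_mul x x
    rw [ha, map_smul, hΔ] at hmul
    have h2 := congrArg (pair φ φ) hmul
    simp only [mul_add, add_mul, smul_mul_assoc, mul_smul_comm, smul_smul, smul_add,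
      Algebra.TensorProduct.tmul_mul_tmul, one_mul, mul_one, ha, map_add, map_smul, pair_tmul,
      TensorProduct.smul_tmul', hφ1, hφx, smul_eq_mul, mul_zero, zero_mul, add_zero, zero_add] at h2
    linear_combination -h2
  -- antipode relation
  obtain ⟨c, hc⟩ := decomp x hgen' (HopfAlgebra.antipode R x)
  rw [HopfAlgebra.counit_antipode, hx', map_zero, zero_add] at hc
  have h2 : c + 1 + a * b * c = 0 := by
    have h := HopfAlgebra.mul_antipode_rTensor_comul_apply (R := R) x
    rw [hΔ, hx', map_zero] at h
    simp only [map_add, map_smul, LinearMap.rTensor_tmul, LinearMap.mul'_apply,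
      HopfAlgebra.antipode_one, hc, mul_one, one_mul, smul_mul_assoc, ha, smul_smul] at h
    apply hfree
    rw [← h]
    simp only [add_smul, one_smul, mul_smul]
    congr 1
    rw [smul_comm a b, smul_comm a c, smul_comm b c]
  linear_combination (a * b + 2) * h2 - c * h1

end Groth.Agent.S18479
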