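import Groth.Statements.S18484
import Groth.Agent.Lib.H69SchReduced

set_option autoImplicit false
universe u
open CategoryTheory CategoryTheory.Limits AlgebraicGeometry MonObj
open Neron

namespace Groth.Agent.S18484


theorem pullback_map_left_fst' {T T' : Scheme.{u}} (q : T' ⟶ T) {A B : Over T} (k : A ⟶ B) :
    ((Over.pullback q).map k).left ≫ pullback.fst B.hom q = pullback.fst A.hom q ≫ k.left := by
  dsimp only [Over.pullback]; exact pullback.lift_fst _ _ _

/-- A morphism to `X` from a reduced scheme `Y` factors through the closed immersion `i : G ⟶ X` as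
soon as a set of points whose specializations fill `Y` is mapped into the range of `i`. -/
theorem exists_lift_of_dense {Y X G : Scheme.{u}} (v : Y ⟶ X) (i : G ⟶ X) [IsClosedImmersion i]
    [IsReduced Y] (D : Set Y) (hD : ∀ y : Y, ∃ y' ∈ D, y' ⤳ y)
    (hv : ∀ y ∈ D, v y ∈ Set.range i) : ∃ u : Y ⟶ G, u ≫ i = v := by
  have hrange : ∀ y : Y, v y ∈ Set.range i := by
    intro y
    obtain ⟨y', hy'D, hy'⟩ := hD y
    have hcl : IsClosed (Set.range i) := i.isClosedEmbedding.isClosed_range
    exact (hy'.map v.continuous).mem_closed hcl (hv y' hy'D)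
  haveI : Surjective (pullback.fst v i) := by
    rw [surjective_iff, ← Set.range_eq_univ, Scheme.Pullback.range_fst]
    exact Set.eq_univ_of_forall hrange
  haveI : IsIso (pullback.fst v i) := isIso_of_isClosedImmersion_of_surjective _
  exact ⟨inv (pullback.fst v i) ≫ pullback.snd v i, by
    rw [Category.assoc, ← pullback.condition, IsIso.inv_hom_id_assoc]⟩


/-- Let R be a Dedekind domain with fraction field K, X a Spec R-scheme which is a Néron model of its
generic fibre X_K, and i : G → X a closed immersion with G smooth over Spec R. Then G is a Néron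
model of its generic fibre G_K: smooth, separated, of finite type, and for every smooth Spec
R-scheme Y restriction to generic fibres is a bijection from R-morphisms Y → G onto K-morphisms Y_K
→ G_K. (The source states this for a closed subgroup scheme of a Néron model; the group laws play no
part and are not assumed. The converse direction of the source, that a Néron model is a closed
subgroup of a Néron model, is immediate and not stated.) -/
theorem result (R : Type u) [CommRing R] [IsDedekindDomain R]
    (X G : Over (Spec (CommRingCat.of R))) (hX : Neron.IsNeronModelOf R X ((Neron.genericFibre R).obj X) (Iso.refl _))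
    (i : G ⟶ X) [IsClosedImmersion i.left] [Smooth G.hom] :
    Neron.IsNeronModelOf R G ((Neron.genericFibre R).obj G) (Iso.refl _) := by
  obtain ⟨hXsm, hXsep, hXft, hXqc, hXN⟩ := hX
  have hw : i.left ≫ X.hom = G.hom := Over.w i
  haveI : Mono i := Over.mono_of_mono_left _
  refine ⟨inferInstance, ?_, inferInstance, ?_, ?_⟩
  · rw [← hw]; infer_instance
  · rw [← hw]; infer_instance
  intro Y hY
  constructor
  · intro g1 g2 h
    dsimp only at h
    rw [Iso.refl_hom, Category.comp_id, Category.comp_id] at h
    have h2 : (Neron.genericFibre R).map (g1 ≫ i) ≫ (Iso.refl _).hom =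
        (Neron.genericFibre R).map (g2 ≫ i) ≫ (Iso.refl _).hom := by
      rw [Functor.map_comp, Functor.map_comp, h]
    have h3 := (hXN Y hY).1 h2
    exact (cancel_mono i).1 h3
  · intro uK
    obtain ⟨v, hv⟩ := (hXN Y hY).2 (uK ≫ (Neron.genericFibre R).map i)
    dsimp only at hv
    rw [Iso.refl_hom, Category.comp_id] at hv
    haveI : IsReduced Y.left := Groth.Agent.Lib.H69SchReduced.isReduced_of_smooth Y.hom
    -- points of the generic fibre
    let pr : ((Neron.genericFibre R).obj Y).left ⟶ Y.left := pullback.fst Y.hom (Neron.genPt R)
    have hD : ∀ y : Y.left, ∃ y' ∈ Set.range pr, y' ⤳ y := by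
      intro y
      let z0 : PrimeSpectrum (FractionRing R) := ⊥
      have hη : (Neron.genPt R) z0 ⤳ Y.hom y := by
        have hle : (PrimeSpectrum.comap (algebraMap R (FractionRing R)) z0).asIdeal ≤
            (Y.hom y : PrimeSpectrum R).asIdeal := by
          intro a ha
          have ha1 : algebraMap R (FractionRing R) a ∈ (⊥ : Ideal (FractionRing R)) := ha
          have ha' : algebraMap R (FractionRing R) a = 0 := ha1
          have : a = 0 := (IsFractionRing.injective R (FractionRing R)) (by rw [ha', map_zero])
          rw [this]; exact Ideal.zero_mem _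
        exact (PrimeSpectrum.le_iff_specializes (R := R)
          (PrimeSpectrum.comap (algebraMap R (FractionRing R)) z0) (Y.hom y)).mp hle
      obtain ⟨y', hy', hy'η⟩ := (Flat.generalizingMap Y.hom) hη
      refine ⟨y', ?_, hy'⟩
      rw [Scheme.Pullback.range_fst]
      exact ⟨z0, hy'η.symm⟩
    have hvD : ∀ y ∈ Set.range pr, v.left y ∈ Set.range i.left := by
      rintro _ ⟨z, rfl⟩
      have e1 : pr ≫ v.left = ((Neron.genericFibre R).map v).left ≫
          pullback.fst X.hom (Neron.genPt R) := (pullback_map_left_fst' _ v).symm
      have e2 : ((Neron.genericFibre R).map i).left ≫ pullback.fst X.hom (Neron.genPt R) =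
          pullback.fst G.hom (Neron.genPt R) ≫ i.left := pullback_map_left_fst' _ i
      have e3 : pr ≫ v.left = (uK.left ≫ pullback.fst G.hom (Neron.genPt R)) ≫ i.left := by
        rw [e1, hv, Over.comp_left, Category.assoc, e2, Category.assoc]
      refine ⟨(uK.left ≫ pullback.fst G.hom (Neron.genPt R)) z, ?_⟩
      rw [← Scheme.Hom.comp_apply, ← e3, Scheme.Hom.comp_apply]
    obtain ⟨u, hu⟩ := exists_lift_of_dense v.left i.left (Set.range pr) hD hvD
    let u' : Y ⟶ G := Over.homMk u (by rw [← hw, ← Category.assoc, hu]; exact Over.w v)
    have hu' : u' ≫ i = v := by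
      apply Over.OverMorphism.ext
      exact hu
    refine ⟨u', ?_⟩
    dsimp only
    rw [Iso.refl_hom, Category.comp_id]
    haveI : Mono ((Neron.genericFibre R).map i) := inferInstance
    rw [← cancel_mono ((Neron.genericFibre R).map i), ← Functor.map_comp, hu', hv]

end Groth.Agent.S18484
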