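import Groth.Statements.S18485
import Groth.Agent.Lib.H79FlatGenDimOpen2
import Groth.Agent.Lib.H86RelDimZero
import Groth.Agent.Lib.H30FibBC

set_option autoImplicit false
universe u
open CategoryTheory CategoryTheory.Limits AlgebraicGeometry MonObj
open Neron

namespace Groth.Agent.S18485

/-- Let R be a Dedekind domain with fraction field K and H a Spec R-scheme which is flat and locally of
finite type over Spec R. If the generic fibre H_K is locally quasi-finite over K, then H is locally
quasi-finite over Spec R. (The published statement is about the schematic closure, in an S-group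
algebraic space of finite type over a connected Dedekind scheme S, of a finite subgroup of the
generic fibre, which it asserts to be a quasi-finite S-group; this row is the statement about flat
schemes locally of finite type over an affine Dedekind base on which that rests. Locally
quasi-finite is meant here without a finite type clause, which is assumed separately.) -/
theorem result (R : Type u) [CommRing R]
    [IsDedekindDomain R] (H : Over (Spec (CommRingCat.of R))) [Flat H.hom] [LocallyOfFiniteType H.hom]
    [LocallyQuasiFinite ((Neron.genericFibre R).obj H).hom] : LocallyQuasiFinite H.hom := by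
  have hlfp : LocallyOfFinitePresentation H.hom := by
    rw [HasRingHomProperty.iff_appLE (P := @LocallyOfFinitePresentation)]
    intro U V e
    have : IsNoetherianRing Γ(Spec (CommRingCat.of R), U) :=
      IsLocallyNoetherian.component_noetherian U
    exact RingHom.FinitePresentation.of_finiteType.mp (H.hom.finiteType_appLE U.2 V.2 e)
  have hlqf : LocallyQuasiFinite (pullback.snd H.hom (Neron.genPt R)) :=
    ‹LocallyQuasiFinite ((Neron.genericFibre R).obj H).hom›
  -- the generic point of the base
  let η₀ : Spec (CommRingCat.of R) := (⟨⊥, Ideal.isPrime_bot⟩ : PrimeSpectrum R)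
  have hη₀ : ∀ s : Spec (CommRingCat.of R), η₀ ⤳ s := fun s =>
    (PrimeSpectrum.le_iff_specializes (⟨⊥, Ideal.isPrime_bot⟩ : PrimeSpectrum R) s).mp bot_le
  have hrange : η₀ ∈ Set.range (Neron.genPt R) := by
    refine ⟨(⟨⊥, Ideal.isPrime_bot⟩ : PrimeSpectrum (FractionRing R)), ?_⟩
    apply PrimeSpectrum.ext
    change Ideal.comap (algebraMap R (FractionRing R)) ⊥ = ⊥
    rw [Ideal.comap_bot_of_injective _ (IsFractionRing.injective R (FractionRing R))]
  -- all local fibre dimensions vanish
  have key : ∀ x : H.left, FlatMor.fibreDimAt H.hom x = 0 := by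
    by_contra hcon
    push Not at hcon
    obtain ⟨x, hx⟩ := hcon
    have hx' : x ∈ {x : H.left | FlatMor.fibreDimAt H.hom x ≤ ((0 : ℕ) : WithBot ℕ∞)}ᶜ := by
      intro hle
      exact hx (le_antisymm (by exact_mod_cast hle)
        (Groth.Agent.Lib.H56LocDim.fibreDimAt_nonneg H.hom x))
    have hopen := Groth.Agent.Lib.H79FlatGenDimOpen2.isOpen_image_setOf_lt_fibreDimAt H.hom 0
    have hmem : η₀ ∈ H.hom '' {x : H.left | FlatMor.fibreDimAt H.hom x ≤ ((0 : ℕ) : WithBot ℕ∞)}ᶜ :=
      (hη₀ (H.hom x)).mem_open hopen ⟨x, hx', rfl⟩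
    obtain ⟨x₀, hx₀, hfx₀⟩ := hmem
    have hx₀r : x₀ ∈ Set.range (pullback.fst H.hom (Neron.genPt R)) := by
      rw [Scheme.Pullback.range_fst]
      change H.hom x₀ ∈ Set.range (Neron.genPt R)
      rw [hfx₀]
      exact hrange
    obtain ⟨z, rfl⟩ := hx₀r
    have h1 := Groth.Agent.Lib.H30FibBC.fibreDimAt_eq_of_isPullback H.hom (Neron.genPt R)
      (pullback.fst H.hom (Neron.genPt R)) (pullback.snd H.hom (Neron.genPt R))
      (IsPullback.of_hasPullback _ _) z
    have h2 : FlatMor.fibreDimAt (pullback.snd H.hom (Neron.genPt R)) z = 0 :=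
      (Groth.Agent.Lib.H86RelDimZero.fibreDimAt_eq_zero_iff _ z).mpr
        (Scheme.Hom.quasiFiniteAt _ z)
    apply hx₀
    change FlatMor.fibreDimAt H.hom ((pullback.fst H.hom (Neron.genPt R)) z) ≤ _
    rw [← h1, h2]
    exact_mod_cast le_rfl
  rw [← Scheme.Hom.quasiFiniteLocus_eq_top_iff]
  ext x
  exact ⟨fun _ => trivial, fun _ =>
    (Groth.Agent.Lib.H86RelDimZero.fibreDimAt_eq_zero_iff H.hom x).mp (key x)⟩

end Groth.Agent.S18485
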