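import Groth.Statements.S18490
import Mathlib.AlgebraicGeometry.Morphisms.Flat
import Mathlib.AlgebraicGeometry.Morphisms.Separated
import Mathlib.AlgebraicGeometry.Morphisms.FiniteType
import Mathlib.RingTheory.Flat.Basic

set_option autoImplicit false
universe u
open CategoryTheory CategoryTheory.Limits AlgebraicGeometry
open FlatMor

namespace Groth.Agent.S18490

/-- A ring map which is a retract of a flat ring map is flat. -/
theorem flat_of_retract {A B C : Type*} [CommRing A] [CommRing B] [CommRing C]
    (φ : A →+* B) (ρ : B →+* C) (σ : C →+* B) (hσρ : σ.comp ρ = RingHom.id B)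
    (h : (ρ.comp φ).Flat) : φ.Flat := by
  let _ := φ.toAlgebra
  let _ := (ρ.comp φ).toAlgebra
  have hC : Module.Flat A C := h
  let i : B →ₗ[A] C :=
    { toFun := ρ
      map_add' := map_add ρ
      map_smul' := by
        intro a b
        show ρ (φ a * b) = (ρ.comp φ) a * ρ b
        rw [map_mul]; rfl }
  let r : C →ₗ[A] B :=
    { toFun := σ
      map_add' := map_add σ
      map_smul' := by
        intro a c
        show σ ((ρ.comp φ) a * c) = φ a * σ c
        rw [map_mul]
        have : σ ((ρ.comp φ) a) = φ a := by
          have := congrArg (fun k => k (φ a)) hσρ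
          simpa using this
        rw [this] }
  have hri : r.comp i = LinearMap.id := by
    ext b
    show σ (ρ b) = b
    have := congrArg (fun k => k b) hσρ
    simpa using this
  exact Module.Flat.of_retract i r hri

/-- A morphism which is a retract of a flat morphism over the same base is flat. -/
theorem flat_of_section {X Z S : Scheme.{u}} (f : X ⟶ S) (r : Z ⟶ X) (t : X ⟶ Z)
    (ht : t ≫ r = 𝟙 X) (hF : Flat (r ≫ f)) : Flat f := by
  rw [Flat.iff_flat_stalkMap]
  intro x
  have hx : r (t x) = x := by
    have := congrArg (fun k : X ⟶ X => k x) ht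
    simpa using this
  have h := (Flat.iff_flat_stalkMap (f := r ≫ f)).mp hF (t x)
  rw [Scheme.Hom.stalkMap_comp] at h
  -- the isomorphism of stalks
  obtain ⟨e, he⟩ : ∃ e : X.presheaf.stalk (r (t x)) ≅ X.presheaf.stalk x,
      r.stalkMap (t x) ≫ t.stalkMap x = e.hom := by
    refine ⟨X.presheaf.stalkCongr (.of_eq hx), ?_⟩
    have h1 := Scheme.Hom.stalkMap_congr_hom (t ≫ r) (𝟙 X) ht x
    have h2 : (t ≫ r).stalkMap x = r.stalkMap (t x) ≫ t.stalkMap x :=
      Scheme.Hom.stalkMap_comp t r x
    have h3 : (𝟙 X : X ⟶ X).stalkMap x = 𝟙 _ := Scheme.Hom.stalkMap_id X x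
    exact h2.symm.trans (h1.trans (by rw [h3]; exact Category.comp_id _))
  have key : (f.stalkMap (r (t x))).hom.Flat := by
    apply flat_of_retract _ (r.stalkMap (t x)).hom (t.stalkMap x ≫ e.inv).hom
    · have : (r.stalkMap (t x) ≫ t.stalkMap x ≫ e.inv) = 𝟙 _ := by
        rw [← Category.assoc, he, Iso.hom_inv_id]
      exact congrArg CommRingCat.Hom.hom this
    · exact h
  exact hx ▸ key

/-- Let f : X → S and g : Y → S be morphisms of schemes and suppose that g has a section y : S → Y. If
the structure morphism X ×_S Y → S (first projection followed by f) is quasi-compact, then so is f;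
likewise for locally of finite type, for separated, and for flat. (Finite type, also listed in the
source, is the conjunction of the first two.) -/
theorem result {X Y S : Scheme.{u}} (f : X ⟶ S) (g : Y ⟶ S)
    (y : S ⟶ Y) (hy : y ≫ g = 𝟙 S) :
    (QuasiCompact (pullback.fst f g ≫ f) → QuasiCompact f) ∧
    (LocallyOfFiniteType (pullback.fst f g ≫ f) → LocallyOfFiniteType f) ∧
    (IsSeparated (pullback.fst f g ≫ f) → IsSeparated f) ∧
    (Flat (pullback.fst f g ≫ f) → Flat f) := by
  -- the section of the first projection
  let t : X ⟶ pullback f g := pullback.lift (𝟙 X) (f ≫ y) (by rw [Category.assoc, hy]; simp)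
  have ht : t ≫ pullback.fst f g = 𝟙 X := pullback.lift_fst _ _ _
  have hf : t ≫ (pullback.fst f g ≫ f) = f := by rw [← Category.assoc, ht, Category.id_comp]
  refine ⟨?_, ?_, ?_, ?_⟩
  · intro h
    constructor
    intro U hU hUc
    have h1 := h.isCompact_preimage U hU hUc
    have h2 : f ⁻¹' U = t ⁻¹' ((pullback.fst f g ≫ f) ⁻¹' U) := by
      rw [← Set.preimage_comp]
      congr 1
      ext x
      have := congrArg (fun k : X ⟶ S => k x) hf
      simpa using this.symm
    have h3 : f ⁻¹' U = (pullback.fst f g) '' ((pullback.fst f g ≫ f) ⁻¹' U) := by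
      ext x
      constructor
      · intro hx
        refine ⟨t x, ?_, ?_⟩
        · rw [h2] at hx; exact hx
        · have := congrArg (fun k : X ⟶ X => k x) ht
          simpa using this
      · rintro ⟨z, hz, rfl⟩
        simpa using hz
    rw [h3]
    exact h1.image (pullback.fst f g).continuous
  · intro h
    have h1 : LocallyOfFiniteType (t ≫ pullback.fst f g) := by rw [ht]; infer_instance
    have h2 : LocallyOfFiniteType t := locallyOfFiniteType_of_comp t (pullback.fst f g)
    rw [← hf]
    infer_instance
  · intro h
    have h1 : IsSeparated (t ≫ pullback.fst f g) := by rw [ht]; infer_instance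
    have h2 : IsSeparated t := IsSeparated.of_comp t (pullback.fst f g)
    rw [← hf]
    infer_instance
  · intro h
    exact flat_of_section f (pullback.fst f g) t ht h

end Groth.Agent.S18490
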