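import Groth.Statements.S18498
import Mathlib.AlgebraicGeometry.Morphisms.SchemeTheoreticallyDominant
import Mathlib.AlgebraicGeometry.Morphisms.Separated
import Mathlib.AlgebraicGeometry.Morphisms.ClosedImmersion

set_option autoImplicit false
universe u
open CategoryTheory CategoryTheory.Limits AlgebraicGeometry MonObj
open Neron

namespace Groth.Agent.S18498

/-- `Spec` of an injective ring map induces an injective map on global sections. -/
theorem appTop_injective {A B : CommRingCat.{u}} (φ : A ⟶ B)
    (hφ : Function.Injective φ.hom) : Function.Injective (Spec.map φ).appTop := by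
  have hnat := Scheme.ΓSpecIso_naturality φ
  intro a b hab
  have key : ∀ c, φ.hom ((Scheme.ΓSpecIso A).hom.hom c) =
      (Scheme.ΓSpecIso B).hom.hom ((Spec.map φ).appTop.hom c) := by
    intro c
    have := congrArg (fun k => k.hom c) hnat
    exact this.symm
  have h1 : φ.hom ((Scheme.ΓSpecIso A).hom.hom a) = φ.hom ((Scheme.ΓSpecIso A).hom.hom b) := by
    rw [key, key]
    exact congrArg _ hab
  exact (ConcreteCategory.bijective_of_isIso (Scheme.ΓSpecIso A).hom).1 (hφ h1)

/-- Let R be a Dedekind domain with fraction field K, X a Spec R-scheme which is flat over Spec R, Y a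
Spec R-scheme which is separated over Spec R, and f, g : X → Y two R-morphisms whose restrictions to
generic fibres X_K → Y_K are equal. Then f = g: an R-morphism from a flat R-scheme to a separated
R-scheme is determined by its generic fibre. (The source states this for algebraic spaces over a
connected Dedekind scheme; the case of schemes over an affine base is stated.) -/
theorem result (R : Type u) [CommRing R] [IsDedekindDomain R]
    (X Y : Over (Spec (CommRingCat.of R))) [Flat X.hom] [IsSeparated Y.hom] (f g : X ⟶ Y)
    (h : (Neron.genericFibre R).map f = (Neron.genericFibre R).map g) : f = g := by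
  have hinj : Function.Injective (Neron.genPt R).appTop :=
    appTop_injective _ (IsFractionRing.injective R (FractionRing R))
  have hdomγ : IsDominant (Neron.genPt R) := isDominant_of_of_appTop_injective hinj
  have hγ : IsSchemeTheoreticallyDominant (Neron.genPt R) := .of_isDominant _
  have hdom : IsSchemeTheoreticallyDominant (pullback.fst X.hom (Neron.genPt R)) := inferInstance
  have hpr : pullback.fst X.hom (Neron.genPt R) ≫ f.left =
      pullback.fst X.hom (Neron.genPt R) ≫ g.left := by
    have := congrArg (fun k => k.left ≫ pullback.fst Y.hom (Neron.genPt R)) h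
    simp at this
    rw [pullback.lift_fst, pullback.lift_fst] at this
    exact this
  let XK : Over (Spec (CommRingCat.of R)) := Over.mk (pullback.fst X.hom (Neron.genPt R) ≫ X.hom)
  let pr : XK ⟶ X := Over.homMk (pullback.fst X.hom (Neron.genPt R)) rfl
  have hprfg : pr ≫ f = pr ≫ g := by
    ext
    exact hpr
  let l := equalizer.lift pr hprfg
  have hl : l ≫ equalizer.ι f g = pr := equalizer.lift_ι _ _
  have hι : IsIso (equalizer.ι f g).left := by
    rw [IsClosedImmersion.isIso_iff_ker_eq_bot, ← le_bot_iff]
    have h1 := Scheme.Hom.le_ker_comp l.left (equalizer.ι f g).left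
    have h2 : l.left ≫ (equalizer.ι f g).left = pullback.fst X.hom (Neron.genPt R) := by
      rw [← Over.comp_left, hl]
      rfl
    rw [h2, hdom.ker_eq_bot] at h1
    exact h1
  have : IsIso ((Over.forget _).map (equalizer.ι f g)) := hι
  have : IsIso (equalizer.ι f g) := isIso_of_reflects_iso _ (Over.forget _)
  exact (cancel_epi (equalizer.ι f g)).mp (equalizer.condition f g)

end Groth.Agent.S18498
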