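import Groth.Statements.S18502
import Groth.Agent.Lib.GeomQuotFpqc18

set_option autoImplicit false
set_option maxHeartbeats 400000
universe u
open CategoryTheory MonoidalCategory CartesianMonoidalCategory MonObj GrpObj AlgebraicGeometry Topology
open EqInt

namespace Groth.Agent.S18502

open CategoryTheory.Limits

/-- The canonical map `X ×_Y X ⟶ X ×_S X` is a closed immersion when `Y ⟶ S` is separated. -/
lemma isClosedImmersion_lift_of_isSeparated {X Y S : Scheme.{u}} (p : X ⟶ Y) (y : Y ⟶ S)
    (x : X ⟶ S) (h : p ≫ y = x) [IsSeparated y] :
    IsClosedImmersion (pullback.lift (pullback.fst p p) (pullback.snd p p)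
      (by rw [← h, pullback.condition_assoc]) : pullback p p ⟶ pullback x x) := by
  subst h
  have e : (pullback.lift (pullback.fst p p) (pullback.snd p p)
      (by rw [pullback.condition_assoc]) : pullback p p ⟶ pullback (p ≫ y) (p ≫ y)) =
      pullback.map p p (p ≫ y) (p ≫ y) (𝟙 _) (𝟙 _) y (Category.id_comp _).symm
        (Category.id_comp _).symm := by
    apply pullback.hom_ext
    · rw [pullback.lift_fst, pullback.lift_fst, Category.comp_id]
    · rw [pullback.lift_snd, pullback.lift_snd, Category.comp_id]
  rw [e]
  exact MorphismProperty.of_isPullback (P := @IsClosedImmersion)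
    (pullback_map_diagonal_isPullback p p y) inferInstance

/-- Over a field k, let an affine group scheme G of finite type act on X, let X and Y be separated and
of finite type over k, and let φ : X → Y be G-invariant, flat and surjective with (σ, p₂) : G × X →
X ×_Y X an isomorphism (X is a principal G-bundle over Y). Conclusion: the pair (Y, φ) realizes Y as
a geometric quotient of X under G, and G acts freely, meaning (σ, p₂) : G × X → X × X is a closed
immersion. (The source takes X and Y integral; integrality plays no role. A geometric quotient is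
taken here with φ universally submersive.) -/
theorem result (k : Type u) [Field k]
    (G X Y : Over (Spec (CommRingCat.of k))) [GrpObj G] [IsAffine G.left] [LocallyOfFiniteType G.hom]
    [LocallyOfFiniteType X.hom] [QuasiCompact X.hom] [IsSeparated X.hom]
    [LocallyOfFiniteType Y.hom] [QuasiCompact Y.hom] [IsSeparated Y.hom]
    (a : AlgGrp.Action G X) (φ : X ⟶ Y) (hinv : GIT.IsInvariant a φ) [Flat φ.left] [Surjective φ.left]
    (hcart : IsIso (GIT.PsiY a φ hinv)) :
    GIT.IsGeomQuot a φ ∧ IsClosedImmersion (GIT.psi a (𝟙 X)).left := by
  have qcφ : QuasiCompact φ.left := by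
    have : QuasiCompact (φ.left ≫ Y.hom) := by rw [Over.w]; infer_instance
    exact QuasiCompact.of_comp φ.left Y.hom
  have hsq : IsPullback a.act.left (snd G X).left φ.left φ.left := by
    refine IsPullback.of_iso_pullback ⟨hinv.left⟩ (asIso (GIT.PsiY a φ hinv)) ?_ ?_
    · exact pullback.lift_fst _ _ _
    · exact pullback.lift_snd _ _ _
  refine ⟨Groth.Agent.Lib.GeomQuotFpqc18.isGeomQuot_of_fpqc a φ hinv hsq, ?_⟩
  have hci := isClosedImmersion_lift_of_isSeparated φ.left Y.hom X.hom (Over.w φ)
  have e : (GIT.psi a (𝟙 X)).left = GIT.PsiY a φ hinv ≫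
      (pullback.lift (pullback.fst φ.left φ.left) (pullback.snd φ.left φ.left)
      (by rw [← Over.w φ, pullback.condition_assoc]) :
        pullback φ.left φ.left ⟶ pullback X.hom X.hom) := by
    apply pullback.hom_ext
    · have h1 : (GIT.psi a (𝟙 X)) ≫ fst X X = a.act := by
        unfold GIT.psi
        rw [lift_fst, MonoidalCategory.whiskerLeft_id, Category.id_comp]
      have h1' := congrArg (fun m => m.left) h1
      simp only [Over.comp_left] at h1'
      rw [Category.assoc, pullback.lift_fst]
      unfold GIT.PsiY
      rw [pullback.lift_fst]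
      exact h1'
    · have h2 : (GIT.psi a (𝟙 X)) ≫ snd X X = snd G X := by
        unfold GIT.psi
        rw [lift_snd]
      have h2' := congrArg (fun m => m.left) h2
      simp only [Over.comp_left] at h2'
      rw [Category.assoc, pullback.lift_snd]
      unfold GIT.PsiY
      rw [pullback.lift_snd]
      exact h2'
  rw [e]
  infer_instance

end Groth.Agent.S18502
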