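import Groth.Statements.S18503
import Groth.Agent.Lib.MonoFibres
import Mathlib.AlgebraicGeometry.ZariskisMainTheorem
import Groth.Agent.Lib.GrpAction

set_option autoImplicit false
universe u
open CategoryTheory MonoidalCategory CartesianMonoidalCategory MonObj GrpObj AlgebraicGeometry Topology
open EqInt

namespace Groth.Agent.S18503

/-- Over a field k, let an affine group scheme G of finite type act on a quasi-separated scheme X of
finite type over k. If the action is proper (the morphism (σ, p₂) : G × X → X × X is proper) and the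
stabilizer of every point is trivial (for each point x of X the fibre over x of the stabilizer group
scheme (G × X) ×_{X × X} X → X, the pullback of (σ, p₂) along the diagonal, is Spec κ(x) through its
structure map), then the action is free: (σ, p₂) is a closed immersion. (Stated for X a scheme; the
source allows an algebraic space.) -/
theorem result (k : Type u) [Field k]
    (G X : Over (Spec (CommRingCat.of k))) [GrpObj G] [IsAffine G.left] [LocallyOfFiniteType G.hom]
    [LocallyOfFiniteType X.hom] [QuasiCompact X.hom] [QuasiSeparated X.hom]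
    (a : AlgGrp.Action G X) (hp : IsProper (GIT.psi a (𝟙 X)).left)
    (htriv : ∀ x : ↥X.left, IsIso ((Limits.pullback.snd (GIT.psi a (𝟙 X)).left
      (CartesianMonoidalCategory.lift (𝟙 X) (𝟙 X)).left).fiberToSpecResidueField x)) :
    IsClosedImmersion (GIT.psi a (𝟙 X)).left := by
  have hlftΨ : LocallyOfFiniteType (GIT.psi a (𝟙 X)).left := inferInstance
  have hlft : LocallyOfFiniteType (Limits.pullback.snd (GIT.psi a (𝟙 X)).left
      (CartesianMonoidalCategory.lift (𝟙 X) (𝟙 X)).left) := inferInstance
  have hmonoπ : Mono (Limits.pullback.snd (GIT.psi a (𝟙 X)).left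
      (CartesianMonoidalCategory.lift (𝟙 X) (𝟙 X)).left) :=
    (Groth.Agent.Lib.MonoFibres.mono_iff_forall_mono_fibre _ _ _).mpr (fun x => by
      have := htriv x
      infer_instance)
  have hpsi : ∀ {T : Over (Spec (CommRingCat.of k))} (g : T ⟶ G) (x : T ⟶ X),
      lift g x ≫ GIT.psi a (𝟙 X) = lift (lift g x ≫ a.act) x := by
    intro T g x
    unfold GIT.psi
    rw [comp_lift, lift_snd, whiskerLeft_id, Category.id_comp]
  have hmono : Mono (GIT.psi a (𝟙 X)) := by
    constructor
    intro T u v huv
    have hu : u = lift (u ≫ fst G X) (u ≫ snd G X) := by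
      apply CartesianMonoidalCategory.hom_ext <;> simp
    have hv : v = lift (v ≫ fst G X) (v ≫ snd G X) := by
      apply CartesianMonoidalCategory.hom_ext <;> simp
    rw [hu, hv, hpsi, hpsi] at huv
    have h2 : u ≫ snd G X = v ≫ snd G X := by
      have := congrArg (· ≫ snd X X) huv
      simpa using this
    have h1 : lift (u ≫ fst G X) (u ≫ snd G X) ≫ a.act =
        lift (v ≫ fst G X) (u ≫ snd G X) ≫ a.act := by
      have := congrArg (· ≫ fst X X) huv
      simp only [lift_fst] at this
      rw [this, h2]
    -- the stabilizing element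
    have hstab : lift ((v ≫ fst G X)⁻¹ * (u ≫ fst G X)) (u ≫ snd G X) ≫ a.act = u ≫ snd G X := by
      rw [Groth.Agent.Lib.GrpAction.mul_act, h1, ← Groth.Agent.Lib.GrpAction.mul_act,
        inv_mul_cancel, Groth.Agent.Lib.GrpAction.one_act]
    have hc1 : (lift ((v ≫ fst G X)⁻¹ * (u ≫ fst G X)) (u ≫ snd G X)).left ≫
        (GIT.psi a (𝟙 X)).left = (u ≫ snd G X).left ≫
          (CartesianMonoidalCategory.lift (𝟙 X) (𝟙 X)).left := by
      rw [← Over.comp_left, ← Over.comp_left, hpsi, hstab, comp_lift, Category.comp_id]
    have hc2 : (lift (1 : T ⟶ G) (u ≫ snd G X)).left ≫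
        (GIT.psi a (𝟙 X)).left = (u ≫ snd G X).left ≫
          (CartesianMonoidalCategory.lift (𝟙 X) (𝟙 X)).left := by
      rw [← Over.comp_left, ← Over.comp_left, hpsi, Groth.Agent.Lib.GrpAction.one_act, comp_lift,
        Category.comp_id]
    have heq : Limits.pullback.lift _ _ hc1 = Limits.pullback.lift _ _ hc2 := by
      rw [← cancel_mono (Limits.pullback.snd (GIT.psi a (𝟙 X)).left
        (CartesianMonoidalCategory.lift (𝟙 X) (𝟙 X)).left), Limits.pullback.lift_snd,
        Limits.pullback.lift_snd]
    have heq2 := congrArg (· ≫ Limits.pullback.fst (GIT.psi a (𝟙 X)).left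
        (CartesianMonoidalCategory.lift (𝟙 X) (𝟙 X)).left) heq
    simp only [Limits.pullback.lift_fst] at heq2
    have heq3 : lift ((v ≫ fst G X)⁻¹ * (u ≫ fst G X)) (u ≫ snd G X) =
        lift (1 : T ⟶ G) (u ≫ snd G X) := Over.OverMorphism.ext heq2
    have heq4 : (v ≫ fst G X)⁻¹ * (u ≫ fst G X) = 1 := by
      have := congrArg (· ≫ fst G X) heq3
      simpa using this
    rw [hu, hv, ← h2, inv_mul_eq_one.mp heq4]
  have : Mono (GIT.psi a (𝟙 X)).left := inferInstance
  exact (IsClosedImmersion.iff_isProper_and_mono _).mpr ⟨hp, this⟩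

end Groth.Agent.S18503
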