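import Groth.Statements.S18511
import Groth.Agent.Lib.GeomQuotDesc45
import Groth.Agent.Lib.InducedAct45

set_option autoImplicit false
universe u
open CategoryTheory MonoidalCategory CartesianMonoidalCategory MonObj GrpObj AlgebraicGeometry Topology
open EqInt

namespace Groth.Agent.S18511

/-- Over a field k, let an affine group scheme G of finite type act on X, with X and Y separated of
finite type over k, and let φ : X → Y be G-invariant. Let α : Y' → Y be faithfully flat and
quasi-compact and let X' → Y' be the base change of φ with its induced action of G (X' → X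
equivariant, X' → Y' invariant). If (Y', φ') is a universal geometric quotient of X' by G, then (Y,
φ) is a universal geometric quotient of X by G. (The source takes X and Y integral; integrality
plays no role. Geometric quotients are taken with universally submersive structure map.) -/
theorem result (k : Type u) [Field k]
    (G X Y X' Y' : Over (Spec (CommRingCat.of k))) [GrpObj G] [IsAffine G.left] [LocallyOfFiniteType G.hom]
    [LocallyOfFiniteType X.hom] [QuasiCompact X.hom] [IsSeparated X.hom]
    [LocallyOfFiniteType Y.hom] [QuasiCompact Y.hom] [IsSeparated Y.hom]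
    (a : AlgGrp.Action G X) (φ : X ⟶ Y) (hinv : GIT.IsInvariant a φ)
    (α : Y' ⟶ Y) [Flat α.left] [Surjective α.left] [QuasiCompact α.left]
    (pr : X' ⟶ X) (φ' : X' ⟶ Y') (hpb : IsPullback pr φ' φ α)
    (a' : AlgGrp.Action G X') (heq : a'.act ≫ pr = (G ◁ pr) ≫ a.act) (hinv' : GIT.IsInvariant a' φ')
    (h : GIT.IsUnivGeomQuot a' φ') :
    GIT.IsUnivGeomQuot a φ := by
  have hpbL : IsPullback pr.left φ'.left φ.left α.left :=
    Functor.map_isPullback (Over.forget _) hpb
  have hqs : QuasiSeparated Y.hom := inferInstance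
  have hqc : QuasiCompact φ.left := by
    have : QuasiCompact (φ.left ≫ Y.hom) := by rw [Over.w φ]; infer_instance
    exact QuasiCompact.of_comp φ.left Y.hom
  refine ⟨Groth.Agent.Lib.GeomQuotDesc45.isGeomQuot_of_fpqc_baseChange_of_quasiCompact a φ hinv α
    pr φ' hpbL a' heq hinv' h.1, ?_⟩
  intro X₁ Y₁ pr₁ φ₁ g _ hpb₁ a₁ heq₁ hinv₁
  have hpb₁L : IsPullback pr₁.left φ₁.left φ.left g.left :=
    Functor.map_isPullback (Over.forget _) hpb₁
  have hqc₁ : QuasiCompact φ₁.left := MorphismProperty.of_isPullback hpb₁L hqc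
  -- the cover `Y₁' = Y₁ ×_Y Y' ⟶ Y₁`
  have hα₁L : IsPullback (Limits.pullback.fst g α).left (Limits.pullback.snd g α).left g.left
      α.left := Functor.map_isPullback (Over.forget _) (IsPullback.of_hasPullback g α)
  have hf1 : Flat (Limits.pullback.fst g α).left :=
    MorphismProperty.of_isPullback hα₁L.flip ‹Flat α.left›
  have hf2 : Surjective (Limits.pullback.fst g α).left :=
    MorphismProperty.of_isPullback hα₁L.flip ‹Surjective α.left›
  have hf3 : QuasiCompact (Limits.pullback.fst g α).left :=
    MorphismProperty.of_isPullback hα₁L.flip ‹QuasiCompact α.left›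
  -- `X₁' = X₁ ×_{Y₁} Y₁'` with its induced action
  have hpb₁' : IsPullback (Limits.pullback.fst φ₁ (Limits.pullback.fst g α))
      (Limits.pullback.snd φ₁ (Limits.pullback.fst g α)) φ₁ (Limits.pullback.fst g α) :=
    IsPullback.of_hasPullback _ _
  have hpb₁'L := Functor.map_isPullback (Over.forget _) hpb₁'
  -- the map `X₁' ⟶ X'`
  have hc : (Limits.pullback.fst φ₁ (Limits.pullback.fst g α) ≫ pr₁) ≫ φ =
      (Limits.pullback.snd φ₁ (Limits.pullback.fst g α) ≫ Limits.pullback.snd g α) ≫ α := by
    rw [Category.assoc, hpb₁.w, ← Category.assoc, Limits.pullback.condition, Category.assoc,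
      Category.assoc, Limits.pullback.condition]
  have hbig : IsPullback (Limits.pullback.fst φ₁ (Limits.pullback.fst g α) ≫ pr₁)
      (Limits.pullback.snd φ₁ (Limits.pullback.fst g α)) φ (Limits.pullback.fst g α ≫ g) :=
    hpb₁'.paste_horiz hpb₁
  have hpb' : IsPullback (hpb.lift _ _ hc) (Limits.pullback.snd φ₁ (Limits.pullback.fst g α)) φ'
      (Limits.pullback.snd g α) := by
    refine IsPullback.of_right ?_ (hpb.lift_snd _ _ hc) hpb
    rw [hpb.lift_fst, ← Limits.pullback.condition]
    exact hbig
  have heq' : (Groth.Agent.Lib.InducedAct45.inducedAction a₁ hinv₁ hpb₁').act ≫ hpb.lift _ _ hc =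
      (G ◁ hpb.lift _ _ hc) ≫ a'.act := by
    apply hpb.hom_ext
    · rw [Category.assoc, hpb.lift_fst, ← Category.assoc,
        Groth.Agent.Lib.InducedAct45.inducedAction_equivariant, Category.assoc, heq₁,
        Category.assoc, heq, ← MonoidalCategory.whiskerLeft_comp_assoc,
        ← MonoidalCategory.whiskerLeft_comp_assoc, hpb.lift_fst]
    · rw [Category.assoc, hpb.lift_snd, ← Category.assoc,
        Groth.Agent.Lib.InducedAct45.inducedAction_invariant a₁ hinv₁ hpb₁', Category.assoc,
        Category.assoc, hinv', whiskerLeft_snd_assoc, hpb.lift_snd]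
  have hgq' := h.2 (hpb.lift _ _ hc) (Limits.pullback.snd φ₁ (Limits.pullback.fst g α))
    (Limits.pullback.snd g α) trivial hpb'
    (Groth.Agent.Lib.InducedAct45.inducedAction a₁ hinv₁ hpb₁') heq'
    (Groth.Agent.Lib.InducedAct45.inducedAction_invariant a₁ hinv₁ hpb₁')
  exact Groth.Agent.Lib.GeomQuotDesc45.isGeomQuot_of_fpqc_baseChange_of_quasiCompact a₁ φ₁ hinv₁
    (Limits.pullback.fst g α) (Limits.pullback.fst φ₁ (Limits.pullback.fst g α))
    (Limits.pullback.snd φ₁ (Limits.pullback.fst g α)) hpb₁'L
    (Groth.Agent.Lib.InducedAct45.inducedAction a₁ hinv₁ hpb₁')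
    (Groth.Agent.Lib.InducedAct45.inducedAction_equivariant a₁ hinv₁ hpb₁')
    (Groth.Agent.Lib.InducedAct45.inducedAction_invariant a₁ hinv₁ hpb₁') hgq'

end Groth.Agent.S18511
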