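import Groth.Statements.S18515
import Mathlib.AlgebraicGeometry.ValuativeCriterion
-- import your own Groth.Agent.* helpers here

set_option autoImplicit false
open CategoryTheory CategoryTheory.Limits MonoidalCategory CartesianMonoidalCategory MonObj GrpObj AlgebraicGeometry
universe u
open NonAbH1

namespace Groth.Agent.S18515

section Helpers

variable {S : Scheme.{u}} {G H H' X X' : Over S} [GrpObj G] [GrpObj H] [GrpObj H']

/-- Restricting twice is restricting along the composite. -/
theorem restrict_restrict (φ : H ⟶ G) [IsMonHom φ] (ψ : H' ⟶ H) [IsMonHom ψ] (a : AlgGrp.Action G X) :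
    (a.restrict φ).restrict ψ = a.restrict (ψ ≫ φ) := by
  apply AlgGrp.Action.ext'
  simp only [AlgGrp.Action.restrict_act, comp_whiskerRight, Category.assoc]

/-- An equivariant isomorphism stays equivariant after restricting both actions along the same homomorphism. -/
def equivIsoRestrict (φ : H ⟶ G) [IsMonHom φ] {a : AlgGrp.Action G X} {a' : AlgGrp.Action G X'}
    (e : NonAbH1.EquivIso a a') : NonAbH1.EquivIso (a.restrict φ) (a'.restrict φ) where
  iso := e.iso
  comm := by
    simp only [AlgGrp.Action.restrict_act, Category.assoc]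
    rw [e.comm, ← whisker_exchange_assoc]

/-- Restriction along an isomorphism of group objects preserves pseudo-torsors. -/
theorem isPseudoTorsorSch_restrict (φ : H ⟶ G) [IsMonHom φ] [IsIso φ] {a : AlgGrp.Action G X}
    (h : NonAbH1.IsPseudoTorsorSch a) : NonAbH1.IsPseudoTorsorSch (a.restrict φ) := by
  have h' : IsIso (lift a.act (snd G X)) := h
  have : lift (a.restrict φ).act (snd H X) = (φ ▷ X) ≫ lift a.act (snd G X) := by
    rw [comp_lift, AlgGrp.Action.restrict_act, whiskerRight_snd]
  show IsIso (lift (a.restrict φ).act (snd H X))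
  rw [this]
  infer_instance

/-- Cocycle identity for the identifications of iterated base changes. -/
theorem bcCompIso_assoc {A B C D : Scheme.{u}} (f : A ⟶ B) (g : B ⟶ C) (h : C ⟶ D)
    {fg : A ⟶ C} {gh : B ⟶ D} {fgh : A ⟶ D} (h1 : f ≫ g = fg) (h2 : g ≫ h = gh)
    (h3 : f ≫ gh = fgh) (h4 : fg ≫ h = fgh) (Y : Over D) :
    (Over.pullback f).map (ActBC.bcCompIso g h Y h2).hom ≫ (ActBC.bcCompIso f gh Y h3).hom =
      (ActBC.bcCompIso f g (Red.bc h Y) h1).hom ≫ (ActBC.bcCompIso fg h Y h4).hom := by
  ext
  apply pullback.hom_ext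
  · simp only [Over.comp_left, Category.assoc, ActBC.bcCompIso_hom_left_fst,
      ActBC.pullback_map_left_fst_assoc, ActBC.bcCompIso_hom_left_fst_assoc]
  · exact (Over.w _).trans (Over.w _).symm

theorem bcCompIso_assoc_inv {A B C D : Scheme.{u}} (f : A ⟶ B) (g : B ⟶ C) (h : C ⟶ D)
    {fg : A ⟶ C} {gh : B ⟶ D} {fgh : A ⟶ D} (h1 : f ≫ g = fg) (h2 : g ≫ h = gh)
    (h3 : f ≫ gh = fgh) (h4 : fg ≫ h = fgh) (Y : Over D) :
    ((ActBC.bcCompIso f gh Y h3).inv ≫ (Over.pullback f).map (ActBC.bcCompIso g h Y h2).inv) ≫
        (ActBC.bcCompIso f g (Red.bc h Y) h1).hom =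
      (ActBC.bcCompIso fg h Y h4).inv := by
  have key := bcCompIso_assoc f g h h1 h2 h3 h4 Y
  rw [← Iso.comp_inv_eq] at key
  rw [← key]
  simp only [Category.assoc, ← Functor.map_comp_assoc, Iso.inv_hom_id]
  rw [CategoryTheory.Functor.map_id, Category.id_comp, Iso.inv_hom_id_assoc]

end Helpers


/-- A class represented by a torsor over a complete variety is unramified at every discrete valuation
ring of the function field. The published lemma assumes G finite, k algebraically closed of
characteristic zero and K finitely generated over k; this row allows any field k, any field K and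
any affine k-group scheme of finite type: let k be a field, X a proper k-scheme, G an affine k-group
scheme of finite type and P a torsor over X, locally trivial for the etale topology, under the base
change of G. For every field K with a k-morphism e : Spec K ⟶ X (for instance the generic point of
an integral X) and every discrete valuation ring R with fraction field K containing k compatibly,
there is a torsor Q over Spec R under the base change of G whose restriction to Spec K is
equivariantly isomorphic to the pullback of P along e, both regarded as actions of the base change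
of G to Spec K through the canonical identifications of iterated base changes. -/
theorem result
    (k K R : Type u) [Field k] [Field K] [Algebra k K]
    [CommRing R] [IsDomain R] [IsDiscreteValuationRing R] [Algebra k R] [Algebra R K] [IsFractionRing R K]
    (hc : Spec.map (CommRingCat.ofHom (algebraMap R K)) ≫ Spec.map (CommRingCat.ofHom (algebraMap k R)) =
      Spec.map (CommRingCat.ofHom (algebraMap k K)))
    (X : Scheme.{u}) (x : X ⟶ Spec (CommRingCat.of k)) [IsProper x]
    (G : Over (Spec (CommRingCat.of k))) [GrpObj G] [IsAffine G.left] [LocallyOfFiniteType G.hom]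
    (P : NonAbH1.TorsorSch (Red.bc x G) Scheme.etalePrecoverage)
    (e : Spec (CommRingCat.of K) ⟶ X) (he : e ≫ x = Spec.map (CommRingCat.ofHom (algebraMap k K))) :
    ∃ Q : NonAbH1.TorsorSch (Red.bc (Spec.map (CommRingCat.ofHom (algebraMap k R))) G) Scheme.etalePrecoverage,
      Nonempty (NonAbH1.EquivIso
        ((Q.act.bc (Spec.map (CommRingCat.ofHom (algebraMap R K)))).restrict
          (ActBC.bcCompIso (Spec.map (CommRingCat.ofHom (algebraMap R K)))
            (Spec.map (CommRingCat.ofHom (algebraMap k R))) G hc).inv)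
        ((P.act.bc e).restrict (ActBC.bcCompIso e x G he).inv)) := by
  -- Step 1: extend `e` to `ρ : Spec R ⟶ X` by the valuative criterion.
  have hval : ValuativeCriterion x := by
    have h := (IsProper.eq_valuativeCriterion ▸ (inferInstance : IsProper x) :
      (ValuativeCriterion ⊓ @QuasiCompact ⊓ @QuasiSeparated ⊓ @LocallyOfFiniteType) x)
    exact h.1.1.1
  have hsq : CommSq e (Spec.map (CommRingCat.ofHom (algebraMap R K))) x
      (Spec.map (CommRingCat.ofHom (algebraMap k R))) := ⟨by rw [he, hc]⟩
  let Sq : ValuativeCommSq x :=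
    { R := R, K := K, i₁ := e, i₂ := Spec.map (CommRingCat.ofHom (algebraMap k R)), commSq := hsq }
  obtain ⟨⟨ρ, hρ₁, hρ₂⟩⟩ := (hval.existence Sq).exists_lift
  change Spec.map (CommRingCat.ofHom (algebraMap R K)) ≫ ρ = e at hρ₁
  change ρ ≫ x = Spec.map (CommRingCat.ofHom (algebraMap k R)) at hρ₂
  -- Step 2: the torsor `Q`: base change of `P` along `ρ`, the group identified through `bcCompIso`.
  let φ := (ActBC.bcCompIso ρ x G hρ₂).inv
  have hQ : NonAbH1.IsTorsorFor Scheme.etalePrecoverage ((P.act.bc ρ).restrict φ) :=
    ⟨isPseudoTorsorSch_restrict φ (NonAbH1.isPseudoTorsorSch_bc ρ P.isTorsor.1),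
      NonAbH1.isLocallyTrivialFor_bc ρ _ P.isTorsor.2⟩
  refine ⟨⟨Red.bc ρ P.X, (P.act.bc ρ).restrict φ, hQ⟩, ⟨?_⟩⟩
  change NonAbH1.EquivIso
    ((((P.act.bc ρ).restrict φ).bc (Spec.map (CommRingCat.ofHom (algebraMap R K)))).restrict
      (ActBC.bcCompIso (Spec.map (CommRingCat.ofHom (algebraMap R K)))
        (Spec.map (CommRingCat.ofHom (algebraMap k R))) G hc).inv)
    ((P.act.bc e).restrict (ActBC.bcCompIso e x G he).inv)
  have E1 := ActBC.equivIsoBcComp (Spec.map (CommRingCat.ofHom (algebraMap R K))) ρ hρ₁ P.act
  rw [AlgGrp.Action.bc_restrict, restrict_restrict]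
  have E2 := equivIsoRestrict ((ActBC.bcCompIso (Spec.map (CommRingCat.ofHom (algebraMap R K)))
        (Spec.map (CommRingCat.ofHom (algebraMap k R))) G hc).inv ≫
      (Over.pullback (Spec.map (CommRingCat.ofHom (algebraMap R K)))).map φ) E1
  rw [restrict_restrict] at E2
  have hcoh := bcCompIso_assoc_inv (Spec.map (CommRingCat.ofHom (algebraMap R K))) ρ x hρ₁ hρ₂ hc he G
  have hact : (P.act.bc e).restrict (((ActBC.bcCompIso (Spec.map (CommRingCat.ofHom (algebraMap R K)))
        (Spec.map (CommRingCat.ofHom (algebraMap k R))) G hc).inv ≫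
      (Over.pullback (Spec.map (CommRingCat.ofHom (algebraMap R K)))).map φ) ≫
      (ActBC.bcCompIso (Spec.map (CommRingCat.ofHom (algebraMap R K))) ρ (Red.bc x G) hρ₁).hom) =
      (P.act.bc e).restrict (ActBC.bcCompIso e x G he).inv := by
    apply AlgGrp.Action.ext'
    simp only [AlgGrp.Action.restrict_act]
    rw [hcoh]
  rw [hact] at E2
  exact E2

end Groth.Agent.S18515
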