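import Groth.Statements.S18519
import Mathlib.FieldTheory.PrimitiveElement
import Mathlib.FieldTheory.SeparableDegree
import Mathlib.RingTheory.SimpleModule.WedderburnArtin
import Groth.Agent.Lib.CSASplit
import Groth.Agent.Lib.CSAIndexArith

set_option autoImplicit false
universe u
open scoped TensorProduct
open Brauer

namespace Groth.Agent.S18519

open Groth.Agent.Lib.CSA in
/-- a splitting over `K` gives a splitting over any bigger field `L` -/
theorem splits_ascend {k : Type u} [Field k] {A : Type u} [Ring A] [Algebra k A]
    [Algebra.IsCentral k A] [IsSimpleRing A] [FiniteDimensional k A]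
    {K : Type u} [Field K] [Algebra k K] {n : ℕ} (hn : n ≠ 0)
    (e : K ⊗[k] A ≃ₐ[K] Matrix (Fin n) (Fin n) K)
    (L : Type u) [Field L] [Algebra k L] [Algebra K L] [IsScalarTower k K L] :
    Nonempty (L ⊗[k] A ≃ₐ[L] Matrix (Fin n) (Fin n) L) := by
  have : NeZero n := ⟨hn⟩
  let g : A →ₐ[k] Matrix (Fin n) (Fin n) L :=
    ((IsScalarTower.toAlgHom k K L).mapMatrix).comp
      ((e.toAlgHom.restrictScalars k).comp Algebra.TensorProduct.includeRight)
  let φ : L ⊗[k] A →ₐ[L] Matrix (Fin n) (Fin n) L :=
    Algebra.TensorProduct.lift (Algebra.ofId L _) g (fun l a => Algebra.commutes l (g a))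
  have : IsSimpleRing (L ⊗[k] A) := isSimpleRing_tensor
  have hinj : Function.Injective φ := fun x y hxy => RingHom.injective φ.toRingHom hxy
  have hdim : Module.finrank L (L ⊗[k] A) = Module.finrank L (Matrix (Fin n) (Fin n) L) := by
    rw [Module.finrank_baseChange, finrank_eq_of_split e, Module.finrank_matrix]
    simp
  have hsurj := (LinearMap.injective_iff_surjective_of_finrank_eq_finrank
    (f := φ.toLinearMap) hdim).mp hinj
  exact ⟨AlgEquiv.ofBijective φ ⟨hinj, hsurj⟩⟩

open Groth.Agent.Lib.CSA in
/-- a central division algebra over `E` splits over any field `M ⊇ F' ⊇ E` such that `F'` has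
trivial Brauer group -/
theorem splits_of_trivial {E : Type u} [Field E] (D : Type u) [DivisionRing D] [Algebra E D]
    [Algebra.IsCentral E D] [FiniteDimensional E D]
    (F' : Type u) [Field F'] [Algebra E F']
    (h : ∀ (D' : Type u) [DivisionRing D'] [Algebra F' D'] [Algebra.IsCentral F' D']
      [FiniteDimensional F' D'], Module.finrank F' D' = 1)
    (M : Type u) [Field M] [Algebra E M] [Algebra F' M] [IsScalarTower E F' M] :
    ∃ n : ℕ, Nonempty ((M ⊗[E] D) ≃ₐ[M] Matrix (Fin n) (Fin n) M) := by
  have h1 : IsSimpleRing (F' ⊗[E] D) := isSimpleRing_tensor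
  have h2 : Algebra.IsCentral F' (F' ⊗[E] D) := isCentral_baseChange
  have h0 : IsArtinianRing (F' ⊗[E] D) := IsArtinianRing.of_finite F' _
  obtain ⟨n, hn, D', _, _, _, ⟨e⟩⟩ :=
    IsSimpleRing.exists_algEquiv_matrix_divisionRing_finite F' (F' ⊗[E] D)
  have h3 : Algebra.IsCentral F' D' := Groth.Agent.Lib.CSAIndexArith.isCentral_of_matrix_algEquiv hn.ne e
  have h4 := h D'
  have hinj : Function.Injective (Algebra.ofId F' D') := (Algebra.ofId F' D').toRingHom.injective
  have hdim : Module.finrank F' F' = Module.finrank F' D' := by rw [h4, Module.finrank_self]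
  have hsurj := (LinearMap.injective_iff_surjective_of_finrank_eq_finrank
    (f := (Algebra.ofId F' D').toLinearMap) hdim).mp hinj
  let e1 : F' ≃ₐ[F'] D' := AlgEquiv.ofBijective (Algebra.ofId F' D') ⟨hinj, hsurj⟩
  let e2 : F' ⊗[E] D ≃ₐ[F'] Matrix (Fin n) (Fin n) F' := e.trans e1.symm.mapMatrix
  exact ⟨n, splits_ascend hn.ne e2 M⟩

open IntermediateField in
theorem forward
    (K F : Type u) [Field K] [Field F] [Algebra K F] [Algebra.IsSeparable K F]
    (ha : ∀ (F' : Type u) [Field F'] [Algebra F F'] [FiniteDimensional F F'] [Algebra.IsSeparable F F']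
        (D : Type u) [DivisionRing D] [Algebra F' D] [Algebra.IsCentral F' D] [FiniteDimensional F' D],
        Module.finrank F' D = 1)
    (E : Type u) [Field E] [Algebra K E] [FiniteDimensional K E] [Algebra.IsSeparable K E]
    (D : Type u) [DivisionRing D] [Algebra E D] [Algebra.IsCentral E D] [FiniteDimensional E D]
    (M : Type u) [Field M] [Algebra K M] [Algebra E M] [Algebra F M] [IsScalarTower K E M]
    [IsScalarTower K F M] :
    ∃ n : ℕ, Nonempty ((M ⊗[E] D) ≃ₐ[M] Matrix (Fin n) (Fin n) M) := by
  obtain ⟨θ, hθ⟩ := Field.exists_primitive_element K E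
  set θ' : M := algebraMap E M θ with hθ'
  have hsepK : IsSeparable K θ' := by
    have h1 : IsSeparable K θ := Algebra.IsSeparable.isSeparable K θ
    have h2 : minpoly K θ' = minpoly K θ :=
      minpoly.algHom_eq (IsScalarTower.toAlgHom K E M) (algebraMap E M).injective θ
    unfold IsSeparable at h1 ⊢
    rw [h2]; exact h1
  have hsepF : IsSeparable F θ' := hsepK.tower_top F
  have hintF : IsIntegral F θ' := hsepF.isIntegral
  let F' : IntermediateField F M := F⟮θ'⟯
  have hfin : FiniteDimensional F F' := adjoin.finiteDimensional hintF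
  have hsep : Algebra.IsSeparable F F' :=
    (isSeparable_adjoin_simple_iff_isSeparable F M).mpr hsepF
  have hmem : ∀ x : E, algebraMap E M x ∈ F' := by
    intro x
    let C : IntermediateField K E := (F'.restrictScalars K).comap (IsScalarTower.toAlgHom K E M)
    have hθC : θ ∈ C := by
      change algebraMap E M θ ∈ F'
      exact mem_adjoin_simple_self F θ'
    have hle : K⟮θ⟯ ≤ C := adjoin_simple_le_iff.mpr hθC
    rw [hθ] at hle
    exact hle (mem_top : x ∈ ⊤)
  let f : E →+* F' := (algebraMap E M).codRestrict F' hmem
  letI : Algebra E F' := f.toAlgebra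
  haveI : IsScalarTower E F' M := IsScalarTower.of_algebraMap_eq (fun x => rfl)
  exact splits_of_trivial D F' (fun D' _ _ _ _ => ha F' D') M


open IntermediateField in
/-- a finite-dimensional algebra over an algebraic extension `L/K` is defined over a finite
subextension -/
theorem exists_descent (K : Type u) [Field K] (L : Type u) [Field L] [Algebra K L]
    [Algebra.IsIntegral K L] (D : Type u) [Ring D] [Algebra L D] [FiniteDimensional L D] :
    ∃ (E : IntermediateField K L) (D₀ : Subalgebra E D), FiniteDimensional K E ∧
      FiniteDimensional E D₀ ∧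
      Function.Bijective (Algebra.TensorProduct.lift (Algebra.ofId L D) D₀.val
        (fun l a => Algebra.commutes l _) : L ⊗[E] D₀ →ₐ[L] D) := by
  classical
  set n := Module.finrank L D with hn
  let b : Module.Basis (Fin n) L D := Module.finBasis L D
  let S : Set L := (Set.range fun p : Fin n × Fin n × Fin n => b.repr (b p.1 * b p.2.1) p.2.2) ∪
    Set.range (fun l => b.repr 1 l)
  have hS : S.Finite := (Set.finite_range _).union (Set.finite_range _)
  let E : IntermediateField K L := adjoin K S
  have hfinE : FiniteDimensional K E := by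
    haveI : Finite S := hS.to_subtype
    exact finiteDimensional_adjoin (fun x _ => Algebra.IsIntegral.isIntegral x)
  have hc : ∀ i j l, b.repr (b i * b j) l ∈ E := fun i j l =>
    subset_adjoin K S (Or.inl ⟨(i, j, l), rfl⟩)
  have hu : ∀ l, b.repr 1 l ∈ E := fun l => subset_adjoin K S (Or.inr ⟨l, rfl⟩)
  let P : Submodule E D := Submodule.span E (Set.range b)
  have hbP : ∀ i, b i ∈ P := fun i => Submodule.subset_span ⟨i, rfl⟩
  have h1 : (1 : D) ∈ P := by
    rw [← b.sum_repr 1]
    refine Submodule.sum_mem _ fun l _ => ?_
    have : b.repr 1 l • b l = (⟨b.repr 1 l, hu l⟩ : E) • b l := rfl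
    rw [this]
    exact P.smul_mem _ (hbP l)
  have hmul : ∀ x y, x ∈ P → y ∈ P → x * y ∈ P := by
    intro x y hx hy
    induction hx, hy using Submodule.span_induction₂ with
    | mem_mem x y hx hy =>
      obtain ⟨i, rfl⟩ := hx
      obtain ⟨j, rfl⟩ := hy
      rw [← b.sum_repr (b i * b j)]
      refine Submodule.sum_mem _ fun l _ => ?_
      have : b.repr (b i * b j) l • b l = (⟨b.repr (b i * b j) l, hc i j l⟩ : E) • b l := rfl
      rw [this]
      exact P.smul_mem _ (hbP l)
    | zero_left y hy => simp
    | zero_right x hx => simp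
    | add_left x y z hx hy hz h1 h2 => rw [add_mul]; exact P.add_mem h1 h2
    | add_right x y z hx hy hz h1 h2 => rw [mul_add]; exact P.add_mem h1 h2
    | smul_left r x y hx hy h => rw [smul_mul_assoc]; exact P.smul_mem r h
    | smul_right r x y hx hy h => rw [mul_smul_comm]; exact P.smul_mem r h
  let D₀ : Subalgebra E D := P.toSubalgebra h1 hmul
  have hP : Subalgebra.toSubmodule D₀ = P := Submodule.toSubalgebra_toSubmodule P h1 hmul
  have hfinP : FiniteDimensional E P := FiniteDimensional.span_of_finite E (Set.finite_range b)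
  have hfinD₀ : FiniteDimensional E D₀ := by
    have : FiniteDimensional E (Subalgebra.toSubmodule D₀) := by rw [hP]; exact hfinP
    exact Module.Finite.equiv (Subalgebra.toSubmoduleEquiv D₀)
  have hrk : Module.finrank E D₀ ≤ n := by
    have h2 : Module.finrank E D₀ = Module.finrank E (Subalgebra.toSubmodule D₀) :=
      (Subalgebra.toSubmoduleEquiv D₀).finrank_eq.symm
    rw [h2, hP]
    have := finrank_range_le_card (R := E) (b : Fin n → D)
    rw [Fintype.card_fin] at this
    exact this
  refine ⟨E, D₀, hfinE, hfinD₀, ?_⟩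
  set Φ : L ⊗[E] D₀ →ₐ[L] D := Algebra.TensorProduct.lift (Algebra.ofId L D) D₀.val
        (fun l a => Algebra.commutes l _) with hΦ
  have hsurj : Function.Surjective Φ := by
    have h3 : (⊤ : Submodule L D) ≤ LinearMap.range Φ.toLinearMap := by
      rw [← b.span_eq, Submodule.span_le]
      rintro _ ⟨i, rfl⟩
      refine ⟨(1 : L) ⊗ₜ[E] (⟨b i, hbP i⟩ : D₀), ?_⟩
      simp [hΦ]
    intro d
    exact h3 (Submodule.mem_top : d ∈ ⊤)
  have hdim : Module.finrank L (L ⊗[E] D₀) = Module.finrank L D := by
    refine le_antisymm ?_ (LinearMap.finrank_le_finrank_of_surjective (f := Φ.toLinearMap) hsurj)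
    rw [Module.finrank_baseChange]
    exact hrk
  exact ⟨(LinearMap.injective_iff_surjective_of_finrank_eq_finrank
    (f := Φ.toLinearMap) hdim).mpr hsurj, hsurj⟩

open Groth.Agent.Lib.CSA in
theorem backward
    (K F : Type u) [Field K] [Field F] [Algebra K F] [Algebra.IsSeparable K F]
    (hb : ∀ (E : Type u) [Field E] [Algebra K E] [FiniteDimensional K E] [Algebra.IsSeparable K E]
        (D : Type u) [DivisionRing D] [Algebra E D] [Algebra.IsCentral E D] [FiniteDimensional E D]
        (M : Type u) [Field M] [Algebra K M] [Algebra E M] [Algebra F M] [IsScalarTower K E M]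
        [IsScalarTower K F M],
        ∃ n : ℕ, Nonempty ((M ⊗[E] D) ≃ₐ[M] Matrix (Fin n) (Fin n) M))
    (F' : Type u) [Field F'] [Algebra F F'] [FiniteDimensional F F'] [Algebra.IsSeparable F F']
    (D : Type u) [DivisionRing D] [Algebra F' D] [Algebra.IsCentral F' D] [FiniteDimensional F' D] :
    Module.finrank F' D = 1 := by
  letI : Algebra K F' := ((algebraMap F F').comp (algebraMap K F)).toAlgebra
  haveI : IsScalarTower K F F' := IsScalarTower.of_algebraMap_eq (fun x => rfl)
  haveI : Algebra.IsSeparable K F' := Algebra.IsSeparable.trans K F F'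
  haveI : Algebra.IsIntegral K F' := inferInstance
  obtain ⟨E, D₀, hfinE, hfinD₀, hbij⟩ := exists_descent K F' D
  haveI : Algebra.IsSeparable K E := Algebra.isSeparable_tower_bot_of_isSeparable K E F'
  letI : DivisionRing D₀ := divisionRingOfFiniteDimensional E D₀
  let Φ : F' ⊗[E] D₀ ≃ₐ[F'] D := AlgEquiv.ofBijective _ hbij
  haveI : Algebra.IsCentral F' (F' ⊗[E] D₀) := isCentral_of_algEquiv' Φ.symm
  haveI : Algebra.IsCentral E D₀ := isCentral_of_baseChange (K := F')
  obtain ⟨m, ⟨e⟩⟩ := hb E D₀ F'
  let ψ : D ≃ₐ[F'] Matrix (Fin m) (Fin m) F' := Φ.symm.trans e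
  have hm0 : m ≠ 0 := by
    rintro rfl
    exact (one_ne_zero (α := D)) (ψ.injective (Subsingleton.elim _ _))
  have hm2 : m < 2 := by
    by_contra hge
    rw [not_lt] at hge
    let i0 : Fin m := ⟨0, by omega⟩
    let i1 : Fin m := ⟨1, by omega⟩
    have h01 : i0 ≠ i1 := by simp [i0, i1, Fin.ext_iff]
    have hprod : ψ.symm (Matrix.single i0 i0 1) * ψ.symm (Matrix.single i1 i1 1) = 0 := by
      rw [← map_mul, Matrix.single_mul_single_of_ne (c := (1 : F')) i0 i0 i1 h01 1, map_zero]
    rcases mul_eq_zero.mp hprod with h | h
    · have h2 := ψ.symm.injective (h.trans (map_zero ψ.symm).symm)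
      have h3 := congr_fun (congr_fun h2 i0) i0
      simp at h3
    · have h2 := ψ.symm.injective (h.trans (map_zero ψ.symm).symm)
      have h3 := congr_fun (congr_fun h2 i1) i1
      simp at h3
  have hm1 : m = 1 := by omega
  subst hm1
  rw [ψ.toLinearEquiv.finrank_eq, Module.finrank_matrix]
  simp

/-- For a field K with maximal abelian extension K_ab, cd(K_ab) ≤ 1 if and only if for every etale
K-algebra E the restriction map Br(E) ⟶ Br(E ⊗_K K_ab) is trivial; the same holds with the maximal
solvable extension. Stated here for an arbitrary separable algebraic extension F of K in place of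
K_ab (the published lemma takes for F the maximal abelian or the maximal solvable extension of K;
this row allows any separable algebraic extension), with cd(F) ≤ 1 unfolded by the Brauer-group
criterion (every finite separable extension of F has trivial Brauer group) and with etale algebras
replaced by their field factors: (a) every finite-dimensional central division algebra over a finite
separable extension F′ of F is F′ itself; if and only if (b) for every finite separable extension E
of K, every finite-dimensional central division algebra D over E and every field M containing E and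
F compatibly over K, the base change M ⊗_E D is isomorphic over M to a matrix algebra over M. -/
theorem result
    (K F : Type u) [Field K] [Field F] [Algebra K F] [Algebra.IsSeparable K F] :
    (∀ (F' : Type u) [Field F'] [Algebra F F'] [FiniteDimensional F F'] [Algebra.IsSeparable F F']
        (D : Type u) [DivisionRing D] [Algebra F' D] [Algebra.IsCentral F' D] [FiniteDimensional F' D],
        Module.finrank F' D = 1) ↔
    (∀ (E : Type u) [Field E] [Algebra K E] [FiniteDimensional K E] [Algebra.IsSeparable K E]
        (D : Type u) [DivisionRing D] [Algebra E D] [Algebra.IsCentral E D] [FiniteDimensional E D]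
        (M : Type u) [Field M] [Algebra K M] [Algebra E M] [Algebra F M] [IsScalarTower K E M]
        [IsScalarTower K F M],
        ∃ n : ℕ, Nonempty ((M ⊗[E] D) ≃ₐ[M] Matrix (Fin n) (Fin n) M)) := by
  constructor
  · intro ha E _ _ _ _ D _ _ _ _ M _ _ _ _ _ _
    exact forward K F ha E D M
  · intro hb F' _ _ _ _ D _ _ _ _
    exact backward K F hb F' D

end Groth.Agent.S18519
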