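import Groth.Statements.S1852
import Mathlib
import Groth.Agent.S12212

set_option autoImplicit false
universe u
open CycAlg

namespace Groth.Agent.S1852


open Groth.Agent.S12212

variable {R : Type u} [CommRing R] [IsNoetherianRing R] [IsLocalRing R]
  {M : Type u} [AddCommGroup M] [Module R M]

/-- localized length (ℕ∞-valued) -/
noncomputable abbrev lq (q : PrimeSpectrum R) (N : Type u) [AddCommGroup N] [Module R N] : ℕ∞ :=
  Module.length (Localization.AtPrime q.asIdeal) (LocalizedModule q.asIdeal.primeCompl N)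

theorem lq_congr (q : PrimeSpectrum R) {N N' : Type u} [AddCommGroup N] [Module R N]
    [AddCommGroup N'] [Module R N'] (e : N ≃ₗ[R] N') : lq q N = lq q N' :=
  (IsLocalizedModule.mapEquiv q.asIdeal.primeCompl
    (LocalizedModule.mkLinearMap q.asIdeal.primeCompl N)
    (LocalizedModule.mkLinearMap q.asIdeal.primeCompl N')
    (Localization.AtPrime q.asIdeal) e).length_eq

theorem lq_quot_self (q : PrimeSpectrum R) : lq q (R ⧸ q.asIdeal) = 1 := by
  have := isSimple_loc_quot q
  exact Module.length_eq_one _ _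

theorem lq_eq_zero_iff (q : PrimeSpectrum R) (N : Type u) [AddCommGroup N] [Module R N] :
    lq q N = 0 ↔ q ∉ Module.support R N := by
  rw [Module.notMem_support_iff]
  exact Module.length_eq_zero_iff

/-- the "good step" property -/
def Good (q : PrimeSpectrum R) {l : ℕ} (x : Fin l → M) : Prop :=
  ∀ i : Fin l, Nonempty ((↥(CycDet.spanBefore R M x ((i : ℕ) + 1)) ⧸
    (CycDet.spanBefore R M x (i : ℕ)).submoduleOf (CycDet.spanBefore R M x ((i : ℕ) + 1))) ≃ₗ[R]
      (R ⧸ q.asIdeal))

theorem spanBefore_mono {l : ℕ} (x : Fin l → M) {i j : ℕ} (h : i ≤ j) :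
    CycDet.spanBefore R M x i ≤ CycDet.spanBefore R M x j := by
  apply Submodule.span_mono
  apply Set.image_mono
  intro a ha
  exact lt_of_lt_of_le ha h

theorem spanBefore_zero {l : ℕ} (x : Fin l → M) : CycDet.spanBefore R M x 0 = ⊥ := by
  unfold CycDet.spanBefore
  simp

theorem spanBefore_top {l : ℕ} (x : Fin l → M) :
    CycDet.spanBefore R M x l = Submodule.span R (Set.range x) := by
  unfold CycDet.spanBefore
  congr 1
  ext m
  constructor
  · rintro ⟨j, -, rfl⟩
    exact ⟨j, rfl⟩
  · rintro ⟨j, rfl⟩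
    exact ⟨j, j.2, rfl⟩

/-- additivity along one step of the chain -/
theorem lq_step (q : PrimeSpectrum R) {N N' : Submodule R M} (h : N ≤ N')
    (e : (↥N' ⧸ N.submoduleOf N') ≃ₗ[R] (R ⧸ q.asIdeal)) : lq q N' = lq q N + 1 := by
  have hex := length_loc_add (Submodule.inclusion h) (N.submoduleOf N').mkQ
    (Submodule.inclusion_injective h) (Submodule.mkQ_surjective _) (by
      rw [LinearMap.exact_iff, Submodule.ker_mkQ, Submodule.range_inclusion]
      rfl) q
  change lq q N' = lq q N + lq q (↥N' ⧸ N.submoduleOf N') at hex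
  rw [hex, lq_congr q e, lq_quot_self]

theorem lq_spanBefore (q : PrimeSpectrum R) {l : ℕ} (x : Fin l → M) (hx : Good q x) (i : ℕ)
    (hi : i ≤ l) : lq q (CycDet.spanBefore R M x i) = i := by
  induction i with
  | zero =>
    rw [spanBefore_zero]
    simp only [Nat.cast_zero]
    rw [lq_eq_zero_iff, Module.notMem_support_iff]
    infer_instance
  | succ i ih =>
    obtain ⟨e⟩ := hx ⟨i, hi⟩
    rw [lq_step q (spanBefore_mono x (Nat.le_succ i)) e, ih (Nat.le_of_succ_le hi)]
    simp

theorem lq_total (q : PrimeSpectrum R) (N : Submodule R M) : lq q M = lq q N + lq q (M ⧸ N) := by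
  exact length_loc_add N.subtype N.mkQ N.injective_subtype (Submodule.mkQ_surjective _) (by
      rw [LinearMap.exact_iff, Submodule.ker_mkQ, Submodule.range_subtype]) q

theorem spanBefore_snoc_le {l : ℕ} (x : Fin l → M) (y : M) (i : ℕ) (hi : i ≤ l) :
    CycDet.spanBefore R M (Fin.snoc (α := fun _ => M) x y : Fin (l + 1) → M) i =
      CycDet.spanBefore R M x i := by
  unfold CycDet.spanBefore
  congr 1
  ext m
  constructor
  · rintro ⟨j, hj, rfl⟩
    have hjl : (j : ℕ) < l := lt_of_lt_of_le hj hi
    refine ⟨⟨j, hjl⟩, hj, ?_⟩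
    have : j = Fin.castSucc ⟨j, hjl⟩ := by ext; rfl
    conv_rhs => rw [this]
    rw [Fin.snoc_castSucc]
  · rintro ⟨j, hj, rfl⟩
    refine ⟨Fin.castSucc j, hj, ?_⟩
    rw [Fin.snoc_castSucc]

theorem spanBefore_snoc_last {l : ℕ} (x : Fin l → M) (y : M) :
    CycDet.spanBefore R M (Fin.snoc (α := fun _ => M) x y : Fin (l + 1) → M) (l + 1) =
      Submodule.span R (Set.range x) ⊔ Submodule.span R {y} := by
  rw [spanBefore_top, ← Submodule.span_union]
  congr 1
  ext m
  constructor
  · rintro ⟨j, rfl⟩
    refine Fin.lastCases ?_ (fun j' => ?_) j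
    · right
      simp
    · left
      exact ⟨j', by simp⟩
  · rintro (⟨j, rfl⟩ | hm)
    · exact ⟨Fin.castSucc j, by simp⟩
    · refine ⟨Fin.last l, ?_⟩
      rw [Set.mem_singleton_iff] at hm
      rw [hm]; simp

omit [IsNoetherianRing R] [IsLocalRing R] in
theorem good_transport (q : PrimeSpectrum R) {A A' B B' : Submodule R M} (hA : A = A')
    (hB : B = B') (h : Nonempty ((↥A ⧸ B.submoduleOf A) ≃ₗ[R] R ⧸ q.asIdeal)) :
    Nonempty ((↥A' ⧸ B'.submoduleOf A') ≃ₗ[R] R ⧸ q.asIdeal) := by
  subst hA; subst hB; exact h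

/-- extension step -/
theorem extend (q : PrimeSpectrum R) [Module.Finite R M]
    (hq : Minimal (fun p : PrimeSpectrum R => p ∈ Module.support R M) q) {l : ℕ} (x : Fin l → M)
    (hx : Good q x) (hne : q ∈ Module.support R (M ⧸ Submodule.span R (Set.range x))) :
    ∃ x' : Fin (l + 1) → M, Good q x' := by
  set N := Submodule.span R (Set.range x) with hN
  -- q is a minimal prime over the annihilator of M/N
  have hmin : q.asIdeal ∈ (Module.annihilator R (M ⧸ N)).minimalPrimes := by
    refine ⟨⟨q.2, ?_⟩, ?_⟩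
    · exact Module.mem_support_iff_of_finite.1 hne
    · rintro p' ⟨hp', hann⟩ hle
      have h1 : (⟨p', hp'⟩ : PrimeSpectrum R) ∈ Module.support R (M ⧸ N) :=
        Module.mem_support_iff_of_finite.2 hann
      have h2 : (⟨p', hp'⟩ : PrimeSpectrum R) ∈ Module.support R M :=
        Module.support_subset_of_surjective N.mkQ (Submodule.mkQ_surjective _) h1
      have h3 : q ≤ ⟨p', hp'⟩ := hq.2 h2 hle
      exact h3
  have hass := Module.associatedPrimes.minimalPrimes_annihilator_subset_associatedPrimes R (M ⧸ N) hmin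
  obtain ⟨-, ybar, hy⟩ := (isAssociatedPrime_iff).1 hass
  obtain ⟨y, rfl⟩ := Submodule.mkQ_surjective N ybar
  have hyq : ∀ r : R, r ∈ q.asIdeal ↔ r • y ∈ N := by
    intro r
    rw [hy, Submodule.mem_colon_singleton, Submodule.mem_bot, ← map_smul, Submodule.mkQ_apply,
      Submodule.Quotient.mk_eq_zero]
  refine ⟨Fin.snoc (α := fun _ => M) x y, ?_⟩
  intro i
  refine Fin.lastCases ?_ (fun j => ?_) i
  · -- the new step
    simp only [Fin.val_last]
    set N' := N ⊔ Submodule.span R {y} with hN'
    refine good_transport q (A := N') (B := N) (by rw [spanBefore_snoc_last])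
      (by rw [spanBefore_snoc_le x y l le_rfl, spanBefore_top]) ?_
    have hyN' : y ∈ N' := Submodule.mem_sup_right (Submodule.mem_span_singleton_self y)
    let g : R →ₗ[R] (↥N' ⧸ N.submoduleOf N') :=
      (N.submoduleOf N').mkQ ∘ₗ (LinearMap.toSpanSingleton R ↥N' ⟨y, hyN'⟩)
    have hg : Function.Surjective g := by
      intro z
      obtain ⟨⟨m, hm⟩, rfl⟩ := Submodule.mkQ_surjective _ z
      obtain ⟨n, hn, w, hw, rfl⟩ := Submodule.mem_sup.1 hm
      obtain ⟨r, rfl⟩ := Submodule.mem_span_singleton.1 hw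
      refine ⟨r, ?_⟩
      simp only [g, LinearMap.comp_apply, LinearMap.toSpanSingleton_apply, Submodule.mkQ_apply]
      rw [Submodule.Quotient.eq]
      show ((r • (⟨y, hyN'⟩ : ↥N') - ⟨n + r • y, hm⟩ : ↥N') : M) ∈ N
      simp only [Submodule.coe_sub, Submodule.coe_smul]
      have : r • y - (n + r • y) = -n := by abel
      rw [this]
      exact N.neg_mem hn
    have hk : LinearMap.ker g = q.asIdeal := by
      ext r
      rw [LinearMap.mem_ker]
      simp only [g, LinearMap.comp_apply, LinearMap.toSpanSingleton_apply, Submodule.mkQ_apply]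
      rw [Submodule.Quotient.mk_eq_zero, hyq r]
      rfl
    exact ⟨(LinearMap.quotKerEquivOfSurjective g hg).symm ≪≫ₗ
      Submodule.quotEquivOfEq _ _ hk⟩
  · -- old steps
    simp only [Fin.val_castSucc]
    exact good_transport q (spanBefore_snoc_le x y ((j : ℕ) + 1) j.2).symm
      (spanBefore_snoc_le x y (j : ℕ) j.2.le).symm (hx j)

theorem result' (R : Type u) [CommRing R] [IsNoetherianRing R] [IsLocalRing R] (M : Type u)
    [AddCommGroup M] [Module R M] [Module.Finite R M] (q : PrimeSpectrum R)
    (hq : Minimal (fun p : PrimeSpectrum R => p ∈ Module.support R M) q) :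
    (∃ (l : ℕ) (x : Fin l → M), q ∉ Module.support R (M ⧸ Submodule.span R (Set.range x)) ∧
      Good q x) ∧
    ∀ (l : ℕ) (x : Fin l → M), q ∉ Module.support R (M ⧸ Submodule.span R (Set.range x)) →
      Good q x → (l : ℕ∞) = lq q M := by
  have partB : ∀ (l : ℕ) (x : Fin l → M), Good q x →
      lq q M = l + lq q (M ⧸ Submodule.span R (Set.range x)) := by
    intro l x hx
    rw [lq_total q (Submodule.span R (Set.range x)), ← spanBefore_top, lq_spanBefore q x hx l le_rfl]
  refine ⟨?_, ?_⟩
  · -- existence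
    have hfl : IsFiniteLength (Localization.AtPrime q.asIdeal)
        (LocalizedModule q.asIdeal.primeCompl M) := by
      apply fl_loc M q
      intro q' hq' hle
      exact le_antisymm hle (hq.2 hq' hle)
    obtain ⟨L, hL⟩ := ENat.ne_top_iff_exists.1 (Module.length_ne_top_iff.2 hfl)
    have key : ∀ k : ℕ, k ≤ L → ∃ x : Fin k → M, Good q x := by
      intro k
      induction k with
      | zero => intro _; exact ⟨Fin.elim0, fun i => i.elim0⟩
      | succ k ih =>
        intro hk
        obtain ⟨x, hx⟩ := ih (Nat.le_of_succ_le hk)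
        apply extend q hq x hx
        by_contra hne
        have h0 := (lq_eq_zero_iff q _).2 hne
        have := partB k x hx
        rw [h0, add_zero] at this
        change Module.length _ _ = (k : ℕ∞) at this
        rw [← hL] at this
        have : L = k := by exact_mod_cast this
        omega
    obtain ⟨x, hx⟩ := key L le_rfl
    refine ⟨L, x, ?_, hx⟩
    rw [← lq_eq_zero_iff]
    have := partB L x hx
    change Module.length _ _ = _ at this
    rw [← hL] at this
    generalize lq q (M ⧸ Submodule.span R (Set.range x)) = z at this ⊢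
    induction z using ENat.recTopCoe with
    | top =>
      rw [add_top] at this
      exact absurd this (ENat.natCast_ne_top L)
    | coe n =>
      have h : L = L + n := by exact_mod_cast this
      have : n = 0 := by omega
      rw [this]; rfl
  · intro l x hsupp hx
    have := partB l x hx
    rw [(lq_eq_zero_iff q _).2 hsupp, add_zero] at this
    exact this.symm


/-- Let R be a Noetherian local ring, M a finite R-module and 𝔮 a minimal prime of the support of M.
There are x₁, …, x_l in M such that 𝔮 is not in the support of M/⟨x₁, …, x_l⟩ and each ⟨x₁, …,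
x_i⟩/⟨x₁, …, x_{i−1}⟩ is isomorphic to R/𝔮; and for any such sequence l equals the length of M_𝔮
over R_𝔮. -/
theorem result (R : Type u) [CommRing R] [IsNoetherianRing R] [IsLocalRing R] (M : Type u) [AddCommGroup M] [Module R M] [Module.Finite R M] (q : PrimeSpectrum R) (hq : Minimal (fun p : PrimeSpectrum R => p ∈ Module.support R M) q) : (∃ (l : ℕ) (x : Fin l → M), q ∉ Module.support R (M ⧸ Submodule.span R (Set.range x)) ∧ ∀ i : Fin l, Nonempty ((↥(CycDet.spanBefore R M x (i + 1)) ⧸ (CycDet.spanBefore R M x i).submoduleOf (CycDet.spanBefore R M x (i + 1))) ≃ₗ[R] (R ⧸ q.asIdeal))) ∧ ∀ (l : ℕ) (x : Fin l → M), q ∉ Module.support R (M ⧸ Submodule.span R (Set.range x)) → (∀ i : Fin l, Nonempty ((↥(CycDet.spanBefore R M x (i + 1)) ⧸ (CycDet.spanBefore R M x i).submoduleOf (CycDet.spanBefore R M x (i + 1))) ≃ₗ[R] (R ⧸ q.asIdeal))) → (l : ℕ∞) = Module.length (Localization.AtPrime q.asIdeal) (LocalizedModule q.asIdeal.primeCompl M) := by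
  exact result' R M q hq

end Groth.Agent.S1852
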