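import Groth.Statements.S18527
import Mathlib
import Groth.Agent.Lib.ParPoly97
import Groth.Agent.S0002
-- import your own Groth.Agent.* helpers here

set_option autoImplicit false
universe u
open CategoryTheory CategoryTheory.Limits AlgebraicGeometry Polynomial
open ParSh

namespace Groth.Agent.S18527

/-- An upper and a lower bound for the second coefficient of the parabolic Hilbert polynomial. Let X be
a scheme proper over a field k with an ample invertible sheaf L, I the ideal of an effective Cartier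
divisor D on X, and E a coherent O_X-module with a finite weighted filtration 𝓔 along I by coherent
pieces E = E₀ ⊇ ⋯ ⊇ E_l ⊇ E_{l+1} = I·E, weights 0 ≤ w₀ < ⋯ < w_l < 1. Let d ≥ 1 be a natural number
with Supp E ∩ Supp D of topological Krull dimension less than d, P the Hilbert polynomial of E with
respect to L and P_j that of E_j (0 ≤ j ≤ l+1). Then the coefficient of degree d − 1 of the
parabolic Hilbert polynomial P_{l+1} + Σ_{j ≤ l} w_j (P_j − P_{j+1}) is at least the coefficient of
degree d − 1 of P_{l+1} and at most that of P. For E pure of dimension d this says that the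
parabolic slope lies between the slope of E(−D) and the slope of E; the published statement also
gives a lower bound μ(E) − b with b depending only on a bound for the multiplicity of E, on d, D and
L, which is not part of this row. -/
theorem result (k : Type u) [Field k] (X : Scheme.{u})
    [X.Over (Spec (CommRingCat.of k))] [IsProper (X ↘ Spec (CommRingCat.of k))]
    (L : X.Modules) (hL : CohB1.IsAmple L) (I : X.IdealSheafData) (hD : FGA.IsEffCartier I)
    (E : X.Modules) (hE : Coh.IsCoh E) (𝓔 : ParSh.Str E) (h𝓔 : 𝓔.Along I)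
    (hcoh : ∀ j, Coh.IsCoh ((𝓔.pieceX j : Subobject E) : X.Modules)) (d : ℕ) (hd : 1 ≤ d)
    (hsupp : topologicalKrullDim ↥(CohB1.support E ∩ (I.support : Set X)) < (d : WithBot ℕ∞))
    (P : ℚ[X]) (hP : ShStab.IsHilbPoly k X L E P) (PX : Fin (𝓔.l + 2) → ℚ[X])
    (hPX : ∀ j, ShStab.IsHilbPoly k X L ((𝓔.pieceX j : Subobject E) : X.Modules) (PX j)) :
    (W4swparbununimod.rpoly (PX (Fin.last (𝓔.l + 1)))).coeff (d - 1) ≤ (W4swparbununimod.parPoly 𝓔 PX).coeff (d - 1) ∧
      (W4swparbununimod.parPoly 𝓔 PX).coeff (d - 1) ≤ (W4swparbununimod.rpoly P).coeff (d - 1) := by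
  have H : Groth.Agent.Lib.ProperFinHyp.Hyp.{u} :=
    fun A _ _ X _ _ M hM n => Groth.Agent.S0002.result A X M hM n
  have hbot : ∀ j, ParSh.twistSub I E ≤ 𝓔.pieceX j := fun j => by
    rw [← (show 𝓔.bot = ParSh.twistSub I E from h𝓔)]; exact 𝓔.bot_le_pieceX j
  have hs : ∀ j, CohB1.support (cokernel (𝓔.pieceX j).arrow) ⊆
      CohB1.support E ∩ (I.support : Set X) :=
    fun j => Groth.Agent.Lib.ParSupp97.support_cokernel_arrow_subset I _ (hbot j)
  have hmono : ∀ j : Fin (𝓔.l + 1), (PX j.succ).coeff (d - 1) ≤ (PX j.castSucc).coeff (d - 1) := fun j =>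
    Groth.Agent.Lib.ParPoly97.coeff_pred_mono_of_support H k X hL hE hsupp hd
      (Groth.Agent.Lib.ParPoly97.pieceX_succ_le_castSucc 𝓔 j) (hcoh _) (hcoh _) (hs _) (hPX _) (hPX _) hP
  have hle : (PX 0).coeff (d - 1) ≤ P.coeff (d - 1) :=
    Groth.Agent.Lib.ParPoly97.coeff_pred_le_of_support H k X hL hE hsupp hd (𝓔.pieceX 0) (hcoh 0) (hs 0)
      (hPX 0) hP
  have hb := Groth.Agent.Lib.ParPoly97.parSum_bounds 𝓔.wt
    (Groth.Agent.Lib.ParPoly97.wt_nonneg' 𝓔) (Groth.Agent.Lib.ParPoly97.wt_le_one 𝓔)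
    (fun j => (((PX j).coeff (d - 1) : ℚ) : ℝ)) (fun j => by exact_mod_cast hmono j)
  rw [Groth.Agent.Lib.ParPoly97.coeff_parPoly, Polynomial.coeff_map, Polynomial.coeff_map]
  refine ⟨hb.1, hb.2.trans ?_⟩
  change (((PX 0).coeff (d - 1) : ℚ) : ℝ) ≤ ((P.coeff (d - 1) : ℚ) : ℝ)
  exact_mod_cast hle

end Groth.Agent.S18527
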