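import Groth.Statements.S18528
import Mathlib
import Groth.Agent.Lib.ParPoly97
import Groth.Agent.Lib.ParAsymp97
import Groth.Agent.Lib.StabGeom48c
import Groth.Agent.S0002
-- import your own Groth.Agent.* helpers here

set_option autoImplicit false
universe u
open CategoryTheory CategoryTheory.Limits AlgebraicGeometry Polynomial
open ParSh

namespace Groth.Agent.S18528

/-- Reduced parabolic Hilbert polynomials versus parabolic slopes, for one test subsheaf. Let X be a
scheme proper over a field k with an ample invertible sheaf L, I the ideal of an effective Cartier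
divisor D on X, and E a nonzero coherent O_X-module, pure of dimension d ≥ 1, with Supp E ∩ Supp D
of topological Krull dimension less than d, carrying a finite weighted filtration 𝓔 along I by
coherent pieces E = E₀ ⊇ ⋯ ⊇ E_{l+1} = I·E with weights 0 ≤ w₀ < ⋯ < w_l < 1. Let P be the Hilbert
polynomial of E and P_j that of E_j. Let ι : W → E be a monomorphism from a coherent module W, give
W the induced filtration (pieces the preimages of the E_j, same weights) with Hilbert polynomials Q
of W and Q_j of its pieces, and write Par_E = P_{l+1} + Σ_j w_j (P_j − P_{j+1}), Par_W = Q_{l+1} +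
Σ_j w_j (Q_j − Q_{j+1}), α_d for d! times the coefficient of degree d. Then: (i) if Par_W(m)·α_d(P)
≤ Par_E(m)·α_d(Q) for all large natural numbers m, the coefficients of degree d − 1 satisfy
coeff(Par_W)·α_d(P) ≤ coeff(Par_E)·α_d(Q); (ii) if this coefficient inequality is strict, then
Par_W(m)·α_d(P) < Par_E(m)·α_d(Q) for all large m. With W running over the saturated nonzero proper
subsheaves this is the published implication: parabolic semistability for the reduced parabolic
Hilbert polynomial implies parabolic slope-semistability, and parabolic slope-stability implies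
stability for the reduced parabolic Hilbert polynomial. -/
theorem result (k : Type u) [Field k] (X : Scheme.{u})
    [X.Over (Spec (CommRingCat.of k))] [IsProper (X ↘ Spec (CommRingCat.of k))]
    (L : X.Modules) (hL : CohB1.IsAmple L) (I : X.IdealSheafData) (hD : FGA.IsEffCartier I)
    (E : X.Modules) (hE : Coh.IsCoh E) (h0 : ¬ IsZero E) (d : ℕ) (hd : 1 ≤ d)
    (hpure : ShStab.IsPure X E d) (𝓔 : ParSh.Str E) (h𝓔 : 𝓔.Along I)
    (hcoh : ∀ j, Coh.IsCoh ((𝓔.pieceX j : Subobject E) : X.Modules))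
    (hsupp : topologicalKrullDim ↥(CohB1.support E ∩ (I.support : Set X)) < (d : WithBot ℕ∞))
    (P : ℚ[X]) (hP : ShStab.IsHilbPoly k X L E P) (PX : Fin (𝓔.l + 2) → ℚ[X])
    (hPX : ∀ j, ShStab.IsHilbPoly k X L ((𝓔.pieceX j : Subobject E) : X.Modules) (PX j))
    {W : X.Modules} (ι : W ⟶ E) [Mono ι] (hW : Coh.IsCoh W)
    (Q : ℚ[X]) (hQ : ShStab.IsHilbPoly k X L W Q) (QX : Fin (𝓔.l + 2) → ℚ[X])
    (hQX : ∀ j, ShStab.IsHilbPoly k X L (((𝓔.induced ι).pieceX j : Subobject W) : X.Modules) (QX j)) :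
    ((∃ M : ℕ, ∀ m : ℕ, M ≤ m →
        (W4swparbununimod.parPoly (𝓔.induced ι) QX).eval (m : ℝ) * (StabCat.alpha d P : ℝ) ≤
          (W4swparbununimod.parPoly 𝓔 PX).eval (m : ℝ) * (StabCat.alpha d Q : ℝ)) →
      (W4swparbununimod.parPoly (𝓔.induced ι) QX).coeff (d - 1) * (StabCat.alpha d P : ℝ) ≤
        (W4swparbununimod.parPoly 𝓔 PX).coeff (d - 1) * (StabCat.alpha d Q : ℝ)) ∧
    ((W4swparbununimod.parPoly (𝓔.induced ι) QX).coeff (d - 1) * (StabCat.alpha d P : ℝ) <
        (W4swparbununimod.parPoly 𝓔 PX).coeff (d - 1) * (StabCat.alpha d Q : ℝ) →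
      ∃ M : ℕ, ∀ m : ℕ, M ≤ m →
        (W4swparbununimod.parPoly (𝓔.induced ι) QX).eval (m : ℝ) * (StabCat.alpha d P : ℝ) <
          (W4swparbununimod.parPoly 𝓔 PX).eval (m : ℝ) * (StabCat.alpha d Q : ℝ)) := by
  have H : Groth.Agent.Lib.ProperFinHyp.Hyp.{u} :=
    fun A _ _ X _ _ M hM n => Groth.Agent.S0002.result A X M hM n
  haveI := Groth.Agent.Lib.ParHilb48.isLocallyNoetherian k X
  have hdim := Groth.Agent.Lib.StabGeom48.dim_of_isPure (X := X) hpure hE h0
  have hpd : P.natDegree ≤ d :=
    Groth.Agent.Lib.HilbPoly48.natDegree_le_of_isHilbPoly k X H hL.1 hE d hdim.le hP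
  have hqd : Q.natDegree ≤ d :=
    Groth.Agent.Lib.StabGeom48.natDegree_le_of_mono H k X hL hdim.le ι hW hQ
  have hbot : ∀ j, ParSh.twistSub I E ≤ 𝓔.pieceX j := fun j => by
    rw [← (show 𝓔.bot = ParSh.twistSub I E from h𝓔)]; exact 𝓔.bot_le_pieceX j
  have hs : ∀ j, CohB1.support (cokernel (𝓔.pieceX j).arrow) ⊆
      CohB1.support E ∩ (I.support : Set X) :=
    fun j => Groth.Agent.Lib.ParSupp97.support_cokernel_arrow_subset I _ (hbot j)
  have hB : ∀ n, d ≤ n → (W4swparbununimod.parPoly 𝓔 PX).coeff n = ((P.coeff n : ℚ) : ℝ) := by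
    intro n hn
    have hc : ∀ j, (PX j).coeff n = P.coeff n := fun j =>
      Groth.Agent.Lib.ParPoly97.coeff_eq_of_support H k X hL hE hsupp (𝓔.pieceX j) (hcoh j) (hs j)
        (hPX j) hP hn
    rw [Groth.Agent.Lib.ParPoly97.coeff_parPoly]
    simp only [hc, sub_self, mul_zero, Finset.sum_const_zero, add_zero]
  haveI : W.IsQuasicoherent := hW.1
  have hcokι : Coh.IsCoh (cokernel ι) := Groth.Agent.Lib.H90OXModExact.isCoh_cokernel ι hE
  have hWj : ∀ j, Coh.IsCoh (((𝓔.induced ι).pieceX j : Subobject W) : X.Modules) := by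
    intro j
    rw [Groth.Agent.Lib.ParHilb48.induced_pieceX]
    exact Groth.Agent.Lib.ParHilb48.isCoh_pullback_piece ι (cokernel.π ι) (cokernel.condition ι)
      (Groth.Agent.Lib.H90DevTwo.shortExact_cokernel ι) hcokι _ (hcoh j)
  have hsW : ∀ j, CohB1.support (cokernel ((𝓔.induced ι).pieceX j).arrow) ⊆
      CohB1.support E ∩ (I.support : Set X) := by
    intro j
    rw [Groth.Agent.Lib.ParHilb48.induced_pieceX]
    exact (Groth.Agent.Lib.ParSupp97.support_cokernel_pullback_subset ι _).trans (hs j)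
  have hA : ∀ n, d ≤ n →
      (W4swparbununimod.parPoly (𝓔.induced ι) QX).coeff n = ((Q.coeff n : ℚ) : ℝ) := by
    intro n hn
    have hc : ∀ j, (QX j).coeff n = Q.coeff n := fun j =>
      Groth.Agent.Lib.ParPoly97.coeff_eq_of_support H k X hL hW hsupp ((𝓔.induced ι).pieceX j) (hWj j)
        (hsW j) (hQX j) hQ hn
    rw [Groth.Agent.Lib.ParPoly97.coeff_parPoly]
    simp only [hc, sub_self, mul_zero, Finset.sum_const_zero, add_zero]
  exact Groth.Agent.Lib.ParAsymp97.asymp_cross hd hpd hqd hA hB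

end Groth.Agent.S18528
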