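import Groth.Statements.S18530
import Mathlib
import Groth.Agent.Lib.ParPoly97b
import Groth.Agent.S0002
-- import your own Groth.Agent.* helpers here

set_option autoImplicit false
universe u
open CategoryTheory CategoryTheory.Limits AlgebraicGeometry Polynomial
open ParSh

namespace Groth.Agent.S18530

/-- The two leading coefficients of the first modified parabolic Hilbert polynomial. Let X be a scheme
proper over a field k with an ample invertible sheaf L, I the ideal of an effective Cartier divisor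
D on X, and E a coherent O_X-module with a finite weighted filtration 𝓔 along I by coherent pieces E
= E₀ ⊇ ⋯ ⊇ E_{l+1} = I·E, weights 0 ≤ w₀ < ⋯ < w_l < 1 and w_{l+1} := 1. Let d ≥ 1 with Supp E ∩
Supp D of topological Krull dimension less than d, and let H_j be the Hilbert polynomial of E/E_j,
with α_{d−1}(H_j) ≠ 0 for 1 ≤ j ≤ l+1 (α_i(H) = i!·coefficient of degree i), the numerical type of
𝓔. Let ι : W → E be a monomorphism from a coherent module W, with induced filtration W_j = W ∩ E_j,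
Q the Hilbert polynomial of W, Q_j that of W_j and K_j that of W/W_j. Then the first modified
parabolic polynomial par-P₁(W ⊂ E) := Q − Σ_{j=1}^{l+1} (w_j −
w_{j−1})·(α_{d−1}(K_j)/α_{d−1}(H_j))·H_j and the parabolic polynomial par-P₀(W) := Q_{l+1} + Σ_{j ≤
l} w_j (Q_j − Q_{j+1}) have the same coefficient in degree d and the same coefficient in degree d −
1. The published statement adds the consequences that p₁-semistability implies parabolic
slope-semistability and parabolic slope-stability implies p₁-stability, which are not part of this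
row. -/
theorem result (k : Type u) [Field k] (X : Scheme.{u})
    [X.Over (Spec (CommRingCat.of k))] [IsProper (X ↘ Spec (CommRingCat.of k))]
    (L : X.Modules) (hL : CohB1.IsAmple L) (I : X.IdealSheafData) (hD : FGA.IsEffCartier I)
    (E : X.Modules) (hE : Coh.IsCoh E) (𝓔 : ParSh.Str E) (h𝓔 : 𝓔.Along I)
    (hcoh : ∀ j, Coh.IsCoh ((𝓔.pieceX j : Subobject E) : X.Modules)) (d : ℕ) (hd : 1 ≤ d)
    (hsupp : topologicalKrullDim ↥(CohB1.support E ∩ (I.support : Set X)) < (d : WithBot ℕ∞))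
    (H : Fin (𝓔.l + 2) → ℚ[X]) (hH : ∀ j, ShStab.IsHilbPoly k X L (cokernel (𝓔.pieceX j).arrow) (H j))
    (hHa : ∀ j : Fin (𝓔.l + 1), StabCat.alpha (d - 1) (H j.succ) ≠ 0)
    {W : X.Modules} (ι : W ⟶ E) [Mono ι] (hW : Coh.IsCoh W)
    (Q : ℚ[X]) (hQ : ShStab.IsHilbPoly k X L W Q) (QX : Fin (𝓔.l + 2) → ℚ[X])
    (hQX : ∀ j, ShStab.IsHilbPoly k X L (((𝓔.induced ι).pieceX j : Subobject W) : X.Modules) (QX j))
    (QH : Fin (𝓔.l + 2) → ℚ[X])
    (hQH : ∀ j, ShStab.IsHilbPoly k X L (cokernel ((𝓔.induced ι).pieceX j).arrow) (QH j)) :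
    (W4swparbununimod.parPolyOne 𝓔 d Q QH H).coeff d = (W4swparbununimod.parPoly (𝓔.induced ι) QX).coeff d ∧
      (W4swparbununimod.parPolyOne 𝓔 d Q QH H).coeff (d - 1) =
        (W4swparbununimod.parPoly (𝓔.induced ι) QX).coeff (d - 1) := by
  have H' : Groth.Agent.Lib.ProperFinHyp.Hyp.{u} :=
    fun A _ _ X _ _ M hM n => Groth.Agent.S0002.result A X M hM n
  haveI := Groth.Agent.Lib.ParHilb48.isLocallyNoetherian k X
  have hbot : ∀ j, ParSh.twistSub I E ≤ 𝓔.pieceX j := fun j => by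
    rw [← (show 𝓔.bot = ParSh.twistSub I E from h𝓔)]; exact 𝓔.bot_le_pieceX j
  have hs : ∀ j, CohB1.support (cokernel (𝓔.pieceX j).arrow) ⊆
      CohB1.support E ∩ (I.support : Set X) :=
    fun j => Groth.Agent.Lib.ParSupp97.support_cokernel_arrow_subset I _ (hbot j)
  haveI : W.IsQuasicoherent := hW.1
  have hcokι : Coh.IsCoh (cokernel ι) := Groth.Agent.Lib.H90OXModExact.isCoh_cokernel ι hE
  have hWj : ∀ j, Coh.IsCoh (((𝓔.induced ι).pieceX j : Subobject W) : X.Modules) := by
    intro j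
    rw [Groth.Agent.Lib.ParHilb48.induced_pieceX]
    exact Groth.Agent.Lib.ParHilb48.isCoh_pullback_piece ι (cokernel.π ι) (cokernel.condition ι)
      (Groth.Agent.Lib.H90DevTwo.shortExact_cokernel ι) hcokι _ (hcoh j)
  have hsW : ∀ j, CohB1.support (cokernel ((𝓔.induced ι).pieceX j).arrow) ⊆
      CohB1.support E ∩ (I.support : Set X) := by
    intro j
    rw [Groth.Agent.Lib.ParHilb48.induced_pieceX]
    exact (Groth.Agent.Lib.ParSupp97.support_cokernel_pullback_subset ι _).trans (hs j)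
  -- `QH j = Q - QX j`
  have hQHeq : ∀ j, QH j = Q - QX j := fun j =>
    Groth.Agent.Lib.HilbPoly48.isHilbPoly_unique (hQH j)
      (Groth.Agent.Lib.ParPoly97.isHilbPoly_cokernel_arrow H' k X hL hW _ (hWj j) (hQX j) hQ).2
  have hQH0 : QH 0 = 0 :=
    Groth.Agent.Lib.ParPoly97.hilbPoly_cokernel_pieceX_zero k X (𝓔.induced ι) (hQH 0)
  -- `H j` vanishes in degree `d`
  have hHd : ∀ j, (H j).coeff d = 0 := fun j => by
    haveI : ((𝓔.pieceX j : Subobject E) : X.Modules).IsQuasicoherent := (hcoh j).1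
    exact Groth.Agent.Lib.ParPoly97.coeff_eq_zero_of_support_subset H' k X hL hsupp
      (Groth.Agent.Lib.H90OXModExact.isCoh_cokernel (𝓔.pieceX j).arrow hE) (hs j) (hH j) le_rfl
  have hQHd : ∀ j, (QH j).coeff d = 0 := fun j => by
    haveI : (((𝓔.induced ι).pieceX j : Subobject W) : X.Modules).IsQuasicoherent := (hWj j).1
    exact Groth.Agent.Lib.ParPoly97.coeff_eq_zero_of_support_subset H' k X hL hsupp
      (Groth.Agent.Lib.H90OXModExact.isCoh_cokernel ((𝓔.induced ι).pieceX j).arrow hW) (hsW j) (hQH j) le_rfl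
  have hQXc : ∀ (n : ℕ) (j : Fin (𝓔.l + 2)),
      (((QX j).coeff n : ℚ) : ℝ) = ((Q.coeff n : ℚ) : ℝ) - (((QH j).coeff n : ℚ) : ℝ) := by
    intro n j
    rw [hQHeq j, Polynomial.coeff_sub]
    push_cast
    ring
  constructor
  · rw [Groth.Agent.Lib.ParPoly97.coeff_parPolyOne,
      Groth.Agent.Lib.ParPoly97.coeff_parPoly_of_quot (𝓔.induced ι) QX d ((Q.coeff d : ℚ) : ℝ)
        (fun j => (((QH j).coeff d : ℚ) : ℝ))
        (by show (((QH 0).coeff d : ℚ) : ℝ) = 0; rw [hQH0]; simp) (hQXc d)]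
    simp only [hHd, hQHd, Rat.cast_zero, mul_zero, Finset.sum_const_zero]
  · rw [Groth.Agent.Lib.ParPoly97.coeff_parPolyOne,
      Groth.Agent.Lib.ParPoly97.coeff_parPoly_of_quot (𝓔.induced ι) QX (d - 1) ((Q.coeff (d - 1) : ℚ) : ℝ)
        (fun j => (((QH j).coeff (d - 1) : ℚ) : ℝ))
        (by show (((QH 0).coeff (d - 1) : ℚ) : ℝ) = 0; rw [hQH0]; simp) (hQXc (d - 1))]
    congr 1
    refine Finset.sum_congr rfl fun j _ => ?_
    have hne : (H j.succ).coeff (d - 1) ≠ 0 := by
      intro h0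
      apply hHa j
      unfold StabCat.alpha
      rw [h0, mul_zero]
    have hf : ((d - 1).factorial : ℚ) ≠ 0 := by exact_mod_cast (d - 1).factorial_ne_zero
    have hr : (StabCat.alpha (d - 1) (QH j.succ) / StabCat.alpha (d - 1) (H j.succ) : ℚ) *
        (H j.succ).coeff (d - 1) = (QH j.succ).coeff (d - 1) := by
      unfold StabCat.alpha
      field_simp
    have hr' : ((StabCat.alpha (d - 1) (QH j.succ) / StabCat.alpha (d - 1) (H j.succ) : ℚ) : ℝ) *
        (((H j.succ).coeff (d - 1) : ℚ) : ℝ) = (((QH j.succ).coeff (d - 1) : ℚ) : ℝ) := by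
      exact_mod_cast hr
    change ((𝓔.wtX j.succ - 𝓔.wtX j.castSucc) * _) * _ = ((𝓔.induced ι).wtX j.succ - (𝓔.induced ι).wtX j.castSucc) * _
    rw [mul_assoc, hr']
    rfl

end Groth.Agent.S18530
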