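import Groth.Statements.S18531
import Mathlib
import Groth.Agent.Lib.ParSS97b
import Groth.Agent.Lib.StabGeom48d
import Groth.Agent.Lib.StabGeomAx
import Groth.Agent.S0002
-- import your own Groth.Agent.* helpers here

set_option autoImplicit false
universe u
open CategoryTheory CategoryTheory.Limits AlgebraicGeometry Polynomial
open ParSh

namespace Groth.Agent.S18531

/-- Semistability for the reduced parabolic Hilbert polynomial together with semistable flag quotients
gives semistability for the first modified polynomial. Let X be a scheme proper over a field k with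
an ample invertible sheaf L, I the ideal of an effective Cartier divisor D on X, d ≥ 1, and E a
nonzero coherent O_X-module, pure of dimension d, with Supp E ∩ Supp D of topological Krull
dimension less than d, carrying a finite weighted filtration 𝓔 along I by coherent pieces E = E₀ ⊇ ⋯
⊇ E_{l+1} = I·E, weights 0 ≤ w₀ < ⋯ < w_l < 1, w_{l+1} := 1. Let P be the Hilbert polynomial of E,
P_j that of E_j, H_j that of E/E_j with α_{d−1}(H_j) ≠ 0 for 1 ≤ j ≤ l+1, and Par_E = P_{l+1} + Σ_j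
w_j (P_j − P_{j+1}); α_i(H) = i!·coefficient of degree i. Assume: (i) for every nonzero coherent
sub-module W → E whose cokernel is pure of dimension d or zero, with its induced filtration and
Hilbert polynomials Q of W and Q_j of the pieces, Par_W(m)·α_d(P) ≤ Par_E(m)·α_d(Q) for all large
natural m; (ii) for 1 ≤ j ≤ l+1 the quotient E/E_j is semistable of dimension d − 1 with respect to
L (coherent, nonzero, pure, and for each nonzero proper coherent sub-module the cross-multiplied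
comparison of Hilbert polynomials holds for large m). Then for every nonzero coherent sub-module ι :
W → E, with induced filtration W_j = W ∩ E_j and Hilbert polynomials Q of W, Q_j of W_j and K_j of
W/W_j, one has par-P₁(W ⊂ E)(m)·α_d(P) ≤ Par_E(m)·α_d(Q) for all large natural m, where par-P₁(W ⊂
E) = Q − Σ_{j=1}^{l+1} (w_j − w_{j−1})·(α_{d−1}(K_j)/α_{d−1}(H_j))·H_j. Semistability in (i) is
tested on saturated sub-modules with the induced filtration, the class to which the general test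
reduces. -/
theorem result (k : Type u) [Field k] (X : Scheme.{u})
    [X.Over (Spec (CommRingCat.of k))] [IsProper (X ↘ Spec (CommRingCat.of k))]
    (L : X.Modules) (hL : CohB1.IsAmple L) (I : X.IdealSheafData) (hD : FGA.IsEffCartier I)
    (E : X.Modules) (hE : Coh.IsCoh E) (𝓔 : ParSh.Str E) (h𝓔 : 𝓔.Along I)
    (hcoh : ∀ j, Coh.IsCoh ((𝓔.pieceX j : Subobject E) : X.Modules)) (d : ℕ) (hd : 1 ≤ d)
    (hsupp : topologicalKrullDim ↥(CohB1.support E ∩ (I.support : Set X)) < (d : WithBot ℕ∞))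
    (h0 : ¬ IsZero E) (hpure : ShStab.IsPure X E d)
    (P : ℚ[X]) (hP : ShStab.IsHilbPoly k X L E P) (PX : Fin (𝓔.l + 2) → ℚ[X])
    (hPX : ∀ j, ShStab.IsHilbPoly k X L ((𝓔.pieceX j : Subobject E) : X.Modules) (PX j))
    (H : Fin (𝓔.l + 2) → ℚ[X]) (hH : ∀ j, ShStab.IsHilbPoly k X L (cokernel (𝓔.pieceX j).arrow) (H j))
    (hHa : ∀ j : Fin (𝓔.l + 1), StabCat.alpha (d - 1) (H j.succ) ≠ 0)
    (hss : (∀ (W : X.Modules) (ι : W ⟶ E), Mono ι → Coh.IsCoh W → ¬ IsZero W → ShStab.IsPure X (cokernel ι) d →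
        ∀ (Q : ℚ[X]) (QX : Fin (𝓔.l + 2) → ℚ[X]), ShStab.IsHilbPoly k X L W Q →
          (∀ j, ShStab.IsHilbPoly k X L (((𝓔.induced ι).pieceX j : Subobject W) : X.Modules) (QX j)) →
          ∃ M : ℕ, ∀ m : ℕ, M ≤ m →
            (W4swparbununimod.parPoly (𝓔.induced ι) QX).eval (m : ℝ) * (StabCat.alpha d P : ℝ) ≤
              (W4swparbununimod.parPoly 𝓔 PX).eval (m : ℝ) * (StabCat.alpha d Q : ℝ)))
    (hq : ∀ j : Fin (𝓔.l + 1), ShStab.IsSemistable k X L (cokernel (𝓔.pieceX j.succ).arrow) (d - 1))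
    {W : X.Modules} (ι : W ⟶ E) [Mono ι] (hW : Coh.IsCoh W)
    (Q : ℚ[X]) (hQ : ShStab.IsHilbPoly k X L W Q) (QH : Fin (𝓔.l + 2) → ℚ[X])
    (hQH : ∀ j, ShStab.IsHilbPoly k X L (cokernel ((𝓔.induced ι).pieceX j).arrow) (QH j)) (hW0 : ¬ IsZero W) :
    ∃ M : ℕ, ∀ m : ℕ, M ≤ m →
      (W4swparbununimod.parPolyOne 𝓔 d Q QH H).eval (m : ℝ) * (StabCat.alpha d P : ℝ) ≤
        (W4swparbununimod.parPoly 𝓔 PX).eval (m : ℝ) * (StabCat.alpha d Q : ℝ) := by
  have H' : Groth.Agent.Lib.ProperFinHyp.Hyp.{u} :=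
    fun A _ _ X _ _ M hM n => Groth.Agent.S0002.result A X M hM n
  haveI := Groth.Agent.Lib.ParHilb48.isLocallyNoetherian k X
  have hdim := Groth.Agent.Lib.StabGeom48.dim_of_isPure (X := X) hpure hE h0
  have aP : 0 < StabCat.alpha d P :=
    Groth.Agent.Lib.StabGeom48.alpha_pos_of_isPure H' k X hL hpure (𝟙 E) hE h0 hP
  obtain ⟨W', a', Q', ha', hW'c, hpure', hQ', hα, -, f, hfa⟩ :=
    Groth.Agent.Lib.StabGeom48.exists_saturated_sub H' k X hL hE hdim.le ι hW hQ hP
  subst hfa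
  haveI := ha'
  haveI : Mono f := mono_of_mono f a'
  have hW'0 : ¬ IsZero W' := fun hz => hW0 (IsZero.of_mono f hz)
  obtain ⟨M₂, hM₂⟩ := Groth.Agent.Lib.ParSS97.parPolyOne_le_parPoly H' k X hL hE 𝓔 hcoh (f ≫ a') hW
    (d := d) hH hq hQ hQH
  have hWj := fun j => Groth.Agent.Lib.ParSS97.isCoh_induced_pieceX X hE 𝓔 hcoh (f ≫ a') hW j
  have hW'j := fun j => Groth.Agent.Lib.ParSS97.isCoh_induced_pieceX X hE 𝓔 hcoh a' hW'c j
  choose QX' hQX' using fun j => Groth.Agent.Lib.StabGeomAx.exists_hp (k := k) H' hL.1 (hW'j j)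
  obtain ⟨M₁, hM₁⟩ := hss W' a' ha' hW'c hW'0 hpure' Q' QX' hQ' hQX'
  have hQX := Groth.Agent.Lib.ParSS97.isHilbPoly_induced_pieceX H' k X hL hE 𝓔 hcoh (f ≫ a') hW hQ hQH
  have hmono : ∀ j : Fin (𝓔.l + 2), ∃ M : ℕ, ∀ m : ℕ, M ≤ m →
      (Q - QH j).eval (m : ℚ) ≤ (QX' j).eval (m : ℚ) := by
    intro j
    have hex : ∃ g : (((𝓔.induced (f ≫ a')).pieceX j : Subobject W) : X.Modules) ⟶
        (((𝓔.induced a').pieceX j : Subobject W') : X.Modules), Mono g := by
      rw [Groth.Agent.Lib.ParHilb48.induced_pieceX, Groth.Agent.Lib.ParHilb48.induced_pieceX]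
      exact Groth.Agent.Lib.ParSS97.exists_mono_pullback_comp f a' _
    obtain ⟨g, hg⟩ := hex
    haveI := hg
    exact Groth.Agent.Lib.HilbPoly48.polyLE_of_mono H' k X hL g (hWj j) (hW'j j) (hQX j) (hQX' j)
  obtain ⟨M₃, hM₃⟩ := Groth.Agent.Lib.ParSS97.exists_forall_fin _ hmono
  refine ⟨max M₁ (max M₂ M₃), fun m hm => ?_⟩
  have h1 := hM₁ m ((le_max_left _ _).trans hm)
  have h2 := hM₂ m (((le_max_left _ _).trans (le_max_right _ _)).trans hm)
  have h3 : (W4swparbununimod.parPoly (𝓔.induced (f ≫ a')) (fun j => Q - QH j)).eval (m : ℝ) ≤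
      (W4swparbununimod.parPoly (𝓔.induced a') QX').eval (m : ℝ) :=
    Groth.Agent.Lib.ParSS97.eval_parPoly_mono (𝓔.induced (f ≫ a')) (fun j => Q - QH j) QX' m
      (hM₃ m (((le_max_right _ _).trans (le_max_right _ _)).trans hm))
  have aP' : (0 : ℝ) ≤ (StabCat.alpha d P : ℝ) := by exact_mod_cast aP.le
  have hα' : (StabCat.alpha d Q' : ℝ) = (StabCat.alpha d Q : ℝ) := by exact_mod_cast hα
  rw [hα'] at h1
  exact (mul_le_mul_of_nonneg_right (h2.trans h3) aP').trans h1

end Groth.Agent.S18531
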