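import Groth.Statements.S18532
import Mathlib
import Groth.Agent.Lib.ParLim97
import Groth.Agent.Lib.ParSS97b
import Groth.Agent.S0002
-- import your own Groth.Agent.* helpers here

set_option autoImplicit false
universe u
open CategoryTheory CategoryTheory.Limits AlgebraicGeometry Polynomial
open ParSh

namespace Groth.Agent.S18532

/-- The comparison of the second and first modified parabolic Hilbert polynomials for one test subsheaf.
Let X be a scheme proper over a field k with an ample invertible sheaf L, I the ideal of an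
effective Cartier divisor D on X, d ≥ 1, and E a nonzero coherent O_X-module, pure of dimension d,
with Supp E ∩ Supp D of topological Krull dimension less than d, carrying a finite weighted
filtration 𝓔 along I by coherent pieces E = E₀ ⊇ ⋯ ⊇ E_{l+1} = I·E, weights 0 ≤ w₀ < ⋯ < w_l < 1,
w_{l+1} := 1. Let P be the Hilbert polynomial of E, P_j of E_j, H_j of E/E_j with α_{d−1}(H_j) ≠ 0
for 1 ≤ j ≤ l+1, and Par_E = P_{l+1} + Σ_j w_j (P_j − P_{j+1}). Let ι : W → E be a monomorphism from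
a coherent module W with induced filtration W_j = W ∩ E_j, Q the Hilbert polynomial of W and K_j
that of W/W_j; put par-P₁(W ⊂ E) = Q − Σ_{j=1}^{l+1} (w_j − w_{j−1})·(α_{d−1}(K_j)/α_{d−1}(H_j))·H_j
and par-P₂(W ⊂ E)(x, y) = Q(x) − Σ_{j=1}^{l+1} (w_j − w_{j−1})·(K_j(y)/H_j(y))·H_j(x). Then: (i) if
there is M such that for every m ≥ M there is N with par-P₂(W ⊂ E)(m, n)·P(n) ≤ Par_E(m)·Q(n) for
all n ≥ N, then par-P₁(W ⊂ E)(m)·α_d(P) ≤ Par_E(m)·α_d(Q) for all large m; (ii) if par-P₁(W ⊂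
E)(m)·α_d(P) < Par_E(m)·α_d(Q) for all large m, then there is M such that for every m ≥ M there is N
with par-P₂(W ⊂ E)(m, n)·P(n) < Par_E(m)·Q(n) for all n ≥ N. With W running over the nonzero
saturated (proper) sub-modules this is the published implication p₂-semistable ⇒ p₁-semistable,
p₁-stable ⇒ p₂-stable; the further implications to and from parabolic slope-(semi)stability in the
published statement are not part of this row. -/
theorem result (k : Type u) [Field k] (X : Scheme.{u})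
    [X.Over (Spec (CommRingCat.of k))] [IsProper (X ↘ Spec (CommRingCat.of k))]
    (L : X.Modules) (hL : CohB1.IsAmple L) (I : X.IdealSheafData) (hD : FGA.IsEffCartier I)
    (E : X.Modules) (hE : Coh.IsCoh E) (𝓔 : ParSh.Str E) (h𝓔 : 𝓔.Along I)
    (hcoh : ∀ j, Coh.IsCoh ((𝓔.pieceX j : Subobject E) : X.Modules)) (d : ℕ) (hd : 1 ≤ d)
    (hsupp : topologicalKrullDim ↥(CohB1.support E ∩ (I.support : Set X)) < (d : WithBot ℕ∞))
    (h0 : ¬ IsZero E) (hpure : ShStab.IsPure X E d)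
    (P : ℚ[X]) (hP : ShStab.IsHilbPoly k X L E P) (PX : Fin (𝓔.l + 2) → ℚ[X])
    (hPX : ∀ j, ShStab.IsHilbPoly k X L ((𝓔.pieceX j : Subobject E) : X.Modules) (PX j))
    (H : Fin (𝓔.l + 2) → ℚ[X]) (hH : ∀ j, ShStab.IsHilbPoly k X L (cokernel (𝓔.pieceX j).arrow) (H j))
    (hHa : ∀ j : Fin (𝓔.l + 1), StabCat.alpha (d - 1) (H j.succ) ≠ 0)
    {W : X.Modules} (ι : W ⟶ E) [Mono ι] (hW : Coh.IsCoh W)
    (Q : ℚ[X]) (hQ : ShStab.IsHilbPoly k X L W Q) (QH : Fin (𝓔.l + 2) → ℚ[X])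
    (hQH : ∀ j, ShStab.IsHilbPoly k X L (cokernel ((𝓔.induced ι).pieceX j).arrow) (QH j)) :
    ((∃ M : ℕ, ∀ m : ℕ, M ≤ m → ∃ N : ℕ, ∀ n : ℕ, N ≤ n →
        (((Q.eval (m : ℚ) : ℚ) : ℝ) -
            ∑ j : Fin (𝓔.l + 1), (𝓔.wtX j.succ - 𝓔.wtX j.castSucc) *
              ((((QH j.succ).eval (n : ℚ) / (H j.succ).eval (n : ℚ) : ℚ) : ℝ) * (((H j.succ).eval (m : ℚ) : ℚ) : ℝ))) *
          ((P.eval (n : ℚ) : ℚ) : ℝ) ≤
        (W4swparbununimod.parPoly 𝓔 PX).eval (m : ℝ) * ((Q.eval (n : ℚ) : ℚ) : ℝ)) →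
      ∃ M : ℕ, ∀ m : ℕ, M ≤ m →
        (W4swparbununimod.parPolyOne 𝓔 d Q QH H).eval (m : ℝ) * (StabCat.alpha d P : ℝ) ≤
          (W4swparbununimod.parPoly 𝓔 PX).eval (m : ℝ) * (StabCat.alpha d Q : ℝ)) ∧
    ((∃ M : ℕ, ∀ m : ℕ, M ≤ m →
        (W4swparbununimod.parPolyOne 𝓔 d Q QH H).eval (m : ℝ) * (StabCat.alpha d P : ℝ) <
          (W4swparbununimod.parPoly 𝓔 PX).eval (m : ℝ) * (StabCat.alpha d Q : ℝ)) →
      ∃ M : ℕ, ∀ m : ℕ, M ≤ m → ∃ N : ℕ, ∀ n : ℕ, N ≤ n →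
        (((Q.eval (m : ℚ) : ℚ) : ℝ) -
            ∑ j : Fin (𝓔.l + 1), (𝓔.wtX j.succ - 𝓔.wtX j.castSucc) *
              ((((QH j.succ).eval (n : ℚ) / (H j.succ).eval (n : ℚ) : ℚ) : ℝ) * (((H j.succ).eval (m : ℚ) : ℚ) : ℝ))) *
          ((P.eval (n : ℚ) : ℚ) : ℝ) <
        (W4swparbununimod.parPoly 𝓔 PX).eval (m : ℝ) * ((Q.eval (n : ℚ) : ℚ) : ℝ)) := by
  have H' : Groth.Agent.Lib.ProperFinHyp.Hyp.{u} :=
    fun A _ _ X _ _ M hM n => Groth.Agent.S0002.result A X M hM n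
  haveI := Groth.Agent.Lib.ParHilb48.isLocallyNoetherian k X
  have hdim := Groth.Agent.Lib.StabGeom48.dim_of_isPure (X := X) hpure hE h0
  have hpd : P.natDegree ≤ d :=
    Groth.Agent.Lib.HilbPoly48.natDegree_le_of_isHilbPoly k X H' hL.1 hE d hdim.le hP
  have hqd : Q.natDegree ≤ d :=
    Groth.Agent.Lib.StabGeom48.natDegree_le_of_mono H' k X hL hdim.le ι hW hQ
  have hbot : ∀ j, ParSh.twistSub I E ≤ 𝓔.pieceX j := fun j => by
    rw [← (show 𝓔.bot = ParSh.twistSub I E from h𝓔)]; exact 𝓔.bot_le_pieceX j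
  have hs : ∀ j, CohB1.support (cokernel (𝓔.pieceX j).arrow) ⊆
      CohB1.support E ∩ (I.support : Set X) :=
    fun j => Groth.Agent.Lib.ParSupp97.support_cokernel_arrow_subset I _ (hbot j)
  haveI : W.IsQuasicoherent := hW.1
  have hcokι : Coh.IsCoh (cokernel ι) := Groth.Agent.Lib.H90OXModExact.isCoh_cokernel ι hE
  have hWj : ∀ j, Coh.IsCoh (((𝓔.induced ι).pieceX j : Subobject W) : X.Modules) := by
    intro j
    rw [Groth.Agent.Lib.ParHilb48.induced_pieceX]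
    exact Groth.Agent.Lib.ParHilb48.isCoh_pullback_piece ι (cokernel.π ι) (cokernel.condition ι)
      (Groth.Agent.Lib.H90DevTwo.shortExact_cokernel ι) hcokι _ (hcoh j)
  have hsW : ∀ j, CohB1.support (cokernel ((𝓔.induced ι).pieceX j).arrow) ⊆
      CohB1.support E ∩ (I.support : Set X) := by
    intro j
    rw [Groth.Agent.Lib.ParHilb48.induced_pieceX]
    exact (Groth.Agent.Lib.ParSupp97.support_cokernel_pullback_subset ι _).trans (hs j)
  have hHdeg : ∀ j, (H j).natDegree ≤ d - 1 := fun j => by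
    haveI : ((𝓔.pieceX j : Subobject E) : X.Modules).IsQuasicoherent := (hcoh j).1
    rw [Polynomial.natDegree_le_iff_coeff_eq_zero]
    intro n hn
    exact Groth.Agent.Lib.ParPoly97.coeff_eq_zero_of_support_subset H' k X hL hsupp
      (Groth.Agent.Lib.H90OXModExact.isCoh_cokernel (𝓔.pieceX j).arrow hE) (hs j) (hH j) (by omega)
  have hQHdeg : ∀ j, (QH j).natDegree ≤ d - 1 := fun j => by
    haveI : (((𝓔.induced ι).pieceX j : Subobject W) : X.Modules).IsQuasicoherent := (hWj j).1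
    rw [Polynomial.natDegree_le_iff_coeff_eq_zero]
    intro n hn
    exact Groth.Agent.Lib.ParPoly97.coeff_eq_zero_of_support_subset H' k X hL hsupp
      (Groth.Agent.Lib.H90OXModExact.isCoh_cokernel ((𝓔.induced ι).pieceX j).arrow hW) (hsW j) (hQH j)
      (by omega)
  have key := fun (m : ℕ) => Groth.Agent.Lib.ParLim97.lim_cross hd hpd hqd
    (fun j : Fin (𝓔.l + 1) => 𝓔.wtX j.succ - 𝓔.wtX j.castSucc)
    (fun j : Fin (𝓔.l + 1) => (((H j.succ).eval (m : ℚ) : ℚ) : ℝ))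
    (fun j : Fin (𝓔.l + 1) => QH j.succ) (fun j : Fin (𝓔.l + 1) => H j.succ)
    (fun j => hQHdeg j.succ) (fun j => hHdeg j.succ) hHa
    ((Q.eval (m : ℚ) : ℚ) : ℝ) ((W4swparbununimod.parPoly 𝓔 PX).eval (m : ℝ))
  constructor
  · rintro ⟨M, hM⟩
    refine ⟨M, fun m hm => ?_⟩
    rw [Groth.Agent.Lib.ParSS97.eval_parPolyOne]
    exact (key m).1 (hM m hm)
  · rintro ⟨M, hM⟩
    refine ⟨M, fun m hm => ?_⟩
    have := hM m hm
    rw [Groth.Agent.Lib.ParSS97.eval_parPolyOne] at this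
    exact (key m).2 this

end Groth.Agent.S18532
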