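import Groth.Statements.S18538
import Mathlib.LinearAlgebra.Dual.Lemmas
-- import your own Groth.Agent.* helpers here

set_option autoImplicit false
universe u
open EtAlg

namespace Groth.Agent.S18538

open TensorProduct in
/-- The `A`-linear map `B ⊗[A] B → L`, `x ⊗ y ↦ f(x) • y`, for a `K`-linear functional `f` on `L`. -/
theorem key_aux
    (A B K L : Type u) [CommRing A] [CommRing B]
    [Algebra A B]
    [Field K] [Field L] [Algebra A K] [Algebra B L]
    [Algebra K L] [Algebra A L] [IsScalarTower A K L] [IsScalarTower A B L]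
    (f : L →ₗ[K] K) :
    ∃ Φ : B ⊗[A] B →ₗ[A] L, ∀ x y : B, Φ (x ⊗ₜ[A] y) = f (algebraMap B L x) • algebraMap B L y := by
  let g₁ : B →ₗ[A] K := (f.restrictScalars A).comp (IsScalarTower.toAlgHom A B L).toLinearMap
  let g₂ : B →ₗ[A] L := (IsScalarTower.toAlgHom A B L).toLinearMap
  refine ⟨TensorProduct.lift (LinearMap.mk₂ A (fun x y => g₁ x • g₂ y) ?_ ?_ ?_ ?_), ?_⟩
  · intro x x' y; rw [map_add, add_smul]
  · intro c x y; rw [map_smul, smul_assoc]
  · intro x y y'; rw [map_add, smul_add]
  · intro c x y; rw [map_smul, smul_comm]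
  · intro x y
    simp [g₁, g₂]


/-- Let A ⊆ B be an injective finite extension of integrally closed domains, with fraction fields K ⊆ L
and L separable over K. Then A → B → B ⊗_A B is exact, the second map being b ↦ b ⊗ 1 - 1 ⊗ b: every
element of B whose two images in B ⊗_A B agree comes from A. -/
theorem result
    (A B K L : Type u) [CommRing A] [CommRing B] [IsDomain A] [IsDomain B]
    [IsIntegrallyClosed A] [IsIntegrallyClosed B] [Algebra A B] [FaithfulSMul A B] [Module.Finite A B]
    [Field K] [Field L] [Algebra A K] [IsFractionRing A K] [Algebra B L] [IsFractionRing B L]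
    [Algebra K L] [Algebra A L] [IsScalarTower A K L] [IsScalarTower A B L]
    [Algebra.IsSeparable K L] :
    Algebra.IsEffective A B := by
  intro b
  refine ⟨fun hb => ?_, Algebra.TensorProduct.includeLeftSubRight_zero_of_mem_range⟩
  rw [Algebra.TensorProduct.includeLeftSubRight_apply, sub_eq_zero] at hb
  have hinjBL : Function.Injective (algebraMap B L) := IsFractionRing.injective B L
  -- Step 1: the image of `b` in `L` lies in `K`.
  have hbK : algebraMap B L b ∈ (Submodule.span K {(1 : L)} : Submodule K L) := by
    by_contra hnot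
    obtain ⟨f, hf, hf'⟩ := Submodule.exists_dual_map_eq_bot_of_notMem hnot inferInstance
    have hf1 : f 1 = 0 := by
      have : f 1 ∈ (Submodule.span K {(1 : L)}).map f :=
        Submodule.mem_map_of_mem (Submodule.subset_span rfl)
      rw [hf'] at this
      simpa using this
    obtain ⟨Φ, hΦ⟩ := key_aux A B K L f
    have h1 := congrArg Φ hb
    rw [hΦ, hΦ] at h1
    simp only [map_one, hf1, zero_smul] at h1
    rw [Algebra.smul_def, mul_one] at h1
    exact hf ((FaithfulSMul.algebraMap_injective K L) (by simpa using h1))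
  obtain ⟨c, hc⟩ := Submodule.mem_span_singleton.mp hbK
  rw [Algebra.smul_def, mul_one] at hc
  -- Step 2: `c` is integral over `A`, hence in `A`.
  have hbint : IsIntegral A b := Algebra.IsIntegral.isIntegral b
  have hcint : IsIntegral A c := by
    have h2 : IsIntegral A (algebraMap K L c) := by
      rw [hc]
      exact hbint.map (IsScalarTower.toAlgHom A B L)
    exact (isIntegral_algHom_iff (IsScalarTower.toAlgHom A K L)
      (FaithfulSMul.algebraMap_injective K L)).mp h2
  obtain ⟨a, ha⟩ := IsIntegrallyClosed.algebraMap_eq_of_integral (R := A) (K := K) hcint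
  refine ⟨a, hinjBL ?_⟩
  rw [← hc, ← ha]
  simp only [Algebra.linearMap_apply]
  rw [← IsScalarTower.algebraMap_apply A B L, ← IsScalarTower.algebraMap_apply A K L]

end Groth.Agent.S18538
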