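import Groth.Statements.S18539
-- import your own Groth.Agent.* helpers here

set_option autoImplicit false
universe u v w
open CAlg

namespace Groth.Agent.S18539

open scoped Pointwise

/-- For a commutative ring R, R-modules M and N and elements r₁, r₂ of R such that r₁ is a
non-zero-divisor on N and r₂ is a non-zero-divisor on N/r₁N, the element r₁ is a non-zero-divisor on
the module Hom_R(M, N) and r₂ is a non-zero-divisor on Hom_R(M, N)/r₁Hom_R(M, N). (Weak regularity
on both sides: no condition that the quotient by (r₁, r₂) is nonzero, which would fail for M = 0.) -/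
theorem result
    (R : Type u) [CommRing R] (M : Type v) (N : Type w)
    [AddCommGroup M] [Module R M] [AddCommGroup N] [Module R N]
    (r₁ r₂ : R) (h : RingTheory.Sequence.IsWeaklyRegular N [r₁, r₂]) :
    RingTheory.Sequence.IsWeaklyRegular (M →ₗ[R] N) [r₁, r₂] := by
  open RingTheory.Sequence in
  rw [isWeaklyRegular_cons_iff, isWeaklyRegular_singleton_iff] at h ⊢
  obtain ⟨h1, h2⟩ := h
  have h1' : ∀ x : N, r₁ • x = 0 → x = 0 := isSMulRegular_iff_right_eq_zero_of_smul.mp h1
  refine ⟨isSMulRegular_iff_right_eq_zero_of_smul.mpr fun f hf => ?_, ?_⟩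
  · ext m
    exact h1' (f m) (by rw [← LinearMap.smul_apply, hf, LinearMap.zero_apply])
  · rw [isSMulRegular_quotient_iff_mem_of_smul_mem] at h2 ⊢
    intro f hf
    obtain ⟨g, -, hg⟩ := (Submodule.mem_smul_pointwise_iff_exists _ _ _).mp hf
    -- pointwise: `f m ∈ r₁ • ⊤`
    have hmem : ∀ m : M, ∃ y : N, r₁ • y = f m := by
      intro m
      have : r₂ • f m ∈ r₁ • (⊤ : Submodule R N) := by
        rw [← LinearMap.smul_apply, ← hg, LinearMap.smul_apply]
        exact Submodule.smul_mem_pointwise_smul _ _ _ Submodule.mem_top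
      obtain ⟨y, -, hy⟩ := (Submodule.mem_smul_pointwise_iff_exists _ _ _).mp (h2 _ this)
      exact ⟨y, hy⟩
    choose φ hφ using hmem
    have hinj : Function.Injective (fun y : N => r₁ • y) := h1
    let ψ : M →ₗ[R] N :=
      { toFun := φ
        map_add' := fun a b => hinj (by
          show r₁ • φ (a + b) = r₁ • (φ a + φ b)
          rw [smul_add, hφ, hφ, hφ, map_add])
        map_smul' := fun c a => hinj (by
          show r₁ • φ (c • a) = r₁ • (c • φ a)
          rw [smul_comm, hφ, hφ, map_smul]) }
    have : f = r₁ • ψ := by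
      ext m
      rw [LinearMap.smul_apply]
      exact (hφ m).symm
    rw [this]
    exact Submodule.smul_mem_pointwise_smul _ _ _ Submodule.mem_top

end Groth.Agent.S18539
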