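import Groth.Statements.S18544
import Mathlib.LinearAlgebra.Matrix.Transvection
import Mathlib.Data.Matrix.PEquiv
import Mathlib.Algebra.MvPolynomial.Funext
import Mathlib.Algebra.Polynomial.Degree.Lemmas
import Mathlib.Algebra.Polynomial.Eval.Degree
import Mathlib.Algebra.BigOperators.Pi

set_option autoImplicit false
universe u
open CAlg

namespace Groth.Agent.S18544

open Polynomial in
/-- evaluation of a one-parameter family -/
lemma eval_aeval_poly {F : Type u} [Field F] {n : ℕ} (N : MvPolynomial (Fin n × Fin n) F)
    (f : Fin n × Fin n → F[X]) (t : F) :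
    (MvPolynomial.aeval f N).eval t = MvPolynomial.eval (fun ij => (f ij).eval t) N := by
  have h := MvPolynomial.eval₂_comp_left (Polynomial.evalRingHom t) (Polynomial.C) f N
  have h2 : (Polynomial.evalRingHom t).comp (Polynomial.C : F →+* F[X]) = RingHom.id F := by
    ext c; simp
  rw [h2] at h
  rw [MvPolynomial.aeval_def, Polynomial.algebraMap_eq]
  exact h

open Polynomial in
/-- a polynomial with `q (s + t) = q s * q t` and `q 0 = 1` is `1`. -/
lemma eq_one_of_add {F : Type u} [Field F] [CharZero F] [Infinite F] (q : F[X])
    (h : ∀ s t : F, q.eval (s + t) = q.eval s * q.eval t) (h0 : q.eval 0 = 1) (t : F) :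
    q.eval t = 1 := by
  have h1 : q.comp (C 2 * X) = q ^ 2 := by
    apply Polynomial.funext
    intro s
    rw [eval_comp, eval_mul, eval_C, eval_X, eval_pow, two_mul, h, sq]
  have h2 := congrArg natDegree h1
  rw [natDegree_comp, natDegree_C_mul_X _ (two_ne_zero), natDegree_pow] at h2
  have h3 : q.natDegree = 0 := by omega
  rw [eq_C_of_natDegree_eq_zero h3, eval_C] at h0 ⊢
  exact h0

open Polynomial in
/-- a polynomial with `r (s * t) = r s * r t` and `r 1 = 1` is a power of `X`. -/
lemma eq_pow_of_mul {F : Type u} [Field F] [Infinite F] (r : F[X])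
    (h : ∀ s t : F, r.eval (s * t) = r.eval s * r.eval t) (h1 : r.eval 1 = 1) (t : F) :
    r.eval t = t ^ r.natDegree := by
  have hr : r ≠ 0 := by
    rintro rfl
    simp at h1
  have e : r.comp (C t * X) = C (r.eval t) * r := by
    apply Polynomial.funext
    intro s
    rw [eval_comp, eval_mul, eval_C, eval_X, eval_mul, eval_C, h]
  have e2 := congrArg (fun P => P.coeff r.natDegree) e
  simp only [comp_C_mul_X_coeff, coeff_C_mul] at e2
  have hl : r.coeff r.natDegree ≠ 0 := by
    rw [coeff_natDegree]; exact leadingCoeff_ne_zero.mpr hr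
  have : r.coeff r.natDegree * t ^ r.natDegree = r.coeff r.natDegree * r.eval t := by
    rw [e2]; ring
  exact (mul_left_cancel₀ hl this).symm

/-- Let F be an algebraically closed field of characteristic zero, n a natural number, and N a nonzero
polynomial over F in the n² matrix entries whose evaluation on n × n matrices is multiplicative,
N(xy) = N(x)·N(y) for all x, y (a norm form on the matrix algebra M_n(F) over F). Then N is a
natural power of the determinant: for some m, N(x) = det(x)^m for every matrix x. The published
statement concerns norm forms of any central simple algebra over a subfield; this row is the case of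
the full matrix algebra over an algebraically closed field, which is the case its proof treats. -/
theorem result (F : Type u) [Field F] [IsAlgClosed F]
    [CharZero F] (n : ℕ) (N : MvPolynomial (Fin n × Fin n) F) (hN : N ≠ 0)
    (hmul : ∀ x y : Matrix (Fin n) (Fin n) F,
      MvPolynomial.eval (fun ij : Fin n × Fin n => (x * y) ij.1 ij.2) N =
        MvPolynomial.eval (fun ij : Fin n × Fin n => x ij.1 ij.2) N * MvPolynomial.eval (fun ij : Fin n × Fin n => y ij.1 ij.2) N) :
    ∃ m : ℕ, ∀ x : Matrix (Fin n) (Fin n) F,
      MvPolynomial.eval (fun ij : Fin n × Fin n => x ij.1 ij.2) N = x.det ^ m := by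
  classical
  have : Infinite F := Infinite.of_injective (Nat.cast : ℕ → F) Nat.cast_injective
  set ev : Matrix (Fin n) (Fin n) F → F :=
    fun x => MvPolynomial.eval (fun ij : Fin n × Fin n => x ij.1 ij.2) N with hev
  have hmul' : ∀ x y, ev (x * y) = ev x * ev y := hmul
  -- `ev 1 = 1`
  have h1 : ev 1 = 1 := by
    have h := hmul' 1 1
    rw [one_mul] at h
    have h' : ev 1 * (ev 1 - 1) = 0 := by rw [mul_sub, mul_one, ← h, sub_self]
    rcases mul_eq_zero.mp h' with h0 | h0
    · exfalso
      apply hN
      apply MvPolynomial.funext
      intro v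
      have := hmul' (Matrix.of fun i j => v (i, j)) 1
      rw [mul_one, h0, mul_zero] at this
      rw [map_zero, ← this]
      rfl
    · exact sub_eq_zero.mp h0
  have hd1 : Matrix.diagonal (1 : Fin n → F) = 1 := Matrix.diagonal_one
  -- transvections
  have htr : ∀ (i j : Fin n), i ≠ j → ∀ t : F, ev (Matrix.transvection i j t) = 1 := by
    intro i j hij
    set f : Fin n × Fin n → Polynomial F := fun ab =>
      Polynomial.C (if ab.1 = ab.2 then (1 : F) else 0) +
        (if i = ab.1 ∧ j = ab.2 then Polynomial.X else 0) with hf
    have hq : ∀ t : F, (MvPolynomial.aeval f N).eval t = ev (Matrix.transvection i j t) := by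
      intro t
      rw [eval_aeval_poly]
      have e : (fun ij : Fin n × Fin n => (f ij).eval t) =
          fun ij => Matrix.transvection i j t ij.1 ij.2 := by
        funext ab
        simp only [hf, Matrix.transvection, Matrix.add_apply, Matrix.one_apply,
          Matrix.single_apply, Polynomial.eval_add, Polynomial.eval_C]
        split_ifs <;> simp
      rw [e]
    intro t
    rw [← hq]
    apply eq_one_of_add (MvPolynomial.aeval f N)
    · intro s t
      rw [hq, hq, hq, ← hmul', Matrix.transvection_mul_transvection_same i j hij]
    · rw [hq, Matrix.transvection_zero, h1]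
  -- one diagonal entry
  have hdiag1 : ∀ i : Fin n, ∃ m : ℕ, ∀ t : F, ev (Matrix.diagonal (Pi.mulSingle i t)) = t ^ m := by
    intro i
    set f : Fin n × Fin n → Polynomial F := fun ab =>
      if ab.1 = ab.2 then (if ab.1 = i then Polynomial.X else 1) else 0 with hf
    have hq : ∀ t : F, (MvPolynomial.aeval f N).eval t = ev (Matrix.diagonal (Pi.mulSingle i t)) := by
      intro t
      rw [eval_aeval_poly]
      have e : (fun ij : Fin n × Fin n => (f ij).eval t) =
          fun ij => Matrix.diagonal (Pi.mulSingle i t) ij.1 ij.2 := by
        funext ab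
        simp only [hf, Matrix.diagonal_apply, Pi.mulSingle_apply]
        split_ifs <;> simp_all
      rw [e]
    refine ⟨(MvPolynomial.aeval f N).natDegree, fun t => ?_⟩
    rw [← hq]
    apply eq_pow_of_mul
    · intro s t
      rw [hq, hq, hq, ← hmul', Matrix.diagonal_mul_diagonal]
      congr 2
      funext a
      by_cases ha : a = i
      · subst ha; simp
      · simp [ha]
    · rw [hq, Pi.mulSingle_one, hd1, h1]
  choose mi hmi using hdiag1
  -- diagonal matrices
  have hdiag : ∀ D : Fin n → F, ev (Matrix.diagonal D) = ∏ i, D i ^ mi i := by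
    intro D
    let φ : (Fin n → F) →* F :=
      { toFun := fun d => ev (Matrix.diagonal d)
        map_one' := by rw [hd1, h1]
        map_mul' := fun d d' => by
          rw [← hmul', Matrix.diagonal_mul_diagonal]; rfl }
    have := map_prod φ (fun i => Pi.mulSingle i (D i)) Finset.univ
    rw [Finset.univ_prod_mulSingle] at this
    rw [show ev (Matrix.diagonal D) = φ D from rfl, this]
    exact Finset.prod_congr rfl fun i _ => hmi i (D i)
  -- invariance under permutations
  have hperm : ∀ (σ : Equiv.Perm (Fin n)) (D : Fin n → F),
      ev (Matrix.diagonal (D ∘ σ)) = ev (Matrix.diagonal D) := by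
    intro σ D
    have e1 : Matrix.diagonal (D ∘ σ) =
        σ.toPEquiv.toMatrix * Matrix.diagonal D * σ.symm.toPEquiv.toMatrix := by
      rw [PEquiv.toMatrix_toPEquiv_mul, PEquiv.mul_toMatrix_toPEquiv, Matrix.submatrix_submatrix,
        Equiv.symm_symm]
      exact (Matrix.submatrix_diagonal_equiv D σ).symm
    have e2 : (σ.toPEquiv.toMatrix : Matrix (Fin n) (Fin n) F) * σ.symm.toPEquiv.toMatrix = 1 := by
      rw [PEquiv.toMatrix_toPEquiv_mul]
      ext a b
      simp [PEquiv.toMatrix_apply, Matrix.one_apply, Equiv.toPEquiv_apply]
    rw [e1, hmul', hmul', mul_right_comm, ← hmul', e2, h1, one_mul]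
  have hmeq : ∀ i j : Fin n, mi i = mi j := by
    intro i j
    have key : ∀ t : F, t ^ mi j = t ^ mi i := by
      intro t
      rw [← hmi j t, ← hmi i t, ← hperm (Equiv.swap i j) (Pi.mulSingle i t)]
      congr 2
      funext a
      simp only [Function.comp_apply, Pi.mulSingle_apply]
      by_cases ha : a = j
      · subst ha; simp
      · by_cases hai : a = i
        · subst hai
          rw [Equiv.swap_apply_left, if_neg ha, if_neg (Ne.symm ha)]
        · rw [Equiv.swap_apply_of_ne_of_ne hai ha, if_neg hai, if_neg ha]
    have hX : (Polynomial.X : Polynomial F) ^ mi j = Polynomial.X ^ mi i := by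
      apply Polynomial.funext
      intro t
      simp [key t]
    have := congrArg Polynomial.natDegree hX
    simpa using this.symm
  -- assemble
  by_cases hn : 0 < n
  · refine ⟨mi ⟨0, hn⟩, fun x => ?_⟩
    show ev x = _
    apply Matrix.diagonal_transvection_induction (fun x => ev x = x.det ^ mi ⟨0, hn⟩) x
    · intro D _
      show ev (Matrix.diagonal D) = _
      rw [hdiag, Matrix.det_diagonal, ← Finset.prod_pow]
      exact Finset.prod_congr rfl fun i _ => by rw [hmeq i ⟨0, hn⟩]
    · intro t
      show ev t.toMatrix = _
      rw [Matrix.TransvectionStruct.det, one_pow]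
      exact htr t.i t.j t.hij t.c
    · intro A B hA hB
      show ev (A * B) = _
      rw [hmul', hA, hB, Matrix.det_mul, mul_pow]
  · refine ⟨0, fun x => ?_⟩
    have hn0 : n = 0 := by omega
    subst hn0
    show ev x = _
    rw [pow_zero, ← h1]
    congr 1
    exact Subsingleton.elim _ _

end Groth.Agent.S18544
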