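import Groth.Statements.S18545

set_option autoImplicit false
universe u
open AbVar

namespace Groth.Agent.S18545

open Module

section
variable {K : Type u} [Field K] {V : Type u} [AddCommGroup V] [Module K V] [FiniteDimensional K V]

/-- isotropic subspaces have dimension at most `g`. -/
theorem finrank_le_of_isotropic (g : ℕ) (hV : finrank K V = 2 * g)
    (e : LinearMap.BilinForm K V) (hnd : e.Nondegenerate)
    (W : Submodule K V) (hWiso : ∀ x ∈ W, ∀ y ∈ W, e x y = 0) : finrank K W ≤ g := by
  have hle : W ≤ e.orthogonal W := by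
    intro y hy
    rw [LinearMap.BilinForm.mem_orthogonal_iff]
    intro x hx
    exact hWiso x hx y hy
  have h1 := Submodule.finrank_mono hle
  have h2 := LinearMap.BilinForm.finrank_orthogonal hnd W
  have h3 : finrank K W ≤ finrank K V := Submodule.finrank_le W
  omega

/-- if `Y < X` are `F`-stable, there is a common eigenvector in `X \ Y`. -/
theorem exists_eigen (F : Subalgebra K (Module.End K V)) (r : ℕ) (φ : F ≃ₐ[K] (Fin r → K))
    (X Y : Submodule K V) (hX : ∀ f ∈ F, ∀ w ∈ X, f w ∈ X) (hY : ∀ f ∈ F, ∀ w ∈ Y, f w ∈ Y)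
    (hXY : ¬ X ≤ Y) :
    ∃ x ∈ X, x ∉ Y ∧ ∀ f ∈ F, ∃ c : K, f x = c • x := by
  classical
  obtain ⟨y, hyX, hyY⟩ := Set.not_subset.mp hXY
  set ε : Fin r → F := fun i => φ.symm (Pi.single i 1) with hε
  have hsum : (∑ i, ε i) = 1 := by
    rw [hε]
    simp only
    rw [← map_sum]
    have : (∑ i : Fin r, (Pi.single i (1 : K) : Fin r → K)) = 1 := by
      have := Finset.univ_sum_single (1 : Fin r → K)
      simpa using this
    rw [this, map_one]
  have hy : y = ∑ i, (ε i : Module.End K V) y := by
    have h1 : ((∑ i, ε i : F) : Module.End K V) y = y := by rw [hsum]; rfl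
    have h2 : ((∑ i, ε i : F) : Module.End K V) = ∑ i, (ε i : Module.End K V) := by
      simp
    rw [h2, LinearMap.sum_apply] at h1
    exact h1.symm
  have heig : ∀ f (hf : f ∈ F) (i : Fin r) (v : V),
      f ((ε i : Module.End K V) v) = (φ ⟨f, hf⟩ i) • ((ε i : Module.End K V) v) := by
    intro f hf i v
    have h1 : (⟨f, hf⟩ : F) * ε i = (φ ⟨f, hf⟩ i) • ε i := by
      apply φ.injective
      rw [map_mul, map_smul, hε]
      simp only [AlgEquiv.apply_symm_apply]
      funext j
      by_cases hj : j = i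
      · subst hj; simp
      · simp [Pi.single_eq_of_ne hj]
    have h2 := congrArg (fun (t : F) => (t : Module.End K V) v) h1
    simpa using h2
  by_contra hcon
  push Not at hcon
  apply hyY
  rw [hy]
  apply Submodule.sum_mem
  intro i _
  by_contra hi
  have hxX : (ε i : Module.End K V) y ∈ X := hX _ (ε i).2 y hyX
  obtain ⟨f, hf, hfc⟩ := hcon _ hxX hi
  exact hfc _ (heig f hf i y)

/-- the orthogonal of an `F`-stable subspace is `F`-stable. -/
theorem perp_stable (e : LinearMap.BilinForm K V) (hnd : e.Nondegenerate)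
    (F : Subalgebra K (Module.End K V))
    (S : Set (Module.End K V)) (hS : Submodule.span K S = Subalgebra.toSubmodule F)
    (hsim : ∀ s ∈ S, ∃ c : K, c ≠ 0 ∧ ∀ x y : V, e (s x) (s y) = c * e x y)
    (W : Submodule K V) (hWF : ∀ f ∈ F, ∀ w ∈ W, f w ∈ W) :
    ∀ f ∈ F, ∀ w ∈ e.orthogonal W, f w ∈ e.orthogonal W := by
  have key : ∀ f ∈ Submodule.span K S, ∀ w ∈ e.orthogonal W, f w ∈ e.orthogonal W := by
   intro f hf'
   induction hf' using Submodule.span_induction with
   | mem s hs =>
    obtain ⟨c, hc, hsc⟩ := hsim s hs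
    have hsF : s ∈ F := by
      have : s ∈ Submodule.span K S := Submodule.subset_span hs
      rw [hS] at this; exact this
    -- s is injective
    have hinj : Function.Injective s := by
      rw [← LinearMap.ker_eq_bot, LinearMap.ker_eq_bot']
      intro x hx
      have h0 : ∀ y, e x (s y) = 0 → True := fun _ _ => trivial
      -- e (s x) (s y) = c * e x y, so e x y = 0 for all y
      have h1 : ∀ y, e x y = 0 := by
        intro y
        have := hsc x y
        rw [hx, map_zero, LinearMap.zero_apply] at this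
        exact (mul_eq_zero.mp this.symm).resolve_left hc
      have h2 : x ∈ LinearMap.ker e := by
        rw [LinearMap.mem_ker]
        ext y
        exact h1 y
      rw [hnd.ker_eq_bot] at h2
      exact (Submodule.mem_bot K).mp h2
    -- s maps W onto W
    have hsurj : ∀ x ∈ W, ∃ x' ∈ W, s x' = x := by
      let sW : W →ₗ[K] W := s.restrict (fun w hw => hWF s hsF w hw)
      have hsWinj : Function.Injective sW := by
        intro a b hab
        apply Subtype.ext
        apply hinj
        exact congrArg Subtype.val hab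
      have hsWsurj : Function.Surjective sW := LinearMap.surjective_of_injective hsWinj
      intro x hx
      obtain ⟨x', hx'⟩ := hsWsurj ⟨x, hx⟩
      exact ⟨x'.1, x'.2, congrArg Subtype.val hx'⟩
    intro w hw
    rw [LinearMap.BilinForm.mem_orthogonal_iff] at hw ⊢
    intro x hx
    obtain ⟨x', hx'W, rfl⟩ := hsurj x hx
    show (e (s x')) (s w) = 0
    rw [hsc, hw x' hx'W, mul_zero]
   | zero =>
    intro w _
    simp
   | add a b _ _ ha hb =>
    intro w hw
    rw [LinearMap.add_apply]
    exact Submodule.add_mem _ (ha w hw) (hb w hw)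
   | smul c a _ ha =>
    intro w hw
    rw [LinearMap.smul_apply]
    exact Submodule.smul_mem _ c (ha w hw)
  intro f hf
  exact key f (by rw [hS]; exact hf)

theorem core (g : ℕ) (hV : finrank K V = 2 * g)
    (e : LinearMap.BilinForm K V) (he : e.IsAlt) (hnd : e.Nondegenerate)
    (F : Subalgebra K (Module.End K V)) (r : ℕ) (φ : F ≃ₐ[K] (Fin r → K))
    (hperp : ∀ W : Submodule K V, (∀ f ∈ F, ∀ w ∈ W, f w ∈ W) →
      ∀ f ∈ F, ∀ w ∈ e.orthogonal W, f w ∈ e.orthogonal W)
    (D : Set (Module.End K V))
    (hmax : ∀ W : Submodule K V, (∀ f ∈ F, ∀ w ∈ W, f w ∈ W) → (∀ x ∈ W, ∀ y ∈ W, e x y = 0) →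
      Module.finrank K W = g → ∀ d ∈ D, ∀ w ∈ W, d w ∈ W) :
    ∀ (n : ℕ) (W : Submodule K V), g - finrank K W = n → (∀ f ∈ F, ∀ w ∈ W, f w ∈ W) →
      (∀ x ∈ W, ∀ y ∈ W, e x y = 0) → ∀ d ∈ D, ∀ w ∈ W, d w ∈ W := by
  intro n
  induction n using Nat.strong_induction_on with
  | _ n ih =>
  intro W hn hWF hWiso
  have hWg : finrank K W ≤ g := finrank_le_of_isotropic g hV e hnd W hWiso
  rcases Nat.lt_or_ge (finrank K W) g with hlt | hge
  swap
  · exact hmax W hWF hWiso (le_antisymm hWg hge)
  -- W < W^⊥
  have hle : W ≤ e.orthogonal W := by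
    intro y hy
    rw [LinearMap.BilinForm.mem_orthogonal_iff]
    intro x hx
    exact hWiso x hx y hy
  have hdimperp : finrank K (e.orthogonal W) = 2 * g - finrank K W := by
    rw [LinearMap.BilinForm.finrank_orthogonal hnd W, hV]
  have hPF := hperp W hWF
  -- general extension: for an F-stable Y with W ≤ Y ≤ W^⊥, dim Y ≤ g, find eigenvector x ∈ W^⊥ \ Y
  have hext : ∀ Y : Submodule K V, (∀ f ∈ F, ∀ w ∈ Y, f w ∈ Y) → finrank K Y ≤ g →
      ∃ x ∈ e.orthogonal W, x ∉ Y ∧ ∀ f ∈ F, ∃ c : K, f x = c • x := by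
    intro Y hYF hYg
    apply exists_eigen F r φ (e.orthogonal W) Y hPF hYF
    intro hcon
    have := Submodule.finrank_mono hcon
    omega
  -- properties of W ⊔ span {x} for an eigenvector x ∈ W^⊥
  have hprop : ∀ x ∈ e.orthogonal W, (∀ f ∈ F, ∃ c : K, f x = c • x) →
      (∀ f ∈ F, ∀ w ∈ W ⊔ Submodule.span K {x}, f w ∈ W ⊔ Submodule.span K {x}) ∧
      (∀ a ∈ W ⊔ Submodule.span K {x}, ∀ b ∈ W ⊔ Submodule.span K {x}, e a b = 0) := by
    intro x hx hxe
    rw [LinearMap.BilinForm.mem_orthogonal_iff] at hx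
    have hx1 : ∀ w ∈ W, e w x = 0 := fun w hw => hx w hw
    have hx2 : ∀ w ∈ W, e x w = 0 := fun w hw => by
      rw [← neg_eq_zero, LinearMap.BilinForm.IsAlt.neg_eq he]
      exact hx1 w hw
    constructor
    · intro f hf w hw
      obtain ⟨w1, hw1, z, hz, rfl⟩ := Submodule.mem_sup.mp hw
      obtain ⟨a, rfl⟩ := Submodule.mem_span_singleton.mp hz
      obtain ⟨c, hc⟩ := hxe f hf
      rw [map_add, map_smul, hc]
      exact Submodule.add_mem _ (Submodule.mem_sup_left (hWF f hf w1 hw1))
        (Submodule.mem_sup_right (Submodule.smul_mem _ _ (Submodule.smul_mem _ _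
          (Submodule.mem_span_singleton_self x))))
    · intro a ha b hb
      obtain ⟨w1, hw1, z, hz, rfl⟩ := Submodule.mem_sup.mp ha
      obtain ⟨a1, rfl⟩ := Submodule.mem_span_singleton.mp hz
      obtain ⟨w2, hw2, z2, hz2, rfl⟩ := Submodule.mem_sup.mp hb
      obtain ⟨a2, rfl⟩ := Submodule.mem_span_singleton.mp hz2
      have h1 := hWiso w1 hw1 w2 hw2
      have h2 := hx1 w1 hw1
      have h3 := hx2 w2 hw2
      have h4 := he x
      simp only [map_add, map_smul, LinearMap.add_apply, LinearMap.smul_apply, smul_eq_mul,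
        h1, h2, h3, h4, mul_zero, add_zero]
  -- first extension
  obtain ⟨x, hxP, hxW, hxe⟩ := hext W hWF hWg
  set W1 := W ⊔ Submodule.span K {x} with hW1
  obtain ⟨hW1F, hW1iso⟩ := hprop x hxP hxe
  have hW1g : finrank K W1 ≤ g := finrank_le_of_isotropic g hV e hnd W1 hW1iso
  have hWW1 : W < W1 := by
    refine lt_of_le_of_ne le_sup_left ?_
    intro h
    apply hxW
    rw [h]
    exact Submodule.mem_sup_right (Submodule.mem_span_singleton_self x)
  -- second extension
  obtain ⟨x', hx'P, hx'W1, hx'e⟩ := hext W1 hW1F hW1g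
  set W2 := W ⊔ Submodule.span K {x'} with hW2
  obtain ⟨hW2F, hW2iso⟩ := hprop x' hx'P hx'e
  have hW2g : finrank K W2 ≤ g := finrank_le_of_isotropic g hV e hnd W2 hW2iso
  have hx'W : x' ∉ W := fun h => hx'W1 (Submodule.mem_sup_left h)
  have hWW2 : W < W2 := by
    refine lt_of_le_of_ne le_sup_left ?_
    intro h
    apply hx'W
    rw [h]
    exact Submodule.mem_sup_right (Submodule.mem_span_singleton_self x')
  have hd1 := Submodule.finrank_lt_finrank_of_lt hWW1
  have hd2 := Submodule.finrank_lt_finrank_of_lt hWW2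
  have ih1 := ih (g - finrank K W1) (by omega) W1 rfl hW1F hW1iso
  have ih2 := ih (g - finrank K W2) (by omega) W2 rfl hW2F hW2iso
  -- intersection
  have hint : ∀ z, z ∈ W1 → z ∈ W2 → z ∈ W := by
    intro z hz1 hz2
    obtain ⟨w2, hw2, y2, hy2, rfl⟩ := Submodule.mem_sup.mp hz2
    obtain ⟨b, rfl⟩ := Submodule.mem_span_singleton.mp hy2
    by_cases hb : b = 0
    · subst hb; simpa using hw2
    · exfalso
      apply hx'W1
      have h1 : b • x' ∈ W1 := by
        have : b • x' = (w2 + b • x') - w2 := by abel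
        rw [this]
        exact Submodule.sub_mem _ hz1 (Submodule.mem_sup_left hw2)
      have h2 := Submodule.smul_mem W1 b⁻¹ h1
      rwa [smul_smul, inv_mul_cancel₀ hb, one_smul] at h2
  intro d hd w hw
  exact hint _ (ih1 d hd w (Submodule.mem_sup_left hw)) (ih2 d hd w (Submodule.mem_sup_left hw))

end

/-- A step in the proof of Tate's isogeny result over finite fields, in linear-algebra form. Let K be a
field and V a K-vector space of finite dimension 2g carrying a nondegenerate alternating bilinear
form e. Let F be a K-subalgebra of End(V) which is isomorphic as a K-algebra to a finite product K ×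
⋯ × K and which is spanned over K by a set S of similitudes of e (for each s in S there is a nonzero
scalar c with e(s x, s y) = c·e(x, y) for all x, y). Let D be a set of endomorphisms of V such that
every F-stable isotropic subspace W of dimension g (a maximal isotropic subspace) is D-stable. Then
every F-stable isotropic subspace of V is D-stable. (In the application V is the rational ℓ-adic
Tate module of an abelian variety over a finite field with the Riemann form of a polarisation, F the
algebra generated by the Galois group, split for the chosen ℓ, and D the commutant of the image of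
the endomorphism algebra; the hypothesis on maximal isotropic subspaces is the step obtained from
the finiteness of isomorphism classes.) -/
theorem result (K : Type u) [Field K]
    (V : Type u) [AddCommGroup V] [Module K V] [FiniteDimensional K V] (g : ℕ) (hV : Module.finrank K V = 2 * g)
    (e : LinearMap.BilinForm K V) (he : e.IsAlt) (hnd : e.Nondegenerate)
    (F : Subalgebra K (Module.End K V)) (r : ℕ) (hF : Nonempty (F ≃ₐ[K] (Fin r → K)))
    (S : Set (Module.End K V)) (hS : Submodule.span K S = Subalgebra.toSubmodule F)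
    (hsim : ∀ s ∈ S, ∃ c : K, c ≠ 0 ∧ ∀ x y : V, e (s x) (s y) = c * e x y)
    (D : Set (Module.End K V))
    (hmax : ∀ W : Submodule K V, (∀ f ∈ F, ∀ w ∈ W, f w ∈ W) → (∀ x ∈ W, ∀ y ∈ W, e x y = 0) →
      Module.finrank K W = g → ∀ d ∈ D, ∀ w ∈ W, d w ∈ W)
    (W : Submodule K V) (hWF : ∀ f ∈ F, ∀ w ∈ W, f w ∈ W) (hWiso : ∀ x ∈ W, ∀ y ∈ W, e x y = 0) :
    ∀ d ∈ D, ∀ w ∈ W, d w ∈ W := by
  obtain ⟨φ⟩ := hF
  exact Groth.Agent.S18545.core g hV e he hnd F r φ
    (fun W' hW' => Groth.Agent.S18545.perp_stable e hnd F S hS hsim W' hW') D hmax _ W rfl hWF hWiso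

end Groth.Agent.S18545
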