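import Groth.Statements.S18548
import Mathlib.LinearAlgebra.TensorProduct.Basis
import Mathlib.Algebra.CharP.Two

set_option autoImplicit false
open scoped TensorProduct
universe u v w
open GalCoh

namespace Groth.Agent.S18548

open scoped TensorProduct


variable {V : Type v} [AddCommGroup V] [Module (ZMod 2) V]

/-- span of `v ⊗ v` -/
abbrev Na (V : Type v) [AddCommGroup V] [Module (ZMod 2) V] : Submodule (ZMod 2) (V ⊗[ZMod 2] V) :=
  Submodule.span (ZMod 2) (Set.range fun v : V => v ⊗ₜ[ZMod 2] v)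

/-- span of `x ⊗ y + y ⊗ x` -/
abbrev Ns (V : Type v) [AddCommGroup V] [Module (ZMod 2) V] : Submodule (ZMod 2) (V ⊗[ZMod 2] V) :=
  Submodule.span (ZMod 2)
    (Set.range fun p : V × V => p.1 ⊗ₜ[ZMod 2] p.2 + p.2 ⊗ₜ[ZMod 2] p.1)

lemma Ns_le_Na : Ns V ≤ Na V := by
  rw [Submodule.span_le]
  rintro _ ⟨⟨x, y⟩, rfl⟩
  have h : x ⊗ₜ[ZMod 2] y + y ⊗ₜ[ZMod 2] x =
      (x + y) ⊗ₜ[ZMod 2] (x + y) - x ⊗ₜ[ZMod 2] x - y ⊗ₜ[ZMod 2] y := by
    rw [TensorProduct.add_tmul, TensorProduct.tmul_add, TensorProduct.tmul_add]; abel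
  simp only [SetLike.mem_coe]
  rw [h]
  exact sub_mem (sub_mem (Submodule.subset_span ⟨x + y, rfl⟩) (Submodule.subset_span ⟨x, rfl⟩))
    (Submodule.subset_span ⟨y, rfl⟩)

section basis

variable {ι : Type w} (b : Module.Basis ι (ZMod 2) V)

/-- span of the off-diagonal basis tensors -/
def W : Submodule (ZMod 2) (V ⊗[ZMod 2] V) :=
  Submodule.span (ZMod 2) {t | ∃ i j, i ≠ j ∧ t = b i ⊗ₜ[ZMod 2] b j}

/-- span of the diagonal basis tensors -/
def Dg : Submodule (ZMod 2) (V ⊗[ZMod 2] V) :=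
  Submodule.span (ZMod 2) (Set.range fun i => b i ⊗ₜ[ZMod 2] b i)

lemma repr_diag_of_mem_W {t : V ⊗[ZMod 2] V} (ht : t ∈ W b) (l : ι) :
    (b.tensorProduct b).repr t (l, l) = 0 := by
  classical
  induction ht using Submodule.span_induction with
  | mem t h =>
    obtain ⟨i, j, hij, rfl⟩ := h
    rw [Module.Basis.tensorProduct_repr_tmul_apply, Module.Basis.repr_self, Module.Basis.repr_self,
      Finsupp.single_apply, Finsupp.single_apply]
    by_cases h1 : i = l
    · have : ¬ j = l := fun h2 => hij (h1.trans h2.symm)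
      simp [this]
    · simp [h1]
  | zero => simp
  | add x y _ _ hx hy => rw [map_add, Finsupp.add_apply, hx, hy, add_zero]
  | smul c x _ hx => rw [map_smul, Finsupp.smul_apply, hx, smul_zero]

lemma mem_W_of_repr_diag {t : V ⊗[ZMod 2] V}
    (ht : ∀ l, (b.tensorProduct b).repr t (l, l) = 0) : t ∈ W b := by
  rw [← (b.tensorProduct b).linearCombination_repr t, Finsupp.linearCombination_apply]
  refine Submodule.sum_mem _ (fun p hp => ?_)
  refine Submodule.smul_mem _ _ (Submodule.subset_span ⟨p.1, p.2, ?_, ?_⟩)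
  · intro h
    rw [Finsupp.mem_support_iff] at hp
    apply hp
    have : p = (p.1, p.1) := Prod.ext rfl h.symm
    rw [this]; exact ht p.1
  · rw [Module.Basis.tensorProduct_apply]

lemma Ns_le_W : Ns V ≤ W b := by
  rw [Submodule.span_le]
  rintro _ ⟨⟨x, y⟩, rfl⟩
  apply mem_W_of_repr_diag
  intro l
  rw [map_add, Finsupp.add_apply, Module.Basis.tensorProduct_repr_tmul_apply,
    Module.Basis.tensorProduct_repr_tmul_apply, smul_eq_mul, smul_eq_mul, mul_comm]
  exact CharTwo.add_self_eq_zero _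

lemma tmul_self_mem (v : V) : v ⊗ₜ[ZMod 2] v ∈ Ns V ⊔ Dg b := by
  have hv : v ∈ Submodule.span (ZMod 2) (Set.range b) := b.mem_span v
  induction hv using Submodule.span_induction with
  | mem x h =>
    obtain ⟨i, rfl⟩ := h
    exact Submodule.mem_sup_right (Submodule.subset_span ⟨i, rfl⟩)
  | zero => simp
  | add x y _ _ hx hy =>
    have h : (x + y) ⊗ₜ[ZMod 2] (x + y) =
        x ⊗ₜ[ZMod 2] x + y ⊗ₜ[ZMod 2] y + (x ⊗ₜ[ZMod 2] y + y ⊗ₜ[ZMod 2] x) := by
      rw [TensorProduct.add_tmul, TensorProduct.tmul_add, TensorProduct.tmul_add]; abel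
    rw [h]
    exact add_mem (add_mem hx hy)
      (Submodule.mem_sup_left (Submodule.subset_span ⟨(x, y), rfl⟩))
  | smul c x _ hx =>
    rw [TensorProduct.smul_tmul_smul]
    exact Submodule.smul_mem _ _ hx

lemma Na_le : Na V ≤ Ns V ⊔ Dg b := by
  rw [Submodule.span_le]
  rintro _ ⟨v, rfl⟩
  exact tmul_self_mem b v

lemma repr_offdiag_of_mem_Dg {t : V ⊗[ZMod 2] V} (ht : t ∈ Dg b) {i j : ι} (hij : i ≠ j) :
    (b.tensorProduct b).repr t (i, j) = 0 := by
  classical
  induction ht using Submodule.span_induction with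
  | mem t h =>
    obtain ⟨l, rfl⟩ := h
    rw [Module.Basis.tensorProduct_repr_tmul_apply, Module.Basis.repr_self,
      Finsupp.single_apply, Finsupp.single_apply]
    by_cases h1 : l = i
    · have : ¬ l = j := fun h2 => hij (h1.symm.trans h2)
      simp [this]
    · simp [h1]
  | zero => simp
  | add x y _ _ hx hy => rw [map_add, Finsupp.add_apply, hx, hy, add_zero]
  | smul c x _ hx => rw [map_smul, Finsupp.smul_apply, hx, smul_zero]

lemma W_inf_Na : W b ⊓ Na V = Ns V := by
  apply le_antisymm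
  · rintro t ⟨htW, htN⟩
    obtain ⟨n, hn, δ, hδ, rfl⟩ := Submodule.mem_sup.mp (Na_le b htN)
    have hδW : δ ∈ W b := by
      have : δ = (n + δ) - n := by abel
      rw [this]; exact sub_mem htW (Ns_le_W b hn)
    have hδ0 : δ = 0 := by
      apply (b.tensorProduct b).repr.injective
      rw [map_zero]
      ext ⟨i, j⟩
      by_cases hij : i = j
      · subst hij; exact repr_diag_of_mem_W b hδW i
      · exact repr_offdiag_of_mem_Dg b hδ hij
    rw [hδ0, add_zero]; exact hn
  · exact le_inf (Ns_le_W b) Ns_le_Na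

lemma W_sup_Na : W b ⊔ Na V = ⊤ := by
  rw [eq_top_iff, ← (b.tensorProduct b).span_eq, Submodule.span_le]
  rintro _ ⟨⟨i, j⟩, rfl⟩
  rw [Module.Basis.tensorProduct_apply]
  by_cases hij : i = j
  · subst hij
    exact Submodule.mem_sup_right (Submodule.subset_span ⟨b i, rfl⟩)
  · exact Submodule.mem_sup_left (Submodule.subset_span ⟨i, j, hij, rfl⟩)

end basis

theorem result' (G : Type u) [Group G] (V : Type v)
    [AddCommGroup V] [Module (ZMod 2) V] (ρ : Representation (ZMod 2) G V)
    (ι : Type w) (b : Module.Basis ι (ZMod 2) V) (hb : ∀ g : G, ∀ i : ι, ∃ j : ι, ρ g (b i) = b j) :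
    ∃ W : Submodule (ZMod 2) (V ⊗[ZMod 2] V),
      (∀ g : G, ∀ w ∈ W, ρ.tprod ρ g w ∈ W) ∧
      W ⊓ Submodule.span (ZMod 2) (Set.range fun v : V => v ⊗ₜ[ZMod 2] v) =
        Submodule.span (ZMod 2) (Set.range fun p : V × V => p.1 ⊗ₜ[ZMod 2] p.2 + p.2 ⊗ₜ[ZMod 2] p.1) ∧
      W ⊔ Submodule.span (ZMod 2) (Set.range fun v : V => v ⊗ₜ[ZMod 2] v) = ⊤ := by
  refine ⟨W b, ?_, W_inf_Na b, W_sup_Na b⟩
  intro g w hw
  induction hw using Submodule.span_induction with
  | mem t h =>
    obtain ⟨i, j, hij, rfl⟩ := h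
    obtain ⟨i', hi'⟩ := hb g i
    obtain ⟨j', hj'⟩ := hb g j
    rw [Representation.tprod_apply, TensorProduct.map_tmul, hi', hj']
    refine Submodule.subset_span ⟨i', j', ?_, rfl⟩
    intro h
    apply hij
    apply b.injective
    have hinj : Function.Injective (ρ g) := by
      intro x y hxy
      have := congrArg (ρ g⁻¹) hxy
      simpa [← Module.End.mul_apply, ← map_mul] using this
    apply hinj
    rw [hi', hj', h]
  | zero => simp
  | add x y _ _ hx hy => rw [map_add]; exact add_mem hx hy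
  | smul c x _ hx => rw [map_smul]; exact Submodule.smul_mem _ _ hx


/-- Let G be a group acting linearly on a vector space V over the field 𝔽₂ with two elements, and
suppose V is a permutation module: G permutes the vectors of some basis of V. Then the short exact
sequence of G-modules 0 → V → S²V → Λ²V → 0 (v ↦ v·v, x·y ↦ x ∧ y) splits G-equivariantly. Here, for
a vector space V over the field with two elements carrying a linear action ρ of a group G, write N_a
⊆ V ⊗ V for the span of the tensors v ⊗ v and N_s ⊆ N_a for the span of the tensors x ⊗ y + y ⊗ x,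
so that S²V = (V ⊗ V)/N_s, Λ²V = (V ⊗ V)/N_a and the surjection S²V → Λ²V, x·y ↦ x ∧ y, is
G-equivariant for the diagonal action; a G-equivariant linear section of this surjection is the same
thing as a G-stable subspace W of V ⊗ V with W ∩ N_a = N_s and W + N_a = V ⊗ V, which is how the
splitting is stated. (The source has the absolute Galois group of a field acting continuously; any
group and any basis index set are allowed here.) -/
theorem result (G : Type u) [Group G] (V : Type v)
    [AddCommGroup V] [Module (ZMod 2) V] (ρ : Representation (ZMod 2) G V)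
    (ι : Type w) (b : Module.Basis ι (ZMod 2) V) (hb : ∀ g : G, ∀ i : ι, ∃ j : ι, ρ g (b i) = b j) :
    ∃ W : Submodule (ZMod 2) (V ⊗[ZMod 2] V),
      (∀ g : G, ∀ w ∈ W, ρ.tprod ρ g w ∈ W) ∧
      W ⊓ Submodule.span (ZMod 2) (Set.range fun v : V => v ⊗ₜ[ZMod 2] v) =
        Submodule.span (ZMod 2) (Set.range fun p : V × V => p.1 ⊗ₜ[ZMod 2] p.2 + p.2 ⊗ₜ[ZMod 2] p.1) ∧
      W ⊔ Submodule.span (ZMod 2) (Set.range fun v : V => v ⊗ₜ[ZMod 2] v) = ⊤ := by
  exact result' G V ρ ι b hb

end Groth.Agent.S18548
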