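import Groth.Statements.S18546
import Groth.Agent.S18548
import Mathlib.LinearAlgebra.FiniteDimensional.Lemmas
import Mathlib.LinearAlgebra.Basis.Basic
import Mathlib.Algebra.Field.ZMod
import Mathlib.LinearAlgebra.Dimension.Free

set_option autoImplicit false
open scoped TensorProduct
universe u v
open GalCoh

namespace Groth.Agent.S18546

open scoped TensorProduct
open Groth.Agent.S18548


variable {V : Type v} [AddCommGroup V] [Module (ZMod 2) V] (b : Module.Basis (Fin 2) (ZMod 2) V)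

/-- the invariant quadratic form `v₁v₂ + v₁² + v₂²` -/
noncomputable def w0 : V ⊗[ZMod 2] V := b 0 ⊗ₜ[ZMod 2] b 1 + b 0 ⊗ₜ[ZMod 2] b 0 + b 1 ⊗ₜ[ZMod 2] b 1

noncomputable def s0 : V ⊗[ZMod 2] V := b 0 ⊗ₜ[ZMod 2] b 1 + b 1 ⊗ₜ[ZMod 2] b 0

lemma repr_tmul (x y : V) (i j : Fin 2) :
    (b.tensorProduct b).repr (x ⊗ₜ[ZMod 2] y) (i, j) = b.repr x i * b.repr y j := by
  rw [Module.Basis.tensorProduct_repr_tmul_apply, smul_eq_mul, mul_comm]

lemma repr_w0 (i j : Fin 2) : (b.tensorProduct b).repr (w0 b) (i, j) =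
    (if i = 0 ∧ j = 1 then 1 else 0) + (if i = 0 ∧ j = 0 then 1 else 0) +
      (if i = 1 ∧ j = 1 then 1 else 0) := by
  unfold w0
  rw [map_add, map_add, Finsupp.add_apply, Finsupp.add_apply, repr_tmul, repr_tmul, repr_tmul]
  simp only [Module.Basis.repr_self, Finsupp.single_apply]
  fin_cases i <;> fin_cases j <;> simp

lemma repr_s0 (i j : Fin 2) : (b.tensorProduct b).repr (s0 b) (i, j) =
    (if i = 0 ∧ j = 1 then 1 else 0) + (if i = 1 ∧ j = 0 then 1 else 0) := by
  unfold s0
  rw [map_add, Finsupp.add_apply, repr_tmul, repr_tmul]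
  simp only [Module.Basis.repr_self, Finsupp.single_apply]
  fin_cases i <;> fin_cases j <;> simp

lemma s0_mem : s0 b ∈ Ns V := Submodule.subset_span ⟨(b 0, b 1), rfl⟩

lemma key : ∀ a b c d : ZMod 2, ¬(a = 0 ∧ b = 0) → ¬(c = 0 ∧ d = 0) → ¬(a = c ∧ b = d) →
    (a * c + a * a + c * c = 1 ∧ b * d + b * b + d * d = 1 ∧
      a * d + a * b + c * d - 1 = b * c + a * b + c * d) := by decide

lemma invariant (x y : V) (hx : x ≠ 0) (hy : y ≠ 0) (hxy : x ≠ y) :
    x ⊗ₜ[ZMod 2] y + x ⊗ₜ[ZMod 2] x + y ⊗ₜ[ZMod 2] y - w0 b ∈ Ns V := by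
  have h1 : ¬(b.repr x 0 = 0 ∧ b.repr x 1 = 0) := by
    rintro ⟨h0, h1⟩
    apply hx
    apply b.repr.injective
    ext i; fin_cases i
    · simpa using h0
    · simpa using h1
  have h2 : ¬(b.repr y 0 = 0 ∧ b.repr y 1 = 0) := by
    rintro ⟨h0, h1⟩
    apply hy
    apply b.repr.injective
    ext i; fin_cases i
    · simpa using h0
    · simpa using h1
  have h3 : ¬(b.repr x 0 = b.repr y 0 ∧ b.repr x 1 = b.repr y 1) := by
    rintro ⟨h0, h1⟩
    apply hxy
    apply b.repr.injective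
    ext i; fin_cases i
    · simpa using h0
    · simpa using h1
  obtain ⟨k1, k2, k3⟩ := key _ _ _ _ h1 h2 h3
  have : x ⊗ₜ[ZMod 2] y + x ⊗ₜ[ZMod 2] x + y ⊗ₜ[ZMod 2] y - w0 b =
      (b.repr x 1 * b.repr y 0 + b.repr x 0 * b.repr x 1 + b.repr y 0 * b.repr y 1) • s0 b := by
    apply (b.tensorProduct b).repr.injective
    ext ⟨i, j⟩
    rw [map_sub, map_add, map_add, map_smul, Finsupp.sub_apply, Finsupp.add_apply,
      Finsupp.add_apply, Finsupp.smul_apply, repr_tmul, repr_tmul, repr_tmul, repr_w0, repr_s0]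
    fin_cases i <;> fin_cases j <;> simp
    · rw [k1, sub_self]
    · exact k3
    · ring
    · rw [k2, sub_self]
  rw [this]
  exact Submodule.smul_mem _ _ (s0_mem b)

lemma map_mem_Ns (f : V →ₗ[ZMod 2] V) {t : V ⊗[ZMod 2] V} (ht : t ∈ Ns V) :
    TensorProduct.map f f t ∈ Ns V := by
  induction ht using Submodule.span_induction with
  | mem t h =>
    obtain ⟨⟨x, y⟩, rfl⟩ := h
    rw [map_add, TensorProduct.map_tmul, TensorProduct.map_tmul]
    exact Submodule.subset_span ⟨(f x, f y), rfl⟩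
  | zero => simp
  | add x y _ _ hx hy => rw [map_add]; exact add_mem hx hy
  | smul c x _ hx => rw [map_smul]; exact Submodule.smul_mem _ _ hx

lemma repr_symm_of_mem_Na {t : V ⊗[ZMod 2] V} (ht : t ∈ Na V) :
    (b.tensorProduct b).repr t (0, 1) = (b.tensorProduct b).repr t (1, 0) := by
  induction ht using Submodule.span_induction with
  | mem t h =>
    obtain ⟨x, rfl⟩ := h
    rw [repr_tmul, repr_tmul, mul_comm]
  | zero => simp
  | add x y _ _ hx hy => rw [map_add, Finsupp.add_apply, Finsupp.add_apply, hx, hy]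
  | smul c x _ hx => rw [map_smul, Finsupp.smul_apply, Finsupp.smul_apply, hx]

theorem result' (G : Type u) [Group G] (V : Type v)
    [AddCommGroup V] [Module (ZMod 2) V] (hV : Module.finrank (ZMod 2) V = 2)
    (ρ : Representation (ZMod 2) G V) :
    ∃ W : Submodule (ZMod 2) (V ⊗[ZMod 2] V),
      (∀ g : G, ∀ w ∈ W, ρ.tprod ρ g w ∈ W) ∧
      W ⊓ Submodule.span (ZMod 2) (Set.range fun v : V => v ⊗ₜ[ZMod 2] v) =
        Submodule.span (ZMod 2) (Set.range fun p : V × V => p.1 ⊗ₜ[ZMod 2] p.2 + p.2 ⊗ₜ[ZMod 2] p.1) ∧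
      W ⊔ Submodule.span (ZMod 2) (Set.range fun v : V => v ⊗ₜ[ZMod 2] v) = ⊤ := by
  have : Module.Finite (ZMod 2) V := Module.finite_of_finrank_eq_succ hV
  let b : Module.Basis (Fin 2) (ZMod 2) V := Module.finBasisOfFinrankEq (ZMod 2) V hV
  refine ⟨Ns V ⊔ Submodule.span (ZMod 2) {w0 b}, ?_, ?_, ?_⟩
  · intro g w hw
    obtain ⟨n, hn, m, hm, rfl⟩ := Submodule.mem_sup.mp hw
    obtain ⟨c, rfl⟩ := Submodule.mem_span_singleton.mp hm
    rw [map_add, map_smul, Representation.tprod_apply]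
    refine add_mem (Submodule.mem_sup_left (map_mem_Ns _ hn)) (Submodule.smul_mem _ _ ?_)
    have hinj : Function.Injective (ρ g) := by
      intro x y hxy
      have := congrArg (ρ g⁻¹) hxy
      simpa [← Module.End.mul_apply, ← map_mul] using this
    have hx : ρ g (b 0) ≠ 0 := fun h => b.ne_zero 0 (hinj (h.trans (map_zero _).symm))
    have hy : ρ g (b 1) ≠ 0 := fun h => b.ne_zero 1 (hinj (h.trans (map_zero _).symm))
    have hxy : ρ g (b 0) ≠ ρ g (b 1) := fun h => by
      have := b.injective (hinj h)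
      exact absurd this (by decide)
    have hinv := invariant b _ _ hx hy hxy
    have : TensorProduct.map (ρ g) (ρ g) (w0 b) =
        (ρ g (b 0) ⊗ₜ[ZMod 2] ρ g (b 1) + ρ g (b 0) ⊗ₜ[ZMod 2] ρ g (b 0) +
          ρ g (b 1) ⊗ₜ[ZMod 2] ρ g (b 1) - w0 b) + w0 b := by
      unfold w0
      rw [map_add, map_add, TensorProduct.map_tmul, TensorProduct.map_tmul,
        TensorProduct.map_tmul]
      abel
    rw [this]
    exact add_mem (Submodule.mem_sup_left hinv)
      (Submodule.mem_sup_right (Submodule.mem_span_singleton_self _))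
  · apply le_antisymm
    · rintro t ⟨htW, htN⟩
      obtain ⟨n, hn, m, hm, rfl⟩ := Submodule.mem_sup.mp htW
      obtain ⟨c, rfl⟩ := Submodule.mem_span_singleton.mp hm
      have hc : c • w0 b ∈ Na V := by
        have : c • w0 b = (n + c • w0 b) - n := by abel
        rw [this]; exact sub_mem htN (Ns_le_Na hn)
      have h := repr_symm_of_mem_Na b hc
      rw [map_smul, Finsupp.smul_apply, Finsupp.smul_apply, repr_w0, repr_w0] at h
      have hc0 : c = 0 := by simpa using h
      rw [hc0, zero_smul, add_zero]; exact hn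
    · exact le_inf le_sup_left Ns_le_Na
  · rw [eq_top_iff, ← W_sup_Na b]
    refine sup_le ?_ le_sup_right
    rw [W, Submodule.span_le]
    rintro _ ⟨i, j, hij, rfl⟩
    have h01 : b 0 ⊗ₜ[ZMod 2] b 1 ∈
        (Ns V ⊔ Submodule.span (ZMod 2) {w0 b}) ⊔ Na V := by
      have : b 0 ⊗ₜ[ZMod 2] b 1 = w0 b - (b 0 ⊗ₜ[ZMod 2] b 0 + b 1 ⊗ₜ[ZMod 2] b 1) := by
        unfold w0; abel
      rw [this]
      refine sub_mem (Submodule.mem_sup_left (Submodule.mem_sup_right
        (Submodule.mem_span_singleton_self _))) (Submodule.mem_sup_right ?_)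
      exact add_mem (Submodule.subset_span ⟨b 0, rfl⟩) (Submodule.subset_span ⟨b 1, rfl⟩)
    fin_cases i <;> fin_cases j
    · exact absurd rfl hij
    · exact h01
    · have : b 1 ⊗ₜ[ZMod 2] b 0 = s0 b - b 0 ⊗ₜ[ZMod 2] b 1 := by unfold s0; abel
      simp only [Fin.mk_one, Fin.zero_eta, SetLike.mem_coe]
      rw [this]
      exact sub_mem (Submodule.mem_sup_left (Submodule.mem_sup_left (s0_mem b))) h01
    · exact absurd rfl hij


/-- Let G be a group acting linearly on a vector space V of dimension 2 over the field 𝔽₂ with two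
elements. Then the short exact sequence of G-modules 0 → V → S²V → Λ²V → 0 (v ↦ v·v, x·y ↦ x ∧ y)
splits G-equivariantly. Here, for a vector space V over the field with two elements carrying a
linear action ρ of a group G, write N_a ⊆ V ⊗ V for the span of the tensors v ⊗ v and N_s ⊆ N_a for
the span of the tensors x ⊗ y + y ⊗ x, so that S²V = (V ⊗ V)/N_s, Λ²V = (V ⊗ V)/N_a and the
surjection S²V → Λ²V, x·y ↦ x ∧ y, is G-equivariant for the diagonal action; a G-equivariant linear
section of this surjection is the same thing as a G-stable subspace W of V ⊗ V with W ∩ N_a = N_s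
and W + N_a = V ⊗ V, which is how the splitting is stated. (The source has the absolute Galois group
of a field acting continuously; any group is allowed here.) -/
theorem result (G : Type u) [Group G] (V : Type v)
    [AddCommGroup V] [Module (ZMod 2) V] (hV : Module.finrank (ZMod 2) V = 2)
    (ρ : Representation (ZMod 2) G V) :
    ∃ W : Submodule (ZMod 2) (V ⊗[ZMod 2] V),
      (∀ g : G, ∀ w ∈ W, ρ.tprod ρ g w ∈ W) ∧
      W ⊓ Submodule.span (ZMod 2) (Set.range fun v : V => v ⊗ₜ[ZMod 2] v) =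
        Submodule.span (ZMod 2) (Set.range fun p : V × V => p.1 ⊗ₜ[ZMod 2] p.2 + p.2 ⊗ₜ[ZMod 2] p.1) ∧
      W ⊔ Submodule.span (ZMod 2) (Set.range fun v : V => v ⊗ₜ[ZMod 2] v) = ⊤ := by
  exact result' G V hV ρ

end Groth.Agent.S18546
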