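import Groth.Statements.S18547
import Mathlib
import Groth.Agent.S18548
-- import your own Groth.Agent.* helpers here

set_option autoImplicit false
open scoped TensorProduct
universe u v
open GalCoh

namespace Groth.Agent.S18547

open scoped TensorProduct
open Groth.Agent.S18548

variable {V : Type v} [AddCommGroup V] [Module (ZMod 2) V] (b : Module.Basis (Fin 3) (ZMod 2) V)

lemma repr_tmul (x y : V) (i j : Fin 3) :
    (b.tensorProduct b).repr (x ⊗ₜ[ZMod 2] y) (i, j) = b.repr x i * b.repr y j := by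
  rw [Module.Basis.tensorProduct_repr_tmul_apply, smul_eq_mul, mul_comm]

lemma repr_symm_of_mem_Na {t : V ⊗[ZMod 2] V} (ht : t ∈ Na V) (i j : Fin 3) :
    (b.tensorProduct b).repr t (i, j) = (b.tensorProduct b).repr t (j, i) := by
  induction ht using Submodule.span_induction with
  | mem t h =>
    obtain ⟨x, rfl⟩ := h
    rw [repr_tmul, repr_tmul, mul_comm]
  | zero => simp
  | add x y _ _ hx hy => rw [map_add, Finsupp.add_apply, Finsupp.add_apply, hx, hy]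
  | smul c x _ hx => rw [map_smul, Finsupp.smul_apply, Finsupp.smul_apply, hx]

lemma mem_Na_of_repr_symm {t : V ⊗[ZMod 2] V}
    (h : ∀ i j, (b.tensorProduct b).repr t (i, j) = (b.tensorProduct b).repr t (j, i)) :
    t ∈ Na V := by
  rw [← (b.tensorProduct b).sum_repr t]
  simp only [Fintype.sum_prod_type, Fin.sum_univ_three, Module.Basis.tensorProduct_apply]
  rw [h 1 0, h 2 0, h 2 1]
  have hs : ∀ i j : Fin 3, b i ⊗ₜ[ZMod 2] b j + b j ⊗ₜ[ZMod 2] b i ∈ Na V := fun i j =>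
    Ns_le_Na (Submodule.subset_span ⟨(b i, b j), rfl⟩)
  have hd : ∀ i : Fin 3, b i ⊗ₜ[ZMod 2] b i ∈ Na V := fun i => Submodule.subset_span ⟨b i, rfl⟩
  set c := (b.tensorProduct b).repr t
  have e : c (0, 0) • b 0 ⊗ₜ[ZMod 2] b 0 + c (0, 1) • b 0 ⊗ₜ[ZMod 2] b 1 + c (0, 2) • b 0 ⊗ₜ[ZMod 2] b 2 +
      (c (0, 1) • b 1 ⊗ₜ[ZMod 2] b 0 + c (1, 1) • b 1 ⊗ₜ[ZMod 2] b 1 + c (1, 2) • b 1 ⊗ₜ[ZMod 2] b 2) +
      (c (0, 2) • b 2 ⊗ₜ[ZMod 2] b 0 + c (1, 2) • b 2 ⊗ₜ[ZMod 2] b 1 + c (2, 2) • b 2 ⊗ₜ[ZMod 2] b 2) =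
      c (0, 0) • b 0 ⊗ₜ[ZMod 2] b 0 + c (1, 1) • b 1 ⊗ₜ[ZMod 2] b 1 + c (2, 2) • b 2 ⊗ₜ[ZMod 2] b 2 +
      c (0, 1) • (b 0 ⊗ₜ[ZMod 2] b 1 + b 1 ⊗ₜ[ZMod 2] b 0) +
      c (0, 2) • (b 0 ⊗ₜ[ZMod 2] b 2 + b 2 ⊗ₜ[ZMod 2] b 0) +
      c (1, 2) • (b 1 ⊗ₜ[ZMod 2] b 2 + b 2 ⊗ₜ[ZMod 2] b 1) := by
    simp only [smul_add]; abel
  rw [e]
  exact add_mem (add_mem (add_mem (add_mem (add_mem (Submodule.smul_mem _ _ (hd 0))
    (Submodule.smul_mem _ _ (hd 1))) (Submodule.smul_mem _ _ (hd 2)))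
    (Submodule.smul_mem _ _ (hs 0 1))) (Submodule.smul_mem _ _ (hs 0 2)))
    (Submodule.smul_mem _ _ (hs 1 2))

lemma map_mem_Na (f : V →ₗ[ZMod 2] V) {t : V ⊗[ZMod 2] V} (ht : t ∈ Na V) :
    TensorProduct.map f f t ∈ Na V := by
  induction ht using Submodule.span_induction with
  | mem t h =>
    obtain ⟨x, rfl⟩ := h
    rw [TensorProduct.map_tmul]
    exact Submodule.subset_span ⟨f x, rfl⟩
  | zero => simp
  | add x y _ _ hx hy => rw [map_add]; exact add_mem hx hy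
  | smul c x _ hx => rw [map_smul]; exact Submodule.smul_mem _ _ hx

lemma key : ∀ x0 x1 x2 y0 y1 y2 : ZMod 2,
    ¬(x0 * y1 + x1 * y0 = 0 ∧ x0 * y2 + x2 * y0 = 0 ∧ x1 * y2 + x2 * y1 = 0) →
    (x0 * y0 + x0 * x0 + y0 * y0 =
      if (x0 * y1 + x1 * y0 = 0 ∧ x0 * y2 + x2 * y0 = 0) then 0 else 1) ∧
    (x1 * y1 + x1 * x1 + y1 * y1 =
      if (x0 * y1 + x1 * y0 = 0 ∧ x1 * y2 + x2 * y1 = 0) then 0 else 1) ∧
    (x2 * y2 + x2 * x2 + y2 * y2 =
      if (x0 * y2 + x2 * y0 = 0 ∧ x1 * y2 + x2 * y1 = 0) then 0 else 1) := by decide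

lemma ex : ∀ a c d : ZMod 2, ∃ x0 x1 x2 y0 y1 y2 : ZMod 2,
    x0 * y1 + x1 * y0 = a ∧ x0 * y2 + x2 * y0 = c ∧ x1 * y2 + x2 * y1 = d := by decide

lemma aux4 : ∀ p q r s : ZMod 2, r + s = p + q → p - r = q - s := by decide

lemma aux2 : ∀ p q : ZMod 2, p + q = 0 → p = q := by decide

lemma aux4' : ∀ p q r s : ZMod 2, p - r = q - s → p + q = r + s := by decide

/-- Let G be a group acting linearly on a vector space V of dimension 3 over the field 𝔽₂ with two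
elements. Then the connecting map (Λ²V)^G → H¹(G, V) of the short exact sequence of G-modules 0 → V
→ S²V → Λ²V → 0 (v ↦ v·v, x·y ↦ x ∧ y) is zero; equivalently, every G-invariant element of Λ²V is
the image of a G-invariant element of S²V. Here N_a ⊆ V ⊗ V is the span of the tensors v ⊗ v and N_s
⊆ N_a the span of the tensors x ⊗ y + y ⊗ x, so that S²V = (V ⊗ V)/N_s and Λ²V = (V ⊗ V)/N_a with
the diagonal action of G, and the statement reads: a tensor t whose class modulo N_a is G-invariant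
is congruent modulo N_a to a tensor whose class modulo N_s is G-invariant. (The source writes the
rank hypothesis on the lattice M with V = M/2M, which has the same rank, and has the absolute Galois
group of a field acting; any group is allowed here.) -/
theorem result (G : Type u) [Group G] (V : Type v)
    [AddCommGroup V] [Module (ZMod 2) V] (hV : Module.finrank (ZMod 2) V = 3)
    (ρ : Representation (ZMod 2) G V) (t : V ⊗[ZMod 2] V)
    (ht : ∀ g : G, ρ.tprod ρ g t - t ∈ Submodule.span (ZMod 2) (Set.range fun v : V => v ⊗ₜ[ZMod 2] v)) :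
    ∃ t' : V ⊗[ZMod 2] V, t' - t ∈ Submodule.span (ZMod 2) (Set.range fun v : V => v ⊗ₜ[ZMod 2] v) ∧
      ∀ g : G, ρ.tprod ρ g t' - t' ∈
        Submodule.span (ZMod 2) (Set.range fun p : V × V => p.1 ⊗ₜ[ZMod 2] p.2 + p.2 ⊗ₜ[ZMod 2] p.1) := by
  classical
  have hfin : Module.Finite (ZMod 2) V := Module.finite_of_finrank_eq_succ hV
  let b : Module.Basis (Fin 3) (ZMod 2) V := Module.finBasisOfFinrankEq (ZMod 2) V hV
  change ∃ t' : V ⊗[ZMod 2] V, t' - t ∈ Na V ∧ ∀ g : G, ρ.tprod ρ g t' - t' ∈ Ns V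
  change ∀ g : G, ρ.tprod ρ g t - t ∈ Na V at ht
  set c : Fin 3 → Fin 3 → ZMod 2 := fun i j => (b.tensorProduct b).repr t (i, j) with hc
  by_cases hp : c 0 1 + c 1 0 = 0 ∧ c 0 2 + c 2 0 = 0 ∧ c 1 2 + c 2 1 = 0
  · have htNa : t ∈ Na V := by
      apply mem_Na_of_repr_symm b
      have h01 : c 0 1 = c 1 0 := aux2 _ _ hp.1
      have h02 : c 0 2 = c 2 0 := aux2 _ _ hp.2.1
      have h12 : c 1 2 = c 2 1 := aux2 _ _ hp.2.2
      intro i j
      fin_cases i <;> fin_cases j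
      · rfl
      · exact h01
      · exact h02
      · exact h01.symm
      · rfl
      · exact h12
      · exact h02.symm
      · exact h12.symm
      · rfl
    refine ⟨0, by simpa using neg_mem htNa, fun g => by simp⟩
  · obtain ⟨x0, x1, x2, y0, y1, y2, h01, h02, h12⟩ :=
      ex (c 0 1 + c 1 0) (c 0 2 + c 2 0) (c 1 2 + c 2 1)
    set x : V := x0 • b 0 + x1 • b 1 + x2 • b 2 with hx
    set y : V := y0 • b 0 + y1 • b 1 + y2 • b 2 with hy
    have hx0 : b.repr x 0 = x0 := by simp [hx, Finsupp.single_apply]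
    have hx1 : b.repr x 1 = x1 := by simp [hx, Finsupp.single_apply]
    have hx2 : b.repr x 2 = x2 := by simp [hx, Finsupp.single_apply]
    have hy0 : b.repr y 0 = y0 := by simp [hy, Finsupp.single_apply]
    have hy1 : b.repr y 1 = y1 := by simp [hy, Finsupp.single_apply]
    have hy2 : b.repr y 2 = y2 := by simp [hy, Finsupp.single_apply]
    have hxy : t - x ⊗ₜ[ZMod 2] y ∈ Na V := by
      apply mem_Na_of_repr_symm b
      have k01 : c 0 1 - x0 * y1 = c 1 0 - x1 * y0 := aux4 _ _ _ _ h01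
      have k02 : c 0 2 - x0 * y2 = c 2 0 - x2 * y0 := aux4 _ _ _ _ h02
      have k12 : c 1 2 - x1 * y2 = c 2 1 - x2 * y1 := aux4 _ _ _ _ h12
      intro i j
      rw [map_sub, Finsupp.sub_apply, Finsupp.sub_apply, repr_tmul, repr_tmul]
      fin_cases i <;> fin_cases j
      · rfl
      · simpa [hx0, hy1, hx1, hy0] using k01
      · simpa [hx0, hy2, hx2, hy0] using k02
      · simpa [hx0, hy1, hx1, hy0] using k01.symm
      · rfl
      · simpa [hx1, hy2, hx2, hy1] using k12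
      · simpa [hx0, hy2, hx2, hy0] using k02.symm
      · simpa [hx1, hy2, hx2, hy1] using k12.symm
      · rfl
    refine ⟨x ⊗ₜ[ZMod 2] y + x ⊗ₜ[ZMod 2] x + y ⊗ₜ[ZMod 2] y, ?_, ?_⟩
    · have e : x ⊗ₜ[ZMod 2] y + x ⊗ₜ[ZMod 2] x + y ⊗ₜ[ZMod 2] y - t =
          x ⊗ₜ[ZMod 2] x + y ⊗ₜ[ZMod 2] y - (t - x ⊗ₜ[ZMod 2] y) := by abel
      rw [e]
      exact sub_mem (add_mem (Submodule.subset_span ⟨x, rfl⟩) (Submodule.subset_span ⟨y, rfl⟩)) hxy
    · intro g
      set f := ρ g with hf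
      rw [Representation.tprod_apply]
      have h1 : f x ⊗ₜ[ZMod 2] f y - x ⊗ₜ[ZMod 2] y ∈ Na V := by
        have e : f x ⊗ₜ[ZMod 2] f y - x ⊗ₜ[ZMod 2] y =
            (TensorProduct.map f f t - t) + (t - x ⊗ₜ[ZMod 2] y) -
              TensorProduct.map f f (t - x ⊗ₜ[ZMod 2] y) := by
          rw [map_sub, TensorProduct.map_tmul]; abel
        rw [e]
        refine sub_mem (add_mem ?_ hxy) (map_mem_Na f hxy)
        have := ht g
        rwa [Representation.tprod_apply] at this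
      have hmap : TensorProduct.map f f (x ⊗ₜ[ZMod 2] y + x ⊗ₜ[ZMod 2] x + y ⊗ₜ[ZMod 2] y) =
          f x ⊗ₜ[ZMod 2] f y + f x ⊗ₜ[ZMod 2] f x + f y ⊗ₜ[ZMod 2] f y := by
        simp only [map_add, TensorProduct.map_tmul]
      rw [hmap]
      have hNa : f x ⊗ₜ[ZMod 2] f y + f x ⊗ₜ[ZMod 2] f x + f y ⊗ₜ[ZMod 2] f y -
          (x ⊗ₜ[ZMod 2] y + x ⊗ₜ[ZMod 2] x + y ⊗ₜ[ZMod 2] y) ∈ Na V := by
        have e : f x ⊗ₜ[ZMod 2] f y + f x ⊗ₜ[ZMod 2] f x + f y ⊗ₜ[ZMod 2] f y -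
          (x ⊗ₜ[ZMod 2] y + x ⊗ₜ[ZMod 2] x + y ⊗ₜ[ZMod 2] y) =
            (f x ⊗ₜ[ZMod 2] f y - x ⊗ₜ[ZMod 2] y) + f x ⊗ₜ[ZMod 2] f x + f y ⊗ₜ[ZMod 2] f y -
              x ⊗ₜ[ZMod 2] x - y ⊗ₜ[ZMod 2] y := by abel
        rw [e]
        exact sub_mem (sub_mem (add_mem (add_mem h1 (Submodule.subset_span ⟨f x, rfl⟩))
          (Submodule.subset_span ⟨f y, rfl⟩)) (Submodule.subset_span ⟨x, rfl⟩))
          (Submodule.subset_span ⟨y, rfl⟩)
      rw [← W_inf_Na b]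
      refine ⟨mem_W_of_repr_diag b ?_, hNa⟩
      -- the wedge coordinates of (f x, f y) and (x, y) agree
      have hs := fun i j => repr_symm_of_mem_Na b h1 i j
      simp only [map_sub, Finsupp.sub_apply, repr_tmul] at hs
      set a0 := b.repr (f x) 0
      set a1 := b.repr (f x) 1
      set a2 := b.repr (f x) 2
      set d0 := b.repr (f y) 0
      set d1 := b.repr (f y) 1
      set d2 := b.repr (f y) 2
      have w01 : a0 * d1 + a1 * d0 = x0 * y1 + x1 * y0 := by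
        have := hs 0 1
        rw [hx0, hy1, hx1, hy0] at this
        exact (aux4' _ _ _ _ this)
      have w02 : a0 * d2 + a2 * d0 = x0 * y2 + x2 * y0 := by
        have := hs 0 2
        rw [hx0, hy2, hx2, hy0] at this
        exact (aux4' _ _ _ _ this)
      have w12 : a1 * d2 + a2 * d1 = x1 * y2 + x2 * y1 := by
        have := hs 1 2
        rw [hx1, hy2, hx2, hy1] at this
        exact (aux4' _ _ _ _ this)
      have hp' : ¬(x0 * y1 + x1 * y0 = 0 ∧ x0 * y2 + x2 * y0 = 0 ∧ x1 * y2 + x2 * y1 = 0) := by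
        rw [h01, h02, h12]; exact hp
      have hp'' : ¬(a0 * d1 + a1 * d0 = 0 ∧ a0 * d2 + a2 * d0 = 0 ∧ a1 * d2 + a2 * d1 = 0) := by
        rw [w01, w02, w12]; exact hp'
      obtain ⟨k0, k1, k2⟩ := key x0 x1 x2 y0 y1 y2 hp'
      obtain ⟨l0, l1, l2⟩ := key a0 a1 a2 d0 d1 d2 hp''
      rw [w01, w02] at l0
      rw [w01, w12] at l1
      rw [w02, w12] at l2
      intro l
      simp only [map_sub, map_add, Finsupp.sub_apply, Finsupp.add_apply, repr_tmul]
      fin_cases l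
      · simp only [Fin.zero_eta]
        rw [hx0, hy0]
        change a0 * d0 + a0 * a0 + d0 * d0 - _ = 0
        rw [l0, k0, sub_self]
      · simp only [Fin.mk_one]
        rw [hx1, hy1]
        change a1 * d1 + a1 * a1 + d1 * d1 - _ = 0
        rw [l1, k1, sub_self]
      · simp only [Fin.reduceFinMk]
        rw [hx2, hy2]
        change a2 * d2 + a2 * a2 + d2 * d2 - _ = 0
        rw [l2, k2, sub_self]

end Groth.Agent.S18547
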