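import Groth.Statements.S18549
import Groth.Agent.S18548
import Mathlib.LinearAlgebra.FiniteDimensional.Lemmas
import Mathlib.LinearAlgebra.Dual.Lemmas
import Mathlib.LinearAlgebra.Basis.Basic
import Mathlib.Algebra.Field.ZMod

set_option autoImplicit false
open scoped TensorProduct
universe u v
open GalCoh

namespace Groth.Agent.S18549

open scoped TensorProduct


/-- an involution on a finite-dimensional `𝔽₂`-space permutes some basis -/
theorem exists_perm_basis : ∀ (n : ℕ) (V : Type v) [AddCommGroup V] [Module (ZMod 2) V]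
    [Module.Finite (ZMod 2) V] (s : V →ₗ[ZMod 2] V), (∀ x, s (s x) = x) →
    Module.finrank (ZMod 2) V = n →
    ∃ (ι : Type) (b : Module.Basis ι (ZMod 2) V), ∀ i, ∃ j, s (b i) = b j := by
  intro n
  induction n using Nat.strong_induction_on with
  | _ n ih =>
  intro V _ _ _ s hs hn
  by_cases hid : ∀ x, s x = x
  · exact ⟨_, Module.finBasis (ZMod 2) V, fun i => ⟨i, hid _⟩⟩
  push Not at hid
  obtain ⟨u, hu⟩ := hid
  -- w = u + s u ≠ 0
  have hw : u + s u ≠ 0 := by
    intro h
    apply hu
    have huu : u + u = 0 := by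
      rw [← two_smul (ZMod 2) u]
      have : (2 : ZMod 2) = 0 := by decide
      rw [this, zero_smul]
    calc s u = (u + s u) + s u - (u + s u) := by abel
      _ = (u + u) + s u - (u + s u) := by rw [h, huu]
      _ = u := by abel
  obtain ⟨α', hα'⟩ := Module.Projective.exists_dual_ne_zero (ZMod 2) hw
  -- α with α u = 1, α (s u) = 0
  obtain ⟨α, hαu, hαsu⟩ : ∃ α : V →ₗ[ZMod 2] ZMod 2, α u = 1 ∧ α (s u) = 0 := by
    rw [map_add] at hα'
    have key : ∀ a c : ZMod 2, a + c ≠ 0 → (a = 1 ∧ c = 0) ∨ (a = 0 ∧ c = 1) := by decide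
    rcases key _ _ hα' with ⟨h1, h2⟩ | ⟨h1, h2⟩
    · exact ⟨α', h1, h2⟩
    · refine ⟨α' ∘ₗ s, ?_, ?_⟩
      · simpa using h2
      · simpa [hs] using h1
  -- the projection
  let π : V →ₗ[ZMod 2] V := (α.smulRight u) + ((α ∘ₗ s).smulRight (s u))
  have hπ : ∀ v, π v = α v • u + α (s v) • s u := fun v => by simp [π]
  have hπu : π u = u := by rw [hπ, hαu, hαsu]; simp
  have hπsu : π (s u) = s u := by rw [hπ, hs, hαu, hαsu]; simp
  have hππ : ∀ v, π (π v) = π v := by
    intro v
    conv_lhs => rw [hπ v, map_add, map_smul, map_smul, hπu, hπsu]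
    rw [hπ v]
  have hπs : ∀ v, π (s v) = s (π v) := by
    intro v
    rw [hπ, hπ, hs, map_add, map_smul, map_smul, hs, add_comm]
  let K : Submodule (ZMod 2) V := LinearMap.ker π
  have hKs : ∀ x ∈ K, s x ∈ K := by
    intro x hx
    rw [LinearMap.mem_ker] at hx ⊢
    rw [hπs, hx, map_zero]
  have hu0 : u ≠ 0 := by
    intro h; apply hu; rw [h, map_zero]
  have hKtop : K ≠ ⊤ := by
    intro h
    have : u ∈ K := h ▸ Submodule.mem_top
    rw [LinearMap.mem_ker, hπu] at this
    exact hu0 this
  have hlt : Module.finrank (ZMod 2) K < n := hn ▸ Submodule.finrank_lt hKtop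
  obtain ⟨ι', b', hb'⟩ := ih _ hlt K (s.restrict hKs)
    (fun x => Subtype.ext (by simp [hs])) rfl
  -- the family
  let c₁ : Fin 2 → V := ![u, s u]
  let c₂ : ι' → V := fun j => (b' j : V)
  have hli₁ : LinearIndependent (ZMod 2) c₁ := by
    rw [LinearIndependent.pair_iff]
    intro a c hac
    have h1 := congrArg α hac
    rw [map_add, map_smul, map_smul, hαu, hαsu, map_zero] at h1
    have ha : a = 0 := by simpa using h1
    have h2 := congrArg (α ∘ₗ s) hac
    rw [map_add, map_smul, map_smul, map_zero, LinearMap.comp_apply, LinearMap.comp_apply,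
      hs, hαu, hαsu] at h2
    have hc : c = 0 := by simpa using h2
    exact ⟨ha, hc⟩
  have hli₂ : LinearIndependent (ZMod 2) c₂ :=
    b'.linearIndependent.map' K.subtype (Submodule.ker_subtype K)
  have hspan₁ : Submodule.span (ZMod 2) (Set.range c₁) = LinearMap.range π := by
    apply le_antisymm
    · rw [Submodule.span_le]
      rintro _ ⟨i, rfl⟩
      fin_cases i
      · exact ⟨u, hπu⟩
      · exact ⟨s u, hπsu⟩
    · rintro _ ⟨v, rfl⟩
      rw [hπ]
      exact add_mem (Submodule.smul_mem _ _ (Submodule.subset_span ⟨0, rfl⟩))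
        (Submodule.smul_mem _ _ (Submodule.subset_span ⟨1, rfl⟩))
  have hspan₂ : Submodule.span (ZMod 2) (Set.range c₂) = K := by
    have : Set.range c₂ = K.subtype '' Set.range b' := by
      rw [← Set.range_comp]; rfl
    rw [this, ← Submodule.map_span, b'.span_eq, Submodule.map_subtype_top]
  have hdisj : Disjoint (Submodule.span (ZMod 2) (Set.range c₁))
      (Submodule.span (ZMod 2) (Set.range c₂)) := by
    rw [hspan₁, hspan₂, Submodule.disjoint_def]
    rintro x ⟨v, rfl⟩ hx
    rw [LinearMap.mem_ker, hππ] at hx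
    exact hx
  have hli : LinearIndependent (ZMod 2) (Sum.elim c₁ c₂) := hli₁.sum_type hli₂ hdisj
  have htop : ⊤ ≤ Submodule.span (ZMod 2) (Set.range (Sum.elim c₁ c₂)) := by
    rw [Set.Sum.elim_range, Submodule.span_union, hspan₁, hspan₂]
    intro v _
    have : v = π v + (v - π v) := by abel
    rw [this]
    refine add_mem (Submodule.mem_sup_left ⟨v, rfl⟩) (Submodule.mem_sup_right ?_)
    rw [LinearMap.mem_ker, map_sub, hππ, sub_self]
  refine ⟨Fin 2 ⊕ ι', Module.Basis.mk hli htop, ?_⟩
  intro i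
  rcases i with i | j
  · fin_cases i
    · exact ⟨Sum.inl 1, by simp [c₁]⟩
    · exact ⟨Sum.inl 0, by simp [c₁, hs]⟩
  · obtain ⟨j', hj'⟩ := hb' j
    refine ⟨Sum.inr j', ?_⟩
    have := congrArg (Subtype.val) hj'
    simpa [c₂, LinearMap.coe_restrict_apply] using this

theorem result' (G : Type u) [Group G] (hG : Nat.card G = 2)
    (V : Type v) [AddCommGroup V] [Module (ZMod 2) V] [Module.Finite (ZMod 2) V]
    (ρ : Representation (ZMod 2) G V) :
    ∃ W : Submodule (ZMod 2) (V ⊗[ZMod 2] V),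
      (∀ g : G, ∀ w ∈ W, ρ.tprod ρ g w ∈ W) ∧
      W ⊓ Submodule.span (ZMod 2) (Set.range fun v : V => v ⊗ₜ[ZMod 2] v) =
        Submodule.span (ZMod 2) (Set.range fun p : V × V => p.1 ⊗ₜ[ZMod 2] p.2 + p.2 ⊗ₜ[ZMod 2] p.1) ∧
      W ⊔ Submodule.span (ZMod 2) (Set.range fun v : V => v ⊗ₜ[ZMod 2] v) = ⊤ := by
  obtain ⟨σ, hσ1, hσu⟩ := (Nat.card_eq_two_iff' (1 : G)).mp hG
  have hσσ : σ * σ = 1 := by
    by_contra h
    have := hσu _ h
    exact hσ1 (by simpa using this)
  have hs : ∀ x, ρ σ (ρ σ x) = x := by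
    intro x
    rw [← Module.End.mul_apply, ← map_mul, hσσ, map_one, Module.End.one_apply]
  obtain ⟨ι, b, hb⟩ := exists_perm_basis _ V (ρ σ) hs rfl
  apply Groth.Agent.S18548.result G V ρ ι b
  intro g i
  by_cases hg : g = 1
  · exact ⟨i, by rw [hg, map_one, Module.End.one_apply]⟩
  · rw [hσu g hg]; exact hb i


/-- Over the real numbers, that is for the group G = Gal(ℂ/ℝ) of order 2 acting linearly on a
finite-dimensional vector space V over the field 𝔽₂ with two elements, the short exact sequence of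
G-modules 0 → V → S²V → Λ²V → 0 (v ↦ v·v, x·y ↦ x ∧ y) splits G-equivariantly. Here, for a vector
space V over the field with two elements carrying a linear action ρ of a group G, write N_a ⊆ V ⊗ V
for the span of the tensors v ⊗ v and N_s ⊆ N_a for the span of the tensors x ⊗ y + y ⊗ x, so that
S²V = (V ⊗ V)/N_s, Λ²V = (V ⊗ V)/N_a and the surjection S²V → Λ²V, x·y ↦ x ∧ y, is G-equivariant for
the diagonal action; a G-equivariant linear section of this surjection is the same thing as a
G-stable subspace W of V ⊗ V with W ∩ N_a = N_s and W + N_a = V ⊗ V, which is how the splitting is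
stated. (G is any group of order 2 here; V is taken finite-dimensional, the case covered by the
structure theory of finitely generated modules over 𝔽₂[G] that the argument uses.) -/
theorem result (G : Type u) [Group G] (hG : Nat.card G = 2)
    (V : Type v) [AddCommGroup V] [Module (ZMod 2) V] [Module.Finite (ZMod 2) V]
    (ρ : Representation (ZMod 2) G V) :
    ∃ W : Submodule (ZMod 2) (V ⊗[ZMod 2] V),
      (∀ g : G, ∀ w ∈ W, ρ.tprod ρ g w ∈ W) ∧
      W ⊓ Submodule.span (ZMod 2) (Set.range fun v : V => v ⊗ₜ[ZMod 2] v) =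
        Submodule.span (ZMod 2) (Set.range fun p : V × V => p.1 ⊗ₜ[ZMod 2] p.2 + p.2 ⊗ₜ[ZMod 2] p.1) ∧
      W ⊔ Submodule.span (ZMod 2) (Set.range fun v : V => v ⊗ₜ[ZMod 2] v) = ⊤ := by
  exact result' G hG V ρ

end Groth.Agent.S18549
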