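import Groth.Statements.S1855
import Groth.Agent.Lib.CycVan85b
import Groth.Agent.Lib.CycPush85g

set_option autoImplicit false
universe u
open CategoryTheory AlgebraicGeometry
open Cyc

namespace Groth.Agent.S1855

/-- Proper pushforward preserves rational equivalence: for p : X → Y proper and k-cycles α, β on X that
are rationally equivalent, p_*α and p_*β are rationally equivalent k-cycles on Y. Here a pair (X, δ)
with Cyc.IsSetup plays the role of a scheme locally of finite type over a fixed base with a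
dimension function (X locally Noetherian with universally catenary local rings, δ a dimension
function), and Cyc.DeltaCompat records that the dimension function upstairs is the induced one. -/
theorem result (X Y : Scheme.{u}) (δX : X → ℤ) (δY : Y → ℤ) (hX : Cyc.IsSetup X δX) (hY : Cyc.IsSetup Y δY) (p : X ⟶ Y) [IsProper p] (hδ : Cyc.DeltaCompat p δX δY) (k : ℤ) (α β : AlgebraicCycle X ℤ) (hα : α ∈ Cyc.Zk X δX k) (hβ : β ∈ Cyc.Zk X δX k) (h : Cyc.RatEquiv δX k α β) : Cyc.RatEquiv δY k (AlgebraicCycle.map p δX δY α) (AlgebraicCycle.map p δX δY β) := by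
  classical
  have : IsLocallyNoetherian X := hX.1
  obtain ⟨ι, ξ, f, hξ, hf, hlf, hsum⟩ := h
  show Cyc.RatEquivZero δY k (AlgebraicCycle.map p δX δY α - AlgebraicCycle.map p δX δY β)
  refine ⟨{i : ι // δX (ξ i) = δY (p (ξ i))}, fun i => p (ξ i.1),
    fun i => Cyc.normGen p (ξ i.1) (f i.1), ?_, ?_, ?_, ?_⟩
  · intro i
    rw [← i.2, hξ]
  · intro i
    have hfin := Groth.Agent.Lib.CycPush85.finite_residueFieldMap_of_deltaCompat δX δY p hδ
      (ξ i.1) i.2
    unfold Cyc.normGen
    let _ := (p.residueFieldMap (ξ i.1)).hom.toAlgebra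
    have : Module.Finite (Y.residueField (p (ξ i.1))) (X.residueField (ξ i.1)) := hfin
    exact Algebra.norm_ne_zero_iff.mpr (hf i.1)
  · intro y
    obtain ⟨U, hU, hyU, hfinU⟩ := Groth.Agent.Lib.CycPush85.locallyFinite_map_family p ξ hlf y
    refine ⟨U, hU, hyU, ?_⟩
    exact (hfinU.preimage (Subtype.val_injective.injOn)).subset (fun i hi => hi)
  · intro y
    rw [Function.locallyFinsuppWithin.coe_sub, Pi.sub_apply,
      ← Groth.Agent.Lib.CycPush85.map_sub_apply p δX δY α β y]
    change ∑ᶠ x ∈ p ⁻¹' {y}, (α - β) x * ((AlgebraicCycle.mapCoeff p δX δY x : ℕ) : ℤ) = _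
    rw [finsum_mem_congr rfl (fun x _ => by rw [hsum x])]
    rw [Groth.Agent.Lib.CycPush85.finsum_fibre_sumDiv δX hX.2.2 p ξ f hf hlf
      (fun x => ((AlgebraicCycle.mapCoeff p δX δY x : ℕ) : ℤ)) y]
    have hterm : ∀ i : ι,
        (∑ᶠ x ∈ p ⁻¹' {y}, Cyc.divFun δX (ξ i) (f i) x *
          ((AlgebraicCycle.mapCoeff p δX δY x : ℕ) : ℤ)) =
        if δX (ξ i) = δY (p (ξ i)) then
          Cyc.divFun δY (p (ξ i)) (Cyc.normGen p (ξ i) (f i)) y else 0 := by
      intro i
      split_ifs with hi
      · exact Groth.Agent.Lib.CycPush85.map_divFun_general δX δY hX hY p hδ (ξ i) hi (f i)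
          (hf i) y
      · exact Groth.Agent.Lib.CycVan85.map_divFun_vanish δX δY hX hY p hδ (ξ i) hi (f i)
          (hf i) y
    rw [finsum_congr hterm]
    rw [finsum_subtype_eq_finsum_cond
      (f := fun i : ι => Cyc.divFun δY (p (ξ i)) (Cyc.normGen p (ξ i) (f i)) y)
      (fun i => δX (ξ i) = δY (p (ξ i)))]
    exact finsum_congr (fun i => finsum_eq_if.symm)

end Groth.Agent.S1855
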