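import Groth.Statements.S1856
import Groth.Agent.Lib.CycPullRatEquiv
import Groth.Agent.S1857

set_option autoImplicit false
universe u
open CategoryTheory AlgebraicGeometry
open Cyc

namespace Groth.Agent.S1856

/-- Let f : X → Y be flat, locally of finite type, of relative dimension r, and α, β rationally
equivalent k-cycles on Y. Then the flat pullbacks f^*α, f^*β (any cycles on X whose coefficients are
given by the flat-pullback formula) are rationally equivalent (k + r)-cycles on X. Here a pair (X,
δ) with Cyc.IsSetup plays the role of a scheme locally of finite type over a fixed base with a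
dimension function (X locally Noetherian with universally catenary local rings, δ a dimension
function), and Cyc.DeltaCompat records that the dimension function upstairs is the induced one. -/
theorem result (X Y : Scheme.{u}) (δX : X → ℤ) (δY : Y → ℤ) (hX : Cyc.IsSetup X δX) (hY : Cyc.IsSetup Y δY) (f : X ⟶ Y) [Flat f] [LocallyOfFiniteType f] (r : ℕ) (hr : Cyc.HasRelDim f r) (hδ : Cyc.DeltaCompat f δX δY) (k : ℤ) (α β : AlgebraicCycle Y ℤ) (hα : α ∈ Cyc.Zk Y δY k) (hβ : β ∈ Cyc.Zk Y δY k) (h : Cyc.RatEquiv δY k α β) (α' β' : AlgebraicCycle X ℤ) (hα' : ⇑α' = Cyc.pullFun f δX δY r ⇑α) (hβ' : ⇑β' = Cyc.pullFun f δX δY r ⇑β) : Cyc.RatEquiv δX (k + r) α' β' := by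
  have hc := Groth.Agent.S1857.shift_of_hasRelDim f δX δY r hr hδ
  have h' : Cyc.RatEquivZero δY k (α - β) := h
  show Cyc.RatEquivZero δX (k + r) (α' - β')
  refine Groth.Agent.Lib.CycPullRatEquiv.ratEquivZero_pull Y X δY δX hY hX f (r : ℤ) hc k
    (α - β) h' (α' - β') ?_
  funext x
  have hP : ∀ γ : Y → ℤ, Cyc.pullFun f δX δY r γ x =
      if δX x = δY (f x) + r then
        γ (f x) * ((Module.length (X.presheaf.stalk x)
          (X.presheaf.stalk x ⧸ Ideal.map (f.stalkMap x).hom
            (IsLocalRing.maximalIdeal (Y.presheaf.stalk (f x))))).toNat : ℤ)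
      else 0 := fun _ => rfl
  rw [Function.locallyFinsuppWithin.coe_sub, Function.locallyFinsuppWithin.coe_sub,
    Pi.sub_apply, hα', hβ', hP, hP, hP, Pi.sub_apply]
  split_ifs
  · ring
  · ring

end Groth.Agent.S1856
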