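import Groth.Statements.S18561
import Mathlib
-- import your own Groth.Agent.* helpers here

set_option autoImplicit false
universe u v
open PtQuiv

namespace Groth.Agent.S18561

open PtQuiv in
/-- A line containing a nonzero vector is spanned by it. -/
lemma line_eq_span {K : Type u} [Field K] (L : Submodule K (Fin 2 → K))
    (hL : Module.finrank K L = 1) (v : Fin 2 → K) (hv : v ≠ 0) (hvL : v ∈ L) :
    L = K ∙ v := by
  symm
  apply Submodule.eq_of_le_of_finrank_eq
  · rwa [Submodule.span_singleton_le_iff_mem]
  · rw [hL]; exact finrank_span_singleton hv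

lemma mem_span_symm {K : Type u} [Field K] (v w : Fin 2 → K) (hv : v ≠ 0)
    (h : v ∈ K ∙ w) : w ∈ K ∙ v := by
  rw [Submodule.mem_span_singleton] at h ⊢
  obtain ⟨c, rfl⟩ := h
  have hc : c ≠ 0 := by
    rintro rfl
    simp at hv
  exact ⟨c⁻¹, by rw [smul_smul, inv_mul_cancel₀ hc, one_smul]⟩

lemma finrank_plane_le {K : Type u} [Field K] (L : Submodule K (Fin 2 → K)) :
    Module.finrank K L ≤ 2 := by
  have := Submodule.finrank_le L
  simpa using this


/-- Let K be a field and s i ∈ K² (i in a finite index type) nonzero vectors, regarded as a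
representation of the quiver with a central vertex carrying the plane and one vertex per i carrying
a line mapping to the plane by 1 ↦ s i. Then the representation is stable for some weight of the
hypersimplex (0 ≤ θ i ≤ 1, Σ θ i = 2, central weight -1) if and only if the s i fall into at least
three proportionality classes, i.e. three of them are pairwise non-proportional. (The published
statement is over an algebraically closed field and assumes semistability for some interior weight
instead of s i ≠ 0; any field is allowed here. Its further assertions, that the set of semistability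
weights is full-dimensional exactly in this case and is a wall otherwise, are not part of this row.) -/
theorem result (K : Type u) [Field K] (ι : Type v)
    [Fintype ι] (s : ι → (Fin 2 → K)) (hs : ∀ i, s i ≠ 0) :
    (∃ θ : ι → ℚ, (∀ i, 0 ≤ θ i) ∧ (∀ i, θ i ≤ 1) ∧ ∑ i, θ i = 2 ∧ PtQuiv.QStable (-1) θ s) ↔
      ∃ i j k : ι, s i ∉ K ∙ s j ∧ s j ∉ K ∙ s k ∧ s i ∉ K ∙ s k := by
  classical
  constructor
  · rintro ⟨θ, h0, h1, h2, ⟨hss0, hss⟩, hst⟩
    by_contra hcon
    push Not at hcon
    -- ι nonempty
    have hne : Nonempty ι := by
      by_contra hemp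
      rw [not_nonempty_iff] at hemp
      simp at h2
    obtain ⟨i₀⟩ := hne
    set L₁ : Submodule K (Fin 2 → K) := K ∙ s i₀ with hL₁
    have hf₁ : Module.finrank K L₁ = 1 := finrank_span_singleton (hs i₀)
    set I₁ : Finset ι := Finset.univ.filter (fun i => s i ∈ L₁) with hI₁
    have hsub₁ : PtQuiv.QSubrep s L₁ I₁ := by
      intro i hi
      simpa [hI₁] using hi
    by_cases hall : ∀ j, s j ∈ L₁
    · have hI : I₁ = Finset.univ := by
        ext i; simp [hI₁, hall i]
      have := hss L₁ I₁ hsub₁
      rw [PtQuiv.QWt, hf₁, hI, h2] at this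
      norm_num at this
    · push Not at hall
      obtain ⟨j₀, hj₀⟩ := hall
      set L₂ : Submodule K (Fin 2 → K) := K ∙ s j₀ with hL₂
      have hf₂ : Module.finrank K L₂ = 1 := finrank_span_singleton (hs j₀)
      set I₂ : Finset ι := Finset.univ.filter (fun i => s i ∈ L₂) with hI₂
      have hsub₂ : PtQuiv.QSubrep s L₂ I₂ := by
        intro i hi
        simpa [hI₂] using hi
      have hcover : ∀ k, s k ∈ L₁ ∨ s k ∈ L₂ := by
        intro k
        by_contra hk
        push Not at hk
        have h3 := hcon j₀ i₀ k hj₀
        have h4 : s i₀ ∉ K ∙ s k := fun h => hk.1 (mem_span_symm _ _ (hs i₀) h)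
        have h5 := h3 h4
        exact hk.2 (mem_span_symm _ _ (hs j₀) h5)
      have hdisj : Disjoint I₁ I₂ := by
        rw [Finset.disjoint_left]
        intro k hk1 hk2
        simp only [hI₁, hI₂, Finset.mem_filter, Finset.mem_univ, true_and] at hk1 hk2
        have e1 : L₁ = K ∙ s k := line_eq_span L₁ hf₁ _ (hs k) hk1
        have e2 : L₂ = K ∙ s k := line_eq_span L₂ hf₂ _ (hs k) hk2
        apply hj₀
        rw [e1, ← e2]
        exact Submodule.mem_span_singleton_self _
      have hunion : I₁ ∪ I₂ = Finset.univ := by
        ext k
        simp only [hI₁, hI₂, Finset.mem_union, Finset.mem_filter, Finset.mem_univ, true_and,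
          iff_true]
        exact hcover k
      have hsum : ∑ i ∈ I₁, θ i + ∑ i ∈ I₂, θ i = 2 := by
        rw [← Finset.sum_union hdisj, hunion, h2]
      have w₁ := hss L₁ I₁ hsub₁
      have w₂ := hss L₂ I₂ hsub₂
      have w₁0 : PtQuiv.QWt K (-1) θ L₁ I₁ = 0 := by
        rw [PtQuiv.QWt, hf₁] at w₁ ⊢
        rw [PtQuiv.QWt, hf₂] at w₂
        push_cast at w₁ w₂ ⊢
        linarith
      rcases hst L₁ I₁ hsub₁ w₁0 with ⟨hb, -⟩ | ⟨ht, -⟩
      · rw [hb] at hf₁
        simp at hf₁
      · rw [ht] at hf₁
        simp at hf₁
  · rintro ⟨i, j, k, hij, hjk, hik⟩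
    have hij' : i ≠ j := by
      rintro rfl; exact hij (Submodule.mem_span_singleton_self _)
    have hjk' : j ≠ k := by
      rintro rfl; exact hjk (Submodule.mem_span_singleton_self _)
    have hik' : i ≠ k := by
      rintro rfl; exact hik (Submodule.mem_span_singleton_self _)
    set N : ℚ := (Fintype.card ι : ℚ) with hN
    have hNpos : (0 : ℚ) < N := by
      have : 0 < Fintype.card ι := Fintype.card_pos_iff.mpr ⟨i⟩
      rw [hN]
      exact_mod_cast this
    have hN3 : (3 : ℚ) ≤ N := by
      have : ({i, j, k} : Finset ι).card ≤ Fintype.card ι := Finset.card_le_univ _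
      rw [Finset.card_insert_of_notMem (by simp [hij', hik']),
        Finset.card_insert_of_notMem (by simp [hjk']), Finset.card_singleton] at this
      rw [hN]
      have h3 : (3 : ℕ) ≤ Fintype.card ι := by omega
      exact_mod_cast h3
    set δ : ℚ := 1 / (4 * N) with hδ
    have hδpos : 0 < δ := by positivity
    have hNδ : N * δ = 1 / 4 := by
      rw [hδ]; field_simp
    have hδle : δ ≤ 1 / 12 := by
      rw [hδ, div_le_div_iff₀ (by positivity) (by norm_num)]
      linarith
    set θ : ι → ℚ := fun x => δ + ((if x = i then 7 / 12 else 0) + ((if x = j then 7 / 12 else 0) +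
      (if x = k then 7 / 12 else 0))) with hθ
    have hθpos : ∀ x, 0 < θ x := by
      intro x
      simp only [hθ]
      have : (0 : ℚ) ≤ (if x = i then (7 / 12 : ℚ) else 0) + ((if x = j then 7 / 12 else 0) +
          (if x = k then 7 / 12 else 0)) := by
        split_ifs <;> norm_num
      linarith
    have hsumI : ∀ I : Finset ι, ∑ x ∈ I, θ x = (I.card : ℚ) * δ +
        ((if i ∈ I then 7 / 12 else 0) + ((if j ∈ I then 7 / 12 else 0) +
          (if k ∈ I then 7 / 12 else 0))) := by
      intro I
      simp only [hθ, Finset.sum_add_distrib, Finset.sum_const, nsmul_eq_mul,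
        Finset.sum_ite_eq']
    have htot : ∑ x, θ x = 2 := by
      rw [hsumI Finset.univ]
      simp only [Finset.mem_univ, if_true, Finset.card_univ]
      rw [← hN, hNδ]; norm_num
    refine ⟨θ, fun x => (hθpos x).le, ?_, htot, ⟨?_, ?_⟩, ?_⟩
    · intro x
      simp only [hθ]
      by_cases hxi : x = i
      · subst hxi
        rw [if_pos rfl, if_neg hij', if_neg hik']; linarith
      · by_cases hxj : x = j
        · subst hxj
          rw [if_neg hxi, if_pos rfl, if_neg hjk']; linarith
        · rw [if_neg hxi, if_neg hxj]
          split_ifs <;> linarith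
    · rw [htot]; norm_num
    all_goals
      have hcard : ∀ I : Finset ι, (I.card : ℚ) * δ ≤ 1 / 4 := by
        intro I
        rw [← hNδ]
        apply mul_le_mul_of_nonneg_right _ hδpos.le
        rw [hN]
        exact_mod_cast Finset.card_le_univ I
      have hline : ∀ (L : Submodule K (Fin 2 → K)) (I : Finset ι), PtQuiv.QSubrep s L I →
          Module.finrank K L = 1 → ∑ x ∈ I, θ x ≤ 10 / 12 := by
        intro L I hsub hL
        rw [hsumI I]
        have hc := hcard I
        have key : ∀ x y : ι, s x ∉ K ∙ s y → x ∈ I → y ∈ I → False := by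
          intro x y hxy hx hy
          apply hxy
          rw [← line_eq_span L hL (s y) (hs y) (hsub y hy)]
          exact hsub x hx
        by_cases hi : i ∈ I
        · have hj : j ∉ I := fun hj => key i j hij hi hj
          have hk : k ∉ I := fun hk => key i k hik hi hk
          rw [if_pos hi, if_neg hj, if_neg hk]; linarith
        · by_cases hj : j ∈ I
          · have hk : k ∉ I := fun hk => key j k hjk hj hk
            rw [if_neg hi, if_pos hj, if_neg hk]; linarith
          · rw [if_neg hi, if_neg hj]
            split_ifs <;> linarith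
      have hbot : ∀ (L : Submodule K (Fin 2 → K)) (I : Finset ι), PtQuiv.QSubrep s L I →
          Module.finrank K L = 0 → L = ⊥ ∧ I = ∅ := by
        intro L I hsub hL
        have hLb : L = ⊥ := Submodule.finrank_eq_zero.mp hL
        refine ⟨hLb, ?_⟩
        rw [Finset.eq_empty_iff_forall_notMem]
        intro x hx
        have := hsub x hx
        rw [hLb, Submodule.mem_bot] at this
        exact hs x this
      have hle : ∀ I : Finset ι, ∑ x ∈ I, θ x ≤ 2 := by
        intro I
        rw [← htot]
        exact Finset.sum_le_sum_of_subset_of_nonneg (Finset.subset_univ I)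
          (fun x _ _ => (hθpos x).le)
    · intro L I hsub
      have h2 := finrank_plane_le L
      rw [PtQuiv.QWt]
      interval_cases hL : Module.finrank K L
      · obtain ⟨-, hI⟩ := hbot L I hsub hL
        rw [hI]; simp
      · have := hline L I hsub hL
        push_cast; linarith
      · have := hle I
        push_cast; linarith
    · intro L I hsub hw
      have h2 := finrank_plane_le L
      rw [PtQuiv.QWt] at hw
      interval_cases hL : Module.finrank K L
      · left; exact hbot L I hsub hL
      · exfalso
        have := hline L I hsub hL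
        push_cast at hw; linarith
      · right
        refine ⟨Submodule.eq_top_of_finrank_eq (by rw [hL]; simp), ?_⟩
        by_contra hI
        obtain ⟨x, hx⟩ : ∃ x, x ∉ I := by
          by_contra hall
          push Not at hall
          exact hI (Finset.eq_univ_iff_forall.mpr hall)
        have hlt : ∑ y ∈ I, θ y < ∑ y, θ y := by
          apply Finset.sum_lt_sum_of_subset (Finset.subset_univ I) (Finset.mem_univ x) hx (hθpos x)
          intro y _ _
          exact (hθpos y).le
        rw [htot] at hlt
        push_cast at hw; linarith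

end Groth.Agent.S18561
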