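import Groth.Statements.S18562
import Mathlib
import Groth.Agent.Lib.PtQuiv97
-- import your own Groth.Agent.* helpers here

set_option autoImplicit false
universe u v
open PtQuiv

namespace Groth.Agent.S18562

/-- Let K be a field, κ a finite index type with a ≠ b, and s i ∈ K² a representation of the quiver with
a central vertex carrying the plane and one vertex per i : κ carrying a line mapping to the plane by
1 ↦ s i. Let θ be a weight of the hypersimplex (0 ≤ θ i ≤ 1, Σ θ i = 2, central weight -1) with 1 <
θ a + θ b < 2, and put c = 1 / (2 - θ a - θ b). Then s is θ-semistable if and only if s a, s b are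
linearly independent and, writing every other s i = t i 0 • s a + t i 1 • s b, the representation t
of the quiver with two one-dimensional sinks p₀, p₁ and one one-dimensional source per i ≠ a, b
(arrow to p_j given by t i j) is semistable for the weight c (θ a - 1) at p₀, c (θ b - 1) at p₁ and
c θ i at the sources. (The published statement is about representations over a base scheme, with
(semi)stability tested on geometric fibres, that is over algebraically closed fields; this row
states the fibrewise content over an arbitrary field.) -/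
theorem result (K : Type u) [Field K]
    (κ : Type v) [Fintype κ] [DecidableEq κ] (a b : κ) (hab : a ≠ b) (s : κ → (Fin 2 → K))
    (θ : κ → ℚ) (h0 : ∀ i, 0 ≤ θ i) (h1 : ∀ i, θ i ≤ 1) (h2 : ∑ i, θ i = 2)
    (hθ : 1 < θ a + θ b) (hθ' : θ a + θ b < 2) :
    PtQuiv.QSemistable (-1) θ s ↔
      (LinearIndependent K ![s a, s b] ∧
        ∀ t : {i : κ // i ≠ a ∧ i ≠ b} → (Fin 2 → K),
          (∀ i, s i.1 = t i 0 • s a + t i 1 • s b) →
            PtQuiv.PSemistable ![(2 - θ a - θ b)⁻¹ * (θ a - 1), (2 - θ a - θ b)⁻¹ * (θ b - 1)]
              (fun i : {i : κ // i ≠ a ∧ i ≠ b} => (2 - θ a - θ b)⁻¹ * θ i.1) t) := by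
  classical
  have hcpos : 0 < (2 - θ a - θ b)⁻¹ := by apply inv_pos.mpr; linarith
  constructor
  · intro hq
    have hli := Lib.PtQuiv97.li_of_qss s θ hab hθ hq
    refine ⟨hli, fun t ht => ⟨?_, ?_⟩⟩
    · rw [Fin.sum_univ_two]
      simp only [Matrix.cons_val_zero, Matrix.cons_val_one]
      rw [← Finset.mul_sum, Lib.PtQuiv97.sum_off hab θ h2]
      ring
    · intro U I hsub
      rw [Lib.PtQuiv97.PWt_eq]
      obtain ⟨L, J, hJ, hw, -⟩ := Lib.PtQuiv97.exists_qsubrep s θ hab hli t ht U I hsub
      have := hq.2 L J hJ
      rw [hw] at this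
      exact mul_nonpos_of_nonneg_of_nonpos hcpos.le this
  · rintro ⟨hli, hP⟩
    have hex : ∀ i : {i : κ // i ≠ a ∧ i ≠ b}, ∃ x y : K, s i.1 = x • s a + y • s b :=
      fun i => Lib.PtQuiv97.exists_coords hli (s i.1)
    choose x y hxy using hex
    set t : {i : κ // i ≠ a ∧ i ≠ b} → (Fin 2 → K) := fun i => ![x i, y i] with ht
    have ht' : ∀ i, s i.1 = t i 0 • s a + t i 1 • s b := by
      intro i
      simp only [ht, Matrix.cons_val_zero, Matrix.cons_val_one]
      exact hxy i
    have hp := hP t ht'
    refine ⟨by rw [h2]; norm_num, fun L I hsub => ?_⟩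
    rcases Lib.PtQuiv97.q_to_p s θ hab h0 h1 h2 hθ hli t ht' L I hsub with h | ⟨U, I', hsub', hle, -, -⟩
    · exact h.le
    · have h3 := hp.2 U I' hsub'
      rw [Lib.PtQuiv97.PWt_eq] at h3
      have h4 : Lib.PtQuiv97.inner θ a b U I' ≤ 0 := by
        by_contra h
        push Not at h
        have := mul_pos hcpos h
        linarith
      linarith

end Groth.Agent.S18562
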