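import Groth.Statements.S18563
import Mathlib
import Groth.Agent.Lib.PtQuiv97
import Groth.Agent.S18562
-- import your own Groth.Agent.* helpers here

set_option autoImplicit false
universe u v
open PtQuiv

namespace Groth.Agent.S18563

/-- Let K be a field, κ a finite index type with a ≠ b, and s i ∈ K² a representation of the quiver with
a central vertex carrying the plane and one vertex per i : κ carrying a line mapping to the plane by
1 ↦ s i. Let θ be a weight of the hypersimplex (0 ≤ θ i ≤ 1, Σ θ i = 2, central weight -1) with 1 <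
θ a + θ b < 2, and put c = 1 / (2 - θ a - θ b). Then s is θ-stable if and only if s a, s b are
linearly independent and, writing every other s i = t i 0 • s a + t i 1 • s b, the representation t
of the quiver with two one-dimensional sinks p₀, p₁ and one one-dimensional source per i ≠ a, b
(arrow to p_j given by t i j) is stable for the weight c (θ a - 1) at p₀, c (θ b - 1) at p₁ and c θ
i at the sources. (The published statement is about representations over a base scheme, with
(semi)stability tested on geometric fibres, that is over algebraically closed fields; this row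
states the fibrewise content over an arbitrary field.) -/
theorem result (K : Type u) [Field K]
    (κ : Type v) [Fintype κ] [DecidableEq κ] (a b : κ) (hab : a ≠ b) (s : κ → (Fin 2 → K))
    (θ : κ → ℚ) (h0 : ∀ i, 0 ≤ θ i) (h1 : ∀ i, θ i ≤ 1) (h2 : ∑ i, θ i = 2)
    (hθ : 1 < θ a + θ b) (hθ' : θ a + θ b < 2) :
    PtQuiv.QStable (-1) θ s ↔
      (LinearIndependent K ![s a, s b] ∧
        ∀ t : {i : κ // i ≠ a ∧ i ≠ b} → (Fin 2 → K),
          (∀ i, s i.1 = t i 0 • s a + t i 1 • s b) →
            PtQuiv.PStable ![(2 - θ a - θ b)⁻¹ * (θ a - 1), (2 - θ a - θ b)⁻¹ * (θ b - 1)]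
              (fun i : {i : κ // i ≠ a ∧ i ≠ b} => (2 - θ a - θ b)⁻¹ * θ i.1) t) := by
  classical
  have hcpos : 0 < (2 - θ a - θ b)⁻¹ := by apply inv_pos.mpr; linarith
  have hss_iff := Groth.Agent.S18562.result K κ a b hab s θ h0 h1 h2 hθ hθ'
  constructor
  · rintro ⟨hss, hst⟩
    obtain ⟨hli, hP⟩ := hss_iff.mp hss
    refine ⟨hli, fun t ht => ⟨hP t ht, ?_⟩⟩
    intro U I hsub hw
    rw [Lib.PtQuiv97.PWt_eq] at hw
    have hin : Lib.PtQuiv97.inner θ a b U I = 0 := by
      rcases mul_eq_zero.mp hw with h | h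
      · exact (hcpos.ne' h).elim
      · exact h
    obtain ⟨L, J, hJ, hwt, hfr, hE, hUn⟩ :=
      Lib.PtQuiv97.exists_qsubrep s θ hab hli t ht U I hsub
    rw [hin] at hwt
    rcases hst L J hJ hwt with ⟨hL, hJ0⟩ | ⟨hL, hJ1⟩
    · left
      refine ⟨?_, hE hJ0⟩
      rw [hL, finrank_bot] at hfr
      have e0 : Module.finrank K (U 0) = 0 := by omega
      have e1 : Module.finrank K (U 1) = 0 := by omega
      funext j
      fin_cases j
      · exact Submodule.finrank_eq_zero.mp e0
      · exact Submodule.finrank_eq_zero.mp e1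
    · right
      refine ⟨?_, hUn hJ1⟩
      rw [hL] at hfr
      simp only [finrank_top, Module.finrank_pi, Fintype.card_fin] at hfr
      funext j
      rcases Lib.PtQuiv97.finrank_sub_cases (U 0) with ⟨h00, h01⟩ | ⟨h00, h01⟩ <;>
        rcases Lib.PtQuiv97.finrank_sub_cases (U 1) with ⟨h10, h11⟩ | ⟨h10, h11⟩
      · omega
      · omega
      · omega
      · fin_cases j
        · exact h00
        · exact h10
  · rintro ⟨hli, hP⟩
    have hss : PtQuiv.QSemistable (-1) θ s := hss_iff.mpr ⟨hli, fun t ht => (hP t ht).1⟩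
    refine ⟨hss, ?_⟩
    have hex : ∀ i : {i : κ // i ≠ a ∧ i ≠ b}, ∃ x y : K, s i.1 = x • s a + y • s b :=
      fun i => Lib.PtQuiv97.exists_coords hli (s i.1)
    choose x y hxy using hex
    set t : {i : κ // i ≠ a ∧ i ≠ b} → (Fin 2 → K) := fun i => ![x i, y i] with ht
    have ht' : ∀ i, s i.1 = t i 0 • s a + t i 1 • s b := by
      intro i
      simp only [ht, Matrix.cons_val_zero, Matrix.cons_val_one]
      exact hxy i
    have hp := hP t ht'
    intro L I hsub hw
    rcases Lib.PtQuiv97.q_to_p s θ hab h0 h1 h2 hθ hli t ht' L I hsub with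
      h | ⟨U, I', hsub', hle, hbot, htop⟩
    · rw [hw] at h; exact (lt_irrefl _ h).elim
    · have h3 := hp.1.2 U I' hsub'
      rw [Lib.PtQuiv97.PWt_eq] at h3
      have h4 : Lib.PtQuiv97.inner θ a b U I' ≤ 0 := by
        by_contra h
        push Not at h
        have := mul_pos hcpos h
        linarith
      have h5 : Lib.PtQuiv97.inner θ a b U I' = 0 := by
        rw [hw] at hle; linarith
      have h6 : PtQuiv.PWt K ![(2 - θ a - θ b)⁻¹ * (θ a - 1), (2 - θ a - θ b)⁻¹ * (θ b - 1)]
          (fun i : {i : κ // i ≠ a ∧ i ≠ b} => (2 - θ a - θ b)⁻¹ * θ i.1) U I' = 0 := by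
        rw [Lib.PtQuiv97.PWt_eq, h5, mul_zero]
      rcases hp.2 U I' hsub' h6 with ⟨hU, hI'⟩ | ⟨hU, hI'⟩
      · left; exact hbot hw hU hI'
      · right; exact htop hw hU hI'

end Groth.Agent.S18563
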