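import Groth.Statements.S18564
import Groth.Agent.Lib.GPHom2
import Groth.Agent.S0002
import Mathlib.Tactic

set_option autoImplicit false
universe u
open CategoryTheory CategoryTheory.Limits AlgebraicGeometry
open ParSh

namespace Groth.Agent.S18564


open Groth.Agent.Lib.ProperFinHyp Groth.Agent.Lib.CurveVB67 Groth.Agent.Lib.CohLES
  Groth.Agent.Lib.OXModTensor CohB1

/-- an isomorphism induces an injective map on `H⁰(- ⊗ O_D)` -/
theorem fibDMap_injective_of_isIso (k : Type u) [Field k] (X : Scheme.{u}) [X.Over (Spec (CommRingCat.of k))]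
    (I : X.IdealSheafData) {E F : X.Modules} (f : E ⟶ F) [IsIso f] :
    Function.Injective (ParSh.fibDMap k X I f) := by
  intro a b hab
  have e : ParSh.resDMap I f = (Groth.Agent.Lib.TwistEquiv.tensorRightFunctor (ClSub.quotMod I)).map f :=
    Groth.Agent.Lib.GPKer2.resDMap_eq I f
  have hab' : map (ParSh.resDMap I f) 0 a = map (ParSh.resDMap I f) 0 b := hab
  rw [e] at hab'
  have h1 : map ((Groth.Agent.Lib.TwistEquiv.tensorRightFunctor (ClSub.quotMod I)).map (inv f)) 0
        (map ((Groth.Agent.Lib.TwistEquiv.tensorRightFunctor (ClSub.quotMod I)).map f) 0 a) =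
      map ((Groth.Agent.Lib.TwistEquiv.tensorRightFunctor (ClSub.quotMod I)).map (inv f)) 0
        (map ((Groth.Agent.Lib.TwistEquiv.tensorRightFunctor (ClSub.quotMod I)).map f) 0 b) :=
    congrArg _ hab'
  rw [← map_comp, ← map_comp, ← Functor.map_comp, IsIso.hom_inv_id, CategoryTheory.Functor.map_id,
    Groth.Agent.Lib.CohLES.map_id, Groth.Agent.Lib.CohLES.map_id] at h1
  exact h1

theorem result' (k : Type u) [Field k] [IsAlgClosed k] (X : Scheme.{u}) [X.Over (Spec (CommRingCat.of k))]
    [AlgebraicGeometry.IsIntegral X] [IsProper (X ↘ Spec (CommRingCat.of k))] [Smooth (X ↘ Spec (CommRingCat.of k))]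
    (hdim : topologicalKrullDim X = 1)
    (I : X.IdealSheafData) (hD : FGA.IsEffCartier I) (α : ℝ) (hα0 : 0 ≤ α) (hα1 : α < 1)
    {E F : X.Modules} (n : ℕ) (hn : 0 < n) (hE : FlatMod.IsFinLocFreeOfRank n E) (hF : FlatMod.IsFinLocFreeOfRank n F)
    (F₁ : Submodule k (ParSh.fibD X I E)) (F₁' : Submodule k (ParSh.fibD X I F))
    (f : E ⟶ F) [Mono f] (hf : ParSh.IsGPHom k X I F₁ F₁' f) :
    ParSh.gpDeg k X α E F₁ n ≤ ParSh.gpDeg k X α F F₁' n ∧
      (ParSh.gpDeg k X α E F₁ n = ParSh.gpDeg k X α F F₁' n ↔
        (IsIso f ∧ (0 < α → Submodule.map (ParSh.fibDMap k X I f) F₁ = F₁'))) := by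
  have H : Groth.Agent.Lib.ProperFinHyp.Hyp.{u} :=
    fun A _ _ X _ _ M hM n => Groth.Agent.S0002.result A X M hM n
  have hdim' : topologicalKrullDim X ≤ 1 := le_of_eq hdim
  have hnoeth : IsLocallyNoetherian X :=
    LocallyOfFiniteType.isLocallyNoetherian (X ↘ Spec (CommRingCat.of k))
  have hEc : Coh.IsCoh E := isCoh_of_rank hE
  have hFc : Coh.IsCoh F := isCoh_of_rank hF
  have hrk : rk E = rk F :=
    (eq_rk_of_isFinLocFreeOfRank hE).symm.trans (eq_rk_of_isFinLocFreeOfRank hF)
  have hQc : Coh.IsCoh (ClSub.quotMod I) := Groth.Agent.Lib.SnapCoeff13.isCoh_quotMod I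
  have hED : Coh.IsCoh (tensorMod E (ClSub.quotMod I)) := Groth.Agent.Lib.CohFinAmple.isCoh_tensorMod hEc hQc
  have hFD : Coh.IsCoh (tensorMod F (ClSub.quotMod I)) := Groth.Agent.Lib.CohFinAmple.isCoh_tensorMod hFc hQc
  haveI fE : Module.Finite k (ParSh.fibD X I E) := H k X _ hED 0
  haveI fF : Module.Finite k (ParSh.fibD X I F) := H k X _ hFD 0
  set κ := Module.finrank k (LinearMap.ker (ParSh.fibDMap k X I f)) with hκdef
  have hκ : (κ : ℤ) ≤ Curv2.deg k X F n - Curv2.deg k X E n :=
    Groth.Agent.Lib.GPHom2.finrank_ker_fibDMap_le' H k X hdim' I hD n hE hF f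
  have hle : F₁ ≤ F₁'.comap (ParSh.fibDMap k X I f) := Submodule.map_le_iff_le_comap.mp hf
  have hdimF1 : Module.finrank k F₁ ≤ κ + Module.finrank k F₁' :=
    (Submodule.finrank_mono hle).trans (Groth.Agent.Lib.GPHom2.finrank_comap_le _ _)
  have hκR : (κ : ℝ) ≤ (Curv2.deg k X F n : ℝ) - (Curv2.deg k X E n : ℝ) := by exact_mod_cast hκ
  have hdR : (Module.finrank k F₁ : ℝ) ≤ (κ : ℝ) + (Module.finrank k F₁' : ℝ) := by exact_mod_cast hdimF1
  have hκ0 : (0 : ℝ) ≤ (κ : ℝ) := by positivity
  unfold ParSh.gpDeg ParSh.gpWt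
  refine ⟨by nlinarith, ⟨fun heq => ?_, ?_⟩⟩
  · -- equality ⇒ iso
    have htR : (Curv2.deg k X F n : ℝ) - (Curv2.deg k X E n : ℝ) ≤ 0 := by nlinarith
    have ht : Curv2.deg k X F n ≤ Curv2.deg k X E n := by
      have : (Curv2.deg k X F n : ℝ) ≤ (Curv2.deg k X E n : ℝ) := by linarith
      exact_mod_cast this
    have hiso : IsIso f := isIso_of_deg_le H k X hdim' f hEc hFc hrk n ht
    refine ⟨hiso, fun hα => ?_⟩
    have hdeq : (Curv2.deg k X F n : ℝ) = (Curv2.deg k X E n : ℝ) := by linarith
    have hfin : (Module.finrank k F₁ : ℝ) = (Module.finrank k F₁' : ℝ) := by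
      have h2 : α * (Module.finrank k F₁ : ℝ) = α * (Module.finrank k F₁' : ℝ) := by linarith
      exact mul_left_cancel₀ hα.ne' h2
    have hfin' : Module.finrank k F₁ = Module.finrank k F₁' := by exact_mod_cast hfin
    have hinj := fibDMap_injective_of_isIso k X I f
    apply Submodule.eq_of_le_of_finrank_eq hf
    rw [← hfin']
    exact (Submodule.equivMapOfInjective _ hinj F₁).finrank_eq.symm
  · rintro ⟨hiso, hmap⟩
    have hdeq : Curv2.deg k X E n = Curv2.deg k X F n := deg_congr k X (asIso f) n
    rw [hdeq]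
    congr 1
    rcases hα0.eq_or_lt with h0 | hpos
    · rw [← h0]; simp
    · have hinj := fibDMap_injective_of_isIso k X I f
      have h3 : Module.finrank k F₁ = Module.finrank k F₁' := by
        rw [← hmap hpos]
        exact (Submodule.equivMapOfInjective _ hinj F₁).finrank_eq
      rw [h3]


/-- Let Y be a smooth proper integral curve (integral, smooth and proper over k, of dimension one) over
an algebraically closed field k, D an effective Cartier divisor on Y with ideal I, and α a real
weight with 0 ≤ α < 1. A generalised parabolic structure on a finite locally free O_Y-module E is a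
k-linear subspace F₁ of H⁰(Y, E ⊗ O_D); its parabolic degree in rank n is deg E + α·dim_k F₁ (deg E
= χ(E) − n·χ(O_Y)); a homomorphism f : E → E' is parabolic when the induced k-linear map H⁰(E ⊗ O_D)
→ H⁰(E' ⊗ O_D) carries F₁ into F₁'; a submodule G → E gets the preimage structure and (E, F₁) is
semistable (stable) when deg(G, preimage) · n ≤ (<) deg(E, F₁) · r for every finite locally free
submodule G of rank r ≥ 1 (with r < n for stability). Let E and F be finite locally free of the same
rank n ≥ 1 with structures F₁ and F₁', and f : E → F a parabolic monomorphism (a monomorphism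
between modules of equal rank, that is, a generic isomorphism). Then the parabolic degree of (E, F₁)
is at most that of (F, F₁'), and equality holds if and only if f is an isomorphism of O_Y-modules
which, when α > 0, also maps F₁ onto F₁'. The published statement asks in the equality case for an
isomorphism of generalised parabolic bundles (an isomorphism of modules mapping F₁ onto F₁') at
every weight 0 ≤ α < 1; at α = 0 this fails, since the identity of O_Y, from the zero structure to
all of H⁰(O_D) with D a single point, has equal parabolic degrees on both sides without being one,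
while the published proof shows only that the cokernel vanishes; so the condition on F₁ is asked
here only for α > 0. The published statement is also set on the normalisation of a singular curve
with D lying over its singular points; neither is used. -/
theorem result (k : Type u) [Field k] [IsAlgClosed k] (X : Scheme.{u}) [X.Over (Spec (CommRingCat.of k))]
    [AlgebraicGeometry.IsIntegral X] [IsProper (X ↘ Spec (CommRingCat.of k))] [Smooth (X ↘ Spec (CommRingCat.of k))]
    (hdim : topologicalKrullDim X = 1)
    (I : X.IdealSheafData) (hD : FGA.IsEffCartier I) (α : ℝ) (hα0 : 0 ≤ α) (hα1 : α < 1)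
    {E F : X.Modules} (n : ℕ) (hn : 0 < n) (hE : FlatMod.IsFinLocFreeOfRank n E) (hF : FlatMod.IsFinLocFreeOfRank n F)
    (F₁ : Submodule k (ParSh.fibD X I E)) (F₁' : Submodule k (ParSh.fibD X I F))
    (f : E ⟶ F) [Mono f] (hf : ParSh.IsGPHom k X I F₁ F₁' f) :
    ParSh.gpDeg k X α E F₁ n ≤ ParSh.gpDeg k X α F F₁' n ∧
      (ParSh.gpDeg k X α E F₁ n = ParSh.gpDeg k X α F F₁' n ↔
        (IsIso f ∧ (0 < α → Submodule.map (ParSh.fibDMap k X I f) F₁ = F₁'))) := by
  exact result' k X hdim I hD α hα0 hα1 n hn hE hF F₁ F₁' f hf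

end Groth.Agent.S18564
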