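import Groth.Statements.S18566
import Groth.Agent.Lib.GPHom97b
import Groth.Agent.Lib.CurveVB67L
import Groth.Agent.Lib.SmoothStalkRegular45
import Groth.Agent.S0002
import Mathlib
-- import your own Groth.Agent.* helpers here

set_option autoImplicit false
universe u
open CategoryTheory CategoryTheory.Limits AlgebraicGeometry
open ParSh

namespace Groth.Agent.S18566

/-- Let Y be a smooth proper integral curve (integral, smooth and proper over k, of dimension one) over
an algebraically closed field k, D an effective Cartier divisor on Y with ideal I, and α a real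
weight with 0 ≤ α < 1. A generalised parabolic structure on a finite locally free O_Y-module E is a
k-linear subspace F₁ of H⁰(Y, E ⊗ O_D); its parabolic degree in rank n is deg E + α·dim_k F₁ (deg E
= χ(E) − n·χ(O_Y)); a homomorphism f : E → E' is parabolic when the induced k-linear map H⁰(E ⊗ O_D)
→ H⁰(E' ⊗ O_D) carries F₁ into F₁'; a submodule G → E gets the preimage structure and (E, F₁) is
semistable (stable) when deg(G, preimage) · n ≤ (<) deg(E, F₁) · r for every finite locally free
submodule G of rank r ≥ 1 (with r < n for stability). Let (E, F₁) and (F, F₁') be semistable and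
stable of ranks n ≥ 1 and m ≥ 1 with the same parabolic slope, pardeg(E, F₁)·m = pardeg(F, F₁')·n,
and let f : E → F be a parabolic homomorphism. Then either f = 0 or f is an isomorphism of
O_Y-modules which, when α > 0, maps F₁ onto F₁'. The published statement concludes an isomorphism of
generalised parabolic bundles (an isomorphism of modules mapping F₁ onto F₁') at every weight 0 ≤ α
< 1; at α = 0 this fails, since the identity of O_Y, from the zero structure to all of H⁰(O_D) with
D a single point, is a nonzero parabolic map between stable rank-one objects of equal slope that is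
not one; so the condition on F₁ is asked here only for α > 0. The published statement is also set on
the normalisation of a singular curve with D lying over its singular points; neither is used. -/
theorem result (k : Type u) [Field k] [IsAlgClosed k] (X : Scheme.{u}) [X.Over (Spec (CommRingCat.of k))]
    [AlgebraicGeometry.IsIntegral X] [IsProper (X ↘ Spec (CommRingCat.of k))] [Smooth (X ↘ Spec (CommRingCat.of k))]
    (hdim : topologicalKrullDim X = 1)
    (I : X.IdealSheafData) (hD : FGA.IsEffCartier I) (α : ℝ) (hα0 : 0 ≤ α) (hα1 : α < 1)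
    {E F : X.Modules} (n m : ℕ) (hn : 0 < n) (hm : 0 < m)
    (hE : FlatMod.IsFinLocFreeOfRank n E) (hF : FlatMod.IsFinLocFreeOfRank m F)
    (F₁ : Submodule k (ParSh.fibD X I E)) (F₁' : Submodule k (ParSh.fibD X I F))
    (hEss : ParSh.IsGPSemistable k X I α F₁ n) (hEst : ParSh.IsGPStable k X I α F₁ n)
    (hFss : ParSh.IsGPSemistable k X I α F₁' m) (hFst : ParSh.IsGPStable k X I α F₁' m)
    (hμ : ParSh.gpDeg k X α E F₁ n * (m : ℝ) = ParSh.gpDeg k X α F F₁' m * (n : ℝ))
    (f : E ⟶ F) (hf : ParSh.IsGPHom k X I F₁ F₁' f) :
    f = 0 ∨ (IsIso f ∧ (0 < α → Submodule.map (ParSh.fibDMap k X I f) F₁ = F₁')) := by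
  have H : Groth.Agent.Lib.ProperFinHyp.Hyp.{u} := fun A _ _ X _ _ M hM n =>
    Groth.Agent.S0002.result A X M hM n
  have hpid := Groth.Agent.Lib.CurveVB67.hpid_of_regular X hdim.le (fun x =>
    Groth.Agent.Lib.SmoothStalkRegular45.isRegularLocalRing_stalk_of_smooth_field k
      (X ↘ Spec (CommRingCat.of k)) x)
  by_cases hf0 : f = 0
  · exact Or.inl hf0
  · right
    obtain ⟨s, hs, hsm, hcok, hmono, hfull⟩ := Groth.Agent.Lib.GPHom97.core H k X hpid hdim I hD α hα0 hα1
      n m hn hm hE hF F₁ F₁' hEss hFss hμ f hf hf0
    have hM : Mono f := hmono hEst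
    have hsm' : s = m := hfull hFst
    rw [hsm', Nat.sub_self] at hcok
    have hnoeth := Groth.Agent.Lib.CurveVB67.isLocallyNoetherian_of_proper k X
    have hz : IsZero (cokernel f) :=
      Groth.Agent.Lib.CurveVB67.isZero_of_tf_of_rk_eq_zero hpid
        (Groth.Agent.Lib.CurveVB67.isCoh_of_rank hcok)
        (Groth.Agent.Lib.CurveVB67.tf_of_isFinLocFree
          (Groth.Agent.Lib.CurveVB67.isFinLocFree_of_rank hcok))
        (Groth.Agent.Lib.CurveVB67.eq_rk_of_isFinLocFreeOfRank hcok).symm
    have hEpi : Epi f := Preadditive.epi_of_isZero_cokernel f hz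
    have hiso : IsIso f := isIso_of_mono_of_epi f
    refine ⟨hiso, fun hα => ?_⟩
    have hnm : n = m := by
      rw [Groth.Agent.Lib.CurveVB67.eq_rk_of_isFinLocFreeOfRank hE,
        Groth.Agent.Lib.CurveVB67.eq_rk_of_isFinLocFreeOfRank hF]
      exact Groth.Agent.Lib.CurveVB67.rk_congr (asIso f)
    subst hnm
    have hdeg : Curv2.deg k X E n = Curv2.deg k X F n :=
      Groth.Agent.Lib.CurveVB67.deg_congr k X (asIso f) n
    have hnR : (0 : ℝ) < (n : ℝ) := by exact_mod_cast hn
    have hgp : ParSh.gpDeg k X α E F₁ n = ParSh.gpDeg k X α F F₁' n :=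
      mul_right_cancel₀ hnR.ne' hμ
    unfold ParSh.gpDeg ParSh.gpWt at hgp
    rw [hdeg] at hgp
    have hfr : (Module.finrank k F₁ : ℝ) = (Module.finrank k F₁' : ℝ) := by
      have h1 : α * (Module.finrank k F₁ : ℝ) = α * (Module.finrank k F₁' : ℝ) := by linarith
      exact mul_left_cancel₀ hα.ne' h1
    have hfr' : Module.finrank k F₁ = Module.finrank k F₁' := by exact_mod_cast hfr
    have hEc := Groth.Agent.Lib.CurveVB67.isCoh_of_rank hE
    have hFc := Groth.Agent.Lib.CurveVB67.isCoh_of_rank hF
    haveI fE : Module.Finite k (ParSh.fibD X I E) := Groth.Agent.Lib.GPHom97.finite_fibD H k X I hEc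
    haveI fF : Module.Finite k (ParSh.fibD X I F) := Groth.Agent.Lib.GPHom97.finite_fibD H k X I hFc
    have hinj := Groth.Agent.Lib.GPHom97.fibDMap_injective_of_isIso k X I f
    have hmapfr : Module.finrank k (Submodule.map (ParSh.fibDMap k X I f) F₁) = Module.finrank k F₁ :=
      (Submodule.equivMapOfInjective _ hinj F₁).finrank_eq.symm
    exact Submodule.eq_of_le_of_finrank_eq hf (by rw [hmapfr, hfr'])

end Groth.Agent.S18566
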