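import Groth.Statements.S18568
import Groth.Agent.Lib.SemilocalFree
import Groth.Agent.Lib.ModStalkLin
import Groth.Agent.Lib.CohFinite
import Groth.Agent.Lib.H90InvertibleFP

set_option autoImplicit false
universe u
open CategoryTheory CategoryTheory.Limits AlgebraicGeometry
open ParSh

namespace Groth.Agent.S18568


/-- ranks of locally free submodules are bounded by the rank of the ambient module
(copy of `CurveVB54b.rank_le_of_mono` with a lighter import closure) -/
theorem rank_le_of_mono {X : Scheme.{u}} [Nonempty X] {F E : X.Modules} {r' r : ℕ}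
    (hF : FlatMod.IsFinLocFreeOfRank r' F)
    (hE : FlatMod.IsFinLocFreeOfRank r E) (i : F ⟶ E) [Mono i] : r' ≤ r := by
  obtain ⟨x⟩ := ‹Nonempty X›
  obtain ⟨U₁, hx₁, ⟨e₁⟩⟩ := hF x
  obtain ⟨U₂, hx₂, ⟨e₂⟩⟩ := hE x
  have r₁ := Groth.Agent.Lib.SemilocalFree.finrank_stalk_eq_of_restrict_iso U₁ e₁ ⟨x, hx₁⟩
  have r₂ := Groth.Agent.Lib.SemilocalFree.finrank_stalk_eq_of_restrict_iso U₂ e₂ ⟨x, hx₂⟩
  have hEf : FlatMod.IsFinLocFree E := fun x => by
    obtain ⟨U, hxU, h'⟩ := hE x
    exact ⟨U, _, hxU, h'⟩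
  have hEc := Groth.Agent.Lib.H90Invertible.isCoh_of_isFinLocFree hEf
  have g₂ := Groth.Agent.Lib.CohFinite.finite_stalk_of_isCoh _ hEc x
  have hinj := Groth.Agent.Lib.ModStalkLin.stalkLin_injective_of_mono i x
  have := LinearMap.finrank_le_finrank_of_injective hinj
  rw [← r₁, ← r₂]
  exact this

/-- numerical core of S18568 -/
theorem num_ss (α : ℝ) (hα1 : α < 1) (d n r : ℕ) (hd : 0 < d) (hn : 2 ≤ n) (hr : 0 < r)
    (hrn : r ≤ n) (hα : 1 - 1 / ((d : ℝ) * (n : ℝ) * ((n : ℝ) - 1)) < α)
    (δG δE : ℤ) (fG fE : ℕ) (hfG : fG ≤ r * d)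
    (h : ((δG : ℝ) + α * (fG : ℝ)) * (n : ℝ) ≤ ((δE : ℝ) + α * (fE : ℝ)) * (r : ℝ)) :
    ((δG : ℝ) + 1 * (fG : ℝ)) * (n : ℝ) ≤ ((δE : ℝ) + 1 * (fE : ℝ)) * (r : ℝ) := by
  have hn' : (2 : ℝ) ≤ n := by exact_mod_cast hn
  have hd' : (1 : ℝ) ≤ d := by exact_mod_cast hd
  have hr' : (1 : ℝ) ≤ r := by exact_mod_cast hr
  have hrn' : (r : ℝ) ≤ n := by exact_mod_cast hrn
  have hn1 : (0 : ℝ) < (n : ℝ) - 1 := by linarith
  have hpos : 0 < (d : ℝ) * (n : ℝ) * ((n : ℝ) - 1) := by
    apply mul_pos (mul_pos (by linarith) (by linarith)) hn1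
  have hkey : (1 - α) * ((d : ℝ) * n * (n - 1)) < 1 := by
    have : 1 - α < 1 / ((d : ℝ) * n * (n - 1)) := by linarith
    calc (1 - α) * ((d : ℝ) * n * (n - 1)) < 1 / ((d : ℝ) * n * (n - 1)) * ((d : ℝ) * n * (n - 1)) :=
          mul_lt_mul_of_pos_right this hpos
      _ = 1 := div_mul_cancel₀ 1 hpos.ne' 
  have hfG' : (fG : ℝ) ≤ r * d := by exact_mod_cast hfG
  have hfE' : (0 : ℝ) ≤ fE := by positivity
  have hfG0 : (0 : ℝ) ≤ fG := by positivity
  have h1α : 0 < 1 - α := by linarith
  -- reduce to an integer inequality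
  have hint : (δG + fG) * n ≤ (δE + fE) * r := by
    by_contra hcon
    push Not at hcon
    have hcon' : ((δE : ℝ) + fE) * r + 1 ≤ ((δG : ℝ) + fG) * n := by
      have : (δE + fE) * r + 1 ≤ (δG + fG) * (n : ℤ) := by omega
      exact_mod_cast this
    rcases Nat.lt_or_ge r n with hlt | hge
    · -- r ≤ n - 1
      have hr1 : (r : ℝ) ≤ n - 1 := by
        have : r + 1 ≤ n := hlt
        have : ((r + 1 : ℕ) : ℝ) ≤ n := by exact_mod_cast this
        push_cast at this; linarith
      have hb : (1 - α) * ((fG : ℝ) * n) ≤ (1 - α) * ((d : ℝ) * n * (n - 1)) := by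
        apply mul_le_mul_of_nonneg_left _ h1α.le
        have : (fG : ℝ) * n ≤ (r * d) * n := mul_le_mul_of_nonneg_right hfG' (by positivity)
        have h2 : ((r : ℝ) * d) * n ≤ ((n - 1) * d) * n :=
          mul_le_mul_of_nonneg_right (mul_le_mul_of_nonneg_right hr1 (by positivity)) (by positivity)
        nlinarith
      have hc : (1 - α) * ((fE : ℝ) * r) ≥ 0 := by positivity
      nlinarith
    · have hrn_eq : r = n := le_antisymm hrn hge
      subst hrn_eq
      have hr0 : (0 : ℝ) < r := by linarith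
      have h' : (δG : ℝ) + α * fG ≤ δE + α * fE := le_of_mul_le_mul_right h hr0
      have hcon'' : (δE : ℝ) + fE + 1 / r ≤ δG + fG := by
        have : ((δE : ℝ) + fE + 1 / r) * r ≤ ((δG : ℝ) + fG) * r := by
          have : ((δE : ℝ) + fE + 1 / r) * r = ((δE : ℝ) + fE) * r + 1 := by field_simp
          linarith
        exact le_of_mul_le_mul_right this hr0
      -- integer version: δE + fE + 1 ≤ δG + fG
      have hcI : δE + fE + 1 ≤ δG + fG := by
        by_contra hne
        push Not at hne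
        have : δG + fG ≤ δE + fE := by omega
        have : ((δG : ℝ) + fG) ≤ δE + fE := by exact_mod_cast this
        have : (0 : ℝ) < 1 / r := by positivity
        linarith
      have hcR : (δE : ℝ) + fE + 1 ≤ δG + fG := by exact_mod_cast hcI
      have hb : (1 - α) * (fG : ℝ) ≤ (1 - α) * ((d : ℝ) * r * (r - 1)) := by
        apply mul_le_mul_of_nonneg_left _ h1α.le
        have : (fG : ℝ) ≤ r * d := hfG'
        have h3 : (r : ℝ) * d ≤ d * r * (r - 1) := by nlinarith
        linarith
      have hc : (1 - α) * (fE : ℝ) ≥ 0 := by positivity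
      nlinarith
  have : (((δG + fG) * n : ℤ) : ℝ) ≤ (((δE + fE) * r : ℤ) : ℝ) := by exact_mod_cast hint
  push_cast at this
  linarith

theorem result' (k : Type u) [Field k] [IsAlgClosed k] (X : Scheme.{u}) [X.Over (Spec (CommRingCat.of k))]
    [AlgebraicGeometry.IsIntegral X] [IsProper (X ↘ Spec (CommRingCat.of k))] [Smooth (X ↘ Spec (CommRingCat.of k))]
    (hdim : topologicalKrullDim X = 1)
    (I : X.IdealSheafData) (hD : FGA.IsEffCartier I) (d : ℕ) (hd : 0 < d)
    (hdegD : ∀ (G : X.Modules) (r : ℕ), FlatMod.IsFinLocFreeOfRank r G → Module.finrank k (ParSh.fibD X I G) = r * d)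
    {E : X.Modules} (n : ℕ) (hn : 2 ≤ n) (hE : FlatMod.IsFinLocFreeOfRank n E)
    (F₁ : Submodule k (ParSh.fibD X I E))
    (α : ℝ) (hα0 : 0 ≤ α) (hα1 : α < 1) (hα : 1 - 1 / ((d : ℝ) * (n : ℝ) * ((n : ℝ) - 1)) < α)
    (hss : ParSh.IsGPSemistable k X I α F₁ n) :
    ParSh.IsGPSemistable k X I 1 F₁ n := by
  intro F r' i hi hr' hF
  have h := hss F r' i hi hr' hF
  have hrn : r' ≤ n := rank_le_of_mono hF hE i
  have hfin : Module.finrank k (ParSh.fibD X I F) = r' * d := hdegD F r' hF
  haveI : Module.Finite k (ParSh.fibD X I F) := by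
    apply Module.finite_of_finrank_pos
    rw [hfin]; positivity
  have hfG : Module.finrank k (ParSh.gpInduced k X I i F₁) ≤ r' * d := by
    rw [← hfin]
    exact Submodule.finrank_le _
  unfold ParSh.gpDeg ParSh.gpWt at h ⊢
  exact num_ss α hα1 d n r' hd hn hr' hrn hα _ _ _ _ hfG h


/-- Let Y be a smooth proper integral curve (integral, smooth and proper over k, of dimension one) over
an algebraically closed field k and D an effective Cartier divisor on Y with ideal I, of degree d ≥
1 in the sense that H⁰(Y, G ⊗ O_D) has k-dimension r·d for every finite locally free G of rank r. A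
generalised parabolic structure on a finite locally free E is a k-subspace F₁ of H⁰(E ⊗ O_D); with
weight α its parabolic degree in rank n is deg E + α·dim_k F₁ (deg E = χ(E) − n·χ(O_Y)); a submodule
G → E carries the preimage structure under H⁰(G ⊗ O_D) → H⁰(E ⊗ O_D), and (E, F₁) is α-semistable
(α-stable) when deg_α(G)·n ≤ (<) deg_α(E)·r for every finite locally free submodule G of rank r ≥ 1
(with r < n for stability); weight α = 1 gives 1-semistability and 1-stability. Let E have rank n ≥
2 with structure F₁ and let 0 ≤ α < 1 satisfy 1 − 1/(d·n·(n−1)) < α. If (E, F₁) is α-semistable then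
it is 1-semistable. The published statement is set on the normalisation of a singular curve, with
structures over several disjoint divisors D_i lying over its singular points and d their total
degree; here Y is any smooth proper integral curve with one structure over one divisor, which
contains the several-divisor case (D the sum of the D_i, F₁ the direct sum of the F₁^i). -/
theorem result (k : Type u) [Field k] [IsAlgClosed k] (X : Scheme.{u}) [X.Over (Spec (CommRingCat.of k))]
    [AlgebraicGeometry.IsIntegral X] [IsProper (X ↘ Spec (CommRingCat.of k))] [Smooth (X ↘ Spec (CommRingCat.of k))]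
    (hdim : topologicalKrullDim X = 1)
    (I : X.IdealSheafData) (hD : FGA.IsEffCartier I) (d : ℕ) (hd : 0 < d)
    (hdegD : ∀ (G : X.Modules) (r : ℕ), FlatMod.IsFinLocFreeOfRank r G → Module.finrank k (ParSh.fibD X I G) = r * d)
    {E : X.Modules} (n : ℕ) (hn : 2 ≤ n) (hE : FlatMod.IsFinLocFreeOfRank n E)
    (F₁ : Submodule k (ParSh.fibD X I E))
    (α : ℝ) (hα0 : 0 ≤ α) (hα1 : α < 1) (hα : 1 - 1 / ((d : ℝ) * (n : ℝ) * ((n : ℝ) - 1)) < α)
    (hss : ParSh.IsGPSemistable k X I α F₁ n) :
    ParSh.IsGPSemistable k X I 1 F₁ n := by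
  exact result' k X hdim I hD d hd hdegD n hn hE F₁ α hα0 hα1 hα hss

end Groth.Agent.S18568
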