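import Groth.Statements.S18569
import Mathlib.Tactic

set_option autoImplicit false
universe u
open CategoryTheory CategoryTheory.Limits AlgebraicGeometry
open ParSh

namespace Groth.Agent.S18569


/-- numerical core of S18569 -/
theorem num_st (α : ℝ) (hα1 : α < 1) (d n r : ℕ) (hd : 0 < d) (hn : 2 ≤ n) (hr : 0 < r)
    (hrn : r < n) (hα : 1 - 1 / ((d : ℝ) * (n : ℝ) * ((n : ℝ) - 1)) < α)
    (δG δE : ℤ) (fG fE : ℕ) (hfE : fE ≤ n * d)
    (h : ((δG : ℝ) + 1 * (fG : ℝ)) * (n : ℝ) < ((δE : ℝ) + 1 * (fE : ℝ)) * (r : ℝ)) :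
    ((δG : ℝ) + α * (fG : ℝ)) * (n : ℝ) < ((δE : ℝ) + α * (fE : ℝ)) * (r : ℝ) := by
  have hn' : (2 : ℝ) ≤ n := by exact_mod_cast hn
  have hd' : (1 : ℝ) ≤ d := by exact_mod_cast hd
  have hr' : (1 : ℝ) ≤ r := by exact_mod_cast hr
  have hn1 : (0 : ℝ) < (n : ℝ) - 1 := by linarith
  have hpos : 0 < (d : ℝ) * (n : ℝ) * ((n : ℝ) - 1) := by
    apply mul_pos (mul_pos (by linarith) (by linarith)) hn1
  have hkey : (1 - α) * ((d : ℝ) * n * (n - 1)) < 1 := by
    have : 1 - α < 1 / ((d : ℝ) * n * (n - 1)) := by linarith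
    calc (1 - α) * ((d : ℝ) * n * (n - 1)) < 1 / ((d : ℝ) * n * (n - 1)) * ((d : ℝ) * n * (n - 1)) :=
          mul_lt_mul_of_pos_right this hpos
      _ = 1 := div_mul_cancel₀ 1 hpos.ne'
  have hfE' : (fE : ℝ) ≤ n * d := by exact_mod_cast hfE
  have hfE0 : (0 : ℝ) ≤ fE := by positivity
  have hfG0 : (0 : ℝ) ≤ fG := by positivity
  have h1α : 0 < 1 - α := by linarith
  have hr1 : (r : ℝ) ≤ n - 1 := by
    have : r + 1 ≤ n := hrn
    have : ((r + 1 : ℕ) : ℝ) ≤ n := by exact_mod_cast this
    push_cast at this; linarith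
  -- integer form of the hypothesis
  have hint : (δG + fG) * n + 1 ≤ (δE + fE) * r := by
    have : (((δG + fG) * n : ℤ) : ℝ) < (((δE + fE) * r : ℤ) : ℝ) := by
      push_cast; linarith
    have : (δG + fG) * (n : ℤ) < (δE + fE) * r := by exact_mod_cast this
    omega
  have hintR : ((δG : ℝ) + fG) * n + 1 ≤ ((δE : ℝ) + fE) * r := by exact_mod_cast hint
  have hb : (1 - α) * ((fE : ℝ) * r) ≤ (1 - α) * ((d : ℝ) * n * (n - 1)) := by
    apply mul_le_mul_of_nonneg_left _ h1α.le
    have h1 : (fE : ℝ) * r ≤ (n * d) * r := mul_le_mul_of_nonneg_right hfE' (by positivity)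
    have h2 : ((n : ℝ) * d) * r ≤ (n * d) * (n - 1) :=
      mul_le_mul_of_nonneg_left hr1 (by positivity)
    nlinarith
  have hc : (1 - α) * ((fG : ℝ) * n) ≥ 0 := by positivity
  nlinarith

theorem result' (k : Type u) [Field k] [IsAlgClosed k] (X : Scheme.{u}) [X.Over (Spec (CommRingCat.of k))]
    [AlgebraicGeometry.IsIntegral X] [IsProper (X ↘ Spec (CommRingCat.of k))] [Smooth (X ↘ Spec (CommRingCat.of k))]
    (hdim : topologicalKrullDim X = 1)
    (I : X.IdealSheafData) (hD : FGA.IsEffCartier I) (d : ℕ) (hd : 0 < d)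
    (hdegD : ∀ (G : X.Modules) (r : ℕ), FlatMod.IsFinLocFreeOfRank r G → Module.finrank k (ParSh.fibD X I G) = r * d)
    {E : X.Modules} (n : ℕ) (hn : 2 ≤ n) (hE : FlatMod.IsFinLocFreeOfRank n E)
    (F₁ : Submodule k (ParSh.fibD X I E))
    (α : ℝ) (hα0 : 0 ≤ α) (hα1 : α < 1) (hα : 1 - 1 / ((d : ℝ) * (n : ℝ) * ((n : ℝ) - 1)) < α)
    (hst : ParSh.IsGPStable k X I 1 F₁ n) :
    ParSh.IsGPStable k X I α F₁ n := by
  intro F r' i hi hr' hr'n hF
  have h := hst F r' i hi hr' hr'n hF
  have hfin : Module.finrank k (ParSh.fibD X I E) = n * d := hdegD E n hE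
  haveI : Module.Finite k (ParSh.fibD X I E) := by
    apply Module.finite_of_finrank_pos
    rw [hfin]; positivity
  have hfE : Module.finrank k F₁ ≤ n * d := by
    rw [← hfin]
    exact Submodule.finrank_le _
  unfold ParSh.gpDeg ParSh.gpWt at h ⊢
  exact num_st α hα1 d n r' hd hn hr' hr'n hα _ _ _ _ hfE h


/-- Let Y be a smooth proper integral curve (integral, smooth and proper over k, of dimension one) over
an algebraically closed field k and D an effective Cartier divisor on Y with ideal I, of degree d ≥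
1 in the sense that H⁰(Y, G ⊗ O_D) has k-dimension r·d for every finite locally free G of rank r. A
generalised parabolic structure on a finite locally free E is a k-subspace F₁ of H⁰(E ⊗ O_D); with
weight α its parabolic degree in rank n is deg E + α·dim_k F₁ (deg E = χ(E) − n·χ(O_Y)); a submodule
G → E carries the preimage structure under H⁰(G ⊗ O_D) → H⁰(E ⊗ O_D), and (E, F₁) is α-semistable
(α-stable) when deg_α(G)·n ≤ (<) deg_α(E)·r for every finite locally free submodule G of rank r ≥ 1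
(with r < n for stability); weight α = 1 gives 1-semistability and 1-stability. Let E have rank n ≥
2 with structure F₁ and let 0 ≤ α < 1 satisfy 1 − 1/(d·n·(n−1)) < α. If (E, F₁) is 1-stable then it
is α-stable. The published statement is set on the normalisation of a singular curve, with
structures over several disjoint divisors D_i lying over its singular points and d their total
degree; here Y is any smooth proper integral curve with one structure over one divisor, which
contains the several-divisor case (D the sum of the D_i, F₁ the direct sum of the F₁^i). -/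
theorem result (k : Type u) [Field k] [IsAlgClosed k] (X : Scheme.{u}) [X.Over (Spec (CommRingCat.of k))]
    [AlgebraicGeometry.IsIntegral X] [IsProper (X ↘ Spec (CommRingCat.of k))] [Smooth (X ↘ Spec (CommRingCat.of k))]
    (hdim : topologicalKrullDim X = 1)
    (I : X.IdealSheafData) (hD : FGA.IsEffCartier I) (d : ℕ) (hd : 0 < d)
    (hdegD : ∀ (G : X.Modules) (r : ℕ), FlatMod.IsFinLocFreeOfRank r G → Module.finrank k (ParSh.fibD X I G) = r * d)
    {E : X.Modules} (n : ℕ) (hn : 2 ≤ n) (hE : FlatMod.IsFinLocFreeOfRank n E)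
    (F₁ : Submodule k (ParSh.fibD X I E))
    (α : ℝ) (hα0 : 0 ≤ α) (hα1 : α < 1) (hα : 1 - 1 / ((d : ℝ) * (n : ℝ) * ((n : ℝ) - 1)) < α)
    (hst : ParSh.IsGPStable k X I 1 F₁ n) :
    ParSh.IsGPStable k X I α F₁ n := by
  exact result' k X hdim I hD d hd hdegD n hn hE F₁ α hα0 hα1 hα hst

end Groth.Agent.S18569
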