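import Groth.Statements.S18570
import Groth.Agent.S18568
import Groth.Agent.S18569
import Groth.Agent.Lib.GPKer2
import Groth.Agent.S0002
import Mathlib.Tactic

set_option autoImplicit false
universe u
open CategoryTheory CategoryTheory.Limits AlgebraicGeometry
open ParSh

namespace Groth.Agent.S18570


/-- numerical core: semistable at weight one with coprime rank and degree and `dim F₁ = a n` is strict below rank `n` -/
theorem num_strict (n r : ℕ) (hr : 0 < r) (hrn : r < n) (δG δE : ℤ) (fG a : ℕ)
    (hcop : IsCoprime (n : ℤ) δE)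
    (h : ((δG : ℝ) + 1 * (fG : ℝ)) * (n : ℝ) ≤ ((δE : ℝ) + 1 * ((a * n : ℕ) : ℝ)) * (r : ℝ)) :
    ((δG : ℝ) + 1 * (fG : ℝ)) * (n : ℝ) < ((δE : ℝ) + 1 * ((a * n : ℕ) : ℝ)) * (r : ℝ) := by
  rcases lt_or_eq_of_le h with h | h
  · exact h
  · exfalso
    have hint : (δG + fG) * n = (δE + a * n) * r := by
      have : (((δG + fG) * n : ℤ) : ℝ) = (((δE + a * n) * r : ℤ) : ℝ) := by
        push_cast at h ⊢; linarith
      exact_mod_cast this
    have hdvd : (n : ℤ) ∣ δE * r := by
      refine ⟨δG + fG - a * r, ?_⟩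
      linear_combination -hint
    have hdvd' : (n : ℤ) ∣ (r : ℤ) := hcop.dvd_of_dvd_mul_left hdvd
    have hle : (n : ℤ) ≤ r := Int.le_of_dvd (by exact_mod_cast hr) hdvd'
    have : n ≤ r := by exact_mod_cast hle
    omega

/-- the preimage of a subspace has dimension at most that of the kernel plus that of the subspace -/
theorem finrank_comap_le {k : Type u} [Field k] {V W : Type u} [AddCommGroup V] [Module k V]
    [AddCommGroup W] [Module k W] [Module.Finite k V] [Module.Finite k W] (φ : V →ₗ[k] W)
    (P : Submodule k W) :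
    Module.finrank k (P.comap φ) ≤ Module.finrank k (LinearMap.ker φ) + Module.finrank k P := by
  have h1 := LinearMap.finrank_range_add_finrank_ker (φ.domRestrict (P.comap φ))
  have h2 : Module.finrank k (LinearMap.range (φ.domRestrict (P.comap φ))) ≤ Module.finrank k P := by
    apply Submodule.finrank_mono
    rintro _ ⟨x, rfl⟩
    exact x.2
  have hle : LinearMap.ker φ ≤ P.comap φ := fun x hx => by
    rw [Submodule.mem_comap, LinearMap.mem_ker.mp hx]; exact P.zero_mem
  have h3 : Module.finrank k (LinearMap.ker (φ.domRestrict (P.comap φ))) =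
      Module.finrank k (LinearMap.ker φ) := by
    rw [LinearMap.ker_domRestrict]
    exact (Submodule.comapSubtypeEquivOfLe hle).finrank_eq
  omega

theorem result' (k : Type u) [Field k] [IsAlgClosed k] (X : Scheme.{u}) [X.Over (Spec (CommRingCat.of k))]
    [AlgebraicGeometry.IsIntegral X] [IsProper (X ↘ Spec (CommRingCat.of k))] [Smooth (X ↘ Spec (CommRingCat.of k))]
    (hdim : topologicalKrullDim X = 1)
    (I : X.IdealSheafData) (hD : FGA.IsEffCartier I) (d : ℕ) (hd : 0 < d)
    (hdegD : ∀ (G : X.Modules) (r : ℕ), FlatMod.IsFinLocFreeOfRank r G → Module.finrank k (ParSh.fibD X I G) = r * d)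
    {E : X.Modules} (n : ℕ) (hn : 2 ≤ n) (hE : FlatMod.IsFinLocFreeOfRank n E)
    (F₁ : Submodule k (ParSh.fibD X I E))
    (α : ℝ) (hα0 : 0 ≤ α) (hα1 : α < 1) (hα : 1 - 1 / ((d : ℝ) * (n : ℝ) * ((n : ℝ) - 1)) < α)
    (hcop : IsCoprime (n : ℤ) (Curv2.deg k X E n)) (a : ℕ) (ha : Module.finrank k F₁ = a * n) :
    (ParSh.IsGPSemistable k X I α F₁ n ↔ ParSh.IsGPSemistable k X I 1 F₁ n) ∧
      (ParSh.IsGPStable k X I α F₁ n ↔ ParSh.IsGPSemistable k X I 1 F₁ n) ∧
      (ParSh.IsGPStable k X I 1 F₁ n ↔ ParSh.IsGPSemistable k X I 1 F₁ n) := by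
  have H : Groth.Agent.Lib.ProperFinHyp.Hyp.{u} :=
    fun A _ _ X _ _ M hM n => Groth.Agent.S0002.result A X M hM n
  have hn0 : 0 < n := by omega
  -- (A) α-semistable ⇒ 1-semistable
  have hA : ParSh.IsGPSemistable k X I α F₁ n → ParSh.IsGPSemistable k X I 1 F₁ n :=
    Groth.Agent.S18568.result k X hdim I hD d hd hdegD n hn hE F₁ α hα0 hα1 hα
  -- (C) 1-stable ⇒ α-stable
  have hC : ParSh.IsGPStable k X I 1 F₁ n → ParSh.IsGPStable k X I α F₁ n :=
    Groth.Agent.S18569.result k X hdim I hD d hd hdegD n hn hE F₁ α hα0 hα1 hα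
  -- (B) 1-semistable ⇒ 1-stable
  have hB : ParSh.IsGPSemistable k X I 1 F₁ n → ParSh.IsGPStable k X I 1 F₁ n := by
    intro hss F r' i hi hr' hr'n hF
    have h := hss F r' i hi hr' hF
    unfold ParSh.gpDeg ParSh.gpWt at h ⊢
    rw [ha] at h ⊢
    exact num_strict n r' hr' hr'n _ _ _ a hcop h
  -- (D) stable ⇒ semistable, for any weight `0 ≤ β ≤ 1`
  have hDD : ∀ β : ℝ, 0 ≤ β → β ≤ 1 → ParSh.IsGPStable k X I β F₁ n →
      ParSh.IsGPSemistable k X I β F₁ n := by
    intro β hβ0 hβ1 hst F r' i hi hr' hF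
    have hrn : r' ≤ n := Groth.Agent.S18568.rank_le_of_mono hF hE i
    rcases Nat.lt_or_ge r' n with hlt | hge
    · exact (hst F r' i hi hr' hlt hF).le
    · have hrr : r' = n := le_antisymm hrn hge
      subst hrr
      have hfinF : Module.finrank k (ParSh.fibD X I F) = r' * d := hdegD F r' hF
      have hfinE : Module.finrank k (ParSh.fibD X I E) = r' * d := hdegD E r' hE
      haveI : Module.Finite k (ParSh.fibD X I F) := by
        apply Module.finite_of_finrank_pos
        rw [hfinF]; positivity
      have hker := Groth.Agent.Lib.GPKer2.finrank_ker_fibDMap_le H k X (le_of_eq hdim) I hD r' hF hE i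
      rw [hfinF, hfinE] at hker
      haveI : Module.Finite k (ParSh.fibD X I E) := by
        apply Module.finite_of_finrank_pos
        rw [hfinE]; positivity
      -- `dim (comap) ≤ dim ker + dim F₁`
      have hcomap : Module.finrank k (ParSh.gpInduced k X I i F₁) ≤
          Module.finrank k (LinearMap.ker (ParSh.fibDMap k X I i)) + Module.finrank k F₁ :=
        finrank_comap_le (ParSh.fibDMap k X I i) F₁
      unfold ParSh.gpDeg ParSh.gpWt
      have hr0 : (0 : ℝ) ≤ (r' : ℝ) := by positivity
      apply mul_le_mul_of_nonneg_right _ hr0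
      set κ := Module.finrank k (LinearMap.ker (ParSh.fibDMap k X I i)) with hκ
      have hκ1 : (κ : ℤ) ≤ Curv2.deg k X E r' - Curv2.deg k X F r' := by linarith
      have hκ2 : (κ : ℝ) ≤ (Curv2.deg k X E r' : ℝ) - (Curv2.deg k X F r' : ℝ) := by
        exact_mod_cast hκ1
      have hc : (Module.finrank k (ParSh.gpInduced k X I i F₁) : ℝ) ≤ κ + Module.finrank k F₁ := by
        exact_mod_cast hcomap
      have hκ0 : (0 : ℝ) ≤ κ := by positivity
      nlinarith
  refine ⟨⟨hA, fun h => hDD α hα0 hα1.le (hC (hB h))⟩, ⟨fun h => hA (hDD α hα0 hα1.le h), fun h => hC (hB h)⟩,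
    ⟨fun h => hDD 1 zero_le_one le_rfl h, hB⟩⟩


/-- Let Y be a smooth proper integral curve (integral, smooth and proper over k, of dimension one) over
an algebraically closed field k and D an effective Cartier divisor on Y with ideal I, of degree d ≥
1 in the sense that H⁰(Y, G ⊗ O_D) has k-dimension r·d for every finite locally free G of rank r. A
generalised parabolic structure on a finite locally free E is a k-subspace F₁ of H⁰(E ⊗ O_D); with
weight α its parabolic degree in rank n is deg E + α·dim_k F₁ (deg E = χ(E) − n·χ(O_Y)); a submodule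
G → E carries the preimage structure under H⁰(G ⊗ O_D) → H⁰(E ⊗ O_D), and (E, F₁) is α-semistable
(α-stable) when deg_α(G)·n ≤ (<) deg_α(E)·r for every finite locally free submodule G of rank r ≥ 1
(with r < n for stability); weight α = 1 gives 1-semistability and 1-stability. Let E have rank n ≥
2 with structure F₁ and let 0 ≤ α < 1 satisfy 1 − 1/(d·n·(n−1)) < α. Suppose moreover that n and deg
E are coprime and that dim_k F₁ = a·n is a multiple of n. Then α-semistability, α-stability,
1-semistability and 1-stability of (E, F₁) are all equivalent. The published statement is set on the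
normalisation of a singular curve, with structures over several disjoint divisors D_i lying over its
singular points, d their total degree and each dim F₁^i a multiple of n; here Y is any smooth proper
integral curve with one structure over one divisor and only dim F₁ = a·n is assumed, which contains
the several-divisor case (D the sum of the D_i, F₁ the direct sum of the F₁^i). -/
theorem result (k : Type u) [Field k] [IsAlgClosed k] (X : Scheme.{u}) [X.Over (Spec (CommRingCat.of k))]
    [AlgebraicGeometry.IsIntegral X] [IsProper (X ↘ Spec (CommRingCat.of k))] [Smooth (X ↘ Spec (CommRingCat.of k))]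
    (hdim : topologicalKrullDim X = 1)
    (I : X.IdealSheafData) (hD : FGA.IsEffCartier I) (d : ℕ) (hd : 0 < d)
    (hdegD : ∀ (G : X.Modules) (r : ℕ), FlatMod.IsFinLocFreeOfRank r G → Module.finrank k (ParSh.fibD X I G) = r * d)
    {E : X.Modules} (n : ℕ) (hn : 2 ≤ n) (hE : FlatMod.IsFinLocFreeOfRank n E)
    (F₁ : Submodule k (ParSh.fibD X I E))
    (α : ℝ) (hα0 : 0 ≤ α) (hα1 : α < 1) (hα : 1 - 1 / ((d : ℝ) * (n : ℝ) * ((n : ℝ) - 1)) < α)
    (hcop : IsCoprime (n : ℤ) (Curv2.deg k X E n)) (a : ℕ) (ha : Module.finrank k F₁ = a * n) :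
    (ParSh.IsGPSemistable k X I α F₁ n ↔ ParSh.IsGPSemistable k X I 1 F₁ n) ∧
      (ParSh.IsGPStable k X I α F₁ n ↔ ParSh.IsGPSemistable k X I 1 F₁ n) ∧
      (ParSh.IsGPStable k X I 1 F₁ n ↔ ParSh.IsGPSemistable k X I 1 F₁ n) := by
  exact result' k X hdim I hD d hd hdegD n hn hE F₁ α hα0 hα1 hα hcop a ha

end Groth.Agent.S18570
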