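import Groth.Statements.S18578
import Mathlib
import Groth.Agent.S7767
import Groth.Agent.Lib.RegUFD6

set_option autoImplicit false
universe u
open LogDiff

namespace Groth.Agent.S18578

section Helpers

set_option autoImplicit false

namespace L1
open KaehlerDifferential

section
variable {k K : Type u} [Field k] [Field K] [Algebra k K]

/-- The logarithmic differential. -/
noncomputable def dlog (g : K) : Ω[K⁄k] := g⁻¹ • D k K g

variable (k) in
lemma dlog_mul {g h : K} (hg : g ≠ 0) (hh : h ≠ 0) : dlog (k := k) (g * h) = dlog g + dlog h := by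
  unfold dlog
  rw [Derivation.leibniz, smul_add, smul_smul, smul_smul, add_comm]
  have e1 : (g * h)⁻¹ * h = g⁻¹ := by field_simp
  have e2 : (g * h)⁻¹ * g = h⁻¹ := by field_simp
  rw [e1, e2]

variable (k) in
lemma dlog_one : dlog (k := k) (1 : K) = 0 := by
  unfold dlog
  rw [Derivation.map_one_eq_zero, smul_zero]

variable (k) in
lemma dlog_inv {g : K} (hg : g ≠ 0) : dlog (k := k) g⁻¹ = - dlog g := by
  have h := dlog_mul k hg (inv_ne_zero hg)
  rw [mul_inv_cancel₀ hg, dlog_one] at h
  exact eq_neg_of_add_eq_zero_right h.symm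

variable (k) in
lemma dlog_div {g h : K} (hg : g ≠ 0) (hh : h ≠ 0) : dlog (k := k) (g / h) = dlog g - dlog h := by
  rw [div_eq_mul_inv, dlog_mul k hg (inv_ne_zero hh), dlog_inv k hh, sub_eq_add_neg]

variable (k) in
lemma dlog_pow {g : K} (hg : g ≠ 0) (n : ℕ) : dlog (k := k) (g ^ n) = (n : K) • dlog g := by
  induction n with
  | zero => simp [dlog_one]
  | succ n ih =>
    rw [pow_succ, dlog_mul k (pow_ne_zero n hg) hg, ih]
    push_cast
    rw [add_smul, one_smul]

end

section Decomp

variable {k R K : Type u} [Field k] [CommRing R] [Algebra k R] [Field K] [Algebra R K]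
  [Algebra k K] [IsScalarTower k R K] {r : ℕ} (f : Fin r → R)

/-- The property to be proved. -/
def P (g : K) : Prop :=
  ∃ (v : Rˣ) (b : Fin r → ℤ),
    g⁻¹ • D k K g =
      (algebraMap R K (v : R))⁻¹ • D k K (algebraMap R K (v : R)) +
        ∑ i, ((b i : K) * (algebraMap R K (f i))⁻¹) • D k K (algebraMap R K (f i))

variable (k) in
lemma P_unit (u : Rˣ) : P (k := k) f (algebraMap R K (u : R)) :=
  ⟨u, 0, by simp⟩

variable (k) in
lemma P_gen (i : Fin r) : P (k := k) f (algebraMap R K (f i)) := by
  classical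
  refine ⟨1, fun j => if j = i then 1 else 0, ?_⟩
  rw [Units.val_one, map_one, Derivation.map_one_eq_zero, smul_zero, zero_add,
    Finset.sum_eq_single i]
  · simp
  · intro j _ hj
    simp [hj]
  · intro h; exact absurd (Finset.mem_univ i) h

variable (k) in
lemma P_mul {g h : K} (hg : g ≠ 0) (hh : h ≠ 0) (Pg : P (k := k) f g) (Ph : P (k := k) f h) :
    P (k := k) f (g * h) := by
  obtain ⟨v, b, hv⟩ := Pg
  obtain ⟨v', b', hv'⟩ := Ph
  refine ⟨v * v', b + b', ?_⟩
  have h1 := dlog_mul k hg hh
  unfold dlog at h1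
  have hvne : algebraMap R K (v : R) ≠ 0 := (v.isUnit.map (algebraMap R K)).ne_zero
  have hvne' : algebraMap R K (v' : R) ≠ 0 := (v'.isUnit.map (algebraMap R K)).ne_zero
  have h2 := dlog_mul k hvne hvne'
  unfold dlog at h2
  rw [h1, hv, hv', Units.val_mul, map_mul, h2]
  simp only [Pi.add_apply, Int.cast_add, add_mul, add_smul, Finset.sum_add_distrib]
  abel

variable (k) in
lemma P_inv {g : K} (hg : g ≠ 0) (Pg : P (k := k) f g) : P (k := k) f g⁻¹ := by
  obtain ⟨v, b, hv⟩ := Pg
  refine ⟨v⁻¹, -b, ?_⟩
  have h1 := dlog_inv k hg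
  unfold dlog at h1
  have hvne : algebraMap R K (v : R) ≠ 0 := (v.isUnit.map (algebraMap R K)).ne_zero
  have h2 := dlog_inv k hvne
  unfold dlog at h2
  have h3 : algebraMap R K ((v⁻¹ : Rˣ) : R) = (algebraMap R K (v : R))⁻¹ := by
    refine eq_inv_of_mul_eq_one_left ?_
    rw [← map_mul, ← Units.val_mul, inv_mul_cancel, Units.val_one, map_one]
  rw [h1, hv, h3, h2]
  simp only [Pi.neg_apply, Int.cast_neg, neg_mul, neg_smul, Finset.sum_neg_distrib, neg_add]

variable (k) in
/-- Nonzero elements all of whose prime factors are associated to some `f i` satisfy `P`. -/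
lemma P_of_factors [IsDomain R] [UniqueFactorizationMonoid R]
    (hinj : Function.Injective (algebraMap R K)) (x : R) (hx : x ≠ 0)
    (hfac : ∀ π : R, Prime π → π ∣ x → ∃ i, Associated π (f i)) :
    P (k := k) f (algebraMap R K x) := by
  induction x using UniqueFactorizationMonoid.induction_on_prime with
  | h₁ => exact absurd rfl hx
  | h₂ x hxu => exact P_unit k f hxu.unit
  | h₃ a π ha hπ ih =>
    have hane : a ≠ 0 := ha
    obtain ⟨i, hi⟩ := hfac π hπ (dvd_mul_right π a)
    have iha := ih hane (fun π' hπ' hdvd => hfac π' hπ' (hdvd.mul_left π))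
    obtain ⟨u, hu⟩ := hi.symm
    -- π = f i * u
    have hπP : P (k := k) f (algebraMap R K π) := by
      rw [← hu, map_mul]
      have hfne : f i ≠ 0 := by
        intro h0
        rw [h0, zero_mul] at hu
        exact hπ.ne_zero hu.symm
      exact P_mul k f ((map_ne_zero_iff _ hinj).mpr hfne)
        ((u.isUnit.map (algebraMap R K)).ne_zero) (P_gen k f i) (P_unit k f u)
    rw [map_mul]
    exact P_mul k f ((map_ne_zero_iff _ hinj).mpr hπ.ne_zero)
      ((map_ne_zero_iff _ hinj).mpr hane) hπP iha

end Decomp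

end L1

set_option autoImplicit false

namespace L2
open KaehlerDifferential TensorProduct IsLocalRing

/-- In characteristic zero, the differential of a prime element of an essentially finite type
domain is not divisible by that element. -/
theorem not_D_eq_smul (k R : Type u) [Field k] [CharZero k] [CommRing R] [IsDomain R]
    [Algebra k R] [Algebra.EssFiniteType k R] [IsNoetherianRing R] (π : R) (hπ : Prime π)
    (ω : Ω[R⁄k]) : D k R π ≠ π • ω := by
  intro h
  haveI hP : (Ideal.span {π}).IsPrime := (Ideal.span_singleton_prime hπ.ne_zero).mpr hπ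
  let V := Localization.AtPrime (Ideal.span {π})
  haveI : IsNoetherianRing V :=
    IsLocalization.isNoetherianRing (Ideal.span {π}).primeCompl V inferInstance
  have hle : (Ideal.span {π}).primeCompl ≤ nonZeroDivisors R :=
    Ideal.primeCompl_le_nonZeroDivisors _
  haveI : IsDomain V := IsLocalization.isDomain_localization hle
  haveI : Algebra.EssFiniteType R V :=
    Algebra.EssFiniteType.of_isLocalization V (Ideal.span {π}).primeCompl
  haveI : Algebra.EssFiniteType k V := Algebra.EssFiniteType.comp k R V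
  haveI : Algebra.EssFiniteType k (ResidueField V) :=
    inferInstanceAs (Algebra.EssFiniteType k (V ⧸ maximalIdeal V))
  haveI : Algebra.FormallySmooth k (ResidueField V) := inferInstance
  set πV : V := algebraMap R V π with hπV
  have hmax : maximalIdeal V = Ideal.span {πV} := by
    rw [← Localization.AtPrime.map_eq_maximalIdeal (I := Ideal.span {π}), Ideal.map_span,
      Set.image_singleton]
  have hmem : πV ∈ maximalIdeal V := by
    rw [hmax]; exact Ideal.mem_span_singleton_self _
  -- the image of the relation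
  have h' : D k V πV = πV • KaehlerDifferential.map k k R V ω := by
    have := congrArg (KaehlerDifferential.map k k R V) h
    rw [KaehlerDifferential.map_D, map_smul] at this
    rw [this, algebraMap_smul]
  have h0 : Groth.Agent.S7767.Z2.κ k V ((maximalIdeal V).toCotangent ⟨πV, hmem⟩) = 0 := by
    rw [Groth.Agent.S7767.Z2.κ_apply]
    change (1 : ResidueField V) ⊗ₜ[V] D k V πV = 0
    rw [h', ← TensorProduct.smul_tmul, Algebra.smul_def, mul_one]
    have : algebraMap V (ResidueField V) πV = 0 := (residue_eq_zero_iff _).mpr hmem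
    rw [this, TensorProduct.zero_tmul]
  have h1 : (maximalIdeal V).toCotangent ⟨πV, hmem⟩ = 0 :=
    Groth.Agent.S7767.Z2.κ_injective k V (h0.trans (map_zero _).symm)
  have h1' : πV ∈ maximalIdeal V ^ 2 := (Ideal.toCotangent_eq_zero _ _).mp h1
  rw [hmax, Ideal.span_singleton_pow, Ideal.mem_span_singleton'] at h1'
  obtain ⟨t, ht⟩ := h1'
  have hne : πV ≠ 0 := by
    intro h0
    exact hπ.ne_zero ((IsLocalization.injective V hle) (h0.trans (map_zero _).symm))
  have hunit : t * πV = 1 := by
    have : πV * (t * πV - 1) = 0 := by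
      have : πV * (t * πV - 1) = t * πV ^ 2 - πV := by ring
      rw [this, ht, sub_self]
    rcases mul_eq_zero.mp this with h2 | h2
    · exact absurd h2 hne
    · exact sub_eq_zero.mp h2
  have : IsUnit πV := IsUnit.of_mul_eq_one _ (by rw [mul_comm]; exact hunit)
  exact (IsLocalRing.mem_maximalIdeal _).mp hmem this

/-- Divisibility in a free module over a domain. -/
lemma exists_smul_of_prime {R M : Type u} [CommRing R] [IsDomain R] [AddCommGroup M] [Module R M]
    [Module.Free R M] (π : R) (hπ : Prime π) (c : R) (hc : ¬ π ∣ c) (m n : M)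
    (h : c • m = π • n) : ∃ n' : M, m = π • n' := by
  classical
  let b := Module.Free.chooseBasis R M
  have h1 : ∀ l, π ∣ b.repr m l := by
    intro l
    have h2 := congrArg (fun z => b.repr z l) h
    simp only [map_smul, Finsupp.smul_apply, smul_eq_mul] at h2
    have h3 : π ∣ c * b.repr m l := ⟨_, h2⟩
    exact (hπ.dvd_or_dvd h3).resolve_left hc
  choose t ht using h1
  refine ⟨∑ l ∈ (b.repr m).support, t l • b l, ?_⟩
  rw [Finset.smul_sum]
  conv_lhs => rw [← b.linearCombination_repr m, Finsupp.linearCombination_apply, Finsupp.sum]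
  refine Finset.sum_congr rfl (fun l _ => ?_)
  rw [smul_smul, ← ht l]

section Frac

variable {k R K : Type u} [Field k] [CommRing R] [IsDomain R] [Algebra k R] [Field K]
  [Algebra R K] [IsFractionRing R K] [Algebra k K] [IsScalarTower k R K]

lemma map_injective [Module.Free R Ω[R⁄k]] :
    Function.Injective (KaehlerDifferential.map k k R K) := by
  rw [injective_iff_map_eq_zero]
  intro m hm
  rw [IsLocalizedModule.eq_zero_iff (nonZeroDivisors R)] at hm
  obtain ⟨c, hc⟩ := hm
  have hc' : (c : R) • m = 0 := hc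
  rcases smul_eq_zero.mp hc' with h | h
  · exact absurd h (nonZeroDivisors.coe_ne_zero c)
  · exact h

theorem residue [CharZero k] [Algebra.EssFiniteType k R] [IsNoetherianRing R]
    [Module.Free R Ω[R⁄k]] (π : R) (hπ : Prime π) (s : R) (hs : ¬ π ∣ s) (a : ℕ) (ha : a ≠ 0)
    (ω : Ω[R⁄k])
    (h : (algebraMap R K s * (a : K)) • L1.dlog (k := k) (algebraMap R K π) =
      KaehlerDifferential.map k k R K ω) : False := by
  have hπK : algebraMap R K π ≠ 0 :=
    (map_ne_zero_iff _ (IsFractionRing.injective R K)).mpr hπ.ne_zero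
  -- multiply by π
  have h1 : KaehlerDifferential.map k k R K ((s * (a : R)) • D k R π) =
      KaehlerDifferential.map k k R K (π • ω) := by
    rw [map_smul, map_smul, KaehlerDifferential.map_D, ← h, ← algebraMap_smul K (s * (a : R)),
      ← algebraMap_smul K π]
    unfold L1.dlog
    rw [smul_smul, smul_smul, map_mul, map_natCast]
    congr 1
    field_simp
  have h2 := map_injective (k := k) (R := R) (K := K) h1
  have hc : ¬ π ∣ s * (a : R) := by
    intro hd
    rcases hπ.dvd_or_dvd hd with h3 | h3
    · exact hs h3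
    · have hu : IsUnit ((a : ℕ) : R) := by
        have : ((a : ℕ) : R) = algebraMap k R ((a : ℕ) : k) := by simp
        rw [this]
        exact (IsUnit.mk0 _ (Nat.cast_ne_zero.mpr ha)).map _
      exact hπ.not_isUnit (isUnit_of_dvd_unit h3 hu)
  obtain ⟨n', hn'⟩ := exists_smul_of_prime π hπ _ hc _ _ h2
  exact not_D_eq_smul k R π hπ n' hn'

end Frac

end L2

set_option autoImplicit false
set_option linter.style.haveILetI false
set_option linter.unusedSectionVars false

namespace L3
open KaehlerDifferential IsLocalRing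

section Reg

variable {k R K : Type u} [Field k] [CommRing R] [IsDomain R] [Algebra k R] [Field K]
  [Algebra R K] [IsFractionRing R K] [Algebra k K] [IsScalarTower k R K]

/-- `ω` is regular at the prime `π`. -/
def Reg (π : R) (ω : Ω[K⁄k]) : Prop :=
  ∃ s : R, ¬ π ∣ s ∧ ∃ ω₀ : Ω[R⁄k], (algebraMap R K s) • ω = KaehlerDifferential.map k k R K ω₀

lemma Reg.add {π : R} (hπ : Prime π) {ω ω' : Ω[K⁄k]} (h : Reg π ω) (h' : Reg π ω') :
    Reg π (ω + ω') := by
  obtain ⟨s, hs, ω₀, h0⟩ := h
  obtain ⟨s', hs', ω₀', h0'⟩ := h'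
  refine ⟨s * s', fun hd => (hπ.dvd_or_dvd hd).elim hs hs', s' • ω₀ + s • ω₀', ?_⟩
  rw [map_add, map_smul, map_smul, ← h0, ← h0', ← algebraMap_smul K s', ← algebraMap_smul K s,
    smul_smul, smul_smul, map_mul, smul_add, mul_comm]

lemma Reg.neg {π : R} {ω : Ω[K⁄k]} (h : Reg π ω) : Reg π (-ω) := by
  obtain ⟨s, hs, ω₀, h0⟩ := h
  exact ⟨s, hs, -ω₀, by rw [smul_neg, h0, map_neg]⟩

lemma Reg.sub {π : R} (hπ : Prime π) {ω ω' : Ω[K⁄k]} (h : Reg π ω) (h' : Reg π ω') :
    Reg π (ω - ω') := by
  rw [sub_eq_add_neg]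
  exact h.add hπ h'.neg

lemma Reg.map {π : R} (hπ : Prime π) (ω₀ : Ω[R⁄k]) :
    Reg π (KaehlerDifferential.map k k R K ω₀) :=
  ⟨1, fun hd => hπ.not_isUnit (isUnit_of_dvd_one hd), ω₀, by rw [map_one, one_smul]⟩

lemma Reg.zero {π : R} (hπ : Prime π) : Reg (k := k) (K := K) π 0 := by
  have := Reg.map (k := k) (K := K) hπ 0
  rwa [map_zero] at this

lemma Reg.smul {π : R} {ω : Ω[K⁄k]} (c : R) (h : Reg π ω) : Reg π (algebraMap R K c • ω) := by
  obtain ⟨s, hs, ω₀, h0⟩ := h
  refine ⟨s, hs, c • ω₀, ?_⟩
  rw [smul_comm, h0, map_smul, algebraMap_smul]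

lemma Reg.sum {π : R} (hπ : Prime π) {ι : Type} (S : Finset ι) (ω : ι → Ω[K⁄k])
    (h : ∀ i ∈ S, Reg π (ω i)) : Reg π (∑ i ∈ S, ω i) := by
  classical
  induction S using Finset.induction_on with
  | empty => simpa using Reg.zero (k := k) (K := K) hπ
  | insert a S ha ih =>
    rw [Finset.sum_insert ha]
    exact (h a (Finset.mem_insert_self a S)).add hπ
      (ih (fun i hi => h i (Finset.mem_insert_of_mem hi)))

lemma Reg.dlog {π : R} (z : R) (hz : ¬ π ∣ z) : Reg π (L1.dlog (k := k) (algebraMap R K z)) := by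
  have hz0 : z ≠ 0 := fun h0 => hz (h0 ▸ dvd_zero π)
  have hzK : algebraMap R K z ≠ 0 :=
    (map_ne_zero_iff _ (IsFractionRing.injective R K)).mpr hz0
  refine ⟨z, hz, D k R z, ?_⟩
  unfold L1.dlog
  rw [smul_smul, mul_inv_cancel₀ hzK, one_smul, KaehlerDifferential.map_D]

/-- No pole along a prime dividing the numerator. -/
theorem no_pole [CharZero k] [Algebra.EssFiniteType k R] [IsNoetherianRing R]
    [Module.Free R Ω[R⁄k]] [WfDvdMonoid R] (π : R) (hπ : Prime π) (z w : R) (hz : z ≠ 0)
    (hπz : π ∣ z) (hw : ¬ π ∣ w)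
    (hReg : Reg π (L1.dlog (k := k) (algebraMap R K z / algebraMap R K w))) : False := by
  have hinj := IsFractionRing.injective R K
  have hw0 : w ≠ 0 := fun h0 => hw (h0 ▸ dvd_zero π)
  obtain ⟨n, a, ha, hza⟩ := WfDvdMonoid.max_power_factor hz hπ.irreducible
  have hn : n ≠ 0 := by
    intro h0
    rw [h0, pow_zero, one_mul] at hza
    exact ha (hza ▸ hπz)
  have ha0 : a ≠ 0 := fun h0 => ha (h0 ▸ dvd_zero π)
  have hπK : algebraMap R K π ≠ 0 := (map_ne_zero_iff _ hinj).mpr hπ.ne_zero
  have haK : algebraMap R K a ≠ 0 := (map_ne_zero_iff _ hinj).mpr ha0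
  have hwK : algebraMap R K w ≠ 0 := (map_ne_zero_iff _ hinj).mpr hw0
  have hzK : algebraMap R K z ≠ 0 := (map_ne_zero_iff _ hinj).mpr hz
  have e1 : L1.dlog (k := k) (algebraMap R K z / algebraMap R K w) =
      (n : K) • L1.dlog (k := k) (algebraMap R K π) + L1.dlog (k := k) (algebraMap R K a) -
        L1.dlog (k := k) (algebraMap R K w) := by
    rw [L1.dlog_div k hzK hwK, hza, map_mul, map_pow, L1.dlog_mul k (pow_ne_zero n hπK) haK,
      L1.dlog_pow k hπK]
  have e2 : (n : K) • L1.dlog (k := k) (algebraMap R K π) =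
      L1.dlog (k := k) (algebraMap R K z / algebraMap R K w) -
        L1.dlog (k := k) (algebraMap R K a) + L1.dlog (k := k) (algebraMap R K w) := by
    rw [e1]; abel
  have hR : Reg π ((n : K) • L1.dlog (k := k) (algebraMap R K π)) := by
    rw [e2]
    exact (hReg.sub hπ (Reg.dlog a ha)).add hπ (Reg.dlog w hw)
  obtain ⟨s, hs, ω₀, h0⟩ := hR
  rw [smul_smul] at h0
  exact L2.residue (k := k) π hπ s hs n hn ω₀ h0

end Reg

theorem main {k B R K : Type u} [Field k] [CharZero k] [CommRing B] [Algebra k B]
    [Algebra.Smooth k B]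
    (p : Ideal B) [p.IsPrime] [CommRing R] [Algebra B R] [IsLocalization.AtPrime R p]
    [Algebra k R] [IsScalarTower k B R]
    [Field K] [Algebra R K] [IsFractionRing R K] [Algebra k K] [IsScalarTower k R K]
    {r : ℕ} (f : Fin r → R) (hf : ∀ i, Prime (f i))
    (g : Kˣ) (η : Ω[R⁄k]) (c : Fin r → R)
    (h : (g : K)⁻¹ • KaehlerDifferential.D k K (g : K) =
      KaehlerDifferential.map k k R K η +
        ∑ i, (algebraMap R K (c i) * (algebraMap R K (f i))⁻¹) •
          KaehlerDifferential.D k K (algebraMap R K (f i))) :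
    L1.P (k := k) f (g : K) := by
  haveI : Algebra.FiniteType k B := inferInstance
  haveI : IsNoetherianRing B := Algebra.FiniteType.isNoetherianRing k B
  haveI : IsNoetherianRing R := IsLocalization.isNoetherianRing p.primeCompl R inferInstance
  haveI : IsLocalRing R := IsLocalization.AtPrime.isLocalRing R p
  haveI : IsDomain R := Function.Injective.isDomain (algebraMap R K) (IsFractionRing.injective R K)
  haveI : Algebra.EssFiniteType B R := Algebra.EssFiniteType.of_isLocalization R p.primeCompl
  haveI : Algebra.EssFiniteType k R := Algebra.EssFiniteType.comp k B R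
  haveI : Algebra.FormallyEtale B R := Algebra.FormallyEtale.of_isLocalization p.primeCompl
  haveI : Algebra.FormallySmooth k R := Algebra.FormallySmooth.comp k B R
  haveI : Module.Finite R Ω[R⁄k] := inferInstance
  haveI : Module.Free R Ω[R⁄k] := Module.free_of_flat_of_isLocalRing
  haveI : Algebra.EssFiniteType k (ResidueField R) :=
    inferInstanceAs (Algebra.EssFiniteType k (R ⧸ maximalIdeal R))
  haveI : Algebra.FormallySmooth k (ResidueField R) := inferInstance
  haveI : IsRegularLocalRing R := (Groth.Agent.S7767.Z2.regular_of_free_kaehler k R).1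
  haveI : UniqueFactorizationMonoid R := Groth.Agent.Lib.RegUFD6.ufd_of_isRegularLocalRing R
  have hinj := IsFractionRing.injective R K
  have hg0 : (g : K) ≠ 0 := g.ne_zero
  obtain ⟨x, y, hrel, hxy⟩ := IsFractionRing.exists_reduced_fraction (A := R) (K := K) (g : K)
  rw [IsFractionRing.mk'_eq_div] at hxy
  have hy0 : (y : R) ≠ 0 := nonZeroDivisors.coe_ne_zero y
  have hyK : algebraMap R K (y : R) ≠ 0 := (map_ne_zero_iff _ hinj).mpr hy0
  have hx0 : x ≠ 0 := by
    intro h0
    rw [h0, map_zero, zero_div] at hxy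
    exact hg0 hxy.symm
  have hxK : algebraMap R K x ≠ 0 := (map_ne_zero_iff _ hinj).mpr hx0
  -- regularity of dlog g at primes not associated to the f's
  have hRegg : ∀ π : R, Prime π → (∀ i, ¬ Associated π (f i)) →
      Reg π (L1.dlog (k := k) (g : K)) := by
    intro π hπ hass
    have hnd : ∀ i, ¬ π ∣ f i := fun i hd =>
      hass i (hπ.irreducible.associated_of_dvd (hf i).irreducible hd)
    unfold L1.dlog
    rw [h]
    refine (Reg.map hπ η).add hπ (Reg.sum hπ _ _ (fun i _ => ?_))
    rw [mul_smul]
    exact (Reg.dlog (k := k) (f i) (hnd i)).smul (c i)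
  have hfacx : ∀ π : R, Prime π → π ∣ x → ∃ i, Associated π (f i) := by
    intro π hπ hd
    by_contra hcon
    push Not at hcon
    have hR := hRegg π hπ hcon
    rw [← hxy] at hR
    refine no_pole (k := k) π hπ x y hx0 hd (fun hdy => ?_) hR
    exact hπ.not_isUnit (hrel hd hdy)
  have hfacy : ∀ π : R, Prime π → π ∣ (y : R) → ∃ i, Associated π (f i) := by
    intro π hπ hd
    by_contra hcon
    push Not at hcon
    have hR := (hRegg π hπ hcon).neg
    rw [← L1.dlog_inv k hg0, ← hxy, inv_div] at hR
    refine no_pole (k := k) π hπ y x hy0 hd (fun hdx => ?_) hR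
    exact hπ.not_isUnit (hrel hdx hd)
  rw [← hxy, div_eq_mul_inv]
  exact L1.P_mul k f hxK (inv_ne_zero hyK) (L1.P_of_factors k f hinj x hx0 hfacx)
    (L1.P_inv k f hyK (L1.P_of_factors k f hinj y hy0 hfacy))

end L3

end Helpers

/-- The degree-one case, stated at the local ring of a point. Let k be a field of characteristic zero, B
a smooth k-algebra, R the localization of B at a prime ideal, K the fraction field of R and f_1, …,
f_r prime elements of R. If g is a unit of K whose logarithmic differential g⁻¹dg in Ω_{K/k} is the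
image of a form η ∈ Ω_{R/k} plus an R-linear combination Σ c_i f_i⁻¹df_i, then g⁻¹dg = v⁻¹dv + Σ b_i
f_i⁻¹df_i for a unit v of R and integers b_i. (When the f_i are part of a regular system of
parameters the hypothesis says that g⁻¹dg has at worst logarithmic poles along the divisor f_1⋯f_r =
0 at this point, and the statement is the stalkwise injectivity of 1-forms with logarithmic poles
modulo logarithmic differentials of functions invertible off the divisor into Ω¹_K modulo
logarithmic differentials; it is stated here for arbitrary prime elements f_i.) -/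
theorem result
    {k B R K : Type u} [Field k] [CharZero k] [CommRing B] [Algebra k B] [Algebra.Smooth k B]
    (p : Ideal B) [p.IsPrime] [CommRing R] [Algebra B R] [IsLocalization.AtPrime R p]
    [Algebra k R] [IsScalarTower k B R]
    [Field K] [Algebra R K] [IsFractionRing R K] [Algebra k K] [IsScalarTower k R K]
    {r : ℕ} (f : Fin r → R) (hf : ∀ i, Prime (f i))
    (g : Kˣ) (η : Ω[R⁄k]) (c : Fin r → R)
    (h : (g : K)⁻¹ • KaehlerDifferential.D k K (g : K) =
      KaehlerDifferential.map k k R K η +
        ∑ i, (algebraMap R K (c i) * (algebraMap R K (f i))⁻¹) •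
          KaehlerDifferential.D k K (algebraMap R K (f i))) :
    ∃ (v : Rˣ) (b : Fin r → ℤ),
      (g : K)⁻¹ • KaehlerDifferential.D k K (g : K) =
        (algebraMap R K (v : R))⁻¹ • KaehlerDifferential.D k K (algebraMap R K (v : R)) +
          ∑ i, ((b i : K) * (algebraMap R K (f i))⁻¹) •
            KaehlerDifferential.D k K (algebraMap R K (f i)) := by
  exact L3.main p f hf g η c h

end Groth.Agent.S18578
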