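import Groth.Statements.S18579
import Mathlib.RingTheory.Prime
import Mathlib.RingTheory.Multiplicity

set_option autoImplicit false
universe u
open LogDiff

namespace Groth.Agent.S18579

section helpers
variable {R : Type*} [CommRing R] [IsDomain R] {r : ℕ} (f : Fin r → R)

lemma emult (hf : ∀ i, Prime (f i)) (hfa : ∀ i j, Associated (f i) (f j) → i = j)
    (u : Rˣ) (c : Fin r → ℕ) (j : Fin r) :
    emultiplicity (f j) ((u : R) * ∏ i, f i ^ c i) = c j := by
  rw [emultiplicity_mul (hf j), emultiplicity_of_isUnit_right (hf j).not_isUnit u.isUnit, zero_add,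
    Finset.emultiplicity_prod (hf j)]
  rw [Finset.sum_eq_single j]
  · exact emultiplicity_pow_self_of_prime (hf j) _
  · intro i _ hij
    rw [emultiplicity_pow (hf j), emultiplicity_eq_zero.2, mul_zero]
    intro hd
    exact hij ((hfa _ _ ((hf j).associated_of_dvd (hf i) hd)).symm)
  · simp

lemma exists_of_mul_eq (hf : ∀ i, Prime (f i)) (x y : R) (N : ℕ)
    (h : x * y = (∏ i, f i) ^ N) :
    ∃ (u : Rˣ) (c : Fin r → ℕ), x = u * ∏ i, f i ^ c i := by
  classical
  have h' : x * y = 1 * ∏ z ∈ (Finset.univ : Finset (Fin N × Fin r)), f z.2 := by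
    rw [h, one_mul, Fintype.prod_prod_type]
    simp
  obtain ⟨t, u, b, c, -, -, hbc, hx, -⟩ := mul_eq_mul_prime_prod (fun z _ => hf z.2) h'
  refine ⟨⟨b, c, hbc.symm, by rw [mul_comm]; exact hbc.symm⟩,
    fun j => (t.filter (fun z => z.2 = j)).card, ?_⟩
  rw [hx]
  congr 1
  rw [← Finset.prod_fiberwise' t (fun z => z.2) f]
  refine Finset.prod_congr rfl fun j _ => ?_
  rw [Finset.prod_const]

lemma uniq {K : Type*} [Field K] [Algebra R K] (hinj : Function.Injective (algebraMap R K))
    (hf : ∀ i, Prime (f i)) (hfa : ∀ i j, Associated (f i) (f j) → i = j)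
    (v v' : Rˣ) (b b' : Fin r → ℤ)
    (h : algebraMap R K (v : R) * ∏ i, (algebraMap R K (f i)) ^ (b i)
      = algebraMap R K (v' : R) * ∏ i, (algebraMap R K (f i)) ^ (b' i)) :
    v = v' ∧ b = b' := by
  have hg : ∀ i, algebraMap R K (f i) ≠ 0 := fun i =>
    (map_ne_zero_iff _ hinj).2 (hf i).ne_zero
  set m : Fin r → ℤ := fun i => min (b i) (b' i) with hm
  set c : Fin r → ℕ := fun i => (b i - m i).toNat with hc
  set c' : Fin r → ℕ := fun i => (b' i - m i).toNat with hc'
  have hcb : ∀ i, b i = (c i : ℤ) + m i := fun i => by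
    have : (c i : ℤ) = b i - m i := Int.toNat_of_nonneg (sub_nonneg.2 (min_le_left _ _))
    rw [this]; ring
  have hcb' : ∀ i, b' i = (c' i : ℤ) + m i := fun i => by
    have : (c' i : ℤ) = b' i - m i := Int.toNat_of_nonneg (sub_nonneg.2 (min_le_right _ _))
    rw [this]; ring
  have hP : (∏ i, (algebraMap R K (f i)) ^ (m i)) ≠ 0 :=
    Finset.prod_ne_zero_iff.2 fun i _ => zpow_ne_zero _ (hg i)
  have e1 : ∀ (d : Fin r → ℕ) (e : Fin r → ℤ) (x : Rˣ), (∀ i, e i = (d i : ℤ) + m i) →
      algebraMap R K (x : R) * ∏ i, (algebraMap R K (f i)) ^ (e i)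
        = algebraMap R K ((x : R) * ∏ i, f i ^ d i) * ∏ i, (algebraMap R K (f i)) ^ (m i) := by
    intro d e x hde
    rw [map_mul, map_prod, mul_assoc, ← Finset.prod_mul_distrib]
    congr 1
    refine Finset.prod_congr rfl fun i _ => ?_
    rw [hde i, zpow_add₀ (hg i), zpow_natCast, map_pow]
  rw [e1 c b v hcb, e1 c' b' v' hcb'] at h
  have h2 : (v : R) * ∏ i, f i ^ c i = (v' : R) * ∏ i, f i ^ c' i :=
    hinj (mul_right_cancel₀ hP h)
  have hcc : c = c' := by
    funext j
    have := emult f hf hfa v c j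
    rw [h2, emult f hf hfa v' c' j] at this
    exact (Nat.cast_inj.1 this).symm
  constructor
  · rw [hcc] at h2
    have hX : (∏ i, f i ^ c' i) ≠ 0 :=
      Finset.prod_ne_zero_iff.2 fun i _ => pow_ne_zero _ (hf i).ne_zero
    exact Units.ext (mul_right_cancel₀ hX h2)
  · funext i
    rw [hcb i, hcb' i, hcc]

end helpers

/-- The exact sequence for units (first Milnor K-groups) when every component of the divisor is removed.
Let k be a field, B a smooth k-algebra, R the localization of B at a prime ideal, K the fraction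
field of R and f_1, …, f_r pairwise non-associate prime elements of R. If w is a unit of K such that
w and w⁻¹ both lie in R[1/(f_1⋯f_r)], i.e. each becomes an element of R after multiplication by a
power of f_1⋯f_r, then there is exactly one pair (v, b) consisting of a unit v of R and integers
b_1, …, b_r with w = v · ∏ f_i^{b_i} in K. (This is the exactness of 0 → Γ(Spec R, O^×) → Γ(Spec R ∖
V(f_1⋯f_r), O^×) → ℤ^r → 0, the last map being the orders along the f_i. The published statement
takes the f_i to be local equations of the components of a normal crossings divisor, over a field of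
characteristic zero; this row allows arbitrary pairwise non-associate prime elements and any field.) -/
theorem result
    {k B R K : Type u} [Field k] [CommRing B] [Algebra k B] [Algebra.Smooth k B]
    (p : Ideal B) [p.IsPrime] [CommRing R] [Algebra B R] [IsLocalization.AtPrime R p]
    [Field K] [Algebra R K] [IsFractionRing R K]
    {r : ℕ} (f : Fin r → R) (hf : ∀ i, Prime (f i)) (hfa : ∀ i j, Associated (f i) (f j) → i = j)
    (w : Kˣ)
    (hw : ∃ (a : R) (n : ℕ), (w : K) * algebraMap R K ((∏ i, f i) ^ n) = algebraMap R K a)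
    (hw' : ∃ (a : R) (n : ℕ), (w⁻¹ : Kˣ) * algebraMap R K ((∏ i, f i) ^ n) = algebraMap R K a) :
    ∃! vb : Rˣ × (Fin r → ℤ),
      (w : K) = algebraMap R K (vb.1 : R) * ∏ i, (algebraMap R K (f i)) ^ (vb.2 i) := by
  classical
  have hinj : Function.Injective (algebraMap R K) := IsFractionRing.injective R K
  have : IsDomain R := hinj.isDomain (algebraMap R K)
  obtain ⟨a, n, ha⟩ := hw
  obtain ⟨a', m, ha'⟩ := hw'
  have hg : ∀ i, algebraMap R K (f i) ≠ 0 := fun i =>
    (map_ne_zero_iff _ hinj).2 (hf i).ne_zero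
  have haa : a * a' = (∏ i, f i) ^ (n + m) := by
    apply hinj
    rw [map_mul, ← ha, ← ha', pow_add, map_mul]
    have h1 : (w : K) * ((w⁻¹ : Kˣ) : K) = 1 := by simp
    linear_combination (algebraMap R K ((∏ i, f i) ^ n) * algebraMap R K ((∏ i, f i) ^ m)) * h1
  obtain ⟨u, c, hac⟩ := exists_of_mul_eq f hf a a' (n + m) haa
  have hFn : algebraMap R K ((∏ i, f i) ^ n) = ∏ i, algebraMap R K (f i) ^ (n : ℤ) := by
    rw [map_pow, map_prod, ← Finset.prod_pow]
    simp
  have hFn0 : algebraMap R K ((∏ i, f i) ^ n) ≠ 0 := by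
    rw [hFn]
    exact Finset.prod_ne_zero_iff.2 fun i _ => zpow_ne_zero _ (hg i)
  have hub : (w : K) = algebraMap R K (u : R) * ∏ i, algebraMap R K (f i) ^ ((c i : ℤ) - n) := by
    apply mul_right_cancel₀ hFn0
    rw [ha, hac, mul_assoc, hFn, ← Finset.prod_mul_distrib, map_mul, map_prod]
    congr 1
    refine Finset.prod_congr rfl fun i _ => ?_
    rw [← zpow_add₀ (hg i), sub_add_cancel, zpow_natCast, map_pow]
  refine ⟨(u, fun i => (c i : ℤ) - n), hub, ?_⟩
  rintro ⟨v, b⟩ hvb
  have hvb' : (w : K) = algebraMap R K (v : R) * ∏ i, algebraMap R K (f i) ^ (b i) := hvb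
  obtain ⟨h1, h2⟩ := uniq f hinj hf hfa v u b (fun i => (c i : ℤ) - n) (hvb'.symm.trans hub)
  rw [h1, h2]

end Groth.Agent.S18579
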