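import Groth.Statements.S18580
import Mathlib.Topology.Connected.Clopen
import Mathlib.AlgebraicGeometry.Restrict
import Mathlib.AlgebraicGeometry.Morphisms.ClosedImmersion

set_option autoImplicit false
universe u
open EtBase

namespace Groth.Agent.S18580

section helpers
open AlgebraicGeometry CategoryTheory

instance : MorphismProperty.HasOfPostcompProperty
    @IsOpenImmersion (@LocallyOfFiniteType ⊓ @FormallyUnramified) := by
  rw [MorphismProperty.hasOfPostcompProperty_iff_le_diagonal]
  intro X Y f ⟨hft, hfu⟩
  exact inferInstanceAs <| IsOpenImmersion (Limits.pullback.diagonal f)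

variable {X Y : Scheme.{u}} (f : X ⟶ Y)
    [FormallyUnramified f] [LocallyOfFiniteType f] [IsSeparated f]

lemma isOpenImmersion_of_section (s : Y ⟶ X) (hs : s ≫ f = 𝟙 Y) : IsOpenImmersion s := by
  have : IsOpenImmersion (s ≫ f) := by rw [hs]; infer_instance
  exact MorphismProperty.of_postcomp (W := @IsOpenImmersion)
    (W' := @LocallyOfFiniteType ⊓ @FormallyUnramified) s f ⟨‹_›, ‹_›⟩ this

lemma isClosedImmersion_of_section (s : Y ⟶ X) (hs : s ≫ f = 𝟙 Y) : IsClosedImmersion s := by
  have : IsClosedImmersion (s ≫ f) := by rw [hs]; infer_instance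
  exact IsClosedImmersion.of_comp s f

omit [IsSeparated f] [FormallyUnramified f] [LocallyOfFiniteType f] in
lemma ι_comp_eq (s : Y ⟶ X) (hs : s ≫ f = 𝟙 Y) [IsOpenImmersion s] :
    s.opensRange.ι ≫ f = s.isoOpensRange.inv := by
  rw [← s.isoOpensRange_inv_comp, Category.assoc, hs, Category.comp_id]

lemma range_eq_connectedComponent [ConnectedSpace Y] (s : Y ⟶ X) (hs : s ≫ f = 𝟙 Y) :
    ∃ x : X, Set.range s = connectedComponent x := by
  haveI := isOpenImmersion_of_section f s hs
  haveI := isClosedImmersion_of_section f s hs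
  obtain ⟨y⟩ : Nonempty Y := inferInstance
  refine ⟨s y, ?_⟩
  have hclopen : IsClopen (Set.range s) :=
    ⟨s.isClosedEmbedding.isClosed_range, s.isOpenEmbedding.isOpen_range⟩
  apply subset_antisymm
  · exact (isPreconnected_range s.continuous).subset_connectedComponent ⟨y, rfl⟩
  · exact hclopen.connectedComponent_subset ⟨y, rfl⟩

/-- a section gives a component -/
noncomputable def toT [ConnectedSpace Y] (s : {s : Y ⟶ X // s ≫ f = 𝟙 Y}) :
    {U : X.Opens // (∃ x : X, (U : Set X) = connectedComponent x) ∧ IsIso (U.ι ≫ f)} :=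
  haveI := isOpenImmersion_of_section f s.1 s.2
  ⟨s.1.opensRange, range_eq_connectedComponent f s.1 s.2, by
    rw [ι_comp_eq f s.1 s.2]; infer_instance⟩

omit [IsSeparated f] [FormallyUnramified f] [LocallyOfFiniteType f] in
/-- a component mapping isomorphically to `Y` gives a section -/
noncomputable def toS
    (U : {U : X.Opens // (∃ x : X, (U : Set X) = connectedComponent x) ∧ IsIso (U.ι ≫ f)}) :
    {s : Y ⟶ X // s ≫ f = 𝟙 Y} :=
  haveI := U.2.2
  ⟨inv (U.1.ι ≫ f) ≫ U.1.ι, by rw [Category.assoc, IsIso.inv_hom_id]⟩

lemma toS_toT [ConnectedSpace Y] (s : {s : Y ⟶ X // s ≫ f = 𝟙 Y}) : toS f (toT f s) = s := by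
  haveI := isOpenImmersion_of_section f s.1 s.2
  haveI hiso : IsIso (s.1.opensRange.ι ≫ f) := (toT f s).2.2
  apply Subtype.ext
  change inv (s.1.opensRange.ι ≫ f) ≫ s.1.opensRange.ι = s.1
  have h1 : inv (s.1.opensRange.ι ≫ f) = s.1.isoOpensRange.hom := by
    apply IsIso.inv_eq_of_hom_inv_id
    rw [ι_comp_eq f s.1 s.2, Iso.inv_hom_id]
  rw [h1, Scheme.Hom.isoOpensRange_hom_ι]

lemma toT_toS [ConnectedSpace Y]
    (U : {U : X.Opens // (∃ x : X, (U : Set X) = connectedComponent x) ∧ IsIso (U.ι ≫ f)}) :
    toT f (toS f U) = U := by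
  haveI := U.2.2
  apply Subtype.ext
  change Scheme.Hom.opensRange (inv (U.1.ι ≫ f) ≫ U.1.ι)
    (H := isOpenImmersion_of_section f _ (toS f U).2) = U.1
  rw [Scheme.Hom.opensRange_comp_of_isIso, Scheme.Opens.opensRange_ι]

end helpers

open AlgebraicGeometry CategoryTheory in
/-- Let Y be a connected scheme and f : X ⟶ Y a separated morphism that is unramified (locally of finite
type and formally unramified). Then the sections of f correspond bijectively to the connected
components of X mapping isomorphically onto Y: there is a bijection from the set of sections s of f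
to the set of open subschemes U of X whose underlying set is a connected component of X and for
which U ⟶ X ⟶ Y is an isomorphism, sending s to its image. In particular every section is an
isomorphism onto a connected component of X and is determined by its image. (A connected component
mapping isomorphically onto Y is the image of a section, hence open, so restricting to open
components loses nothing. The published statement also assumes Y Noetherian; that hypothesis plays
no role and is omitted.) -/
theorem result {X Y : Scheme.{u}} (f : X ⟶ Y)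
    [FormallyUnramified f] [LocallyOfFiniteType f] [IsSeparated f] [ConnectedSpace Y] :
    ∃ e : {s : Y ⟶ X // s ≫ f = 𝟙 Y} ≃
        {U : X.Opens // (∃ x : X, (U : Set X) = connectedComponent x) ∧ IsIso (U.ι ≫ f)},
      ∀ s : {s : Y ⟶ X // s ≫ f = 𝟙 Y}, ((e s).1 : Set X) = Set.range s.1 := by
  refine ⟨⟨toT f, toS f, toS_toT f, toT_toS f⟩, ?_⟩
  intro s
  rfl

end Groth.Agent.S18580
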