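import Groth.Statements.S18581
import Groth.Agent.Lib.H56FlatLocal

set_option autoImplicit false
universe u
open Desc

namespace Groth.Agent.S18581

/-- Let A → B be a local homomorphism of Noetherian local rings which is étale, in the sense that B is
(compatibly with the map from A) the localization of an étale A-algebra E at a prime ideal. Then A
is a Cohen–Macaulay ring exactly when B is one. -/
theorem result (A B : Type u) [CommRing A] [CommRing B]
    [IsLocalRing A] [IsLocalRing B] [IsNoetherianRing A] [IsNoetherianRing B]
    [Algebra A B] [IsLocalHom (algebraMap A B)]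
    (E : Type u) [CommRing E] [Algebra A E] [Algebra.Etale A E] (P : Ideal E) [P.IsPrime]
    [Algebra E B] [IsScalarTower A E B] [IsLocalization.AtPrime B P] :
    LocCoh.IsCohenMacaulayLocalRing A ↔ LocCoh.IsCohenMacaulayLocalRing B := by
  have : Module.Flat E B := IsLocalization.flat B P.primeCompl
  have : Module.Flat A B := Module.Flat.trans A E B
  have : Algebra.FormallyUnramified E B := Algebra.FormallyUnramified.of_isLocalization P.primeCompl
  have : Algebra.FormallyUnramified A B := Algebra.FormallyUnramified.comp A E B
  have : Algebra.EssFiniteType E B := Algebra.EssFiniteType.of_isLocalization B P.primeCompl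
  have : Algebra.EssFiniteType A B := Algebra.EssFiniteType.comp A E B
  have hm : (IsLocalRing.maximalIdeal A).map (algebraMap A B) = IsLocalRing.maximalIdeal B :=
    Algebra.FormallyUnramified.map_maximalIdeal
  have hm' : IsLocalRing.maximalIdeal B ≤
      ((IsLocalRing.maximalIdeal A).map (algebraMap A B)).radical := by
    rw [hm]; exact Ideal.le_radical
  have hdepth : LocCoh.depth A A = LocCoh.depth B B :=
    Groth.Agent.Lib.H56FlatLocal.depth_eq_of_flat_of_primary hm'
  have hdim : ringKrullDim B = ringKrullDim A :=
    Groth.Agent.Lib.H56FlatLocal.ringKrullDim_eq_of_flat_of_primary hm'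
  constructor
  · intro h
    refine { supportDim_eq_depth := ?_ }
    have := h.supportDim_eq_depth
    rw [Module.supportDim_self_eq_ringKrullDim] at this ⊢
    rw [hdim, ← hdepth]
    exact this
  · intro h
    refine { supportDim_eq_depth := ?_ }
    have := h.supportDim_eq_depth
    rw [Module.supportDim_self_eq_ringKrullDim] at this ⊢
    rw [← hdim, hdepth]
    exact this

end Groth.Agent.S18581
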