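import Groth.Statements.S18587
import Mathlib
import Groth.Agent.Lib.TeichMulCoeff27

set_option autoImplicit false
universe u
open CAlg

namespace Groth.Agent.S18587

section helpers
open WittVector Function

variable {p : ℕ} [hp : Fact p.Prime]

/-- number theory: an inverse of `p^I` mod `ℓ` -/
theorem exists_inv (ℓ : ℕ) (hℓ : 0 < ℓ) (hpℓ : ¬ p ∣ ℓ) (I : ℕ) :
    ∃ s e : ℕ, s ≤ ℓ ∧ e ≤ p ^ I ∧ s * p ^ I = 1 + ℓ * e := by
  have hcop : Nat.Coprime (p ^ I) ℓ :=
    Nat.Coprime.pow_left I ((Nat.Prime.coprime_iff_not_dvd hp.out).2 hpℓ)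
  rcases Nat.lt_or_ge 1 ℓ with h1 | h1
  · obtain ⟨m, hm, hm1⟩ := Nat.exists_mul_mod_eq_one_of_coprime hcop h1
    refine ⟨m, p ^ I * m / ℓ, hm.le, ?_, ?_⟩
    · calc p ^ I * m / ℓ ≤ p ^ I * ℓ / ℓ := Nat.div_le_div_right (Nat.mul_le_mul_left _ hm.le)
        _ = p ^ I := Nat.mul_div_cancel _ hℓ
    · have := Nat.div_add_mod (p ^ I * m) ℓ
      rw [hm1] at this
      linarith
  · have hℓ1 : ℓ = 1 := by omega
    subst hℓ1
    have : 0 < p ^ I := pos_of_ne_zero (pow_ne_zero _ hp.out.ne_zero)
    exact ⟨1, p ^ I - 1, le_rfl, Nat.sub_le _ _, by omega⟩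

variable {R : Type*} [CommRing R]

/-- the set of Witt vectors whose first `I` coefficients vanish -/
def VI (I : ℕ) (w : WittVector p R) : Prop := ∀ r < I, w.coeff r = 0

theorem VI_iff (I : ℕ) (w : WittVector p R) :
    VI I w ↔ ∃ ρ : WittVector p R, w = (⇑(verschiebung : WittVector p R →+ WittVector p R))^[I] ρ := by
  constructor
  · intro h
    exact ⟨w.shift I, eq_iterate_verschiebung h⟩
  · rintro ⟨ρ, rfl⟩ r hr
    exact iterate_verschiebung_coeff_eq_zero ρ hr

theorem VI_sub {I : ℕ} {w w' : WittVector p R} (h : VI I w) (h' : VI I w') : VI I (w - w') := by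
  rw [VI_iff] at h h' ⊢
  obtain ⟨ρ, rfl⟩ := h
  obtain ⟨ρ', rfl⟩ := h'
  exact ⟨ρ - ρ', (iterate_map_sub _ _ _ _).symm⟩

theorem VI_mul {I : ℕ} {w : WittVector p R} (h : VI I w) (w' : WittVector p R) : VI I (w * w') := by
  rw [VI_iff] at h ⊢
  obtain ⟨ρ, rfl⟩ := h
  exact ⟨_, iterate_verschiebung_mul_left ρ w' I⟩

theorem iterate_sum {M : Type*} [AddCommMonoid M] (f : M →+ M) (n : ℕ) {ι : Type*} (s : Finset ι)
    (g : ι → M) : (⇑f)^[n] (∑ i ∈ s, g i) = ∑ i ∈ s, (⇑f)^[n] (g i) := by
  classical
  induction s using Finset.induction with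
  | empty => simp
  | insert a s ha ih => rw [Finset.sum_insert ha, Finset.sum_insert ha, iterate_map_add, ih]

theorem VI_sum {I : ℕ} {ι : Type*} (s : Finset ι) (f : ι → WittVector p R)
    (h : ∀ i ∈ s, VI I (f i)) : VI I (∑ i ∈ s, f i) := by
  rw [VI_iff]
  choose! ρ hρ using fun i hi => (VI_iff I (f i)).1 (h i hi)
  refine ⟨∑ i ∈ s, ρ i, ?_⟩
  rw [iterate_sum]
  exact Finset.sum_congr rfl hρ

theorem eq_zero_of_VI {w : WittVector p R} (h : ∀ k, VI k w) : w = 0 := by
  ext r
  rw [zero_coeff]
  exact h (r + 1) r (Nat.lt_succ_self r)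

theorem VI_mono {I I' : ℕ} (h : I ≤ I') {w : WittVector p R} (hw : VI I' w) : VI I w :=
  fun r hr => hw r (lt_of_lt_of_le hr h)

/-- decomposition `w = [w₀] + V (shift w 1)` -/
theorem eq_teich_add (w : WittVector p R) :
    w = teichmuller p (w.coeff 0) + verschiebung (w.shift 1) := by
  ext r
  rw [coeff_add_of_disjoint]
  · rcases r with _ | r
    · rw [teichmuller_coeff_zero, verschiebung_coeff_zero, add_zero]
    · rw [teichmuller_coeff_pos p _ _ (Nat.succ_pos r), verschiebung_coeff_succ, zero_add,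
        shift_coeff, add_comm]
  · intro r
    rcases r with _ | r
    · right; exact verschiebung_coeff_zero _
    · left; exact teichmuller_coeff_pos p _ _ (Nat.succ_pos r)


theorem map_iterate_verschiebung {S : Type*} [CommRing S] (f : R →+* S) (x : WittVector p R) (I : ℕ) :
    WittVector.map f ((⇑(verschiebung : WittVector p R →+ WittVector p R))^[I] x) =
      (⇑(verschiebung : WittVector p S →+ WittVector p S))^[I] (WittVector.map f x) := by
  induction I with
  | zero => rfl
  | succ I ih => rw [iterate_succ_apply', iterate_succ_apply', map_verschiebung, ih]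

theorem iterate_frobenius_teichmuller [CharP R p] (z : R) (I : ℕ) :
    (⇑(frobenius : WittVector p R →+* WittVector p R))^[I] (teichmuller p z) =
      teichmuller p (z ^ p ^ I) := by
  ext r
  rw [iterate_frobenius_coeff]
  rcases r with _ | r
  · rw [teichmuller_coeff_zero, teichmuller_coeff_zero]
  · rw [teichmuller_coeff_pos p _ _ (Nat.succ_pos r), teichmuller_coeff_pos p _ _ (Nat.succ_pos r),
      zero_pow (pow_ne_zero _ hp.out.ne_zero)]

/-- `V^I [t] * [z] = V^I [t * z^(p^I)]` -/
theorem iterate_verschiebung_teich_mul [CharP R p] (t z : R) (I : ℕ) :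
    (⇑(verschiebung : WittVector p R →+ WittVector p R))^[I] (teichmuller p t) * teichmuller p z =
      (⇑(verschiebung : WittVector p R →+ WittVector p R))^[I] (teichmuller p (t * z ^ p ^ I)) := by
  rw [iterate_verschiebung_mul_left, iterate_frobenius_teichmuller, map_mul]

section abstract

variable {A B : Type*} [CommRing A] [CommRing B] [Algebra A B] [CharP B p]
variable {J : Type*} [Fintype J] (c : B) (zJ : J → B)

/-- the decomposition hypothesis -/
def Hdec (A : Type*) [CommRing A] [Algebra A B] (p : ℕ) (c : B) (zJ : J → B) : Prop :=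
  ∀ (I : ℕ) (b : B), ∃ u : J → A,
    (∑ j, algebraMap A B (u j) * (zJ j) ^ p ^ I = c ^ p ^ I * b) ∧
    ∀ j, ∃ bj : B, algebraMap A B (u j) * (zJ j) ^ p ^ I = c ^ p ^ I * bj

theorem step (H : Hdec A p c zJ) (I : ℕ) (ζ : WittVector p B) (h1 : VI I ζ)
    (h2 : ζ ∈ Ideal.span {teichmuller p c}) :
    ∃ u : J → A,
      VI (I + 1) (ζ - ∑ j, WittVector.map (algebraMap A B)
        ((⇑(verschiebung : WittVector p A →+ WittVector p A))^[I] (teichmuller p (u j))) *
          teichmuller p (zJ j)) ∧
      (ζ - ∑ j, WittVector.map (algebraMap A B)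
        ((⇑(verschiebung : WittVector p A →+ WittVector p A))^[I] (teichmuller p (u j))) *
          teichmuller p (zJ j)) ∈ Ideal.span {teichmuller p c} := by
  obtain ⟨ω, hω⟩ := Ideal.mem_span_singleton'.1 h2
  obtain ⟨u, hsum, hterm⟩ := H I (ω.coeff I)
  refine ⟨u, ?_, ?_⟩
  all_goals
    have key : ∀ j, WittVector.map (algebraMap A B)
        ((⇑(verschiebung : WittVector p A →+ WittVector p A))^[I] (teichmuller p (u j))) *
          teichmuller p (zJ j) =
        (⇑(verschiebung : WittVector p B →+ WittVector p B))^[I]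
          (teichmuller p (algebraMap A B (u j) * (zJ j) ^ p ^ I)) := by
      intro j
      rw [map_iterate_verschiebung, map_teichmuller, iterate_verschiebung_teich_mul]
    simp only [key]
  · obtain ⟨ρ, hρ⟩ := (VI_iff I ζ).1 h1
    have hρ0 : ρ.coeff 0 = c ^ p ^ I * ω.coeff I := by
      have := iterate_verschiebung_coeff ρ I 0
      rw [zero_add, ← hρ, ← hω, Groth.Agent.Lib.TeichMulCoeff27.mul_teichmuller_coeff] at this
      rw [← this, mul_comm]
    set ρ' := ρ - ∑ j, teichmuller p (algebraMap A B (u j) * (zJ j) ^ p ^ I) with hρ'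
    have h0 : ρ'.coeff 0 = 0 := by
      have : constantCoeff ρ' = constantCoeff ρ -
          ∑ j, constantCoeff (teichmuller p (algebraMap A B (u j) * (zJ j) ^ p ^ I)) := by
        rw [hρ', map_sub, map_sum]
      simp only [constantCoeff_apply, teichmuller_coeff_zero] at this
      rw [this, hsum, hρ0, sub_self]
    have hVI : VI 1 ρ' := by
      intro r hr
      have : r = 0 := by omega
      rw [this, h0]
    obtain ⟨ρ'', hρ''⟩ := (VI_iff 1 ρ').1 hVI
    rw [VI_iff]
    refine ⟨ρ'', ?_⟩
    rw [iterate_one] at hρ''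
    rw [iterate_succ_apply, ← hρ'', hρ', iterate_map_sub, iterate_sum, ← hρ]
  · refine Ideal.sub_mem _ h2 (Ideal.sum_mem _ fun j _ => ?_)
    obtain ⟨bj, hbj⟩ := hterm j
    rw [hbj, mul_comm, ← iterate_verschiebung_teich_mul]
    exact Ideal.mul_mem_left _ _ (Ideal.subset_span rfl)

end abstract

theorem shift_zero' (x : WittVector p R) : x.shift 0 = x := by
  ext r
  rw [shift_coeff, zero_add]

theorem shift_shift_one (x : WittVector p R) (k : ℕ) : (x.shift k).shift 1 = x.shift (k + 1) := by
  ext r
  rw [shift_coeff, shift_coeff, shift_coeff, add_assoc]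

theorem VI_map_iterate {S : Type*} [CommRing S] (f : R →+* S) (x : WittVector p R) (I : ℕ) :
    VI I (WittVector.map f ((⇑(verschiebung : WittVector p R →+ WittVector p R))^[I] x)) := by
  rw [map_iterate_verschiebung, VI_iff]
  exact ⟨_, rfl⟩

theorem main_abstract {A B : Type*} [CommRing A] [CommRing B] [Algebra A B] [CharP B p]
    {J : Type*} [Fintype J] (c : B) (zJ : J → B) (H : Hdec A p c zJ) (n : ℕ) (ζ : WittVector p B)
    (h1 : VI n ζ) (h2 : ζ ∈ Ideal.span {teichmuller p c}) :
    ∃ x : J → WittVector p A, ζ = ∑ j, WittVector.map (algebraMap A B)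
        ((⇑(verschiebung : WittVector p A →+ WittVector p A))^[n] (x j)) * teichmuller p (zJ j) := by
  classical
  choose! u hu using step (A := A) c zJ H
  set nxt : ℕ → WittVector p B → WittVector p B := fun I ζ =>
    ζ - ∑ j, WittVector.map (algebraMap A B)
        ((⇑(verschiebung : WittVector p A →+ WittVector p A))^[I] (teichmuller p (u I ζ j))) *
          teichmuller p (zJ j) with hnxt
  set Z : ℕ → WittVector p B := fun k => Nat.rec ζ (fun k Zk => nxt (n + k) Zk) k with hZ
  have hZ0 : Z 0 = ζ := rfl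
  have hZs : ∀ k, Z (k + 1) = nxt (n + k) (Z k) := fun k => rfl
  have inv : ∀ k, VI (n + k) (Z k) ∧ Z k ∈ Ideal.span {teichmuller p c} := by
    intro k
    induction k with
    | zero => exact ⟨h1, h2⟩
    | succ k ih =>
      rw [hZs]
      exact hu (n + k) (Z k) ih.1 ih.2
  set x : J → WittVector p A := fun j => WittVector.mk p (fun r => u (n + r) (Z r) j) with hx
  refine ⟨x, ?_⟩
  set E : ℕ → WittVector p B := fun k => Z k - ∑ j, WittVector.map (algebraMap A B)
        ((⇑(verschiebung : WittVector p A →+ WittVector p A))^[n + k] ((x j).shift k)) *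
          teichmuller p (zJ j) with hE
  have hEs : ∀ k, E (k + 1) = E k := by
    intro k
    have hdec : ∀ j, (⇑(verschiebung : WittVector p A →+ WittVector p A))^[n + k] ((x j).shift k) =
        (⇑(verschiebung : WittVector p A →+ WittVector p A))^[n + k] (teichmuller p (u (n + k) (Z k) j)) +
        (⇑(verschiebung : WittVector p A →+ WittVector p A))^[n + (k + 1)] ((x j).shift (k + 1)) := by
      intro j
      conv_lhs => rw [eq_teich_add ((x j).shift k), iterate_map_add, shift_shift_one]
      rw [← add_assoc n k 1, iterate_succ_apply]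
      congr 3
    simp only [hE, hZs, hnxt, hdec, map_add, add_mul, Finset.sum_add_distrib]
    abel
  have hE0 : ∀ k, E k = E 0 := by
    intro k
    induction k with
    | zero => rfl
    | succ k ih => rw [hEs, ih]
  have hEVI : ∀ k, VI (n + k) (E k) := by
    intro k
    refine VI_sub (inv k).1 (VI_sum _ _ fun j _ => VI_mul (VI_map_iterate _ _ _) _)
  have hzero : E 0 = 0 := by
    apply eq_zero_of_VI
    intro k
    have := hEVI k
    rw [hE0 k] at this
    exact VI_mono (Nat.le_add_left k n) this
  simp only [hE, hZ0, shift_zero', add_zero] at hzero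
  exact sub_eq_zero.1 hzero

theorem hdec_concrete (ℓ : ℕ) (hℓ : 0 < ℓ) (hpℓ : ¬ p ∣ ℓ)
    (A B : Type*) [CommRing A] [CommRing B] [IsDomain A] [IsDomain B] [Algebra A B]
    (y : Finset B) (hspan : Submodule.span A (y : Set B) = ⊤)
    (hpow : ∀ b ∈ y, b ^ ℓ ∈ Set.range (algebraMap A B)) :
    ∃ c : A, c ≠ 0 ∧ Hdec (J := ↥y × Fin (ℓ + 1)) A p (algebraMap A B c) (fun j => (j.1 : B) ^ (j.2 : ℕ)) := by
  classical
  choose! α hα using hpow
  set α' : B → A := fun b => if b = 0 then 1 else α b with hα'
  have hα'0 : ∀ b ∈ y, α' b ≠ 0 := by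
    intro b hb
    by_cases h0 : b = 0
    · simp [hα', h0]
    · simp only [hα', h0, if_false]
      intro h
      have := hα b hb
      rw [h, map_zero] at this
      exact pow_ne_zero ℓ h0 this.symm
  refine ⟨∏ b ∈ y, α' b, Finset.prod_ne_zero_iff.2 hα'0, ?_⟩
  intro I b₀
  obtain ⟨s, e, hs, he, hse⟩ := exists_inv (p := p) ℓ hℓ hpℓ I
  have hb₀ : b₀ ∈ Submodule.span A (y : Set B) := by rw [hspan]; trivial
  obtain ⟨f, hf⟩ := Submodule.mem_span_finset'.1 hb₀
  set q : ↥y → A := fun b => (α' b) ^ (p ^ I - e) * ∏ b' ∈ y.erase (b : B), (α' b') ^ p ^ I with hq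
  have hc : ∀ b : ↥y, (∏ b ∈ y, α' b) ^ p ^ I = (α' b) ^ e * q b := by
    intro b
    rw [hq, ← Finset.mul_prod_erase y α' b.2, mul_pow, ← Finset.prod_pow]
    simp only
    rw [← mul_assoc, ← pow_add, Nat.add_sub_cancel' he]
  have hterm : ∀ b : ↥y, algebraMap A B (f b * q b) * ((b : B) ^ s) ^ p ^ I =
      (algebraMap A B (∏ b ∈ y, α' b)) ^ p ^ I * (f b • (b : B)) := by
    intro b
    by_cases h0 : (b : B) = 0
    · have hs0 : s ≠ 0 := by
        rintro rfl
        omega
      rw [h0, zero_pow hs0, zero_pow (pow_ne_zero _ hp.out.ne_zero), mul_zero, smul_zero, mul_zero]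
    · have hαb : α' b = α b := by simp [hα', h0]
      rw [← map_pow, hc b, ← pow_mul, hse, hαb, Algebra.smul_def, pow_add, pow_one, pow_mul,
        ← hα b b.2]
      simp only [map_mul, map_pow]
      ring
  refine ⟨fun j => if (j.2 : ℕ) = s then f j.1 * q j.1 else 0, ?_, ?_⟩
  · rw [Fintype.sum_prod_type]
    have : ∀ b : ↥y, ∑ s' : Fin (ℓ + 1),
        algebraMap A B (if (s' : ℕ) = s then f b * q b else 0) * ((b : B) ^ (s' : ℕ)) ^ p ^ I =
        (algebraMap A B (∏ b ∈ y, α' b)) ^ p ^ I * (f b • (b : B)) := by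
      intro b
      rw [Finset.sum_eq_single (⟨s, Nat.lt_succ_of_le hs⟩ : Fin (ℓ + 1))]
      · simp only [if_true]
        exact hterm b
      · intro s' _ hs'
        have : (s' : ℕ) ≠ s := fun h => hs' (Fin.ext h)
        simp [this]
      · intro h
        exact absurd (Finset.mem_univ _) h
    simp only [this]
    rw [← Finset.mul_sum, hf]
  · rintro ⟨b, s'⟩
    by_cases h : (s' : ℕ) = s
    · refine ⟨f b • (b : B), ?_⟩
      simp only [h, if_true]
      exact hterm b
    · refine ⟨0, ?_⟩
      simp [h]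

end helpers

/-- Affine form with D = 0: let p be a prime, ℓ ≥ 1 an integer not divisible by p and n ≥ 1. Let A → B
be an injective ring homomorphism of integral domains of characteristic p such that B is spanned as
an A-module by finitely many elements y with y ^ ℓ in the image of A (a weakly ℓ-cyclic extension).
Then for every p-typical Witt vector ζ over B in the image of the n-fold Verschiebung there is a
nonzero a in A such that the product of the Teichmüller representative of (the image of) a with ζ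
lies in the ideal of W(B) generated by the images of the n-fold Verschiebungs of Witt vectors over
A. (This is the case D = 0 of the published statement, written for the coordinate rings; the
published statement allows a twist by a real Weil divisor D and assumes the rings excellent and
normal, hypotheses which the case D = 0 does not use.) -/
theorem result
    (p : ℕ) [Fact p.Prime] (ℓ n : ℕ) (hℓ : 0 < ℓ) (hpℓ : ¬ p ∣ ℓ) (hn : 0 < n)
    (A B : Type u) [CommRing A] [CommRing B] [IsDomain A] [IsDomain B] [Algebra A B]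
    [CharP A p] [CharP B p] (hinj : Function.Injective (algebraMap A B))
    (y : Finset B) (hspan : Submodule.span A (y : Set B) = ⊤)
    (hpow : ∀ b ∈ y, b ^ ℓ ∈ Set.range (algebraMap A B))
    (ζ : WittVector p B)
    (hζ : ∃ η : WittVector p B, (⇑(WittVector.verschiebung : WittVector p B →+ WittVector p B))^[n] η = ζ) :
    ∃ a : A, a ≠ 0 ∧ WittVector.teichmuller p (algebraMap A B a) * ζ ∈
      Ideal.span (Set.range (fun x : WittVector p A =>
        WittVector.map (algebraMap A B) ((⇑(WittVector.verschiebung : WittVector p A →+ WittVector p A))^[n] x))) := by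
  obtain ⟨c, hc, H⟩ := hdec_concrete (p := p) ℓ hℓ hpℓ A B y hspan hpow
  refine ⟨c, hc, ?_⟩
  obtain ⟨η, rfl⟩ := hζ
  have h1 : VI n (WittVector.teichmuller p (algebraMap A B c) *
      (⇑(WittVector.verschiebung : WittVector p B →+ WittVector p B))^[n] η) := by
    rw [mul_comm]
    exact VI_mul ((VI_iff n _).2 ⟨η, rfl⟩) _
  have h2 : WittVector.teichmuller p (algebraMap A B c) *
      (⇑(WittVector.verschiebung : WittVector p B →+ WittVector p B))^[n] η ∈
      Ideal.span {WittVector.teichmuller p (algebraMap A B c)} :=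
    Ideal.mul_mem_right _ _ (Ideal.subset_span rfl)
  obtain ⟨x, hx⟩ := main_abstract _ _ H n _ h1 h2
  rw [hx]
  exact Ideal.sum_mem _ fun j _ => Ideal.mul_mem_right _ _ (Ideal.subset_span ⟨x j, rfl⟩)

end Groth.Agent.S18587
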