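import Groth.Statements.S18589
import Mathlib.RingTheory.WittVector.StructurePolynomial
import Mathlib.RingTheory.MvPolynomial.WeightedHomogeneous
import Mathlib.Tactic

set_option autoImplicit false
open CAlg

namespace Groth.Agent.S18589

/-- For a prime p and every natural number n, the n-th Witt addition polynomial over the integers (the
polynomial S_n with (x + y)_n = S_n(x_0, y_0, …, x_n, y_n) for p-typical Witt vectors x, y) is
weighted homogeneous of weighted degree p ^ n for the grading in which the variables x_i and y_i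
have weight p ^ i. -/
theorem result (p : ℕ) [Fact p.Prime] (n : ℕ) :
    MvPolynomial.IsWeightedHomogeneous (fun i : Fin 2 × ℕ => p ^ i.2) (WittVector.wittAdd p n) (p ^ n) := by
  classical
  induction n using Nat.strong_induction_on with
  | _ n ih =>
    set w : Fin 2 × ℕ → ℕ := fun i => p ^ i.2 with hw
    have hp0 : (p : ℤ) ≠ 0 := by exact_mod_cast (Fact.out : p.Prime).ne_zero
    -- the ghost component of each summand
    have hW : ∀ b : Fin 2, MvPolynomial.IsWeightedHomogeneous w
        (MvPolynomial.rename (Prod.mk b) (wittPolynomial p ℤ n)) (p ^ n) := by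
      intro b
      rw [wittPolynomial_eq_sum_C_mul_X_pow, map_sum]
      refine MvPolynomial.IsWeightedHomogeneous.sum _ _ _ fun i hi => ?_
      rw [map_mul, MvPolynomial.rename_C, map_pow (MvPolynomial.rename (Prod.mk b)),
        MvPolynomial.rename_X]
      refine MvPolynomial.IsWeightedHomogeneous.C_mul ?_ _
      have h1 := (MvPolynomial.isWeightedHomogeneous_X ℤ w (b, i)).pow (p ^ (n - i))
      have h2 : p ^ (n - i) • w (b, i) = p ^ n := by
        have hi' : i ≤ n := Nat.lt_succ_iff.mp (Finset.mem_range.mp hi)
        simp only [hw, smul_eq_mul, ← pow_add]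
        congr 1; omega
      rwa [h2] at h1
    have hprop := wittStructureInt_prop p (MvPolynomial.X (0 : Fin 2) + MvPolynomial.X 1) n
    have hL : MvPolynomial.bind₁ (wittStructureInt p (MvPolynomial.X (0 : Fin 2) + MvPolynomial.X 1))
        (wittPolynomial p ℤ n) =
        ∑ x ∈ Finset.range n, MvPolynomial.C ((p : ℤ) ^ x) *
          wittStructureInt p (MvPolynomial.X (0 : Fin 2) + MvPolynomial.X 1) x ^ p ^ (n - x) +
        MvPolynomial.C ((p : ℤ) ^ n) *
          wittStructureInt p (MvPolynomial.X (0 : Fin 2) + MvPolynomial.X 1) n := by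
      rw [wittPolynomial_eq_sum_C_mul_X_pow, map_sum, Finset.sum_range_succ]
      congr 1
      · refine Finset.sum_congr rfl fun x _ => ?_
        rw [map_mul, MvPolynomial.bind₁_C_right, map_pow (MvPolynomial.bind₁ _),
          MvPolynomial.bind₁_X_right]
      · rw [map_mul, MvPolynomial.bind₁_C_right, map_pow (MvPolynomial.bind₁ _),
          MvPolynomial.bind₁_X_right, Nat.sub_self, pow_zero, pow_one]
    have hR : MvPolynomial.bind₁ (fun i : Fin 2 => MvPolynomial.rename (Prod.mk i) (wittPolynomial p ℤ n))
        (MvPolynomial.X (0 : Fin 2) + MvPolynomial.X 1) =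
        MvPolynomial.rename (Prod.mk (0 : Fin 2)) (wittPolynomial p ℤ n) +
          MvPolynomial.rename (Prod.mk (1 : Fin 2)) (wittPolynomial p ℤ n) := by
      rw [map_add, MvPolynomial.bind₁_X_right, MvPolynomial.bind₁_X_right]
    rw [hL, hR] at hprop
    have hsum : MvPolynomial.IsWeightedHomogeneous w
        (∑ x ∈ Finset.range n, MvPolynomial.C ((p : ℤ) ^ x) *
          wittStructureInt p (MvPolynomial.X (0 : Fin 2) + MvPolynomial.X 1) x ^ p ^ (n - x))
        (p ^ n) := by
      refine MvPolynomial.IsWeightedHomogeneous.sum _ _ _ fun i hi => ?_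
      refine MvPolynomial.IsWeightedHomogeneous.C_mul ?_ _
      have hi' : i < n := Finset.mem_range.mp hi
      have h1 := (ih i hi').pow (p ^ (n - i))
      have h2 : p ^ (n - i) • p ^ i = p ^ n := by
        simp only [smul_eq_mul, ← pow_add]
        congr 1; omega
      rw [h2] at h1
      exact h1
    have hmain : MvPolynomial.IsWeightedHomogeneous w
        (MvPolynomial.C ((p : ℤ) ^ n) * WittVector.wittAdd p n) (p ^ n) := by
      have e : MvPolynomial.C ((p : ℤ) ^ n) * WittVector.wittAdd p n =
          (MvPolynomial.rename (Prod.mk (0 : Fin 2)) (wittPolynomial p ℤ n) +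
            MvPolynomial.rename (Prod.mk (1 : Fin 2)) (wittPolynomial p ℤ n)) -
          ∑ x ∈ Finset.range n, MvPolynomial.C ((p : ℤ) ^ x) *
            wittStructureInt p (MvPolynomial.X (0 : Fin 2) + MvPolynomial.X 1) x ^ p ^ (n - x) := by
        rw [← hprop]
        simp only [WittVector.wittAdd]
        ring
      rw [e]
      exact ((hW 0).add (hW 1)).sub hsum
    intro d hd
    apply hmain
    rw [MvPolynomial.coeff_C_mul]
    exact mul_ne_zero (pow_ne_zero n hp0) hd

end Groth.Agent.S18589
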