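import Groth.Statements.S1859
-- import your own Groth.Agent.* helpers here

set_option autoImplicit false
universe u
open CategoryTheory AlgebraicGeometry
open Cyc

namespace Groth.Agent.S1859

/-- multiplicativity of the residue degree along a composition -/
lemma residueDegree_comp {X Y Z : Scheme.{u}} (f : X ⟶ Y) (g : Y ⟶ Z) (x : X) :
    (f ≫ g).residueDegree x = g.residueDegree (f x) * f.residueDegree x := by
  unfold Scheme.Hom.residueDegree
  let a1 := (f.residueFieldMap x).hom.toAlgebra
  let a2 := (g.residueFieldMap (f x)).hom.toAlgebra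
  let a3 : Algebra (Z.residueField (g (f x))) (X.residueField x) :=
    ((f ≫ g).residueFieldMap x).hom.toAlgebra
  have : IsScalarTower (Z.residueField (g (f x))) (Y.residueField (f x)) (X.residueField x) := by
    refine IsScalarTower.of_algebraMap_eq' ?_
    change ((f ≫ g).residueFieldMap x).hom = _
    rw [Scheme.residueFieldMap_comp]
    rfl
  exact (Module.finrank_mul_finrank (Z.residueField (g (f x))) (Y.residueField (f x))
    (X.residueField x)).symm

lemma mapCoeff_comp {X Y Z : Scheme.{u}} (δX : X → ℤ) (δY : Y → ℤ) (δZ : Z → ℤ)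
    (f : X ⟶ Y) (g : Y ⟶ Z) (hf : Cyc.DeltaCompat f δX δY) (hg : Cyc.DeltaCompat g δY δZ)
    (x : X) :
    AlgebraicCycle.mapCoeff (f ≫ g) δX δZ x =
      AlgebraicCycle.mapCoeff f δX δY x * AlgebraicCycle.mapCoeff g δY δZ (f x) := by
  obtain ⟨n1, -, h1⟩ := hf x
  obtain ⟨n2, -, h2⟩ := hg (f x)
  unfold AlgebraicCycle.mapCoeff
  have hfg : (f ≫ g).base x = g.base (f.base x) := rfl
  rw [hfg]
  by_cases hn1 : n1 = 0
  · by_cases hn2 : n2 = 0
    · subst hn1 hn2
      simp only [Nat.cast_zero, add_zero] at h1 h2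
      rw [if_pos (h1.trans h2), if_pos h1, if_pos h2, residueDegree_comp, mul_comm]
    · rw [if_neg, if_neg (c := δY (f x) = δZ (g (f x))), mul_zero]
      · intro h; apply hn2; rw [h] at h2; omega
      · intro h; apply hn2; rw [h1, h2] at h
        have : δZ (g.base (f.base x)) = δZ (g (f x)) := rfl
        omega
  · rw [if_neg, if_neg (c := δX x = δY (f x)), zero_mul]
    · intro h; apply hn1; rw [h] at h1; omega
    · intro h; apply hn1; rw [h1, h2] at h
      have : δZ (g.base (f.base x)) = δZ (g (f x)) := rfl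
      omega

/-- For proper morphisms f : X → Y and g : Y → Z and a k-cycle α on X, g_*(f_*α) = (g ∘ f)_*α. Here a
pair (X, δ) with Cyc.IsSetup plays the role of a scheme locally of finite type over a fixed base
with a dimension function (X locally Noetherian with universally catenary local rings, δ a dimension
function), and Cyc.DeltaCompat records that the dimension function upstairs is the induced one. -/
theorem result (X Y Z : Scheme.{u}) (δX : X → ℤ) (δY : Y → ℤ) (δZ : Z → ℤ) (hX : Cyc.IsSetup X δX) (hY : Cyc.IsSetup Y δY) (hZ : Cyc.IsSetup Z δZ) (f : X ⟶ Y) (g : Y ⟶ Z) [IsProper f] [IsProper g] (hf : Cyc.DeltaCompat f δX δY) (hg : Cyc.DeltaCompat g δY δZ) (k : ℤ) (α : AlgebraicCycle X ℤ) (hα : α ∈ Cyc.Zk X δX k) : AlgebraicCycle.map g δY δZ (AlgebraicCycle.map f δX δY α) = AlgebraicCycle.map (f ≫ g) δX δZ α := by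
  classical
  ext z
  unfold AlgebraicCycle.map
  simp only [Function.locallyFinsupp.map_apply]
  -- finiteness of the relevant set
  have hfin : ((f ≫ g) ⁻¹' {z} ∩ Function.support α.toFun).Finite := by
    obtain ⟨U, hU⟩ := (PrespectralSpace.isTopologicalBasis (X := Z)).exists_subset_of_mem_open
      (by simp : z ∈ (⊤ : Set Z)) (by simp)
    have hc : IsCompact ((f ≫ g) ⁻¹' U) := (f ≫ g).isSpectralMap.2 hU.1.1 hU.1.2
    refine (α.locallyFiniteSupport.finite_inter_support_of_isCompact hc).subset ?_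
    intro x hx
    refine ⟨?_, hx.2⟩
    have : (f ≫ g) x = z := hx.1
    simp only [Set.mem_preimage, this]
    exact hU.2.1
  set S : Finset X := hfin.toFinset with hS
  have hSmem : ∀ x, x ∈ S ↔ (g (f x) = z ∧ α x ≠ 0) := by
    intro x
    rw [hS, Set.Finite.mem_toFinset]
    rfl
  -- right hand side as a finite sum
  have hR : ∑ᶠ (x : ↥X) (_ : x ∈ ⇑(f ≫ g) ⁻¹' {z}),
      α x * ↑(AlgebraicCycle.mapCoeff (f ≫ g) δX δZ x) =
      ∑ x ∈ S, α x * ((AlgebraicCycle.mapCoeff f δX δY x : ℤ) *
        (AlgebraicCycle.mapCoeff g δY δZ (f x) : ℤ)) := by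
    rw [finsum_mem_eq_sum_of_subset (t := S)]
    · refine Finset.sum_congr rfl fun x _ => ?_
      rw [mapCoeff_comp δX δY δZ f g hf hg x]
      push_cast
      rfl
    · intro x hx
      rw [Finset.mem_coe, hSmem]
      refine ⟨hx.1, ?_⟩
      intro h0
      apply hx.2
      simp [h0]
    · intro x hx
      rw [Finset.mem_coe, hSmem] at hx
      exact hx.1
  rw [hR]
  -- inner sums
  have hI : ∀ y ∈ S.image f, ∑ᶠ (x : ↥X) (_ : x ∈ ⇑f ⁻¹' {y}),
      α x * ↑(AlgebraicCycle.mapCoeff f δX δY x) =
      ∑ x ∈ S with f x = y, α x * (AlgebraicCycle.mapCoeff f δX δY x : ℤ) := by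
    intro y hy
    obtain ⟨x0, hx0, rfl⟩ := Finset.mem_image.mp hy
    rw [hSmem] at hx0
    rw [finsum_mem_eq_sum_of_subset]
    · intro x hx
      rw [Finset.mem_coe, Finset.mem_filter, hSmem]
      have hxy : f x = f x0 := hx.1
      refine ⟨⟨by rw [hxy]; exact hx0.1, ?_⟩, hxy⟩
      intro h0
      apply hx.2
      simp [h0]
    · intro x hx
      rw [Finset.mem_coe, Finset.mem_filter] at hx
      exact hx.2
  rw [finsum_mem_eq_sum_of_subset (t := S.image f)]
  · rw [← Finset.sum_fiberwise_of_maps_to (s := S) (t := S.image f) (g := f)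
      (fun x hx => Finset.mem_image_of_mem _ hx)]
    refine Finset.sum_congr rfl fun y hy => ?_
    rw [hI y hy, Finset.sum_mul]
    refine Finset.sum_congr rfl fun x hx => ?_
    rw [Finset.mem_filter] at hx
    rw [hx.2, mul_assoc]
  · intro y hy
    have hy2 := hy.2
    rw [Function.mem_support] at hy2
    have : ∑ᶠ (x : ↥X) (_ : x ∈ ⇑f ⁻¹' {y}), α x * ↑(AlgebraicCycle.mapCoeff f δX δY x) ≠ 0 := by
      intro h0
      apply hy2
      rw [h0, zero_mul]
    obtain ⟨x, hx, hx'⟩ := exists_ne_zero_of_finsum_mem_ne_zero this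
    rw [Finset.mem_coe, Finset.mem_image]
    refine ⟨x, ?_, hx⟩
    rw [hSmem]
    have hxy : f x = y := hx
    refine ⟨by rw [hxy]; exact hy.1, ?_⟩
    intro h0
    apply hx'
    simp [h0]
  · intro y hy
    rw [Finset.mem_coe, Finset.mem_image] at hy
    obtain ⟨x, hx, rfl⟩ := hy
    rw [hSmem] at hx
    exact hx.1

end Groth.Agent.S1859
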