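import Mathlib
import Groth.Agent.Lib.WittIsobaric27
import Groth.Statements.S18590

set_option autoImplicit false
universe u
open CAlg

namespace Groth.Agent.S18590

section Helpers

open Groth.Agent.Lib.WittIsobaric27

variable {A K : Type u} [CommRing A] [CommRing K] [Algebra A K]

/-- The family `M` with `M 0` replaced by the image of `A`. -/
def G (M : ℕ → Submodule A K) : ℕ → AddSubgroup K := fun k =>
  if k = 0 then (algebraMap A K).range.toAddSubgroup else (M k).toAddSubgroup

lemma mem_G_zero (M : ℕ → Submodule A K) (x : K) : x ∈ G M 0 ↔ x ∈ (algebraMap A K).range := by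
  simp [G]

lemma mem_G_pos (M : ℕ → Submodule A K) {k : ℕ} (hk : k ≠ 0) (x : K) : x ∈ G M k ↔ x ∈ M k := by
  simp [G, hk]

lemma one_mem_G (M : ℕ → Submodule A K) : (1 : K) ∈ G M 0 := by
  rw [mem_G_zero]; exact ⟨1, map_one _⟩

lemma G_mul (M : ℕ → Submodule A K)
    (hmul : ∀ (i j : ℕ) (a b : K), a ∈ M i → b ∈ M j → a * b ∈ M (i + j)) :
    ∀ a b : ℕ, ∀ x ∈ G M a, ∀ y ∈ G M b, x * y ∈ G M (a + b) := by
  intro a b x hx y hy
  by_cases ha : a = 0
  · subst ha
    rw [mem_G_zero] at hx
    obtain ⟨r, rfl⟩ := hx
    rw [zero_add]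
    by_cases hb : b = 0
    · subst hb
      rw [mem_G_zero] at hy ⊢
      obtain ⟨s, rfl⟩ := hy
      exact ⟨r * s, map_mul _ _ _⟩
    · rw [mem_G_pos M hb] at hy ⊢
      rw [← Algebra.smul_def]
      exact (M b).smul_mem r hy
  · rw [mem_G_pos M ha] at hx
    by_cases hb : b = 0
    · subst hb
      rw [mem_G_zero] at hy
      obtain ⟨s, rfl⟩ := hy
      rw [add_zero, mem_G_pos M ha, mul_comm, ← Algebra.smul_def]
      exact (M a).smul_mem s hx
    · rw [mem_G_pos M hb] at hy
      rw [mem_G_pos M (by omega)]
      exact hmul a b x y hx hy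

end Helpers

/-- Let p be a prime, A a commutative ring, K a commutative A-algebra of characteristic p and M_0, M_1,
M_2, … A-submodules of K with M_i · M_j ⊆ M_(i+j) for all i, j. Then the subset of the ring W(K) of
p-typical Witt vectors consisting of the vectors whose n-th coordinate lies in M_(p^n) for every n
is closed under addition and under multiplication by the image of W(A) under W of the structure map;
in other words it is a W(A)-submodule of W(K). (The published statement is the case of an integral
normal noetherian scheme X of characteristic p with function field K, an affine open subset U with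
coordinate ring A, and M_k the module of sections over U of the divisorial sheaf of k·D for a real
Weil divisor D on X; these form such a multiplicative family, and the subset is then the module of
sections over U of the Witt divisorial sheaf of D inside W(K). Only the two stated properties of
that family enter.) -/
theorem result
    (p : ℕ) [Fact p.Prime] (A K : Type u) [CommRing A] [CommRing K] [Algebra A K] [CharP K p]
    (M : ℕ → Submodule A K)
    (hmul : ∀ (i j : ℕ) (a b : K), a ∈ M i → b ∈ M j → a * b ∈ M (i + j)) :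
    (∀ φ ψ : WittVector p K, (∀ n : ℕ, φ.coeff n ∈ M (p ^ n)) → (∀ n : ℕ, ψ.coeff n ∈ M (p ^ n)) →
        ∀ n : ℕ, (φ + ψ).coeff n ∈ M (p ^ n)) ∧
      (∀ (x : WittVector p A) (φ : WittVector p K), (∀ n : ℕ, φ.coeff n ∈ M (p ^ n)) →
        ∀ n : ℕ, (WittVector.map (algebraMap A K) x * φ).coeff n ∈ M (p ^ n)) := by
  have hp : ∀ n : ℕ, p ^ n ≠ 0 := fun n => pow_ne_zero n (Fact.out : p.Prime).ne_zero
  constructor
  · intro φ ψ hφ hψ n
    have := Groth.Agent.Lib.WittIsobaric27.add_coeff_mem p (G M) (one_mem_G M) (G_mul M hmul) 1 φ ψ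
      (fun i => by rw [smul_eq_mul, mul_one, mem_G_pos M (hp i)]; exact hφ i)
      (fun i => by rw [smul_eq_mul, mul_one, mem_G_pos M (hp i)]; exact hψ i) n
    rwa [smul_eq_mul, mul_one, mem_G_pos M (hp n)] at this
  · intro x φ hφ n
    have := Groth.Agent.Lib.WittIsobaric27.mul_coeff_mem p (G M) (one_mem_G M) (G_mul M hmul) 0 1
      (WittVector.map (algebraMap A K) x) φ
      (fun i => by
        rw [smul_eq_mul, mul_zero, mem_G_zero, WittVector.map_coeff]
        exact ⟨_, rfl⟩)
      (fun i => by rw [smul_eq_mul, mul_one, mem_G_pos M (hp i)]; exact hφ i) n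
    rwa [zero_add, smul_eq_mul, mul_one, mem_G_pos M (hp n)] at this

end Groth.Agent.S18590
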