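import Mathlib
import Groth.Statements.S18591

set_option autoImplicit false
universe v u
open W4c5suslinpi1ab

namespace Groth.Agent.S18591

section Helpers
open CategoryTheory MonoidalCategory Functor.LaxMonoidal Functor.OplaxMonoidal

variable {C : Type u} [Category.{v} C] [MonoidalCategory C]
variable {D : Type u} [Category.{v} D] [MonoidalCategory D]

/-- first step: the adjoint of the exterior product under `adjf` alone -/
lemma map_projR_counit {L : C ⥤ D} {R : D ⥤ C} (adj : L ⊣ R) [L.OplaxMonoidal] [R.LaxMonoidal]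
    [adj.IsMonoidal] (A : D) (B : C) :
    L.map (W4c5suslinpi1ab.projR adj A B) ≫ adj.counit.app (A ⊗ L.obj B) =
      δ L (R.obj A) B ≫ (adj.counit.app A ▷ L.obj B) := by
  unfold W4c5suslinpi1ab.projR
  rw [Functor.map_comp, Category.assoc, adj.map_μ_comp_counit_app_tensor]
  have h := Functor.OplaxMonoidal.δ_natural_right L (R.obj A) (adj.unit.app B)
  dsimp at h
  rw [← reassoc_of% h, MonoidalCategory.tensorHom_def', ← whiskerLeft_comp_assoc, adj.left_triangle_components]
  simp

lemma map_projL_counit {L : C ⥤ D} {R : D ⥤ C} (adj : L ⊣ R) [L.OplaxMonoidal] [R.LaxMonoidal]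
    [adj.IsMonoidal] (A : C) (B : D) :
    L.map (W4c5suslinpi1ab.projL adj A B) ≫ adj.counit.app (L.obj A ⊗ B) =
      δ L A (R.obj B) ≫ (L.obj A ◁ adj.counit.app B) := by
  unfold W4c5suslinpi1ab.projL
  rw [Functor.map_comp, Category.assoc, adj.map_μ_comp_counit_app_tensor]
  have h := Functor.OplaxMonoidal.δ_natural_left L (adj.unit.app A) (R.obj B)
  dsimp at h
  rw [← reassoc_of% h, MonoidalCategory.tensorHom_def, ← comp_whiskerRight_assoc,
    adj.left_triangle_components]
  simp

end Helpers

open CategoryTheory MonoidalCategory Functor.LaxMonoidal Functor.OplaxMonoidal in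
/-- In a square of adjunctions between monoidal categories — fL ⊣ fR from the base S₀ to Y₁, pL ⊣ pR
from Y₁ to X (both left adjoints oplax monoidal, right adjoints with the induced lax structure), qL
⊣ qR from Y₂ to X, a functor gR : Y₂ ⥤ S₀ and a natural transformation ν : qR ⋙ gR ⟶ pR ⋙ fR from
which the base change fL gR ⟶ pR qL is built, the adjoint under the composite adjunction fL ⋙ pL ⊣
pR ⋙ fR of the exterior product fR A ⊗ gR B ⟶ fR pR (pL A ⊗ qL B) is the oplax comparison map of fL
⋙ pL followed by (pL of the counit of adjf at A) ⊗ (pL of the base change at B, then the counit of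
adjp at qL B). (The published statement assumes symmetric monoidal categories and monoidal pullbacks
and writes the domain of this map as a tensor product of pullbacks; here only oplax left adjoints
are assumed and the oplax comparison map is kept explicit.) -/
theorem result {S₀ : Type u} [Category.{v} S₀] [MonoidalCategory S₀]
    {Y₁ : Type u} [Category.{v} Y₁] [MonoidalCategory Y₁]
    {Y₂ : Type u} [Category.{v} Y₂] [MonoidalCategory Y₂]
    {X : Type u} [Category.{v} X] [MonoidalCategory X]
    {fL : S₀ ⥤ Y₁} {fR : Y₁ ⥤ S₀} (adjf : fL ⊣ fR) [fL.OplaxMonoidal] [fR.LaxMonoidal]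
    [adjf.IsMonoidal] {gR : Y₂ ⥤ S₀}
    {pL : Y₁ ⥤ X} {pR : X ⥤ Y₁} (adjp : pL ⊣ pR) [pL.OplaxMonoidal] [pR.LaxMonoidal]
    [adjp.IsMonoidal] {qL : Y₂ ⥤ X} {qR : X ⥤ Y₂} (adjq : qL ⊣ qR)
    (ν : qR ⋙ gR ⟶ pR ⋙ fR) (A : Y₁) (B : Y₂) :
    ((adjf.comp adjp).homEquiv _ _).symm (W4c5suslinpi1ab.extProd adjf adjp adjq ν A B) =
      δ (fL ⋙ pL) (fR.obj A) (gR.obj B) ≫
        (pL.map (adjf.counit.app A) ⊗ₘ
          (pL.map ((W4c5suslinpi1ab.bcMor adjf adjq ν).app B) ≫ adjp.counit.app (qL.obj B))) := by
  have h1 : fL.map (W4c5suslinpi1ab.extProd adjf adjp adjq ν A B) ≫ adjf.counit.app _ =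
      δ fL (fR.obj A) (gR.obj B) ≫ (adjf.counit.app A ▷ fL.obj (gR.obj B)) ≫
        (A ◁ (W4c5suslinpi1ab.bcMor adjf adjq ν).app B) ≫
          W4c5suslinpi1ab.projL adjp A (qL.obj B) := by
    unfold W4c5suslinpi1ab.extProd
    simp only [Functor.map_comp, Category.assoc]
    have e1 := adjf.counit_naturality (W4c5suslinpi1ab.projL adjp A (qL.obj B))
    have e2 := adjf.counit_naturality (A ◁ (W4c5suslinpi1ab.bcMor adjf adjq ν).app B)
    rw [e1, reassoc_of% e2, ← Category.assoc, Groth.Agent.S18591.map_projR_counit, Category.assoc]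
  rw [Adjunction.homEquiv_counit, Adjunction.comp_counit_app, Functor.comp_map,
    ← Functor.map_comp_assoc, h1]
  simp only [Functor.map_comp, Category.assoc]
  rw [Groth.Agent.S18591.map_projL_counit, Functor.OplaxMonoidal.comp_δ]
  simp [MonoidalCategory.tensorHom_def]

end Groth.Agent.S18591
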