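import Mathlib
import Groth.Agent.S18592
import Groth.Statements.S18594

set_option autoImplicit false
universe v u
open W4c5suslinpi1ab

namespace Groth.Agent.S18594

section Helpers
open CategoryTheory MonoidalCategory Functor.LaxMonoidal Functor.OplaxMonoidal
open Groth.Agent.S18593

variable {S₀ : Type u} [Category.{v} S₀] [MonoidalCategory S₀]
variable {Y₁ : Type u} [Category.{v} Y₁] [MonoidalCategory Y₁]
variable {Y₂ : Type u} [Category.{v} Y₂] [MonoidalCategory Y₂]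
variable {X : Type u} [Category.{v} X] [MonoidalCategory X]
variable {fL : S₀ ⥤ Y₁} {fR : Y₁ ⥤ S₀} {gR : Y₂ ⥤ S₀}
variable {pL : Y₁ ⥤ X} {pR : X ⥤ Y₁} {qL : Y₂ ⥤ X} {qR : X ⥤ Y₂}

lemma extProd_natural (adjf : fL ⊣ fR) (adjp : pL ⊣ pR) (adjq : qL ⊣ qR) [fR.LaxMonoidal]
    [pR.LaxMonoidal] (ν : qR ⋙ gR ⟶ pR ⋙ fR) {A₁ A₂ : Y₁} {B₁ B₂ : Y₂} (a : A₁ ⟶ A₂)
    (b : B₁ ⟶ B₂) :
    (fR.map a ⊗ₘ gR.map b) ≫ W4c5suslinpi1ab.extProd adjf adjp adjq ν A₂ B₂ =
      W4c5suslinpi1ab.extProd adjf adjp adjq ν A₁ B₁ ≫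
        fR.map (pR.map (pL.map a ⊗ₘ qL.map b)) := by
  unfold W4c5suslinpi1ab.extProd
  have hbc := (W4c5suslinpi1ab.bcMor adjf adjq ν).naturality b
  dsimp at hbc
  have e1 : (a ▷ fL.obj (gR.obj B₁)) ≫ (A₂ ◁ fL.map (gR.map b)) ≫
      (A₂ ◁ (W4c5suslinpi1ab.bcMor adjf adjq ν).app B₂) ≫
        W4c5suslinpi1ab.projL adjp A₂ (qL.obj B₂) =
      (A₁ ◁ (W4c5suslinpi1ab.bcMor adjf adjq ν).app B₁) ≫
        W4c5suslinpi1ab.projL adjp A₁ (qL.obj B₁) ≫ pR.map (pL.map a ⊗ₘ qL.map b) := by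
    rw [← MonoidalCategory.whiskerLeft_comp_assoc, hbc, MonoidalCategory.whiskerLeft_comp_assoc,
      projL_natural_right, ← whisker_exchange_assoc, ← Category.assoc (a ▷ _),
      projL_natural_left, Category.assoc, ← pR.map_comp, ← MonoidalCategory.tensorHom_def]
  rw [MonoidalCategory.tensorHom_def, Category.assoc, ← Category.assoc (fR.obj A₂ ◁ _),
    projR_natural_right, Category.assoc, ← Category.assoc (fR.map a ▷ _), projR_natural_left,
    Category.assoc]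
  simp only [← fR.map_comp]
  rw [e1]
  simp only [fR.map_comp, Category.assoc]

lemma isIso_extProd (adjf : fL ⊣ fR) (adjp : pL ⊣ pR) (adjq : qL ⊣ qR) [fR.LaxMonoidal]
    [pR.LaxMonoidal] (ν : qR ⋙ gR ⟶ pR ⋙ fR)
    [∀ (A : Y₁) (B : S₀), IsIso (W4c5suslinpi1ab.projR adjf A B)]
    [∀ (A : Y₁) (B : X), IsIso (W4c5suslinpi1ab.projL adjp A B)]
    [∀ B : Y₂, IsIso ((W4c5suslinpi1ab.bcMor adjf adjq ν).app B)] (A : Y₁) (B : Y₂) :
    IsIso (W4c5suslinpi1ab.extProd adjf adjp adjq ν A B) := by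
  unfold W4c5suslinpi1ab.extProd
  infer_instance

end Helpers

open CategoryTheory MonoidalCategory Functor.LaxMonoidal Functor.OplaxMonoidal in
/-- In a square of adjunctions between monoidal categories — fL ⊣ fR from the base S₀ to Y₁, pL ⊣ pR
from Y₁ to X (both left adjoints oplax monoidal, right adjoints with the induced lax structure), qL
⊣ qR from Y₂ to X, a functor gR : Y₂ ⥤ S₀ and a natural transformation ν : qR ⋙ gR ⟶ pR ⋙ fR from
which the base change fL gR ⟶ pR qL is built, with right adjoints fS of fR, gS of gR, pS of pR and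
the projection morphisms and base change isomorphisms, fix morphisms trA : A' ⟶ fS A, trB : B' ⟶ gS
B, trC : C' ⟶ pS fS (A ⊗ B) and a product m : pL A' ⊗ qL B' ⟶ C'. Then (pL trA ⊗ qL trB) followed by
the shriek product of the square equals m ≫ trC if and only if the Fubini identity holds: the tensor
product of the adjoint maps fR A' ⟶ A and gR B' ⟶ B equals the exterior product fR A' ⊗ gR B' ⟶ fR
pR (pL A' ⊗ qL B') followed by fR pR m and the adjoint map fR pR C' ⟶ A ⊗ B. -/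
theorem result {S₀ : Type u} [Category.{v} S₀] [MonoidalCategory S₀]
    {Y₁ : Type u} [Category.{v} Y₁] [MonoidalCategory Y₁]
    {Y₂ : Type u} [Category.{v} Y₂] [MonoidalCategory Y₂]
    {X : Type u} [Category.{v} X] [MonoidalCategory X]
    {fL : S₀ ⥤ Y₁} {fR : Y₁ ⥤ S₀} (adjf : fL ⊣ fR) [fL.OplaxMonoidal] [fR.LaxMonoidal]
    [adjf.IsMonoidal] {gR : Y₂ ⥤ S₀}
    {pL : Y₁ ⥤ X} {pR : X ⥤ Y₁} (adjp : pL ⊣ pR) [pL.OplaxMonoidal] [pR.LaxMonoidal]
    [adjp.IsMonoidal] {qL : Y₂ ⥤ X} {qR : X ⥤ Y₂} (adjq : qL ⊣ qR)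
    (ν : qR ⋙ gR ⟶ pR ⋙ fR)
    {fS : S₀ ⥤ Y₁} (adjf' : fR ⊣ fS) {gS : S₀ ⥤ Y₂} (adjg' : gR ⊣ gS)
    {pS : Y₁ ⥤ X} (adjp' : pR ⊣ pS)
    [∀ (A : Y₁) (B : S₀), IsIso (W4c5suslinpi1ab.projR adjf A B)]
    [∀ (A : Y₁) (B : X), IsIso (W4c5suslinpi1ab.projL adjp A B)]
    [∀ B : Y₂, IsIso ((W4c5suslinpi1ab.bcMor adjf adjq ν).app B)] (A B : S₀) (A' : Y₁) (B' : Y₂) (C' : X)
    (trA : A' ⟶ fS.obj A) (trB : B' ⟶ gS.obj B) (trC : C' ⟶ pS.obj (fS.obj (A ⊗ B)))
    (m : pL.obj A' ⊗ qL.obj B' ⟶ C') :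
    ((pL.map trA ⊗ₘ qL.map trB) ≫ W4c5suslinpi1ab.prodShriek adjf adjf' adjg' adjp adjp' adjq ν A B =
        m ≫ trC) ↔
      (((adjf'.homEquiv _ _).symm trA ⊗ₘ (adjg'.homEquiv _ _).symm trB) =
        W4c5suslinpi1ab.extProd adjf adjp adjq ν A' B' ≫ fR.map (pR.map m) ≫
          ((adjp'.comp adjf').homEquiv _ _).symm trC) := by
  have h2 := Groth.Agent.S18592.result adjf adjp adjq ν adjf' adjg' adjp' A B
  have hnat := Groth.Agent.S18594.extProd_natural adjf adjp adjq ν trA trB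
  haveI := Groth.Agent.S18594.isIso_extProd adjf adjp adjq ν A' B'
  -- the transposed form of the left-hand side
  have key : W4c5suslinpi1ab.extProd adjf adjp adjq ν A' B' ≫
      ((adjp'.comp adjf').homEquiv _ _).symm ((pL.map trA ⊗ₘ qL.map trB) ≫
        W4c5suslinpi1ab.prodShriek adjf adjf' adjg' adjp adjp' adjq ν A B) =
      ((adjf'.homEquiv _ _).symm trA ⊗ₘ (adjg'.homEquiv _ _).symm trB) := by
    rw [Adjunction.homEquiv_naturality_left_symm, Functor.comp_map, ← Category.assoc, ← hnat,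
      Category.assoc, h2, Adjunction.homEquiv_counit, Adjunction.homEquiv_counit,
      MonoidalCategory.tensorHom_comp_tensorHom]
  have key2 : ((adjp'.comp adjf').homEquiv _ _).symm (m ≫ trC) =
      fR.map (pR.map m) ≫ ((adjp'.comp adjf').homEquiv _ _).symm trC := by
    rw [Adjunction.homEquiv_naturality_left_symm, Functor.comp_map]
  constructor
  · intro h
    rw [← key, h, key2]
  · intro h
    apply ((adjp'.comp adjf').homEquiv _ _).symm.injective
    rw [← cancel_epi (W4c5suslinpi1ab.extProd adjf adjp adjq ν A' B'), key, key2, h]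

end Groth.Agent.S18594
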