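import Groth.Statements.S18598
import Mathlib.RingTheory.Polynomial.Cyclotomic.Eval
import Mathlib.RingTheory.Int.Basic

set_option autoImplicit false
universe u
open SSRed

namespace Groth.Agent.S18598


open Polynomial

/-- divisibility of natural numbers can be tested in `O` provided the prime factors of the divisor are
non-units. -/
theorem dvd_of_cast_dvd (O : Type u) [CommRing O] [IsDomain O] [CharZero O] (a b : ℕ) (hb : b ≠ 0)
    (hunit : ∀ p : ℕ, p.Prime → p ∣ a → ¬ IsUnit (p : O)) (h : (a : O) ∣ (b : O)) : a ∣ b := by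
  have ha : a ≠ 0 := by
    rintro rfl
    rw [Nat.cast_zero, zero_dvd_iff] at h
    exact hb (by exact_mod_cast h)
  set g := Nat.gcd a b with hg
  have hgpos : 0 < g := Nat.gcd_pos_of_pos_left b (Nat.pos_of_ne_zero ha)
  obtain ⟨a', ha'⟩ : g ∣ a := Nat.gcd_dvd_left a b
  obtain ⟨b', hb'⟩ : g ∣ b := Nat.gcd_dvd_right a b
  have hcop : Nat.Coprime a' b' := by
    have := Nat.coprime_div_gcd_div_gcd (m := a) (n := b) hgpos
    rwa [← hg, ha', hb', Nat.mul_div_cancel_left _ hgpos, Nat.mul_div_cancel_left _ hgpos] at this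
  have hgO : (g : O) ≠ 0 := Nat.cast_ne_zero.2 hgpos.ne'
  have hdvd : (a' : O) ∣ (b' : O) := by
    rw [ha', hb'] at h
    push_cast at h
    exact (mul_dvd_mul_iff_left hgO).1 h
  obtain ⟨x, y, hxy⟩ := (Nat.isCoprime_iff_coprime.2 hcop)
  have hxyO : (x : O) * (a' : O) + (y : O) * (b' : O) = 1 := by
    have := congrArg (Int.cast : ℤ → O) hxy
    push_cast at this
    exact this
  have hunit' : IsUnit (a' : O) := by
    apply isUnit_of_dvd_one
    rw [← hxyO]
    exact dvd_add (dvd_mul_left _ _) (dvd_mul_of_dvd_right hdvd _)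
  have ha'1 : a' = 1 := by
    by_contra hne
    obtain ⟨p, hp, hpa'⟩ := Nat.exists_prime_and_dvd hne
    refine hunit p hp (ha' ▸ Dvd.dvd.mul_left hpa' g) ?_
    exact isUnit_of_dvd_unit (Nat.cast_dvd_cast hpa') hunit'
  rw [ha', ha'1, mul_one]
  exact Nat.gcd_dvd_right a b

theorem key (O : Type u) [CommRing O] [IsDomain O] [CharZero O]
    (n : ℕ) (hn : 2 ≤ n) (hO : ∀ p : ℕ, p.Prime → p ∣ n → ¬ IsUnit (p : O))
    (α : O) (hα : IsOfFinOrder α) (h : (n : O) ∣ (α - 1) ^ 2) (hm1 : orderOf α ≠ 1) :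
    (n = 2 ∧ orderOf α = 2) ∨ (n = 4 ∧ orderOf α = 2) ∨ (n = 3 ∧ orderOf α = 3) ∨
      (n = 2 ∧ orderOf α = 4) := by
  classical
  set m := orderOf α with hm
  have hmpos : 0 < m := hα.orderOf_pos
  have hprim : IsPrimitiveRoot α m := IsPrimitiveRoot.orderOf α
  have : NeZero m := ⟨hmpos.ne'⟩
  set e := Nat.totient m with he
  have hepos : 0 < e := Nat.totient_pos.2 hmpos
  have hcard : (primitiveRoots m O).card = e := hprim.card_primitiveRoots
  -- the divisibility (1 - α)^e ∣ Φ_m(1)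
  have hdiv : (1 - α) ^ e ∣ eval 1 (cyclotomic m O) := by
    rw [cyclotomic_eq_prod_X_sub_primitiveRoots hprim, eval_prod, ← hcard, ← Finset.prod_const]
    refine Finset.prod_dvd_prod_of_dvd _ _ fun μ hμ => ?_
    have hμ' : IsPrimitiveRoot μ m := (mem_primitiveRoots hmpos).1 hμ
    obtain ⟨i, _, hi⟩ := hprim.eq_pow_of_pow_eq_one hμ'.pow_eq_one
    simp only [eval_sub, eval_X, eval_C]
    rw [← hi]
    exact ⟨∑ j ∈ Finset.range i, α ^ j, by rw [← mul_neg_geom_sum]⟩
  have hdiv2 : ((n ^ e : ℕ) : O) ∣ (eval 1 (cyclotomic m O)) ^ 2 := by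
    have h1 : ((n : O)) ^ e ∣ ((α - 1) ^ 2) ^ e := pow_dvd_pow_of_dvd h e
    have h2 : ((α - 1) ^ 2) ^ e = ((1 - α) ^ e) ^ 2 := by
      have h3 : (α - 1) ^ 2 = (1 - α) ^ 2 := by ring
      rw [h3, ← pow_mul, ← pow_mul, mul_comm]
    rw [h2] at h1
    push_cast
    exact h1.trans (pow_dvd_pow_of_dvd hdiv 2)
  have hunit : ∀ p : ℕ, p.Prime → p ∣ n ^ e → ¬ IsUnit (p : O) :=
    fun p hp hpd => hO p hp (hp.dvd_of_dvd_pow hpd)
  by_cases hpp : IsPrimePow m
  · obtain ⟨ℓ, k, hℓ, hk, hℓk⟩ := (isPrimePow_nat_iff m).1 hpp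
    obtain ⟨k, rfl⟩ := Nat.exists_eq_succ_of_ne_zero hk.ne'
    have : Fact ℓ.Prime := ⟨hℓ⟩
    have hev : eval 1 (cyclotomic m O) = (ℓ : O) := by
      rw [← hℓk]; exact eval_one_cyclotomic_prime_pow k
    rw [hev] at hdiv2
    have hd : n ^ e ∣ ℓ ^ 2 := by
      refine dvd_of_cast_dvd O _ _ (pow_ne_zero _ hℓ.ne_zero) hunit ?_
      push_cast
      push_cast at hdiv2
      exact hdiv2
    -- n is a power of ℓ
    have hnd : n ∣ ℓ ^ 2 := (dvd_pow_self n hepos.ne').trans hd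
    obtain ⟨j, hj2, rfl⟩ := (Nat.dvd_prime_pow hℓ).1 hnd
    have hj1 : 1 ≤ j := by
      rcases Nat.eq_zero_or_pos j with rfl | hj
      · simp at hn
      · exact hj
    rw [← pow_mul, Nat.pow_dvd_pow_iff_le_right hℓ.one_lt] at hd
    have hetot : e = ℓ ^ k * (ℓ - 1) := by
      rw [he, ← hℓk, Nat.totient_prime_pow_succ hℓ]
    have hℓ2 := hℓ.two_le
    have he2 : e ≤ 2 := by nlinarith
    have hℓ3 : ℓ ≤ 3 := by
      have h1 : 1 ≤ ℓ ^ k := Nat.one_le_pow _ _ (by omega)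
      have : ℓ - 1 ≤ e := by rw [hetot]; nlinarith
      omega
    interval_cases ℓ
    · -- ℓ = 2: e = 2^k
      simp only [Nat.add_one_sub_one, mul_one] at hetot
      have hk1 : k ≤ 1 := by
        by_contra hk2
        have : 2 ^ 2 ≤ 2 ^ k := Nat.pow_le_pow_right (by norm_num) (by omega)
        omega
      interval_cases k
      · -- m = 2, e = 1
        simp at hetot hℓk
        interval_cases j
        · left; exact ⟨by norm_num, hℓk.symm⟩
        · right; left; exact ⟨by norm_num, hℓk.symm⟩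
      · -- m = 4, e = 2
        simp at hetot hℓk
        have : j = 1 := by rw [hetot] at hd; omega
        subst this
        right; right; right; exact ⟨by norm_num, hℓk.symm⟩
    · -- ℓ = 3: e = 3^k * 2
      have hk0 : k = 0 := by
        by_contra hk1
        have : 3 ^ 1 ≤ 3 ^ k := Nat.pow_le_pow_right (by norm_num) (by omega)
        simp at hetot
        omega
      subst hk0
      simp at hetot hℓk
      have : j = 1 := by rw [hetot] at hd; omega
      subst this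
      right; right; left; exact ⟨by norm_num, hℓk.symm⟩
  · exfalso
    have hnpp : ∀ {p : ℕ}, p.Prime → ∀ k : ℕ, p ^ k ≠ m := by
      intro p hp k hpk
      rcases Nat.eq_zero_or_pos k with rfl | hk
      · exact hm1 (by rw [← hpk, pow_zero])
      · exact hpp ((isPrimePow_nat_iff m).2 ⟨p, k, hp, hk, hpk⟩)
    rw [eval_one_cyclotomic_not_prime_pow hnpp, one_pow] at hdiv2
    have hd : n ^ e ∣ 1 := by
      refine dvd_of_cast_dvd O _ _ one_ne_zero hunit ?_
      simpa using hdiv2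
    have : n ^ e = 1 := Nat.dvd_one.1 hd
    have : n = 1 := by
      rcases Nat.pow_eq_one.1 this with h | h
      · exact h
      · omega
    omega

theorem result' (O : Type u) [CommRing O] [IsDomain O] [CharZero O]
    (n : ℕ) (_hn : 0 < n) (hO : ∀ p : ℕ, p.Prime → p ∣ n → ¬ IsUnit (p : O))
    (α : O) (hα : IsOfFinOrder α) (h : (n : O) ∣ (α - 1) ^ 2) :
    (5 ≤ n → α = 1) ∧ (n = 4 → α ^ 2 = 1) ∧ (n = 3 → α ^ 3 = 1) ∧ (n = 2 → α ^ 4 = 1) := by
  by_cases hm1 : orderOf α = 1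
  · have h1 : α = 1 := orderOf_eq_one_iff.1 hm1
    subst h1
    simp
  · have hk : 2 ≤ n → _ := fun hn2 => key O n hn2 hO α hα h hm1
    refine ⟨fun h5 => ?_, fun h4 => ?_, fun h3 => ?_, fun h2 => ?_⟩
    · rcases hk (by omega) with ⟨h, _⟩ | ⟨h, _⟩ | ⟨h, _⟩ | ⟨h, _⟩ <;> omega
    · rcases hk (by omega) with ⟨h, _⟩ | ⟨_, hm⟩ | ⟨h, _⟩ | ⟨h, _⟩
      · omega
      · rw [← hm]; exact pow_orderOf_eq_one α
      · omega
      · omega
    · rcases hk (by omega) with ⟨h, _⟩ | ⟨h, _⟩ | ⟨_, hm⟩ | ⟨h, _⟩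
      · omega
      · omega
      · rw [← hm]; exact pow_orderOf_eq_one α
      · omega
    · rcases hk (by omega) with ⟨_, hm⟩ | ⟨h, _⟩ | ⟨h, _⟩ | ⟨_, hm⟩
      · have : α ^ 2 = 1 := by rw [← hm]; exact pow_orderOf_eq_one α
        rw [show 4 = 2 * 2 from rfl, pow_mul, this, one_pow]
      · omega
      · omega
      · rw [← hm]; exact pow_orderOf_eq_one α


/-- Let O be a commutative integral domain of characteristic zero, n a positive integer such that no
prime number dividing n is a unit in O, and α an element of O of finite multiplicative order such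
that (α − 1)² is divisible by n in O. Then α = 1 if n ≥ 5, α² = 1 if n = 4, α³ = 1 if n = 3, and α⁴
= 1 if n = 2. -/
theorem result (O : Type u) [CommRing O] [IsDomain O] [CharZero O]
    (n : ℕ) (hn : 0 < n) (hO : ∀ p : ℕ, p.Prime → p ∣ n → ¬ IsUnit (p : O))
    (α : O) (hα : IsOfFinOrder α) (h : (n : O) ∣ (α - 1) ^ 2) :
    (5 ≤ n → α = 1) ∧ (n = 4 → α ^ 2 = 1) ∧ (n = 3 → α ^ 3 = 1) ∧ (n = 2 → α ^ 4 = 1) := by
  exact result' O n hn hO α hα h

end Groth.Agent.S18598
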