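import Groth.Statements.S18614
import Mathlib.LinearAlgebra.Dual.Lemmas
import Mathlib.Topology.Algebra.OpenSubgroup

set_option autoImplicit false
universe u v
open LinTop

namespace Groth.Agent.S18614

/-- Let k be a field carrying the discrete topology and M a separated topological k-module with a
k-linear topology (the open k-submodules form a basis of neighbourhoods of zero and M is a
topological additive group). For a closed submodule M₁, the perpendicular of the perpendicular of
M₁, both taken with respect to the pairing of M with its continuous dual (the continuous k-linear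
maps M → k), is M₁ itself: an element killed by every continuous functional vanishing on M₁ belongs
to M₁. -/
theorem result (k : Type u) (M : Type v) [Field k]
    [TopologicalSpace k] [DiscreteTopology k] [AddCommGroup M] [Module k M] [TopologicalSpace M]
    [IsTopologicalAddGroup M] [IsLinearTopology k M] [T2Space M]
    (M₁ : Submodule k M) (hM₁ : IsClosed (M₁ : Set M)) (x : M)
    (hx : ∀ φ : M →L[k] k, (∀ m ∈ M₁, φ m = 0) → φ x = 0) : x ∈ M₁ := by
  by_contra hxM
  have hU : {y : M | x + y ∈ (M₁ : Set M)ᶜ} ∈ nhds (0 : M) := by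
    have hc : ContinuousAt (fun y : M => x + y) 0 := (continuous_add_left x).continuousAt
    apply hc
    have : (fun y : M => x + y) 0 = x := add_zero x
    rw [this]
    exact hM₁.isOpen_compl.mem_nhds hxM
  obtain ⟨N, hNopen, hN⟩ := (IsLinearTopology.hasBasis_open_submodule k (M := M)).mem_iff.mp hU
  have hxP : x ∉ M₁ ⊔ N := by
    intro hmem
    obtain ⟨m, hm, n, hn, hmn⟩ := Submodule.mem_sup.mp hmem
    have h1 : x + (-n) ∈ (M₁ : Set M)ᶜ := hN (N.neg_mem hn)
    apply h1
    have : x + (-n) = m := by rw [← hmn]; abel
    rw [this]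
    exact hm
  have hPopen : IsOpen ((M₁ ⊔ N : Submodule k M) : Set M) :=
    AddSubgroup.isOpen_mono (H₁ := N.toAddSubgroup) (H₂ := (M₁ ⊔ N).toAddSubgroup)
      (fun y hy => (le_sup_right : N ≤ M₁ ⊔ N) hy) hNopen
  obtain ⟨f, hfx, hfP⟩ := Submodule.exists_dual_map_eq_bot_of_notMem hxP inferInstance
  have hfP' : ∀ m ∈ M₁ ⊔ N, f m = 0 := by
    intro m hm
    have : f m ∈ (M₁ ⊔ N).map f := Submodule.mem_map_of_mem hm
    rw [hfP] at this
    exact (Submodule.mem_bot k).mp this
  have hcont : Continuous f := by
    rw [continuous_iff_continuousAt]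
    intro y
    rw [ContinuousAt, nhds_discrete k, Filter.tendsto_pure]
    have hopen : IsOpen ((fun z : M => z - y) ⁻¹' ((M₁ ⊔ N : Submodule k M) : Set M)) :=
      hPopen.preimage (continuous_sub_right y)
    have hy : y ∈ (fun z : M => z - y) ⁻¹' ((M₁ ⊔ N : Submodule k M) : Set M) := by
      simp
    filter_upwards [hopen.mem_nhds hy] with z hz
    have : f (z - y) = 0 := hfP' _ hz
    rw [map_sub, sub_eq_zero] at this
    exact this
  let φ : M →L[k] k := ⟨f, hcont⟩
  have h0 : φ x = 0 := hx φ (fun m hm => hfP' m ((le_sup_left : M₁ ≤ M₁ ⊔ N) hm))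
  exact hfx h0

end Groth.Agent.S18614
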