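import Groth.Statements.S18615
import Mathlib

set_option autoImplicit false
universe u v
open LinTop

namespace Groth.Agent.S18615

open Topology in
/-- Let k be a field carrying the discrete topology and M a separated topological k-module with a
k-linear topology (open k-submodules form a basis of neighbourhoods of zero, M a topological
additive group). For closed submodules M₁ ⊆ M₂ there is a short exact sequence 0 → M₂^⊥ → M₁^⊥ →
(M₂/M₁)^* → 0 of plain k-modules, where ⊥ denotes the annihilator in the continuous dual of M and *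
the continuous dual. Stated here as its one non-formal part, surjectivity on the right: every
continuous functional on M₂ (subspace topology) that vanishes on M₁ is the restriction of a
continuous functional on M vanishing on M₁ (continuous functionals on M₂/M₁ being the continuous
functionals on M₂ that kill M₁). -/
theorem result (k : Type u) (M : Type v) [Field k]
    [TopologicalSpace k] [DiscreteTopology k] [AddCommGroup M] [Module k M] [TopologicalSpace M]
    [IsTopologicalAddGroup M] [IsLinearTopology k M] [T2Space M]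
    (M₁ M₂ : Submodule k M) (h₁₂ : M₁ ≤ M₂) (hM₁ : IsClosed (M₁ : Set M))
    (hM₂ : IsClosed (M₂ : Set M)) (ψ : M₂ →L[k] k)
    (hψ : ∀ m : M₂, (m : M) ∈ M₁ → ψ m = 0) :
    ∃ φ : M →L[k] k, (∀ m ∈ M₁, φ m = 0) ∧ ∀ m : M₂, φ (m : M) = ψ m := by
  classical
  have hker : (ψ ⁻¹' {0} : Set M₂) ∈ 𝓝 (0 : M₂) := by
    apply ψ.continuous.continuousAt.preimage_mem_nhds
    rw [map_zero]
    exact (isOpen_discrete {0}).mem_nhds rfl
  rw [nhds_subtype_eq_comap] at hker
  obtain ⟨V, hV, hVsub⟩ := Filter.mem_comap.mp hker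
  obtain ⟨U, hUopen, hUV⟩ := (IsLinearTopology.hasBasis_open_submodule k).mem_iff.mp hV
  let j : M₂ →ₗ[k] M ⧸ U := U.mkQ ∘ₗ M₂.subtype
  have hj : LinearMap.ker j ≤ LinearMap.ker ψ.toLinearMap := by
    intro x hx
    have hxU : (x : M) ∈ U := by
      simpa [j, Submodule.Quotient.mk_eq_zero] using hx
    exact hVsub (hUV hxU)
  let e := j.quotKerEquivRange
  let ψ₁ : (M₂ ⧸ LinearMap.ker j) →ₗ[k] k := (LinearMap.ker j).liftQ ψ.toLinearMap hj
  let ψ₂ : LinearMap.range j →ₗ[k] k := ψ₁ ∘ₗ e.symm.toLinearMap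
  obtain ⟨χ, hχ⟩ := LinearMap.exists_extend ψ₂
  let φ₀ : M →ₗ[k] k := χ ∘ₗ U.mkQ
  have hφ₀U : ∀ u ∈ U, φ₀ u = 0 := by
    intro u hu
    simp [φ₀, (Submodule.Quotient.mk_eq_zero U).mpr hu]
  have hcont : Continuous φ₀ := by
    apply continuous_of_continuousAt_zero φ₀.toAddMonoidHom
    rw [ContinuousAt, map_zero]
    intro s hs
    have hsub : (U : Set M) ⊆ φ₀ ⁻¹' s := fun u hu => by
      rw [Set.mem_preimage, hφ₀U u hu]
      exact mem_of_mem_nhds hs
    rw [Filter.mem_map]
    exact Filter.mem_of_superset (hUopen.mem_nhds U.zero_mem) hsub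
  have hφψ : ∀ m : M₂, φ₀ (m : M) = ψ m := by
    intro m
    have h1 : φ₀ (m : M) = χ ((⟨j m, LinearMap.mem_range_self j m⟩ : LinearMap.range j) : M ⧸ U) :=
      rfl
    have h2 := LinearMap.congr_fun hχ ⟨j m, LinearMap.mem_range_self j m⟩
    simp only [LinearMap.comp_apply, Submodule.subtype_apply] at h2
    rw [h1, h2]
    have h3 : e.symm ⟨j m, LinearMap.mem_range_self j m⟩ = Submodule.Quotient.mk m := by
      rw [LinearEquiv.symm_apply_eq]
      rfl
    simp only [ψ₂, LinearMap.comp_apply, LinearEquiv.coe_coe, h3, ψ₁]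
    rfl
  refine ⟨⟨φ₀, hcont⟩, ?_, ?_⟩
  · intro m hm
    have := hφψ ⟨m, h₁₂ hm⟩
    show φ₀ m = 0
    rw [this]
    exact hψ ⟨m, h₁₂ hm⟩ hm
  · intro m
    exact hφψ m

end Groth.Agent.S18615
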