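import Groth.Statements.S18616
import Groth.Agent.Lib.H2DeRhamRecept
import Mathlib

set_option autoImplicit false
universe u
open DeRham

namespace Groth.Agent.S18616

open Groth.Agent.Lib.H2DeRhamD Groth.Agent.Lib.H2DeRhamLie Groth.Agent.Lib.H2DeRhamRecept KaehlerDifferential exteriorPower MvPowerSeries

section
variable (k : Type u) [Field k] [CharZero k] (σ : Type u) [Fintype σ]

/-- the Euler form `v ↦ ∑ Xᵢ vᵢ` -/
noncomputable def eps : Module.Dual (MvPowerSeries σ k) (σ → MvPowerSeries σ k) :=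
  ∑ i, (X i : MvPowerSeries σ k) • LinearMap.proj i

theorem eps_apply (v : σ → MvPowerSeries σ k) : eps k σ v = ∑ i, X i * v i := by
  simp [eps]

/-- total degree of an exponent -/
def deg (m : σ →₀ ℕ) : ℕ := ∑ i, m i

theorem coeff_X_mul_pderiv (i : σ) (g : MvPowerSeries σ k) (m : σ →₀ ℕ) :
    coeff m (X i * pderiv k i g) = (m i : k) * coeff m g := by
  classical
  rw [X_def, coeff_monomial_mul]
  split_ifs with h
  · rw [one_mul, coeff_pderiv]
    have h1 : 1 ≤ m i := by
      have := h i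
      simpa using this
    have h2 : m - Finsupp.single i 1 + Finsupp.single i 1 = m := tsub_add_cancel_of_le h
    rw [h2, Finsupp.tsub_apply, Finsupp.single_eq_same, mul_comm]
    congr 1
    have : ((m i - 1 : ℕ) : k) + 1 = ((m i - 1 + 1 : ℕ) : k) := by push_cast; ring
    rw [this, Nat.sub_add_cancel h1]
  · have h1 : m i = 0 := by
      by_contra h0
      apply h
      intro j
      by_cases hj : j = i
      · subst hj
        simp only [Finsupp.single_eq_same]
        omega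
      · rw [Finsupp.single_eq_of_ne hj]
        exact Nat.zero_le _
    rw [h1]
    simp

variable (δ : Derivation k (MvPowerSeries σ k) (σ → MvPowerSeries σ k))
  (hδ : ∀ (f : MvPowerSeries σ k) (i : σ), δ f i = MvPowerSeries.pderiv k i f)

/-- the Euler derivation `∑ Xᵢ ∂ᵢ` -/
noncomputable def eul : Derivation k (MvPowerSeries σ k) (MvPowerSeries σ k) :=
  (eps k σ).compDer δ

theorem eul_apply (g : MvPowerSeries σ k) : eul k σ δ g = eps k σ (δ g) := rfl

include hδ in
theorem coeff_eul (g : MvPowerSeries σ k) (m : σ →₀ ℕ) :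
    coeff m (eul k σ δ g) = (deg σ m : k) * coeff m g := by
  rw [eul_apply, eps_apply, map_sum, deg, Nat.cast_sum, Finset.sum_mul]
  refine Finset.sum_congr rfl fun i _ => ?_
  rw [hδ, coeff_X_mul_pderiv]

include hδ in
theorem eul_X (i : σ) : eul k σ δ (X i) = (1 : ℤ) • X i := by
  classical
  ext m
  rw [coeff_eul k σ δ hδ, one_smul, coeff_X]
  split_ifs with h
  · rw [h, deg]
    simp [Finsupp.single_apply]
  · rw [mul_zero]

/-- the inverse of `E + q` -/
noncomputable def Tq (q : ℕ) (g : MvPowerSeries σ k) : MvPowerSeries σ k :=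
  fun m => coeff m g / ((deg σ m : k) + q)

theorem coeff_Tq (q : ℕ) (g : MvPowerSeries σ k) (m : σ →₀ ℕ) :
    coeff m (Tq k σ q g) = coeff m g / ((deg σ m : k) + q) := rfl

theorem ne_zero_aux (q : ℕ) (hq : 0 < q) (m : σ →₀ ℕ) : ((deg σ m : k) + q) ≠ 0 := by
  have : ((deg σ m + q : ℕ) : k) ≠ 0 := Nat.cast_ne_zero.mpr (by omega)
  simpa using this

include hδ in
theorem eul_Tq (q : ℕ) (hq : 0 < q) (g : MvPowerSeries σ k) :
    eul k σ δ (Tq k σ q g) + (q : ℤ) • Tq k σ q g = g := by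
  ext m
  rw [map_add, coeff_eul k σ δ hδ, ← Int.cast_smul_eq_zsmul k, map_smul, coeff_Tq, smul_eq_mul]
  have := ne_zero_aux k σ q hq m
  field_simp
  push_cast
  ring

include hδ in
theorem eul_inj (q : ℕ) (hq : 0 < q) (h : MvPowerSeries σ k)
    (hh : eul k σ δ h + (q : ℤ) • h = 0) : h = 0 := by
  ext m
  have h1 := congrArg (coeff m) hh
  rw [map_add, coeff_eul k σ δ hδ, ← Int.cast_smul_eq_zsmul k, map_smul, smul_eq_mul, map_zero,
    ← add_mul] at h1
  rcases mul_eq_zero.mp h1 with h2 | h2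
  · exact absurd (by simpa using h2) (ne_zero_aux k σ q hq m)
  · rw [h2, map_zero]

section Order

variable [LinearOrder σ]

/-- the increasing enumeration of `s` -/
noncomputable def es {q : ℕ} (s : Set.powersetCard σ q) : Fin q → σ :=
  fun j => Set.powersetCard.ofFinEmbEquiv.symm s j

/-- the form `∑ gₛ dX_s` on the Kähler side -/
noncomputable def xs (q : ℕ) (g : Set.powersetCard σ q → MvPowerSeries σ k) :
    ExteriorAlgebra (MvPowerSeries σ k) (Ω[MvPowerSeries σ k⁄k]) :=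
  ∑ s, g s • wedgeD k (MvPowerSeries σ k) q (fun j => X (es σ s j))

theorem xs_mem (q : ℕ) (g : Set.powersetCard σ q → MvPowerSeries σ k) :
    xs k σ q g ∈ ⋀[MvPowerSeries σ k]^q (Ω[MvPowerSeries σ k⁄k]) :=
  Submodule.sum_mem _ fun s _ => Submodule.smul_mem _ _ (wedgeD_mem k _ q _)

include hδ in
theorem lie_xs (q : ℕ) (g : Set.powersetCard σ q → MvPowerSeries σ k) :
    lie k (MvPowerSeries σ k) (eul k σ δ) (xs k σ q g) =
      xs k σ q (fun s => eul k σ δ (g s) + (q : ℤ) • g s) := by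
  rw [xs, xs, lie_sum]
  refine Finset.sum_congr rfl fun s _ => ?_
  rw [lie_smul, lie_wedgeD k (MvPowerSeries σ k) (eul k σ δ) q _ (fun _ => 1)
    (fun j => eul_X k σ δ hδ _), add_smul, smul_comm, Finset.sum_const, Finset.card_univ,
    Fintype.card_fin]
  congr 1
  rw [nsmul_eq_mul, mul_one, smul_assoc]

include hδ in
theorem δ_X (i : σ) : δ (X i) = Pi.basisFun (MvPowerSeries σ k) σ i := by
  classical
  funext j
  rw [hδ, pderiv_X, Pi.basisFun_apply]
  simp [Pi.single_apply, eq_comm]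

include hδ in
theorem Λ_xs (q : ℕ) (g : Set.powersetCard σ q → MvPowerSeries σ k) :
    Λ k (MvPowerSeries σ k) δ (xs k σ q g) =
      ((∑ s, g s • (Pi.basisFun (MvPowerSeries σ k) σ).exteriorPower q s :
        ↥(⋀[MvPowerSeries σ k]^q (σ → MvPowerSeries σ k))) :
        ExteriorAlgebra (MvPowerSeries σ k) (σ → MvPowerSeries σ k)) := by
  rw [xs, map_sum, Submodule.coe_sum]
  refine Finset.sum_congr rfl fun s _ => ?_
  rw [map_smul, Λ_wedgeD, Submodule.coe_smul, exteriorPower.basis_apply,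
    exteriorPower.ιMulti_family_apply_coe]
  congr 2
  funext j
  exact δ_X k σ δ hδ _

end Order

end

set_option maxHeartbeats 1000000 in
theorem result' (k : Type u) [Field k] [CharZero k]
    (σ : Type u) [Finite σ]
    (δ : Derivation k (MvPowerSeries σ k) (σ → MvPowerSeries σ k))
    (hδ : ∀ (f : MvPowerSeries σ k) (i : σ), δ f i = MvPowerSeries.pderiv k i f)
    (hgen : Submodule.span (MvPowerSeries σ k) (Set.range δ) = ⊤)
    (d : ∀ p : ℕ, ↥(⋀[MvPowerSeries σ k]^p (σ → MvPowerSeries σ k)) →ₗ[k]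
      ↥(⋀[MvPowerSeries σ k]^(p + 1) (σ → MvPowerSeries σ k)))
    (hd : DeRham.IsDiff δ d) (p : ℕ) :
    DeRham.cocycles d (p + 1) ≤ DeRham.coboundaries d (p + 1) := by
  classical
  haveI : Fintype σ := Fintype.ofFinite σ
  letI : LinearOrder σ := linearOrderOfSTO WellOrderingRel
  intro y hy
  have hy0 : d (p + 1) y = 0 := hy
  have hε : ∀ a, eps k σ (δ a) = eul k σ δ a := fun a => rfl
  -- `Λ (lie x)` depends only on `Λ x`
  have hdep : ∀ (q : ℕ) (x x' : ↥(⋀[MvPowerSeries σ k]^(q + 1) (Ω[MvPowerSeries σ k⁄k]))),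
      Λ k (MvPowerSeries σ k) δ (x : ExteriorAlgebra (MvPowerSeries σ k) (Ω[MvPowerSeries σ k⁄k])) =
        Λ k (MvPowerSeries σ k) δ (x' : ExteriorAlgebra (MvPowerSeries σ k) (Ω[MvPowerSeries σ k⁄k])) →
      Λ k (MvPowerSeries σ k) δ (lie k (MvPowerSeries σ k) (eul k σ δ) x) =
        Λ k (MvPowerSeries σ k) δ (lie k (MvPowerSeries σ k) (eul k σ δ) x') := by
    intro q x x' hxx'
    rw [Λ_lie k (MvPowerSeries σ k) δ (eps k σ) (eul k σ δ) hε d hd.1 q x,
      Λ_lie k (MvPowerSeries σ k) δ (eps k σ) (eul k σ δ) hε d hd.1 q x']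
    have e1 : (⟨Λ k (MvPowerSeries σ k) δ x, Λ_mem k (MvPowerSeries σ k) δ x.2⟩ :
        ↥(⋀[MvPowerSeries σ k]^(q + 1) (σ → MvPowerSeries σ k))) =
        ⟨Λ k (MvPowerSeries σ k) δ x', Λ_mem k (MvPowerSeries σ k) δ x'.2⟩ := Subtype.ext hxx'
    have e2 : (⟨contrG (eps k σ) (Λ k (MvPowerSeries σ k) δ x),
        contrG_mem (eps k σ) (Λ_mem k (MvPowerSeries σ k) δ x.2)⟩ :
        ↥(⋀[MvPowerSeries σ k]^q (σ → MvPowerSeries σ k))) =
        ⟨contrG (eps k σ) (Λ k (MvPowerSeries σ k) δ x'),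
          contrG_mem (eps k σ) (Λ_mem k (MvPowerSeries σ k) δ x'.2)⟩ :=
      Subtype.ext (congrArg (contrG (eps k σ)) hxx')
    rw [e1, e2]
  -- coordinates of `y`
  have hyf : y = ∑ s, ((Pi.basisFun (MvPowerSeries σ k) σ).exteriorPower (p + 1)).repr y s •
      (Pi.basisFun (MvPowerSeries σ k) σ).exteriorPower (p + 1) s :=
    (((Pi.basisFun (MvPowerSeries σ k) σ).exteriorPower (p + 1)).sum_repr y).symm
  set f : Set.powersetCard σ (p + 1) → MvPowerSeries σ k :=
    fun s => ((Pi.basisFun (MvPowerSeries σ k) σ).exteriorPower (p + 1)).repr y s with hf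
  -- the preimage under `L`
  set xz : ↥(⋀[MvPowerSeries σ k]^(p + 1) (Ω[MvPowerSeries σ k⁄k])) :=
    ⟨xs k σ (p + 1) (fun s => Tq k σ (p + 1) (f s)), xs_mem k σ (p + 1) _⟩ with hxz
  set xy : ↥(⋀[MvPowerSeries σ k]^(p + 1) (Ω[MvPowerSeries σ k⁄k])) :=
    ⟨xs k σ (p + 1) f, xs_mem k σ (p + 1) _⟩ with hxy
  have hlie : lie k (MvPowerSeries σ k) (eul k σ δ)
      (xz : ExteriorAlgebra (MvPowerSeries σ k) (Ω[MvPowerSeries σ k⁄k])) = xy := by
    show lie k (MvPowerSeries σ k) (eul k σ δ) (xs k σ (p + 1) _) = xs k σ (p + 1) f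
    rw [lie_xs k σ δ hδ]
    congr 1
    funext s
    have := eul_Tq k σ δ hδ (p + 1) (Nat.succ_pos p) (f s)
    exact_mod_cast this
  have hΛxy : (⟨Λ k (MvPowerSeries σ k) δ xy, Λ_mem k (MvPowerSeries σ k) δ xy.2⟩ :
      ↥(⋀[MvPowerSeries σ k]^(p + 1) (σ → MvPowerSeries σ k))) = y := by
    apply Subtype.ext
    show Λ k (MvPowerSeries σ k) δ (xs k σ (p + 1) f) = _
    rw [Λ_xs k σ δ hδ, ← hyf]
  -- `u = d z` where `z = Λ xz`
  set z : ↥(⋀[MvPowerSeries σ k]^(p + 1) (σ → MvPowerSeries σ k)) :=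
    ⟨Λ k (MvPowerSeries σ k) δ xz, Λ_mem k (MvPowerSeries σ k) δ xz.2⟩ with hz
  set u := d (p + 1) z with hu
  have hucoe : (u : ExteriorAlgebra (MvPowerSeries σ k) (σ → MvPowerSeries σ k)) =
      Λ k (MvPowerSeries σ k) δ (dFun k (MvPowerSeries σ k)
        (xz : ExteriorAlgebra (MvPowerSeries σ k) (Ω[MvPowerSeries σ k⁄k]))) :=
    Λ_dFun k (MvPowerSeries σ k) δ d hd.1 (p + 1) xz
  have huh : u = ∑ t, ((Pi.basisFun (MvPowerSeries σ k) σ).exteriorPower (p + 2)).repr u t •
      (Pi.basisFun (MvPowerSeries σ k) σ).exteriorPower (p + 2) t :=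
    (((Pi.basisFun (MvPowerSeries σ k) σ).exteriorPower (p + 2)).sum_repr u).symm
  set h : Set.powersetCard σ (p + 2) → MvPowerSeries σ k :=
    fun t => ((Pi.basisFun (MvPowerSeries σ k) σ).exteriorPower (p + 2)).repr u t with hh
  set v : ↥(⋀[MvPowerSeries σ k]^(p + 1 + 1) (Ω[MvPowerSeries σ k⁄k])) :=
    ⟨dFun k (MvPowerSeries σ k) xz, dFun_mem k (MvPowerSeries σ k) xz.2⟩ with hv
  set v' : ↥(⋀[MvPowerSeries σ k]^(p + 1 + 1) (Ω[MvPowerSeries σ k⁄k])) :=
    ⟨xs k σ (p + 2) h, xs_mem k σ (p + 2) _⟩ with hv'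
  have hvv' : Λ k (MvPowerSeries σ k) δ
      (v : ExteriorAlgebra (MvPowerSeries σ k) (Ω[MvPowerSeries σ k⁄k])) =
      Λ k (MvPowerSeries σ k) δ
        (v' : ExteriorAlgebra (MvPowerSeries σ k) (Ω[MvPowerSeries σ k⁄k])) := by
    show Λ k (MvPowerSeries σ k) δ (dFun k (MvPowerSeries σ k) xz) =
      Λ k (MvPowerSeries σ k) δ (xs k σ (p + 2) h)
    rw [← hucoe, Λ_xs k σ δ hδ, ← huh]
  have h1 := hdep (p + 1) v v' hvv'
  -- left side vanishes
  have h2 : Λ k (MvPowerSeries σ k) δ (lie k (MvPowerSeries σ k) (eul k σ δ)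
      (v : ExteriorAlgebra (MvPowerSeries σ k) (Ω[MvPowerSeries σ k⁄k]))) = 0 := by
    show Λ k (MvPowerSeries σ k) δ (lie k (MvPowerSeries σ k) (eul k σ δ)
      (dFun k (MvPowerSeries σ k) xz)) = 0
    rw [← dFun_lie, hlie, ← Λ_dFun k (MvPowerSeries σ k) δ d hd.1 (p + 1) xy, hΛxy, hy0]
    rfl
  -- right side in coordinates
  have h3 : Λ k (MvPowerSeries σ k) δ (lie k (MvPowerSeries σ k) (eul k σ δ)
      (v' : ExteriorAlgebra (MvPowerSeries σ k) (Ω[MvPowerSeries σ k⁄k]))) =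
      ((∑ t, (eul k σ δ (h t) + ((p + 2 : ℕ) : ℤ) • h t) •
        (Pi.basisFun (MvPowerSeries σ k) σ).exteriorPower (p + 2) t :
        ↥(⋀[MvPowerSeries σ k]^(p + 2) (σ → MvPowerSeries σ k))) :
        ExteriorAlgebra (MvPowerSeries σ k) (σ → MvPowerSeries σ k)) := by
    show Λ k (MvPowerSeries σ k) δ (lie k (MvPowerSeries σ k) (eul k σ δ)
      (xs k σ (p + 2) h)) = _
    rw [lie_xs k σ δ hδ, Λ_xs k σ δ hδ]
  have h4 : ∑ t, (eul k σ δ (h t) + ((p + 2 : ℕ) : ℤ) • h t) •
      (Pi.basisFun (MvPowerSeries σ k) σ).exteriorPower (p + 2) t = 0 := by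
    apply Subtype.ext
    rw [← h3, ← h1, h2]
    rfl
  have h5 : ∀ t, h t = 0 := by
    intro t
    have := Fintype.linearIndependent_iff.mp
      ((Pi.basisFun (MvPowerSeries σ k) σ).exteriorPower (p + 2)).linearIndependent _ h4 t
    exact eul_inj k σ δ hδ (p + 2) (by omega) (h t) this
  have hu0 : u = 0 := by
    rw [huh]
    refine Finset.sum_eq_zero fun t _ => ?_
    have e : h t = 0 := h5 t
    show h t • _ = 0
    rw [e, zero_smul]
  -- conclusion
  have key := Λ_lie k (MvPowerSeries σ k) δ (eps k σ) (eul k σ δ) hε d hd.1 p xz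
  refine ⟨⟨contrG (eps k σ) (Λ k (MvPowerSeries σ k) δ xz),
    contrG_mem (eps k σ) (Λ_mem k (MvPowerSeries σ k) δ xz.2)⟩, ?_⟩
  apply Subtype.ext
  have h6 : Λ k (MvPowerSeries σ k) δ (lie k (MvPowerSeries σ k) (eul k σ δ)
      (xz : ExteriorAlgebra (MvPowerSeries σ k) (Ω[MvPowerSeries σ k⁄k]))) =
      (y : ExteriorAlgebra (MvPowerSeries σ k) (σ → MvPowerSeries σ k)) := by
    rw [hlie, ← hΛxy]
  rw [← h6, key]
  have h7 : d (p + 1) ⟨Λ k (MvPowerSeries σ k) δ xz, Λ_mem k (MvPowerSeries σ k) δ xz.2⟩ = 0 := hu0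
  rw [h7]
  simp


open exteriorPower in
/-- The formal Poincaré lemma. The published statement is that for a complete separated linearly
topologized commutative algebra K over a field k of characteristic zero the inclusion of the
separated de Rham complex of K into that of K[[t_1, ..., t_n]] is a quasi-isomorphism; this row is
the case K = k in positive degrees. Concretely: k is a field of characteristic 0, σ is finite, A =
k[[σ]]; the separated differentials are modelled by the free A-module of functions σ → A (the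
coordinate dt_i being the i-th basis vector) with the derivation δ whose components are the formal
partial derivatives, so that δ(A) generates it; d is any family of k-linear maps between consecutive
exterior powers of this module over A satisfying the de Rham rule with d ∘ d = 0. Then for every p ≥
1 the closed p-forms are exact. (Degree zero, that a power series with all partial derivatives zero
is constant, is omitted.) -/
theorem result (k : Type u) [Field k] [CharZero k]
    (σ : Type u) [Finite σ]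
    (δ : Derivation k (MvPowerSeries σ k) (σ → MvPowerSeries σ k))
    (hδ : ∀ (f : MvPowerSeries σ k) (i : σ), δ f i = MvPowerSeries.pderiv k i f)
    (hgen : Submodule.span (MvPowerSeries σ k) (Set.range δ) = ⊤)
    (d : ∀ p : ℕ, ↥(⋀[MvPowerSeries σ k]^p (σ → MvPowerSeries σ k)) →ₗ[k]
      ↥(⋀[MvPowerSeries σ k]^(p + 1) (σ → MvPowerSeries σ k)))
    (hd : DeRham.IsDiff δ d) (p : ℕ) :
    DeRham.cocycles d (p + 1) ≤ DeRham.coboundaries d (p + 1) := by
  exact result' k σ δ hδ hgen d hd p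

end Groth.Agent.S18616
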