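import Groth.Statements.S1863
import Groth.Agent.Lib.CycOpenRestrict

set_option autoImplicit false
universe u
open CategoryTheory AlgebraicGeometry
open Cyc

namespace Groth.Agent.S1863

/-- Let U ⊆ X be open and α, β k-cycles on X whose restrictions to U are rationally equivalent on U (for
the restricted dimension function). Then there is a k-cycle γ on X vanishing on U with α rationally
equivalent to β + γ. Here a pair (X, δ) with Cyc.IsSetup plays the role of a scheme locally of
finite type over a fixed base with a dimension function (X locally Noetherian with universally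
catenary local rings, δ a dimension function). -/
theorem result (X : Scheme.{u}) (δ : X → ℤ) (hX : Cyc.IsSetup X δ) (U : X.Opens) (k : ℤ) (α β : AlgebraicCycle X ℤ) (hα : α ∈ Cyc.Zk X δ k) (hβ : β ∈ Cyc.Zk X δ k) (αU βU : AlgebraicCycle (↑U : Scheme.{u}) ℤ) (hαU : ∀ u : ↥U, αU u = α (U.ι u)) (hβU : ∀ u : ↥U, βU u = β (U.ι u)) (h : Cyc.RatEquiv (fun u : ↥U => δ (U.ι u)) k αU βU) : ∃ γ : AlgebraicCycle X ℤ, γ ∈ Cyc.Zk X δ k ∧ (∀ x : X, x ∈ U → γ x = 0) ∧ Cyc.RatEquiv δ k α (β + γ) := by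
  classical
  obtain ⟨hXn, hXuc, hXd⟩ := hX
  obtain ⟨ι, ξ, g, hξ, hg, hlf, hsum⟩ := h
  have hsurj : ∀ i, ∃ g' : X.residueField (U.ι (ξ i)), U.ι.residueFieldMap (ξ i) g' = g i :=
    fun i => ((ConcreteCategory.isIso_iff_bijective (U.ι.residueFieldMap (ξ i))).mp
      inferInstance).2 (g i)
  choose g' hg' using hsurj
  have hg'0 : ∀ i, g' i ≠ 0 := by
    intro i h0
    apply hg i
    rw [← hg' i, h0]
    exact map_zero (U.ι.residueFieldMap (ξ i)).hom
  let F : X → ℤ := fun x => ∑ᶠ i, Cyc.divFun δ (U.ι (ξ i)) (g' i) x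
  have hFU : ∀ u : ↥U, F (U.ι u) = α (U.ι u) - β (U.ι u) := by
    intro u
    have h1 := hsum u
    rw [Function.locallyFinsuppWithin.coe_sub, Pi.sub_apply, hαU, hβU] at h1
    rw [h1]
    refine finsum_congr fun i => ?_
    rw [Groth.Agent.Lib.CycOpenRestrict.divFun_opens hXd U (ξ i) (g' i) (hg'0 i) u, hg' i]
  have hterm : ∀ (x : X) (i : ι), Cyc.divFun δ (U.ι (ξ i)) (g' i) x ≠ 0 →
      U.ι (ξ i) ⤳ x ∧ δ x + 1 = δ (U.ι (ξ i)) := by
    intro x i hi
    by_contra hc
    apply hi
    unfold Cyc.divFun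
    beta_reduce
    rw [dif_neg hc]
  have hFne : ∀ x : X, F x ≠ 0 → ∃ i, Cyc.divFun δ (U.ι (ξ i)) (g' i) x ≠ 0 := by
    intro x hx
    by_contra hall
    push_neg at hall
    apply hx
    show ∑ᶠ i, Cyc.divFun δ (U.ι (ξ i)) (g' i) x = 0
    rw [finsum_congr hall, finsum_zero]
  have hFlf : ∀ z ∈ (Set.univ : Set X), ∃ t ∈ nhds z, (t ∩ Function.support F).Finite := by
    intro z _
    obtain ⟨t, ht, htfin⟩ := (α - β).supportLocallyFiniteWithinDomain z trivial
    obtain ⟨t', ht't, ht'o, hzt'⟩ := mem_nhds_iff.mp ht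
    obtain ⟨V, hV, hzV, hVt'⟩ := exists_isAffineOpen_mem_and_subset (x := z)
      (U := ⟨t', ht'o⟩) hzt'
    refine ⟨V, V.isOpen.mem_nhds hzV, ?_⟩
    have hIV := Groth.Agent.Lib.CycOpenRestrict.finite_mem_affine U ξ hlf V hV
    refine (htfin.union (hIV.biUnion fun i _ =>
      Groth.Agent.Lib.CycPullRatEquiv.finite_maximal_points_affine V hV
        (closure {U.ι (ξ i)} ∩ (U : Set X)ᶜ)
        (isClosed_closure.inter U.isOpen.isClosed_compl))).subset ?_
    rintro x ⟨hxV, hxF⟩
    by_cases hxU : x ∈ U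
    · left
      refine ⟨ht't (hVt' hxV), ?_⟩
      have h1 := hFU ⟨x, hxU⟩
      show (α - β) x ≠ 0
      rw [Function.locallyFinsuppWithin.coe_sub, Pi.sub_apply]
      intro h0
      apply hxF
      show F x = 0
      have h2 : U.ι ⟨x, hxU⟩ = x := rfl
      rw [h2] at h1
      rw [h1, h0]
    · right
      obtain ⟨i, hi⟩ := hFne x hxF
      obtain ⟨hsp, hdim⟩ := hterm x i hi
      simp only [Set.mem_iUnion]
      refine ⟨i, hsp.mem_open V.isOpen hxV, hxV, ⟨specializes_iff_mem_closure.mp hsp, hxU⟩, ?_⟩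
      rintro z ⟨hzc, hzU⟩ hzx
      by_contra hne
      have h1 := (hXd z x hzx hne).1
      have h2 : U.ι (ξ i) ⤳ z := specializes_iff_mem_closure.mpr hzc
      have h3 := Groth.Agent.S6462.delta_le_of_specializes hXd h2
      have h5 : z = U.ι (ξ i) := by
        by_contra hne2
        have := (hXd _ _ h2 (Ne.symm hne2)).1
        omega
      apply hzU
      rw [h5]
      exact (ξ i).2
  let γ'' : AlgebraicCycle X ℤ := ⟨F, Set.subset_univ _, hFlf⟩
  have hγ'' : ∀ x, γ'' x = F x := fun _ => rfl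
  refine ⟨α - β - γ'', ?_, ?_, ?_⟩
  · intro x hx
    rw [Function.locallyFinsuppWithin.coe_sub, Function.locallyFinsuppWithin.coe_sub,
      Pi.sub_apply, Pi.sub_apply, hα x hx, hβ x hx, hγ'']
    have : F x = 0 := by
      by_contra hne
      obtain ⟨i, hi⟩ := hFne x hne
      obtain ⟨-, hdim⟩ := hterm x i hi
      have := hξ i
      simp only at this
      omega
    rw [this]
    ring
  · intro x hx
    rw [Function.locallyFinsuppWithin.coe_sub, Function.locallyFinsuppWithin.coe_sub,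
      Pi.sub_apply, Pi.sub_apply, hγ'']
    have h1 := hFU ⟨x, hx⟩
    have h2 : U.ι ⟨x, hx⟩ = x := rfl
    rw [h2] at h1
    rw [h1]
    ring
  · show Cyc.RatEquivZero δ k (α - (β + (α - β - γ'')))
    refine ⟨ι, fun i => U.ι (ξ i), g', hξ, hg'0, ?_, ?_⟩
    · intro x
      obtain ⟨V, hV, hxV, -⟩ := exists_isAffineOpen_mem_and_subset (x := x) (U := ⊤) trivial
      refine ⟨V, V.isOpen, hxV, ?_⟩
      refine (Groth.Agent.Lib.CycOpenRestrict.finite_mem_affine U ξ hlf V hV).subset ?_
      rintro i ⟨w, hw, hwV⟩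
      exact (specializes_iff_mem_closure.mpr hw).mem_open V.isOpen hwV
    · intro x
      rw [Function.locallyFinsuppWithin.coe_sub, Function.locallyFinsuppWithin.coe_add,
        Function.locallyFinsuppWithin.coe_sub, Function.locallyFinsuppWithin.coe_sub]
      simp only [Pi.sub_apply, Pi.add_apply]
      rw [hγ'']
      ring

end Groth.Agent.S1863
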