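import Groth.Statements.S1865
import Groth.Agent.Lib.GrpTopPts45

set_option autoImplicit false
universe u v
open CategoryTheory MonoidalCategory CartesianMonoidalCategory MonObj GrpObj AlgebraicGeometry
open GrpSch
open Groth.Agent.Lib.GrpTopPts45

namespace Groth.Agent.S1865

/-- A group scheme over a field contains an open and closed subset containing the identity point which
is a countable union of affine opens. (The source does not mention the identity point; its
construction contains it, and without it the empty set would do.) -/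
theorem result (K : Type u) [Field K] (G : Over (Spec (CommRingCat.of K))) [GrpObj G] : ∃ U : G.left.Opens, IsClosed (U : Set G.left) ∧ η[G].left (IsLocalRing.closedPoint K) ∈ U ∧ ∃ V : ℕ → G.left.Opens, (∀ n, IsAffineOpen (V n)) ∧ (U : Set G.left) = ⋃ n, (V n : Set G.left) := by
  classical
  have he : η[G].left (IsLocalRing.closedPoint K) = unitPt G := rfl
  obtain ⟨_, ⟨W, hW, rfl⟩, hxW, -⟩ := G.left.isBasis_affineOpens.exists_subset_of_mem_open
    (Set.mem_univ (unitPt G)) isOpen_univ
  replace hW : IsAffineOpen W := hW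
  have hsub := isSubgrpSet_iUnion_sq (G := G) (W := (W : Set G.left)) hxW
  have hopen : IsOpen (⋃ n, sq G (W : Set G.left) n) :=
    isOpen_iUnion fun n => isOpen_sq W.isOpen n
  refine ⟨⟨⋃ n, sq G (W : Set G.left) n, hopen⟩, hsub.isClosed hopen, ?_, ?_⟩
  · rw [he]; exact hsub.one_mem
  · have hfin : ∀ n, ∃ s : Set G.left.affineOpens, s.Finite ∧
        sq G (W : Set G.left) n = ⋃ i ∈ s, (i : Set G.left) := fun n =>
      (isCompact_and_isOpen_iff_finite_and_eq_biUnion_affineOpens (U := sq G (W : Set G.left) n)).mp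
        ⟨isCompact_sq W.isOpen hW.isCompact n, isOpen_sq W.isOpen n⟩
    choose s hsfin hs using hfin
    let S : Set G.left.affineOpens := ⋃ n, s n
    have hScount : S.Countable := Set.countable_iUnion fun n => (hsfin n).countable
    have hSne : S.Nonempty := by
      have h0 : unitPt G ∈ sq G (W : Set G.left) 0 := unitPt_mem_sq hxW 0
      rw [hs 0] at h0
      obtain ⟨i, hi, -⟩ := Set.mem_iUnion₂.mp h0
      exact ⟨i, Set.mem_iUnion.mpr ⟨0, hi⟩⟩
    obtain ⟨f, hf⟩ := hScount.exists_eq_range hSne
    refine ⟨fun n => (f n : G.left.Opens), fun n => (f n).2, ?_⟩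
    change (⋃ n, sq G (W : Set G.left) n) = ⋃ n, ((f n : G.left.Opens) : Set G.left)
    ext x
    simp only [Set.mem_iUnion]
    constructor
    · rintro ⟨n, hn⟩
      rw [hs n] at hn
      obtain ⟨i, hi, hxi⟩ := Set.mem_iUnion₂.mp hn
      have : i ∈ Set.range f := hf ▸ Set.mem_iUnion.mpr ⟨n, hi⟩
      obtain ⟨m, rfl⟩ := this
      exact ⟨m, hxi⟩
    · rintro ⟨m, hm⟩
      have : f m ∈ S := hf ▸ Set.mem_range_self m
      obtain ⟨n, hn⟩ := Set.mem_iUnion.mp this
      refine ⟨n, ?_⟩
      rw [hs n]
      exact Set.mem_iUnion₂.mpr ⟨f m, hn, hm⟩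

end Groth.Agent.S1865
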