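import Groth.Statements.S18664
import Groth.Agent.Lib.GrSegAInv
import Groth.Agent.Lib.GrSegPoly2

set_option autoImplicit false
universe u
open scoped TensorProduct
open GrSegre

namespace Groth.Agent.S18664

/-- Let R and S be standard graded rings defined over a field k which are Cohen–Macaulay, with dim R = 1
and dim S ≥ 2. Then the Segre product T = R # S is a Cohen–Macaulay ring if and only if R is a
polynomial ring over k (in one variable). Here a graded ring defined over k is a commutative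
k-algebra of finite type, graded in nonnegative degrees by k-subspaces with degree-zero part k·1,
standard graded when its irrelevant ideal is generated by the degree-one piece; the Segre product T
= ⊕_n R_n ⊗_k S_n is presented abstractly as a graded k-algebra T with an injective k-algebra
homomorphism ψ : T → R ⊗_k S carrying T_n onto the k-span of the elementary tensors a ⊗ b with a ∈
R_n, b ∈ S_n. -/
theorem result (k : Type u) [Field k] (R : Type u) [CommRing R] [Algebra k R] (𝒜 : ℤ → Submodule k R) [GradedAlgebra 𝒜] (hposR : ∀ n : ℤ, n < 0 → 𝒜 n = ⊥) (h0R : 𝒜 0 = Submodule.span k {(1 : R)}) [Algebra.FiniteType k R] (S : Type u) [CommRing S] [Algebra k S] (ℬ : ℤ → Submodule k S) [GradedAlgebra ℬ] (hposS : ∀ n : ℤ, n < 0 → ℬ n = ⊥) (h0S : ℬ 0 = Submodule.span k {(1 : S)}) [Algebra.FiniteType k S] (T : Type u) [CommRing T] [Algebra k T] (𝒯 : ℤ → Submodule k T) [GradedAlgebra 𝒯] (ψ : T →ₐ[k] TensorProduct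 k R S) (hψ : Function.Injective ψ) (hdegT : ∀ n : ℤ, (𝒯 n).map ψ.toLinearMap = Submodule.span k {x : TensorProduct k R S | ∃ a ∈ 𝒜 n, ∃ b ∈ ℬ n, x = a ⊗ₜ[k] b}) [LocCoh.IsCohenMacaulayRing R] [LocCoh.IsCohenMacaulayRing S] (hstdR : Ideal.span (⋃ n ∈ Set.Ioi (0 : ℤ), (𝒜 n : Set R)) = Ideal.span ((𝒜 1 : Submodule k R) : Set R)) (hstdS : Ideal.span (⋃ n ∈ Set.Ioi (0 : ℤ), (ℬ n : Set S)) = Ideal.span ((ℬ 1 : Submodule k S) : Set S)) (hr : ringKrullDim R = 1) (hs : 2 ≤ ringKrullDim S) : LocCoh.IsCohenMacaulayRing T ↔ Nonempty (R ≃ₐ[k] Polynomial k) := by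
  have hT : GrSeg.IsSegreRing 𝒜 ℬ 𝒯 ψ := ⟨hψ, hdegT⟩
  have hNS : IsNoetherianRing S := Algebra.FiniteType.isNoetherianRing k S
  have hNR : IsNoetherianRing R := Algebra.FiniteType.isNoetherianRing k R
  have hntS : Nontrivial S := by
    by_contra hcon
    rw [not_nontrivial_iff_subsingleton] at hcon
    rw [ringKrullDim_eq_bot_of_subsingleton] at hs
    exact absurd hs (by simp)
  obtain ⟨s, hs'⟩ := Groth.Agent.Lib.GrSegAInv.exists_nat_ringKrullDim_of_finiteType k S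
  have h2s : 2 ≤ s := by
    rw [hs'] at hs
    exact_mod_cast hs
  let mR : HomogeneousIdeal 𝒜 :=
    ⟨Groth.Agent.Lib.GrNoether20.irr 𝒜, Groth.Agent.Lib.GrNoether20.irr_isHomogeneous 𝒜⟩
  have hmR : mR.toIdeal = Ideal.span (⋃ n ∈ Set.Ioi (0 : ℤ), (𝒜 n : Set R)) :=
    Groth.Agent.Lib.GrCMCrit.irr_eq_span 𝒜
  let mS : HomogeneousIdeal ℬ :=
    ⟨Groth.Agent.Lib.GrNoether20.irr ℬ, Groth.Agent.Lib.GrNoether20.irr_isHomogeneous ℬ⟩
  have hmS : mS.toIdeal = Ideal.span (⋃ n ∈ Set.Ioi (0 : ℤ), (ℬ n : Set S)) :=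
    Groth.Agent.Lib.GrCMCrit.irr_eq_span ℬ
  obtain ⟨I⟩ := Groth.Agent.Lib.GrSegCM.nonempty_starInjRes' 𝒜 𝒜
  obtain ⟨J⟩ := Groth.Agent.Lib.GrSegCM.nonempty_starInjRes' ℬ ℬ
  have hr' : ringKrullDim R = ((1 : ℕ) : WithBot ℕ∞) := by exact_mod_cast hr
  have h := Groth.Agent.Lib.GrSegCM.isCMRing_segre_iff hposR h0R hposS h0S hT mR hmR mS hmS 1 s
    hr' hs' (le_refl 1) (by omega) I J
  have h1S : 1 ≤ ringKrullDim S := le_trans (by norm_num) hs
  have hnzS : ∀ n : ℤ, 0 ≤ n → ℬ n ≠ ⊥ := fun n hn =>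
    Groth.Agent.Lib.GrSegAInv.piece_ne_bot_of_std ℬ hposS h0S hstdS h1S hn
  have hB := Groth.Agent.Lib.GrSegAInv.forall_or_iff_endDeg ℬ hposS hnzS I mR 1
  have hneg := Groth.Agent.Lib.GrSegPoly2.neg_le_endDeg 𝒜 hposR h0R hstdR mR hmR 1 hr' I
  have hpoly := Groth.Agent.Lib.GrSegPoly2.endDeg_eq_iff_poly 𝒜 hposR h0R hstdR mR hmR 1 hr' I
  have e₀ : MvPolynomial (Fin 1) k ≃ₐ[k] Polynomial k :=
    MvPolynomial.uniqueAlgEquiv k (Fin 1)
  have hstep : (∀ n : ℤ, I.Hcomp mR 1 n = ⊥ ∨ ℬ n = ⊥) ↔ Nonempty (R ≃ₐ[k] Polynomial k) := by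
    have h1 : (∀ n : ℤ, I.Hcomp mR 1 n = ⊥ ∨ ℬ n = ⊥) ↔ GrLC.endDeg (I.Hgr mR 1) < 0 := by
      rw [← hB]
      exact forall_congr' fun n => or_comm
    rw [h1, Groth.Agent.Lib.GrSegAInv.endDeg_lt_zero_iff_le]
    constructor
    · intro hle
      have heq := le_antisymm hle hneg
      obtain ⟨e⟩ := hpoly.1 heq
      exact ⟨e.trans e₀⟩
    · rintro ⟨e⟩
      have heq := hpoly.2 ⟨e.trans e₀.symm⟩
      exact le_of_eq heq
  refine Iff.trans h ?_
  rw [← hstep]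
  constructor
  · rintro ⟨-, h2⟩
    exact h2 h2s
  · intro h2
    exact ⟨fun h' => absurd h' (by norm_num), fun _ => h2⟩

end Groth.Agent.S18664
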