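import Groth.Statements.S18672
import Mathlib.Algebra.Algebra.Operations
import Mathlib.RingTheory.GradedAlgebra.Basic
import Mathlib.Tactic.Ring
import Mathlib.Tactic.Linarith

set_option autoImplicit false
universe u
open GrLC

namespace Groth.Agent.S18672

section helpers

variable {R : Type u} [CommRing R] (𝒜 : ℤ → AddSubgroup R) [GradedRing 𝒜]

/-- The degree `n` piece as a `ℤ`-submodule. -/
noncomputable abbrev pc (n : ℤ) : Submodule ℤ R := AddSubgroup.toIntSubmodule (𝒜 n)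

lemma mem_pc {n : ℤ} {x : R} : x ∈ pc 𝒜 n ↔ x ∈ 𝒜 n := Iff.rfl

lemma pc_mul_le (m n : ℤ) : pc 𝒜 m * pc 𝒜 n ≤ pc 𝒜 (m + n) := by
  rw [Submodule.mul_le]
  intro x hx y hy
  exact SetLike.mul_mem_graded (A := 𝒜) hx hy

lemma pc_succ_le (hstd : Ideal.span (⋃ n ∈ Set.Ioi (0 : ℤ), (𝒜 n : Set R)) =
      Ideal.span ((𝒜 1 : AddSubgroup R) : Set R)) (n : ℤ) (hn : 0 ≤ n) :
    pc 𝒜 (n + 1) ≤ pc 𝒜 n * pc 𝒜 1 := by
  intro x hx
  have hx' : x ∈ 𝒜 (n + 1) := hx
  have h1 : x ∈ Ideal.span (⋃ n ∈ Set.Ioi (0 : ℤ), (𝒜 n : Set R)) := by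
    apply Ideal.subset_span
    simp only [Set.mem_iUnion, Set.mem_Ioi]
    exact ⟨n + 1, by omega, hx'⟩
  rw [hstd] at h1
  have key : ∀ z ∈ Ideal.span ((𝒜 1 : AddSubgroup R) : Set R),
      ((DirectSum.decompose 𝒜 z (n + 1) : 𝒜 (n + 1)) : R) ∈ pc 𝒜 n * pc 𝒜 1 := by
    intro z hz
    refine Submodule.closure_induction (p := fun z _ =>
      ((DirectSum.decompose 𝒜 z (n + 1) : 𝒜 (n + 1)) : R) ∈ pc 𝒜 n * pc 𝒜 1) ?_ ?_ ?_ hz
    · simp
    · intro a b _ _ ha hb
      rw [DirectSum.decompose_add, DirectSum.add_apply, AddSubgroup.coe_add]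
      exact Submodule.add_mem _ ha hb
    · intro r y hy
      rw [smul_eq_mul, DirectSum.coe_decompose_mul_add_of_right_mem 𝒜 hy]
      exact Submodule.mul_mem_mul (SetLike.coe_mem _) hy
  have := key x h1
  rwa [DirectSum.decompose_of_mem_same 𝒜 hx'] at this

lemma pc_nat_le (hstd : Ideal.span (⋃ n ∈ Set.Ioi (0 : ℤ), (𝒜 n : Set R)) =
      Ideal.span ((𝒜 1 : AddSubgroup R) : Set R)) (n : ℕ) :
    pc 𝒜 (n : ℤ) ≤ pc 𝒜 0 * pc 𝒜 1 ^ n := by
  induction n with
  | zero =>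
    intro x hx
    rw [pow_zero, mul_one]
    exact hx
  | succ n ih =>
    have h1 := pc_succ_le 𝒜 hstd (n : ℤ) (by omega)
    rw [Nat.cast_succ]
    refine h1.trans ?_
    rw [pow_succ, ← mul_assoc]
    exact mul_le_mul' ih le_rfl

lemma pow_le_pc (n : ℕ) : pc 𝒜 1 ^ n ≤ pc 𝒜 (n : ℤ) := by
  induction n with
  | zero =>
    rw [pow_zero, Submodule.one_le]
    exact SetLike.one_mem_graded 𝒜
  | succ n ih =>
    rw [pow_succ, Nat.cast_succ]
    exact (mul_le_mul' ih le_rfl).trans (pc_mul_le 𝒜 _ _)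

lemma pc_add_le (hstd : Ideal.span (⋃ n ∈ Set.Ioi (0 : ℤ), (𝒜 n : Set R)) =
      Ideal.span ((𝒜 1 : AddSubgroup R) : Set R)) (r m : ℕ) :
    pc 𝒜 ((r : ℤ) + (m : ℤ)) ≤ pc 𝒜 (m : ℤ) * pc 𝒜 (r : ℤ) := by
  have h1 := pc_nat_le 𝒜 hstd (r + m)
  rw [Nat.cast_add] at h1
  refine h1.trans ?_
  rw [pow_add, ← mul_assoc, mul_comm]
  refine mul_le_mul' (pow_le_pc 𝒜 m) ?_
  refine (mul_le_mul' le_rfl (pow_le_pc 𝒜 r)).trans ?_
  refine (pc_mul_le 𝒜 _ _).trans ?_
  rw [zero_add]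

end helpers

/-- Let R be a graded ring defined over a field k = R_0 which is Cohen–Macaulay and generated over k by
R_1 (the standing hypotheses of this section; only generation in degree one is used), q ≥ 1, R' =
R^(q), and a an integer. Then the Veronese submodule [R(a)]^(q) = ⊕_j R_{a+jq} is generated over R'
by its piece R(a)_n = R_{a+n}, where n is the smallest multiple of q with n + a ≥ 0. Here 'graded
ring defined over a field' means R = ⊕_{n ≥ 0} R_n is Noetherian with R_0 a field, and m = R_+ is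
its unique graded maximal ideal. The Veronese subring R^(q) = ⊕_j R_{jq}, regraded by (R^(q))_j =
R_{jq}, is presented abstractly as a ℤ-graded ring R' with an injective ring homomorphism φ : R' → R
carrying R'_j onto R_{jq} for every j. The module [R(a)]^(q) is presented as a graded R'-module M'
with an injective additive map g : M' → R, semilinear over φ, carrying M'_j onto R_{a+jq} for every
j; with n = j₀q, the conclusion is that the R'-span of M'_{j₀} is all of M'. -/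
theorem result (R : Type u) [CommRing R] [LocCoh.IsCohenMacaulayRing R] (𝒜 : ℤ → AddSubgroup R) [GradedRing 𝒜] (hpos : ∀ n : ℤ, n < 0 → 𝒜 n = ⊥) (h0 : IsField (GrLC.deg0 𝒜)) (hstd : Ideal.span (⋃ n ∈ Set.Ioi (0 : ℤ), (𝒜 n : Set R)) = Ideal.span ((𝒜 1 : AddSubgroup R) : Set R)) (q : ℕ) (hq : 0 < q) (R' : Type u) [CommRing R'] (𝒜' : ℤ → AddSubgroup R') [GradedRing 𝒜'] (φ : R' →+* R) (hφ : Function.Injective φ) (hdeg : ∀ j : ℤ, (𝒜' j).map (φ : R' →+ R) = 𝒜 (j * q)) (a : ℤ) (M' : Type u) [AddCommGroup M'] [Module R' M'] (ℳ' : ℤ → AddSubgroup M') [DirectSum.Decomposition ℳ'] [SetLike.GradedSMul 𝒜' ℳ'] (g : M' →ₛₗ[φ] R) (hg : Function.Injective g) (hgdeg : ∀ j : ℤ, (ℳ' j).map (g : M' →+ R) = 𝒜 (a + j * q)) (j₀ : ℤ) (hj₀ : 0 ≤ a + j₀ * q) (hj₀' : a + (j₀ - 1) * q < 0) : Submodule.span R' ((ℳ' j₀ : AddSubgroup M') : Set M') = ⊤ := by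
  classical
  set N := Submodule.span R' ((ℳ' j₀ : AddSubgroup M') : Set M') with hN
  have hpiece : ∀ j : ℤ, ∀ m' ∈ ℳ' j, m' ∈ N := by
    intro j m' hm'
    have hgm : g m' ∈ 𝒜 (a + j * q) := by
      rw [← hgdeg j]
      exact ⟨m', hm', rfl⟩
    by_cases hj : j < j₀
    · have hneg : a + j * q < 0 := by
        have h1 : j ≤ j₀ - 1 := by omega
        have h2 : j * (q : ℤ) ≤ (j₀ - 1) * q :=
          mul_le_mul_of_nonneg_right h1 (by positivity)
        linarith
      rw [hpos _ hneg] at hgm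
      have h0 : g m' = 0 := hgm
      have h0' : m' = 0 := hg (by rw [h0, map_zero])
      rw [h0']
      exact N.zero_mem
    · push Not at hj
      obtain ⟨r, hr⟩ := Int.eq_ofNat_of_zero_le hj₀
      obtain ⟨m, hm⟩ := Int.eq_ofNat_of_zero_le (sub_nonneg.mpr hj)
      have hdeg' : a + j * q = (r : ℤ) + ((m * q : ℕ) : ℤ) := by
        push_cast
        rw [← hr, ← hm]
        ring
      rw [hdeg'] at hgm
      have h2 := pc_add_le 𝒜 hstd r (m * q) hgm
      have key : ∀ x ∈ pc 𝒜 ((m * q : ℕ) : ℤ) * pc 𝒜 (r : ℤ), ∃ n' ∈ N, g n' = x := by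
        intro x hx
        refine Submodule.mul_induction_on hx ?_ ?_
        · intro y hy z hz
          have hy' : y ∈ 𝒜 ((m : ℤ) * q) := by
            have := hy
            push_cast at this
            exact this
          rw [← hdeg (m : ℤ)] at hy'
          obtain ⟨y', hy'm, rfl⟩ := hy'
          have hz' : z ∈ 𝒜 (a + j₀ * q) := by
            rw [hr]
            exact hz
          rw [← hgdeg j₀] at hz'
          obtain ⟨z', hz'm, rfl⟩ := hz'
          refine ⟨y' • z', N.smul_mem _ (Submodule.subset_span hz'm), ?_⟩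
          rw [map_smulₛₗ]
          rfl
        · rintro x y ⟨n1, hn1, rfl⟩ ⟨n2, hn2, rfl⟩
          exact ⟨n1 + n2, N.add_mem hn1 hn2, map_add _ _ _⟩
      obtain ⟨n', hn', hgn⟩ := key _ h2
      rw [← hg hgn]
      exact hn'
  rw [eq_top_iff]
  intro m' _
  rw [← DirectSum.sum_support_decompose ℳ' m']
  exact N.sum_mem (fun i _ => hpiece i _ (SetLike.coe_mem _))

end Groth.Agent.S18672
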