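import Groth.Statements.S18675
import Mathlib
import Groth.Agent.Lib.H2GLat

set_option autoImplicit false
open GLat

namespace Groth.Agent.S18675

open Groth.Agent.Lib.H2GLat

section
variable {G : Type} [Group G] {A : Type} [AddCommGroup A] (ρ : Representation ℤ G A)

/-- invariants of a subgroup -/
def inv (H : Subgroup G) : Submodule ℤ A where
  carrier := {a | ∀ h : H, ρ (h : G) a = a}
  add_mem' := fun {a b} ha hb h => by rw [map_add, ha h, hb h]
  zero_mem' := fun h => map_zero _
  smul_mem' := fun c a ha h => by rw [map_smul, ha h]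

lemma mem_inv {H : Subgroup G} {a : A} : a ∈ inv ρ H ↔ ∀ h : H, ρ (h : G) a = a := Iff.rfl

end

theorem result' (G : Type) [Group G] [Finite G]
    (A : Type) [AddCommGroup A] [Module.Finite ℤ A] (ρ : Representation ℤ G A) :
    ∃ (Q : Type) (_ : AddCommGroup Q) (P : Type) (_ : AddCommGroup P)
      (_ : Module.Finite ℤ Q) (_ : Module.Free ℤ Q) (_ : Module.Finite ℤ P) (_ : Module.Free ℤ P)
      (σ : Representation ℤ G Q) (τ : Representation ℤ G P) (i : Q →ₗ[ℤ] P) (π : P →ₗ[ℤ] A),
      GLat.IsEquivariant σ τ i ∧ GLat.IsEquivariant τ ρ π ∧ Function.Injective i ∧ Function.Surjective π ∧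
      LinearMap.range i = LinearMap.ker π ∧ GLat.IsPermutation τ ∧ GLat.IsCoflasque σ := by
  classical
  -- generators of the invariants
  have hfin : ∀ H : Subgroup G, ∃ (n : ℕ) (s : Fin n → inv ρ H),
      Submodule.span ℤ (Set.range s) = ⊤ := fun H => Module.Finite.exists_fin
  choose n s hs using hfin
  have hsA : ∀ H : Subgroup G, Submodule.span ℤ (Set.range (fun j => (s H j : A))) = inv ρ H := by
    intro H
    have := congrArg (Submodule.map (inv ρ H).subtype) (hs H)
    rw [Submodule.map_span, Submodule.map_subtype_top, ← Set.range_comp] at this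
    exact this
  -- the index set
  let ι : Type := Σ (p : Σ H : Subgroup G, Fin (n H)), G ⧸ p.1
  -- the generators map
  let v : ι → A := fun i => Quotient.liftOn' i.2 (fun x => ρ x (s i.1.1 i.1.2 : A)) (by
    intro x y hxy
    rw [QuotientGroup.leftRel_apply] at hxy
    have h1 : ρ (x⁻¹ * y) (s i.1.1 i.1.2 : A) = (s i.1.1 i.1.2 : A) :=
      (s i.1.1 i.1.2).2 ⟨_, hxy⟩
    show ρ x _ = ρ y _
    have : y = x * (x⁻¹ * y) := by group
    rw [this, map_mul, Module.End.mul_apply, h1])
  let π : (ι →₀ ℤ) →ₗ[ℤ] A := Finsupp.linearCombination ℤ v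
  have hv : ∀ (g : G) (i : ι), v (g • i) = ρ g (v i) := by
    rintro g ⟨p, q⟩
    induction q using Quotient.inductionOn' with
    | h x =>
      show ρ (g * x) _ = ρ g (ρ x _)
      rw [map_mul, Module.End.mul_apply]
      rfl
  have hπ : GLat.IsEquivariant (perm G ι) ρ π := by
    intro g m
    induction m using Finsupp.induction_linear with
    | zero => simp
    | add a b ha hb => rw [map_add, map_add, map_add, map_add, ha, hb]
    | single i r =>
      rw [perm_single]
      simp only [π, Finsupp.linearCombination_single, map_smul, hv]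
  -- lifting invariants
  have hlift : ∀ (K : Subgroup G) (a : A), a ∈ inv ρ K →
      ∃ p : ι →₀ ℤ, p ∈ inv (perm G ι) K ∧ π p = a := by
    intro K a ha
    have hle : inv ρ K ≤ Submodule.map π (inv (perm G ι) K) := by
      rw [← hsA K, Submodule.span_le]
      rintro _ ⟨j, rfl⟩
      refine ⟨Finsupp.single ⟨⟨K, j⟩, ((1 : G) : G ⧸ K)⟩ 1, ?_, ?_⟩
      · intro k
        rw [perm_single]
        congr 1
        show (⟨⟨K, j⟩, (k : G) • ((1 : G) : G ⧸ K)⟩ : ι) = _
        congr 1
        rw [MulAction.Quotient.smul_mk, QuotientGroup.eq]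
        simp
      · simp only [π, Finsupp.linearCombination_single, one_smul]
        show ρ 1 _ = _
        simp
    obtain ⟨p, hp, rfl⟩ := hle ha
    exact ⟨p, hp, rfl⟩
  have hsurj : Function.Surjective π := by
    intro a
    obtain ⟨p, -, hp⟩ := hlift ⊥ a (by
      rintro ⟨h, hh⟩
      rw [Subgroup.mem_bot] at hh
      subst hh
      simp)
    exact ⟨p, hp⟩
  -- the kernel
  have hker : ∀ (g : G) (m : ι →₀ ℤ), m ∈ LinearMap.ker π → perm G ι g m ∈ LinearMap.ker π := by
    intro g m hm
    rw [LinearMap.mem_ker] at hm ⊢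
    rw [hπ g m, hm, map_zero]
  let σ : Representation ℤ G (LinearMap.ker π) :=
    { toFun := fun g => (perm G ι g).restrict (hker g)
      map_one' := by ext; simp
      map_mul' := fun x y => by ext; simp }
  have hfinι : Finite ι := inferInstance
  refine ⟨LinearMap.ker π, inferInstance, ι →₀ ℤ, inferInstance, inferInstance, inferInstance,
    inferInstance, inferInstance, σ, perm G ι, (LinearMap.ker π).subtype, π,
    fun g m => rfl, hπ, Subtype.val_injective, hsurj, Submodule.range_subtype _,
    isPermutation_perm, ?_⟩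
  -- coflasque
  intro K f hf
  obtain ⟨m, hm⟩ := h1_perm K (fun a => ((f a : LinearMap.ker π) : ι →₀ ℤ)) (by
    intro a b
    have := congrArg Subtype.val (hf a b)
    rw [Submodule.coe_add] at this
    exact this)
  -- π m is K-invariant
  have hinv : π m ∈ inv ρ K := by
    intro k
    have h1 : π (perm G ι (k : G) m - m) = 0 := by
      rw [← hm k]; exact (f k).2
    rw [map_sub, hπ, sub_eq_zero] at h1
    exact h1
  obtain ⟨p', hp', hπp'⟩ := hlift K _ hinv
  have hq : m - p' ∈ LinearMap.ker π := by
    rw [LinearMap.mem_ker, map_sub, hπp', sub_self]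
  refine ⟨⟨m - p', hq⟩, fun a => ?_⟩
  apply Subtype.ext
  show (f a : ι →₀ ℤ) = perm G ι (a : G) (m - p') - (m - p')
  rw [hm a, map_sub, hp' a]
  abel


/-- For a finite group G and a finitely generated G-module A there is an exact sequence 0 → Q → P → A →
0 of finitely generated G-modules with P a permutation lattice and Q a coflasque lattice; here
rendered by equivariant ℤ-linear maps i : Q → P injective, π : P → A surjective, with range i = ker
π. -/
theorem result (G : Type) [Group G] [Finite G]
    (A : Type) [AddCommGroup A] [Module.Finite ℤ A] (ρ : Representation ℤ G A) :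
    ∃ (Q : Type) (_ : AddCommGroup Q) (P : Type) (_ : AddCommGroup P)
      (_ : Module.Finite ℤ Q) (_ : Module.Free ℤ Q) (_ : Module.Finite ℤ P) (_ : Module.Free ℤ P)
      (σ : Representation ℤ G Q) (τ : Representation ℤ G P) (i : Q →ₗ[ℤ] P) (π : P →ₗ[ℤ] A),
      GLat.IsEquivariant σ τ i ∧ GLat.IsEquivariant τ ρ π ∧ Function.Injective i ∧ Function.Surjective π ∧
      LinearMap.range i = LinearMap.ker π ∧ GLat.IsPermutation τ ∧ GLat.IsCoflasque σ := by
  exact result' G A ρ

end Groth.Agent.S18675
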