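import Groth.Statements.S1868
import Groth.Agent.Lib.FiniteFlatDegree

set_option autoImplicit false
universe u
open CategoryTheory AlgebraicGeometry
open Cyc

namespace Groth.Agent.S1868

open Groth.Agent.Lib.FiniteFlatDegree

/-- fibres of a finite morphism have dimension zero -/
lemma hasRelDim_zero {X Y : Scheme.{u}} (f : X ⟶ Y) [IsFinite f] : Cyc.HasRelDim f 0 := by
  intro y T hT
  have hdisc : DiscreteTopology (f.fiber y) := inferInstance
  have h1 : topologicalKrullDim T ≤ 0 :=
    (topologicalKrullDim_subspace_le _ T).trans (topologicalKrullDim_zero_of_discreteTopology _)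
  have h2 : 0 ≤ topologicalKrullDim T := by
    obtain ⟨t, ht⟩ := hT.1.nonempty
    haveI : Nonempty (TopologicalSpace.IrreducibleCloseds T) :=
      ⟨⟨closure {⟨t, ht⟩}, isIrreducible_singleton.closure, isClosed_closure⟩⟩
    exact Order.krullDim_nonneg
  rw [Nat.cast_zero]
  exact le_antisymm h1 h2

/-- for a finite flat morphism the dimension functions agree along `f` -/
lemma delta_eq {X Y : Scheme.{u}} (δX : X → ℤ) (δY : Y → ℤ) (f : X ⟶ Y) [IsFinite f] [Flat f]
    (hδ : Cyc.DeltaCompat f δX δY) (x : X) : δX x = δY (f x) := by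
  obtain ⟨n, hn, h⟩ := hδ x
  have hfin := resFinite f x
  letI := (f.residueFieldMap x).hom.toAlgebra
  have hfin' : Module.Finite (Y.residueField (f x)) (X.residueField x) := hfin
  have halg : Algebra.IsAlgebraic (Y.residueField (f x)) (X.residueField x) :=
    Algebra.IsAlgebraic.of_finite _ _
  have h0 : Algebra.trdeg (Y.residueField (f x)) (X.residueField x) = 0 :=
    trdeg_eq_zero
  rw [h0] at hn
  have : n = 0 := by exact_mod_cast hn.symm
  subst this
  simpa using h


/-- Let f : X → Y be finite locally free of constant degree d (finite, flat, rank function constantly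
d). Then f has relative dimension 0 and for every k-cycle α on Y, f_*(f^*α) = d·α (for any cycle
f^*α on X with the flat-pullback coefficients). Here a pair (X, δ) with Cyc.IsSetup plays the role
of a scheme locally of finite type over a fixed base with a dimension function (X locally Noetherian
with universally catenary local rings, δ a dimension function), and Cyc.DeltaCompat records that the
dimension function upstairs is the induced one. -/
theorem result (X Y : Scheme.{u}) (δX : X → ℤ) (δY : Y → ℤ) (hX : Cyc.IsSetup X δX) (hY : Cyc.IsSetup Y δY) (f : X ⟶ Y) [IsFinite f] [Flat f] (d : ℕ) (hd : ∀ y : Y, f.finrank y = d) (hδ : Cyc.DeltaCompat f δX δY) (k : ℤ) : Cyc.HasRelDim f 0 ∧ ∀ (α : AlgebraicCycle Y ℤ), α ∈ Cyc.Zk Y δY k → ∀ α' : AlgebraicCycle X ℤ, ⇑α' = Cyc.pullFun f δX δY 0 ⇑α → AlgebraicCycle.map f δX δY α' = d • α := by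
  classical
  refine ⟨hasRelDim_zero f, ?_⟩
  intro α hα α' hα'
  ext y
  unfold AlgebraicCycle.map
  simp only [Function.locallyFinsupp.map_apply]
  have hS : (f ⁻¹' {y}).Finite := f.finite_preimage_singleton y
  have hterm : ∀ x ∈ f ⁻¹' {y},
      α' x * ((AlgebraicCycle.mapCoeff f δX δY x : ℕ) : ℤ) =
        α y * ((mult f x * f.residueDegree x : ℕ) : ℤ) := by
    intro x hx
    have hxy : f x = y := hx
    have hd' : δX x = δY (f x) := delta_eq δX δY f hδ x
    have h1 : α' x = α (f x) * (mult f x : ℤ) := by
      have : α' x = Cyc.pullFun f δX δY 0 (⇑α) x := congrFun hα' x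
      rw [this]
      unfold Cyc.pullFun
      rw [if_pos (by rw [hd', add_zero])]
      rfl
    have h2 : AlgebraicCycle.mapCoeff f δX δY x = f.residueDegree x := by
      unfold AlgebraicCycle.mapCoeff
      rw [if_pos hd']
    rw [h1, h2, hxy]
    push_cast
    ring
  rw [finsum_mem_congr rfl hterm]
  rw [← mul_finsum_mem]
  have key := finsum_mult_mul_residueDegree f y
  have hcast : ∑ᶠ x ∈ f ⁻¹' {y}, ((mult f x * f.residueDegree x : ℕ) : ℤ) =
      ((∑ᶠ x ∈ f ⁻¹' {y}, mult f x * f.residueDegree x : ℕ) : ℤ) := by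
    rw [finsum_mem_eq_finite_toFinset_sum _ hS, finsum_mem_eq_finite_toFinset_sum _ hS]
    push_cast
    rfl
  rw [hcast, key, hd y]
  change _ = d • α y
  rw [nsmul_eq_mul, mul_comm]

end Groth.Agent.S1868
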