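import Groth.Statements.S18686
import Mathlib
import Groth.Agent.Lib.H2GLat2

set_option autoImplicit false
open GLat

namespace Groth.Agent.S18686

open Groth.Agent.Lib.H2GLat GLat

section
variable {G : Type} [Group G] {A : Type} [AddCommGroup A] (ρ : Representation ℤ G A)

/-- saturation of the augmentation submodule -/
def satK (K : Subgroup G) : Submodule ℤ A where
  carrier := {a | ∃ n : ℤ, n ≠ 0 ∧ n • a ∈ aug ρ K}
  add_mem' := by
    rintro a b ⟨n, hn, ha⟩ ⟨m, hm, hb⟩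
    refine ⟨n * m, mul_ne_zero hn hm, ?_⟩
    have : (n * m) • (a + b) = m • (n • a) + n • (m • b) := by
      rw [smul_add, smul_smul, smul_smul, mul_comm m n]
    rw [this]
    exact Submodule.add_mem _ (Submodule.smul_mem _ _ ha) (Submodule.smul_mem _ _ hb)
  zero_mem' := ⟨1, one_ne_zero, by simp⟩
  smul_mem' := by
    rintro c a ⟨n, hn, ha⟩
    refine ⟨n, hn, ?_⟩
    rw [smul_comm]
    exact Submodule.smul_mem _ _ ha

lemma aug_le_satK (K : Subgroup G) : aug ρ K ≤ satK ρ K :=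
  fun a ha => ⟨1, one_ne_zero, by simpa using ha⟩

instance (K : Subgroup G) : Module.IsTorsionFree ℤ (A ⧸ satK ρ K) := by
  apply Module.IsTorsionFree.of_smul_eq_zero
  intro n x hx
  by_cases hn : n = 0
  · exact Or.inl hn
  right
  obtain ⟨a, rfl⟩ := Submodule.mkQ_surjective _ x
  rw [← map_smul, Submodule.mkQ_apply, Submodule.Quotient.mk_eq_zero] at hx
  obtain ⟨m, hm, ha⟩ := hx
  rw [Submodule.mkQ_apply, Submodule.Quotient.mk_eq_zero]
  exact ⟨m * n, mul_ne_zero hm hn, by rwa [mul_smul]⟩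

lemma satK_inf_inv [Module.IsTorsionFree ℤ A] (K : Subgroup G) [Fintype K] {y : A}
    (hs : y ∈ satK ρ K) (hi : y ∈ inv ρ K) : y = 0 := by
  obtain ⟨n, hn, hy⟩ := hs
  have h1 := nrm_aug ρ K hy
  rw [map_smul, nrm_of_mem_inv ρ K hi, smul_smul] at h1
  have hcard : (Fintype.card K : ℤ) ≠ 0 := by
    have : 0 < Fintype.card K := Fintype.card_pos
    exact_mod_cast this.ne'
  exact (smul_eq_zero.mp h1).resolve_left (mul_ne_zero hn hcard)

end


theorem result' (G : Type) [Group G] [Finite G]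
    (A : Type) [AddCommGroup A] [Module.Finite ℤ A] [Module.Free ℤ A] (ρ : Representation ℤ G A) :
    ∃ (P : Type) (_ : AddCommGroup P) (F : Type) (_ : AddCommGroup F)
      (_ : Module.Finite ℤ P) (_ : Module.Free ℤ P) (_ : Module.Finite ℤ F) (_ : Module.Free ℤ F)
      (σ : Representation ℤ G P) (τ : Representation ℤ G F) (i : A →ₗ[ℤ] P) (π : P →ₗ[ℤ] F),
      GLat.IsEquivariant ρ σ i ∧ GLat.IsEquivariant σ τ π ∧ Function.Injective i ∧ Function.Surjective π ∧
      LinearMap.range i = LinearMap.ker π ∧ GLat.IsPermutation σ ∧ GLat.IsFlasque τ := by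
  classical
  -- bases of the torsion-free coinvariant lattices
  let n : Subgroup G → ℕ := fun K => Module.finrank ℤ (A ⧸ satK ρ K)
  let bK : ∀ K : Subgroup G, Module.Basis (Fin (n K)) ℤ (A ⧸ satK ρ K) :=
    fun K => Module.finBasis ℤ (A ⧸ satK ρ K)
  let φ : ∀ (K : Subgroup G), Fin (n K) → (A →ₗ[ℤ] ℤ) :=
    fun K j => ((bK K).coord j) ∘ₗ (satK ρ K).mkQ
  have hφinv : ∀ (K : Subgroup G) (j : Fin (n K)) (k : G), k ∈ K → ∀ a, φ K j (ρ k a) = φ K j a := by
    intro K j k hk a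
    have h1 : (satK ρ K).mkQ (ρ k a) = (satK ρ K).mkQ a := by
      rw [← sub_eq_zero, ← map_sub, Submodule.mkQ_apply, Submodule.Quotient.mk_eq_zero]
      exact aug_le_satK ρ K (Submodule.subset_span ⟨⟨k, hk⟩, a, rfl⟩)
    simp only [φ, LinearMap.comp_apply, h1]
  -- divisibility lemma
  have hD : ∀ (K : Subgroup G) (a : A) (N : ℤ), (∀ j, ∃ t : ℤ, φ K j a = N * t) →
      ∃ b : A, a - N • b ∈ satK ρ K := by
    intro K a N h
    choose t ht using h
    obtain ⟨b, hb⟩ := Submodule.mkQ_surjective (satK ρ K) (∑ j, t j • bK K j)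
    refine ⟨b, ?_⟩
    rw [← Submodule.Quotient.mk_eq_zero, ← Submodule.mkQ_apply, map_sub, map_smul, hb, sub_eq_zero]
    apply (bK K).ext_elem
    intro j
    have h1 : (bK K).repr ((satK ρ K).mkQ a) j = N * t j := ht j
    rw [h1, map_smul, map_sum]
    simp [Finsupp.single_apply]
  -- index set
  let ι : Type := Σ (p : Σ K : Subgroup G, Fin (n K)), G ⧸ p.1
  let c : ι → (A →ₗ[ℤ] ℤ) := fun idx =>
    Quotient.liftOn' idx.2 (fun g => (φ idx.1.1 idx.1.2) ∘ₗ (ρ g⁻¹)) (by
      intro g g' h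
      rw [QuotientGroup.leftRel_apply] at h
      ext a
      simp only [LinearMap.comp_apply]
      have h2 : g'⁻¹ = (g⁻¹ * g')⁻¹ * g⁻¹ := by group
      rw [h2, map_mul, Module.End.mul_apply, hφinv _ _ _ (inv_mem h)])
  let i : A →ₗ[ℤ] (ι →₀ ℤ) :=
    { toFun := fun a => Finsupp.equivFunOnFinite.symm (fun idx => c idx a)
      map_add' := fun a b => by ext idx; simp
      map_smul' := fun r a => by ext idx; simp }
  have hi_apply : ∀ (a : A) (K : Subgroup G) (j : Fin (n K)) (g : G),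
      i a ⟨⟨K, j⟩, (g : G ⧸ K)⟩ = φ K j (ρ g⁻¹ a) := fun a K j g => rfl
  have hi_one : ∀ (a : A) (K : Subgroup G) (j : Fin (n K)),
      i a ⟨⟨K, j⟩, ((1 : G) : G ⧸ K)⟩ = φ K j a := by
    intro a K j
    rw [hi_apply]; simp
  have hi_eq : IsEquivariant ρ (perm G ι) i := by
    intro x a
    ext ⟨⟨K, j⟩, q⟩
    induction q using Quotient.inductionOn' with
    | h g =>
      rw [perm_apply]
      show i (ρ x a) ⟨⟨K, j⟩, (g : G ⧸ K)⟩ = i a ⟨⟨K, j⟩, ((x⁻¹ * g : G) : G ⧸ K)⟩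
      rw [hi_apply, hi_apply, ← Module.End.mul_apply, ← map_mul]
      congr 3
      group
  -- evaluation of norms at the base point
  have hE : ∀ (K : Subgroup G) [Fintype K] (j : Fin (n K)) (p : ι →₀ ℤ),
      (nrm (perm G ι) K p) ⟨⟨K, j⟩, ((1 : G) : G ⧸ K)⟩ =
        (Fintype.card K : ℤ) * p ⟨⟨K, j⟩, ((1 : G) : G ⧸ K)⟩ := by
    intro K _ j p
    rw [nrm_apply, Finsupp.finsetSum_apply]
    have : ∀ k : K, (perm G ι (k : G) p) ⟨⟨K, j⟩, ((1 : G) : G ⧸ K)⟩ =
        p ⟨⟨K, j⟩, ((1 : G) : G ⧸ K)⟩ := by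
      intro k
      rw [perm_apply]
      congr 1
      show (⟨⟨K, j⟩, (k : G)⁻¹ • ((1 : G) : G ⧸ K)⟩ : ι) = _
      congr 1
      rw [MulAction.Quotient.smul_mk, QuotientGroup.eq]
      simp
    simp only [this, Finset.sum_const, Finset.card_univ, nsmul_eq_mul]
  haveI : Module.IsTorsionFree ℤ A := inferInstance
  -- key claim
  have hstar : ∀ (K : Subgroup G) [Fintype K] (a : A) (p : ι →₀ ℤ), a ∈ inv ρ K →
      i a = nrm (perm G ι) K p → ∃ b : A, a = nrm ρ K b := by
    intro K _ a p ha hp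
    obtain ⟨b, hb⟩ := hD K a (Fintype.card K : ℤ) (fun j =>
      ⟨p ⟨⟨K, j⟩, ((1 : G) : G ⧸ K)⟩, by rw [← hi_one, hp, hE]⟩)
    refine ⟨b, ?_⟩
    have h1 : a - nrm ρ K b ∈ satK ρ K := by
      have : a - nrm ρ K b = (a - (Fintype.card K : ℤ) • b) -
          (nrm ρ K b - (Fintype.card K : ℤ) • b) := by abel
      rw [this]
      exact Submodule.sub_mem _ hb (aug_le_satK ρ K (nrm_sub_card_mem_aug ρ K b))
    have h2 : a - nrm ρ K b ∈ inv ρ K :=
      Submodule.sub_mem _ ha (fun k => rho_nrm ρ K k b)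
    exact sub_eq_zero.mp (satK_inf_inv ρ K h1 h2)
  have hbot_inv : ∀ a : A, a ∈ inv ρ (⊥ : Subgroup G) := by
    rintro a ⟨h, hh⟩
    rw [Subgroup.mem_bot] at hh
    subst hh
    simp
  haveI : Fintype (⊥ : Subgroup G) := Fintype.ofFinite _
  have hi_inj : Function.Injective i := by
    rw [← LinearMap.ker_eq_bot, LinearMap.ker_eq_bot']
    intro a ha
    obtain ⟨b, hb⟩ := hD ⊥ a 0 (fun j => ⟨0, by rw [← hi_one, ha]; simp⟩)
    rw [zero_smul, sub_zero] at hb
    exact satK_inf_inv ρ ⊥ hb (hbot_inv a)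
  -- the quotient
  have hle : ∀ g : G, LinearMap.range i ≤ (LinearMap.range i).comap (perm G ι g) := by
    rintro g _ ⟨a, rfl⟩
    exact ⟨ρ g a, hi_eq g a⟩
  let τ : Representation ℤ G ((ι →₀ ℤ) ⧸ LinearMap.range i) :=
    (perm G ι).quotient (LinearMap.range i) hle
  have hπ_eq : IsEquivariant (perm G ι) τ (LinearMap.range i).mkQ := fun g m => rfl
  haveI : Module.IsTorsionFree ℤ ((ι →₀ ℤ) ⧸ LinearMap.range i) := by
    apply Module.IsTorsionFree.of_smul_eq_zero
    intro m x hx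
    by_cases hm : m = 0
    · exact Or.inl hm
    right
    obtain ⟨p, rfl⟩ := Submodule.mkQ_surjective _ x
    rw [← map_smul, Submodule.mkQ_apply, Submodule.Quotient.mk_eq_zero] at hx
    obtain ⟨a, ha⟩ := hx
    obtain ⟨b, hb⟩ := hD ⊥ a m (fun j =>
      ⟨p ⟨⟨⊥, j⟩, ((1 : G) : G ⧸ (⊥ : Subgroup G))⟩, by rw [← hi_one, ha]; simp⟩)
    have hab : a = m • b := sub_eq_zero.mp (satK_inf_inv ρ ⊥ hb (hbot_inv _))
    rw [hab, map_smul] at ha
    have hp : i b = p := smul_right_injective _ hm ha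
    rw [Submodule.mkQ_apply, Submodule.Quotient.mk_eq_zero]
    exact ⟨b, hp⟩
  refine ⟨ι →₀ ℤ, inferInstance, (ι →₀ ℤ) ⧸ LinearMap.range i, inferInstance, inferInstance,
    inferInstance, inferInstance, inferInstance, perm G ι, τ, i, (LinearMap.range i).mkQ,
    hi_eq, hπ_eq, hi_inj, Submodule.mkQ_surjective _, (Submodule.ker_mkQ _).symm,
    isPermutation_perm, ?_⟩
  -- flasque
  apply isFlasque_of
  intro K _ x hx
  obtain ⟨p, rfl⟩ := Submodule.mkQ_surjective _ x
  rw [← equiv_nrm hπ_eq, Submodule.mkQ_apply, Submodule.Quotient.mk_eq_zero] at hx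
  obtain ⟨a, ha⟩ := hx
  have hainv : a ∈ inv ρ K := by
    intro k
    apply hi_inj
    rw [hi_eq, ha, rho_nrm]
  obtain ⟨b, hb⟩ := hstar K a p hainv ha
  have h0 : nrm (perm G ι) K (p - i b) = 0 := by
    rw [map_sub, ← equiv_nrm hi_eq, ← hb, ha, sub_self]
  have h1 := flasque_mem_aug flasque_perm K h0
  have h2 := equiv_map_aug hπ_eq K ⟨_, h1, rfl⟩
  have h3 : (LinearMap.range i).mkQ (p - i b) = (LinearMap.range i).mkQ p := by
    rw [map_sub, sub_eq_self, Submodule.mkQ_apply, Submodule.Quotient.mk_eq_zero]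
    exact ⟨b, rfl⟩
  rwa [h3] at h2


/-- For a finite group G and a G-lattice A (finitely generated and free over ℤ) there is an exact
sequence 0 → A → P → F → 0 of G-lattices with P a permutation lattice and F flasque (a flasque
resolution of A); rendered by equivariant ℤ-linear maps i : A → P injective, π : P → F surjective,
with range i = ker π. -/
theorem result (G : Type) [Group G] [Finite G]
    (A : Type) [AddCommGroup A] [Module.Finite ℤ A] [Module.Free ℤ A] (ρ : Representation ℤ G A) :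
    ∃ (P : Type) (_ : AddCommGroup P) (F : Type) (_ : AddCommGroup F)
      (_ : Module.Finite ℤ P) (_ : Module.Free ℤ P) (_ : Module.Finite ℤ F) (_ : Module.Free ℤ F)
      (σ : Representation ℤ G P) (τ : Representation ℤ G F) (i : A →ₗ[ℤ] P) (π : P →ₗ[ℤ] F),
      GLat.IsEquivariant ρ σ i ∧ GLat.IsEquivariant σ τ π ∧ Function.Injective i ∧ Function.Surjective π ∧
      LinearMap.range i = LinearMap.ker π ∧ GLat.IsPermutation σ ∧ GLat.IsFlasque τ := by
  exact result' G A ρ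

end Groth.Agent.S18686
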