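import Groth.Statements.S18685
import Mathlib
import Groth.Agent.Lib.H2GLat3
import Groth.Agent.S18675
import Groth.Agent.S18686

set_option autoImplicit false
open GLat

namespace Groth.Agent.S18685

open Groth.Agent.Lib.H2GLat GLat

theorem result' (G : Type) [Group G] [Finite G]
    (A : Type) [AddCommGroup A] [Module.Finite ℤ A] (ρ : Representation ℤ G A) :
    ∃ (P : Type) (_ : AddCommGroup P) (F : Type) (_ : AddCommGroup F)
      (_ : Module.Finite ℤ P) (_ : Module.Free ℤ P) (_ : Module.Finite ℤ F) (_ : Module.Free ℤ F)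
      (σ : Representation ℤ G P) (τ : Representation ℤ G F) (i : P →ₗ[ℤ] F) (π : F →ₗ[ℤ] A),
      GLat.IsEquivariant σ τ i ∧ GLat.IsEquivariant τ ρ π ∧ Function.Injective i ∧ Function.Surjective π ∧
      LinearMap.range i = LinearMap.ker π ∧ GLat.IsPermutation σ ∧ GLat.IsFlasque τ := by
  classical
  obtain ⟨Q₁, _, P₁, _, _, _, _, _, ρQ₁, ρP₁, i₁, π₁, hi₁, hπ₁, hinj₁, hsurj₁, hex₁, hperm₁, -⟩ :=
    Groth.Agent.S18675.result G A ρ
  obtain ⟨P₂, _, F₂, _, _, _, _, _, ρP₂, ρF₂, i₂, π₂, hi₂, hπ₂, hinj₂, hsurj₂, hex₂, hperm₂,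
    hfl₂⟩ := Groth.Agent.S18686.result G Q₁ ρQ₁
  have hπi₁ : ∀ a, π₁ (i₁ a) = 0 := fun a => by
    have : i₁ a ∈ LinearMap.ker π₁ := hex₁ ▸ LinearMap.mem_range_self i₁ a
    exact this
  have hπi₂ : ∀ q, π₂ (i₂ q) = 0 := fun q => by
    have : i₂ q ∈ LinearMap.ker π₂ := hex₂ ▸ LinearMap.mem_range_self i₂ q
    exact this
  -- the antidiagonal
  let δ : Q₁ →ₗ[ℤ] (P₁ × P₂) := LinearMap.prod i₁ (-i₂)
  let Ds : Submodule ℤ (P₁ × P₂) := LinearMap.range δ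
  have hDinv : ∀ g, Ds ≤ Ds.comap ((ρP₁.prod ρP₂) g) := by
    rintro g _ ⟨q, rfl⟩
    refine ⟨ρQ₁ g q, ?_⟩
    apply Prod.ext
    · show i₁ (ρQ₁ g q) = ρP₁ g (i₁ q)
      exact hi₁ g q
    · show -i₂ (ρQ₁ g q) = ρP₂ g (-i₂ q)
      rw [hi₂, map_neg]
  let τF : Representation ℤ G ((P₁ × P₂) ⧸ Ds) := (ρP₁.prod ρP₂).quotient Ds hDinv
  have hmk_eq : IsEquivariant (ρP₁.prod ρP₂) τF Ds.mkQ := fun g x => rfl
  -- maps
  let i : P₂ →ₗ[ℤ] ((P₁ × P₂) ⧸ Ds) := Ds.mkQ ∘ₗ LinearMap.inr ℤ P₁ P₂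
  let j : P₁ →ₗ[ℤ] ((P₁ × P₂) ⧸ Ds) := Ds.mkQ ∘ₗ LinearMap.inl ℤ P₁ P₂
  let π : ((P₁ × P₂) ⧸ Ds) →ₗ[ℤ] A := Ds.liftQ (π₁ ∘ₗ LinearMap.fst ℤ P₁ P₂) (by
    rintro _ ⟨q, rfl⟩
    simp [δ, hπi₁])
  let pr : ((P₁ × P₂) ⧸ Ds) →ₗ[ℤ] F₂ := Ds.liftQ (π₂ ∘ₗ LinearMap.snd ℤ P₁ P₂) (by
    rintro _ ⟨q, rfl⟩
    simp [δ, hπi₂])
  have hπ_mk : ∀ x : P₁ × P₂, π (Ds.mkQ x) = π₁ x.1 := fun x => rfl
  have hpr_mk : ∀ x : P₁ × P₂, pr (Ds.mkQ x) = π₂ x.2 := fun x => rfl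
  have hi_eq : IsEquivariant ρP₂ τF i := by
    intro g p
    show Ds.mkQ ((0 : P₁), ρP₂ g p) = τF g (Ds.mkQ ((0 : P₁), p))
    rw [← hmk_eq]
    simp
  have hj_eq : IsEquivariant ρP₁ τF j := by
    intro g p
    show Ds.mkQ (ρP₁ g p, (0 : P₂)) = τF g (Ds.mkQ (p, (0 : P₂)))
    rw [← hmk_eq]
    simp
  have hπ_eq : IsEquivariant τF ρ π := by
    intro g x
    obtain ⟨x, rfl⟩ := Ds.mkQ_surjective x
    rw [← hmk_eq, hπ_mk, hπ_mk]
    simp only [Representation.prod_apply_apply]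
    exact hπ₁ g _
  have hpr_eq : IsEquivariant τF ρF₂ pr := by
    intro g x
    obtain ⟨x, rfl⟩ := Ds.mkQ_surjective x
    rw [← hmk_eq, hpr_mk, hpr_mk]
    simp only [Representation.prod_apply_apply]
    exact hπ₂ g _
  have hmk0 : ∀ x : P₁ × P₂, Ds.mkQ x = 0 ↔ ∃ q, i₁ q = x.1 ∧ -i₂ q = x.2 := by
    intro x
    rw [Submodule.mkQ_apply, Submodule.Quotient.mk_eq_zero]
    constructor
    · rintro ⟨q, rfl⟩; exact ⟨q, rfl, rfl⟩
    · rintro ⟨q, h1, h2⟩; exact ⟨q, Prod.ext h1 h2⟩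
  have hi_inj : Function.Injective i := by
    rw [← LinearMap.ker_eq_bot, LinearMap.ker_eq_bot']
    intro p hp
    obtain ⟨q, h1, h2⟩ := (hmk0 _).mp hp
    have hq : q = 0 := hinj₁ (by rw [h1, map_zero]; rfl)
    subst hq
    simpa using h2.symm
  have hj_inj : Function.Injective j := by
    rw [← LinearMap.ker_eq_bot, LinearMap.ker_eq_bot']
    intro p hp
    obtain ⟨q, h1, h2⟩ := (hmk0 _).mp hp
    have hq : q = 0 := hinj₂ (by
      have : i₂ q = 0 := by simpa using h2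
      rw [this, map_zero])
    subst hq
    simpa using h1.symm
  have hπ_surj : Function.Surjective π := by
    intro a
    obtain ⟨p, rfl⟩ := hsurj₁ a
    exact ⟨Ds.mkQ (p, 0), rfl⟩
  have hpr_surj : Function.Surjective pr := by
    intro f
    obtain ⟨p, rfl⟩ := hsurj₂ f
    exact ⟨Ds.mkQ (0, p), rfl⟩
  have hex : LinearMap.range i = LinearMap.ker π := by
    ext x
    obtain ⟨⟨p₁, p₂⟩, rfl⟩ := Ds.mkQ_surjective x
    rw [LinearMap.mem_ker, hπ_mk]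
    constructor
    · rintro ⟨p, hp⟩
      have h0 : Ds.mkQ ((0 : P₁), p) = Ds.mkQ (p₁, p₂) := hp
      rw [← sub_eq_zero, ← map_sub, hmk0] at h0
      obtain ⟨q, h1, -⟩ := h0
      have : p₁ = -i₁ q := by
        simp only [Prod.fst_sub, zero_sub] at h1
        rw [h1, neg_neg]
      show π₁ p₁ = 0
      rw [this, map_neg, hπi₁, neg_zero]
    · intro h
      have h2 : p₁ ∈ LinearMap.range i₁ := by rw [hex₁]; exact h
      obtain ⟨q, rfl⟩ := h2
      refine ⟨p₂ + i₂ q, ?_⟩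
      show Ds.mkQ ((0 : P₁), p₂ + i₂ q) = Ds.mkQ (i₁ q, p₂)
      rw [← sub_eq_zero, ← map_sub, hmk0]
      refine ⟨-q, ?_, ?_⟩
      · simp
      · simp
  have hexj : LinearMap.range j = LinearMap.ker pr := by
    ext x
    obtain ⟨⟨p₁, p₂⟩, rfl⟩ := Ds.mkQ_surjective x
    rw [LinearMap.mem_ker, hpr_mk]
    constructor
    · rintro ⟨p, hp⟩
      have h0 : Ds.mkQ (p, (0 : P₂)) = Ds.mkQ (p₁, p₂) := hp
      rw [← sub_eq_zero, ← map_sub, hmk0] at h0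
      obtain ⟨q, -, h2⟩ := h0
      have : p₂ = i₂ q := by
        simp only [Prod.snd_sub, zero_sub] at h2
        exact neg_injective h2.symm
      show π₂ p₂ = 0
      rw [this, hπi₂]
    · intro h
      have h2 : p₂ ∈ LinearMap.range i₂ := by rw [hex₂]; exact h
      obtain ⟨q, rfl⟩ := h2
      refine ⟨p₁ + i₁ q, ?_⟩
      show Ds.mkQ (p₁ + i₁ q, (0 : P₂)) = Ds.mkQ (p₁, i₂ q)
      rw [← sub_eq_zero, ← map_sub, hmk0]
      refine ⟨q, ?_, ?_⟩
      · simp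
      · simp
  have hfl : IsFlasque τF :=
    flasque_of_exact hj_eq hpr_eq hj_inj hpr_surj hexj (flasque_of_isPermutation hperm₁) hfl₂
  have : Module.IsTorsionFree ℤ ((P₁ × P₂) ⧸ Ds) := torsionFree_of_exact hj_inj hexj
  exact ⟨P₂, inferInstance, (P₁ × P₂) ⧸ Ds, inferInstance, inferInstance, inferInstance,
    inferInstance, inferInstance, ρP₂, τF, i, π, hi_eq, hπ_eq, hi_inj, hπ_surj, hex, hperm₂, hfl⟩


/-- For a finite group G and a finitely generated G-module A there is an exact sequence 0 → P → F → A →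
0 of finitely generated G-modules with P a permutation lattice and F a flasque lattice; rendered by
equivariant ℤ-linear maps i : P → F injective, π : F → A surjective, with range i = ker π. -/
theorem result (G : Type) [Group G] [Finite G]
    (A : Type) [AddCommGroup A] [Module.Finite ℤ A] (ρ : Representation ℤ G A) :
    ∃ (P : Type) (_ : AddCommGroup P) (F : Type) (_ : AddCommGroup F)
      (_ : Module.Finite ℤ P) (_ : Module.Free ℤ P) (_ : Module.Finite ℤ F) (_ : Module.Free ℤ F)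
      (σ : Representation ℤ G P) (τ : Representation ℤ G F) (i : P →ₗ[ℤ] F) (π : F →ₗ[ℤ] A),
      GLat.IsEquivariant σ τ i ∧ GLat.IsEquivariant τ ρ π ∧ Function.Injective i ∧ Function.Surjective π ∧
      LinearMap.range i = LinearMap.ker π ∧ GLat.IsPermutation σ ∧ GLat.IsFlasque τ := by
  exact result' G A ρ

end Groth.Agent.S18685
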