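import Groth.Statements.S18687
import Mathlib
import Groth.Agent.Lib.H2GLat3
import Groth.Agent.S18675
import Groth.Agent.S18686

set_option autoImplicit false
open GLat

namespace Groth.Agent.S18687

open Groth.Agent.Lib.H2GLat GLat

theorem result' (G : Type) [Group G] [Finite G]
    (A : Type) [AddCommGroup A] [Module.Finite ℤ A] [Module.Free ℤ A] (ρ : Representation ℤ G A) :
    ∃ (Q : Type) (_ : AddCommGroup Q) (P : Type) (_ : AddCommGroup P)
      (_ : Module.Finite ℤ Q) (_ : Module.Free ℤ Q) (_ : Module.Finite ℤ P) (_ : Module.Free ℤ P)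
      (σ : Representation ℤ G Q) (τ : Representation ℤ G P) (i : A →ₗ[ℤ] Q) (π : Q →ₗ[ℤ] P),
      GLat.IsEquivariant ρ σ i ∧ GLat.IsEquivariant σ τ π ∧ Function.Injective i ∧ Function.Surjective π ∧
      LinearMap.range i = LinearMap.ker π ∧ GLat.IsCoflasque σ ∧ GLat.IsPermutation τ := by
  classical
  obtain ⟨P₁, _, F₁, _, _, _, _, _, ρP₁, ρF₁, i₁, π₁, hi₁, hπ₁, hinj₁, hsurj₁, hex₁, hperm₁, -⟩ :=
    Groth.Agent.S18686.result G A ρ
  obtain ⟨Q₁, _, P₂, _, _, _, _, _, ρQ₁, ρP₂, i₂, π₂, hi₂, hπ₂, hinj₂, hsurj₂, hex₂, hperm₂,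
    hcof₂⟩ := Groth.Agent.S18675.result G F₁ ρF₁
  have hπi₁ : ∀ a, π₁ (i₁ a) = 0 := fun a => by
    have : i₁ a ∈ LinearMap.ker π₁ := hex₁ ▸ LinearMap.mem_range_self i₁ a
    exact this
  have hπi₂ : ∀ q, π₂ (i₂ q) = 0 := fun q => by
    have : i₂ q ∈ LinearMap.ker π₂ := hex₂ ▸ LinearMap.mem_range_self i₂ q
    exact this
  let D : (P₁ × P₂) →ₗ[ℤ] F₁ := π₁ ∘ₗ LinearMap.fst ℤ P₁ P₂ - π₂ ∘ₗ LinearMap.snd ℤ P₁ P₂
  let Qs : Submodule ℤ (P₁ × P₂) := LinearMap.ker D
  have hmem : ∀ x : P₁ × P₂, x ∈ Qs ↔ π₁ x.1 = π₂ x.2 := by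
    intro x
    simp only [Qs, D, LinearMap.mem_ker, LinearMap.sub_apply, LinearMap.comp_apply,
      LinearMap.fst_apply, LinearMap.snd_apply, sub_eq_zero]
  have hQinv : ∀ g, Qs ≤ Qs.comap ((ρP₁.prod ρP₂) g) := by
    intro g x hx
    rw [Submodule.mem_comap, hmem]
    rw [hmem] at hx
    simp only [Representation.prod_apply_apply]
    rw [hπ₁, hπ₂, hx]
  let σQ : Representation ℤ G Qs := (ρP₁.prod ρP₂).subrepresentation Qs hQinv
  let i : A →ₗ[ℤ] Qs := LinearMap.codRestrict Qs (LinearMap.inl ℤ P₁ P₂ ∘ₗ i₁) (fun a => by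
    rw [hmem]; simp [hπi₁])
  let π : Qs →ₗ[ℤ] P₂ := LinearMap.snd ℤ P₁ P₂ ∘ₗ Qs.subtype
  let j : Q₁ →ₗ[ℤ] Qs := LinearMap.codRestrict Qs (LinearMap.inr ℤ P₁ P₂ ∘ₗ i₂) (fun q => by
    rw [hmem]; simp [hπi₂])
  let pr : Qs →ₗ[ℤ] P₁ := LinearMap.fst ℤ P₁ P₂ ∘ₗ Qs.subtype
  have hi_eq : IsEquivariant ρ σQ i := by
    intro g a
    apply Subtype.ext
    simp [i, σQ, hi₁ g a]
  have hπ_eq : IsEquivariant σQ ρP₂ π := fun g x => rfl
  have hj_eq : IsEquivariant ρQ₁ σQ j := by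
    intro g q
    apply Subtype.ext
    simp [j, σQ, hi₂ g q]
  have hpr_eq : IsEquivariant σQ ρP₁ pr := fun g x => rfl
  have hi_inj : Function.Injective i := by
    intro a b hab
    apply hinj₁
    have := congrArg (fun x : Qs => (x : P₁ × P₂).1) hab
    simpa [i] using this
  have hj_inj : Function.Injective j := by
    intro a b hab
    apply hinj₂
    have := congrArg (fun x : Qs => (x : P₁ × P₂).2) hab
    simpa [j] using this
  have hπ_surj : Function.Surjective π := by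
    intro p₂
    obtain ⟨p₁, hp₁⟩ := hsurj₁ (π₂ p₂)
    exact ⟨⟨(p₁, p₂), (hmem _).mpr hp₁⟩, rfl⟩
  have hpr_surj : Function.Surjective pr := by
    intro p₁
    obtain ⟨p₂, hp₂⟩ := hsurj₂ (π₁ p₁)
    exact ⟨⟨(p₁, p₂), (hmem _).mpr hp₂.symm⟩, rfl⟩
  have hex : LinearMap.range i = LinearMap.ker π := by
    ext ⟨⟨p₁, p₂⟩, hx⟩
    rw [LinearMap.mem_ker]
    constructor
    · rintro ⟨a, ha⟩
      have := congrArg (fun x : Qs => (x : P₁ × P₂).2) ha
      simpa [i, π] using this.symm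
    · intro h
      have hp₂ : p₂ = 0 := h
      subst hp₂
      have h1 : π₁ p₁ = 0 := by
        have := (hmem _).mp hx
        simpa using this
      have h2 : p₁ ∈ LinearMap.range i₁ := by rw [hex₁]; exact h1
      obtain ⟨a, rfl⟩ := h2
      exact ⟨a, Subtype.ext (by simp [i])⟩
  have hexj : LinearMap.range j = LinearMap.ker pr := by
    ext ⟨⟨p₁, p₂⟩, hx⟩
    rw [LinearMap.mem_ker]
    constructor
    · rintro ⟨q, hq⟩
      have := congrArg (fun x : Qs => (x : P₁ × P₂).1) hq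
      simpa [j, pr] using this.symm
    · intro h
      have hp₁ : p₁ = 0 := h
      subst hp₁
      have h1 : π₂ p₂ = 0 := by
        have := (hmem _).mp hx
        simpa using this.symm
      have h2 : p₂ ∈ LinearMap.range i₂ := by rw [hex₂]; exact h1
      obtain ⟨q, rfl⟩ := h2
      exact ⟨q, Subtype.ext (by simp [j])⟩
  have hcof : IsCoflasque σQ :=
    coflasque_of_exact hj_eq hpr_eq hj_inj hpr_surj hexj hcof₂
      (coflasque_of_isPermutation hperm₁)
  exact ⟨Qs, inferInstance, P₂, inferInstance, inferInstance, inferInstance, inferInstance,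
    inferInstance, σQ, ρP₂, i, π, hi_eq, hπ_eq, hi_inj, hπ_surj, hex, hcof, hperm₂⟩


/-- For a finite group G and a G-lattice A (finitely generated and free over ℤ) there is an exact
sequence 0 → A → Q → P → 0 of G-lattices with Q coflasque and P a permutation lattice (a coflasque
resolution of A); rendered by equivariant ℤ-linear maps i : A → Q injective, π : Q → P surjective,
with range i = ker π. -/
theorem result (G : Type) [Group G] [Finite G]
    (A : Type) [AddCommGroup A] [Module.Finite ℤ A] [Module.Free ℤ A] (ρ : Representation ℤ G A) :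
    ∃ (Q : Type) (_ : AddCommGroup Q) (P : Type) (_ : AddCommGroup P)
      (_ : Module.Finite ℤ Q) (_ : Module.Free ℤ Q) (_ : Module.Finite ℤ P) (_ : Module.Free ℤ P)
      (σ : Representation ℤ G Q) (τ : Representation ℤ G P) (i : A →ₗ[ℤ] Q) (π : Q →ₗ[ℤ] P),
      GLat.IsEquivariant ρ σ i ∧ GLat.IsEquivariant σ τ π ∧ Function.Injective i ∧ Function.Surjective π ∧
      LinearMap.range i = LinearMap.ker π ∧ GLat.IsCoflasque σ ∧ GLat.IsPermutation τ := by
  exact result' G A ρ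

end Groth.Agent.S18687
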