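import Groth.Statements.S18699
import Groth.Agent.Lib.H8CM2
import Groth.Agent.Lib.SerreSk
import Mathlib.RingTheory.Regular.Flat
import Mathlib.RingTheory.Flat.Localization

set_option autoImplicit false
universe u
open QGor

namespace Groth.Agent.S18699

open LocCoh IsLocalRing Module

variable {A : Type u} [CommRing A]

/-- localization of `M/xM` is `M_p / x M_p`. -/
noncomputable def locQuotEquiv (p : Ideal A) [p.IsPrime] (x : A) (M : Type u) [AddCommGroup M]
    [Module A M] :
    LocalizedModule p.primeCompl (QuotSMulTop x M) ≃ₗ[Localization.AtPrime p]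
      QuotSMulTop (algebraMap A (Localization.AtPrime p) x) (LocalizedModule p.primeCompl M) :=
  (IsLocalizedModule.isBaseChange p.primeCompl (Localization.AtPrime p)
    (LocalizedModule.mkLinearMap p.primeCompl (QuotSMulTop x M))).equiv.symm ≪≫ₗ
  (QuotSMulTop.algebraMapTensorEquivTensorQuotSMulTop x M (Localization.AtPrime p)).symm ≪≫ₗ
  QuotSMulTop.congr _ (IsLocalizedModule.isBaseChange p.primeCompl (Localization.AtPrime p)
    (LocalizedModule.mkLinearMap p.primeCompl M)).equiv

theorem idealDepth_eq_top_of_smul_top {I : Ideal A} {M : Type u} [AddCommGroup M] [Module A M]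
    (h : I • (⊤ : Submodule A M) = ⊤) : idealDepth I M = ⊤ := by
  unfold idealDepth
  rw [if_pos h]

/-- key lemma: local depth bounds along `V(I) ∩ Supp M` give a bound on the `I`-depth. -/
theorem le_idealDepth_of_forall_le_depth [IsNoetherianRing A] (I : Ideal A) (k : ℕ) :
    ∀ (M : Type u) [AddCommGroup M] [Module A M] [Module.Finite A M],
      (∀ p : PrimeSpectrum A, I ≤ p.asIdeal → p ∈ Module.support A M →
        (k : ℕ∞) ≤ depth (Localization.AtPrime p.asIdeal)
          (LocalizedModule p.asIdeal.primeCompl M)) →
      (k : ℕ∞) ≤ idealDepth I M := by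
  induction k with
  | zero => intro M _ _ _ _; simp
  | succ k ih =>
    intro M _ _ _ hM
    by_cases hI : I • (⊤ : Submodule A M) = ⊤
    · rw [idealDepth_eq_top_of_smul_top hI]; exact le_top
    -- no associated prime contains `I`
    have hass : ∀ p ∈ associatedPrimes A M, ¬ I ≤ p := by
      intro p hp hle
      have := hp.isPrime
      have hsupp : (⟨p, hp.isPrime⟩ : PrimeSpectrum A) ∈ Module.support A M :=
        Groth.Agent.Lib.DepthRees.mem_support_of_mem_associatedPrimes hp
      have h1 := hM ⟨p, hp.isPrime⟩ hle hsupp
      have : Nontrivial (LocalizedModule p.primeCompl M) := by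
        rw [Module.mem_support_iff] at hsupp
        exact hsupp
      have h2 := Module.associatedPrimes.mem_associatedPrimes_atPrime_of_mem_associatedPrimes hp
      rw [Groth.Agent.Lib.SerreSk.maximalIdeal_mem_associatedPrimes_iff] at h2
      apply h2
      refine le_trans ?_ h1
      exact_mod_cast Nat.succ_le_succ (Nat.zero_le k)
    obtain ⟨x, hxI, hx⟩ := Groth.Agent.Lib.H8CM.exists_isSMulRegular_mem_of_forall_not_le I hass
    have hQ : (k : ℕ∞) ≤ idealDepth I (QuotSMulTop x M) := by
      apply ih
      intro p hp hsupp
      have hsuppM : p ∈ Module.support A M :=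
        Module.support_subset_of_surjective _ (Submodule.mkQ_surjective _) hsupp
      have h1 := hM p hp hsuppM
      have : Nontrivial (LocalizedModule p.asIdeal.primeCompl M) := by
        rw [Module.mem_support_iff] at hsuppM
        exact hsuppM
      have hxm : algebraMap A (Localization.AtPrime p.asIdeal) x ∈
          maximalIdeal (Localization.AtPrime p.asIdeal) :=
        (IsLocalization.AtPrime.to_map_mem_maximal_iff _ p.asIdeal _).mpr (hp hxI)
      have hxreg : IsSMulRegular (LocalizedModule p.asIdeal.primeCompl M)
          (algebraMap A (Localization.AtPrime p.asIdeal) x) :=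
        IsSMulRegular.of_isLocalizedModule (Localization.AtPrime p.asIdeal) p.asIdeal.primeCompl
          (LocalizedModule.mkLinearMap p.asIdeal.primeCompl M) hx
      have h2 := Groth.Agent.Lib.DepthRees.depth_quotSMulTop_add_one
        (LocalizedModule p.asIdeal.primeCompl M) hxm hxreg
      rw [Groth.Agent.Lib.H8CM.depth_eq_of_equiv (locQuotEquiv p.asIdeal x M)]
      rw [← h2] at h1
      have h3 : ((k : ℕ∞) + 1) ≤ depth (Localization.AtPrime p.asIdeal)
          (QuotSMulTop (algebraMap A (Localization.AtPrime p.asIdeal) x)
            (LocalizedModule p.asIdeal.primeCompl M)) + 1 := by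
        exact_mod_cast h1
      exact (ENat.add_le_add_iff_right ENat.one_ne_top).mp h3
    have h4 := Groth.Agent.Lib.DepthRees.idealDepth_quotSMulTop_add_one I M hI hxI hx
    rw [← h4]
    have : ((k + 1 : ℕ) : ℕ∞) = (k : ℕ∞) + 1 := by push_cast; rfl
    rw [this]
    exact add_le_add_left hQ 1


/-- Affine form. Let A be a Noetherian ring, M a finite A-module with Serre's condition (S_k), and I an
ideal of A such that dim Supp(M_p) ≥ k for every prime p ⊇ I in the support of M (the closed set
V(I) meets Supp M in codimension at least k). Then the I-depth of M is at least k. -/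
theorem result (k : ℕ) (A : Type u) [CommRing A] [IsNoetherianRing A]
    (M : Type u) [AddCommGroup M] [Module A M] [Module.Finite A M] (I : Ideal A)
    (hS : LocCoh.HasSk k A M)
    (hcodim : ∀ p : PrimeSpectrum A, I ≤ p.asIdeal → p ∈ Module.support A M →
      (k : WithBot ℕ∞) ≤ Module.supportDim (Localization.AtPrime p.asIdeal) (LocalizedModule p.asIdeal.primeCompl M)) :
    (k : ℕ∞) ≤ LocCoh.idealDepth I M := by
  apply le_idealDepth_of_forall_le_depth I k M
  intro p hp hsupp
  have h1 := hS p.asIdeal
  rw [min_eq_left (hcodim p hp hsupp)] at h1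
  exact_mod_cast h1

end Groth.Agent.S18699
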