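import Groth.Statements.S18700
import Groth.Agent.Lib.H29Depth

set_option autoImplicit false
universe u
open QGor

namespace Groth.Agent.S18700

open CategoryTheory Abelian Groth.Agent.Lib.H29Depth

theorem subsingleton_ext_zero_of_injective (A : Type u) [CommRing A]
    (X M N : Type u) [AddCommGroup X] [Module A X] [AddCommGroup M] [Module A M]
    [AddCommGroup N] [Module A N] (f : M →ₗ[A] N) (hf : Function.Injective f)
    (h : Subsingleton (Ext (ModuleCat.of A X) (ModuleCat.of A N) 0)) :
    Subsingleton (Ext (ModuleCat.of A X) (ModuleCat.of A M) 0) := by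
  have : Mono (ModuleCat.ofHom f) := (ModuleCat.mono_iff_injective _).mpr hf
  exact (Ext.postcomp_mk₀_injective_of_mono (ModuleCat.of A X) (ModuleCat.ofHom f)).subsingleton


/-- Affine form. Let A be a Noetherian ring, I an ideal, and G the kernel of a linear map u : E⁰ → E¹ of
finite A-modules. If depth_I E⁰ ≥ 1 then depth_I G ≥ 1; if depth_I E⁰ ≥ 2 and depth_I E¹ ≥ 1 then
depth_I G ≥ 2. -/
theorem result (A : Type u) [CommRing A] [IsNoetherianRing A] (I : Ideal A)
    (E0 E1 : Type u) [AddCommGroup E0] [Module A E0] [Module.Finite A E0] [AddCommGroup E1] [Module A E1]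
    [Module.Finite A E1] (u : E0 →ₗ[A] E1) :
    (1 ≤ LocCoh.idealDepth I E0 → 1 ≤ LocCoh.idealDepth I (LinearMap.ker u)) ∧
    (2 ≤ LocCoh.idealDepth I E0 → 1 ≤ LocCoh.idealDepth I E1 → 2 ≤ LocCoh.idealDepth I (LinearMap.ker u)) := by
  have hzero : (∀ i : ℕ, i < 1 → Subsingleton (Ext (ModuleCat.of A (A ⧸ I)) (ModuleCat.of A E0) i)) →
      Subsingleton (Ext (ModuleCat.of A (A ⧸ I)) (ModuleCat.of A (LinearMap.ker u)) 0) := fun h =>
    subsingleton_ext_zero_of_injective A (A ⧸ I) (LinearMap.ker u) E0 (LinearMap.ker u).subtype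
      (Submodule.injective_subtype _) (h 0 Nat.one_pos)
  constructor
  · intro h
    have h' := (le_idealDepth_iff_ext' I E0 1).mp (by exact_mod_cast h)
    have := (le_idealDepth_iff_ext' I (LinearMap.ker u) 1).mpr (by
      intro i hi
      obtain rfl : i = 0 := by omega
      exact hzero h')
    exact_mod_cast this
  · intro h0 h1
    have h0' := (le_idealDepth_iff_ext' I E0 2).mp (by exact_mod_cast h0)
    have h1' := (le_idealDepth_iff_ext' I E1 1).mp (by exact_mod_cast h1)
    have := (le_idealDepth_iff_ext' I (LinearMap.ker u) 2).mpr (by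
      intro i hi
      have : i = 0 ∨ i = 1 := by omega
      rcases this with rfl | rfl
      · exact hzero (fun i hi => h0' i (by omega))
      · -- short exact sequence 0 → ker u → E0 → range u → 0
        have hS := LinearMap.shortExact_shortComplexKer (f := u.rangeRestrict) u.surjective_rangeRestrict
        have h3 : Subsingleton (Ext (ModuleCat.of A (A ⧸ I)) (ModuleCat.of A (LinearMap.range u)) 0) :=
          subsingleton_ext_zero_of_injective A (A ⧸ I) (LinearMap.range u) E1 (LinearMap.range u).subtype
            (Submodule.injective_subtype _) (h1' 0 Nat.one_pos)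
        have key : ∀ (S : Submodule A E0), S = LinearMap.ker u.rangeRestrict →
            Subsingleton (Ext (ModuleCat.of A (A ⧸ I)) (ModuleCat.of A S) 1) := by
          intro S hSS
          subst hSS
          exact subsingleton_ext_X₁_succ hS (ModuleCat.of A (A ⧸ I)) 0 (h0' 1 (by omega)) h3
        exact key _ (LinearMap.ker_rangeRestrict u).symm)
    exact_mod_cast this

end Groth.Agent.S18700
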