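import Groth.Statements.S18701
import Groth.Agent.Lib.H47Reflexive
import Groth.Agent.Lib.SerreSk
import Mathlib.Algebra.Module.LocalizedModule.Exact

set_option autoImplicit false
universe u
open QGor

namespace Groth.Agent.S18701

open CategoryTheory Groth.Agent.Lib.H47Reflexive

/-- `E1` for a kernel. -/
theorem e1_of_exact {R : Type u} [CommRing R] (I : Ideal R) {K M N : Type u}
    [AddCommGroup K] [Module R K] [AddCommGroup M] [Module R M] [AddCommGroup N] [Module R N]
    (i : K →ₗ[R] M) (v : M →ₗ[R] N) (hi : Function.Injective i) (hex : Function.Exact i v)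
    (_tfM : TF I M) (e1M : E1 I M) (tfN : TF I N) : E1 I K := by
  intro h
  obtain ⟨e₀, he₀⟩ := e1M (i.comp h)
  have hv : v e₀ = 0 := by
    apply tfN
    intro a ha
    rw [← map_smul, ← he₀ ⟨a, ha⟩]
    exact hex.apply_apply_eq_zero _
  obtain ⟨g₀, rfl⟩ := (hex e₀).mp hv
  refine ⟨g₀, fun a => ?_⟩
  apply hi
  rw [map_smul]
  exact he₀ a

theorem arith3 (d0 d1 dG : ℕ∞) (s0 s1 sG : WithBot ℕ∞) (hs0 : sG ≤ s0) (hs1 : sG ≤ s1)
    (h1 : 1 ≤ d0 → 1 ≤ dG) (h2 : 2 ≤ d0 → 1 ≤ d1 → 2 ≤ dG)
    (hE1 : min ((1 : ℕ) : WithBot ℕ∞) s1 ≤ ((d1 : ℕ∞) : WithBot ℕ∞))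
    (hE0 : min ((2 : ℕ) : WithBot ℕ∞) s0 ≤ ((d0 : ℕ∞) : WithBot ℕ∞)) :
    min ((2 : ℕ) : WithBot ℕ∞) sG ≤ ((dG : ℕ∞) : WithBot ℕ∞) := by
  rcases le_or_gt 1 d1 with h | h
  · exact arith2 d0 dG s0 sG hs0 h1 (fun h' => h2 h' h) hE0
  · have hd0 : d1 = 0 := Order.lt_one_iff.mp h
    rw [min_le_iff] at hE1
    rcases hE1 with h' | h'
    · exfalso
      have : (1 : ℕ∞) ≤ d1 := by exact_mod_cast h'
      exact absurd this (not_le.mpr h)
    · refine le_trans (min_le_right _ _) ?_
      calc sG ≤ s1 := hs1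
        _ ≤ ((d1 : ℕ∞) : WithBot ℕ∞) := h'
        _ = (((0 : ℕ∞)) : WithBot ℕ∞) := by rw [hd0]
        _ ≤ ((dG : ℕ∞) : WithBot ℕ∞) := WithBot.coe_le_coe.mpr (by simp)

/-- support dimension of localizations is monotone in the support. -/
theorem supportDim_localized_le_of_support_subset {A : Type u} [CommRing A] (p : Ideal A) [p.IsPrime]
    (M N : Type u) [AddCommGroup M] [Module A M] [AddCommGroup N] [Module A N]
    (h : Module.support A M ⊆ Module.support A N) :
    Module.supportDim (Localization.AtPrime p) (LocalizedModule p.primeCompl M) ≤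
      Module.supportDim (Localization.AtPrime p) (LocalizedModule p.primeCompl N) := by
  have hsub : Module.support (Localization.AtPrime p) (LocalizedModule p.primeCompl M) ⊆
      Module.support (Localization.AtPrime p) (LocalizedModule p.primeCompl N) := by
    intro q hq
    have h1 := h (Groth.Agent.Lib.SerreSk.comap_mem_support_of_mem_support p M q hq)
    have hqp : (PrimeSpectrum.comap (algebraMap A (Localization.AtPrime p)) q).asIdeal ≤ p := by
      intro x hx
      by_contra hxp
      have hu : IsUnit (algebraMap A (Localization.AtPrime p) x) :=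
        IsLocalization.map_units (Localization.AtPrime p) (⟨x, hxp⟩ : p.primeCompl)
      exact q.2.ne_top (Ideal.eq_top_of_isUnit_mem _ hx hu)
    obtain ⟨q', hq', hcomap⟩ :=
      Groth.Agent.Lib.SerreSk.exists_mem_support_localization p N _ h1 hqp
    have : q' = q :=
      PrimeSpectrum.localization_comap_injective (Localization.AtPrime p) p.primeCompl hcomap
    rwa [this] at hq'
  exact Order.krullDim_le_of_strictMono (fun a => ⟨a.1, hsub a.2⟩) (fun {_ _} lt => lt)


/-- Affine form. Let A be a Noetherian ring and G the kernel of a linear map u : E⁰ → E¹ of finite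
A-modules. If E⁰ has (S_1) then G has (S_1). If Supp G ⊆ Supp E¹, E¹ has (S_1) and E⁰ has (S_2),
then G has (S_2). -/
theorem result (A : Type u) [CommRing A] [IsNoetherianRing A]
    (E0 E1 : Type u) [AddCommGroup E0] [Module A E0] [Module.Finite A E0] [AddCommGroup E1] [Module A E1]
    [Module.Finite A E1] (u : E0 →ₗ[A] E1) :
    (LocCoh.HasSk 1 A E0 → LocCoh.HasSk 1 A (LinearMap.ker u)) ∧
    (Module.support A (LinearMap.ker u) ⊆ Module.support A E1 → LocCoh.HasSk 1 A E1 → LocCoh.HasSk 2 A E0 →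
      LocCoh.HasSk 2 A (LinearMap.ker u)) := by
  have key : ∀ (p : Ideal A) [p.IsPrime],
      Function.Injective (LocalizedModule.map p.primeCompl (LinearMap.ker u).subtype) ∧
      Function.Exact (LocalizedModule.map p.primeCompl (LinearMap.ker u).subtype)
        (LocalizedModule.map p.primeCompl u) := fun p _ =>
    ⟨LocalizedModule.map_injective _ _ (Submodule.injective_subtype _),
      LocalizedModule.map_exact p.primeCompl _ _ (LinearMap.exact_subtype_ker_map u)⟩
  have hs0 : ∀ (p : Ideal A) [p.IsPrime],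
      Module.supportDim (Localization.AtPrime p) (LocalizedModule p.primeCompl (LinearMap.ker u)) ≤
      Module.supportDim (Localization.AtPrime p) (LocalizedModule p.primeCompl E0) := fun p _ =>
    Module.supportDim_le_of_injective _ (key p).1
  have h1 : ∀ (p : Ideal A) [p.IsPrime],
      1 ≤ LocCoh.depth (Localization.AtPrime p) (LocalizedModule p.primeCompl E0) →
      1 ≤ LocCoh.depth (Localization.AtPrime p) (LocalizedModule p.primeCompl (LinearMap.ker u)) := by
    intro p _ h
    unfold LocCoh.depth at h ⊢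
    rw [one_le_idealDepth_iff] at h ⊢
    exact h.of_injective _ (key p).1
  refine ⟨fun hE0 p _ => arith1 _ _ _ _ (hs0 p) (h1 p) (hE0 p), ?_⟩
  intro hsupp hE1 hE0 p _
  refine arith3 _ _ _ _ _ _ (hs0 p)
    (supportDim_localized_le_of_support_subset p _ _ hsupp) (h1 p) ?_ (hE1 p) (hE0 p)
  intro h2 h1'
  unfold LocCoh.depth at h2 h1' ⊢
  rw [two_le_idealDepth_iff] at h2 ⊢
  rw [one_le_idealDepth_iff] at h1'
  exact ⟨h2.1.of_injective _ (key p).1,
    e1_of_exact _ _ _ (key p).1 (key p).2 h2.1 h2.2 h1'⟩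

end Groth.Agent.S18701
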