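import Groth.Statements.S18702
import Groth.Agent.Lib.H47Reflexive

set_option autoImplicit false
universe u
open QGor

namespace Groth.Agent.S18702

open CategoryTheory Groth.Agent.Lib.H47Reflexive

/-- depth ≥ 1 passes from the ring to a reflexive module. -/
theorem one_le_of_reflexive (A : Type u) [CommRing A] [IsNoetherianRing A] (I : Ideal A)
    (G : Type u) [AddCommGroup G] [Module A G] [Module.Finite A G] [Module.IsReflexive A G]
    (h : TF I A) : TF I G :=
  (h.linearMap (N := Module.Dual A G)).of_equiv (Module.evalEquiv A G)

/-- depth ≥ 2 passes from the ring to a reflexive module. -/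
theorem two_le_of_reflexive (A : Type u) [CommRing A] [IsNoetherianRing A] (I : Ideal A)
    (G : Type u) [AddCommGroup G] [Module A G] [Module.Finite A G] [Module.IsReflexive A G]
    (h : TF I A) (h' : E1 I A) : E1 I G :=
  (E1.linearMap (N := Module.Dual A G) h h').of_equiv (Module.evalEquiv A G)

theorem local_transfer (A : Type u) [CommRing A] [IsNoetherianRing A]
    (G : Type u) [AddCommGroup G] [Module A G] [Module.Finite A G] [Module.IsReflexive A G]
    (p : Ideal A) [p.IsPrime] :
    (1 ≤ LocCoh.depth (Localization.AtPrime p) (LocalizedModule p.primeCompl A) →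
      1 ≤ LocCoh.depth (Localization.AtPrime p) (LocalizedModule p.primeCompl G)) ∧
    (2 ≤ LocCoh.depth (Localization.AtPrime p) (LocalizedModule p.primeCompl A) →
      2 ≤ LocCoh.depth (Localization.AtPrime p) (LocalizedModule p.primeCompl G)) := by
  have hrefl := isReflexive_localizedModule p G
  unfold LocCoh.depth
  constructor
  · intro h
    rw [one_le_idealDepth_iff] at h ⊢
    exact one_le_of_reflexive _ _ _ (h.of_equiv (localizedSelfEquiv p).symm)
  · intro h
    rw [two_le_idealDepth_iff] at h ⊢
    have h1 := h.1.of_equiv (localizedSelfEquiv p).symm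
    have h2 := h.2.of_equiv (localizedSelfEquiv p).symm
    exact ⟨one_le_of_reflexive _ _ _ h1, two_le_of_reflexive _ _ _ h1 h2⟩


/-- Affine form, for an arbitrary Noetherian ring A (not assumed to be a domain). Let I be an ideal and
G a finite reflexive A-module (the evaluation map into the double dual is bijective). For k = 1 and
k = 2: if depth_I A ≥ k then depth_I G ≥ k; and if A satisfies (S_k) then G satisfies (S_k). -/
theorem result (A : Type u) [CommRing A] [IsNoetherianRing A] (I : Ideal A)
    (G : Type u) [AddCommGroup G] [Module A G] [Module.Finite A G] [Module.IsReflexive A G] :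
    (1 ≤ LocCoh.idealDepth I A → 1 ≤ LocCoh.idealDepth I G) ∧
    (2 ≤ LocCoh.idealDepth I A → 2 ≤ LocCoh.idealDepth I G) ∧
    (LocCoh.HasSk 1 A A → LocCoh.HasSk 1 A G) ∧ (LocCoh.HasSk 2 A A → LocCoh.HasSk 2 A G) := by
  refine ⟨?_, ?_, ?_, ?_⟩
  · intro h
    rw [one_le_idealDepth_iff] at h ⊢
    exact one_le_of_reflexive A I G h
  · intro h
    rw [two_le_idealDepth_iff] at h ⊢
    exact ⟨one_le_of_reflexive A I G h.1, two_le_of_reflexive A I G h.1 h.2⟩
  · intro hA p _
    exact arith1 _ _ _ _ (supportDim_localizedModule_le p G) (local_transfer A G p).1 (hA p)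
  · intro hA p _
    exact arith2 _ _ _ _ (supportDim_localizedModule_le p G) (local_transfer A G p).1
      (local_transfer A G p).2 (hA p)

end Groth.Agent.S18702
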