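import Groth.Statements.S18703
import Groth.Agent.Lib.H47Reflexive

set_option autoImplicit false
universe u
open QGor

namespace Groth.Agent.S18703

open CategoryTheory Groth.Agent.Lib.H47Reflexive

/-- Affine form. Let A be a Noetherian ring and I an ideal with depth_I A ≥ 1. Let G be a finite
A-module such that G_p is a reflexive A_p-module for every prime p not containing I (G is reflexive
off V(I)). If depth_I G ≥ 2, then G is reflexive. -/
theorem result (A : Type u) [CommRing A] [IsNoetherianRing A] (I : Ideal A)
    (hA : 1 ≤ LocCoh.idealDepth I A)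
    (G : Type u) [AddCommGroup G] [Module A G] [Module.Finite A G]
    (hU : ∀ p : PrimeSpectrum A, ¬ I ≤ p.asIdeal →
      Module.IsReflexive (Localization.AtPrime p.asIdeal) (LocalizedModule p.asIdeal.primeCompl G))
    (hG : 2 ≤ LocCoh.idealDepth I G) : Module.IsReflexive A G := by
  have hI : I.FG := IsNoetherian.noetherian I
  have tfA : TF I A := (one_le_idealDepth_iff I A).mp hA
  have hG1 : 1 ≤ LocCoh.idealDepth I G := le_trans (by norm_num) hG
  have tfG : TF I G := (one_le_idealDepth_iff I G).mp hG1
  have tfDD : TF I (Module.Dual A (Module.Dual A G)) := tfA.linearMap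
  -- injectivity
  have hinj : Function.Injective (Module.Dual.eval A G) := by
    rw [injective_iff_map_eq_zero]
    intro x hx
    have tfK : TF I (LinearMap.ker (Module.Dual.eval A G)) :=
      tfG.of_injective (LinearMap.ker (Module.Dual.eval A G)).subtype (Submodule.injective_subtype _)
    have := tfK.eq_zero_of_support hI (fun p hp hIp m => by
      have := hp
      obtain ⟨s, hs, hsm⟩ := exists_smul_eq_zero_of_eval_eq_zero (hU ⟨p, hp⟩ hIp) m.1 m.2
      exact ⟨s, hs, Subtype.ext hsm⟩) ⟨x, hx⟩
    exact congrArg Subtype.val this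
  -- the cokernel is torsion-free
  have tfC : TF I ((Module.Dual A (Module.Dual A G)) ⧸ LinearMap.range (Module.Dual.eval A G)) := by
    rw [tf_iff_ext_zero]
    have hS : (ModuleCat.shortComplexOfCompEqZero (Module.Dual.eval A G)
        (LinearMap.range (Module.Dual.eval A G)).mkQ (LinearMap.range_mkQ_comp _)).ShortExact :=
      ModuleCat.shortComplex_shortExact _ (LinearMap.exact_map_mkQ_range _) hinj
        (Submodule.mkQ_surjective _)
    have h2 := (Groth.Agent.Lib.H29Depth.le_idealDepth_iff_ext' I G 2).mp (by exact_mod_cast hG)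
    exact Groth.Agent.Lib.H29Depth.subsingleton_ext_X₃ hS _ 0 ((tf_iff_ext_zero I _).mp tfDD)
      (h2 1 (by norm_num))
  have hsurj : Function.Surjective (Module.Dual.eval A G) := by
    intro y
    have := tfC.eq_zero_of_support hI (fun p hp hIp c => by
      have := hp
      obtain ⟨y', rfl⟩ := Submodule.Quotient.mk_surjective _ c
      obtain ⟨s, hs, hsy⟩ := exists_smul_mem_range_eval (hU ⟨p, hp⟩ hIp) y'
      exact ⟨s, hs, by
        rw [← Submodule.Quotient.mk_smul]; exact (Submodule.Quotient.mk_eq_zero _).mpr hsy⟩)
      (Submodule.Quotient.mk y)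
    exact (Submodule.Quotient.mk_eq_zero _).mp this
  exact ⟨⟨hinj, hsurj⟩⟩

end Groth.Agent.S18703
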