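import Groth.Statements.S18704
import Groth.Agent.S18699
import Groth.Agent.S18702
import Groth.Agent.S18703

set_option autoImplicit false
universe u
open QGor

namespace Groth.Agent.S18704

open LocCoh IsLocalRing Module

variable {A : Type u} [CommRing A] [IsNoetherianRing A]

theorem two_le_coe_iff (x : ℕ∞) : (2 : WithBot ℕ∞) ≤ (x : WithBot ℕ∞) ↔ (2 : ℕ∞) ≤ x := by
  have : (2 : WithBot ℕ∞) = ((2 : ℕ∞) : WithBot ℕ∞) := rfl
  rw [this, WithBot.coe_le_coe]

theorem natCast_two_withBot : ((2 : ℕ) : WithBot ℕ∞) = 2 := by norm_num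

theorem natCast_two_enat : ((2 : ℕ) : ℕ∞) = 2 := by norm_num

/-- `(S_2)` for `A` and `ht I ≥ 2` give `depth_I A ≥ 2`. -/
theorem two_le_idealDepth_self (hA : LocCoh.HasSk 2 A A) (I : Ideal A) (hI : 2 ≤ I.height) :
    2 ≤ LocCoh.idealDepth I A := by
  have key := Groth.Agent.S18699.le_idealDepth_of_forall_le_depth I 2 A ?_
  · rwa [natCast_two_enat] at key
  intro p hp _
  rw [natCast_two_enat]
  have h1 := hA p.asIdeal
  have h2 : Module.supportDim (Localization.AtPrime p.asIdeal)
      (LocalizedModule p.asIdeal.primeCompl A) = ((p.asIdeal.height : ℕ∞) : WithBot ℕ∞) := by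
    rw [Module.supportDim_eq_of_equiv (Groth.Agent.Lib.H47Reflexive.localizedSelfEquiv p.asIdeal),
      Module.supportDim_self_eq_ringKrullDim, IsLocalization.AtPrime.ringKrullDim_eq_height p.asIdeal]
  have h3 : (2 : ℕ∞) ≤ p.asIdeal.height := le_trans hI (Ideal.height_mono hp)
  have h4 : ((2 : ℕ) : WithBot ℕ∞) ≤ Module.supportDim (Localization.AtPrime p.asIdeal)
      (LocalizedModule p.asIdeal.primeCompl A) := by
    rw [h2, natCast_two_withBot, two_le_coe_iff]
    exact h3
  rw [min_eq_left h4, natCast_two_withBot, two_le_coe_iff] at h1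
  exact h1

/-- regular sequences localize: `depth_I G ≤ depth G_p` for `p ⊇ I` in the support. -/
theorem le_depth_localization_of_le_idealDepth (I : Ideal A) (G : Type u) [AddCommGroup G]
    [Module A G] [Module.Finite A G] (p : PrimeSpectrum A) (hp : I ≤ p.asIdeal)
    (hsupp : p ∈ Module.support A G) (n : ℕ) (h : (n : ℕ∞) ≤ LocCoh.idealDepth I G) :
    (n : ℕ∞) ≤ LocCoh.depth (Localization.AtPrime p.asIdeal)
      (LocalizedModule p.asIdeal.primeCompl G) := by
  have hne : I • (⊤ : Submodule A G) ≠ ⊤ := by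
    intro htop
    have h1 := Groth.Agent.Lib.H8CM.mem_support_quotient_of_le I hsupp hp
    rw [htop, Module.mem_support_iff] at h1
    have : Subsingleton (G ⧸ (⊤ : Submodule A G)) := Submodule.Quotient.subsingleton_iff.mpr rfl
    have h2 : Subsingleton (LocalizedModule p.asIdeal.primeCompl (G ⧸ (⊤ : Submodule A G))) :=
      inferInstance
    exact not_subsingleton _ h2
  have : Nontrivial (LocalizedModule p.asIdeal.primeCompl G) := by
    rw [Module.mem_support_iff] at hsupp
    exact hsupp
  obtain ⟨rs, hlen, hmem, hreg⟩ :=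
    (Groth.Agent.Lib.DepthRees.natCast_le_idealDepth_iff I G hne n).mp h
  rw [Groth.Agent.Lib.DepthRees.natCast_le_depth_iff]
  refine ⟨rs.map (algebraMap A (Localization.AtPrime p.asIdeal)), by simpa using hlen, ?_,
    hreg.of_isLocalizedModule (Localization.AtPrime p.asIdeal) p.asIdeal.primeCompl
      (LocalizedModule.mkLinearMap p.asIdeal.primeCompl G)⟩
  intro r hr
  obtain ⟨r0, hr0, rfl⟩ := List.mem_map.mp hr
  exact (IsLocalization.AtPrime.to_map_mem_maximal_iff _ p.asIdeal _).mpr (hp (hmem r0 hr0))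


/-- Affine form. Let A be a Noetherian ring with Serre's condition (S_2), I an ideal with ht I ≥ 2
(every prime containing I has height ≥ 2), and G a finite A-module with G_p reflexive for every
prime p not containing I. Then the following are equivalent: (i) G has (S_2) and dim Supp(G_p) ≥ 2
for every prime p ⊇ I in Supp G; (ii) depth_I G ≥ 2; (iii) G is reflexive. -/
theorem result (A : Type u) [CommRing A] [IsNoetherianRing A]
    (hA : LocCoh.HasSk 2 A A) (I : Ideal A) (hI : 2 ≤ I.height)
    (G : Type u) [AddCommGroup G] [Module A G] [Module.Finite A G]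
    (hU : ∀ p : PrimeSpectrum A, ¬ I ≤ p.asIdeal →
      Module.IsReflexive (Localization.AtPrime p.asIdeal) (LocalizedModule p.asIdeal.primeCompl G)) :
    ((LocCoh.HasSk 2 A G ∧ ∀ p : PrimeSpectrum A, I ≤ p.asIdeal → p ∈ Module.support A G →
        (2 : WithBot ℕ∞) ≤ Module.supportDim (Localization.AtPrime p.asIdeal) (LocalizedModule p.asIdeal.primeCompl G)) ↔
      2 ≤ LocCoh.idealDepth I G) ∧
    (2 ≤ LocCoh.idealDepth I G ↔ Module.IsReflexive A G) := by
  have hdA : 2 ≤ LocCoh.idealDepth I A := two_le_idealDepth_self hA I hI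
  have hdA1 : 1 ≤ LocCoh.idealDepth I A := le_trans (by norm_num) hdA
  have hrefl : 2 ≤ LocCoh.idealDepth I G → Module.IsReflexive A G := fun hG =>
    Groth.Agent.S18703.result A I hdA1 G hU hG
  refine ⟨⟨?_, ?_⟩, hrefl, ?_⟩
  · rintro ⟨hS, hcodim⟩
    have := Groth.Agent.S18699.result 2 A G I hS
      (fun p hp hs => by rw [natCast_two_withBot]; exact hcodim p hp hs)
    rwa [natCast_two_enat] at this
  · intro hG
    have := hrefl hG
    refine ⟨(Groth.Agent.S18702.result A I G).2.2.2 hA, ?_⟩
    intro p hp hsupp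
    have h1 := le_depth_localization_of_le_idealDepth I G p hp hsupp 2
      (by rw [natCast_two_enat]; exact hG)
    rw [natCast_two_enat] at h1
    have : Nontrivial (LocalizedModule p.asIdeal.primeCompl G) := by
      rw [Module.mem_support_iff] at hsupp
      exact hsupp
    have h2 := Groth.Agent.Lib.DepthRees.depth_le_supportDim (R := Localization.AtPrime p.asIdeal)
      (LocalizedModule p.asIdeal.primeCompl G)
    refine le_trans ?_ h2
    rw [two_le_coe_iff]
    exact h1
  · intro hr
    exact (Groth.Agent.S18702.result A I G).2.1 hdA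

end Groth.Agent.S18704
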