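import Groth.Statements.S18705
import Groth.Agent.Lib.FlatCrit
import Groth.Agent.Lib.H47Reflexive
import Groth.Agent.Lib.H47FiberMod
import Mathlib.RingTheory.Localization.BaseChange
import Mathlib.RingTheory.Flat.Localization

set_option autoImplicit false
universe u
open QGor

namespace Groth.Agent.S18705

open TensorProduct Function IsLocalRing Groth.Agent.Lib.H47Reflexive

section LV

variable {A B : Type u} [CommRing A] [CommRing B] [Algebra A B]
variable (M : Type u) [AddCommGroup M] [Module B M] [Module A M] [IsScalarTower A B M]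

/-- `lTensor` is `B`-linear. -/
theorem lTensor_smul {P P' : Type u} [AddCommGroup P] [Module A P] [AddCommGroup P'] [Module A P']
    (i : P →ₗ[A] P') (s : B) (y : M ⊗[A] P) : i.lTensor M (s • y) = s • i.lTensor M y :=
  (AlgebraTensorModule.lTensor B M i).map_smul s y

/-- local vanishing: an element of `ker (M ⊗ P → M ⊗ P')` is killed by some `s ∉ q` when `M_q` is
flat over `A`. -/
theorem exists_smul_eq_zero_of_flatAt {P P' : Type u} [AddCommGroup P] [Module A P]
    [AddCommGroup P'] [Module A P'] (i : P →ₗ[A] P') (hi : Injective i) (q : Ideal B) [q.IsPrime]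
    (hq : FlatCA.FlatAt A q M) (y : M ⊗[A] P) (hy : i.lTensor M y = 0) :
    ∃ s ∉ q, s • y = 0 := by
  have hflat : Module.Flat A (LocalizedModule q.primeCompl M) := hq
  let g : M →ₗ[B] LocalizedModule q.primeCompl M := LocalizedModule.mkLinearMap q.primeCompl M
  have hcomm : ∀ z : M ⊗[A] P, i.lTensor (LocalizedModule q.primeCompl M)
      (AlgebraTensorModule.rTensor A P g z) = AlgebraTensorModule.rTensor A P' g (i.lTensor M z) := by
    intro z
    induction z with
    | zero => simp
    | add a b ha hb => simp only [map_add, ha, hb]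
    | tmul a b => simp
  have h0 : AlgebraTensorModule.rTensor A P g y = 0 := by
    apply Module.Flat.lTensor_preserves_injective_linearMap (M := LocalizedModule q.primeCompl M) i hi
    rw [hcomm, hy, map_zero, map_zero]
  obtain ⟨c, hc⟩ := (IsLocalizedModule.eq_zero_iff q.primeCompl
    (AlgebraTensorModule.rTensor A P g)).mp h0
  exact ⟨c.1, c.2, hc⟩

end LV

section TFsec

variable {A B : Type u} [CommRing A] [CommRing B] [Algebra A B]
variable (J : Ideal B) (I : Ideal A)
variable (M : Type u) [AddCommGroup M] [Module B M] [Module A M] [IsScalarTower A B M]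

theorem exists_eq_tmul_one (z : M ⊗[A] (A ⧸ I)) : ∃ x : M, z = x ⊗ₜ[A] (1 : A ⧸ I) := by
  induction z with
  | zero => exact ⟨0, (zero_tmul _ _).symm⟩
  | add a b ha hb =>
    obtain ⟨x, rfl⟩ := ha
    obtain ⟨y, rfl⟩ := hb
    exact ⟨x + y, (add_tmul _ _ _).symm⟩
  | tmul x c =>
    obtain ⟨a, rfl⟩ := Ideal.Quotient.mk_surjective c
    refine ⟨a • x, ?_⟩
    rw [smul_tmul]
    congr 1
    rw [← Ideal.Quotient.algebraMap_eq, Algebra.algebraMap_eq_smul_one]

theorem tmul_one_eq_zero_iff (x : M) :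
    x ⊗ₜ[A] (1 : A ⧸ I) = 0 ↔ x ∈ I • (⊤ : Submodule A M) := by
  rw [← (tensorQuotEquivQuotSMul M I).map_eq_zero_iff, ← map_one (Ideal.Quotient.mk I),
    tensorQuotEquivQuotSMul_tmul_mk, one_smul, Submodule.Quotient.mk_eq_zero]

/-- `M ⊗ A/I` is `J`-torsion-free when `M / (IB) M` is. -/
theorem tf_tensor_quotient
    (h : TF J (M ⧸ (I.map (algebraMap A B) • (⊤ : Submodule B M)))) :
    TF J (M ⊗[A] (A ⧸ I)) := by
  intro z hz
  obtain ⟨x, rfl⟩ := exists_eq_tmul_one I M z
  rw [tmul_one_eq_zero_iff, ← Groth.Agent.Lib.H47FiberMod.mem_smul_top_iff (S := B) M I,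
    ← Submodule.Quotient.mk_eq_zero]
  apply h
  intro b hb
  have h1 := hz b hb
  rw [smul_tmul', tmul_one_eq_zero_iff, ← Groth.Agent.Lib.H47FiberMod.mem_smul_top_iff (S := B) M I,
    ← Submodule.Quotient.mk_eq_zero] at h1
  exact h1

theorem tf_pi {ι : Type u} (X : ι → Type u) [∀ i, AddCommGroup (X i)] [∀ i, Module B (X i)]
    (h : ∀ i, TF J (X i)) : TF J (∀ i, X i) := by
  intro z hz
  funext i
  apply h i
  intro b hb
  exact congrFun (hz b hb) i

/-- `M ⊗ Q` is `J`-torsion-free for `Q` a finite module over the residue field `A/I`. -/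
theorem tf_tensor_of_residue [I.IsMaximal] (Q : Type u) [AddCommGroup Q] [Module A Q]
    [Module (A ⧸ I) Q] [IsScalarTower A (A ⧸ I) Q] [Module.Finite A Q]
    (h : TF J (M ⧸ (I.map (algebraMap A B) • (⊤ : Submodule B M)))) : TF J (M ⊗[A] Q) := by
  classical
  let _ : Field (A ⧸ I) := Ideal.Quotient.field I
  have : Module.Finite (A ⧸ I) Q := Module.Finite.of_restrictScalars_finite A (A ⧸ I) Q
  let b := Module.Free.chooseBasis (A ⧸ I) Q
  let e : Q ≃ₗ[A] (Module.Free.ChooseBasisIndex (A ⧸ I) Q → A ⧸ I) :=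
    b.equivFun.restrictScalars A
  let e2 : M ⊗[A] Q ≃ₗ[B] (Module.Free.ChooseBasisIndex (A ⧸ I) Q → M ⊗[A] (A ⧸ I)) :=
    (AlgebraTensorModule.congr (LinearEquiv.refl B M) e) ≪≫ₗ
      (TensorProduct.piRight A B M (fun _ : Module.Free.ChooseBasisIndex (A ⧸ I) Q => A ⧸ I))
  exact (tf_pi J _ (fun _ => tf_tensor_quotient J I M h)).of_equiv e2

end TFsec

section Step

variable {B : Type u} [CommRing B] (J : Ideal B)

/-- single element version of `TF.eq_zero_of_support`. -/
theorem tf_eq_zero_of_forall_exists_smul {X : Type u} [AddCommGroup X] [Module B X] (h : TF J X)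
    (hJ : J.FG) (x : X)
    (hx : ∀ q : Ideal B, q.IsPrime → ¬ J ≤ q → ∃ s ∉ q, s • x = 0) : x = 0 := by
  have hY : TF J (Submodule.span B {x}) :=
    h.of_injective (Submodule.span B {x}).subtype (Submodule.subtype_injective _)
  have key := hY.eq_zero_of_support hJ (fun q hq hJq y => by
    obtain ⟨s, hs, hsx⟩ := hx q hq hJq
    refine ⟨s, hs, Subtype.ext ?_⟩
    obtain ⟨c, hc⟩ := Submodule.mem_span_singleton.mp y.2
    rw [Submodule.coe_smul, ← hc, smul_comm, hsx, smul_zero]
    rfl) ⟨x, Submodule.mem_span_singleton_self x⟩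
  exact congrArg Subtype.val key

end Step

section Main

variable {A B : Type u} [CommRing A] [CommRing B] [IsNoetherianRing A] [IsNoetherianRing B]
  [Algebra A B]
variable (J : Ideal B) (I : Ideal A) [I.IsMaximal]
variable (M : Type u) [AddCommGroup M] [Module B M] [Module A M] [IsScalarTower A B M]

theorem step (hTF : TF J (M ⧸ (I.map (algebraMap A B) • (⊤ : Submodule B M))))
    (hU : ∀ q : PrimeSpectrum B, ¬ J ≤ q.asIdeal → FlatCA.FlatAt A q.asIdeal M)
    (P : Ideal A) (y : M ⊗[A] P) (hy : P.subtype.lTensor M y = 0) :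
    y ∈ LinearMap.range ((I • (⊤ : Submodule A P)).subtype.lTensor M) := by
  set N : Submodule A P := I • (⊤ : Submodule A P) with hN
  have hex := lTensor_exact M (LinearMap.exact_subtype_mkQ N) (Submodule.mkQ_surjective N)
  refine (hex y).mp ?_
  have hTFQ : TF J (M ⊗[A] (P ⧸ N)) := tf_tensor_of_residue J I M (P ⧸ N) hTF
  refine tf_eq_zero_of_forall_exists_smul J hTFQ (IsNoetherian.noetherian J) _ ?_
  intro q hq hJq
  haveI := hq
  obtain ⟨s, hs, hsy⟩ := exists_smul_eq_zero_of_flatAt M P.subtype Subtype.val_injective q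
    (hU ⟨q, hq⟩ hJq) y hy
  exact ⟨s, hs, by rw [← lTensor_smul, hsy, map_zero]⟩

theorem mem_range_mul (hTF : TF J (M ⧸ (I.map (algebraMap A B) • (⊤ : Submodule B M))))
    (hU : ∀ q : PrimeSpectrum B, ¬ J ≤ q.asIdeal → FlatCA.FlatAt A q.asIdeal M)
    (P : Ideal A) (hP : P ≤ I) (x : M ⊗[A] I) (hx0 : I.subtype.lTensor M x = 0)
    (hx : x ∈ LinearMap.range ((Submodule.inclusion hP).lTensor M)) :
    x ∈ LinearMap.range
      ((Submodule.inclusion (show I * P ≤ I from Ideal.mul_le_right.trans hP)).lTensor M) := by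
  obtain ⟨y, rfl⟩ := hx
  have hy : P.subtype.lTensor M y = 0 := by
    have : P.subtype = I.subtype ∘ₗ Submodule.inclusion hP := rfl
    rw [this, LinearMap.lTensor_comp]
    exact hx0
  obtain ⟨y', rfl⟩ := step J I M hTF hU P y hy
  have hmem : ∀ z : (I • (⊤ : Submodule A P) : Submodule A P),
      P.subtype ((I • (⊤ : Submodule A P)).subtype z) ∈ I * P := by
    intro z
    have h1 : Submodule.map P.subtype (I • (⊤ : Submodule A P)) = I • P := by
      rw [Submodule.map_smul'', Submodule.map_top, Submodule.range_subtype]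
    rw [← smul_eq_mul, ← h1]
    exact ⟨z.1, z.2, rfl⟩
  refine ⟨(LinearMap.codRestrict (I * P)
    (P.subtype ∘ₗ (I • (⊤ : Submodule A P)).subtype) hmem).lTensor M y', ?_⟩
  rw [← LinearMap.comp_apply, ← LinearMap.lTensor_comp, ← LinearMap.comp_apply,
    ← LinearMap.lTensor_comp]
  rfl

theorem exists_mem_range_pow (hTF : TF J (M ⧸ (I.map (algebraMap A B) • (⊤ : Submodule B M))))
    (hU : ∀ q : PrimeSpectrum B, ¬ J ≤ q.asIdeal → FlatCA.FlatAt A q.asIdeal M)
    (x : M ⊗[A] I) (hx0 : I.subtype.lTensor M x = 0) (n : ℕ) :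
    ∃ (P : Ideal A) (hP : P ≤ I), P ≤ I ^ (n + 1) ∧
      x ∈ LinearMap.range ((Submodule.inclusion hP).lTensor M) := by
  induction n with
  | zero =>
    refine ⟨I, le_rfl, by rw [zero_add, pow_one], x, ?_⟩
    have : Submodule.inclusion (le_refl I) = LinearMap.id := rfl
    rw [this, LinearMap.lTensor_id]
    rfl
  | succ n ih =>
    obtain ⟨P, hP, hPn, hx⟩ := ih
    refine ⟨I * P, Ideal.mul_le_right.trans hP, ?_, mem_range_mul J I M hTF hU P hP x hx0 hx⟩
    rw [pow_succ' I (n + 1)]
    exact Ideal.mul_mono_right hPn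

omit [IsNoetherianRing A] [IsNoetherianRing B] [I.IsMaximal] [Module B M] [IsScalarTower A B M] in
theorem mem_pow_smul_top_of_mem_range (P : Ideal A) (hP : P ≤ I) (n : ℕ) (hPn : P ≤ I ^ (n + 1))
    (x : M ⊗[A] I) (hx : x ∈ LinearMap.range ((Submodule.inclusion hP).lTensor M)) :
    x ∈ I ^ n • (⊤ : Submodule A (M ⊗[A] I)) := by
  obtain ⟨y, rfl⟩ := hx
  induction y with
  | zero => rw [map_zero]; exact zero_mem _
  | add a b ha hb => rw [map_add]; exact add_mem ha hb
  | tmul w d =>
    rw [LinearMap.lTensor_tmul]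
    set d' : I := Submodule.inclusion hP d with hd'
    have h1 : Submodule.map I.subtype (I ^ n • (⊤ : Submodule A I)) = I ^ (n + 1) := by
      rw [Submodule.map_smul'', Submodule.map_top, Submodule.range_subtype, smul_eq_mul, pow_succ]
    have h2 : (d' : A) ∈ Submodule.map I.subtype (I ^ n • (⊤ : Submodule A I)) := by
      rw [h1]
      exact hPn d.2
    obtain ⟨d'', hd'', hdd⟩ := h2
    have h3 : d'' = d' := Subtype.ext hdd
    rw [h3] at hd''
    have h4 : (TensorProduct.mk A M I w) d' ∈
        Submodule.map (TensorProduct.mk A M I w) (I ^ n • (⊤ : Submodule A I)) := ⟨d', hd'', rfl⟩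
    rw [Submodule.map_smul''] at h4
    exact Submodule.smul_mono le_rfl le_top h4

theorem lTensor_injective (hI : I.map (algebraMap A B) ≤ Ideal.jacobson ⊥) [Module.Finite B M]
    (hTF : TF J (M ⧸ (I.map (algebraMap A B) • (⊤ : Submodule B M))))
    (hU : ∀ q : PrimeSpectrum B, ¬ J ≤ q.asIdeal → FlatCA.FlatAt A q.asIdeal M) :
    Injective (I.subtype.lTensor M) := by
  rw [injective_iff_map_eq_zero]
  intro x hx0
  have hmem : ∀ n, x ∈ I ^ n • (⊤ : Submodule A (M ⊗[A] I)) := fun n => by
    obtain ⟨P, hP, hPn, hx⟩ := exists_mem_range_pow J I M hTF hU x hx0 n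
    exact mem_pow_smul_top_of_mem_range I M P hP n hPn x hx
  have h0 : (TensorProduct.comm A M I) x = 0 := by
    apply Groth.Agent.Lib.FlatCrit.eq_zero_of_forall_mem_pow_smul_top (S := B) I hI
    intro n
    have : (I ^ n • (⊤ : Submodule A (M ⊗[A] I))).map (TensorProduct.comm A M I).toLinearMap ≤
        I ^ n • (⊤ : Submodule A (I ⊗[A] M)) := by
      rw [Submodule.map_smul'']
      exact Submodule.smul_mono le_rfl le_top
    exact this ⟨x, hmem n, rfl⟩
  exact (TensorProduct.comm A M I).map_eq_zero_iff.mp h0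

/-- the flatness criterion. -/
theorem flat_of_tf (hI : I.map (algebraMap A B) ≤ Ideal.jacobson ⊥) [Module.Finite B M]
    (hTF : TF J (M ⧸ (I.map (algebraMap A B) • (⊤ : Submodule B M))))
    (hU : ∀ q : PrimeSpectrum B, ¬ J ≤ q.asIdeal → FlatCA.FlatAt A q.asIdeal M) :
    Module.Flat A M := by
  letI : Field (A ⧸ I) := Ideal.Quotient.field I
  refine Groth.Agent.Lib.FlatCrit.flat_of_idealSeparated I ?_ ?_
  · intro 𝔞 x hx
    exact Groth.Agent.Lib.FlatCrit.eq_zero_of_forall_mem_pow_smul_top (S := B) I hI x hx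
  · rw [← LinearMap.lTensor_inj_iff_rTensor_inj]
    exact lTensor_injective J I M hI hTF hU

end Main


/-- Affine-local form. Let A → B be a local homomorphism of Noetherian local rings, m the maximal ideal
of A, J an ideal of B and M a finite B-module whose localizations M_q are flat over A at all primes
q not containing J (M is flat over A off V(J)). If depth_J (M/mM) ≥ 1 (the restriction map of the
closed fibre of M to the complement of V(J) is injective), then M is flat over A. -/
theorem result (A B : Type u) [CommRing A] [CommRing B]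
    [IsNoetherianRing A] [IsNoetherianRing B] [IsLocalRing A] [IsLocalRing B] [Algebra A B]
    [IsLocalHom (algebraMap A B)] (J : Ideal B)
    (M : Type u) [AddCommGroup M] [Module B M] [Module A M] [IsScalarTower A B M] [Module.Finite B M]
    (hU : ∀ q : PrimeSpectrum B, ¬ J ≤ q.asIdeal → FlatCA.FlatAt A q.asIdeal M)
    (h1 : 1 ≤ LocCoh.idealDepth J (EGA4.FibMod A B M)) : Module.Flat A M := by
  have hI : (maximalIdeal A).map (algebraMap A B) ≤ Ideal.jacobson ⊥ := by
    rw [IsLocalRing.jacobson_eq_maximalIdeal ⊥ bot_ne_top]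
    exact IsLocalRing.map_maximalIdeal_le (algebraMap A B)
  have hTF : TF J (M ⧸ ((maximalIdeal A).map (algebraMap A B) • (⊤ : Submodule B M))) :=
    (one_le_idealDepth_iff J _).mp h1
  exact flat_of_tf J (maximalIdeal A) M hI hTF hU

end Groth.Agent.S18705
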