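import Groth.Statements.S18706
import Groth.Agent.S18705

set_option autoImplicit false
universe u
open QGor

namespace Groth.Agent.S18706

open TensorProduct Function IsLocalRing Groth.Agent.Lib.H47Reflexive Groth.Agent.S18705

section D2sec

variable {B : Type u} [CommRing B] (J : Ideal B)

/-- the elementwise form of `depth_J ≥ 2`. -/
def D2 (X : Type u) [AddCommGroup X] [Module B X] : Prop := TF J X ∧ E1 J X

theorem d2_iff [IsNoetherianRing B] (X : Type u) [AddCommGroup X] [Module B X] [Module.Finite B X] :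
    2 ≤ LocCoh.idealDepth J X ↔ D2 J X := two_le_idealDepth_iff J X

theorem e1_pi {ι : Type u} (X : ι → Type u) [∀ i, AddCommGroup (X i)] [∀ i, Module B (X i)]
    (h : ∀ i, E1 J (X i)) : E1 J (∀ i, X i) := by
  intro φ
  have hex : ∀ i, ∃ c : X i, ∀ a : J, φ a i = (a : B) • c := fun i =>
    h i ((LinearMap.proj i).comp φ)
  choose c hc using hex
  exact ⟨c, fun a => funext fun i => hc i a⟩

theorem d2_pi {ι : Type u} (X : ι → Type u) [∀ i, AddCommGroup (X i)] [∀ i, Module B (X i)]
    (h : ∀ i, D2 J (X i)) : D2 J (∀ i, X i) :=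
  ⟨tf_pi J X fun i => (h i).1, e1_pi J X fun i => (h i).2⟩

theorem D2.of_equiv {X Y : Type u} [AddCommGroup X] [Module B X] [AddCommGroup Y] [Module B Y]
    (h : D2 J Y) (e : X ≃ₗ[B] Y) : D2 J X := ⟨h.1.of_equiv e, h.2.of_equiv e⟩

/-- `depth_J ≥ 2` is closed under extensions. -/
theorem D2.of_exact {X' X X'' : Type u} [AddCommGroup X'] [Module B X'] [AddCommGroup X]
    [Module B X] [AddCommGroup X''] [Module B X''] (f : X' →ₗ[B] X) (g : X →ₗ[B] X'')
    (hf : Injective f) (hfg : Exact f g) (hg : Surjective g) (h' : D2 J X') (h'' : D2 J X'') :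
    D2 J X := by
  constructor
  · intro x hx
    have h1 : g x = 0 := h''.1 _ fun a ha => by rw [← map_smul, hx a ha, map_zero]
    obtain ⟨x', rfl⟩ := (hfg x).mp h1
    have h2 : x' = 0 := h'.1 _ fun a ha => hf (by rw [map_smul, hx a ha, map_zero])
    rw [h2, map_zero]
  · intro φ
    obtain ⟨c'', hc''⟩ := h''.2 (g.comp φ)
    obtain ⟨c, rfl⟩ := hg c''
    -- the difference lands in `X'`
    have hmem : ∀ a : J, φ a - (a : B) • c ∈ LinearMap.range f := by
      intro a
      rw [← LinearMap.exact_iff.mp hfg, LinearMap.mem_ker, map_sub, map_smul]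
      have := hc'' a
      rw [LinearMap.comp_apply] at this
      rw [this, sub_self]
    let e := LinearEquiv.ofInjective f hf
    let ψ : J →ₗ[B] X' :=
      { toFun := fun a => e.symm ⟨φ a - (a : B) • c, hmem a⟩
        map_add' := fun a b => by
          rw [← map_add]
          congr 1
          apply Subtype.ext
          simp only [Submodule.coe_add, map_add, add_smul]
          abel
        map_smul' := fun r a => by
          rw [RingHom.id_apply, ← map_smul]
          congr 1
          apply Subtype.ext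
          simp only [SetLike.val_smul, smul_eq_mul, map_smul, smul_sub, mul_smul] }
    obtain ⟨c', hc'⟩ := h'.2 ψ
    refine ⟨c + f c', fun a => ?_⟩
    have h3 : f (ψ a) = φ a - (a : B) • c := by
      have := LinearEquiv.ofInjective_apply f (h := hf) (ψ a)
      show f (e.symm ⟨φ a - (a : B) • c, hmem a⟩) = _
      have h4 := congrArg Subtype.val (e.apply_symm_apply ⟨φ a - (a : B) • c, hmem a⟩)
      exact h4
    rw [hc' a, map_smul] at h3
    rw [smul_add, h3]
    abel

end D2sec

section Fib

variable {A B : Type u} [CommRing A] [CommRing B] [Algebra A B]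
variable (J : Ideal B) (I : Ideal A)
variable (M : Type u) [AddCommGroup M] [Module B M] [Module A M] [IsScalarTower A B M]

/-- the `B`-linear map `M → M ⊗ A/I`. -/
noncomputable def toTensorQuot : M →ₗ[B] M ⊗[A] (A ⧸ I) where
  toFun x := x ⊗ₜ[A] (1 : A ⧸ I)
  map_add' x y := add_tmul x y 1
  map_smul' b x := (smul_tmul' b x 1).symm

theorem ker_toTensorQuot :
    LinearMap.ker (toTensorQuot I M) = I.map (algebraMap A B) • (⊤ : Submodule B M) := by
  ext x
  rw [LinearMap.mem_ker, Groth.Agent.Lib.H47FiberMod.mem_smul_top_iff (S := B) M I]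
  exact tmul_one_eq_zero_iff I M x

/-- `M / (IB) M ≃ M ⊗ A/I`, `B`-linearly. -/
noncomputable def quotEquivTensorQuot :
    (M ⧸ (I.map (algebraMap A B) • (⊤ : Submodule B M))) ≃ₗ[B] M ⊗[A] (A ⧸ I) :=
  (Submodule.quotEquivOfEq _ _ (ker_toTensorQuot I M).symm) ≪≫ₗ
    (toTensorQuot I M).quotKerEquivOfSurjective (fun z => by
      obtain ⟨x, rfl⟩ := exists_eq_tmul_one I M z
      exact ⟨x, rfl⟩)

/-- `M ⊗ Q ≃ (M ⊗ A/I)^ι` for a finite module `Q` over the residue field `A/I`. -/
theorem exists_equiv_pi [I.IsMaximal] (Q : Type u) [AddCommGroup Q] [Module A Q]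
    [Module (A ⧸ I) Q] [IsScalarTower A (A ⧸ I) Q] [Module.Finite A Q] :
    ∃ (ι : Type u) (_ : Fintype ι), Nonempty (M ⊗[A] Q ≃ₗ[B] (ι → M ⊗[A] (A ⧸ I))) := by
  classical
  let _ : Field (A ⧸ I) := Ideal.Quotient.field I
  have : Module.Finite (A ⧸ I) Q := Module.Finite.of_restrictScalars_finite A (A ⧸ I) Q
  let b := Module.Free.chooseBasis (A ⧸ I) Q
  let e : Q ≃ₗ[A] (Module.Free.ChooseBasisIndex (A ⧸ I) Q → A ⧸ I) :=
    b.equivFun.restrictScalars A
  exact ⟨Module.Free.ChooseBasisIndex (A ⧸ I) Q, inferInstance,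
    ⟨(AlgebraTensorModule.congr (LinearEquiv.refl B M) e) ≪≫ₗ
      (TensorProduct.piRight A B M (fun _ : Module.Free.ChooseBasisIndex (A ⧸ I) Q => A ⧸ I))⟩⟩

theorem d2_tensor_of_residue [I.IsMaximal] (Q : Type u) [AddCommGroup Q] [Module A Q]
    [Module (A ⧸ I) Q] [IsScalarTower A (A ⧸ I) Q] [Module.Finite A Q]
    (h : D2 J (M ⧸ (I.map (algebraMap A B) • (⊤ : Submodule B M)))) : D2 J (M ⊗[A] Q) := by
  obtain ⟨ι, _, ⟨e⟩⟩ := exists_equiv_pi (B := B) I M Q
  exact (d2_pi J _ fun _ => h.of_equiv J (quotEquivTensorQuot I M).symm).of_equiv J e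

/-- for `M` flat over `A`: `depth_J (M ⊗ L) ≥ 2` for all finite `L` killed by a power of `I`. -/
theorem d2_tensor_of_pow [IsNoetherianRing A] [I.IsMaximal] [Module.Flat A M]
    (h : D2 J (M ⧸ (I.map (algebraMap A B) • (⊤ : Submodule B M)))) (n : ℕ) :
    ∀ (L : Type u) [AddCommGroup L] [Module A L], I ^ n • (⊤ : Submodule A L) = ⊥ →
      Module.Finite A L → D2 J (M ⊗[A] L) := by
  refine Groth.Agent.Lib.FlatCrit.induction_pow_smul I
    (fun L _ _ => Module.Finite A L → D2 J (M ⊗[A] L)) ?_ ?_ n
  · intro L _ _ hL hfin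
    have htors : Module.IsTorsionBySet A L I := by
      intro x a
      have : (a : A) • x ∈ I • (⊤ : Submodule A L) := Submodule.smul_mem_smul a.2 trivial
      rwa [hL, Submodule.mem_bot] at this
    let _ := htors.module
    exact d2_tensor_of_residue J I M L h
  · intro L _ _ L' h' h'' hfin
    have : IsNoetherian A L := isNoetherian_of_isNoetherianRing_of_finite A L
    refine D2.of_exact J (AlgebraTensorModule.lTensor B M L'.subtype)
      (AlgebraTensorModule.lTensor B M L'.mkQ) ?_ ?_ ?_ (h' inferInstance) (h'' inferInstance)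
    · exact Module.Flat.lTensor_preserves_injective_linearMap L'.subtype L'.subtype_injective
    · exact lTensor_exact M (LinearMap.exact_subtype_mkQ L') (Submodule.mkQ_surjective L')
    · exact LinearMap.lTensor_surjective M (Submodule.mkQ_surjective L')

end Fib


/-- Affine-local form. Let A → B be a local homomorphism of Noetherian local rings, m the maximal ideal
of A, J an ideal of B and M a finite B-module with M_q flat over A for every prime q not containing
J. If depth_J (M/mM) ≥ 2 (the restriction map of the closed fibre of M to the complement of V(J) is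
bijective), then depth_J (M/m^(n+1)M) ≥ 2 for every n ≥ 0 (the same holds for every infinitesimal
neighbourhood of the closed fibre). -/
theorem result (A B : Type u) [CommRing A] [CommRing B]
    [IsNoetherianRing A] [IsNoetherianRing B] [IsLocalRing A] [IsLocalRing B] [Algebra A B]
    [IsLocalHom (algebraMap A B)] (J : Ideal B)
    (M : Type u) [AddCommGroup M] [Module B M] [Module A M] [IsScalarTower A B M] [Module.Finite B M]
    (hU : ∀ q : PrimeSpectrum B, ¬ J ≤ q.asIdeal → FlatCA.FlatAt A q.asIdeal M)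
    (h2 : 2 ≤ LocCoh.idealDepth J (EGA4.FibMod A B M)) (n : ℕ) :
    2 ≤ LocCoh.idealDepth J (M ⧸ ((EGA4.mB A B) ^ (n + 1) • (⊤ : Submodule B M))) := by
  have hflat : Module.Flat A M :=
    Groth.Agent.S18705.result A B J M hU (le_trans (by norm_num) h2)
  have hD2 : D2 J (M ⧸ ((maximalIdeal A).map (algebraMap A B) • (⊤ : Submodule B M))) :=
    (d2_iff J _).mp h2
  rw [d2_iff]
  have key := d2_tensor_of_pow J (maximalIdeal A) M hD2 (n + 1)
    (A ⧸ (maximalIdeal A) ^ (n + 1)) (by
      rw [eq_bot_iff]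
      intro x hx
      refine Submodule.smul_induction_on hx ?_ ?_
      · intro a ha y _
        obtain ⟨y, rfl⟩ := Ideal.Quotient.mk_surjective y
        rw [Submodule.mem_bot, ← Ideal.Quotient.mk_eq_mk, ← Submodule.Quotient.mk_smul,
          Ideal.Quotient.mk_eq_mk, Ideal.Quotient.eq_zero_iff_mem, smul_eq_mul]
        exact Ideal.mul_mem_right _ _ ha
      · intro x y hx hy
        exact add_mem hx hy) inferInstance
  have e := quotEquivTensorQuot ((maximalIdeal A) ^ (n + 1)) M (B := B)
  rw [Ideal.map_pow] at e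
  exact key.of_equiv J e

end Groth.Agent.S18706
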