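import Groth.Statements.S18708
import Groth.Agent.S18706
import Groth.Agent.S18701
import Mathlib.Algebra.Module.LocalizedModule.Exact
import Mathlib.RingTheory.Flat.Equalizer

set_option autoImplicit false
universe u
open QGor

namespace Groth.Agent.S18708

open TensorProduct Function IsLocalRing Groth.Agent.Lib.H47Reflexive Groth.Agent.S18705
  Groth.Agent.S18706

section General

variable {A B : Type u} [CommRing A] [CommRing B] [Algebra A B]

/-- The kernel of a surjection of flat modules is flat (copied from helper48's `Lib/RelCartier`). -/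
theorem flat_of_exact_mid_right {M' M M'' : Type u} [AddCommGroup M'] [AddCommGroup M]
    [AddCommGroup M''] [Module A M'] [Module A M] [Module A M'']
    (i : M' →ₗ[A] M) (p : M →ₗ[A] M'')
    (hi : Function.Injective i) (hp : Function.Surjective p) (hex : Function.Exact i p)
    [Module.Flat A M] [Module.Flat A M''] : Module.Flat A M' := by
  rw [Module.Flat.iff_lTensor_preserves_injective_linearMap]
  intro N N' _ _ _ _ φ hφ
  rw [injective_iff_map_eq_zero]
  intro z' hz'
  have h3 : φ.lTensor M (i.rTensor N z') = 0 := by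
    have : i.rTensor N' (φ.lTensor M' z') = φ.lTensor M (i.rTensor N z') := by
      rw [← LinearMap.comp_apply, ← LinearMap.comp_apply, LinearMap.lTensor_comp_rTensor,
        LinearMap.rTensor_comp_lTensor]
    rw [← this, hz', map_zero]
  have h4 : i.rTensor N z' = 0 := (injective_iff_map_eq_zero _).mp
      (Module.Flat.lTensor_preserves_injective_linearMap (M := M) φ hφ) _ h3
  have hinj : Function.Injective (i.rTensor N) :=
    (LinearMap.lTensor_inj_iff_rTensor_inj _ _).mp
      (LinearMap.lTensor_injective_of_exact_of_flat p hp i hi hex N)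
  exact (injective_iff_map_eq_zero _).mp hinj _ h4

variable (J : Ideal B)
variable {X' X X'' : Type u} [AddCommGroup X'] [Module B X'] [Module A X'] [IsScalarTower A B X']
  [AddCommGroup X] [Module B X] [Module A X] [IsScalarTower A B X]
  [AddCommGroup X''] [Module B X''] [Module A X''] [IsScalarTower A B X'']

/-- KEY: if `X''` is flat over `A` off `V(J)` and `X' ⊗ N` is `J`-torsion-free, then
`X' ⊗ N → X ⊗ N` is injective. -/
theorem rTensor_injective_of_flatAt_of_tf [IsNoetherianRing B] (N : Type u) [AddCommGroup N]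
    [Module A N] (i : X' →ₗ[B] X) (p : X →ₗ[B] X'') (hi : Injective i) (hip : Exact i p)
    (hp : Surjective p)
    (hU : ∀ q : PrimeSpectrum B, ¬ J ≤ q.asIdeal → FlatCA.FlatAt A q.asIdeal X'')
    (hTF : TF J (X' ⊗[A] N)) : Injective (AlgebraTensorModule.rTensor A N i) := by
  rw [injective_iff_map_eq_zero]
  intro t ht
  refine tf_eq_zero_of_forall_exists_smul J hTF (IsNoetherian.noetherian J) t ?_
  intro q hq hJq
  haveI := hq
  have hflat : Module.Flat A (LocalizedModule q.primeCompl X'') := hU ⟨q, hq⟩ hJq
  let g' := LocalizedModule.mkLinearMap q.primeCompl X'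
  let g := LocalizedModule.mkLinearMap q.primeCompl X
  let g'' := LocalizedModule.mkLinearMap q.primeCompl X''
  let iq := IsLocalizedModule.map q.primeCompl g' g i
  let pq := IsLocalizedModule.map q.primeCompl g g'' p
  have hiq : Injective iq := IsLocalizedModule.map_injective q.primeCompl g' g i hi
  have hex : Exact iq pq := IsLocalizedModule.map_exact q.primeCompl g' g g'' i p hip
  have hpq : Surjective pq := IsLocalizedModule.map_surjective q.primeCompl g g'' p hp
  have hinj : Injective ((iq.restrictScalars A).rTensor N) :=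
    (LinearMap.lTensor_inj_iff_rTensor_inj _ _).mp
      (LinearMap.lTensor_injective_of_exact_of_flat (pq.restrictScalars A) hpq
        (iq.restrictScalars A) hiq hex N)
  have hcomm : ∀ z : X' ⊗[A] N, (iq.restrictScalars A).rTensor N
      (AlgebraTensorModule.rTensor A N g' z) =
      AlgebraTensorModule.rTensor A N g (AlgebraTensorModule.rTensor A N i z) := by
    intro z
    induction z with
    | zero => simp
    | add a b ha hb => simp only [map_add, ha, hb]
    | tmul a b =>
      simp only [AlgebraTensorModule.rTensor_tmul, LinearMap.rTensor_tmul,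
        LinearMap.restrictScalars_apply]
      congr 1
      exact IsLocalizedModule.map_apply q.primeCompl g' g i a
  have h0 : AlgebraTensorModule.rTensor A N g' t = 0 := by
    apply hinj
    rw [hcomm, ht, map_zero, map_zero]
  obtain ⟨c, hc⟩ := (IsLocalizedModule.eq_zero_iff q.primeCompl
    (AlgebraTensorModule.rTensor A N g')).mp h0
  exact ⟨c.1, c.2, hc⟩

/-- from injectivity of `X' ⊗ A/I → X ⊗ A/I` to flatness of the cokernel (local criterion). -/
theorem flat_of_rTensor_injective [IsNoetherianRing A] [IsNoetherianRing B] (I : Ideal A)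
    [I.IsMaximal] (hI : I.map (algebraMap A B) ≤ Ideal.jacobson ⊥) [Module.Finite B X'']
    [Module.Flat A X] (i : X' →ₗ[B] X) (p : X →ₗ[B] X'') (hi : Injective i) (hip : Exact i p)
    (hp : Surjective p) (hinj : Injective (AlgebraTensorModule.rTensor A (A ⧸ I) i)) :
    Module.Flat A X'' := by
  let _ : Field (A ⧸ I) := Ideal.Quotient.field I
  have h1 : Groth.Agent.Lib.FlatCrit.Tor1Zero A (A ⧸ I) X'' :=
    (Groth.Agent.Lib.FlatCrit.tor1Zero_iff_lTensor_injective (i := i.restrictScalars A)
      (p := p.restrictScalars A) hi hip hp).mpr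
      ((LinearMap.lTensor_inj_iff_rTensor_inj _ _).mpr hinj)
  refine Groth.Agent.Lib.FlatCrit.flat_of_idealSeparated I ?_
    ((Groth.Agent.Lib.FlatCrit.tor1Zero_quotient_iff I).mp h1)
  intro 𝔞 x hx
  exact Groth.Agent.Lib.FlatCrit.eq_zero_of_forall_mem_pow_smul_top (S := B) I hI x hx

/-- localization (at a submonoid of `B`) preserves flatness over `A`. -/
theorem flat_localizedModule (S : Submonoid B) [Module.Flat A X] :
    Module.Flat A (LocalizedModule S X) := by
  rw [Module.Flat.iff_lTensor_preserves_injective_linearMap]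
  intro N N' _ _ _ _ φ hφ
  let g := LocalizedModule.mkLinearMap S X
  have h1 : Injective (AlgebraTensorModule.lTensor B X φ) :=
    Module.Flat.lTensor_preserves_injective_linearMap φ hφ
  have h2 := IsLocalizedModule.map_injective S (AlgebraTensorModule.rTensor A N g)
    (AlgebraTensorModule.rTensor A N' g) (AlgebraTensorModule.lTensor B X φ) h1
  rw [IsLocalizedModule.map_lTensor] at h2
  exact h2

/-- the kernel of a surjection onto a module flat at `q`, from a flat module, is flat at `q`. -/
theorem flatAt_ker (q : Ideal B) [q.IsPrime] [Module.Flat A X] (i : X' →ₗ[B] X)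
    (p : X →ₗ[B] X'') (hi : Injective i) (hip : Exact i p) (hp : Surjective p)
    (h'' : FlatCA.FlatAt A q X'') : FlatCA.FlatAt A q X' := by
  have hflat : Module.Flat A (LocalizedModule q.primeCompl X'') := h''
  have hflat' : Module.Flat A (LocalizedModule q.primeCompl X) := flat_localizedModule q.primeCompl
  let g' := LocalizedModule.mkLinearMap q.primeCompl X'
  let g := LocalizedModule.mkLinearMap q.primeCompl X
  let g'' := LocalizedModule.mkLinearMap q.primeCompl X''
  let iq := IsLocalizedModule.map q.primeCompl g' g i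
  let pq := IsLocalizedModule.map q.primeCompl g g'' p
  have hiq : Injective iq := IsLocalizedModule.map_injective q.primeCompl g' g i hi
  have hex : Exact iq pq := IsLocalizedModule.map_exact q.primeCompl g' g g'' i p hip
  have hpq : Surjective pq := IsLocalizedModule.map_surjective q.primeCompl g g'' p hp
  exact flat_of_exact_mid_right (iq.restrictScalars A) (pq.restrictScalars A) hiq hpq hex

omit [Module A X'] [IsScalarTower A B X'] [Module A X] [IsScalarTower A B X] [Module A X'']
  [IsScalarTower A B X''] in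
/-- `TF` of a cokernel from `E1` of the kernel and `TF` of the middle term. -/
theorem tf_of_exact_of_e1 (f : X' →ₗ[B] X) (g : X →ₗ[B] X'') (hf : Injective f)
    (hfg : Exact f g) (hg : Surjective g) (e1 : E1 J X') (tf : TF J X) : TF J X'' := by
  intro x'' hx''
  obtain ⟨x, rfl⟩ := hg x''
  have hmem : ∀ a : J, (a : B) • x ∈ LinearMap.range f := by
    intro a
    rw [← LinearMap.exact_iff.mp hfg, LinearMap.mem_ker, map_smul]
    exact hx'' a a.2
  let e := LinearEquiv.ofInjective f hf
  let ψ : J →ₗ[B] X' :=
    { toFun := fun a => e.symm ⟨(a : B) • x, hmem a⟩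
      map_add' := fun a b => by
        rw [← map_add]
        congr 1
        apply Subtype.ext
        simp only [Submodule.coe_add, add_smul]
      map_smul' := fun r a => by
        rw [RingHom.id_apply, ← map_smul]
        congr 1
        apply Subtype.ext
        simp only [SetLike.val_smul, smul_eq_mul, mul_smul] }
  obtain ⟨c', hc'⟩ := e1 ψ
  have h3 : ∀ a : J, f (ψ a) = (a : B) • x := by
    intro a
    exact congrArg Subtype.val (e.apply_symm_apply ⟨(a : B) • x, hmem a⟩)
  have h4 : x - f c' = 0 := by
    apply tf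
    intro a ha
    have := h3 ⟨a, ha⟩
    rw [hc' ⟨a, ha⟩, map_smul] at this
    rw [smul_sub, ← this, sub_self]
  rw [sub_eq_zero] at h4
  rw [h4]
  exact hfg.apply_apply_eq_zero c'

end General

section MainSec

variable {A B : Type u} [CommRing A] [CommRing B] [IsNoetherianRing A] [IsNoetherianRing B]
  [Algebra A B]
variable (J : Ideal B) (I : Ideal A) [I.IsMaximal]
variable {F E0 E1 G : Type u} [AddCommGroup F] [Module B F] [Module A F] [IsScalarTower A B F]
  [Module.Finite B F]
  [AddCommGroup E0] [Module B E0] [Module A E0] [IsScalarTower A B E0] [Module.Finite B E0]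
  [Module.Flat A E0]
  [AddCommGroup E1] [Module B E1] [Module A E1] [IsScalarTower A B E1] [Module.Finite B E1]
  [Module.Flat A E1]
  [AddCommGroup G] [Module B G] [Module A G] [IsScalarTower A B G] [Module.Finite B G]
variable (f : F →ₗ[B] E0) (u : E0 →ₗ[B] E1) (v : E1 →ₗ[B] G)

omit [IsNoetherianRing A] [IsNoetherianRing B] [Module A F] [IsScalarTower A B F]
  [Module.Finite B F] [Module A E0] [IsScalarTower A B E0] [Module.Finite B E0] [Module.Flat A E0]
  [Module A E1] [IsScalarTower A B E1] [Module.Finite B E1] [Module.Flat A E1] [Algebra A B] in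
theorem exact_rangeRestrict (hfu : Exact f u) : Exact f u.rangeRestrict := by
  intro x
  rw [← hfu x]
  constructor
  · intro h
    exact congrArg Subtype.val h
  · intro h
    exact Subtype.ext h

omit [IsNoetherianRing A] [IsNoetherianRing B] [Module A E0] [IsScalarTower A B E0]
  [Module.Finite B E0] [Module.Flat A E0] [Module A G] [IsScalarTower A B G] [Module.Finite B G]
  [Module A E1] [IsScalarTower A B E1] [Module.Finite B E1] [Module.Flat A E1] [Algebra A B] in
theorem exact_subtype_range (huv : Exact u v) : Exact (LinearMap.range u).subtype v := by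
  intro y
  rw [huv y]
  constructor
  · rintro ⟨x, rfl⟩
    exact ⟨⟨u x, ⟨x, rfl⟩⟩, rfl⟩
  · rintro ⟨⟨_, ⟨x, rfl⟩⟩, rfl⟩
    exact ⟨x, rfl⟩

/-- forward direction: `depth_J (F/mF) ≥ 2` gives flatness of `G`. -/
theorem flat_of_d2 (hI : I.map (algebraMap A B) ≤ Ideal.jacobson ⊥)
    (hf : Injective f) (hfu : Exact f u) (huv : Exact u v) (hv : Surjective v)
    (hGU : ∀ q : PrimeSpectrum B, ¬ J ≤ q.asIdeal → FlatCA.FlatAt A q.asIdeal G)
    (hE0 : TF J (E0 ⊗[A] (A ⧸ I))) (hF : D2 J (F ⊗[A] (A ⧸ I))) : Module.Flat A G := by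
  have hfu' := exact_rangeRestrict f u hfu
  have hu' : Surjective u.rangeRestrict := LinearMap.surjective_rangeRestrict u
  have hιv := exact_subtype_range u v huv
  have hι : Injective (LinearMap.range u).subtype := Submodule.subtype_injective _
  -- `Z = im u` is flat off `V(J)`
  have hZU : ∀ q : PrimeSpectrum B, ¬ J ≤ q.asIdeal →
      FlatCA.FlatAt A q.asIdeal (LinearMap.range u) := fun q hq =>
    flatAt_ker q.asIdeal (LinearMap.range u).subtype v hι hιv hv (hGU q hq)
  -- step 1
  have hinj1 := rTensor_injective_of_flatAt_of_tf J (A ⧸ I) f u.rangeRestrict hf hfu' hu' hZU hF.1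
  -- step 2
  have hex1 : Exact (AlgebraTensorModule.rTensor A (A ⧸ I) f)
      (AlgebraTensorModule.rTensor A (A ⧸ I) u.rangeRestrict) :=
    rTensor_exact (A ⧸ I) (f := f.restrictScalars A) (g := u.rangeRestrict.restrictScalars A)
      hfu' hu'
  have hsurj1 : Surjective (AlgebraTensorModule.rTensor A (A ⧸ I) u.rangeRestrict) :=
    LinearMap.rTensor_surjective (A ⧸ I) (g := u.rangeRestrict.restrictScalars A) hu'
  have hZ : TF J ((LinearMap.range u) ⊗[A] (A ⧸ I)) :=
    tf_of_exact_of_e1 J _ _ hinj1 hex1 hsurj1 hF.2 hE0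
  -- step 3
  have hinj2 := rTensor_injective_of_flatAt_of_tf J (A ⧸ I) (LinearMap.range u).subtype v hι hιv hv
    hGU hZ
  exact flat_of_rTensor_injective I hI (LinearMap.range u).subtype v hι hιv hv hinj2

/-- backward direction: flatness of `G` gives flatness of `F` and `depth_J (F/mF) ≥ 2`. -/
theorem d2_of_flat (hf : Injective f) (hfu : Exact f u) (huv : Exact u v) (hv : Surjective v)
    [Module.Flat A G] :
    Module.Flat A F ∧ (D2 J (E0 ⊗[A] (A ⧸ I)) → TF J (E1 ⊗[A] (A ⧸ I)) →
      D2 J (F ⊗[A] (A ⧸ I))) := by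
  have hfu' := exact_rangeRestrict f u hfu
  have hu' : Surjective u.rangeRestrict := LinearMap.surjective_rangeRestrict u
  have hιv := exact_subtype_range u v huv
  have hι : Injective (LinearMap.range u).subtype := Submodule.subtype_injective _
  have hZflat : Module.Flat A (LinearMap.range u) :=
    flat_of_exact_mid_right ((LinearMap.range u).subtype.restrictScalars A) (v.restrictScalars A)
      hι hv hιv
  have hFflat : Module.Flat A F :=
    flat_of_exact_mid_right (f.restrictScalars A) (u.rangeRestrict.restrictScalars A) hf hu' hfu'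
  refine ⟨hFflat, fun hE0 hE1 => ?_⟩
  have hinj1' : Injective ((f.restrictScalars A).rTensor (A ⧸ I)) :=
    (LinearMap.lTensor_inj_iff_rTensor_inj (A ⧸ I) (f.restrictScalars A)).mp
      (LinearMap.lTensor_injective_of_exact_of_flat (u.rangeRestrict.restrictScalars A) hu'
        (f.restrictScalars A) hf hfu' (A ⧸ I))
  have hinj1 : Injective (AlgebraTensorModule.rTensor A (A ⧸ I) f) := hinj1'
  have hinj2' : Injective (((LinearMap.range u).subtype.restrictScalars A).rTensor (A ⧸ I)) :=
    (LinearMap.lTensor_inj_iff_rTensor_inj (A ⧸ I)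
      ((LinearMap.range u).subtype.restrictScalars A)).mp
      (LinearMap.lTensor_injective_of_exact_of_flat (v.restrictScalars A) hv
        ((LinearMap.range u).subtype.restrictScalars A) hι hιv (A ⧸ I))
  have hinj2 : Injective (AlgebraTensorModule.rTensor A (A ⧸ I) (LinearMap.range u).subtype) :=
    hinj2'
  have hex1 : Exact (AlgebraTensorModule.rTensor A (A ⧸ I) f)
      (AlgebraTensorModule.rTensor A (A ⧸ I) u.rangeRestrict) :=
    rTensor_exact (A ⧸ I) (f := f.restrictScalars A) (g := u.rangeRestrict.restrictScalars A)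
      hfu' hu'
  have hZ : TF J ((LinearMap.range u) ⊗[A] (A ⧸ I)) := hE1.of_injective _ hinj2
  exact ⟨hE0.1.of_injective _ hinj1,
    Groth.Agent.S18701.e1_of_exact J _ _ hinj1 hex1 hE0.1 hE0.2 hZ⟩

end MainSec


/-- Affine-local form at a point of the equivalence (b) ⇔ (c) ⇔ (b″) and of the note after it. Let A → B
be a local homomorphism of Noetherian local rings, m the maximal ideal of A, J an ideal of B and 0 →
F → E⁰ → E¹ → G → 0 an exact sequence of finite B-modules with E⁰, E¹ flat over A, G_q flat over A
for every prime q not containing J, depth_J (E⁰/mE⁰) ≥ 2 and depth_J (E¹/mE¹) ≥ 1. Then depth_J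
(F/mF) ≥ 2 (the restriction map of the closed fibre of F off V(J) is bijective) if and only if G is
flat over A, if and only if depth_J (F/m^(n+1)F) ≥ 2 for all n; and when G is flat over A so is F. -/
theorem result (A B : Type u) [CommRing A] [CommRing B]
    [IsNoetherianRing A] [IsNoetherianRing B] [IsLocalRing A] [IsLocalRing B] [Algebra A B]
    [IsLocalHom (algebraMap A B)] (J : Ideal B)
    (F E0 E1 G : Type u) [AddCommGroup F] [Module B F] [Module A F] [IsScalarTower A B F] [Module.Finite B F]
    [AddCommGroup E0] [Module B E0] [Module A E0] [IsScalarTower A B E0] [Module.Finite B E0] [Module.Flat A E0]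
    [AddCommGroup E1] [Module B E1] [Module A E1] [IsScalarTower A B E1] [Module.Finite B E1] [Module.Flat A E1]
    [AddCommGroup G] [Module B G] [Module A G] [IsScalarTower A B G] [Module.Finite B G]
    (f : F →ₗ[B] E0) (u : E0 →ₗ[B] E1) (v : E1 →ₗ[B] G)
    (hf : Function.Injective f) (hfu : Function.Exact f u) (huv : Function.Exact u v) (hv : Function.Surjective v)
    (hGU : ∀ q : PrimeSpectrum B, ¬ J ≤ q.asIdeal → FlatCA.FlatAt A q.asIdeal G)
    (h0 : 2 ≤ LocCoh.idealDepth J (EGA4.FibMod A B E0)) (h1 : 1 ≤ LocCoh.idealDepth J (EGA4.FibMod A B E1)) :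
    (2 ≤ LocCoh.idealDepth J (EGA4.FibMod A B F) ↔ Module.Flat A G) ∧
    (Module.Flat A G ↔ ∀ n : ℕ, 2 ≤ LocCoh.idealDepth J (F ⧸ ((EGA4.mB A B) ^ (n + 1) • (⊤ : Submodule B F)))) ∧
    (Module.Flat A G → Module.Flat A F) := by
  have hI : (maximalIdeal A).map (algebraMap A B) ≤ Ideal.jacobson ⊥ := by
    rw [IsLocalRing.jacobson_eq_maximalIdeal ⊥ bot_ne_top]
    exact IsLocalRing.map_maximalIdeal_le (algebraMap A B)
  have hE0 : D2 J (E0 ⊗[A] (A ⧸ maximalIdeal A)) :=
    ((d2_iff J _).mp h0).of_equiv J (quotEquivTensorQuot (maximalIdeal A) E0).symm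
  have hE1 : TF J (E1 ⊗[A] (A ⧸ maximalIdeal A)) :=
    ((one_le_idealDepth_iff J _).mp h1).of_equiv (quotEquivTensorQuot (maximalIdeal A) E1).symm
  have key1 : 2 ≤ LocCoh.idealDepth J (EGA4.FibMod A B F) → Module.Flat A G := fun h =>
    flat_of_d2 J (maximalIdeal A) f u v hI hf hfu huv hv hGU hE0.1
      (((d2_iff J _).mp h).of_equiv J (quotEquivTensorQuot (maximalIdeal A) F).symm)
  have key2 : Module.Flat A G →
      Module.Flat A F ∧ 2 ≤ LocCoh.idealDepth J (EGA4.FibMod A B F) := fun hG => by
    haveI := hG
    obtain ⟨hFflat, hd⟩ := d2_of_flat J (maximalIdeal A) f u v hf hfu huv hv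
    exact ⟨hFflat, (d2_iff J _).mpr
      ((hd hE0 hE1).of_equiv J (quotEquivTensorQuot (maximalIdeal A) F))⟩
  refine ⟨⟨key1, fun hG => (key2 hG).2⟩, ⟨fun hG n => ?_, fun h => ?_⟩, fun hG => (key2 hG).1⟩
  · obtain ⟨hFflat, hd⟩ := key2 hG
    exact Groth.Agent.S18706.result A B J F
      (fun q _ => flat_localizedModule (X := F) q.asIdeal.primeCompl) hd n
  · apply key1
    have h0' := h 0
    rw [d2_iff] at h0' ⊢
    exact h0'.of_equiv J (Submodule.quotEquivOfEq _ _ (by rw [zero_add, pow_one]))

end Groth.Agent.S18708
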