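import Groth.Statements.S18709
import Groth.Agent.Lib.H47FourTerm

set_option autoImplicit false
universe u
open QGor

namespace Groth.Agent.S18709

/-- Affine form; the flatness and depth hypotheses of the printed lemma only serve to place the sequence
in the situation of the key proposition and are not needed for the existence. Let B be a Noetherian
ring, J an ideal and F a finite reflexive B-module with F_q free for every prime q not containing J.
Then there is an exact sequence 0 → F → Bⁿ → Bᵐ → G → 0 with G_q free for every prime q not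
containing J. -/
theorem result (B : Type u) [CommRing B] [IsNoetherianRing B]
    (J : Ideal B) (F : Type u) [AddCommGroup F] [Module B F] [Module.Finite B F] [Module.IsReflexive B F]
    (hU : ∀ q : PrimeSpectrum B, ¬ J ≤ q.asIdeal →
      Module.Free (Localization.AtPrime q.asIdeal) (LocalizedModule q.asIdeal.primeCompl F)) :
    ∃ (n m : ℕ) (g : F →ₗ[B] (Fin n → B)) (h : (Fin n → B) →ₗ[B] (Fin m → B)),
      Function.Injective g ∧ Function.Exact g h ∧
      ∀ q : PrimeSpectrum B, ¬ J ≤ q.asIdeal →
        Module.Free (Localization.AtPrime q.asIdeal)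
          (LocalizedModule q.asIdeal.primeCompl ((Fin m → B) ⧸ LinearMap.range h)) := by
  classical
  obtain ⟨n, π, hπ⟩ := Module.Finite.exists_fin' B (Module.Dual B F)
  obtain ⟨m, σ, hσ⟩ := Module.Finite.exists_fin' B (LinearMap.ker π)
  let ψ : (Fin m → B) →ₗ[B] (Fin n → B) := (LinearMap.ker π).subtype ∘ₗ σ
  let Ψ : Matrix (Fin n) (Fin m) B := LinearMap.toMatrix' ψ
  have hΨ : LinearMap.range (Matrix.toLin' Ψ) = LinearMap.ker π := by
    rw [Matrix.toLin'_toMatrix', LinearMap.range_comp, LinearMap.range_eq_top.mpr hσ,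
      Submodule.map_top, Submodule.range_subtype]
  refine ⟨n, m, Groth.Agent.Lib.H47FourTerm.gMap π, Matrix.toLin' Ψ.transpose,
    Groth.Agent.Lib.H47FourTerm.gMap_injective π hπ,
    Groth.Agent.Lib.H47FourTerm.exact_gMap π Ψ hπ hΨ, ?_⟩
  intro q hq
  have hF := hU q hq
  let e0 : ((Fin n → B) ⧸ LinearMap.range (Matrix.toLin' Ψ)) ≃ₗ[B] Module.Dual B F :=
    Submodule.quotEquivOfEq _ _ hΨ ≪≫ₗ π.quotKerEquivOfSurjective hπ
  obtain ⟨e1⟩ := Groth.Agent.Lib.H47FourTerm.nonempty_locCoker_equiv q.asIdeal.primeCompl Ψ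
  let e2 : LocalizedModule q.asIdeal.primeCompl
      ((Fin n → B) ⧸ LinearMap.range (Matrix.toLin' Ψ)) ≃ₗ[Localization.AtPrime q.asIdeal]
      LocalizedModule q.asIdeal.primeCompl (Module.Dual B F) :=
    IsLocalizedModule.mapEquiv q.asIdeal.primeCompl
      (LocalizedModule.mkLinearMap q.asIdeal.primeCompl _)
      (LocalizedModule.mkLinearMap q.asIdeal.primeCompl _) (Localization.AtPrime q.asIdeal) e0
  have hfree := Groth.Agent.Lib.H47FourTerm.free_localized_dual F q.asIdeal hF
  have hfree1 : Module.Free (Localization.AtPrime q.asIdeal)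
      ((Fin n → Localization.AtPrime q.asIdeal) ⧸ LinearMap.range (Matrix.toLin'
        (Ψ.map (algebraMap B (Localization.AtPrime q.asIdeal))))) :=
    Module.Free.of_equiv (e2.symm ≪≫ₗ e1)
  have hfree2 := Groth.Agent.Lib.H47FourTerm.free_coker_transpose
    (Ψ.map (algebraMap B (Localization.AtPrime q.asIdeal))) inferInstance
  obtain ⟨e3⟩ := Groth.Agent.Lib.H47FourTerm.nonempty_locCoker_equiv q.asIdeal.primeCompl
    Ψ.transpose
  rw [Matrix.transpose_map] at e3
  exact Module.Free.of_equiv e3.symm

end Groth.Agent.S18709
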