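import Groth.Statements.S18711
import Groth.Agent.Lib.H47FibD2
import Groth.Agent.Lib.H47HomIso
import Groth.Agent.S18703
import Groth.Agent.S18700

set_option autoImplicit false
universe u
open QGor

namespace Groth.Agent.S18711

open TensorProduct Function IsLocalRing Groth.Agent.Lib.H47Reflexive Groth.Agent.S18706
  Groth.Agent.Lib.H47FibD2 Groth.Agent.Lib.H47HomIso

section Retract
variable {S : Type u} [CommRing S] {X P0 P1 G : Type u} [AddCommGroup X] [Module S X]
  [AddCommGroup P0] [Module S P0] [AddCommGroup P1] [Module S P1] [AddCommGroup G] [Module S G]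
  [Module.Projective S P1] [Module.Projective S G]

/-- In an exact sequence `0 → X → P0 → P1 → G → 0` with `P1`, `G` projective, `X` is a retract of
`P0`. -/
theorem exists_retraction_of_exact (i : X →ₗ[S] P0) (u : P0 →ₗ[S] P1) (v : P1 →ₗ[S] G)
    (hi : Injective i) (hiu : Exact i u) (huv : Exact u v) (hv : Surjective v) :
    ∃ s : P0 →ₗ[S] X, s ∘ₗ i = LinearMap.id := by
  obtain ⟨σ, hσ⟩ := Module.projective_lifting_property v LinearMap.id hv
  have hmem : ∀ y : P1, y - σ (v y) ∈ LinearMap.range u := by
    intro y
    refine (huv _).mp ?_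
    rw [map_sub, sub_eq_zero]
    exact (LinearMap.congr_fun hσ (v y)).symm
  let π : P1 →ₗ[S] LinearMap.range u :=
    LinearMap.codRestrict (LinearMap.range u) (LinearMap.id - σ.comp v) hmem
  haveI : Module.Projective S (LinearMap.range u) := by
    refine Module.Projective.of_split (LinearMap.range u).subtype π ?_
    ext ⟨z, hz⟩
    have hvz : v z = 0 := (huv z).mpr hz
    simp [π, hvz]
  obtain ⟨τ, hτ⟩ := Module.projective_lifting_property u.rangeRestrict LinearMap.id
    (LinearMap.surjective_rangeRestrict u)
  have hmem2 : ∀ x : P0, x - τ (u.rangeRestrict x) ∈ LinearMap.range i := by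
    intro x
    refine (hiu _).mp ?_
    rw [map_sub, sub_eq_zero]
    have := congrArg Subtype.val (LinearMap.congr_fun hτ (u.rangeRestrict x))
    simpa using this.symm
  let e := LinearEquiv.ofInjective i hi
  refine ⟨e.symm.toLinearMap.comp (LinearMap.codRestrict (LinearMap.range i)
    (LinearMap.id - τ.comp u.rangeRestrict) hmem2), ?_⟩
  ext x
  simp only [LinearMap.comp_apply, LinearEquiv.coe_coe, LinearMap.id_apply]
  rw [LinearEquiv.symm_apply_eq]
  apply Subtype.ext
  have h0 : u.rangeRestrict (i x) = 0 := Subtype.ext (hiu.apply_apply_eq_zero x)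
  simp [e, h0]

end Retract

section LocExact
variable {R : Type u} [CommRing R] (S : Submonoid R) {M N P : Type u} [AddCommGroup M] [Module R M]
  [AddCommGroup N] [Module R N] [AddCommGroup P] [Module R P]

theorem locMap_exact (f : M →ₗ[R] N) (g : N →ₗ[R] P) (h : Exact f g) :
    Exact (LocalizedModule.map S f) (LocalizedModule.map S g) :=
  LocalizedModule.map_exact S f g h

theorem locMap_injective (f : M →ₗ[R] N) (h : Injective f) :
    Injective (LocalizedModule.map S f) := LocalizedModule.map_injective S f h

theorem locMap_surjective (f : M →ₗ[R] N) (h : Surjective f) :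
    Surjective (LocalizedModule.map S f) := LocalizedModule.map_surjective S f h

end LocExact

section Aux
variable (A B : Type u) [CommRing A] [CommRing B] [IsNoetherianRing A] [IsNoetherianRing B] [Algebra A B]
    (A' B' : Type u) [CommRing A'] [CommRing B'] [IsNoetherianRing A'] [IsNoetherianRing B']
    [Algebra A A'] [Algebra B B'] [Algebra A' B'] [Algebra A B'] [IsScalarTower A B B'] [IsScalarTower A A' B']
    [Algebra.IsPushout A B A' B'] (J : Ideal B)

include A in
/-- `D2` of `B' ⊗_{A'} N'` over `B'` w.r.t. `J B'`. -/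
theorem d2_B'_tensor [Module.Flat A B]
    (hZ : ∀ q : PrimeSpectrum B, J ≤ q.asIdeal →
      2 ≤ LocCoh.idealDepth (q.asIdeal.map (algebraMap B (EGA4.FibLocRing A B q.asIdeal))) (EGA4.FibLocRing A B q.asIdeal))
    (N' : Type u) [AddCommGroup N'] [Module A' N'] [Module A N'] [IsScalarTower A A' N'] :
    D2 (J.map (algebraMap B B')) (B' ⊗[A'] N') :=
  d2_map J ((d2_tensor_self A B J hZ N').of_equiv J (Algebra.IsPushout.cancelBaseChange A B A' B' N'))

include A B in
theorem flat_B' [Module.Flat A B] : Module.Flat A' B' := by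
  have h : Algebra.IsPushout A A' B B' := Algebra.IsPushout.symm inferInstance
  exact Module.Flat.isBaseChange (R := A) (S := A') (M := B) (N := B') h.out

end Aux


open TensorProduct in
/-- Affine form. Let A → B be a flat homomorphism of Noetherian rings, J an ideal of B such that for
every prime q ⊇ J with contraction p the fibre local ring B_q/pB_q has depth ≥ 2, A → A′ a
homomorphism of Noetherian rings and B′ = A′ ⊗_A B the (Noetherian) pushout. Let 0 → F → E⁰ → E¹ → G
→ 0 be an exact sequence of finite B-modules with E⁰, E¹ projective and F_q, G_q free for every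
prime q not containing J. Then F is reflexive; the kernel K′ of B′ ⊗_B E⁰ → B′ ⊗_B E¹ is a reflexive
B′-module with depth_{JB′} K′ ≥ 2 (so it is the module of sections of the pull-back of F off
V(JB′)); and K′ is flat over A′ with depth ≥ 2 along JB′ on every fibre stalk K′_{q′}/p′K′_{q′} if
and only if B′ ⊗_B G is flat over A′. (The published statement phrases the last left-hand condition
as the relative S₂ condition of K′ over A′; the two agree when the fibres of Spec B′ → Spec A′
satisfy S₂ off V(JB′), and without that the relative S₂ form fails already for A = A′ a field, J =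
B, F = E⁰ = B not S₂ and E¹ = G = 0, so the fibrewise-depth form, which is what the proof
establishes, is stated.) -/
theorem result (A B : Type u) [CommRing A] [CommRing B] [IsNoetherianRing A] [IsNoetherianRing B] [Algebra A B]
    (A' B' : Type u) [CommRing A'] [CommRing B'] [IsNoetherianRing A'] [IsNoetherianRing B']
    [Algebra A A'] [Algebra B B'] [Algebra A' B'] [Algebra A B'] [IsScalarTower A B B'] [IsScalarTower A A' B']
    [Algebra.IsPushout A B A' B'] [Module.Flat A B] (J : Ideal B)
    (hZ : ∀ q : PrimeSpectrum B, J ≤ q.asIdeal →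
      2 ≤ LocCoh.idealDepth (q.asIdeal.map (algebraMap B (EGA4.FibLocRing A B q.asIdeal))) (EGA4.FibLocRing A B q.asIdeal))
    (F E0 E1 G : Type u) [AddCommGroup F] [Module B F] [Module.Finite B F]
    [AddCommGroup E0] [Module B E0] [Module.Finite B E0] [Module.Projective B E0]
    [AddCommGroup E1] [Module B E1] [Module.Finite B E1] [Module.Projective B E1]
    [AddCommGroup G] [Module B G] [Module.Finite B G]
    (f : F →ₗ[B] E0) (u : E0 →ₗ[B] E1) (v : E1 →ₗ[B] G)
    (hf : Function.Injective f) (hfu : Function.Exact f u) (huv : Function.Exact u v) (hv : Function.Surjective v)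
    (hFU : ∀ q : PrimeSpectrum B, ¬ J ≤ q.asIdeal → Module.Free (Localization.AtPrime q.asIdeal) (LocalizedModule q.asIdeal.primeCompl F))
    (hGU : ∀ q : PrimeSpectrum B, ¬ J ≤ q.asIdeal → Module.Free (Localization.AtPrime q.asIdeal) (LocalizedModule q.asIdeal.primeCompl G)) :
    Module.IsReflexive B F ∧
    Module.IsReflexive B' (LinearMap.ker (u.baseChange B')) ∧
    2 ≤ LocCoh.idealDepth (J.map (algebraMap B B')) (LinearMap.ker (u.baseChange B')) ∧
    ((∀ q' : PrimeSpectrum B', FlatCA.FlatAt A' q'.asIdeal (LinearMap.ker (u.baseChange B')) ∧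
        2 ≤ LocCoh.idealDepth ((J.map (algebraMap B B')).map (algebraMap B' (EGA4.FibLocRing A' B' q'.asIdeal)))
          (EGA4.FibLocMod A' B' q'.asIdeal (LinearMap.ker (u.baseChange B')))) ↔
      Module.Flat A' (B' ⊗[B] G)) := by
  have hB : D2 J B := (d2_tensor_self A B J hZ A).of_equiv J (AlgebraTensorModule.rid A B B).symm
  have hB'' : D2 (J.map (algebraMap B B')) B' :=
    (d2_B'_tensor A B A' B' J hZ A').of_equiv _ (AlgebraTensorModule.rid A' B' B').symm
  have hBd : 1 ≤ LocCoh.idealDepth J B := le_trans (by norm_num) ((d2_iff J B).mpr hB)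
  have hB'd : 1 ≤ LocCoh.idealDepth (J.map (algebraMap B B')) B' :=
    le_trans (by norm_num) ((d2_iff _ B').mpr hB'')
  -- depth of projectives
  have hproj : ∀ (E : Type u) [AddCommGroup E] [Module B E] [Module.Finite B E]
      [Module.Projective B E], 2 ≤ LocCoh.idealDepth J E := fun E _ _ _ _ =>
    (d2_iff J E).mpr ((d2_tensor_projective_right J B hB E).of_equiv J (TensorProduct.lid B E).symm)
  have hproj' : ∀ (E : Type u) [AddCommGroup E] [Module B' E] [Module.Finite B' E]
      [Module.Projective B' E], 2 ≤ LocCoh.idealDepth (J.map (algebraMap B B')) E :=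
    fun E _ _ _ _ => (d2_iff _ E).mpr
      ((d2_tensor_projective_right _ B' hB'' E).of_equiv _ (TensorProduct.lid B' E).symm)
  -- (1)
  have h1 : Module.IsReflexive B F := by
    have hker : 2 ≤ LocCoh.idealDepth J (LinearMap.ker u) :=
      (Groth.Agent.S18700.result B J E0 E1 u).2 (hproj E0) (le_trans (by norm_num) (hproj E1))
    have e : F ≃ₗ[B] LinearMap.ker u :=
      (LinearEquiv.ofInjective f hf) ≪≫ₗ LinearEquiv.ofEq _ _ (LinearMap.exact_iff.mp hfu).symm
    rw [← Groth.Agent.Lib.H8CM.idealDepth_eq_of_equiv J e] at hker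
    refine Groth.Agent.S18703.result B J hBd F (fun q hq => ?_) hker
    haveI := hFU q hq
    infer_instance
  -- (3)
  have h3 : 2 ≤ LocCoh.idealDepth (J.map (algebraMap B B')) (LinearMap.ker (u.baseChange B')) :=
    (Groth.Agent.S18700.result B' (J.map (algebraMap B B')) (B' ⊗[B] E0) (B' ⊗[B] E1)
      (u.baseChange B')).2 (hproj' _) (le_trans (by norm_num) (hproj' _))
  -- exactness of the base-changed sequence
  have hex' : Exact (u.baseChange B') (v.baseChange B') := by
    rw [LinearMap.baseChange_eq_ltensor, LinearMap.baseChange_eq_ltensor]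
    exact lTensor_exact B' huv hv
  have hsurj' : Surjective (v.baseChange B') := by
    rw [LinearMap.baseChange_eq_ltensor]
    exact LinearMap.lTensor_surjective B' hv
  have hfreeG : ∀ p' : PrimeSpectrum B', ¬ J.map (algebraMap B B') ≤ p'.asIdeal →
      Module.Free (Localization.AtPrime p'.asIdeal)
        (LocalizedModule p'.asIdeal.primeCompl (B' ⊗[B] G)) := by
    intro p' hp'
    have hfree : p' ∈ Module.freeLocus B' (B' ⊗[B] G) := by
      refine Module.comap_freeLocus_le (R := B) (M := G) ?_
      rw [Set.mem_preimage, Module.mem_freeLocus]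
      exact hGU _ fun hJ => hp' (Ideal.map_le_iff_le_comap.mpr hJ)
    exact hfree
  refine ⟨h1, ?_, h3, ?_⟩
  · refine Groth.Agent.S18703.result B' (J.map (algebraMap B B')) hB'd
      (LinearMap.ker (u.baseChange B')) (fun p' hp' => ?_) h3
    haveI := hfreeG p' hp'
    have e1 := locMap_injective (M := ↥(LinearMap.ker (u.baseChange B'))) (N := B' ⊗[B] E0)
      p'.asIdeal.primeCompl (LinearMap.ker (u.baseChange B')).subtype
      (LinearMap.ker (u.baseChange B')).subtype_injective
    have e2 := locMap_exact (M := ↥(LinearMap.ker (u.baseChange B'))) (N := B' ⊗[B] E0)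
      (P := B' ⊗[B] E1) p'.asIdeal.primeCompl (LinearMap.ker (u.baseChange B')).subtype
      (u.baseChange B') (LinearMap.exact_subtype_ker_map (u.baseChange B'))
    have e3 := locMap_exact p'.asIdeal.primeCompl (u.baseChange B') (v.baseChange B') hex'
    have e4 := locMap_surjective p'.asIdeal.primeCompl (v.baseChange B') hsurj'
    obtain ⟨s, hs⟩ := exists_retraction_of_exact _ _ _ e1 e2 e3 e4
    exact Module.IsReflexive.of_split _ s hs
  · haveI hB'flat : Module.Flat A' B' := flat_B' A B A' B'
    haveI : Module.Flat A' (B' ⊗[B] E0) := Module.Flat.trans A' B' _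
    haveI : Module.Flat A' (B' ⊗[B] E1) := Module.Flat.trans A' B' _
    have hGU' : ∀ q'' : PrimeSpectrum B', ¬ J.map (algebraMap B B') ≤ q''.asIdeal →
        FlatCA.FlatAt A' q''.asIdeal (B' ⊗[B] G) := by
      intro q'' hq''
      haveI := hfreeG q'' hq''
      unfold FlatCA.FlatAt
      exact Module.Flat.trans A' (Localization.AtPrime q''.asIdeal) _
    have hBN : ∀ (N : Type u) [AddCommGroup N] [Module A' N],
        D2 (J.map (algebraMap B B')) (B' ⊗[A'] N) := by
      intro N _ _
      letI : Module A N := Module.compHom N (algebraMap A A')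
      haveI : IsScalarTower A A' N := IsScalarTower.of_algebraMap_smul fun _ _ => rfl
      exact d2_B'_tensor A B A' B' J hZ N
    have hfib : ∀ (E : Type u) [AddCommGroup E] [Module B E] [Module.Finite B E]
        [Module.Projective B E] (q' : PrimeSpectrum B'),
        2 ≤ LocCoh.idealDepth ((J.map (algebraMap B B')).map
          (algebraMap B' (EGA4.FibLocRing A' B' q'.asIdeal)))
          (EGA4.FibLocMod A' B' q'.asIdeal (B' ⊗[B] E)) := by
      intro E _ _ _ _ q'
      exact two_le_depth_fibLocMod_of_d2 A' B' q'.asIdeal (J.map (algebraMap B B')) (B' ⊗[B] E)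
        (d2_tensor_projective A' B' (J.map (algebraMap B B')) hBN (B' ⊗[B] E) _)
    have hcore : ∀ q' : PrimeSpectrum B', _ := fun q' =>
      Groth.Agent.Lib.H47FibPrime.core A' B' (J.map (algebraMap B B')) q'.asIdeal
        (F := ↥(LinearMap.ker (u.baseChange B'))) (E0 := B' ⊗[B] E0) (E1 := B' ⊗[B] E1)
        (G := B' ⊗[B] G)
        (LinearMap.ker (u.baseChange B')).subtype (u.baseChange B') (v.baseChange B')
        (Groth.Agent.S18708.flat_localizedModule q'.asIdeal.primeCompl)
        (Groth.Agent.S18708.flat_localizedModule q'.asIdeal.primeCompl)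
        (LinearMap.ker (u.baseChange B')).subtype_injective
        (LinearMap.exact_subtype_ker_map (u.baseChange B')) hex' hsurj'
        (fun q'' _ h => hGU' q'' h) (hfib E0 q') (le_trans (by norm_num) (hfib E1 q'))
    constructor
    · intro H
      refine Module.flat_of_isLocalized_maximal B' (B' ⊗[B] G)
        (fun P _ => LocalizedModule P.primeCompl (B' ⊗[B] G))
        (fun P _ => LocalizedModule.mkLinearMap P.primeCompl _) (fun P hP => ?_)
      exact (hcore ⟨P, hP.isPrime⟩).1.mp (H ⟨P, hP.isPrime⟩).2
    · intro hG q'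
      have hGq : FlatCA.FlatAt A' q'.asIdeal (B' ⊗[B] G) :=
        Groth.Agent.S18708.flat_localizedModule q'.asIdeal.primeCompl
      exact ⟨(hcore q').2 hGq, (hcore q').1.mpr hGq⟩

end Groth.Agent.S18711
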