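import Groth.Statements.S18717
import Groth.Agent.Lib.H29DualSk
import Groth.Agent.Lib.H29DualModule2
import Groth.Agent.Lib.H29DualDim
import Groth.Agent.Lib.H29CanonAss

set_option autoImplicit false
universe u
open CategoryTheory
attribute [local instance] HasDerivedCategory.standard
open QGor

namespace Groth.Agent.S18717


theorem exists_prime_of_le_supportDim' {R : Type u} [CommRing R] (M : Type*) [AddCommGroup M]
    [Module R M] (n : ℕ) (h : (n : WithBot ℕ∞) ≤ Module.supportDim R M) :
    ∃ P ∈ Module.support R M, (n : WithBot ℕ∞) ≤ ringKrullDim (R ⧸ P.asIdeal) := by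
  obtain ⟨l, hl⟩ := Order.le_krullDim_iff.mp h
  refine ⟨l.head.1, l.head.2, ?_⟩
  rw [← Groth.Agent.Lib.DeltaZ.coheight_eq_ringKrullDim_quotient]
  have h1 : (l.length : ℕ∞) ≤ Order.coheight l.head := Order.length_le_coheight_head
  have h2 := Order.coheight_le_coheight_apply_of_strictMono
    (Subtype.val : Module.support R M → PrimeSpectrum R) (fun _ _ h => h) l.head
  rw [hl] at h1
  exact_mod_cast h1.trans h2

section aux

open CategoryTheory Groth.Agent.Lib.H29DualPrime Groth.Agent.Lib.H29DualLocal

attribute [local instance] HasDerivedCategory.standard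

variable (A : Type u) [CommRing A] [IsNoetherianRing A] [IsLocalRing A] (ω : Dual.D A)
  (hω : Dual.IsDualizing A ω) (hn : Dual.IsNormalized A ω)

include hn in
/-- `dim A/p = -degAt p` for a normalized dualizing complex -/
theorem dim_quotient_eq (p : PrimeSpectrum A) :
    ringKrullDim (A ⧸ p.asIdeal) = (((-degAt A ω hω p).toNat : ℕ) : WithBot ℕ∞) := by
  rw [ringKrullDim_quotient_eq A ω hω p, degAt_closedPoint A ω hω hn, zero_sub]

variable (M : Type u) [AddCommGroup M] [Module A M] [Module.Finite A M]
  (hM : EGA4.IsEquidimModule A M) (δ : ℕ) (hδ : Module.supportDim A M = δ)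

include hω hn hδ in
theorem not_mem_support_of_lt (p : PrimeSpectrum A) (j : ℤ) (hj : j < -(δ : ℤ)) :
    p ∉ Module.support A (Dual.inD A M ⟶ ω⟦j⟧) := by
  haveI := Groth.Agent.Lib.H29DualDim.subsingleton_T_of_lt_neg_supportDim A ω hω hn δ M
    (le_of_eq hδ) j hj
  rw [Module.mem_support_iff, not_nontrivial_iff_subsingleton]
  infer_instance

include hn hM hδ in
/-- for an equidimensional module, `dim M_p = δ + degAt p` on the support -/
theorem dim_localization_eq (p : PrimeSpectrum A)
    [Nontrivial (LocalizedModule p.asIdeal.primeCompl M)] (d : ℕ)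
    (hd : Module.supportDim (Localization.AtPrime p.asIdeal)
      (LocalizedModule p.asIdeal.primeCompl M) = d) :
    (d : ℤ) = δ + degAt A ω hω p ∧ p ∈ Module.support A (Dual.inD A M ⟶ ω⟦-(δ : ℤ)⟧) := by
  have h1 := mem_support_dim A ω hω M p d hd
  have hle : (d : ℤ) ≤ δ + degAt A ω hω p := by
    by_contra hcon
    exact not_mem_support_of_lt A ω hω hn M δ hδ p _ (by omega) h1
  -- a minimal prime below `p`
  have hpsupp : p ∈ Module.support A M := by
    rw [Module.mem_support_iff]
    infer_instance
  have hann : Module.annihilator A M ≤ p.asIdeal :=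
    Module.mem_support_iff_of_finite.mp hpsupp
  obtain ⟨q, hq, hqp⟩ := Ideal.exists_minimalPrimes_le hann
  haveI : q.IsPrime := hq.1.1
  let Q : PrimeSpectrum A := ⟨q, inferInstance⟩
  have hQsupp : Q ∈ Module.support A M := Module.mem_support_iff_of_finite.mpr hq.1.2
  haveI : Nontrivial (LocalizedModule Q.asIdeal.primeCompl M) :=
    Module.mem_support_iff.mp hQsupp
  have hdimq : ringKrullDim (A ⧸ Q.asIdeal) = δ := by rw [← hδ]; exact hM q hq
  have hdegq : degAt A ω hω Q = -(δ : ℤ) := by
    have h2 := dim_quotient_eq A ω hω hn Q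
    rw [hdimq] at h2
    have h3 : δ = (-degAt A ω hω Q).toNat := by exact_mod_cast h2
    have h4 := degAt_nonpos A ω hω hn Q
    omega
  obtain ⟨dq, δq, hdq, -⟩ := exists_dim_depth A ω hω M Q
  have h5 := mem_support_dim A ω hω M Q dq hdq
  have hdq0 : dq = 0 := by
    by_contra hcon
    exact not_mem_support_of_lt A ω hω hn M δ hδ Q _ (by omega) h5
  have hidx : degAt A ω hω Q - (dq : ℤ) = -(δ : ℤ) := by rw [hdq0, hdegq]; simp
  rw [hidx] at h5
  have h6 : Q ∈ Module.support A (Dual.inD A M ⟶ ω⟦-(δ : ℤ)⟧) := h5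
  have h7 : p ∈ Module.support A (Dual.inD A M ⟶ ω⟦-(δ : ℤ)⟧) :=
    Module.mem_support_mono hqp h6
  obtain ⟨d', δ', hd', hδ'⟩ := exists_dim_depth A ω hω M p
  have hdd : d' = d := by
    rw [hd] at hd'
    exact_mod_cast hd'.symm
  subst hdd
  have h8 := range_of_mem_support A ω hω M p d' δ' hd hδ' _ h7
  exact ⟨by omega, h7⟩

end aux

/-- Affine-local form with a normalized dualizing complex (so the codimension function vanishes at the
closed point). Let A be a Noetherian local ring with normalized dualizing complex ω, M a nonzero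
finite A-module which is equidimensional of dimension δ, E^j = Ext^j(M, ω) the A-module of morphisms
M → ω[j] in D(A), and k ≥ 1. Then M satisfies (S_k) if and only if dim Supp E^j ≤ −j − k for every
integer j ≠ −δ, where for −j − k < 0 this means E^j = 0. -/
theorem result (A : Type u) [CommRing A] [IsNoetherianRing A]
    [IsLocalRing A] (ω : Dual.D A) (hω : Dual.IsDualizing A ω) (hn : Dual.IsNormalized A ω)
    (M : Type u) [AddCommGroup M] [Module A M] [Module.Finite A M] [Nontrivial M]
    (hM : EGA4.IsEquidimModule A M) (δ : ℕ) (hδ : Module.supportDim A M = δ) (k : ℕ) (hk : 1 ≤ k) :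
    LocCoh.HasSk k A M ↔
      ∀ j : ℤ, j ≠ -(δ : ℤ) →
        (-j - (k : ℤ) < 0 → Subsingleton (Dual.inD A M ⟶ ω⟦j⟧)) ∧
        (0 ≤ -j - (k : ℤ) → Module.supportDim A (Dual.inD A M ⟶ ω⟦j⟧) ≤ ((-j - (k : ℤ)).toNat : WithBot ℕ∞)) := by
  classical
  rw [Groth.Agent.Lib.H29DualPrime.hasSk_iff_forall_skIneq]
  constructor
  · intro h j hj
    -- every prime in the support of `E^j` has small coheight
    have key : ∀ p : PrimeSpectrum A, p ∈ Module.support A (Dual.inD A M ⟶ ω⟦j⟧) →
        -Groth.Agent.Lib.H29DualPrime.degAt A ω hω p ≤ -j - (k : ℤ) := by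
      intro p hp
      haveI := Groth.Agent.Lib.H29DualPrime.nontrivial_of_mem_support A ω hω M p j hp
      obtain ⟨d, δ', hd, hδ'⟩ := Groth.Agent.Lib.H29DualPrime.exists_dim_depth A ω hω M p
      have r := Groth.Agent.Lib.H29DualPrime.range_of_mem_support A ω hω M p d δ' hd hδ' j hp
      obtain ⟨hdeq, -⟩ := dim_localization_eq A ω hω hn M hM δ hδ p d hd
      have hsk := h p
      unfold Groth.Agent.Lib.H29DualPrime.SkIneq at hsk
      rw [hd, hδ', min_le_iff] at hsk
      rcases hsk with hsk | hsk
      · have : k ≤ δ' := by exact_mod_cast hsk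
        omega
      · have : d ≤ δ' := by exact_mod_cast hsk
        omega
    haveI := Groth.Agent.Lib.H29DualLocal.finite_T A ω hω M j
    constructor
    · intro hneg
      by_contra hcon
      rw [not_subsingleton_iff_nontrivial] at hcon
      obtain ⟨p, hp⟩ := (Module.nonempty_support_iff (R := A)).mpr hcon
      have h1 := key p hp
      have h2 := Groth.Agent.Lib.H29DualPrime.degAt_nonpos A ω hω hn p
      omega
    · intro hnn
      by_contra hcon
      have hlt : (((-j - (k : ℤ)).toNat : ℕ) : WithBot ℕ∞) <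
          Module.supportDim A (Dual.inD A M ⟶ ω⟦j⟧) := not_le.mp hcon
      have hle : (((-j - (k : ℤ)).toNat + 1 : ℕ) : WithBot ℕ∞) ≤
          Module.supportDim A (Dual.inD A M ⟶ ω⟦j⟧) := by
        generalize Module.supportDim A (Dual.inD A M ⟶ ω⟦j⟧) = x at hlt ⊢
        induction x using WithBot.recBotCoe with
        | bot => simp at hlt
        | coe y =>
          have h1 : (((-j - (k : ℤ)).toNat : ℕ) : ℕ∞) < y := by exact_mod_cast hlt
          have h2 := Order.add_one_le_of_lt h1
          exact_mod_cast h2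
      obtain ⟨P, hP, hPdim⟩ := exists_prime_of_le_supportDim'
        (R := A) (Dual.inD A M ⟶ ω⟦j⟧) _ hle
      have h1 := key P hP
      rw [dim_quotient_eq A ω hω hn P] at hPdim
      have h3 : (-j - (k : ℤ)).toNat + 1 ≤ (-Groth.Agent.Lib.H29DualPrime.degAt A ω hω P).toNat := by
        exact_mod_cast hPdim
      omega
  · intro h q
    by_cases hs : Subsingleton (LocalizedModule q.asIdeal.primeCompl M)
    · unfold Groth.Agent.Lib.H29DualPrime.SkIneq
      rw [Module.supportDim_eq_bot_of_subsingleton, min_bot_right]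
      exact bot_le
    · rw [not_subsingleton_iff_nontrivial] at hs
      obtain ⟨d, δ', hd, hδ'⟩ := Groth.Agent.Lib.H29DualPrime.exists_dim_depth A ω hω M q
      obtain ⟨hdeq, -⟩ := dim_localization_eq A ω hω hn M hM δ hδ q d hd
      have h1 := Groth.Agent.Lib.H29DualPrime.mem_support_depth A ω hω M q δ' hδ'
      unfold Groth.Agent.Lib.H29DualPrime.SkIneq
      rw [hd, hδ', min_le_iff]
      by_cases hj : Groth.Agent.Lib.H29DualPrime.degAt A ω hω q - (δ' : ℤ) = -(δ : ℤ)
      · right
        have : d ≤ δ' := by omega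
        exact_mod_cast this
      · left
        obtain ⟨hA, hB⟩ := h _ hj
        have hnn : 0 ≤ -(Groth.Agent.Lib.H29DualPrime.degAt A ω hω q - (δ' : ℤ)) - (k : ℤ) := by
          by_contra hcon
          haveI := hA (by omega)
          rw [Module.mem_support_iff] at h1
          exact not_nontrivial _ h1
        have h2 := (Groth.Agent.Lib.DepthRees.ringKrullDim_quotient_le_supportDim q h1).trans
          (hB hnn)
        rw [dim_quotient_eq A ω hω hn q] at h2
        have h3 : (-Groth.Agent.Lib.H29DualPrime.degAt A ω hω q).toNat ≤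
            (-(Groth.Agent.Lib.H29DualPrime.degAt A ω hω q - (δ' : ℤ)) - (k : ℤ)).toNat := by
          exact_mod_cast h2
        have h4 := Groth.Agent.Lib.H29DualPrime.degAt_nonpos A ω hω hn q
        have : k ≤ δ' := by omega
        exact_mod_cast this

end Groth.Agent.S18717
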