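import Groth.Statements.S18718
import Groth.Agent.Lib.H47FibD2
import Groth.Agent.Lib.H47HomIso
import Groth.Agent.S18703

set_option autoImplicit false
universe u
open QGor

namespace Groth.Agent.S18718

open TensorProduct Function IsLocalRing Groth.Agent.Lib.H47Reflexive Groth.Agent.S18706
  Groth.Agent.Lib.H47FibD2 Groth.Agent.Lib.H47HomIso

section Aux
variable (A B : Type u) [CommRing A] [CommRing B] [IsNoetherianRing A] [IsNoetherianRing B] [Algebra A B]
    (A' B' : Type u) [CommRing A'] [CommRing B'] [IsNoetherianRing A'] [IsNoetherianRing B']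
    [Algebra A A'] [Algebra B B'] [Algebra A' B'] [Algebra A B'] [IsScalarTower A B B'] [IsScalarTower A A' B']
    [Algebra.IsPushout A B A' B'] (J : Ideal B)

/-- `B' ⊗_B F ≃ F ⊗_A A'`, `B`-linearly. -/
noncomputable def bcEquiv (F : Type u) [AddCommGroup F] [Module B F] [Module A F] [IsScalarTower A B F] :
    B' ⊗[B] F ≃ₗ[B] F ⊗[A] A' :=
  (LinearEquiv.rTensor F (Algebra.IsPushout.equiv A B A' B').symm.toLinearEquiv) ≪≫ₗ
    TensorProduct.comm B (B ⊗[A] A') F ≪≫ₗ
    AlgebraTensorModule.cancelBaseChange A B B F A'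

include A' in
/-- `D2` of `B'` as a `B`-module. -/
theorem d2_B' [Module.Flat A B]
    (hZ : ∀ q : PrimeSpectrum B, J ≤ q.asIdeal →
      2 ≤ LocCoh.idealDepth (q.asIdeal.map (algebraMap B (EGA4.FibLocRing A B q.asIdeal))) (EGA4.FibLocRing A B q.asIdeal)) :
    D2 J B' :=
  (d2_tensor_self A B J hZ A').of_equiv J (Algebra.IsPushout.equiv A B A' B').symm.toLinearEquiv

end Aux

open TensorProduct in
/-- Affine form. Let A → B be a flat homomorphism of Noetherian rings, J an ideal of B such that the
fibre local ring B_q/pB_q has depth ≥ 2 at every prime q ⊇ J (p its contraction), A → A′ a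
homomorphism of Noetherian rings with Noetherian pushout B′ = A′ ⊗_A B, and F a finite B-module with
F_q free for every prime q not containing J. Then depth_J (F^∨∨) ≥ 2 (the double dual is the module
of sections of F off V(J)); the natural map (B′ ⊗_B F)^∨∨ → (B′ ⊗_B F^∨∨)^∨∨ obtained by dualising
twice the base change of F → F^∨∨ is bijective; and if moreover F is flat over A and the fibre
stalks F_q/pF_q have depth ≥ 2 at all primes q ⊇ J, then F and B′ ⊗_B F are reflexive. -/
theorem result (A B : Type u) [CommRing A] [CommRing B] [IsNoetherianRing A] [IsNoetherianRing B] [Algebra A B]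
    (A' B' : Type u) [CommRing A'] [CommRing B'] [IsNoetherianRing A'] [IsNoetherianRing B']
    [Algebra A A'] [Algebra B B'] [Algebra A' B'] [Algebra A B'] [IsScalarTower A B B'] [IsScalarTower A A' B']
    [Algebra.IsPushout A B A' B'] [Module.Flat A B] (J : Ideal B)
    (hZ : ∀ q : PrimeSpectrum B, J ≤ q.asIdeal →
      2 ≤ LocCoh.idealDepth (q.asIdeal.map (algebraMap B (EGA4.FibLocRing A B q.asIdeal))) (EGA4.FibLocRing A B q.asIdeal))
    (F : Type u) [AddCommGroup F] [Module B F] [Module A F] [IsScalarTower A B F] [Module.Finite B F]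
    (hFU : ∀ q : PrimeSpectrum B, ¬ J ≤ q.asIdeal → Module.Free (Localization.AtPrime q.asIdeal) (LocalizedModule q.asIdeal.primeCompl F)) :
    2 ≤ LocCoh.idealDepth J (Module.Dual B (Module.Dual B F)) ∧
    Function.Bijective (((Module.Dual.eval B F).baseChange B').dualMap.dualMap) ∧
    (Module.Flat A F →
      (∀ q : PrimeSpectrum B, J ≤ q.asIdeal →
        2 ≤ LocCoh.idealDepth (q.asIdeal.map (algebraMap B (EGA4.FibLocRing A B q.asIdeal))) (EGA4.FibLocMod A B q.asIdeal F)) →
      Module.IsReflexive B F ∧ Module.IsReflexive B' (B' ⊗[B] F)) := by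
  have hB : D2 J B := (d2_tensor_self A B J hZ A).of_equiv J (AlgebraTensorModule.rid A B B).symm
  have hB' : D2 J B' := d2_B' A B A' B' J hZ
  have hBdual : ∀ (X : Type u) [AddCommGroup X] [Module B X], D2 J (Module.Dual B X) :=
    fun X _ _ => ⟨hB.1.linearMap, E1.linearMap hB.1 hB.2⟩
  have hrefl : ∀ q : PrimeSpectrum B, ¬ J ≤ q.asIdeal →
      Module.IsReflexive (Localization.AtPrime q.asIdeal)
        (LocalizedModule q.asIdeal.primeCompl F) := fun q hq => by
    haveI := hFU q hq
    infer_instance
  refine ⟨?_, ?_, ?_⟩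
  · rw [d2_iff]
    exact hBdual _
  · set θ := Module.Dual.eval B F with hθ
    have hk : ∀ x : F, θ x = 0 → ∀ q : Ideal B, q.IsPrime → ¬ J ≤ q → ∃ s ∉ q, s • x = 0 :=
      fun x hx q hq hJq => by
        haveI := hq
        exact exists_smul_eq_zero_of_eval_eq_zero (hrefl ⟨q, hq⟩ hJq) x hx
    have hc : ∀ y : Module.Dual B (Module.Dual B F), ∀ q : Ideal B, q.IsPrime → ¬ J ≤ q →
        ∃ s ∉ q, s • y ∈ LinearMap.range θ := fun y q hq hJq => by
      haveI := hq
      exact exists_smul_mem_range_eval (hrefl ⟨q, hq⟩ hJq) y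
    have bij0 := bijective_comp J θ hB' hk hc
    let e₁ := LinearMap.liftBaseChangeEquiv (R := B) (M := Module.Dual B (Module.Dual B F))
      (N := B') B'
    let e₂ := LinearMap.liftBaseChangeEquiv (R := B) (M := F) (N := B') B'
    have key : ∀ g : Module.Dual B (Module.Dual B F) →ₗ[B] B',
        (θ.baseChange B').dualMap (e₁ g) = e₂ (g.comp θ) := by
      intro g
      apply TensorProduct.AlgebraTensorModule.ext
      intro b x
      simp [e₁, e₂, LinearMap.dualMap_apply]
    have h1 : (fun g : Module.Dual B (Module.Dual B F) →ₗ[B] B' => g.comp θ) =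
        e₂.symm ∘ (θ.baseChange B').dualMap ∘ e₁ := funext fun g => by
      rw [comp_apply, comp_apply, key, LinearEquiv.symm_apply_apply]
    rw [h1] at bij0
    have h2 : Bijective ((θ.baseChange B').dualMap) :=
      (Equiv.bijective_comp e₁.toEquiv _).mp ((Equiv.comp_bijective _ e₂.symm.toEquiv).mp bij0)
    exact (LinearEquiv.ofBijective _ h2).dualMap.bijective
  · intro hflat hfib
    have hFdepth : 2 ≤ LocCoh.idealDepth J F := by
      have := le_idealDepth_tensor_of_fibre A B J 2 F hfib A
      rwa [Groth.Agent.Lib.H8CM.idealDepth_eq_of_equiv J (AlgebraTensorModule.rid A B F)] at this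
    have hBdepth : 1 ≤ LocCoh.idealDepth J B := le_trans (by norm_num) ((d2_iff J B).mpr hB)
    refine ⟨Groth.Agent.S18703.result B J hBdepth F hrefl hFdepth, ?_⟩
    have hB'' : D2 (J.map (algebraMap B B')) B' := d2_map J hB'
    have hF' : D2 (J.map (algebraMap B B')) (B' ⊗[B] F) :=
      d2_map J ((d2_tensor_of_fibre A B J F hfib A').of_equiv J (bcEquiv A B A' B' F))
    refine Groth.Agent.S18703.result B' (J.map (algebraMap B B'))
      (le_trans (by norm_num) ((d2_iff _ B').mpr hB'')) (B' ⊗[B] F) ?_ ((d2_iff _ _).mpr hF')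
    intro p' hp'
    have hfree : p' ∈ Module.freeLocus B' (B' ⊗[B] F) := by
      refine Module.comap_freeLocus_le (R := B) (M := F) ?_
      rw [Set.mem_preimage, Module.mem_freeLocus]
      refine hFU _ fun hJ => hp' ?_
      exact Ideal.map_le_iff_le_comap.mpr hJ
    haveI : Module.Free (Localization.AtPrime p'.asIdeal)
        (LocalizedModule p'.asIdeal.primeCompl (B' ⊗[B] F)) := hfree
    infer_instance

end Groth.Agent.S18718
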