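import Groth.Statements.S18720
import Groth.Agent.Lib.H29DualModule2
import Groth.Agent.Lib.H29DualMin
import Groth.Agent.Lib.H29DualIso
import Groth.Agent.Lib.H8CM10

set_option autoImplicit false
universe u
open CategoryTheory
attribute [local instance] HasDerivedCategory.standard
open QGor

namespace Groth.Agent.S18720


open Groth.Agent.Lib.H29DualPrime Groth.Agent.Lib.H29DualShift Groth.Agent.Lib.H29LocD
  Groth.Agent.Lib.H29DualLocal

/-- `(S_k)` is invariant under linear equivalences. -/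
theorem hasSk_congr' {A : Type u} [CommRing A] {M M' : Type u} [AddCommGroup M] [Module A M]
    [AddCommGroup M'] [Module A M'] (e : M ≃ₗ[A] M') (k : ℕ) (h : LocCoh.HasSk k A M) :
    LocCoh.HasSk k A M' := by
  intro P hP
  let eP : LocalizedModule P.primeCompl M ≃ₗ[Localization.AtPrime P]
      LocalizedModule P.primeCompl M' :=
    (IsLocalizedModule.linearEquiv P.primeCompl (LocalizedModule.mkLinearMap P.primeCompl M)
      ((LocalizedModule.mkLinearMap P.primeCompl M') ∘ₗ e.toLinearMap)).extendScalarsOfIsLocalization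
        P.primeCompl (Localization.AtPrime P)
  rw [← Module.supportDim_eq_of_equiv eP, ← Groth.Agent.Lib.H8CM.depth_eq_of_equiv eP]
  exact h P

/-- a minimal prime does not contain an ideal of positive height -/
lemma not_le_of_minimal {A : Type u} [CommRing A] (J : Ideal A) (hJ : 1 ≤ J.height) (q : Ideal A)
    (hq : q ∈ minimalPrimes A) : ¬ J ≤ q := by
  intro hle
  haveI := hq.1.1
  have h1 : J.height ≤ q.height := Ideal.height_mono hle
  have h2 : q.height = 0 := Ideal.height_eq_zero_iff.mpr hq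
  rw [h2] at h1
  have := le_trans hJ h1
  simp at this

section Main

variable (A : Type u) [CommRing A] [IsNoetherianRing A] [IsLocalRing A] (ω : Dual.D A)
  (hω : Dual.IsDualizing A ω) (J : Ideal A) (hJ : 1 ≤ J.height)
  (hoff : ∀ p : PrimeSpectrum A, ¬ J ≤ p.asIdeal → ∀ i : ℤ, i ≠ 0 →
    p ∉ Module.support A (Dual.HD A ω i))
  (n₀ : ℤ) (hn₀ : Dual.IsNormalized A (ω⟦n₀⟧))

include hJ hoff hn₀ in
/-- at a minimal prime, the normalized shift has `degAt = -n₀` -/
theorem degAt_minimal (q : PrimeSpectrum A) (hq : q.asIdeal ∈ minimalPrimes A) :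
    degAt A (ω⟦n₀⟧) (isDualizing_shift A ω hω n₀) q = -n₀ := by
  have hW := isDualizing_shift A ω hω n₀
  have h1 := (nontrivial_localizedModule_HD_iff_degAt A (ω⟦n₀⟧) hW q hq
    (degAt A (ω⟦n₀⟧) hW q)).mpr rfl
  let e := HDShiftEquiv A ω n₀ (degAt A (ω⟦n₀⟧) hW q) (n₀ + degAt A (ω⟦n₀⟧) hW q) rfl
  have h2 : q ∈ Module.support A (Dual.HD A ω (n₀ + degAt A (ω⟦n₀⟧) hW q)) := by
    rw [← e.support_eq]
    exact Module.mem_support_iff.mpr h1
  by_contra hne
  exact hoff q (not_le_of_minimal J hJ q.asIdeal hq) _ (by intro h0; apply hne; omega) h2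

end Main


section Depth

variable (A : Type u) [CommRing A] [IsNoetherianRing A] [IsLocalRing A] (W : Dual.D A)
  (hW : Dual.IsDualizing A W) (hn : Dual.IsNormalized A W) (n : ℕ) (hd : ringKrullDim A = n)
  (heq : EGA4.IsEquidim A)

include hW hn hd heq in
/-- on an equidimensional local ring, the dualizing module has `depth_J ≥ 2` whenever
`ht J ≥ 2` -/
theorem two_le_idealDepth_HD_top (J : Ideal A) (hJ : 2 ≤ J.height) :
    2 ≤ LocCoh.idealDepth J (Dual.HD A W (-(n : ℤ))) := by
  haveI := hW.finite_cohomology (-(n : ℤ))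
  rw [Groth.Agent.Lib.H8CM.idealDepth_eq_iInf_depth_localizedModule J]
  refine le_iInf₂ fun p hp => ?_
  have hsupp : p ∈ Module.support A (Dual.HD A W (-(n : ℤ))) := by
    rw [mem_support_HD_top_iff A W hW hn n hd p]
    obtain ⟨q, hqmin, hqp⟩ := Ideal.exists_minimalPrimes_le (I := (⊥ : Ideal A))
      (J := p.asIdeal) bot_le
    exact ⟨q, hqmin, hqp, by rw [heq q hqmin, hd]⟩
  let S := p.asIdeal.primeCompl
  haveI : IsNoetherianRing (Localization S) :=
    IsLocalization.isNoetherianRing S (Localization S) inferInstance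
  have hWp := isDualizing_WAt A W hW p
  have hnWp := isNormalized_WAt A W hW p
  have hdim := dim_localization_of_mem_support A W hW hn n hd p hsupp
  have hht : ((2 : ℕ) : WithBot ℕ∞) ≤ ringKrullDim (Localization.AtPrime p.asIdeal) := by
    rw [IsLocalization.AtPrime.ringKrullDim_eq_height p.asIdeal (Localization.AtPrime p.asIdeal)]
    have : (2 : ℕ∞) ≤ p.asIdeal.height := le_trans hJ (Ideal.height_mono hp)
    have h' : (((2 : ℕ) : ℕ∞) : WithBot ℕ∞) ≤ ((p.asIdeal.height : ℕ∞) : WithBot ℕ∞) :=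
      WithBot.coe_le_coe.mpr (by exact_mod_cast this)
    exact h'
  rw [hdim] at hht
  have h2 : 2 ≤ ((n : ℤ) + degAt A W hW p).toNat := by exact_mod_cast hht
  have h7 := neg_degAt_le A W hW hn n hd p
  let e : LocalizedModule S (Dual.HD A W (-(n : ℤ))) ≃ₗ[Localization S]
      Dual.HD (Localization S) (WAt A W hW p)
        (-((((n : ℤ) + degAt A W hW p).toNat : ℕ) : ℤ)) :=
    (localizedHDEquiv A S W (-(n : ℤ))).trans
      (HDShiftEquiv (Localization S) (ωAt A W p) (degAt A W hW p)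
        (-((((n : ℤ) + degAt A W hW p).toNat : ℕ) : ℤ)) (-(n : ℤ)) (by omega)).symm
  have hloc := min_two_le_depth_HD_top (Localization S) _ hWp hnWp _ hdim
  rw [Groth.Agent.Lib.H8CM.depth_eq_of_equiv e]
  rw [min_eq_left h2] at hloc
  exact_mod_cast hloc

end Depth

/-- Affine-local form. Let A be a Noetherian local ring of Krull dimension n with a dualizing complex ω,
L = H⁰(ω), and J an ideal with ht J ≥ 1 such that ω restricted off V(J) is L placed in degree 0,
i.e. H^i(ω)_p = 0 for every i ≠ 0 and every prime p not containing J. Then ω is ordinary (its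
codimension function is p ↦ ht p), which for the local ring means: A is equidimensional and ω[n] is
normalized; and L satisfies (S₂). If moreover ht J ≥ 2, then depth_J L ≥ 2 (L is the module of
sections of its restriction off V(J)). -/
theorem result (A : Type u) [CommRing A] [IsNoetherianRing A]
    [IsLocalRing A] (ω : Dual.D A) (hω : Dual.IsDualizing A ω) (n : ℕ) (hd : ringKrullDim A = n)
    (J : Ideal A) (hJ : 1 ≤ J.height)
    (hoff : ∀ p : PrimeSpectrum A, ¬ J ≤ p.asIdeal → ∀ i : ℤ, i ≠ 0 → p ∉ Module.support A (Dual.HD A ω i)) :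
    (EGA4.IsEquidim A ∧ Dual.IsNormalized A (ω⟦(n : ℤ)⟧) ∧ LocCoh.HasSk 2 A (Dual.HD A ω 0)) ∧
    (2 ≤ J.height → 2 ≤ LocCoh.idealDepth J (Dual.HD A ω 0)) := by
  obtain ⟨n₀, hn₀, -, -⟩ := exists_normalized_shift A ω hω
  have hW := isDualizing_shift A ω hω n₀
  have hcp := degAt_closedPoint A (ω⟦n₀⟧) hW hn₀
  have hmin : ∀ q ∈ minimalPrimes A, 0 ≤ n₀ ∧
      ringKrullDim (A ⧸ q) = ((n₀.toNat : ℕ) : WithBot ℕ∞) := by
    intro q hq
    let q' : PrimeSpectrum A := ⟨q, hq.1.1⟩
    have h1 := degAt_minimal A ω hω J hJ hoff n₀ hn₀ q' hq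
    have h2 := degAt_nonpos A (ω⟦n₀⟧) hW hn₀ q'
    have h3 := ringKrullDim_quotient_eq A (ω⟦n₀⟧) hW q'
    rw [hcp, h1] at h3
    refine ⟨by omega, ?_⟩
    rw [h3]
    have : (0 - -n₀).toNat = n₀.toNat := by omega
    rw [this]
  obtain ⟨q₀, hq₀, hq₀d⟩ := exists_minimalPrimes_dim_eq A n hd
  obtain ⟨hn₀0, hq₀'⟩ := hmin q₀ hq₀
  have hnn : n₀ = (n : ℤ) := by
    rw [hq₀d] at hq₀'
    have : n = n₀.toNat := by exact_mod_cast hq₀'
    omega
  subst hnn
  have heq : EGA4.IsEquidim A := by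
    intro p hp
    rw [hd, (hmin p hp).2, Int.toNat_natCast]
  have hSk := hasSk_two_HD_top A (ω⟦(n : ℤ)⟧) hW hn₀ n hd
  let e := HDShiftEquiv A ω (n : ℤ) (-(n : ℤ)) 0 (by ring)
  refine ⟨⟨heq, hn₀, hasSk_congr' e 2 hSk⟩, fun hJ2 => ?_⟩
  rw [← Groth.Agent.Lib.H8CM.idealDepth_eq_of_equiv J e]
  exact two_le_idealDepth_HD_top A (ω⟦(n : ℤ)⟧) hW hn₀ n hd heq J hJ2

end Groth.Agent.S18720
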