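import Groth.Statements.S18721
import Groth.Agent.Lib.H29DualSk
import Groth.Agent.Lib.H29DualModule2
import Groth.Agent.Lib.H29CanonAss
import Groth.Agent.Lib.H29HomFreeLin
import Groth.Agent.Lib.EquidimCat33
import Groth.Agent.Lib.H56SerreFlat

set_option autoImplicit false
universe u
open CategoryTheory
attribute [local instance] HasDerivedCategory.standard
open QGor

namespace Groth.Agent.S18721


section aux

open CategoryTheory Groth.Agent.Lib.H29DualPrime Groth.Agent.Lib.H29DualLocal

attribute [local instance] HasDerivedCategory.standard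

variable (A : Type u) [CommRing A] [IsNoetherianRing A] (ω : Dual.D A)
  (hω : Dual.IsDualizing A ω)
  (hnorm : ∀ (m : Ideal A) (_ : m.IsMaximal) (i : ℤ), i ≠ 0 →
    Subsingleton (Dual.inD A (A ⧸ m) ⟶ ω⟦i⟧))

include hnorm in
theorem degAt_maximal (m : PrimeSpectrum A) (hm : m.asIdeal.IsMaximal) :
    degAt A ω hω m = 0 := by
  by_contra hne
  obtain ⟨f, hf⟩ := (hasAnnLE_iff_degAt A ω hω m (degAt A ω hω m)).mpr rfl
  haveI := hnorm m.asIdeal hm _ hne
  have := hf 1 (Subsingleton.elim _ _)
  exact hm.ne_top ((Ideal.eq_top_iff_one _).mpr this)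

include hnorm in
theorem degAt_nonpos_g (p : PrimeSpectrum A) : degAt A ω hω p ≤ 0 := by
  obtain ⟨m, hm, hpm⟩ := Ideal.exists_le_maximal p.asIdeal p.2.ne_top
  have := degAt_le_of_le A ω hω p ⟨m, hm.isPrime⟩ hpm
  rwa [degAt_maximal A ω hω hnorm ⟨m, hm.isPrime⟩ hm] at this

include hnorm in
theorem dim_quotient_eq_g (p : PrimeSpectrum A) :
    ringKrullDim (A ⧸ p.asIdeal) = (((-degAt A ω hω p).toNat : ℕ) : WithBot ℕ∞) := by
  obtain ⟨m, hm, hpm⟩ := Ideal.exists_le_maximal p.asIdeal p.2.ne_top
  let M : PrimeSpectrum A := ⟨m, hm.isPrime⟩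
  have hM0 : degAt A ω hω M = 0 := degAt_maximal A ω hω hnorm M hm
  have hle : p ≤ M := hpm
  have hd := degAt_nonpos_g A ω hω hnorm p
  rw [ringKrullDim_quotient]
  haveI : Nonempty (PrimeSpectrum.zeroLocus (R := A) p.asIdeal) :=
    ⟨⟨p, (le_rfl : p.asIdeal ≤ p.asIdeal)⟩⟩
  apply le_antisymm
  · rw [Order.krullDim_eq_iSup_length]
    have : ∀ x : LTSeries (PrimeSpectrum.zeroLocus (R := A) p.asIdeal),
        x.length ≤ (-degAt A ω hω p).toNat := by
      intro x
      have hsm : StrictMono (fun y : PrimeSpectrum.zeroLocus (R := A) p.asIdeal =>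
          degAt A ω hω y.1) := fun a b hab => degAt_strictMono A ω hω hab
      have h1 := LTSeries.head_add_length_le_int (x.map _ hsm)
      simp only [LTSeries.head_map, LTSeries.last_map, LTSeries.map_length] at h1
      have h2 : degAt A ω hω p ≤ degAt A ω hω x.head.1 :=
        degAt_le_of_le A ω hω p _ x.head.2
      have h3 : degAt A ω hω x.last.1 ≤ 0 := degAt_nonpos_g A ω hω hnorm _
      omega
    have h2 : (⨆ x : LTSeries (PrimeSpectrum.zeroLocus (R := A) p.asIdeal), (x.length : ℕ∞)) ≤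
        ((-degAt A ω hω p).toNat : ℕ∞) :=
      iSup_le fun x => by exact_mod_cast this x
    exact_mod_cast h2
  · obtain ⟨x, hx0, hx1, hxl⟩ := exists_ltSeries A ω hω
      (-degAt A ω hω p).toNat p M hle (by rw [hM0]; omega)
    have hmem : ∀ i, x i ∈ PrimeSpectrum.zeroLocus (R := A) p.asIdeal := by
      intro i
      have : x.head ≤ x i := x.strictMono.monotone (Fin.zero_le _)
      rw [hx0] at this
      exact this
    let y : LTSeries (PrimeSpectrum.zeroLocus (R := A) p.asIdeal) :=
      LTSeries.mk x.length (fun i => ⟨x i, hmem i⟩) (fun a b hab => x.strictMono hab)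
    have := Order.LTSeries.length_le_krullDim y
    rw [← hxl]
    exact this

theorem support_E_eq (j : ℤ) :
    Module.support A (Dual.inD A A ⟶ ω⟦j⟧) = Module.support A (Dual.HD A ω j) :=
  LinearEquiv.support_eq (Groth.Agent.Lib.H29HomFreeLin.homFreeEquiv A ω j)

instance nontrivial_loc (q : PrimeSpectrum A) :
    Nontrivial (LocalizedModule q.asIdeal.primeCompl A) :=
  (Groth.Agent.Lib.H56SerreFlat.selfEquiv A q.asIdeal).toEquiv.symm.nontrivial

variable (n : ℕ) (hd : ringKrullDim A = n)

include hnorm hd in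
/-- `dim A_q ≤ n + degAt q` -/
theorem dim_loc_le (q : PrimeSpectrum A) (d : ℕ)
    (hdq : Module.supportDim (Localization.AtPrime q.asIdeal)
      (LocalizedModule q.asIdeal.primeCompl A) = d) : (d : ℤ) ≤ n + degAt A ω hω q := by
  rw [Groth.Agent.Lib.H56SerreFlat.supportDim_localizedModule_self,
    IsLocalization.AtPrime.ringKrullDim_eq_height q.asIdeal (Localization.AtPrime q.asIdeal)]
    at hdq
  have h1 := Groth.Agent.Lib.EquidimCat33.height_add_ringKrullDim_quotient_le q
  rw [hdq, dim_quotient_eq_g A ω hω hnorm q, hd] at h1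
  have h2 : d + (-degAt A ω hω q).toNat ≤ n := by exact_mod_cast h1
  have h3 := degAt_nonpos_g A ω hω hnorm q
  omega

include hω hnorm hd in
theorem ge_of_mem_support (q : PrimeSpectrum A) (j : ℤ)
    (hq : q ∈ Module.support A (Dual.inD A A ⟶ ω⟦j⟧)) : -(n : ℤ) ≤ j := by
  obtain ⟨d, δ', hdq, hδ'⟩ := exists_dim_depth A ω hω A q
  have r := range_of_mem_support A ω hω A q d δ' hdq hδ' j hq
  have := dim_loc_le A ω hω hnorm n hd q d hdq
  omega

variable (hEq : EGA4.IsEquidim A)

include hnorm hd hEq in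
/-- equidimensional: `dim A_q = n + degAt q` -/
theorem dim_loc_eq (q : PrimeSpectrum A) (d : ℕ)
    (hdq : Module.supportDim (Localization.AtPrime q.asIdeal)
      (LocalizedModule q.asIdeal.primeCompl A) = d) : (d : ℤ) = n + degAt A ω hω q := by
  have hle := dim_loc_le A ω hω hnorm n hd q d hdq
  obtain ⟨q₀, hq₀, hq₀q⟩ := Ideal.exists_minimalPrimes_le (I := ⊥) (J := q.asIdeal) bot_le
  haveI : q₀.IsPrime := hq₀.1.1
  let Q : PrimeSpectrum A := ⟨q₀, inferInstance⟩
  have hdimq : ringKrullDim (A ⧸ Q.asIdeal) = n := by rw [← hd]; exact hEq q₀ hq₀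
  have hdegq : degAt A ω hω Q = -(n : ℤ) := by
    have h2 := dim_quotient_eq_g A ω hω hnorm Q
    rw [hdimq] at h2
    have h3 : n = (-degAt A ω hω Q).toNat := by exact_mod_cast h2
    have h4 := degAt_nonpos_g A ω hω hnorm Q
    omega
  obtain ⟨dq, δq, hdq', -⟩ := exists_dim_depth A ω hω A Q
  have h5 := mem_support_dim A ω hω A Q dq hdq'
  have h5' := ge_of_mem_support A ω hω hnorm n hd Q _ h5
  have hidx : degAt A ω hω Q - (dq : ℤ) = -(n : ℤ) := by omega
  rw [hidx] at h5
  have h7 : q ∈ Module.support A (Dual.inD A A ⟶ ω⟦-(n : ℤ)⟧) :=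
    Module.mem_support_mono hq₀q h5
  obtain ⟨d', δ', hd', hδ'⟩ := exists_dim_depth A ω hω A q
  have hdd : d' = d := by
    rw [hdq] at hd'
    exact_mod_cast hd'.symm
  subst hdd
  have h8 := range_of_mem_support A ω hω A q d' δ' hdq hδ' _ h7
  omega

end aux

/-- Affine form. Let k be a field and A a finitely generated k-algebra, equidimensional of Krull
dimension n, and let ω be a dualizing complex of A normalized at every maximal ideal m (no nonzero
morphisms A/m → ω[i] in D(A) for i ≠ 0 — the canonical dualizing complex of Spec A over k). Put Z_i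
= Supp H^{-i}(ω). Then H^{-i}(ω) = 0 for every i > n, and for every k′ ≥ 1: A satisfies (S_{k′}) if
and only if dim Z_i ≤ i − k′ for all i ≠ n, where for i < k′ this means H^{-i}(ω) = 0. -/
theorem result (k A : Type u) [Field k] [CommRing A]
    [Algebra k A] (hft : Algebra.FiniteType k A) [IsNoetherianRing A]
    (hEq : EGA4.IsEquidim A) (n : ℕ) (hd : ringKrullDim A = n)
    (ω : Dual.D A) (hω : Dual.IsDualizing A ω)
    (hnorm : ∀ (m : Ideal A) (_ : m.IsMaximal) (i : ℤ), i ≠ 0 → Subsingleton (Dual.inD A (A ⧸ m) ⟶ ω⟦i⟧)) :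
    (∀ i : ℕ, n < i → Subsingleton (Dual.HD A ω (-(i : ℤ)))) ∧
    ∀ k' : ℕ, 1 ≤ k' →
      (LocCoh.HasSk k' A A ↔
        ∀ i : ℕ, i ≠ n →
          (i < k' → Subsingleton (Dual.HD A ω (-(i : ℤ)))) ∧
          (k' ≤ i → Module.supportDim A (Dual.HD A ω (-(i : ℤ))) ≤ ((i - k' : ℕ) : WithBot ℕ∞))) := by
  classical
  have hsub : ∀ i : ℕ, n < i → Subsingleton (Dual.HD A ω (-(i : ℤ))) := by
    intro i hi
    by_contra hcon
    rw [not_subsingleton_iff_nontrivial] at hcon
    obtain ⟨p, hp⟩ := (Module.nonempty_support_iff (R := A)).mpr hcon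
    rw [← support_E_eq] at hp
    have := ge_of_mem_support A ω hω hnorm n hd p _ hp
    omega
  refine ⟨hsub, ?_⟩
  intro k' hk'
  rw [Groth.Agent.Lib.H29DualPrime.hasSk_iff_forall_skIneq]
  constructor
  · intro h i hi
    have key : ∀ p : PrimeSpectrum A, p ∈ Module.support A (Dual.HD A ω (-(i : ℤ))) →
        -Groth.Agent.Lib.H29DualPrime.degAt A ω hω p ≤ (i : ℤ) - (k' : ℤ) := by
      intro p hp
      rw [← support_E_eq] at hp
      obtain ⟨d, δ', hdp, hδ'⟩ := Groth.Agent.Lib.H29DualPrime.exists_dim_depth A ω hω A p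
      have r := Groth.Agent.Lib.H29DualPrime.range_of_mem_support A ω hω A p d δ' hdp hδ' _ hp
      have hdeq := dim_loc_eq A ω hω hnorm n hd hEq p d hdp
      have hsk := h p
      unfold Groth.Agent.Lib.H29DualPrime.SkIneq at hsk
      rw [hdp, hδ', min_le_iff] at hsk
      rcases hsk with hsk | hsk
      · have : k' ≤ δ' := by exact_mod_cast hsk
        omega
      · have : d ≤ δ' := by exact_mod_cast hsk
        omega
    constructor
    · intro hlt
      by_contra hcon
      rw [not_subsingleton_iff_nontrivial] at hcon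
      obtain ⟨p, hp⟩ := (Module.nonempty_support_iff (R := A)).mpr hcon
      have h1 := key p hp
      have h2 := degAt_nonpos_g A ω hω hnorm p
      omega
    · intro hle
      obtain ⟨c, hc⟩ : ∃ c : ℕ, c = i - k' := ⟨_, rfl⟩
      rw [← hc]
      by_contra hcon
      have hlt : ((c : ℕ) : WithBot ℕ∞) <
          Module.supportDim A (Dual.HD A ω (-(i : ℤ))) := not_le.mp hcon
      have hle' : ((c + 1 : ℕ) : WithBot ℕ∞) ≤
          Module.supportDim A (Dual.HD A ω (-(i : ℤ))) := by
        generalize Module.supportDim A (Dual.HD A ω (-(i : ℤ))) = x at hlt ⊢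
        induction x using WithBot.recBotCoe with
        | bot => simp at hlt
        | coe y =>
          have h1 : ((c : ℕ) : ℕ∞) < y := by exact_mod_cast hlt
          have h2 := Order.add_one_le_of_lt h1
          exact_mod_cast h2
      obtain ⟨P, hP, hPdim⟩ := Groth.Agent.Lib.H29CanonAss.exists_prime_of_le_supportDim
        (R := A) (Dual.HD A ω (-(i : ℤ))) _ hle'
      have h1 := key P hP
      rw [dim_quotient_eq_g A ω hω hnorm P] at hPdim
      have h3 : c + 1 ≤ (-Groth.Agent.Lib.H29DualPrime.degAt A ω hω P).toNat := by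
        exact_mod_cast hPdim
      omega
  · intro h q
    obtain ⟨d, δ', hdq, hδ'⟩ := Groth.Agent.Lib.H29DualPrime.exists_dim_depth A ω hω A q
    have hdeq := dim_loc_eq A ω hω hnorm n hd hEq q d hdq
    have h1 := Groth.Agent.Lib.H29DualPrime.mem_support_depth A ω hω A q δ' hδ'
    have hnp := degAt_nonpos_g A ω hω hnorm q
    unfold Groth.Agent.Lib.H29DualPrime.SkIneq
    rw [hdq, hδ', min_le_iff]
    obtain ⟨i, hi⟩ : ∃ i : ℕ, Groth.Agent.Lib.H29DualPrime.degAt A ω hω q - (δ' : ℤ) = -(i : ℤ) :=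
      ⟨((δ' : ℤ) - Groth.Agent.Lib.H29DualPrime.degAt A ω hω q).toNat, by omega⟩
    rw [hi, support_E_eq] at h1
    by_cases hin : i = n
    · right
      have : d ≤ δ' := by omega
      exact_mod_cast this
    · left
      obtain ⟨hA, hB⟩ := h i hin
      have hki : k' ≤ i := by
        by_contra hcon
        haveI := hA (by omega)
        rw [Module.mem_support_iff] at h1
        exact not_nontrivial _ h1
      have h2 := (Groth.Agent.Lib.DepthRees.ringKrullDim_quotient_le_supportDim q h1).trans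
        (hB hki)
      rw [dim_quotient_eq_g A ω hω hnorm q] at h2
      have h3 : (-Groth.Agent.Lib.H29DualPrime.degAt A ω hω q).toNat ≤ i - k' := by
        exact_mod_cast h2
      have : k' ≤ δ' := by omega
      exact_mod_cast this

end Groth.Agent.S18721
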