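import Groth.Statements.S18723
import Groth.Agent.S18720
import Groth.Agent.S18704

set_option autoImplicit false
universe u
open CategoryTheory
attribute [local instance] HasDerivedCategory.standard
open QGor

namespace Groth.Agent.S18723


open Groth.Agent.Lib.H47Reflexive

/-- `(S_1)` for `A` and `ht I ≥ 1` give `depth_I A ≥ 1`. -/
theorem one_le_idealDepth_self {A : Type u} [CommRing A] [IsNoetherianRing A]
    (hA : LocCoh.HasSk 1 A A) (I : Ideal A) (hI : 1 ≤ I.height) :
    1 ≤ LocCoh.idealDepth I A := by
  have key := Groth.Agent.S18699.le_idealDepth_of_forall_le_depth I 1 A ?_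
  · rwa [Nat.cast_one] at key
  intro p hp _
  rw [Nat.cast_one]
  have h1 := hA p.asIdeal
  have h2 : Module.supportDim (Localization.AtPrime p.asIdeal)
      (LocalizedModule p.asIdeal.primeCompl A) = ((p.asIdeal.height : ℕ∞) : WithBot ℕ∞) := by
    rw [Module.supportDim_eq_of_equiv (localizedSelfEquiv p.asIdeal),
      Module.supportDim_self_eq_ringKrullDim, IsLocalization.AtPrime.ringKrullDim_eq_height p.asIdeal]
  have h3 : (1 : ℕ∞) ≤ p.asIdeal.height := le_trans hI (Ideal.height_mono hp)
  have h4 : ((1 : ℕ) : WithBot ℕ∞) ≤ Module.supportDim (Localization.AtPrime p.asIdeal)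
      (LocalizedModule p.asIdeal.primeCompl A) := by
    rw [h2]
    exact WithBot.coe_le_coe.mpr (by exact_mod_cast h3)
  rw [min_eq_left h4] at h1
  have h5 : (((1 : ℕ) : ℕ∞) : WithBot ℕ∞) ≤ ((LocCoh.depth (Localization.AtPrime p.asIdeal)
      (LocalizedModule p.asIdeal.primeCompl A) : ℕ∞) : WithBot ℕ∞) := h1
  exact_mod_cast WithBot.coe_le_coe.mp h5

/-- depth bounds pass from the ring to a dual module, locally -/
theorem local_transfer_dual (A : Type u) [CommRing A] [IsNoetherianRing A]
    (X : Type u) [AddCommGroup X] [Module A X] [Module.Finite A X]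
    (p : Ideal A) [p.IsPrime] :
    (1 ≤ LocCoh.depth (Localization.AtPrime p) (LocalizedModule p.primeCompl A) →
      1 ≤ LocCoh.depth (Localization.AtPrime p)
        (LocalizedModule p.primeCompl (Module.Dual A X))) ∧
    (2 ≤ LocCoh.depth (Localization.AtPrime p) (LocalizedModule p.primeCompl A) →
      2 ≤ LocCoh.depth (Localization.AtPrime p)
        (LocalizedModule p.primeCompl (Module.Dual A X))) := by
  let e : LocalizedModule p.primeCompl (Module.Dual A X) ≃ₗ[Localization.AtPrime p]
      Module.Dual (Localization.AtPrime p) (LocalizedModule p.primeCompl X) :=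
    (IsLocalizedModule.linearEquiv p.primeCompl
      (LocalizedModule.mkLinearMap p.primeCompl (Module.Dual A X))
      (dualLoc p X)).extendScalarsOfIsLocalization p.primeCompl (Localization.AtPrime p)
  unfold LocCoh.depth
  constructor
  · intro h
    rw [one_le_idealDepth_iff] at h ⊢
    exact ((h.of_equiv (localizedSelfEquiv p).symm).linearMap
      (N := LocalizedModule p.primeCompl X)).of_equiv e
  · intro h
    rw [two_le_idealDepth_iff] at h ⊢
    have h1 := h.1.of_equiv (localizedSelfEquiv p).symm
    have h2 := h.2.of_equiv (localizedSelfEquiv p).symm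
    exact ⟨(h1.linearMap (N := LocalizedModule p.primeCompl X)).of_equiv e,
      (E1.linearMap (N := LocalizedModule p.primeCompl X) h1 h2).of_equiv e⟩

/-- the dual of a finite module over an `(S_2)` ring is `(S_2)` and has `depth_J ≥ 2` for
`ht J ≥ 2` -/
theorem dual_S2 (A : Type u) [CommRing A] [IsNoetherianRing A] (hA : LocCoh.HasSk 2 A A)
    (J : Ideal A) (hJ : 2 ≤ J.height)
    (X : Type u) [AddCommGroup X] [Module A X] [Module.Finite A X] :
    LocCoh.HasSk 2 A (Module.Dual A X) ∧ 2 ≤ LocCoh.idealDepth J (Module.Dual A X) := by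
  constructor
  · intro p _
    exact arith2 _ _ _ _ (supportDim_localizedModule_le p (Module.Dual A X))
      (local_transfer_dual A X p).1 (local_transfer_dual A X p).2 (hA p)
  · have hdA := Groth.Agent.S18704.two_le_idealDepth_self hA J hJ
    rw [two_le_idealDepth_iff] at hdA ⊢
    exact ⟨hdA.1.linearMap, E1.linearMap hdA.1 hdA.2⟩

/-- Affine-local form, with (2) for tensor powers m ≥ 0. Let A be a Noetherian local ring of Krull
dimension n with a dualizing complex ω, L = H⁰(ω), and J an ideal with ht J ≥ 2 (the closed set V(J)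
has codimension ≥ 2) such that off V(J) the complex ω is the invertible module L in degree 0: for
every prime p not containing J, H^i(ω)_p = 0 for i ≠ 0 and L_p is free of rank 1. (1) If A satisfies
(S₁), then ω is ordinary (A is equidimensional and ω[n] is normalized) and L is reflexive and
satisfies (S₂). (2) If A satisfies (S₂), then for every m ≥ 0 the double dual L^[m] of the m-th
tensor power of L satisfies (S₂) and depth_J L^[m] ≥ 2 (it is the module of sections of L^⊗m off
V(J)). -/
theorem result (A : Type u) [CommRing A] [IsNoetherianRing A]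
    [IsLocalRing A] (ω : Dual.D A) (hω : Dual.IsDualizing A ω) (n : ℕ) (hd : ringKrullDim A = n)
    (J : Ideal A) (hJ : 2 ≤ J.height)
    (hoff : ∀ p : PrimeSpectrum A, ¬ J ≤ p.asIdeal →
      (∀ i : ℤ, i ≠ 0 → p ∉ Module.support A (Dual.HD A ω i)) ∧
      Module.Free (Localization.AtPrime p.asIdeal) (LocalizedModule p.asIdeal.primeCompl (Dual.HD A ω 0)) ∧
      Module.finrank (Localization.AtPrime p.asIdeal) (LocalizedModule p.asIdeal.primeCompl (Dual.HD A ω 0)) = 1) :
    (LocCoh.HasSk 1 A A →
      (EGA4.IsEquidim A ∧ Dual.IsNormalized A (ω⟦(n : ℤ)⟧)) ∧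
      Module.IsReflexive A (Dual.HD A ω 0) ∧ LocCoh.HasSk 2 A (Dual.HD A ω 0)) ∧
    (LocCoh.HasSk 2 A A → ∀ m : ℕ,
      LocCoh.HasSk 2 A (Module.Dual A (Module.Dual A (TensorPower A m (Dual.HD A ω 0)))) ∧
      2 ≤ LocCoh.idealDepth J (Module.Dual A (Module.Dual A (TensorPower A m (Dual.HD A ω 0))))) := by
  constructor
  · intro hA1
    have hoff' : ∀ p : PrimeSpectrum A, ¬ J ≤ p.asIdeal → ∀ i : ℤ, i ≠ 0 →
        p ∉ Module.support A (Dual.HD A ω i) := fun p hp => (hoff p hp).1
    have hJ1 : 1 ≤ J.height := le_trans (by norm_num) hJ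
    obtain ⟨⟨heq, hnorm, hSk⟩, hdepth⟩ := Groth.Agent.S18720.result A ω hω n hd J hJ1 hoff'
    haveI := hω.finite_cohomology 0
    refine ⟨⟨heq, hnorm⟩, ?_, hSk⟩
    refine Groth.Agent.S18703.result A J (one_le_idealDepth_self hA1 J hJ1) (Dual.HD A ω 0) ?_
      (hdepth hJ)
    intro p hp
    obtain ⟨-, hfree, -⟩ := hoff p hp
    haveI hfin : Module.Finite (Localization.AtPrime p.asIdeal)
        (LocalizedModule p.asIdeal.primeCompl (Dual.HD A ω 0)) :=
      Module.Finite.of_isLocalizedModule p.asIdeal.primeCompl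
        (LocalizedModule.mkLinearMap p.asIdeal.primeCompl (Dual.HD A ω 0))
    exact @Module.IsReflexive.of_finite_of_free _ _ _ _ _ hfin hfree
  · intro hA2 m
    haveI := hω.finite_cohomology 0
    exact dual_S2 A hA2 J hJ (Module.Dual A (TensorPower A m (Dual.HD A ω 0)))

end Groth.Agent.S18723
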