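import Groth.Statements.S18724
import Groth.Agent.Lib.DepthRees
import Mathlib.RingTheory.Regular.Flat

set_option autoImplicit false
universe u
open QGor

namespace Groth.Agent.S18724

/-- Affine form. Let A be a Noetherian ring, M a finite A-module and I an ideal. Then depth_I M ≤
codim(V(I) ∩ Supp M, Supp M): for every prime p ⊇ I in the support of M, depth_I M ≤ dim Supp(M_p). -/
theorem result (A : Type u) [CommRing A] [IsNoetherianRing A]
    (M : Type u) [AddCommGroup M] [Module A M] [Module.Finite A M] (I : Ideal A)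
    (p : PrimeSpectrum A) (hIp : I ≤ p.asIdeal) (hp : p ∈ Module.support A M) :
    ((LocCoh.idealDepth I M : ℕ∞) : WithBot ℕ∞) ≤
      Module.supportDim (Localization.AtPrime p.asIdeal) (LocalizedModule p.asIdeal.primeCompl M) := by
  classical
  have hnt : Nontrivial (LocalizedModule p.asIdeal.primeCompl M) :=
    Module.mem_support_iff.mp hp
  -- `I M ≠ M`
  have hI : I • (⊤ : Submodule A M) ≠ ⊤ := by
    intro h
    obtain ⟨r, hr1, hr2⟩ := Submodule.exists_sub_one_mem_and_smul_eq_zero_of_fg_of_le_smul I
      (⊤ : Submodule A M) Module.Finite.fg_top h.ge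
    have hann : r ∈ Module.annihilator A M := by
      rw [Module.mem_annihilator]
      intro m
      exact hr2 m trivial
    rw [Module.support_eq_zeroLocus, PrimeSpectrum.mem_zeroLocus] at hp
    have hrp : r ∈ p.asIdeal := hp hann
    have h1 : (1 : A) ∈ p.asIdeal := by
      have := p.asIdeal.sub_mem hrp (hIp hr1)
      simpa using this
    exact p.isPrime.ne_top ((Ideal.eq_top_iff_one _).mpr h1)
  have hle : LocCoh.idealDepth I M ≤
      LocCoh.depth (Localization.AtPrime p.asIdeal) (LocalizedModule p.asIdeal.primeCompl M) := by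
    refine ENat.forall_natCast_le_iff_le.mp ?_
    intro n hn
    obtain ⟨rs, hlen, hmem, hreg⟩ :=
      (Groth.Agent.Lib.DepthRees.natCast_le_idealDepth_iff I M hI n).mp hn
    rw [Groth.Agent.Lib.DepthRees.natCast_le_depth_iff]
    refine ⟨rs.map (algebraMap A (Localization.AtPrime p.asIdeal)), by simp [hlen], ?_, ?_⟩
    · intro r hr
      obtain ⟨a, ha, rfl⟩ := List.mem_map.mp hr
      rw [IsLocalization.AtPrime.to_map_mem_maximal_iff (Localization.AtPrime p.asIdeal) p.asIdeal]
      exact hIp (hmem a ha)
    · exact RingTheory.Sequence.IsWeaklyRegular.of_isLocalizedModule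
        (Localization.AtPrime p.asIdeal) p.asIdeal.primeCompl
        (LocalizedModule.mkLinearMap p.asIdeal.primeCompl M) hreg
  calc ((LocCoh.idealDepth I M : ℕ∞) : WithBot ℕ∞)
      ≤ ((LocCoh.depth (Localization.AtPrime p.asIdeal)
          (LocalizedModule p.asIdeal.primeCompl M) : ℕ∞) : WithBot ℕ∞) := by
        exact_mod_cast hle
    _ ≤ _ := Groth.Agent.Lib.DepthRees.depth_le_supportDim _

end Groth.Agent.S18724
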