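import Groth.Statements.S1873
import Mathlib
import Groth.Agent.S6452
import Groth.Agent.Lib.IntMultDim7b
import Groth.Agent.Lib.RegularLocalKer
import Groth.Agent.Lib.H8CM6
import Groth.Agent.Lib.SmoothStalkRegular45
import Groth.Agent.Lib.StalkIdeal84
import Groth.Agent.Lib.RegSplit84

set_option autoImplicit false
universe u
open CategoryTheory AlgebraicGeometry
attribute [local instance] HasDerivedCategory.standard
open IntMult

namespace Groth.Agent.S1873

set_option maxHeartbeats 800000
set_option linter.style.haveILetI false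
attribute [local instance] HasDerivedCategory.standard
open IsLocalRing

/-- If the multiplicity of Z in the closed subscheme V ∩ W is 1, i.e. length_{O_{X,ξ}}(O_{V∩W,ξ}) = 1,
then e(X, V·W, Z) = 1 and the local rings O_{V,ξ}, O_{W,ξ} are regular (V and W are smooth at a
general point of Z). Here X is a nonsingular variety over an algebraically closed field K (smooth,
separated, of finite type, integral), V and W are closed subvarieties given by quasi-coherent ideal
sheaves with integral subschemes, of dimensions r and s with dim X = n, intersecting properly, and ξ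
is the generic point of an irreducible component Z of V ∩ W; e(X, V·W, Z) is the alternating sum of
lengths of Tor over O_{X,ξ}. -/
theorem result (K : Type u) [Field K] [IsAlgClosed K] (X : Scheme.{u}) (f : X ⟶ Spec (CommRingCat.of K)) [Smooth f] [IsSeparated f] [QuasiCompact f] [IsIntegral X] (IV IW : X.IdealSheafData) [IsIntegral IV.subscheme] [IsIntegral IW.subscheme] (n r s : ℕ) (hn : topologicalKrullDim X = n) (hr : topologicalKrullDim IV.support = r) (hs : topologicalKrullDim IW.support = s) (hprop : IntMult.ProperInt (IV.support : Set X) (IW.support : Set X) n r s) (ξ : X) (hξV : ξ ∈ IV.support) (hξW : ξ ∈ IW.support) (hmax : ∀ ξ' : X, ξ' ∈ IV.support → ξ' ∈ IW.support → ξ' ⤳ ξ → ξ' = ξ) (h1 : Module.length (X.presheaf.stalk ξ) (↑(X.presheaf.stalk ξ) ⧸ (IntMult.stalkIdeal IV ξ ⊔ IntMult.stalkIdeal IW ξ)) = 1) : IntMult.mult IV IW ξ = 1 ∧ IsRegularLocalRing (↑(X.presheaf.stalk ξ) ⧸ IntMult.stalkIdeal IV ξ) ∧ IsRegularLocalRing (↑(X.presheaf.stalk ξ) ⧸ IntMult.stalkIdeal IW ξ) := by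
  letI : X.Over (Spec (CommRingCat.of K)) := ⟨f⟩
  haveI : LocallyOfFiniteType (X ↘ Spec (CommRingCat.of K)) := by
    change LocallyOfFiniteType f
    infer_instance
  haveI hregA : IsRegularLocalRing (X.presheaf.stalk ξ) :=
    Groth.Agent.Lib.SmoothStalkRegular45.isRegularLocalRing_stalk_of_smooth_field K f ξ
  haveI hPprime := Groth.Agent.Lib.StalkIdeal84.isPrime_stalkIdeal IV ξ hξV
  haveI hQprime := Groth.Agent.Lib.StalkIdeal84.isPrime_stalkIdeal IW ξ hξW
  -- `P ⊔ Q = m`
  have hsup : IntMult.stalkIdeal IV ξ ⊔ IntMult.stalkIdeal IW ξ =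
      maximalIdeal (X.presheaf.stalk ξ) := by
    have hs1 := Module.length_eq_one_iff.mp h1
    have hco := isSimpleModule_iff_isCoatom.mp hs1
    exact IsLocalRing.eq_maximalIdeal (Ideal.isMaximal_def.mpr hco)
  obtain ⟨a, dV, dW, ha, hV, hW, hsum⟩ := Groth.Agent.Lib.IntMultDim7.exists_dims K X IV IW n r s
    hn hr hs hprop ξ hξV hξW
  obtain ⟨hregP, hregQ⟩ := Groth.Agent.Lib.RegSplit84.isRegularLocalRing_quotient_of_sup_eq
    (IntMult.stalkIdeal IV ξ) (IntMult.stalkIdeal IW ξ) hsup a dV dW ha hV hW hsum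
  refine ⟨?_, hregP, hregQ⟩
  -- the multiplicity
  obtain ⟨rs, hrs, hker⟩ := Groth.Agent.Lib.RegularLocalKer.exists_isRegular_ker_of_surjective
    (Ideal.Quotient.mk (IntMult.stalkIdeal IV ξ)) Ideal.Quotient.mk_surjective
  rw [Ideal.mk_ker] at hker
  have hg : IntMult.stalkIdeal IV ξ = Ideal.span (Set.range rs.get) := by
    rw [hker, Ideal.ofList, Set.range_list_get]
  have hreg : RingTheory.Sequence.IsRegular (↑(X.presheaf.stalk ξ)) (List.ofFn rs.get) := by
    rw [List.ofFn_get]; exact hrs
  have hCM : LocCoh.IsCohenMacaulayLocalRing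
      (↑(X.presheaf.stalk ξ) ⧸ IntMult.stalkIdeal IW ξ) :=
    Groth.Agent.Lib.H8CM.isCMLocalRing_of_isRegularLocalRing
  have hmain := Groth.Agent.S6452.main K X f IV IW n r s hn hr hs hprop ξ hξV hξW hmax
    rs.length rs.get hg hreg hCM
  rw [sup_comm, h1] at hmain
  simpa using hmain

end Groth.Agent.S1873
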