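import Groth.Statements.S18731
import Groth.Agent.Lib.EffCartier96

set_option autoImplicit false
universe u
open CategoryTheory CategoryTheory.Limits AlgebraicGeometry TopologicalSpace
open ModPair

namespace Groth.Agent.S18731

/-- If `I` and `J` are effective Cartier and `I ≤ J.comap f`, then `J.comap f` is effective Cartier. -/
theorem isEffCartierIdeal_comap_of_le {X Y : Scheme.{u}} (I : X.IdealSheafData)
    (J : Y.IdealSheafData) (hI : BlowUp.IsEffCartierIdeal I) (hJ : BlowUp.IsEffCartierIdeal J)
    (f : X ⟶ Y) (hle : I ≤ J.comap f) : BlowUp.IsEffCartierIdeal (J.comap f) := by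
  intro x
  obtain ⟨V, hyV, g, hg, hJg⟩ := hJ (f x)
  obtain ⟨W, hxW, hWle, h, hh, hIh⟩ :=
    Groth.Agent.Lib.EffCartier96.exists_generator_le I hI x (f ⁻¹ᵁ V.1) hyV
  have hcomap : (J.comap f).ideal W = Ideal.span {(f.appLE V.1 W.1 hWle).hom g} := by
    rw [Groth.Agent.Lib.IdealComap.ideal_comap J f V.1 V.2 W.1 W.2 hWle]
    change Ideal.map _ (J.ideal V) = _
    rw [hJg, Ideal.map_span, Set.image_singleton]
  refine ⟨W, hxW, (f.appLE V.1 W.1 hWle).hom g, ?_, hcomap⟩
  have hmem : h ∈ (J.comap f).ideal W := hle W (hIh ▸ Ideal.mem_span_singleton_self h)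
  rw [hcomap, Ideal.mem_span_singleton'] at hmem
  obtain ⟨a, ha⟩ := hmem
  rw [mem_nonZeroDivisors_iff_right]
  intro b hb
  refine mem_nonZeroDivisors_iff_right.mp hh b ?_
  rw [← ha, mul_left_comm, hb, mul_zero]

/-- Let I on X and J on Y be quasi-coherent ideal sheaves of effective Cartier divisors and f : X ⟶ Y a
morphism satisfying the modulus condition I ≤ J.comap f (the closed subscheme J ×_Y X of X lies
inside the closed subscheme cut out by I). Then the pull-back of the divisor of J along f is
defined: J.comap f is the ideal sheaf of an effective Cartier divisor on X. -/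
theorem result {X Y : Scheme.{u}} (I : X.IdealSheafData)
    (J : Y.IdealSheafData) (hI : BlowUp.IsEffCartierIdeal I) (hJ : BlowUp.IsEffCartierIdeal J)
    (f : X ⟶ Y) (hf : ModPair.IsAmbient I J f) : BlowUp.IsEffCartierIdeal (J.comap f) := by
  exact isEffCartierIdeal_comap_of_le I J hI hJ f hf

end Groth.Agent.S18731
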