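import Groth.Statements.S18733
import Groth.Agent.Lib.IdealColon68

set_option autoImplicit false
universe u
open CategoryTheory CategoryTheory.Limits AlgebraicGeometry TopologicalSpace
open ModPair

namespace Groth.Agent.S18733


/-- If `A ⊔ B = (e)` with `e` a nonzerodivisor, `(A : e) ⊔ (B : e) = ⊤`. -/
theorem exists_add_eq_one {R : Type*} [CommRing R] (e : R) (he : e ∈ nonZeroDivisors R) (A B : Ideal R)
    (h : A ⊔ B = Ideal.span {e}) :
    ∃ α β : R, α ∈ A.colon ((Ideal.span {e} : Ideal R) : Set R) ∧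
      β ∈ B.colon ((Ideal.span {e} : Ideal R) : Set R) ∧ α + β = 1 := by
  have hmem : e ∈ A ⊔ B := h ▸ Ideal.mem_span_singleton_self e
  obtain ⟨a, ha, b, hb, hab⟩ := Submodule.mem_sup.1 hmem
  obtain ⟨α, hα⟩ := Ideal.mem_span_singleton'.1 (h ▸ (le_sup_left : A ≤ A ⊔ B) ha)
  obtain ⟨β, hβ⟩ := Ideal.mem_span_singleton'.1 (h ▸ (le_sup_right : B ≤ A ⊔ B) hb)
  refine ⟨α, β, ?_, ?_, ?_⟩
  · rw [Ideal.mem_colon_span_singleton, hα]; exact ha
  · rw [Ideal.mem_colon_span_singleton, hβ]; exact hb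
  · have h0 : (α + β - 1) * e = 0 := by rw [sub_mul, add_mul, hα, hβ, hab, one_mul, sub_self]
    exact sub_eq_zero.1 (mem_nonZeroDivisors_iff_right.1 he _ h0)

theorem colon_sup_colon_eq_top {R : Type*} [CommRing R] (e : R) (he : e ∈ nonZeroDivisors R)
    (A B : Ideal R) (h : A ⊔ B = Ideal.span {e}) :
    A.colon ((Ideal.span {e} : Ideal R) : Set R) ⊔ B.colon ((Ideal.span {e} : Ideal R) : Set R) = ⊤ := by
  obtain ⟨α, β, hα, hβ, hαβ⟩ := exists_add_eq_one e he A B h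
  rw [Ideal.eq_top_iff_one, ← hαβ]
  exact Submodule.add_mem_sup hα hβ

theorem inf_le_colon_mul {R : Type*} [CommRing R] (e : R) (he : e ∈ nonZeroDivisors R)
    (A B : Ideal R) (h : A ⊔ B = Ideal.span {e}) :
    A ⊓ B ≤ A.colon ((Ideal.span {e} : Ideal R) : Set R) *
      B.colon ((Ideal.span {e} : Ideal R) : Set R) * Ideal.span {e} := by
  obtain ⟨α, β, hα, hβ, hαβ⟩ := exists_add_eq_one e he A B h
  intro x hx
  obtain ⟨ξ, hξ⟩ := Ideal.mem_span_singleton'.1 (h ▸ (le_sup_left : A ≤ A ⊔ B) hx.1)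
  have hξA : ξ ∈ A.colon ((Ideal.span {e} : Ideal R) : Set R) := by
    rw [Ideal.mem_colon_span_singleton, hξ]; exact hx.1
  have hξB : ξ ∈ B.colon ((Ideal.span {e} : Ideal R) : Set R) := by
    rw [Ideal.mem_colon_span_singleton, hξ]; exact hx.2
  rw [← hξ]
  refine Ideal.mul_mem_mul ?_ (Ideal.mem_span_singleton_self e)
  have : ξ = α * ξ + ξ * β := by
    calc ξ = (α + β) * ξ := by rw [hαβ, one_mul]
      _ = α * ξ + ξ * β := by ring
  rw [this]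
  exact Ideal.add_mem _ (Ideal.mul_mem_mul hα hξB) (Ideal.mul_mem_mul hξA hβ)

/-- Let D₁, D₂ be effective Cartier divisors on a scheme X, with quasi-coherent ideal sheaves I₁, I₂,
such that the scheme-theoretic intersection E = D₁ ×_X D₂ (ideal sheaf I₁ ⊔ I₂) is again an
effective Cartier divisor. Then (1) the divisors D₁ − E and D₂ − E are effective and disjoint: there
are ideal sheaves I₁', I₂' of effective Cartier divisors with I₁ = I₁'·(I₁ ⊔ I₂), I₂ = I₂'·(I₁ ⊔ I₂)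
and I₁' ⊔ I₂' = ⊤; and (2) the effective Cartier divisor D₁ + D₂ − E, with ideal sheaf I₁'·I₂'·(I₁ ⊔
I₂), is contained in every effective Cartier divisor D of X containing D₁ and D₂: if the ideal sheaf
of D is ≤ I₁ and ≤ I₂ then it is ≤ I₁'·I₂'·(I₁ ⊔ I₂). -/
theorem result {X : Scheme.{u}} (I₁ I₂ : X.IdealSheafData)
    (h₁ : BlowUp.IsEffCartierIdeal I₁) (h₂ : BlowUp.IsEffCartierIdeal I₂)
    (hE : BlowUp.IsEffCartierIdeal (I₁ ⊔ I₂)) :
    ∃ I₁' I₂' : X.IdealSheafData, BlowUp.IsEffCartierIdeal I₁' ∧ BlowUp.IsEffCartierIdeal I₂' ∧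
      I₁ = I₁' * (I₁ ⊔ I₂) ∧ I₂ = I₂' * (I₁ ⊔ I₂) ∧ I₁' ⊔ I₂' = ⊤ ∧
      ∀ D : X.IdealSheafData, BlowUp.IsEffCartierIdeal D → D ≤ I₁ → D ≤ I₂ →
        D ≤ I₁' * I₂' * (I₁ ⊔ I₂) := by
  have hEfg := Groth.Agent.Lib.IdealColon68.isFiniteTypeIdeal_of_isEffCartier (I₁ ⊔ I₂) hE
  obtain ⟨hc₁, he₁⟩ := Groth.Agent.Lib.IdealColon68.exists_mul_eq_of_le I₁ (I₁ ⊔ I₂) h₁ hE le_sup_left
  obtain ⟨hc₂, he₂⟩ := Groth.Agent.Lib.IdealColon68.exists_mul_eq_of_le I₂ (I₁ ⊔ I₂) h₂ hE le_sup_right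
  -- local principal generator of `I₁ ⊔ I₂`
  have key : ∀ (U : X.affineOpens) (x : X), x ∈ U.1 → ∃ f : Γ(X, U.1), x ∈ X.basicOpen f ∧
      ∃ e : Γ(X, (X.affineBasicOpen f).1), e ∈ nonZeroDivisors Γ(X, (X.affineBasicOpen f).1) ∧
        I₁.ideal (X.affineBasicOpen f) ⊔ I₂.ideal (X.affineBasicOpen f) = Ideal.span {e} := by
    intro U x hx
    obtain ⟨f, hxf, h⟩ := Groth.Agent.Lib.IdealColon68.exists_basicOpen_forall_principal
      (fun _ : Unit => I₁ ⊔ I₂) (fun _ => hE) U x hx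
    obtain ⟨e, he, hEe⟩ := h ()
    refine ⟨f, hxf, e, he, ?_⟩
    rw [← hEe, Scheme.IdealSheafData.ideal_sup, Pi.sup_apply]
  refine ⟨Groth.Agent.Lib.IdealColon68.colon I₁ (I₁ ⊔ I₂) hEfg,
    Groth.Agent.Lib.IdealColon68.colon I₂ (I₁ ⊔ I₂) hEfg, hc₁, hc₂, he₁, he₂, ?_, ?_⟩
  · apply Groth.Agent.Lib.IdealColon68.eq_of_forall_exists_basicOpen
    intro U x hx
    obtain ⟨f, hxf, e, he, hsup⟩ := key U x hx
    refine ⟨f, hxf, ?_⟩
    rw [Scheme.IdealSheafData.ideal_sup, Pi.sup_apply, Groth.Agent.Lib.IdealColon68.ideal_colon,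
      Groth.Agent.Lib.IdealColon68.ideal_colon, Scheme.IdealSheafData.ideal_sup, Pi.sup_apply, hsup,
      Scheme.IdealSheafData.ideal_top, Pi.top_apply]
    exact colon_sup_colon_eq_top e he _ _ hsup
  · intro D _ hD₁ hD₂ U
    apply Groth.Agent.Lib.IdealExt68.ideal_le_of_forall_exists_basicOpen
    intro x hx
    obtain ⟨f, hxf, e, he, hsup⟩ := key U x hx
    refine ⟨f, hxf, ?_⟩
    rw [Scheme.IdealSheafData.ideal_mul, Pi.mul_apply, Scheme.IdealSheafData.ideal_mul, Pi.mul_apply,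
      Groth.Agent.Lib.IdealColon68.ideal_colon, Groth.Agent.Lib.IdealColon68.ideal_colon,
      Scheme.IdealSheafData.ideal_sup, Pi.sup_apply, hsup]
    exact (le_inf (hD₁ _) (hD₂ _)).trans (inf_le_colon_mul e he _ _ hsup)

end Groth.Agent.S18733
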