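import Groth.Statements.S18734
import Mathlib
import Groth.Agent.Lib.H56ValFib
import Groth.Agent.Lib.H30FibBC
import Groth.Agent.Lib.H86RelDimZero
import Groth.Agent.Lib.EquidimOpen

set_option autoImplicit false
universe u
open CategoryTheory CategoryTheory.Limits AlgebraicGeometry TopologicalSpace
open ModPair

namespace Groth.Agent.S18734

open Groth.Agent.Lib.H56OpenDim Groth.Agent.Lib.H56ValTrdeg

/-- Let R be a valuation ring with fraction field K and f : Y ⟶ Spec R a morphism of schemes which is
flat, proper and generically finite (the generic fibre Y ×_{Spec R} Spec K ⟶ Spec K is a finite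
morphism). Then f is finite. No finite-presentation hypothesis is assumed. -/
theorem result {R : Type u} [CommRing R]
    [IsDomain R] [ValuationRing R] {Y : Scheme.{u}} (f : Y ⟶ Spec (CommRingCat.of R)) [Flat f] [IsProper f]
    (hgen : IsFinite (pullback.snd f
      (Spec.map (CommRingCat.ofHom (algebraMap R (FractionRing R)))))) :
    IsFinite f := by
  have key : ∀ w : Y, tdeg f w = 0 := by
    intro w
    obtain ⟨ξ, hξ, hξw⟩ := Groth.Agent.Lib.EquidimOpen.exists_max_generization w
    let η : Spec (CommRingCat.of R) := (⟨⊥, Ideal.isPrime_bot⟩ : PrimeSpectrum R)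
    have hη : η ⤳ f ξ := by
      change (⟨⊥, Ideal.isPrime_bot⟩ : PrimeSpectrum R) ⤳ _
      rw [← PrimeSpectrum.le_iff_specializes]
      exact bot_le
    have hfξ : f ξ = η := by
      obtain ⟨ξ', hξ', hfξ'⟩ := (Flat.generalizingMap f) hη
      rw [← hfξ', hξ ξ' hξ']
    have h1 : tdeg f w ≤ tdeg f ξ := tdeg_le_of_specializes_Spec R f w ξ hξw
    -- the generic fibre is finite
    let j : Spec (CommRingCat.of (FractionRing R)) ⟶ Spec (CommRingCat.of R) :=
      Spec.map (CommRingCat.ofHom (algebraMap R (FractionRing R)))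
    let t : Spec (CommRingCat.of (FractionRing R)) :=
      (⟨⊥, Ideal.isPrime_bot⟩ : PrimeSpectrum (FractionRing R))
    have hjt : j t = η := by
      apply PrimeSpectrum.ext
      change Ideal.comap (algebraMap R (FractionRing R)) ⊥ = ⊥
      rw [← RingHom.ker_eq_comap_bot]
      exact (RingHom.injective_iff_ker_eq_bot _).mp (IsFractionRing.injective R (FractionRing R))
    obtain ⟨ξ₀, hξ₀1, hξ₀2⟩ := Scheme.Pullback.exists_preimage_pullback (f := f) (g := j) ξ t
      (hfξ.trans hjt.symm)
    have hbc := Groth.Agent.Lib.H30FibBC.fibreDimAt_eq_of_isPullback f j (pullback.fst f j)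
      (pullback.snd f j) (IsPullback.of_hasPullback f j) ξ₀
    rw [hξ₀1] at hbc
    have hqf : (pullback.snd f j).QuasiFiniteAt ξ₀ := (pullback.snd f j).quasiFiniteAt ξ₀
    rw [← Groth.Agent.Lib.H86RelDimZero.fibreDimAt_eq_zero_iff] at hqf
    have h2 := tdeg_le_fibreDimAt f ξ
    rw [← hbc, hqf] at h2
    have h3 : tdeg f ξ ≤ 0 := by exact_mod_cast h2
    omega
  have hlqf : LocallyQuasiFinite f := by
    rw [← Scheme.Hom.quasiFiniteLocus_eq_top_iff]
    refine top_le_iff.mp fun y _ => ?_
    rw [Scheme.Hom.mem_quasiFiniteLocus, ← Groth.Agent.Lib.H86RelDimZero.fibreDimAt_eq_zero_iff]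
    obtain ⟨w, -, -, -, hw⟩ := exists_maxInFibre_fibreDimAt_eq f y
    rw [hw, key w]
    rfl
  exact IsFinite.of_isProper_of_locallyQuasiFinite f

end Groth.Agent.S18734
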