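import Groth.Statements.S18735
import Groth.Agent.Lib.ModPairProd68
import Mathlib.AlgebraicGeometry.Morphisms.Proper

set_option autoImplicit false
universe u
open CategoryTheory CategoryTheory.Limits AlgebraicGeometry TopologicalSpace
open ModPair

namespace Groth.Agent.S18735

open Groth.Agent.Lib.ModPairProd68

/-- Let (S, I_S), (T, I_T), (X, I_X) be schemes equipped with quasi-coherent ideal sheaves of effective
Cartier divisors, g : T ⟶ S a morphism satisfying the modulus condition I_T ≤ I_S.comap g, and s : X
⟶ S an abstract admissible blow-up (I_X = I_S.comap s, s proper and an isomorphism over the open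
complement of the support of I_S). Let Y be the scheme-theoretic image in X ×_S T of the open
pr₁⁻¹(X°) ∩ pr₂⁻¹(T°), where X°, T° are the open complements of the supports of I_X, I_T, with
projections q : Y ⟶ T and r : Y ⟶ X. Then I_T.comap q is the ideal sheaf of an effective Cartier
divisor on Y, q is an abstract admissible blow-up from (Y, I_T.comap q) to (T, I_T), and r satisfies
the modulus condition from (Y, I_T.comap q) to (X, I_X). -/
theorem result {S T X : Scheme.{u}} (IS : S.IdealSheafData)
    (IT : T.IdealSheafData) (IX : X.IdealSheafData) (hS : BlowUp.IsEffCartierIdeal IS)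
    (hT : BlowUp.IsEffCartierIdeal IT) (hX : BlowUp.IsEffCartierIdeal IX)
    (g : T ⟶ S) (hg : ModPair.IsAmbient IT IS g) (s : X ⟶ S) (hs : ModPair.IsAdmBlowup IX IS s) :
    BlowUp.IsEffCartierIdeal (IT.comap (ModPair.mprodι s g IX IT ≫ pullback.snd s g)) ∧
      ModPair.IsAdmBlowup (IT.comap (ModPair.mprodι s g IX IT ≫ pullback.snd s g)) IT
        (ModPair.mprodι s g IX IT ≫ pullback.snd s g) ∧
      ModPair.IsAmbient (IT.comap (ModPair.mprodι s g IX IT ≫ pullback.snd s g)) IX
        (ModPair.mprodι s g IX IT ≫ pullback.fst s g) := by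
  obtain ⟨hsmin, hsprop, hsiso⟩ := hs
  have hg' : IT ≤ IS.comap g := hg
  have hsmin' : IX = IS.comap s := hsmin
  -- the open `prodInterior` is `pr₂⁻¹(T°)`
  have hOeq : ModPair.prodInterior s g IX IT = pullback.snd s g ⁻¹ᵁ ModPair.interior IT := by
    apply le_antisymm inf_le_right
    refine le_inf ?_ le_rfl
    intro z hz
    have h1 : (pullback.snd s g).base z ∈ g ⁻¹ᵁ ModPair.interior IS :=
      interior_le_preimage_of_isAmbient IT IS g hg hz
    rw [interior_eq_preimage_of_isMinimal IX IS s hsmin]
    show s.base ((pullback.fst s g).base z) ∈ ModPair.interior IS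
    rw [← Scheme.Hom.comp_apply, pullback.condition, Scheme.Hom.comp_apply]
    exact h1
  have hqc : QuasiCompact (ModPair.prodInterior s g IX IT).ι := by
    rw [hOeq]
    exact Groth.Agent.Lib.EffCartier68.quasiCompact_preimage_interior_ι IT hT _
  have hcomm : (ModPair.mprodι s g IX IT ≫ pullback.fst s g) ≫ s =
      (ModPair.mprodι s g IX IT ≫ pullback.snd s g) ≫ g := by
    rw [Category.assoc, Category.assoc, pullback.condition]
  have htoIm : (ModPair.prodInterior s g IX IT).ι.toImage ≫ ModPair.mprodι s g IX IT =
      (ModPair.prodInterior s g IX IT).ι := Scheme.Hom.toImage_imageι _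
  have hrange : Set.range (ModPair.prodInterior s g IX IT).ι.toImage.base =
      (ModPair.mprodι s g IX IT ≫ pullback.snd s g).base ⁻¹' (ModPair.interior IT : Set T) := by
    ext y
    constructor
    · rintro ⟨z, rfl⟩
      show (ModPair.mprodι s g IX IT ≫ pullback.snd s g).base
        ((ModPair.prodInterior s g IX IT).ι.toImage.base z) ∈ ModPair.interior IT
      rw [← Scheme.Hom.comp_apply, ← Category.assoc, htoIm, Scheme.Hom.comp_apply]
      exact z.2.2
    · intro hy
      have hy' : (ModPair.mprodι s g IX IT).base y ∈ ModPair.prodInterior s g IX IT := by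
        rw [hOeq]
        show (pullback.snd s g).base ((ModPair.mprodι s g IX IT).base y) ∈ ModPair.interior IT
        rw [← Scheme.Hom.comp_apply]
        exact hy
      refine ⟨⟨_, hy'⟩, ?_⟩
      apply (ModPair.mprodι s g IX IT).isClosedEmbedding.injective
      rw [← Scheme.Hom.comp_apply, htoIm]
      rfl
  refine ⟨?_, ⟨rfl, inferInstance, ?_⟩, ?_⟩
  · -- effective Cartier
    have hdom : IsSchemeTheoreticallyDominant
        ((ModPair.mprodι s g IX IT ≫ pullback.snd s g) ⁻¹ᵁ ModPair.interior IT).ι := by
      apply isSchemeTheoreticallyDominant_of_range_toImage_subset (ModPair.prodInterior s g IX IT).ι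
      rw [hrange]
      rfl
    exact Groth.Agent.Lib.EffCartier68.isEffCartierIdeal_comap_of_dominant IT hT _
  · -- isomorphism over the interior of `T`
    have hiso : IsIso (pullback.snd s g ∣_ (g ⁻¹ᵁ ModPair.interior IS)) :=
      isIso_snd_morphismRestrict s g (ModPair.interior IS)
    have hTV : ModPair.interior IT ≤ g ⁻¹ᵁ ModPair.interior IS :=
      interior_le_preimage_of_isAmbient IT IS g hg
    have hOV : ModPair.prodInterior s g IX IT ≤
        pullback.snd s g ⁻¹ᵁ (g ⁻¹ᵁ ModPair.interior IS) := by
      rw [hOeq]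
      intro z hz
      exact hTV hz
    have hfac : (ModPair.prodInterior s g IX IT).ι ≫ pullback.snd s g =
        (pullback s g).homOfLE hOV ≫ (pullback.snd s g ∣_ (g ⁻¹ᵁ ModPair.interior IS)) ≫
          (g ⁻¹ᵁ ModPair.interior IS).ι := by
      rw [morphismRestrict_ι, ← Category.assoc, Scheme.homOfLE_ι]
    have hoi : IsOpenImmersion ((ModPair.prodInterior s g IX IT).ι.toImage ≫
        ModPair.mprodι s g IX IT ≫ pullback.snd s g) := by
      rw [← Category.assoc, htoIm, hfac]
      infer_instance
    refine isIso_morphismRestrict_of_chart _ _ (ModPair.prodInterior s g IX IT).ι.toImage hrange ?_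
    rw [← Category.assoc, htoIm]
    ext t
    constructor
    · rintro ⟨z, rfl⟩
      rw [Scheme.Hom.comp_apply]
      exact z.2.2
    · intro ht
      have htV : t ∈ g ⁻¹ᵁ ModPair.interior IS := hTV ht
      have hsurj : Function.Surjective
          (pullback.snd s g ∣_ (g ⁻¹ᵁ ModPair.interior IS)).base :=
        (TopCat.homeoOfIso (asIso (pullback.snd s g ∣_ (g ⁻¹ᵁ ModPair.interior IS)).base)).surjective
      obtain ⟨z', hz'⟩ := hsurj ⟨t, htV⟩
      have hz'' : (pullback.snd s g).base z'.1 = t := by
        have h1 := congrArg (g ⁻¹ᵁ ModPair.interior IS).ι.base hz'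
        rw [← Scheme.Hom.comp_apply, morphismRestrict_ι, Scheme.Hom.comp_apply] at h1
        exact h1
      have hzO : z'.1 ∈ ModPair.prodInterior s g IX IT := by
        rw [hOeq]
        show (pullback.snd s g).base z'.1 ∈ ModPair.interior IT
        rw [hz'']
        exact ht
      refine ⟨⟨z'.1, hzO⟩, ?_⟩
      rw [Scheme.Hom.comp_apply]
      exact hz''
  · -- the modulus condition for `r`
    show IT.comap (ModPair.mprodι s g IX IT ≫ pullback.snd s g) ≤
      IX.comap (ModPair.mprodι s g IX IT ≫ pullback.fst s g)
    generalize ModPair.mprodι s g IX IT ≫ pullback.fst s g = r at hcomm ⊢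
    generalize ModPair.mprodι s g IX IT ≫ pullback.snd s g = q at hcomm ⊢
    have h1 : IX.comap r = (IS.comap s).comap r := congrArg (fun K => K.comap r) hsmin'
    rw [h1, ← Scheme.IdealSheafData.comap_comp, hcomm, Scheme.IdealSheafData.comap_comp]
    exact Scheme.IdealSheafData.comap_mono _ hg'

end Groth.Agent.S18735
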