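import Groth.Statements.S18736
import Groth.Agent.Lib.ModPairProd68

set_option autoImplicit false
universe u
open CategoryTheory CategoryTheory.Limits AlgebraicGeometry TopologicalSpace
open ModPair

namespace Groth.Agent.S18736

open Groth.Agent.Lib.ModPairProd68

/-- With the minimal-case product: let (S, I_S), (T, I_T), (X, I_X) be schemes equipped with
quasi-coherent ideal sheaves of effective Cartier divisors, p : X ⟶ S a morphism satisfying the
modulus condition I_X ≤ I_S.comap p, and f : T ⟶ S a minimal morphism, I_T = I_S.comap f. Let Y be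
the scheme-theoretic image in X ×_S T of the open pr₁⁻¹(X°) ∩ pr₂⁻¹(T°) (X°, T° the open complements
of the supports of I_X, I_T), with projections r : Y ⟶ X and q : Y ⟶ T, and put I_Y := I_X.comap r.
Then I_Y is the ideal sheaf of an effective Cartier divisor, q satisfies the modulus condition I_Y ≤
I_T.comap q, and (Y, I_Y) with q and r is the fibre product of (T, I_T) and (X, I_X) over (S, I_S)
among modulus pairs and morphisms satisfying the modulus condition: for every scheme W with the
ideal sheaf I_W of an effective Cartier divisor and morphisms a : W ⟶ T, b : W ⟶ X with I_W ≤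
I_T.comap a, I_W ≤ I_X.comap b and a ≫ f = b ≫ p, there is a unique c : W ⟶ Y with c ≫ q = a, c ≫ r
= b and I_W ≤ I_Y.comap c. -/
theorem result {S T X : Scheme.{u}} (IS : S.IdealSheafData)
    (IT : T.IdealSheafData) (IX : X.IdealSheafData) (hS : BlowUp.IsEffCartierIdeal IS)
    (hT : BlowUp.IsEffCartierIdeal IT) (hX : BlowUp.IsEffCartierIdeal IX)
    (p : X ⟶ S) (hp : ModPair.IsAmbient IX IS p) (f : T ⟶ S) (hf : ModPair.IsMinimal IT IS f) :
    BlowUp.IsEffCartierIdeal (IX.comap (ModPair.mprodι p f IX IT ≫ pullback.fst p f)) ∧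
      ModPair.IsAmbient (IX.comap (ModPair.mprodι p f IX IT ≫ pullback.fst p f)) IT
        (ModPair.mprodι p f IX IT ≫ pullback.snd p f) ∧
      ∀ (W : Scheme.{u}) (IW : W.IdealSheafData), BlowUp.IsEffCartierIdeal IW →
        ∀ (a : W ⟶ T) (b : W ⟶ X), ModPair.IsAmbient IW IT a → ModPair.IsAmbient IW IX b →
          a ≫ f = b ≫ p →
          ∃! c : W ⟶ ModPair.mprod p f IX IT,
            c ≫ ModPair.mprodι p f IX IT ≫ pullback.snd p f = a ∧
              c ≫ ModPair.mprodι p f IX IT ≫ pullback.fst p f = b ∧
              ModPair.IsAmbient IW (IX.comap (ModPair.mprodι p f IX IT ≫ pullback.fst p f)) c := by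
  have hp' : IX ≤ IS.comap p := hp
  have hf' : IT = IS.comap f := hf
  -- the open `prodInterior` is `pr₁⁻¹(X°)`
  have hOeq : ModPair.prodInterior p f IX IT = pullback.fst p f ⁻¹ᵁ ModPair.interior IX := by
    apply le_antisymm inf_le_left
    refine le_inf le_rfl ?_
    intro z hz
    have h1 : (pullback.fst p f).base z ∈ p ⁻¹ᵁ ModPair.interior IS :=
      interior_le_preimage_of_isAmbient IX IS p hp hz
    rw [interior_eq_preimage_of_isMinimal IT IS f hf]
    show f.base ((pullback.snd p f).base z) ∈ ModPair.interior IS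
    rw [← Scheme.Hom.comp_apply, ← pullback.condition, Scheme.Hom.comp_apply]
    exact h1
  have hqc : QuasiCompact (ModPair.prodInterior p f IX IT).ι := by
    rw [hOeq]
    exact Groth.Agent.Lib.EffCartier68.quasiCompact_preimage_interior_ι IX hX _
  have hcomm : (ModPair.mprodι p f IX IT ≫ pullback.fst p f) ≫ p =
      (ModPair.mprodι p f IX IT ≫ pullback.snd p f) ≫ f := by
    rw [Category.assoc, Category.assoc, pullback.condition]
  refine ⟨?_, ?_, ?_⟩
  · -- effective Cartier
    have hdom : IsSchemeTheoreticallyDominant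
        ((ModPair.mprodι p f IX IT ≫ pullback.fst p f) ⁻¹ᵁ ModPair.interior IX).ι := by
      apply isSchemeTheoreticallyDominant_of_range_toImage_subset (ModPair.prodInterior p f IX IT).ι
      rintro _ ⟨z, rfl⟩
      show (ModPair.mprodι p f IX IT ≫ pullback.fst p f).base
        ((ModPair.prodInterior p f IX IT).ι.toImage.base z) ∈ ModPair.interior IX
      rw [← Scheme.Hom.comp_apply, ← Category.assoc]
      have : (ModPair.prodInterior p f IX IT).ι.toImage ≫ ModPair.mprodι p f IX IT =
          (ModPair.prodInterior p f IX IT).ι := Scheme.Hom.toImage_imageι _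
      rw [this, Scheme.Hom.comp_apply]
      exact z.2.1
    exact Groth.Agent.Lib.EffCartier68.isEffCartierIdeal_comap_of_dominant IX hX _
  · -- the modulus condition for `q`
    show IX.comap (ModPair.mprodι p f IX IT ≫ pullback.fst p f) ≤
      IT.comap (ModPair.mprodι p f IX IT ≫ pullback.snd p f)
    generalize ModPair.mprodι p f IX IT ≫ pullback.fst p f = r at hcomm ⊢
    generalize ModPair.mprodι p f IX IT ≫ pullback.snd p f = q at hcomm ⊢
    have h1 : IT.comap q = (IS.comap f).comap q := congrArg (fun K => K.comap q) hf'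
    rw [h1, ← Scheme.IdealSheafData.comap_comp, ← hcomm, Scheme.IdealSheafData.comap_comp]
    exact Scheme.IdealSheafData.comap_mono _ hp'
  · -- universal property
    intro W IW hW a b ha hb hab
    obtain ⟨c, ⟨hc1, hc2⟩, hcu⟩ := existsUnique_lift_mprod p f IX IT IW hW b a hb ha hab.symm
    refine ⟨c, ⟨hc2, hc1, ?_⟩, ?_⟩
    · show IW ≤ (IX.comap (ModPair.mprodι p f IX IT ≫ pullback.fst p f)).comap c
      rw [← Scheme.IdealSheafData.comap_comp, hc1]
      exact hb
    · rintro c' ⟨h1, h2, -⟩
      exact hcu c' ⟨h2, h1⟩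

end Groth.Agent.S18736
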