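import Groth.Statements.S18737
import Groth.Agent.Lib.ModPairClosure68
import Mathlib.AlgebraicGeometry.Morphisms.Finite
import Mathlib.AlgebraicGeometry.Morphisms.IsIso
import Mathlib.AlgebraicGeometry.Morphisms.OpenImmersion

set_option autoImplicit false
universe u
open CategoryTheory CategoryTheory.Limits AlgebraicGeometry TopologicalSpace
open ModPair

namespace Groth.Agent.S18737

open Groth.Agent.Lib.ModPairClosure68

/-- A clopen piece of an open is closed-immersed in it. -/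
theorem isClosedImmersion_homOfLE {X : Scheme.{u}} (U₀ U₁ U : X.Opens) (hU : U₀ ⊔ U₁ = U)
    (hd : Disjoint U₀ U₁) (h₀ : U₀ ≤ U) : IsClosedImmersion (X.homOfLE h₀) := by
  apply IsClosedImmersion.of_isPreimmersion
  have hr : Set.range (X.homOfLE h₀).base = (U.ι ⁻¹ᵁ U₁ : Set U)ᶜ := by
    ext u
    constructor
    · rintro ⟨v, rfl⟩ hv
      have h1 : U.ι.base ((X.homOfLE h₀).base v) = U₀.ι.base v := by
        rw [← Scheme.Hom.comp_apply, Scheme.homOfLE_ι]
      have h2 : U.ι.base ((X.homOfLE h₀).base v) ∈ U₁ := hv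
      rw [h1] at h2
      have h3 : U₀.ι.base v ∈ U₀ ⊓ U₁ := ⟨v.2, h2⟩
      rw [hd.eq_bot] at h3
      exact h3
    · intro hu
      have hu1 : u.1 ∉ U₁ := hu
      have hu' : u.1 ∈ U₀ ⊔ U₁ := hU ▸ u.2
      rcases hu' with h | h
      · refine ⟨⟨u.1, h⟩, ?_⟩
        apply U.ι.isOpenEmbedding.injective
        rw [← Scheme.Hom.comp_apply, Scheme.homOfLE_ι]
        rfl
      · exact (hu1 h).elim
  rw [hr]
  exact (U.ι ⁻¹ᵁ U₁).2.isClosed_compl

/-- Lifting an open immersion into the preimage of an open. -/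
theorem exists_lift_preimage {X P V : Scheme.{u}} (p : P ⟶ X) (U : X.Opens) (c : V ⟶ P)
    [IsOpenImmersion c] (hc : ∀ v : V, p.base (c.base v) ∈ U) :
    ∃ i : V ⟶ (p ⁻¹ᵁ U : Scheme.{u}), IsOpenImmersion i ∧ i ≫ (p ⁻¹ᵁ U).ι = c := by
  have hsub : Set.range c.base ⊆ Set.range (p ⁻¹ᵁ U).ι.base := by
    rintro _ ⟨v, rfl⟩
    simpa using hc v
  refine ⟨IsOpenImmersion.lift (p ⁻¹ᵁ U).ι c hsub, ?_, IsOpenImmersion.lift_fac _ _ _⟩
  have : IsOpenImmersion (IsOpenImmersion.lift (p ⁻¹ᵁ U).ι c hsub ≫ (p ⁻¹ᵁ U).ι) := by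
    rw [IsOpenImmersion.lift_fac]; infer_instance
  exact IsOpenImmersion.of_comp _ (p ⁻¹ᵁ U).ι

/-- A point of an open which lies in the closure of a disjoint open: impossible. -/
theorem not_mem_closure_of_disjoint {X : Scheme.{u}} (U₀ U₁ : X.Opens) (hd : Disjoint U₀ U₁)
    (x : X) (hx : x ∈ U₀) : x ∉ closure (U₁ : Set X) := by
  intro hx1
  rw [mem_closure_iff] at hx1
  obtain ⟨z, hz0, hz1⟩ := hx1 U₀ U₀.2 hx
  have h3 : z ∈ U₀ ⊓ U₁ := ⟨hz0, hz1⟩
  rw [hd.eq_bot] at h3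
  exact h3

/-- Let X be a scheme and I the quasi-coherent ideal sheaf of an effective Cartier divisor on X, with
open complement U, and suppose U is the disjoint union of two opens U₀, U₁ of X. Let X₀, X₁ ⊆ X be
the scheme-theoretic images of U₀ and U₁ in X and p : X₀ ⨿ X₁ ⟶ X the morphism induced by the two
closed immersions. Then the pulled-back ideal I.comap p is the ideal sheaf of an effective Cartier
divisor, and p is an abstract admissible blow-up from (X₀ ⨿ X₁, I.comap p) to (X, I): proper, with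
the pulled-back modulus, and an isomorphism over U. -/
theorem result {X : Scheme.{u}}
    (I : X.IdealSheafData) (hI : BlowUp.IsEffCartierIdeal I) (U₀ U₁ : X.Opens)
    (hU : U₀ ⊔ U₁ = ModPair.interior I) (hd : Disjoint U₀ U₁) :
    BlowUp.IsEffCartierIdeal (I.comap (coprod.desc U₀.ι.imageι U₁.ι.imageι)) ∧
      ModPair.IsAdmBlowup (I.comap (coprod.desc U₀.ι.imageι U₁.ι.imageι)) I
        (coprod.desc U₀.ι.imageι U₁.ι.imageι) := by
  have hle₀ : U₀ ≤ ModPair.interior I := hU ▸ le_sup_left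
  have hle₁ : U₁ ≤ ModPair.interior I := hU ▸ le_sup_right
  have hci₀ := isClosedImmersion_homOfLE U₀ U₁ _ hU hd hle₀
  have hci₁ := isClosedImmersion_homOfLE U₁ U₀ _ (by rw [sup_comm]; exact hU) hd.symm hle₁
  obtain ⟨hqc₀, hoi₀, hec₀, hr₀, hcl₀⟩ :=
    closure_props I hI (X.homOfLE hle₀) U₀.ι (Scheme.homOfLE_ι X hle₀).symm
  obtain ⟨hqc₁, hoi₁, hec₁, hr₁, hcl₁⟩ :=
    closure_props I hI (X.homOfLE hle₁) U₁.ι (Scheme.homOfLE_ι X hle₁).symm
  rw [Scheme.Opens.range_ι] at hcl₀ hcl₁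
  set p := coprod.desc U₀.ι.imageι U₁.ι.imageι with hp
  have hpl : coprod.inl ≫ p = U₀.ι.imageι := coprod.inl_desc _ _
  have hpr : coprod.inr ≫ p = U₁.ι.imageι := coprod.inr_desc _ _
  have hcases : ∀ z : (U₀.ι.image ⨿ U₁.ι.image : Scheme.{u}),
      (∃ a, (coprod.inl : U₀.ι.image ⟶ U₀.ι.image ⨿ U₁.ι.image).base a = z) ∨
      (∃ b, (coprod.inr : U₁.ι.image ⟶ U₀.ι.image ⨿ U₁.ι.image).base b = z) := by
    intro z
    obtain ⟨(a | b), rfl⟩ := (coprodMk _ _).surjective z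
    · exact Or.inl ⟨a, (coprodMk_inl _ _ a).symm⟩
    · exact Or.inr ⟨b, (coprodMk_inr _ _ b).symm⟩
  have hpinl : ∀ a, p.base ((coprod.inl : U₀.ι.image ⟶ U₀.ι.image ⨿ U₁.ι.image).base a) =
      U₀.ι.imageι.base a := by
    intro a; rw [← Scheme.Hom.comp_apply, hpl]
  have hpinr : ∀ b, p.base ((coprod.inr : U₁.ι.image ⟶ U₀.ι.image ⨿ U₁.ι.image).base b) =
      U₁.ι.imageι.base b := by
    intro b; rw [← Scheme.Hom.comp_apply, hpr]
  refine ⟨?_, rfl, inferInstance, ?_⟩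
  · -- effective Cartier
    apply isEffCartierIdeal_of_forall_exists_isOpenImmersion
    intro z
    rcases hcases z with ⟨a, rfl⟩ | ⟨b, rfl⟩
    · refine ⟨_, coprod.inl, inferInstance, ⟨a, rfl⟩, ?_⟩
      rw [← Scheme.IdealSheafData.comap_comp, hpl]
      exact hec₀
    · refine ⟨_, coprod.inr, inferInstance, ⟨b, rfl⟩, ?_⟩
      rw [← Scheme.IdealSheafData.comap_comp, hpr]
      exact hec₁
  · -- isomorphism over the interior
    set U := ModPair.interior I with hUdef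
    -- the two open pieces of the preimage
    obtain ⟨i₀, hi₀, hi₀f⟩ := exists_lift_preimage p U (U₀.ι.toImage ≫ coprod.inl) (by
      intro v
      rw [← Scheme.Hom.comp_apply, Category.assoc, hpl, U₀.ι.toImage_imageι]
      exact hle₀ v.2)
    obtain ⟨i₁, hi₁, hi₁f⟩ := exists_lift_preimage p U (U₁.ι.toImage ≫ coprod.inr) (by
      intro v
      rw [← Scheme.Hom.comp_apply, Category.assoc, hpr, U₁.ι.toImage_imageι]
      exact hle₁ v.2)
    set f := (p ⁻¹ᵁ U).ι ≫ p with hf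
    have hi₀p : i₀ ≫ f = U₀.ι := by
      rw [hf, ← Category.assoc, hi₀f, Category.assoc, hpl, U₀.ι.toImage_imageι]
    have hi₁p : i₁ ≫ f = U₁.ι := by
      rw [hf, ← Category.assoc, hi₁f, Category.assoc, hpr, U₁.ι.toImage_imageι]
    -- points of the preimage come from `U₀` or `U₁`
    have hpts : ∀ y : (p ⁻¹ᵁ U : Scheme.{u}),
        (∃ v, i₀.base v = y) ∨ (∃ v, i₁.base v = y) := by
      intro y
      have hy : p.base y.1 ∈ U := y.2
      rcases hcases y.1 with ⟨a, ha⟩ | ⟨b, hb⟩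
      · left
        rw [← ha, hpinl] at hy
        have : a ∈ Set.range U₀.ι.toImage.base := by rw [hr₀]; exact hy
        obtain ⟨v, rfl⟩ := this
        refine ⟨v, ?_⟩
        apply (p ⁻¹ᵁ U).ι.isOpenEmbedding.injective
        rw [← Scheme.Hom.comp_apply, hi₀f, Scheme.Hom.comp_apply]
        exact ha
      · right
        rw [← hb, hpinr] at hy
        have : b ∈ Set.range U₁.ι.toImage.base := by rw [hr₁]; exact hy
        obtain ⟨v, rfl⟩ := this
        refine ⟨v, ?_⟩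
        apply (p ⁻¹ᵁ U).ι.isOpenEmbedding.injective
        rw [← Scheme.Hom.comp_apply, hi₁f, Scheme.Hom.comp_apply]
        exact hb
    have hfi₀ : ∀ v, f.base (i₀.base v) = v.1 := by
      intro v
      rw [← Scheme.Hom.comp_apply, hi₀p]
      rfl
    have hfi₁ : ∀ v, f.base (i₁.base v) = v.1 := by
      intro v
      rw [← Scheme.Hom.comp_apply, hi₁p]
      rfl
    have hfinj : Function.Injective f.base := by
      intro y y' hyy
      rcases hpts y with ⟨v, rfl⟩ | ⟨v, rfl⟩ <;> rcases hpts y' with ⟨v', rfl⟩ | ⟨v', rfl⟩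
      · rw [hfi₀, hfi₀] at hyy
        rw [Subtype.ext hyy]
      · rw [hfi₀, hfi₁] at hyy
        have h3 : v.1 ∈ U₀ ⊓ U₁ := ⟨v.2, hyy ▸ v'.2⟩
        rw [hd.eq_bot] at h3
        exact h3.elim
      · rw [hfi₁, hfi₀] at hyy
        have h3 : v'.1 ∈ U₀ ⊓ U₁ := ⟨v'.2, hyy ▸ v.2⟩
        rw [hd.eq_bot] at h3
        exact h3.elim
      · rw [hfi₁, hfi₁] at hyy
        rw [Subtype.ext hyy]
    have hfoi : IsOpenImmersion f := by
      apply IsOpenImmersion.of_forall_source_exists f hfinj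
      intro y
      rcases hpts y with ⟨v, rfl⟩ | ⟨v, rfl⟩
      · exact ⟨_, i₀, hi₀, ⟨v, rfl⟩, by rw [hi₀p]; infer_instance⟩
      · exact ⟨_, i₁, hi₁, ⟨v, rfl⟩, by rw [hi₁p]; infer_instance⟩
    have hres : (p ∣_ U) ≫ U.ι = f := morphismRestrict_ι p U
    have hoi : IsOpenImmersion (p ∣_ U) := by
      have : IsOpenImmersion ((p ∣_ U) ≫ U.ι) := by rw [hres]; exact hfoi
      exact IsOpenImmersion.of_comp _ U.ι
    rw [isIso_iff_isOpenImmersion_and_surjective]
    refine ⟨hoi, ⟨fun u => ?_⟩⟩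
    have hu : u.1 ∈ U₀ ⊔ U₁ := by rw [hU]; exact u.2
    rcases hu with h | h
    · refine ⟨i₀.base ⟨u.1, h⟩, ?_⟩
      apply U.ι.isOpenEmbedding.injective
      rw [← Scheme.Hom.comp_apply, hres, hfi₀]
      rfl
    · refine ⟨i₁.base ⟨u.1, h⟩, ?_⟩
      apply U.ι.isOpenEmbedding.injective
      rw [← Scheme.Hom.comp_apply, hres, hfi₁]
      rfl

end Groth.Agent.S18737
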