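import Groth.Statements.S18738
import Groth.Agent.S18735
import Groth.Agent.Lib.SchDense68
import Groth.Agent.Lib.EffCartier96
import Mathlib.CategoryTheory.Localization.CalculusOfFractions

set_option autoImplicit false
universe u
open CategoryTheory CategoryTheory.Limits AlgebraicGeometry TopologicalSpace
open ModPair

namespace Groth.Agent.S18738

open Groth.Agent.Lib.ModPairProd68

theorem isAdmBlowup_id {X : Scheme.{u}} (I : X.IdealSheafData) : ModPair.IsAdmBlowup I I (𝟙 X) :=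
  ⟨(Scheme.IdealSheafData.comap_id I).symm, inferInstance, inferInstance⟩

theorem isAdmBlowup_comp {X Y Z : Scheme.{u}} (I : X.IdealSheafData) (J : Y.IdealSheafData)
    (K : Z.IdealSheafData) (f : X ⟶ Y) (g : Y ⟶ Z) (hf : ModPair.IsAdmBlowup I J f)
    (hg : ModPair.IsAdmBlowup J K g) : ModPair.IsAdmBlowup I K (f ≫ g) := by
  obtain ⟨hf1, hf2, hf3⟩ := hf
  obtain ⟨hg1, hg2, hg3⟩ := hg
  have hf1' : I = J.comap f := hf1
  have hg1' : J = K.comap g := hg1
  refine ⟨?_, inferInstance, ?_⟩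
  · show I = K.comap (f ≫ g)
    rw [Scheme.IdealSheafData.comap_comp, ← hg1']
    exact hf1'
  · rw [morphismRestrict_comp]
    have : IsIso (f ∣_ g ⁻¹ᵁ ModPair.interior K) := by
      rw [← interior_eq_preimage_of_isMinimal J K g hg1]
      exact hf3
    have hg3' : IsIso (g ∣_ ModPair.interior K) := hg3
    exact @IsIso.comp_isIso _ _ _ _ _ _ _ this hg3'

/-- Two ambient morphisms equalized by an admissible blow-up are equal. -/
theorem hom_ext_of_isAdmBlowup {X Y Z : Scheme.{u}} (I : X.IdealSheafData) (J : Y.IdealSheafData)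
    (K : Z.IdealSheafData) (hI : BlowUp.IsEffCartierIdeal I) (f₁ f₂ : X ⟶ Y)
    (h₁ : ModPair.IsAmbient I J f₁) (h₂ : ModPair.IsAmbient I J f₂) (s : Y ⟶ Z)
    (hs : ModPair.IsAdmBlowup J K s) (h : f₁ ≫ s = f₂ ≫ s) : f₁ = f₂ := by
  obtain ⟨hs1, hs2, hs3⟩ := hs
  have hdom : IsSchemeTheoreticallyDominant (ModPair.interior I).ι :=
    Groth.Agent.Lib.EffCartier96.isSchemeTheoreticallyDominant_interior_ι I hI
  have hJ : ModPair.interior J = s ⁻¹ᵁ ModPair.interior K :=
    interior_eq_preimage_of_isMinimal J K s hs1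
  have hsub : ∀ (f : X ⟶ Y), ModPair.IsAmbient I J f →
      Set.range ((ModPair.interior I).ι ≫ f).base ⊆
        Set.range (s ⁻¹ᵁ ModPair.interior K).ι.base := by
    intro f hf
    rintro _ ⟨z, rfl⟩
    rw [Scheme.Opens.range_ι, ← hJ, Scheme.Hom.comp_apply]
    exact interior_le_preimage_of_isAmbient I J f hf z.2
  let k₁ := IsOpenImmersion.lift (s ⁻¹ᵁ ModPair.interior K).ι ((ModPair.interior I).ι ≫ f₁)
    (hsub f₁ h₁)
  let k₂ := IsOpenImmersion.lift (s ⁻¹ᵁ ModPair.interior K).ι ((ModPair.interior I).ι ≫ f₂)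
    (hsub f₂ h₂)
  have hk₁ : k₁ ≫ (s ⁻¹ᵁ ModPair.interior K).ι = (ModPair.interior I).ι ≫ f₁ :=
    IsOpenImmersion.lift_fac _ _ _
  have hk₂ : k₂ ≫ (s ⁻¹ᵁ ModPair.interior K).ι = (ModPair.interior I).ι ≫ f₂ :=
    IsOpenImmersion.lift_fac _ _ _
  have hkk : k₁ = k₂ := by
    rw [← cancel_mono (s ∣_ ModPair.interior K), ← cancel_mono (ModPair.interior K).ι,
      Category.assoc, Category.assoc, morphismRestrict_ι, ← Category.assoc, ← Category.assoc,
      hk₁, hk₂, Category.assoc, Category.assoc, h]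
  have hs2' : IsSeparated s := inferInstance
  refine Groth.Agent.Lib.SchDense68.ext_of_isSchemeTheoreticallyDominant_of_isSeparated s h
    (ModPair.interior I).ι ?_
  rw [← hk₁, ← hk₂, hkk]

/-- In the category of modulus pairs and ambient morphisms, the class Σ of abstract admissible blow-ups
(minimal, proper, an isomorphism over the interior of the target) admits a calculus of right
fractions: it contains the identities and is stable under composition; every pair X' ⟶ X ⟵ Y with X'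
⟶ X in Σ can be completed to a commutative square with a morphism Y' ⟶ Y in Σ; and two ambient
morphisms f, g : X ⟶ Y equalized by some Y ⟶ Z in Σ are equalized by some X' ⟶ X in Σ. -/
theorem result :
    (ModPair.Pair.admBlowup.{u}).HasRightCalculusOfFractions := by
  refine { id_mem := ?_, comp_mem := ?_, exists_rightFraction := ?_, ext := ?_ }
  · intro P
    exact isAdmBlowup_id P.mod
  · intro P Q R f g hf hg
    exact isAdmBlowup_comp P.mod Q.mod R.mod f.hom g.hom hf hg
  · intro P Q φ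
    -- φ.f : P ⟶ Y', φ.s : Q ⟶ Y' admissible blow-up
    obtain ⟨hA, hB, hC⟩ := Groth.Agent.S18735.result φ.Y'.mod P.mod Q.mod φ.Y'.isEffCartier
      P.isEffCartier Q.isEffCartier φ.f.hom φ.f.cond φ.s.hom φ.hs
    let P' : ModPair.Pair.{u} :=
      ⟨ModPair.mprod φ.s.hom φ.f.hom Q.mod P.mod,
        P.mod.comap (ModPair.mprodι φ.s.hom φ.f.hom Q.mod P.mod ≫
          pullback.snd φ.s.hom φ.f.hom), hA⟩
    let t : P' ⟶ P := ⟨ModPair.mprodι φ.s.hom φ.f.hom Q.mod P.mod ≫
      pullback.snd φ.s.hom φ.f.hom, le_rfl⟩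
    let r : P' ⟶ Q := ⟨ModPair.mprodι φ.s.hom φ.f.hom Q.mod P.mod ≫
      pullback.fst φ.s.hom φ.f.hom, hC⟩
    refine ⟨⟨t, hB, r⟩, ?_⟩
    apply ModPair.Pair.Hom.ext
    show (ModPair.mprodι φ.s.hom φ.f.hom Q.mod P.mod ≫ pullback.snd φ.s.hom φ.f.hom) ≫ φ.f.hom =
      (ModPair.mprodι φ.s.hom φ.f.hom Q.mod P.mod ≫ pullback.fst φ.s.hom φ.f.hom) ≫ φ.s.hom
    rw [Category.assoc, Category.assoc, pullback.condition]
  · intro P Q R f₁ f₂ s hs h
    refine ⟨P, 𝟙 P, isAdmBlowup_id P.mod, ?_⟩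
    rw [Category.id_comp, Category.id_comp]
    apply ModPair.Pair.Hom.ext
    exact hom_ext_of_isAdmBlowup P.mod Q.mod R.mod P.isEffCartier f₁.hom f₂.hom f₁.cond f₂.cond
      s.hom hs (congrArg ModPair.Pair.Hom.hom h)

end Groth.Agent.S18738
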