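import Groth.Statements.S18752
import Groth.Agent.Lib.AmbProdProper68
import Groth.Agent.Lib.LocalizationPullback68
import Groth.Agent.S18738

set_option autoImplicit false
universe u
open CategoryTheory CategoryTheory.Limits AlgebraicGeometry TopologicalSpace
open ModPair

namespace Groth.Agent.S18752

open Groth.Agent.Lib.AmbProd68 Groth.Agent.Lib.BlowUpUniv

theorem isIso_morphismRestrict_of_le {X Y : Scheme.{u}} (F : X ⟶ Y) {U V : Y.Opens} (h : V ≤ U)
    (hU : IsIso (F ∣_ U)) : IsIso (F ∣_ V) := by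
  have h1 : MorphismProperty.isomorphisms Scheme ((F ∣_ U) ∣_ (U.ι ⁻¹ᵁ V)) :=
    IsZariskiLocalAtTarget.restrict (P := MorphismProperty.isomorphisms Scheme) hU _
  rw [(MorphismProperty.isomorphisms Scheme).arrow_mk_iso_iff (morphismRestrictRestrict F U _)] at h1
  have h2 : U.ι ''ᵁ (U.ι ⁻¹ᵁ V) = V := by
    rw [Scheme.Hom.image_preimage_eq_opensRange_inf, Scheme.Opens.opensRange_ι, inf_eq_right]
    exact h
  rw [h2] at h1
  exact h1

section

variable {S T X : Scheme.{u}} {f : X ⟶ S} {g : T ⟶ S} {I : X.IdealSheafData} {J : T.IdealSheafData}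
  {Y : Scheme.{u}} {π : Y ⟶ ModPair.mprod f g I J} {K : Y.IdealSheafData}

/-- The blow-up `π` of an ambient product is an admissible blow-up for the product modulus. -/
theorem isAdmBlowup_π (hX : BlowUp.IsEffCartierIdeal I) (hT : BlowUp.IsEffCartierIdeal J)
    (hY : ModPair.IsAmbProd f g I J π K) :
    ModPair.IsAdmBlowup
      ((I.comap (ModPair.mprodι f g I J ≫ pullback.fst f g) *
        J.comap (ModPair.mprodι f g I J ≫ pullback.snd f g)).comap π)
      (I.comap (ModPair.mprodι f g I J ≫ pullback.fst f g) *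
        J.comap (ModPair.mprodι f g I J ≫ pullback.snd f g)) π := by
  refine ⟨rfl, IsAmbProd.isProper hX hT hY, ?_⟩
  have h1 : IsIso (π ∣_ (ModPair.prodCentre f g I J).support.compl) :=
    isIso_morphismRestrict_compl hY.1
  refine isIso_morphismRestrict_of_le π ?_ h1
  intro z hz hz'
  apply hz
  rw [Scheme.IdealSheafData.support_mul]
  left
  have h2 : (ModPair.prodCentre f g I J).support ≤
      (I.comap (ModPair.mprodι f g I J ≫ pullback.fst f g)).support :=
    Scheme.IdealSheafData.support_antitone le_sup_left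
  exact h2 hz'

/-- Right fractions for a morphism which is ambient only for the square of the modulus. -/
theorem exists_fraction_sq {M Y' Z : Scheme.{u}} (p : Y' ⟶ M) (m : Z ⟶ M) (IM : M.IdealSheafData)
    (hIM : BlowUp.IsEffCartierIdeal IM) (hIY : BlowUp.IsEffCartierIdeal (IM.comap p))
    (hp : ModPair.IsAdmBlowup (IM.comap p) IM p) (L : Z.IdealSheafData)
    (hL : BlowUp.IsEffCartierIdeal L) (hm : L * L ≤ IM.comap m) :
    ∃ (Z' : Scheme.{u}) (q : Z' ⟶ Z) (r : Z' ⟶ Y'),
      BlowUp.IsEffCartierIdeal (L.comap q) ∧ ModPair.IsAdmBlowup (L.comap q) L q ∧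
        r ≫ p = q ≫ m := by
  have hLL : BlowUp.IsEffCartierIdeal (L * L) := isEffCartier_mul _ _ hL hL
  obtain ⟨hA, hB, -⟩ := Groth.Agent.S18735.result IM (L * L) (IM.comap p) hIM hLL hIY m hm p hp
  obtain ⟨Z', q, r, hA, hB, hrq⟩ : ∃ (Z' : Scheme.{u}) (q : Z' ⟶ Z) (r : Z' ⟶ Y'),
      BlowUp.IsEffCartierIdeal ((L * L).comap q) ∧
      ModPair.IsAdmBlowup ((L * L).comap q) (L * L) q ∧ r ≫ p = q ≫ m :=
    ⟨_, _, ModPair.mprodι p m (IM.comap p) (L * L) ≫ pullback.fst p m, hA, hB, by
      rw [Category.assoc, Category.assoc, pullback.condition]⟩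
  have hLq : BlowUp.IsEffCartierIdeal (L.comap q) := by
    apply isEffCartier_of_mul (L.comap q) (L.comap q)
      (isLocPrincipal_comap q L (isLocPrincipal_of_isEffCartier L hL))
    rw [← Groth.Agent.Lib.IdealSheafComap.comap_mul]
    exact hA
  have hint : ModPair.interior (L * L) = ModPair.interior L := by
    unfold ModPair.interior
    rw [Scheme.IdealSheafData.support_mul, sup_idem]
  refine ⟨Z', q, r, hLq, ⟨rfl, hB.2.1, ?_⟩, hrq⟩
  have := hB.2.2
  rw [hint] at this
  exact this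

/-- Existence of lifts to the ambient product after an admissible blow-up. -/
theorem exists_lift (hX : BlowUp.IsEffCartierIdeal I) (hT : BlowUp.IsEffCartierIdeal J)
    (hY : ModPair.IsAmbProd f g I J π K) {Z : Scheme.{u}} (L : Z.IdealSheafData)
    (hL : BlowUp.IsEffCartierIdeal L) (a : Z ⟶ T) (b : Z ⟶ X)
    (ha : ModPair.IsAmbient L J a) (hb : ModPair.IsAmbient L I b) (hab : b ≫ f = a ≫ g) :
    ∃ (Z' : Scheme.{u}) (q : Z' ⟶ Z) (r : Z' ⟶ Y),
      BlowUp.IsEffCartierIdeal (L.comap q) ∧ ModPair.IsAdmBlowup (L.comap q) L q ∧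
      L.comap q ≤ K.comap r ∧
      r ≫ π ≫ ModPair.mprodι f g I J ≫ pullback.snd f g = q ≫ a ∧
      r ≫ π ≫ ModPair.mprodι f g I J ≫ pullback.fst f g = q ≫ b := by
  obtain ⟨m, ⟨hm1, hm2⟩, -⟩ := Groth.Agent.Lib.ModPairProd68.existsUnique_lift_mprod f g I J L hL
    b a hb ha hab
  have hIM : BlowUp.IsEffCartierIdeal (I.comap (ModPair.mprodι f g I J ≫ pullback.fst f g) *
      J.comap (ModPair.mprodι f g I J ≫ pullback.snd f g)) :=
    isEffCartier_mul _ _ (isEffCartier_comap_fst f g I J hX hT) (isEffCartier_comap_snd f g I J hX hT)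
  have hIY := isEffCartier_comap_of_isBlowUp hY.1 _ hIM
  have hmamb : L * L ≤ (I.comap (ModPair.mprodι f g I J ≫ pullback.fst f g) *
      J.comap (ModPair.mprodι f g I J ≫ pullback.snd f g)).comap m := by
    rw [Groth.Agent.Lib.IdealSheafComap.comap_mul, ← Scheme.IdealSheafData.comap_comp,
      ← Scheme.IdealSheafData.comap_comp, hm1, hm2]
    exact mul_le_mul' hb ha
  obtain ⟨Z', q, r, hLq, hadm, hrq⟩ := exists_fraction_sq π m _ hIM hIY (isAdmBlowup_π hX hT hY)
    L hL hmamb
  have e1 : r ≫ π ≫ ModPair.mprodι f g I J ≫ pullback.snd f g = q ≫ a := by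
    rw [← Category.assoc, hrq, Category.assoc, hm2]
  have e2 : r ≫ π ≫ ModPair.mprodι f g I J ≫ pullback.fst f g = q ≫ b := by
    rw [← Category.assoc, hrq, Category.assoc, hm1]
  refine ⟨Z', q, r, hLq, hadm, ?_, e1, e2⟩
  have h1 : L.comap q ≤ I.comap (r ≫ π ≫ ModPair.mprodι f g I J ≫ pullback.fst f g) := by
    rw [e2, Scheme.IdealSheafData.comap_comp]
    exact Scheme.IdealSheafData.comap_mono q hb
  have h2 : L.comap q ≤ J.comap (r ≫ π ≫ ModPair.mprodι f g I J ≫ pullback.snd f g) := by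
    rw [e1, Scheme.IdealSheafData.comap_comp]
    exact Scheme.IdealSheafData.comap_mono q ha
  exact IsAmbProd.le_comap_of_le hY (L.comap q) hLq r h1 h2

/-- The two projections of the ambient product are jointly monic on modulus pairs. -/
theorem hom_ext_ambProd (hY : ModPair.IsAmbProd f g I J π K) {Z : Scheme.{u}} (L : Z.IdealSheafData)
    (hL : BlowUp.IsEffCartierIdeal L) (c₁ c₂ : Z ⟶ Y) (h₁ : L ≤ K.comap c₁)
    (e1 : c₁ ≫ π ≫ ModPair.mprodι f g I J ≫ pullback.snd f g =
      c₂ ≫ π ≫ ModPair.mprodι f g I J ≫ pullback.snd f g)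
    (e2 : c₁ ≫ π ≫ ModPair.mprodι f g I J ≫ pullback.fst f g =
      c₂ ≫ π ≫ ModPair.mprodι f g I J ≫ pullback.fst f g) : c₁ = c₂ := by
  have hπ : c₁ ≫ π = c₂ ≫ π := by
    rw [← cancel_mono (ModPair.mprodι f g I J)]
    apply pullback.hom_ext
    · simpa only [Category.assoc] using e2
    · simpa only [Category.assoc] using e1
  have hcart : BlowUp.IsEffCartierIdeal ((ModPair.prodCentre f g I J).comap (c₁ ≫ π)) := by
    rw [Scheme.IdealSheafData.comap_comp]
    apply isEffCartier_of_le L _ hL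
      (isLocPrincipal_comap c₁ _ (isLocPrincipal_of_isEffCartier _ hY.1.1))
    refine h₁.trans (Scheme.IdealSheafData.comap_mono c₁ ?_)
    rw [comap_prodCentre]
    exact (IsAmbProd.le_comap_fst hY).trans le_sup_left
  obtain ⟨h, -, hu⟩ := hY.1.2 Z (c₁ ≫ π) hcart
  rw [hu c₁ rfl, hu c₂ hπ.symm]

end

/-- Let f : X ⟶ P and g : T ⟶ P be ambient morphisms of modulus pairs and let (Y, K), with π : Y ⟶ Y₀ ⊆
X ×_P T, be an ambient product of X and T over P: Y₀ is the scheme-theoretic image of the product of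
the interiors, π a blowing up of Y₀ in the sum of the pulled-back moduli, and K the ideal sheaf of
an effective Cartier divisor with K times the exceptional ideal equal to the product of the
pulled-back moduli, the two projections satisfying the modulus condition. Then in the localization
of the category of modulus pairs at the abstract admissible blow-ups, the square with vertex (Y, K),
sides the two projections to T and X, and g, f, is a pullback square. -/
theorem result (P T X : ModPair.Pair.{u}) (f : X ⟶ P) (g : T ⟶ P)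
    {Y : Scheme.{u}} (π : Y ⟶ ModPair.mprod f.hom g.hom X.mod T.mod) (K : Y.IdealSheafData)
    (hY : ModPair.IsAmbProd f.hom g.hom X.mod T.mod π K) (hK : BlowUp.IsEffCartierIdeal K)
    (hX : ModPair.IsAmbient K X.mod (π ≫ ModPair.mprodι f.hom g.hom X.mod T.mod ≫ pullback.fst f.hom g.hom))
    (hT : ModPair.IsAmbient K T.mod (π ≫ ModPair.mprodι f.hom g.hom X.mod T.mod ≫ pullback.snd f.hom g.hom)) :
    IsPullback
      ((ModPair.Pair.admBlowup.{u}).Q.map
        (ModPair.Pair.Hom.mk (P := ModPair.Pair.mk Y K hK) (Q := T)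
          (π ≫ ModPair.mprodι f.hom g.hom X.mod T.mod ≫ pullback.snd f.hom g.hom) hT))
      ((ModPair.Pair.admBlowup.{u}).Q.map
        (ModPair.Pair.Hom.mk (P := ModPair.Pair.mk Y K hK) (Q := X)
          (π ≫ ModPair.mprodι f.hom g.hom X.mod T.mod ≫ pullback.fst f.hom g.hom) hX))
      ((ModPair.Pair.admBlowup.{u}).Q.map g) ((ModPair.Pair.admBlowup.{u}).Q.map f) := by
  have hcalc : (ModPair.Pair.admBlowup.{u}).HasRightCalculusOfFractions := Groth.Agent.S18738.result
  apply Groth.Agent.Lib.LocalizationPullback68.isPullback_map (ModPair.Pair.admBlowup.{u})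
    (ModPair.Pair.admBlowup.{u}).Q
  · apply ModPair.Pair.Hom.ext
    show (π ≫ ModPair.mprodι f.hom g.hom X.mod T.mod ≫ pullback.snd f.hom g.hom) ≫ g.hom =
      (π ≫ ModPair.mprodι f.hom g.hom X.mod T.mod ≫ pullback.fst f.hom g.hom) ≫ f.hom
    simp only [Category.assoc, pullback.condition]
  · intro Z a b hab
    have hab' : b.hom ≫ f.hom = a.hom ≫ g.hom := (congrArg ModPair.Pair.Hom.hom hab).symm
    obtain ⟨Z', q, r, hLq, hadm, hle, e1, e2⟩ := exists_lift X.isEffCartier T.isEffCartier hY Z.mod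
      Z.isEffCartier a.hom b.hom a.cond b.cond hab'
    refine ⟨⟨Z', Z.mod.comap q, hLq⟩, ⟨q, le_rfl⟩, hadm, ⟨r, hle⟩, ?_, ?_⟩
    · apply ModPair.Pair.Hom.ext
      exact e1
    · apply ModPair.Pair.Hom.ext
      exact e2
  · intro Z c₁ c₂ h1 h2
    apply ModPair.Pair.Hom.ext
    exact hom_ext_ambProd hY Z.mod Z.isEffCartier c₁.hom c₂.hom c₁.cond
      (congrArg ModPair.Pair.Hom.hom h1) (congrArg ModPair.Pair.Hom.hom h2)

end Groth.Agent.S18752
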