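import Groth.Statements.S18739
import Groth.Agent.Lib.AmbProdExist68
import Groth.Agent.S18752

set_option autoImplicit false
universe u
open CategoryTheory CategoryTheory.Limits AlgebraicGeometry TopologicalSpace
open ModPair

namespace Groth.Agent.S18739

open CategoryTheory CategoryTheory.Limits AlgebraicGeometry

/-- The terminal modulus pair `(⊤_ Sch, O)`. -/
noncomputable def one : ModPair.Pair.{u} :=
  ⟨⊤_ Scheme.{u}, ⊤, Groth.Agent.Lib.BlowUpUniv.isEffCartier_top⟩

/-- The unique morphism to the terminal modulus pair. -/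
noncomputable def toOne (P : ModPair.Pair.{u}) : P ⟶ one.{u} :=
  ⟨terminal.from P.total, by
    change P.mod ≤ (⊤ : (⊤_ Scheme.{u}).IdealSheafData).comap _
    rw [Scheme.IdealSheafData.comap_top]
    exact le_top⟩

theorem eq_toOne {P : ModPair.Pair.{u}} (a : P ⟶ one.{u}) : a = toOne P := by
  apply ModPair.Pair.Hom.ext
  exact (terminalIsTerminal (C := Scheme.{u})).hom_ext _ _

theorem map_eq_toOne (X : ModPair.Pair.{u})
    (φ : (ModPair.Pair.admBlowup.{u}).Q.obj X ⟶ (ModPair.Pair.admBlowup.{u}).Q.obj one.{u}) :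
    φ = (ModPair.Pair.admBlowup.{u}).Q.map (toOne X) := by
  have hcalc : (ModPair.Pair.admBlowup.{u}).HasRightCalculusOfFractions := Groth.Agent.S18738.result
  obtain ⟨ψ, rfl⟩ := Localization.exists_rightFraction (ModPair.Pair.admBlowup.{u}).Q
    (ModPair.Pair.admBlowup.{u}) φ
  have h1 : ψ.f = ψ.s ≫ toOne X := (eq_toOne ψ.f).trans (eq_toOne (ψ.s ≫ toOne X)).symm
  have := Localization.inverts (ModPair.Pair.admBlowup.{u}).Q (ModPair.Pair.admBlowup.{u}) _ ψ.hs
  rw [MorphismProperty.RightFraction.map, h1, Functor.map_comp, IsIso.inv_hom_id_assoc]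

theorem hasTerminal : HasTerminal (ModPair.Pair.admBlowup.{u}).Localization := by
  have h1 : ∀ Y : (ModPair.Pair.admBlowup.{u}).Localization,
      Nonempty (Y ⟶ (ModPair.Pair.admBlowup.{u}).Q.obj one.{u}) := by
    intro Y
    obtain ⟨X, rfl⟩ := (Localization.Construction.objEquiv (ModPair.Pair.admBlowup.{u})).surjective Y
    exact ⟨(ModPair.Pair.admBlowup.{u}).Q.map (toOne X)⟩
  have h2 : ∀ Y : (ModPair.Pair.admBlowup.{u}).Localization,
      Subsingleton (Y ⟶ (ModPair.Pair.admBlowup.{u}).Q.obj one.{u}) := by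
    intro Y
    obtain ⟨X, rfl⟩ := (Localization.Construction.objEquiv (ModPair.Pair.admBlowup.{u})).surjective Y
    exact ⟨fun m m' => (map_eq_toOne X m).trans (map_eq_toOne X m').symm⟩
  exact hasTerminal_of_unique ((ModPair.Pair.admBlowup.{u}).Q.obj one.{u})

theorem hasPullback_map {P X T : ModPair.Pair.{u}} (f : X ⟶ P) (g : T ⟶ P) :
    HasPullback ((ModPair.Pair.admBlowup.{u}).Q.map f) ((ModPair.Pair.admBlowup.{u}).Q.map g) := by
  obtain ⟨Y, π, K, hY⟩ := Groth.Agent.Lib.AmbProd68.exists_isAmbProd g.hom f.hom T.mod X.mod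
  have hK := Groth.Agent.Lib.AmbProd68.IsAmbProd.isEffCartier T.isEffCartier X.isEffCartier hY
  exact (Groth.Agent.S18752.result P X T g f π K hY hK
    (Groth.Agent.Lib.AmbProd68.IsAmbProd.le_comap_fst hY)
    (Groth.Agent.Lib.AmbProd68.IsAmbProd.le_comap_snd hY)).hasPullback

theorem key' (hcalc : (ModPair.Pair.admBlowup.{u}).HasRightCalculusOfFractions)
    (A B Z : (ModPair.Pair.admBlowup.{u}).Localization) (φ : A ⟶ Z) (ψ : B ⟶ Z) :
    HasLimit (cospan φ ψ) := by
  obtain ⟨X, rfl⟩ := (Localization.Construction.objEquiv (ModPair.Pair.admBlowup.{u})).surjective A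
  obtain ⟨T, rfl⟩ := (Localization.Construction.objEquiv (ModPair.Pair.admBlowup.{u})).surjective B
  obtain ⟨P, rfl⟩ := (Localization.Construction.objEquiv (ModPair.Pair.admBlowup.{u})).surjective Z
  obtain ⟨a, rfl⟩ := Localization.exists_rightFraction (ModPair.Pair.admBlowup.{u}).Q
    (ModPair.Pair.admBlowup.{u}) φ
  obtain ⟨c, rfl⟩ := Localization.exists_rightFraction (ModPair.Pair.admBlowup.{u}).Q
    (ModPair.Pair.admBlowup.{u}) ψ
  have ha := Localization.inverts (ModPair.Pair.admBlowup.{u}).Q (ModPair.Pair.admBlowup.{u}) _ a.hs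
  have hc := Localization.inverts (ModPair.Pair.admBlowup.{u}).Q (ModPair.Pair.admBlowup.{u}) _ c.hs
  have := hasPullback_map a.f c.f
  refine hasLimit_of_iso (F := cospan ((ModPair.Pair.admBlowup.{u}).Q.map a.f)
    ((ModPair.Pair.admBlowup.{u}).Q.map c.f)) (cospanExt (asIso ((ModPair.Pair.admBlowup.{u}).Q.map a.s))
    (asIso ((ModPair.Pair.admBlowup.{u}).Q.map c.s)) (Iso.refl _) ?_ ?_)
  · simp [MorphismProperty.RightFraction.map]
  · simp [MorphismProperty.RightFraction.map]


theorem hasPullbacks : HasPullbacks (ModPair.Pair.admBlowup.{u}).Localization := by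
  have hcalc : (ModPair.Pair.admBlowup.{u}).HasRightCalculusOfFractions := Groth.Agent.S18738.result
  have key : ∀ {A B Z : (ModPair.Pair.admBlowup.{u}).Localization} {φ : A ⟶ Z} {ψ : B ⟶ Z},
      HasLimit (cospan φ ψ) := by
    intro A B Z φ ψ
    exact key' hcalc A B Z φ ψ
  exact hasPullbacks_of_hasLimit_cospan _

/-- The localization of the category of modulus pairs and ambient morphisms at the class of abstract
admissible blow-ups has all finite limits. -/
theorem result :
    HasFiniteLimits (ModPair.Pair.admBlowup.{u}).Localization := by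
  have := hasTerminal.{u}
  have := hasPullbacks.{u}
  exact hasFiniteLimits_of_hasTerminal_and_pullbacks

end Groth.Agent.S18739
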