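import Groth.Statements.S18748
import Groth.Agent.Lib.ModPairCoprod68
import Groth.Agent.Lib.LocalizationCoproducts68
import Groth.Agent.S18738

set_option autoImplicit false
universe u
open CategoryTheory CategoryTheory.Limits AlgebraicGeometry TopologicalSpace
open ModPair

namespace Groth.Agent.S18748

open Groth.Agent.Lib.ModPairCoprod68

/-- Isomorphisms of modulus pairs are admissible blow-ups. -/
theorem admBlowup_of_isIso {P Q : ModPair.Pair.{u}} (f : P ⟶ Q) [IsIso f] :
    ModPair.Pair.admBlowup f := by
  have hfi : f.hom ≫ (inv f).hom = 𝟙 P.total :=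
    congrArg ModPair.Pair.Hom.hom (IsIso.hom_inv_id f)
  have hif : (inv f).hom ≫ f.hom = 𝟙 Q.total :=
    congrArg ModPair.Pair.Hom.hom (IsIso.inv_hom_id f)
  have hiso : IsIso f.hom := ⟨⟨(inv f).hom, hfi, hif⟩⟩
  refine ⟨?_, inferInstance, inferInstance⟩
  show P.mod = Q.mod.comap f.hom
  apply le_antisymm f.cond
  have h1 : Q.mod.comap f.hom ≤ (P.mod.comap (inv f).hom).comap f.hom :=
    Scheme.IdealSheafData.comap_mono _ (inv f).cond
  rw [← Scheme.IdealSheafData.comap_comp, hfi, Scheme.IdealSheafData.comap_id] at h1
  exact h1

instance admBlowup_isStableUnderComposition :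
    (ModPair.Pair.admBlowup.{u}).IsStableUnderComposition where
  comp_mem f g hf hg := Groth.Agent.S18738.isAdmBlowup_comp _ _ _ f.hom g.hom hf hg

instance admBlowup_containsIdentities : (ModPair.Pair.admBlowup.{u}).ContainsIdentities where
  id_mem P := Groth.Agent.S18738.isAdmBlowup_id P.mod

instance admBlowup_respectsIso : (ModPair.Pair.admBlowup.{u}).RespectsIso :=
  MorphismProperty.respectsIso_of_isStableUnderComposition (fun _ _ f (_ : IsIso f) =>
    admBlowup_of_isIso f)

/-- The category of modulus pairs has coproducts indexed by any `u`-small type. -/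
theorem hasCoproductsOfShape_pair (σ : Type) : HasCoproductsOfShape σ ModPair.Pair.{u} := by
  refine ⟨fun F => ?_⟩
  let P : σ → ModPair.Pair.{u} := F.obj ∘ Discrete.mk
  have : HasColimit (Discrete.functor P) := ⟨⟨⟨_, isColimitSigmaCofan P⟩⟩⟩
  exact hasColimit_of_iso (Discrete.natIsoFunctor (F := F))

/-- Admissible blow-ups are stable under coproducts. -/
theorem admBlowup_isStableUnderCoproductsOfShape (σ : Type) :
    (ModPair.Pair.admBlowup.{u}).IsStableUnderCoproductsOfShape σ := by
  apply MorphismProperty.IsStableUnderCoproductsOfShape.mk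
  intro P P' _ _ g hg
  let e : ∐ P ≅ sigmaPair P :=
    (coproductIsCoproduct P).coconePointUniqueUpToIso (isColimitSigmaCofan P)
  let e' : ∐ P' ≅ sigmaPair P' :=
    (coproductIsCoproduct P').coconePointUniqueUpToIso (isColimitSigmaCofan P')
  have hcomm : Limits.Sigma.map g ≫ e'.hom = e.hom ≫ sigmaPairMap P P' g := by
    apply Limits.Sigma.hom_ext
    intro a
    have h1 : Sigma.ι P a ≫ e.hom = sigmaPairι P a :=
      (coproductIsCoproduct P).comp_coconePointUniqueUpToIso_hom (isColimitSigmaCofan P) ⟨a⟩
    have h2 : Sigma.ι P' a ≫ e'.hom = sigmaPairι P' a :=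
      (coproductIsCoproduct P').comp_coconePointUniqueUpToIso_hom (isColimitSigmaCofan P') ⟨a⟩
    rw [← Category.assoc, Limits.Sigma.ι_map, Category.assoc, h2, ← Category.assoc, h1,
      sigmaPairι_sigmaPairMap]
  have h3 : ModPair.Pair.admBlowup (e.hom ≫ sigmaPairMap P P' g) :=
    (MorphismProperty.cancel_left_of_respectsIso _ e.hom _).mpr (admBlowup_sigmaPairMap P P' g hg)
  rw [← hcomm] at h3
  exact (MorphismProperty.cancel_right_of_respectsIso _ _ e'.hom).mp h3

/-- The localization of the category of modulus pairs and ambient morphisms at the class of abstract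
admissible blow-ups has binary coproducts, and the localization functor carries the coproduct of two
modulus pairs (the disjoint union of the total spaces with the disjoint union of the moduli) to a
coproduct. (The source also states that the interior functor detects these coproducts; that part is
not included.) -/
theorem result :
    HasBinaryCoproducts (ModPair.Pair.admBlowup.{u}).Localization ∧
      PreservesColimitsOfShape (Discrete WalkingPair) (ModPair.Pair.admBlowup.{u}).Q := by
  have : HasCoproductsOfShape WalkingPair ModPair.Pair.{u} := hasCoproductsOfShape_pair WalkingPair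
  have : (ModPair.Pair.admBlowup.{u}).IsStableUnderCoproductsOfShape WalkingPair :=
    admBlowup_isStableUnderCoproductsOfShape WalkingPair
  exact ⟨Groth.Agent.Lib.LocalizationCoproducts68.hasCoproductsOfShape
      (ModPair.Pair.admBlowup.{u}).Q ModPair.Pair.admBlowup.{u} WalkingPair,
    Groth.Agent.Lib.LocalizationCoproducts68.preservesCoproductsOfShape
      (ModPair.Pair.admBlowup.{u}).Q ModPair.Pair.admBlowup.{u} WalkingPair⟩

end Groth.Agent.S18748
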