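import Groth.Statements.S18754
import Groth.Agent.Lib.LimClosedIntoStage2
import Groth.Agent.Lib.EffCartier96

set_option autoImplicit false
universe u
open CategoryTheory CategoryTheory.Limits AlgebraicGeometry TopologicalSpace
open ModPair

namespace Groth.Agent.S18754

/-- A closed immersion `ι : X ⟶ Z` over `Y` such that both `Z` and `X` are isomorphic to `U` over an
open `U` of `Y` whose preimage in `Z` is scheme-theoretically dense, is an isomorphism. -/
theorem isIso_of_isIso_over_dense {X Z Y : Scheme.{u}} (ι : X ⟶ Z) [IsClosedImmersion ι]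
    (g : Z ⟶ Y) (U : Y.Opens) (hg : IsIso (g ∣_ U)) (hf : IsIso ((ι ≫ g) ∣_ U))
    (hdom : IsSchemeTheoreticallyDominant (g ⁻¹ᵁ U).ι) : IsIso ι := by
  let f := ι ≫ g
  let σ : ((g ⁻¹ᵁ U : Z.Opens) : Scheme.{u}) ⟶ X := (g ∣_ U) ≫ inv (f ∣_ U) ≫ (f ⁻¹ᵁ U).ι
  have hPg := isPullback_morphismRestrict g U
  have hPf := isPullback_morphismRestrict f U
  have hw : (g ∣_ U) ≫ U.ι = (σ ≫ ι) ≫ g := by
    have h1 : (f ⁻¹ᵁ U).ι ≫ ι ≫ g = (f ∣_ U) ≫ U.ι := hPf.w.symm
    simp only [σ, Category.assoc]
    rw [h1, IsIso.inv_hom_id_assoc]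
  let l := hPg.lift (g ∣_ U) (σ ≫ ι) hw
  have hl1 : l ≫ (g ∣_ U) = g ∣_ U := hPg.lift_fst _ _ _
  have hl2 : l ≫ (g ⁻¹ᵁ U).ι = σ ≫ ι := hPg.lift_snd _ _ _
  have hl : l = 𝟙 _ := by
    rw [← cancel_mono (g ∣_ U), hl1, Category.id_comp]
  have hσ : σ ≫ ι = (g ⁻¹ᵁ U).ι := by
    rw [← hl2, hl, Category.id_comp]
  have hker : ι.ker = ⊥ := by
    refine le_bot_iff.mp ?_
    calc ι.ker ≤ (σ ≫ ι).ker := Scheme.Hom.le_ker_comp σ ι
      _ = (g ⁻¹ᵁ U).ι.ker := by rw [hσ]
      _ = ⊥ := hdom.ker_eq_bot
  exact IsClosedImmersion.isIso_iff_ker_eq_bot.mpr hker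

end Groth.Agent.S18754

namespace Groth.Agent.S18754

/-- Let (Y, I_Y) be a modulus pair with Y quasi-compact and quasi-separated, and let (X_i ⟶ Y) be a
cofiltered system of Y-schemes with affine transition morphisms such that every X_i is quasi-compact
and quasi-separated, the pulled-back ideal I_Y.comap (X_i ⟶ Y) is the ideal of an effective Cartier
divisor, and X_i ⟶ Y is an abstract admissible blow-up of modulus pairs which is locally of finite
presentation. Let X be the limit of the system over Y and suppose that X ⟶ Y, with the pulled-back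
modulus (assumed effective Cartier), is also an abstract admissible blow-up. Then X ⟶ Y is locally
of finite presentation: an abstract admissible blow-up of quasi-compact quasi-separated modulus
pairs which is not of finite presentation is never a limit of finitely presented ones. -/
theorem result {Y : Scheme.{u}}
    [CompactSpace Y] [QuasiSeparatedSpace Y] (IY : Y.IdealSheafData) (hY : BlowUp.IsEffCartierIdeal IY)
    {I : Type u} [SmallCategory I] [IsCofiltered I] (D : I ⥤ Over Y) (c : Cone D) (hc : IsLimit c)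
    [∀ (i j : I) (t : i ⟶ j), IsAffineHom (D.map t).left]
    [∀ i, CompactSpace (D.obj i).left] [∀ i, QuasiSeparatedSpace (D.obj i).left]
    (hI : ∀ i, BlowUp.IsEffCartierIdeal (IY.comap (D.obj i).hom))
    (hadm : ∀ i, ModPair.IsAdmBlowup (IY.comap (D.obj i).hom) IY (D.obj i).hom)
    [∀ i, LocallyOfFinitePresentation (D.obj i).hom]
    (hX : BlowUp.IsEffCartierIdeal (IY.comap c.pt.hom))
    (hXadm : ModPair.IsAdmBlowup (IY.comap c.pt.hom) IY c.pt.hom) :
    LocallyOfFinitePresentation c.pt.hom := by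
  have hconn : IsConnected I := IsCofiltered.isConnected I
  obtain ⟨i₀⟩ := IsCofiltered.nonempty (C := I)
  have hlft : LocallyOfFiniteType c.pt.hom := by
    have : IsProper c.pt.hom := hXadm.2.1
    infer_instance
  let D' : I ⥤ Scheme.{u} := D ⋙ Over.forget Y
  let c' : Cone D' := (Over.forget Y).mapCone c
  have hc' : IsLimit c' := isLimitOfPreserves (Over.forget Y) hc
  have : ∀ {i j : I} (t : i ⟶ j), IsAffineHom (D'.map t) := fun {i j} t =>
    (inferInstance : IsAffineHom (D.map t).left)
  have : ∀ i, CompactSpace (D'.obj i) := fun i => (inferInstance : CompactSpace (D.obj i).left)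
  have hτ : ∀ {i j : I} (t : i ⟶ j), D'.map t ≫ (D.obj j).hom = (D.obj i).hom :=
    fun {i j} t => Over.w (D.map t)
  have hw : ∀ i, (c.π.app i).left ≫ (D.obj i).hom = c.pt.hom := fun i => Over.w (c.π.app i)
  have : IsClosedImmersion (𝟙 c'.pt) := inferInstance
  have hlft' : LocallyOfFiniteType (𝟙 c'.pt ≫ c'.π.app i₀ ≫ (D.obj i₀).hom) := by
    rw [Category.id_comp]
    have : c'.π.app i₀ ≫ (D.obj i₀).hom = c.pt.hom := hw i₀
    rw [this]
    exact hlft
  obtain ⟨j, hj⟩ := Groth.Agent.Lib.LimStructureMap.exists_isClosedImmersion_into_stage D' c' hc'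
    (fun i => (D.obj i).hom) hτ i₀ (𝟙 c'.pt)
  have hcl : IsClosedImmersion (c.π.app j.left).left := by
    have := hj j (𝟙 j)
    rwa [Category.id_comp] at this
  let i := j.left
  have hint : (D.obj i).hom ⁻¹ᵁ ModPair.interior IY = ModPair.interior (IY.comap (D.obj i).hom) := by
    ext x
    simp [ModPair.interior, Scheme.IdealSheafData.support_comap]
  have hdom : IsSchemeTheoreticallyDominant ((D.obj i).hom ⁻¹ᵁ ModPair.interior IY).ι := by
    rw [hint]
    exact Groth.Agent.Lib.EffCartier96.isSchemeTheoreticallyDominant_interior_ι _ (hI i)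
  have hiso1 : IsIso ((D.obj i).hom ∣_ ModPair.interior IY) := (hadm i).2.2
  have hiso2 : IsIso (((c.π.app i).left ≫ (D.obj i).hom) ∣_ ModPair.interior IY) := by
    rw [hw i]
    exact hXadm.2.2
  have hiso : IsIso (c.π.app i).left :=
    isIso_of_isIso_over_dense (c.π.app i).left (D.obj i).hom (ModPair.interior IY) hiso1 hiso2 hdom
  rw [← hw i]
  infer_instance

end Groth.Agent.S18754
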