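import Groth.Statements.S18755
import Groth.Agent.Lib.AmbProd68

set_option autoImplicit false
universe u
open CategoryTheory CategoryTheory.Limits AlgebraicGeometry TopologicalSpace
open ModPair

namespace Groth.Agent.S18755

/-- Let (S₀, I₀), (S₁, I₁), (T, J), (X, I) be schemes with quasi-coherent ideal sheaves of effective
Cartier divisors, f : X ⟶ S₁, g : T ⟶ S₁ and σ : S₁ ⟶ S₀ morphisms satisfying the modulus condition,
and let (Y₁, K₁) with π₁ and (Y₀, K₀) with π₀ be ambient products of (X, I) and (T, J) over S₁ and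
over S₀ (the latter for f ≫ σ and g ≫ σ): blow-ups of the scheme-theoretic image of the product of
the interiors inside X ×_{S₁} T, resp. X ×_{S₀} T, in the intersection of the pulled-back moduli,
with K·E = D_X·D_T. Then the ambient product is functorial in the base: there is a unique morphism φ
: Y₁ ⟶ Y₀ compatible with the maps to X ×_{S₀} T (through the canonical X ×_{S₁} T ⟶ X ×_{S₀} T),
and every such φ is minimal, K₁ = K₀.comap φ. -/
theorem result {S₀ S₁ T X Y₁ Y₀ : Scheme.{u}} (I₀ : S₀.IdealSheafData)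
    (I₁ : S₁.IdealSheafData) (J : T.IdealSheafData) (I : X.IdealSheafData)
    (h₀ : BlowUp.IsEffCartierIdeal I₀) (h₁ : BlowUp.IsEffCartierIdeal I₁)
    (hT : BlowUp.IsEffCartierIdeal J) (hX : BlowUp.IsEffCartierIdeal I)
    (f : X ⟶ S₁) (hf : ModPair.IsAmbient I I₁ f) (g : T ⟶ S₁) (hg : ModPair.IsAmbient J I₁ g)
    (σ : S₁ ⟶ S₀) (hσ : ModPair.IsAmbient I₁ I₀ σ)
    (π₁ : Y₁ ⟶ ModPair.mprod f g I J) (K₁ : Y₁.IdealSheafData) (hY₁ : ModPair.IsAmbProd f g I J π₁ K₁)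
    (π₀ : Y₀ ⟶ ModPair.mprod (f ≫ σ) (g ≫ σ) I J) (K₀ : Y₀.IdealSheafData)
    (hY₀ : ModPair.IsAmbProd (f ≫ σ) (g ≫ σ) I J π₀ K₀) :
    (∃! φ : Y₁ ⟶ Y₀, φ ≫ π₀ ≫ ModPair.mprodι (f ≫ σ) (g ≫ σ) I J =
        π₁ ≫ ModPair.mprodι f g I J ≫ pullback.mapDesc f g σ) ∧
      ∀ φ : Y₁ ⟶ Y₀, φ ≫ π₀ ≫ ModPair.mprodι (f ≫ σ) (g ≫ σ) I J =
          π₁ ≫ ModPair.mprodι f g I J ≫ pullback.mapDesc f g σ →
        ModPair.IsMinimal K₁ K₀ φ := by
  have hK₁ := Groth.Agent.Lib.AmbProd68.IsAmbProd.isEffCartier hX hT hY₁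
  have hfst := Groth.Agent.Lib.AmbProd68.IsAmbProd.le_comap_fst hY₁
  have hsnd := Groth.Agent.Lib.AmbProd68.IsAmbProd.le_comap_snd hY₁
  have hcond : (π₁ ≫ ModPair.mprodι f g I J ≫ pullback.fst f g) ≫ f ≫ σ =
      (π₁ ≫ ModPair.mprodι f g I J ≫ pullback.snd f g) ≫ g ≫ σ := by
    simp only [Category.assoc, pullback.condition_assoc]
  obtain ⟨c, ⟨hc1, hc2⟩, -⟩ := Groth.Agent.Lib.ModPairProd68.existsUnique_lift_mprod (f ≫ σ) (g ≫ σ)
    I J K₁ hK₁ (π₁ ≫ ModPair.mprodι f g I J ≫ pullback.fst f g)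
    (π₁ ≫ ModPair.mprodι f g I J ≫ pullback.snd f g) hfst hsnd hcond
  have hcι : c ≫ ModPair.mprodι (f ≫ σ) (g ≫ σ) I J =
      π₁ ≫ ModPair.mprodι f g I J ≫ pullback.mapDesc f g σ := by
    have e1 : pullback.mapDesc f g σ ≫ pullback.fst (f ≫ σ) (g ≫ σ) = pullback.fst f g :=
      (pullback.lift_fst _ _ _).trans (Category.comp_id _)
    have e2 : pullback.mapDesc f g σ ≫ pullback.snd (f ≫ σ) (g ≫ σ) = pullback.snd f g :=
      (pullback.lift_snd _ _ _).trans (Category.comp_id _)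
    apply pullback.hom_ext
    · rw [Category.assoc, hc1, Category.assoc, Category.assoc, e1]
    · rw [Category.assoc, hc2, Category.assoc, Category.assoc, e2]
  have hcentre : (ModPair.prodCentre (f ≫ σ) (g ≫ σ) I J).comap c =
      (ModPair.prodCentre f g I J).comap π₁ := by
    rw [Groth.Agent.Lib.AmbProd68.comap_prodCentre, Groth.Agent.Lib.AmbProd68.comap_prodCentre,
      hc1, hc2]
  have hcart : BlowUp.IsEffCartierIdeal ((ModPair.prodCentre (f ≫ σ) (g ≫ σ) I J).comap c) := by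
    rw [hcentre]
    exact hY₁.1.1
  obtain ⟨φ, hφ, hφu⟩ := hY₀.1.2 Y₁ c hcart
  have hφ' : φ ≫ π₀ = c := hφ
  refine ⟨⟨φ, ?_, ?_⟩, ?_⟩
  · show φ ≫ π₀ ≫ ModPair.mprodι (f ≫ σ) (g ≫ σ) I J = _
    rw [← Category.assoc, hφ', hcι]
  · intro ψ hψ
    apply hφu
    show ψ ≫ π₀ = c
    rw [← cancel_mono (ModPair.mprodι (f ≫ σ) (g ≫ σ) I J), Category.assoc, hψ, hcι]
  · intro ψ hψ
    have hψc : ψ ≫ π₀ = c := by
      rw [← cancel_mono (ModPair.mprodι (f ≫ σ) (g ≫ σ) I J), Category.assoc, hψ, hcι]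
    show K₁ = K₀.comap ψ
    apply Groth.Agent.Lib.AmbProd68.eq_of_mul_eq_mul_right _ _ _
      (Groth.Agent.Lib.AmbProd68.IsAmbProd.isEffCartier_exc hY₁)
    rw [Groth.Agent.Lib.AmbProd68.IsAmbProd.mul_eq hY₁]
    have h0 := congrArg (fun L => L.comap ψ) (Groth.Agent.Lib.AmbProd68.IsAmbProd.mul_eq hY₀)
    simp only [Groth.Agent.Lib.IdealSheafComap.comap_mul, Scheme.IdealSheafData.comap_sup,
      ← Scheme.IdealSheafData.comap_comp] at h0
    rw [← Category.assoc ψ, ← Category.assoc ψ, hψc, hc1, hc2] at h0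
    exact h0.symm

end Groth.Agent.S18755
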