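import Groth.Statements.S18763
-- import your own Groth.Agent.* helpers here

set_option autoImplicit false
universe u
open CategoryTheory CategoryTheory.Limits MonoidalCategory CartesianMonoidalCategory MonObj GrpObj AlgebraicGeometry
open AlgGrp

namespace Groth.Agent.S18763

/-- Two morphisms of schemes agree if they agree fppf-locally on the source, where the
covering is pulled back from a covering of a target `Q` along `q`. -/
theorem ext_of_fppf_cover {T Q Z : Scheme.{u}} (R : Presieve Q) (hR : R ∈ Scheme.fppfPrecoverage Q)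
    (q : T ⟶ Q) (a b : T ⟶ Z)
    (h : ∀ (W : Scheme.{u}) (w : W ⟶ T) (S' : Scheme.{u}) (f : S' ⟶ Q), R f → ∀ (w' : W ⟶ S'),
      w ≫ q = w' ≫ f → w ≫ a = w ≫ b) : a = b := by
  have hsheaf : Presieve.IsSheaf Scheme.fppfTopology (yoneda.obj Z) :=
    GrothendieckTopology.Subcanonical.isSheaf_of_isRepresentable _
  have hmem : (Sieve.generate R).pullback q ∈ Scheme.fppfTopology T :=
    Scheme.fppfTopology.pullback_stable q (Precoverage.generate_mem_toGrothendieck hR)
  have hsep := (hsheaf _ hmem).isSeparatedFor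
  refine hsep.ext (t₁ := a) (t₂ := b) ?_
  intro W w hw
  obtain ⟨S', w', f, hf, hfac⟩ := hw
  exact h W w S' f hf w' hfac.symm

theorem aux
    (k : Type u) [Field k]
    (G : Over (Spec (CommRingCat.of k))) [GrpObj G]
    (H : Over (Spec (CommRingCat.of k))) [GrpObj H] (i : H ⟶ G) [IsMonHom i]
    (Q : Over (Spec (CommRingCat.of k))) (aQ : AlgGrp.Action G Q) (q₀ : 𝟙_ (Over (Spec (CommRingCat.of k))) ⟶ Q)
    (hQ : ChGrp.IsHomog Scheme.fppfPrecoverage i aQ q₀)
    (N : Over (Spec (CommRingCat.of k))) [GrpObj N] (n : N ⟶ G) [IsMonHom n]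
    (hN : ∀ (T : Over (Spec (CommRingCat.of k))) (g : T ⟶ G),
      (∃ g' : T ⟶ N, g' ≫ n = g) ↔
        ∀ (T' : Over (Spec (CommRingCat.of k))) (v : T' ⟶ T) (q : T' ⟶ Q), lift (v ≫ g) q ≫ aQ.act = q) :
    AlgGrp.IsNormalHom n ∧ (∃ m : N ⟶ H, m ≫ i = n) ∧
      ∀ (N' : Over (Spec (CommRingCat.of k))) [GrpObj N'] (n' : N' ⟶ G) [IsMonHom n'],
        AlgGrp.IsNormalHom n' → (∃ m' : N' ⟶ H, m' ≫ i = n') → ∃ r : N' ⟶ N, r ≫ n = n' := by
  have hNfix : ∀ (T : Over (Spec (CommRingCat.of k))) (n₀ : T ⟶ N) (q : T ⟶ Q),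
      lift (n₀ ≫ n) q ≫ aQ.act = q := by
    intro T n₀ q
    have := (hN T (n₀ ≫ n)).mp ⟨n₀, rfl⟩ T (𝟙 T) q
    rwa [Category.id_comp] at this
  have hpb := hQ.2.1
  -- `H` fixes the base point
  have hHfix : ∀ (T : Over (Spec (CommRingCat.of k))) (h : T ⟶ H),
      lift (h ≫ i) (toUnit T ≫ q₀) ≫ aQ.act = toUnit T ≫ q₀ := by
    intro T h
    have hw := hpb.w
    have h2 : lift (1 : T ⟶ G) h ≫ fst G H ≫ aQ.orbitMap q₀ =
        lift (1 : T ⟶ G) h ≫ (G ◁ i ≫ μ) ≫ aQ.orbitMap q₀ := by rw [hw]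
    rw [lift_fst_assoc, Category.assoc, lift_whiskerLeft_assoc, AlgGrp.Action.comp_orbitMap,
      AlgGrp.Action.lift_one_act, ← Category.assoc, ← Hom.mul_def, _root_.one_mul,
      AlgGrp.Action.comp_orbitMap] at h2
    exact h2.symm
  refine ⟨?_, ?_, ?_⟩
  · intro T g n₀
    obtain ⟨g', hg'⟩ := (hN T (g * (n₀ ≫ n) * g⁻¹)).mpr (by
      intro T' v q
      rw [MonObj.comp_mul, MonObj.comp_mul, GrpObj.comp_inv, AlgGrp.Action.lift_mul_act,
        AlgGrp.Action.lift_mul_act, ← Category.assoc v n₀ n, hNfix, ← AlgGrp.Action.lift_mul_act,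
        mul_inv_cancel, AlgGrp.Action.lift_one_act])
    exact ⟨g', hg'.symm⟩
  · have h1 : (1 : N ⟶ G) ≫ aQ.orbitMap q₀ = n ≫ aQ.orbitMap q₀ := by
      rw [AlgGrp.Action.comp_orbitMap, AlgGrp.Action.comp_orbitMap, AlgGrp.Action.lift_one_act]
      have := hNfix N (𝟙 N) (toUnit N ≫ q₀)
      rw [Category.id_comp] at this
      exact this.symm
    refine ⟨hpb.lift 1 n h1 ≫ snd G H, ?_⟩
    have e1 := hpb.lift_fst 1 n h1
    have e2 := hpb.lift_snd 1 n h1
    have hl : hpb.lift 1 n h1 = lift 1 (hpb.lift 1 n h1 ≫ snd G H) := by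
      conv_lhs => rw [← lift_comp_fst_snd (hpb.lift 1 n h1), e1]
    rw [hl, lift_whiskerLeft_assoc, ← Hom.mul_def, _root_.one_mul] at e2
    exact e2
  · intro N' _ n' _ hn' hm'
    obtain ⟨m', hm'⟩ := hm'
    apply (hN N' n').mpr
    intro T' v q
    obtain ⟨R, hR, hsec⟩ := hQ.2.2
    have key : (lift (v ≫ n') q ≫ aQ.act).left = q.left := by
      refine ext_of_fppf_cover R hR q.left _ _ ?_
      intro W w S' f hf w' hfac
      obtain ⟨s, hs⟩ := hsec f hf
      change s ≫ (aQ.orbitMap q₀).left = f at hs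
      -- the test object
      let WT : Over (Spec (CommRingCat.of k)) := Over.mk (w ≫ T'.hom)
      let wo : WT ⟶ T' := Over.homMk w rfl
      have hfQ : f ≫ Q.hom = s ≫ G.hom := by
        rw [← hs, Category.assoc, Over.w]
      let gW : WT ⟶ G := Over.homMk (w' ≫ s) (by
        change (w' ≫ s) ≫ G.hom = w ≫ T'.hom
        rw [Category.assoc, ← hfQ, ← Category.assoc, ← hfac, Category.assoc, Over.w])
      have hq : wo ≫ q = gW ≫ aQ.orbitMap q₀ := by
        ext
        change w ≫ q.left = (w' ≫ s) ≫ (aQ.orbitMap q₀).left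
        rw [Category.assoc, hs, hfac]
      have goal : wo ≫ lift (v ≫ n') q ≫ aQ.act = wo ≫ q := by
        rw [comp_lift_assoc, hq, AlgGrp.Action.comp_orbitMap, ← AlgGrp.Action.lift_mul_act]
        obtain ⟨n'', hn''⟩ := hn' WT gW⁻¹ (wo ≫ v)
        have hcalc : (wo ≫ v ≫ n') * gW = gW * (n'' ≫ n') := by
          rw [← hn'', Category.assoc]
          group
        rw [hcalc, AlgGrp.Action.lift_mul_act, ← hm', ← Category.assoc n'' m' i, hHfix]
      have := congrArg (fun φ => φ.left) goal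
      exact this
    ext
    exact key


/-- Let G be a finite group scheme over a field k and H a closed subgroup scheme of G, and let (Q, q₀)
with its G-action be the homogeneous space G/H for the fppf topology (the orbit map of q₀ is an fppf
H-torsor onto Q). Let N be a closed subgroup scheme of G which is the kernel of the action of G on
Q: a point g of G with values in a k-scheme T factors through N exactly when g acts as the identity
on all points of Q with values in T-schemes. Then N (the core of H in G) is normal in G, is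
contained in H, and contains every closed normal subgroup scheme of G which is contained in H. (The
published definition takes the core to be the kernel of the linear representation of G on the
coordinate ring of G/H; this is the same subgroup as the kernel of the action on G/H used here.) -/
theorem result
    (k : Type u) [Field k]
    (G : Over (Spec (CommRingCat.of k))) [GrpObj G] [IsFinite G.hom]
    (H : Over (Spec (CommRingCat.of k))) [GrpObj H] (i : H ⟶ G) [IsMonHom i] [IsClosedImmersion i.left]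
    (Q : Over (Spec (CommRingCat.of k))) (aQ : AlgGrp.Action G Q) (q₀ : 𝟙_ (Over (Spec (CommRingCat.of k))) ⟶ Q)
    (hQ : ChGrp.IsHomog Scheme.fppfPrecoverage i aQ q₀)
    (N : Over (Spec (CommRingCat.of k))) [GrpObj N] (n : N ⟶ G) [IsMonHom n] [IsClosedImmersion n.left]
    (hN : ∀ (T : Over (Spec (CommRingCat.of k))) (g : T ⟶ G),
      (∃ g' : T ⟶ N, g' ≫ n = g) ↔
        ∀ (T' : Over (Spec (CommRingCat.of k))) (v : T' ⟶ T) (q : T' ⟶ Q), lift (v ≫ g) q ≫ aQ.act = q) :
    AlgGrp.IsNormalHom n ∧ (∃ m : N ⟶ H, m ≫ i = n) ∧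
      ∀ (N' : Over (Spec (CommRingCat.of k))) [GrpObj N'] (n' : N' ⟶ G) [IsMonHom n'] [IsClosedImmersion n'.left],
        AlgGrp.IsNormalHom n' → (∃ m' : N' ⟶ H, m' ≫ i = n') → ∃ r : N' ⟶ N, r ≫ n = n' := by
  exact aux k G H i Q aQ q₀ hQ N n hN |>.imp id (fun h => ⟨h.1, fun N' _ n' _ _ => h.2 N' n'⟩)

end Groth.Agent.S18763
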