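import Mathlib
import Groth.Statements.S18789

set_option autoImplicit false
universe u v w x
open TorusGr

namespace Groth.Agent.S18789

section Helpers

set_option linter.unusedSectionVars false

open DirectSum

variable {k : Type u} [Field k] {M : Type v} [AddCommGroup M] [DecidableEq M]
    {A : Type w} [CommRing A] [Algebra k A] (𝒜 : M → Submodule k A) [GradedAlgebra 𝒜]
    {P : Type x} [AddCommGroup P] [Module A P] [Module k P] [IsScalarTower k A P]
    (ℳ : M → Submodule k P) [Decomposition ℳ] [SetLike.GradedSMul 𝒜 ℳ]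

/-- degree `d` component -/
noncomputable def pM (d : M) (x : P) : P := (decompose ℳ x d : P)

theorem pM_mem (d : M) (x : P) : pM ℳ d x ∈ ℳ d := (decompose ℳ x d).2

theorem pM_add (d : M) (x y : P) : pM ℳ d (x + y) = pM ℳ d x + pM ℳ d y := by
  simp [pM, decompose_add]

theorem pM_zero (d : M) : pM ℳ d (0 : P) = 0 := by
  simp [pM]

theorem pM_sum {ι : Type*} (s : Finset ι) (F : ι → P) (d : M) :
    pM ℳ d (∑ i ∈ s, F i) = ∑ i ∈ s, pM ℳ d (F i) := by
  classical
  induction s using Finset.induction_on with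
  | empty => simp [pM_zero]
  | insert a s ha ih => rw [Finset.sum_insert ha, Finset.sum_insert ha, pM_add, ih]

theorem pM_of_mem {e : M} {x : P} (hx : x ∈ ℳ e) (d : M) :
    pM ℳ d x = if d = e then x else 0 := by
  split_ifs with h
  · subst h; exact decompose_of_mem_same ℳ hx
  · exact decompose_of_mem_ne ℳ hx (Ne.symm h)

theorem sum_pM (x : P) : ∃ t : Finset M, x = ∑ d ∈ t, pM ℳ d x := by
  classical
  exact ⟨(decompose ℳ x).support, (sum_support_decompose ℳ x).symm⟩

theorem smul_mem_add {a : A} {x : P} {i j : M} (ha : a ∈ 𝒜 i) (hx : x ∈ ℳ j) :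
    a • x ∈ ℳ (i + j) := by
  have h : a • x ∈ ℳ (i +ᵥ j) := SetLike.GradedSMul.smul_mem ha hx
  simpa [vadd_eq_add] using h

/-- homogeneous scalar -/
theorem pM_smul_of_mem {a : A} {j : M} (ha : a ∈ 𝒜 j) (x : P) (d : M) :
    pM ℳ d (a • x) = a • pM ℳ (d - j) x := by
  induction x using DirectSum.Decomposition.inductionOn ℳ with
  | zero => simp [pM_zero]
  | @homogeneous e y =>
    rw [pM_of_mem ℳ (smul_mem_add 𝒜 ℳ ha y.2), pM_of_mem ℳ y.2]
    by_cases h : d = j + e
    · rw [if_pos h, if_pos (by rw [h]; abel)]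
    · rw [if_neg h, if_neg (fun h' => h (by rw [← h']; abel)), smul_zero]
  | add x y hx hy =>
    rw [smul_add, pM_add, hx, hy, pM_add, smul_add]

/-- homogeneous vector -/
theorem pM_smul_of_mem' (a : A) {x : P} {d : M} (hx : x ∈ ℳ d) (e : M) :
    pM ℳ e (a • x) = pM 𝒜 (e - d) a • x := by
  induction a using DirectSum.Decomposition.inductionOn 𝒜 with
  | zero => simp [pM_zero]
  | @homogeneous g b =>
    rw [pM_of_mem ℳ (smul_mem_add 𝒜 ℳ b.2 hx), pM_of_mem 𝒜 b.2]
    by_cases h : e = g + d
    · rw [if_pos h, if_pos (by rw [h]; abel)]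
    · rw [if_neg h, if_neg (fun h' => h (by rw [← h']; abel)), zero_smul]
  | add a b ha hb =>
    rw [add_smul, pM_add, ha, hb, pM_add, add_smul]

include 𝒜 in
/-- the span of homogeneous elements is graded -/
theorem pM_mem_span {ι : Type*} (e : ι → P) (he : ∀ i, SetLike.IsHomogeneousElem ℳ (e i))
    (x : P) (hx : x ∈ Submodule.span A (Set.range e)) (d : M) :
    pM ℳ d x ∈ Submodule.span A (Set.range e) := by
  induction hx using Submodule.span_induction generalizing d with
  | mem y hy =>
    obtain ⟨i, rfl⟩ := hy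
    obtain ⟨j, hj⟩ := he i
    rw [pM_of_mem ℳ hj]
    split_ifs
    · exact Submodule.subset_span ⟨i, rfl⟩
    · exact Submodule.zero_mem _
  | zero => rw [pM_zero]; exact Submodule.zero_mem _
  | add x y _ _ hx hy => rw [pM_add]; exact Submodule.add_mem _ (hx d) (hy d)
  | smul a x _ hx =>
    induction a using DirectSum.Decomposition.inductionOn 𝒜 generalizing d with
    | zero => rw [zero_smul, pM_zero]; exact Submodule.zero_mem _
    | @homogeneous j b =>
      rw [pM_smul_of_mem 𝒜 ℳ b.2]
      exact Submodule.smul_mem _ _ (hx _)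
    | add a b ha hb => rw [add_smul, pM_add]; exact Submodule.add_mem _ (ha d) (hb d)

/-- a homogeneous ideal not contained in `m` has a homogeneous element outside `m` -/
theorem exists_homogeneous_notMem (m J : Ideal A) (hJ : ∀ a ∈ J, ∀ g, pM 𝒜 g a ∈ J)
    (a : A) (haJ : a ∈ J) (ham : a ∉ m) :
    ∃ s, SetLike.IsHomogeneousElem 𝒜 s ∧ s ∈ J ∧ s ∉ m := by
  by_contra hcon
  push Not at hcon
  apply ham
  obtain ⟨t, ht⟩ := sum_pM 𝒜 a
  rw [ht]
  exact Ideal.sum_mem _ (fun g _ => hcon _ ⟨g, pM_mem 𝒜 g a⟩ (hJ a haJ g))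

/-- the conductor of a graded submodule into the whole module is homogeneous -/
theorem pM_mem_colon {ι : Type*} (f : ι → P) (hf : ∀ i, SetLike.IsHomogeneousElem ℳ (f i))
    (a : A) (ha : a ∈ (Submodule.span A (Set.range f)).colon (⊤ : Submodule A P)) (g : M) :
    pM 𝒜 g a ∈ (Submodule.span A (Set.range f)).colon (⊤ : Submodule A P) := by
  rw [Submodule.mem_colon] at ha ⊢
  intro p _
  obtain ⟨t, ht⟩ := sum_pM ℳ p
  rw [ht, Finset.smul_sum]
  refine Submodule.sum_mem _ (fun d _ => ?_)
  have h1 := pM_smul_of_mem' 𝒜 ℳ a (pM_mem ℳ d p) (g + d)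
  rw [add_sub_cancel_right] at h1
  rw [← h1]
  exact pM_mem_span 𝒜 ℳ f hf _ (ha _ trivial) _

/-- the annihilator of the module of relations among homogeneous elements is homogeneous -/
theorem pM_mem_annihilator_ker {n : ℕ} (wt : Fin n → M) (f : Fin n → P)
    (hf : ∀ i, f i ∈ ℳ (wt i)) (a : A)
    (ha : a ∈ (LinearMap.ker (Fintype.linearCombination A f)).annihilator) (g : M) :
    pM 𝒜 g a ∈ (LinearMap.ker (Fintype.linearCombination A f)).annihilator := by
  rw [Submodule.mem_annihilator] at ha ⊢
  intro c hc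
  rw [LinearMap.mem_ker, Fintype.linearCombination_apply] at hc
  funext i
  rw [Pi.smul_apply, Pi.zero_apply, smul_eq_mul]
  obtain ⟨t, ht⟩ := sum_pM 𝒜 (c i)
  rw [ht, Finset.mul_sum]
  refine Finset.sum_eq_zero (fun h _ => ?_)
  -- the component of `c` of degree `e = h + wt i`
  set e := h + wt i with he
  have hce : (fun j => pM 𝒜 (e - wt j) (c j)) ∈ LinearMap.ker (Fintype.linearCombination A f) := by
    rw [LinearMap.mem_ker, Fintype.linearCombination_apply]
    have h2 : ∀ j, pM 𝒜 (e - wt j) (c j) • f j = pM ℳ e (c j • f j) := fun j =>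
      (pM_smul_of_mem' 𝒜 ℳ (c j) (hf j) e).symm
    simp only [h2]
    rw [← pM_sum, hc, pM_zero]
  have h4 := congrFun (ha _ hce) i
  rw [Pi.smul_apply, Pi.zero_apply, smul_eq_mul, he, add_sub_cancel_right] at h4
  have h5 := pM_smul_of_mem' 𝒜 𝒜 a (pM_mem 𝒜 h (c i)) (g + h)
  rw [smul_eq_mul, h4, pM_zero, add_sub_cancel_right, smul_eq_mul] at h5
  exact h5.symm

omit [Algebra k A] [Field k] [Module k P] [IsScalarTower k A P] in
/-- relations modulo `m` have coefficients in `m` -/
theorem coeff_mem_of_sum_mem {n : ℕ} (m : Ideal A) (f : Fin n → P)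
    (hli : LinearIndependent (A ⧸ m)
      (fun i => (Submodule.Quotient.mk (f i) : P ⧸ (m • (⊤ : Submodule A P)))))
    (c : Fin n → A) (hc : ∑ i, c i • f i ∈ m • (⊤ : Submodule A P)) (i : Fin n) : c i ∈ m := by
  have h1 : ∑ j, (Ideal.Quotient.mk m (c j)) •
      (Submodule.Quotient.mk (f j) : P ⧸ (m • (⊤ : Submodule A P))) = 0 := by
    have h0 : (Submodule.Quotient.mk (∑ j, c j • f j) : P ⧸ (m • (⊤ : Submodule A P))) = 0 :=
      (Submodule.Quotient.mk_eq_zero _).mpr hc
    rw [← h0, ← Submodule.mkQ_apply, map_sum]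
    rfl
  have h2 := Fintype.linearIndependent_iff.mp hli _ h1 i
  exact Ideal.Quotient.eq_zero_iff_mem.mp h2

omit [Algebra k A] [Field k] [Module k P] [IsScalarTower k A P] in
theorem exists_annihilator_notMem {n : ℕ} (m : Ideal A) [m.IsPrime] (f : Fin n → P)
    (T : (Fin n → A) →ₗ[A] (Fin n → A)) (s₁ : A) (hs₁ : s₁ ∉ m)
    (hT0 : ∀ c ∈ LinearMap.ker (Fintype.linearCombination A f), T c = 0)
    (hTm : ∀ j i, (T (Pi.single j 1)) i - s₁ * (Pi.single j 1 : Fin n → A) i ∈ m) :
    ∃ a ∈ (LinearMap.ker (Fintype.linearCombination A f)).annihilator, a ∉ m := by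
  classical
  set T' := LinearMap.toMatrix' T with hT'
  refine ⟨T'.det, ?_, ?_⟩
  · rw [Submodule.mem_annihilator]
    intro c hc
    have h1 : T'.mulVec c = 0 := by rw [hT', LinearMap.toMatrix'_mulVec]; exact hT0 c hc
    have h2 : (T'.adjugate * T').mulVec c = 0 := by
      rw [← Matrix.mulVec_mulVec, h1, Matrix.mulVec_zero]
    rw [Matrix.adjugate_mul, Matrix.smul_mulVec, Matrix.one_mulVec] at h2
    exact h2
  · intro hdet
    have h3 : (Ideal.Quotient.mk m) T'.det = (Ideal.Quotient.mk m s₁) ^ n := by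
      rw [RingHom.map_det]
      have : (Ideal.Quotient.mk m).mapMatrix T' =
          (Ideal.Quotient.mk m s₁) • (1 : Matrix (Fin n) (Fin n) (A ⧸ m)) := by
        ext i j
        rw [RingHom.mapMatrix_apply, Matrix.map_apply, Matrix.smul_apply, hT',
          LinearMap.toMatrix'_apply, smul_eq_mul]
        have := hTm j i
        rw [← Ideal.Quotient.eq_zero_iff_mem, map_sub, sub_eq_zero, map_mul] at this
        rw [this, Matrix.one_apply, Pi.single_apply]
        split_ifs <;> simp
      rw [this, Matrix.det_smul, Matrix.det_one, mul_one, Fintype.card_fin]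
    rw [Ideal.Quotient.eq_zero_iff_mem.mpr hdet] at h3
    have hne : Ideal.Quotient.mk m s₁ ≠ 0 := fun h => hs₁ (Ideal.Quotient.eq_zero_iff_mem.mp h)
    exact pow_ne_zero n hne h3.symm

end Helpers

open DirectSum in
/-- Let `A` be a commutative algebra over a field `k`, graded by an additive commutative group `M` (for
`M` the character group of a split torus `T` this is a `T`-action on `Spec A`, and an `M`-graded
`A`-module is a `T`-equivariant quasi-coherent sheaf), let `P` be a finitely generated projective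
`A`-module with a compatible `M`-grading (a locally free `T`-sheaf of finite rank), and let `m` be a
homogeneous maximal ideal with residue field `k` (a `T`-fixed rational point). If homogeneous
elements `f i` of `P` reduce to a basis of `P/mP`, then there is a homogeneous `s ∉ m` such that
after inverting `s` the `f i` generate `P` and every relation among them is killed by a power of
`s`: on the invariant open `D(s)` the module is free on the homogeneous sections `f i`, with the
weights of the fibre `P/mP`. (The published statement has `M ≅ ℤ^r`, a split torus; here `M` is any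
additive commutative group, i.e. any diagonalizable group.) -/
theorem result
    {k : Type u} [Field k] {M : Type v} [AddCommGroup M] [DecidableEq M]
    {A : Type w} [CommRing A] [Algebra k A] (𝒜 : M → Submodule k A) [GradedAlgebra 𝒜]
    {P : Type x} [AddCommGroup P] [Module A P] [Module k P] [IsScalarTower k A P]
    (ℳ : M → Submodule k P) [Decomposition ℳ] [SetLike.GradedSMul 𝒜 ℳ]
    [Module.Finite A P] [Module.Projective A P]
    (m : Ideal A) [m.IsMaximal] (hm : m.IsHomogeneous 𝒜)
    (hrat : Function.Surjective (algebraMap k (A ⧸ m)))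
    {n : ℕ} (wt : Fin n → M) (f : Fin n → P) (hf : ∀ i, f i ∈ ℳ (wt i))
    (hli : LinearIndependent (A ⧸ m)
      (fun i => (Submodule.Quotient.mk (f i) : P ⧸ (m • (⊤ : Submodule A P)))))
    (hsp : Submodule.span A (Set.range f) ⊔ m • (⊤ : Submodule A P) = ⊤) :
    ∃ s : A, SetLike.IsHomogeneousElem 𝒜 s ∧ s ∉ m ∧
      (∀ p : P, ∃ (N : ℕ) (c : Fin n → A), s ^ N • p = ∑ i, c i • f i) ∧
      (∀ c : Fin n → A, ∑ i, c i • f i = 0 → ∃ N : ℕ, ∀ i, s ^ N * c i = 0) := by
  classical
  have hprime : m.IsPrime := Ideal.IsMaximal.isPrime inferInstance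
  set N₀ := Submodule.span A (Set.range f) with hN₀
  have hfh : ∀ i, SetLike.IsHomogeneousElem ℳ (f i) := fun i => ⟨wt i, hf i⟩
  -- Step 1: Nakayama
  obtain ⟨r, hr1, hr2⟩ := Submodule.exists_sub_one_mem_and_smul_le_of_fg_of_le_sup (I := m)
    (N := N₀) (N' := ⊤) (P := ⊤) Module.Finite.fg_top le_rfl (by rw [hsp])
  have hrm : r ∉ m := by
    intro h
    have h1 : (1 : A) ∈ m := by
      have := m.sub_mem h hr1
      simpa using this
    exact (Ideal.ne_top_iff_one m).mp hprime.ne_top h1
  have hrcolon : r ∈ N₀.colon (⊤ : Submodule A P) := by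
    rw [Submodule.mem_colon]
    intro p _
    exact hr2 (Submodule.smul_mem_pointwise_smul p r ⊤ trivial)
  -- Step 2: a homogeneous conductor element
  obtain ⟨s₁, hs₁h, hs₁c, hs₁m⟩ := exists_homogeneous_notMem 𝒜 m (N₀.colon (⊤ : Submodule A P))
    (fun a ha g => pM_mem_colon 𝒜 ℳ f hfh a ha g) r hrcolon hrm
  -- Step 3: lift `s₁ • id` through `π`
  set π := Fintype.linearCombination A f with hπ
  have hrange : LinearMap.range π = N₀ := Fintype.range_linearCombination A f
  let gmap : P →ₗ[A] ↥(LinearMap.range π) :=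
    (s₁ • LinearMap.id).codRestrict _ (fun p => by
      rw [hrange]; exact (Submodule.mem_colon.mp hs₁c) p trivial)
  obtain ⟨t, ht⟩ := Module.projective_lifting_property π.rangeRestrict gmap
    (LinearMap.surjective_rangeRestrict π)
  have htπ : ∀ p, π (t p) = s₁ • p := fun p => by
    have := congrArg Subtype.val (LinearMap.congr_fun ht p)
    simpa [gmap] using this
  -- Step 4: the determinant trick
  set T := t ∘ₗ π with hT
  have hT0 : ∀ c ∈ LinearMap.ker π, T c = 0 := fun c hc => by
    rw [hT, LinearMap.comp_apply, LinearMap.mem_ker.mp hc, map_zero]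
  have hTm : ∀ j i, (T (Pi.single j 1)) i - s₁ * (Pi.single j 1 : Fin n → A) i ∈ m := by
    intro j i
    have hker : π (T (Pi.single j 1) - s₁ • Pi.single j 1) = 0 := by
      rw [map_sub, map_smul, hT, LinearMap.comp_apply, htπ, sub_self]
    have := coeff_mem_of_sum_mem m f hli (T (Pi.single j 1) - s₁ • Pi.single j 1)
      (by rw [← Fintype.linearCombination_apply, ← hπ, hker]; exact zero_mem _) i
    simpa using this
  obtain ⟨a, haann, ham⟩ := exists_annihilator_notMem m f T s₁ hs₁m hT0 hTm
  -- Step 5: a homogeneous annihilator of the relations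
  obtain ⟨s₂, hs₂h, hs₂a, hs₂m⟩ := exists_homogeneous_notMem 𝒜 m _
    (fun a ha g => pM_mem_annihilator_ker 𝒜 ℳ wt f hf a ha g) a haann ham
  -- Step 6
  obtain ⟨g₁, hg₁⟩ := hs₁h
  obtain ⟨g₂, hg₂⟩ := hs₂h
  refine ⟨s₁ * s₂, ⟨g₁ + g₂, SetLike.mul_mem_graded hg₁ hg₂⟩, ?_, ?_, ?_⟩
  · intro h
    rcases hprime.mem_or_mem h with h | h
    · exact hs₁m h
    · exact hs₂m h
  · intro p
    have hp : s₁ • p ∈ LinearMap.range π := by
      rw [hrange]; exact (Submodule.mem_colon.mp hs₁c) p trivial
    obtain ⟨c, hc⟩ := hp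
    refine ⟨1, fun i => s₂ * c i, ?_⟩
    rw [pow_one, mul_comm, mul_smul, ← hc, hπ, Fintype.linearCombination_apply, Finset.smul_sum]
    exact Finset.sum_congr rfl (fun i _ => (mul_smul _ _ _).symm)
  · intro c hc
    refine ⟨1, fun i => ?_⟩
    have hck : c ∈ LinearMap.ker π := by
      rw [LinearMap.mem_ker, hπ, Fintype.linearCombination_apply]; exact hc
    have := congrFun ((Submodule.mem_annihilator.mp hs₂a) c hck) i
    rw [Pi.smul_apply, Pi.zero_apply, smul_eq_mul] at this
    rw [pow_one, mul_assoc, this, mul_zero]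

end Groth.Agent.S18789
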