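import Groth.Statements.S1879
import Groth.Agent.Lib.CharpolyRetract13
import Groth.Agent.Lib.GrpdPts
import Mathlib.AlgebraicGeometry.Morphisms.Affine
import Mathlib.RingTheory.Finiteness.ModuleFinitePresentation
import Mathlib.RingTheory.Flat.EquationalCriterion
import Mathlib.RingTheory.Polynomial.Basic

set_option autoImplicit false
universe u
open CategoryTheory CategoryTheory.Limits AlgebraicGeometry
open Grpd

namespace Groth.Agent.S1879

/-- Let (U, R, s, t, c) be a groupoid scheme with U, R affine and s, t finite locally free. Then Γ(U) is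
integral over the subring C of R-invariant functions. (A groupoid scheme carries U, R, s, t, c, e, i
over S with the groupoid axioms on T-points; 'finite locally free' is finite, flat and locally of
finite presentation; C ⊂ Γ(U) is the ring of functions a with s♯(a) = t♯(a) and M = Spec C.) -/
theorem result (S : Scheme.{u}) (G : Grpd.GroupoidScheme S) [IsAffine G.U] [IsAffine G.R] [IsFinite G.s] [Flat G.s] [LocallyOfFinitePresentation G.s] [IsFinite G.t] [Flat G.t] [LocallyOfFinitePresentation G.t] : Algebra.IsIntegral G.invariants Γ(G.U, ⊤) := by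
  classical
  let alg : Algebra Γ(G.U, ⊤) Γ(G.R, ⊤) := G.s.appTop.hom.toAlgebra
  have hfin : G.s.appTop.hom.Finite := G.s.finite_appTop
  have hflat : G.s.appTop.hom.Flat := G.s.flat_appTop
  have hfp : G.s.appTop.hom.FinitePresentation :=
    HasRingHomProperty.appTop (P := @LocallyOfFinitePresentation) G.s inferInstance
  have i1 : Module.Finite Γ(G.U, ⊤) Γ(G.R, ⊤) := hfin
  have i2 : Module.Flat Γ(G.U, ⊤) Γ(G.R, ⊤) := hflat
  have i3 : Algebra.FinitePresentation Γ(G.U, ⊤) Γ(G.R, ⊤) := hfp
  have i4 : Module.FinitePresentation Γ(G.U, ⊤) Γ(G.R, ⊤) :=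
    Module.FinitePresentation.of_finite_of_finitePresentation ..
  have i5 : Module.Projective Γ(G.U, ⊤) Γ(G.R, ⊤) := Module.Flat.projective_of_finitePresentation
  obtain ⟨n, σ, i, -, -, hσi⟩ :=
    Module.Finite.exists_comp_eq_id_of_projective Γ(G.U, ⊤) Γ(G.R, ⊤)
  have hinj : Function.Injective G.t.appTop.hom := by
    have h : G.t.appTop ≫ G.e.appTop = 𝟙 _ := by
      rw [← Scheme.Hom.comp_appTop, G.e_t]; rfl
    intro a a' haa
    have := congrArg G.e.appTop.hom haa
    have h' : ∀ z, G.e.appTop.hom (G.t.appTop.hom z) = z := fun z => by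
      have := congrArg (fun φ => φ.hom z) h
      simpa using this
    rwa [h', h'] at this
  refine ⟨fun f => ?_⟩
  set b := G.t.appTop.hom f with hb
  set χ := (i ∘ₗ Algebra.lmul Γ(G.U, ⊤) Γ(G.R, ⊤) b ∘ₗ σ).charpoly with hχdef
  have hmonic : χ.Monic := LinearMap.charpoly_monic _
  have h1 : Polynomial.aeval b χ = 0 :=
    Lib.CharpolyRetract13.aeval_eq_zero_of_retract i σ hσi b
  have sq1 : IsPushout G.s.appTop G.t.appTop (pullback.fst G.s G.t).appTop
      (pullback.snd G.s G.t).appTop :=
    isPushout_appTop_of_isPullback (IsPullback.of_hasPullback G.s G.t)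
  have sq2 : IsPushout G.s.appTop G.s.appTop G.c.appTop (pullback.snd G.s G.t).appTop :=
    isPushout_appTop_of_isPullback (Lib.GrpdPts.isPullback_c_snd G)
  let algP : Algebra Γ(G.R, ⊤) Γ(pullback G.s G.t, ⊤) :=
    (pullback.snd G.s G.t).appTop.hom.toAlgebra
  obtain ⟨j1, τ1, h11, h12⟩ :=
    Lib.CharpolyRetract13.exists_retract_charpoly_commRingCat sq1 n i σ hσi b
  obtain ⟨j2, τ2, h21, h22⟩ :=
    Lib.CharpolyRetract13.exists_retract_charpoly_commRingCat sq2 n i σ hσi b
  have hct : G.c ≫ G.t = pullback.fst G.s G.t ≫ G.t := by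
    rw [Lib.GrpdPts.c_eq_cmp, Lib.GrpdPts.cmp_t pullback.condition]
  have key : G.c.appTop.hom b = (pullback.fst G.s G.t).appTop.hom b := by
    have := congrArg (fun φ => φ.appTop.hom f) hct
    simpa [Scheme.Hom.comp_appTop] using this
  have hindep := Lib.CharpolyRetract13.charpoly_retract_indep
    (Pi.basisFun Γ(G.R, ⊤) (Fin n)) (Pi.basisFun Γ(G.R, ⊤) (Fin n)) j1 τ1 j2 τ2 h11 h21
    (Algebra.lmul Γ(G.R, ⊤) Γ(pullback G.s G.t, ⊤) ((pullback.fst G.s G.t).appTop.hom b))
  have hχ : χ.map G.s.appTop.hom = χ.map G.t.appTop.hom := by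
    rw [← h22, ← h12, key]; exact hindep.symm
  have hcoeff : ∀ k, χ.coeff k ∈ G.invariants := fun k => by
    have := congrArg (fun p => p.coeff k) hχ
    simp only [Polynomial.coeff_map] at this
    exact this
  have hlift : χ ∈ Polynomial.lifts G.invariants.subtype :=
    (Polynomial.lifts_iff_coeff_lifts _).mpr (fun k => ⟨⟨χ.coeff k, hcoeff k⟩, rfl⟩)
  obtain ⟨q, hq, -, hqm⟩ := Polynomial.lifts_and_natDegree_eq_and_monic hlift hmonic
  refine ⟨q, hqm, ?_⟩
  have h2 : Polynomial.eval₂ (algebraMap G.invariants Γ(G.U, ⊤)) f q = Polynomial.eval f χ := by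
    rw [← hq, Polynomial.eval_map]; rfl
  rw [h2]
  apply hinj
  rw [map_zero, ← Polynomial.eval₂_at_apply, ← Polynomial.eval_map, ← hχ, Polynomial.eval_map]
  exact h1

end Groth.Agent.S1879
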