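import Groth.Statements.S18790
import Mathlib.RingTheory.GradedAlgebra.Basic

set_option autoImplicit false
universe u v w
open TorusGr

namespace Groth.Agent.S18790

open DirectSum

section
variable {k : Type u} [Field k] {M : Type v} [AddCommGroup M] [DecidableEq M]
  {A : Type w} [CommRing A] [Algebra k A] (𝒜 : M → Submodule k A) [GradedAlgebra 𝒜]

/-- the ideal generated by homogeneous elements of nonzero degree -/
def Jideal : Ideal A := Ideal.span {b : A | ∃ i : M, i ≠ 0 ∧ b ∈ 𝒜 i}

omit [DecidableEq M] [GradedAlgebra 𝒜] in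
lemma mem_Jideal_of_mem {i : M} (hi : i ≠ 0) {b : A} (hb : b ∈ 𝒜 i) : b ∈ Jideal 𝒜 :=
  Ideal.subset_span ⟨i, hi, hb⟩

/-- the degree-zero component of `a * x`, for `x ∈ J`, lies in `J * J`. -/
lemma proj_zero_mul_mem (x : A) (hx : x ∈ Jideal 𝒜) :
    ∀ a : A, (decompose 𝒜 (a * x) 0 : A) ∈ Jideal 𝒜 * Jideal 𝒜 := by
  unfold Jideal at hx
  refine Submodule.span_induction (p := fun x _ => ∀ a : A,
    (decompose 𝒜 (a * x) 0 : A) ∈ Jideal 𝒜 * Jideal 𝒜) ?_ ?_ ?_ ?_ hx
  · rintro b ⟨d, hd, hb⟩ a
    have h0 : (0 : M) = -d + d := (neg_add_cancel d).symm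
    rw [h0, coe_decompose_mul_add_of_right_mem 𝒜 hb]
    refine Ideal.mul_mem_mul ?_ (mem_Jideal_of_mem 𝒜 hd hb)
    exact mem_Jideal_of_mem 𝒜 (neg_ne_zero.mpr hd) (decompose 𝒜 a (-d)).2
  · intro a
    simp
  · intro x y _ _ hx hy a
    rw [mul_add, decompose_add, DirectSum.add_apply, Submodule.coe_add]
    exact Ideal.add_mem _ (hx a) (hy a)
  · intro c x _ hx a
    rw [smul_eq_mul, ← mul_assoc]
    exact hx (a * c)

/-- `s` minus its degree-zero component lies in `J`. -/
lemma sub_proj_zero_mem (s : A) : s - (decompose 𝒜 s 0 : A) ∈ Jideal 𝒜 := by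
  classical
  have h := sum_support_decompose 𝒜 s
  have h2 : s - (decompose 𝒜 s 0 : A) =
      ∑ i ∈ (decompose 𝒜 s).support.erase 0, (decompose 𝒜 s i : A) := by
    by_cases h0 : (0 : M) ∈ (decompose 𝒜 s).support
    · rw [← Finset.add_sum_erase _ _ h0] at h
      nth_rewrite 1 [← h]
      abel
    · rw [Finset.erase_eq_of_notMem h0, h]
      have : (decompose 𝒜 s 0 : A) = 0 := by
        rw [DFinsupp.mem_support_iff, not_not] at h0
        rw [h0]; rfl
      rw [this, sub_zero]
  rw [h2]
  refine Submodule.sum_mem _ fun i hi => ?_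
  exact mem_Jideal_of_mem 𝒜 (Finset.ne_of_mem_erase hi) (decompose 𝒜 s i).2

end


/-- Let `A` be a commutative algebra over a field `k`, graded by an additive commutative group `M` (for
`M` the character group of a split torus `T`, a `T`-action on `Spec A`), let `J` be the ideal
generated by the homogeneous elements of non-zero degree (its zero locus is the fixed-point
subscheme) and let `m ⊇ J` be a maximal ideal with residue field `k` (a fixed rational point) at
which the fixed-point subscheme is the reduced point: `J` and `m` agree after localizing at `m`.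
Then the cotangent space `m/m²` has no part of weight zero: every degree-zero element of `m` lies in
`m²`. (The published statement has `M ≅ ℤ^r`, a split torus, and phrases the conclusion as the
non-vanishing of the weights of a semi-invariant basis of `m/m²`; here `M` is any additive
commutative group, i.e. any diagonalizable group.) -/
theorem result
    {k : Type u} [Field k] {M : Type v} [AddCommGroup M] [DecidableEq M]
    {A : Type w} [CommRing A] [Algebra k A] (𝒜 : M → Submodule k A) [GradedAlgebra 𝒜]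
    (m : Ideal A) [m.IsMaximal] (hrat : Function.Surjective (algebraMap k (A ⧸ m)))
    (hfix : ∀ i : M, i ≠ 0 → ∀ a ∈ 𝒜 i, a ∈ m)
    (hred : ∀ a ∈ m, ∃ s ∉ m, s * a ∈ Ideal.span {b : A | ∃ i : M, i ≠ 0 ∧ b ∈ 𝒜 i})
    {f : A} (hf0 : f ∈ 𝒜 0) (hfm : f ∈ m) : f ∈ m ^ 2 := by
  have hJm : Jideal 𝒜 ≤ m := by
    unfold Jideal
    rw [Ideal.span_le]
    rintro b ⟨i, hi, hb⟩
    exact hfix i hi b hb
  obtain ⟨s, hsm, hsf⟩ := hred f hfm
  have hsf' : s * f ∈ Jideal 𝒜 := hsf
  set s0 : A := (decompose 𝒜 s 0 : A) with hs0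
  have hs0mem : s0 ∈ 𝒜 0 := (decompose 𝒜 s 0).2
  have hsub : s - s0 ∈ Jideal 𝒜 := sub_proj_zero_mem 𝒜 s
  have hs0m : s0 ∉ m := by
    intro h
    apply hsm
    have : s = (s - s0) + s0 := by ring
    rw [this]
    exact m.add_mem (hJm hsub) h
  -- s0 * f ∈ J and of degree zero
  have h1 : s0 * f ∈ Jideal 𝒜 := by
    have : s0 * f = s * f - (s - s0) * f := by ring
    rw [this]
    exact (Jideal 𝒜).sub_mem hsf' ((Jideal 𝒜).mul_mem_right _ hsub)
  have h2 : s0 * f ∈ 𝒜 0 := by
    have := SetLike.GradedMul.mul_mem hs0mem hf0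
    rwa [add_zero] at this
  have h3 : s0 * f ∈ Jideal 𝒜 * Jideal 𝒜 := by
    have h := proj_zero_mul_mem 𝒜 (s0 * f) h1 1
    rwa [one_mul, decompose_of_mem_same 𝒜 h2] at h
  have h4 : s0 * f ∈ m ^ 2 := by
    rw [sq]
    exact Ideal.mul_mono hJm hJm h3
  obtain ⟨y, i, hi, hyi⟩ := Ideal.IsMaximal.exists_inv (I := m) inferInstance hs0m
  have key : f = y * (s0 * f) + i * f := by
    calc f = 1 * f := (one_mul f).symm
      _ = (y * s0 + i) * f := by rw [hyi]
      _ = y * (s0 * f) + i * f := by ring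
  rw [key]
  refine Ideal.add_mem _ (Ideal.mul_mem_left _ _ h4) ?_
  rw [sq]
  exact Ideal.mul_mem_mul hi hfm

end Groth.Agent.S18790
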