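import Mathlib
import Groth.Statements.S18791

set_option autoImplicit false
universe u v w x
open TorusGr

namespace Groth.Agent.S18791

section Helpers

open DirectSum

variable {k : Type u} [Field k] {M : Type v} [AddCommGroup M] [DecidableEq M]
  {A : Type w} [CommRing A] [Algebra k A] (𝒜 : M → Submodule k A) [GradedAlgebra 𝒜]

/-- residue of `s` modulo `m` equals the residue of its degree-zero component. -/
theorem mk_eq_mk_zero (m : Ideal A) (hfix : ∀ i : M, i ≠ 0 → ∀ a ∈ 𝒜 i, a ∈ m) (s : A) :
    Ideal.Quotient.mk m s = Ideal.Quotient.mk m ((decompose 𝒜 s 0 : 𝒜 0) : A) := by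
  classical
  conv_lhs => rw [← DirectSum.sum_support_decompose 𝒜 s, map_sum]
  rw [Finset.sum_eq_single 0]
  · intro i _ hi
    rw [Ideal.Quotient.eq_zero_iff_mem]
    exact hfix i hi _ (Subtype.prop _)
  · intro h0
    rw [DFinsupp.notMem_support_iff] at h0
    rw [h0]; simp

/-- the kernel of `A → A_m` is homogeneous. -/
theorem key (m : Ideal A) [m.IsMaximal] (hfix : ∀ i : M, i ≠ 0 → ∀ a ∈ 𝒜 i, a ∈ m)
    (a s : A) (hs : s ∉ m) (hsa : s * a = 0) (j : M) :
    ∃ t : A, t ∉ m ∧ t * ((decompose 𝒜 a j : 𝒜 j) : A) = 0 := by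
  classical
  set J := (decompose 𝒜 a).support with hJ
  by_cases hj : j ∈ J
  swap
  · rw [DFinsupp.notMem_support_iff] at hj
    exact ⟨1, fun h => (Ideal.IsMaximal.ne_top inferInstance) ((Ideal.eq_top_iff_one m).2 h),
      by rw [hj]; simp⟩
  let T : Matrix J J A := fun d j => ((decompose 𝒜 s ((d : M) - (j : M)) : 𝒜 _) : A)
  let v : J → A := fun j => ((decompose 𝒜 a j : 𝒜 j) : A)
  have hTv : T.mulVec v = 0 := by
    ext d
    simp only [Matrix.mulVec, dotProduct, Pi.zero_apply]
    have h0 : ((decompose 𝒜 (s * a) (d : M) : 𝒜 _) : A) = 0 := by rw [hsa]; simp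
    rw [← h0]
    conv_rhs => rw [← DirectSum.sum_support_decompose 𝒜 a, Finset.mul_sum, decompose_sum,
      DFinsupp.finsetSum_apply, AddSubmonoidClass.coe_finsetSum]
    rw [← Finset.sum_coe_sort J]
    refine Finset.sum_congr rfl (fun i _ => ?_)
    have := DirectSum.coe_decompose_mul_add_of_right_mem 𝒜 (i := (d : M) - (i : M)) (a := s)
      (Subtype.prop (decompose 𝒜 a (i : M)))
    rw [sub_add_cancel] at this
    exact this.symm
  have hdet : T.det • v = 0 := by
    have : T.adjugate.mulVec (T.mulVec v) = T.det • v := by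
      rw [Matrix.mulVec_mulVec, Matrix.adjugate_mul, Matrix.smul_mulVec, Matrix.one_mulVec]
    rw [← this, hTv, Matrix.mulVec_zero]
  refine ⟨T.det, ?_, ?_⟩
  · intro hdm
    have h1 : Ideal.Quotient.mk m T.det = 0 := Ideal.Quotient.eq_zero_iff_mem.2 hdm
    rw [RingHom.map_det] at h1
    have h2 : (Ideal.Quotient.mk m).mapMatrix T =
        Matrix.diagonal (fun _ : J => Ideal.Quotient.mk m s) := by
      ext d i
      simp only [RingHom.mapMatrix_apply, Matrix.map_apply, Matrix.diagonal_apply]
      split_ifs with hdi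
      · subst hdi
        show Ideal.Quotient.mk m ((decompose 𝒜 s ((d : M) - (d : M)) : 𝒜 _) : A) = _
        rw [mk_eq_mk_zero 𝒜 m hfix s, sub_self]
      · show Ideal.Quotient.mk m ((decompose 𝒜 s ((d : M) - (i : M)) : 𝒜 _) : A) = 0
        rw [Ideal.Quotient.eq_zero_iff_mem]
        refine hfix _ ?_ _ (Subtype.prop _)
        intro h
        exact hdi (Subtype.ext (sub_eq_zero.mp h))
    rw [h2, Matrix.det_diagonal, Finset.prod_const] at h1
    have : IsDomain (A ⧸ m) := Ideal.Quotient.isDomain m
    have hcard : (Finset.univ : Finset J).card ≠ 0 :=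
      (Finset.card_pos.mpr ⟨⟨j, hj⟩, Finset.mem_univ _⟩).ne'
    have h3 := (pow_eq_zero_iff hcard).mp h1
    exact hs (Ideal.Quotient.eq_zero_iff_mem.1 h3)
  · have := congrFun hdet ⟨j, hj⟩
    simpa [v] using this

end Helpers

/-- Let `φ : B → A` be a degree-preserving homomorphism of commutative algebras over a field `k` graded
by an additive commutative group `M` (for `M` the character group of a split torus, an equivariant
morphism `Spec A → Spec B`), and let `m` be a maximal ideal of `A` containing all homogeneous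
elements of non-zero degree (a fixed point). Then the ideal of those `b` whose image is zero in the
local ring `A_m` is homogeneous: the homogeneous (weight) components of such a `b` again die in
`A_m`. Since `A_m` embeds in its completion when `A` is Noetherian, these are the elements of `B`
that die in the completed local ring. (The published lemma asserts moreover that, for `B = k[Y_1, …,
Y_d]` mapping the `Y_i` to semi-invariant lifts of a basis of `m/m²`, the kernel of the induced
surjection of completions `k[[Y]] → Â_m` is generated by semi-invariant polynomials; generation of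
that kernel by polynomials can fail, so only the statement about polynomial elements of the kernel
is recorded here. The published statement has `M ≅ ℤ^r` (a split torus) and `B` the polynomial ring
on the lifts; here `M` is any additive commutative group and `B` any `M`-graded `k`-algebra.) -/
theorem result
    {k : Type u} [Field k] {M : Type v} [AddCommGroup M] [DecidableEq M]
    {A : Type w} [CommRing A] [Algebra k A] (𝒜 : M → Submodule k A) [GradedAlgebra 𝒜]
    {B : Type x} [CommRing B] [Algebra k B] (ℬ : M → Submodule k B) [GradedAlgebra ℬ]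
    (φ : B →ₐ[k] A) (hφ : ∀ i : M, ∀ b ∈ ℬ i, φ b ∈ 𝒜 i)
    (m : Ideal A) [m.IsMaximal] (hfix : ∀ i : M, i ≠ 0 → ∀ a ∈ 𝒜 i, a ∈ m) :
    (RingHom.ker ((algebraMap A (Localization.AtPrime m)).comp (φ : B →+* A))).IsHomogeneous ℬ := by
  classical
  intro i b hb
  rw [RingHom.mem_ker, RingHom.comp_apply] at hb ⊢
  have hmem : ∀ a : A, algebraMap A (Localization.AtPrime m) a = 0 ↔ ∃ s : A, s ∉ m ∧ s * a = 0 := by
    intro a
    rw [IsLocalization.map_eq_zero_iff m.primeCompl]
    constructor
    · rintro ⟨⟨s, hs⟩, h⟩; exact ⟨s, hs, h⟩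
    · rintro ⟨s, hs, h⟩; exact ⟨⟨s, hs⟩, h⟩
  -- φ commutes with components
  have hcomp : ((DirectSum.decompose 𝒜 (φ b) i : 𝒜 i) : A) = φ ((DirectSum.decompose ℬ b i : ℬ i) : B) := by
    conv_lhs => rw [← DirectSum.sum_support_decompose ℬ b, map_sum, DirectSum.decompose_sum,
      DFinsupp.finsetSum_apply, AddSubmonoidClass.coe_finsetSum]
    rw [Finset.sum_eq_single i]
    · exact DirectSum.decompose_of_mem_same 𝒜 (hφ i _ (Subtype.prop _))
    · intro j _ hji
      exact DirectSum.decompose_of_mem_ne 𝒜 (hφ j _ (Subtype.prop _)) hji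
    · intro hi
      rw [DFinsupp.notMem_support_iff] at hi
      rw [hi]; simp
  obtain ⟨s, hs, hsa⟩ := (hmem _).1 hb
  obtain ⟨t, ht, hta⟩ := key 𝒜 m hfix (φ b) s hs hsa i
  rw [hcomp] at hta
  exact (hmem _).2 ⟨t, ht, hta⟩

end Groth.Agent.S18791
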