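import Groth.Statements.S18792
import Mathlib.RingTheory.Nilpotent.Exp
import Mathlib.Algebra.Algebra.Bilinear

set_option autoImplicit false
universe u
open DefMod

namespace Groth.Agent.S18792

open Finset

section
variable {A : Type u} [Ring A] [Algebra ℚ A]

lemma exp_mulLeft_apply {a : A} {k : ℕ} (hk : a ^ k = 0) (b : A) :
    IsNilpotent.exp (LinearMap.mulLeft ℚ a) b = IsNilpotent.exp a * b := by
  have hL : (LinearMap.mulLeft ℚ a) ^ k = 0 := by
    rw [LinearMap.pow_mulLeft, hk]; ext; simp
  rw [IsNilpotent.exp_eq_sum hL, IsNilpotent.exp_eq_sum hk, LinearMap.sum_apply, Finset.sum_mul]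
  refine Finset.sum_congr rfl fun i _ => ?_
  rw [LinearMap.smul_apply, LinearMap.pow_mulLeft, LinearMap.mulLeft_apply, smul_mul_assoc]

lemma exp_mulRight_apply {a : A} {k : ℕ} (hk : a ^ k = 0) (b : A) :
    IsNilpotent.exp (LinearMap.mulRight ℚ a) b = b * IsNilpotent.exp a := by
  have hR : (LinearMap.mulRight ℚ a) ^ k = 0 := by
    rw [LinearMap.pow_mulRight, hk]; ext; simp
  rw [IsNilpotent.exp_eq_sum hR, IsNilpotent.exp_eq_sum hk, LinearMap.sum_apply, Finset.mul_sum]
  refine Finset.sum_congr rfl fun i _ => ?_
  rw [LinearMap.smul_apply, LinearMap.pow_mulRight, LinearMap.mulRight_apply, mul_smul_comm]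

end


/-- Let A be an associative unital algebra over ℚ, let a ∈ A be nilpotent and let b ∈ A. Then the
commutator map x ↦ a x − x a is a nilpotent ℚ-linear endomorphism of A, and exp(a) b exp(−a) =
exp(ad a)(b), where exp is the finite exponential series of a nilpotent element and ad a is the
commutator map. (The published statement takes A an algebra over an arbitrary commutative ring; the
factorials in the exponential series require the rationals to act, so A is taken to be a ℚ-algebra
here. The intermediate double-sum expansion printed between the two sides is not restated.) -/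
theorem result {A : Type u} [Ring A] [Algebra ℚ A] (a b : A)
    (ha : IsNilpotent a) :
    IsNilpotent (LinearMap.mulLeft ℚ a - LinearMap.mulRight ℚ a) ∧
      IsNilpotent.exp a * b * IsNilpotent.exp (-a) =
        IsNilpotent.exp (LinearMap.mulLeft ℚ a - LinearMap.mulRight ℚ a) b := by
  obtain ⟨k, hk⟩ := ha
  have hnegk : (-a) ^ k = 0 := by
    rw [neg_pow, hk, mul_zero]
  have hL : IsNilpotent (LinearMap.mulLeft ℚ a) :=
    ⟨k, by rw [LinearMap.pow_mulLeft, hk]; ext; simp⟩
  have hR' : IsNilpotent (LinearMap.mulRight ℚ (-a)) :=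
    ⟨k, by rw [LinearMap.pow_mulRight, hnegk]; ext; simp⟩
  have hneg : -LinearMap.mulRight ℚ a = LinearMap.mulRight ℚ (-a) := by
    ext x; simp
  have hcomm : Commute (LinearMap.mulLeft ℚ a) (LinearMap.mulRight ℚ (-a)) :=
    LinearMap.commute_mulLeft_right a (-a)
  have hsub : LinearMap.mulLeft ℚ a - LinearMap.mulRight ℚ a =
      LinearMap.mulLeft ℚ a + LinearMap.mulRight ℚ (-a) := by
    rw [sub_eq_add_neg, hneg]
  refine ⟨?_, ?_⟩
  · rw [hsub]
    exact hcomm.isNilpotent_add hL hR'
  · rw [hsub, IsNilpotent.exp_add_of_commute hcomm hL hR', Module.End.mul_apply,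
      exp_mulRight_apply hnegk, exp_mulLeft_apply hk, mul_assoc]

end Groth.Agent.S18792
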