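import Groth.Statements.S1880
import Groth.Agent.Lib.NormBC13
import Groth.Agent.Lib.GrpdPts
import Mathlib.AlgebraicGeometry.Morphisms.Affine

set_option autoImplicit false
universe u
open CategoryTheory CategoryTheory.Limits AlgebraicGeometry
open Grpd

namespace Groth.Agent.S1880

/-- Let (U, R, s, t, c) be a groupoid scheme with U, R affine and s, t finite locally free. For f ∈
Γ(U), the norm along s♯ of t♯(f) is an R-invariant function. (Mathlib's norm is the determinant when
Γ(R) is free over Γ(U) via s♯ and 1 otherwise; the content is the free case, e.g. after localizing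
U.) (A groupoid scheme carries U, R, s, t, c, e, i over S with the groupoid axioms on T-points;
'finite locally free' is finite, flat and locally of finite presentation; C ⊂ Γ(U) is the ring of
functions a with s♯(a) = t♯(a) and M = Spec C.) -/
theorem result (S : Scheme.{u}) (G : Grpd.GroupoidScheme S) [IsAffine G.U] [IsAffine G.R] [IsFinite G.s] [Flat G.s] [LocallyOfFinitePresentation G.s] [IsFinite G.t] [Flat G.t] [LocallyOfFinitePresentation G.t] (f : Γ(G.U, ⊤)) : G.normST f ∈ G.invariants := by
  classical
  let alg : Algebra Γ(G.U, ⊤) Γ(G.R, ⊤) := G.s.appTop.hom.toAlgebra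
  by_cases hb : ∃ s : Finset Γ(G.R, ⊤), Nonempty (Module.Basis s Γ(G.U, ⊤) Γ(G.R, ⊤))
  swap
  · have : G.normST f = 1 := Algebra.norm_eq_one_of_not_exists_basis _ hb _
    rw [this]; exact one_mem _
  obtain ⟨s0, ⟨bas⟩⟩ := hb
  have hfree : Module.Free Γ(G.U, ⊤) Γ(G.R, ⊤) := Module.Free.of_basis bas
  have hfin : G.s.appTop.hom.Finite := G.s.finite_appTop
  have sq1 : IsPushout G.s.appTop G.t.appTop (pullback.fst G.s G.t).appTop
      (pullback.snd G.s G.t).appTop :=
    isPushout_appTop_of_isPullback (IsPullback.of_hasPullback G.s G.t)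
  have sq2 : IsPushout G.s.appTop G.s.appTop G.c.appTop (pullback.snd G.s G.t).appTop :=
    isPushout_appTop_of_isPullback (Lib.GrpdPts.isPullback_c_snd G)
  have e1 := Lib.NormBC13.norm_of_isPushout_commRingCat sq1 hfree hfin (G.t.appTop.hom f)
  have e2 := Lib.NormBC13.norm_of_isPushout_commRingCat sq2 hfree hfin (G.t.appTop.hom f)
  have hct : G.c ≫ G.t = pullback.fst G.s G.t ≫ G.t := by
    rw [Lib.GrpdPts.c_eq_cmp, Lib.GrpdPts.cmp_t pullback.condition]
  have key : G.c.appTop.hom (G.t.appTop.hom f) =
      (pullback.fst G.s G.t).appTop.hom (G.t.appTop.hom f) := by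
    have := congrArg (fun φ => φ.appTop.hom f) hct
    simpa [Scheme.Hom.comp_appTop] using this
  change G.s.appTop.hom (G.normST f) = G.t.appTop.hom (G.normST f)
  rw [key] at e2
  exact e2.symm.trans e1

end Groth.Agent.S1880
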