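import Groth.Statements.S18802
import Mathlib.Algebra.Module.Projective
import Mathlib.LinearAlgebra.Basis.VectorSpace
import Mathlib.LinearAlgebra.Dimension.Free

set_option autoImplicit false
universe u v w w' w''
open DefMod

namespace Groth.Agent.S18802

open W4c6defoisocp1 W4c6defoisocp1.TwistExt

/-- Let K be a field of characteristic zero, D an associative K-algebra and E, F left D-modules. A
K-linear map s : D → Hom_K(E, F) with s(ab)(e) = a s(b)(e) + s(a)(b e) (a derivation into the
bimodule Hom_K(E, F), i.e. a Hochschild 1-cocycle) defines the twisted sum F ⊕_s E = F × E with a ·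
(f, e) = (a f + s(a) e, a e), an extension of E by F. Every extension of left D-modules 0 → F → Q →
E → 0 arises this way: there are such an s and a D-linear isomorphism Q ≅ F ⊕_s E carrying the given
map F → Q to the inclusion f ↦ (f, 0) and compatible with the two projections onto E. (Together with
the splitting criterion this identifies derivations modulo principal derivations with Ext¹_D(E, F);
the compatibility of that identification with addition and scalars is not restated.) -/
theorem result
    {K : Type u} [Field K] [CharZero K]
    {D : Type v} [Ring D] [Algebra K D]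
    {E : Type w} [AddCommGroup E] [Module K E] [Module D E] [IsScalarTower K D E]
    {F : Type w'} [AddCommGroup F] [Module K F] [Module D F] [IsScalarTower K D F]
    {Q : Type w''} [AddCommGroup Q] [Module D Q]
    (i : F →ₗ[D] Q) (p : Q →ₗ[D] E) (hi : Function.Injective i) (hp : Function.Surjective p)
    (hex : Function.Exact i p) :
    ∃ (s : D →ₗ[K] E →ₗ[K] F) (hs : W4c6defoisocp1.IsHomDerivation s) (Φ : Q ≃ₗ[D] W4c6defoisocp1.TwistExt s hs),
      (∀ f : F, Φ (i f) = W4c6defoisocp1.TwistExt.inl f) ∧ ∀ q : Q, W4c6defoisocp1.TwistExt.snd (Φ q) = p q := by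
  classical
  let mK : Module K Q := Module.compHom Q (algebraMap K D)
  have hsmulK : ∀ (c : K) (q : Q), c • q = algebraMap K D c • q := fun _ _ => rfl
  have : IsScalarTower K D Q := ⟨fun c a q => by
    rw [hsmulK, Algebra.smul_def, mul_smul]⟩
  have : SMulCommClass K D Q := ⟨fun c a q => by
    rw [hsmulK, hsmulK, ← mul_smul, ← mul_smul, Algebra.commutes]⟩
  let pK : Q →ₗ[K] E := p.restrictScalars K
  let iK : F →ₗ[K] Q := i.restrictScalars K
  obtain ⟨t, ht⟩ := pK.exists_rightInverse_of_surjective (LinearMap.range_eq_top.2 hp)
  obtain ⟨g, hg⟩ := iK.exists_leftInverse_of_injective (LinearMap.ker_eq_bot.2 hi)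
  have htp : ∀ e, p (t e) = e := fun e => LinearMap.congr_fun ht e
  have hgi : ∀ f, g (i f) = f := fun f => LinearMap.congr_fun hg f
  let r : Q →ₗ[K] F := g ∘ₗ (LinearMap.id - t ∘ₗ pK)
  have hr : ∀ q, i (r q) = q - t (p q) := by
    intro q
    have hmem : q - t (p q) ∈ LinearMap.ker p := by
      rw [LinearMap.mem_ker, map_sub, htp, sub_self]
    obtain ⟨f, hf⟩ := (hex (q - t (p q))).mp hmem
    show i (g (q - t (p q))) = q - t (p q)
    rw [← hf, hgi]
  have hri : ∀ f, r (i f) = f := by
    intro f
    apply hi
    rw [hr, hex.apply_apply_eq_zero, map_zero, sub_zero]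
  -- the cocycle
  let s : D →ₗ[K] E →ₗ[K] F := LinearMap.mk₂ K (fun a e => r (a • t e))
    (by intro a a' e; rw [add_smul, map_add])
    (by intro c a e; rw [smul_assoc c a (t e), LinearMap.map_smul r])
    (by intro a e e'; rw [map_add, smul_add, map_add])
    (by intro c a e; rw [LinearMap.map_smul t c e, smul_comm a c (t e), LinearMap.map_smul r])
  have hsdef : ∀ a e, s a e = r (a • t e) := fun _ _ => rfl
  have his : ∀ a e, i (s a e) = a • t e - t (a • e) := by
    intro a e
    rw [hsdef, hr, map_smul, htp]
  have hs : IsHomDerivation s := by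
    intro a b e
    apply hi
    rw [map_add, map_smul, his, his, his, smul_sub, mul_smul, mul_smul]
    abel
  have hrsmul : ∀ (a : D) (q : Q), r (a • q) = a • r q + s a (p q) := by
    intro a q
    apply hi
    rw [map_add, LinearMap.map_smul i, hr, hr, his, LinearMap.map_smul p, smul_sub]
    abel
  let Φ : Q ≃ₗ[D] TwistExt s hs :=
    { toFun := fun q => mk (r q, p q)
      invFun := fun x => i (val x).1 + t (val x).2
      map_add' := by
        intro q q'
        refine TwistExt.ext ?_ ?_
        · simp
        · simp
      map_smul' := by
        intro a q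
        refine TwistExt.ext ?_ ?_
        · simp [hrsmul]
        · simp
      left_inv := by
        intro q
        simp only [val_mk]
        rw [hr]; abel
      right_inv := by
        intro x
        refine TwistExt.ext ?_ ?_
        · simp only [val_mk]
          rw [map_add, hri]
          have : r (t (val x).2) = 0 := by
            apply hi
            rw [hr, htp, sub_self, map_zero]
          rw [this, add_zero]
        · simp only [val_mk]
          rw [map_add, hex.apply_apply_eq_zero, htp, zero_add] }
  refine ⟨s, hs, Φ, fun f => ?_, fun q => rfl⟩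
  refine TwistExt.ext ?_ ?_
  · show r (i f) = f
    exact hri f
  · show p (i f) = 0
    exact hex.apply_apply_eq_zero f

end Groth.Agent.S18802
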