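import Groth.Statements.S18803

set_option autoImplicit false
universe u v w w'
open DefMod

namespace Groth.Agent.S18803

open W4c6defoisocp1 W4c6defoisocp1.TwistExt

/-- Let K be a field of characteristic zero, D an associative K-algebra, E and F left D-modules, and s :
D → Hom_K(E, F) a K-linear map with s(ab)(e) = a s(b)(e) + s(a)(b e). The twisted sum F ⊕_s E (that
is F × E with a · (f, e) = (a f + s(a) e, a e)) is a trivial extension of E by F — there is a
D-linear isomorphism F ⊕_s E ≅ F × E with the direct-sum module structure, carrying the inclusion f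
↦ (f, 0) to itself and compatible with the second projections — if and only if s is principal:
s(a)(e) = a σ(e) − σ(a e) for some K-linear σ : E → F (a Hochschild 1-coboundary). -/
theorem result
    {K : Type u} [Field K] [CharZero K]
    {D : Type v} [Ring D] [Algebra K D]
    {E : Type w} [AddCommGroup E] [Module K E] [Module D E] [IsScalarTower K D E]
    {F : Type w'} [AddCommGroup F] [Module K F] [Module D F] [IsScalarTower K D F]
    (s : D →ₗ[K] E →ₗ[K] F) (hs : W4c6defoisocp1.IsHomDerivation s) :
    (∃ Ψ : W4c6defoisocp1.TwistExt s hs ≃ₗ[D] F × E,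
        (∀ f : F, Ψ (W4c6defoisocp1.TwistExt.inl f) = (f, 0)) ∧ ∀ x : W4c6defoisocp1.TwistExt s hs, (Ψ x).2 = W4c6defoisocp1.TwistExt.snd x) ↔
      W4c6defoisocp1.IsPrincipal s := by
  constructor
  · rintro ⟨Ψ, hΨ1, hΨ2⟩
    -- σ e = first component of Ψ (0, e)
    have hs1 : s 1 = 0 := map_one_eq_zero hs
    have hsalg : ∀ c : K, s (algebraMap K D c) = 0 := by
      intro c
      rw [Algebra.algebraMap_eq_smul_one, map_smul, hs1, smul_zero]
    have hadd : ∀ e e' : E, (mk (0, e + e') : TwistExt s hs) = mk (0, e) + mk (0, e') := by
      intro e e'
      exact TwistExt.ext (by simp) (by simp)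
    have hsm : ∀ (c : K) (e : E), (mk (0, c • e) : TwistExt s hs) =
        (algebraMap K D c) • (mk (0, e) : TwistExt s hs) := by
      intro c e
      refine TwistExt.ext ?_ ?_
      · simp [hsalg]
      · simp
    let σ : E →ₗ[K] F :=
      { toFun := fun e => (Ψ (mk (0, e))).1
        map_add' := by
          intro e e'
          rw [hadd, map_add]; rfl
        map_smul' := by
          intro c e
          rw [hsm, map_smul, RingHom.id_apply, Prod.smul_fst, algebraMap_smul] }
    refine ⟨σ, fun a e => ?_⟩
    have h1 : a • (mk (0, e) : TwistExt s hs) = inl (s a e) + mk (0, a • e) := by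
      refine TwistExt.ext ?_ ?_
      · simp
      · simp
    have h2 := congrArg Prod.fst (map_smul Ψ a (mk (0, e) : TwistExt s hs))
    rw [h1, map_add, hΨ1] at h2
    have h3 : s a e + σ (a • e) = a • σ e := h2
    rw [← h3]; abel
  · rintro ⟨σ, hσ⟩
    let Ψ : TwistExt s hs ≃ₗ[D] F × E :=
      { toFun := fun x => ((val x).1 + σ (val x).2, (val x).2)
        invFun := fun y => mk (y.1 - σ y.2, y.2)
        map_add' := by
          intro x y
          ext
          · simp only [val_add, Prod.fst_add, Prod.snd_add, map_add]; abel
          · simp
        map_smul' := by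
          intro a x
          ext
          · simp only [val_smul, RingHom.id_apply, Prod.smul_fst, hσ, smul_add]; abel
          · simp
        left_inv := by
          intro x
          refine TwistExt.ext ?_ ?_
          · simp
          · simp
        right_inv := by
          intro y
          ext
          · simp
          · simp }
    refine ⟨Ψ, fun f => ?_, fun x => rfl⟩
    show ((val (inl f : TwistExt s hs)).1 + σ (val (inl f : TwistExt s hs)).2,
      (val (inl f : TwistExt s hs)).2) = (f, 0)
    simp

end Groth.Agent.S18803
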