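import Groth.Statements.S18806
import Mathlib.RingTheory.Flat.Basic
import Mathlib.RingTheory.Coalgebra.Hom

set_option autoImplicit false
universe u v v' w w' x
open TensorProduct
open HopfRep

namespace Groth.Agent.S18806

section
variable {k : Type u} [Field k]
  {C : Type v} [AddCommGroup C] [Module k C] [Coalgebra k C]
  {D : Type v'} [AddCommGroup D] [Module k D] [Coalgebra k D]
  {V : Type w} [AddCommGroup V] [Module k V]

omit [Coalgebra k C] [Coalgebra k D] in
/-- naturality of the associator w.r.t. a linear map of the coefficient modules -/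
lemma lTensor_map_assoc (ι : C →ₗ[k] D) :
    (TensorProduct.map ι ι).lTensor V ∘ₗ (TensorProduct.assoc k V C C).toLinearMap =
      (TensorProduct.assoc k V D D).toLinearMap ∘ₗ TensorProduct.map (ι.lTensor V) ι := by
  ext v c c'
  simp

/-- A coaction over `D` with values in `V ⊗ C` (for an injective coalgebra map `C → D`) is a
`C`-comodule structure. -/
theorem exists_comod_of_lift (i : C →ₗc[k] D) (hi : Function.Injective i)
    [HopfRep.Comod k D V] (ρC : V →ₗ[k] V ⊗[k] C)
    (hρ : (i : C →ₗ[k] D).lTensor V ∘ₗ ρC = HopfRep.Comod.coact (k := k) (A := D)) :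
    ∃ c : HopfRep.Comod k C V, c.coact = ρC := by
  set ι : C →ₗ[k] D := (i : C →ₗ[k] D) with hι
  set ρD := HopfRep.Comod.coact (k := k) (A := D) (V := V) with hρD
  have hιinj : Function.Injective ι := hi
  have hJ : Function.Injective ((TensorProduct.map ι ι).lTensor V) := by
    apply Module.Flat.lTensor_preserves_injective_linearMap
    have h1 : TensorProduct.map ι ι = ι.rTensor D ∘ₗ ι.lTensor C := by
      ext a b; simp
    rw [h1]
    exact (Module.Flat.rTensor_preserves_injective_linearMap ι hιinj).comp
      (Module.Flat.lTensor_preserves_injective_linearMap ι hιinj)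
  refine ⟨{ coact := ρC, coassoc := ?_, counit_comp := ?_ }, rfl⟩
  · apply LinearMap.ext
    intro v
    apply hJ
    have hL : (TensorProduct.map ι ι).lTensor V
        (((TensorProduct.assoc k V C C).toLinearMap ∘ₗ ρC.rTensor C ∘ₗ ρC) v) =
        (TensorProduct.assoc k V D D) (ρD.rTensor D (ρD v)) := by
      have e1 := LinearMap.congr_fun (lTensor_map_assoc (V := V) ι) (ρC.rTensor C (ρC v))
      simp only [LinearMap.coe_comp, LinearEquiv.coe_coe, Function.comp_apply] at e1 ⊢
      rw [e1]
      congr 1
      have e2 : TensorProduct.map (ι.lTensor V) ι ∘ₗ ρC.rTensor C = ρD.rTensor D ∘ₗ ι.lTensor V := by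
        rw [← hρ]
        ext a b
        simp
      have e3 := LinearMap.congr_fun e2 (ρC v)
      simp only [LinearMap.coe_comp, Function.comp_apply] at e3
      rw [e3]
      congr 1
      exact LinearMap.congr_fun hρ v
    have hR : (TensorProduct.map ι ι).lTensor V
        (((CoalgebraStruct.comul (R := k) (A := C)).lTensor V ∘ₗ ρC) v) =
        (CoalgebraStruct.comul (R := k) (A := D)).lTensor V (ρD v) := by
      simp only [LinearMap.coe_comp, Function.comp_apply]
      rw [← LinearMap.comp_apply, ← LinearMap.lTensor_comp, hι, CoalgHomClass.map_comp_comul,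
        LinearMap.lTensor_comp, LinearMap.comp_apply]
      congr 1
      exact LinearMap.congr_fun hρ v
    rw [hL, hR]
    have hc := LinearMap.congr_fun (HopfRep.Comod.coassoc (k := k) (A := D) (V := V)) v
    simpa using hc
  · have hc := HopfRep.Comod.counit_comp (k := k) (A := D) (V := V)
    rw [← hc, ← hρD, ← hρ, ← LinearMap.comp_assoc, ← LinearMap.lTensor_comp, hι,
      CoalgHomClass.counit_comp]

end


/-- Let k be a field, i : C → D an injective morphism of k-coalgebras and V a right D-comodule with
coaction ρ : V → V ⊗ D. If ρ(v) lies in the image of V ⊗ C → V ⊗ D (induced by i) for every v, then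
V comes from a C-comodule: there is a C-comodule structure on V whose coaction, followed by V ⊗ C →
V ⊗ D, is ρ. (The source states this for left comodules over the coordinate bialgebras of an affine
monoid scheme over k and of its group of units, assumed open and schematically dense, and uses that
assumption only through the injectivity of the restriction map of coordinate rings; the row is the
right-comodule mirror image for any injective coalgebra map. The converse direction is immediate.) -/
theorem result (k : Type u) [Field k]
    (C : Type v) [AddCommGroup C] [Module k C] [Coalgebra k C]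
    (D : Type v') [AddCommGroup D] [Module k D] [Coalgebra k D]
    (i : C →ₗc[k] D) (hi : Function.Injective i)
    (V : Type w) [AddCommGroup V] [Module k V] [HopfRep.Comod k D V]
    (h : ∀ v : V, HopfRep.Comod.coact (k := k) (A := D) v ∈ LinearMap.range ((i : C →ₗ[k] D).lTensor V)) :
    ∃ c : HopfRep.Comod k C V,
      (i : C →ₗ[k] D).lTensor V ∘ₗ c.coact = HopfRep.Comod.coact (k := k) (A := D) := by
  have hinj : Function.Injective ((i : C →ₗ[k] D).lTensor V) :=
    Module.Flat.lTensor_preserves_injective_linearMap _ hi
  let ρC : V →ₗ[k] V ⊗[k] C :=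
    (LinearEquiv.ofInjective ((i : C →ₗ[k] D).lTensor V) hinj).symm.toLinearMap ∘ₗ
      LinearMap.codRestrict (LinearMap.range ((i : C →ₗ[k] D).lTensor V))
        (HopfRep.Comod.coact (k := k) (A := D)) h
  have hρ : (i : C →ₗ[k] D).lTensor V ∘ₗ ρC = HopfRep.Comod.coact (k := k) (A := D) := by
    apply LinearMap.ext
    intro v
    change (i : C →ₗ[k] D).lTensor V ((LinearEquiv.ofInjective ((i : C →ₗ[k] D).lTensor V) hinj).symm
      ⟨HopfRep.Comod.coact (k := k) (A := D) v, h v⟩) = HopfRep.Comod.coact (k := k) (A := D) v
    rw [← LinearEquiv.ofInjective_apply (h := hinj), LinearEquiv.apply_symm_apply]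
  obtain ⟨c, hc⟩ := exists_comod_of_lift i hi ρC hρ
  exact ⟨c, by rw [hc]; exact hρ⟩

end Groth.Agent.S18806
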