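import Groth.Statements.S18808
import Groth.Agent.Lib.ComodFP

set_option autoImplicit false
universe u v v' w w' x
open TensorProduct
open HopfRep

namespace Groth.Agent.S18808

open Groth.Agent.Lib.Comod TensorProduct

section

variable {k : Type u} [Field k] {C : Type v} [AddCommGroup C] [Module k C]
  {D : Type v'} [AddCommGroup D] [Module k D]

theorem contr_lTensor' (W : Type*) [AddCommGroup W] [Module k W] (f : C →ₗ[k] D)
    (χ : D →ₗ[k] k) (y : W ⊗[k] C) :
    contr W χ (f.lTensor W y) = contr W (χ ∘ₗ f) y := by
  induction y using TensorProduct.induction_on with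
  | zero => simp
  | add x y hx hy => simp only [map_add, hx, hy]
  | tmul w c => simp

/-- Over a field, membership in `W ⊗ i(C)` is detected by the functionals vanishing on `i(C)`. -/
theorem mem_range_lTensor_iff (W : Type*) [AddCommGroup W] [Module k W] (i : C →ₗ[k] D)
    (hi : Function.Injective i) (x : W ⊗[k] D) :
    x ∈ LinearMap.range (i.lTensor W) ↔
      ∀ χ : D →ₗ[k] k, χ ∘ₗ i = 0 → contr W χ x = 0 := by
  constructor
  · rintro ⟨y, rfl⟩ χ hχ
    rw [contr_lTensor', hχ]
    induction y using TensorProduct.induction_on with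
    | zero => simp
    | add x y hx hy => simp only [map_add, hx, hy, add_zero]
    | tmul w c => simp
  · intro h
    obtain ⟨r, hr⟩ := LinearMap.exists_leftInverse_of_injective i (LinearMap.ker_eq_bot.mpr hi)
    set q : D →ₗ[k] D := LinearMap.id - i ∘ₗ r with hq
    have hqi : q ∘ₗ i = 0 := by
      rw [hq, LinearMap.sub_comp, LinearMap.id_comp, LinearMap.comp_assoc, hr, LinearMap.comp_id,
        sub_self]
    have h0 : q.lTensor W x = 0 := by
      apply Groth.Agent.Lib.ComodFP.eq_of_forall_contr_eq
      intro ξ
      rw [contr_lTensor', map_zero]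
      apply h
      rw [LinearMap.comp_assoc, hqi, LinearMap.comp_zero]
    refine ⟨r.lTensor W x, ?_⟩
    rw [← LinearMap.comp_apply, ← LinearMap.lTensor_comp]
    have h1 : (i ∘ₗ r).lTensor W x = x - q.lTensor W x := by
      rw [hq, LinearMap.lTensor_sub, LinearMap.sub_apply, LinearMap.lTensor_id,
        LinearMap.id_apply, sub_sub_cancel]
    rw [h1, h0, sub_zero]

end

/-- Let k be a field, i : C → D an injective morphism of k-coalgebras and V a right D-comodule with
coaction ρ. Call a D-subcomodule K of V admissible when the induced coaction of V/K, namely ρ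
followed by the projection V ⊗ D → (V/K) ⊗ D, takes all its values in the image of (V/K) ⊗ C → (V/K)
⊗ D (so that V/K comes from a C-comodule). Then there is a least admissible D-subcomodule of V: V
has a largest quotient D-comodule coming from C, through which every D-comodule map from V to a
comodule coming from C factors. (The source states this for left comodules over the coordinate
bialgebras of an affine monoid scheme and its open schematically dense group of units, as the
existence of a universal map from a representation of the unit group to a representation of the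
monoid; it uses that assumption only through the injectivity of the restriction map.) -/
theorem result (k : Type u) [Field k]
    (C : Type v) [AddCommGroup C] [Module k C] [Coalgebra k C]
    (D : Type v') [AddCommGroup D] [Module k D] [Coalgebra k D]
    (i : C →ₗc[k] D) (hi : Function.Injective i)
    (V : Type w) [AddCommGroup V] [Module k V] [HopfRep.Comod k D V] :
    ∃ K : Submodule k V, HopfRep.IsSubcomod (k := k) (A := D) K ∧
      (∀ v : V, K.mkQ.rTensor D (HopfRep.Comod.coact (k := k) (A := D) v) ∈
        LinearMap.range ((i : C →ₗ[k] D).lTensor (V ⧸ K))) ∧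
      ∀ K' : Submodule k V, HopfRep.IsSubcomod (k := k) (A := D) K' →
        (∀ v : V, K'.mkQ.rTensor D (HopfRep.Comod.coact (k := k) (A := D) v) ∈
          LinearMap.range ((i : C →ₗ[k] D).lTensor (V ⧸ K'))) → K ≤ K' := by
  have hadm : ∀ K : Submodule k V,
      (∀ v : V, K.mkQ.rTensor D (HopfRep.Comod.coact (k := k) (A := D) v) ∈
        LinearMap.range ((i : C →ₗ[k] D).lTensor (V ⧸ K))) ↔
      ∀ (v : V) (χ : D →ₗ[k] k), χ ∘ₗ (i : C →ₗ[k] D) = 0 →
        Groth.Agent.Lib.Comod.act V χ v ∈ K := by
    intro K
    refine forall_congr' fun v => ?_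
    rw [mem_range_lTensor_iff (V ⧸ K) (i : C →ₗ[k] D) hi]
    refine forall_congr' fun χ => ?_
    refine imp_congr_right fun _ => ?_
    rw [Groth.Agent.Lib.Comod.contr_rTensor, Submodule.mkQ_apply, Submodule.Quotient.mk_eq_zero,
      Groth.Agent.Lib.Comod.act_apply]
  let S : Set (Submodule k V) := {K | HopfRep.IsSubcomod (k := k) (A := D) K ∧
    ∀ (v : V) (χ : D →ₗ[k] k), χ ∘ₗ (i : C →ₗ[k] D) = 0 →
      Groth.Agent.Lib.Comod.act V χ v ∈ K}
  refine ⟨sInf S, ?_, ?_, ?_⟩
  · rw [sInf_eq_iInf']
    exact Groth.Agent.Lib.Comod.isSubcomod_iInf fun K => K.2.1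
  · rw [hadm]
    intro v χ hχ
    rw [Submodule.mem_sInf]
    intro K hK
    exact hK.2 v χ hχ
  · intro K' hK' hK'adm
    exact sInf_le ⟨hK', (hadm K').mp hK'adm⟩

end Groth.Agent.S18808
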