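import Groth.Statements.S18810
import Groth.Agent.Lib.ComodSimple18

set_option autoImplicit false
universe u v v' w w' x
open TensorProduct
open HopfRep

namespace Groth.Agent.S18810

open Groth.Agent.Lib.Comod Groth.Agent.Lib.ComodSimple18

/-- Let k be a field, C a k-coalgebra, V a right C-comodule and (S_j) a family of simple C-comodules
which are pairwise non-isomorphic (for j ≠ j' no k-linear isomorphism S_j ≃ S_j' commutes with the
coactions). For each j let V[j] be the isotypic component of type S_j: the sum of the images of all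
comodule maps S_j → V (equivalently of all simple subcomodules of V isomorphic to S_j, a nonzero
such map being injective). Then the family j ↦ V[j] is independent, so that the socle of V is the
direct sum of its isotypic components. (The source states this for representations of an affine
monoid scheme over k, i.e. left comodules over its coordinate bialgebra; the row is the
right-comodule form over any coalgebra.) -/
theorem result (k : Type u) [Field k]
    (C : Type v) [AddCommGroup C] [Module k C] [Coalgebra k C]
    (V : Type w) [AddCommGroup V] [Module k V] [HopfRep.Comod k C V]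
    {ι : Type x} (S : ι → Type w') [∀ j, AddCommGroup (S j)] [∀ j, Module k (S j)]
    [∀ j, HopfRep.Comod k C (S j)] (hS : ∀ j, HopfRep.IsSimpleComod k C (S j))
    (hne : ∀ j j', j ≠ j' → ∀ e : S j ≃ₗ[k] S j', ¬ Hoch.IsComodHom C (e : S j →ₗ[k] S j')) :
    iSupIndep (fun j => ⨆ f : {f : S j →ₗ[k] V // Hoch.IsComodHom C f}, LinearMap.range f.1) := by
  intro j
  rw [disjoint_iff]
  by_contra hne0
  let cV : HopfRep.Comod k C V := inferInstance
  set A : Submodule k V := ⨆ f : {f : S j →ₗ[k] V // Hoch.IsComodHom C f}, LinearMap.range f.1 with hA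
  set B : Submodule k V := ⨆ (j' : ι) (_ : j' ≠ j),
    ⨆ f : {f : S j' →ₗ[k] V // Hoch.IsComodHom C f}, LinearMap.range f.1 with hB
  have hAsub : HopfRep.IsSubcomod (k := k) (A := C) A :=
    isSubcomod_iSup fun f => isSubcomod_range f.2
  have hBsub : HopfRep.IsSubcomod (k := k) (A := C) B :=
    isSubcomod_iSup fun j' => isSubcomod_iSup fun _ => isSubcomod_iSup fun f => isSubcomod_range f.2
  obtain ⟨E, hE, hEs⟩ := exists_simpleSub_le cV (A ⊓ B) (isSubcomod_inf hAsub hBsub) hne0
  let cE : HopfRep.Comod k C E := ComodSub.Comod.restr cV E hEs.1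
  have hEsimple : HopfRep.IsSimpleComod k C E :=
    isSimpleComod_restr_of_minimal cV E hEs.1 hEs.2.1 hEs.2.2
  have hincl : Hoch.IsComodHom C E.subtype := ComodSub.isComodHom_subtype cV E hEs.1
  have hincl0 : E.subtype ≠ 0 := by
    intro h0
    apply hEs.2.1
    rw [eq_bot_iff]
    intro x hx
    have := LinearMap.congr_fun h0 ⟨x, hx⟩
    simpa using this
  -- E is isomorphic to S j
  obtain ⟨f₁, e₁, he₁⟩ := exists_iso_of_le_iSup_range
    (K := fun _ : {f : S j →ₗ[k] V // Hoch.IsComodHom C f} => S j)
    (fun _ => hS j) (fun f => f.1) (fun f => f.2) hEsimple E.subtype hincl hincl0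
    (by rw [Submodule.range_subtype]; exact hE.trans inf_le_left)
  -- E is isomorphic to S j' for some j' ≠ j
  let T := {p : Σ j' : ι, {f : S j' →ₗ[k] V // Hoch.IsComodHom C f} // p.1 ≠ j}
  have hBle : B ≤ ⨆ p : T, LinearMap.range p.1.2.1 := by
    refine iSup_le fun j' => iSup_le fun hj' => iSup_le fun f => ?_
    exact le_iSup (fun p : T => LinearMap.range p.1.2.1) ⟨⟨j', f⟩, hj'⟩
  obtain ⟨p, e₂, he₂⟩ := exists_iso_of_le_iSup_range
    (K := fun p : T => S p.1.1)
    (fun p => hS p.1.1) (fun p => p.1.2.1) (fun p => p.1.2.2) hEsimple E.subtype hincl hincl0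
    (by rw [Submodule.range_subtype]; exact (hE.trans inf_le_right).trans hBle)
  -- contradiction
  have hne' : j ≠ p.1.1 := fun h => p.2 h.symm
  refine hne j p.1.1 hne' (e₁.symm.trans e₂) ?_
  have h1 : Hoch.IsComodHom C (e₁.symm : S j →ₗ[k] E) := isComodHom_symm e₁ he₁
  have h2 := isComodHom_comp' h1 he₂
  exact h2

end Groth.Agent.S18810
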