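import Groth.Statements.S18811
import Mathlib.AlgebraicGeometry.Morphisms.Flat
import Mathlib.AlgebraicGeometry.Morphisms.QuasiSeparated

set_option autoImplicit false
universe u
open CategoryTheory CategoryTheory.Limits AlgebraicGeometry
open Variety

namespace Groth.Agent.S18811

/-- Let k be a field and X, Y quasi-compact k-schemes whose diagonal morphisms over k are affine
(semi-separated; for instance X and Y separated over k). Then the canonical map Γ(X, O_X) ⊗_k Γ(Y,
O_Y) → Γ(X ×_k Y, O) is an isomorphism: the commutative square of rings of global sections formed by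
Spec k, X, Y and X ×_k Y with the pullback maps along the structure morphisms and the two
projections is a pushout square of commutative rings. -/
theorem result (k : Type u) [Field k]
    (X : Scheme.{u}) [X.Over (Spec (CommRingCat.of k))] [CompactSpace ↥X]
    [IsAffineHom (pullback.diagonal (X ↘ (Spec (CommRingCat.of k))))]
    (Y : Scheme.{u}) [Y.Over (Spec (CommRingCat.of k))] [CompactSpace ↥Y]
    [IsAffineHom (pullback.diagonal (Y ↘ (Spec (CommRingCat.of k))))] :
    IsPushout (X ↘ (Spec (CommRingCat.of k))).appTop (Y ↘ (Spec (CommRingCat.of k))).appTop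
      (pullback.fst (X ↘ (Spec (CommRingCat.of k))) (Y ↘ (Spec (CommRingCat.of k)))).appTop
      (pullback.snd (X ↘ (Spec (CommRingCat.of k))) (Y ↘ (Spec (CommRingCat.of k)))).appTop := by
  have H : IsPullback (pullback.fst (X ↘ (Spec (CommRingCat.of k))) (Y ↘ (Spec (CommRingCat.of k))))
      (pullback.snd (X ↘ (Spec (CommRingCat.of k))) (Y ↘ (Spec (CommRingCat.of k))))
      (X ↘ (Spec (CommRingCat.of k))) (Y ↘ (Spec (CommRingCat.of k))) :=
    IsPullback.of_hasPullback _ _
  have hflatY : Flat (Y ↘ (Spec (CommRingCat.of k))) := inferInstance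
  have hqsX : QuasiSeparatedSpace ↥X := by
    have : QuasiSeparated (X ↘ (Spec (CommRingCat.of k))) := ⟨inferInstance⟩
    exact quasiSeparatedSpace_of_quasiSeparated (X ↘ (Spec (CommRingCat.of k)))
  have hqsY : QuasiSeparatedSpace ↥Y := by
    have : QuasiSeparated (Y ↘ (Spec (CommRingCat.of k))) := ⟨inferInstance⟩
    exact quasiSeparatedSpace_of_quasiSeparated (Y ↘ (Spec (CommRingCat.of k)))
  have hiso := isIso_pushoutSection_of_isCompact_of_flat_right_of_ringHomFlat H
    (US := ⊤) (UT := ⊤) (UX := ⊤) (UY := ⊤) le_top le_top (by simp)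
    (isAffineOpen_top _) isCompact_univ (isQuasiSeparated_univ_iff.mpr hqsY) isCompact_univ
    (isQuasiSeparated_univ_iff.mpr hqsX) ?_
  · rw [isIso_pushoutSection_iff] at hiso
    simp only [Scheme.Hom.appTop, Scheme.Hom.app_eq_appLE]
    exact hiso
  · have hF : IsField Γ(Spec (CommRingCat.of k), ⊤) :=
      MulEquiv.isField (Field.toIsField k) (Scheme.ΓSpecIso (CommRingCat.of k)).commRingCatIsoToRingEquiv.toMulEquiv
    letI := hF.toField
    algebraize [((X ↘ Spec (CommRingCat.of k)).appLE ⊤ ⊤ le_top).hom]
    show Module.Flat _ _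
    infer_instance

end Groth.Agent.S18811
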