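import Groth.Statements.S18813
import Groth.Agent.Lib.ComodIntegral

set_option autoImplicit false
universe u
open scoped TensorProduct
open HopfRep

namespace Groth.Agent.S18813

/-- Let k be a field, K a field extension of k and A a commutative Hopf algebra over k, the coordinate
ring of an affine group scheme G (no finiteness assumed). Then G is linearly reductive (every
finite-dimensional A-comodule is semisimple) if and only if the base change G_K is (every
finite-dimensional comodule over the K-Hopf algebra K ⊗_k A is semisimple). (The source phrases both
sides as semisimplicity of all representations, which over a field is equivalent to semisimplicity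
of the finite-dimensional ones since every comodule is the union of its finite-dimensional
subcomodules.) -/
theorem result (k K A : Type u) [Field k] [Field K]
    [Algebra k K] [CommRing A] [HopfAlgebra k A] :
    HopfRep.IsLinearlyReductive k A ↔ HopfRep.IsLinearlyReductive K (K ⊗[k] A) := by
  rw [Groth.Agent.Lib.ComodIntegral.isLinearlyReductive_iff_exists_isInt,
    Groth.Agent.Lib.ComodIntegral.isLinearlyReductive_iff_exists_isInt]
  constructor
  · rintro ⟨α, hα⟩
    exact ⟨_, Groth.Agent.Lib.ComodIntegral.isInt_bcFun K hα⟩
  · rintro ⟨β, hβ⟩
    obtain ⟨r, hr⟩ := LinearMap.exists_leftInverse_of_injective (Algebra.linearMap k K)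
      (LinearMap.ker_eq_bot.mpr (algebraMap k K).injective)
    have hr1 : r 1 = 1 := by
      have := LinearMap.congr_fun hr 1
      simpa using this
    exact ⟨_, Groth.Agent.Lib.ComodIntegral.isInt_descend K r hr1 hβ⟩

end Groth.Agent.S18813
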