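import Groth.Statements.S18814
import Groth.Agent.Lib.ComodHom

set_option autoImplicit false
universe u v v' w w'
open TensorProduct
open HopfRep

namespace Groth.Agent.S18814

open Groth.Agent.Lib.Comod TensorProduct

section

variable {k : Type u} [CommRing k] {C : Type v} [AddCommGroup C] [Module k C]
  {D : Type v'} [AddCommGroup D] [Module k D] {V : Type w} [AddCommGroup V] [Module k V]

/-- `v ⊗ (c ⊗ d) ↦ v ⊗ φ c • d`. -/
noncomputable def Phi (φ : C →ₗ[k] k) : V ⊗[k] (C ⊗[k] D) →ₗ[k] V ⊗[k] D :=
  ((TensorProduct.lid k D).toLinearMap ∘ₗ φ.rTensor D).lTensor V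

theorem claim1 (φ : C →ₗ[k] k) (x : (V ⊗[k] C) ⊗[k] D) :
    (contr V φ).rTensor D x = Phi (V := V) (D := D) φ (TensorProduct.assoc k V C D x) := by
  induction x using TensorProduct.induction_on with
  | zero => simp
  | add x y hx hy => simp only [map_add, hx, hy]
  | tmul t d =>
    induction t using TensorProduct.induction_on with
    | zero => simp
    | add x y hx hy => simp only [TensorProduct.add_tmul, map_add, hx, hy]
    | tmul v c => simp [Phi, TensorProduct.smul_tmul]

theorem claim2 (φ : C →ₗ[k] k) (y : (V ⊗[k] D) ⊗[k] C) :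
    contr (V ⊗[k] D) φ y = Phi (V := V) (D := D) φ
      ((TensorProduct.comm k D C).toLinearMap.lTensor V (TensorProduct.assoc k V D C y)) := by
  induction y using TensorProduct.induction_on with
  | zero => simp
  | add x y hx hy => simp only [map_add, hx, hy]
  | tmul t c =>
    induction t using TensorProduct.induction_on with
    | zero => simp
    | add x y hx hy => simp only [TensorProduct.add_tmul, map_add, hx, hy]
    | tmul v d => simp [Phi, TensorProduct.tmul_smul]

end

theorem isComodHom_act_of_comm (k : Type u) [CommRing k]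
    (C : Type v) [CommRing C] [Bialgebra k C] (D : Type v') [CommRing D] [Bialgebra k D]
    (V : Type w) [AddCommGroup V] [Module k V] [HopfRep.Comod k C V] [HopfRep.Comod k D V]
    (hcomm : (TensorProduct.assoc k V C D).toLinearMap ∘ₗ
        (HopfRep.Comod.coact (k := k) (A := C) (V := V)).rTensor D ∘ₗ HopfRep.Comod.coact (k := k) (A := D) =
      (TensorProduct.comm k D C).toLinearMap.lTensor V ∘ₗ (TensorProduct.assoc k V D C).toLinearMap ∘ₗ
        (HopfRep.Comod.coact (k := k) (A := D) (V := V)).rTensor C ∘ₗ HopfRep.Comod.coact (k := k) (A := C))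
    (φ : C →ₗ[k] k) : Hoch.IsComodHom D (act (C := C) V φ) := by
  apply LinearMap.ext
  intro v
  have h := LinearMap.congr_fun hcomm v
  simp only [LinearMap.comp_apply, LinearEquiv.coe_coe] at h
  rw [LinearMap.comp_apply, LinearMap.comp_apply, act_apply, ← contr_rTensor, claim2, ← h]
  unfold act
  rw [LinearMap.rTensor_comp, LinearMap.comp_apply, claim1]

/-- Let k be a field, C and D commutative bialgebras over k (coordinate rings of affine monoid schemes M
and N) and V a k-vector space carrying a right C-comodule structure with coaction ρ_C : V → V ⊗ C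
and a right D-comodule structure with coaction ρ_D : V → V ⊗ D which commute: (ρ_C ⊗ id_D) ∘ ρ_D and
(ρ_D ⊗ id_C) ∘ ρ_C agree in V ⊗ C ⊗ D after reassociating and swapping the last two factors (the
actions of M and N on V commute). Assume V is semisimple as a D-comodule. Then for every simple
D-comodule S the isotypic component of V of type S, the sum of the images of all D-comodule maps S →
V, is a C-subcomodule of V. (The source works with left comodules; this is the right-comodule form.) -/
theorem result (k : Type u) [Field k]
    (C : Type v) [CommRing C] [Bialgebra k C] (D : Type v') [CommRing D] [Bialgebra k D]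
    (V : Type w) [AddCommGroup V] [Module k V] [HopfRep.Comod k C V] [HopfRep.Comod k D V]
    (hcomm : (TensorProduct.assoc k V C D).toLinearMap ∘ₗ
        (HopfRep.Comod.coact (k := k) (A := C) (V := V)).rTensor D ∘ₗ HopfRep.Comod.coact (k := k) (A := D) =
      (TensorProduct.comm k D C).toLinearMap.lTensor V ∘ₗ (TensorProduct.assoc k V D C).toLinearMap ∘ₗ
        (HopfRep.Comod.coact (k := k) (A := D) (V := V)).rTensor C ∘ₗ HopfRep.Comod.coact (k := k) (A := C))
    (hV : HopfRep.IsSemisimpleComod k D V)
    (S : Type w') [AddCommGroup S] [Module k S] [HopfRep.Comod k D S] (hS : HopfRep.IsSimpleComod k D S) :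
    HopfRep.IsSubcomod (k := k) (A := C)
      (⨆ f : {f : S →ₗ[k] V // Hoch.IsComodHom D f}, LinearMap.range f.1) := by
  rw [Groth.Agent.Lib.Comod.isSubcomod_iff_act]
  intro φ v hv
  have hact := isComodHom_act_of_comm k C D V hcomm φ
  have hle : Submodule.map (Groth.Agent.Lib.Comod.act (C := C) V φ)
      (⨆ f : {f : S →ₗ[k] V // Hoch.IsComodHom D f}, LinearMap.range f.1) ≤
      ⨆ f : {f : S →ₗ[k] V // Hoch.IsComodHom D f}, LinearMap.range f.1 := by
    rw [Submodule.map_iSup]
    refine iSup_le fun f => ?_
    rw [← LinearMap.range_comp]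
    exact le_iSup (fun g : {f : S →ₗ[k] V // Hoch.IsComodHom D f} => LinearMap.range g.1)
      ⟨Groth.Agent.Lib.Comod.act (C := C) V φ ∘ₗ f.1,
        Groth.Agent.Lib.Comod.isComodHom_comp' f.2 hact⟩
  exact hle (Submodule.mem_map_of_mem hv)

end Groth.Agent.S18814
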