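import Groth.Statements.S18822
import Mathlib

set_option autoImplicit false
universe u
open CategoryTheory MonoidalCategory CartesianMonoidalCategory MonObj AlgebraicGeometry Opposite
open Magnet

namespace Groth.Agent.S18822

/-- Let k be a commutative ring, M a monoid k-scheme and X a k-scheme with an action a of M. Then the
fixed-point subpresheaf X^M of X, whose T-valued points are the k-morphisms x : T → X such that g ·
(x ∘ t) = x ∘ t for every k-scheme T', every t : T' → T and every T'-valued point g of M, is a sheaf
for the Zariski topology on k-schemes (the topology induced on schemes over Spec k). -/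
theorem result (k : Type u) [CommRing k]
    (M X : Over (Spec (CommRingCat.of k))) [MonObj M] (a : Magnet.MonAct M X) :
    Presheaf.IsSheaf (Scheme.zariskiTopology.over (Spec (CommRingCat.of k))) (Magnet.MonAct.fixedPsh a) := by
  rw [isSheaf_iff_isSheaf_of_type]
  have hX : Presieve.IsSheaf (Scheme.zariskiTopology.over (Spec (CommRingCat.of k)))
      (yoneda.obj X) :=
    GrothendieckTopology.Subcanonical.isSheaf_of_isRepresentable _
  intro T S hS x hx
  let y : Presieve.FamilyOfElements (yoneda.obj X) S.arrows := fun W f hf => (x f hf).1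
  have hy : y.Compatible := by
    intro W1 W2 Z g1 g2 f1 f2 h1 h2 comm
    have := hx g1 g2 h1 h2 comm
    exact congrArg Subtype.val this
  obtain ⟨z, hz, hzu⟩ := hX S hS y hy
  have hz' : ∀ (W : Over (Spec (CommRingCat.of k))) (f : W ⟶ T) (hf : S.arrows f),
      f ≫ z = (x f hf).1 := fun W f hf => hz f hf
  refine ⟨⟨z, ?_⟩, ?_, ?_⟩
  · intro T' t g
    refine (hX (S.pullback t) ((Scheme.zariskiTopology.over _).pullback_stable t hS)).isSeparatedFor.ext
      ?_
    intro W u hu
    change u ≫ lift g (t ≫ z) ≫ a.act = u ≫ t ≫ z
    have h1 : (u ≫ t) ≫ z = (x (u ≫ t) hu).1 := hz' _ _ hu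
    have h2 := (x (u ≫ t) hu).2 W (𝟙 _) (u ≫ g)
    rw [Category.id_comp] at h2
    rw [← Category.assoc u t z, h1, ← Category.assoc, comp_lift, ← Category.assoc, h1]
    exact h2
  · intro W f hf
    exact Subtype.ext (hz' W f hf)
  · intro w hw
    refine Subtype.ext (hzu w.1 ?_)
    intro W f hf
    exact congrArg Subtype.val (hw f hf)

end Groth.Agent.S18822
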