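import Groth.Statements.S18823
import Groth.Agent.Lib.ClosedCond27f

set_option autoImplicit false
set_option maxHeartbeats 400000
universe u
open CategoryTheory MonoidalCategory CartesianMonoidalCategory AlgebraicGeometry
open AlgGrp

namespace Groth.Agent.S18823

/-- Let k be a field, X a separated k-scheme, M a k-scheme (in the source a monoid k-scheme) acting on X
through a : M ×_k X → X, and i : G → M a morphism of k-schemes which is a scheme-theoretically
dominant open immersion: no nonzero quasi-coherent ideal of O_M restricts to zero on G (for
quasi-compact i this is the usual schematic density, O_M → i_*O_G injective; in the source G is the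
group of units of M, open and schematically dense). For a k-scheme T and a T-valued point x of X, x
is fixed under M, i.e. a ∘ (id_M × x) = x ∘ pr_T on M ×_k T, if and only if x is fixed under G, i.e.
a ∘ (i × x) = x ∘ pr_T on G ×_k T. Thus the fixed-point subpresheaves X^M and X^G of X are equal.
(The published statement has no separatedness assumption on X and reduces to points landing in an
affine open; the step asserting that the equalizer of the two maps M ×_k T → X is closed uses that
the target is separated, so X is taken separated here, the case the printed argument establishes.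
The monoid structure and the action axioms play no role in that argument and are not assumed.) -/
theorem result (k : Type u) [Field k]
    (M G X : Over (Spec (CommRingCat.of k))) [IsSeparated X.hom] (a : M ⊗ X ⟶ X) (i : G ⟶ M)
    [IsOpenImmersion i.left] [IsSchemeTheoreticallyDominant i.left]
    (T : Over (Spec (CommRingCat.of k))) (x : T ⟶ X) :
    (M ◁ x) ≫ a = CartesianMonoidalCategory.snd M T ≫ x ↔
      (G ◁ x) ≫ (i ▷ X) ≫ a = CartesianMonoidalCategory.snd G T ≫ x := by
  constructor
  · intro h
    rw [← Category.assoc, whisker_exchange, Category.assoc, h, whiskerRight_snd_assoc]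
  · intro h
    let sw : ∀ A B : Over (Spec (CommRingCat.of k)), A ⊗ B ⟶ B ⊗ A :=
      fun A B => lift (CartesianMonoidalCategory.snd A B) (CartesianMonoidalCategory.fst A B)
    have hsw : ∀ A B : Over (Spec (CommRingCat.of k)), sw A B ≫ sw B A = 𝟙 _ := by
      intro A B
      apply CartesianMonoidalCategory.hom_ext <;> simp [sw]
    have hnat : ∀ {A B : Over (Spec (CommRingCat.of k))} (t : A ⟶ B)
        (C : Over (Spec (CommRingCat.of k))), (C ◁ t) ≫ sw C B = sw C A ≫ (t ▷ C) := by
      intro A B t C
      apply CartesianMonoidalCategory.hom_ext <;> simp [sw]
    obtain ⟨𝓙, h𝓙⟩ := Groth.Agent.Lib.ClosedCond27.exists_idealSheaf_of_eq_of_good T M X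
      (Groth.Agent.Lib.ClosedCond27.good_of_essFree T
        (Groth.Agent.Lib.ClosedCond27.essFree_of_field k T))
      (sw T M ≫ (M ◁ x) ≫ a) (sw T M ≫ CartesianMonoidalCategory.snd M T ≫ x)
    have h1 : 𝓙 ≤ i.left.ker := by
      rw [h𝓙, ← Category.assoc, ← Category.assoc (T ◁ i), hnat, Category.assoc, Category.assoc]
      congr 1
      rw [← Category.assoc, ← whisker_exchange, Category.assoc, h, whiskerRight_snd_assoc]
    have h2 : 𝓙 ≤ (𝟙 M : M ⟶ M).left.ker := by
      rw [Scheme.Hom.ker_eq_bot] at h1
      exact h1.trans bot_le
    rw [h𝓙] at h2
    rw [MonoidalCategory.whiskerLeft_id, Category.id_comp, Category.id_comp] at h2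
    have h3 := congrArg (fun φ => sw M T ≫ φ) h2
    simp only [← Category.assoc] at h3
    rw [hsw] at h3
    simpa using h3

end Groth.Agent.S18823
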