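import Groth.Statements.S18827
import Groth.Agent.Lib.ComodSimple18

set_option autoImplicit false
universe u v w
open TensorProduct
open HopfRep

namespace Groth.Agent.S18827

open Groth.Agent.Lib.Comod

/-- Let k be a field, C a k-coalgebra, V a right C-comodule which is semisimple (every subcomodule has a
complementary subcomodule, which over a field is the same as being the sum of its simple
subcomodules) and W a subcomodule of V. Then the subcomodule W with its induced structure and the
quotient comodule V/W are again semisimple. (The source states this for representations of an affine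
monoid scheme over k.) -/
theorem result (k : Type u) [Field k]
    (C : Type v) [AddCommGroup C] [Module k C] [Coalgebra k C]
    (V : Type w) [AddCommGroup V] [Module k V] [c : HopfRep.Comod k C V] (hV : HopfRep.IsSemisimpleComod k C V)
    (W : Submodule k V) (hW : HopfRep.IsSubcomod (k := k) (A := C) W) :
    @HopfRep.IsSemisimpleComod k C _ _ _ _ ↥W _ _ (ComodSub.Comod.restr c W hW) ∧
      @HopfRep.IsSemisimpleComod k C _ _ _ _ (V ⧸ W) _ _ (ComodSub.Comod.quot c W hW) := by
  constructor
  · -- the subcomodule
    intro U hU
    have hsub := ComodSub.isComodHom_subtype c W hW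
    have hUmap : @HopfRep.IsSubcomod k C _ _ _ _ V _ _ c (U.map W.subtype) := by
      let _ := ComodSub.Comod.restr c W hW
      exact isSubcomod_map hsub hU
    obtain ⟨U', hU', hcompl⟩ := hV _ hUmap
    have hinf : @HopfRep.IsSubcomod k C _ _ _ _ V _ _ c (U' ⊓ W) := isSubcomod_inf hU' hW
    refine ⟨(U' ⊓ W).comap W.subtype, ?_, ?_⟩
    · let _ := ComodSub.Comod.restr c W hW
      exact isSubcomod_comap hsub hinf
    · constructor
      · rw [disjoint_iff, eq_bot_iff]
        rintro x ⟨hxU, hxU'⟩
        have h1 : (x : V) ∈ U.map W.subtype := ⟨x, hxU, rfl⟩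
        have h2 : (x : V) ∈ U' := hxU'.1
        have h3 : (x : V) ∈ U.map W.subtype ⊓ U' := ⟨h1, h2⟩
        rw [hcompl.inf_eq_bot] at h3
        have h4 : (x : V) = 0 := by simpa using h3
        rw [Submodule.mem_bot]
        exact Subtype.ext h4
      · rw [codisjoint_iff, eq_top_iff]
        intro w _
        have hw : (w : V) ∈ U.map W.subtype ⊔ U' := by
          rw [hcompl.sup_eq_top]; exact Submodule.mem_top
        obtain ⟨a, ⟨a', ha', rfl⟩, b, hb, hab⟩ := Submodule.mem_sup.mp hw
        have hbW : b ∈ W := by
          have : b = (w : V) - (a' : V) := by rw [← hab]; simp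
          rw [this]
          exact W.sub_mem w.2 a'.2
        refine Submodule.mem_sup.mpr ⟨a', ha', ⟨b, hbW⟩, ⟨hb, hbW⟩, ?_⟩
        exact Subtype.ext hab
  · -- the quotient
    intro U hU
    have hq := ComodSub.isComodHom_mkQ c W hW
    have hUc : @HopfRep.IsSubcomod k C _ _ _ _ V _ _ c (U.comap W.mkQ) := by
      let _ := ComodSub.Comod.quot c W hW
      exact isSubcomod_comap hq hU
    obtain ⟨U', hU', hcompl⟩ := hV _ hUc
    refine ⟨U'.map W.mkQ, ?_, ?_⟩
    · let _ := ComodSub.Comod.quot c W hW
      exact isSubcomod_map hq hU'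
    · constructor
      · rw [disjoint_iff, eq_bot_iff]
        rintro y ⟨hyU, ⟨u', hu', rfl⟩⟩
        have h1 : u' ∈ U.comap W.mkQ := hyU
        have h3 : u' ∈ U.comap W.mkQ ⊓ U' := ⟨h1, hu'⟩
        rw [hcompl.inf_eq_bot] at h3
        have h4 : u' = 0 := by simpa using h3
        rw [h4, map_zero]
        exact Submodule.zero_mem _
      · rw [codisjoint_iff, eq_top_iff]
        intro y _
        obtain ⟨v, rfl⟩ := Submodule.mkQ_surjective W y
        have hv : v ∈ U.comap W.mkQ ⊔ U' := by
          rw [hcompl.sup_eq_top]; exact Submodule.mem_top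
        obtain ⟨a, ha, b, hb, rfl⟩ := Submodule.mem_sup.mp hv
        rw [map_add]
        exact Submodule.add_mem_sup ha ⟨b, hb, rfl⟩

end Groth.Agent.S18827
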