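import Groth.Statements.S18828
import Groth.Agent.Lib.EtaleQuot45
import Groth.Agent.Lib.H71HomLocus2

set_option autoImplicit false
set_option maxHeartbeats 400000
universe u
open CategoryTheory MonoidalCategory CartesianMonoidalCategory MonObj AlgebraicGeometry
open AlgGrp

namespace Groth.Agent.S18828

/-- Let k be a field and f : H → G a homomorphism of locally algebraic groups over k (group k-schemes
locally of finite type). Write e_H for the unit point of H (the image under the unit section of the
point pt of the base Spec k) and φ : O_{G,f(e_H)} → O_{H,e_H} for the induced local homomorphism of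
local rings. Assume (1) φ induces an isomorphism of completed local rings, stated here as: for every
n, φ followed by reduction modulo the (n+1)-st power of the maximal ideal of O_{H,e_H} is
surjective, and an element of O_{G,f(e_H)} maps into that power exactly when it lies in the (n+1)-st
power of the maximal ideal of O_{G,f(e_H)}; and (2) f is a monomorphism of schemes. Then f is an
open immersion. -/
theorem result (k : Type u) [Field k]
    (H G : Over (Spec (CommRingCat.of k))) [GrpObj H] [GrpObj G]
    [LocallyOfFiniteType H.hom] [LocallyOfFiniteType G.hom] (f : H ⟶ G) [IsMonHom f] [Mono f.left]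
    (pt : ↥(𝟙_ (Over (Spec (CommRingCat.of k)))).left)
    (h : ∀ n : ℕ,
      Function.Surjective ((Ideal.Quotient.mk (IsLocalRing.maximalIdeal
          ↑(H.left.presheaf.stalk (η[H].left.base pt)) ^ (n + 1))).comp
        (f.left.stalkMap (η[H].left.base pt)).hom) ∧
      ∀ a : ↑(G.left.presheaf.stalk (f.left.base (η[H].left.base pt))),
        (f.left.stalkMap (η[H].left.base pt)).hom a ∈
            IsLocalRing.maximalIdeal ↑(H.left.presheaf.stalk (η[H].left.base pt)) ^ (n + 1) ↔
          a ∈ IsLocalRing.maximalIdeal ↑(G.left.presheaf.stalk (f.left.base (η[H].left.base pt))) ^ (n + 1)) :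
    IsOpenImmersion f.left := by
  haveI : Flat H.hom := inferInstance
  haveI : LocallyOfFinitePresentation H.hom :=
    LocallyOfFinitePresentation.iff_locallyOfFiniteType.mpr inferInstance
  haveI : IsLocallyNoetherian H.left := LocallyOfFiniteType.isLocallyNoetherian H.hom
  haveI : IsLocallyNoetherian G.left := LocallyOfFiniteType.isLocallyNoetherian G.hom
  have hflat : (f.left.stalkMap (η[H].left.base pt)).hom.Flat := by
    algebraize [(f.left.stalkMap (η[H].left.base pt)).hom]
    haveI : IsLocalHom (algebraMap ↑(G.left.presheaf.stalk (f.left.base (η[H].left.base pt)))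
        ↑(H.left.presheaf.stalk (η[H].left.base pt))) := by
      rw [RingHom.algebraMap_toAlgebra]; infer_instance
    refine Groth.Agent.Lib.EtaleQuot45.flat_of_forall_bijective_quotient ?_
    intro n
    cases n with
    | zero =>
      refine ⟨?_, ?_⟩
      · intro y
        refine ⟨0, ?_⟩
        have : (IsLocalRing.maximalIdeal ↑(H.left.presheaf.stalk (η[H].left.base pt))) ^ 0 = ⊤ := by
          simp
        obtain ⟨y, rfl⟩ := Ideal.Quotient.mk_surjective y
        rw [map_zero, eq_comm, Ideal.Quotient.eq_zero_iff_mem, this]
        trivial
      · rw [pow_zero, pow_zero, Ideal.one_eq_top, Ideal.one_eq_top, eq_top_iff]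
        intro a _
        rw [RingHom.mem_ker, RingHom.comp_apply, Ideal.Quotient.eq_zero_iff_mem]
        trivial
    | succ n =>
      refine ⟨(h n).1, ?_⟩
      ext a
      rw [RingHom.mem_ker, RingHom.comp_apply, Ideal.Quotient.eq_zero_iff_mem]
      exact (h n).2 a
  have key := (Groth.Agent.Lib.H71HomLocus.flat_locus f).2
  have he : (η[H].left.base pt) ∈ {x : H.left | (f.left.stalkMap x).hom.Flat} := hflat
  rw [key] at he
  haveI : Flat f.left := by
    rw [Flat.iff_flat_stalkMap]
    intro x
    have hx : x ∈ H.hom.base ⁻¹' {s | Flat ((Over.pullback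
        ((Spec (CommRingCat.of k)).fromSpecResidueField s)).map f).left} := by
      have : H.hom.base x = H.hom.base (η[H].left.base pt) := Subsingleton.elim _ _
      rw [Set.mem_preimage, this]
      exact he
    rw [← key] at hx
    exact hx
  haveI : LocallyOfFinitePresentation f.left := Groth.Agent.Lib.H71HomLocus.lfp_left f
  exact IsOpenImmersion.of_flat_of_mono f.left

end Groth.Agent.S18828
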