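import Groth.Statements.S18830
import Groth.Agent.Lib.UnitsMon18
import Groth.Agent.Lib.ActOpen18

set_option autoImplicit false
set_option maxHeartbeats 400000
universe u
open CategoryTheory MonoidalCategory CartesianMonoidalCategory MonObj AlgebraicGeometry
open AlgGrp

namespace Groth.Agent.S18830

/-- Let k be a field and M an algebraic monoid over k (a monoid k-scheme of finite type). Let i : G → M
be its group of units: a monomorphism of k-schemes through which a T-valued point of M factors if
and only if it is invertible in the monoid M(T). Then G is of finite type over k, i.e. the unit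
group is an algebraic group. -/
theorem result (k : Type u) [Field k]
    (M G : Over (Spec (CommRingCat.of k))) [MonObj M] [LocallyOfFiniteType M.hom] [QuasiCompact M.hom]
    (i : G ⟶ M) [Mono i]
    (hi : ∀ (T : Over (Spec (CommRingCat.of k))) (m : T ⟶ M), (∃ g : T ⟶ G, g ≫ i = m) ↔ IsUnit m) :
    LocallyOfFiniteType G.hom ∧ QuasiCompact G.hom := by
  let S := Spec (CommRingCat.of k)
  let P := Groth.Agent.Lib.UnitsMon18.unitsObj M
  let j := Groth.Agent.Lib.UnitsMon18.unitsι M
  -- `G ≅ P`
  obtain ⟨h, hh⟩ : ∃ h : G ⟶ P, h ≫ j = i :=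
    (Groth.Agent.Lib.UnitsMon18.factors_iff i).mpr ((hi G i).mp ⟨𝟙 G, Category.id_comp _⟩)
  obtain ⟨g, hg⟩ : ∃ g : P ⟶ G, g ≫ i = j :=
    (hi P j).mpr ((Groth.Agent.Lib.UnitsMon18.factors_iff j).mp ⟨𝟙 P, Category.id_comp _⟩)
  have hgh : g ≫ h = 𝟙 P := by
    rw [← cancel_mono j, Category.assoc, hh, hg, Category.id_comp]
  have hhg : h ≫ g = 𝟙 G := by
    rw [← cancel_mono i, Category.assoc, hg, hh, Category.id_comp]
  haveI : IsIso h := ⟨⟨g, hhg, hgh⟩⟩
  haveI : IsIso h.left := inferInstanceAs (IsIso ((Over.forget S).map h))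
  -- `P.hom` is of finite type
  let one2 := Groth.Agent.Lib.UnitsMon18.oneBoth M
  let mul2 := Groth.Agent.Lib.UnitsMon18.mulBoth M
  have hMM : (M ⊗ M).hom = Limits.pullback.fst M.hom M.hom ≫ M.hom := rfl
  haveI : LocallyOfFiniteType (M ⊗ M).hom := by rw [hMM]; infer_instance
  haveI : QuasiCompact (M ⊗ M).hom := by rw [hMM]; infer_instance
  have h1 : one2.left ≫ (M ⊗ M).hom = 𝟙 S := by
    rw [Over.w one2]; rfl
  haveI : LocallyOfFiniteType one2.left := by
    haveI : LocallyOfFiniteType (one2.left ≫ (M ⊗ M).hom) := by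
      rw [h1]; exact MorphismProperty.id_mem _ _
    exact locallyOfFiniteType_of_comp one2.left (M ⊗ M).hom
  haveI : QuasiCompact one2.left := by
    haveI : Finite ↥(𝟙_ (Over S)).left :=
      inferInstanceAs (Finite ↥(Spec (CommRingCat.of k)))
    exact ⟨fun U _ _ => (Set.toFinite _).isCompact⟩
  have sq : IsPullback (Limits.pullback.fst mul2 one2).left (Limits.pullback.snd mul2 one2).left
      mul2.left one2.left :=
    (IsPullback.of_hasPullback mul2 one2).map (Over.forget S)
  haveI : LocallyOfFiniteType (Limits.pullback.fst mul2 one2).left :=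
    MorphismProperty.of_isPullback (P := @LocallyOfFiniteType) sq.flip ‹_›
  haveI : QuasiCompact (Limits.pullback.fst mul2 one2).left :=
    MorphismProperty.of_isPullback (P := @QuasiCompact) sq.flip ‹_›
  have hP : P.hom = (Limits.pullback.fst mul2 one2).left ≫ (M ⊗ M).hom :=
    (Over.w (Limits.pullback.fst mul2 one2)).symm
  have hG : G.hom = h.left ≫ P.hom := (Over.w h).symm
  constructor
  · rw [hG, hP]; infer_instance
  · rw [hG, hP]; infer_instance

end Groth.Agent.S18830
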