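import Groth.Statements.S18831
import Groth.Agent.S0002
import Groth.Agent.Lib.TwistH0_48

set_option autoImplicit false
universe u
open CategoryTheory CategoryTheory.Limits AlgebraicGeometry
open VBCurve

namespace Groth.Agent.S18831

/-- Let X be a smooth projective integral curve over an algebraically closed field k of characteristic
zero, and G a finite locally free O_X-module of rank r ≥ 1 which is slope-semistable, of slope μ =
deg G / r (deg G = χ(G) − r χ(O_X)). Then dim_k H^0(X, G) ≤ r · max(⌊μ⌋ + 1, 0); in particular a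
slope-semistable bundle of negative slope has no nonzero global section. -/
theorem result (k : Type u) [Field k] [IsAlgClosed k] [CharZero k]
    (X : Scheme.{u}) [X.Over (Spec (CommRingCat.of k))]
    [IsIntegral X] [IsProper (X ↘ Spec (CommRingCat.of k))] [Smooth (X ↘ Spec (CommRingCat.of k))]
    (hdim : topologicalKrullDim X = 1)
    (r : ℕ) (hr : 0 < r) (G : X.Modules) (hG : FlatMod.IsFinLocFreeOfRank r G)
    (hss : ModFun.IsSlopeSemistable k X G r) :
    (Module.finrank k (Coh.HH X G 0) : ℤ) ≤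
      (r : ℤ) * max (⌊(Curv2.deg k X G r : ℚ) / (r : ℚ)⌋ + 1) 0 := by
  have hpid : ∀ x : X, IsPrincipalIdealRing (X.presheaf.stalk x) := fun x =>
    Groth.Agent.Lib.SmoothCurve67.isPrincipalIdealRing_stalk_of_smooth k X hdim.le x
  set d := Curv2.deg k X G r with hd
  set M : ℤ := max (⌊(d : ℚ) / (r : ℚ)⌋ + 1) 0 with hM
  have hM0 : 0 ≤ M := le_max_right _ _
  have hMm : ((M.toNat : ℕ) : ℤ) = M := Int.toNat_of_nonneg hM0
  have hrq : (0 : ℚ) < (r : ℚ) := by exact_mod_cast hr
  have h1 : (d : ℚ) / (r : ℚ) < ((⌊(d : ℚ) / (r : ℚ)⌋ + 1 : ℤ) : ℚ) := by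
    push_cast
    exact Int.lt_floor_add_one _
  have h2' : ⌊(d : ℚ) / (r : ℚ)⌋ + 1 ≤ M := le_max_left _ _
  have h2 : ((⌊(d : ℚ) / (r : ℚ)⌋ + 1 : ℤ) : ℚ) ≤ (M : ℚ) := Int.cast_le.mpr h2'
  have h3 : (d : ℚ) < (r : ℚ) * (M : ℚ) := by
    have := lt_of_lt_of_le h1 h2
    rw [div_lt_iff₀ hrq] at this
    linarith
  have h4 : d < (r : ℤ) * ((M.toNat : ℕ) : ℤ) := by
    rw [hMm]
    exact_mod_cast h3
  have h5 := Groth.Agent.Lib.CurveDeg48.h0_le_of_semistable
    (fun A _ _ X _ _ M hM n => Groth.Agent.S0002.result A X M hM n)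
    k X hpid hdim r hr M.toNat G hG hss h4
  rw [← hMm]
  exact_mod_cast h5

end Groth.Agent.S18831
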