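import Groth.Statements.S18832
import Mathlib
import Groth.Agent.S5803
import Groth.Agent.Lib.DepthBasic
import Groth.Agent.Lib.H56RegSmooth

set_option autoImplicit false
universe u
open Polynomial
open DefT

namespace Groth.Agent.S18832

section Helpers

namespace J1
open Polynomial

variable (k : Type u) [Field k]

/-- truncated polynomial ring -/
abbrev T (l : ℕ) := k[X] ⧸ Ideal.span {(X : k[X]) ^ l}

/-- class of `X`. -/
noncomputable def xbar (l : ℕ) : T k l := Ideal.Quotient.mk _ (X : k[X])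

theorem xbar_pow_self (l : ℕ) : xbar k l ^ l = 0 := by
  unfold xbar
  rw [← map_pow, Ideal.Quotient.eq_zero_iff_mem]
  exact Ideal.mem_span_singleton_self _

variable (l : ℕ) [NeZero l]

/-- constant coefficient. -/
noncomputable def eps : T k l →ₐ[k] k :=
  Ideal.Quotient.liftₐ _ (aeval (0 : k)) (fun p hp => by
    obtain ⟨q, rfl⟩ := Ideal.mem_span_singleton.mp hp
    simp [NeZero.ne l])

theorem eps_mk (p : k[X]) : eps k l (Ideal.Quotient.mk _ p) = p.coeff 0 := by
  unfold eps
  rw [Ideal.Quotient.liftₐ_apply, Ideal.Quotient.lift_mk]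
  simp [Polynomial.coeff_zero_eq_eval_zero, Polynomial.aeval_def, Polynomial.eval₂_eq_eval_map]

theorem eps_xbar : eps k l (xbar k l) = 0 := by
  unfold xbar; rw [eps_mk]; simp

/-- elements with zero constant coefficient are multiples of `xbar`. -/
theorem exists_eq_xbar_mul {z : T k l} (h : eps k l z = 0) : ∃ w, z = xbar k l * w := by
  obtain ⟨p, rfl⟩ := Ideal.Quotient.mk_surjective z
  rw [eps_mk] at h
  refine ⟨Ideal.Quotient.mk _ (divX p), ?_⟩
  unfold xbar
  rw [← map_mul]
  congr 1
  conv_lhs => rw [← Polynomial.X_mul_divX_add p, h, map_zero, add_zero]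

theorem isNilpotent_of_eps_eq_zero {z : T k l} (h : eps k l z = 0) : IsNilpotent z := by
  obtain ⟨w, rfl⟩ := exists_eq_xbar_mul k l h
  exact ⟨l, by rw [mul_pow, xbar_pow_self, zero_mul]⟩

theorem eps_eq_zero_of_isNilpotent {z : T k l} (h : IsNilpotent z) : eps k l z = 0 :=
  (h.map (eps k l)).eq_zero

theorem isUnit_of_eps_ne_zero {z : T k l} (h : eps k l z ≠ 0) : IsUnit z := by
  have h1 : IsNilpotent (z - algebraMap k (T k l) (eps k l z)) := by
    apply isNilpotent_of_eps_eq_zero
    rw [map_sub, AlgHom.commutes, Algebra.algebraMap_self_apply, sub_self]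
  have h2 : IsUnit (algebraMap k (T k l) (eps k l z)) := (IsUnit.mk0 _ h).map _
  have := h1.isUnit_add_left_of_commute h2 (Commute.all _ _)
  simpa using this

/-- tangent predicate: `z = a X + O(X^2)`. -/
def Tan (z : T k l) (a : k) : Prop :=
  ∃ p : k[X], Ideal.Quotient.mk _ p = z ∧ p.coeff 0 = 0 ∧ p.coeff 1 = a

theorem Tan.exists_eq {z : T k l} {a : k} (h : Tan k l z a) :
    ∃ u, z = xbar k l * u ∧ eps k l u = a := by
  obtain ⟨p, rfl, h0, h1⟩ := h
  refine ⟨Ideal.Quotient.mk _ (divX p), ?_, ?_⟩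
  · unfold xbar
    rw [← map_mul]
    congr 1
    conv_lhs => rw [← Polynomial.X_mul_divX_add p, h0, map_zero, add_zero]
  · rw [eps_mk, Polynomial.coeff_divX, zero_add, h1]

/-- lifting preserves the tangent predicate (levels `≥ 2`). -/
theorem Tan.lift {l' : ℕ} [NeZero l'] (h2 : 2 ≤ l) (hll : l ≤ l')
    {w : T k l'} {z : T k l} {a : k}
    (hwz : Ideal.Quotient.factor (Ideal.span_singleton_le_span_singleton.mpr
      (pow_dvd_pow (X : k[X]) hll)) w = z) (h : Tan k l z a) : Tan k l' w a := by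
  obtain ⟨p, hp, h0, h1⟩ := h
  obtain ⟨q, rfl⟩ := Ideal.Quotient.mk_surjective w
  rw [Ideal.Quotient.factor_mk, ← hp, Ideal.Quotient.eq, Ideal.mem_span_singleton,
    Polynomial.X_pow_dvd_iff] at hwz
  refine ⟨q, rfl, ?_, ?_⟩
  · have := hwz 0 (by omega)
    rw [Polynomial.coeff_sub, sub_eq_zero] at this
    rw [this, h0]
  · have := hwz 1 (by omega)
    rw [Polynomial.coeff_sub, sub_eq_zero] at this
    rw [this, h1]

/-- lifting preserves `eps`. -/
theorem eps_factor {l' : ℕ} [NeZero l'] (hll : l ≤ l') (w : T k l') :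
    eps k l (Ideal.Quotient.factor (Ideal.span_singleton_le_span_singleton.mpr
      (pow_dvd_pow (X : k[X]) hll)) w) = eps k l' w := by
  obtain ⟨q, rfl⟩ := Ideal.Quotient.mk_surjective w
  rw [Ideal.Quotient.factor_mk, eps_mk, eps_mk]

/-- in `T (d+1)`, `xbar^d * w = 0` forces `eps w = 0`. -/
theorem eps_eq_zero_of_xbar_pow_mul (d : ℕ) {w : T k (d + 1)}
    (h : xbar k (d + 1) ^ d * w = 0) : eps k (d + 1) w = 0 := by
  obtain ⟨q, rfl⟩ := Ideal.Quotient.mk_surjective w
  unfold xbar at h
  rw [← map_pow, ← map_mul, Ideal.Quotient.eq_zero_iff_mem, Ideal.mem_span_singleton,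
    pow_succ, mul_dvd_mul_iff_left (pow_ne_zero d Polynomial.X_ne_zero)] at h
  rw [eps_mk]
  exact Polynomial.X_dvd_iff.mp h

/-- in `T (d+2)`, `xbar^d * w ∈ (xbar^(d+1))` forces `eps w = 0`. -/
theorem eps_eq_zero_of_xbar_pow_mul_mem (d : ℕ) {w : T k (d + 2)}
    (h : xbar k (d + 2) ^ d * w ∈ Ideal.span {xbar k (d + 2) ^ (d + 1)}) :
    eps k (d + 2) w = 0 := by
  obtain ⟨v, hv⟩ := Ideal.mem_span_singleton.mp h
  obtain ⟨q, rfl⟩ := Ideal.Quotient.mk_surjective w
  obtain ⟨v', rfl⟩ := Ideal.Quotient.mk_surjective v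
  unfold xbar at hv
  rw [← map_pow, ← map_pow, ← map_mul, ← map_mul, Ideal.Quotient.eq, Ideal.mem_span_singleton]
    at hv
  have h1 : (X : k[X]) ^ d * X ^ 2 ∣ X ^ d * (q - X * v') := by
    have : (X : k[X]) ^ d * q - X ^ (d + 1) * v' = X ^ d * (q - X * v') := by ring
    rw [← this, ← pow_add]
    exact hv
  rw [mul_dvd_mul_iff_left (pow_ne_zero d Polynomial.X_ne_zero)] at h1
  have h2 : (X : k[X]) ∣ q := by
    have h3 : (X : k[X]) ∣ q - X * v' := (dvd_pow_self X two_ne_zero).trans h1
    have h4 : (X : k[X]) ∣ X * v' := dvd_mul_right _ _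
    have := dvd_add h3 h4
    simpa using this
  rw [eps_mk]
  exact Polynomial.X_dvd_iff.mp h2

end J1

namespace J2
open Polynomial

variable (k : Type u) [Field k] (A : Type u) [CommRing A] [Algebra k A] (m : Ideal A)
  (ev : A →ₐ[k] k) (hev : ∀ f, ev f = 0 ↔ f ∈ m)

include hev in
theorem sub_mem (f : A) : f - algebraMap k A (ev f) ∈ m := by
  rw [← hev, map_sub, AlgHom.commutes, Algebra.algebraMap_self_apply, sub_self]

/-- the point derivation attached to a functional on the cotangent space. -/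
noncomputable def Dfun (ℓ : m.Cotangent →ₗ[k] k) (f : A) : k :=
  ℓ (m.toCotangent ⟨f - algebraMap k A (ev f), sub_mem k A m ev hev f⟩)

theorem Dfun_add (ℓ : m.Cotangent →ₗ[k] k) (f g : A) :
    Dfun k A m ev hev ℓ (f + g) = Dfun k A m ev hev ℓ f + Dfun k A m ev hev ℓ g := by
  unfold Dfun
  rw [← map_add, ← map_add]
  congr 2
  apply Subtype.ext
  simp only [map_add, Submodule.coe_add]
  ring

theorem Dfun_algebraMap (ℓ : m.Cotangent →ₗ[k] k) (c : k) :
    Dfun k A m ev hev ℓ (algebraMap k A c) = 0 := by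
  unfold Dfun
  have : (⟨algebraMap k A c - algebraMap k A (ev (algebraMap k A c)),
      sub_mem k A m ev hev _⟩ : m) = 0 := by
    apply Subtype.ext
    simp
  rw [this, map_zero, map_zero]

theorem Dfun_mul (ℓ : m.Cotangent →ₗ[k] k) (f g : A) :
    Dfun k A m ev hev ℓ (f * g) =
      ev f * Dfun k A m ev hev ℓ g + ev g * Dfun k A m ev hev ℓ f := by
  unfold Dfun
  set f' : m := ⟨f - algebraMap k A (ev f), sub_mem k A m ev hev f⟩ with hf'
  set g' : m := ⟨g - algebraMap k A (ev g), sub_mem k A m ev hev g⟩ with hg'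
  have hprod : m.toCotangent (⟨(f' : A) * (g' : A), m.mul_mem_left _ g'.2⟩ : m) = 0 := by
    rw [Ideal.toCotangent_eq_zero, pow_two]
    exact Ideal.mul_mem_mul f'.2 g'.2
  have key : (⟨f * g - algebraMap k A (ev (f * g)), sub_mem k A m ev hev (f * g)⟩ : m) =
      (⟨(f' : A) * (g' : A), m.mul_mem_left _ g'.2⟩ : m) + ev f • g' + ev g • f' := by
    apply Subtype.ext
    simp only [Submodule.coe_add, Submodule.coe_smul_of_tower, hf', hg', map_mul,
      Algebra.smul_def]
    ring
  rw [key]
  simp only [map_add, LinearMap.map_smul_of_tower, map_smul, smul_eq_mul]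
  rw [hprod, map_zero, zero_add]

theorem Dfun_of_mem (ℓ : m.Cotangent →ₗ[k] k) (x : A) (hx : x ∈ m) :
    Dfun k A m ev hev ℓ x = ℓ (m.toCotangent ⟨x, hx⟩) := by
  unfold Dfun
  congr 2
  apply Subtype.ext
  simp [(hev x).mpr hx]

/-- the 2-jet with prescribed tangent functional. -/
noncomputable def jet2 (ℓ : m.Cotangent →ₗ[k] k) : A →ₐ[k] J1.T k 2 where
  toFun f := Ideal.Quotient.mk _ (C (ev f) + C (Dfun k A m ev hev ℓ f) * X)
  map_one' := by
    have h1 : Dfun k A m ev hev ℓ 1 = 0 := by
      have := Dfun_algebraMap k A m ev hev ℓ 1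
      rwa [map_one] at this
    simp [h1]
  map_mul' f g := by
    rw [← map_mul, Ideal.Quotient.eq, Ideal.mem_span_singleton, Dfun_mul, map_mul]
    refine ⟨-(C (Dfun k A m ev hev ℓ f) * C (Dfun k A m ev hev ℓ g)), ?_⟩
    simp only [map_add, map_mul]
    ring
  map_zero' := by
    have h0 : Dfun k A m ev hev ℓ 0 = 0 := by
      have := Dfun_algebraMap k A m ev hev ℓ 0
      rwa [map_zero] at this
    simp [h0]
  map_add' f g := by
    rw [← map_add, Dfun_add]
    congr 1
    simp only [map_add]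
    ring
  commutes' c := by
    rw [Dfun_algebraMap, AlgHom.commutes]
    simp
    rfl

theorem eps_jet2 (ℓ : m.Cotangent →ₗ[k] k) (f : A) :
    J1.eps k 2 (jet2 k A m ev hev ℓ f) = ev f := by
  show J1.eps k 2 (Ideal.Quotient.mk _ _) = _
  rw [J1.eps_mk]
  simp

theorem tan_jet2 (ℓ : m.Cotangent →ₗ[k] k) (x : A) (hx : x ∈ m) :
    J1.Tan k 2 (jet2 k A m ev hev ℓ x) (ℓ (m.toCotangent ⟨x, hx⟩)) := by
  refine ⟨C (ev x) + C (Dfun k A m ev hev ℓ x) * X, rfl, ?_, ?_⟩
  · simp [(hev x).mpr hx]
  · simp [Dfun_of_mem k A m ev hev ℓ x hx]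

end J2

namespace J3
open Polynomial

theorem eval_mul_of_isHomogeneous {T : Type*} [CommRing T] {n d : ℕ}
    (Q : MvPolynomial (Fin n) T) (hQ : Q.IsHomogeneous d) (c : T) (u : Fin n → T) :
    MvPolynomial.eval (fun i => c * u i) Q = c ^ d * MvPolynomial.eval u Q := by
  rw [MvPolynomial.eval_eq', MvPolynomial.eval_eq', Finset.mul_sum]
  refine Finset.sum_congr rfl fun α hα => ?_
  have hd : d = ∑ i, α i := by
    rw [hQ.degree_eq_sum_deg_support hα]
    exact Finset.sum_subset (Finset.subset_univ _)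
      (fun i _ hi => Finsupp.notMem_support_iff.mp hi)
  simp only [mul_pow, Finset.prod_mul_distrib, Finset.prod_pow_eq_pow_sum]
  rw [← hd]
  ring

variable (k : Type u) [Field k] (A : Type u) [CommRing A] [Algebra k A] (m : Ideal A)
  (ev : A →ₐ[k] k) (hev : ∀ f, ev f = 0 ↔ f ∈ m)

include hev in
/-- iterated lifting of jets. -/
theorem exists_jet
    (H : ∀ (l : ℕ), 1 ≤ l →
        ∀ (φ : A →ₐ[k] (k[X] ⧸ Ideal.span {(X : k[X]) ^ l})),
          (∀ a ∈ m, IsNilpotent (φ a)) →
          ∃ ψ : A →ₐ[k] (k[X] ⧸ Ideal.span {(X : k[X]) ^ (l + 1)}),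
            (Ideal.Quotient.factorₐ k
                (Ideal.span_singleton_le_span_singleton.mpr
                  (pow_dvd_pow (X : k[X]) (Nat.le_succ l)))).comp ψ = φ)
    {n : ℕ} (x : Fin n → A) (hx : ∀ i, x i ∈ m) (ℓ : m.Cotangent →ₗ[k] k) (j : ℕ) :
    ∃ γ : A →ₐ[k] J1.T k (j + 2), (∀ f, J1.eps k (j + 2) (γ f) = ev f) ∧
      ∀ i, J1.Tan k (j + 2) (γ (x i)) (ℓ (m.toCotangent ⟨x i, hx i⟩)) := by
  induction j with
  | zero =>
    exact ⟨J2.jet2 k A m ev hev ℓ, J2.eps_jet2 k A m ev hev ℓ,
      fun i => J2.tan_jet2 k A m ev hev ℓ (x i) (hx i)⟩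
  | succ j ih =>
    obtain ⟨γ, hγ1, hγ2⟩ := ih
    obtain ⟨ψ, hψ⟩ := H (j + 2) (by omega) γ (fun a ha => by
      apply J1.isNilpotent_of_eps_eq_zero
      rw [hγ1, (hev a).mpr ha])
    have hfac : ∀ f, Ideal.Quotient.factor (Ideal.span_singleton_le_span_singleton.mpr
        (pow_dvd_pow (X : k[X]) (Nat.le_succ (j + 2)))) (ψ f) = γ f := fun f => by
      have := congrArg (fun g => g f) hψ
      exact this
    refine ⟨ψ, fun f => ?_, fun i => ?_⟩
    · rw [← hγ1 f, ← hfac f]
      exact (J1.eps_factor k (j + 2) (Nat.le_succ (j + 2)) (ψ f)).symm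
    · exact J1.Tan.lift k (j + 2) (by omega) (Nat.le_succ (j + 2)) (hfac (x i)) (hγ2 i)

end J3

namespace J4
open Polynomial

variable (k : Type u) [Field k] [Infinite k] (A : Type u) [CommRing A] [Algebra k A]
  (m : Ideal A) [m.IsMaximal]
  (ev : A →ₐ[k] k) (hev : ∀ f, ev f = 0 ↔ f ∈ m)
  (R : Type u) [CommRing R] [Algebra A R] [IsLocalization.AtPrime R m] [IsLocalRing R]

include hev in
theorem quasiRegular
    (H : ∀ (l : ℕ), 1 ≤ l →
        ∀ (φ : A →ₐ[k] (k[X] ⧸ Ideal.span {(X : k[X]) ^ l})),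
          (∀ a ∈ m, IsNilpotent (φ a)) →
          ∃ ψ : A →ₐ[k] (k[X] ⧸ Ideal.span {(X : k[X]) ^ (l + 1)}),
            (Ideal.Quotient.factorₐ k
                (Ideal.span_singleton_le_span_singleton.mpr
                  (pow_dvd_pow (X : k[X]) (Nat.le_succ l)))).comp ψ = φ)
    {n : ℕ} (x : Fin n → A) (hx : ∀ i, x i ∈ m)
    (hℓ : ∀ a : Fin n → k, ∃ ℓ : m.Cotangent →ₗ[k] k, ∀ i, ℓ (m.toCotangent ⟨x i, hx i⟩) = a i)
    (d : ℕ) (P : MvPolynomial (Fin n) R) (hP : P.IsHomogeneous d)
    (hmem : MvPolynomial.eval (fun i => algebraMap A R (x i)) P ∈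
      (IsLocalRing.maximalIdeal R) ^ (d + 1)) (α : Fin n →₀ ℕ) :
    P.coeff α ∈ IsLocalRing.maximalIdeal R := by
  by_contra hα
  -- the evaluation on R
  have hunits : ∀ y : m.primeCompl, IsUnit (ev.toRingHom y) := fun y => by
    rw [isUnit_iff_ne_zero]
    intro h
    exact y.2 ((hev _).mp h)
  let evR : R →+* k := IsLocalization.lift hunits
  have hevR : ∀ f, evR (algebraMap A R f) = ev f := fun f => IsLocalization.lift_eq hunits f
  have hevR_max : ∀ z ∈ IsLocalRing.maximalIdeal R, evR z = 0 := by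
    intro z hz
    rw [← IsLocalization.AtPrime.map_eq_maximalIdeal m R] at hz
    have hle : Ideal.map (algebraMap A R) m ≤ RingHom.ker evR := by
      rw [Ideal.map_le_iff_le_comap]
      intro f hf
      rw [Ideal.mem_comap, RingHom.mem_ker, hevR, (hev f).mpr hf]
    exact hle hz
  -- the reduced form
  have hF : (MvPolynomial.map evR P).IsHomogeneous d := hP.map evR
  have hFne : MvPolynomial.map evR P ≠ 0 := by
    intro h0
    have h1 : evR (P.coeff α) = 0 := by
      rw [← MvPolynomial.coeff_map, h0, MvPolynomial.coeff_zero]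
    have hu : IsUnit (P.coeff α) := by
      by_contra hnu
      exact hα ((IsLocalRing.mem_maximalIdeal _).mpr hnu)
    exact (hu.map evR).ne_zero h1
  obtain ⟨a, ha⟩ : ∃ a : Fin n → k, MvPolynomial.eval a (MvPolynomial.map evR P) ≠ 0 := by
    by_contra hall
    push_neg at hall
    exact hFne (hF.eq_zero_of_forall_eval_eq_zero hall)
  obtain ⟨ℓ, hℓa⟩ := hℓ a
  obtain ⟨γ, hγ1, hγ2⟩ := J3.exists_jet k A m ev hev H x hx ℓ d
  -- extend to R
  have hγunits : ∀ y : m.primeCompl, IsUnit (γ.toRingHom y) := fun y =>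
    J1.isUnit_of_eps_ne_zero k (d + 2) (by
      show J1.eps k (d + 2) (γ y) ≠ 0
      rw [hγ1]
      intro h
      exact y.2 ((hev _).mp h))
  let γR : R →+* J1.T k (d + 2) := IsLocalization.lift hγunits
  have hγR : ∀ f, γR (algebraMap A R f) = γ f := fun f => IsLocalization.lift_eq hγunits f
  have hcomp : (J1.eps k (d + 2)).toRingHom.comp γR = evR := by
    apply IsLocalization.ringHom_ext m.primeCompl
    ext f
    simp only [RingHom.comp_apply, hγR, hevR]
    exact hγ1 f
  have hcomp' : ∀ z, J1.eps k (d + 2) (γR z) = evR z := fun z =>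
    congrArg (fun g => g z) hcomp
  -- γR maps the maximal ideal into (xbar)
  have hmax : Ideal.map γR (IsLocalRing.maximalIdeal R) ≤ Ideal.span {J1.xbar k (d + 2)} := by
    rw [Ideal.map_le_iff_le_comap]
    intro z hz
    rw [Ideal.mem_comap]
    obtain ⟨w, hw⟩ := J1.exists_eq_xbar_mul k (d + 2) (z := γR z) (by
      rw [hcomp', hevR_max z hz])
    rw [hw]
    exact Ideal.mul_mem_right _ _ (Ideal.mem_span_singleton_self _)
  have hpow : γR (MvPolynomial.eval (fun i => algebraMap A R (x i)) P) ∈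
      Ideal.span {J1.xbar k (d + 2) ^ (d + 1)} := by
    have h1 : γR (MvPolynomial.eval (fun i => algebraMap A R (x i)) P) ∈
        Ideal.map γR ((IsLocalRing.maximalIdeal R) ^ (d + 1)) := Ideal.mem_map_of_mem _ hmem
    rw [Ideal.map_pow] at h1
    have h2 := Ideal.pow_right_mono hmax (d + 1) h1
    rwa [Ideal.span_singleton_pow] at h2
  -- compute
  choose u hu1 hu2 using fun i => (hγ2 i).exists_eq
  have heval : γR (MvPolynomial.eval (fun i => algebraMap A R (x i)) P) =
      J1.xbar k (d + 2) ^ d * MvPolynomial.eval u (MvPolynomial.map γR P) := by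
    rw [MvPolynomial.eval₂_comp, ← MvPolynomial.eval_map,
      ← J3.eval_mul_of_isHomogeneous (MvPolynomial.map γR P) (hP.map γR)]
    have hfun : (⇑γR ∘ fun i => (algebraMap A R) (x i)) =
        fun i => J1.xbar k (d + 2) * u i := by
      funext i
      simp only [Function.comp_apply]
      rw [hγR, hu1]
    rw [hfun]
  rw [heval] at hpow
  have h0 := J1.eps_eq_zero_of_xbar_pow_mul_mem k d hpow
  apply ha
  rw [← h0]
  have h1 : J1.eps k (d + 2) (MvPolynomial.eval u (MvPolynomial.map γR P)) =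
      MvPolynomial.eval (fun i => J1.eps k (d + 2) (u i))
        (MvPolynomial.map (J1.eps k (d + 2)).toRingHom (MvPolynomial.map γR P)) := by
    have := MvPolynomial.eval₂_comp (J1.eps k (d + 2)).toRingHom u (MvPolynomial.map γR P)
    rw [← MvPolynomial.eval_map] at this
    exact this
  rw [h1, MvPolynomial.map_map, hcomp]
  have hfun : (fun i => (J1.eps k (d + 2)) (u i)) = a := by
    funext i
    rw [hu2, hℓa]
  rw [hfun]

end J4

namespace J5
open Polynomial

variable (k : Type u) [Field k] [IsAlgClosed k] (A : Type u) [CommRing A] [Algebra k A]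
  [Algebra.FiniteType k A] (m : Ideal A) [m.IsMaximal]

/-- the evaluation at a closed point. -/
theorem exists_ev : ∃ ev : A →ₐ[k] k, ∀ f, ev f = 0 ↔ f ∈ m := by
  letI : Field (A ⧸ m) := Ideal.Quotient.field m
  haveI : Algebra.FiniteType k (A ⧸ m) :=
    Algebra.FiniteType.of_surjective (Ideal.Quotient.mkₐ k m) (Ideal.Quotient.mkₐ_surjective k m)
  haveI : Module.Finite k (A ⧸ m) := finite_of_finite_type_of_isJacobsonRing k (A ⧸ m)
  have hbij : Function.Bijective (algebraMap k (A ⧸ m)) :=
    IsAlgClosed.algebraMap_bijective_of_isIntegral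
  let e : k ≃ₐ[k] (A ⧸ m) := AlgEquiv.ofBijective (Algebra.ofId k (A ⧸ m)) hbij
  refine ⟨(e.symm : (A ⧸ m) →ₐ[k] k).comp (Ideal.Quotient.mkₐ k m), fun f => ?_⟩
  show e.symm (Ideal.Quotient.mk m f) = 0 ↔ _
  rw [map_eq_zero_iff _ e.symm.injective, Ideal.Quotient.eq_zero_iff_mem]

theorem finite_cotangent (ev : A →ₐ[k] k) (hev : ∀ f, ev f = 0 ↔ f ∈ m) :
    Module.Finite k m.Cotangent := by
  haveI : IsNoetherianRing A := Algebra.FiniteType.isNoetherianRing k A
  haveI : IsNoetherian A m := isNoetherian_submodule' m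
  haveI : Module.Finite A m := Module.IsNoetherian.finite A _
  haveI : Module.Finite A m.Cotangent :=
    Module.Finite.of_surjective m.toCotangent m.toCotangent_surjective
  obtain ⟨s, hs⟩ := (Module.finite_def.mp ‹Module.Finite A m.Cotangent›)
  refine Module.finite_def.mpr ⟨s, ?_⟩
  rw [eq_top_iff]
  rintro v -
  have hv : v ∈ Submodule.span A (s : Set m.Cotangent) := hs ▸ Submodule.mem_top
  induction hv using Submodule.span_induction with
  | mem v h => exact Submodule.subset_span h
  | zero => exact zero_mem _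
  | add a b _ _ ha hb => exact add_mem ha hb
  | smul a v _ h =>
    have h1 : a • v = (ev a) • v := by
      have h2 : (a - algebraMap k A (ev a)) • v = 0 :=
        Ideal.Cotangent.smul_eq_zero_of_mem (J2.sub_mem k A m ev hev a) v
      rw [sub_smul, sub_eq_zero, algebraMap_smul] at h2
      exact h2
    rw [h1]
    exact Submodule.smul_mem _ _ h

theorem regular_of_lifting
    (H : ∀ (l : ℕ), 1 ≤ l →
        ∀ (φ : A →ₐ[k] (k[X] ⧸ Ideal.span {(X : k[X]) ^ l})),
          (∀ a ∈ m, IsNilpotent (φ a)) →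
          ∃ ψ : A →ₐ[k] (k[X] ⧸ Ideal.span {(X : k[X]) ^ (l + 1)}),
            (Ideal.Quotient.factorₐ k
                (Ideal.span_singleton_le_span_singleton.mpr
                  (pow_dvd_pow (X : k[X]) (Nat.le_succ l)))).comp ψ = φ) :
    IsRegularLocalRing (Localization.AtPrime m) := by
  haveI : IsNoetherianRing A := Algebra.FiniteType.isNoetherianRing k A
  haveI : IsNoetherianRing (Localization.AtPrime m) :=
    IsLocalization.isNoetherianRing m.primeCompl _ inferInstance
  haveI : Infinite k := IsAlgClosed.instInfinite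
  obtain ⟨ev, hev⟩ := exists_ev k A m
  haveI := finite_cotangent k A m ev hev
  let b := Module.finBasis k m.Cotangent
  choose y hy using fun i => m.toCotangent_surjective (b i)
  have hℓ : ∀ a : Fin (Module.finrank k m.Cotangent) → k,
      ∃ ℓ : m.Cotangent →ₗ[k] k, ∀ i, ℓ (m.toCotangent ⟨(y i : A), (y i).2⟩) = a i := by
    intro a
    refine ⟨b.constr k a, fun i => ?_⟩
    have : (⟨(y i : A), (y i).2⟩ : m) = y i := rfl
    rw [this, hy, Module.Basis.constr_basis]
  -- generators of the maximal ideal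
  have hmapm : Ideal.map (algebraMap A (Localization.AtPrime m)) m =
      IsLocalRing.maximalIdeal (Localization.AtPrime m) :=
    Localization.AtPrime.map_eq_maximalIdeal
  have hspan : Ideal.span (Set.range fun i => algebraMap A (Localization.AtPrime m) (y i : A)) =
      IsLocalRing.maximalIdeal (Localization.AtPrime m) := by
    apply le_antisymm
    · rw [Ideal.span_le]
      rintro _ ⟨i, rfl⟩
      rw [← hmapm]
      exact Ideal.mem_map_of_mem _ (y i).2
    · refine Submodule.le_of_le_smul_of_le_jacobson_bot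
        (I := IsLocalRing.maximalIdeal (Localization.AtPrime m))
        (IsNoetherian.noetherian _)
        (IsLocalRing.jacobson_eq_maximalIdeal ⊥ bot_ne_top).ge ?_
      conv_lhs => rw [← hmapm]
      rw [Ideal.map_le_iff_le_comap]
      intro g hg
      rw [Ideal.mem_comap]
      -- decompose g
      have hrepr := b.sum_repr (m.toCotangent ⟨g, hg⟩)
      have h1 : m.toCotangent (⟨g, hg⟩ - ∑ i, (b.repr (m.toCotangent ⟨g, hg⟩) i) • y i) = 0 := by
        rw [map_sub, map_sum, sub_eq_zero]
        conv_lhs => rw [← hrepr]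
        refine Finset.sum_congr rfl fun i _ => ?_
        rw [LinearMap.map_smul_of_tower, hy]
      rw [Ideal.toCotangent_eq_zero] at h1
      have h2 : g = (∑ i, algebraMap k A (b.repr (m.toCotangent ⟨g, hg⟩) i) * (y i : A)) +
          ((⟨g, hg⟩ - ∑ i, (b.repr (m.toCotangent ⟨g, hg⟩) i) • y i : m) : A) := by
        simp only [Submodule.coe_sub, Submodule.coe_sum, Submodule.coe_smul_of_tower,
          Algebra.smul_def]
        ring
      rw [h2, map_add]
      refine Submodule.add_mem_sup ?_ ?_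
      · rw [map_sum]
        refine Ideal.sum_mem _ fun i _ => ?_
        rw [map_mul]
        exact Ideal.mul_mem_left _ _ (Ideal.subset_span ⟨i, rfl⟩)
      · rw [smul_eq_mul, ← pow_two, ← hmapm, ← Ideal.map_pow]
        exact Ideal.mem_map_of_mem _ h1
  have hq : CAlgX.IsQuasiRegular
      (fun i => algebraMap A (Localization.AtPrime m) (y i : A)) := by
    intro d P hP hmem α
    rw [hspan] at hmem ⊢
    exact J4.quasiRegular k A m ev hev (Localization.AtPrime m) H (fun i => (y i : A))
      (fun i => (y i).2) hℓ d P hP hmem α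
  have hmemmax : ∀ i, algebraMap A (Localization.AtPrime m) (y i : A) ∈
      IsLocalRing.maximalIdeal (Localization.AtPrime m) := fun i => by
    rw [← hspan]
    exact Ideal.subset_span ⟨i, rfl⟩
  have hreg := Groth.Agent.S5803.result (Localization.AtPrime m) _
    (fun i => algebraMap A (Localization.AtPrime m) (y i : A)) (fun i => by
      rw [← Ideal.jacobson_bot, IsLocalRing.jacobson_eq_maximalIdeal ⊥ bot_ne_top]
      exact hmemmax i) hq
  obtain ⟨p, hp⟩ := associatedPrimes.nonempty (Localization.AtPrime m) (Localization.AtPrime m)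
  have h1 := Groth.Agent.Lib.DepthBasic.length_le_ringKrullDim_quotient
    (List.ofFn fun i => algebraMap A (Localization.AtPrime m) (y i : A)) hp hreg (by
      intro r hr
      rw [List.mem_ofFn] at hr
      obtain ⟨i, rfl⟩ := hr
      exact hmemmax i)
  have h2 : ringKrullDim (Localization.AtPrime m ⧸ p) ≤ ringKrullDim (Localization.AtPrime m) :=
    ringKrullDim_quotient_le p
  apply IsRegularLocalRing.of_spanFinrank_maximalIdeal_le
  have h3 : (IsLocalRing.maximalIdeal (Localization.AtPrime m)).spanFinrank ≤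
      Module.finrank k m.Cotangent := by
    rw [← hspan]
    refine (Submodule.spanFinrank_span_le_ncard_of_finite (Set.finite_range _)).trans ?_
    rw [← Set.image_univ]
    refine (Set.ncard_image_le (Set.finite_univ)).trans ?_
    rw [Set.ncard_univ, Nat.card_eq_fintype_card, Fintype.card_fin]
  rw [List.length_ofFn] at h1
  calc ((IsLocalRing.maximalIdeal (Localization.AtPrime m)).spanFinrank : WithBot ℕ∞)
      ≤ ((Module.finrank k m.Cotangent : ℕ) : WithBot ℕ∞) := by exact_mod_cast h3
    _ ≤ ringKrullDim (Localization.AtPrime m ⧸ p) := by exact_mod_cast h1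
    _ ≤ _ := h2

end J5

namespace J6
open Polynomial

variable (k : Type u) [Field k] [IsAlgClosed k] (A : Type u) [CommRing A] [Algebra k A]
  [Algebra.FiniteType k A] (m : Ideal A) [m.IsMaximal]

theorem formallySmooth_residueField : Algebra.FormallySmooth k m.ResidueField := by
  haveI : Algebra.EssFiniteType k m.ResidueField :=
    inferInstanceAs (Algebra.EssFiniteType k
      ((Localization.AtPrime m) ⧸ IsLocalRing.maximalIdeal (Localization.AtPrime m)))
  infer_instance

theorem lifting_of_regular [IsRegularLocalRing (Localization.AtPrime m)] (l : ℕ) (hl : 1 ≤ l)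
    (φ : A →ₐ[k] (k[X] ⧸ Ideal.span {(X : k[X]) ^ l}))
    (hφ : ∀ a ∈ m, IsNilpotent (φ a)) :
    ∃ ψ : A →ₐ[k] (k[X] ⧸ Ideal.span {(X : k[X]) ^ (l + 1)}),
      (Ideal.Quotient.factorₐ k
          (Ideal.span_singleton_le_span_singleton.mpr
            (pow_dvd_pow (X : k[X]) (Nat.le_succ l)))).comp ψ = φ := by
  haveI := formallySmooth_residueField k A m
  haveI : Algebra.IsSmoothAt k m :=
    Groth.Agent.Lib.H56RegSmooth.isSmoothAt_of_isRegularLocalRing k A m
  haveI : Algebra.FinitePresentation k A :=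
    Algebra.FinitePresentation.of_finiteType.mp inferInstance
  obtain ⟨g, hg, hsm⟩ := Algebra.IsSmoothAt.exists_notMem_smooth k m
  haveI : NeZero l := ⟨by omega⟩
  have hunit : IsUnit (φ g) := by
    apply J1.isUnit_of_eps_ne_zero k l
    intro h0
    have hker : m = RingHom.ker ((J1.eps k l).comp φ).toRingHom := by
      apply Ideal.IsMaximal.eq_of_le ‹m.IsMaximal› (RingHom.ker_ne_top _)
      intro a ha
      exact J1.eps_eq_zero_of_isNilpotent k l (hφ a ha)
    apply hg
    rw [hker]
    exact h0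
  have hunits : ∀ y : Submonoid.powers g, IsUnit (φ y) := by
    rintro ⟨_, n, rfl⟩
    rw [map_pow]
    exact hunit.pow n
  let φg : Localization.Away g →ₐ[k] (k[X] ⧸ Ideal.span {(X : k[X]) ^ l}) :=
    IsLocalization.liftAlgHom (M := Submonoid.powers g) (f := φ) hunits
  have hφg : ∀ a, φg (algebraMap A (Localization.Away g) a) = φ a := fun a =>
    IsLocalization.lift_eq hunits a
  -- the square zero surjection
  let fac : (k[X] ⧸ Ideal.span {(X : k[X]) ^ (l + 1)}) →ₐ[k] (k[X] ⧸ Ideal.span {(X : k[X]) ^ l}) :=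
    Ideal.Quotient.factorₐ k (Ideal.span_singleton_le_span_singleton.mpr
      (pow_dvd_pow (X : k[X]) (Nat.le_succ l)))
  have hfac_surj : Function.Surjective fac :=
    Ideal.Quotient.factor_surjective (Ideal.span_singleton_le_span_singleton.mpr
      (pow_dvd_pow (X : k[X]) (Nat.le_succ l)))
  have hnil : IsNilpotent (RingHom.ker (fac : (k[X] ⧸ Ideal.span {(X : k[X]) ^ (l + 1)}) →+* (k[X] ⧸ Ideal.span {(X : k[X]) ^ l}))) := by
    refine ⟨l + 1, ?_⟩
    rw [Ideal.zero_eq_bot, eq_bot_iff]
    have hle : RingHom.ker (fac : (k[X] ⧸ Ideal.span {(X : k[X]) ^ (l + 1)}) →+* (k[X] ⧸ Ideal.span {(X : k[X]) ^ l})) ≤ Ideal.span {J1.xbar k (l + 1)} := by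
      intro z hz
      have h1 : J1.eps k (l + 1) z = 0 := by
        rw [← J1.eps_factor k l (Nat.le_succ l) z]
        have : Ideal.Quotient.factor (Ideal.span_singleton_le_span_singleton.mpr
          (pow_dvd_pow (X : k[X]) (Nat.le_succ l))) z = 0 := hz
        rw [this, map_zero]
      obtain ⟨w, rfl⟩ := J1.exists_eq_xbar_mul k (l + 1) h1
      exact Ideal.mul_mem_right _ _ (Ideal.mem_span_singleton_self _)
    refine (Ideal.pow_right_mono hle (l + 1)).trans ?_
    rw [Ideal.span_singleton_pow, J1.xbar_pow_self, Ideal.span_singleton_eq_bot.mpr rfl]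
  haveI : Algebra.FormallySmooth k (Localization.Away g) := inferInstance
  let ψ' := Algebra.FormallySmooth.liftOfSurjective φg fac hfac_surj hnil
  refine ⟨ψ'.comp (IsScalarTower.toAlgHom k A (Localization.Away g)), ?_⟩
  rw [← AlgHom.comp_assoc, Algebra.FormallySmooth.comp_liftOfSurjective]
  ext a
  exact hφg a

end J6

end Helpers

/-- Let k be an algebraically closed field of characteristic zero, A a finitely generated k-algebra and
m a maximal ideal of A. Then A_m is a regular local ring (the pointed scheme (Spec A, m) is smooth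
at m) if and only if, for every l ≥ 1, every k-algebra homomorphism φ : A → k[X]/(X^l) mapping m
into the nilpotent elements extends to a k-algebra homomorphism ψ : A → k[X]/(X^(l+1)) reducing to φ
modulo X^l. Only jets along Spec k[X]/(X^l) are tested, not all local Artinian algebras. -/
theorem result (k : Type u) [Field k] [IsAlgClosed k] [CharZero k]
    (A : Type u) [CommRing A] [Algebra k A] [Algebra.FiniteType k A]
    (m : Ideal A) [m.IsMaximal] :
    IsRegularLocalRing (Localization.AtPrime m) ↔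
      ∀ (l : ℕ), 1 ≤ l →
        ∀ (φ : A →ₐ[k] (k[X] ⧸ Ideal.span {(X : k[X]) ^ l})),
          (∀ a ∈ m, IsNilpotent (φ a)) →
          ∃ ψ : A →ₐ[k] (k[X] ⧸ Ideal.span {(X : k[X]) ^ (l + 1)}),
            (Ideal.Quotient.factorₐ k
                (Ideal.span_singleton_le_span_singleton.mpr (pow_dvd_pow (X : k[X]) (Nat.le_succ l)))).comp ψ = φ := by
  exact ⟨fun h l hl φ hφ => by haveI := h; exact J6.lifting_of_regular k A m l hl φ hφ, fun H => J5.regular_of_lifting k A m H⟩

end Groth.Agent.S18832
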