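import Groth.Statements.S18834
import Groth.Agent.Lib.Reynolds38

set_option autoImplicit false
universe u
open TensorProduct
open GIT

namespace Groth.Agent.S18834

/-- Let k be an algebraically closed field of characteristic zero, G = Spec A a linearly reductive
affine group over k (A a commutative Hopf algebra whose finite-dimensional comodules are semisimple)
acting on an affine k-scheme Spec R of finite type (a multiplicative coaction of A on R), and R^G
the ring of invariants. Then for every ideal I of R^G the ideal I·R of R generated by I satisfies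
(I·R) ∩ R^G = I. (The section also assumes Spec R irreducible; that hypothesis plays no role here
and is not carried.) -/
theorem result (k : Type u) [Field k] [IsAlgClosed k] [CharZero k]
    (A : Type u) [CommRing A] [HopfAlgebra k A] (hG : HopfRep.IsLinearlyReductive k A)
    (R : Type u) [CommRing R] [Algebra k R] [Algebra.FiniteType k R]
    [HopfRep.Comod k A R] [GLin.IsCoactAlg k A R]
    (I : Ideal (GLin.invariants k A R)) :
    Ideal.comap (GLin.invariants k A R).val.toRingHom
        (Ideal.map (GLin.invariants k A R).val.toRingHom I) = I := by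
  obtain ⟨E, hE⟩ := Groth.Agent.Lib.Reynolds38.exists_isReynolds hG R
  apply le_antisymm _ Ideal.le_comap_map
  intro x hx
  rw [Ideal.mem_comap] at hx
  have key : ∀ r ∈ Ideal.map (GLin.invariants k A R).val.toRingHom I,
      ∀ a : R, ∃ y ∈ I, (y : R) = E (a * r) := by
    intro r hr
    rw [Ideal.map] at hr
    induction hr using Submodule.span_induction with
    | mem r hr =>
      obtain ⟨i, hi, rfl⟩ := hr
      intro a
      have hmem : E a ∈ GLin.invariants k A R := hE.apply_mem a
      refine ⟨⟨E a, hmem⟩ * i, I.mul_mem_left _ hi, ?_⟩
      have := Groth.Agent.Lib.Reynolds38.IsReynolds.map_mul_invariant hG hE a (i : R) i.2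
      rw [show ((GLin.invariants k A R).val.toRingHom i : R) = (i : R) from rfl, this]
      rfl
    | zero => intro a; exact ⟨0, I.zero_mem, by simp⟩
    | add r s _ _ hr hs =>
      intro a
      obtain ⟨y, hy, hy'⟩ := hr a
      obtain ⟨z, hz, hz'⟩ := hs a
      refine ⟨y + z, I.add_mem hy hz, ?_⟩
      rw [mul_add, map_add, ← hy', ← hz']
      rfl
    | smul b r _ hr =>
      intro a
      obtain ⟨y, hy, hy'⟩ := hr (a * b)
      refine ⟨y, hy, ?_⟩
      rw [hy', smul_eq_mul, mul_assoc]
  obtain ⟨y, hy, hy'⟩ := key _ hx 1
  rw [one_mul] at hy'
  have hxfix : ((GLin.invariants k A R).val.toRingHom x : R) ∈ HopfRep.fixedPts k A R := x.2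
  rw [(hE.2.2 _).2 hxfix] at hy'
  have : y = x := Subtype.ext hy'
  rwa [← this]

end Groth.Agent.S18834
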