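import Mathlib
import Groth.Statements.S18837
import Groth.Agent.Lib.FlatDefOmega

set_option autoImplicit false
set_option linter.style.haveILetI false
set_option linter.unusedVariables false
universe u
open Polynomial TensorProduct
open Deform

namespace Groth.Agent.S18837

open Groth.Agent.Lib.FlatDefOmega

/-- Let k be an algebraically closed field of characteristic zero, n ≥ 1, D = k[X]/(X^(n+1)) (given with
a k-algebra isomorphism e identifying the class of X with τ ∈ D), and B a finitely generated
k-algebra which is a flat D-algebra such that B/tB is smooth over k, where t is the image of τ in B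
(an affine open of a flat deformation of a smooth k-scheme over Spec D); put B' = B/t^nB. Then
Ω_(B/D) is a projective B-module, B' ⊗_B Ω_(B/k) is a projective B'-module, and the sequence 0 → B'
→ B' ⊗_B Ω_(B/k) → B' ⊗_B Ω_(B/D) → 0 is exact, the first map being b ↦ b · (1 ⊗ dt) and the second
the base change of the canonical surjection Ω_(B/k) → Ω_(B/D). The source states this for a flat
proper family over Spec D with smooth central fibre; the statement is local and is given here on an
affine open. -/
theorem result (k : Type u) [Field k] [IsAlgClosed k] [CharZero k] (n : ℕ) (hn : 1 ≤ n)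
    (D : Type u) [CommRing D] [Algebra k D] (τ : D)
    (e : (k[X] ⧸ Ideal.span {(X : k[X]) ^ (n + 1)}) ≃ₐ[k] D)
    (he : e (Ideal.Quotient.mk (Ideal.span {(X : k[X]) ^ (n + 1)}) X) = τ)
    (B : Type u) [CommRing B] [Algebra k B] [Algebra D B] [IsScalarTower k D B]
    [Algebra.FiniteType k B] [Module.Flat D B]
    (t : B) (ht : t = algebraMap D B τ) (hsm : Algebra.Smooth k (B ⧸ Ideal.span {t})) :
    Module.Projective B (Ω[B⁄D]) ∧
    Module.Projective (B ⧸ Ideal.span {t ^ n}) ((B ⧸ Ideal.span {t ^ n}) ⊗[B] Ω[B⁄k]) ∧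
    Function.Injective
      (LinearMap.toSpanSingleton (B ⧸ Ideal.span {t ^ n}) ((B ⧸ Ideal.span {t ^ n}) ⊗[B] Ω[B⁄k])
        ((1 : (B ⧸ Ideal.span {t ^ n})) ⊗ₜ[B] KaehlerDifferential.D k B t)) ∧
    Function.Exact
      (LinearMap.toSpanSingleton (B ⧸ Ideal.span {t ^ n}) ((B ⧸ Ideal.span {t ^ n}) ⊗[B] Ω[B⁄k])
        ((1 : (B ⧸ Ideal.span {t ^ n})) ⊗ₜ[B] KaehlerDifferential.D k B t))
      (LinearMap.baseChange (B ⧸ Ideal.span {t ^ n}) (KaehlerDifferential.map k D B B)) ∧
    Function.Surjective (LinearMap.baseChange (B ⧸ Ideal.span {t ^ n}) (KaehlerDifferential.map k D B B)) := by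
  haveI hS : Algebra.Smooth D B := smooth_of_flat e he ht hsm
  haveI : Algebra.FormallySmooth D B := hS.1
  haveI hproj : Module.Projective B (Ω[B⁄D]) := inferInstance
  obtain ⟨j', c', hj', hc1, hcj, hdec⟩ := structure_thm_base e he ht
  have hπdt : LinearMap.baseChange (B ⧸ Ideal.span {t ^ n}) (KaehlerDifferential.map k D B B)
      ((1 : (B ⧸ Ideal.span {t ^ n})) ⊗ₜ[B] KaehlerDifferential.D k B t) = 0 := by
    rw [LinearMap.baseChange_tmul, map_D_t ht, TensorProduct.tmul_zero]
  refine ⟨hproj, ?_, ?_, ?_, ?_⟩
  · -- projective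
    haveI : Module.Projective (B ⧸ Ideal.span {t ^ n}) ((B ⧸ Ideal.span {t ^ n}) ⊗[B] Ω[B⁄D]) :=
      inferInstance
    refine Module.Projective.of_split
      (LinearMap.prod c' (LinearMap.baseChange (B ⧸ Ideal.span {t ^ n}) (KaehlerDifferential.map k D B B)))
      (LinearMap.coprod (LinearMap.toSpanSingleton (B ⧸ Ideal.span {t ^ n}) _
        ((1 : (B ⧸ Ideal.span {t ^ n})) ⊗ₜ[B] KaehlerDifferential.D k B t)) j') ?_
    refine LinearMap.ext fun x => ?_
    rw [LinearMap.comp_apply, LinearMap.prod_apply, LinearMap.id_apply]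
    rw [Function.prod_apply, LinearMap.coprod_apply, LinearMap.toSpanSingleton_apply]
    exact (hdec x).symm
  · intro a b hab
    simp only [LinearMap.toSpanSingleton_apply] at hab
    have := congrArg c' hab
    rwa [map_smul, map_smul, hc1, smul_eq_mul, smul_eq_mul, mul_one, mul_one] at this
  · intro x
    constructor
    · intro hx
      refine ⟨c' x, ?_⟩
      rw [LinearMap.toSpanSingleton_apply]
      conv_rhs => rw [hdec x, hx, map_zero, add_zero]
    · rintro ⟨b, rfl⟩
      rw [LinearMap.toSpanSingleton_apply, map_smul, hπdt, smul_zero]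
  · exact LinearMap.baseChange_surjective _ (KaehlerDifferential.map_surjective k D B)

end Groth.Agent.S18837
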