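import Mathlib
import Groth.Statements.S18838
import Groth.Agent.Lib.FlatDefOmega

set_option autoImplicit false
set_option linter.style.haveILetI false
set_option linter.unusedVariables false
universe u
open Polynomial TensorProduct
open Deform

namespace Groth.Agent.S18838

open Groth.Agent.Lib.FlatDefOmega

/-- Let k be an algebraically closed field of characteristic zero, n ≥ 1, D = k[X]/(X^(n+1)) (given with
a k-algebra isomorphism e identifying the class of X with τ ∈ D), and B a finitely generated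
k-algebra which is a flat D-algebra such that B/tB is smooth over k, where t is the image of τ in B
(an affine open of a flat deformation of a smooth k-scheme over Spec D); put B' = B/t^nB. The map μ
: B → B' × (B' ⊗_B Ω_(B/k)) sending f to (f mod t^n, 1 ⊗ df) is injective, and its image consists
exactly of the pairs (g, α) with dg = r(α) in Ω_(B'/k), r being the canonical map B' ⊗_B Ω_(B/k) →
Ω_(B'/k). Injectivity uses that n is invertible in k. The source works with a flat proper family
over Spec D with smooth central fibre; the statement is local and is given here on an affine open. -/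
theorem result (k : Type u) [Field k] [IsAlgClosed k] [CharZero k] (n : ℕ) (hn : 1 ≤ n)
    (D : Type u) [CommRing D] [Algebra k D] (τ : D)
    (e : (k[X] ⧸ Ideal.span {(X : k[X]) ^ (n + 1)}) ≃ₐ[k] D)
    (he : e (Ideal.Quotient.mk (Ideal.span {(X : k[X]) ^ (n + 1)}) X) = τ)
    (B : Type u) [CommRing B] [Algebra k B] [Algebra D B] [IsScalarTower k D B]
    [Algebra.FiniteType k B] [Module.Flat D B]
    (t : B) (ht : t = algebraMap D B τ) (hsm : Algebra.Smooth k (B ⧸ Ideal.span {t})) :
    Function.Injective (fun f : B =>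
      ((Ideal.Quotient.mk (Ideal.span {t ^ n}) f,
        (1 : (B ⧸ Ideal.span {t ^ n})) ⊗ₜ[B] KaehlerDifferential.D k B f) : (B ⧸ Ideal.span {t ^ n}) × ((B ⧸ Ideal.span {t ^ n}) ⊗[B] Ω[B⁄k]))) ∧
    Set.range (fun f : B =>
      ((Ideal.Quotient.mk (Ideal.span {t ^ n}) f,
        (1 : (B ⧸ Ideal.span {t ^ n})) ⊗ₜ[B] KaehlerDifferential.D k B f) : (B ⧸ Ideal.span {t ^ n}) × ((B ⧸ Ideal.span {t ^ n}) ⊗[B] Ω[B⁄k]))) =
      {p | KaehlerDifferential.D k (B ⧸ Ideal.span {t ^ n}) p.1 = KaehlerDifferential.mapBaseChange k B (B ⧸ Ideal.span {t ^ n}) p.2} := by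
  haveI hS : Algebra.Smooth D B := smooth_of_flat e he ht hsm
  haveI : Algebra.FormallySmooth D B := hS.1
  obtain ⟨j', c', hj', hc1, hcj, hdec⟩ := structure_thm_base e he ht
  have ht0 : t ^ (n + 1) = 0 := by rw [ht, ← map_pow, tau_pow e he, map_zero]
  constructor
  · intro f f' hff'
    have h1 : Ideal.Quotient.mk (Ideal.span {t ^ n}) (f - f') = 0 := by
      rw [map_sub, sub_eq_zero]; exact congrArg Prod.fst hff'
    have h2 : (1 : (B ⧸ Ideal.span {t ^ n})) ⊗ₜ[B] KaehlerDifferential.D k B (f - f') = 0 := by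
      rw [map_sub, TensorProduct.tmul_sub, sub_eq_zero]; exact congrArg Prod.snd hff'
    obtain ⟨h, hh⟩ := Ideal.mem_span_singleton.mp (Ideal.Quotient.eq_zero_iff_mem.mp h1)
    rw [hh, Derivation.leibniz, Derivation.leibniz_pow, TensorProduct.tmul_add,
      ← mk_smul_one_tmul, ← mk_smul_one_tmul] at h2
    have h3 : Ideal.Quotient.mk (Ideal.span {t ^ n}) (t ^ n) = 0 :=
      Ideal.Quotient.eq_zero_iff_mem.mpr (Ideal.mem_span_singleton_self _)
    rw [h3, zero_smul, zero_add] at h2
    have h4 := congrArg c' h2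
    rw [map_smul, map_zero, ← Nat.cast_smul_eq_nsmul B, ← mk_smul_one_tmul,
      ← mk_smul_one_tmul, map_smul, map_smul, hc1, smul_eq_mul, smul_eq_mul, smul_eq_mul, mul_one,
      ← map_mul, ← map_mul, Ideal.Quotient.eq_zero_iff_mem] at h4
    -- h4 : h * (n * t^(n-1)) ∈ span {t^n}
    have hnk : ((n : ℕ) : k) ≠ 0 := Nat.cast_ne_zero.mpr (by omega)
    have h5 : t ^ (n - 1) * h ∈ Ideal.span {t ^ n} := by
      have h6 : (algebraMap k B ((n : k)⁻¹)) * (h * ((n : B) * t ^ (n - 1))) ∈ Ideal.span {t ^ n} :=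
        Ideal.mul_mem_left _ _ h4
      have h7 : (algebraMap k B ((n : k)⁻¹)) * (h * ((n : B) * t ^ (n - 1))) = t ^ (n - 1) * h := by
        have : (algebraMap k B ((n : k)⁻¹)) * (n : B) = 1 := by
          rw [← map_natCast (algebraMap k B) n, ← map_mul, inv_mul_cancel₀ hnk, map_one]
        calc (algebraMap k B ((n : k)⁻¹)) * (h * ((n : B) * t ^ (n - 1)))
            = ((algebraMap k B ((n : k)⁻¹)) * (n : B)) * (t ^ (n - 1) * h) := by ring
          _ = t ^ (n - 1) * h := by rw [this, one_mul]
      rwa [h7] at h6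
    obtain ⟨h', hh'⟩ := Ideal.mem_span_singleton.mp h5
    have h8 : t ^ (n - 1) * (h - t * h') = 0 := by
      have : t ^ n = t ^ (n - 1) * t := by rw [← pow_succ]; congr 1; omega
      rw [mul_sub, hh', this]; ring
    obtain ⟨h'', hh''⟩ := Ideal.mem_span_singleton.mp
      (mem_span_sq_of_pow_mul_eq_zero e he ht hn _ h8)
    have h9 : f - f' = t ^ (n + 1) * (h' + t * h'') := by
      have : h = t * h' + t ^ 2 * h'' := by rw [← hh'']; ring
      rw [hh, this]; ring
    rw [ht0, zero_mul, sub_eq_zero] at h9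
    exact h9
  · ext p
    constructor
    · rintro ⟨f, rfl⟩
      change KaehlerDifferential.D k (B ⧸ Ideal.span {t ^ n}) (Ideal.Quotient.mk _ f) =
        KaehlerDifferential.mapBaseChange k B (B ⧸ Ideal.span {t ^ n})
          ((1 : (B ⧸ Ideal.span {t ^ n})) ⊗ₜ[B] KaehlerDifferential.D k B f)
      rw [KaehlerDifferential.mapBaseChange_tmul, KaehlerDifferential.map_D, one_smul]
      rfl
    · intro hp
      obtain ⟨g', α⟩ := p
      change KaehlerDifferential.D k (B ⧸ Ideal.span {t ^ n}) g' =
        KaehlerDifferential.mapBaseChange k B (B ⧸ Ideal.span {t ^ n}) α at hp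
      obtain ⟨g, rfl⟩ := Ideal.Quotient.mk_surjective g'
      have hβ : KaehlerDifferential.mapBaseChange k B (B ⧸ Ideal.span {t ^ n})
          (α - (1 : (B ⧸ Ideal.span {t ^ n})) ⊗ₜ[B] KaehlerDifferential.D k B g) = 0 := by
        rw [map_sub, ← hp, KaehlerDifferential.mapBaseChange_tmul, KaehlerDifferential.map_D, one_smul]
        exact sub_self _
      obtain ⟨z, hz⟩ := (KaehlerDifferential.exact_kerCotangentToTensor_mapBaseChange k B
        (B ⧸ Ideal.span {t ^ n}) Ideal.Quotient.mk_surjective _).1 hβ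
      obtain ⟨x, rfl⟩ := Ideal.toCotangent_surjective _ z
      rw [KaehlerDifferential.kerCotangentToTensor_toCotangent] at hz
      refine ⟨g + x.1, ?_⟩
      have hx : Ideal.Quotient.mk (Ideal.span {t ^ n}) x.1 = 0 := x.2
      apply Prod.ext
      · change Ideal.Quotient.mk (Ideal.span {t ^ n}) (g + x.1) = Ideal.Quotient.mk _ g
        rw [map_add, hx, add_zero]
      · change (1 : (B ⧸ Ideal.span {t ^ n})) ⊗ₜ[B] KaehlerDifferential.D k B (g + x.1) = α
        rw [map_add, TensorProduct.tmul_add, hz]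
        abel

end Groth.Agent.S18838
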