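import Mathlib
import Groth.Statements.S18839
import Groth.Agent.Lib.FlatDefOmega

set_option autoImplicit false
set_option linter.style.haveILetI false
set_option linter.unusedVariables false
universe u
open Polynomial TensorProduct
open Deform

namespace Groth.Agent.S18839

open Groth.Agent.Lib.FlatDefOmega

/-- Let k be an algebraically closed field of characteristic zero, n ≥ 1, D = k[X]/(X^(n+1)) (given with
a k-algebra isomorphism e identifying the class of X with τ ∈ D), and B a finitely generated
k-algebra which is a flat D-algebra such that B/tB is smooth over k, where t is the image of τ in B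
(an affine open of a flat deformation of a smooth k-scheme over Spec D); put B' = B/t^nB. The map ν
: Ω_(B/k) → Ω_(B/D) × (B' ⊗_B Ω_(B/k)), η ↦ (η relative to D, 1 ⊗ η), is injective, and its image
consists exactly of the pairs (α, β) with the same image in Ω_(B'/D) under the canonical maps
Ω_(B/D) → Ω_(B'/D) and B' ⊗_B Ω_(B/k) → Ω_(B'/k) → Ω_(B'/D). Injectivity uses that n + 1 is
invertible in k (so that t^n dt = 0 in Ω_(B/k)). The source works with a flat proper family over
Spec D with smooth central fibre; the statement is local and is given here on an affine open. -/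
theorem result (k : Type u) [Field k] [IsAlgClosed k] [CharZero k] (n : ℕ) (hn : 1 ≤ n)
    (D : Type u) [CommRing D] [Algebra k D] (τ : D)
    (e : (k[X] ⧸ Ideal.span {(X : k[X]) ^ (n + 1)}) ≃ₐ[k] D)
    (he : e (Ideal.Quotient.mk (Ideal.span {(X : k[X]) ^ (n + 1)}) X) = τ)
    (B : Type u) [CommRing B] [Algebra k B] [Algebra D B] [IsScalarTower k D B]
    [Algebra.FiniteType k B] [Module.Flat D B]
    (t : B) (ht : t = algebraMap D B τ) (hsm : Algebra.Smooth k (B ⧸ Ideal.span {t})) :
    Function.Injective (fun η : Ω[B⁄k] =>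
      ((KaehlerDifferential.map k D B B η, (1 : (B ⧸ Ideal.span {t ^ n})) ⊗ₜ[B] η) : Ω[B⁄D] × ((B ⧸ Ideal.span {t ^ n}) ⊗[B] Ω[B⁄k]))) ∧
    Set.range (fun η : Ω[B⁄k] =>
      ((KaehlerDifferential.map k D B B η, (1 : (B ⧸ Ideal.span {t ^ n})) ⊗ₜ[B] η) : Ω[B⁄D] × ((B ⧸ Ideal.span {t ^ n}) ⊗[B] Ω[B⁄k]))) =
      {p | KaehlerDifferential.map D D B (B ⧸ Ideal.span {t ^ n}) p.1 =
        KaehlerDifferential.map k D (B ⧸ Ideal.span {t ^ n}) (B ⧸ Ideal.span {t ^ n}) (KaehlerDifferential.mapBaseChange k B (B ⧸ Ideal.span {t ^ n}) p.2)} := by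
  haveI hS : Algebra.Smooth D B := smooth_of_flat e he ht hsm
  haveI : Algebra.FormallySmooth D B := hS.1
  obtain ⟨j, c, hj, hc1₀, hcj₀, hdec₀⟩ := structure_thm e he ht
  obtain ⟨j', c', hj', hc1, hcj, hdec⟩ := structure_thm_base e he ht
  have hn1 : ((n + 1 : ℕ) : k) ≠ 0 := Nat.cast_ne_zero.mpr (by omega)
  have hpow := pow_smul_D_t e he ht hn1
  -- functoriality
  have hfun : (KaehlerDifferential.map D D B (B ⧸ Ideal.span {t ^ n})) ∘ₗ (KaehlerDifferential.map k D B B) =
      ((KaehlerDifferential.map k D (B ⧸ Ideal.span {t ^ n}) (B ⧸ Ideal.span {t ^ n})).restrictScalars B) ∘ₗ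
        (KaehlerDifferential.map k k B (B ⧸ Ideal.span {t ^ n})) := by
    apply Derivation.liftKaehlerDifferential_unique
    ext b
    change KaehlerDifferential.map D D B (B ⧸ Ideal.span {t ^ n})
        (KaehlerDifferential.map k D B B (KaehlerDifferential.D k B b)) =
      KaehlerDifferential.map k D (B ⧸ Ideal.span {t ^ n}) (B ⧸ Ideal.span {t ^ n})
        (KaehlerDifferential.map k k B (B ⧸ Ideal.span {t ^ n}) (KaehlerDifferential.D k B b))
    rw [KaehlerDifferential.map_D, KaehlerDifferential.map_D, KaehlerDifferential.map_D,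
      KaehlerDifferential.map_D, Algebra.algebraMap_self_apply, Algebra.algebraMap_self_apply]
  have hfun' : ∀ m, KaehlerDifferential.map D D B (B ⧸ Ideal.span {t ^ n}) (KaehlerDifferential.map k D B B m) =
      KaehlerDifferential.map k D (B ⧸ Ideal.span {t ^ n}) (B ⧸ Ideal.span {t ^ n})
        (KaehlerDifferential.map k k B (B ⧸ Ideal.span {t ^ n}) m) := fun m => LinearMap.congr_fun hfun m
  -- naturality square
  have hnat : ∀ x : (B ⧸ Ideal.span {t ^ n}) ⊗[B] Ω[B⁄k],
      KaehlerDifferential.mapBaseChange D B (B ⧸ Ideal.span {t ^ n})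
        (LinearMap.baseChange (B ⧸ Ideal.span {t ^ n}) (KaehlerDifferential.map k D B B) x) =
      KaehlerDifferential.map k D (B ⧸ Ideal.span {t ^ n}) (B ⧸ Ideal.span {t ^ n})
        (KaehlerDifferential.mapBaseChange k B (B ⧸ Ideal.span {t ^ n}) x) := by
    intro x
    induction x using TensorProduct.induction_on with
    | zero => rw [map_zero, map_zero, map_zero, map_zero]
    | tmul b' m =>
      rw [LinearMap.baseChange_tmul, KaehlerDifferential.mapBaseChange_tmul,
        KaehlerDifferential.mapBaseChange_tmul, map_smul, hfun']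
    | add a b ha hb => rw [map_add, map_add, map_add, map_add, ha, hb]
  -- injectivity of the relative base change map
  have hρinj : Function.Injective (KaehlerDifferential.mapBaseChange D B (B ⧸ Ideal.span {t ^ n})) := by
    rw [injective_iff_map_eq_zero]
    intro x hx
    obtain ⟨z, rfl⟩ := (KaehlerDifferential.exact_kerCotangentToTensor_mapBaseChange D B
      (B ⧸ Ideal.span {t ^ n}) Ideal.Quotient.mk_surjective x).1 hx
    obtain ⟨y, rfl⟩ := Ideal.toCotangent_surjective _ z
    rw [KaehlerDifferential.kerCotangentToTensor_toCotangent]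
    have hy : y.1 ∈ Ideal.span {t ^ n} := by
      have := y.2
      rw [RingHom.mem_ker] at this
      exact Ideal.Quotient.eq_zero_iff_mem.mp this
    obtain ⟨w, hw⟩ := Ideal.mem_span_singleton.mp hy
    have h3 : Ideal.Quotient.mk (Ideal.span {t ^ n}) (t ^ n) = 0 :=
      Ideal.Quotient.eq_zero_iff_mem.mpr (Ideal.mem_span_singleton_self _)
    have h4 : KaehlerDifferential.D D B (t ^ n) = 0 := by
      rw [ht, ← map_pow, Derivation.map_algebraMap]
    rw [hw, Derivation.leibniz, h4, smul_zero, add_zero, ← mk_smul_one_tmul, h3, zero_smul]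
  have hπdt : KaehlerDifferential.map k D B B (KaehlerDifferential.D k B t) = 0 := map_D_t ht
  constructor
  · intro η η' hηη'
    have h1 : KaehlerDifferential.map k D B B (η - η') = 0 := by
      rw [map_sub, sub_eq_zero]; exact congrArg Prod.fst hηη'
    have h2 : (1 : (B ⧸ Ideal.span {t ^ n})) ⊗ₜ[B] (η - η') = 0 := by
      rw [TensorProduct.tmul_sub, sub_eq_zero]; exact congrArg Prod.snd hηη'
    obtain ⟨b, -, hb⟩ := hdec₀ (η - η')
    rw [h1, map_zero, add_zero] at hb
    rw [hb, ← mk_smul_one_tmul] at h2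
    have h3 := congrArg c' h2
    rw [map_smul, hc1, map_zero, smul_eq_mul, mul_one, Ideal.Quotient.eq_zero_iff_mem] at h3
    obtain ⟨w, hw⟩ := Ideal.mem_span_singleton.mp h3
    rw [hw, mul_comm, mul_smul, hpow, smul_zero] at hb
    exact sub_eq_zero.mp hb
  · ext p
    constructor
    · rintro ⟨η, rfl⟩
      change KaehlerDifferential.map D D B (B ⧸ Ideal.span {t ^ n}) (KaehlerDifferential.map k D B B η) =
        KaehlerDifferential.map k D (B ⧸ Ideal.span {t ^ n}) (B ⧸ Ideal.span {t ^ n})
          (KaehlerDifferential.mapBaseChange k B (B ⧸ Ideal.span {t ^ n})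
            ((1 : (B ⧸ Ideal.span {t ^ n})) ⊗ₜ[B] η))
      rw [KaehlerDifferential.mapBaseChange_tmul, one_smul, hfun']
    · intro hp
      obtain ⟨α, β⟩ := p
      change KaehlerDifferential.map D D B (B ⧸ Ideal.span {t ^ n}) α =
        KaehlerDifferential.map k D (B ⧸ Ideal.span {t ^ n}) (B ⧸ Ideal.span {t ^ n})
          (KaehlerDifferential.mapBaseChange k B (B ⧸ Ideal.span {t ^ n}) β) at hp
      set β₀ := β - (1 : (B ⧸ Ideal.span {t ^ n})) ⊗ₜ[B] (j α) with hβ₀
      have h1 : LinearMap.baseChange (B ⧸ Ideal.span {t ^ n}) (KaehlerDifferential.map k D B B) β₀ = 0 := by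
        apply hρinj
        rw [hnat, map_zero, hβ₀, map_sub, map_sub, ← hp, KaehlerDifferential.mapBaseChange_tmul, one_smul,
          ← hfun', hj, sub_self]
      have h2 := hdec β₀
      rw [h1, map_zero, add_zero] at h2
      obtain ⟨b, hb⟩ := Ideal.Quotient.mk_surjective (c' β₀)
      rw [← hb, mk_smul_one_tmul] at h2
      refine ⟨j α + b • KaehlerDifferential.D k B t, ?_⟩
      apply Prod.ext
      · change KaehlerDifferential.map k D B B (j α + b • KaehlerDifferential.D k B t) = α
        rw [map_add, map_smul, hπdt, smul_zero, add_zero, hj]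
      · change (1 : (B ⧸ Ideal.span {t ^ n})) ⊗ₜ[B] (j α + b • KaehlerDifferential.D k B t) = β
        rw [TensorProduct.tmul_add, ← h2, hβ₀]
        abel

end Groth.Agent.S18839
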