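import Groth.Statements.S18859
import Groth.Agent.Lib.GammaFpqc

set_option autoImplicit false
universe u
open CategoryTheory MonoidalCategory CartesianMonoidalCategory MonObj GrpObj AlgebraicGeometry
open NonAbH1

namespace Groth.Agent.S18859

lemma appTop_comp_apply {X Y Z : Scheme.{u}} (f : X ⟶ Y) (g : Y ⟶ Z) (t : Γ(Z, ⊤)) :
    (f ≫ g).appTop.hom t = f.appTop.hom (g.appTop.hom t) := by
  rw [Scheme.Hom.comp_appTop]; rfl

/-- For a pseudo-torsor, an invariant function takes the same value on two points with the same
image in `S`. -/
lemma key {S : Scheme.{u}} {G X : Over S} [GrpObj G] (a : AlgGrp.Action G X)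
    (hps : NonAbH1.IsPseudoTorsorSch a) (s : Γ(X.left, ⊤))
    (hs : a.act.left.appTop.hom s = (CartesianMonoidalCategory.snd G X).left.appTop.hom s)
    {Z : Scheme.{u}} (p q : Z ⟶ X.left) (hpq : p ≫ X.hom = q ≫ X.hom) :
    p.appTop.hom s = q.appTop.hom s := by
  have : IsIso (lift a.act (snd G X)) := hps
  have hl : IsIso (lift a.act (snd G X)).left :=
    inferInstanceAs (IsIso ((Over.forget S).map (lift a.act (snd G X))))
  have e1 : (lift a.act (snd G X)).left ≫ Limits.pullback.fst X.hom X.hom = a.act.left :=
    congrArg (fun k => k.left) (lift_fst a.act (snd G X))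
  have e2 : (lift a.act (snd G X)).left ≫ Limits.pullback.snd X.hom X.hom = (snd G X).left :=
    congrArg (fun k => k.left) (lift_snd a.act (snd G X))
  obtain ⟨w', h1, h2⟩ : ∃ w' : Z ⟶ (G ⊗ X).left, w' ≫ a.act.left = p ∧
      w' ≫ (snd G X).left = q := by
    refine ⟨Limits.pullback.lift p q hpq ≫ inv (lift a.act (snd G X)).left, ?_, ?_⟩
    · rw [← e1]
      simp only [Category.assoc, IsIso.inv_hom_id_assoc]
      exact Limits.pullback.lift_fst _ _ _
    · rw [← e2]
      simp only [Category.assoc, IsIso.inv_hom_id_assoc]
      exact Limits.pullback.lift_snd _ _ _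
  calc p.appTop.hom s = (w' ≫ a.act.left).appTop.hom s := by rw [h1]
    _ = (w' ≫ (snd G X).left).appTop.hom s := by
      rw [appTop_comp_apply, appTop_comp_apply, hs]
    _ = q.appTop.hom s := by rw [h2]

/-- Let S be a scheme, G a group scheme over S and X → S a G-torsor for the fpqc topology (a
pseudo-torsor under G acquiring sections on the members of some fpqc covering family of S). Then the
functions on S are the G-invariant functions on X: the ring map Γ(S, O_S) → Γ(X, O_X) is injective,
and a global function s on X lies in its image if and only if the pullbacks of s to G ×_S X along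
the action morphism and along the second projection coincide. (The source works over a scheme of
finite type over a field with G the base change of an affine group scheme over that field and states
the equality O_S = (O_X)^G as sheaves on S; applied to the restriction of the torsor over each open
of S, the present global form is that equality.) -/
theorem result {S : Scheme.{u}} {G X : Over S}
    [GrpObj G] (a : AlgGrp.Action G X) (ha : NonAbH1.IsTorsorFor Scheme.fpqcPrecoverage a) :
    Function.Injective X.hom.appTop.hom ∧
      ∀ s : Γ(X.left, ⊤), s ∈ Set.range X.hom.appTop.hom ↔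
        a.act.left.appTop.hom s = (CartesianMonoidalCategory.snd G X).left.appTop.hom s := by
  open Groth.Agent.Lib.GammaFpqc in
  obtain ⟨hps, R, hR, hsec⟩ := ha
  choose σ hσ using hsec
  refine ⟨fun t t' htt' => ?_, fun s => ⟨?_, fun hs => ?_⟩⟩
  · apply Γ_ext hR
    intro T f hf
    rw [← hσ f hf, appTop_comp_apply, appTop_comp_apply, htt']
  · rintro ⟨t, rfl⟩
    rw [← appTop_comp_apply, ← appTop_comp_apply, Over.w a.act, Over.w (snd G X)]
  · obtain ⟨t, ht⟩ := Γ_glue hR (fun T f hf => (σ f hf).appTop.hom s) (by
      intro T₁ T₂ Z g₁ g₂ f₁ f₂ h₁ h₂ e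
      rw [← appTop_comp_apply, ← appTop_comp_apply]
      apply key a hps s hs
      rw [Category.assoc, Category.assoc, hσ, hσ, e])
    refine ⟨t, ?_⟩
    apply Γ_ext (Precoverage.pullbackArrows_mem X.hom hR)
    rintro T' p ⟨T, h, hh⟩
    rw [← appTop_comp_apply, ← Limits.pullback.condition, appTop_comp_apply, ht h hh,
      ← appTop_comp_apply]
    apply key a hps s hs
    rw [Category.assoc, hσ, Limits.pullback.condition]

end Groth.Agent.S18859
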