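import Groth.Statements.S1886

set_option autoImplicit false
universe u
open CategoryTheory CategoryTheory.Limits AlgebraicGeometry
open Grpd

namespace Groth.Agent.S1886

variable {S : Scheme.{u}} (G : Grpd.GroupoidScheme S)

attribute [local simp] pullback.lift_fst pullback.lift_snd pullback.lift_fst_assoc
  pullback.lift_snd_assoc pullback.diagonal_fst pullback.diagonal_snd
  pullback.diagonal_fst_assoc pullback.diagonal_snd_assoc

/-- composition on T-valued points -/
noncomputable def cmp {T : Scheme.{u}} (α β : T ⟶ G.R) (h : α ≫ G.s = β ≫ G.t) : T ⟶ G.R :=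
  pullback.lift α β h ≫ G.c

lemma cmp_congr {T : Scheme.{u}} {α α' β β' : T ⟶ G.R} (hα : α = α') (hβ : β = β')
    (h : α ≫ G.s = β ≫ G.t) (h' : α' ≫ G.s = β' ≫ G.t) :
    cmp G α β h = cmp G α' β' h' := by
  subst hα hβ; rfl

lemma precomp_cmp {T T' : Scheme.{u}} (f : T' ⟶ T) (α β : T ⟶ G.R) (h : α ≫ G.s = β ≫ G.t) :
    f ≫ cmp G α β h = cmp G (f ≫ α) (f ≫ β) (by rw [Category.assoc, Category.assoc, h]) := by
  unfold cmp
  rw [← Category.assoc]
  congr 1
  apply pullback.hom_ext <;> simp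

lemma cmp_s {T : Scheme.{u}} (α β : T ⟶ G.R) (h : α ≫ G.s = β ≫ G.t) :
    cmp G α β h ≫ G.s = β ≫ G.s := G.comp_s α β h

lemma cmp_t {T : Scheme.{u}} (α β : T ⟶ G.R) (h : α ≫ G.s = β ≫ G.t) :
    cmp G α β h ≫ G.t = α ≫ G.t := G.comp_t α β h

lemma j_fst : G.j ≫ pullback.fst G.pU G.pU = G.t := by
  simp [GroupoidScheme.j]

lemma j_snd : G.j ≫ pullback.snd G.pU G.pU = G.s := by
  simp [GroupoidScheme.j]

lemma diag_fst : G.diag ≫ pullback.fst G.pU G.pU = 𝟙 _ := by
  simp [GroupoidScheme.diag]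

lemma diag_snd : G.diag ≫ pullback.snd G.pU G.pU = 𝟙 _ := by
  simp [GroupoidScheme.diag]

lemma fst_t : pullback.fst G.j G.j ≫ G.t = pullback.snd G.j G.j ≫ G.t := by
  have := pullback.condition (f := G.j) (g := G.j)
  have h := congrArg (· ≫ pullback.fst G.pU G.pU) this
  simpa only [Category.assoc, j_fst] using h

lemma fst_s : pullback.fst G.j G.j ≫ G.s = pullback.snd G.j G.j ≫ G.s := by
  have := pullback.condition (f := G.j) (g := G.j)
  have h := congrArg (· ≫ pullback.snd G.pU G.pU) this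
  simpa only [Category.assoc, j_snd] using h

/-- (α, β) ↦ α⁻¹ ∘ β -/
noncomputable def gam : pullback G.j G.j ⟶ G.R :=
  cmp G (pullback.fst G.j G.j ≫ G.i) (pullback.snd G.j G.j)
    (by rw [Category.assoc, G.i_s, fst_t])

lemma gam_s : gam G ≫ G.s = pullback.snd G.j G.j ≫ G.s := cmp_s G _ _ _

lemma gam_t : gam G ≫ G.t = pullback.snd G.j G.j ≫ G.s := by
  unfold gam
  rw [cmp_t, Category.assoc, G.i_t, fst_s]

noncomputable def mu : pullback G.j G.j ⟶ pullback G.j G.diag :=
  pullback.lift (gam G) (pullback.snd G.j G.j ≫ G.s) (by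
    apply pullback.hom_ext
    · rw [Category.assoc, j_fst, gam_t, Category.assoc, diag_fst, Category.comp_id]
    · rw [Category.assoc, j_snd, gam_s, Category.assoc, diag_snd, Category.comp_id])

lemma mu_fst : mu G ≫ pullback.fst G.j G.diag = gam G := by
  unfold mu; exact pullback.lift_fst _ _ _

lemma mu_snd : mu G ≫ pullback.snd G.j G.diag = pullback.snd G.j G.j ≫ G.s := by
  unfold mu; exact pullback.lift_snd _ _ _

/-- the identity section, with target written as a plain pullback -/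
noncomputable def eS : G.U ⟶ pullback G.j G.diag := G.eStab

lemma eStab_fst : eS G ≫ pullback.fst G.j G.diag = G.e := by
  unfold eS GroupoidScheme.eStab; exact pullback.lift_fst _ _ _

lemma eStab_snd : eS G ≫ pullback.snd G.j G.diag = 𝟙 _ := by
  unfold eS GroupoidScheme.eStab; exact pullback.lift_snd _ _ _

lemma key_comm : pullback.diagonal G.j ≫ mu G = G.s ≫ eS G := by
  apply pullback.hom_ext
  · rw [Category.assoc, Category.assoc, mu_fst, eStab_fst]
    unfold gam
    rw [precomp_cmp]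
    have := G.i_comp (𝟙 G.R)
    rw [cmp_congr G (α' := 𝟙 G.R ≫ G.i) (β' := 𝟙 G.R) (by simp) (by simp) _
      (by rw [Category.assoc, G.i_s])]
    unfold cmp
    rw [this]; simp
  · rw [Category.assoc, Category.assoc, mu_snd, eStab_snd]
    simp

lemma key_eq' {T : Scheme.{u}} (α β : T ⟶ G.R) (hs : α ≫ G.s = β ≫ G.s)
    (ht : α ≫ G.t = β ≫ G.t) (w : T ⟶ G.U) (hw : β ≫ G.s = w)
    (hg : cmp G (α ≫ G.i) β (by rw [Category.assoc, G.i_s, ht]) = w ≫ G.e) :
    α = β := by
  have h1 : α = cmp G α (α ≫ G.s ≫ G.e)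
      (by rw [Category.assoc, Category.assoc, G.e_t, Category.comp_id]) :=
    (G.comp_e α).symm
  have h2 : α ≫ G.s ≫ G.e = cmp G (α ≫ G.i) β (by rw [Category.assoc, G.i_s, ht]) := by
    rw [hg, ← Category.assoc, hs, hw]
  have h3 : α = cmp G α (cmp G (α ≫ G.i) β (by rw [Category.assoc, G.i_s, ht]))
      (by rw [cmp_t, Category.assoc, G.i_t]) := by
    conv_lhs => rw [h1]
    exact cmp_congr G rfl h2 _ _
  have h4 := G.assoc α (α ≫ G.i) β (by rw [Category.assoc, G.i_t])
    (by rw [Category.assoc, G.i_s, ht])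
  have h5 : cmp G α (α ≫ G.i) (by rw [Category.assoc, G.i_t]) = α ≫ G.t ≫ G.e := G.comp_i α
  have h6 : cmp G (β ≫ G.t ≫ G.e) β
      (by rw [Category.assoc, Category.assoc, G.e_s, Category.comp_id]) = β := G.e_comp β
  rw [h3]
  conv_rhs => rw [← h6]
  unfold cmp at h4 ⊢
  rw [← h4]
  refine cmp_congr G ?_ rfl _ _
  have h7 : β ≫ G.t ≫ G.e = α ≫ G.t ≫ G.e := by rw [← Category.assoc, ← ht, Category.assoc]
  rw [h7]; exact h5

lemma key_eq {T : Scheme.{u}} (a : T ⟶ pullback G.j G.j) (w : T ⟶ G.U)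
    (h : a ≫ mu G = w ≫ eS G) :
    a ≫ pullback.fst G.j G.j = a ≫ pullback.snd G.j G.j := by
  have hs : (a ≫ pullback.fst G.j G.j) ≫ G.s = (a ≫ pullback.snd G.j G.j) ≫ G.s := by
    simp only [Category.assoc, fst_s]
  have ht : (a ≫ pullback.fst G.j G.j) ≫ G.t = (a ≫ pullback.snd G.j G.j) ≫ G.t := by
    simp only [Category.assoc, fst_t]
  have hw : (a ≫ pullback.snd G.j G.j) ≫ G.s = w := by
    have := congrArg (· ≫ pullback.snd G.j G.diag) h
    simp only [Category.assoc, mu_snd, eStab_snd, Category.comp_id] at this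
    rw [Category.assoc]; exact this
  refine key_eq' G _ _ hs ht w hw ?_
  have := congrArg (· ≫ pullback.fst G.j G.diag) h
  simp only [Category.assoc, mu_fst, eStab_fst] at this
  rw [← this]
  unfold gam
  rw [precomp_cmp]
  exact cmp_congr G (by simp) (by simp) _ _

lemma key : IsPullback G.s (pullback.diagonal G.j) (eS G) (mu G) := by
  refine ⟨⟨(key_comm G).symm⟩, ⟨PullbackCone.IsLimit.mk _
    (fun c => c.snd ≫ pullback.fst G.j G.j) ?_ ?_ ?_⟩⟩
  · intro c
    have h := c.condition
    have := congrArg (· ≫ pullback.snd G.j G.diag) h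
    simp only [Category.assoc, mu_snd, eStab_snd, Category.comp_id] at this
    rw [Category.assoc, fst_s, this]
  · intro c
    have hk := key_eq G c.snd c.fst c.condition.symm
    apply pullback.hom_ext
    · simp
    · simp [hk]
  · intro c m h1 h2
    rw [← h2]; simp

theorem result (S : Scheme.{u}) (G : Grpd.GroupoidScheme S) : ((IsSeparated G.j ↔ IsSeparated G.stabilizerToU) ∧ (IsSeparated G.stabilizerToU ↔ IsClosedImmersion G.eStab)) ∧ ((QuasiSeparated G.j ↔ QuasiSeparated G.stabilizerToU) ∧ (QuasiSeparated G.stabilizerToU ↔ QuasiCompact G.eStab)) := by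
  have hsec : G.eStab ≫ G.stabilizerToU = 𝟙 _ := by
    unfold GroupoidScheme.stabilizerToU
    exact eStab_snd G
  have A1 : IsSeparated G.j → IsSeparated G.stabilizerToU := by
    intro h
    exact MorphismProperty.pullback_snd (P := @IsSeparated) G.j G.diag h
  have A2 : IsSeparated G.stabilizerToU → IsClosedImmersion G.eStab := by
    intro h
    have : IsClosedImmersion (G.eStab ≫ G.stabilizerToU) := by rw [hsec]; infer_instance
    exact IsClosedImmersion.of_comp G.eStab G.stabilizerToU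
  have A3 : IsClosedImmersion G.eStab → IsSeparated G.j := by
    intro h
    exact ⟨MorphismProperty.of_isPullback (P := @IsClosedImmersion) (key G) h⟩
  have B1 : QuasiSeparated G.j → QuasiSeparated G.stabilizerToU := by
    intro h
    exact MorphismProperty.pullback_snd (P := @QuasiSeparated) G.j G.diag h
  have B2 : QuasiSeparated G.stabilizerToU → QuasiCompact G.eStab := by
    intro h
    have : QuasiCompact (G.eStab ≫ G.stabilizerToU) := by rw [hsec]; infer_instance
    exact QuasiCompact.of_comp G.eStab G.stabilizerToU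
  have B3 : QuasiCompact G.eStab → QuasiSeparated G.j := by
    intro h
    exact ⟨MorphismProperty.of_isPullback (P := @QuasiCompact) (key G) h⟩
  exact ⟨⟨⟨A1, fun h => A3 (A2 h)⟩, ⟨A2, fun h => A1 (A3 h)⟩⟩,
    ⟨⟨B1, fun h => B3 (B2 h)⟩, ⟨B2, fun h => B1 (B3 h)⟩⟩⟩

end Groth.Agent.S1886
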