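import Groth.Statements.S18861
import Groth.Agent.Lib.GrpActionShear

set_option autoImplicit false
universe u
open CategoryTheory MonoidalCategory CartesianMonoidalCategory MonObj GrpObj AlgebraicGeometry
open AlgGrp

namespace Groth.Agent.S18861

/-- Let S be a scheme and G a group scheme over S acting on an S-scheme X, with action morphism G ×_S X
→ X. If G → S is surjective, resp. flat, resp. affine, resp. proper, resp. finite, resp. smooth,
then so is the action morphism. (The source works over a field, where G → S is automatically
faithfully flat, with G and X of finite type, and concludes that the action morphism is faithfully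
flat, and smooth, affine, proper or finite when G is; the base and the finiteness conditions play no
role.) -/
theorem result {S : Scheme.{u}} {G X : Over S} [GrpObj G]
    (a : AlgGrp.Action G X) :
    (Surjective G.hom → Surjective a.act.left) ∧ (Flat G.hom → Flat a.act.left) ∧
      (IsAffineHom G.hom → IsAffineHom a.act.left) ∧ (IsProper G.hom → IsProper a.act.left) ∧
      (IsFinite G.hom → IsFinite a.act.left) ∧ (Smooth G.hom → Smooth a.act.left) := by
  have key := Groth.Agent.Lib.GrpAction.act_left_eq a
  haveI := Groth.Agent.Lib.GrpAction.isIso_shear_left a
  refine ⟨fun h => ?_, fun h => ?_, fun h => ?_, fun h => ?_, fun h => ?_, fun h => ?_⟩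
  · rw [key]; infer_instance
  · rw [key]; infer_instance
  · rw [key]
    have h1 : IsAffineHom (Limits.pullback.snd G.hom X.hom) :=
      MorphismProperty.pullback_snd (P := @IsAffineHom) _ _ h
    have h2 : IsAffineHom (Groth.Agent.Lib.GrpAction.shear a).left := inferInstance
    exact MorphismProperty.comp_mem (W := @IsAffineHom) _ _ h2 h1
  · rw [key]; infer_instance
  · rw [key]; infer_instance
  · rw [key]; infer_instance

end Groth.Agent.S18861
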