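import Groth.Statements.S18864
import Mathlib.RingTheory.Flat.Basic
import Mathlib.RingTheory.Bialgebra.Hom
import Mathlib.RingTheory.FiniteType
import Mathlib.LinearAlgebra.Basis.VectorSpace
import Mathlib.RingTheory.Flat.Basic

set_option autoImplicit false
universe u v w
open HopfRep

namespace Groth.Agent.S18864

/-- Let k be a field and G = lim G_i a pro-algebraic group scheme over k, so that G = Spec A with A the
direct limit of the Hopf algebras A_i of the affine group schemes G_i of finite type; assume
moreover that the maps A_i → A are injective, so that A is the directed union of the A_i, here given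
as injective bialgebra maps A_i → A with directed, jointly covering images. Then every homomorphism
from G to an affine group scheme H = Spec B of finite type over k factors through some projection G
→ G_i: every bialgebra map f : B → A with B finitely generated as a k-algebra is the composite of
A_i → A with a bialgebra map B → A_i for some i. (The published statement allows arbitrary
transition maps in the system; this row assumes each A_i → A injective, the case the printed
argument treats. The source also states the pro-finite variant with H finite, which is the case of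
finite-dimensional A_i and B; finite generation of the A_i is not used.) -/
theorem result (k : Type u) [Field k]
    (A : Type v) [CommRing A] [HopfAlgebra k A] {ι : Type v} (Aι : ι → Type v)
    [∀ i, CommRing (Aι i)] [∀ i, HopfAlgebra k (Aι i)] (emb : ∀ i, Aι i →ₐc[k] A)
    (hinj : ∀ i, Function.Injective (emb i))
    (hdir : ∀ i j, ∃ l, Set.range (emb i) ⊆ Set.range (emb l) ∧ Set.range (emb j) ⊆ Set.range (emb l))
    (hcov : ∀ a : A, ∃ i, a ∈ Set.range (emb i))
    (B : Type w) [CommRing B] [HopfAlgebra k B] [Algebra.FiniteType k B] (f : B →ₐc[k] A) :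
    ∃ (i : ι) (g : B →ₐc[k] Aι i), (emb i).comp g = f := by
  classical
  -- a common index for finitely many elements
  have hfin : ∀ s : Finset A, ∃ l, ∀ a ∈ s, a ∈ Set.range (emb l) := by
    intro s
    induction s using Finset.induction_on with
    | empty =>
      obtain ⟨i, -⟩ := hcov 0
      exact ⟨i, fun a ha => absurd ha (Finset.notMem_empty a)⟩
    | insert a s _ ih =>
      obtain ⟨l, hl⟩ := ih
      obtain ⟨i, hi⟩ := hcov a
      obtain ⟨m, hm1, hm2⟩ := hdir i l
      refine ⟨m, fun b hb => ?_⟩
      rcases Finset.mem_insert.mp hb with rfl | hb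
      · exact hm1 hi
      · exact hm2 (hl b hb)
  obtain ⟨s, hs⟩ := (Algebra.FiniteType.out : (⊤ : Subalgebra k B).FG)
  obtain ⟨l, hl⟩ := hfin (s.image f)
  -- the image of `f` lies in the range of `emb l`
  have hrange : ∀ b : B, f b ∈ ((emb l : Aι l →ₐ[k] A)).range := by
    have hle : Algebra.adjoin k (s : Set B) ≤ ((emb l : Aι l →ₐ[k] A)).range.comap (f : B →ₐ[k] A) := by
      refine Algebra.adjoin_le fun b hb => ?_
      obtain ⟨x, hx⟩ := hl (f b) (Finset.mem_image_of_mem f hb)
      exact ⟨x, hx⟩
    intro b
    have : b ∈ Algebra.adjoin k (s : Set B) := by rw [hs]; trivial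
    exact hle this
  set e : Aι l ≃ₐ[k] ((emb l : Aι l →ₐ[k] A)).range :=
    AlgEquiv.ofInjective (emb l : Aι l →ₐ[k] A) (hinj l) with he
  set g₀ : B →ₐ[k] Aι l :=
    (e.symm : ((emb l : Aι l →ₐ[k] A)).range →ₐ[k] Aι l).comp
      ((f : B →ₐ[k] A).codRestrict _ hrange) with hg₀
  have hg : ∀ b, emb l (g₀ b) = f b := by
    intro b
    have h1 : e (g₀ b) = (f : B →ₐ[k] A).codRestrict _ hrange b := by
      simp [hg₀]
    have h2 := congrArg Subtype.val h1
    simpa [he] using h2
  have hflatA : Module.Flat k A := inferInstance
  have hinj2 : Function.Injective (TensorProduct.map (emb l : Aι l →ₐ[k] A).toLinearMap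
      (emb l : Aι l →ₐ[k] A).toLinearMap) :=
    TensorProduct.map_injective_of_flat_flat _ _ (hinj l) (hinj l)
  refine ⟨l, BialgHom.ofAlgHom g₀ ?_ ?_, ?_⟩
  · ext b
    have h1 : Coalgebra.counit (R := k) (emb l (g₀ b)) = Coalgebra.counit (R := k) (g₀ b) :=
      CoalgHomClass.counit_comp_apply (emb l) (g₀ b)
    have h2 : Coalgebra.counit (R := k) (f b) = Coalgebra.counit (R := k) b :=
      CoalgHomClass.counit_comp_apply f b
    simp only [AlgHom.comp_apply, Bialgebra.counitAlgHom_apply]
    rw [← h1, hg, h2]
  · ext b
    apply hinj2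
    have h1 : TensorProduct.map (emb l : Aι l →ₐ[k] A).toLinearMap (emb l : Aι l →ₐ[k] A).toLinearMap
        (Coalgebra.comul (R := k) (g₀ b)) = Coalgebra.comul (R := k) (emb l (g₀ b)) :=
      CoalgHomClass.map_comp_comul_apply (emb l) (g₀ b)
    have h2 : TensorProduct.map (f : B →ₐ[k] A).toLinearMap (f : B →ₐ[k] A).toLinearMap
        (Coalgebra.comul (R := k) b) = Coalgebra.comul (R := k) (f b) :=
      CoalgHomClass.map_comp_comul_apply f b
    simp only [AlgHom.comp_apply, Bialgebra.comulAlgHom_apply]
    rw [h1, hg, ← h2]
    have h3 : (TensorProduct.map (emb l : Aι l →ₐ[k] A).toLinearMap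
        (emb l : Aι l →ₐ[k] A).toLinearMap) ∘ₗ (TensorProduct.map g₀.toLinearMap g₀.toLinearMap) =
        TensorProduct.map (f : B →ₐ[k] A).toLinearMap (f : B →ₐ[k] A).toLinearMap := by
      rw [← TensorProduct.map_comp]
      congr 1 <;> (ext b'; exact hg b')
    exact congrArg (fun t => t (Coalgebra.comul (R := k) b)) h3
  · ext b
    exact hg b

end Groth.Agent.S18864
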