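import Groth.Statements.S18867
import Groth.Agent.Lib.H8DoubleAnn2
import Groth.Agent.Lib.H8Liaison2

set_option autoImplicit false
universe u
open Liaison

namespace Groth.Agent.S18867

/-- Let K be a field, R = K[x_0, …, x_n] graded by degree, c ≥ 2, 𝔠 ⊂ R a homogeneous ideal of height c
such that R/𝔠 is a Gorenstein ring, and I ⊂ R a homogeneous ideal of height c which is unmixed
(every associated prime of R/I has height c) and properly contains 𝔠. Then 𝔠 : (𝔠 : I) = I, so that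
I and 𝔠 : I are directly linked by 𝔠. -/
theorem result (K : Type u) [Field K] (n c : ℕ) (hc : 2 ≤ c)
    (𝔠 I : Ideal (MvPolynomial (Fin (n + 1)) K))
    (h𝔠 : 𝔠.IsHomogeneous (GrSyz.stdGr K (Fin (n + 1)))) (hI : I.IsHomogeneous (GrSyz.stdGr K (Fin (n + 1))))
    [LocCoh.IsGorensteinRing (MvPolynomial (Fin (n + 1)) K ⧸ 𝔠)] (h𝔠c : 𝔠.height = c) (hIc : I.height = c)
    (hIu : ∀ p ∈ associatedPrimes (MvPolynomial (Fin (n + 1)) K) (MvPolynomial (Fin (n + 1)) K ⧸ I), p.height = c) (hlt : 𝔠 < I) :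
    𝔠.colon ((𝔠.colon (I : Set (MvPolynomial (Fin (n + 1)) K)) : Ideal (MvPolynomial (Fin (n + 1)) K)) : Set (MvPolynomial (Fin (n + 1)) K)) = I := by
  haveI : LocCoh.IsCohenMacaulayRing (MvPolynomial (Fin (n + 1)) K ⧸ 𝔠) :=
    Groth.Agent.Lib.H8Liaison.isCMRing_of_isGorensteinRing _
  refine le_antisymm ?_ ?_
  · refine Groth.Agent.Lib.H8DoubleAnn.colon_colon_le 𝔠 I hlt.le ?_
    intro p hp
    haveI : p.IsPrime := hp.isPrime
    have hIp : I ≤ p := by
      have h1 := IsAssociatedPrime.annihilator_le hp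
      rwa [Submodule.annihilator_top, Ideal.annihilator_quotient] at h1
    have h1 := Groth.Agent.Lib.H8DoubleLink.height_eq_add_height_map K (n + 1) c 𝔠 h𝔠 h𝔠c p
      (hlt.le.trans hIp)
    rw [hIu p hp] at h1
    have h2 : ((c : ℕ) : ℕ∞) + 0 = (c : ℕ∞) + (p.map (Ideal.Quotient.mk 𝔠)).height := by
      rw [add_zero]; exact h1
    exact ((ENat.add_right_injective_of_ne_top (ENat.coe_ne_top c)) h2).symm
  · intro x hx
    rw [Submodule.mem_colon]
    intro b hb
    rw [SetLike.mem_coe, Submodule.mem_colon] at hb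
    have := hb x hx
    rw [smul_eq_mul] at this ⊢
    rwa [mul_comm]

end Groth.Agent.S18867
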