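import Groth.Statements.S18868
import Mathlib.Tactic
import Groth.Agent.Lib.H26GorQuot
import Groth.Agent.Lib.H26CIGor
import Groth.Agent.Lib.H26LinkPoly
import Groth.Agent.S18867

set_option autoImplicit false
universe u
open Liaison

namespace Groth.Agent.S18868

/-- Let K be a field, R = K[x_0, …, x_n] graded by degree, c ≥ 2, 𝔠 ⊂ R a homogeneous complete
intersection of codimension c, that is a homogeneous ideal of height c generated by c elements g_1,
…, g_c, and I ⊂ R a homogeneous ideal of height c with R/I Cohen–Macaulay which properly contains 𝔠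
and has the form I = 𝔠 + fR for some f (so I is an almost complete intersection). Then the linked
ideal J = 𝔠 : I has height c and R/J is a Gorenstein ring. (A Gorenstein ideal of the notes, one
whose quotient is Cohen–Macaulay with last graded Betti number 1, is rendered as: the quotient ring
is Gorenstein.) -/
theorem result (K : Type u) [Field K] (n c : ℕ) (hc : 2 ≤ c)
    (g : Fin c → MvPolynomial (Fin (n + 1)) K) (f : MvPolynomial (Fin (n + 1)) K) (𝔠 I : Ideal (MvPolynomial (Fin (n + 1)) K)) (h𝔠g : Ideal.span (Set.range g) = 𝔠)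
    (h𝔠 : 𝔠.IsHomogeneous (GrSyz.stdGr K (Fin (n + 1)))) (hI : I.IsHomogeneous (GrSyz.stdGr K (Fin (n + 1))))
    (h𝔠c : 𝔠.height = c) (hIc : I.height = c) [LocCoh.IsCohenMacaulayRing (MvPolynomial (Fin (n + 1)) K ⧸ I)]
    (hlt : 𝔠 < I) (hIf : I = 𝔠 ⊔ Ideal.span {f}) :
    (𝔠.colon (I : Set (MvPolynomial (Fin (n + 1)) K))).height = c ∧
      LocCoh.IsGorensteinRing (MvPolynomial (Fin (n + 1)) K ⧸ 𝔠.colon (I : Set (MvPolynomial (Fin (n + 1)) K))) := by
  classical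
  subst h𝔠g
  set 𝔠 := Ideal.span (Set.range g) with h𝔠def
  haveI hG : LocCoh.IsGorensteinRing (MvPolynomial (Fin (n + 1)) K ⧸ 𝔠) :=
    Groth.Agent.Lib.H26CIGor.isGorensteinRing_quotient_span_range _ c g h𝔠c
  haveI hcm𝔠 : LocCoh.IsCohenMacaulayRing (MvPolynomial (Fin (n + 1)) K ⧸ 𝔠) :=
    Groth.Agent.Lib.H8Liaison.isCMRing_of_isGorensteinRing _
  have hI𝔠 : ¬ I ≤ 𝔠 := not_le_of_gt hlt
  have h𝔠I : 𝔠 ≤ I := hlt.le
  have hunm := Groth.Agent.Lib.H8Liaison.colon_unmixed K (n + 1) c 𝔠 I h𝔠 h𝔠c hI𝔠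
  refine ⟨hunm.1, ?_⟩
  set J := 𝔠.colon (I : Set (MvPolynomial (Fin (n + 1)) K)) with hJ
  have h𝔠J : 𝔠 ≤ J := by
    intro x hx
    rw [hJ, Submodule.mem_colon]
    intro y _
    exact 𝔠.mul_mem_right y hx
  have hIu := Groth.Agent.Lib.H26LinkPoly.height_eq_of_mem_associatedPrimes K (n + 1) c I hI hIc
  have hdbl : 𝔠.colon (J : Set (MvPolynomial (Fin (n + 1)) K)) = I :=
    Groth.Agent.S18867.result K n c hc 𝔠 I h𝔠 hI h𝔠c hIc hIu hlt
  set mk𝔠 := Ideal.Quotient.mk 𝔠 with hmk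
  have hspan : I.map mk𝔠 = Ideal.span {mk𝔠 f} := by
    have h0 : 𝔠.map mk𝔠 = ⊥ := Ideal.map_quotient_self 𝔠
    have h1 : (Ideal.span {f}).map mk𝔠 = Ideal.span {mk𝔠 f} := by
      rw [Ideal.map_span, Set.image_singleton]
    rw [hIf, Ideal.map_sup, h0, h1, bot_sup_eq]
  haveI : LocCoh.IsCohenMacaulayRing ((MvPolynomial (Fin (n + 1)) K ⧸ 𝔠) ⧸ I.map mk𝔠) :=
    Groth.Agent.Lib.CMRingEquiv96.isCohenMacaulayRing_of_ringEquiv
      (DoubleQuot.quotQuotEquivQuotOfLE h𝔠I).symm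
  have hmin := Groth.Agent.Lib.H26LinkPoly.height_eq_zero_of_mem_minimalPrimes_map K (n + 1) c 𝔠 I
    h𝔠 h𝔠c h𝔠I hIu
  have hann1 : Submodule.annihilator (I.map mk𝔠) = J.map mk𝔠 :=
    Groth.Agent.Lib.H26LinkCM.annihilator_map_mk 𝔠 I
  have hann2 : Submodule.annihilator (J.map mk𝔠) = I.map mk𝔠 := by
    rw [Groth.Agent.Lib.H26LinkCM.annihilator_map_mk 𝔠 J, hdbl]
  have hann : Submodule.annihilator (Submodule.annihilator (I.map mk𝔠)) = I.map mk𝔠 := by
    rw [hann1, hann2]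
  haveI hcmf : LocCoh.IsCohenMacaulayRing ((MvPolynomial (Fin (n + 1)) K ⧸ 𝔠) ⧸
      Ideal.span {mk𝔠 f}) := by rw [← hspan]; infer_instance
  rw [hspan] at hmin hann hann1
  have hGR := Groth.Agent.Lib.H26GorQuot.isGorensteinRing_quotient_annihilator_span
    (MvPolynomial (Fin (n + 1)) K ⧸ 𝔠) (mk𝔠 f) hmin hann
  rw [hann1] at hGR
  exact Groth.Agent.Lib.H26CIGor.isGorensteinRing_of_ringEquiv
    (DoubleQuot.quotQuotEquivQuotOfLE h𝔠J)

end Groth.Agent.S18868
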