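import Groth.Statements.S18869
import Mathlib.Tactic
import Groth.Agent.Lib.H26GeomLink
import Groth.Agent.Lib.H26CIGor
import Groth.Agent.Lib.H26LinkPoly
import Groth.Agent.Lib.H8ProjNormal

set_option autoImplicit false
universe u
open Liaison

namespace Groth.Agent.S18869

/-- Let K be a field, R = K[x_0, …, x_n] graded by degree, and I₁, I₂ ⊂ R homogeneous ideals of the same
height c such that R/I₁ and R/I₂ are Cohen–Macaulay rings (they define arithmetically Cohen–Macaulay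
subschemes of codimension c) and I₁, I₂ have no minimal prime in common (no common component). If
R/(I₁ ∩ I₂) is a Gorenstein ring (the union is arithmetically Gorenstein), then I₁ + I₂ has height c
+ 1 and R/(I₁ + I₂) is a Gorenstein ring (the intersection is arithmetically Gorenstein of
codimension c + 1). (Arithmetically Gorenstein, in the notes arithmetically Cohen–Macaulay with last
graded Betti number 1, is rendered as: the quotient ring is Gorenstein.) -/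
theorem result (K : Type u) [Field K] (n c : ℕ)
    (I₁ I₂ : Ideal (MvPolynomial (Fin (n + 1)) K))
    (hI₁ : I₁.IsHomogeneous (GrSyz.stdGr K (Fin (n + 1)))) (hI₂ : I₂.IsHomogeneous (GrSyz.stdGr K (Fin (n + 1))))
    [LocCoh.IsCohenMacaulayRing (MvPolynomial (Fin (n + 1)) K ⧸ I₁)] [LocCoh.IsCohenMacaulayRing (MvPolynomial (Fin (n + 1)) K ⧸ I₂)]
    (h₁ : I₁.height = c) (h₂ : I₂.height = c) (hdisj : Disjoint I₁.minimalPrimes I₂.minimalPrimes)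
    [LocCoh.IsGorensteinRing (MvPolynomial (Fin (n + 1)) K ⧸ (I₁ ⊓ I₂))] :
    (I₁ ⊔ I₂).height = c + 1 ∧ LocCoh.IsGorensteinRing (MvPolynomial (Fin (n + 1)) K ⧸ (I₁ ⊔ I₂)) := by
  classical
  haveI : IsNoetherianRing (MvPolynomial (Fin (n + 1)) K) := inferInstance
  set 𝔠 := I₁ ⊓ I₂ with h𝔠def
  have h𝔠 : 𝔠.IsHomogeneous (GrSyz.stdGr K (Fin (n + 1))) := hI₁.inf hI₂
  have h𝔠c : 𝔠.height = c := Groth.Agent.Lib.H26LinkPoly.height_inf_eq I₁ I₂ c h₁ h₂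
  haveI hcm𝔠 : LocCoh.IsCohenMacaulayRing ((MvPolynomial (Fin (n + 1)) K) ⧸ 𝔠) :=
    Groth.Agent.Lib.H8Liaison.isCMRing_of_isGorensteinRing _
  have h𝔠I₁ : 𝔠 ≤ I₁ := inf_le_left
  have h𝔠I₂ : 𝔠 ≤ I₂ := inf_le_right
  have hIu₁ := Groth.Agent.Lib.H26LinkPoly.height_eq_of_mem_associatedPrimes K (n + 1) c I₁ hI₁ h₁
  have hIu₂ := Groth.Agent.Lib.H26LinkPoly.height_eq_of_mem_associatedPrimes K (n + 1) c I₂ hI₂ h₂
  have hcol₁ : 𝔠.colon (I₁ : Set (MvPolynomial (Fin (n + 1)) K)) = I₂ :=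
    Groth.Agent.Lib.H26LinkPoly.colon_inf_eq K (n + 1) c I₁ I₂ hI₁ hI₂ h₁ h₂ hdisj
  have hcol₂ : 𝔠.colon (I₂ : Set (MvPolynomial (Fin (n + 1)) K)) = I₁ := by
    have := Groth.Agent.Lib.H26LinkPoly.colon_inf_eq K (n + 1) c I₂ I₁ hI₂ hI₁ h₂ h₁ hdisj.symm
    rwa [inf_comm] at this
  set mk𝔠 := Ideal.Quotient.mk 𝔠 with hmk
  have hsurj : Function.Surjective mk𝔠 := Ideal.Quotient.mk_surjective
  have hann₁ : Submodule.annihilator (I₁.map mk𝔠) = I₂.map mk𝔠 := by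
    rw [Groth.Agent.Lib.H26LinkCM.annihilator_map_mk 𝔠 I₁, hcol₁]
  have hann₂ : Submodule.annihilator (I₂.map mk𝔠) = I₁.map mk𝔠 := by
    rw [Groth.Agent.Lib.H26LinkCM.annihilator_map_mk 𝔠 I₂, hcol₂]
  have hcomap : ∀ I : Ideal (MvPolynomial (Fin (n + 1)) K), 𝔠 ≤ I → (I.map mk𝔠).comap mk𝔠 = I := by
    intro I hI
    rw [Ideal.comap_map_of_surjective _ hsurj, ← RingHom.ker_eq_comap_bot, hmk, Ideal.mk_ker]
    exact sup_eq_left.mpr hI
  have hinf : I₁.map mk𝔠 ⊓ I₂.map mk𝔠 = ⊥ := by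
    rw [eq_bot_iff]
    intro x hx
    obtain ⟨x, rfl⟩ := hsurj x
    have hx1 : x ∈ (I₁.map mk𝔠).comap mk𝔠 := hx.1
    have hx2 : x ∈ (I₂.map mk𝔠).comap mk𝔠 := hx.2
    rw [hcomap I₁ h𝔠I₁] at hx1
    rw [hcomap I₂ h𝔠I₂] at hx2
    rw [Submodule.mem_bot, hmk, Ideal.Quotient.eq_zero_iff_mem]
    exact ⟨hx1, hx2⟩
  have hmin₁ := Groth.Agent.Lib.H26LinkPoly.height_eq_zero_of_mem_minimalPrimes_map K (n + 1) c 𝔠 I₁
    h𝔠 h𝔠c h𝔠I₁ hIu₁
  have hmin₂ := Groth.Agent.Lib.H26LinkPoly.height_eq_zero_of_mem_minimalPrimes_map K (n + 1) c 𝔠 I₂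
    h𝔠 h𝔠c h𝔠I₂ hIu₂
  haveI : LocCoh.IsCohenMacaulayRing (((MvPolynomial (Fin (n + 1)) K) ⧸ 𝔠) ⧸ I₁.map mk𝔠) :=
    Groth.Agent.Lib.CMRingEquiv96.isCohenMacaulayRing_of_ringEquiv
      (DoubleQuot.quotQuotEquivQuotOfLE h𝔠I₁).symm
  haveI : LocCoh.IsCohenMacaulayRing (((MvPolynomial (Fin (n + 1)) K) ⧸ 𝔠) ⧸ I₂.map mk𝔠) :=
    Groth.Agent.Lib.CMRingEquiv96.isCohenMacaulayRing_of_ringEquiv
      (DoubleQuot.quotQuotEquivQuotOfLE h𝔠I₂).symm
  have h𝔠sup : 𝔠 ≤ I₁ ⊔ I₂ := h𝔠I₁.trans le_sup_left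
  have hmapsup : (I₁ ⊔ I₂).map mk𝔠 = I₁.map mk𝔠 ⊔ I₂.map mk𝔠 := Ideal.map_sup _ _ _
  constructor
  · -- the height
    have hI₁ne : I₁ ≠ ⊤ := by
      rintro rfl
      rw [Ideal.height_top] at h₁
      exact ENat.top_ne_natCast c h₁
    have hI₂ne : I₂ ≠ ⊤ := by
      rintro rfl
      rw [Ideal.height_top] at h₂
      exact ENat.top_ne_natCast c h₂
    have hsupne : I₁ ⊔ I₂ ≠ ⊤ := by
      have hm1 := Groth.Agent.Lib.H8DoubleLink.le_ker_constantCoeff_of_isHomogeneous K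
        (Fin (n + 1)) hI₁ hI₁ne
      have hm2 := Groth.Agent.Lib.H8DoubleLink.le_ker_constantCoeff_of_isHomogeneous K
        (Fin (n + 1)) hI₂ hI₂ne
      intro htop
      have hle := sup_le hm1 hm2
      rw [htop, top_le_iff] at hle
      have hmax : (RingHom.ker (MvPolynomial.constantCoeff :
          MvPolynomial (Fin (n + 1)) K →+* K)).IsMaximal :=
        RingHom.ker_isMaximal_of_surjective _ (fun a => ⟨MvPolynomial.C a, by simp⟩)
      exact hmax.ne_top hle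
    have hall : ∀ p ∈ (I₁ ⊔ I₂).minimalPrimes, p.height = (c : ℕ∞) + 1 := by
      intro p hp
      haveI : p.IsPrime := hp.1.1
      have h𝔠p : 𝔠 ≤ p := h𝔠sup.trans hp.1.2
      have hQmin : p.map mk𝔠 ∈ (I₁.map mk𝔠 ⊔ I₂.map mk𝔠).minimalPrimes := by
        rw [← hmapsup, Ideal.minimalPrimes_map_of_surjective hsurj, hmk, Ideal.mk_ker,
          sup_eq_left.mpr h𝔠sup]
        exact ⟨p, hp, rfl⟩
      set Q := p.map mk𝔠 with hQ
      have hQ1 : Q.height = 1 :=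
        Groth.Agent.Lib.H26GeomLink.height_eq_one_of_mem_minimalPrimes _ (I₁.map mk𝔠) (I₂.map mk𝔠)
          hmin₁ hmin₂ hinf hann₁ hann₂ Q hQmin
      rw [Groth.Agent.Lib.H8DoubleLink.height_eq_add_height_map K (n + 1) c 𝔠 h𝔠 h𝔠c p h𝔠p, hQ1]
    rw [Ideal.height_eq_inf_minimalPrimes]
    apply le_antisymm
    · obtain ⟨⟨p, hp⟩⟩ := Ideal.nonempty_minimalPrimes hsupne
      exact (iInf₂_le p hp).trans (hall p hp).le
    · exact le_iInf₂ fun p hp => (hall p hp).ge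
  · have hG := Groth.Agent.Lib.H26GeomLink.isGorensteinRing_quotient_sup ((MvPolynomial (Fin (n + 1)) K) ⧸ 𝔠)
      (I₁.map mk𝔠) (I₂.map mk𝔠) hmin₁ hmin₂ hinf hann₁ hann₂
    rw [← hmapsup] at hG
    exact Groth.Agent.Lib.H26CIGor.isGorensteinRing_of_ringEquiv
      (DoubleQuot.quotQuotEquivQuotOfLE h𝔠sup)

end Groth.Agent.S18869
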