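import Groth.Statements.S18872
import Mathlib.Tactic
import Groth.Agent.Lib.LocCohLES
import Groth.Agent.Lib.LocCohIndepBase
import Groth.Agent.Lib.H8DoubleLink
import Groth.Agent.Lib.H8ProjNormal
import Groth.Agent.Lib.H8CM8
import Groth.Agent.Lib.GrTor
import Groth.Agent.S0318

set_option autoImplicit false
universe u
open Liaison

namespace Groth.Agent.S18872

open Groth.Agent.Lib.LocCohLES in
/-- In a short exact sequence, vanishing of `H^j(M₂)` and `H^{j+1}(M₁)` gives vanishing of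
`H^j(M₃)`. -/
theorem subsingleton_H_three {R : Type u} [CommRing R] (I : Ideal R)
    {M₁ M₂ M₃ : Type u} [AddCommGroup M₁] [Module R M₁] [AddCommGroup M₂] [Module R M₂]
    [AddCommGroup M₃] [Module R M₃] (f : M₁ →ₗ[R] M₂) (g : M₂ →ₗ[R] M₃)
    (hf : Function.Injective f) (hfg : Function.Exact f g) (hg : Function.Surjective g) (j : ℕ)
    (h2 : Subsingleton (LocCoh.H I j M₂)) (h1 : Subsingleton (LocCoh.H I (j + 1) M₁)) :
    Subsingleton (LocCoh.H I j M₃) := by
  refine subsingleton_of_forall_eq 0 fun y => ?_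
  have hy : Hδ I f g hf hfg hg j y = 0 := Subsingleton.elim _ _
  obtain ⟨z, rfl⟩ := (exact₃ I f g hf hfg hg j y).1 hy
  rw [Subsingleton.elim z 0, map_zero]

open Groth.Agent.Lib.LocCohLES in
/-- In a short exact sequence, vanishing of `H^i(M₃)` and `H^{i-1}(M₃)` makes `H^i(f)`
bijective. -/
theorem Hmap_bijective_of_subsingleton {R : Type u} [CommRing R] (I : Ideal R)
    {M₁ M₂ M₃ : Type u} [AddCommGroup M₁] [Module R M₁] [AddCommGroup M₂] [Module R M₂]
    [AddCommGroup M₃] [Module R M₃] (f : M₁ →ₗ[R] M₂) (g : M₂ →ₗ[R] M₃)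
    (hf : Function.Injective f) (hfg : Function.Exact f g) (hg : Function.Surjective g) (i : ℕ)
    (h3 : ∀ j ≤ i, Subsingleton (LocCoh.H I j M₃)) :
    Function.Bijective (Hmap I f i) := by
  constructor
  · rcases Nat.eq_zero_or_pos i with rfl | hi
    · exact Hmap_zero_injective I f hf
    · obtain ⟨k, rfl⟩ : ∃ k, i = k + 1 := ⟨i - 1, by omega⟩
      rw [injective_iff_map_eq_zero]
      intro y hy
      obtain ⟨z, rfl⟩ := (exact₁ I f g hf hfg hg k y).1 hy
      haveI := h3 k (by omega)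
      rw [Subsingleton.elim z 0, map_zero]
  · intro y
    haveI := h3 i le_rfl
    have hy : Hmap I g i y = 0 := Subsingleton.elim _ _
    exact (exact₂ I f g hfg hf hg i y).1 hy

section poly

variable (K : Type u) [Field K] (n : ℕ)

/-- Local cohomology of a Cohen–Macaulay graded quotient of the polynomial ring vanishes below
its dimension. -/
theorem subsingleton_H_quot (h : ℕ) (J : Ideal (MvPolynomial (Fin (n + 1)) K))
    (hJ : J.IsHomogeneous (GrSyz.stdGr K (Fin (n + 1)))) (hJh : J.height = h)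
    [LocCoh.IsCohenMacaulayRing (MvPolynomial (Fin (n + 1)) K ⧸ J)] (j : ℕ) (hj : j + h < n + 1) :
    Subsingleton (LocCoh.H (GrSyz.irrel (GrSyz.stdGr K (Fin (n + 1)))).toIdeal j
      (MvPolynomial (Fin (n + 1)) K ⧸ J)) := by
  have hJne : J ≠ ⊤ := by
    rintro rfl
    rw [Ideal.height_top] at hJh
    exact ENat.top_ne_natCast h hJh
  rw [Groth.Agent.Lib.GrTor.irrel_eq_ker]
  set m := RingHom.ker (MvPolynomial.constantCoeff : MvPolynomial (Fin (n + 1)) K →+* K) with hm
  haveI hmmax : m.IsMaximal :=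
    RingHom.ker_isMaximal_of_surjective _ (fun a => ⟨MvPolynomial.C a, by simp⟩)
  have hJm : J ≤ m :=
    Groth.Agent.Lib.H8DoubleLink.le_ker_constantCoeff_of_isHomogeneous K (Fin (n + 1)) hJ hJne
  have hht := Groth.Agent.Lib.H8DoubleLink.height_eq_add_height_map K (n + 1) h J hJ hJh m hJm
  rw [Groth.Agent.Lib.H8ProjNormal.height_ker_constantCoeff] at hht
  set a : Ideal (MvPolynomial (Fin (n + 1)) K ⧸ J) :=
    m.map (algebraMap (MvPolynomial (Fin (n + 1)) K) (MvPolynomial (Fin (n + 1)) K ⧸ J)) with ha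
  have hah : a.height = ((n + 1 - h : ℕ) : ℕ∞) := by
    have hht' : ((n + 1 : ℕ) : ℕ∞) = (h : ℕ∞) + a.height := hht
    generalize a.height = x at hht'
    induction x using ENat.recTopCoe with
    | top => simp at hht'
    | coe c =>
      have : n + 1 = h + c := by exact_mod_cast hht'
      have : c = n + 1 - h := by omega
      rw [this]
  have hane : a ≠ ⊤ := by
    rintro h'
    rw [h', Ideal.height_top] at hah
    exact ENat.top_ne_natCast _ hah
  have hdep := Groth.Agent.Lib.H8CM.idealDepth_eq_height (R := MvPolynomial (Fin (n + 1)) K ⧸ J) hane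
  have hsub : Subsingleton (LocCoh.H a j (MvPolynomial (Fin (n + 1)) K ⧸ J)) :=
    Groth.Agent.S0318.subsingleton_H_of_lt a (MvPolynomial (Fin (n + 1)) K ⧸ J)
      (Groth.Agent.Lib.H8CM.smul_top_self_ne_top hane) (n + 1 - h)
      (by rw [hdep, hah]) j (by omega)
  obtain ⟨φ, -⟩ := Groth.Agent.Lib.LocCohIndepBase.indep_base
    (R := MvPolynomial (Fin (n + 1)) K) (R' := MvPolynomial (Fin (n + 1)) K ⧸ J) m j
    (MvPolynomial (Fin (n + 1)) K ⧸ J)
  exact φ.symm.injective.subsingleton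

end poly

section ses

variable {R : Type u} [CommRing R] (J : Ideal R) (f : R)

/-- multiplication by `f` on `R/J`. -/
noncomputable def mulJ : (R ⧸ J) →ₗ[R] (R ⧸ J) := LinearMap.lsmul R (R ⧸ J) f

/-- the projection `R/J → R/(J + (f))`. -/
noncomputable def projJ : (R ⧸ J) →ₗ[R] (R ⧸ (J ⊔ Ideal.span {f})) :=
  Submodule.mapQ J (J ⊔ Ideal.span {f}) LinearMap.id (by
    intro x hx
    rw [Submodule.mem_comap]
    exact Ideal.mem_sup_left hx)

theorem mulJ_mk (x : R) : mulJ J f (Ideal.Quotient.mk J x) = Ideal.Quotient.mk J (f * x) := rfl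

theorem projJ_mk (x : R) : projJ J f (Ideal.Quotient.mk J x) =
    Ideal.Quotient.mk (J ⊔ Ideal.span {f}) x := rfl

theorem mulJ_injective (hJf : J.colon {f} = J) : Function.Injective (mulJ J f) := by
  rw [injective_iff_map_eq_zero]
  intro a ha
  obtain ⟨a, rfl⟩ := Ideal.Quotient.mk_surjective a
  rw [mulJ_mk, Ideal.Quotient.eq_zero_iff_mem] at ha
  rw [Ideal.Quotient.eq_zero_iff_mem, ← hJf, Submodule.mem_colon_singleton, smul_eq_mul,
    mul_comm]
  exact ha

theorem projJ_surjective : Function.Surjective (projJ J f) := by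
  intro y
  obtain ⟨y, rfl⟩ := Ideal.Quotient.mk_surjective y
  exact ⟨Ideal.Quotient.mk J y, rfl⟩

theorem exact_mulJ_projJ : Function.Exact (mulJ J f) (projJ J f) := by
  intro y
  obtain ⟨y, rfl⟩ := Ideal.Quotient.mk_surjective y
  rw [projJ_mk, Ideal.Quotient.eq_zero_iff_mem]
  constructor
  · intro hy
    obtain ⟨j, hj, t, ht, hjt⟩ := Submodule.mem_sup.mp hy
    obtain ⟨a, rfl⟩ := Ideal.mem_span_singleton'.mp ht
    refine ⟨Ideal.Quotient.mk J a, ?_⟩
    rw [mulJ_mk, Ideal.Quotient.eq, ← hjt]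
    have : f * a - (j + a * f) = -j := by ring
    rw [this]
    exact J.neg_mem hj
  · rintro ⟨a, ha⟩
    obtain ⟨a, rfl⟩ := Ideal.Quotient.mk_surjective a
    rw [mulJ_mk, Ideal.Quotient.eq] at ha
    have h1 : f * a ∈ J ⊔ Ideal.span {f} :=
      Ideal.mem_sup_right (Ideal.mul_mem_right _ _ (Ideal.mem_span_singleton_self f))
    have h2 : f * a - y ∈ J ⊔ Ideal.span {f} := Ideal.mem_sup_left ha
    have : y = f * a - (f * a - y) := by ring
    rw [this]
    exact Ideal.sub_mem _ h1 h2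

theorem projMap_surjective (I : Ideal R) :
    Function.Surjective (Groth.Agent.Lib.H8DoubleLink.projMap J I f) := by
  intro y
  obtain ⟨y, rfl⟩ := Ideal.Quotient.mk_surjective y
  exact ⟨Ideal.Quotient.mk _ y, rfl⟩

end ses

/-- Let K be a field, R = K[x_0, …, x_n] graded by degree, and J ⊆ I ⊂ R homogeneous ideals with J ≠ 0,
height I = height J + 1 = h + 1 and R/J Cohen–Macaulay; let f ∈ R be homogeneous of degree d with J
: f = J, and put Ĩ = J + fI (the basic double link). Then for every i < n − h = dim R/I the local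
cohomology modules of R/Ĩ and of R/I with support in the irrelevant ideal 𝔪 = (x_0, …, x_n) are
isomorphic in degree i. (The graded statement is H^i_𝔪(R/Ĩ) ≅ H^i_𝔪(R/I)(−d); here only the
existence of an R-linear isomorphism of the underlying modules is asserted, the grading and the
shift by d being dropped.) -/
theorem result (K : Type u) [Field K] (n h : ℕ)
    (J I : Ideal (MvPolynomial (Fin (n + 1)) K))
    (hJ : J.IsHomogeneous (GrSyz.stdGr K (Fin (n + 1)))) (hI : I.IsHomogeneous (GrSyz.stdGr K (Fin (n + 1))))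
    (hJ0 : J ≠ ⊥) (hJI : J ≤ I) (hJh : J.height = h) (hIh : I.height = h + 1)
    [LocCoh.IsCohenMacaulayRing (MvPolynomial (Fin (n + 1)) K ⧸ J)]
    (f : MvPolynomial (Fin (n + 1)) K) (d : ℕ) (hf : f ∈ GrSyz.stdGr K (Fin (n + 1)) (d : ℤ)) (hJf : J.colon {f} = J) (i : ℕ) (hi : i + h < n) :
    Nonempty (LocCoh.H (GrSyz.irrel (GrSyz.stdGr K (Fin (n + 1)))).toIdeal i (MvPolynomial (Fin (n + 1)) K ⧸ (J ⊔ Ideal.span {f} * I)) ≃ₗ[MvPolynomial (Fin (n + 1)) K]
      LocCoh.H (GrSyz.irrel (GrSyz.stdGr K (Fin (n + 1)))).toIdeal i (MvPolynomial (Fin (n + 1)) K ⧸ I)) := by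
  have hv : ∀ j : ℕ, j + h < n →
      Subsingleton (LocCoh.H (GrSyz.irrel (GrSyz.stdGr K (Fin (n + 1)))).toIdeal j
        (MvPolynomial (Fin (n + 1)) K ⧸ (J ⊔ Ideal.span {f}))) := by
    intro j hj
    exact subsingleton_H_three _ (mulJ J f) (projJ J f) (mulJ_injective J f hJf)
      (exact_mulJ_projJ J f) (projJ_surjective J f) j
      (subsingleton_H_quot K n h J hJ hJh j (by omega))
      (subsingleton_H_quot K n h J hJ hJh (j + 1) (by omega))
  have hbij := Hmap_bijective_of_subsingleton (GrSyz.irrel (GrSyz.stdGr K (Fin (n + 1)))).toIdeal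
    (Groth.Agent.Lib.H8DoubleLink.mulMap J I f) (Groth.Agent.Lib.H8DoubleLink.projMap J I f)
    (Groth.Agent.Lib.H8DoubleLink.mulMap_injective hJI hJf)
    Groth.Agent.Lib.H8DoubleLink.exact_mulMap_projMap (projMap_surjective J f I) i
    (fun j hj => hv j (by omega))
  exact ⟨(LinearEquiv.ofBijective _ hbij).symm⟩

end Groth.Agent.S18872
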