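import Groth.Statements.S18873
import Mathlib
import Groth.Agent.Lib.HilbFilt7b
import Groth.Agent.Lib.GorLink7
import Groth.Agent.Lib.H8Liaison2
import Groth.Agent.Lib.HilbDiff99
import Groth.Agent.S14440

set_option autoImplicit false
universe u
open Liaison

namespace Groth.Agent.S18873

section helpers

open Polynomial Groth.Agent.Lib.HilbFilt7

variable {K : Type u} [Field K] {n : ℕ}

theorem stdGr_eq (j : ℕ) :
    GrSyz.stdGr K (Fin (n + 1)) (j : ℤ) = CohB1.polyGrading n K j := by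
  ext p
  rw [Groth.Agent.Lib.HilbDim7.mem_stdGr_natCast]
  rfl

theorem homog_of_std {I : Ideal (MvPolynomial (Fin (n + 1)) K)}
    (h : I.IsHomogeneous (GrSyz.stdGr K (Fin (n + 1)))) :
    I.IsHomogeneous (CohB1.polyGrading n K) := by
  obtain ⟨S, rfl⟩ := (Ideal.IsHomogeneous.iff_exists _ _).mp h
  apply Ideal.homogeneous_span
  rintro _ ⟨x, -, rfl⟩
  obtain ⟨i, hi⟩ := x.2
  rcases lt_or_ge i 0 with hneg | hpos
  · rw [Groth.Agent.Lib.HilbDim7.stdGr_neg K n i hneg, Submodule.mem_bot] at hi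
    exact ⟨0, by rw [hi]; exact Submodule.zero_mem _⟩
  · obtain ⟨m, rfl⟩ := Int.eq_ofNat_of_zero_le hpos
    exact ⟨m, by rw [← stdGr_eq]; exact hi⟩

theorem homog_colon {𝔠 I : Ideal (MvPolynomial (Fin (n + 1)) K)}
    (h𝔠 : 𝔠.IsHomogeneous (CohB1.polyGrading n K)) (hI : I.IsHomogeneous (CohB1.polyGrading n K)) :
    (𝔠.colon (I : Set (MvPolynomial (Fin (n + 1)) K))).IsHomogeneous (CohB1.polyGrading n K) := by
  obtain ⟨S, rfl⟩ := (Ideal.IsHomogeneous.iff_exists _ _).mp hI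
  rw [Ideal.colon_span, ← Set.biUnion_of_singleton (Subtype.val '' S), Submodule.colon_iUnion]
  apply Ideal.IsHomogeneous.iInf
  intro x
  rw [Submodule.colon_iUnion]
  apply Ideal.IsHomogeneous.iInf
  rintro ⟨y, -, rfl⟩
  obtain ⟨a, ha⟩ := y.2
  exact isHomogeneous_colon h𝔠 (a := a) ha

theorem finrank_map_eq (𝔞 : Ideal (MvPolynomial (Fin (n + 1)) K)) (j : ℕ) :
    (Module.finrank K ↥(Submodule.map (Ideal.Quotient.mkₐ K 𝔞).toLinearMap
      (GrSyz.stdGr K (Fin (n + 1)) (j : ℤ))) : ℤ) = hf 𝔞 j := by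
  rw [stdGr_eq]
  haveI : FiniteDimensional K ↥(CohB1.polyGrading n K j) := finite_piece j
  have h1 := LinearMap.finrank_range_add_finrank_ker
    ((Ideal.Quotient.mkₐ K 𝔞).toLinearMap.domRestrict (CohB1.polyGrading n K j))
  rw [LinearMap.range_domRestrict] at h1
  have hker : LinearMap.ker
      ((Ideal.Quotient.mkₐ K 𝔞).toLinearMap.domRestrict (CohB1.polyGrading n K j)) =
      Submodule.comap (CohB1.polyGrading n K j).subtype
        (Submodule.restrictScalars K 𝔞 ⊓ CohB1.polyGrading n K j) := by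
    ext p
    rw [LinearMap.mem_ker, Submodule.mem_comap, Submodule.mem_inf]
    constructor
    · intro h
      exact ⟨Ideal.Quotient.eq_zero_iff_mem.mp h, p.2⟩
    · rintro ⟨h, -⟩
      exact Ideal.Quotient.eq_zero_iff_mem.mpr h
  rw [hker, (Submodule.comapSubtypeEquivOfLe (inf_le_right :
      Submodule.restrictScalars K 𝔞 ⊓ CohB1.polyGrading n K j ≤
        CohB1.polyGrading n K j)).finrank_eq] at h1
  unfold Groth.Agent.Lib.HilbFilt7.hf
  omega

theorem isHP_of_hyp (𝔞 : Ideal (MvPolynomial (Fin (n + 1)) K)) (Q : ℚ[X])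
    (h : ∃ j₀ : ℕ, ∀ j : ℕ, j₀ ≤ j → (Module.finrank K ↥(Submodule.map
      (Ideal.Quotient.mkₐ K 𝔞).toLinearMap (GrSyz.stdGr K (Fin (n + 1)) (j : ℤ))) : ℚ) =
        Q.eval (j : ℚ)) : IsHP 𝔞 Q := by
  obtain ⟨j₀, hj⟩ := h
  refine ⟨j₀, fun j hjj => ?_⟩
  rw [← hj j hjj, ← finrank_map_eq]
  push_cast
  rfl

/-- the coefficient formula: for homogeneous `𝔞 ⊇ 𝔠`, where all minimal primes of `𝔠` have
`dim = t + 1`, the coefficient of `X^t` of the Hilbert polynomial of `𝔞` is the sum over the minimal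
primes `P` of `𝔠` of (local length of `S/𝔞` at `P`) times (coefficient of `X^t` of the Hilbert
polynomial of `P`). -/
theorem coeff_formula (𝔠 : Ideal (MvPolynomial (Fin (n + 1)) K))
    (h𝔠h : 𝔠.IsHomogeneous (CohB1.polyGrading n K)) (t : ℕ)
    (hmin : ∀ Q ∈ 𝔠.minimalPrimes,
      ringKrullDim (MvPolynomial (Fin (n + 1)) K ⧸ Q) = ((t + 1 : ℕ) : WithBot ℕ∞))
    (Mfin : Finset (PrimeSpectrum (MvPolynomial (Fin (n + 1)) K)))
    (hM : ∀ P, P ∈ Mfin ↔ P.asIdeal ∈ 𝔠.minimalPrimes)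
    (e : PrimeSpectrum (MvPolynomial (Fin (n + 1)) K) → ℚ[X])
    (he : ∀ P ∈ Mfin, IsHP P.asIdeal (e P))
    (𝔞 : Ideal (MvPolynomial (Fin (n + 1)) K)) (h𝔞h : 𝔞.IsHomogeneous (CohB1.polyGrading n K))
    (h𝔠𝔞 : 𝔠 ≤ 𝔞) (Q : ℚ[X]) (hQ : IsHP 𝔞 Q) :
    (∀ P ∈ Mfin, ll 𝔞 P ≠ ⊤) ∧
      Q.coeff t = ∑ P ∈ Mfin, ((ll 𝔞 P).toNat : ℚ) * (e P).coeff t := by
  classical
  by_cases h𝔞 : 𝔞 = ⊤
  · subst h𝔞
    have hQ0 : Q = 0 := hQ.unique isHP_top
    refine ⟨fun P _ => by rw [ll_top]; exact ENat.zero_ne_top, ?_⟩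
    rw [hQ0, coeff_zero]
    symm
    apply Finset.sum_eq_zero
    intro P _
    rw [ll_top]
    simp
  · obtain ⟨s, q, a, hq, hhf, hll⟩ := exists_filt_fin 𝔞 h𝔞h
    choose Qj hQj using fun j => exists_isHP (q j) (hq j).2.1
    have c1 : Q = ∑ j, (Qj j).comp (X - C ((a j : ℕ) : ℚ)) := by
      obtain ⟨m₀, hm₀⟩ := hQ
      choose mj hmj using hQj
      apply poly_eq_of_eventually (m₀ + ∑ j, (a j + mj j))
      intro m hm
      have hbound : ∀ j, a j + mj j ≤ m := fun j =>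
        le_trans (Finset.single_le_sum (f := fun j => a j + mj j) (fun _ _ => Nat.zero_le _)
          (Finset.mem_univ j)) (by omega)
      rw [hm₀ m (by omega), hhf m (fun j => by have := hbound j; omega), eval_finsetSum]
      push_cast
      apply Finset.sum_congr rfl
      intro j _
      have h1 : a j ≤ m := by have := hbound j; omega
      rw [eval_comp, eval_sub, eval_X, eval_C, ← Nat.cast_sub h1,
        hmj j (m - a j) (by have := hbound j; omega)]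
    -- dimension data of the `q j`
    have hdimj : ∀ j, ∃ P' ∈ 𝔠.minimalPrimes, P' ≤ q j := fun j => by
      haveI := (hq j).1
      exact Ideal.exists_minimalPrimes_le (h𝔠𝔞.trans (hq j).2.2)
    have hdeg : ∀ j, (Qj j).natDegree ≤ t := fun j => by
      obtain ⟨P', hP', hle⟩ := hdimj j
      obtain ⟨d, hd, hd0, hd1⟩ := (hQj j).dim (hq j).2.1 (hq j).1.ne_top
      have h2 := dim_mono hle
      rw [hd, hmin P' hP'] at h2
      have h3 : d ≤ t + 1 := by exact_mod_cast h2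
      rcases Nat.eq_zero_or_pos d with h0 | h0
      · rw [hd0 h0]
        simp
      · have := hd1 h0
        omega
    have c2 : Q.coeff t = ∑ j, (Qj j).coeff t := by
      conv_lhs => rw [c1]
      rw [finsetSum_coeff]
      apply Finset.sum_congr rfl
      intro j _
      have : (X - C ((a j : ℕ) : ℚ) : ℚ[X]) = X + C (-((a j : ℕ) : ℚ)) := by
        rw [C_neg, sub_eq_add_neg]
      rw [this, Groth.Agent.Lib.HilbDiff99.coeff_comp_ge _ _ _ (hdeg j)]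
    have c3 : ∀ j, (Qj j).coeff t =
        ∑ P ∈ Mfin, if q j = P.asIdeal then (e P).coeff t else 0 := by
      intro j
      haveI := (hq j).1
      by_cases hjm : q j ∈ 𝔠.minimalPrimes
      · obtain ⟨P₀, hP₀a⟩ : ∃ P₀ : PrimeSpectrum (MvPolynomial (Fin (n + 1)) K),
            P₀.asIdeal = q j := ⟨⟨q j, (hq j).1⟩, rfl⟩
        have hP₀ : P₀ ∈ Mfin := (hM _).mpr (hP₀a ▸ hjm)
        rw [Finset.sum_eq_single P₀]
        · rw [if_pos hP₀a.symm]
          have h1 : IsHP (q j) (e P₀) := hP₀a ▸ he _ hP₀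
          rw [(hQj j).unique h1]
        · intro P _ hne
          rw [if_neg]
          intro h
          exact hne (PrimeSpectrum.ext (h.symm.trans hP₀a.symm))
        · intro h
          exact absurd hP₀ h
      · rw [Finset.sum_eq_zero]
        · obtain ⟨P', hP', hle⟩ := hdimj j
          haveI := hP'.1.1
          have hlt : P' < q j := lt_of_le_of_ne hle (fun h => hjm (h ▸ hP'))
          obtain ⟨d, hd, hd0, hd1⟩ := (hQj j).dim (hq j).2.1 (hq j).1.ne_top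
          have h2 := Groth.Agent.S12212.dim_succ_le P' (q j) hlt
          rw [hd, hmin P' hP'] at h2
          have h3 : d + 1 ≤ t + 1 := by exact_mod_cast h2
          rcases Nat.eq_zero_or_pos d with h0 | h0
          · rw [hd0 h0, coeff_zero]
          · apply coeff_eq_zero_of_natDegree_lt
            have := hd1 h0
            omega
        · intro P hP
          rw [if_neg]
          intro h
          exact hjm (h ▸ (hM P).mp hP)
    have c4 : ∀ P ∈ Mfin, ll 𝔞 P = ∑ j, if q j = P.asIdeal then (1 : ℕ∞) else 0 := by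
      intro P hP
      rw [hll]
      apply Finset.sum_congr rfl
      intro j _
      split_ifs with h
      · rw [h]
        exact ll_self P
      · apply ll_eq_zero_of_not_le
        intro hle
        apply h
        haveI := (hq j).1
        have := ((hM P).mp hP).2 ⟨(hq j).1, h𝔠𝔞.trans (hq j).2.2⟩ hle
        exact le_antisymm hle this
    let cnt : PrimeSpectrum (MvPolynomial (Fin (n + 1)) K) → ℕ :=
      fun P => (Finset.univ.filter (fun j => q j = P.asIdeal)).card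
    have c4' : ∀ P ∈ Mfin, ll 𝔞 P = (cnt P : ℕ∞) := by
      intro P hP
      rw [c4 P hP, Finset.sum_boole]
    refine ⟨fun P hP => by rw [c4' P hP]; exact ENat.coe_ne_top _, ?_⟩
    rw [c2]
    simp_rw [c3]
    rw [Finset.sum_comm]
    apply Finset.sum_congr rfl
    intro P hP
    rw [c4' P hP, ENat.toNat_coe, ← Finset.sum_filter, Finset.sum_const, nsmul_eq_mul]

theorem main (K : Type u) [Field K] (n c : ℕ) (hc : 2 ≤ c) (hcn : c ≤ n)
    (𝔠 I : Ideal (MvPolynomial (Fin (n + 1)) K))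
    (h𝔠 : 𝔠.IsHomogeneous (GrSyz.stdGr K (Fin (n + 1)))) (hI : I.IsHomogeneous (GrSyz.stdGr K (Fin (n + 1))))
    [LocCoh.IsGorensteinRing (MvPolynomial (Fin (n + 1)) K ⧸ 𝔠)] (h𝔠c : 𝔠.height = c) (hIc : I.height = c) (h𝔠I : 𝔠 ≤ I)
    (p𝔠 pI pJ : Polynomial ℚ)
    (hp𝔠 : ∃ j₀ : ℕ, ∀ j : ℕ, j₀ ≤ j → (Module.finrank K ↥(Submodule.map (Ideal.Quotient.mkₐ K (𝔠)).toLinearMap (GrSyz.stdGr K (Fin (n + 1)) (j : ℤ))) : ℚ) = p𝔠.eval (j : ℚ))
    (hpI : ∃ j₀ : ℕ, ∀ j : ℕ, j₀ ≤ j → (Module.finrank K ↥(Submodule.map (Ideal.Quotient.mkₐ K (I)).toLinearMap (GrSyz.stdGr K (Fin (n + 1)) (j : ℤ))) : ℚ) = pI.eval (j : ℚ))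
    (hpJ : ∃ j₀ : ℕ, ∀ j : ℕ, j₀ ≤ j → (Module.finrank K ↥(Submodule.map (Ideal.Quotient.mkₐ K (𝔠.colon (I : Set (MvPolynomial (Fin (n + 1)) K)))).toLinearMap (GrSyz.stdGr K (Fin (n + 1)) (j : ℤ))) : ℚ) = pJ.eval (j : ℚ)) :
    pJ.coeff (n - c) = p𝔠.coeff (n - c) - pI.coeff (n - c) := by
  classical
  have h𝔠h := homog_of_std h𝔠
  have hIh := homog_of_std hI
  have hJh := homog_colon h𝔠h hIh
  haveI : LocCoh.IsCohenMacaulayRing (MvPolynomial (Fin (n + 1)) K ⧸ 𝔠) :=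
    Groth.Agent.Lib.H8Liaison.isCMRing_of_isGorensteinRing _
  have H𝔠 := isHP_of_hyp 𝔠 p𝔠 hp𝔠
  have HI := isHP_of_hyp I pI hpI
  have HJ := isHP_of_hyp _ pJ hpJ
  set t := n - c with ht
  have hmin : ∀ Q ∈ 𝔠.minimalPrimes,
      ringKrullDim (MvPolynomial (Fin (n + 1)) K ⧸ Q) = ((t + 1 : ℕ) : WithBot ℕ∞) := by
    intro Q hQ
    haveI := hQ.1.1
    have h1 := Groth.Agent.Lib.H8Liaison.height_eq_of_mem_minimalPrimes K (n + 1) c 𝔠 h𝔠 h𝔠c hQ
    obtain ⟨d, hd⟩ := Groth.Agent.S14440.exists_nat_dim Q hQ.1.1.ne_top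
    obtain ⟨h2, h3⟩ := Groth.Agent.S14440.height_prime Q d hd
    rw [h1] at h2
    have h4 : c = n + 1 - d := by exact_mod_cast h2
    rw [hd]
    have : d = t + 1 := by omega
    rw [this]
  have hfin : {P : PrimeSpectrum (MvPolynomial (Fin (n + 1)) K) |
      P.asIdeal ∈ 𝔠.minimalPrimes}.Finite := by
    have h1 := Ideal.finite_minimalPrimes_of_isNoetherianRing (MvPolynomial (Fin (n + 1)) K) 𝔠
    exact h1.preimage (fun P _ P' _ h => PrimeSpectrum.ext h)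
  set Mfin := hfin.toFinset with hMfin
  have hM : ∀ P, P ∈ Mfin ↔ P.asIdeal ∈ 𝔠.minimalPrimes := fun P => by
    rw [hMfin, Set.Finite.mem_toFinset]
    rfl
  have hex : ∀ P : PrimeSpectrum (MvPolynomial (Fin (n + 1)) K), ∃ Q : ℚ[X],
      P ∈ Mfin → IsHP P.asIdeal Q := by
    intro P
    by_cases hP : P ∈ Mfin
    · obtain ⟨Q, hQ⟩ := exists_isHP P.asIdeal
        (Groth.Agent.S10915.isHomogeneous_of_mem_minimalPrimes h𝔠h ((hM P).mp hP))
      exact ⟨Q, fun _ => hQ⟩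
    · exact ⟨0, fun h => absurd h hP⟩
  choose e he using hex
  obtain ⟨f𝔠, F𝔠⟩ := coeff_formula 𝔠 h𝔠h t hmin Mfin hM e he 𝔠 h𝔠h le_rfl p𝔠 H𝔠
  obtain ⟨fI, FI⟩ := coeff_formula 𝔠 h𝔠h t hmin Mfin hM e he I hIh h𝔠I pI HI
  obtain ⟨fJ, FJ⟩ := coeff_formula 𝔠 h𝔠h t hmin Mfin hM e he _ hJh Ideal.le_colon pJ HJ
  have hloc : ∀ P ∈ Mfin, ll 𝔠 P = ll I P + ll (𝔠.colon (I : Set (MvPolynomial (Fin (n + 1)) K))) P := by
    intro P hP
    have hPmin := (hM P).mp hP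
    have h𝔠P : 𝔠 ≤ P.asIdeal := hPmin.1.2
    have h1 := Groth.Agent.Lib.H8DoubleLink.height_eq_add_height_map K (n + 1) c 𝔠 h𝔠 h𝔠c
      P.asIdeal h𝔠P
    rw [Groth.Agent.Lib.H8Liaison.height_eq_of_mem_minimalPrimes K (n + 1) c 𝔠 h𝔠 h𝔠c hPmin] at h1
    have h2 : ((c : ℕ) : ℕ∞) + 0 = (c : ℕ∞) + (P.asIdeal.map (Ideal.Quotient.mk 𝔠)).height := by
      rw [add_zero]; exact h1
    have hht : (P.asIdeal.map (Ideal.Quotient.mk 𝔠)).height = 0 :=
      ((ENat.add_right_injective_of_ne_top (ENat.coe_ne_top c)) h2).symm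
    exact Groth.Agent.Lib.GorLink7.length_link 𝔠 I P.asIdeal h𝔠P hht h𝔠I
  rw [FJ, F𝔠, FI, ← Finset.sum_sub_distrib]
  apply Finset.sum_congr rfl
  intro P hP
  rw [hloc P hP, ENat.toNat_add (fI P hP) (fJ P hP)]
  push_cast
  ring

end helpers

/-- Let K be a field, R = K[x_0, …, x_n] graded by degree, 2 ≤ c ≤ n, 𝔠 ⊂ R a homogeneous ideal of
height c such that R/𝔠 is a Gorenstein ring, I ⊂ R a homogeneous ideal of height c containing 𝔠, and
J = 𝔠 : I. Write h_𝔞(j) = dim_K [R/𝔞]_j for the Hilbert function of R/𝔞. If p_𝔠, p_I, p_J ∈ ℚ[t] are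
polynomials agreeing with h_𝔠, h_I, h_J in all sufficiently large degrees (Hilbert polynomials; R/𝔠
and R/I have dimension n + 1 − c ≥ 1, and so has R/J unless I = 𝔠, when J = R and p_J = 0), then the
coefficients of t^(n−c) satisfy p_J = p_𝔠 − p_I in that degree; multiplying by (n − c)! this says
deg J = deg 𝔠 − deg I. -/
theorem result (K : Type u) [Field K] (n c : ℕ) (hc : 2 ≤ c) (hcn : c ≤ n)
    (𝔠 I : Ideal (MvPolynomial (Fin (n + 1)) K))
    (h𝔠 : 𝔠.IsHomogeneous (GrSyz.stdGr K (Fin (n + 1)))) (hI : I.IsHomogeneous (GrSyz.stdGr K (Fin (n + 1))))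
    [LocCoh.IsGorensteinRing (MvPolynomial (Fin (n + 1)) K ⧸ 𝔠)] (h𝔠c : 𝔠.height = c) (hIc : I.height = c) (h𝔠I : 𝔠 ≤ I)
    (p𝔠 pI pJ : Polynomial ℚ)
    (hp𝔠 : ∃ j₀ : ℕ, ∀ j : ℕ, j₀ ≤ j → (Module.finrank K ↥(Submodule.map (Ideal.Quotient.mkₐ K (𝔠)).toLinearMap (GrSyz.stdGr K (Fin (n + 1)) (j : ℤ))) : ℚ) = p𝔠.eval (j : ℚ))
    (hpI : ∃ j₀ : ℕ, ∀ j : ℕ, j₀ ≤ j → (Module.finrank K ↥(Submodule.map (Ideal.Quotient.mkₐ K (I)).toLinearMap (GrSyz.stdGr K (Fin (n + 1)) (j : ℤ))) : ℚ) = pI.eval (j : ℚ))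
    (hpJ : ∃ j₀ : ℕ, ∀ j : ℕ, j₀ ≤ j → (Module.finrank K ↥(Submodule.map (Ideal.Quotient.mkₐ K (𝔠.colon (I : Set (MvPolynomial (Fin (n + 1)) K)))).toLinearMap (GrSyz.stdGr K (Fin (n + 1)) (j : ℤ))) : ℚ) = pJ.eval (j : ℚ)) :
    pJ.coeff (n - c) = p𝔠.coeff (n - c) - pI.coeff (n - c) := by
  exact main K n c hc hcn 𝔠 I h𝔠 hI h𝔠c hIc h𝔠I p𝔠 pI pJ hp𝔠 hpI hpJ

end Groth.Agent.S18873
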