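import Groth.Statements.S18879
import Groth.Agent.S0554
import Groth.Agent.Lib.DimIneqScheme

set_option autoImplicit false
universe u
open CategoryTheory AlgebraicGeometry
open Resolve

namespace Groth.Agent.S18879

/-- Let f : Y ⟶ X be a morphism locally of finite type between Noetherian separated schemes which is
birational: it maps the maximal points of Y bijectively onto the maximal points of X, and over every
maximal point of X its fibre is one point with the same residue field. Then for every point y of Y,
the Krull dimension of the local ring of Y at y is at most the Krull dimension of the local ring of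
X at f y (the codimension of a point does not increase along f). -/
theorem result {X Y : Scheme.{u}} (f : Y ⟶ X)
    [IsNoetherian X] [X.IsSeparated] [IsNoetherian Y] [Y.IsSeparated] [LocallyOfFiniteType f]
    (hf : RadPt.IsBirational f) (y : Y) :
    ringKrullDim (Y.presheaf.stalk y) ≤ ringKrullDim (X.presheaf.stalk (f.base y)) := by
  have H : Groth.Agent.Lib.DimIneqCore.DimIneq.{u} :=
    fun R _ _ _ S _ _ _ _ _ p _ q _ _ => Groth.Agent.S0554.result R S p q
  obtain ⟨a, b, ha, hb, hineq⟩ := Groth.Agent.Lib.DimIneqScheme.stalk_ineq f H y
    (0 : Cardinal.{u}) (fun ξ h1 _ => by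
      letI := (f.residueFieldMap ξ).hom.toAlgebra
      have hξ : ξ ∈ genericPoints Y := h1
      have hfξ : f ξ ∈ genericPoints X := hf.1.mapsTo hξ
      have hbij : Function.Bijective (f.residueFieldMap ξ).hom := (hf.2 (f ξ) hfξ).2 ξ rfl
      have halg : Algebra.IsAlgebraic (X.residueField (f ξ)) (Y.residueField ξ) := by
        refine ⟨fun z => ?_⟩
        obtain ⟨w, rfl⟩ := hbij.2 z
        exact isAlgebraic_algebraMap w
      rw [trdeg_eq_zero])
  have h1 : (a : Cardinal.{u}) ≤ b + 0 := le_trans (le_add_right le_rfl) hineq
  rw [add_zero] at h1
  have h2 : a ≤ b := by exact_mod_cast h1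
  have hb' : ringKrullDim (X.presheaf.stalk (f.base y)) = b := hb
  rw [ha, hb']
  exact_mod_cast h2

end Groth.Agent.S18879
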