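import Groth.Statements.S1888

set_option autoImplicit false
universe u
open CategoryTheory CategoryTheory.Limits AlgebraicGeometry
open Grpd

namespace Groth.Agent.S1888

section aux

variable {S : Scheme.{u}} (G : Grpd.GroupoidScheme S)

attribute [local simp] pullback.lift_fst pullback.lift_snd pullback.lift_fst_assoc
  pullback.lift_snd_assoc

/-- composition on T-valued points -/
noncomputable def cmp {T : Scheme.{u}} (α β : T ⟶ G.R) (h : α ≫ G.s = β ≫ G.t) : T ⟶ G.R :=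
  pullback.lift α β h ≫ G.c

lemma cmp_congr {T : Scheme.{u}} {α α' β β' : T ⟶ G.R} (hα : α = α') (hβ : β = β')
    (h : α ≫ G.s = β ≫ G.t) (h' : α' ≫ G.s = β' ≫ G.t) :
    cmp G α β h = cmp G α' β' h' := by
  subst hα hβ; rfl

lemma precomp_cmp {T T' : Scheme.{u}} (f : T' ⟶ T) (α β : T ⟶ G.R) (h : α ≫ G.s = β ≫ G.t) :
    f ≫ cmp G α β h = cmp G (f ≫ α) (f ≫ β) (by rw [Category.assoc, Category.assoc, h]) := by
  unfold cmp
  rw [← Category.assoc]
  congr 1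
  apply pullback.hom_ext <;> simp

lemma cmp_s {T : Scheme.{u}} (α β : T ⟶ G.R) (h : α ≫ G.s = β ≫ G.t) :
    cmp G α β h ≫ G.s = β ≫ G.s := G.comp_s α β h

lemma cmp_t {T : Scheme.{u}} (α β : T ⟶ G.R) (h : α ≫ G.s = β ≫ G.t) :
    cmp G α β h ≫ G.t = α ≫ G.t := G.comp_t α β h

lemma cmp_assoc {T : Scheme.{u}} (α β γ : T ⟶ G.R) (h₁ : α ≫ G.s = β ≫ G.t)
    (h₂ : β ≫ G.s = γ ≫ G.t) :
    cmp G (cmp G α β h₁) γ ((cmp_s G α β h₁).trans h₂) =
      cmp G α (cmp G β γ h₂) (h₁.trans (cmp_t G β γ h₂).symm) :=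
  G.assoc α β γ h₁ h₂

/-- left translation by a T-point `a` over `t` -/
noncomputable def ltr (a : G.R ⟶ G.R) (ha : a ≫ G.s = G.t) : G.R ⟶ G.R :=
  cmp G a (𝟙 _) (by rw [ha, Category.id_comp])

lemma ltr_t (a : G.R ⟶ G.R) (ha : a ≫ G.s = G.t) : ltr G a ha ≫ G.t = a ≫ G.t := cmp_t G _ _ _

lemma e_ltr_id : cmp G (G.t ≫ G.e) (𝟙 G.R)
    (by rw [Category.assoc, G.e_s, Category.comp_id, Category.id_comp]) = 𝟙 _ := by
  have := G.e_comp (𝟙 G.R)
  refine Eq.trans ?_ this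
  exact cmp_congr G (by simp) rfl _ _

/-- the composite of two left translations is the identity when `b` after `a` is the inverse -/
lemma ltr_comp (a b : G.R ⟶ G.R) (ha : a ≫ G.s = G.t) (hb : b ≫ G.s = G.t)
    (hab : (ltr G a ha ≫ b) ≫ G.s = a ≫ G.t)
    (h : cmp G (ltr G a ha ≫ b) a hab = G.t ≫ G.e) :
    ltr G a ha ≫ ltr G b hb = 𝟙 _ := by
  unfold ltr at h hab ⊢
  rw [precomp_cmp]
  have h1 := cmp_assoc G (cmp G a (𝟙 G.R) (by rw [ha, Category.id_comp]) ≫ b) a (𝟙 G.R) hab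
    (by rw [ha, Category.id_comp])
  rw [cmp_congr G (α' := cmp G a (𝟙 G.R) (by rw [ha, Category.id_comp]) ≫ b)
    (β' := cmp G a (𝟙 G.R) (by rw [ha, Category.id_comp])) rfl (by simp) _
    (by rw [hab, cmp_t])]
  rw [← h1]
  rw [cmp_congr G h rfl _ (by rw [Category.assoc, G.e_s, Category.comp_id, Category.id_comp])]
  exact e_ltr_id G

lemma e_ltr (ρ : G.U ⟶ G.R) (hρ : ρ ≫ G.s = 𝟙 _) :
    G.e ≫ ltr G (G.t ≫ ρ) (by rw [Category.assoc, hρ, Category.comp_id]) = ρ := by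
  unfold ltr
  rw [precomp_cmp]
  have := G.comp_e ρ
  refine Eq.trans ?_ this
  refine cmp_congr G ?_ ?_ _ _
  · rw [← Category.assoc, G.e_t, Category.id_comp]
  · rw [← Category.assoc, hρ, Category.id_comp, Category.comp_id]

lemma isIso_fromSpecResidueField_of_field (k : Type u) [Field k]
    (x : Spec (CommRingCat.of k)) :
    IsIso ((Spec (CommRingCat.of k)).fromSpecResidueField x) := by
  rw [← Scheme.Spec.map_residueFieldIso_inv_eq_fromSpecResidueField]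
  have : IsIso (CommRingCat.ofHom (algebraMap (CommRingCat.of k) x.asIdeal.ResidueField)) := by
    refine (ConcreteCategory.isIso_iff_bijective _).mpr ?_
    exact (x.asIdeal.algEquivResidueFieldOfField).bijective
  infer_instance

lemma isIso_fromSpecResidueField {U : Scheme.{u}} (k : Type u) [Field k]
    (eU : U ≅ Spec (CommRingCat.of k)) (x : U) :
    IsIso (U.fromSpecResidueField x) := by
  have h := Scheme.Hom.SpecMap_residueFieldMap_fromSpecResidueField eU.hom x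
  have h1 := isIso_fromSpecResidueField_of_field k (eU.hom x)
  have h2 : IsIso (U.fromSpecResidueField x ≫ eU.hom) := by
    rw [← h]; infer_instance
  exact IsIso.of_isIso_comp_right _ eU.hom

end aux

theorem result (S : Scheme.{u}) (G : Grpd.GroupoidScheme S) (k : Type u) [Field k] (eU : G.U ≅ Spec (CommRingCat.of k)) (r : G.R) (hs : IsIso (G.s.residueFieldMap r)) (ht : IsIso (G.t.residueFieldMap r)) : ∃ φ : G.R ≅ G.R, φ.hom (G.e (eU.inv (IsLocalRing.closedPoint k))) = r := by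
  have hσ : IsIso (G.R.fromSpecResidueField r ≫ G.s) := by
    rw [← Scheme.Hom.SpecMap_residueFieldMap_fromSpecResidueField]
    have := isIso_fromSpecResidueField k eU (G.s r)
    infer_instance
  have hτ₀ : IsIso (G.R.fromSpecResidueField r ≫ G.t) := by
    rw [← Scheme.Hom.SpecMap_residueFieldMap_fromSpecResidueField]
    have := isIso_fromSpecResidueField k eU (G.t r)
    infer_instance
  set ρ : G.U ⟶ G.R := inv (G.R.fromSpecResidueField r ≫ G.s) ≫ G.R.fromSpecResidueField r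
    with hρdef
  have hρs : ρ ≫ G.s = 𝟙 _ := by
    rw [hρdef, Category.assoc, IsIso.inv_hom_id]
  have hτ : IsIso (ρ ≫ G.t) := by
    rw [hρdef, Category.assoc]; infer_instance
  have ha : (G.t ≫ ρ) ≫ G.s = G.t := by rw [Category.assoc, hρs, Category.comp_id]
  have hb : (G.t ≫ inv (ρ ≫ G.t) ≫ ρ ≫ G.i) ≫ G.s = G.t := by
    simp only [Category.assoc, G.i_s, IsIso.inv_hom_id, Category.comp_id]
  have hab1 : ltr G (G.t ≫ ρ) ha ≫ (G.t ≫ inv (ρ ≫ G.t) ≫ ρ ≫ G.i) = (G.t ≫ ρ) ≫ G.i := by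
    rw [← Category.assoc, ltr_t]
    simp only [Category.assoc, IsIso.hom_inv_id_assoc]
  have hba1 : ltr G (G.t ≫ inv (ρ ≫ G.t) ≫ ρ ≫ G.i) hb ≫ (G.t ≫ ρ) =
      G.t ≫ inv (ρ ≫ G.t) ≫ ρ := by
    rw [← Category.assoc, ltr_t]
    simp only [Category.assoc, G.i_t, reassoc_of% hρs]
  have h1 : ltr G (G.t ≫ ρ) ha ≫ ltr G (G.t ≫ inv (ρ ≫ G.t) ≫ ρ ≫ G.i) hb = 𝟙 _ := by
    refine ltr_comp G _ _ ha hb (by rw [hab1, Category.assoc, G.i_s]) ?_
    have := G.i_comp (G.t ≫ ρ)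
    have h0 : (G.t ≫ ρ) ≫ G.s ≫ G.e = G.t ≫ G.e := by rw [← Category.assoc, ha]
    rw [h0] at this
    refine Eq.trans ?_ this
    exact cmp_congr G hab1 rfl _ _
  have h2 : ltr G (G.t ≫ inv (ρ ≫ G.t) ≫ ρ ≫ G.i) hb ≫ ltr G (G.t ≫ ρ) ha = 𝟙 _ := by
    refine ltr_comp G _ _ hb ha (by rw [hba1]; simp only [Category.assoc, G.i_t, hρs]) ?_
    have := G.comp_i (G.t ≫ inv (ρ ≫ G.t) ≫ ρ)
    have h3 : (G.t ≫ inv (ρ ≫ G.t) ≫ ρ) ≫ G.t ≫ G.e = G.t ≫ G.e := by
      simp only [Category.assoc]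
      rw [← Category.assoc ρ, IsIso.inv_hom_id_assoc]
    rw [h3] at this
    refine Eq.trans ?_ this
    exact cmp_congr G hba1 (by simp only [Category.assoc]) _ _
  refine ⟨⟨ltr G (G.t ≫ ρ) ha, ltr G (G.t ≫ inv (ρ ≫ G.t) ≫ ρ ≫ G.i) hb, h1, h2⟩, ?_⟩
  have he := e_ltr G ρ hρs
  have : (G.e ≫ ltr G (G.t ≫ ρ) ha) (eU.inv (IsLocalRing.closedPoint k)) = r := by
    rw [he, hρdef]
    simp
  simpa using this

end Groth.Agent.S1888
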