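import Groth.Statements.S18884
import Mathlib.Tactic.Abel

set_option autoImplicit false
universe v u w
open CategoryTheory CategoryTheory.Limits
open Desc

namespace Groth.Agent.S18884

open CategoryTheory Limits

section helpers

variable {C : Type u} [Category.{v} C] [HasPullbacks C] (W : MorphismProperty C)
  [W.IsStableUnderBaseChange] [W.IsStableUnderComposition] (D : ObjectProperty C)

/-- The cosheaf condition. -/
abbrev IsCosh (F : C ⥤ AddCommGrpCat.{w}) : Prop :=
  ∀ ⦃Y X : C⦄ (π : Y ⟶ X), W π → Function.Surjective (F.map π).hom ∧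
    (F.map π).hom.ker = ((F.map (pullback.fst π π)).hom - (F.map (pullback.snd π π)).hom).range

lemma map_comp_apply (F : C ⥤ AddCommGrpCat.{w}) {X Y Z : C} (f : X ⟶ Y) (g : Y ⟶ Z)
    (x : F.obj X) : (F.map (f ≫ g)).hom x = (F.map g).hom ((F.map f).hom x) := by
  rw [F.map_comp]; rfl

lemma nat_apply {F G : C ⥤ AddCommGrpCat.{w}} (α : D.ι ⋙ F ⟶ D.ι ⋙ G)
    (Z Y : D.FullSubcategory) (f : Z.obj ⟶ Y.obj) (z : F.obj Z.obj) :
    (α.app Y).hom ((F.map f).hom z) = (G.map f).hom ((α.app Z).hom z) := by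
  have h := α.naturality (ObjectProperty.homMk f)
  have h2 := congrArg (fun φ => φ.hom z) h
  exact h2

variable {W D}

lemma lemA {F G : C ⥤ AddCommGrpCat.{w}} (hF : IsCosh W F)
    (hD : ∀ X : C, ∃ (Y : C) (π : Y ⟶ X), W π ∧ D Y)
    (α : D.ι ⋙ F ⟶ D.ι ⋙ G) {X : C} (Y : D.FullSubcategory) (π : Y.obj ⟶ X) (hπ : W π)
    (t : F.obj Y.obj) (ht : (F.map π).hom t = 0) :
    (G.map π).hom ((α.app Y).hom t) = 0 := by
  obtain ⟨-, hker⟩ := hF π hπ
  have hmem : t ∈ (F.map π).hom.ker := ht
  rw [hker] at hmem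
  obtain ⟨r, rfl⟩ := hmem
  obtain ⟨Z, ρ, hρ, hZ⟩ := hD (pullback π π)
  obtain ⟨z, rfl⟩ := (hF ρ hρ).1 r
  rw [AddMonoidHom.sub_apply, ← map_comp_apply, ← map_comp_apply, map_sub, map_sub,
    nat_apply D α ⟨Z, hZ⟩ Y, nat_apply D α ⟨Z, hZ⟩ Y, ← map_comp_apply, ← map_comp_apply,
    Category.assoc, Category.assoc, pullback.condition, sub_self]

lemma lemB {F G : C ⥤ AddCommGrpCat.{w}} (hF : IsCosh W F)
    (hD : ∀ X : C, ∃ (Y : C) (π : Y ⟶ X), W π ∧ D Y)
    (α : D.ι ⋙ F ⟶ D.ι ⋙ G) {X : C} (Y : D.FullSubcategory) (π : Y.obj ⟶ X) (hπ : W π)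
    (Y' : D.FullSubcategory) (f : Y'.obj ⟶ X)
    (t : F.obj Y.obj) (t' : F.obj Y'.obj) (htt : (F.map π).hom t = (F.map f).hom t') :
    (G.map π).hom ((α.app Y).hom t) = (G.map f).hom ((α.app Y').hom t') := by
  -- `Q = Y' ×_X Y`
  have hq1 : W (pullback.fst f π) := MorphismProperty.pullback_fst f π hπ
  obtain ⟨Z, ρ, hρ, hZ⟩ := hD (pullback f π)
  have hcomp : W (ρ ≫ pullback.fst f π) := W.comp_mem _ _ hρ hq1
  obtain ⟨z, rfl⟩ := (hF _ hcomp).1 t'
  have hu : (F.map π).hom (t - (F.map (ρ ≫ pullback.snd f π)).hom z) = 0 := by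
    rw [map_sub, htt, ← map_comp_apply, ← map_comp_apply, Category.assoc, Category.assoc,
      pullback.condition, sub_self]
  have hA := lemA hF hD α Y π hπ _ hu
  rw [map_sub, map_sub, sub_eq_zero] at hA
  rw [hA, nat_apply D α ⟨Z, hZ⟩ Y, nat_apply D α ⟨Z, hZ⟩ Y', ← map_comp_apply, ← map_comp_apply,
    Category.assoc, Category.assoc, pullback.condition]

end helpers

/-- Let C be a category with pullbacks equipped with a class W of morphisms, the covers, stable under
base change and under composition. An abelian cosheaf is a functor F : C ⥤ Ab such that for every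
cover π : Y ⟶ X the map F(π) is surjective and its kernel is the image of F(p₁) − F(p₂), where p₁,
p₂ : Y ×_X Y ⟶ Y are the two projections. If D is a full subcategory of C such that every object of
C is the target of a cover whose source lies in D, then the restriction functor from the full
subcategory of abelian cosheaves in C ⥤ Ab to D ⥤ Ab is full and faithful. -/
theorem result {C : Type u} [Category.{v} C]
    [HasPullbacks C] (W : MorphismProperty C) [W.IsStableUnderBaseChange] [W.IsStableUnderComposition]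
    (D : ObjectProperty C) (hD : ∀ X : C, ∃ (Y : C) (π : Y ⟶ X), W π ∧ D Y) :
    (ObjectProperty.ι (fun F : C ⥤ AddCommGrpCat.{w} =>
        ∀ ⦃Y X : C⦄ (π : Y ⟶ X), W π → Function.Surjective (F.map π).hom ∧
          (F.map π).hom.ker = ((F.map (pullback.fst π π)).hom - (F.map (pullback.snd π π)).hom).range) ⋙
      (Functor.whiskeringLeft D.FullSubcategory C AddCommGrpCat.{w}).obj D.ι).Full ∧
    (ObjectProperty.ι (fun F : C ⥤ AddCommGrpCat.{w} =>
        ∀ ⦃Y X : C⦄ (π : Y ⟶ X), W π → Function.Surjective (F.map π).hom ∧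
          (F.map π).hom.ker = ((F.map (pullback.fst π π)).hom - (F.map (pullback.snd π π)).hom).range) ⋙
      (Functor.whiskeringLeft D.FullSubcategory C AddCommGrpCat.{w}).obj D.ι).Faithful := by
  have hD' := hD
  choose Yc πc hπc hYc using hD'
  refine ⟨⟨fun {F G} α => ?_⟩, ⟨fun {F G} β β' h => ?_⟩⟩
  · -- fullness
    have hF : IsCosh W F.obj := F.property
    let α' : D.ι ⋙ F.obj ⟶ D.ι ⋙ G.obj := α
    have hsurj : ∀ X, Function.Surjective (F.obj.map (πc X)).hom := fun X => (hF _ (hπc X)).1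
    let pre : ∀ X, F.obj.obj X → F.obj.obj (Yc X) := fun X s => Classical.choose (hsurj X s)
    have hpre : ∀ X s, (F.obj.map (πc X)).hom (pre X s) = s :=
      fun X s => Classical.choose_spec (hsurj X s)
    let βfun : ∀ X, F.obj.obj X → G.obj.obj X :=
      fun X s => (G.obj.map (πc X)).hom ((α'.app ⟨Yc X, hYc X⟩).hom (pre X s))
    have key : ∀ X (Y' : D.FullSubcategory) (f : Y'.obj ⟶ X) (t' : F.obj.obj Y'.obj),
        βfun X ((F.obj.map f).hom t') = (G.obj.map f).hom ((α'.app Y').hom t') := by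
      intro X Y' f t'
      exact lemB hF hD α' ⟨Yc X, hYc X⟩ (πc X) (hπc X) Y' f _ _ (hpre X _)
    have hadd : ∀ X s₁ s₂, βfun X (s₁ + s₂) = βfun X s₁ + βfun X s₂ := by
      intro X s₁ s₂
      have hs : s₁ + s₂ = (F.obj.map (πc X)).hom (pre X s₁ + pre X s₂) := by
        rw [map_add, hpre, hpre]
      rw [hs, key X ⟨Yc X, hYc X⟩ (πc X), map_add, map_add]
    let β : F.obj ⟶ G.obj :=
      { app := fun X => AddCommGrpCat.ofHom (AddMonoidHom.mk' (βfun X) (hadd X))
        naturality := by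
          intro X X' g
          apply AddCommGrpCat.hom_ext
          apply AddMonoidHom.ext
          intro s
          show βfun X' ((F.obj.map g).hom s) = (G.obj.map g).hom (βfun X s)
          have hs : (F.obj.map g).hom s = (F.obj.map (πc X ≫ g)).hom (pre X s) := by
            rw [map_comp_apply, hpre]
          rw [hs, key X' ⟨Yc X, hYc X⟩ (πc X ≫ g), map_comp_apply] }
    refine ⟨ObjectProperty.homMk β, ?_⟩
    apply NatTrans.ext
    funext X
    apply AddCommGrpCat.hom_ext
    apply AddMonoidHom.ext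
    intro s
    show βfun X.obj s = (α'.app X).hom s
    have h1 := key X.obj X (𝟙 _) s
    simpa using h1
  · -- faithfulness
    apply ObjectProperty.hom_ext
    apply NatTrans.ext
    funext X
    apply AddCommGrpCat.hom_ext
    apply AddMonoidHom.ext
    intro s
    obtain ⟨t, rfl⟩ := (F.property (πc X) (hπc X)).1 s
    have hY : β.hom.app (Yc X) = β'.hom.app (Yc X) :=
      congrArg (fun γ => γ.app ⟨Yc X, hYc X⟩) h
    have n1 := congrArg (fun φ => φ.hom t) (β.hom.naturality (πc X))
    have n2 := congrArg (fun φ => φ.hom t) (β'.hom.naturality (πc X))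
    simp only [AddCommGrpCat.hom_comp, AddMonoidHom.coe_comp, Function.comp_apply] at n1 n2
    rw [n1, n2, hY]

end Groth.Agent.S18884
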