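import Groth.Statements.S18887
import Mathlib.RingTheory.Trace.Basic
import Mathlib.LinearAlgebra.Matrix.Charpoly.Coeff
import Mathlib.LinearAlgebra.Dimension.Free
import Mathlib.Tactic.LinearCombination
import Mathlib.Tactic.Ring

set_option autoImplicit false
universe u v
open DblCov

namespace Groth.Agent.S18887

/-- Let A be a commutative ring in which 2 is invertible and B a commutative A-algebra which is free of
rank 2 as an A-module and whose trace form tr : B → A has kernel free of rank 1 over A. Then σ(b) =
tr(b) − b defines an A-algebra endomorphism σ of B with σ ≠ id and σ ∘ σ = id, and the elements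
fixed by σ are exactly the image of A in B. -/
theorem result {A : Type u} {B : Type v} [CommRing A] [CommRing B]
    [Algebra A B] (h2 : IsUnit (2 : A)) [Module.Free A B] [Module.Finite A B]
    (hrk : Module.finrank A B = 2)
    [Module.Free A (LinearMap.ker (Algebra.trace A B))]
    (hker : Module.finrank A (LinearMap.ker (Algebra.trace A B)) = 1) :
    ∃ σ : B →ₐ[A] B, (∀ b : B, σ b = algebraMap A B (Algebra.trace A B b) - b) ∧
      σ ≠ AlgHom.id A B ∧ σ.comp σ = AlgHom.id A B ∧
      ∀ b : B, σ b = b ↔ b ∈ Set.range (algebraMap A B) := by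
  classical
  -- `A` is nontrivial
  have hnt : Nontrivial A := by
    by_contra hcon
    rw [not_nontrivial_iff_subsingleton] at hcon
    have h0 : Module.finrank A B = 1 :=
      Module.finrank_eq_of_rank_eq (by rw [rank_subsingleton]; exact Nat.cast_one.symm)
    omega
  set ι := algebraMap A B with hι
  set tr := Algebra.trace A B with htr
  have htrι : ∀ a : A, tr (ι a) = 2 * a := by
    intro a
    rw [htr, hι, Algebra.trace_algebraMap, hrk]
    simp [two_mul]
  obtain ⟨u, hu⟩ := h2.exists_right_inv
  -- generator of the kernel of the trace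
  have hfin : Module.Finite A (LinearMap.ker tr) :=
    Module.finite_of_finrank_pos (by rw [hker]; exact Nat.one_pos)
  let bk : Module.Basis (Fin 1) A (LinearMap.ker tr) := Module.finBasisOfFinrankEq A _ hker
  set w : B := ((bk 0 : LinearMap.ker tr) : B) with hw
  have htrw : tr w = 0 := (bk 0).2
  have hwne : w ≠ 0 := by
    intro h0
    exact bk.ne_zero 0 (Subtype.ext h0)
  -- decomposition
  have hdec : ∀ b : B, ∃ a c : A, b = ι a + ι c * w := by
    intro b
    have hmem : b - ι (u * tr b) ∈ LinearMap.ker tr := by
      rw [LinearMap.mem_ker, map_sub, htrι]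
      linear_combination (-(tr b)) * hu
    have hrepr := bk.sum_repr ⟨_, hmem⟩
    refine ⟨u * tr b, bk.repr ⟨_, hmem⟩ 0, ?_⟩
    have h1 := congrArg (fun k : LinearMap.ker tr => (k : B)) hrepr
    simp only [Fin.sum_univ_one, Submodule.coe_smul] at h1
    rw [Algebra.smul_def] at h1
    rw [← hw] at h1
    linear_combination -h1
  -- `w * w ∈ A`
  obtain ⟨α, hα⟩ : ∃ α : A, w * w = ι α := by
    let bB : Module.Basis (Fin 2) A B := Module.finBasisOfFinrankEq A B hrk
    set M := Algebra.leftMulMatrix bB w with hM
    have htrM : M.trace = 0 := by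
      rw [hM, ← Algebra.trace_eq_matrix_trace bB w]
      exact htrw
    have hch := Matrix.aeval_self_charpoly M
    rw [Matrix.charpoly_fin_two, htrM] at hch
    simp only [map_zero, zero_mul, sub_zero, map_add, map_pow, Polynomial.aeval_X, Polynomial.aeval_C] at hch
    refine ⟨-M.det, ?_⟩
    apply Algebra.leftMulMatrix_injective bB
    have : Algebra.leftMulMatrix bB (ι M.det) = algebraMap A _ M.det := by
      rw [hι]; exact AlgHom.commutes _ _
    rw [map_mul, map_neg, map_neg, ← hM, this]
    rw [sq] at hch
    exact eq_neg_of_add_eq_zero_left hch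
  -- the involution as a linear map
  let σl : B →ₗ[A] B := (Algebra.linearMap A B).comp tr - LinearMap.id
  have hσl : ∀ b, σl b = ι (tr b) - b := fun b => rfl
  have hσdec : ∀ a c : A, σl (ι a + ι c * w) = ι a - ι c * w := by
    intro a c
    rw [hσl, map_add, htrι]
    have : tr (ι c * w) = 0 := by
      rw [hι, ← Algebra.smul_def, map_smul, htrw, smul_zero]
    rw [this, add_zero, map_mul, map_ofNat]
    ring
  have hone : σl 1 = 1 := by
    have := hσdec 1 0
    simpa using this
  have hmul : ∀ x y : B, σl (x * y) = σl x * σl y := by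
    intro x y
    obtain ⟨a, c, rfl⟩ := hdec x
    obtain ⟨a', c', rfl⟩ := hdec y
    have hprod : (ι a + ι c * w) * (ι a' + ι c' * w) =
        ι (a * a' + c * c' * α) + ι (a * c' + a' * c) * w := by
      simp only [map_add, map_mul]
      linear_combination (ι c * ι c') * hα
    rw [hprod, hσdec, hσdec, hσdec]
    simp only [map_add, map_mul]
    linear_combination (-(ι c * ι c')) * hα
  let σ : B →ₐ[A] B := AlgHom.ofLinearMap σl hone hmul
  have hσ : ∀ b, σ b = ι (tr b) - b := fun b => rfl
  refine ⟨σ, hσ, ?_, ?_, ?_⟩
  · intro hid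
    have h1 : σ w = w := by rw [hid]; rfl
    rw [hσ, htrw, map_zero, zero_sub] at h1
    have h2' : ι 2 * w = 0 := by
      rw [map_ofNat]
      linear_combination -h1
    have h3 : w = 0 := by
      have : ι u * (ι 2 * w) = w := by
        rw [← mul_assoc, ← map_mul, mul_comm u 2, hu, map_one, one_mul]
      rw [← this, h2', mul_zero]
    exact hwne h3
  · ext b
    show σ (σ b) = b
    rw [hσ, hσ, map_sub, htrι, map_sub, map_mul, map_ofNat]
    ring
  · intro b
    constructor
    · intro hb
      rw [hσ] at hb
      refine ⟨u * tr b, ?_⟩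
      have h2b : ι (tr b) = 2 * b := by linear_combination hb
      rw [map_mul, h2b, ← mul_assoc]
      have : ι u * 2 = 1 := by
        rw [← map_ofNat ι 2, ← map_mul, mul_comm, hu, map_one]
      rw [this, one_mul]
    · rintro ⟨a, rfl⟩
      rw [hσ, htrι, map_mul, map_ofNat]
      ring

end Groth.Agent.S18887
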