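import Groth.Statements.S18888
import Mathlib.RingTheory.Trace.Basic
import Mathlib.RingTheory.IntegralClosure.IntegrallyClosed
import Mathlib.RingTheory.Polynomial.RationalRoot
import Mathlib.RingTheory.Localization.NumDen
import Mathlib.LinearAlgebra.Matrix.Charpoly.Coeff
import Mathlib.LinearAlgebra.Dimension.Free
import Mathlib.Tactic.LinearCombination
import Mathlib.Tactic.Ring
import Mathlib.Tactic.FieldSimp

set_option autoImplicit false
universe u v w
open CAlg

namespace Groth.Agent.S18888

/-- Let A be a unique factorisation domain in which 2 is invertible, with fraction field K, and let L ⊇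
K be a quadratic extension field (of degree 2 over K) containing an element y ∉ K whose square is a
squarefree element d of A. Then the integral closure of A in L equals the A-subalgebra A[y]
generated by y. -/
theorem result {A : Type u} {K : Type v} {L : Type w}
    [CommRing A] [IsDomain A] [UniqueFactorizationMonoid A] [Field K] [Algebra A K] [IsFractionRing A K]
    [Field L] [Algebra K L] [Algebra A L] [IsScalarTower A K L]
    (h2 : IsUnit (2 : A)) (hL : Module.finrank K L = 2)
    (d : A) (hd : Squarefree d) (y : L) (hy : y * y = algebraMap A L d)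
    (hyK : y ∉ Set.range (algebraMap K L)) :
    integralClosure A L = Algebra.adjoin A {y} := by
  classical
  have hfd : FiniteDimensional K L := Module.finite_of_finrank_pos (by rw [hL]; norm_num)
  have hAKL : ∀ a : A, algebraMap A L a = algebraMap K L (algebraMap A K a) :=
    fun a => IsScalarTower.algebraMap_apply A K L a
  have hinjKL : Function.Injective (algebraMap K L) := (algebraMap K L).injective
  have hinjAK : Function.Injective (algebraMap A K) := IsFractionRing.injective A K
  obtain ⟨u, hu⟩ := h2.exists_right_inv
  apply le_antisymm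
  swap
  · apply Algebra.adjoin_le
    intro z hz
    rw [Set.mem_singleton_iff] at hz
    subst hz
    show IsIntegral A z
    refine ⟨Polynomial.X ^ 2 - Polynomial.C d, Polynomial.monic_X_pow_sub_C d (by norm_num), ?_⟩
    simp [Polynomial.eval₂_sub, sq, hy]
  intro x hx
  have hxint : IsIntegral A x := hx
  -- `{1, y}` is linearly independent
  have hli : LinearIndependent K ![(1 : L), y] := by
    rw [LinearIndependent.pair_iff]
    intro s t hst
    have ht : t = 0 := by
      by_contra ht
      apply hyK
      refine ⟨-(s / t), ?_⟩
      have h1 : t • y = -(s • (1 : L)) := by linear_combination hst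
      have h2' : y = t⁻¹ • (t • y) := by rw [smul_smul, inv_mul_cancel₀ ht, one_smul]
      rw [h2', h1, Algebra.smul_def, Algebra.smul_def, mul_one, ← map_neg, ← map_mul]
      congr 1
      field_simp
    subst ht
    rw [zero_smul, add_zero, Algebra.smul_def, mul_one] at hst
    exact ⟨hinjKL (by rw [hst, map_zero]), rfl⟩
  have hspan : Submodule.span K (Set.range ![(1 : L), y]) = ⊤ :=
    hli.span_eq_top_of_card_eq_finrank' (by rw [hL]; rfl)
  -- decomposition of `x`
  obtain ⟨a, b, hab⟩ : ∃ a b : K, x = algebraMap K L a + algebraMap K L b * y := by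
    have hxm : x ∈ Submodule.span K (Set.range ![(1 : L), y]) := by rw [hspan]; trivial
    rw [Submodule.mem_span_range_iff_exists_fun] at hxm
    obtain ⟨c, hc⟩ := hxm
    refine ⟨c 0, c 1, ?_⟩
    rw [← hc, Fin.sum_univ_two]
    simp [Algebra.smul_def]
  -- trace of `y` vanishes
  have htry : Algebra.trace K L y = 0 := by
    let bB : Module.Basis (Fin 2) K L := Module.finBasisOfFinrankEq K L hL
    set M := Algebra.leftMulMatrix bB y with hM
    have htrM : Algebra.trace K L y = M.trace := Algebra.trace_eq_matrix_trace bB y
    have hch := Matrix.aeval_self_charpoly M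
    rw [Matrix.charpoly_fin_two] at hch
    simp only [map_add, map_sub, map_mul, map_pow, Polynomial.aeval_X, Polynomial.aeval_C] at hch
    have hrel : y * y - algebraMap K L M.trace * y + algebraMap K L M.det = 0 := by
      apply Algebra.leftMulMatrix_injective bB
      have e1 : ∀ k : K, Algebra.leftMulMatrix bB (algebraMap K L k) = algebraMap K _ k :=
        fun k => AlgHom.commutes _ _
      rw [map_add, map_sub, map_mul, map_mul, e1, e1, ← hM, map_zero, ← sq]
      exact hch
    by_contra hne
    rw [htrM] at hne
    apply hyK
    refine ⟨(algebraMap A K d + M.det) / M.trace, ?_⟩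
    rw [hy, hAKL] at hrel
    have h3 : algebraMap K L M.trace * y = algebraMap K L (algebraMap A K d + M.det) := by
      rw [map_add]; linear_combination -hrel
    have hne' : algebraMap K L M.trace ≠ 0 := fun h0 => hne (hinjKL (by rw [h0, map_zero]))
    rw [map_div₀, ← h3, mul_div_cancel_left₀ _ hne']
  -- `2 a ∈ A`
  have htrx : Algebra.trace K L x = 2 * a := by
    rw [hab, map_add, ← Algebra.smul_def b y, map_smul, htry, smul_zero, add_zero,
      Algebra.trace_algebraMap, hL]
    simp [two_mul]
  have h2a : IsIntegral A (2 * a) := by
    rw [← htrx]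
    exact Algebra.isIntegral_trace hxint
  obtain ⟨m, hm⟩ := IsIntegrallyClosed.isIntegral_iff.mp h2a
  have ha : a = algebraMap A K (u * m) := by
    have h2u : (2 : K) * algebraMap A K u = 1 := by
      rw [← map_ofNat (algebraMap A K) 2, ← map_mul, hu, map_one]
    rw [map_mul, hm]
    linear_combination (-a) * h2u
  -- `b² d ∈ A`
  have hby : IsIntegral A (algebraMap K L b * y) := by
    have : algebraMap K L b * y = x - algebraMap A L (u * m) := by
      rw [hab, hAKL, ← ha]; ring
    rw [this]
    exact hxint.sub isIntegral_algebraMap
  have hb2d : IsIntegral A (b * b * algebraMap A K d) := by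
    rw [← isIntegral_algebraMap_iff hinjKL]
    have : algebraMap K L (b * b * algebraMap A K d) = (algebraMap K L b * y) * (algebraMap K L b * y) := by
      rw [map_mul, map_mul, ← hAKL, ← hy]; ring
    rw [this]
    exact hby.mul hby
  obtain ⟨n, hn⟩ := IsIntegrallyClosed.isIntegral_iff.mp hb2d
  -- reduced fraction
  obtain ⟨p, q, hpq, hbq⟩ := IsFractionRing.exists_reduced_fraction (A := A) (K := K) b
  have hq0 : algebraMap A K (q : A) ≠ 0 := by
    intro h0
    have := hinjAK (h0.trans (map_zero _).symm)
    exact nonZeroDivisors.coe_ne_zero q this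
  have hbq' : b * algebraMap A K (q : A) = algebraMap A K p := by
    rw [← hbq, IsLocalization.mk'_spec]
  have hrelA : p * p * d = n * ((q : A) * (q : A)) := by
    apply hinjAK
    simp only [map_mul]
    rw [hn, ← hbq']
    ring
  have hqunit : IsUnit (q : A) := by
    apply hd
    have hrp : IsRelPrime ((q : A) * (q : A)) (p * p) := by
      have := (hpq.symm.pow (m := 2) (n := 2))
      rwa [sq, sq] at this
    exact hrp.dvd_of_dvd_mul_left ⟨n, by rw [hrelA]; ring⟩
  obtain ⟨v, hv⟩ := hqunit.exists_right_inv
  have hb : b = algebraMap A K (p * v) := by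
    have hqv : algebraMap A K (q : A) * algebraMap A K v = 1 := by rw [← map_mul, hv, map_one]
    rw [map_mul, ← hbq']
    linear_combination (-b) * hqv
  rw [hab, ha, hb, ← hAKL, ← hAKL]
  exact Subalgebra.add_mem _ (Subalgebra.algebraMap_mem _ _)
    (Subalgebra.mul_mem _ (Subalgebra.algebraMap_mem _ _) (Algebra.self_mem_adjoin_singleton A y))

end Groth.Agent.S18888
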