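import Groth.Statements.S18889
import Mathlib

set_option autoImplicit false
universe u v w
open CAlg

namespace Groth.Agent.S18889

section reynolds

variable {R : Type u} {A : Type v} [CommRing R] [CommRing A] [Algebra R A]
  {G : Type w} [Group G] [Fintype G] [MulSemiringAction G A] [SMulCommClass G R A]

/-- the Reynolds operator `a ↦ u • ∑ g, g • a`. -/
noncomputable def reyn (G : Type w) [Group G] [Fintype G] [MulSemiringAction G A]
    [SMulCommClass G R A] (u : R) : A →ₗ[R] A where
  toFun a := u • ∑ g : G, g • a
  map_add' a b := by simp [smul_add, Finset.sum_add_distrib]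
  map_smul' r a := by
    simp only [RingHom.id_apply]
    rw [Finset.sum_congr rfl (fun g _ => smul_comm g r a), ← Finset.smul_sum, smul_comm]

lemma reyn_apply (u : R) (a : A) : reyn G u a = u • ∑ g : G, g • a := rfl

lemma reyn_mem (u : R) (a : A) : reyn G u a ∈ FixedPoints.subalgebra R A G := by
  intro h
  rw [reyn_apply, smul_comm, Finset.smul_sum]
  congr 1
  simp only [smul_smul]
  exact Fintype.sum_bijective (fun g => h * g) (Group.mulLeft_bijective h) _ _ (fun _ => rfl)

lemma reyn_fixed (u : R) (hu : u * ((Fintype.card G : ℕ) : R) = 1) (b : A)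
    (hb : b ∈ FixedPoints.subalgebra R A G) : reyn G u b = b := by
  have hb' : ∀ g : G, g • b = b := hb
  rw [reyn_apply]
  simp only [hb', Finset.sum_const, Finset.card_univ]
  rw [← Nat.cast_smul_eq_nsmul R, smul_smul, hu, one_smul]

lemma reyn_mul (u : R) (b a : A) (hb : b ∈ FixedPoints.subalgebra R A G) :
    reyn G u (b * a) = b * reyn G u a := by
  have hb' : ∀ g : G, g • b = b := hb
  rw [reyn_apply, reyn_apply]
  simp only [smul_mul', hb']
  rw [← Finset.mul_sum, mul_smul_comm]

end reynolds

section fg

variable {R : Type u} {A : Type v} [CommRing R] [CommRing A] [Algebra R A]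
  {G : Type w} [Group G] [Fintype G] [MulSemiringAction G A] [SMulCommClass G R A]

open MulSemiringAction Polynomial in
/-- a finitely generated subalgebra `B₀ ≤ A^G` over which `A` is finite. -/
lemma exists_B0 [Algebra.FiniteType R A] : ∃ (S₀ : Finset A),
    (∀ c ∈ S₀, c ∈ FixedPoints.subalgebra R A G) ∧
      Module.Finite (Algebra.adjoin R (S₀ : Set A)) A := by
  classical
  obtain ⟨s, hs⟩ := (Algebra.FiniteType.out : (⊤ : Subalgebra R A).FG)
  let S₀ : Finset A := s.biUnion (fun a => (charpoly G a).coeffs)
  refine ⟨S₀, ?_, ?_⟩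
  · intro c hc
    simp only [S₀, Finset.mem_biUnion] at hc
    obtain ⟨a, -, hc⟩ := hc
    rw [Polynomial.mem_coeffs_iff] at hc
    obtain ⟨n, -, rfl⟩ := hc
    intro g
    exact smul_coeff_charpoly a n g
  · have hint : ∀ a ∈ (s : Set A), IsIntegral (Algebra.adjoin R (S₀ : Set A)) a := by
      intro a ha
      have hl : charpoly G a ∈ Polynomial.lifts (algebraMap (Algebra.adjoin R (S₀ : Set A)) A) := by
        rw [Polynomial.lifts_iff_coeff_lifts]
        intro n
        by_cases h0 : (charpoly G a).coeff n = 0
        · exact ⟨0, by simp [h0]⟩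
        · refine ⟨⟨_, Algebra.subset_adjoin ?_⟩, rfl⟩
          simp only [S₀, Finset.coe_biUnion, Set.mem_iUnion]
          exact ⟨a, ha, Polynomial.coeff_mem_coeffs h0⟩
      obtain ⟨q, hq1, -, hq2⟩ :=
        Polynomial.lifts_and_natDegree_eq_and_monic hl (monic_charpoly G a)
      exact ⟨q, hq2, by rw [← Polynomial.eval_map, hq1, eval_charpoly]⟩
    have hfg := fg_adjoin_of_finite (R := Algebra.adjoin R (S₀ : Set A)) s.finite_toSet hint
    have htop : Algebra.adjoin (Algebra.adjoin R (S₀ : Set A)) (s : Set A) = ⊤ := by
      rw [eq_top_iff]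
      intro x _
      have hx : x ∈ Algebra.adjoin R (s : Set A) := by rw [hs]; trivial
      exact (Algebra.adjoin_le (S := (Algebra.adjoin (Algebra.adjoin R (S₀ : Set A))
        (s : Set A)).restrictScalars R) Algebra.subset_adjoin) hx
    rw [htop, Algebra.top_toSubmodule] at hfg
    exact ⟨hfg⟩

end fg

section main

variable {R : Type u} {A : Type v} [CommRing R] [CommRing A] [Algebra R A]
  {G : Type w} [Group G] [Fintype G] [MulSemiringAction G A] [SMulCommClass G R A]

lemma fixedPoints_fg [Algebra.FiniteType R A] (u : R)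
    (hu : u * ((Fintype.card G : ℕ) : R) = 1) :
    ∃ (S₀ M : Finset A), (∀ c ∈ S₀, c ∈ FixedPoints.subalgebra R A G) ∧
      Submodule.span (Algebra.adjoin R (S₀ : Set A)) (M : Set A) = ⊤ ∧
      Algebra.adjoin R ((S₀ : Set A) ∪ reyn G u '' (M : Set A)) =
        FixedPoints.subalgebra R A G := by
  classical
  obtain ⟨S₀, hS₀, hfin⟩ := exists_B0 (R := R) (A := A) (G := G)
  obtain ⟨M, hM⟩ := hfin.fg_top
  refine ⟨S₀, M, hS₀, hM, le_antisymm ?_ ?_⟩
  · apply Algebra.adjoin_le
    intro x hx
    rcases hx with hx | ⟨m, -, rfl⟩
    · exact hS₀ x hx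
    · exact reyn_mem u m
  · have hB₀C : Algebra.adjoin R (S₀ : Set A) ≤
        Algebra.adjoin R ((S₀ : Set A) ∪ reyn G u '' (M : Set A)) :=
      Algebra.adjoin_mono Set.subset_union_left
    have hB₀B : Algebra.adjoin R (S₀ : Set A) ≤ FixedPoints.subalgebra R A G :=
      Algebra.adjoin_le hS₀
    have key : ∀ a : A, reyn G u a ∈
        Algebra.adjoin R ((S₀ : Set A) ∪ reyn G u '' (M : Set A)) := by
      intro a
      have ha : a ∈ Submodule.span (Algebra.adjoin R (S₀ : Set A)) (M : Set A) := by
        rw [hM]; trivial
      induction ha using Submodule.span_induction with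
      | mem m hm =>
        apply Algebra.subset_adjoin
        exact Or.inr ⟨m, hm, rfl⟩
      | zero => simp
      | add x y _ _ hx hy => rw [map_add]; exact Subalgebra.add_mem _ hx hy
      | smul β x _ hx =>
        have h1 : (β • x : A) = (β : A) * x := rfl
        rw [h1, reyn_mul u _ _ (hB₀B β.2)]
        exact Subalgebra.mul_mem _ (hB₀C β.2) hx
    intro b hb
    rw [← reyn_fixed u hu b hb]
    exact key b

end main

section final

variable {R : Type u} {A : Type v} [CommRing R] [CommRing A] [Algebra R A]
  {G : Type w} [Group G] [Fintype G] [MulSemiringAction G A] [SMulCommClass G R A]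

lemma fp_of_surj [Algebra.FinitePresentation R A] (u : R)
    (hu : u * ((Fintype.card G : ℕ) : R) = 1) (S₀ M : Finset A)
    (hS₀ : ∀ c ∈ S₀, c ∈ FixedPoints.subalgebra R A G)
    (hM : Submodule.span (Algebra.adjoin R (S₀ : Set A)) (M : Set A) = ⊤)
    {m : ℕ} (f : MvPolynomial (Fin m) R →ₐ[R] (FixedPoints.subalgebra R A G))
    (hf : Function.Surjective f) :
    Algebra.FinitePresentation R (FixedPoints.subalgebra R A G) := by
  classical
  let algQB : Algebra (MvPolynomial (Fin m) R) (FixedPoints.subalgebra R A G) :=
    f.toRingHom.toAlgebra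
  let algQA : Algebra (MvPolynomial (Fin m) R) A :=
    ((FixedPoints.subalgebra R A G).val.comp f).toRingHom.toAlgebra
  have t1 : IsScalarTower R (MvPolynomial (Fin m) R) A :=
    IsScalarTower.of_algebraMap_eq' (by
      ext r
      simp [RingHom.algebraMap_toAlgebra])
  have t2 : IsScalarTower (MvPolynomial (Fin m) R) (FixedPoints.subalgebra R A G) A :=
    IsScalarTower.of_algebraMap_eq' rfl
  have fpQA : Algebra.FinitePresentation (MvPolynomial (Fin m) R) A :=
    Algebra.FinitePresentation.of_restrict_scalars_finitePresentation R _ A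
  have hB₀B : Algebra.adjoin R (S₀ : Set A) ≤ FixedPoints.subalgebra R A G :=
    Algebra.adjoin_le hS₀
  have hsmul : ∀ (q : MvPolynomial (Fin m) R) (a : A), q • a = ((f q : A)) * a := by
    intro q a
    rw [Algebra.smul_def]; rfl
  have finQA : Module.Finite (MvPolynomial (Fin m) R) A := by
    refine ⟨⟨M, ?_⟩⟩
    rw [eq_top_iff]
    rintro a -
    have ha : a ∈ Submodule.span (Algebra.adjoin R (S₀ : Set A)) (M : Set A) := by
      rw [hM]; trivial
    induction ha using Submodule.span_induction with
    | mem x hx => exact Submodule.subset_span hx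
    | zero => exact Submodule.zero_mem _
    | add x y _ _ hx hy => exact Submodule.add_mem _ hx hy
    | smul β x _ hx =>
      obtain ⟨q, hq⟩ := hf ⟨β, hB₀B β.2⟩
      have h1 : (β • x : A) = q • x := by
        rw [hsmul, hq]; rfl
      rw [h1]
      exact Submodule.smul_mem _ _ hx
  have mfpQA : Module.FinitePresentation (MvPolynomial (Fin m) R) A :=
    Module.FinitePresentation.of_finite_of_finitePresentation _ A
  -- the Reynolds retraction as a `Q`-linear map `A → A^G`
  let ρ' : A →ₗ[MvPolynomial (Fin m) R] (FixedPoints.subalgebra R A G) :=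
    { toFun := fun a => ⟨reyn G u a, reyn_mem u a⟩
      map_add' := fun a b => by
        apply Subtype.ext
        simp
      map_smul' := fun q a => by
        apply Subtype.ext
        simp only [RingHom.id_apply]
        rw [hsmul, reyn_mul u _ _ (f q).2]
        rw [Algebra.smul_def]; rfl }
  have hρ'_fix : ∀ b : FixedPoints.subalgebra R A G, ρ' (b : A) = b := by
    intro b
    apply Subtype.ext
    exact reyn_fixed u hu (b : A) b.2
  have hρ'_surj : Function.Surjective ρ' := fun b => ⟨b, hρ'_fix b⟩
  let ι : (FixedPoints.subalgebra R A G) →ₗ[MvPolynomial (Fin m) R] A :=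
    (IsScalarTower.toAlgHom (MvPolynomial (Fin m) R) (FixedPoints.subalgebra R A G) A).toLinearMap
  have hker : (LinearMap.ker ρ').FG := by
    have hke : LinearMap.ker ρ' = LinearMap.range (LinearMap.id - ι ∘ₗ ρ') := by
      ext a
      simp only [LinearMap.mem_ker, LinearMap.mem_range, LinearMap.sub_apply, LinearMap.id_coe,
        id_eq, LinearMap.coe_comp, Function.comp_apply]
      constructor
      · intro ha
        exact ⟨a, by rw [ha, map_zero, sub_zero]⟩
      · rintro ⟨x, rfl⟩
        rw [map_sub]
        have : ρ' (ι (ρ' x)) = ρ' x := hρ'_fix (ρ' x)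
        rw [this, sub_self]
    rw [hke, LinearMap.range_eq_map]
    exact Submodule.FG.map _ Module.Finite.fg_top
  have mfpQB : Module.FinitePresentation (MvPolynomial (Fin m) R) (FixedPoints.subalgebra R A G) :=
    Module.finitePresentation_of_surjective ρ' hρ'_surj hker
  have hkf : (LinearMap.ker (Algebra.linearMap (MvPolynomial (Fin m) R)
      (FixedPoints.subalgebra R A G))).FG :=
    Module.FinitePresentation.fg_ker _ (by
      intro b
      obtain ⟨q, hq⟩ := hf b
      exact ⟨q, hq⟩)
  refine Algebra.FinitePresentation.of_surjective (f := f) hf ?_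
  have hEq : RingHom.ker f.toRingHom = LinearMap.ker (Algebra.linearMap (MvPolynomial (Fin m) R)
      (FixedPoints.subalgebra R A G)) := by
    ext q
    simp only [RingHom.mem_ker, LinearMap.mem_ker, Algebra.linearMap_apply]
    rfl
  rw [hEq]
  exact hkf

end final





/-- Let R be a commutative ring, A a commutative R-algebra of finite presentation, and G a finite group
acting on A by R-algebra automorphisms such that the order of G is invertible in R. Then the ring of
invariants A^G is an R-algebra of finite presentation. (The source takes G to be a group of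
automorphisms of A; here G acts through a possibly non-faithful action, which changes nothing since
the invariants and the invertibility of the order only depend on the image of G.) -/
theorem result {R : Type u} {A : Type v} [CommRing R] [CommRing A]
    [Algebra R A] [Algebra.FinitePresentation R A]
    {G : Type w} [Group G] [Finite G] [MulSemiringAction G A] [SMulCommClass G R A]
    (hG : IsUnit ((Nat.card G : ℕ) : R)) :
    Algebra.FinitePresentation R (FixedPoints.subalgebra R A G) := by
  classical
  cases nonempty_fintype G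
  obtain ⟨u, hu⟩ := hG.exists_left_inv
  rw [Nat.card_eq_fintype_card] at hu
  obtain ⟨S₀, M, hS₀, hM, hadj⟩ := fixedPoints_fg (R := R) (A := A) (G := G) u hu
  -- finite type
  have hft : Algebra.FiniteType R (FixedPoints.subalgebra R A G) := by
    rw [← Subalgebra.fg_iff_finiteType, Subalgebra.fg_def]
    exact ⟨_, (S₀.finite_toSet.union (M.finite_toSet.image _)), hadj⟩
  obtain ⟨m, f, hf⟩ := Algebra.FiniteType.iff_quotient_mvPolynomial''.1 hft
  exact fp_of_surj u hu S₀ M hS₀ hM f hf

end Groth.Agent.S18889
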