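import Groth.Statements.S1889
import Mathlib.AlgebraicGeometry.Morphisms.UniversallyOpen

set_option autoImplicit false
universe u
open CategoryTheory CategoryTheory.Limits AlgebraicGeometry
open Grpd

namespace Groth.Agent.S1889

section aux

variable {S : Scheme.{u}} (G : Grpd.GroupoidScheme S)

attribute [local simp] pullback.lift_fst pullback.lift_snd pullback.lift_fst_assoc
  pullback.lift_snd_assoc

/-- composition on T-valued points -/
noncomputable def cmp {T : Scheme.{u}} (α β : T ⟶ G.R) (h : α ≫ G.s = β ≫ G.t) : T ⟶ G.R :=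
  pullback.lift α β h ≫ G.c

lemma cmp_congr {T : Scheme.{u}} {α α' β β' : T ⟶ G.R} (hα : α = α') (hβ : β = β')
    (h : α ≫ G.s = β ≫ G.t) (h' : α' ≫ G.s = β' ≫ G.t) :
    cmp G α β h = cmp G α' β' h' := by
  subst hα hβ; rfl

lemma precomp_cmp {T T' : Scheme.{u}} (f : T' ⟶ T) (α β : T ⟶ G.R) (h : α ≫ G.s = β ≫ G.t) :
    f ≫ cmp G α β h = cmp G (f ≫ α) (f ≫ β) (by rw [Category.assoc, Category.assoc, h]) := by
  unfold cmp
  rw [← Category.assoc]
  congr 1
  apply pullback.hom_ext <;> simp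

lemma cmp_s {T : Scheme.{u}} (α β : T ⟶ G.R) (h : α ≫ G.s = β ≫ G.t) :
    cmp G α β h ≫ G.s = β ≫ G.s := G.comp_s α β h

lemma cmp_t {T : Scheme.{u}} (α β : T ⟶ G.R) (h : α ≫ G.s = β ≫ G.t) :
    cmp G α β h ≫ G.t = α ≫ G.t := G.comp_t α β h

lemma cmp_assoc {T : Scheme.{u}} (α β γ : T ⟶ G.R) (h₁ : α ≫ G.s = β ≫ G.t)
    (h₂ : β ≫ G.s = γ ≫ G.t) :
    cmp G (cmp G α β h₁) γ ((cmp_s G α β h₁).trans h₂) =
      cmp G α (cmp G β γ h₂) (h₁.trans (cmp_t G β γ h₂).symm) :=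
  G.assoc α β γ h₁ h₂

/-- `α⁻¹ ∘ (α ∘ β) = β` -/
lemma inv_cmp_cmp {T : Scheme.{u}} (α β : T ⟶ G.R) (h : α ≫ G.s = β ≫ G.t) :
    cmp G (α ≫ G.i) (cmp G α β h) (by rw [Category.assoc, G.i_s, cmp_t]) = β := by
  have h1 := cmp_assoc G (α ≫ G.i) α β (by rw [Category.assoc, G.i_s]) h
  rw [← h1]
  have h2 : cmp G (α ≫ G.i) α (by rw [Category.assoc, G.i_s]) = α ≫ G.s ≫ G.e := G.i_comp α
  have h3 : cmp G (β ≫ G.t ≫ G.e) β
      (by rw [Category.assoc, Category.assoc, G.e_s, Category.comp_id]) = β := G.e_comp β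
  refine Eq.trans ?_ h3
  refine cmp_congr G ?_ rfl _ _
  rw [h2, ← Category.assoc, h, Category.assoc]

/-- `α ∘ (α⁻¹ ∘ γ) = γ` -/
lemma cmp_inv_cmp {T : Scheme.{u}} (α γ : T ⟶ G.R) (h : α ≫ G.t = γ ≫ G.t) :
    cmp G α (cmp G (α ≫ G.i) γ (by rw [Category.assoc, G.i_s, h]))
      (by rw [cmp_t, Category.assoc, G.i_t]) = γ := by
  have h1 := cmp_assoc G α (α ≫ G.i) γ (by rw [Category.assoc, G.i_t])
    (by rw [Category.assoc, G.i_s, h])
  rw [← h1]
  have h2 : cmp G α (α ≫ G.i) (by rw [Category.assoc, G.i_t]) = α ≫ G.t ≫ G.e := G.comp_i α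
  have h3 : cmp G (γ ≫ G.t ≫ G.e) γ
      (by rw [Category.assoc, Category.assoc, G.e_s, Category.comp_id]) = γ := G.e_comp γ
  refine Eq.trans ?_ h3
  refine cmp_congr G ?_ rfl _ _
  rw [h2, ← Category.assoc, h, Category.assoc]

section main

variable {Z : Scheme.{u}} (a : Z ⟶ G.R) (W : G.R.Opens)

/-- the multiplication map `Z ×_U W ⟶ R` -/
noncomputable def mm : pullback (a ≫ G.s) (W.ι ≫ G.t) ⟶ G.R :=
  cmp G (pullback.fst (a ≫ G.s) (W.ι ≫ G.t) ≫ a) (pullback.snd (a ≫ G.s) (W.ι ≫ G.t) ≫ W.ι)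
    ((Category.assoc _ _ _).trans (pullback.condition.trans (Category.assoc _ _ _).symm))

lemma mm_t : mm G a W ≫ G.t = pullback.fst (a ≫ G.s) (W.ι ≫ G.t) ≫ a ≫ G.t := by
  unfold mm; rw [cmp_t, Category.assoc]

/-- `(z, w) ↦ (z, a z ∘ w)` -/
noncomputable def theta : pullback (a ≫ G.s) (W.ι ≫ G.t) ⟶ pullback (a ≫ G.t) G.t :=
  pullback.lift (pullback.fst (a ≫ G.s) (W.ι ≫ G.t)) (mm G a W) (by rw [mm_t])

/-- `(z, y) ↦ (a z)⁻¹ ∘ y` -/
noncomputable def psi : pullback (a ≫ G.t) G.t ⟶ G.R :=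
  cmp G (pullback.fst (a ≫ G.t) G.t ≫ a ≫ G.i) (pullback.snd (a ≫ G.t) G.t)
    (by rw [Category.assoc, Category.assoc, G.i_s, ← pullback.condition])

lemma theta_fst : theta G a W ≫ pullback.fst (a ≫ G.t) G.t =
    pullback.fst (a ≫ G.s) (W.ι ≫ G.t) := by
  unfold theta; exact pullback.lift_fst _ _ _

lemma theta_snd : theta G a W ≫ pullback.snd (a ≫ G.t) G.t = mm G a W := by
  unfold theta; exact pullback.lift_snd _ _ _

lemma theta_psi : theta G a W ≫ psi G a = pullback.snd (a ≫ G.s) (W.ι ≫ G.t) ≫ W.ι := by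
  unfold psi
  rw [precomp_cmp]
  have h := inv_cmp_cmp G (pullback.fst (a ≫ G.s) (W.ι ≫ G.t) ≫ a)
    (pullback.snd (a ≫ G.s) (W.ι ≫ G.t) ≫ W.ι)
    ((Category.assoc _ _ _).trans (pullback.condition.trans (Category.assoc _ _ _).symm))
  refine Eq.trans ?_ h
  refine cmp_congr G ?_ ?_ _ _
  · rw [← Category.assoc, theta_fst, Category.assoc]
  · rw [theta_snd]; rfl

lemma key : IsPullback (pullback.snd (a ≫ G.s) (W.ι ≫ G.t)) (theta G a W) W.ι (psi G a) := by
  refine ⟨⟨(theta_psi G a W).symm⟩, ⟨PullbackCone.IsLimit.mk _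
    (fun c => pullback.lift (c.snd ≫ pullback.fst (a ≫ G.t) G.t) c.fst ?_) ?_ ?_ ?_⟩⟩
  · have h := c.condition
    have h1 : (c.snd ≫ psi G a) ≫ G.t = c.snd ≫ pullback.fst (a ≫ G.t) G.t ≫ a ≫ G.s := by
      unfold psi
      rw [Category.assoc, cmp_t]
      simp only [Category.assoc, G.i_t]
    rw [← h, Category.assoc] at h1
    rw [Category.assoc, ← h1]
  · intro c
    exact pullback.lift_snd _ _ _
  · intro c
    apply pullback.hom_ext
    · rw [Category.assoc, theta_fst]; exact pullback.lift_fst _ _ _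
    · rw [Category.assoc, theta_snd]
      unfold mm
      rw [precomp_cmp]
      have h := cmp_inv_cmp G (c.snd ≫ pullback.fst (a ≫ G.t) G.t ≫ a)
        (c.snd ≫ pullback.snd (a ≫ G.t) G.t)
        (by simp only [Category.assoc]; rw [← pullback.condition])
      refine Eq.trans ?_ h
      refine cmp_congr G ?_ ?_ _ _
      · rw [← Category.assoc, pullback.lift_fst, Category.assoc]
      · rw [← Category.assoc, pullback.lift_snd, c.condition]
        unfold psi
        rw [precomp_cmp]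
        exact cmp_congr G (by simp only [Category.assoc]) rfl _ _
  · intro c m h1 h2
    apply pullback.hom_ext
    · rw [pullback.lift_fst, ← h2, Category.assoc, theta_fst]
    · rw [pullback.lift_snd, h1]

end main

end aux

theorem result (S : Scheme.{u}) (G : Grpd.GroupoidScheme S) (k : Type u) [Field k] (eU : G.U ≅ Spec (CommRingCat.of k)) (W : G.R.Opens) (Z : Scheme.{u}) (a : Z ⟶ G.R) : IsOpen (Set.range ⇑(pullback.lift (pullback.fst (a ≫ G.s) (W.ι ≫ G.t) ≫ a) (pullback.snd (a ≫ G.s) (W.ι ≫ G.t) ≫ W.ι) ((Category.assoc _ _ _).trans (pullback.condition.trans (Category.assoc _ _ _).symm)) ≫ G.c)) := by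
  have hsub : Subsingleton G.U := eU.hom.homeomorph.subsingleton
  have hne : Nonempty G.U := ⟨eU.inv (IsLocalRing.closedPoint k)⟩
  have hint : IsIntegral G.U := isIntegral_of_isOpenImmersion eU.hom
  have hθ : IsOpenImmersion (theta G a W) :=
    MorphismProperty.of_isPullback (P := @IsOpenImmersion) (key G a W) inferInstance
  have hq : UniversallyOpen (pullback.snd (a ≫ G.t) G.t) :=
    MorphismProperty.pullback_snd (P := @UniversallyOpen) _ _ inferInstance
  have h1 : (pullback.lift (pullback.fst (a ≫ G.s) (W.ι ≫ G.t) ≫ a)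
      (pullback.snd (a ≫ G.s) (W.ι ≫ G.t) ≫ W.ι)
      ((Category.assoc _ _ _).trans (pullback.condition.trans (Category.assoc _ _ _).symm)) ≫ G.c)
      = theta G a W ≫ pullback.snd (a ≫ G.t) G.t := (theta_snd G a W).symm
  rw [h1, Scheme.Hom.comp_base, TopCat.coe_comp, Set.range_comp]
  exact (pullback.snd (a ≫ G.t) G.t).isOpenMap _ (theta G a W).isOpenEmbedding.isOpen_range

end Groth.Agent.S1889
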