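import Groth.Statements.S18890
-- import your own Groth.Agent.* helpers here

set_option autoImplicit false
universe u v w w'
open CAlg

namespace Groth.Agent.S18890

/-- Let R be a commutative ring, G a finite group whose order is invertible in R, M an R-module with an
R-linear action ρ of G and N an arbitrary R-module. Then the natural map M^G ⊗_R N → M ⊗_R N induced
by the inclusion of the invariants is injective, and its image is the submodule of invariants of M
⊗_R N under the action ρ ⊗ 1 (G acting on the first factor). (The source lets G be a group of
R-automorphisms of M; a possibly non-faithful linear action changes nothing.) -/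
theorem result {R : Type u} [CommRing R]
    {G : Type v} [Group G] [Finite G] (hG : IsUnit ((Nat.card G : ℕ) : R))
    {M : Type w} {N : Type w'} [AddCommGroup M] [Module R M] [AddCommGroup N] [Module R N]
    (ρ : Representation R G M) :
    Function.Injective (LinearMap.rTensor N ρ.invariants.subtype) ∧
      LinearMap.range (LinearMap.rTensor N ρ.invariants.subtype) =
        (ρ.tprod (Representation.trivial R G N)).invariants := by
  classical
  let _ : Fintype G := Fintype.ofFinite G
  obtain ⟨u, hu⟩ := hG
  have hcard : (Fintype.card G : R) = u := by rw [hu, Nat.card_eq_fintype_card]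
  -- the averaging operator
  let e : M →ₗ[R] M := (↑u⁻¹ : R) • ∑ g : G, ρ g
  have he_apply : ∀ m, e m = (↑u⁻¹ : R) • ∑ g : G, ρ g m := by
    intro m
    simp [e, LinearMap.sum_apply]
  have he_inv : ∀ m, e m ∈ ρ.invariants := by
    intro m h
    rw [he_apply, map_smul, map_sum]
    congr 1
    rw [← Equiv.sum_comp (Equiv.mulLeft h) (fun g => ρ g m)]
    refine Finset.sum_congr rfl (fun g _ => ?_)
    rw [Equiv.coe_mulLeft, map_mul]
    rfl
  have he_id : ∀ m ∈ ρ.invariants, e m = m := by
    intro m hm
    rw [he_apply]
    have : ∑ g : G, ρ g m = (Fintype.card G : R) • m := by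
      rw [Finset.sum_congr rfl (fun g _ => hm g), Finset.sum_const, Finset.card_univ,
        Nat.cast_smul_eq_nsmul]
    rw [this, hcard, smul_smul, Units.inv_mul, one_smul]
  let e' : M →ₗ[R] ρ.invariants := e.codRestrict _ he_inv
  have he' : ρ.invariants.subtype ∘ₗ e' = e := LinearMap.subtype_comp_codRestrict _ _ _
  have hleft : e' ∘ₗ ρ.invariants.subtype = LinearMap.id := by
    ext m
    exact he_id m.1 m.2
  constructor
  · apply Function.LeftInverse.injective (g := LinearMap.rTensor N e')
    intro y
    rw [← LinearMap.comp_apply, ← LinearMap.rTensor_comp, hleft, LinearMap.rTensor_id,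
      LinearMap.id_apply]
  · apply le_antisymm
    · rintro _ ⟨y, rfl⟩ g
      rw [Representation.tprod_apply]
      have h1 : TensorProduct.map (ρ g) ((Representation.trivial R G N) g) =
          LinearMap.rTensor N (ρ g) := rfl
      rw [h1, ← LinearMap.comp_apply, ← LinearMap.rTensor_comp]
      congr 2
      ext m
      exact m.2 g
    · intro x hx
      have h2 : LinearMap.rTensor N e x = x := by
        have h3 : LinearMap.rTensor N e = (↑u⁻¹ : R) • ∑ g : G, LinearMap.rTensor N (ρ g) := by
          simp only [e, LinearMap.rTensor_smul]
          congr 1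
          exact map_sum (LinearMap.rTensorHom (R := R) (M := N) (N := M) (P := M)) _ _
        rw [h3, LinearMap.smul_apply, LinearMap.sum_apply]
        have h4 : ∀ g : G, LinearMap.rTensor N (ρ g) x = x := fun g => hx g
        rw [Finset.sum_congr rfl (fun g _ => h4 g), Finset.sum_const, Finset.card_univ,
          ← Nat.cast_smul_eq_nsmul R, hcard, smul_smul, Units.inv_mul, one_smul]
      refine ⟨LinearMap.rTensor N e' x, ?_⟩
      rw [← LinearMap.comp_apply, ← LinearMap.rTensor_comp, he', h2]

end Groth.Agent.S18890
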