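import Groth.Statements.S18891
import Mathlib.AlgebraicGeometry.ZariskisMainTheorem
import Mathlib.AlgebraicGeometry.Morphisms.FormallyUnramified
import Mathlib.AlgebraicGeometry.Morphisms.IsIso
import Mathlib.AlgebraicGeometry.ResidueField
import Mathlib.FieldTheory.IsAlgClosed.AlgebraicClosure

set_option autoImplicit false
universe u
open CategoryTheory CategoryTheory.Limits AlgebraicGeometry
open Mor

namespace Groth.Agent.S18891

/-- Let f : X → Y be a morphism of schemes which is proper and formally unramified, and such that for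
every algebraically closed field Ω the map X(Ω) → Y(Ω), g ↦ g ≫ f, is injective. Then f is a closed
immersion. -/
theorem result {X Y : Scheme.{u}} (f : X ⟶ Y)
    [IsProper f] [FormallyUnramified f]
    (hinj : ∀ (Ω : Type u) [Field Ω] [IsAlgClosed Ω],
      Function.Injective (fun g : Spec (CommRingCat.of Ω) ⟶ X => g ≫ f)) :
    IsClosedImmersion f := by
  rw [IsClosedImmersion.iff_isProper_and_mono]
  refine ⟨inferInstance, ?_⟩
  rw [← Limits.pullback.isIso_diagonal_iff, isIso_iff_isOpenImmersion_and_surjective]
  have hopen : IsOpenImmersion (Limits.pullback.diagonal f) := inferInstance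
  refine ⟨hopen, ⟨fun z => ?_⟩⟩
  let κ := (Limits.pullback f f).residueField z
  let Ω := AlgebraicClosure κ
  obtain ⟨h, hpt⟩ : ∃ h : Spec (CommRingCat.of Ω) ⟶ Limits.pullback f f, ∀ pt, h pt = z :=
    ⟨Spec.map (CommRingCat.ofHom (algebraMap κ Ω)) ≫
      (Limits.pullback f f).fromSpecResidueField z, fun pt => by
      rw [Scheme.Hom.comp_apply]
      exact Scheme.fromSpecResidueField_apply _ _⟩
  have h12 : h ≫ Limits.pullback.fst f f = h ≫ Limits.pullback.snd f f := by
    apply hinj Ω
    change (h ≫ Limits.pullback.fst f f) ≫ f = (h ≫ Limits.pullback.snd f f) ≫ f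
    rw [Category.assoc, Category.assoc, Limits.pullback.condition]
  have hfac : (h ≫ Limits.pullback.fst f f) ≫ Limits.pullback.diagonal f = h := by
    apply Limits.pullback.hom_ext
    · rw [Category.assoc, Limits.pullback.diagonal_fst, Category.comp_id]
    · rw [Category.assoc, Limits.pullback.diagonal_snd, Category.comp_id, h12]
  obtain ⟨pt⟩ : Nonempty (Spec (CommRingCat.of Ω)) := inferInstance
  refine ⟨(h ≫ Limits.pullback.fst f f) pt, ?_⟩
  rw [← Scheme.Hom.comp_apply, hfac]
  exact hpt pt

end Groth.Agent.S18891
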