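import Groth.Statements.S18895
import Groth.Agent.Lib.SmoothConnected54
import Groth.Agent.S1564

set_option autoImplicit false
universe u
open CategoryTheory CategoryTheory.Limits AlgebraicGeometry
open Curves

namespace Groth.Agent.S18895

lemma aux (a : ℕ) (D : ℤ) (g : ℕ) (h1 : (a : ℤ) ≤ D + 1) (h2 : (a : ℤ) = D + 1 → 0 < D → g = 0)
    (hg : 1 ≤ g) (hD : 0 < D) : (a : ℤ) ≤ D := by
  rcases lt_or_eq_of_le h1 with h | h
  · lia
  · have := h2 h hD
    lia

/-- Let k be an algebraically closed field of characteristic different from 2 (the standing convention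
of the section; it plays no role here) and X a connected smooth proper curve over k of genus dim_k
H¹(X, O_X) ≥ 1. For every invertible O_X-module L of positive degree one has dim_k H⁰(X, L) ≤ deg L. -/
theorem result (k : Type u) [Field k] [IsAlgClosed k] (h2 : (2 : k) ≠ 0)
    (X : Scheme.{u}) [X.Over (Spec (CommRingCat.of k))]
    [IsProper (X ↘ Spec (CommRingCat.of k))] [Smooth (X ↘ Spec (CommRingCat.of k))] [ConnectedSpace ↥X]
    (hX : topologicalKrullDim ↥X = 1) (hg : 1 ≤ Curv2.genus k X)
    (L : X.Modules) (hL : PicF.IsInvertible L) (hdeg : 0 < Curv2.deg k X L 1) :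
    (Module.finrank k (Coh.HH X L 0) : ℤ) ≤ Curv2.deg k X L 1 := by
  have hint : IsIntegral X := Groth.Agent.Lib.SmoothConnected54.isIntegral_of_smooth_of_connected k X
  have H : Groth.Agent.Lib.ProperFinHyp.Hyp.{u} := fun A _ _ X _ _ M hM n =>
    Groth.Agent.S0002.result A X M hM n
  have h0 : Module.finrank k (Coh.HH X (Coh.structureModule X) 0) = 1 :=
    Groth.Agent.Lib.CurveH1Van54.finrank_H0_structure_eq_one H k X
  by_cases hs : Nontrivial (Coh.HH X L 0)
  · obtain ⟨h1, h2⟩ := Groth.Agent.S1564.result k X hX h0 L hL hs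
    exact aux _ _ _ h1 h2 hg hdeg
  · have hsub : Subsingleton (Coh.HH X L 0) := not_nontrivial_iff_subsingleton.mp hs
    rw [Module.finrank_zero_of_subsingleton]
    exact_mod_cast hdeg.le

end Groth.Agent.S18895
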