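import Groth.Statements.S18899
import Mathlib.Algebra.Polynomial.GroupRingAction
import Mathlib.Algebra.Polynomial.Eval.Defs
import Mathlib.Algebra.Polynomial.RingDivision
import Mathlib.Algebra.BigOperators.GroupWithZero.Action
import Mathlib.Data.Fintype.EquivFin

set_option autoImplicit false
universe u v w
open CAlg

namespace Groth.Agent.S18899

open Polynomial in
/-- pointwise version, with values in a domain -/
lemma exists_smul_pointwise {A : Type u} [CommRing A] {G : Type v} [Group G] [Fintype G]
    [MulSemiringAction G A] {K : Type w} [CommRing K] [IsDomain K] (f₁ f₂ : A →+* K)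
    (h : ∀ a : A, (∀ g : G, g • a = a) → f₁ a = f₂ a) (a : A) :
    ∃ g : G, f₂ a = f₁ (g • a) := by
  classical
  let P : A[X] := ∏ g : G, (X - C (g • a))
  have hsmul : ∀ g : G, g • P = P := by
    intro g
    simp only [P, Finset.smul_prod', smul_sub, smul_X, smul_C, ← mul_smul]
    exact Equiv.prod_comp (Equiv.mulLeft g) (fun k => (X - C (k • a) : A[X]))
  have hmap : P.map f₁ = P.map f₂ := by
    ext n
    rw [coeff_map, coeff_map]
    exact h _ (fun g => by rw [← coeff_smul, hsmul])
  have h0 : (P.map f₂).eval (f₂ a) = 0 := by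
    rw [eval_map_apply]
    have : P.eval a = 0 := by
      simp only [P, eval_prod, eval_sub, eval_X, eval_C]
      exact Finset.prod_eq_zero (Finset.mem_univ (1 : G)) (by rw [one_smul, sub_self])
    rw [this, map_zero]
  rw [← hmap] at h0
  simp only [P, Polynomial.map_prod, Polynomial.map_sub, map_X, map_C, eval_prod, eval_sub, eval_X,
    eval_C] at h0
  rw [Finset.prod_eq_zero_iff] at h0
  obtain ⟨g, -, hg⟩ := h0
  exact ⟨g, sub_eq_zero.mp hg⟩

/-- Let A be a commutative ring on which a finite group G acts by ring automorphisms, with ring of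
invariants A^G, and let K be a field. If two ring homomorphisms f₁, f₂ : A → K have the same
restriction to A^G, then f₂ = f₁ ∘ γ for some γ ∈ G. -/
theorem result {A : Type u} [CommRing A] {G : Type v} [Group G] [Finite G]
    [MulSemiringAction G A] {K : Type w} [Field K] (f₁ f₂ : A →+* K)
    (h : ∀ a : A, (∀ g : G, g • a = a) → f₁ a = f₂ a) :
    ∃ γ : G, ∀ a : A, f₂ a = f₁ (γ • a) := by
  classical
  let _ : Fintype G := Fintype.ofFinite G
  by_contra hcon
  push Not at hcon
  choose a ha using hcon
  let e : G → ℕ := fun γ => (Fintype.equivFin G γ : ℕ)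
  have he : Function.Injective e := fun x y hxy =>
    (Fintype.equivFin G).injective (Fin.ext hxy)
  let p : Polynomial A := ∑ γ : G, Polynomial.C (a γ) * Polynomial.X ^ (e γ)
  have hcoeff : ∀ g : G, p.coeff (e g) = a g := by
    intro g
    simp only [p, Polynomial.finsetSum_coeff, Polynomial.coeff_C_mul_X_pow]
    rw [Finset.sum_eq_single g]
    · simp
    · intro γ _ hγ
      have : e g ≠ e γ := fun h' => hγ (he h').symm
      simp [this]
    · intro hg
      exact absurd (Finset.mem_univ g) hg
  have h' : ∀ q : Polynomial A, (∀ g : G, g • q = q) →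
      Polynomial.mapRingHom f₁ q = Polynomial.mapRingHom f₂ q := by
    intro q hq
    ext n
    rw [Polynomial.coe_mapRingHom, Polynomial.coe_mapRingHom, Polynomial.coeff_map,
      Polynomial.coeff_map]
    exact h _ (fun g => by rw [← Polynomial.coeff_smul, hq])
  obtain ⟨g, hg⟩ := exists_smul_pointwise (G := G) (Polynomial.mapRingHom f₁)
    (Polynomial.mapRingHom f₂) h' p
  have h2 := congrArg (fun q : Polynomial K => q.coeff (e g)) hg
  simp only [Polynomial.coe_mapRingHom, Polynomial.coeff_map, Polynomial.coeff_smul, hcoeff] at h2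
  exact ha g h2

end Groth.Agent.S18899
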