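import Groth.Statements.S1890
import Mathlib.AlgebraicGeometry.QuasiAffine
import Mathlib.AlgebraicGeometry.Morphisms.Separated
import Mathlib.AlgebraicGeometry.Morphisms.Affine
import Mathlib.AlgebraicGeometry.PullbackCarrier

set_option autoImplicit false
universe u
open CategoryTheory CategoryTheory.Limits AlgebraicGeometry
open Grpd

namespace Groth.Agent.S1890

/-- The image in `Spec Γ(V)` of the part of `V` lying over `V(f)` is closed. -/
theorem isClosed_image_toSpecΓ (A : Type u) [CommRing A] (V : Scheme.{u})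
    (j : V ⟶ Spec (CommRingCat.of A)) [IsImmersion j] (f : A)
    (hcl : IsClosed (Set.range ⇑j ∩ PrimeSpectrum.zeroLocus {f})) :
    IsClosed (⇑V.toSpecΓ '' (⇑j ⁻¹' PrimeSpectrum.zeroLocus {f})) := by
  let q : CommRingCat.of A ⟶ CommRingCat.of (A ⧸ Ideal.span {f}) :=
    CommRingCat.ofHom (Ideal.Quotient.mk _)
  have hq : Set.range ⇑(Spec.map q) = PrimeSpectrum.zeroLocus {f} := by
    have := range_comap_of_surjective (A ⧸ Ideal.span {f})
      (Ideal.Quotient.mk (Ideal.span {f})) Ideal.Quotient.mk_surjective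
    rw [Ideal.mk_ker, PrimeSpectrum.zeroLocus_span] at this
    exact this
  have hcl1 : IsClosedImmersion (Spec.map q) :=
    IsClosedImmersion.spec_of_surjective q Ideal.Quotient.mk_surjective
  let ι : pullback j (Spec.map q) ⟶ V := pullback.fst j (Spec.map q)
  have hι : Set.range ⇑ι = ⇑j ⁻¹' PrimeSpectrum.zeroLocus {f} := by
    rw [Scheme.Pullback.range_fst, hq]
  have hιj : IsClosedImmersion (ι ≫ j) := by
    apply IsClosedImmersion.of_isPreimmersion
    rw [Scheme.Pullback.range_fst_comp, hq]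
    exact hcl
  have hfac : ι ≫ j = (ι ≫ V.toSpecΓ) ≫ (Spec.map j.appTop ≫ inv (Spec (CommRingCat.of A)).toSpecΓ) := by
    rw [Category.assoc, ← Scheme.toSpecΓ_naturality_assoc, IsIso.hom_inv_id, Category.comp_id]
  rw [hfac] at hιj
  have h2 : IsClosedImmersion (ι ≫ V.toSpecΓ) :=
    IsClosedImmersion.of_comp _ (Spec.map j.appTop ≫ inv (Spec (CommRingCat.of A)).toSpecΓ)
  have h3 := (ι ≫ V.toSpecΓ).isClosedEmbedding.isClosed_range
  have h4 : Set.range ⇑(ι ≫ V.toSpecΓ) = ⇑V.toSpecΓ '' Set.range ⇑ι := by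
    rw [← Set.range_comp]
    rfl
  rwa [h4, hι] at h3

theorem result (A : Type u) [CommRing A] (V : Scheme.{u}) (j : V ⟶ Spec (CommRingCat.of A)) [IsImmersion j] [QuasiCompact j] (f : A) (haff : IsAffineOpen (j ⁻¹ᵁ PrimeSpectrum.basicOpen f)) (hcl : IsClosed (Set.range ⇑j ∩ PrimeSpectrum.zeroLocus {f})) : IsAffine V := by
  have hcomp : CompactSpace V := QuasiCompact.compactSpace_of_compactSpace j
  have hqa : V.IsQuasiAffine := Scheme.IsQuasiAffine.of_isImmersion j
  have hT := isClosed_image_toSpecΓ A V j f hcl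
  apply isAffine_of_isAffineOpen_basicOpen {g : Γ(V, ⊤) | IsAffineOpen (V.basicOpen g)} _
    (fun g hg => hg)
  by_contra hne
  obtain ⟨m, hm, hle⟩ := Ideal.exists_le_maximal _ hne
  let p : PrimeSpectrum Γ(V, ⊤) := ⟨m, hm.isPrime⟩
  by_cases hp : p ∈ Set.range ⇑V.toSpecΓ
  · obtain ⟨v, hv⟩ := hp
    obtain ⟨_, ⟨_, ⟨r, hr, rfl⟩, rfl⟩, hxr, -⟩ := (Scheme.IsQuasiAffine.isBasis_basicOpen
      V).exists_subset_of_mem_open (Set.mem_univ v) isOpen_univ
    have h1 : r ∈ m := hle (Ideal.subset_span hr)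
    rw [← Scheme.toSpecΓ_preimage_basicOpen] at hxr
    have h2 : V.toSpecΓ v ∈ PrimeSpectrum.basicOpen r := hxr
    rw [hv] at h2
    exact h2 h1
  · have hpT : p ∈ (⇑V.toSpecΓ '' (⇑j ⁻¹' PrimeSpectrum.zeroLocus {f}))ᶜ := by
      rintro ⟨v, -, hv⟩
      exact hp ⟨v, hv⟩
    obtain ⟨_, ⟨_, ⟨g, rfl⟩, rfl⟩, hpg, hgT⟩ := (PrimeSpectrum.isBasis_basic_opens
      (R := Γ(V, ⊤))).exists_subset_of_mem_open hpT hT.isOpen_compl
    have hle' : V.basicOpen g ≤ j ⁻¹ᵁ PrimeSpectrum.basicOpen f := by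
      intro v hv
      rw [← Scheme.toSpecΓ_preimage_basicOpen] at hv
      have h1 : V.toSpecΓ v ∈ (PrimeSpectrum.basicOpen g : Set (PrimeSpectrum Γ(V, ⊤))) := hv
      have h2 := hgT h1
      change j v ∈ (PrimeSpectrum.basicOpen f : Set (PrimeSpectrum A))
      rw [PrimeSpectrum.basicOpen_eq_zeroLocus_compl]
      intro h3
      exact h2 ⟨v, h3, rfl⟩
    have hg : IsAffineOpen (V.basicOpen g) := by
      have h1 := haff.basicOpen (V.presheaf.map (homOfLE le_top).op g)
      rwa [Scheme.basicOpen_res, inf_eq_right.mpr hle'] at h1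
    have h1 : g ∈ m := hle (Ideal.subset_span hg)
    exact hpg h1

end Groth.Agent.S1890
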