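import Groth.Statements.S18900
import Mathlib
import Groth.Agent.Lib.DblCovGeom37

set_option autoImplicit false
universe u
open CategoryTheory CategoryTheory.Limits AlgebraicGeometry
open DblCov

namespace Groth.Agent.S18900

open Groth.Agent.Lib.DblCovGeom37 Groth.Agent.Lib.DblCovRing37 Groth.Agent.Lib.IsQuotLocal37
  Groth.Agent.Lib.H8IsQuotBasis

/-- the automorphisms of `X` over `Y` -/
def stab {X Y : Scheme.{u}} (f : X ⟶ Y) : Subgroup (Aut X) where
  carrier := {τ | τ.hom ≫ f = f}
  mul_mem' := by
    intro a b ha hb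
    change (a * b).hom ≫ f = f
    have : (a * b).hom = b.hom ≫ a.hom := rfl
    rw [this, Category.assoc]
    change b.hom ≫ a.hom ≫ f = f
    rw [show a.hom ≫ f = f from ha]
    exact hb
  one_mem' := by
    change (1 : Aut X).hom ≫ f = f
    have : (1 : Aut X).hom = 𝟙 X := rfl
    rw [this, Category.id_comp]
  inv_mem' := by
    intro a ha
    change (a⁻¹).hom ≫ f = f
    have : (a⁻¹).hom = a.inv := rfl
    rw [this, Iso.inv_comp_eq]
    exact (show a.hom ≫ f = f from ha).symm

/-- Let f : X → Y be a double cover, i.e. a finite, flat, locally finitely presented morphism of rank 2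
at every point, and assume 2 is invertible in O_Y(Y). Then X carries a Y-automorphism σ with σ ∘ σ =
id such that f is the quotient of X by the group generated by σ: f is affine and σ-invariant, and
over every open subset of Y the sections of O_Y are exactly the σ-invariant sections of O_X. (The
source adds that σ has order exactly 2, which holds as soon as X is non-empty.) -/
theorem result {X Y : Scheme.{u}} (f : X ⟶ Y)
    [IsFinite f] [Flat f] [LocallyOfFinitePresentation f] (hrk : ∀ y : Y, f.finrank y = 2)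
    (h2 : IsUnit (2 : Γ(Y, ⊤))) :
    ∃ σ : Aut X, σ.hom ≫ f = f ∧ σ * σ = 1 ∧ SGA1.IsQuot (Subgroup.zpowers σ).subtype f := by
  have hcovY := fun y => exists_good f hrk y
  have hcov : ∀ x : X, ∃ V : Y.Opens, Good f V ∧ f x ∈ V := fun x => hcovY (f x)
  have hs2 : sigma f hcov ≫ sigma f hcov = 𝟙 X := sigma_sigma f hcov
  let σ : Aut X := ⟨sigma f hcov, sigma f hcov, hs2, hs2⟩
  have hσf : σ.hom ≫ f = f := sigma_f f hcov
  have hσσ : σ * σ = 1 := by
    apply Iso.ext
    exact hs2
  refine ⟨σ, hσf, hσσ, ?_⟩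
  haveI : Finite (Subgroup.zpowers σ) := by
    have hfo : IsOfFinOrder σ :=
      isOfFinOrder_iff_pow_eq_one.mpr ⟨2, by norm_num, by rw [pow_two]; exact hσσ⟩
    exact hfo.finite_zpowers.to_subtype
  have hle : Subgroup.zpowers σ ≤ stab f := by
    rw [Subgroup.zpowers_le]
    exact hσf
  have hinv : ∀ g : Subgroup.zpowers σ, ((Subgroup.zpowers σ).subtype g).hom ≫ f = f :=
    fun g => hle g.2
  have h2V : ∀ V : Y.Opens, IsUnit (2 : Γ(Y, V)) := by
    intro V
    have := h2.map (Y.presheaf.map (homOfLE (le_top : V ≤ ⊤)).op).hom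
    rwa [map_ofNat] at this
  refine isQuot_of_affine_cover (Subgroup.zpowers σ).subtype f hinv {V | Good f V}
    (fun V hV => hV.1)
    (fun y => by obtain ⟨V, hV, hy⟩ := hcovY y; exact ⟨V, hV, hy⟩) ?_ ?_
  · intro V hV
    exact app_injective hV (h2V V)
  · intro V hV a ha
    have h1 := ha ⟨σ, Subgroup.mem_zpowers σ⟩
    have h3 : (sHom hV).hom a = a := by
      rw [← sigma_appLE f hcov hV (SGA1.preimage_le_of_inv (Subgroup.zpowers σ).subtype f hinv
        ⟨σ, Subgroup.mem_zpowers σ⟩ V)]
      exact h1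
    exact (sHom_eq_self_iff hV (h2V V) a).mp h3

end Groth.Agent.S18900
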