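import Groth.Statements.S18905
import Groth.Agent.Lib.SqZeroSpec
import Groth.Agent.Lib.DualNumberUnramified

set_option autoImplicit false
universe u
open CategoryTheory CategoryTheory.Limits AlgebraicGeometry
open Mor

namespace Groth.Agent.S18905

/-- Let k be an algebraically closed field and X a scheme locally of finite type over k. Then X → Spec k
is formally unramified if and only if the map Hom_k(Spec k[ε], X) → Hom_k(Spec k, X) given by
restricting along the closed immersion of Spec k into Spec k[ε] (k[ε] the ring of dual numbers, ε ↦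
0), is bijective; since that map is always surjective, the condition is stated as injectivity: two
k-morphisms from Spec k[ε] to X which agree on Spec k are equal. -/
theorem result (k : Type u) [Field k] [IsAlgClosed k]
    {X : Scheme.{u}} (p : X ⟶ Spec (CommRingCat.of k)) [LocallyOfFiniteType p] :
    FormallyUnramified p ↔
      ∀ v₁ v₂ : Spec (CommRingCat.of (DualNumber k)) ⟶ X,
        v₁ ≫ p = Spec.map (CommRingCat.ofHom (algebraMap k (DualNumber k))) →
        v₂ ≫ p = Spec.map (CommRingCat.ofHom (algebraMap k (DualNumber k))) →
        Spec.map (CommRingCat.ofHom (TrivSqZeroExt.fstHom k k k).toRingHom) ≫ v₁ =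
          Spec.map (CommRingCat.ofHom (TrivSqZeroExt.fstHom k k k).toRingHom) ≫ v₂ →
        v₁ = v₂ := by
  have hs : Function.Surjective (TrivSqZeroExt.fstHom k k k).toRingHom := fun c =>
    ⟨TrivSqZeroExt.inl c, rfl⟩
  have hk : RingHom.ker (TrivSqZeroExt.fstHom k k k).toRingHom ^ 2 = ⊥ := by
    rw [eq_bot_iff, pow_two, Ideal.mul_le]
    intro x hx y hy
    have hx0 : TrivSqZeroExt.fst x = 0 := hx
    have hy0 : TrivSqZeroExt.fst y = 0 := hy
    rw [Ideal.mem_bot]
    ext
    · simp [hx0]
    · simp [hx0, hy0]
  constructor
  · intro hp v₁ v₂ h1 h2 h12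
    have : IsClosedImmersion (Spec.map (CommRingCat.ofHom (TrivSqZeroExt.fstHom k k k).toRingHom)) :=
      IsClosedImmersion.spec_of_surjective _ hs
    exact FormallyUnramified.hom_ext _
      (Groth.Agent.Lib.SqZeroSpec.isNilpotent_ker_SpecMap _ hs hk) p h12 (h1.trans h2.symm)
  · intro H
    have : IsZariskiLocalAtSource @AlgebraicGeometry.FormallyUnramified.{u} :=
      HasRingHomProperty.instIsZariskiLocalAtSource (Q := RingHom.FormallyUnramified)
    rw [IsZariskiLocalAtSource.iff_of_openCover (P := @AlgebraicGeometry.FormallyUnramified) X.affineOpenCover.openCover]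
    intro i
    change FormallyUnramified (X.affineOpenCover.f i ≫ p)
    have hoi : IsOpenImmersion (X.affineOpenCover.f i) := X.affineOpenCover.map_prop i
    have hft : LocallyOfFiniteType (X.affineOpenCover.f i ≫ p) := inferInstance
    set ψ := Spec.preimage (X.affineOpenCover.f i ≫ p) with hψdef
    have hψ : Spec.map ψ = X.affineOpenCover.f i ≫ p := Spec.map_preimage _
    rw [← hψ] at hft ⊢
    rw [HasRingHomProperty.Spec_iff (P := @LocallyOfFiniteType)] at hft
    rw [HasRingHomProperty.Spec_iff (P := @AlgebraicGeometry.FormallyUnramified)]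
    algebraize [ψ.hom]
    change Algebra.FormallyUnramified k (X.affineOpenCover.X i)
    apply Groth.Agent.Lib.DualNumberUnramified.formallyUnramified_of_dualNumber_inj
    intro g₁ g₂ hg
    have key := H (Spec.map (CommRingCat.ofHom g₁.toRingHom) ≫ X.affineOpenCover.f i)
      (Spec.map (CommRingCat.ofHom g₂.toRingHom) ≫ X.affineOpenCover.f i)
      (by
        rw [Category.assoc, ← hψ, ← Spec.map_comp]
        congr 1
        exact CommRingCat.hom_ext g₁.comp_algebraMap)
      (by
        rw [Category.assoc, ← hψ, ← Spec.map_comp]
        congr 1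
        exact CommRingCat.hom_ext g₂.comp_algebraMap)
      (by
        rw [← Spec.map_comp_assoc, ← Spec.map_comp_assoc, ← CommRingCat.ofHom_comp,
          ← CommRingCat.ofHom_comp]
        congr 3
        exact congrArg AlgHom.toRingHom hg)
    rw [cancel_mono, Spec.map_inj] at key
    exact AlgHom.ext fun a => congr($key a)

end Groth.Agent.S18905
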