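import Groth.Statements.S18916
import Groth.Agent.Lib.HomSh53d
import Groth.Agent.Lib.HomSh53c
import Groth.Agent.Lib.LocFact82
import Groth.Agent.Lib.StructureModuleStalk

set_option autoImplicit false
universe u
open CategoryTheory CategoryTheory.Limits AlgebraicGeometry
open TFNodal

namespace Groth.Agent.S18916

open Groth.Agent.Lib.LocFact82 Groth.Agent.Lib.StructureModuleStalk

/-- Over a reduced local ring whose maximal ideal is not a minimal prime, the maximal ideal is not
associated to a module of homomorphisms into (a module isomorphic to) the ring. -/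
theorem not_isAssociatedPrime_hom {A : Type u} [CommRing A] [IsLocalRing A] [IsReduced A]
    (hmin : IsLocalRing.maximalIdeal A ∉ minimalPrimes A)
    {M N : Type u} [AddCommGroup M] [Module A M] [AddCommGroup N] [Module A N]
    (e : N ≃ₗ[A] A) :
    ¬ IsAssociatedPrime (IsLocalRing.maximalIdeal A) (M →ₗ[A] N) := by
  rintro ⟨-, φ, hφ⟩
  have hφ0 : φ ≠ 0 := by
    rintro rfl
    have htop : IsLocalRing.maximalIdeal A = ⊤ := by
      rw [hφ, Ideal.radical_eq_top, Ideal.eq_top_iff_one, Submodule.mem_colon_singleton]
      simp
    exact (IsLocalRing.maximalIdeal.isMaximal A).ne_top htop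
  obtain ⟨x, hx⟩ : ∃ x, φ x ≠ 0 := by
    by_contra hcon
    push Not at hcon
    exact hφ0 (LinearMap.ext hcon)
  set a : A := e (φ x) with ha
  have ha0 : a ≠ 0 := by
    rw [ha, Ne, LinearEquiv.map_eq_zero_iff]
    exact hx
  apply ha0
  have hnil : a ∈ nilradical A := by
    rw [nilradical_eq_sInf, Ideal.mem_sInf]
    intro p hp
    have hp' : p.IsPrime := hp
    obtain ⟨q, hqmin, hqp⟩ := Ideal.exists_minimalPrimes_le (show (⊥ : Ideal A) ≤ p from bot_le)
    have hq' : q.IsPrime := hqmin.1.1
    apply hqp
    have hqm : q ≠ IsLocalRing.maximalIdeal A := fun h => hmin (h ▸ hqmin)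
    have hlt : q < IsLocalRing.maximalIdeal A :=
      lt_of_le_of_ne (IsLocalRing.le_maximalIdeal hq'.ne_top) hqm
    obtain ⟨t, htm, htq⟩ := Set.exists_of_ssubset hlt
    rw [hφ] at htm
    obtain ⟨k, hk⟩ := htm
    rw [Submodule.mem_colon_singleton, Submodule.mem_bot] at hk
    have h1 : t ^ k * a = 0 := by
      rw [ha, ← smul_eq_mul, ← map_smul, ← LinearMap.smul_apply, hk, LinearMap.zero_apply,
        map_zero]
    have h2 : t ^ k * a ∈ q := by rw [h1]; exact q.zero_mem
    rcases hq'.mem_or_mem h2 with h3 | h3
    · exact absurd (hq'.mem_of_pow_mem k h3) htq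
    · exact h3
  have := (nilradical_eq_zero A) ▸ hnil
  exact this

/-- If the maximal ideal of the local ring at `x` is a minimal prime then `x` has no proper
generization. -/
theorem eq_of_specializes_of_mem_minimalPrimes (X : Scheme.{u}) (x : X)
    (hmin : IsLocalRing.maximalIdeal (X.presheaf.stalk x) ∈ minimalPrimes (X.presheaf.stalk x))
    (ζ : X) (h : ζ ⤳ x) : ζ = x := by
  have hle : genPrime X h ≤ IsLocalRing.maximalIdeal (X.presheaf.stalk x) :=
    IsLocalRing.le_maximalIdeal (genPrime_isPrime X h).ne_top
  have heq : genPrime X h = IsLocalRing.maximalIdeal (X.presheaf.stalk x) :=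
    le_antisymm hle (hmin.2 ⟨genPrime_isPrime X h, bot_le⟩ hle)
  exact eq_of_genPrime_eq X h specializes_rfl (heq.trans (genPrime_refl X x).symm)


/-- Let k be an algebraically closed field of characteristic zero, X a reduced proper curve over k (a
proper k-scheme of dimension one) without isolated points (no closed point is open, i.e. X is
one-dimensional at every point) and F a coherent O_X-module. Then the dual 𝓗om(F, O_X) is torsion
free: no closed point of X is an associated point of it. -/
theorem result
    (k : Type u) [Field k] [IsAlgClosed k] [CharZero k]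
    (X : Scheme.{u}) [X.Over (Spec (CommRingCat.of k))] [IsProper (X ↘ Spec (CommRingCat.of k))]
    [AlgebraicGeometry.IsReduced X] (hdim : topologicalKrullDim X = 1)
    (hpure : ∀ x : X, IsClosed ({x} : Set X) → ¬ IsOpen ({x} : Set X))
    (F : X.Modules) (hF : Coh.IsCoh F) (x : X) (hx : IsClosed ({x} : Set X)) :
    ¬ Curv2.IsAssPoint (RefHull.dual F) x := by
  haveI : IsLocallyNoetherian X :=
    LocallyOfFiniteType.isLocallyNoetherian (X ↘ Spec (CommRingCat.of k))
  have hFP : CohB1.IsFP F := Groth.Agent.Lib.HomSh53.isFP_of_isCoh hF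
  intro hass
  -- the maximal ideal is not minimal
  have hmin : IsLocalRing.maximalIdeal (X.presheaf.stalk x) ∉ minimalPrimes (X.presheaf.stalk x) := by
    intro hmin
    apply hpure x hx
    apply isOpen_singleton_of_forall_specializes X x
    · exact eq_of_specializes_of_mem_minimalPrimes X x hmin
    · intro y hy
      have : y ∈ closure ({x} : Set X) := hy.mem_closure
      rw [hx.closure_eq] at this
      exact this
  let E := LinearEquiv.ofBijective (RefHull.evalStalk F (Coh.structureModule X) x)
    (Groth.Agent.Lib.HomSh53.evalStalk_bijective hFP x)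
  have h1 : IsAssociatedPrime (IsLocalRing.maximalIdeal (X.presheaf.stalk x))
      (RefHull.StalkHom F (Coh.structureModule X) x) :=
    (E.isAssociatedPrime_iff).mp hass
  exact not_isAssociatedPrime_hom hmin (stalkEquiv x).symm h1

end Groth.Agent.S18916
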