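import Groth.Statements.S18928
-- import your own Groth.Agent.* helpers here

set_option autoImplicit false
universe u
open DPow

namespace Groth.Agent.S18928

/-- Let B be a commutative ring, I an ideal of B with a divided power structure, p a prime, r a natural
number, b an element of B and δ an element of I. Then (b + δ)^(p^r) − b^(p^r) lies in the ideal p^r
I. (The source states this for a divided power thickening over the Witt vectors of length n and 0 ≤
r ≤ n; neither restriction is used.) -/
theorem result {B : Type u} [CommRing B] {I : Ideal B}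
    (hI : DividedPowers I) (p : ℕ) [Fact p.Prime] (r : ℕ) (b δ : B) (hδ : δ ∈ I) :
    (b + δ) ^ (p ^ r) - b ^ (p ^ r) ∈ Ideal.span {((p : B) ^ r)} * I := by
  have hN : 1 ≤ p ^ r := Nat.one_le_pow _ _ (Fact.out : p.Prime).pos
  obtain ⟨N, hNeq⟩ : ∃ N, p ^ r = N + 1 := ⟨p ^ r - 1, by omega⟩
  have hcast : ((N + 1 : ℕ) : B) = (p : B) ^ r := by rw [← hNeq]; push_cast; rfl
  rw [hNeq, add_comm b δ, add_pow, Finset.sum_range_succ']
  simp only [pow_zero, one_mul, Nat.sub_zero, Nat.choose_zero_right, Nat.cast_one, mul_one,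
    add_sub_cancel_right]
  refine Submodule.sum_mem _ fun m _ => ?_
  have h1 : δ ^ (m + 1) * ((N + 1).choose (m + 1) : B) =
      (p : B) ^ r * ((N.descFactorial m : B) * hI.dpow (m + 1) δ) := by
    rw [← hI.factorial_mul_dpow_eq_pow hδ, ← hcast]
    have h2 : ((m + 1).factorial : B) * ((N + 1).choose (m + 1) : B) =
        ((N + 1 : ℕ) : B) * (N.descFactorial m : B) := by
      rw [← Nat.cast_mul, ← Nat.cast_mul, ← Nat.descFactorial_eq_factorial_mul_choose,
        Nat.succ_descFactorial_succ]
    calc ((m + 1).factorial : B) * hI.dpow (m + 1) δ * ((N + 1).choose (m + 1) : B)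
        = (((m + 1).factorial : B) * ((N + 1).choose (m + 1) : B)) * hI.dpow (m + 1) δ := by ring
      _ = ((N + 1 : ℕ) : B) * ((N.descFactorial m : B) * hI.dpow (m + 1) δ) := by
          rw [h2]; ring
  have h3 : δ ^ (m + 1) * b ^ (N + 1 - (m + 1)) * ((N + 1).choose (m + 1) : B) =
      (p : B) ^ r * (b ^ (N + 1 - (m + 1)) * ((N.descFactorial m : B) * hI.dpow (m + 1) δ)) := by
    calc δ ^ (m + 1) * b ^ (N + 1 - (m + 1)) * ((N + 1).choose (m + 1) : B)
        = b ^ (N + 1 - (m + 1)) * (δ ^ (m + 1) * ((N + 1).choose (m + 1) : B)) := by ring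
      _ = _ := by rw [h1]; ring
  rw [h3]
  refine Ideal.mul_mem_mul (Ideal.mem_span_singleton_self _) ?_
  exact I.mul_mem_left _ (I.mul_mem_left _ (hI.dpow_mem (Nat.succ_ne_zero m) hδ))

end Groth.Agent.S18928
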