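import Groth.Statements.S18929
import Groth.Agent.S18928
import Mathlib.RingTheory.WittVector.Truncated
import Mathlib.Tactic

set_option autoImplicit false
universe u
open DPow

namespace Groth.Agent.S18929

/-- Let p be a prime, n a natural number, B a commutative ring in which p^n = 0, and I an ideal of B
equipped with divided powers. There is a ring homomorphism θ from the truncated Witt vectors
W_n(B/I) to B such that, for every Witt vector x over B, θ applied to the truncation of the image of
x in W_n(B/I) equals Σ_{i<n} p^i x_i^(p^(n−i)); in particular this sum depends only on the residues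
of x_0, …, x_{n−1} modulo I. (The source works with a divided power thickening of an algebra over a
perfect field and also checks linearity over the Witt vectors of that field; only the ring
homomorphism is asserted here. θ is unique, the truncation-of-reduction map being surjective.) -/
theorem result (p : ℕ) [Fact p.Prime] (n : ℕ)
    {B : Type u} [CommRing B] (hp : (p : B) ^ n = 0) {I : Ideal B} (hI : DividedPowers I) :
    ∃ θ : TruncatedWittVector p n (B ⧸ I) →+* B, ∀ x : WittVector p B, θ (WittVector.truncate n (WittVector.map (Ideal.Quotient.mk I) x)) =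
        ∑ i : Fin n, (p : B) ^ (i : ℕ) * (x.coeff i) ^ (p ^ (n - i)) := by
  let f : WittVector p B →+* TruncatedWittVector p n (B ⧸ I) :=
    (WittVector.truncate n).comp (WittVector.map (Ideal.Quotient.mk I))
  have hf : Function.Surjective f :=
    (WittVector.truncate_surjective p n _).comp
      (WittVector.map_surjective _ Ideal.Quotient.mk_surjective)
  let g : WittVector p B →+* B := WittVector.ghostComponent n
  have hg : ∀ x : WittVector p B,
      g x = ∑ i : Fin n, (p : B) ^ (i : ℕ) * (x.coeff i) ^ (p ^ (n - i)) := by
    intro x
    change WittVector.ghostComponent n x = _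
    rw [WittVector.ghostComponent_apply, aeval_wittPolynomial, Finset.sum_range_succ, hp, zero_mul,
      add_zero, Finset.sum_range]
  have hker : RingHom.ker f ≤ RingHom.ker g := by
    intro x hx
    rw [RingHom.mem_ker] at hx ⊢
    rw [hg]
    apply Finset.sum_eq_zero
    intro i _
    have hxi : x.coeff i ∈ I := by
      have h1 := congrArg (fun y => TruncatedWittVector.coeff i y) hx
      simp only [f, RingHom.comp_apply, WittVector.coeff_truncate, WittVector.map_coeff,
        TruncatedWittVector.coeff_zero] at h1
      exact Ideal.Quotient.eq_zero_iff_mem.mp h1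
    have h2 := Groth.Agent.S18928.result hI p (n - i) 0 (x.coeff i) hxi
    have hne : p ^ (n - (i : ℕ)) ≠ 0 := pow_ne_zero _ (Fact.out : p.Prime).ne_zero
    rw [zero_add, zero_pow hne, sub_zero] at h2
    have hle : Ideal.span {(p : B) ^ (n - (i : ℕ))} * I ≤ Ideal.span {(p : B) ^ (n - (i : ℕ))} :=
      Ideal.mul_le_left
    have h3 : x.coeff i ^ p ^ (n - (i : ℕ)) ∈ Ideal.span {(p : B) ^ (n - (i : ℕ))} := hle h2
    obtain ⟨c, hc⟩ := Ideal.mem_span_singleton'.mp h3
    rw [← hc, mul_comm c, ← mul_assoc, ← pow_add, Nat.add_sub_cancel' i.2.le, hp, zero_mul]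
  obtain ⟨θ, hθ⟩ : ∃ θ : TruncatedWittVector p n (B ⧸ I) →+* B, ∀ x, θ (f x) = g x :=
    ⟨RingHom.liftOfSurjective f hf ⟨g, hker⟩,
      RingHom.liftOfSurjective_comp_apply f hf ⟨g, hker⟩⟩
  clear_value g
  refine ⟨θ, fun x => ?_⟩
  rw [← hg]
  exact hθ x

end Groth.Agent.S18929
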