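import Groth.Statements.S1893
import Mathlib.AlgebraicGeometry.Morphisms.UniversallyOpen

set_option autoImplicit false
universe u
open CategoryTheory CategoryTheory.Limits AlgebraicGeometry
open Grpd

namespace Groth.Agent.S1893

/-- Covering argument: if every point of a quasi-compact set `E` has a quasi-compact open
neighbourhood on which `P` holds, there is a quasi-compact open containing `E` on which `P` holds. -/
theorem exists_compact_open_of_local (U : Scheme.{u}) (E : Set U) (hE : IsCompact E)
    (P : U → Prop) (hP : ∀ e ∈ E, ∃ W : U.Opens, IsCompact (W : Set U) ∧ e ∈ W ∧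
      ∀ y ∈ W, P y) : ∃ V : U.Opens, IsCompact (V : Set U) ∧ E ⊆ V ∧ ∀ y ∈ V, P y := by
  choose! W hWc hWe hWP using hP
  obtain ⟨t, htE, htfin, hcov⟩ := hE.elim_finite_subcover_image (b := E)
    (c := fun e => (W e : Set U))
    (fun e _ => (W e).isOpen) (fun e he => Set.mem_biUnion he (hWe e he))
  refine ⟨⨆ e ∈ t, W e, ?_, ?_, ?_⟩
  · have : ((⨆ e ∈ t, W e : U.Opens) : Set U) = ⋃ e ∈ t, (W e : Set U) := by
      simp
    rw [this]
    exact htfin.isCompact_biUnion (fun e he => hWc e (htE he))
  · intro x hx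
    have := hcov hx
    simpa using this
  · intro y hy
    simp only [TopologicalSpace.Opens.mem_iSup] at hy
    obtain ⟨e, he, hy⟩ := hy
    exact hWP e (htE he) y hy

/-- Every point of a scheme has a quasi-compact open neighbourhood inside a given open
neighbourhood. -/
theorem exists_compact_open_nhd (U : Scheme.{u}) (x : U) (O : U.Opens) (hx : x ∈ O) :
    ∃ W : U.Opens, IsCompact (W : Set U) ∧ x ∈ W ∧ W ≤ O := by
  obtain ⟨_, ⟨W, hW, rfl⟩, hxW, hWO⟩ :=
    (U.isBasis_affineOpens).exists_subset_of_mem_open hx O.isOpen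
  exact ⟨W, IsAffineOpen.isCompact hW, hxW, hWO⟩

/-- A quasi-compact subset of a scheme which is stable under generalization is the intersection
of the quasi-compact opens containing it, and there is at least one such open. -/
theorem exists_compact_opens_iInter (U : Scheme.{u}) (E : Set U) (hE : IsCompact E)
    (hgen : StableUnderGeneralization E) :
    ∃ (ι : Type u) (_ : Nonempty ι) (V : ι → U.Opens),
      (∀ i, IsCompact (V i : Set U)) ∧ E = ⋂ i, (V i : Set U) := by
  refine ⟨{V : U.Opens // IsCompact (V : Set U) ∧ E ⊆ V}, ?_, fun V => V.1, fun V => V.2.1, ?_⟩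
  · obtain ⟨V, hVc, hEV, -⟩ := exists_compact_open_of_local U E hE (fun _ => True) (fun e _ => by
      obtain ⟨W, hW, hxW, -⟩ := exists_compact_open_nhd U e ⊤ trivial
      exact ⟨W, hW, hxW, fun _ _ => trivial⟩)
    exact ⟨⟨V, hVc, hEV⟩⟩
  · apply Set.Subset.antisymm
    · intro e he
      simp only [Set.mem_iInter]
      intro V
      exact V.2.2 he
    · intro x hx
      by_contra hxE
      obtain ⟨V, hVc, hEV, hVx⟩ := exists_compact_open_of_local U E hE (fun y => y ≠ x) (fun e he => by
        have hne : ¬ x ⤳ e := fun h => hxE (hgen h he)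
        rw [specializes_iff_forall_open] at hne
        push Not at hne
        obtain ⟨O, hO, heO, hxO⟩ := hne
        obtain ⟨W, hW, hxW, hWO⟩ := exists_compact_open_nhd U e ⟨O, hO⟩ heO
        exact ⟨W, hW, hxW, fun y hy hyx => hxO (hyx ▸ hWO hy)⟩)
      simp only [Set.mem_iInter] at hx
      exact hVx x (hx ⟨V, hVc, hEV⟩) rfl

theorem result (S : Scheme.{u}) (G : Grpd.GroupoidScheme S) [QuasiCompact G.s] [Flat G.s] [QuasiCompact G.t] [Flat G.t] [QuasiSeparatedSpace G.U] (W : G.U.Opens) (hW : IsCompact (W : Set G.U)) : ∃ (ι : Type u) (_ : Nonempty ι) (V : ι → G.U.Opens), (∀ i, IsCompact (V i : Set G.U)) ∧ ⇑G.t '' (⇑G.s ⁻¹' (W : Set G.U)) = ⋂ i, (V i : Set G.U) := by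
  apply exists_compact_opens_iInter
  · apply IsCompact.image _ G.t.continuous
    exact QuasiCompact.isCompact_preimage (f := G.s) _ W.isOpen hW
  · intro x y hyx hx
    obtain ⟨r, hr, rfl⟩ := hx
    obtain ⟨r', hr', rfl⟩ := (Flat.generalizingMap G.t) hyx
    refine ⟨r', ?_, rfl⟩
    exact (W.isOpen.preimage G.s.continuous).stableUnderGeneralization hr' hr

end Groth.Agent.S1893
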