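import Groth.Statements.S18930
import Mathlib.RingTheory.WittVector.Truncated
import Mathlib.RingTheory.WittVector.Identities
import Mathlib.Tactic

set_option autoImplicit false
universe u
open DPow

namespace Groth.Agent.S18930

/-- Let p be a prime, n ≥ 1, B a commutative ring with p^n = 0 and A = B/pB. Let θ : W_n(A) → B be the
ring homomorphism which sends the reduction of a Witt vector (x_0, …, x_{n−1}) over B to Σ_{i<n} p^i
x_i^(p^(n−i)), let J_n be its kernel and let I_n be the set of a in W_n(A) whose zeroth component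
satisfies a_0^(p^n) = 0. Then J_n + (p) ⊆ I_n. (In the source B is the ring of global sections of a
scheme over the Witt vectors of length n of a perfect field.) -/
theorem result (p : ℕ) [Fact p.Prime] (n : ℕ) (hn : 0 < n)
    {B : Type u} [CommRing B] (hp : (p : B) ^ n = 0)
    (θ : TruncatedWittVector p n (B ⧸ (Ideal.span {(p : B)})) →+* B)
    (hθ : ∀ x : WittVector p B, θ (WittVector.truncate n (WittVector.map (Ideal.Quotient.mk (Ideal.span {(p : B)})) x)) =
        ∑ i : Fin n, (p : B) ^ (i : ℕ) * (x.coeff i) ^ (p ^ (n - i)))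
    (a : TruncatedWittVector p n (B ⧸ (Ideal.span {(p : B)})))
    (ha : a ∈ RingHom.ker θ ⊔ Ideal.span {(p : TruncatedWittVector p n (B ⧸ (Ideal.span {(p : B)})))}) :
    (TruncatedWittVector.coeff ⟨0, hn⟩ a) ^ (p ^ n) = 0 := by
  rcases subsingleton_or_nontrivial (B ⧸ (Ideal.span {(p : B)})) with hsub | hnt
  · exact Subsingleton.elim _ _
  have hp0 : ((p : ℕ) : B ⧸ (Ideal.span {(p : B)})) = 0 := by
    have : Ideal.Quotient.mk (Ideal.span {(p : B)}) (p : B) = 0 :=
      Ideal.Quotient.eq_zero_iff_mem.mpr (Ideal.mem_span_singleton_self _)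
    simpa using this
  have hchar : CharP (B ⧸ (Ideal.span {(p : B)})) p :=
    ringChar.of_eq (CharP.ringChar_of_prime_eq_zero (Fact.out : p.Prime) hp0)
  obtain ⟨u, hu, v, hv, rfl⟩ := Submodule.mem_sup.mp ha
  obtain ⟨c, rfl⟩ := Ideal.mem_span_singleton'.mp hv
  obtain ⟨U, rfl⟩ := WittVector.truncate_surjective p n _ u
  obtain ⟨C, rfl⟩ := WittVector.truncate_surjective p n _ c
  obtain ⟨X, rfl⟩ := WittVector.map_surjective _ Ideal.Quotient.mk_surjective U
  have hcoeff : TruncatedWittVector.coeff ⟨0, hn⟩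
      (WittVector.truncate n (WittVector.map (Ideal.Quotient.mk (Ideal.span {(p : B)})) X) +
        WittVector.truncate n C * (p : TruncatedWittVector p n (B ⧸ (Ideal.span {(p : B)})))) =
      Ideal.Quotient.mk (Ideal.span {(p : B)}) (X.coeff 0) := by
    have h1 : (p : TruncatedWittVector p n (B ⧸ (Ideal.span {(p : B)}))) =
        WittVector.truncate n (p : WittVector p (B ⧸ (Ideal.span {(p : B)}))) := by
      rw [map_natCast]
    rw [h1, ← map_mul, ← map_add, WittVector.coeff_truncate]
    change (_ + C * (p : WittVector p (B ⧸ (Ideal.span {(p : B)})))).coeff 0 = _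
    rw [WittVector.add_coeff_zero, WittVector.mul_charP_coeff_zero, add_zero, WittVector.map_coeff]
  rw [hcoeff]
  -- now use that θ kills the first summand
  have hθ0 := hθ X
  rw [RingHom.mem_ker.mp hu] at hθ0
  obtain ⟨m, rfl⟩ : ∃ m, n = m + 1 := ⟨n - 1, by omega⟩
  have h2 := congrArg (Ideal.Quotient.mk (Ideal.span {(p : B)})) hθ0
  rw [map_zero, map_sum, Fin.sum_univ_succ] at h2
  have h3 : ∀ i : Fin m, Ideal.Quotient.mk (Ideal.span {(p : B)})
      ((p : B) ^ ((i.succ : Fin (m + 1)) : ℕ) * X.coeff (i.succ : Fin (m + 1)) ^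
        p ^ (m + 1 - ((i.succ : Fin (m + 1)) : ℕ))) = 0 := by
    intro i
    rw [map_mul, map_pow, map_natCast, hp0, Fin.val_succ, zero_pow (Nat.succ_ne_zero _), zero_mul]
  rw [Finset.sum_eq_zero (fun i _ => h3 i), add_zero] at h2
  simpa using h2.symm

end Groth.Agent.S18930
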