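import Groth.Statements.S18931
import Mathlib.RingTheory.WittVector.Truncated
import Mathlib.RingTheory.WittVector.Identities
import Mathlib.RingTheory.WittVector.Domain
import Mathlib.Tactic

set_option autoImplicit false
universe u
open DPow

namespace Groth.Agent.S18931


/-- iterated `p`-th power maps are surjective if the `p`-th power map is. -/
lemma pow_p_pow_surjective {A : Type*} [CommRing A] (p : ℕ)
    (hF : Function.Surjective (fun y : A => y ^ p)) (m : ℕ) :
    Function.Surjective (fun y : A => y ^ (p ^ m)) := by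
  induction m with
  | zero => intro y; exact ⟨y, by simp⟩
  | succ m ih =>
    intro y
    obtain ⟨z, hz⟩ := hF y
    obtain ⟨w, hw⟩ := ih z
    refine ⟨w, ?_⟩
    simp only at hz hw ⊢
    rw [pow_succ, pow_mul, hw, hz]

/-- Successive correction of the components. -/
lemma exists_seq {B : Type*} [CommRing B] (p n : ℕ)
    (hF : Function.Surjective (fun y : B ⧸ (Ideal.span {(p : B)}) => y ^ p)) (x0 : B)
    (h0 : Ideal.Quotient.mk (Ideal.span {(p : B)}) x0 ^ (p ^ n) = 0) :
    ∀ k, 1 ≤ k → k ≤ n → ∃ (x : ℕ → B) (y : B), x 0 = x0 ∧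
      ∑ i ∈ Finset.range k, (p : B) ^ i * (x i) ^ (p ^ (n - i)) = (p : B) ^ k * y := by
  intro k hk
  induction k, hk using Nat.le_induction with
  | base =>
    intro _
    have hmem : x0 ^ (p ^ n) ∈ Ideal.span {(p : B)} := by
      rw [← Ideal.Quotient.eq_zero_iff_mem, map_pow]; exact h0
    obtain ⟨y, hy⟩ := Ideal.mem_span_singleton'.mp hmem
    refine ⟨fun _ => x0, y, rfl, ?_⟩
    simp [← hy, mul_comm]
  | succ k hk ih =>
    intro hkn
    obtain ⟨x, y, hx0, hsum⟩ := ih (by omega)
    obtain ⟨w, hw⟩ := pow_p_pow_surjective p hF (n - k)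
      (Ideal.Quotient.mk (Ideal.span {(p : B)}) (-y))
    obtain ⟨z, rfl⟩ := Ideal.Quotient.mk_surjective w
    simp only at hw
    have hmem : z ^ (p ^ (n - k)) + y ∈ Ideal.span {(p : B)} := by
      rw [← Ideal.Quotient.eq_zero_iff_mem, map_add, map_pow, hw, map_neg, neg_add_cancel]
    obtain ⟨y', hy'⟩ := Ideal.mem_span_singleton'.mp hmem
    refine ⟨Function.update x k z, y', ?_, ?_⟩
    · rw [Function.update_of_ne (by omega), hx0]
    · rw [Finset.sum_range_succ, Function.update_self]
      have hcongr : ∑ i ∈ Finset.range k, (p : B) ^ i * (Function.update x k z i) ^ (p ^ (n - i)) =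
          ∑ i ∈ Finset.range k, (p : B) ^ i * (x i) ^ (p ^ (n - i)) := by
        refine Finset.sum_congr rfl fun i hi => ?_
        rw [Function.update_of_ne (Finset.mem_range.mp hi).ne]
      rw [hcongr, hsum, ← mul_add, add_comm, ← hy', pow_succ]
      ring

/-- In characteristic `p` with surjective Frobenius, truncated Witt vectors with vanishing zeroth
component are multiples of `p`. -/
lemma mem_span_p_of_coeff_zero {A : Type*} [CommRing A] (p : ℕ) [Fact p.Prime] [CharP A p]
    (hF : Function.Surjective (fun y : A => y ^ p)) (n : ℕ) (hn : 0 < n)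
    (x : TruncatedWittVector p n A) (hx : TruncatedWittVector.coeff ⟨0, hn⟩ x = 0) :
    x ∈ Ideal.span {(p : TruncatedWittVector p n A)} := by
  have hX0 : x.out.coeff 0 = 0 := by
    have := TruncatedWittVector.coeff_out (p := p) x ⟨0, hn⟩
    simpa [hx] using this
  have h1 : WittVector.verschiebung (x.out.shift 1) = x.out.shift 0 :=
    WittVector.verschiebung_shift x.out 0 (fun i hi => by
      have : i = 0 := by omega
      rw [this]; exact hX0)
  have h2 : x.out.shift 0 = x.out := by
    ext k
    rw [WittVector.shift_coeff, zero_add]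
  have hFW : Function.Surjective (WittVector.frobenius : WittVector p A → WittVector p A) := by
    rw [WittVector.frobenius_eq_map_frobenius]
    exact WittVector.map_surjective _ (fun y => by
      obtain ⟨z, hz⟩ := hF y
      exact ⟨z, by rw [frobenius_def]; exact hz⟩)
  obtain ⟨Y, hY⟩ := hFW (x.out.shift 1)
  have h3 : x.out = Y * (p : WittVector p A) := by
    rw [← WittVector.verschiebung_frobenius, hY, h1, h2]
  have h4 : x = WittVector.truncate n x.out := (TruncatedWittVector.truncateFun_out x).symm
  rw [h4, h3, map_mul, map_natCast]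
  exact Ideal.mem_span_singleton'.mpr ⟨_, rfl⟩

/-- Let p be a prime, n ≥ 1, B a commutative ring with p^n = 0 and A = B/pB, and assume that the p-th
power map of A is surjective. Let θ : W_n(A) → B be the ring homomorphism which sends the reduction
of a Witt vector (x_0, …, x_{n−1}) over B to Σ_{i<n} p^i x_i^(p^(n−i)). Then every a in W_n(A) with
a_0^(p^n) = 0 lies in ker θ + (p); together with the reverse inclusion, ker θ + (p) is exactly the
set of such a. (In the source B is the ring of global sections of a scheme over the Witt vectors of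
length n of a perfect field. The printed argument subtracts a single correction term, which suffices
for n ≤ 2; in general one corrects the components one at a time.) -/
theorem result (p : ℕ) [Fact p.Prime]
    (n : ℕ) (hn : 0 < n) {B : Type u} [CommRing B] (hp : (p : B) ^ n = 0)
    (hF : Function.Surjective (fun y : B ⧸ (Ideal.span {(p : B)}) => y ^ p))
    (θ : TruncatedWittVector p n (B ⧸ (Ideal.span {(p : B)})) →+* B)
    (hθ : ∀ x : WittVector p B, θ (WittVector.truncate n (WittVector.map (Ideal.Quotient.mk (Ideal.span {(p : B)})) x)) =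
        ∑ i : Fin n, (p : B) ^ (i : ℕ) * (x.coeff i) ^ (p ^ (n - i)))
    (a : TruncatedWittVector p n (B ⧸ (Ideal.span {(p : B)}))) (ha : (TruncatedWittVector.coeff ⟨0, hn⟩ a) ^ (p ^ n) = 0) :
    a ∈ RingHom.ker θ ⊔ Ideal.span {(p : TruncatedWittVector p n (B ⧸ (Ideal.span {(p : B)})))} := by
  rcases subsingleton_or_nontrivial (B ⧸ (Ideal.span {(p : B)})) with hsub | hnt
  · have : a = 0 := by
      ext i
      exact Subsingleton.elim _ _
    rw [this]; exact zero_mem _
  have hp0 : ((p : ℕ) : B ⧸ (Ideal.span {(p : B)})) = 0 := by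
    have : Ideal.Quotient.mk (Ideal.span {(p : B)}) (p : B) = 0 :=
      Ideal.Quotient.eq_zero_iff_mem.mpr (Ideal.mem_span_singleton_self _)
    simpa using this
  have hchar : CharP (B ⧸ (Ideal.span {(p : B)})) p :=
    ringChar.of_eq (CharP.ringChar_of_prime_eq_zero (Fact.out : p.Prime) hp0)
  obtain ⟨A', rfl⟩ := WittVector.truncate_surjective p n _ a
  rw [WittVector.coeff_truncate] at ha
  obtain ⟨x0, hx0⟩ := Ideal.Quotient.mk_surjective (A'.coeff 0)
  obtain ⟨x, y, hx, hsum⟩ := exists_seq p n hF x0 (by rw [hx0]; exact ha) n hn le_rfl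
  -- the element of the kernel
  set u : TruncatedWittVector p n (B ⧸ (Ideal.span {(p : B)})) :=
    WittVector.truncate n (WittVector.map (Ideal.Quotient.mk (Ideal.span {(p : B)}))
      (WittVector.mk p x)) with hu
  have hu_ker : u ∈ RingHom.ker θ := by
    rw [RingHom.mem_ker, hu, hθ]
    simp only [WittVector.coeff_mk]
    rw [← Finset.sum_range (fun i => (p : B) ^ i * x i ^ p ^ (n - i)), hsum, hp, zero_mul]
  have hdiff : WittVector.truncate n A' - u ∈
      Ideal.span {(p : TruncatedWittVector p n (B ⧸ (Ideal.span {(p : B)})))} := by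
    apply mem_span_p_of_coeff_zero p hF n hn
    rw [hu, ← map_sub, WittVector.coeff_truncate]
    change WittVector.constantCoeff (A' - _) = 0
    rw [map_sub]
    change A'.coeff 0 - (WittVector.map (Ideal.Quotient.mk (Ideal.span {(p : B)}))
      (WittVector.mk p x)).coeff 0 = 0
    rw [WittVector.map_coeff, WittVector.coeff_mk, hx, hx0, sub_self]
  have := Submodule.add_mem_sup hu_ker hdiff
  rwa [add_sub_cancel] at this

end Groth.Agent.S18931
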