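import Groth.Statements.S18932
import Groth.Agent.S18931
import Mathlib.RingTheory.WittVector.Truncated
import Mathlib.RingTheory.WittVector.Identities
import Mathlib.Tactic

set_option autoImplicit false
universe u
open DPow

namespace Groth.Agent.S18932


/-- `p ^ n = 0` in the truncated Witt vectors of length `n` of a ring of characteristic `p`. -/
lemma p_pow_eq_zero (p : ℕ) [Fact p.Prime] (k : Type*) [CommRing k] [CharP k p] (n : ℕ) :
    (p : TruncatedWittVector p n k) ^ n = 0 := by
  have h1 : (p : TruncatedWittVector p n k) ^ n =
      WittVector.truncate n ((p : WittVector p k) ^ n) := by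
    rw [map_pow, map_natCast]
  rw [h1]
  ext i
  rw [WittVector.coeff_truncate, TruncatedWittVector.coeff_zero]
  exact WittVector.coeff_p_pow_eq_zero p k (by have := i.2; omega)

/-- Successive approximation of `b` by Witt-polynomial values. -/
lemma exists_approx {B : Type*} [CommRing B] (p n : ℕ)
    (hF : Function.Surjective (fun y : B ⧸ (Ideal.span {(p : B)}) => y ^ p)) (b : B) :
    ∀ k, k ≤ n → ∃ (x : ℕ → B) (y : B),
      b = ∑ i ∈ Finset.range k, (p : B) ^ i * (x i) ^ (p ^ (n - i)) + (p : B) ^ k * y := by
  intro k
  induction k with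
  | zero => intro _; exact ⟨fun _ => 0, b, by simp⟩
  | succ k ih =>
    intro hkn
    obtain ⟨x, y, hsum⟩ := ih (by omega)
    obtain ⟨w, hw⟩ := Groth.Agent.S18931.pow_p_pow_surjective p hF (n - k)
      (Ideal.Quotient.mk (Ideal.span {(p : B)}) y)
    obtain ⟨z, rfl⟩ := Ideal.Quotient.mk_surjective w
    simp only at hw
    have hmem : y - z ^ (p ^ (n - k)) ∈ Ideal.span {(p : B)} := by
      rw [← Ideal.Quotient.eq_zero_iff_mem, map_sub, map_pow, hw, sub_self]
    obtain ⟨y', hy'⟩ := Ideal.mem_span_singleton'.mp hmem
    refine ⟨Function.update x k z, y', ?_⟩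
    rw [Finset.sum_range_succ, Function.update_self]
    have hcongr : ∑ i ∈ Finset.range k, (p : B) ^ i * (Function.update x k z i) ^ (p ^ (n - i)) =
        ∑ i ∈ Finset.range k, (p : B) ^ i * (x i) ^ (p ^ (n - i)) := by
      refine Finset.sum_congr rfl fun i hi => ?_
      rw [Function.update_of_ne (Finset.mem_range.mp hi).ne]
    rw [hcongr, hsum]
    have : y = z ^ (p ^ (n - k)) + y' * p := by rw [hy']; ring
    rw [this, pow_succ]
    ring

/-- Let p be a prime, k a perfect field of characteristic p, n a natural number and A a commutative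
W_n(k)-algebra, W_n(k) the truncated Witt vectors, which is flat over W_n(k) and whose reduction
A/pA has surjective p-th power map. Let θ : W_n(A/pA) → A be the ring homomorphism which sends the
reduction of a Witt vector (x_0, …, x_{n−1}) over A to Σ_{i<n} p^i x_i^(p^(n−i)). Then θ is
surjective, so A is the quotient of W_n(A/pA) by the kernel of θ. (This is the step of the source's
proposition establishing that Spec of the divided power envelope of that kernel is a thickening of
Spec A; the assertion that it is a final object of the crystalline site is not stated here.) -/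
theorem result (p : ℕ) [Fact p.Prime]
    (k : Type u) [Field k] [CharP k p] [PerfectRing k p] (n : ℕ)
    (A : Type u) [CommRing A] [Algebra (TruncatedWittVector p n k) A] [Module.Flat (TruncatedWittVector p n k) A]
    (hF : Function.Surjective (fun y : A ⧸ (Ideal.span {(p : A)}) => y ^ p))
    (θ : TruncatedWittVector p n (A ⧸ (Ideal.span {(p : A)})) →+* A)
    (hθ : ∀ x : WittVector p A, θ (WittVector.truncate n (WittVector.map (Ideal.Quotient.mk (Ideal.span {(p : A)})) x)) =
        ∑ i : Fin n, (p : A) ^ (i : ℕ) * (x.coeff i) ^ (p ^ (n - i))) :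
    Function.Surjective θ := by
  have hp : (p : A) ^ n = 0 := by
    have h1 : (p : A) ^ n = algebraMap (TruncatedWittVector p n k) A
        ((p : TruncatedWittVector p n k) ^ n) := by
      rw [map_pow, map_natCast]
    rw [h1, p_pow_eq_zero, map_zero]
  intro b
  obtain ⟨x, y, hsum⟩ := exists_approx p n hF b n le_rfl
  refine ⟨WittVector.truncate n (WittVector.map (Ideal.Quotient.mk (Ideal.span {(p : A)}))
      (WittVector.mk p x)), ?_⟩
  rw [hθ]
  simp only [WittVector.coeff_mk]
  rw [← Finset.sum_range (fun i => (p : A) ^ i * x i ^ p ^ (n - i)), hsum, hp, zero_mul, add_zero]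

end Groth.Agent.S18932
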