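import Groth.Statements.S18933
import Groth.Agent.Lib.MonicSyntomic

set_option autoImplicit false
universe u
open Synt

namespace Groth.Agent.S18933

open Groth.Agent.Lib.MonicRelFree in
open Polynomial in
theorem main (p : ℕ) (hp : 0 < p) (A : Type u) [CommRing A] (m : ℕ) (S : Type u) [CommRing S]
    [Algebra A S] [Algebra (MvPolynomial (Fin m) A) S] [IsScalarTower A (MvPolynomial (Fin m) A) S]
    (t : Fin m → S)
    (ht : Function.Bijective (MvPolynomial.aeval t : MvPolynomial (Fin m) A →ₐ[A] S))
    (hφ : ∀ i, algebraMap (MvPolynomial (Fin m) A) S (MvPolynomial.X i) = t i ^ p) :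
    Synt.IsSyntomic (MvPolynomial (Fin m) A) S ∧
      Module.FaithfullyFlat (MvPolynomial (Fin m) A) S := by
  let F : Fin m → (MvPolynomial (Fin m) A)[X] := fun i => X ^ p - C (MvPolynomial.X i)
  have hFm : ∀ i, (F i).Monic := fun i => Polynomial.monic_X_pow_sub_C _ hp.ne'
  have hFd : Nontrivial (MvPolynomial (Fin m) A) → ∀ i, 0 < (F i).natDegree := by
    intro h i
    change 0 < (X ^ p - C (MvPolynomial.X i) : (MvPolynomial (Fin m) A)[X]).natDegree
    rw [Polynomial.natDegree_X_pow_sub_C]; exact hp
  have hgen : ∀ i, Polynomial.aeval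
      (MvPolynomial.X i : MvPolynomial (Fin m) (MvPolynomial (Fin m) A)) (F i) =
      MvPolynomial.X i ^ p - MvPolynomial.C (MvPolynomial.X i) := by
    intro i
    simp [F, MvPolynomial.algebraMap_eq]
  have hsurj : Function.Surjective
      (MvPolynomial.aeval t : MvPolynomial (Fin m) (MvPolynomial (Fin m) A) →ₐ[_] S) := by
    intro s
    obtain ⟨s₀, rfl⟩ := ht.2 s
    exact ⟨MvPolynomial.map (algebraMap A (MvPolynomial (Fin m) A)) s₀,
      MvPolynomial.aeval_map_algebraMap _ _ _⟩
  -- the inverse map
  let e : MvPolynomial (Fin m) A ≃ₐ[A] S := AlgEquiv.ofBijective _ ht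
  let Q := MvPolynomial (Fin m) (MvPolynomial (Fin m) A) ⧸ relI F
  let χ : S →ₐ[A] Q :=
    (MvPolynomial.aeval (fun i => (Ideal.Quotient.mk (relI F) (MvPolynomial.X i) : Q))).comp
      e.symm.toAlgHom
  have hχt : ∀ j, χ (t j) = Ideal.Quotient.mk (relI F) (MvPolynomial.X j) := by
    intro j
    have : e.symm (t j) = MvPolynomial.X j := by
      rw [AlgEquiv.symm_apply_eq]
      simp [e]
    change MvPolynomial.aeval _ (e.symm (t j)) = _
    rw [this, MvPolynomial.aeval_X]
  have hrel : ∀ j, Ideal.Quotient.mk (relI F)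
      (MvPolynomial.C (MvPolynomial.X j) : MvPolynomial (Fin m) (MvPolynomial (Fin m) A)) =
      Ideal.Quotient.mk (relI F) (MvPolynomial.X j) ^ p := by
    intro j
    rw [← map_pow, eq_comm, Ideal.Quotient.eq, ← hgen]
    exact Ideal.subset_span ⟨j, rfl⟩
  have h1 : (χ.toRingHom).comp (algebraMap (MvPolynomial (Fin m) A) S) =
      (Ideal.Quotient.mk (relI F)).comp MvPolynomial.C := by
    apply MvPolynomial.ringHom_ext
    · intro a
      change χ (algebraMap (MvPolynomial (Fin m) A) S (algebraMap A _ a)) = _
      rw [← IsScalarTower.algebraMap_apply, χ.commutes]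
      rfl
    · intro j
      change χ (algebraMap (MvPolynomial (Fin m) A) S (MvPolynomial.X j)) =
        Ideal.Quotient.mk (relI F) (MvPolynomial.C (MvPolynomial.X j))
      rw [hφ, map_pow, hχt, hrel]
  have h2 : (χ.toRingHom).comp
      (MvPolynomial.aeval t : MvPolynomial (Fin m) (MvPolynomial (Fin m) A) →ₐ[_] S).toRingHom =
      Ideal.Quotient.mk (relI F) := by
    apply MvPolynomial.ringHom_ext
    · intro r
      change χ (MvPolynomial.aeval t (MvPolynomial.C r)) = _
      rw [MvPolynomial.aeval_C]
      exact congrArg (fun f => f r) h1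
    · intro i
      change χ (MvPolynomial.aeval t (MvPolynomial.X i)) = _
      rw [MvPolynomial.aeval_X, hχt]
  have hker : RingHom.ker
      (MvPolynomial.aeval t : MvPolynomial (Fin m) (MvPolynomial (Fin m) A) →ₐ[_] S) =
      relI F := by
    apply le_antisymm
    · intro g hg
      rw [RingHom.mem_ker] at hg
      have := congrArg (fun f => f g) h2
      simp only [RingHom.comp_apply] at this
      change χ (MvPolynomial.aeval t g) = _ at this
      rw [hg, map_zero] at this
      exact Ideal.Quotient.eq_zero_iff_mem.mp this.symm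
    · unfold relI
      rw [Ideal.span_le]
      rintro _ ⟨i, rfl⟩
      change _ ∈ RingHom.ker _
      rw [RingHom.mem_ker]
      change (MvPolynomial.aeval t) (Polynomial.aeval (MvPolynomial.X i) (F i)) = 0
      rw [hgen, map_sub, map_pow, MvPolynomial.aeval_X, MvPolynomial.aeval_C, hφ,
        sub_self]
  exact Groth.Agent.Lib.MonicSyntomic.isSyntomic_and_faithfullyFlat F hFm t hsurj hker hFd

/-- Let p be a prime, A a Noetherian commutative ring and m a natural number, and let φ be the A-algebra
endomorphism of the polynomial ring A[T_1, …, T_m] with φ(T_i) = T_i^p. Then φ is syntomic and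
faithfully flat (so Spec φ is a covering for the syntomic topology). -/
theorem result (p : ℕ) [Fact p.Prime]
    (A : Type u) [CommRing A] [IsNoetherianRing A] (m : ℕ)
    (φ : MvPolynomial (Fin m) A →ₐ[A] MvPolynomial (Fin m) A)
    (hφ : ∀ i : Fin m, φ (MvPolynomial.X i) = MvPolynomial.X i ^ p) :
    @Synt.IsSyntomic (MvPolynomial (Fin m) A) _ (MvPolynomial (Fin m) A) _ φ.toRingHom.toAlgebra ∧
      φ.toRingHom.FaithfullyFlat := by
  have hp : 0 < p := (Fact.out : p.Prime).pos
  let alg : Algebra (MvPolynomial (Fin m) A) (MvPolynomial (Fin m) A) := φ.toRingHom.toAlgebra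
  have htower : @IsScalarTower A (MvPolynomial (Fin m) A) (MvPolynomial (Fin m) A) _
      alg.toSMul _ := by
    refine @IsScalarTower.of_algebraMap_eq A (MvPolynomial (Fin m) A) (MvPolynomial (Fin m) A)
      _ _ _ _ alg _ (fun a => ?_)
    exact (φ.commutes a).symm
  have hbij : Function.Bijective
      (MvPolynomial.aeval (fun i => (MvPolynomial.X i : MvPolynomial (Fin m) A)) :
        MvPolynomial (Fin m) A →ₐ[A] MvPolynomial (Fin m) A) := by
    have : (MvPolynomial.aeval (fun i => (MvPolynomial.X i : MvPolynomial (Fin m) A)) :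
        MvPolynomial (Fin m) A →ₐ[A] MvPolynomial (Fin m) A) = AlgHom.id A _ := by
      apply MvPolynomial.algHom_ext; intro i; simp
    rw [this]; exact Function.bijective_id
  have := @main p hp A _ m (MvPolynomial (Fin m) A) _ _ alg htower
    (fun i => MvPolynomial.X i) hbij (fun i => hφ i)
  exact this

end Groth.Agent.S18933
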