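import Groth.Statements.S18934
import Groth.Agent.Lib.MonicSyntomic

set_option autoImplicit false
universe u
open Synt

namespace Groth.Agent.S18934

open Polynomial in
theorem main {A : Type u} [CommRing A] (f : A[X]) (hf : f.Monic) (hd : 0 < f.natDegree) :
    Synt.IsSyntomic A (AdjoinRoot f) ∧ Module.FaithfullyFlat A (AdjoinRoot f) := by
  let F : Fin 1 → A[X] := fun _ => f
  let x : Fin 1 → AdjoinRoot f := fun _ => AdjoinRoot.root f
  have hcomp : ∀ g : MvPolynomial (Fin 1) A,
      (MvPolynomial.aeval x : MvPolynomial (Fin 1) A →ₐ[A] AdjoinRoot f) g =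
        AdjoinRoot.mk f (MvPolynomial.aeval (fun _ : Fin 1 => (X : A[X])) g) := by
    intro g
    have : (MvPolynomial.aeval x : MvPolynomial (Fin 1) A →ₐ[A] AdjoinRoot f) =
        (AdjoinRoot.mkₐ f).comp (MvPolynomial.aeval (fun _ : Fin 1 => (X : A[X]))) := by
      apply MvPolynomial.algHom_ext
      intro i
      simp [x]
    rw [this]; rfl
  have hsurj : Function.Surjective
      (MvPolynomial.aeval x : MvPolynomial (Fin 1) A →ₐ[A] AdjoinRoot f) := by
    intro y
    obtain ⟨g, rfl⟩ := AdjoinRoot.mk_surjective y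
    refine ⟨Polynomial.aeval (MvPolynomial.X 0 : MvPolynomial (Fin 1) A) g, ?_⟩
    rw [hcomp, ← Polynomial.aeval_algHom_apply]
    simp
  have hker : RingHom.ker (MvPolynomial.aeval x : MvPolynomial (Fin 1) A →ₐ[A] AdjoinRoot f) =
      Groth.Agent.Lib.MonicRelFree.relI F := by
    ext g
    rw [RingHom.mem_ker, hcomp, AdjoinRoot.mk_eq_zero]
    unfold Groth.Agent.Lib.MonicRelFree.relI
    have hrange : (Set.range fun s : Fin 1 =>
        Polynomial.aeval (MvPolynomial.X s : MvPolynomial (Fin 1) A) (F s)) =
        {Polynomial.aeval (MvPolynomial.X 0 : MvPolynomial (Fin 1) A) f} := by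
      ext y
      constructor
      · rintro ⟨s, rfl⟩
        rw [Subsingleton.elim s 0]; rfl
      · rintro rfl
        exact ⟨0, rfl⟩
    rw [hrange, Ideal.mem_span_singleton]
    -- the two maps are inverse isomorphisms
    have hinv : ∀ g : MvPolynomial (Fin 1) A,
        Polynomial.aeval (MvPolynomial.X 0 : MvPolynomial (Fin 1) A)
          (MvPolynomial.aeval (fun _ : Fin 1 => (X : A[X])) g) = g := by
      intro g
      have : ((Polynomial.aeval (MvPolynomial.X 0 : MvPolynomial (Fin 1) A)).comp
          (MvPolynomial.aeval (fun _ : Fin 1 => (X : A[X])))) = AlgHom.id A _ := by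
        apply MvPolynomial.algHom_ext
        intro i
        simp [Subsingleton.elim i 0]
      exact congrArg (fun φ => φ g) this
    have hinv' : ∀ h : A[X],
        (MvPolynomial.aeval (fun _ : Fin 1 => (X : A[X])))
          (Polynomial.aeval (MvPolynomial.X 0 : MvPolynomial (Fin 1) A) h) = h := by
      intro h
      rw [← Polynomial.aeval_algHom_apply]
      simp
    constructor
    · rintro ⟨c, hc⟩
      refine ⟨Polynomial.aeval (MvPolynomial.X 0 : MvPolynomial (Fin 1) A) c, ?_⟩
      rw [← map_mul, ← hc, hinv]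
    · rintro ⟨c, hc⟩
      refine ⟨MvPolynomial.aeval (fun _ : Fin 1 => (X : A[X])) c, ?_⟩
      rw [hc, map_mul, hinv']
  exact ⟨Groth.Agent.Lib.MonicSyntomic.isSyntomic F (fun _ => hf) (fun _ => hd) x hsurj hker,
    Groth.Agent.Lib.MonicSyntomic.faithfullyFlat F (fun _ => hf) (fun _ => hd) x hsurj hker⟩

open Polynomial in
/-- Let p be a prime, A a commutative ring and a an element of A. Then the A-algebra A[T]/(T^p − a) is
syntomic and faithfully flat over A. This is the step of the source's proof showing that adjoining a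
p-th root of any element is a covering for the syntomic topology. -/
theorem result (p : ℕ) [Fact p.Prime]
    (A : Type u) [CommRing A] (a : A) :
    Synt.IsSyntomic A (AdjoinRoot (X ^ p - C a)) ∧ Module.FaithfullyFlat A (AdjoinRoot (X ^ p - C a)) := by
  have hp : 0 < p := (Fact.out : p.Prime).pos
  have hm : (X ^ p - C a : A[X]).Monic := Polynomial.monic_X_pow_sub_C a hp.ne'
  rcases subsingleton_or_nontrivial A with h | h
  · have : Subsingleton (AdjoinRoot (X ^ p - C a : A[X])) :=
      (AdjoinRoot.mk_surjective (g := (X ^ p - C a : A[X]))).subsingleton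
    refine ⟨⟨inferInstance, ?_, fun q => ?_⟩, ⟨fun m hm => ?_⟩⟩
    · exact Algebra.FinitePresentation.of_surjective (f := AdjoinRoot.mkₐ (X ^ p - C a : A[X]))
        AdjoinRoot.mk_surjective (by
          have : RingHom.ker (AdjoinRoot.mkₐ (X ^ p - C a : A[X])).toRingHom = ⊤ := by
            ext g; simp [Subsingleton.elim g 0]
          rw [this]; exact ⟨{1}, by simp⟩)
    · exact absurd (Subsingleton.elim _ _) q.isPrime.ne_top
    · exact absurd (Subsingleton.elim _ _) hm.ne_top
  · have hdeg : 0 < (X ^ p - C a : A[X]).natDegree := by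
      rw [Polynomial.natDegree_X_pow_sub_C]; exact hp
    exact main _ hm hdeg

end Groth.Agent.S18934
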