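import Groth.Statements.S18935
import Groth.Agent.Lib.KoszulMinLen

set_option autoImplicit false
universe u
open LCI

namespace Groth.Agent.S18935

/-- Let R be a commutative ring and I a proper ideal of R which is generated by some Koszul-regular
sequence. A finite sequence f of generators of I is Koszul-regular if and only if f has the smallest
possible length among all finite generating sequences of I. (Properness of I is needed: the
sequences (1) and (1, 1) are both Koszul-regular and generate the unit ideal.) -/
theorem result {R : Type u} [CommRing R] {I : Ideal R} (hI : I ≠ ⊤)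
    (g : List R) (hg : LCI.IsKoszulRegularSeq R g) (hgI : Ideal.ofList g = I)
    (f : List R) (hfI : Ideal.ofList f = I) :
    LCI.IsKoszulRegularSeq R f ↔ ∀ h : List R, Ideal.ofList h = I → f.length ≤ h.length := by
  have key : ∀ l : List R, LCI.IsKoszulRegularSeq R l ↔
      ∀ m : ℤ, m < 0 → Subsingleton
        ((Groth.Agent.Lib.KoszulCone.kcx (ModuleCat.of R R) l).homology m) := by
    intro l
    have hiso : ∀ i : ℤ, (Groth.Agent.Lib.KoszulCone.kcx (ModuleCat.of R R) l).homology i ≅
        (Koszul.koszul R l).homology i := fun i =>
      (HomologicalComplex.homologyFunctor _ _ i).mapIso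
        (CategoryTheory.eqToIso (Groth.Agent.Lib.KoszulMinLen.kcx_eq_koszul l))
    constructor
    · intro h1 m hm
      exact ModuleCat.subsingleton_of_isZero
        (CategoryTheory.Limits.IsZero.of_iso (h1 m (by omega)) (hiso m))
    · intro h1 i hi
      refine CategoryTheory.Limits.IsZero.of_iso ?_ (hiso i).symm
      rcases lt_or_gt_of_ne hi with h2 | h2
      · have := h1 i h2
        exact ModuleCat.isZero_of_subsingleton _
      · have := Groth.Agent.Lib.KoszulMinLen.subsingleton_homology_pos (ModuleCat.of R R) l i h2
        exact ModuleCat.isZero_of_subsingleton _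
  have hfI' : Ideal.ofList f ≠ ⊤ := by rw [hfI]; exact hI
  have hgI' : Ideal.ofList g ≠ ⊤ := by rw [hgI]; exact hI
  constructor
  · intro hf h hh
    exact Groth.Agent.Lib.KoszulMinLen.length_le_of_acyclic f h hfI' (hfI.trans hh.symm)
      ((key f).mp hf)
  · intro hmin
    rw [key]
    exact Groth.Agent.Lib.KoszulMinLen.subsingleton_homology_of_length_le f g (hfI.trans hgI.symm)
      (hmin g hgI) ((key g).mp hg)

end Groth.Agent.S18935

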