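import Groth.Statements.S18936
import Mathlib.RingTheory.Localization.AtPrime.Basic
import Mathlib.RingTheory.Localization.Away.Basic
import Mathlib.RingTheory.Noetherian.Basic

set_option autoImplicit false
universe u
open CAlg

namespace Groth.Agent.S18936

/-- Let A be a Noetherian commutative ring, q a prime ideal of A and f an element of A whose image in
the localization A_q is a non-zero-divisor. Then there is an element b of A not in q such that the
image of f in A[1/b] is a non-zero-divisor. -/
theorem result {A : Type u} [CommRing A] [IsNoetherianRing A]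
    (q : Ideal A) [q.IsPrime] (f : A)
    (hf : algebraMap A (Localization.AtPrime q) f ∈ nonZeroDivisors (Localization.AtPrime q)) :
    ∃ b : A, b ∉ q ∧ algebraMap A (Localization.Away b) f ∈ nonZeroDivisors (Localization.Away b) := by
  classical
  -- the annihilator of `f`
  let K : Ideal A := LinearMap.ker (LinearMap.mulLeft A f)
  have hK : ∀ a : A, a ∈ K ↔ f * a = 0 := fun a => by simp [K, LinearMap.mem_ker]
  obtain ⟨G, hG⟩ := (isNoetherianRing_iff_ideal_fg A).mp inferInstance K
  have h1 : ∀ g : G, ∃ t : q.primeCompl, (t : A) * g = 0 := by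
    intro g
    have hg : f * (g : A) = 0 := (hK _).mp (hG ▸ Ideal.subset_span g.2)
    have h2 : algebraMap A (Localization.AtPrime q) f * algebraMap A (Localization.AtPrime q) g = 0 := by
      rw [← map_mul, hg, map_zero]
    have h0 : algebraMap A (Localization.AtPrime q) (g : A) = 0 :=
      (mul_left_mem_nonZeroDivisors_eq_zero_iff hf).mp h2
    exact (IsLocalization.map_eq_zero_iff q.primeCompl _ (g : A)).mp h0
  choose t ht using h1
  have hbK : ∀ a ∈ K, ((∏ g : G, t g : q.primeCompl) : A) * a = 0 := by
    intro a ha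
    rw [← hG] at ha
    refine Submodule.span_induction (p := fun a _ => ((∏ g : G, t g : q.primeCompl) : A) * a = 0)
      ?_ ?_ ?_ ?_ ha
    · intro g hg
      have hdvd : ((t ⟨g, hg⟩ : q.primeCompl) : A) ∣ ((∏ g : G, t g : q.primeCompl) : A) := by
        rw [Submonoid.coe_finsetProd]
        exact Finset.dvd_prod_of_mem (fun g => ((t g : q.primeCompl) : A)) (Finset.mem_univ _)
      obtain ⟨c, hc⟩ := hdvd
      rw [hc, mul_comm _ c, mul_assoc, ht ⟨g, hg⟩, mul_zero]
    · simp
    · intro a b _ _ ha hb
      rw [mul_add, ha, hb, add_zero]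
    · intro a b _ hb
      rw [smul_eq_mul, mul_left_comm, hb, mul_zero]
  refine ⟨((∏ g : G, t g : q.primeCompl) : A), (∏ g : G, t g : q.primeCompl).2, ?_⟩
  set b : A := ((∏ g : G, t g : q.primeCompl) : A) with hb
  rw [mem_nonZeroDivisors_iff_left]
  intro x hx
  obtain ⟨a, m, rfl⟩ := IsLocalization.exists_mk'_eq (Submonoid.powers b) x
  rw [← IsLocalization.mk'_one (M := Submonoid.powers b) (Localization.Away b) f,
    ← IsLocalization.mk'_mul, IsLocalization.mk'_eq_zero_iff] at hx
  obtain ⟨⟨_, j, rfl⟩, hj⟩ := hx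
  simp only at hj
  have haK : b ^ j * a ∈ K := by
    rw [hK]
    calc f * (b ^ j * a) = b ^ j * (f * a) := by ring
      _ = 0 := hj
  have h3 : b * (b ^ j * a) = 0 := hbK _ haK
  rw [IsLocalization.mk'_eq_zero_iff]
  refine ⟨⟨b ^ (j + 1), j + 1, rfl⟩, ?_⟩
  simp only
  rw [pow_succ', mul_assoc]
  exact h3

end Groth.Agent.S18936
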