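import Groth.Statements.S18939
import Groth.Agent.S15821
import Groth.Agent.Lib.KoszulRel
import Mathlib.Data.List.GetD
import Mathlib.Data.List.OfFn

set_option autoImplicit false
universe u
open LCI

namespace Groth.Agent.S18939

theorem koszul_eq (A : Type u) [CommRing A] (l : List A) :
    Koszul.koszul A l = CohIII.koszulCx (ModuleCat.of A A) l :=
  (Groth.Agent.S15821.kcx_eq A l).symm.trans (Groth.Agent.Lib.KoszulDepth.kcx_eq _ l)

/-- relations among a Koszul-regular generating sequence have coefficients in the ideal -/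
theorem mem_of_sum_mem_sq {R : Type u} [CommRing R] {I : Ideal R}
    (r : ℕ) (g : Fin r → R) (hf : LCI.IsKoszulRegularSeq R (List.ofFn g))
    (hfI : Ideal.span (Set.range g) = I) (a : Fin r → R)
    (ha : ∑ i, a i * g i ∈ I ^ 2) (i : Fin r) : a i ∈ I := by
  classical
  have hlen : (List.ofFn g).length = r := List.length_ofFn
  have hofList : Ideal.ofList (List.ofFn g) = I := by
    rw [← hfI]
    show Ideal.span {x | x ∈ List.ofFn g} = _
    congr 1
    ext x
    simp [List.mem_ofFn]
  have hH : CategoryTheory.Limits.IsZero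
      ((CohIII.koszulCx (ModuleCat.of R R) (List.ofFn g)).homology (-1)) := by
    rw [← koszul_eq]
    exact hf (-1) (by norm_num)
  have hsq : I ^ 2 = I • (Submodule.span R (Set.range g) : Submodule R R) := by
    rw [pow_two, ← smul_eq_mul]
    congr 1
    exact hfI.symm
  rw [hsq] at ha
  obtain ⟨b, hb, hsum⟩ := (Submodule.mem_ideal_smul_span_iff_exists_sum I g _).mp ha
  rw [Finsupp.sum_fintype _ _ (fun i => zero_smul R (g i))] at hsum
  let a' : ℕ → R := fun k => if h : k < r then a ⟨k, h⟩ - b ⟨k, h⟩ else 0
  have hsum0 : ∑ k ∈ Finset.range (List.ofFn g).length, (List.ofFn g).getD k 0 • a' k = 0 := by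
    rw [hlen, Finset.sum_range]
    have : ∀ k : Fin r, (List.ofFn g).getD (k : ℕ) 0 • a' k = a k * g k - b k • g k := by
      intro k
      have h1 : (List.ofFn g).getD (k : ℕ) 0 = g k := by
        have hk : (k : ℕ) < (List.ofFn g).length := by rw [hlen]; exact k.2
        rw [List.getD_eq_getElem _ _ hk, List.getElem_ofFn]
      simp only [a', dif_pos k.2, Fin.eta, h1, smul_eq_mul]
      ring
    rw [Finset.sum_congr rfl (fun k _ => this k), Finset.sum_sub_distrib, hsum, sub_self]
  have hmem := Groth.Agent.Lib.KoszulRel.mem_of_sum_eq_zero (ModuleCat.of R R) (List.ofFn g) hH a'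
    hsum0 i (by rw [hlen]; exact i.2)
  have htop : Ideal.ofList (List.ofFn g) • (⊤ : Submodule R R) = I := by
    rw [hofList, smul_eq_mul, Ideal.mul_top]
  have hmem' : a' i ∈ I := by
    have : a' i ∈ Ideal.ofList (List.ofFn g) • (⊤ : Submodule R R) := hmem
    rwa [htop] at this
  simp only [a', dif_pos i.2, Fin.eta] at hmem'
  have := I.add_mem hmem' (hb i)
  simpa using this

/-- Let R be a commutative ring, I a proper ideal of R and f_1, …, f_r a Koszul-regular sequence of
elements of I generating I. Then I/I² is a free R/I-module of rank r, with basis the classes of f_1,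
…, f_r. -/
theorem result {R : Type u} [CommRing R] {I : Ideal R} (hI : I ≠ ⊤)
    (r : ℕ) (f : Fin r → I) (hf : LCI.IsKoszulRegularSeq R (List.ofFn (fun i => (f i : R))))
    (hfI : Ideal.span (Set.range (fun i => (f i : R))) = I) :
    ∃ b : Module.Basis (Fin r) (R ⧸ I) I.Cotangent, ∀ i, b i = I.toCotangent (f i) := by
  classical
  have hkey := mem_of_sum_mem_sq (I := I) r (fun i => (f i : R)) hf hfI
  have hsmul : ∀ (a : R) (x : I.Cotangent), (Ideal.Quotient.mk I a) • x = a • x := by
    intro a x
    rw [← Ideal.Quotient.algebraMap_eq, algebraMap_smul]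
  have hli : LinearIndependent (R ⧸ I) (fun i => I.toCotangent (f i)) := by
    rw [Fintype.linearIndependent_iff]
    intro c hc i
    choose a ha using fun i => Ideal.Quotient.mk_surjective (c i)
    have h1 : ∑ i, c i • I.toCotangent (f i) = I.toCotangent (∑ i, a i • f i) := by
      rw [map_sum]
      refine Finset.sum_congr rfl (fun i _ => ?_)
      rw [← ha i, hsmul, map_smul]
    rw [h1, Ideal.toCotangent_eq_zero] at hc
    have h2 : ((∑ i, a i • f i : I) : R) = ∑ i, a i * (f i : R) := by
      rw [Submodule.coe_sum]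
      rfl
    rw [h2] at hc
    rw [← ha i]
    exact Ideal.Quotient.eq_zero_iff_mem.mpr (hkey a hc i)
  have hsp : ⊤ ≤ Submodule.span (R ⧸ I) (Set.range (fun i => I.toCotangent (f i))) := by
    intro x _
    obtain ⟨y, rfl⟩ := Ideal.toCotangent_surjective I x
    have hy : (y : R) ∈ Ideal.span (Set.range (fun i => (f i : R))) := by
      rw [hfI]; exact y.2
    obtain ⟨c, hc⟩ := (Ideal.mem_span_range_iff_exists_fun).mp hy
    have hy' : y = ∑ i, c i • f i := by
      apply Subtype.ext
      rw [Submodule.coe_sum, ← hc]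
      rfl
    rw [hy', map_sum]
    refine Submodule.sum_mem _ (fun i _ => ?_)
    rw [map_smul, ← hsmul]
    exact Submodule.smul_mem _ _ (Submodule.subset_span ⟨i, rfl⟩)
  refine ⟨Module.Basis.mk hli hsp, fun i => ?_⟩
  rw [Module.Basis.mk_apply]

end Groth.Agent.S18939

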