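import Groth.Statements.S1894
import Groth.Agent.S1893
import Mathlib.AlgebraicGeometry.Morphisms.UniversallyOpen

set_option autoImplicit false
universe u
open CategoryTheory CategoryTheory.Limits AlgebraicGeometry
open Grpd

namespace Groth.Agent.S1894

/-- Affine case: a point in the closure of the image of a closed set under `Spec R → Spec B`
is a specialization of a point of the image. -/
theorem affine_case {B R : Type u} [CommRing B] [CommRing R] (φ : B →+* R)
    (Z : Set (PrimeSpectrum R)) (hZ : IsClosed Z) (p : PrimeSpectrum B)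
    (hp : p ∈ closure (PrimeSpectrum.comap φ '' Z)) :
    ∃ q ∈ Z, PrimeSpectrum.comap φ q ⤳ p := by
  obtain ⟨I, rfl⟩ := (PrimeSpectrum.isClosed_iff_zeroLocus_ideal Z).mp hZ
  rw [PrimeSpectrum.closure_image_comap_zeroLocus] at hp
  obtain ⟨q, hqI, hq, hqle⟩ := p.asIdeal.exists_ideal_comap_le_prime I hp
  exact ⟨⟨q, hq⟩, hqI, (PrimeSpectrum.le_iff_specializes ⟨q.comap φ, inferInstance⟩ p).mp hqle⟩

/-- Case of an affine target and a quasi-compact source. -/
theorem affine_target_case {B : CommRingCat.{u}} (X : Scheme.{u}) [CompactSpace X]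
    (f : X ⟶ Spec B) (Z : Set X) (hZ : IsClosed Z) (p : Spec B)
    (hp : p ∈ closure (f '' Z)) : ∃ x ∈ Z, f x ⤳ p := by
  obtain ⟨R, g, hg⟩ := compactSpace_iff_exists.mp (inferInstance : CompactSpace X)
  obtain ⟨φ, hφ⟩ := Spec.map_surjective (g ≫ f)
  have himage : f '' Z = (Spec.map φ) '' (g ⁻¹' Z) := by
    rw [hφ]
    simp only [Scheme.Hom.comp_base, TopCat.hom_comp, ContinuousMap.coe_comp]
    rw [Set.image_comp, Set.image_preimage_eq _ hg]
  rw [himage] at hp
  obtain ⟨q, hqZ, hq⟩ := affine_case φ.hom (g ⁻¹' Z) (hZ.preimage g.continuous) p hp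
  refine ⟨g q, hqZ, ?_⟩
  have : f (g q) = (Spec.map φ) q := by
    rw [hφ]; rfl
  rw [this]
  exact hq


/-- General case: for a quasi-compact morphism, a point in the closure of the image of a closed
set is a specialization of a point of the image. -/
theorem exists_specializes_of_mem_closure_image {X Y : Scheme.{u}} (f : X ⟶ Y) [QuasiCompact f]
    (Z : Set X) (hZ : IsClosed Z) (y : Y) (hy : y ∈ closure (f '' Z)) :
    ∃ x ∈ Z, f x ⤳ y := by
  obtain ⟨_, ⟨V, hV, rfl⟩, hyV, -⟩ :=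
    (Y.isBasis_affineOpens).exists_subset_of_mem_open (Set.mem_univ y) isOpen_univ
  replace hV : IsAffineOpen V := hV
  have hcomp : CompactSpace ((f ⁻¹ᵁ V).toScheme) :=
    isCompact_iff_compactSpace.mp
      (QuasiCompact.isCompact_preimage (f := f) _ V.isOpen hV.isCompact)
  let f' : (f ⁻¹ᵁ V).toScheme ⟶ Spec Γ(Y, V) := f ∣_ V ≫ hV.isoSpec.hom
  let Z' : Set ↥(f ⁻¹ᵁ V) := (f ⁻¹ᵁ V).ι ⁻¹' Z
  have hZ' : IsClosed Z' := hZ.preimage (f ⁻¹ᵁ V).ι.continuous
  let y' : Spec Γ(Y, V) := hV.isoSpec.hom ⟨y, hyV⟩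
  have hback : ∀ v : ↥V, hV.fromSpec (hV.isoSpec.hom v) = v.1 := by
    intro v
    rw [← Scheme.Hom.comp_apply, hV.isoSpec_hom_fromSpec]
    rfl
  have hy' : y' ∈ closure (f' '' Z') := by
    rw [mem_closure_iff]
    intro O hO hyO
    have hO' : IsOpen (hV.fromSpec '' O) := hV.fromSpec.isOpenEmbedding.isOpenMap O hO
    have hyO' : y ∈ hV.fromSpec '' O := ⟨y', hyO, hback ⟨y, hyV⟩⟩
    obtain ⟨_, ⟨o, hoO, rfl⟩, ⟨x, hxZ, hx⟩⟩ := mem_closure_iff.mp hy _ hO' hyO'
    have hxV : x ∈ f ⁻¹ᵁ V := by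
      change f x ∈ (V : Set Y)
      rw [hx, ← hV.range_fromSpec]
      exact ⟨o, rfl⟩
    refine ⟨o, hoO, ⟨x, hxV⟩, hxZ, ?_⟩
    apply hV.fromSpec.isOpenEmbedding.injective
    change hV.fromSpec (hV.isoSpec.hom ((f ∣_ V) ⟨x, hxV⟩)) = _
    rw [hback, ← hx]
    have := congr($(morphismRestrict_ι f V) ⟨x, hxV⟩)
    simp
  obtain ⟨x', hx'Z, hx'⟩ := affine_target_case _ f' Z' hZ' y' hy'
  refine ⟨x'.1, hx'Z, ?_⟩
  have h1 := hx'.map hV.fromSpec.continuous
  have h2 : hV.fromSpec (f' x') = f x'.1 := by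
    change hV.fromSpec (hV.isoSpec.hom ((f ∣_ V) x')) = _
    rw [hback]
    have := congr($(morphismRestrict_ι f V) x')
    simp
  have h3 : hV.fromSpec y' = y := hback ⟨y, hyV⟩
  rwa [h2, h3] at h1


variable {S : Scheme.{u}} (G : Grpd.GroupoidScheme S)

/-- The saturation `t(s⁻¹ A)` of a subset of `U`. -/
def sat (A : Set G.U) : Set G.U := ⇑G.t '' (⇑G.s ⁻¹' A)

theorem subset_sat (A : Set G.U) : A ⊆ sat G A := by
  intro u hu
  refine ⟨G.e u, ?_, ?_⟩
  · change G.s (G.e u) ∈ A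
    rw [← Scheme.Hom.comp_apply, G.e_s]
    exact hu
  · rw [← Scheme.Hom.comp_apply, G.e_t]
    rfl

/-- Composable points of `R` compose. -/
theorem exists_comp (r r₁ : G.R) (h : G.s r = G.t r₁) :
    ∃ r₂ : G.R, G.s r₂ = G.s r₁ ∧ G.t r₂ = G.t r := by
  obtain ⟨z, hz1, hz2⟩ := Scheme.Pullback.exists_preimage_pullback r r₁ h
  refine ⟨G.c z, ?_, ?_⟩
  · have h1 := G.comp_s (pullback.fst G.s G.t) (pullback.snd G.s G.t) pullback.condition
    have h2 : pullback.lift (pullback.fst G.s G.t) (pullback.snd G.s G.t) pullback.condition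
        = 𝟙 _ := by
      apply pullback.hom_ext <;> simp
    rw [h2, Category.id_comp] at h1
    have := congr($h1 z)
    simp only [Scheme.Hom.comp_apply] at this
    rw [this, hz2]
  · have h1 := G.comp_t (pullback.fst G.s G.t) (pullback.snd G.s G.t) pullback.condition
    have h2 : pullback.lift (pullback.fst G.s G.t) (pullback.snd G.s G.t) pullback.condition
        = 𝟙 _ := by
      apply pullback.hom_ext <;> simp
    rw [h2, Category.id_comp] at h1
    have := congr($h1 z)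
    simp only [Scheme.Hom.comp_apply] at this
    rw [this, hz1]

theorem sat_invariant_aux (A : Set G.U) (r : G.R) (h : G.s r ∈ sat G A) : G.t r ∈ sat G A := by
  obtain ⟨r₁, hr₁, hr₁'⟩ := h
  obtain ⟨r₂, h2s, h2t⟩ := exists_comp G r r₁ hr₁'.symm
  refine ⟨r₂, ?_, h2t⟩
  change G.s r₂ ∈ A
  rw [h2s]
  exact hr₁

theorem s_i_apply (r : G.R) : G.s (G.i r) = G.t r := by
  rw [← Scheme.Hom.comp_apply, G.i_s]

theorem t_i_apply (r : G.R) : G.t (G.i r) = G.s r := by
  rw [← Scheme.Hom.comp_apply, G.i_t]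

/-- Invariance of a subset of `U`. -/
def Invariant (A : Set G.U) : Prop := ∀ r : G.R, G.s r ∈ A ↔ G.t r ∈ A

theorem sat_invariant (A : Set G.U) : Invariant G (sat G A) := by
  intro r
  refine ⟨sat_invariant_aux G A r, fun h => ?_⟩
  have := sat_invariant_aux G A (G.i r) (by rwa [s_i_apply])
  rwa [t_i_apply] at this


/-- For a closed `Z ⊆ U` and `t` quasi-compact, `s` flat: the closure of the saturation of `Z`
is again invariant. -/
theorem closure_sat_invariant [QuasiCompact G.t] [Flat G.s] (Z : Set G.U) (hZ : IsClosed Z) :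
    Invariant G (closure (sat G Z)) := by
  have aux : ∀ r : G.R, G.s r ∈ closure (sat G Z) → G.t r ∈ closure (sat G Z) := by
    intro r hr
    obtain ⟨r₀, hr₀, hspec⟩ := exists_specializes_of_mem_closure_image G.t (⇑G.s ⁻¹' Z)
      (hZ.preimage G.s.continuous) _ hr
    obtain ⟨r', hr', hsr'⟩ := (Flat.generalizingMap G.s) hspec
    have h1 : G.s r' ∈ sat G Z := by
      rw [hsr']
      exact ⟨r₀, hr₀, rfl⟩
    have h2 : G.t r' ∈ sat G Z := (sat_invariant G Z r').mp h1
    exact (hr'.map G.t.continuous).mem_closed isClosed_closure (subset_closure h2)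
  intro r
  refine ⟨aux r, fun h => ?_⟩
  have := aux (G.i r) (by rwa [s_i_apply])
  rwa [t_i_apply] at this

theorem result (S : Scheme.{u}) (G : Grpd.GroupoidScheme S) [QuasiCompact G.s] [Flat G.s] [QuasiCompact G.t] [Flat G.t] [QuasiSeparatedSpace G.U] (W : G.U.Opens) (hW : IsCompact (W : Set G.U)) : ∃ V W' : G.U.Opens, G.s ⁻¹ᵁ V = G.t ⁻¹ᵁ V ∧ IsCompact (W' : Set G.U) ∧ W ≤ V ∧ V ≤ W' := by
  -- the saturation of `W`
  have hEc : IsCompact (sat G (W : Set G.U)) := by
    apply IsCompact.image _ G.t.continuous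
    exact QuasiCompact.isCompact_preimage (f := G.s) _ W.isOpen hW
  have hEgen : StableUnderGeneralization (sat G (W : Set G.U)) := by
    intro x y hyx hx
    obtain ⟨r, hr, rfl⟩ := hx
    obtain ⟨r', hr', rfl⟩ := (Flat.generalizingMap G.t) hyx
    refine ⟨r', ?_, rfl⟩
    exact (W.isOpen.preimage G.s.continuous).stableUnderGeneralization hr' hr
  obtain ⟨W', hW'c, hEW', -⟩ := Groth.Agent.S1893.exists_compact_open_of_local G.U
    (sat G (W : Set G.U)) hEc (fun _ => True) (fun e _ => by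
      obtain ⟨O, hO, hxO, -⟩ := Groth.Agent.S1893.exists_compact_open_nhd G.U e ⊤ trivial
      exact ⟨O, hO, hxO, fun _ _ => trivial⟩)
  have hZ : IsClosed ((W' : Set G.U)ᶜ) := W'.isOpen.isClosed_compl
  have hdisj : ∀ u, u ∈ sat G (W : Set G.U) → u ∉ closure (sat G ((W' : Set G.U)ᶜ)) := by
    intro u hu hcl
    obtain ⟨r₀, hr₀, hspec⟩ := exists_specializes_of_mem_closure_image G.t
      (⇑G.s ⁻¹' (W' : Set G.U)ᶜ) (hZ.preimage G.s.continuous) _ hcl
    have h1 : G.t r₀ ∈ sat G (W : Set G.U) := hEgen hspec hu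
    have h2 : G.s r₀ ∈ sat G (W : Set G.U) := (sat_invariant G _ r₀).mpr h1
    exact hr₀ (hEW' h2)
  refine ⟨⟨(closure (sat G ((W' : Set G.U)ᶜ)))ᶜ, isClosed_closure.isOpen_compl⟩, W', ?_, hW'c,
    ?_, ?_⟩
  · ext r
    change G.s r ∈ (closure (sat G ((W' : Set G.U)ᶜ)))ᶜ ↔ G.t r ∈ (closure (sat G ((W' : Set G.U)ᶜ)))ᶜ
    exact not_congr (closure_sat_invariant G _ hZ r)
  · intro u hu
    exact hdisj u (subset_sat G _ hu)
  · intro u hu
    by_contra hne
    exact hu (subset_closure (subset_sat G _ hne))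

end Groth.Agent.S1894
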