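import Groth.Statements.S18940

set_option autoImplicit false
universe w v u
open CategoryTheory
open ShfCat

namespace Groth.Agent.S18940

/-- Let (C, J) be a site and f : F → G a morphism of sheaves of sets on it which is locally surjective
(every section of G is, after passing to a covering, in the image of f). Then for every morphism of
sheaves g : H → G the base change F ×_G H → H of f is again locally surjective. -/
theorem result {C : Type u} [Category.{v} C]
    (J : GrothendieckTopology C) {F G H : Sheaf J (Type w)} (f : F ⟶ G) (g : H ⟶ G)
    [Sheaf.IsLocallySurjective f] :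
    Sheaf.IsLocallySurjective (Limits.pullback.snd f g) := by
  have hP : IsPullback (Limits.pullback.fst f g) (Limits.pullback.snd f g) f g :=
    IsPullback.of_hasPullback f g
  have hV : ∀ V : Cᵒᵖ, IsPullback ((Limits.pullback.fst f g).hom.app V)
      ((Limits.pullback.snd f g).hom.app V) (f.hom.app V) (g.hom.app V) := fun V =>
    hP.map (sheafToPresheaf J _ ⋙ (evaluation _ _).obj V)
  constructor
  intro U s
  refine J.superset_covering ?_ (Presheaf.imageSieve_mem J f.hom (g.hom.app _ s))
  rintro V i ⟨a, ha⟩
  obtain ⟨p, hp1, hp2⟩ := Limits.Types.exists_of_isPullback (hV (Opposite.op V)) a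
    (H.obj.map i.op s) (by
      rw [ha]
      exact (NatTrans.naturality_apply g.hom i.op s).symm)
  exact ⟨p, hp2⟩

end Groth.Agent.S18940
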