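import Groth.Statements.S18942
import Mathlib.RingTheory.WittVector.TeichmullerSeries
import Mathlib.NumberTheory.Basic

set_option autoImplicit false
universe u
open DPow

namespace Groth.Agent.S18942

open WittVector

section
variable {p : ℕ} [Fact p.Prime] {k : Type u} [Field k] [CharP k p] [PerfectRing k p]

theorem truncate_eq_zero_of_dvd (n : ℕ) (z : WittVector p k)
    (h : (p : WittVector p k) ^ n ∣ z) : WittVector.truncate n z = 0 := by
  rw [← RingHom.mem_ker, mem_ker_truncate]
  exact (mem_span_p_pow_iff_le_coeff_eq_zero z n).mp (Ideal.mem_span_singleton.mpr h)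

theorem dvd_sub_teich (x : WittVector p k) (n : ℕ) :
    (p : WittVector p k) ^ n ∣ x - ∑ i : Fin n, (teichmuller p
        (((_root_.frobeniusEquiv k p).symm ^ (i : ℕ)) (x.coeff i)) * (p : WittVector p k) ^ (i : ℕ)) := by
  cases n with
  | zero => simp
  | succ m =>
    have := dvd_sub_sum_teichmuller_iterateFrobeniusEquiv_coeff x m
    rw [← Nat.range_succ_eq_Iic, ← Fin.sum_univ_eq_sum_range
      (fun i => teichmuller p (((_root_.frobeniusEquiv k p).symm ^ i) (x.coeff i)) *
        (p : WittVector p k) ^ i)] at this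
    exact this

theorem dvd_sub_teich_zero (y : WittVector p k) :
    (p : WittVector p k) ∣ y - teichmuller p (y.coeff 0) := by
  rw [← Ideal.mem_span_singleton, mem_span_p_iff_coeff_zero_eq_zero]
  have := (le_coeff_eq_iff_le_sub_coeff_eq_zero (x := y) (y := teichmuller p (y.coeff 0)) (n := 1)).mp
    (by
      intro i hi
      have : i = 0 := by omega
      subst this
      simp)
  exact this 0 (by omega)

end

/-- Let p be a prime, k a perfect field of characteristic p, n a natural number and x an element of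
W_n(k), written here as the truncation of a Witt vector x over k. For any Witt vectors y_0, …,
y_{n−1} over k lifting the components of x under the map y ↦ (y_0)^(p^n) (that is, (y_i)_0^(p^n) =
x_i), one has x = Σ_{i<n} p^i y_i^(p^(n−i)) in W_n(k). -/
theorem result (p : ℕ) [Fact p.Prime]
    (k : Type u) [Field k] [CharP k p] [PerfectRing k p] (n : ℕ) (x : WittVector p k)
    (y : Fin n → WittVector p k) (hy : ∀ i : Fin n, ((y i).coeff 0) ^ (p ^ n) = x.coeff i) :
    WittVector.truncate n x =
      WittVector.truncate n (∑ i : Fin n, (p : WittVector p k) ^ (i : ℕ) * (y i) ^ (p ^ (n - i))) := by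
  rw [← sub_eq_zero, ← map_sub]
  apply truncate_eq_zero_of_dvd
  have h1 := dvd_sub_teich x n
  have h2 : ∀ i : Fin n, (p : WittVector p k) ^ n ∣
      teichmuller p (((_root_.frobeniusEquiv k p).symm ^ (i : ℕ)) (x.coeff i)) *
        (p : WittVector p k) ^ (i : ℕ) - (p : WittVector p k) ^ (i : ℕ) * (y i) ^ (p ^ (n - i)) := by
    intro i
    have hi : (i : ℕ) < n := i.2
    have ha : ((_root_.frobeniusEquiv k p).symm ^ (i : ℕ)) (x.coeff i) = ((y i).coeff 0) ^ (p ^ (n - i)) := by
      rw [← iterateFrobeniusEquiv_symm, RingEquiv.symm_apply_eq, iterateFrobeniusEquiv_def,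
        ← pow_mul, ← pow_add, ← hy i]
      congr 2
      omega
    rw [ha, map_pow]
    have h3 := dvd_sub_pow_of_dvd_sub (dvd_sub_teich_zero (y i)) (n - i)
    have h4 : (p : WittVector p k) ^ n ∣ (p : WittVector p k) ^ (i : ℕ) * (p : WittVector p k) ^ (n - i + 1) := by
      rw [← pow_add]
      exact pow_dvd_pow _ (by omega)
    have h5 := dvd_trans h4 (mul_dvd_mul_left ((p : WittVector p k) ^ (i : ℕ)) h3)
    have : teichmuller p ((y i).coeff 0) ^ p ^ (n - ↑i) * (p : WittVector p k) ^ (i : ℕ) -
        (p : WittVector p k) ^ (i : ℕ) * y i ^ p ^ (n - ↑i)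
        = - ((p : WittVector p k) ^ (i : ℕ) * (y i ^ p ^ (n - ↑i) - teichmuller p ((y i).coeff 0) ^ p ^ (n - ↑i))) := by
      ring
    rw [this]
    exact (dvd_neg).mpr h5
  have : x - ∑ i : Fin n, (p : WittVector p k) ^ (i : ℕ) * (y i) ^ (p ^ (n - i)) =
      (x - ∑ i : Fin n, (teichmuller p
        (((_root_.frobeniusEquiv k p).symm ^ (i : ℕ)) (x.coeff i)) * (p : WittVector p k) ^ (i : ℕ))) +
      ∑ i : Fin n, (teichmuller p (((_root_.frobeniusEquiv k p).symm ^ (i : ℕ)) (x.coeff i)) *
        (p : WittVector p k) ^ (i : ℕ) - (p : WittVector p k) ^ (i : ℕ) * (y i) ^ (p ^ (n - i))) := by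
    rw [Finset.sum_sub_distrib]; ring
  rw [this]
  exact dvd_add h1 (Finset.dvd_sum fun i _ => h2 i)

end Groth.Agent.S18942
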