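import Groth.Statements.S18943
import Mathlib.Analysis.Calculus.ContDiff.Convolution
import Mathlib.Analysis.Calculus.BumpFunction.InnerProduct
import Mathlib.MeasureTheory.Integral.IntervalIntegral.FundThmCalculus

set_option autoImplicit false
open scoped ContDiff
open CInfGerm

namespace Groth.Agent.S18943

open MeasureTheory

theorem eq_mul_integral (f : ℝ → ℝ) (hf : ContDiff ℝ ∞ f) (h0 : f 0 = 0) (x : ℝ) :
    f x = x * ∫ t in (0:ℝ)..1, deriv f (t * x) := by
  have hf' : ContDiff ℝ ∞ (deriv f) := (contDiff_infty_iff_deriv.mp hf).2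
  have hd : Differentiable ℝ f := (contDiff_infty_iff_deriv.mp hf).1
  have h1 : ∀ t ∈ Set.uIcc (0:ℝ) 1, HasDerivAt (fun t => f (t * x)) (deriv f (t * x) * x) t := by
    intro t _
    have := (hd (t * x)).hasDerivAt
    exact HasDerivAt.comp t this ((hasDerivAt_id t).mul_const x |>.congr_deriv (by simp))
  have h2 : IntervalIntegrable (fun t => deriv f (t * x) * x) volume 0 1 := by
    apply Continuous.intervalIntegrable
    have := hf'.continuous
    fun_prop
  have h3 := intervalIntegral.integral_eq_sub_of_hasDerivAt h1 h2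
  simp only [one_mul, zero_mul, h0, sub_zero] at h3
  rw [← h3, intervalIntegral.integral_mul_const, mul_comm]

theorem contDiff_integral (f : ℝ → ℝ) (hf : ContDiff ℝ ∞ f) :
    ContDiff ℝ ∞ (fun x => ∫ t in (0:ℝ)..1, deriv f (t * x)) := by
  have hf' : ContDiff ℝ ∞ (deriv f) := (contDiff_infty_iff_deriv.mp hf).2
  let χ : ContDiffBump (0:ℝ) := ⟨2, 3, by norm_num, by norm_num⟩
  have hχ : ContDiff ℝ ∞ (χ : ℝ → ℝ) := χ.contDiff
  let φ : ℝ → ℝ := Set.indicator (Set.Icc (0:ℝ) 1) (fun _ => (1:ℝ))
  let G : ℝ → ℝ → ℝ := fun p y => χ (-y) * deriv f (-y * p)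
  have hG : ContDiff ℝ ∞ (Function.uncurry G) := by
    show ContDiff ℝ ∞ (fun q : ℝ × ℝ => χ (-q.2) * deriv f (-q.2 * q.1))
    fun_prop
  have hφ : LocallyIntegrable φ volume :=
    (locallyIntegrable_const (1:ℝ)).indicator measurableSet_Icc
  have hgs : ∀ p x, p ∈ (Set.univ : Set ℝ) → x ∉ Metric.closedBall (0:ℝ) 3 → G p x = 0 := by
    intro p x _ hx
    have : χ (-x) = 0 := by
      apply χ.zero_of_le_dist
      rw [Metric.mem_closedBall, not_le] at hx
      show (3:ℝ) ≤ dist (-x) 0
      rw [dist_zero_right, norm_neg, ← dist_zero_right]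
      exact hx.le
    show χ (-x) * _ = 0
    rw [this, zero_mul]
  have key := contDiffOn_convolution_right_with_param_comp (𝕜 := ℝ) (μ := volume) (n := ⊤)
    (ContinuousLinearMap.mul ℝ ℝ) (s := Set.univ) (v := fun _ => (0:ℝ)) contDiffOn_const
    (f := φ) (g := G) (k := Metric.closedBall 0 3) isOpen_univ (isCompact_closedBall _ _) hgs hφ
    hG.contDiffOn
  rw [contDiffOn_univ] at key
  convert key using 1
  funext p
  show ∫ t in (0:ℝ)..1, deriv f (t * p) =
    ∫ t, (ContinuousLinearMap.mul ℝ ℝ) (φ t) (G p (0 - t)) ∂volume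
  have e1 : (fun t => (ContinuousLinearMap.mul ℝ ℝ) (φ t) (G p (0 - t))) =
      Set.indicator (Set.Icc (0:ℝ) 1) (fun t => χ t * deriv f (t * p)) := by
    funext t
    by_cases ht : t ∈ Set.Icc (0:ℝ) 1
    · simp [φ, G, ht]
    · simp [φ, G, ht]
  rw [e1, integral_indicator measurableSet_Icc, integral_Icc_eq_integral_Ioc,
    ← intervalIntegral.integral_of_le zero_le_one]
  apply intervalIntegral.integral_congr
  intro t ht
  rw [Set.uIcc_of_le zero_le_one] at ht
  have : χ t = 1 := by
    apply χ.one_of_mem_closedBall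
    rw [Metric.mem_closedBall, dist_zero_right, Real.norm_eq_abs, abs_of_nonneg ht.1]
    show t ≤ 2
    linarith [ht.2]
  show deriv f (t * p) = χ t * deriv f (t * p)
  rw [this, one_mul]

/-- Let f be an infinitely differentiable real-valued function on the real line with f(0) = 0. Then f(x)
= x·g(x) for an infinitely differentiable function g. (The source phrases this for germs at 0: the
maximal ideal of the local ring of germs of smooth functions at the origin is generated by the
coordinate t; the global form stated here is what its argument, smooth extension of f(x)/x across 0,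
gives.) -/
theorem result (f : ℝ → ℝ) (hf : ContDiff ℝ ∞ f) (h0 : f 0 = 0) :
    ∃ g : ℝ → ℝ, ContDiff ℝ ∞ g ∧ ∀ x : ℝ, f x = x * g x :=
  ⟨fun x => ∫ t in (0:ℝ)..1, deriv f (t * x), contDiff_integral f hf, eq_mul_integral f hf h0⟩

end Groth.Agent.S18943
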