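import Groth.Statements.S18945
import Groth.Agent.Lib.MonicSyntomic
import Mathlib.AlgebraicGeometry.Morphisms.Flat

set_option autoImplicit false
universe u
open CategoryTheory AlgebraicGeometry
open Synt

namespace Groth.Agent.S18945

theorem psi_eq {X : Scheme.{u}} {U : X.Opens} (hU : IsAffineOpen U) {B : CommRingCat.{u}}
    (φ : Γ(X, U) ⟶ B) (e : (⊤ : (Spec B).Opens) ≤ (Spec.map φ ≫ hU.fromSpec) ⁻¹ᵁ U) :
    (Spec.map φ ≫ hU.fromSpec).appLE U ⊤ e = φ ≫ (Scheme.ΓSpecIso B).inv := by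
  have h1 : (⊤ : (Spec Γ(X,U)).Opens) ≤ hU.fromSpec ⁻¹ᵁ U := by rw [hU.fromSpec_preimage_self]
  have h2 : (⊤ : (Spec B).Opens) ≤ (Spec.map φ) ⁻¹ᵁ ⊤ := le_rfl
  have h3 := Scheme.Hom.appLE_comp_appLE (Spec.map φ) hU.fromSpec U ⊤ ⊤ h1 h2
  have h4 : hU.fromSpec.appLE U ⊤ h1 = (Scheme.ΓSpecIso Γ(X, U)).inv := by
    rw [Scheme.Hom.appLE, hU.fromSpec_app_self, Category.assoc, ← Functor.map_comp]
    convert Category.comp_id _
    exact (Spec Γ(X, U)).presheaf.map_id _
  have h5 : (Spec.map φ).appLE ⊤ ⊤ h2 = (Spec.map φ).appTop := by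
    rw [Scheme.Hom.appLE]
    exact (congrArg (fun t => (Spec.map φ).app ⊤ ≫ t) ((Spec B).presheaf.map_id _)).trans
      (Category.comp_id _)
  rw [← h3, h4, h5, Scheme.ΓSpecIso_inv_naturality]

open Polynomial in
theorem isSyntomicMor_map {X : Scheme.{u}} {U : X.Opens} (hU : IsAffineOpen U) (f : Γ(X, U)[X])
    (hf : f.Monic) (hd : Nontrivial Γ(X, U) → 0 < f.natDegree) :
    Synt.IsSyntomicMor (Spec.map (CommRingCat.ofHom (algebraMap Γ(X, U) (AdjoinRoot f))) ≫ hU.fromSpec) := by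
  intro y
  have e : (⊤ : (Spec (CommRingCat.of (AdjoinRoot f))).Opens) ≤
      (Spec.map (CommRingCat.ofHom (algebraMap Γ(X, U) (AdjoinRoot f))) ≫ hU.fromSpec) ⁻¹ᵁ U := by
    intro z _
    change (Spec.map (CommRingCat.ofHom (algebraMap Γ(X, U) (AdjoinRoot f))) ≫ hU.fromSpec) z ∈ U
    rw [Scheme.Hom.comp_apply]
    have : hU.fromSpec (Spec.map (CommRingCat.ofHom (algebraMap Γ(X, U) (AdjoinRoot f))) z) ∈
        Set.range hU.fromSpec := ⟨_, rfl⟩
    rw [hU.range_fromSpec] at this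
    exact this
  refine ⟨⟨⊤, isAffineOpen_top _⟩, ⟨U, hU⟩, e, trivial, ?_⟩
  let _ : Algebra Γ(X, U) Γ(Spec (CommRingCat.of (AdjoinRoot f)), ⊤) :=
    ((Spec.map (CommRingCat.ofHom (algebraMap Γ(X, U) (AdjoinRoot f))) ≫ hU.fromSpec).appLE U ⊤ e).hom.toAlgebra
  change Synt.IsSyntomic Γ(X, U) Γ(Spec (CommRingCat.of (AdjoinRoot f)), ⊤)
  refine (Groth.Agent.Lib.MonicSyntomic.isSyntomic_and_faithfullyFlat_of_ringEquiv_adjoinRoot f hf hd
    (Scheme.ΓSpecIso (CommRingCat.of (AdjoinRoot f))).symm.commRingCatIsoToRingEquiv ?_).1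
  intro r
  change _ = ((Spec.map (CommRingCat.ofHom (algebraMap Γ(X, U) (AdjoinRoot f))) ≫ hU.fromSpec).appLE U ⊤ e).hom r
  rw [psi_eq]
  rfl

theorem appTop_eq {X : Scheme.{u}} {U : X.Opens} (hU : IsAffineOpen U) {B : CommRingCat.{u}}
    (φ : Γ(X, U) ⟶ B) (a : Γ(X, ⊤)) :
    (Spec.map φ ≫ hU.fromSpec).appTop a =
      (Scheme.ΓSpecIso B).inv (φ (X.presheaf.map (homOfLE le_top).op a)) := by
  have e : (⊤ : (Spec B).Opens) ≤ (Spec.map φ ≫ hU.fromSpec) ⁻¹ᵁ U := by
    intro z _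
    change (Spec.map φ ≫ hU.fromSpec) z ∈ U
    rw [Scheme.Hom.comp_apply]
    have : hU.fromSpec (Spec.map φ z) ∈ Set.range hU.fromSpec := ⟨_, rfl⟩
    rw [hU.range_fromSpec] at this
    exact this
  have h1 : X.presheaf.map (homOfLE (le_top : U ≤ ⊤)).op ≫ (Spec.map φ ≫ hU.fromSpec).appLE U ⊤ e =
      (Spec.map φ ≫ hU.fromSpec).appTop := by
    rw [Scheme.Hom.map_appLE]
    rw [Scheme.Hom.appLE]
    exact (congrArg (fun t => (Spec.map φ ≫ hU.fromSpec).app ⊤ ≫ t) ((Spec B).presheaf.map_id _)).trans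
      (Category.comp_id _)
  rw [← h1, psi_eq]
  rfl

open Polynomial in
theorem result' (p : ℕ) [Fact p.Prime] (X : Scheme.{u}) (a : Γ(X, ⊤)) :
    ∃ 𝒰 : Scheme.Cover.{u} (Scheme.precoverage @Synt.IsSyntomicMor) X,
      ∀ i : 𝒰.I₀, ∃ b : Γ(𝒰.X i, ⊤), b ^ p = (𝒰.f i).appTop a := by
  classical
  have hp : 0 < p := (Fact.out : p.Prime).pos
  let aU : ∀ U : X.affineOpens, Γ(X, U.1) := fun U => X.presheaf.map (homOfLE le_top).op a
  let fU : ∀ U : X.affineOpens, Γ(X, U.1)[X] := fun U => Polynomial.X ^ p - Polynomial.C (aU U)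
  let obj : X.affineOpens → Scheme.{u} := fun U => Spec (CommRingCat.of (AdjoinRoot (fU U)))
  let φ : ∀ U : X.affineOpens, Γ(X, U.1) ⟶ CommRingCat.of (AdjoinRoot (fU U)) :=
    fun U => CommRingCat.ofHom (algebraMap _ _)
  let map : ∀ U, obj U ⟶ X := fun U => Spec.map (φ U) ≫ U.2.fromSpec
  have hmonic : ∀ U, (fU U).Monic := fun U => Polynomial.monic_X_pow_sub_C _ hp.ne'
  have hdeg : ∀ U, Nontrivial Γ(X, U.1) → 0 < (fU U).natDegree := by
    intro U h
    change 0 < (Polynomial.X ^ p - Polynomial.C (aU U) : Γ(X, U.1)[X]).natDegree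
    rw [Polynomial.natDegree_X_pow_sub_C]; exact hp
  have hprop : ∀ U, Synt.IsSyntomicMor (map U) :=
    fun U => isSyntomicMor_map U.2 (fU U) (hmonic U) (hdeg U)
  have hcov : ∀ x : X, ∃ U y, map U y = x := by
    intro x
    obtain ⟨_, ⟨V, hV, rfl⟩, hxV, -⟩ :=
      X.isBasis_affineOpens.exists_subset_of_mem_open (Set.mem_univ x) isOpen_univ
    let U : X.affineOpens := ⟨V, hV⟩
    have hx : x ∈ Set.range U.2.fromSpec := by rw [U.2.range_fromSpec]; exact hxV
    obtain ⟨z, hz⟩ := hx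
    have hff : (φ U).hom.FaithfullyFlat :=
      (RingHom.faithfullyFlat_algebraMap_iff).mpr
        (Groth.Agent.Lib.MonicSyntomic.isSyntomic_and_faithfullyFlat_of_ringEquiv_adjoinRoot (fU U)
          (hmonic U) (hdeg U) (RingEquiv.refl _) (fun _ => rfl)).2
    have hs : Surjective (Spec.map (φ U)) := ((flat_and_surjective_SpecMap_iff (φ U)).mpr hff).2
    obtain ⟨y, hy⟩ := hs.surj z
    exact ⟨U, y, by rw [Scheme.Hom.comp_apply, hy, hz]⟩
  have hfinal : ∀ U : X.affineOpens, ∃ b : Γ(obj U, ⊤), b ^ p = (map U).appTop a := by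
    intro U
    refine ⟨(Scheme.ΓSpecIso (CommRingCat.of (AdjoinRoot (fU U)))).inv (AdjoinRoot.root (fU U)), ?_⟩
    refine Eq.trans ?_ (appTop_eq (U := U.1) U.2 (φ U) a).symm
    rw [← map_pow]
    congr 1
    have h := AdjoinRoot.eval₂_root (fU U)
    change Polynomial.eval₂ (AdjoinRoot.of (fU U)) (AdjoinRoot.root (fU U))
      (Polynomial.X ^ p - Polynomial.C (aU U)) = 0 at h
    rw [Polynomial.eval₂_sub, Polynomial.eval₂_pow, Polynomial.eval₂_X, Polynomial.eval₂_C, sub_eq_zero] at h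
    exact h
  exact ⟨Scheme.Cover.mkOfCovers X.affineOpens obj map hcov hprop, fun U => hfinal U⟩


/-- Let p be a prime, X a scheme and a a global section of the structure sheaf of X. There is a covering
of X for the syntomic topology, that is a jointly surjective family of syntomic morphisms X_i → X,
such that the restriction of a to each X_i is a p-th power. (The source states the surjectivity of
the p-th power map of the structure sheaf on the small syntomic site of a syntomic scheme over a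
perfect field of characteristic p; the covering it uses elsewhere, adjoining a p-th root T^p = a
over affine pieces, gives the statement for every scheme, which is the form given here.) -/
theorem result (p : ℕ) [Fact p.Prime] (X : Scheme.{u}) (a : Γ(X, ⊤)) :
    ∃ 𝒰 : Scheme.Cover.{u} (Scheme.precoverage @Synt.IsSyntomicMor) X,
      ∀ i : 𝒰.I₀, ∃ b : Γ(𝒰.X i, ⊤), b ^ p = (𝒰.f i).appTop a := by
  exact result' p X a

end Groth.Agent.S18945
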