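import Groth.Statements.S18946

set_option autoImplicit false
universe u
open scoped BigOperators
open InvQ

namespace Groth.Agent.S18946

open MvPolynomial

section
variable {k : Type u} [Field k] {n : ℕ}

theorem monomial_eq_prod (m : Fin (n + 1) →₀ ℕ) (c : k) :
    (monomial m c : MvPolynomial (Fin (n + 1)) k) = C c * ∏ i, X i ^ m i := by
  rw [monomial_eq, Finsupp.prod_fintype]
  intro i; simp

theorem sc_monomial (σ : Fin (n + 1) → k) (m : Fin (n + 1) →₀ ℕ) (c : k) :
    aeval (fun i => C (σ i) * X i) (monomial m c : MvPolynomial (Fin (n + 1)) k)
      = monomial m (c * ∏ i, σ i ^ m i) := by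
  rw [monomial_eq_prod, monomial_eq_prod, map_mul, map_prod]
  simp only [map_pow, aeval_X, aeval_C, mul_pow, Finset.prod_mul_distrib, algebraMap_eq,
    C_mul, map_prod]
  ring

theorem coeff_sc (σ : Fin (n + 1) → k) (f : MvPolynomial (Fin (n + 1)) k) (m : Fin (n + 1) →₀ ℕ) :
    coeff m (aeval (fun i => C (σ i) * X i) f) = coeff m f * ∏ i, σ i ^ m i := by
  induction f using MvPolynomial.induction_on' with
  | monomial u a =>
    rw [sc_monomial]
    classical
    simp only [coeff_monomial]
    split_ifs with h
    · subst h; rfl
    · simp
  | add p q hp hq =>
    rw [map_add, coeff_add, coeff_add, hp, hq, add_mul]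

end

/-- Let k be an algebraically closed field of characteristic zero and n a natural number, and let the
torus of (n+1)-tuples of units of k with product 1 act on the polynomial ring k[t_0, ..., t_n] by
rescaling each variable t_i by the i-th unit. A polynomial is fixed by every such rescaling if and
only if it lies in the k-subalgebra generated by the product t_0 t_1 ... t_n. (This is the
computation of the ring of functions on affine (n+1)-space invariant under the maximal diagonal
torus of the special linear group, identified with the polynomial ring in the single coordinate t =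
t_0 ... t_n of the line it maps to by the product map; invariance is tested on k-valued points of
the torus, which over an infinite field is the same as invariance under the group scheme.) -/
theorem result
    (k : Type u) [Field k] [IsAlgClosed k] [CharZero k] (n : ℕ)
    (f : MvPolynomial (Fin (n + 1)) k) :
    (∀ σ : Fin (n + 1) → kˣ, ∏ i, (σ i : k) = 1 →
        MvPolynomial.aeval (fun i => MvPolynomial.C (σ i : k) * MvPolynomial.X i) f = f) ↔
      f ∈ Algebra.adjoin k ({∏ i : Fin (n + 1), MvPolynomial.X i} : Set (MvPolynomial (Fin (n + 1)) k)) := by
  classical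
  constructor
  · intro h
    -- every exponent in the support is constant
    have key : ∀ m ∈ f.support, ∀ i j : Fin (n + 1), m i = m j := by
      intro m hm i j
      by_cases hij : i = j
      · rw [hij]
      have hc : coeff m f ≠ 0 := by simpa using hm
      let u : kˣ := Units.mk0 (2 : k) two_ne_zero
      let σ : Fin (n + 1) → kˣ := fun l => (if l = i then u else 1) * (if l = j then u⁻¹ else 1)
      have hσ : ∏ l, (σ l : k) = 1 := by
        have : ∏ l, σ l = 1 := by
          simp only [σ, Finset.prod_mul_distrib, Finset.prod_ite_eq', Finset.mem_univ, if_true]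
          simp
        have h2 := congrArg (fun x : kˣ => (x : k)) this
        simpa using h2
      have h1 := congrArg (coeff m) (h σ hσ)
      rw [coeff_sc] at h1
      have h2 : ∏ l, ((σ l : kˣ) : k) ^ m l = 1 := by
        have := mul_left_cancel₀ hc (h1.trans (mul_one _).symm)
        exact this
      have h3 : ∏ l, ((σ l : kˣ) : k) ^ m l = (2 : k) ^ m i * ((2 : k)⁻¹) ^ m j := by
        simp only [σ, Units.val_mul, mul_pow, Finset.prod_mul_distrib]
        congr 1
        · rw [Finset.prod_eq_single i]
          · simp [u]
          · intro b _ hb; simp [hb]
          · intro hi; exact absurd (Finset.mem_univ i) hi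
        · rw [Finset.prod_eq_single j]
          · simp [u]
          · intro b _ hb; simp [hb]
          · intro hj; exact absurd (Finset.mem_univ j) hj
      rw [h3, inv_pow] at h2
      have h4 : (2 : k) ^ m i = (2 : k) ^ m j := by
        have h5 : (2 : k) ^ m j ≠ 0 := pow_ne_zero _ two_ne_zero
        field_simp at h2
        exact h2
      have h6 : ((2 ^ m i : ℕ) : k) = ((2 ^ m j : ℕ) : k) := by
        push_cast; exact h4
      exact Nat.pow_right_injective (le_refl 2) (Nat.cast_injective h6)
    rw [f.as_sum]
    refine Subalgebra.sum_mem _ (fun m hm => ?_)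
    have hm' : ∀ i, m i = m 0 := fun i => key m hm i 0
    rw [monomial_eq_prod]
    refine Subalgebra.mul_mem _ (Subalgebra.algebraMap_mem _ _) ?_
    have : ∏ i : Fin (n + 1), (X i : MvPolynomial (Fin (n + 1)) k) ^ m i = (∏ i, X i) ^ m 0 := by
      rw [← Finset.prod_pow]
      exact Finset.prod_congr rfl (fun i _ => by rw [hm' i])
    rw [this]
    exact Subalgebra.pow_mem _ (Algebra.subset_adjoin (Set.mem_singleton _)) _
  · intro hf σ hσ
    induction hf using Algebra.adjoin_induction with
    | mem x hx =>
      rw [Set.mem_singleton_iff] at hx
      subst hx
      rw [map_prod]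
      simp only [aeval_X, Finset.prod_mul_distrib]
      rw [← map_prod, hσ]
      simp
    | algebraMap r => simp
    | add x y _ _ hx hy => rw [map_add, hx, hy]
    | mul x y _ _ hx hy => rw [map_mul, hx, hy]

end Groth.Agent.S18946
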