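import Groth.Statements.S18948
import Mathlib.Tactic.Group

set_option autoImplicit false
universe u v
open CExt

namespace Groth.Agent.S18948

/-- Let f : E → G be a surjective homomorphism of groups whose kernel is central in E, and let x ∈ E.
Then f maps the conjugacy class of x bijectively onto the conjugacy class of f(x) if and only if
every element of G commuting with f(x) is the image of some element of E commuting with x. (In the
source E → G is the central extension, with kernel the roots of unity, attached to a Brauer class of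
the classifying stack of a finite tame étale group scheme, and a conjugacy class of E mapping
bijectively onto a given class of G is a marking; the equivalence is stated here for an arbitrary
central extension of abstract groups.) -/
theorem result {E : Type u} {G : Type v} [Group E] [Group G]
    (f : E →* G) (hf : Function.Surjective f) (hker : f.ker ≤ Subgroup.center E) (x : E) :
    Set.BijOn f (MulAction.orbit (ConjAct E) x) (MulAction.orbit (ConjAct G) (f x)) ↔
      ∀ g : G, g * f x = f x * g → ∃ e : E, f e = g ∧ e * x = x * e := by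
  have hmem : ∀ (y : E), y ∈ MulAction.orbit (ConjAct E) x ↔ ∃ e : E, e * x * e⁻¹ = y := by
    intro y
    rw [MulAction.mem_orbit_iff]
    constructor
    · rintro ⟨m, rfl⟩
      exact ⟨ConjAct.ofConjAct m, (ConjAct.smul_def m x).symm⟩
    · rintro ⟨e, rfl⟩
      exact ⟨ConjAct.toConjAct e, ConjAct.toConjAct_smul e x⟩
  have hmemG : ∀ (y : G), y ∈ MulAction.orbit (ConjAct G) (f x) ↔ ∃ g : G, g * f x * g⁻¹ = y := by
    intro y
    rw [MulAction.mem_orbit_iff]
    constructor
    · rintro ⟨m, rfl⟩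
      exact ⟨ConjAct.ofConjAct m, (ConjAct.smul_def m (f x)).symm⟩
    · rintro ⟨g, rfl⟩
      exact ⟨ConjAct.toConjAct g, ConjAct.toConjAct_smul g (f x)⟩
  have hmaps : Set.MapsTo f (MulAction.orbit (ConjAct E) x) (MulAction.orbit (ConjAct G) (f x)) := by
    intro y hy
    obtain ⟨e, rfl⟩ := (hmem y).mp hy
    exact (hmemG _).mpr ⟨f e, by simp⟩
  have hsurj : Set.SurjOn f (MulAction.orbit (ConjAct E) x) (MulAction.orbit (ConjAct G) (f x)) := by
    intro y hy
    obtain ⟨g, rfl⟩ := (hmemG y).mp hy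
    obtain ⟨e, rfl⟩ := hf g
    exact ⟨e * x * e⁻¹, (hmem _).mpr ⟨e, rfl⟩, by simp⟩
  constructor
  · rintro ⟨-, hinj, -⟩ g hg
    obtain ⟨e, rfl⟩ := hf g
    refine ⟨e, rfl, ?_⟩
    have h1 : f (e * x * e⁻¹) = f x := by
      rw [map_mul, map_mul, map_inv, hg, mul_inv_cancel_right]
    have h2 := hinj ((hmem _).mpr ⟨e, rfl⟩) ((hmem x).mpr ⟨1, by simp⟩) h1
    calc e * x = e * x * e⁻¹ * e := by group
      _ = x * e := by rw [h2]
  · intro hlift
    refine ⟨hmaps, ?_, hsurj⟩
    intro y1 hy1 y2 hy2 h12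
    obtain ⟨e1, rfl⟩ := (hmem y1).mp hy1
    obtain ⟨e2, rfl⟩ := (hmem y2).mp hy2
    have hg : f (e2⁻¹ * e1) * f x = f x * f (e2⁻¹ * e1) := by
      simp only [map_mul, map_inv] at h12 ⊢
      calc (f e2)⁻¹ * f e1 * f x = (f e2)⁻¹ * (f e1 * f x * (f e1)⁻¹) * f e1 := by group
        _ = (f e2)⁻¹ * (f e2 * f x * (f e2)⁻¹) * f e1 := by rw [h12]
        _ = f x * ((f e2)⁻¹ * f e1) := by group
    obtain ⟨e', he', hcomm'⟩ := hlift _ hg
    have hk : e'⁻¹ * (e2⁻¹ * e1) ∈ f.ker := by
      rw [MonoidHom.mem_ker, map_mul, map_inv, he', inv_mul_cancel]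
    have hc := (Subgroup.mem_center_iff.mp (hker hk)) x
    -- x * a = a * x where a = e'⁻¹ * (e2⁻¹ * e1)
    have h3 : (e2⁻¹ * e1) * x = x * (e2⁻¹ * e1) := by
      calc (e2⁻¹ * e1) * x = e' * ((e'⁻¹ * (e2⁻¹ * e1)) * x) := by group
        _ = e' * (x * (e'⁻¹ * (e2⁻¹ * e1))) := by rw [hc]
        _ = (e' * x) * (e'⁻¹ * (e2⁻¹ * e1)) := by group
        _ = (x * e') * (e'⁻¹ * (e2⁻¹ * e1)) := by rw [hcomm']
        _ = x * (e2⁻¹ * e1) := by group
    calc e1 * x * e1⁻¹ = e2 * ((e2⁻¹ * e1) * x) * e1⁻¹ := by group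
      _ = e2 * (x * (e2⁻¹ * e1)) * e1⁻¹ := by rw [h3]
      _ = e2 * x * e2⁻¹ := by group

end Groth.Agent.S18948
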