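import Groth.Statements.S18949
import Mathlib.Tactic.Group

set_option autoImplicit false
universe u v
open CExt

namespace Groth.Agent.S18949

/-- Automorphisms over the base: let f : E → G be a surjective homomorphism of groups with central
kernel A. For every homomorphism χ : G → A the map e ↦ χ(f(e)) · e is an endomorphism of E over G
which is the identity on A; and every endomorphism α of E with f ∘ α = f and α equal to the identity
on A is of this form for exactly one χ. (In the source this identifies the automorphisms of a
central extension fixing its kernel with Hom(G, A), for extensions of profinite étale group schemes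
over a field; stated here for abstract groups.) -/
theorem result {E : Type u} {G : Type v} [Group E] [Group G]
    (f : E →* G) (hf : Function.Surjective f) (hker : f.ker ≤ Subgroup.center E) :
    (∀ χ : G →* f.ker, ∃ α : E →* E, f.comp α = f ∧ (∀ a ∈ f.ker, α a = a) ∧
        ∀ e : E, α e = (χ (f e) : E) * e) ∧
      ∀ α : E →* E, f.comp α = f → (∀ a ∈ f.ker, α a = a) →
        ∃! χ : G →* f.ker, ∀ e : E, α e = (χ (f e) : E) * e := by
  have hcomm : ∀ (a : E), a ∈ f.ker → ∀ e : E, a * e = e * a := by
    intro a ha e
    exact ((Subgroup.mem_center_iff.mp (hker ha)) e).symm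
  refine ⟨?_, ?_⟩
  · intro χ
    refine ⟨{ toFun := fun e => (χ (f e) : E) * e
              map_one' := by simp
              map_mul' := ?_ }, ?_, ?_, ?_⟩
    · intro e e'
      simp only [map_mul, Subgroup.coe_mul]
      have h := hcomm (χ (f e') : E) (χ (f e')).2 e
      calc (χ (f e) : E) * (χ (f e') : E) * (e * e')
          = (χ (f e) : E) * ((χ (f e') : E) * e) * e' := by group
        _ = (χ (f e) : E) * (e * (χ (f e') : E)) * e' := by rw [h]
        _ = (χ (f e) : E) * e * ((χ (f e') : E) * e') := by group
    · ext e
      simp only [MonoidHom.comp_apply, MonoidHom.coe_mk, OneHom.coe_mk, map_mul]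
      have : f (χ (f e) : E) = 1 := (χ (f e)).2
      rw [this, one_mul]
    · intro a ha
      simp only [MonoidHom.coe_mk, OneHom.coe_mk]
      rw [MonoidHom.mem_ker.mp ha, map_one]
      simp
    · intro e
      rfl
  · intro α hα hαA
    have hfα : ∀ e, f (α e) = f e := fun e => DFunLike.congr_fun hα e
    have hdker : ∀ e : E, α e * e⁻¹ ∈ f.ker := by
      intro e
      rw [MonoidHom.mem_ker, map_mul, map_inv, hfα, mul_inv_cancel]
    let d : E →* f.ker :=
      { toFun := fun e => ⟨α e * e⁻¹, hdker e⟩
        map_one' := by ext; simp
        map_mul' := by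
          intro e e'
          ext
          simp only [map_mul, mul_inv_rev, Subgroup.coe_mul]
          have h := hcomm (α e' * e'⁻¹) (hdker e') e⁻¹
          calc α e * α e' * (e'⁻¹ * e⁻¹) = α e * ((α e' * e'⁻¹) * e⁻¹) := by group
            _ = α e * (e⁻¹ * (α e' * e'⁻¹)) := by rw [h]
            _ = α e * e⁻¹ * (α e' * e'⁻¹) := by group }
    have hd : f.ker ≤ d.ker := by
      intro a ha
      rw [MonoidHom.mem_ker]
      ext
      change α a * a⁻¹ = 1
      rw [hαA a ha, mul_inv_cancel]
    refine ⟨f.liftOfSurjective hf ⟨d, hd⟩, ?_, ?_⟩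
    · intro e
      have h1 : (f.liftOfSurjective hf ⟨d, hd⟩) (f e) = d e :=
        MonoidHom.liftOfRightInverse_comp_apply _ _ _ _ e
      rw [h1]
      change α e = α e * e⁻¹ * e
      group
    · intro χ' hχ'
      apply MonoidHom.ext
      intro g
      obtain ⟨e, rfl⟩ := hf g
      have h1 : (f.liftOfSurjective hf ⟨d, hd⟩) (f e) = d e :=
        MonoidHom.liftOfRightInverse_comp_apply _ _ _ _ e
      rw [h1]
      ext
      change (χ' (f e) : E) = α e * e⁻¹
      rw [hχ' e]
      group

end Groth.Agent.S18949
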