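import Groth.Statements.S18951

set_option autoImplicit false
universe u
open OrbPic

namespace Groth.Agent.S18951

open W4c6brauerbgmalle

theorem hom_ext_of_closure {G : Type u} [Group G] (C : Set G)
    (hC : Subgroup.closure C = ⊤) (χ χ' : Additive G →+ QmodZ)
    (h : ∀ g ∈ C, χ (Additive.ofMul g) = χ' (Additive.ofMul g)) : χ = χ' := by
  have key : ∀ g : G, χ (Additive.ofMul g) = χ' (Additive.ofMul g) := by
    intro g
    have hg : g ∈ Subgroup.closure C := by rw [hC]; trivial
    induction hg using Subgroup.closure_induction with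
    | mem x hx => exact h x hx
    | one => simp
    | mul x y _ _ hx hy => simp [ofMul_mul, map_add, hx, hy]
    | inv x _ hx => simp [ofMul_inv, map_neg, hx]
  ext g
  exact key (Additive.toMul g)

theorem toQmodZ_int (n : ℤ) : toQmodZ (n : ℚ) = 0 := by
  rw [QuotientAddGroup.mk'_apply, QuotientAddGroup.eq_zero_iff]
  exact ⟨n, by simp⟩

/-- Let G be a group and C ⊆ G a subset that generates G. Then the projection (χ, w) ↦ w from the group
of geometric partial orbifold line bundles with respect to C to functions G → ℚ is injective, its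
image contains every conjugation-invariant integer-valued function vanishing at 1 and outside C, and
the group is torsion-free. (The source works with the geometric points of a tame finite étale group
scheme, characters with values in roots of unity and weights on conjugacy classes of the Tate twist;
here these are identified with a group, homomorphisms to ℚ/ℤ and class functions as the source does
after choosing roots of unity. The case C = G ∖ {1} is the statement for full orbifold line
bundles.) -/
theorem result (G : Type u) [Group G] (C : Set G)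
    (hC : Subgroup.closure C = ⊤) :
    Set.InjOn (fun p : (Additive G →+ W4c6brauerbgmalle.QmodZ) × (G → ℚ) => p.2) (W4c6brauerbgmalle.picOrb G C) ∧
      (∀ w ∈ W4c6brauerbgmalle.intWeights G C, ((0 : Additive G →+ W4c6brauerbgmalle.QmodZ), w) ∈ W4c6brauerbgmalle.picOrb G C) ∧
      ∀ (n : ℕ) (p : (Additive G →+ W4c6brauerbgmalle.QmodZ) × (G → ℚ)), p ∈ W4c6brauerbgmalle.picOrb G C → n ≠ 0 →
        n • p = 0 → p = 0 := by
  refine ⟨?_, ?_, ?_⟩
  · rintro ⟨χ, w⟩ ⟨_, _, _, h4⟩ ⟨χ', w'⟩ ⟨_, _, _, h4'⟩ (hww : w = w')
    subst hww
    have : χ = χ' := hom_ext_of_closure C hC χ χ' (fun g hg => by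
      rw [← h4 g hg, ← h4' g hg])
    rw [this]
  · rintro w ⟨h1, h2, h3, h4⟩
    refine ⟨h1, h2, h3, fun g _ => ?_⟩
    obtain ⟨n, hn⟩ := h4 g
    show toQmodZ (w g) = 0
    rw [hn]; exact toQmodZ_int n
  · rintro n ⟨χ, w⟩ ⟨_, _, _, h4⟩ hn hnp
    have hw : w = 0 := by
      have h2 : n • w = 0 := congrArg Prod.snd hnp
      funext g
      have := congrFun h2 g
      simp only [Pi.smul_apply, Pi.zero_apply, nsmul_eq_mul] at this
      rcases mul_eq_zero.mp this with h | h
      · exact absurd (by exact_mod_cast h) hn
      · exact h
    have hχ : χ = 0 := hom_ext_of_closure C hC χ 0 (fun g hg => by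
      rw [← h4 g hg]; simp [hw])
    rw [hw, hχ]; rfl

end Groth.Agent.S18951
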