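import Groth.Statements.S18952

set_option autoImplicit false
universe u
open OrbPic

namespace Groth.Agent.S18952

open W4c6brauerbgmalle

/-- A set-theoretic section of `ℚ → ℚ/ℤ`. -/
noncomputable def lift (x : QmodZ) : ℚ := Function.surjInv (QuotientAddGroup.mk'_surjective _) x

theorem toQmodZ_lift (x : QmodZ) : toQmodZ (lift x) = x :=
  Function.surjInv_eq (QuotientAddGroup.mk'_surjective _) x

theorem conj_mem_iff {G : Type u} [Group G] (C : Set G)
    (hC : ∀ g h : G, g ∈ C → h * g * h⁻¹ ∈ C) (g h : G) : h * g * h⁻¹ ∈ C ↔ g ∈ C := by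
  refine ⟨fun hg => ?_, hC g h⟩
  have := hC _ h⁻¹ hg
  simpa [mul_assoc] using this

theorem chi_conj {G : Type u} [Group G] (χ : Additive G →+ QmodZ) (g h : G) :
    χ (Additive.ofMul (h * g * h⁻¹)) = χ (Additive.ofMul g) := by
  simp [ofMul_mul, ofMul_inv, map_add, map_neg]

/-- Let G be a group and C ⊆ G a subset stable under conjugation. Then (χ, w) ↦ χ maps the group of
geometric partial orbifold line bundles with respect to C onto all characters G → ℚ/ℤ, and a pair in
its kernel (χ trivial) has w a conjugation-invariant integer-valued function vanishing at 1 and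
outside C: with the inclusion of such functions this is the exact sequence 0 → Hom(C/conj, ℤ) → Pic
→ Hom(G, ℚ/ℤ) → 0 over a separably closed field. (As in the source after a choice of roots of unity,
the group G stands for the geometric points of a tame finite étale group scheme, characters are
homomorphisms to ℚ/ℤ and weights are class functions on G.) -/
theorem result (G : Type u) [Group G] (C : Set G)
    (hC : ∀ g h : G, g ∈ C → h * g * h⁻¹ ∈ C) :
    (∀ χ : Additive G →+ W4c6brauerbgmalle.QmodZ, ∃ w : G → ℚ, (χ, w) ∈ W4c6brauerbgmalle.picOrb G C) ∧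
      (∀ p : (Additive G →+ W4c6brauerbgmalle.QmodZ) × (G → ℚ), p ∈ W4c6brauerbgmalle.picOrb G C → p.1 = 0 →
        p.2 ∈ W4c6brauerbgmalle.intWeights G C) := by
  classical
  refine ⟨fun χ => ?_, ?_⟩
  · refine ⟨fun g => if g ∈ C ∧ g ≠ 1 then lift (χ (Additive.ofMul g)) else 0, ?_, ?_, ?_, ?_⟩
    · show (if (1 : G) ∈ C ∧ (1 : G) ≠ 1 then _ else (0 : ℚ)) = 0
      simp
    · intro g hg
      show (if g ∈ C ∧ g ≠ 1 then _ else (0 : ℚ)) = 0
      simp [hg]
    · intro g h
      show (if h * g * h⁻¹ ∈ C ∧ h * g * h⁻¹ ≠ 1 then lift (χ (Additive.ofMul (h * g * h⁻¹))) else (0 : ℚ))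
        = (if g ∈ C ∧ g ≠ 1 then lift (χ (Additive.ofMul g)) else (0 : ℚ))
      have h1 : (h * g * h⁻¹ ≠ 1) ↔ g ≠ 1 := by
        rw [not_iff_not]
        exact conj_eq_one_iff
      rw [conj_mem_iff C hC g h, chi_conj χ g h]
      simp only [h1]
    · intro g hg
      show toQmodZ (if g ∈ C ∧ g ≠ 1 then lift (χ (Additive.ofMul g)) else (0 : ℚ)) = χ (Additive.ofMul g)
      by_cases h1 : g = 1
      · subst h1
        simp
      · rw [if_pos ⟨hg, h1⟩, toQmodZ_lift]
  · rintro ⟨χ, w⟩ ⟨h1, h2, h3, h4⟩ (hχ : χ = 0)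
    subst hχ
    refine ⟨h1, h2, h3, fun g => ?_⟩
    by_cases hg : g ∈ C
    · have := h4 g hg
      simp only [AddMonoidHom.zero_apply] at this
      rw [QuotientAddGroup.mk'_apply, QuotientAddGroup.eq_zero_iff] at this
      obtain ⟨n, hn⟩ := this
      refine ⟨n, ?_⟩
      show w g = n
      rw [← hn]; simp
    · exact ⟨0, by have := h2 g hg; simpa using this⟩

end Groth.Agent.S18952
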