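import Groth.Statements.S18953

set_option autoImplicit false
universe u v
open OrbPic

namespace Groth.Agent.S18953

open W4c6brauerbgmalle

variable {G₁ : Type u} {G₂ : Type v} [Group G₁] [Group G₂]

/-- The union set used in the statement. -/
def CC (C₁ : Set G₁) (C₂ : Set G₂) : Set (G₁ × G₂) :=
  (fun g => (g, (1 : G₂))) '' C₁ ∪ (fun g => ((1 : G₁), g)) '' C₂

theorem mem_CC (C₁ : Set G₁) (C₂ : Set G₂) (x : G₁ × G₂) :
    x ∈ CC C₁ C₂ ↔ (x.1 ∈ C₁ ∧ x.2 = 1) ∨ (x.1 = 1 ∧ x.2 ∈ C₂) := by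
  obtain ⟨a, b⟩ := x
  simp only [CC, Set.mem_union, Set.mem_image, Prod.mk.injEq]
  constructor
  · rintro (⟨g, hg, rfl, rfl⟩ | ⟨g, hg, rfl, rfl⟩)
    · exact Or.inl ⟨hg, rfl⟩
    · exact Or.inr ⟨rfl, hg⟩
  · rintro (⟨hg, rfl⟩ | ⟨rfl, hg⟩)
    · exact Or.inl ⟨a, hg, rfl, rfl⟩
    · exact Or.inr ⟨b, hg, rfl, rfl⟩

theorem chi_split (χ : Additive (G₁ × G₂) →+ QmodZ) (a : G₁) (b : G₂) :
    χ (Additive.ofMul (a, b)) = χ (Additive.ofMul (a, 1)) + χ (Additive.ofMul (1, b)) := by
  rw [← map_add, ← ofMul_mul]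
  simp

/-- Let G₁ and G₂ be groups with subsets C₁ ⊆ G₁ and C₂ ⊆ G₂, and let C ⊆ G₁ × G₂ be the union of C₁ ×
{1} and {1} × C₂. Restricting the character and the weight along the two inclusions G₁ → G₁ × G₂ and
G₂ → G₁ × G₂ is a bijection from the geometric partial orbifold line bundles of G₁ × G₂ with respect
to C onto pairs of geometric partial orbifold line bundles of G₁ with respect to C₁ and of G₂ with
respect to C₂. (As in the source after a choice of roots of unity, each group stands for the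
geometric points of a tame finite étale group scheme, characters are homomorphisms to ℚ/ℤ and
weights are class functions; the source states the Galois-equivariant version, which follows by
taking invariants.) -/
theorem result (G₁ : Type u) (G₂ : Type v) [Group G₁] [Group G₂] (C₁ : Set G₁) (C₂ : Set G₂) :
    Set.BijOn
      (fun p : (Additive (G₁ × G₂) →+ W4c6brauerbgmalle.QmodZ) × (G₁ × G₂ → ℚ) =>
        ((p.1.comp (MonoidHom.toAdditive (MonoidHom.inl G₁ G₂)), fun g => p.2 (g, 1)),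
          (p.1.comp (MonoidHom.toAdditive (MonoidHom.inr G₁ G₂)), fun g => p.2 (1, g))))
      (W4c6brauerbgmalle.picOrb (G₁ × G₂) ((fun g => (g, (1 : G₂))) '' C₁ ∪ (fun g => ((1 : G₁), g)) '' C₂))
      ((W4c6brauerbgmalle.picOrb G₁ C₁ : Set _) ×ˢ (W4c6brauerbgmalle.picOrb G₂ C₂ : Set _)) := by
  classical
  have hCC : (fun g => (g, (1 : G₂))) '' C₁ ∪ (fun g => ((1 : G₁), g)) '' C₂ = CC C₁ C₂ := rfl
  rw [hCC]
  refine ⟨?_, ?_, ?_⟩
  · -- MapsTo
    rintro ⟨χ, w⟩ ⟨h1, h2, h3, h4⟩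
    simp only at h1 h2 h3 h4
    refine ⟨⟨h1, ?_, ?_, ?_⟩, ⟨h1, ?_, ?_, ?_⟩⟩
    · intro g hg
      show w (g, 1) = 0
      by_cases hg1 : g = 1
      · subst hg1; exact h1
      · apply h2
        rw [mem_CC]
        simp [hg, hg1]
    · intro g h
      show w (h * g * h⁻¹, 1) = w (g, 1)
      have := h3 (g, 1) (h, 1)
      simpa using this
    · intro g hg
      show toQmodZ (w (g, 1)) = χ (Additive.ofMul (g, 1))
      apply h4
      rw [mem_CC]
      exact Or.inl ⟨hg, rfl⟩
    · intro g hg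
      show w (1, g) = 0
      by_cases hg1 : g = 1
      · subst hg1; exact h1
      · apply h2
        rw [mem_CC]
        simp [hg, hg1]
    · intro g h
      show w (1, h * g * h⁻¹) = w (1, g)
      have := h3 (1, g) (1, h)
      simpa using this
    · intro g hg
      show toQmodZ (w (1, g)) = χ (Additive.ofMul (1, g))
      apply h4
      rw [mem_CC]
      exact Or.inr ⟨rfl, hg⟩
  · -- InjOn
    rintro ⟨χ, w⟩ ⟨h1, h2, h3, h4⟩ ⟨χ', w'⟩ ⟨h1', h2', h3', h4'⟩ heq
    simp only at h1 h2 h3 h4 h1' h2' h3' h4'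
    simp only [Prod.mk.injEq] at heq
    obtain ⟨⟨e1, e2⟩, ⟨e3, e4⟩⟩ := heq
    have hχ : ∀ (a : G₁) (b : G₂), χ (Additive.ofMul (a, b)) = χ' (Additive.ofMul (a, b)) := by
      intro a b
      rw [chi_split χ, chi_split χ']
      have ea := DFunLike.congr_fun e1 (Additive.ofMul a)
      have eb := DFunLike.congr_fun e3 (Additive.ofMul b)
      simp only [AddMonoidHom.comp_apply, MonoidHom.toAdditive_apply_apply, toMul_ofMul,
        MonoidHom.inl_apply, MonoidHom.inr_apply] at ea eb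
      rw [ea, eb]
    have hχ' : χ = χ' := by
      ext x
      exact hχ (Additive.toMul x).1 (Additive.toMul x).2
    have hw : w = w' := by
      funext ⟨a, b⟩
      by_cases hb : b = 1
      · subst hb; exact congrFun e2 a
      · by_cases ha : a = 1
        · subst ha; exact congrFun e4 b
        · rw [h2 (a, b) (by rw [mem_CC]; simp [ha, hb]), h2' (a, b) (by rw [mem_CC]; simp [ha, hb])]
    rw [hχ', hw]
  · -- SurjOn
    rintro ⟨⟨χ₁, w₁⟩, ⟨χ₂, w₂⟩⟩ ⟨⟨a1, a2, a3, a4⟩, ⟨b1, b2, b3, b4⟩⟩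
    simp only at a1 a2 a3 a4 b1 b2 b3 b4
    refine ⟨(χ₁.comp (MonoidHom.toAdditive (MonoidHom.fst G₁ G₂)) +
        χ₂.comp (MonoidHom.toAdditive (MonoidHom.snd G₁ G₂)),
      fun x => if x.2 = 1 then w₁ x.1 else if x.1 = 1 then w₂ x.2 else 0), ⟨?_, ?_, ?_, ?_⟩, ?_⟩
    · show (if (1 : G₁ × G₂).2 = 1 then w₁ (1 : G₁ × G₂).1 else _) = 0
      simp [a1]
    · rintro ⟨a, b⟩ hab
      rw [mem_CC] at hab
      simp only [not_or, not_and] at hab
      show (if b = 1 then w₁ a else if a = 1 then w₂ b else 0) = 0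
      by_cases hb : b = 1
      · rw [if_pos hb]
        exact a2 a (fun ha => hab.1 ha hb)
      · rw [if_neg hb]
        by_cases ha : a = 1
        · rw [if_pos ha]; exact b2 b (hab.2 ha)
        · rw [if_neg ha]
    · rintro ⟨a, b⟩ ⟨h, k⟩
      show (if k * b * k⁻¹ = 1 then w₁ (h * a * h⁻¹) else if h * a * h⁻¹ = 1 then w₂ (k * b * k⁻¹) else 0)
        = (if b = 1 then w₁ a else if a = 1 then w₂ b else 0)
      simp only [conj_eq_one_iff, a3 a h, b3 b k]
    · rintro ⟨a, b⟩ hab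
      rw [mem_CC] at hab
      show toQmodZ (if b = 1 then w₁ a else if a = 1 then w₂ b else 0)
        = χ₁ (Additive.ofMul a) + χ₂ (Additive.ofMul b)
      rcases hab with ⟨ha, hb⟩ | ⟨ha, hb⟩
      · simp only at ha hb
        subst hb
        rw [if_pos rfl, a4 a ha]
        simp
      · simp only at ha hb
        subst ha
        by_cases hb1 : b = 1
        · subst hb1
          rw [if_pos rfl, a1]; simp
        · rw [if_neg hb1, if_pos rfl, b4 b hb]
          simp
    · simp only [Prod.mk.injEq]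
      refine ⟨⟨?_, ?_⟩, ⟨?_, ?_⟩⟩
      · ext x
        simp
      · funext g
        simp
      · ext x
        simp
      · funext g
        by_cases hg : g = 1
        · subst hg; simp [a1, b1]
        · simp [hg]

end Groth.Agent.S18953
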