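import Groth.Statements.S18954
import Mathlib.Tactic.FieldSimp
import Mathlib.Tactic.Ring

set_option autoImplicit false
universe u v w
open Classical
open BGCount

namespace Groth.Agent.S18954

/-- Let a finite group G act on a finite set X, let W be a finite set of orbits and f a function on
orbits with values in a field of characteristic zero. Then Σ_{O ∈ W} f(O)/|Stab(x_O)|, with x_O any
point of O, equals |G|⁻¹ · Σ f(orbit(x)) over the points x of X whose orbit lies in W. (In the
source X is the set of 1-cocycles of the absolute Galois group of a field in a finite étale group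
scheme G, acted on by the geometric points of G, the orbits are the isomorphism classes of G-torsors
and the stabilisers their automorphism groups; stated here for an arbitrary action of a finite group
on a finite set, the representative x_O being chosen by Quotient.out.) -/
theorem result {G : Type u} {X : Type v} (𝕜 : Type w)
    [Group G] [Fintype G] [MulAction G X] [Fintype X] [Field 𝕜] [CharZero 𝕜]
    (W : Finset (MulAction.orbitRel.Quotient G X)) (f : MulAction.orbitRel.Quotient G X → 𝕜) :
    (∑ O ∈ W, f O / (Nat.card (MulAction.stabilizer G O.out) : 𝕜)) =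
      (Fintype.card G : 𝕜)⁻¹ *
        ∑ x ∈ Finset.univ.filter (fun x : X => (Quotient.mk (MulAction.orbitRel G X) x) ∈ W),
          f (Quotient.mk (MulAction.orbitRel G X) x) := by
  have hmaps : ∀ x ∈ Finset.univ.filter
      (fun x : X => (Quotient.mk (MulAction.orbitRel G X) x) ∈ W),
      Quotient.mk (MulAction.orbitRel G X) x ∈ W := by
    intro x hx
    exact (Finset.mem_filter.mp hx).2
  rw [← Finset.sum_fiberwise_of_maps_to' hmaps f, Finset.mul_sum]
  apply Finset.sum_congr rfl
  intro O hO
  rw [Finset.sum_const, nsmul_eq_mul]
  -- the fibre over O is the orbit of O.out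
  have hcard : (Finset.filter (fun x : X => Quotient.mk (MulAction.orbitRel G X) x = O)
      (Finset.univ.filter (fun x : X => (Quotient.mk (MulAction.orbitRel G X) x) ∈ W))).card =
      Nat.card (MulAction.orbit G O.out) := by
    rw [Nat.card_eq_fintype_card, ← Set.toFinset_card]
    congr 1
    ext x
    simp only [Finset.mem_filter, Finset.mem_univ, true_and, Set.mem_toFinset]
    constructor
    · rintro ⟨-, rfl⟩
      have h1 : (MulAction.orbitRel G X).r
          (Quotient.out (Quotient.mk (MulAction.orbitRel G X) x)) x :=
        Quotient.mk_out (s := MulAction.orbitRel G X) x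
      exact MulAction.orbitRel_apply.mp ((MulAction.orbitRel G X).symm h1)
    · intro hx
      have h2 : Quotient.mk (MulAction.orbitRel G X) x = O := by
        rw [← Quotient.out_eq O]
        exact Quotient.sound (MulAction.orbitRel_apply.mpr hx)
      exact ⟨h2 ▸ hO, h2⟩
  rw [hcard]
  have hos : Nat.card (MulAction.orbit G O.out) * Nat.card (MulAction.stabilizer G O.out) =
      Fintype.card G := by
    rw [Nat.card_eq_fintype_card, Nat.card_eq_fintype_card]
    exact MulAction.card_orbit_mul_card_stabilizer_eq_card_group G O.out
  have hs : (Nat.card (MulAction.stabilizer G O.out) : 𝕜) ≠ 0 := by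
    rw [Nat.cast_ne_zero]
    exact Nat.card_pos.ne'
  have hG : (Fintype.card G : 𝕜) ≠ 0 := by
    rw [Nat.cast_ne_zero]
    exact Fintype.card_ne_zero
  have hos' : (Nat.card (MulAction.orbit G O.out) : 𝕜) * (Nat.card (MulAction.stabilizer G O.out) : 𝕜) =
      (Fintype.card G : 𝕜) := by
    rw [← Nat.cast_mul, hos]
  have ho : (Nat.card (MulAction.orbit G O.out) : 𝕜) ≠ 0 := by
    intro h0
    rw [h0, zero_mul] at hos'
    exact hG hos'.symm
  rw [← hos']
  field_simp

end Groth.Agent.S18954
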