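import Mathlib
import Groth.Statements.S18956

set_option autoImplicit false
universe u
open CategoryTheory MonoidalCategory CartesianMonoidalCategory MonObj AlgebraicGeometry Opposite
open Magnet

namespace Groth.Agent.S18956

section Helpers

open CategoryTheory.Limits

variable {S : Scheme.{u}}

theorem isPullback_whiskerRight_left (G M Z : Over S) (i : G ⟶ M) :
    IsPullback (pullback.fst G.hom Z.hom) (i ▷ Z).left i.left (pullback.fst M.hom Z.hom) := by
  refine IsPullback.of_bot ?_ (Over.whiskerRight_left_fst i).symm
    (IsPullback.of_hasPullback M.hom Z.hom)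
  rw [Over.whiskerRight_left_snd, Over.w i]
  exact IsPullback.of_hasPullback G.hom Z.hom

theorem dominant_whiskerRight (k : Type u) [Field k]
    (G M Z : Over (Spec (CommRingCat.of k))) (i : G ⟶ M) [QuasiCompact i.left]
    [IsSchemeTheoreticallyDominant i.left] :
    IsSchemeTheoreticallyDominant (i ▷ Z).left := by
  have : Flat Z.hom := inferInstance
  have : Flat (pullback.fst M.hom Z.hom) := inferInstance
  exact IsSchemeTheoreticallyDominant.of_isPullback
    (Groth.Agent.S18956.isPullback_whiskerRight_left G M Z i)

/-- An equivariant map `M ⊗ Y ⟶ X` whose restriction to the unit section lands in the closed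
`G`-stable subscheme `Z` factors through `Z`. -/
theorem exists_factor (k : Type u) [Field k]
    (M G X Z : Over (Spec (CommRingCat.of k))) [MonObj M] [GrpObj G]
    (i : G ⟶ M) [IsMonHom i] [QuasiCompact i.left] [IsSchemeTheoreticallyDominant i.left]
    (aX : AlgGrp.Action G X) (aZ : AlgGrp.Action G Z) (j : Z ⟶ X) [IsClosedImmersion j.left]
    (hj : Magnet.MonAct.IsEquivariant (Magnet.MonAct.ofAction aZ) (Magnet.MonAct.ofAction aX) j)
    (Y : Over (Spec (CommRingCat.of k))) (φ : M ⊗ Y ⟶ X)
    (hφ : Magnet.MonAct.IsEquivariant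
      (((Magnet.MonAct.regular M).restrict i).prod (Magnet.MonAct.trivial G Y))
      (Magnet.MonAct.ofAction aX) φ)
    (z : Y ⟶ Z) (hz : lift (toUnit Y ≫ η[M]) (𝟙 Y) ≫ φ = z ≫ j) :
    ∃ φ' : M ⊗ Y ⟶ Z, φ' ≫ j = φ := by
  have hdom := Groth.Agent.S18956.dominant_whiskerRight k G M Y i
  have hj' : aZ.act ≫ j = (G ◁ j) ≫ aX.act := hj
  have hcomp : (i ▷ Y) ≫ φ = ((G ◁ z) ≫ aZ.act) ≫ j := by
    apply Magnet.hom_ext_lift₂
    intro T g y
    rw [Magnet.MonAct.mem_eqvHom_iff] at hφ
    have h1 := hφ T g (1 : T ⟶ M) y
    have h2 : lift g (1 : T ⟶ M) ≫ ((Magnet.MonAct.regular M).restrict i).act = g ≫ i := by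
      rw [Magnet.MonAct.lift_restrict_act, Magnet.MonAct.lift_regular_act, _root_.mul_one]
    have h3 : lift (1 : T ⟶ M) y ≫ φ = y ≫ z ≫ j := by
      rw [← hz, ← Category.assoc, comp_lift, Category.comp_id, ← Category.assoc,
        toUnit_unique (y ≫ toUnit Y) (toUnit T), Hom.one_def]
    rw [h2, h3] at h1
    rw [lift_whiskerRight_assoc, h1, Category.assoc, hj', lift_whiskerLeft_assoc,
      lift_whiskerLeft_assoc, Category.assoc]
    rfl
  have hker : j.left.ker ≤ φ.left.ker := by
    have h1 : ((i ▷ Y).left ≫ φ.left).ker = φ.left.ker := by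
      rw [Scheme.Hom.ker_comp, (i ▷ Y).left.ker_eq_bot, Scheme.IdealSheafData.map_bot]
    rw [← h1, ← Over.comp_left, hcomp, Over.comp_left]
    exact Scheme.Hom.le_ker_comp _ _
  have hcl : IsClosedImmersion.lift j.left φ.left hker ≫ j.left = φ.left :=
    IsClosedImmersion.lift_fac _ _ _
  exact ⟨Over.homMk (IsClosedImmersion.lift j.left φ.left hker)
    (by rw [← Over.w j, ← Category.assoc, hcl, Over.w]), Over.OverMorphism.ext hcl⟩

end Helpers

/-- Let k be a field, M an affine monoid k-scheme, G an affine group k-scheme and i : G → M a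
homomorphism of monoids which is a quasi-compact open immersion with scheme-theoretically dense
image. Let X be a k-scheme with an action aX of G, and j : Z → X a closed immersion which is
G-equivariant for an action aZ of G on Z (a closed G-stable subscheme). For a G-scheme W write D_W
for the functor on k-schemes whose value at Y is the set of k-morphisms M ×_k Y → W that are
G-equivariant for G acting on M ×_k Y by left multiplication through i on the first factor. Then the
square of presheaves formed by D_Z → D_X (composition with j), the restrictions D_Z → Z and D_X → X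
to the unit section of M, and j is cartesian. (The published statement takes G to be the group of
units of M, open and schematically dense; here it is assumed only that i is a homomorphism of
monoids and a quasi-compact, scheme-theoretically dominant open immersion.) -/
theorem result (k : Type u) [Field k]
    (M G X Z : Over (Spec (CommRingCat.of k))) [MonObj M] [GrpObj G] [IsAffine M.left] [IsAffine G.left]
    (i : G ⟶ M) [IsMonHom i] [IsOpenImmersion i.left] [QuasiCompact i.left]
    [IsSchemeTheoreticallyDominant i.left]
    (aX : AlgGrp.Action G X) (aZ : AlgGrp.Action G Z) (j : Z ⟶ X) [IsClosedImmersion j.left]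
    (hj : Magnet.MonAct.IsEquivariant (Magnet.MonAct.ofAction aZ) (Magnet.MonAct.ofAction aX) j) :
    IsPullback
      (Magnet.MonAct.eqvHom.postcomp ((Magnet.MonAct.regular M).restrict i) j hj)
      (Magnet.MonAct.eqvHom.evalAt ((Magnet.MonAct.regular M).restrict i) (Magnet.MonAct.ofAction aZ) η[M])
      (Magnet.MonAct.eqvHom.evalAt ((Magnet.MonAct.regular M).restrict i) (Magnet.MonAct.ofAction aX) η[M])
      (yoneda.map j) := by
  have hmono : Mono j := by
    have : Mono j.left := inferInstance
    exact Over.mono_of_mono_left j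
  refine IsPullback.of_forall_isPullback_app fun T => ?_
  rw [Limits.Types.isPullback_iff]
  refine ⟨?_, ?_, ?_⟩
  · ext φ
    exact (Category.assoc _ _ _).symm
  · rintro φ₁ φ₂ ⟨h1, -⟩
    apply Subtype.ext
    have := congrArg Subtype.val h1
    exact (cancel_mono j).mp this
  · rintro ⟨φ, hφ⟩ z hz
    obtain ⟨φ', hφ'⟩ := Groth.Agent.S18956.exists_factor k M G X Z i aX aZ j hj (unop T) φ hφ z hz
    have hj' : aZ.act ≫ j = (G ◁ j) ≫ aX.act := hj
    have heq : Magnet.MonAct.IsEquivariant
        (((Magnet.MonAct.regular M).restrict i).prod (Magnet.MonAct.trivial G (unop T)))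
        (Magnet.MonAct.ofAction aZ) φ' := by
      have h := hφ
      unfold Magnet.MonAct.IsEquivariant at h ⊢
      rw [← cancel_mono j, Category.assoc, hφ', h, Category.assoc, Magnet.MonAct.ofAction_act,
        Magnet.MonAct.ofAction_act, hj', ← hφ', MonoidalCategory.whiskerLeft_comp, Category.assoc]
    refine ⟨⟨φ', heq⟩, Subtype.ext hφ', ?_⟩
    apply (cancel_mono j).mp
    refine Eq.trans ?_ hz
    change (lift (toUnit (unop T) ≫ η[M]) (𝟙 (unop T)) ≫ φ') ≫ j = _
    rw [Category.assoc, hφ']
    rfl

end Groth.Agent.S18956
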