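import Mathlib
import Groth.Statements.S18957

set_option autoImplicit false
universe u
open CategoryTheory MonoidalCategory CartesianMonoidalCategory MonObj AlgebraicGeometry Opposite
open Magnet

namespace Groth.Agent.S18957

section Helpers

open CategoryTheory.Limits

variable {S : Scheme.{u}}

theorem isPullback_whiskerRight_left (G M Z : Over S) (i : G ⟶ M) :
    IsPullback (pullback.fst G.hom Z.hom) (i ▷ Z).left i.left (pullback.fst M.hom Z.hom) := by
  refine IsPullback.of_bot ?_ (Over.whiskerRight_left_fst i).symm
    (IsPullback.of_hasPullback M.hom Z.hom)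
  rw [Over.whiskerRight_left_snd, Over.w i]
  exact IsPullback.of_hasPullback G.hom Z.hom

theorem dominant_whiskerRight (k : Type u) [Field k]
    (G M Z : Over (Spec (CommRingCat.of k))) (i : G ⟶ M) [QuasiCompact i.left]
    [IsSchemeTheoreticallyDominant i.left] :
    IsSchemeTheoreticallyDominant (i ▷ Z).left := by
  have : Flat Z.hom := inferInstance
  have : Flat (pullback.fst M.hom Z.hom) := inferInstance
  exact IsSchemeTheoreticallyDominant.of_isPullback
    (Groth.Agent.S18957.isPullback_whiskerRight_left G M Z i)

end Helpers

/-- Let k be a field, M a monoid k-scheme with an action a on a k-scheme X, G a group k-scheme and i : G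
→ M a homomorphism of monoids which is a quasi-compact open immersion with scheme-theoretically
dense image. Let j : Z → X be a closed immersion and b an action of G on Z for which j is
equivariant, G acting on X through i and a (a closed G-stable subscheme). Then the G-action on Z
extends to an M-action making j equivariant: there is an action c of M on Z such that j is
equivariant for c and a and the restriction of c along i is b. (The published statement takes G to
be the group of units of M, schematically dense in M; here it is assumed only that i is a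
homomorphism of monoids and a quasi-compact, scheme-theoretically dominant open immersion.) -/
theorem result (k : Type u) [Field k]
    (M G X Z : Over (Spec (CommRingCat.of k))) [MonObj M] [GrpObj G]
    (i : G ⟶ M) [IsMonHom i] [IsOpenImmersion i.left] [QuasiCompact i.left]
    [IsSchemeTheoreticallyDominant i.left]
    (a : Magnet.MonAct M X) (b : AlgGrp.Action G Z) (j : Z ⟶ X) [IsClosedImmersion j.left]
    (hj : Magnet.MonAct.IsEquivariant (Magnet.MonAct.ofAction b) (a.restrict i) j) :
    ∃ c : Magnet.MonAct M Z, Magnet.MonAct.IsEquivariant c a j ∧ c.restrict i = Magnet.MonAct.ofAction b := by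
  have hdom := Groth.Agent.S18957.dominant_whiskerRight k G M Z i
  have hj' : b.act ≫ j = (G ◁ j) ≫ (i ▷ X) ≫ a.act := hj
  have hcomp : (i ▷ Z) ≫ (M ◁ j) ≫ a.act = b.act ≫ j := by
    rw [hj', ← Category.assoc, ← whisker_exchange, Category.assoc]
  have hker : j.left.ker ≤ ((M ◁ j) ≫ a.act).left.ker := by
    have h1 : ((i ▷ Z).left ≫ ((M ◁ j) ≫ a.act).left).ker = ((M ◁ j) ≫ a.act).left.ker := by
      rw [Scheme.Hom.ker_comp, (i ▷ Z).left.ker_eq_bot, Scheme.IdealSheafData.map_bot]
    rw [← h1, ← Over.comp_left, hcomp, Over.comp_left]
    exact Scheme.Hom.le_ker_comp _ _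
  have hcl : IsClosedImmersion.lift j.left ((M ◁ j) ≫ a.act).left hker ≫ j.left =
      ((M ◁ j) ≫ a.act).left := IsClosedImmersion.lift_fac _ _ _
  let cact : M ⊗ Z ⟶ Z := Over.homMk (IsClosedImmersion.lift j.left ((M ◁ j) ≫ a.act).left hker)
    (by rw [← Over.w j, ← Category.assoc, hcl, Over.w])
  have hcact : cact ≫ j = (M ◁ j) ≫ a.act := Over.OverMorphism.ext hcl
  have hmono : Mono j := by
    have : Mono j.left := inferInstance
    exact Over.mono_of_mono_left j
  have hpt : ∀ (T : Over (Spec (CommRingCat.of k))) (g : T ⟶ M) (x : T ⟶ Z),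
      lift g x ≫ cact ≫ j = lift g (x ≫ j) ≫ a.act := by
    intro T g x
    rw [hcact, lift_whiskerLeft_assoc]
  refine ⟨Magnet.MonAct.mk' cact ?_ ?_, hcact, ?_⟩
  · intro T x
    rw [← cancel_mono j, Category.assoc, hpt, a.lift_one_act]
  · intro T g h x
    rw [← cancel_mono j, Category.assoc, hpt, Category.assoc, hpt, Category.assoc, hpt,
      a.lift_mul_act]
  · apply Magnet.MonAct.ext'
    rw [Magnet.MonAct.restrict_act, Magnet.MonAct.mk'_act, Magnet.MonAct.ofAction_act,
      ← cancel_mono j, Category.assoc, hcact, hcomp]

end Groth.Agent.S18957
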