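import Mathlib
import Groth.Statements.S18958

set_option autoImplicit false
universe u
open CategoryTheory MonoidalCategory CartesianMonoidalCategory MonObj AlgebraicGeometry Opposite
open Magnet

namespace Groth.Agent.S18958

section Helpers

open CategoryTheory.Limits

variable {S : Scheme.{u}}

theorem isPullback_whiskerLeft_left (R A B : Over S) (f : A ⟶ B) :
    IsPullback (R ◁ f).left (pullback.snd R.hom A.hom) (pullback.snd R.hom B.hom) f.left := by
  refine IsPullback.flip (IsPullback.of_bot ?_ (Over.whiskerLeft_left_snd f).symm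
    (IsPullback.of_hasPullback R.hom B.hom).flip)
  rw [Over.whiskerLeft_left_fst, Over.w f]
  exact (IsPullback.of_hasPullback R.hom A.hom).flip

/-- The preimage of a `G`-stable open `U ⊆ X` under an equivariant map is `G`-stable. -/
theorem stable_preimage (G P X U : Over S) [GrpObj G]
    (aP : Magnet.MonAct G P) (aX : AlgGrp.Action G X) (aU : AlgGrp.Action G U) (j : U ⟶ X)
    (hj : Magnet.MonAct.IsEquivariant (Magnet.MonAct.ofAction aU) (Magnet.MonAct.ofAction aX) j)
    (ψ : P ⟶ X) (hψ : Magnet.MonAct.IsEquivariant aP (Magnet.MonAct.ofAction aX) ψ)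
    (p : (G ⊗ P).left) (hp : ψ.left ((snd G P).left p) ∈ Set.range j.left) :
    ψ.left (aP.act.left p) ∈ Set.range j.left := by
  obtain ⟨u, hu⟩ := hp
  have hq : (pullback.snd G.hom X.hom) ((G ◁ ψ).left p) = j.left u := by
    rw [hu, ← Scheme.Hom.comp_apply, Over.whiskerLeft_left_snd]
    rfl
  obtain ⟨q', hq'1, hq'2⟩ := Scheme.exists_preimage_of_isPullback
    (Groth.Agent.S18958.isPullback_whiskerLeft_left G U X j) ((G ◁ ψ).left p) u hq
  have hj' : aU.act ≫ j = (G ◁ j) ≫ aX.act := hj
  have hψ' : aP.act ≫ ψ = (G ◁ ψ) ≫ aX.act := hψ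
  refine ⟨aU.act.left q', ?_⟩
  rw [← Scheme.Hom.comp_apply, ← Over.comp_left, hj', Over.comp_left, Scheme.Hom.comp_apply]
  rw [← Scheme.Hom.comp_apply aP.act.left, ← Over.comp_left, hψ', Over.comp_left,
    Scheme.Hom.comp_apply]
  exact congrArg _ hq'1

/-- An equivariant map `M ⊗ Y ⟶ X` whose restriction to the zero section lands in the open
`G`-stable subscheme `U` factors through `U`. -/
theorem exists_factor_open (k : Type u) [Field k]
    (M G X U : Over (Spec (CommRingCat.of k))) [MonObj M] [GrpObj G] (i : G ⟶ M) [IsMonHom i]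
    (o : 𝟙_ (Over (Spec (CommRingCat.of k))) ⟶ M)
    (hM : ∀ (T : Over (Spec (CommRingCat.of k))) (K : Type u) [Field K]
      (_ : T.left ≅ Spec (CommRingCat.of K)) (W : (M ⊗ T).left.Opens),
      (CartesianMonoidalCategory.snd G (M ⊗ T)).left ⁻¹ᵁ W ≤
          ((((Magnet.MonAct.regular M).restrict i).prod (Magnet.MonAct.trivial G T)).act).left ⁻¹ᵁ W →
      (CartesianMonoidalCategory.lift (toUnit T ≫ o) (𝟙 T)).left ⁻¹ᵁ W = ⊤ → W = ⊤)
    (aX : AlgGrp.Action G X) (aU : AlgGrp.Action G U) (j : U ⟶ X) [IsOpenImmersion j.left]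
    (hj : Magnet.MonAct.IsEquivariant (Magnet.MonAct.ofAction aU) (Magnet.MonAct.ofAction aX) j)
    (Y : Over (Spec (CommRingCat.of k))) (φ : M ⊗ Y ⟶ X)
    (hφ : Magnet.MonAct.IsEquivariant
      (((Magnet.MonAct.regular M).restrict i).prod (Magnet.MonAct.trivial G Y))
      (Magnet.MonAct.ofAction aX) φ)
    (z : Y ⟶ U) (hz : lift (toUnit Y ≫ o) (𝟙 Y) ≫ φ = z ≫ j) :
    ∃ φ' : M ⊗ Y ⟶ U, φ' ≫ j = φ := by
  suffices hrange : Set.range φ.left ⊆ Set.range j.left by
    have hcl : IsOpenImmersion.lift j.left φ.left hrange ≫ j.left = φ.left :=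
      IsOpenImmersion.lift_fac _ _ _
    exact ⟨Over.homMk (IsOpenImmersion.lift j.left φ.left hrange)
      (by rw [← Over.w j, ← Category.assoc, hcl, Over.w]), Over.OverMorphism.ext hcl⟩
  rintro _ ⟨p, rfl⟩
  let y : Y.left := (pullback.snd M.hom Y.hom) p
  let Ty : Over (Spec (CommRingCat.of k)) := Over.mk (Y.left.fromSpecResidueField y ≫ Y.hom)
  let t : Ty ⟶ Y := Over.homMk (Y.left.fromSpecResidueField y) rfl
  have hψ : Magnet.MonAct.IsEquivariant
      (((Magnet.MonAct.regular M).restrict i).prod (Magnet.MonAct.trivial G Ty))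
      (Magnet.MonAct.ofAction aX) ((M ◁ t) ≫ φ) :=
    ((Magnet.MonAct.eqvHom ((Magnet.MonAct.regular M).restrict i)
      (Magnet.MonAct.ofAction aX)).map t.op ⟨φ, hφ⟩).2
  have hW : (((M ◁ t) ≫ φ).left ⁻¹ᵁ j.left.opensRange : (M ⊗ Ty).left.Opens) = ⊤ := by
    refine hM Ty (Y.left.residueField y) (Iso.refl _) _ ?_ ?_
    · intro q hq
      exact Groth.Agent.S18958.stable_preimage G (M ⊗ Ty) X U _ aX aU j hj _ hψ q hq
    · rw [eq_top_iff]
      intro s _
      have h1 : lift (toUnit Ty ≫ o) (𝟙 Ty) ≫ (M ◁ t) ≫ φ = (t ≫ z) ≫ j := by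
        rw [Category.assoc, ← hz, lift_whiskerLeft_assoc, Category.id_comp, ← Category.assoc,
          comp_lift, Category.comp_id, ← Category.assoc, toUnit_unique (t ≫ toUnit Y) (toUnit Ty)]
      refine ⟨(t ≫ z).left s, ?_⟩
      rw [← Scheme.Hom.comp_apply, ← Over.comp_left, ← h1, Over.comp_left, Scheme.Hom.comp_apply]
  obtain ⟨p', hp'1, hp'2⟩ := Scheme.exists_preimage_of_isPullback
    (Groth.Agent.S18958.isPullback_whiskerLeft_left M Ty Y t) p
    (IsLocalRing.closedPoint (Y.left.residueField y))
    (Scheme.fromSpecResidueField_apply y _).symm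
  have hp'W : p' ∈ (((M ◁ t) ≫ φ).left ⁻¹ᵁ j.left.opensRange : (M ⊗ Ty).left.Opens) := by
    rw [hW]; trivial
  obtain ⟨u, hu⟩ := hp'W
  refine ⟨u, ?_⟩
  rw [hu, Over.comp_left, Scheme.Hom.comp_apply]
  exact congrArg _ hp'1

end Helpers

/-- Let k be a field, G a group k-scheme and M a monoid k-scheme with a homomorphism of monoids i : G →
M and a zero o : Spec k → M (m·o = o = o·m for every point m of M). Assume that for every k-scheme T
whose underlying scheme is the spectrum of a field K, every open subset of M ×_k T which is stable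
under G acting by left multiplication through i on the first factor and which contains the zero
section T → M ×_k T is the whole of M ×_k T. Let X be a k-scheme with an action aX of G and j : U →
X an open immersion, G-equivariant for an action aU of G on U (an open G-stable subscheme). For a
G-scheme W write D_W for the functor on k-schemes whose value at Y is the set of k-morphisms M ×_k Y
→ W that are G-equivariant for G acting on M ×_k Y by left multiplication through i on the first
factor. Then the square of presheaves formed by D_U → D_X (composition with j), the restrictions D_U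
→ U and D_X → X to the zero section of M, and j is cartesian. (In the source M is a Kempf monoid
with G its group of units, and the restriction to the zero section is viewed as the retraction of
D_X onto the fixed points X^G; the displayed property of the open G-stable subsets of M over field
extensions is what the argument uses about M, and the square over X^G is cartesian exactly when the
one over X is, U^G being X^G ×_X U.) -/
theorem result (k : Type u) [Field k]
    (M G X U : Over (Spec (CommRingCat.of k))) [MonObj M] [GrpObj G] (i : G ⟶ M) [IsMonHom i]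
    (o : 𝟙_ (Over (Spec (CommRingCat.of k))) ⟶ M)
    (ho : ∀ (T : Over (Spec (CommRingCat.of k))) (m : T ⟶ M), m * (toUnit T ≫ o) = toUnit T ≫ o ∧ (toUnit T ≫ o) * m = toUnit T ≫ o)
    (hM : ∀ (T : Over (Spec (CommRingCat.of k))) (K : Type u) [Field K] (eT : T.left ≅ Spec (CommRingCat.of K))
      (W : (M ⊗ T).left.Opens),
      (CartesianMonoidalCategory.snd G (M ⊗ T)).left ⁻¹ᵁ W ≤
          ((((Magnet.MonAct.regular M).restrict i).prod (Magnet.MonAct.trivial G T)).act).left ⁻¹ᵁ W →
      (CartesianMonoidalCategory.lift (toUnit T ≫ o) (𝟙 T)).left ⁻¹ᵁ W = ⊤ → W = ⊤)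
    (aX : AlgGrp.Action G X) (aU : AlgGrp.Action G U) (j : U ⟶ X) [IsOpenImmersion j.left]
    (hj : Magnet.MonAct.IsEquivariant (Magnet.MonAct.ofAction aU) (Magnet.MonAct.ofAction aX) j) :
    IsPullback
      (Magnet.MonAct.eqvHom.postcomp ((Magnet.MonAct.regular M).restrict i) j hj)
      (Magnet.MonAct.eqvHom.evalAt ((Magnet.MonAct.regular M).restrict i) (Magnet.MonAct.ofAction aU) o)
      (Magnet.MonAct.eqvHom.evalAt ((Magnet.MonAct.regular M).restrict i) (Magnet.MonAct.ofAction aX) o)
      (yoneda.map j) := by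
  have hmono : Mono j := by
    have : Mono j.left := inferInstance
    exact Over.mono_of_mono_left j
  refine IsPullback.of_forall_isPullback_app fun T => ?_
  rw [Limits.Types.isPullback_iff]
  refine ⟨?_, ?_, ?_⟩
  · ext φ
    exact (Category.assoc _ _ _).symm
  · rintro φ₁ φ₂ ⟨h1, -⟩
    apply Subtype.ext
    have := congrArg Subtype.val h1
    exact (cancel_mono j).mp this
  · rintro ⟨φ, hφ⟩ z hz
    obtain ⟨φ', hφ'⟩ := Groth.Agent.S18958.exists_factor_open k M G X U i o hM aX aU j hj
      (unop T) φ hφ z hz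
    have hj' : aU.act ≫ j = (G ◁ j) ≫ aX.act := hj
    have heq : Magnet.MonAct.IsEquivariant
        (((Magnet.MonAct.regular M).restrict i).prod (Magnet.MonAct.trivial G (unop T)))
        (Magnet.MonAct.ofAction aU) φ' := by
      have h := hφ
      unfold Magnet.MonAct.IsEquivariant at h ⊢
      rw [← cancel_mono j, Category.assoc, hφ', h, Category.assoc, Magnet.MonAct.ofAction_act,
        Magnet.MonAct.ofAction_act, hj', ← hφ', MonoidalCategory.whiskerLeft_comp, Category.assoc]
    refine ⟨⟨φ', heq⟩, Subtype.ext hφ', ?_⟩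
    apply (cancel_mono j).mp
    refine Eq.trans ?_ hz
    change (lift (toUnit (unop T) ≫ o) (𝟙 (unop T)) ≫ φ') ≫ j = _
    rw [Category.assoc, hφ']
    rfl

end Groth.Agent.S18958
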