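import Groth.Statements.S1896
import Groth.Agent.Lib.QCohSupport
import Groth.Agent.Lib.ModStalkLin
import Mathlib.RingTheory.Length
-- import your own Groth.Agent.* helpers here

set_option autoImplicit false
universe u
open CategoryTheory AlgebraicGeometry
open Cyc

namespace Groth.Agent.S1896

/-- For a short exact sequence 0 → F → G → H → 0 of coherent O_X-modules (X locally Noetherian with
dimension function δ) whose supports have δ-dimension at most k, one has [G]_k = [F]_k + [H]_k
coefficientwise. Here (X, δ) satisfies Cyc.IsSetup (X locally Noetherian with universally catenary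
local rings, δ a dimension function). -/
theorem result (X : Scheme.{u}) (δ : X → ℤ) (hX : Cyc.IsSetup X δ) (k : ℤ) (T : ShortComplex X.Modules) (hT : T.ShortExact) (h₁ : Coh.IsCoh T.X₁) (h₂ : Coh.IsCoh T.X₂) (h₃ : Coh.IsCoh T.X₃) (hdim : ∀ x : X, Nontrivial (T.X₂.presheaf.stalk x) → δ x ≤ k) : Cyc.sheafFun δ k T.X₂ = Cyc.sheafFun δ k T.X₁ + Cyc.sheafFun δ k T.X₃ := by
  haveI : IsLocallyNoetherian X := hX.1
  funext x
  simp only [Cyc.sheafFun, Pi.add_apply]
  split_ifs with hδ
  swap
  · rw [add_zero]
  obtain ⟨hinj, hex, hsurj⟩ := Groth.Agent.Lib.ModStalkLin.stalkLin_exact hT x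
  have hadd := Module.length_eq_add_of_exact _ _ hinj hsurj hex
  -- the middle stalk has finite length
  have hfl : IsFiniteLength (X.presheaf.stalk x) (T.X₂.presheaf.stalk x) := by
    rw [Groth.Agent.Lib.QCohSupport.isFiniteLength_stalk_iff T.X₂ h₂ x]
    intro y hy hyx
    by_contra hne
    have h1 := (hX.2.2 y x hyx hne).1
    have h2 := hdim y hy
    omega
  have h2fin : Module.length (X.presheaf.stalk x) (T.X₂.presheaf.stalk x) ≠ ⊤ :=
    Module.length_ne_top_iff.mpr hfl
  rw [hadd] at h2fin
  have h1fin : Module.length (X.presheaf.stalk x) (T.X₁.presheaf.stalk x) ≠ ⊤ :=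
    fun h => h2fin (by rw [h, top_add])
  have h3fin : Module.length (X.presheaf.stalk x) (T.X₃.presheaf.stalk x) ≠ ⊤ :=
    fun h => h2fin (by rw [h, add_top])
  rw [hadd, ENat.toNat_add h1fin h3fin]
  push_cast
  rfl

end Groth.Agent.S1896
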