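import Groth.Statements.S18960

set_option autoImplicit false
universe w' w v u
open CategoryTheory Limits
open CatLim

namespace Groth.Agent.S18960

section
variable {C : Type u} [Category.{v} C] (T : C ⥤ C) {J : Type w} [Category.{w'} J]
  [PreservesColimitsOfShape J T]

/-- The property "structure map is an isomorphism". -/
abbrev P : ObjectProperty (Endofunctor.Algebra T) := fun A => IsIso A.str

/-- The forgetful functor. -/
abbrev π : (P T).FullSubcategory ⥤ C := (P T).ι ⋙ Endofunctor.Algebra.forget T

variable {T}
variable (K : J ⥤ (P T).FullSubcategory) (c : Cocone (K ⋙ π T)) (t : IsColimit c)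

set_option backward.isDefEq.respectTransparency false in
/-- cocone giving the structure map -/
@[simps]
def strCocone : Cocone ((K ⋙ π T) ⋙ T) where
  pt := c.pt
  ι :=
    { app := fun j => (K.obj j).obj.str ≫ c.ι.app j
      naturality := by
        intro j j' g
        have h1 : T.map (K.map g).hom.f ≫ (K.obj j').obj.str = (K.obj j).obj.str ≫ (K.map g).hom.f :=
          (K.map g).hom.h
        have h2 : (K.map g).hom.f ≫ c.ι.app j' = c.ι.app j := c.w g
        change T.map (K.map g).hom.f ≫ (K.obj j').obj.str ≫ c.ι.app j' =
          ((K.obj j).obj.str ≫ c.ι.app j) ≫ 𝟙 _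
        rw [Category.comp_id, ← h2, reassoc_of% h1] }

set_option backward.isDefEq.respectTransparency false in
/-- the structure map of the colimit -/
noncomputable def str : T.obj c.pt ⟶ c.pt := (isColimitOfPreserves T t).desc (strCocone K c)

set_option backward.isDefEq.respectTransparency false in
theorem ι_str (j : J) : T.map (c.ι.app j) ≫ str K c t = (K.obj j).obj.str ≫ c.ι.app j :=
  (isColimitOfPreserves T t).fac (strCocone K c) j

instance (j : J) : IsIso (K.obj j).obj.str := (K.obj j).property

set_option backward.isDefEq.respectTransparency false in
/-- cocone giving the inverse of the structure map -/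
@[simps]
noncomputable def invCocone : Cocone (K ⋙ π T) where
  pt := T.obj c.pt
  ι :=
    { app := fun j => inv (K.obj j).obj.str ≫ T.map (c.ι.app j)
      naturality := by
        intro j j' g
        have h1 : T.map (K.map g).hom.f ≫ (K.obj j').obj.str = (K.obj j).obj.str ≫ (K.map g).hom.f :=
          (K.map g).hom.h
        have h2 : (K.map g).hom.f ≫ c.ι.app j' = c.ι.app j := c.w g
        change (K.map g).hom.f ≫ inv (K.obj j').obj.str ≫ T.map (c.ι.app j') =
          (inv (K.obj j).obj.str ≫ T.map (c.ι.app j)) ≫ 𝟙 _
        rw [Category.comp_id, IsIso.eq_inv_comp, ← reassoc_of% h1, IsIso.hom_inv_id_assoc,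
          ← T.map_comp, h2] }

set_option backward.isDefEq.respectTransparency false in
/-- the inverse of the structure map -/
noncomputable def strInv : c.pt ⟶ T.obj c.pt := t.desc (invCocone K c)

set_option backward.isDefEq.respectTransparency false in
omit [PreservesColimitsOfShape J T] in
theorem ι_strInv (j : J) : c.ι.app j ≫ strInv K c t = inv (K.obj j).obj.str ≫ T.map (c.ι.app j) :=
  t.fac (invCocone K c) j

set_option backward.isDefEq.respectTransparency false in
theorem str_strInv : str K c t ≫ strInv K c t = 𝟙 _ := by
  apply (isColimitOfPreserves T t).hom_ext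
  intro j
  dsimp
  rw [reassoc_of% (ι_str K c t j), ι_strInv, IsIso.hom_inv_id_assoc, Category.comp_id]

set_option backward.isDefEq.respectTransparency false in
theorem strInv_str : strInv K c t ≫ str K c t = 𝟙 _ := by
  apply t.hom_ext
  intro j
  rw [reassoc_of% (ι_strInv K c t j), ι_str, IsIso.inv_hom_id_assoc, Category.comp_id]

set_option backward.isDefEq.respectTransparency false in
/-- the lifted object -/
noncomputable def liftObj : (P T).FullSubcategory :=
  ⟨⟨c.pt, str K c t⟩, ⟨strInv K c t, str_strInv K c t, strInv_str K c t⟩⟩

set_option backward.isDefEq.respectTransparency false in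
/-- the lifted cocone -/
noncomputable def liftCocone : Cocone K where
  pt := liftObj K c t
  ι :=
    { app := fun j => ObjectProperty.homMk ⟨c.ι.app j, ι_str K c t j⟩
      naturality := by
        intro j j' g
        apply ObjectProperty.hom_ext
        apply Endofunctor.Algebra.Hom.ext
        have h2 : (K.map g).hom.f ≫ c.ι.app j' = c.ι.app j := c.w g
        change (K.map g).hom.f ≫ c.ι.app j' = c.ι.app j ≫ 𝟙 _
        rw [h2, Category.comp_id] }

set_option backward.isDefEq.respectTransparency false in
/-- the lifted cocone is a colimit -/
noncomputable def liftIsColimit : IsColimit (liftCocone K c t) where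
  desc s := ObjectProperty.homMk
    ⟨t.desc ((π T).mapCocone s), by
      apply (isColimitOfPreserves T t).hom_ext
      intro j
      have h1 : T.map (s.ι.app j).hom.f ≫ s.pt.obj.str = (K.obj j).obj.str ≫ (s.ι.app j).hom.f :=
        (s.ι.app j).hom.h
      have h2 : c.ι.app j ≫ t.desc ((π T).mapCocone s) = (s.ι.app j).hom.f :=
        t.fac ((π T).mapCocone s) j
      change T.map (c.ι.app j) ≫ T.map (t.desc ((π T).mapCocone s)) ≫ s.pt.obj.str =
        T.map (c.ι.app j) ≫ str K c t ≫ t.desc ((π T).mapCocone s)
      rw [← T.map_comp_assoc, h2, reassoc_of% (ι_str K c t j), h2, h1]⟩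
  fac s j := by
    apply ObjectProperty.hom_ext
    apply Endofunctor.Algebra.Hom.ext
    exact t.fac ((π T).mapCocone s) j
  uniq s m hm := by
    apply ObjectProperty.hom_ext
    apply Endofunctor.Algebra.Hom.ext
    apply t.hom_ext
    intro j
    have := congrArg (fun f => f.hom.f) (hm j)
    dsimp at this ⊢
    rw [t.fac]
    exact this

end

/-- Let C be a category and T an endofunctor of C; let C(T) be the category whose objects are pairs (X,
u) with u : T X → X an isomorphism and whose morphisms (X, u) → (Y, w) are the morphisms X → Y
compatible with u and w — the full subcategory of T-algebras with invertible structure map — and let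
π : C(T) → C be the forgetful functor. If T preserves colimits of shape J then π creates colimits of
shape J. (The source assumes T preserves all small colimits and concludes for all small shapes; the
argument is shape by shape.) -/
theorem result {C : Type u} [Category.{v} C] (T : C ⥤ C)
    (J : Type w) [Category.{w'} J] [PreservesColimitsOfShape J T] :
    Nonempty (CreatesColimitsOfShape J
      ((ObjectProperty.ι (fun A : Endofunctor.Algebra T => IsIso A.str)) ⋙ Endofunctor.Algebra.forget T)) := by
  refine ⟨⟨fun {K} => ?_⟩⟩
  exact createsColimitOfReflectsIso (fun c t =>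
    { liftedCocone := liftCocone K c t
      validLift := Cocone.ext (Iso.refl _) (fun j => Category.comp_id _)
      makesColimit := liftIsColimit K c t })

end Groth.Agent.S18960
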