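import Mathlib
import Groth.Agent.Lib.AMonPts27
import Groth.Agent.Lib.AffineLinePts27
import Groth.Agent.Lib.PolyFormal27
import Groth.Agent.Lib.FormalExt27
import Groth.Statements.S18963

set_option autoImplicit false
universe u
open CategoryTheory MonoidalCategory CartesianMonoidalCategory MonObj AlgebraicGeometry Opposite
open Magnet

namespace Groth.Agent.S18963

section Helpers

open Groth.Agent.Lib.AMonPts27 Groth.Agent.Lib.AffineLinePts27 Groth.Agent.Lib.PolyFormal27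
  Groth.Agent.Lib.FormalExt27

variable {S : Scheme.{u}} {X Y : Over S} (a : MonAct (AMonS S ℤ) X)
  (γ₁ γ₂ : (Magnet.attr a NN).obj (op Y))

/-- equivariance on ring-valued points. -/
theorem eqv_pQ [IsAffine Y.left] (γ₀ : (Magnet.attr a NN).obj (op Y)) {Q : Type u} [CommRing Q]
    (β : Γ(Y.left, ⊤) →+* Q) (w : Qˣ) (v : Q) :
    pQ Y β (w * v) ≫ γ₀.1 = lift (xQ Y β w) (pQ Y β v ≫ γ₀.1) ≫ a.act := by
  have h := (MonAct.mem_eqvHom_iff γ₀.1).mp γ₀.2 (TQ Y β) (xQ Y β w) (mQ Y β v) (tQ Y β)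
  have h2 : lift (xQ Y β w) (mQ Y β v) ≫ (subAct S ℤ NN).act = mQ Y β (w * v) := by
    unfold subAct
    rw [MonAct.lift_restrict_act, MonAct.lift_regular_act, xQ_mul_mQ]
  rw [h2] at h
  exact h

/-- the agreement predicate on ring-valued points. -/
def E [IsAffine Y.left] {Q : Type u} [CommRing Q] (β : Γ(Y.left, ⊤) →+* Q) (v : Q) : Prop :=
  pQ Y β v ≫ γ₁.1 = pQ Y β v ≫ γ₂.1

variable {a γ₁ γ₂}

theorem E_unit_mul [IsAffine Y.left] {Q : Type u} [CommRing Q] {β : Γ(Y.left, ⊤) →+* Q} {v : Q}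
    (hE : E a γ₁ γ₂ β v) (w : Qˣ) : E a γ₁ γ₂ β (w * v) := by
  unfold E at hE ⊢
  rw [eqv_pQ, eqv_pQ, hE]

theorem E_map [IsAffine Y.left] {Q : Type u} [CommRing Q] {β : Γ(Y.left, ⊤) →+* Q} {v : Q}
    (hE : E a γ₁ γ₂ β v) {Q' : Type u} [CommRing Q'] (r : Q →+* Q') : E a γ₁ γ₂ (r.comp β) (r v) := by
  unfold E at hE ⊢
  rw [← rQ_pQ, Category.assoc, Category.assoc, hE]

theorem E_descent [IsAffine Y.left] {Q : Type u} [CommRing Q] {β : Γ(Y.left, ⊤) →+* Q} {v : Q}
    {Q' : Type u} [CommRing Q'] (r : Q →+* Q') (hr : Epi (Spec.map (CommRingCat.ofHom r)))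
    (hE : E a γ₁ γ₂ (r.comp β) (r v)) : E a γ₁ γ₂ β v := by
  unfold E at hE ⊢
  rw [← rQ_pQ, Category.assoc, Category.assoc] at hE
  apply Over.OverMorphism.ext
  have h1 := congrArg Over.Hom.left hE
  rw [Over.comp_left, Over.comp_left] at h1
  have : Epi (rQ Y β r).left := hr
  exact (cancel_epi (rQ Y β r).left).mp h1


variable (h : ∀ (T : Over S) (m : T ⟶ Magnet.AMonS S NN) (t : T ⟶ Y),
      (∃ n : ℕ, ∀ m' : T ⟶ Magnet.AMonS S NN, m ^ (n + 1) * m' = m ^ (n + 1)) →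
      CartesianMonoidalCategory.lift m t ≫ γ₁.1 = CartesianMonoidalCategory.lift m t ≫ γ₂.1)

include h in
theorem E_of_nilp [IsAffine Y.left] {Q : Type u} [CommRing Q] (β : Γ(Y.left, ⊤) →+* Q) (v : Q)
    (n : ℕ) (hv : v ^ (n + 1) = 0) : E a γ₁ γ₂ β v :=
  h (TQ Y β) (mQ Y β v) (tQ Y β) ⟨n, mQ_nilpotent Y β v n hv⟩

include h in
theorem E_formal [IsAffine Y.left] {Q : Type u} [CommRing Q] (β : Γ(Y.left, ⊤) →+* Q) (v : Q)
    (hsep : ∀ z : Q, (∀ n : ℕ, z ∈ Ideal.span {v ^ (n + 1)}) → z = 0)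
    (X₀ : X.left.Opens) (hX₀ : IsAffineOpen X₀)
    (h₁ : Set.range (pQ Y β v ≫ γ₁.1).left ⊆ X₀) (h₂ : Set.range (pQ Y β v ≫ γ₂.1).left ⊆ X₀) :
    E a γ₁ γ₂ β v := by
  unfold E
  apply Over.OverMorphism.ext
  refine formal_ext v hsep (Z := X.left) (pQ Y β v ≫ γ₁.1).left (pQ Y β v ≫ γ₂.1).left X₀ hX₀ h₁ h₂ ?_
  intro n
  have hn := E_of_nilp h ((Ideal.Quotient.mk (Ideal.span {v ^ (n + 1)})).comp β)
    (Ideal.Quotient.mk (Ideal.span {v ^ (n + 1)}) v) n (by
      rw [← map_pow, Ideal.Quotient.eq_zero_iff_mem]; exact Ideal.subset_span rfl)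
  unfold E at hn
  rw [← rQ_pQ, Category.assoc, Category.assoc] at hn
  have h1 := congrArg Over.Hom.left hn
  rw [Over.comp_left, Over.comp_left] at h1
  exact h1

open Polynomial in
/-- the map `Spec Γ(Y)[X] ⟶ X` induced by `γ₀`. -/
noncomputable def ell [IsAffine Y.left] (γ₀ : (Magnet.attr a NN).obj (op Y)) :
    Spec (CommRingCat.of (Polynomial Γ(Y.left, ⊤))) ⟶ X.left :=
  (pQ Y (C : Γ(Y.left, ⊤) →+* _) (Polynomial.X) ≫ γ₀.1).left

open Polynomial in
/-- ring-valued points through `ell`. -/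
theorem pQ_left_eq [IsAffine Y.left] (γ₀ : (Magnet.attr a NN).obj (op Y)) {Q : Type u} [CommRing Q]
    (q : Polynomial Γ(Y.left, ⊤) →+* Q) :
    (pQ Y (q.comp C) (q Polynomial.X) ≫ γ₀.1).left = Spec.map (CommRingCat.ofHom q) ≫ ell γ₀ := by
  rw [← rQ_pQ, Category.assoc, Over.comp_left]
  rfl

open Polynomial in
include h in
theorem ell_zero_eq [IsAffine Y.left] (𝔭 : PrimeSpectrum Γ(Y.left, ⊤)) :
    (ell γ₁).base (PrimeSpectrum.comap (Polynomial.evalRingHom (0 : Γ(Y.left, ⊤))) 𝔭) =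
      (ell γ₂).base (PrimeSpectrum.comap (Polynomial.evalRingHom (0 : Γ(Y.left, ⊤))) 𝔭) := by
  have h0 : E a γ₁ γ₂ ((Polynomial.evalRingHom (0 : Γ(Y.left, ⊤))).comp C)
      (Polynomial.evalRingHom (0 : Γ(Y.left, ⊤)) Polynomial.X) :=
    E_of_nilp h _ _ 0 (by simp)
  unfold E at h0
  have h1 := congrArg Over.Hom.left h0
  rw [pQ_left_eq, pQ_left_eq] at h1
  have h2 := congrArg (fun k => k.base 𝔭) h1
  exact h2

open Polynomial in
include h in
theorem exists_g [IsAffine Y.left] (𝔭 : PrimeSpectrum Γ(Y.left, ⊤)) :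
    ∃ (g : Polynomial Γ(Y.left, ⊤)) (X₀ : X.left.Opens), IsAffineOpen X₀ ∧ g.coeff 0 ∉ 𝔭.asIdeal ∧
      (∀ 𝔮 : PrimeSpectrum (Polynomial Γ(Y.left, ⊤)), g ∉ 𝔮.asIdeal → (ell γ₁).base 𝔮 ∈ X₀) ∧
      (∀ 𝔮 : PrimeSpectrum (Polynomial Γ(Y.left, ⊤)), g ∉ 𝔮.asIdeal → (ell γ₂).base 𝔮 ∈ X₀) := by
  set p : PrimeSpectrum (Polynomial Γ(Y.left, ⊤)) :=
    PrimeSpectrum.comap (Polynomial.evalRingHom (0 : Γ(Y.left, ⊤))) 𝔭 with hp
  obtain ⟨X₀, hX₀, hx, -⟩ := exists_isAffineOpen_mem_and_subset (X := X.left) (x := (ell γ₁).base p)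
    (U := ⊤) trivial
  have hx2 : (ell γ₂).base p ∈ X₀ := by rw [← ell_zero_eq h 𝔭]; exact hx
  let W : TopologicalSpace.Opens (PrimeSpectrum (Polynomial Γ(Y.left, ⊤))) :=
    ((ell γ₁) ⁻¹ᵁ X₀) ⊓ ((ell γ₂) ⁻¹ᵁ X₀)
  have hpW : p ∈ W := ⟨hx, hx2⟩
  obtain ⟨_, ⟨_, ⟨g, rfl⟩, rfl⟩, hpg, hgW⟩ :=
    PrimeSpectrum.isBasis_basic_opens.exists_subset_of_mem_open hpW W.isOpen
  refine ⟨g, X₀, hX₀, ?_, ?_, ?_⟩
  · intro hmem
    apply hpg
    change g ∈ Ideal.comap (Polynomial.evalRingHom (0 : Γ(Y.left, ⊤))) 𝔭.asIdeal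
    rw [Ideal.mem_comap, Polynomial.coe_evalRingHom, ← Polynomial.coeff_zero_eq_eval_zero]
    exact hmem
  · intro 𝔮 h𝔮
    exact (hgW h𝔮).1
  · intro 𝔮 h𝔮
    exact (hgW h𝔮).2

set_option quotPrecheck false in
local notation "𝐏" => Polynomial (↑Γ(Over.left Y, ⊤))

open Polynomial in
theorem step5 [IsAffine Y.left] (g : 𝐏)
    (hEf : E a γ₁ γ₂ ((algebraMap 𝐏 (Localization.Away (C (g.coeff 0) * g))).comp C)
        (algebraMap 𝐏 (Localization.Away (C (g.coeff 0) * g)) Polynomial.X)) :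
    E a γ₁ γ₂ (algebraMap Γ(Y.left, ⊤) (Localization.Away (g.coeff 0))) 1 := by
  set b := g.coeff 0 with hbdef
  set f := C b * g with hf
  set lam := algebraMap Γ(Y.left, ⊤) (Localization.Away b) with hlam
  set gt : Polynomial (Localization.Away b) := g.map lam with hgt
  set hh : Polynomial (Localization.Away b) := Polynomial.X * gt with hhh
  set al := algebraMap (Polynomial (Localization.Away b)) (Localization.Away hh) with hal
  set q' : 𝐏 →+* Localization.Away hh := al.comp (Polynomial.mapRingHom lam) with hq'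
  have hu : IsUnit (al hh) := IsLocalization.Away.algebraMap_isUnit hh
  have hmul : al hh = al Polynomial.X * al gt := map_mul al _ _
  have huX : IsUnit (al Polynomial.X) := by
    rw [hmul] at hu; exact isUnit_of_mul_isUnit_left hu
  have hugt : IsUnit (al gt) := by
    rw [hmul] at hu; exact isUnit_of_mul_isUnit_right hu
  have hub : IsUnit (lam b) := IsLocalization.Away.algebraMap_isUnit b
  have hq'f : IsUnit (q' f) := by
    rw [hq', hf, RingHom.comp_apply, map_mul, Polynomial.coe_mapRingHom, Polynomial.map_C, map_mul]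
    exact (hub.map (Polynomial.C)).map al |>.mul hugt
  let r : Localization.Away f →+* Localization.Away hh := IsLocalization.Away.lift f hq'f
  have hr : r.comp (algebraMap 𝐏 (Localization.Away f)) = q' := IsLocalization.Away.lift_comp f hq'f
  have h1 := E_map hEf r
  rw [← RingHom.comp_assoc, hr, ← RingHom.comp_apply, hr] at h1
  have hq'X : q' Polynomial.X = (huX.unit : Localization.Away hh) := by
    rw [hq', RingHom.comp_apply, Polynomial.coe_mapRingHom, Polynomial.map_X]; rfl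
  have h2 := E_unit_mul h1 huX.unit⁻¹
  rw [hq'X, Units.inv_mul] at h2
  have hq'C : q'.comp C = (kap (A := Localization.Away b) (Localization.Away hh)).comp lam := by
    ext b'
    rw [hq', RingHom.comp_apply, RingHom.comp_apply, Polynomial.coe_mapRingHom, Polynomial.map_C]
    rfl
  rw [hq'C, ← map_one (kap (A := Localization.Away b) (Localization.Away hh))] at h2
  refine E_descent _ ?_ h2
  refine epi_SpecMap_of_flat_of_surjective _ (kap_flat hh _) (kap_surjective hh _ 1 ?_)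
  rw [hhh, Polynomial.coeff_X_mul, hgt, Polynomial.coeff_map]
  exact hub

open Polynomial in
theorem step6 [IsAffine Y.left] (b : Γ(Y.left, ⊤))
    (hEB : E a γ₁ γ₂ (algebraMap Γ(Y.left, ⊤) (Localization.Away b)) 1) :
    E a γ₁ γ₂ ((algebraMap 𝐏 (Localization.Away (Polynomial.X * C b : 𝐏))).comp C)
        (algebraMap 𝐏 (Localization.Away (Polynomial.X * C b : 𝐏)) Polynomial.X) := by
  set f2 : 𝐏 := Polynomial.X * C b with hf2
  set al2 := algebraMap 𝐏 (Localization.Away f2) with hal2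
  have hu2 : IsUnit (al2 f2) := IsLocalization.Away.algebraMap_isUnit f2
  have hmul2 : al2 f2 = al2 Polynomial.X * (al2.comp C) b := map_mul al2 _ _
  have hu2X : IsUnit (al2 Polynomial.X) := by
    rw [hmul2] at hu2; exact isUnit_of_mul_isUnit_left hu2
  have hu2b : IsUnit ((al2.comp C) b) := by
    rw [hmul2] at hu2; exact isUnit_of_mul_isUnit_right hu2
  let κ2 : Localization.Away b →+* Localization.Away f2 := IsLocalization.Away.lift b hu2b
  have hκ2 : κ2.comp (algebraMap Γ(Y.left, ⊤) (Localization.Away b)) = al2.comp C :=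
    IsLocalization.Away.lift_comp b hu2b
  have h3 := E_map hEB κ2
  rw [hκ2, map_one] at h3
  have h4 := E_unit_mul h3 hu2X.unit
  rw [_root_.mul_one] at h4
  exact h4

open Polynomial in
include h in
theorem step4 [IsAffine Y.left] (𝔭 : PrimeSpectrum Γ(Y.left, ⊤)) :
    ∃ (g : 𝐏), g.coeff 0 ∉ 𝔭.asIdeal ∧
      E a γ₁ γ₂ ((algebraMap 𝐏 (Localization.Away (C (g.coeff 0) * g))).comp C)
        (algebraMap 𝐏 (Localization.Away (C (g.coeff 0) * g)) Polynomial.X) := by
  obtain ⟨g, X₀, hX₀, hb, hg₁, hg₂⟩ := exists_g h 𝔭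
  refine ⟨g, hb, ?_⟩
  set b := g.coeff 0 with hbdef
  set f := C b * g with hf
  have hgu : IsUnit (algebraMap 𝐏 (Localization.Away f) g) := by
    have := IsLocalization.Away.algebraMap_isUnit (S := Localization.Away f) f
    rw [hf, map_mul] at this
    exact isUnit_of_mul_isUnit_right this
  have hrange : ∀ (γ₀ : (Magnet.attr a NN).obj (op Y)),
      (∀ 𝔮 : PrimeSpectrum 𝐏, g ∉ 𝔮.asIdeal → (ell γ₀).base 𝔮 ∈ X₀) →
      Set.range (pQ Y ((algebraMap 𝐏 (Localization.Away f)).comp C)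
        (algebraMap 𝐏 (Localization.Away f) Polynomial.X) ≫ γ₀.1).left ⊆ X₀ := by
    intro γ₀ hγ₀
    rw [pQ_left_eq]
    rintro _ ⟨z, rfl⟩
    refine hγ₀ (PrimeSpectrum.comap (algebraMap 𝐏 (Localization.Away f)) z) ?_
    intro hmem
    exact z.2.ne_top (Ideal.eq_top_of_isUnit_mem _ hmem hgu)
  exact E_formal h _ _ (eq_zero_of_forall_mem_span_X_pow g) X₀ hX₀ (hrange γ₁ hg₁) (hrange γ₂ hg₂)

open Polynomial in
include h in
theorem local_claim [IsAffine Y.left] (𝔭 : PrimeSpectrum Γ(Y.left, ⊤)) :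
    ∃ (g : 𝐏), g.coeff 0 ∉ 𝔭.asIdeal ∧
      E a γ₁ γ₂ ((algebraMap 𝐏 (Localization.Away (C (g.coeff 0) * g))).comp C)
        (algebraMap 𝐏 (Localization.Away (C (g.coeff 0) * g)) Polynomial.X) ∧
      E a γ₁ γ₂ ((algebraMap 𝐏 (Localization.Away (Polynomial.X * C (g.coeff 0) : 𝐏))).comp C)
        (algebraMap 𝐏 (Localization.Away (Polynomial.X * C (g.coeff 0) : 𝐏)) Polynomial.X) := by
  obtain ⟨g, hb, hEf⟩ := step4 h 𝔭
  exact ⟨g, hb, hEf, step6 _ (step5 g hEf)⟩

open Polynomial in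
theorem mem_range_SpecMap_away {R : Type u} [CommRing R] (f : R) (𝔮 : PrimeSpectrum R)
    (hf : f ∉ 𝔮.asIdeal) :
    (𝔮 : ↥(Spec (CommRingCat.of R))) ∈
      Set.range (Spec.map (CommRingCat.ofHom (algebraMap R (Localization.Away f)))) := by
  have h1 : 𝔮 ∈ Set.range (PrimeSpectrum.comap (algebraMap R (Localization.Away f))) := by
    rw [PrimeSpectrum.localization_away_comap_range (Localization.Away f) f]
    exact hf
  obtain ⟨z, hz⟩ := h1
  exact ⟨z, hz⟩

open Polynomial in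
include h in
theorem ell_eq [IsAffine Y.left] : ell γ₁ = ell γ₂ := by
  apply hom_ext_of_forall_openImm
  intro 𝔮
  obtain ⟨g, hb, hE1, hE2⟩ := local_claim h (PrimeSpectrum.comap C (𝔮 : PrimeSpectrum 𝐏))
  have hCb : C (g.coeff 0) ∉ (𝔮 : PrimeSpectrum 𝐏).asIdeal := hb
  by_cases hX : Polynomial.X ∈ (𝔮 : PrimeSpectrum 𝐏).asIdeal
  · refine ⟨_, Spec.map (CommRingCat.ofHom (algebraMap 𝐏 (Localization.Away (C (g.coeff 0) * g)))),
      inferInstance, ?_, ?_⟩
    · apply mem_range_SpecMap_away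
      intro hmem
      rcases (𝔮 : PrimeSpectrum 𝐏).2.mem_or_mem hmem with h1 | h1
      · exact hCb h1
      · apply hCb
        have h2 : C (g.coeff 0) = g - g.divX * Polynomial.X := by
          rw [eq_sub_iff_add_eq, add_comm]; exact Polynomial.divX_mul_X_add g
        rw [h2]
        exact Ideal.sub_mem _ h1 (Ideal.mul_mem_left _ _ hX)
    · have := congrArg Over.Hom.left hE1
      rw [pQ_left_eq, pQ_left_eq] at this
      exact this
  · refine ⟨_, Spec.map (CommRingCat.ofHom (algebraMap 𝐏 (Localization.Away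
        (Polynomial.X * C (g.coeff 0) : 𝐏)))), inferInstance, ?_, ?_⟩
    · apply mem_range_SpecMap_away
      intro hmem
      rcases (𝔮 : PrimeSpectrum 𝐏).2.mem_or_mem hmem with h1 | h1
      · exact hX h1
      · exact hCb h1
    · have := congrArg Over.Hom.left hE2
      rw [pQ_left_eq, pQ_left_eq] at this
      exact this

open Polynomial in
include h in
theorem main_affine [IsAffine Y.left] : γ₁.1 = γ₂.1 := by
  have h1 : pQ Y (C : Γ(Y.left, ⊤) →+* _) Polynomial.X ≫ γ₁.1 =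
      pQ Y (C : Γ(Y.left, ⊤) →+* _) Polynomial.X ≫ γ₂.1 := Over.OverMorphism.ext (ell_eq h)
  exact (cancel_epi (coordIso Y).hom).mp h1

include h in
theorem main_general : γ₁.1 = γ₂.1 := by
  -- affine-local statement
  have haff : ∀ (V : Y.left.Opens), IsAffineOpen V →
      (AMonS S NN ◁ (Over.homMk V.ι rfl : Over.mk (V.ι ≫ Y.hom) ⟶ Y)) ≫ γ₁.1 =
        (AMonS S NN ◁ (Over.homMk V.ι rfl : Over.mk (V.ι ≫ Y.hom) ⟶ Y)) ≫ γ₂.1 := by
    intro V hV
    have : IsAffine (Over.mk (V.ι ≫ Y.hom)).left := hV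
    let ιV : Over.mk (V.ι ≫ Y.hom) ⟶ Y := Over.homMk V.ι rfl
    have key := main_affine (a := a) (γ₁ := (Magnet.attr a NN).map ιV.op γ₁)
      (γ₂ := (Magnet.attr a NN).map ιV.op γ₂) (by
        intro T m t hm
        have := h T m (t ≫ ιV) hm
        rw [MonAct.eqvHom_map_coe, MonAct.eqvHom_map_coe]
        simp only [Quiver.Hom.unop_op, lift_whiskerLeft_assoc]
        exact this)
    rw [MonAct.eqvHom_map_coe, MonAct.eqvHom_map_coe] at key
    exact key
  apply Over.OverMorphism.ext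
  apply Scheme.hom_ext_of_forall
  intro p
  obtain ⟨V, hV, hyV, -⟩ := exists_isAffineOpen_mem_and_subset (X := Y.left)
    (x := (snd (AMonS S NN) Y).left.base p) (U := ⊤) trivial
  let U : (AMonS S NN ⊗ Y).left.Opens := (snd (AMonS S NN) Y).left ⁻¹ᵁ V
  refine ⟨U, hyV, ?_⟩
  let ιV : Over.mk (V.ι ≫ Y.hom) ⟶ Y := Over.homMk V.ι rfl
  let ιU : Over.mk (U.ι ≫ (AMonS S NN ⊗ Y).hom) ⟶ AMonS S NN ⊗ Y := Over.homMk U.ι rfl
  have hr : Set.range (U.ι ≫ (snd (AMonS S NN) Y).left) ⊆ Set.range V.ι := by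
    rintro _ ⟨z, rfl⟩
    rw [Scheme.Opens.range_ι]
    exact z.2
  let s : Over.mk (U.ι ≫ (AMonS S NN ⊗ Y).hom) ⟶ Over.mk (V.ι ≫ Y.hom) :=
    Over.homMk (IsOpenImmersion.lift V.ι (U.ι ≫ (snd (AMonS S NN) Y).left) hr) (by
      simp only [Over.mk_left, Over.mk_hom]
      rw [IsOpenImmersion.lift_fac_assoc, Category.assoc, Over.w])
  have hs : s ≫ ιV = ιU ≫ snd (AMonS S NN) Y := by
    apply Over.OverMorphism.ext
    simp only [s, ιV, ιU, Over.comp_left, Over.homMk_left]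
    exact IsOpenImmersion.lift_fac _ _ _
  have hιU : ιU = lift (ιU ≫ fst (AMonS S NN) Y) s ≫ (AMonS S NN ◁ ιV) := by
    rw [lift_whiskerLeft, hs, lift_comp_fst_snd]
  have h1 : ιU ≫ γ₁.1 = ιU ≫ γ₂.1 := by
    rw [hιU, Category.assoc, Category.assoc, haff V hV]
  have h2 := congrArg Over.Hom.left h1
  rw [Over.comp_left, Over.comp_left] at h2
  exact h2

end Helpers

/-- For the multiplicative monoid of the affine line with unit group G_m (the published statement: any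
Kempf monoid M with unit group G), let k be a field, X a k-scheme with an action a of the
multiplicative group G_m = D(ℤ) over k, and Y a k-scheme. Let γ₁ and γ₂ be two k-morphisms A^1 ×_k Y
→ X, where A^1 is the diagonalizable monoid scheme of the non-negative integers (the affine line
under multiplication), that are G_m-equivariant for G_m scaling the first factor — two Y-valued
points of the Białynicki-Birula functor D_X. Suppose γ₁ and γ₂ agree at every T-valued point (m, t)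
of A^1 ×_k Y whose first coordinate m is nilpotent in the monoid A^1(T), i.e. some power of m is
absorbing (equal to its product with any element); equivalently γ₁ and γ₂ agree on all infinitesimal
neighbourhoods of {0} ×_k Y. Then γ₁ = γ₂; that is, the canonical map from D_X to the formal
Białynicki-Birula functor is injective on Y-points. -/
theorem result (k : Type u) [Field k]
    (X Y : Over (Spec (CommRingCat.of k))) (a : AlgGrp.Action (Red.DS (Spec (CommRingCat.of k)) ℤ) X)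
    (γ₁ γ₂ : (Magnet.attr (Magnet.MonAct.ofAction a) (AddSubmonoid.multiples (1 : ℤ))).obj (op Y))
    (h : ∀ (T : Over (Spec (CommRingCat.of k))) (m : T ⟶ Magnet.AMonS (Spec (CommRingCat.of k)) (AddSubmonoid.multiples (1 : ℤ))) (t : T ⟶ Y),
      (∃ n : ℕ, ∀ m' : T ⟶ Magnet.AMonS (Spec (CommRingCat.of k)) (AddSubmonoid.multiples (1 : ℤ)), m ^ (n + 1) * m' = m ^ (n + 1)) →
      CartesianMonoidalCategory.lift m t ≫ γ₁.1 = CartesianMonoidalCategory.lift m t ≫ γ₂.1) :
    γ₁ = γ₂ := by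
  apply Subtype.ext
  exact Groth.Agent.S18963.main_general (a := Magnet.MonAct.ofAction a) h

end Groth.Agent.S18963
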