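import Groth.Statements.S18974
import Mathlib
-- import your own Groth.Agent.* helpers here

set_option autoImplicit false
universe u
open CAlg

namespace Groth.Agent.S18974

open Polynomial

section
variable {A : Type u} [CommRing A] [Algebra ℚ A] (D : Derivation ℚ A A) (a : A)

theorem pow_succ_apply (n : ℕ) (x : A) :
    ((D : A →ₗ[ℚ] A) ^ (n + 1)) x = ((D : A →ₗ[ℚ] A) ^ n) (D x) := by
  rw [pow_succ, Module.End.mul_apply]; rfl

theorem pow_succ_apply' (n : ℕ) (x : A) :
    ((D : A →ₗ[ℚ] A) ^ (n + 1)) x = D (((D : A →ₗ[ℚ] A) ^ n) x) := by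
  rw [pow_succ', Module.End.mul_apply]; rfl

theorem pow_vanish {x : A} {N m : ℕ} (h : ((D : A →ₗ[ℚ] A) ^ N) x = 0) (hm : N ≤ m) :
    ((D : A →ₗ[ℚ] A) ^ m) x = 0 := by
  obtain ⟨k, rfl⟩ := Nat.exists_eq_add_of_le hm
  rw [add_comm, pow_add, Module.End.mul_apply, h, map_zero]

/-- The coefficient `(1/n!) [D^n x]`. -/
noncomputable def cf (n : ℕ) (x : A) : A ⧸ Ideal.span ({a} : Set A) :=
  ((n.factorial : ℚ)⁻¹) • Ideal.Quotient.mk (Ideal.span ({a} : Set A)) (((D : A →ₗ[ℚ] A) ^ n) x)

/-- The statement's sum. -/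
noncomputable def sumN (N : ℕ) (x : A) : Polynomial (A ⧸ Ideal.span ({a} : Set A)) :=
  ∑ n ∈ Finset.range N,
    ((n.factorial : ℚ)⁻¹ • Polynomial.C (Ideal.Quotient.mk (Ideal.span ({a} : Set A))
      (((D : A →ₗ[ℚ] A) ^ n) x))) * Polynomial.X ^ n

theorem coeff_sumN (N m : ℕ) (x : A) :
    (sumN D a N x).coeff m = if m < N then cf D a m x else 0 := by
  rw [sumN, finsetSum_coeff]
  simp only [Polynomial.smul_C, coeff_C_mul_X_pow]
  rw [Finset.sum_ite_eq]
  simp only [Finset.mem_range, cf]

theorem cf_of_vanish {x : A} {N m : ℕ} (h : ((D : A →ₗ[ℚ] A) ^ N) x = 0) (hm : N ≤ m) :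
    cf D a m x = 0 := by
  rw [cf, pow_vanish D h hm, map_zero, smul_zero]

variable (hnil : ∀ x : A, ∃ n : ℕ, ((D : A →ₗ[ℚ] A) ^ n) x = 0)

open Classical in
/-- The exponential map. -/
noncomputable def E (x : A) : Polynomial (A ⧸ Ideal.span ({a} : Set A)) :=
  sumN D a (Nat.find (hnil x)) x

theorem coeff_E (m : ℕ) (x : A) : (E D a hnil x).coeff m = cf D a m x := by
  classical
  rw [E, coeff_sumN]
  split_ifs with h
  · rfl
  · exact (cf_of_vanish D a (Nat.find_spec (hnil x)) (not_lt.1 h)).symm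

theorem E_eq_sumN {x : A} {N : ℕ} (h : ((D : A →ₗ[ℚ] A) ^ N) x = 0) :
    E D a hnil x = sumN D a N x := by
  ext m
  rw [coeff_E, coeff_sumN]
  split_ifs with h'
  · rfl
  · exact cf_of_vanish D a h (not_lt.1 h')

theorem cf_add (m : ℕ) (x y : A) : cf D a m (x + y) = cf D a m x + cf D a m y := by
  simp only [cf, map_add, smul_add]

theorem cf_zero (m : ℕ) : cf D a m (0 : A) = 0 := by
  simp only [cf, map_zero, smul_zero]

theorem cf_zero_left (x : A) : cf D a 0 x = Ideal.Quotient.mk _ x := by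
  simp [cf]

theorem cf_succ (m : ℕ) (x : A) :
    cf D a (m + 1) x * ((m : A ⧸ Ideal.span ({a} : Set A)) + 1) = cf D a m (D x) := by
  rw [cf, cf, pow_succ_apply]
  have h1 : ((m : A ⧸ Ideal.span ({a} : Set A)) + 1)
      = ((m + 1 : ℕ) : ℚ) • (1 : A ⧸ Ideal.span ({a} : Set A)) := by
    rw [Nat.cast_smul_eq_nsmul, nsmul_eq_mul, mul_one]; push_cast; rfl
  rw [h1, smul_mul_smul_comm, mul_one]
  congr 1
  rw [Nat.factorial_succ]
  push_cast
  field_simp

theorem derivative_E (x : A) : derivative (E D a hnil x) = E D a hnil (D x) := by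
  ext m
  rw [coeff_derivative, coeff_E, coeff_E, cf_succ]

theorem E_zero : E D a hnil 0 = 0 := by
  ext m; rw [coeff_E, cf_zero, coeff_zero]

theorem E_add (x y : A) : E D a hnil (x + y) = E D a hnil x + E D a hnil y := by
  ext m; simp only [coeff_E, cf_add, coeff_add]

theorem E_one : E D a hnil 1 = 1 := by
  ext m
  rw [coeff_E]
  cases m with
  | zero => rw [cf_zero_left, map_one, coeff_one_zero]
  | succ m =>
    rw [cf, pow_succ_apply, D.map_one_eq_zero, map_zero, map_zero, smul_zero, coeff_one]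
    simp

theorem eq_zero_of_derivative {R : Type*} [CommRing R] [Algebra ℚ R] (p : R[X])
    (h0 : p.coeff 0 = 0) (hd : derivative p = 0) : p = 0 := by
  ext m
  cases m with
  | zero => simpa using h0
  | succ m =>
    have h1 := congrArg (fun q => q.coeff m) hd
    simp only [coeff_derivative, coeff_zero] at h1
    have hu : IsUnit ((m : R) + 1) := by
      have h2 : ((m : R) + 1) = algebraMap ℚ R (m + 1) := by simp
      rw [h2]; exact (IsUnit.mk0 _ (by positivity)).map _
    rw [coeff_zero]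
    exact (hu.mul_left_eq_zero).1 h1

theorem E_mul_aux : ∀ (M : ℕ) (x y : A) (i j : ℕ), i + j ≤ M →
    ((D : A →ₗ[ℚ] A) ^ i) x = 0 → ((D : A →ₗ[ℚ] A) ^ j) y = 0 →
    E D a hnil (x * y) = E D a hnil x * E D a hnil y := by
  intro M
  induction M with
  | zero =>
    intro x y i j hij hi hj
    have hi0 : i = 0 := by omega
    subst hi0
    have hx : x = 0 := by simpa using hi
    subst hx; rw [zero_mul, E_zero, zero_mul]
  | succ M ih =>
    intro x y i j hij hi hj
    rcases Nat.eq_zero_or_pos i with rfl | hipos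
    · have hx : x = 0 := by simpa using hi
      subst hx; rw [zero_mul, E_zero, zero_mul]
    rcases Nat.eq_zero_or_pos j with rfl | hjpos
    · have hy : y = 0 := by simpa using hj
      subst hy; rw [mul_zero, E_zero, mul_zero]
    obtain ⟨i', rfl⟩ : ∃ i', i = i' + 1 := ⟨i - 1, by omega⟩
    obtain ⟨j', rfl⟩ : ∃ j', j = j' + 1 := ⟨j - 1, by omega⟩
    have h1 : E D a hnil (D x * y) = E D a hnil (D x) * E D a hnil y :=
      ih (D x) y i' (j' + 1) (by omega) (by rwa [← pow_succ_apply]) hj
    have h2 : E D a hnil (x * D y) = E D a hnil x * E D a hnil (D y) :=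
      ih x (D y) (i' + 1) j' (by omega) hi (by rwa [← pow_succ_apply])
    have hF : E D a hnil (x * y) - E D a hnil x * E D a hnil y = 0 := by
      apply eq_zero_of_derivative
      · simp [coeff_E, cf_zero_left, mul_coeff_zero]
      · rw [derivative_sub, derivative_mul, derivative_E, derivative_E, derivative_E, D.leibniz,
          E_add, smul_eq_mul, smul_eq_mul, h2, mul_comm y (D x), h1]
        ring
    exact sub_eq_zero.1 hF

/-- The exponential map as a ring homomorphism. -/
noncomputable def Ehom : A →+* Polynomial (A ⧸ Ideal.span ({a} : Set A)) where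
  toFun := E D a hnil
  map_one' := E_one D a hnil
  map_mul' x y := by
    obtain ⟨i, hi⟩ := hnil x
    obtain ⟨j, hj⟩ := hnil y
    exact E_mul_aux D a hnil (i + j) x y i j le_rfl hi hj
  map_zero' := E_zero D a hnil
  map_add' := E_add D a hnil

theorem Ehom_apply (x : A) : Ehom D a hnil x = E D a hnil x := rfl

variable (ha : D a = 1)

include ha in
theorem E_a : E D a hnil a = X := by
  ext m
  rw [coeff_E, coeff_X]
  cases m with
  | zero =>
    rw [cf_zero_left, if_neg (by omega)]
    exact Ideal.Quotient.eq_zero_iff_mem.2 (Ideal.subset_span rfl)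
  | succ m =>
    rw [cf, pow_succ_apply, ha]
    cases m with
    | zero => simp
    | succ m =>
      rw [pow_succ_apply, D.map_one_eq_zero, map_zero, map_zero, smul_zero, if_neg (by omega)]

include ha in
theorem kerD_inter : ∀ (M c : ℕ) (y : A), ((D : A →ₗ[ℚ] A) ^ M) y = 0 →
    ((c + 1 : ℕ) : ℚ) • y + a * D y = 0 → y = 0 := by
  intro M
  induction M with
  | zero => intro c y hy _; simpa using hy
  | succ M ih =>
    intro c y hy h
    have h1 : ((c + 1 + 1 : ℕ) : ℚ) • D y + a * D (D y) = 0 := by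
      have h2 := congrArg D h
      rw [map_add, D.map_smul, D.leibniz, ha, map_zero] at h2
      rw [← h2]
      simp only [smul_eq_mul, mul_one]
      push_cast
      rw [add_smul, one_smul]
      ring
    have h3 : D y = 0 := ih (c + 1) (D y) (by rwa [← pow_succ_apply]) h1
    rw [h3, mul_zero, add_zero] at h
    rcases smul_eq_zero.1 h with hq | hy0
    · exfalso
      have : (0 : ℚ) < ((c + 1 : ℕ) : ℚ) := by positivity
      exact this.ne' hq
    · exact hy0

include ha in
theorem E_injective : Function.Injective (Ehom D a hnil) := by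
  classical
  rw [injective_iff_map_eq_zero]
  intro x hx
  rw [Ehom_apply] at hx
  by_contra hne
  set N := Nat.find (hnil x) with hN
  have hNspec : ((D : A →ₗ[ℚ] A) ^ N) x = 0 := Nat.find_spec (hnil x)
  have hNpos : N ≠ 0 := by
    intro h0
    rw [h0] at hNspec
    exact hne (by simpa using hNspec)
  obtain ⟨N', hN'⟩ : ∃ N', N = N' + 1 := ⟨N - 1, by omega⟩
  set z := ((D : A →ₗ[ℚ] A) ^ N') x with hz
  have hDz : D z = 0 := by rw [hz, ← pow_succ_apply', ← hN']; exact hNspec
  have hzne : z ≠ 0 := Nat.find_min (hnil x) (by omega : N' < Nat.find (hnil x))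
  have hmk : Ideal.Quotient.mk (Ideal.span ({a} : Set A)) z = 0 := by
    have h1 : cf D a N' x = 0 := by rw [← coeff_E D a hnil, hx, coeff_zero]
    rw [cf] at h1
    rcases smul_eq_zero.1 h1 with hq | h2
    · exfalso
      have : (0 : ℚ) < ((N'.factorial : ℚ))⁻¹ := by positivity
      exact this.ne' hq
    · exact h2
  rw [Ideal.Quotient.eq_zero_iff_mem, Ideal.mem_span_singleton'] at hmk
  obtain ⟨w, hw⟩ := hmk
  obtain ⟨M, hM⟩ := hnil w
  have h3 : ((0 + 1 : ℕ) : ℚ) • w + a * D w = 0 := by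
    rw [← hw, D.leibniz, ha] at hDz
    rw [← hDz]
    simp only [smul_eq_mul, mul_one]
    push_cast
    rw [one_smul]
  have hw0 : w = 0 := kerD_inter D a ha M 0 w hM h3
  apply hzne
  rw [← hw, hw0, zero_mul]

end

section
variable {A : Type u} [CommRing A] [Algebra ℚ A] (D : Derivation ℚ A A) (a : A)

/-- The Dixmier projection (truncated at `N`). -/
noncomputable def piN (N : ℕ) (x : A) : A :=
  ∑ n ∈ Finset.range N,
    (((-1 : ℚ) ^ n * (n.factorial : ℚ)⁻¹) • ((((D : A →ₗ[ℚ] A) ^ n) x) * a ^ n))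

variable (ha : D a = 1)

include ha in
theorem D_piN (N : ℕ) (x : A) :
    D (piN D a (N + 1) x) =
      ((-1 : ℚ) ^ N * (N.factorial : ℚ)⁻¹) • ((((D : A →ₗ[ℚ] A) ^ (N + 1)) x) * a ^ N) := by
  induction N with
  | zero => simp [piN]
  | succ N ih =>
    rw [piN, Finset.sum_range_succ, ← piN, map_add, ih, D.map_smul, D.leibniz, D.leibniz_pow, ha,
      ← pow_succ_apply']
    simp only [Nat.add_sub_cancel, smul_eq_mul, mul_one, Algebra.smul_def]
    have hqA : algebraMap ℚ A ((-1) ^ (N + 1) * ((N + 1).factorial : ℚ)⁻¹) * ((N + 1 : ℕ) : A)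
        = - algebraMap ℚ A ((-1) ^ N * (N.factorial : ℚ)⁻¹) := by
      rw [← map_natCast (algebraMap ℚ A), ← map_mul, ← map_neg]
      congr 1
      rw [Nat.factorial_succ]
      push_cast
      field_simp
      ring
    generalize algebraMap ℚ A ((-1) ^ (N + 1) * ((N + 1).factorial : ℚ)⁻¹) = c1 at hqA ⊢
    generalize algebraMap ℚ A ((-1) ^ N * (N.factorial : ℚ)⁻¹) = c0 at hqA ⊢
    linear_combination (((D : A →ₗ[ℚ] A) ^ (N + 1)) x * a ^ N) * hqA

include ha in
theorem D_piN_eq_zero {N : ℕ} {x : A} (h : ((D : A →ₗ[ℚ] A) ^ N) x = 0) :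
    D (piN D a N x) = 0 := by
  cases N with
  | zero => simp [piN]
  | succ N => rw [D_piN D a ha, h, zero_mul, smul_zero]

theorem mk_piN (N : ℕ) (x : A) :
    Ideal.Quotient.mk (Ideal.span ({a} : Set A)) (piN D a (N + 1) x)
      = Ideal.Quotient.mk (Ideal.span ({a} : Set A)) x := by
  rw [piN, Finset.sum_range_succ', map_add, map_sum, Finset.sum_eq_zero, zero_add]
  · simp
  · intro n _
    rw [Ideal.Quotient.eq_zero_iff_mem]
    exact Ideal.mem_span_singleton'.2
      ⟨((-1 : ℚ) ^ (n + 1) * ((n + 1).factorial : ℚ)⁻¹) • ((((D : A →ₗ[ℚ] A) ^ (n + 1)) x) * a ^ n),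
        by rw [smul_mul_assoc, mul_assoc, ← pow_succ]⟩

variable (hnil : ∀ x : A, ∃ n : ℕ, ((D : A →ₗ[ℚ] A) ^ n) x = 0)

include ha in
theorem E_piN {N : ℕ} {x : A} (h : ((D : A →ₗ[ℚ] A) ^ N) x = 0) :
    E D a hnil (piN D a N x) = C (Ideal.Quotient.mk (Ideal.span ({a} : Set A)) x) := by
  cases N with
  | zero =>
    have hx : x = 0 := by simpa using h
    subst hx
    simp [piN, E_zero]
  | succ N =>
    ext m
    rw [coeff_E, coeff_C]
    cases m with
    | zero => rw [cf_zero_left, mk_piN, if_pos rfl]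
    | succ m =>
      rw [cf, pow_succ_apply, D_piN_eq_zero D a ha h, map_zero, map_zero, smul_zero,
        if_neg (by omega)]

include ha in
theorem E_surjective : Function.Surjective (Ehom D a hnil) := by
  intro p
  induction p using Polynomial.induction_on with
  | C r =>
    obtain ⟨y, rfl⟩ := Ideal.Quotient.mk_surjective r
    obtain ⟨N, hN⟩ := hnil y
    exact ⟨piN D a N y, E_piN D a ha hnil hN⟩
  | add p q hp hq =>
    obtain ⟨y₁, h₁⟩ := hp
    obtain ⟨y₂, h₂⟩ := hq
    exact ⟨y₁ + y₂, by rw [map_add, h₁, h₂]⟩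
  | monomial n r h =>
    obtain ⟨y, hy⟩ := h
    refine ⟨y * a, ?_⟩
    rw [map_mul, hy, Ehom_apply D a hnil a, E_a D a hnil ha, pow_succ, mul_assoc]

end



/-- Let A be a commutative algebra over the rationals, D a locally nilpotent derivation of A and a an
element with D a = 1; write A' for the quotient of A by the ideal generated by a. Then there is a
ring isomorphism from A onto the polynomial ring A'[Y] which sends every x to the (finite) sum over
n of (1/n!) (class of D^n x) Y^n; its inverse sends Y to a and the constant polynomial on the class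
of x to the sum over n of ((-1)^n/n!) (D^n x) a^n, and under it D corresponds to the derivative
d/dY. (The source says only that A is a ring, in a setting over a field of characteristic zero; the
rational coefficients 1/n! require an algebra over the rationals, which is the hypothesis taken
here. Both sums are written over any range beyond which the iterates of D vanish at x.) -/
theorem result
    (A : Type u) [CommRing A] [Algebra ℚ A] (D : Derivation ℚ A A)
    (hnil : ∀ x : A, ∃ n : ℕ, ((D : A →ₗ[ℚ] A) ^ n) x = 0) (a : A) (ha : D a = 1) :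
    ∃ χ : A ≃+* Polynomial (A ⧸ Ideal.span ({a} : Set A)),
      (∀ (x : A) (N : ℕ), ((D : A →ₗ[ℚ] A) ^ N) x = 0 →
        χ x = ∑ n ∈ Finset.range N,
          ((n.factorial : ℚ)⁻¹ • Polynomial.C (Ideal.Quotient.mk (Ideal.span ({a} : Set A)) (((D : A →ₗ[ℚ] A) ^ n) x))) *
            Polynomial.X ^ n) ∧
      χ.symm Polynomial.X = a ∧
      (∀ (x : A) (N : ℕ), ((D : A →ₗ[ℚ] A) ^ N) x = 0 →
        χ.symm (Polynomial.C (Ideal.Quotient.mk (Ideal.span ({a} : Set A)) x)) =
          ∑ n ∈ Finset.range N, (((-1 : ℚ) ^ n * (n.factorial : ℚ)⁻¹) • ((((D : A →ₗ[ℚ] A) ^ n) x) * a ^ n))) ∧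
      ∀ p : Polynomial (A ⧸ Ideal.span ({a} : Set A)), χ (D (χ.symm p)) = Polynomial.derivative p := by
  classical
  let χ : A ≃+* Polynomial (A ⧸ Ideal.span ({a} : Set A)) :=
    RingEquiv.ofBijective (Ehom D a hnil) ⟨E_injective D a hnil ha, E_surjective D a ha hnil⟩
  have hχ : ∀ x : A, χ x = E D a hnil x := fun x => rfl
  refine ⟨χ, ?_, ?_, ?_, ?_⟩
  · intro x N hN
    rw [hχ, E_eq_sumN D a hnil hN]
    rfl
  · rw [RingEquiv.symm_apply_eq, hχ, E_a D a hnil ha]
  · intro x N hN
    rw [RingEquiv.symm_apply_eq, hχ]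
    exact (E_piN D a ha hnil hN).symm
  · intro p
    obtain ⟨y, rfl⟩ := χ.surjective p
    rw [RingEquiv.symm_apply_apply, hχ, hχ, derivative_E]

end Groth.Agent.S18974
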