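import Groth.Statements.S18975
import Groth.Agent.Lib.GeomQuotFpqc18
import Groth.Agent.Lib.FpqcFamilyDescent
import Groth.Agent.Lib.FpqcDescent

set_option autoImplicit false
set_option maxHeartbeats 400000
universe u
open CategoryTheory MonoidalCategory CartesianMonoidalCategory MonObj AlgebraicGeometry
open GIT

namespace Groth.Agent.S18975

open CategoryTheory.Limits

/-- For a "pseudo-torsor" square, the base change of `φ` along a morphism `f` which lifts to `X`
is a base change of `G ⟶ S`. -/
lemma prop_pullback_snd_of_section {S : Scheme.{u}} {G X Y : Over S} [GrpObj G]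
    (a : AlgGrp.Action G X) (φ : X ⟶ Y)
    (hsq : IsPullback a.act.left (snd G X).left φ.left φ.left)
    (P : MorphismProperty Scheme.{u}) [P.IsStableUnderBaseChange] (hG : P G.hom)
    {T : Scheme.{u}} (f : T ⟶ Y.left) (s : T ⟶ X.left) (hs : s ≫ φ.left = f) :
    P (pullback.snd φ.left f) := by
  subst hs
  have sqA : IsPullback (fst G X).left (snd G X).left G.hom X.hom :=
    IsPullback.of_hasPullback G.hom X.hom
  have h1 : P (snd G X).left := P.of_isPullback sqA hG
  have sqC : IsPullback (pullback.fst (snd G X).left s) (pullback.snd (snd G X).left s)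
      (snd G X).left s := IsPullback.of_hasPullback _ _
  have h2 : P (pullback.snd (snd G X).left s) := P.of_isPullback sqC h1
  have sq := sqC.paste_horiz hsq
  rw [← sq.isoPullback_hom_snd] at h2
  exact (P.cancel_left_of_respectsIso _ _).mp h2

/-- Over an algebraically closed field k of characteristic zero, let G be an affine group scheme of
finite type over k acting on a k-scheme X, and let φ : X → Y be a morphism of k-schemes which is a
G-torsor over Y: the square formed by the action G ×_k X → X, the second projection and φ (twice) is
cartesian, and φ acquires sections on the members of some fpqc covering family of Y. Then φ is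
affine and (Y, φ) is a geometric quotient: φ is invariant and surjective, G ×_k X → X ×_Y X is
surjective, φ is universally submersive, and over every open of Y the functions on Y are exactly the
invariant functions on its preimage. (The source defines a torsor by the existence of one fpqc
morphism to Y trivialising it and defines geometric quotients with φ affine and submersive;
universal submersiveness follows because every base change of a torsor is a torsor.) -/
theorem result
    (k : Type u) [Field k] [IsAlgClosed k] [CharZero k]
    (G X Y : Over (Spec (CommRingCat.of k))) [GrpObj G] [IsAffine G.left] [LocallyOfFiniteType G.hom]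
    (a : AlgGrp.Action G X) (φ : X ⟶ Y)
    (hcart : IsPullback a.act (snd G X) φ φ)
    (hloc : NonAbH1.IsLocallyTrivialFor Scheme.fpqcPrecoverage (Over.mk φ.left : Over Y.left)) :
    IsAffineHom φ.left ∧ GIT.IsGeomQuot a φ := by
  have hsq : IsPullback a.act.left (snd G X).left φ.left φ.left :=
    hcart.map (Over.forget _)
  have hinv : GIT.IsInvariant a φ := hcart.w
  obtain ⟨R, hR, hsec⟩ := hloc
  have hP : ∀ (P : MorphismProperty Scheme.{u}) [P.IsStableUnderBaseChange], P G.hom →
      ∀ ⦃T : Scheme.{u}⦄ (g : T ⟶ Y.left), R g → P (pullback.snd φ.left g) := by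
    intro P _ hG T g hg
    obtain ⟨s, hs⟩ := hsec g hg
    exact prop_pullback_snd_of_section a φ hsq P hG g s hs
  have hGaff : IsAffineHom G.hom := inferInstance
  have : Subsingleton ↥(Spec (CommRingCat.of k)) :=
    inferInstanceAs (Subsingleton (PrimeSpectrum k))
  have hGflat : Flat G.hom := inferInstance
  have haff : IsAffineHom φ.left :=
    Groth.Agent.Lib.FpqcFamilyDescent.of_mem_fpqcPrecoverage @IsAffineHom φ.left hR
      (hP @IsAffineHom hGaff)
  have hflat : Flat φ.left :=
    Groth.Agent.Lib.FpqcFamilyDescent.of_mem_fpqcPrecoverage @Flat φ.left hR (hP @Flat hGflat)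
  have hsurj : Surjective φ.left := by
    refine ⟨fun y => ?_⟩
    obtain ⟨T, g, hg, t, rfl⟩ : ∃ (T : Scheme.{u}) (g : T ⟶ Y.left), R g ∧ ∃ t : T, g t = y := by
      obtain ⟨𝒰, h𝒰, rfl⟩ := Scheme.mem_propQCPrecoverage_iff_exists_quasiCompactCover.mp hR
      obtain ⟨i, x, hx⟩ := 𝒰.exists_eq y
      exact ⟨_, 𝒰.f i, Presieve.ofArrows.mk i, x, hx⟩
    obtain ⟨s, hs⟩ := hsec g hg
    have hs' : s ≫ φ.left = g := hs
    exact ⟨s t, by rw [← Scheme.Hom.comp_apply, hs']⟩
  exact ⟨haff, Groth.Agent.Lib.GeomQuotFpqc18.isGeomQuot_of_fpqc a φ hinv hsq⟩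

end Groth.Agent.S18975
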