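import Groth.Statements.S18977
import Groth.Agent.S18975
import Groth.Agent.Lib.PtsPullback18

set_option autoImplicit false
set_option maxHeartbeats 400000
universe u
open CategoryTheory MonoidalCategory CartesianMonoidalCategory MonObj AlgebraicGeometry
open GIT

namespace Groth.Agent.S18977

open CategoryTheory.Limits

/-- An fpqc-locally trivial pseudo-torsor under an affine flat group is affine, flat and
surjective over its base. -/
lemma torsor_fpqc {S : Scheme.{u}} {G X Y : Over S} [GrpObj G]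
    (a : AlgGrp.Action G X) (φ : X ⟶ Y)
    (hsq : IsPullback a.act.left (snd G X).left φ.left φ.left)
    (hloc : NonAbH1.IsLocallyTrivialFor Scheme.fpqcPrecoverage (Over.mk φ.left : Over Y.left))
    (hGaff : IsAffineHom G.hom) (hGflat : Flat G.hom) :
    IsAffineHom φ.left ∧ Flat φ.left ∧ Surjective φ.left := by
  obtain ⟨R, hR, hsec⟩ := hloc
  have hP : ∀ (P : MorphismProperty Scheme.{u}) [P.IsStableUnderBaseChange], P G.hom →
      ∀ ⦃T : Scheme.{u}⦄ (g : T ⟶ Y.left), R g → P (pullback.snd φ.left g) := by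
    intro P _ hG T g hg
    obtain ⟨s, hs⟩ := hsec g hg
    exact Groth.Agent.S18975.prop_pullback_snd_of_section a φ hsq P hG g s hs
  refine ⟨Groth.Agent.Lib.FpqcFamilyDescent.of_mem_fpqcPrecoverage @IsAffineHom φ.left hR
      (hP @IsAffineHom hGaff),
    Groth.Agent.Lib.FpqcFamilyDescent.of_mem_fpqcPrecoverage @Flat φ.left hR (hP @Flat hGflat),
    ⟨fun y => ?_⟩⟩
  obtain ⟨T, g, hg, t, rfl⟩ : ∃ (T : Scheme.{u}) (g : T ⟶ Y.left), R g ∧ ∃ t : T, g t = y := by
    obtain ⟨𝒰, h𝒰, rfl⟩ := Scheme.mem_propQCPrecoverage_iff_exists_quasiCompactCover.mp hR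
    obtain ⟨i, x, hx⟩ := 𝒰.exists_eq y
    exact ⟨_, 𝒰.f i, Presieve.ofArrows.mk i, x, hx⟩
  obtain ⟨s, hs⟩ := hsec g hg
  have hs' : s ≫ φ.left = g := hs
  exact ⟨s t, by rw [← Scheme.Hom.comp_apply, hs']⟩

section pts

variable {S : Scheme.{u}} {G N Q X Y Z : Over S} [GrpObj G] [GrpObj N] [GrpObj Q]
    (iN : N ⟶ G) [IsMonHom iN] (q : G ⟶ Q) [IsMonHom q] (hker : AlgGrp.IsKernel iN q)
    (σ : Q ⟶ G) (hσ : σ ≫ q = 𝟙 Q)
    (a : AlgGrp.Action G X) (φ₁ : X ⟶ Y)
    (h₁ : IsPullback (a.restrict iN).act (snd N X) φ₁ φ₁)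
    (aY : AlgGrp.Action Q Y) (hequiv : (q ⊗ₘ φ₁) ≫ aY.act = a.act ≫ φ₁)
    (φ₂ : Y ⟶ Z) (h₂ : IsPullback aY.act (snd Q Y) φ₂ φ₂)

include hequiv in
omit [GrpObj N] [IsMonHom q] in
lemma equiv_pts {T : Over S} (g : T ⟶ G) (x : T ⟶ X) :
    lift (g ≫ q) (x ≫ φ₁) ≫ aY.act = (lift g x ≫ a.act) ≫ φ₁ := by
  have := congrArg (fun m => lift g x ≫ m) hequiv
  simp only [lift_map_assoc] at this
  rw [this, Category.assoc]

omit [GrpObj N] [IsMonHom q] in
lemma pt_eta {A B T : Over S} (p : T ⟶ A ⊗ B) : p = lift (p ≫ fst _ _) (p ≫ snd _ _) := by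
  apply CartesianMonoidalCategory.hom_ext <;> simp

omit [GrpObj G] [GrpObj N] [GrpObj Q] in
lemma exists_of_isPullback_act {A B C : Over S} {act : A ⊗ B ⟶ B} {f : B ⟶ C}
    (h : IsPullback act (snd A B) f f) {T : Over S} (y' y : T ⟶ B) (hy : y' ≫ f = y ≫ f) :
    ∃ t : T ⟶ A, lift t y ≫ act = y' := by
  refine ⟨h.lift _ _ hy ≫ fst _ _, ?_⟩
  have e1 := h.lift_fst _ _ hy
  have e2 := h.lift_snd _ _ hy
  have e3 : lift (h.lift _ _ hy ≫ fst _ _) y = h.lift _ _ hy := by
    apply CartesianMonoidalCategory.hom_ext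
    · simp
    · rw [lift_snd, e2]
  rw [e3, e1]

omit [GrpObj G] [GrpObj N] [GrpObj Q] in
lemma eq_of_isPullback_act {A B C : Over S} {act : A ⊗ B ⟶ B} {f : B ⟶ C}
    (h : IsPullback act (snd A B) f f) {T : Over S} (t t' : T ⟶ A) (y : T ⟶ B)
    (ht : lift t y ≫ act = lift t' y ≫ act) : t = t' := by
  have h3 : lift t y = lift t' y := by
    apply h.hom_ext
    · exact ht
    · simp
  have := congrArg (· ≫ fst _ _) h3
  simpa using this

include hker hσ h₁ hequiv h₂ in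
lemma isPullback_comp :
    IsPullback a.act (snd G X) (φ₁ ≫ φ₂) (φ₁ ≫ φ₂) := by
  have w : a.act ≫ φ₁ ≫ φ₂ = snd G X ≫ φ₁ ≫ φ₂ := by
    rw [← reassoc_of% hequiv, h₂.w, tensorHom_snd_assoc]
  refine Groth.Agent.Lib.PtsPullback18.isPullback_of_points w ?_ ?_
  · intro T x' x hx
    have hx2 : (x' ≫ φ₁) ≫ φ₂ = (x ≫ φ₁) ≫ φ₂ := by simpa using hx
    obtain ⟨qb, hqb⟩ := exists_of_isPullback_act h₂ _ _ hx2
    have e4 : x' ≫ φ₁ = (lift (qb ≫ σ) x ≫ a.act) ≫ φ₁ := by
      rw [← equiv_pts q a φ₁ aY hequiv, Category.assoc, hσ, Category.comp_id, hqb]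
    obtain ⟨n, hn⟩ := exists_of_isPullback_act h₁ _ _ e4
    rw [AlgGrp.Action.lift_restrict_act] at hn
    refine ⟨lift ((n ≫ iN) * (qb ≫ σ)) x, ?_, lift_snd _ _⟩
    rw [AlgGrp.Action.lift_mul_act, hn]
  · intro T p₁ p₂ hp1 hp2
    rw [pt_eta p₁, pt_eta p₂, hp2] at hp1 ⊢
    congr 1
    -- images in Q agree
    have k1 : (p₁ ≫ fst _ _) ≫ q = (p₂ ≫ fst _ _) ≫ q := by
      apply eq_of_isPullback_act h₂ _ _ ((p₂ ≫ snd _ _) ≫ φ₁)
      rw [equiv_pts q a φ₁ aY hequiv, equiv_pts q a φ₁ aY hequiv, hp1]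
    -- difference lies in N
    have k2 : ((p₂ ≫ fst _ _) * (p₁ ≫ fst _ _)⁻¹) ≫ q = toUnit _ ≫ η[Q] := by
      rw [MonObj.mul_comp, GrpObj.inv_comp, k1, mul_inv_cancel, Hom.one_def]
    obtain ⟨n, hn⟩ : ∃ n : T ⟶ N, n ≫ iN = (p₂ ≫ fst _ _) * (p₁ ≫ fst _ _)⁻¹ :=
      ⟨hker.lift _ _ k2, hker.lift_fst _ _ k2⟩
    have k3 : p₂ ≫ fst _ _ = (n ≫ iN) * (p₁ ≫ fst _ _) := by
      rw [hn, inv_mul_cancel_right]
    have k5 : n = 1 := by
      apply eq_of_isPullback_act h₁ _ _ (lift (p₁ ≫ fst _ _) (p₂ ≫ snd _ _) ≫ a.act)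
      rw [AlgGrp.Action.lift_restrict_act, AlgGrp.Action.lift_restrict_act,
        ← AlgGrp.Action.lift_mul_act, ← k3, ← hp1, MonObj.one_comp,
        AlgGrp.Action.lift_one_act]
    rw [k3, k5, MonObj.one_comp, _root_.one_mul]

end pts

/-- Composition of torsors. Over an algebraically closed field k of characteristic zero, let G be an
affine group scheme of finite type over k, N a closed normal subgroup scheme which is the kernel of
a homomorphism q : G → Q, and H a closed subgroup scheme of G which q maps isomorphically onto Q (so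
G is the inner semidirect product N H). Let G act on a k-scheme X and let φ₁ : X → Y be a torsor
over Y under the restricted action of N (the square formed by the N-action, the second projection
and φ₁ twice is cartesian, and φ₁ acquires sections on the members of some fpqc covering family of
Y); let Q act on Y so that φ₁ is equivariant along q, and let φ₂ : Y → Z be a Q-torsor over Z in the
same sense. Then φ₂ ∘ φ₁ is a G-torsor over Z: the square formed by the G-action, the second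
projection and φ₂ ∘ φ₁ twice is cartesian, and φ₂ ∘ φ₁ acquires sections fpqc-locally on Z. (The
induced action of the factor group on Y is taken as a datum together with the equivariance of φ₁;
the source's second assertion, that the composite of trivial torsors is trivial, amounts to
composing sections and is not restated.) -/
theorem result
    (k : Type u) [Field k] [IsAlgClosed k] [CharZero k]
    (G N Q H X Y Z : Over (Spec (CommRingCat.of k))) [GrpObj G] [GrpObj N] [GrpObj Q] [GrpObj H]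
    [IsAffine G.left] [LocallyOfFiniteType G.hom]
    (iN : N ⟶ G) [IsMonHom iN] [IsClosedImmersion iN.left] (hnorm : AlgGrp.IsNormalHom iN)
    (q : G ⟶ Q) [IsMonHom q] (hker : AlgGrp.IsKernel iN q)
    (iH : H ⟶ G) [IsMonHom iH] [IsClosedImmersion iH.left] [IsIso (iH ≫ q)]
    (a : AlgGrp.Action G X) (φ₁ : X ⟶ Y)
    (h₁ : IsPullback (a.restrict iN).act (snd N X) φ₁ φ₁)
    (h₁loc : NonAbH1.IsLocallyTrivialFor Scheme.fpqcPrecoverage (Over.mk φ₁.left : Over Y.left))
    (aY : AlgGrp.Action Q Y) (hequiv : (q ⊗ₘ φ₁) ≫ aY.act = a.act ≫ φ₁)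
    (φ₂ : Y ⟶ Z) (h₂ : IsPullback aY.act (snd Q Y) φ₂ φ₂)
    (h₂loc : NonAbH1.IsLocallyTrivialFor Scheme.fpqcPrecoverage (Over.mk φ₂.left : Over Z.left)) :
    IsPullback a.act (snd G X) (φ₁ ≫ φ₂) (φ₁ ≫ φ₂) ∧
      NonAbH1.IsLocallyTrivialFor Scheme.fpqcPrecoverage (Over.mk (φ₁ ≫ φ₂).left : Over Z.left) := by
  have hσ : (inv (iH ≫ q) ≫ iH) ≫ q = 𝟙 Q := by rw [Category.assoc, IsIso.inv_hom_id]
  refine ⟨isPullback_comp iN q hker (inv (iH ≫ q) ≫ iH) hσ a φ₁ h₁ aY hequiv φ₂ h₂, ?_⟩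
  have : Subsingleton ↥(Spec (CommRingCat.of k)) :=
    inferInstanceAs (Subsingleton (PrimeSpectrum k))
  have hNaff : IsAffine N.left := isAffine_of_isAffineHom iN.left
  have hHaff : IsAffine H.left := isAffine_of_isAffineHom iH.left
  have hQaff : IsAffine Q.left := by
    have : IsIso (iH ≫ q).left := inferInstanceAs (IsIso ((Over.forget _).map (iH ≫ q)))
    exact IsAffine.of_isIso (inv (iH ≫ q).left)
  obtain ⟨a1, f1, s1⟩ := torsor_fpqc (a.restrict iN) φ₁ (h₁.map (Over.forget _)) h₁loc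
    inferInstance inferInstance
  obtain ⟨a2, f2, s2⟩ := torsor_fpqc aY φ₂ (h₂.map (Over.forget _)) h₂loc
    inferInstance inferInstance
  have hf : Flat (φ₁ ≫ φ₂).left := by rw [Over.comp_left]; infer_instance
  have hs : Surjective (φ₁ ≫ φ₂).left := by rw [Over.comp_left]; infer_instance
  have hq : QuasiCompact (φ₁ ≫ φ₂).left := by rw [Over.comp_left]; infer_instance
  refine ⟨Presieve.singleton (φ₁ ≫ φ₂).left, Scheme.Hom.singleton_mem_fpqcPrecoverage _, ?_⟩
  rintro S' f ⟨⟩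
  exact ⟨𝟙 _, Category.id_comp _⟩

end Groth.Agent.S18977
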