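import Groth.Statements.S18978
import Groth.Agent.Lib.StabFinite45b
import Groth.Agent.S18977
import Groth.Agent.Lib.GeomQuotFpqc18

set_option autoImplicit false
universe u
open CategoryTheory MonoidalCategory CartesianMonoidalCategory MonObj AlgebraicGeometry
open GIT

namespace Groth.Agent.S18978

/-- Over an algebraically closed field k of characteristic zero, let G be an affine group scheme of
finite type over k with a closed normal subgroup scheme N, the kernel of a surjective homomorphism q
: G → H onto an affine group scheme H of finite type over k (the factor group G/N). Let G act on a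
separated k-scheme X of finite type, let φ : X → Y be a torsor over Y under the restricted action of
N (cartesian action square, sections on the members of some fpqc covering family of Y), and let H
act on Y so that φ is equivariant along q. Then for every geometric point x of X (a point with
values in an algebraically closed field Ω) with image y in Y: the G-orbit of x is closed in X_Ω and
the stabiliser of x in G is finite if and only if the H-orbit of y is closed in Y_Ω and the
stabiliser of y in H is finite. (The induced action of the factor group on Y is taken as a datum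
together with the equivariance of φ; the points of the published statement are rendered as geometric
points.) -/
theorem result
    (k : Type u) [Field k] [IsAlgClosed k] [CharZero k]
    (G N H X Y : Over (Spec (CommRingCat.of k))) [GrpObj G] [GrpObj N] [GrpObj H]
    [IsAffine G.left] [LocallyOfFiniteType G.hom]
    (iN : N ⟶ G) [IsMonHom iN] [IsClosedImmersion iN.left] (hnorm : AlgGrp.IsNormalHom iN)
    (q : G ⟶ H) [IsMonHom q] [Surjective q.left] [IsAffine H.left] [LocallyOfFiniteType H.hom]
    (hker : AlgGrp.IsKernel iN q)
    [LocallyOfFiniteType X.hom] [QuasiCompact X.hom] [IsSeparated X.hom]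
    (a : AlgGrp.Action G X) (φ : X ⟶ Y)
    (hcart : IsPullback (a.restrict iN).act (snd N X) φ φ)
    (hloc : NonAbH1.IsLocallyTrivialFor Scheme.fpqcPrecoverage (Over.mk φ.left : Over Y.left))
    (aY : AlgGrp.Action H Y) (hequiv : (q ⊗ₘ φ) ≫ aY.act = a.act ≫ φ)
    (Ω : Type u) [Field Ω] [IsAlgClosed Ω] (P : Over (Spec (CommRingCat.of k)))
    (e : P.left ≅ Spec (CommRingCat.of Ω)) (x : P ⟶ X) :
    (IsClosed (Set.range (GIT.psi a x).left.base) ∧ IsFinite (GLinSh.stabTo a x)) ↔
      (IsClosed (Set.range (GIT.psi aY (x ≫ φ)).left.base) ∧ IsFinite (GLinSh.stabTo aY (x ≫ φ))) := by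
  have hcartL : IsPullback (a.restrict iN).act.left (snd N X).left φ.left φ.left :=
    Functor.map_isPullback (Over.forget _) hcart
  have hinv : GIT.IsInvariant (a.restrict iN) φ := hcart.w
  have horb : Function.Surjective (GIT.PsiY (a.restrict iN) φ hinv).base := by
    have h : GIT.PsiY (a.restrict iN) φ hinv = hcartL.isoPullback.hom := by
      apply Limits.pullback.hom_ext
      · rw [IsPullback.isoPullback_hom_fst]; exact Limits.pullback.lift_fst _ _ _
      · rw [IsPullback.isoPullback_hom_snd]; exact Limits.pullback.lift_snd _ _ _
    rw [h]
    exact (hcartL.isoPullback.hom).surjective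
  -- `N` is affine and flat over `k`
  have hNaff : IsAffineHom N.hom := by
    have h1 : IsAffineHom iN.left := inferInstance
    have h2 : IsAffineHom G.hom := inferInstance
    rw [← Over.w iN]; infer_instance
  have hNflat : Flat N.hom := inferInstance
  obtain ⟨hφaff, hφflat, hφsurj⟩ :=
    Groth.Agent.S18977.torsor_fpqc (a.restrict iN) φ hcartL hloc hNaff hNflat
  have hφqc : QuasiCompact φ.left := inferInstance
  have hsub : GIT.IsUnivSubmersive φ.left :=
    Groth.Agent.Lib.GeomQuotFpqc18.isUnivSubmersive_of_fpqc φ.left
  -- orbits
  have hK := Groth.Agent.Lib.QuotBC45.range_psi_eq_preimage iN q a (a.restrict iN) aY φ rfl hinv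
    horb hequiv x
  have hquot : Topology.IsQuotientMap (φ ▷ P).left :=
    hsub (fst X P).left (fst Y P).left (φ ▷ P).left
      (Groth.Agent.Lib.SchDomProd45.isPullback_whiskerRight_fst P φ)
  have horbit : IsClosed (Set.range (GIT.psi a x).left.base) ↔
      IsClosed (Set.range (GIT.psi aY (x ≫ φ)).left.base) := by
    rw [hK, hquot.isClosed_preimage]
  -- stabilisers
  have hstab : IsFinite (GLinSh.stabTo a x) ↔ IsFinite (GLinSh.stabTo aY (x ≫ φ)) := by
    rw [Groth.Agent.Lib.StabFinite45.isFinite_stabTo_iff' a x e,
      Groth.Agent.Lib.StabFinite45.isFinite_stabTo_iff' aY (x ≫ φ) e]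
    constructor
    · intro hG
      exact (hG.image _).subset (Groth.Agent.Lib.StabFinite45.stabSet_subset_image iN q a
        (a.restrict iN) aY φ rfl hinv horb hequiv hker.w x)
    · intro hH
      exact Groth.Agent.Lib.StabFinite45.finite_stabSet_of_quotient e iN q hker a (a.restrict iN)
        rfl aY φ hequiv x hH
        (fun x' => Groth.Agent.Lib.StabFinite45.stabSet_finite_of_isPullback (a.restrict iN) x' e
          hcart)
  rw [horbit, hstab]

end Groth.Agent.S18978
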