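import Groth.Statements.S18980
-- import your own Groth.Agent.* helpers here

set_option autoImplicit false
universe u
open CategoryTheory MonoidalCategory CartesianMonoidalCategory MonObj AlgebraicGeometry Topology
open NRQuot

namespace Groth.Agent.S18980

/-- Over an algebraically closed field k of characteristic zero, let G be an affine group scheme of
finite type over k acting on a k-scheme X and let φ : X → Y be a good quotient: φ is affine and
invariant, over every open of Y the functions on Y are exactly the invariant functions on the
preimage, invariant closed subsets of X have closed images, and the image of the intersection of any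
family of invariant closed subsets is the intersection of the images. Then φ is submersive: a subset
of Y is open exactly when its preimage is, and φ is surjective (the underlying map is a topological
quotient map). -/
theorem result
    (k : Type u) [Field k] [IsAlgClosed k] [CharZero k]
    (G X Y : Over (Spec (CommRingCat.of k))) [GrpObj G] [IsAffine G.left] [LocallyOfFiniteType G.hom]
    (a : AlgGrp.Action G X) (φ : X ⟶ Y) (h : NRQuot.IsGoodQuot a φ) :
    IsQuotientMap φ.left.base := by
  have hsurj : Function.Surjective φ.left.base := by
    have h1 := h.inter PEmpty (fun i => i.elim) (fun i => i.elim) (fun i => i.elim)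
    simp only [Set.iInter_of_empty, Set.image_univ] at h1
    exact Set.range_eq_univ.1 h1
  rw [isQuotientMap_iff_isClosed]
  refine ⟨hsurj, fun Z => ⟨fun hZ => hZ.preimage φ.left.base.hom.continuous, fun hZ => ?_⟩⟩
  have hinv : NRQuot.IsInvariantSet a (φ.left.base ⁻¹' Z) := by
    intro p hp
    have h2 := h.inv.left
    have h3 : (a.act.left ≫ φ.left).base p = ((snd G X).left ≫ φ.left).base p := by rw [h2]
    simp only [Scheme.Hom.comp_base, TopCat.comp_app] at h3
    show φ.left.base (a.act.left.base p) ∈ Z
    rw [h3]
    exact hp
  have h4 := h.closed _ hZ hinv
  rwa [Set.image_preimage_eq Z hsurj] at h4

end Groth.Agent.S18980
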