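import Groth.Statements.S18981
import Groth.Agent.Lib.OrbitMeet45

set_option autoImplicit false
universe u
open CategoryTheory MonoidalCategory CartesianMonoidalCategory MonObj AlgebraicGeometry Topology
open NRQuot

namespace Groth.Agent.S18981

/-- Over an algebraically closed field k of characteristic zero, let G be an affine group scheme of
finite type over k acting on a k-scheme X locally of finite type, and let φ : X → Y be a good
quotient (affine and invariant, functions on every open of Y are exactly the invariant functions on
its preimage, invariant closed subsets have closed images, images commute with intersections of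
families of invariant closed subsets). If the orbit of every k-point of X is closed in X, then φ is
a geometric quotient; this row states the one clause that a good quotient lacks: fibres are orbits,
read on k-points — two k-points of X with the same image in Y are translates of each other by a
k-point of G. (Surjectivity and submersiveness of a good quotient are the content of the companion
statement on good quotients; X locally of finite type is what the argument on closed points uses.) -/
theorem result
    (k : Type u) [Field k] [IsAlgClosed k] [CharZero k]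
    (G X Y : Over (Spec (CommRingCat.of k))) [GrpObj G] [IsAffine G.left] [LocallyOfFiniteType G.hom]
    [LocallyOfFiniteType X.hom]
    (a : AlgGrp.Action G X) (φ : X ⟶ Y) (h : NRQuot.IsGoodQuot a φ)
    (hcl : ∀ x : 𝟙_ (Over (Spec (CommRingCat.of k))) ⟶ X, IsClosed (Set.range (a.orbitMap x).left.base))
    (x₁ x₂ : 𝟙_ (Over (Spec (CommRingCat.of k))) ⟶ X) (hφ : x₁ ≫ φ = x₂ ≫ φ) :
    ∃ g : 𝟙_ (Over (Spec (CommRingCat.of k))) ⟶ G, lift g x₁ ≫ a.act = x₂ := by
  classical
  let pt : (𝟙_ (Over (Spec (CommRingCat.of k)))).left := IsLocalRing.closedPoint k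
  let O : ULift.{u} Bool → Set ↥X.left := fun j =>
    if j.down then Groth.Agent.Lib.OrbitStable45.orbit a x₁
    else Groth.Agent.Lib.OrbitStable45.orbit a x₂
  have hOcl : ∀ j, IsClosed (O j) := by
    intro j
    by_cases hj : j.down
    · simp only [O, hj, if_true]; exact hcl x₁
    · simp only [O, hj]; exact hcl x₂
  have hOinv : ∀ j, NRQuot.IsInvariantSet a (O j) := by
    intro j p hp
    by_cases hj : j.down
    · simp only [O, hj, if_true] at hp ⊢
      exact (Groth.Agent.Lib.OrbitStable45.isStable_orbit a x₁).act_mem hp
    · simp only [O, hj] at hp ⊢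
      exact (Groth.Agent.Lib.OrbitStable45.isStable_orbit a x₂).act_mem hp
  have hint := h.inter (ULift.{u} Bool) O hOcl hOinv
  have hmem : ∀ x : 𝟙_ (Over (Spec (CommRingCat.of k))) ⟶ X,
      x.left pt ∈ Groth.Agent.Lib.OrbitStable45.orbit a x := by
    intro x
    refine ⟨η[G].left pt, ?_⟩
    rw [← Scheme.Hom.comp_apply, ← Over.comp_left, Groth.Agent.Lib.GrpAction.comp_orbitMap,
      toUnit_unique (toUnit (𝟙_ (Over (Spec (CommRingCat.of k))))) (𝟙 _), Category.id_comp]
    have : (η[G] : 𝟙_ (Over (Spec (CommRingCat.of k))) ⟶ G) = 1 := by
      rw [Hom.one_def, toUnit_unique (toUnit (𝟙_ (Over (Spec (CommRingCat.of k))))) (𝟙 _),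
        Category.id_comp]
    rw [this, Groth.Agent.Lib.GrpAction.one_act]
  have hy : φ.left (x₁.left pt) ∈ ⋂ j, φ.left.base '' (O j) := by
    rw [Set.mem_iInter]
    intro j
    by_cases hj : j.down
    · simp only [O, hj, if_true]
      exact ⟨x₁.left pt, hmem x₁, rfl⟩
    · simp only [O, hj]
      refine ⟨x₂.left pt, hmem x₂, ?_⟩
      change (x₂ ≫ φ).left pt = (x₁ ≫ φ).left pt
      rw [hφ]
  rw [← hint] at hy
  obtain ⟨z, hz, -⟩ := hy
  rw [Set.mem_iInter] at hz
  have hz1 : z ∈ Groth.Agent.Lib.OrbitStable45.orbit a x₁ := by
    have := hz ⟨true⟩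
    simpa [O] using this
  have hz2 : z ∈ Groth.Agent.Lib.OrbitStable45.orbit a x₂ := by
    have := hz ⟨false⟩
    simpa [O] using this
  exact Groth.Agent.Lib.OrbitMeet45.exists_translate_of_orbits_meet a x₁ x₂ ⟨z, hz1, hz2⟩

end Groth.Agent.S18981
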