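import Groth.Statements.S18988
import Groth.Agent.Lib.LieInv38

set_option autoImplicit false
universe u
open TensorProduct
open HopfRep

namespace Groth.Agent.S18988

/-- In Hopf-algebra form, over an algebraically closed field k of characteristic zero, let A be a
finitely generated commutative Hopf algebra which is unipotent in the fixed-vector sense (the
coordinate ring of a unipotent group U), coacting multiplicatively on a finitely generated
commutative k-algebra R. Then a k-subspace V of R is a subcomodule (is invariant under U) if and
only if it is stable under the infinitesimal action of every ε-derivation ξ : A → k: for every v in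
V, applying ξ to the A-factor of the coaction of v gives an element of the image of V ⊗ k in R ⊗ k. -/
theorem result
    (k : Type u) [Field k] [IsAlgClosed k] [CharZero k]
    (A : Type u) [CommRing A] [HopfAlgebra k A] [Algebra.FiniteType k A] (hU : HopfRep.IsUnipotent k A)
    (R : Type u) [CommRing R] [Algebra k R] [Algebra.FiniteType k R]
    [HopfRep.Comod k A R] [GLin.IsCoactAlg k A R] (V : Submodule k R) :
    HopfRep.IsSubcomod (k := k) (A := A) V ↔
      ∀ (ξ : LieHopf.Lie k A) (v : R), v ∈ V →
        LinearMap.lTensor R (ξ.toLinearMap.restrictScalars k) (HopfRep.Comod.coact (k := k) (A := A) v) ∈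
          LinearMap.range (LinearMap.rTensor (LieHopf.K k A) V.subtype) := by
  have hAn : IsNoetherianRing A := Algebra.FiniteType.isNoetherianRing k A
  obtain ⟨r, c, -⟩ := Groth.Agent.Lib.Cartier38.exists_coords (k := k) (A := A)
  have hK := Groth.Agent.Lib.LieInv38.iInf_pow_augI_eq_bot_of_isUnipotent hU
  constructor
  · intro hV ξ v hv
    obtain ⟨y, hy⟩ := hV v hv
    rw [← hy]
    refine ⟨LinearMap.lTensor V (ξ.toLinearMap.restrictScalars k) y, ?_⟩
    rw [← LinearMap.comp_apply, ← LinearMap.comp_apply, LinearMap.rTensor_comp_lTensor,
      LinearMap.lTensor_comp_rTensor]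
  · intro h
    apply Groth.Agent.Lib.LieInv38.isSubcomod_of_lie_stable c hK
    intro i w hw
    obtain ⟨z, hz⟩ := h (Groth.Agent.Lib.LieInv38.toLie (c.d i) (c.isEpsDer i)) w hw
    rw [Groth.Agent.Lib.Comod.act_apply,
      ← Groth.Agent.Lib.LieInv38.lieContr_toLie R (c.d i) (c.isEpsDer i),
      Groth.Agent.Lib.LieInv38.lieContr_apply, ← hz, Groth.Agent.Lib.LieInv38.ridK_rTensor]
    exact (Groth.Agent.Lib.LieInv38.ridK V z).2

end Groth.Agent.S18988
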