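import Groth.Statements.S1899
import Groth.Agent.Lib.PushStalk
import Groth.Agent.Lib.StructureModuleStalk
import Mathlib.RingTheory.Length
import Mathlib.AlgebraicGeometry.Morphisms.ClosedImmersion
-- import your own Groth.Agent.* helpers here

set_option autoImplicit false
universe u
open CategoryTheory AlgebraicGeometry
open Cyc

namespace Groth.Agent.S1899

open Groth.Agent.Lib.PushStalk Groth.Agent.Lib.StructureModuleStalk

/-- Length is preserved by a semilinear bijection over a surjective ring homomorphism. -/
theorem length_eq_of_semilinear {R S : Type*} [CommRing R] [CommRing S] {N N' : Type*}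
    [AddCommGroup N] [Module R N] [AddCommGroup N'] [Module S N'] (σ : R →+* S)
    (hσ : Function.Surjective σ) (e : N →+ N') (he : Function.Bijective e)
    (hsmul : ∀ (r : R) (n : N), e (r • n) = σ r • e n) :
    Module.length R N = Module.length S N' := by
  letI : Algebra R S := σ.toAlgebra
  letI : Module R N' := Module.compHom N' σ
  haveI : IsScalarTower R S N' := IsScalarTower.of_algebraMap_smul fun _ _ => rfl
  let e' : N ≃ₗ[R] N' :=
    { AddEquiv.ofBijective e he with
      map_smul' := fun r n => hsmul r n }
  rw [e'.length_eq]
  exact Module.length_eq_of_surjective hσ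

/-- For a closed immersion i : Z → X with Z of δ-dimension ≤ k, [Z]_k = [O_Z]_k, i.e. the multiplicities
computed from lengths of the local rings O_{Z,z} agree with those computed from the stalks of i_*O_Z
as O_X-modules. A pair (X, δ) with Cyc.IsSetup plays the role of a scheme locally of finite type
over a fixed base with a dimension function (X locally Noetherian with universally catenary local
rings, δ a dimension function), and Cyc.DeltaCompat records that the dimension function upstairs is
the induced one. -/
theorem result (X Z : Scheme.{u}) (δ : X → ℤ) (hX : Cyc.IsSetup X δ) (i : Z ⟶ X) [IsClosedImmersion i] (k : ℤ) (hdim : ∀ z : Z, δ (i z) ≤ k) : Cyc.subschemeFun δ k i = Cyc.sheafFun δ k ((Coh.push i).obj (Coh.structureModule Z)) := by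
  funext x
  simp only [Cyc.subschemeFun, Cyc.sheafFun]
  split_ifs with hδ
  swap
  · rfl
  by_cases hx : x ∈ Set.range i
  · obtain ⟨z, rfl⟩ := hx
    have hinj : Function.Injective i := i.isClosedEmbedding.injective
    have hset : {z' : Z | i z' = i z} = {z} := by
      ext z'
      simp only [Set.mem_ofPred_eq, Set.mem_singleton_iff]
      exact ⟨fun h => hinj h, fun h => h ▸ rfl⟩
    rw [hset, finsum_mem_singleton]
    congr 2
    have h1 : Module.length (X.presheaf.stalk (i z))
        (((Coh.push i).obj (Coh.structureModule Z)).presheaf.stalk (i z)) =
        Module.length (Z.presheaf.stalk z) ((Coh.structureModule Z).presheaf.stalk z) :=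
      length_eq_of_semilinear (i.stalkMap z).hom (i.stalkMap_surjective z)
        (pushStalkHom i (Coh.structureModule Z) z)
        (pushStalkHom_bijective i _ i.isClosedEmbedding.isInducing z)
        (pushStalkHom_smul i _ z)
    rw [h1]
    exact (stalkEquiv z).length_eq
  · have hset : {z' : Z | i z' = x} = ∅ := by
      ext z'
      simp only [Set.mem_ofPred_eq, Set.mem_empty_iff_false, iff_false]
      exact fun h => hx ⟨z', h⟩
    rw [hset, finsum_mem_empty]
    have hx' : x ∉ closure (Set.range i) := by
      rw [i.isClosedEmbedding.isClosed_range.closure_eq]
      exact hx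
    haveI := subsingleton_stalk_push_of_notMem_closure_range i (Coh.structureModule Z) x hx'
    have : Module.length (X.presheaf.stalk x)
        (((Coh.push i).obj (Coh.structureModule Z)).presheaf.stalk x) = 0 :=
      Module.length_eq_zero
    rw [this]
    rfl

end Groth.Agent.S1899
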