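import Groth.Statements.S18994
import Mathlib
-- import your own Groth.Agent.* helpers here

set_option autoImplicit false
universe u
open TernForm

namespace Groth.Agent.S18994

theorem single_of_degree_two {j : Fin 3} (a : Fin 3 →₀ ℕ) (ha : a.degree = 2) (haj : 2 ≤ a j) :
    a = Finsupp.single j 2 := by
  rw [Finsupp.degree_eq_sum] at ha
  ext i
  have hsum : ∑ i, a i = a 0 + a 1 + a 2 := Fin.sum_univ_three _
  rw [hsum] at ha
  by_cases hij : i = j
  · subst hij
    rw [Finsupp.single_eq_same]
    fin_cases i <;> simp at haj ⊢ <;> omega
  · rw [Finsupp.single_eq_of_ne hij]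
    fin_cases i <;> fin_cases j <;> simp at haj hij ⊢ <;> omega

/-- the leading-exponent argument: a multiple of `q` with small `X_j`-exponents vanishes -/
theorem lemmaZ {R : Type u} [CommRing R] (j : Fin 3) (q : MvPolynomial (Fin 3) R)
    (hq : q.IsHomogeneous 2) (hqj : IsUnit (q.coeff (Finsupp.single j 2)))
    (G : MvPolynomial (Fin 3) R) (h : ∀ m ∈ (q * G).support, m j < 2) : G = 0 := by
  by_contra hG
  -- pick a monomial of `G` with maximal `j`-exponent
  have hne : G.support.Nonempty := by
    rwa [Finset.nonempty_iff_ne_empty, Ne, MvPolynomial.support_eq_empty]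
  obtain ⟨m, hm, hmax⟩ := Finset.exists_max_image G.support (fun b => b j) hne
  have hcoeff : (q * G).coeff (Finsupp.single j 2 + m) = q.coeff (Finsupp.single j 2) * G.coeff m := by
    rw [MvPolynomial.coeff_mul]
    apply Finset.sum_eq_single (Finsupp.single j 2, m)
    · rintro ⟨a, b⟩ hab hne'
      rw [Finset.HasAntidiagonal.mem_antidiagonal] at hab
      simp only at hab
      by_contra hprod
      have ha : q.coeff a ≠ 0 := fun h0 => hprod (by rw [h0, zero_mul])
      have hb : G.coeff b ≠ 0 := fun h0 => hprod (by rw [h0, mul_zero])
      have hb' : b ∈ G.support := MvPolynomial.mem_support_iff.mpr hb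
      have hadeg : a.degree = 2 := by
        by_contra hd
        exact ha (hq.coeff_eq_zero hd)
      have hbj : b j ≤ m j := hmax b hb'
      have hj : a j + b j = 2 + m j := by
        have := congrArg (fun f => f j) hab
        simpa using this
      have ha2 : a = Finsupp.single j 2 := single_of_degree_two a hadeg (by omega)
      have hb2 : b = m := by
        rw [ha2] at hab
        exact add_left_cancel hab
      exact hne' (by rw [ha2, hb2])
    · intro h'
      exfalso; apply h'
      simp
  have hmne : G.coeff m ≠ 0 := MvPolynomial.mem_support_iff.mp hm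
  have hne0 : (q * G).coeff (Finsupp.single j 2 + m) ≠ 0 := by
    rw [hcoeff]
    intro h0
    exact hmne (hqj.mul_right_eq_zero.mp h0)
  have := h _ (MvPolynomial.mem_support_iff.mpr hne0)
  simp at this
  omega

theorem mono_mem_span {R : Type u} [CommRing R] (j : Fin 3) (q : MvPolynomial (Fin 3) R)
    (hq : q.IsHomogeneous 2) (hqj : IsUnit (q.coeff (Finsupp.single j 2))) (n : ℕ)
    (S : Submodule R (MvPolynomial (Fin 3) R))
    (h1 : ∀ m : Fin 3 →₀ ℕ, m.degree = n → m j < 2 → MvPolynomial.monomial m (1 : R) ∈ S)
    (h2 : ∀ m : Fin 3 →₀ ℕ, m.degree + 2 = n → q * MvPolynomial.monomial m (1 : R) ∈ S) :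
    ∀ t : ℕ, ∀ m : Fin 3 →₀ ℕ, m.degree = n → m j = t → MvPolynomial.monomial m (1 : R) ∈ S := by
  intro t
  induction t using Nat.strong_induction_on with
  | _ t ih =>
    intro m hm hmj
    by_cases ht : t < 2
    · exact h1 m hm (hmj ▸ ht)
    rcases subsingleton_or_nontrivial R with hR | hR
    · have : MvPolynomial.monomial m (1 : R) = 0 := Subsingleton.elim _ _
      rw [this]; exact Submodule.zero_mem _
    push Not at ht
    set m' : Fin 3 →₀ ℕ := m - Finsupp.single j 2 with hm'
    have hmm' : m = Finsupp.single j 2 + m' := by
      ext i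
      simp only [hm', Finsupp.coe_add, Finsupp.coe_tsub, Pi.add_apply, Pi.sub_apply]
      by_cases hij : i = j
      · subst hij; rw [Finsupp.single_eq_same]; omega
      · rw [Finsupp.single_eq_of_ne hij]; omega
    have hdeg' : m'.degree + 2 = n := by
      have := congrArg Finsupp.degree hmm'
      rw [map_add, Finsupp.degree_single, hm] at this
      omega
    have hm'j : m' j + 2 = t := by
      have := congrArg (fun f => f j) hmm'
      simp only [Finsupp.coe_add, Pi.add_apply, Finsupp.single_eq_same] at this
      omega
    set u := q.coeff (Finsupp.single j 2) with hu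
    have hu0 : u ≠ 0 := hqj.ne_zero
    have hmem : Finsupp.single j 2 ∈ q.support := MvPolynomial.mem_support_iff.mpr hu0
    have hqsum : q * MvPolynomial.monomial m' (1 : R)
        = ∑ a ∈ q.support, MvPolynomial.monomial (a + m') (q.coeff a) := by
      conv_lhs => rw [← MvPolynomial.support_sum_monomial_coeff q]
      rw [Finset.sum_mul]
      apply Finset.sum_congr rfl
      intro a _
      rw [MvPolynomial.monomial_mul, mul_one]
    rw [← Finset.add_sum_erase _ _ hmem, ← hmm'] at hqsum
    have hrest : ∑ a ∈ q.support.erase (Finsupp.single j 2),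
        MvPolynomial.monomial (a + m') (q.coeff a) ∈ S := by
      apply Submodule.sum_mem
      intro a ha
      have ha1 : a ≠ Finsupp.single j 2 := Finset.ne_of_mem_erase ha
      have ha2 : a ∈ q.support := Finset.mem_of_mem_erase ha
      have hadeg : a.degree = 2 := by
        by_contra hd
        exact (MvPolynomial.mem_support_iff.mp ha2) (hq.coeff_eq_zero hd)
      have haj : a j < 2 := by
        by_contra hge
        push Not at hge
        exact ha1 (single_of_degree_two a hadeg hge)
      have : MvPolynomial.monomial (a + m') (q.coeff a)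
          = q.coeff a • MvPolynomial.monomial (a + m') (1 : R) := by
        rw [MvPolynomial.smul_monomial, smul_eq_mul, mul_one]
      rw [this]
      apply Submodule.smul_mem
      apply ih (a j + m' j) (by omega) (a + m')
      · rw [map_add, hadeg]; omega
      · simp
    have hmain : MvPolynomial.monomial m u ∈ S := by
      have : MvPolynomial.monomial m u = q * MvPolynomial.monomial m' (1 : R)
          - ∑ a ∈ q.support.erase (Finsupp.single j 2),
            MvPolynomial.monomial (a + m') (q.coeff a) := by
        rw [hqsum]; ring
      rw [this]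
      exact Submodule.sub_mem _ (h2 m' hdeg') hrest
    obtain ⟨w, hw⟩ := hqj
    have : MvPolynomial.monomial m (1 : R) = (↑w⁻¹ : R) • MvPolynomial.monomial m u := by
      rw [MvPolynomial.smul_monomial, smul_eq_mul, ← hw, Units.inv_mul]
    rw [this]
    exact Submodule.smul_mem _ _ hmain

/-- Let R be a commutative ring, j ∈ {0, 1, 2}, q a homogeneous polynomial of degree 2 in R[X_0, X_1,
X_2] whose coefficient of X_j^2 is a unit, and n a natural number. Then the family consisting of the
monomials of degree n not divisible by X_j^2 (exponent of X_j at most 1) together with the products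
q · m, m running over the monomials of degree n − 2 (indexed by exponents m with |m| + 2 = n), is
linearly independent over R and spans exactly the homogeneous polynomials of degree n; in particular
it is a basis of that module and the two parts are disjoint. (The published lemma is stated over a
field with the coefficient nonzero, the special case of a field R here; the version over a ring with
the coefficient invertible is what its change-of-basis argument gives — ordering monomials by
decreasing exponent of X_j makes the matrix triangular with diagonal entries 1 and that coefficient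
— and is the form used to trivialise the bundle of degree-n forms modulo multiples of q over the
locus where the coefficient is invertible. The published lemma also allows an arbitrary monomial of
degree 2 in place of X_j^2; for the mixed monomial X_1X_2, the form q = X_1^2 + X_1X_2 + X_2^2 and n
= 3 give the linear relation q·X_1 − q·X_2 = X_1^3 − X_2^3 among members of the family, so the claim
fails there and is stated here for the square of a variable.) -/
theorem result
    (R : Type u) [CommRing R] (j : Fin 3) (q : MvPolynomial (Fin 3) R)
    (hq : q.IsHomogeneous 2) (hqj : IsUnit (q.coeff (Finsupp.single j 2))) (n : ℕ) :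
    LinearIndependent R (Sum.elim (fun m : {m : Fin 3 →₀ ℕ // m.degree = n ∧ m j < 2} => MvPolynomial.monomial m.1 (1 : R)) (fun m : {m : Fin 3 →₀ ℕ // m.degree + 2 = n} => q * MvPolynomial.monomial m.1 (1 : R))) ∧
      Submodule.span R (Set.range (Sum.elim (fun m : {m : Fin 3 →₀ ℕ // m.degree = n ∧ m j < 2} => MvPolynomial.monomial m.1 (1 : R)) (fun m : {m : Fin 3 →₀ ℕ // m.degree + 2 = n} => q * MvPolynomial.monomial m.1 (1 : R)))) = MvPolynomial.homogeneousSubmodule (Fin 3) R n := by
  set v₁ : {m : Fin 3 →₀ ℕ // m.degree = n ∧ m j < 2} → MvPolynomial (Fin 3) R :=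
    fun m => MvPolynomial.monomial m.1 (1 : R) with hv₁
  set w₂ : {m : Fin 3 →₀ ℕ // m.degree + 2 = n} → MvPolynomial (Fin 3) R :=
    fun m => MvPolynomial.monomial m.1 (1 : R) with hw₂
  set v₂ : {m : Fin 3 →₀ ℕ // m.degree + 2 = n} → MvPolynomial (Fin 3) R :=
    fun m => q * MvPolynomial.monomial m.1 (1 : R) with hv₂
  have hbasis : LinearIndependent R (fun s : Fin 3 →₀ ℕ => MvPolynomial.monomial s (1 : R)) := by
    have := (MvPolynomial.basisMonomials (Fin 3) R).linearIndependent
    rwa [MvPolynomial.coe_basisMonomials] at this
  have hli₁ : LinearIndependent R v₁ :=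
    hbasis.comp (fun m : {m : Fin 3 →₀ ℕ // m.degree = n ∧ m j < 2} => m.1) Subtype.val_injective
  have hliw : LinearIndependent R w₂ :=
    hbasis.comp (fun m : {m : Fin 3 →₀ ℕ // m.degree + 2 = n} => m.1) Subtype.val_injective
  have hker : LinearMap.ker (LinearMap.mulLeft R q) = ⊥ := by
    rw [LinearMap.ker_eq_bot']
    intro G hG
    apply lemmaZ j q hq hqj G
    intro m hm
    rw [LinearMap.mulLeft_apply] at hG
    rw [hG] at hm
    simp at hm
  have hli₂ : LinearIndependent R v₂ := hliw.map' (LinearMap.mulLeft R q) hker
  have hdisj : Disjoint (Submodule.span R (Set.range v₁)) (Submodule.span R (Set.range v₂)) := by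
    rw [Submodule.disjoint_def]
    intro x hx1 hx2
    have hx1' : x ∈ MvPolynomial.restrictSupport R {m : Fin 3 →₀ ℕ | m j < 2} := by
      have hle : Submodule.span R (Set.range v₁)
          ≤ MvPolynomial.restrictSupport R {m : Fin 3 →₀ ℕ | m j < 2} := by
        rw [Submodule.span_le]
        rintro _ ⟨m, rfl⟩
        rw [SetLike.mem_coe, MvPolynomial.mem_restrictSupport_iff]
        intro a ha
        have := MvPolynomial.support_monomial_subset ha
        rw [Finset.mem_singleton] at this
        rw [this]
        exact m.2.2
      exact hle hx1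
    rw [MvPolynomial.mem_restrictSupport_iff] at hx1'
    have hx2' : ∃ G, x = q * G := by
      have : Set.range v₂ = (LinearMap.mulLeft R q) '' Set.range w₂ := by
        rw [← Set.range_comp]; rfl
      rw [this, ← Submodule.map_span] at hx2
      obtain ⟨G, -, hG⟩ := hx2
      exact ⟨G, hG.symm⟩
    obtain ⟨G, rfl⟩ := hx2'
    have : G = 0 := lemmaZ j q hq hqj G (fun m hm => hx1' hm)
    rw [this, mul_zero]
  refine ⟨hli₁.sum_type hli₂ hdisj, ?_⟩
  apply le_antisymm
  · rw [Submodule.span_le]
    rintro _ ⟨i, rfl⟩
    rcases i with m | m
    · exact MvPolynomial.isHomogeneous_monomial 1 m.2.1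
    · have h2 : 2 + m.1.degree = n := by have := m.2; omega
      have := hq.mul (MvPolynomial.isHomogeneous_monomial (1 : R) (rfl : m.1.degree = m.1.degree))
      rw [h2] at this
      exact this
  · intro f hf
    set S := Submodule.span R (Set.range (Sum.elim v₁ v₂)) with hS
    have h1 : ∀ m : Fin 3 →₀ ℕ, m.degree = n → m j < 2 → MvPolynomial.monomial m (1 : R) ∈ S :=
      fun m hm hmj => Submodule.subset_span ⟨Sum.inl ⟨m, hm, hmj⟩, rfl⟩
    have h2 : ∀ m : Fin 3 →₀ ℕ, m.degree + 2 = n → q * MvPolynomial.monomial m (1 : R) ∈ S :=
      fun m hm => Submodule.subset_span ⟨Sum.inr ⟨m, hm⟩, rfl⟩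
    have hall := mono_mem_span j q hq hqj n S h1 h2
    rw [← MvPolynomial.support_sum_monomial_coeff f]
    apply Submodule.sum_mem
    intro m hm
    have hmdeg : m.degree = n := by
      by_contra hd
      exact (MvPolynomial.mem_support_iff.mp hm) ((MvPolynomial.mem_homogeneousSubmodule n f).mp hf |>.coeff_eq_zero hd)
    have : MvPolynomial.monomial m (f.coeff m) = f.coeff m • MvPolynomial.monomial m (1 : R) := by
      rw [MvPolynomial.smul_monomial, smul_eq_mul, mul_one]
    rw [this]
    exact Submodule.smul_mem _ _ (hall (m j) m hmdeg rfl)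

end Groth.Agent.S18994
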