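import Groth.Statements.S19004
import Mathlib

set_option autoImplicit false
open GIT

namespace Groth.Agent.S19004

open MvPolynomial


variable {n : ℕ}

lemma prod_split (g : Fin n → Fin n → MvPolynomial (Fin n) ℤ) :
    ∏ i : Fin n, ∏ j ∈ Finset.univ.erase i, g i j =
      (∏ i : Fin n, ∏ j ∈ Finset.Ioi i, g j i) * (∏ i : Fin n, ∏ j ∈ Finset.Ioi i, g i j) := by
  have h1 : ∀ i : Fin n, Finset.univ.erase i = Finset.Iio i ∪ Finset.Ioi i := by
    intro i
    ext j
    simp only [Finset.mem_erase, Finset.mem_univ, and_true, Finset.mem_union, Finset.mem_Iio,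
      Finset.mem_Ioi]
    exact lt_or_lt_iff_ne.symm
  have h2 : ∀ i : Fin n, Disjoint (Finset.Iio i) (Finset.Ioi i) := by
    intro i
    rw [Finset.disjoint_left]
    intro j hj hj'
    rw [Finset.mem_Iio] at hj
    rw [Finset.mem_Ioi] at hj'
    exact lt_asymm hj hj'
  simp_rw [h1, Finset.prod_union (h2 _), Finset.prod_mul_distrib]
  congr 1
  apply Finset.prod_comm'
  intro i j
  simp

lemma det_exp (f : Fin n → ℕ) :
    Matrix.det (Matrix.of fun i j => (X i : MvPolynomial (Fin n) ℤ) ^ f j) =
      ∑ σ : Equiv.Perm (Fin n), monomial (Finsupp.equivFunOnFinite.symm fun k => f (σ.symm k))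
        ((Equiv.Perm.sign σ : ℤ)) := by
  rw [Matrix.det_apply']
  refine Finset.sum_congr rfl fun σ _ => ?_
  have h1 : ∏ i, (Matrix.of fun i j => (X i : MvPolynomial (Fin n) ℤ) ^ f j) (σ i) i =
      ∏ k, (X k : MvPolynomial (Fin n) ℤ) ^ f (σ.symm k) := by
    rw [← Equiv.prod_comp σ (fun k => (X k : MvPolynomial (Fin n) ℤ) ^ f (σ.symm k))]
    simp
  rw [h1, monomial_eq, Finsupp.prod_fintype _ _ (fun i => pow_zero _)]
  simp




/-- For the group PGL(n) acting on the space of n × n matrices the T-quotient is (P^{n−1})^n with Chow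
ring ℚ[t_1,…,t_n]/(t_1^n,…,t_n^n), the class c_top(g/t) is the product of all roots t_i − t_j (i ≠
j), and the computation in the proof shows that this product equals n!·t_1^{n−1}⋯t_n^{n−1} in that
ring. Stated here as the equivalent coefficient identity in ℤ[t_1,…,t_n]: the coefficient of
t_1^{n−1}⋯t_n^{n−1} in the product over ordered pairs i ≠ j of (t_i − t_j) is n!. -/
theorem result (n : ℕ) :
    MvPolynomial.coeff (Finsupp.equivFunOnFinite.symm (fun _ : Fin n => n - 1))
      (∏ i : Fin n, ∏ j ∈ Finset.univ.erase i, (MvPolynomial.X i - MvPolynomial.X j : MvPolynomial (Fin n) ℤ)) = (n.factorial : ℤ) := by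
  rw [prod_split (fun i j => (X i - X j : MvPolynomial (Fin n) ℤ))]
  have hV : (∏ i : Fin n, ∏ j ∈ Finset.Ioi i, (X j - X i : MvPolynomial (Fin n) ℤ)) =
      Matrix.det (Matrix.of fun i j => (X i : MvPolynomial (Fin n) ℤ) ^ (j : ℕ)) := by
    rw [← Matrix.det_vandermonde]
    rfl
  have hV' : (∏ i : Fin n, ∏ j ∈ Finset.Ioi i, (X i - X j : MvPolynomial (Fin n) ℤ)) =
      Matrix.det (Matrix.of fun i j => (X i : MvPolynomial (Fin n) ℤ) ^ (j.rev : ℕ)) := by
    have := Matrix.det_projVandermonde (1 : Fin n → MvPolynomial (Fin n) ℤ) (fun i => X i)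
    simp only [Pi.one_apply, one_mul] at this
    rw [← this]
    congr 1
    ext i j
    simp [Matrix.projVandermonde_apply]
  rw [hV, hV', det_exp, det_exp, Finset.sum_mul_sum]
  simp only [monomial_mul, coeff_sum, coeff_monomial]
  have key : ∀ σ τ : Equiv.Perm (Fin n),
      ((Finsupp.equivFunOnFinite.symm fun k => ((σ.symm k : Fin n) : ℕ)) +
        (Finsupp.equivFunOnFinite.symm fun k => (((τ.symm k).rev : Fin n) : ℕ)) =
        Finsupp.equivFunOnFinite.symm (fun _ : Fin n => n - 1)) ↔ σ = τ := by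
    intro σ τ
    constructor
    · intro h
      have h2 : σ.symm = τ.symm := by
        ext k
        have := DFunLike.congr_fun h k
        simp only [Finsupp.coe_add, Pi.add_apply, Finsupp.equivFunOnFinite_symm_apply_apply,
          Fin.val_rev] at this
        omega
      simpa using congrArg Equiv.symm h2
    · rintro rfl
      ext k
      simp only [Finsupp.coe_add, Pi.add_apply, Finsupp.equivFunOnFinite_symm_apply_apply,
        Fin.val_rev]
      omega
  simp only [key]
  simp only [Finset.sum_ite_eq, Finset.mem_univ, if_true]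
  have : ∀ σ : Equiv.Perm (Fin n), ((Equiv.Perm.sign σ : ℤ)) * ((Equiv.Perm.sign σ : ℤ)) = 1 := by
    intro σ
    rcases Int.units_eq_one_or (Equiv.Perm.sign σ) with h | h <;> simp [h]
  simp only [this, Finset.sum_const, Finset.card_univ, Fintype.card_perm, Fintype.card_fin,
    nsmul_eq_mul, mul_one]


end Groth.Agent.S19004
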