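import Groth.Statements.S19005
import Mathlib.LinearAlgebra.QuadraticForm.Basic
import Mathlib.LinearAlgebra.TensorProduct.Basic

set_option autoImplicit false
open scoped TensorProduct
open K2Cent

namespace Groth.Agent.S19005

/-- For abelian groups X and M and ε in M with 2ε = 0 (in the source X is the character group of a split
torus and ε is the class of −1 among the units), the map x ↦ (x ⊗ x, −(x ⊗ ε)) into (X ⊗ X) × (X ⊗
M) is quadratic over ℤ, i.e. it underlies an integer quadratic map with exactly these values. -/
theorem result (X M : Type*) [AddCommGroup X]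
    [AddCommGroup M] (ε : M) (hε : 2 • ε = 0) :
    ∃ R : QuadraticMap ℤ X (TensorProduct ℤ X X × TensorProduct ℤ X M),
      ∀ x : X, R x = (x ⊗ₜ[ℤ] x, -(x ⊗ₜ[ℤ] ε)) := by
  have hzero : ∀ (a : ℤ) (x : X), (a * a - a) • (x ⊗ₜ[ℤ] ε) = 0 := by
    intro a x
    obtain ⟨c, hc⟩ : Even (a * a - a) := by
      have : a * a - a = a * (a - 1) := by ring
      rw [this]
      exact Int.even_mul_pred_self a
    have h2 : (2 : ℤ) • ε = 0 := by
      have : (2 : ℤ) • ε = (2 : ℕ) • ε := by
        rw [← natCast_zsmul]; rfl
      rw [this, hε]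
    rw [hc, ← two_mul, mul_comm, mul_smul, ← TensorProduct.tmul_smul, h2, TensorProduct.tmul_zero,
      smul_zero]
  refine ⟨{ toFun := fun x => (x ⊗ₜ[ℤ] x, -(x ⊗ₜ[ℤ] ε))
            toFun_smul := ?_
            exists_companion' := ?_ }, fun x => rfl⟩
  · intro a x
    ext
    · simp only [Prod.smul_fst]
      rw [TensorProduct.smul_tmul_smul]
    · simp only [Prod.smul_snd]
      have := hzero a x
      rw [sub_smul, sub_eq_zero] at this
      rw [smul_neg, this, TensorProduct.smul_tmul']
  · refine ⟨LinearMap.mk₂ ℤ (fun x y : X =>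
        ((x ⊗ₜ[ℤ] y + y ⊗ₜ[ℤ] x, 0) : TensorProduct ℤ X X × TensorProduct ℤ X M))
        ?_ ?_ ?_ ?_, fun x y => ?_⟩
    · intro x x' y
      ext
      · simp only [Prod.fst_add, TensorProduct.add_tmul, TensorProduct.tmul_add]; abel
      · simp
    · intro c x y
      ext
      · simp only [Prod.smul_fst, smul_add, TensorProduct.smul_tmul', TensorProduct.tmul_smul]
      · simp
    · intro x y y'
      ext
      · simp only [Prod.fst_add, TensorProduct.add_tmul, TensorProduct.tmul_add]; abel
      · simp
    · intro c x y
      ext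
      · simp only [Prod.smul_fst, smul_add, TensorProduct.smul_tmul', TensorProduct.tmul_smul]
      · simp
    · rw [LinearMap.mk₂_apply]
      ext
      · simp only [Prod.fst_add, TensorProduct.add_tmul, TensorProduct.tmul_add]; abel
      · simp only [Prod.snd_add, TensorProduct.add_tmul, neg_add, add_zero]

end Groth.Agent.S19005
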