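import Groth.Statements.S19008
import Groth.Agent.Lib.Vinberg38

set_option autoImplicit false
universe u v w x
open RootD

namespace Groth.Agent.S19008

/-- Let P be a finite reduced crystallographic root pairing over an integral domain of characteristic
zero and b a base (simple roots α_i, i in the support of b), with Cartan integers a_ij = ⟨α_i,
α_j^∨⟩. An integer-valued bilinear form C on the lattice with basis the simple coroots is an integer
matrix C_ij = C(α_i^∨, α_j^∨), and the component of the last map of the complex at the pair (i, j),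
i ≠ j, is C ↦ C(α_i^∨, α_j^∨) + C(α_j^∨, s_j(α_i^∨)) = C_ij + C_ji − a_ji C_jj; the pairs (i, j) and
(j, i) index the same component exactly when α_i and α_j are orthogonal. This map is surjective: for
every family of integers d_ij (i ≠ j in the support) with d_ij = d_ji whenever a_ij = 0 there is an
integer matrix C with C_ij + C_ji − a_ji C_jj = d_ij for all i ≠ j in the support. -/
theorem result {ι : Type u} {R : Type v} {M : Type w} {N : Type x} [CommRing R] [IsDomain R] [CharZero R]
    [AddCommGroup M] [Module R M] [AddCommGroup N] [Module R N] (P : RootPairing ι R M N)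
    [Finite ι] [P.IsCrystallographic] [P.IsReduced] (b : P.Base) (d : ι → ι → ℤ)
    (hd : ∀ i ∈ b.support, ∀ j ∈ b.support, i ≠ j → P.pairingIn ℤ i j = 0 → d i j = d j i) :
    ∃ C : ι → ι → ℤ, ∀ i ∈ b.support, ∀ j ∈ b.support, i ≠ j →
      C i j + C j i - P.pairingIn ℤ j i * C j j = d i j := by
  classical
  have h0 : ∀ i ∈ b.support, P.pairingIn ℤ i i = 2 := fun i _ => P.pairingIn_same ℤ i
  have h1 : ∀ i ∈ b.support, ∀ j ∈ b.support, i ≠ j → P.pairingIn ℤ i j ≤ 0 :=
    fun i hi j hj hij => b.pairingIn_le_zero_of_ne hij hi hj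
  have h2 : ∀ i ∈ b.support, ∀ j ∈ b.support, P.pairingIn ℤ i j = 0 → P.pairingIn ℤ j i = 0 := by
    intro i hi j hj h
    have := (b.cartanMatrix_apply_eq_zero_iff_symm (i := ⟨i, hi⟩) (j := ⟨j, hj⟩)).mp
      (by rw [RootPairing.Base.cartanMatrix, RootPairing.Base.cartanMatrixIn_def]; exact h)
    rw [RootPairing.Base.cartanMatrix, RootPairing.Base.cartanMatrixIn_def] at this
    exact this
  obtain ⟨c, hc⟩ := Groth.Agent.Lib.Vinberg38.exists_solution b.support.card b.support rfl
    (fun i j => P.pairingIn ℤ i j) h0 h1 h2
    (Groth.Agent.Lib.Vinberg38.vinberg_flip P b)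
    (fun i j => d j i - d i j) (fun i j => by ring)
    (fun i hi j hj h => by
      by_cases hij : i = j
      · subst hij
        exact sub_self _
      · rw [hd i hi j hj hij h, sub_self])
  obtain ⟨σ, hσ⟩ := exists_injective_nat ι
  refine ⟨fun i j => if i = j then c i else
    if σ i < σ j then d i j + P.pairingIn ℤ j i * c j else 0, ?_⟩
  intro i hi j hj hij
  have hji : j ≠ i := fun h => hij h.symm
  have hne : σ i ≠ σ j := fun h => hij (hσ h)
  have heq := hc i hi j hj hij
  simp only [if_neg hij, if_neg hji, if_true]
  rcases lt_or_gt_of_ne hne with hlt | hgt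
  · rw [if_pos hlt, if_neg (not_lt.mpr hlt.le)]
    ring
  · rw [if_neg (not_lt.mpr hgt.le), if_pos hgt]
    linarith

end Groth.Agent.S19008
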