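import Groth.Statements.S19013
import Groth.Agent.Lib.MilKTame

set_option autoImplicit false
universe u v
open MilnorK

namespace Groth.Agent.S19013

/-- Let A ⊆ B be discrete valuation rings, the inclusion being a local homomorphism, with fraction
fields E ⊆ F compatibly, with the induced homomorphism of residue fields κ(A) → κ(B), and with
ramification index e, the natural number such that the maximal ideal of A generates the e-th power
of the maximal ideal of B. Let ∂_A : K_{n+1}(E) → K_n(κ(A)) and ∂_B : K_{n+1}(F) → K_n(κ(B)) be the
residue maps (tame symbols) on Milnor K-groups. Then for every x in K_{n+1}(E) one has ∂_B(x_F) = e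
· (∂_A x)_{κ(B)}, where the subscripts denote the change-of-fields maps along E → F and κ(A) → κ(B).
(The published statement concerns discrete valuations of geometric type on fields finitely generated
over a base field; it is stated here for an arbitrary pair of discrete valuation rings, which is all
the printed computation uses.) -/
theorem result
    (A B : Type u) [CommRing A] [IsDomain A] [IsDiscreteValuationRing A]
    [CommRing B] [IsDomain B] [IsDiscreteValuationRing B] [Algebra A B] [IsLocalHom (algebraMap A B)]
    (E F : Type v) [Field E] [Field F] [Algebra A E] [IsFractionRing A E] [Algebra B F] [IsFractionRing B F]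
    [Algebra E F] [Algebra A F] [IsScalarTower A E F] [IsScalarTower A B F]
    (e : ℕ) (he : Ideal.map (algebraMap A B) (IsLocalRing.maximalIdeal A) = IsLocalRing.maximalIdeal B ^ e)
    (n : ℕ) (dA : MilK.K E (n + 1) →+ MilK.K (IsLocalRing.ResidueField A) n) (hdA : MilK.IsTameSymbol A E n dA)
    (dB : MilK.K F (n + 1) →+ MilK.K (IsLocalRing.ResidueField B) n) (hdB : MilK.IsTameSymbol B F n dB)
    (x : MilK.K E (n + 1)) :
    dB (MilK.map (algebraMap E F) (n + 1) x) =
      e • MilK.map (IsLocalRing.ResidueField.map (algebraMap A B)) n (dA x) := by
  open Groth.Agent.Lib.MilKGeneral Groth.Agent.Lib.MilKTame MilK in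
  obtain ⟨ϖA, hϖA⟩ := IsDiscreteValuationRing.exists_irreducible A
  obtain ⟨ϖB, hϖB⟩ := IsDiscreteValuationRing.exists_irreducible B
  -- the image of the uniformizer
  obtain ⟨v, hv⟩ : ∃ v : Bˣ, ϖB ^ e * (v : B) = algebraMap A B ϖA := by
    rw [hϖA.maximalIdeal_eq, hϖB.maximalIdeal_eq, Ideal.map_span, Set.image_singleton,
      Ideal.span_singleton_pow, Ideal.span_singleton_eq_span_singleton] at he
    exact he.symm
  have hunits : ∀ w : Aˣ, Units.map (algebraMap E F : E →* F) (unitToFrac A E w) =
      unitToFrac B F (Units.map (algebraMap A B : A →* B) w) := by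
    intro w
    apply Units.ext
    simp only [unitToFrac, Units.coe_map, MonoidHom.coe_coe]
    rw [← IsScalarTower.algebraMap_apply A E F, IsScalarTower.algebraMap_apply A B F]
  have hres : ∀ w : Aˣ, Units.map (IsLocalRing.ResidueField.map (algebraMap A B) :
      IsLocalRing.ResidueField A →* IsLocalRing.ResidueField B) (unitResidue A w) =
      unitResidue B (Units.map (algebraMap A B : A →* B) w) := by
    intro w
    apply Units.ext
    simp only [unitResidue, Units.coe_map, MonoidHom.coe_coe]
    exact IsLocalRing.ResidueField.map_residue _ _
  induction x using tame_induction (L := E) ϖA hϖA with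
  | h1 w =>
    rw [hdA ϖA hϖA w, map_symbol, map_symbol]
    have e1 : (fun i => Units.map (algebraMap E F : E →* F)
        ((Fin.cons (unitFrac A E ϖA hϖA.ne_zero) fun i => unitToFrac A E (w i) :
          Fin (n + 1) → Eˣ) i)) =
        Fin.cons (unitFrac B F ϖB hϖB.ne_zero ^ (e : ℤ) * unitToFrac B F v)
          (fun i => unitToFrac B F (Units.map (algebraMap A B : A →* B) (w i))) := by
      funext j
      refine Fin.cases ?_ (fun i => ?_) j
      · simp only [Fin.cons_zero]
        apply Units.ext
        simp only [Units.coe_map, MonoidHom.coe_coe, coe_unitFrac, Units.val_mul,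
          Units.val_zpow_eq_zpow_val, zpow_natCast, unitToFrac]
        rw [← IsScalarTower.algebraMap_apply A E F, IsScalarTower.algebraMap_apply A B F, ← hv,
          map_mul, map_pow, Units.val_pow_eq_pow_val, coe_unitFrac]
      · simp only [Fin.cons_succ]
        exact hunits _
    rw [e1, symbol_cons_zpow_mul, map_add, map_zsmul, hdB ϖB hϖB, tame_unit_cons hdB, add_zero,
      natCast_zsmul]
    congr 2
  | h2 w =>
    rw [tame_unit_symbol hdA, map_zero, smul_zero, map_symbol]
    have e1 : (fun i => Units.map (algebraMap E F : E →* F) (unitToFrac A E (w i))) =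
        fun i => unitToFrac B F (Units.map (algebraMap A B : A →* B) (w i)) :=
      funext fun i => hunits _
    rw [e1]
    exact tame_unit_symbol hdB _
  | hadd x y hx hy =>
    rw [map_add, map_add, hx, hy, map_add, map_add, smul_add]
  | hneg x hx =>
    rw [map_neg, map_neg, hx, map_neg, map_neg, smul_neg]

end Groth.Agent.S19013
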