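import Groth.Statements.S19015
import Groth.Agent.Lib.MilKTame

set_option autoImplicit false
universe u v
open MilnorK

namespace Groth.Agent.S19015

/-- Let B be a discrete valuation ring with fraction field F, residue field κ and uniformizer π, and let
E be a field with a ring homomorphism into B, hence into F and into κ. Let ∂ : K_{n+1}(F) → K_n(κ)
be the residue map (tame symbol) on Milnor K-groups and s^π(ρ) = ∂({−π} · ρ) the specialization map
attached to π. Then s^π(x_F) = x_κ for every x in K_n(E): the product {−π} · x_F in K_{1+n}(F),
regarded in K_{n+1}(F), has residue the image of x in K_n(κ). (The published statement concerns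
discrete valuations of geometric type on fields finitely generated over a base field; it is stated
here for an arbitrary discrete valuation ring, which is all the printed computation uses.) -/
theorem result
    (B : Type u) [CommRing B] [IsDomain B] [IsDiscreteValuationRing B]
    (E F : Type v) [Field E] [Field F] [Algebra B F] [IsFractionRing B F]
    [Algebra E B] [Algebra E F] [IsScalarTower E B F]
    (n : ℕ) (d : MilK.K F (n + 1) →+ MilK.K (IsLocalRing.ResidueField B) n) (hd : MilK.IsTameSymbol B F n d)
    (ϖ : B) (hϖ : Irreducible ϖ) (x : MilK.K E n) :
    d (MilK.cast F (Nat.add_comm 1 n)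
        (MilK.mul F 1 n (MilK.symbol ![-MilK.unitFrac B F ϖ hϖ.ne_zero]) (MilK.map (algebraMap E F) n x))) =
      MilK.map ((IsLocalRing.residue B).comp (algebraMap E B)) n x := by
  open Groth.Agent.Lib.MilKGeneral Groth.Agent.Lib.MilKTame MilK in
  induction x using K_induction with
  | hsym x =>
    rw [map_symbol, map_symbol, mul_symbol_symbol, cast_symbol]
    set y : Fin n → Fˣ := fun i => Units.map (algebraMap E F : E →* F) (x i) with hy
    have e1 : (Fin.append ![-unitFrac B F ϖ hϖ.ne_zero] y ∘ Fin.cast (Nat.add_comm 1 n).symm) =
        Fin.cons (-unitFrac B F ϖ hϖ.ne_zero) y := by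
      funext j
      refine Fin.cases ?_ (fun i => ?_) j
      · have : Fin.cast (Nat.add_comm 1 n).symm (0 : Fin (n + 1)) = Fin.castAdd n (0 : Fin 1) := by
          apply Fin.ext; simp
        simp only [Function.comp_apply, Fin.cons_zero]
        rw [this, Fin.append_left]
        rfl
      · have : Fin.cast (Nat.add_comm 1 n).symm i.succ = Fin.natAdd 1 i := by
          apply Fin.ext; simp [add_comm]
        simp only [Function.comp_apply, Fin.cons_succ]
        rw [this, Fin.append_right]
    have e2 : y = fun i => unitFrac B F ϖ hϖ.ne_zero ^ (0 : ℤ) *
        unitToFrac B F (Units.map (algebraMap E B : E →* B) (x i)) := by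
      funext i
      apply Units.ext
      simp only [hy, zpow_zero, one_mul, unitToFrac, Units.coe_map, MonoidHom.coe_coe]
      exact IsScalarTower.algebraMap_apply E B F _
    rw [e1, e2, tame_neg_unif_cons hd ϖ hϖ (fun _ => 0)]
    congr 1
  | hadd x y hx hy =>
    rw [map_add, map_add, map_add, map_add, hx, hy, map_add]
  | hneg x hx =>
    rw [map_neg, map_neg, map_neg, map_neg, hx, map_neg]

end Groth.Agent.S19015
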