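import Groth.Statements.S19016
import Groth.Agent.Lib.MilKTame

set_option autoImplicit false
universe u v
open MilnorK

namespace Groth.Agent.S19016

open Groth.Agent.Lib.MilKGeneral Groth.Agent.Lib.MilKTame MilK

theorem append_one_cast {F : Type v} [Field F] {n : ℕ} (a : Fˣ) (x : Fin n → Fˣ) :
    (Fin.append ![a] x ∘ Fin.cast (Nat.add_comm 1 n).symm) = Fin.cons a x := by
  funext j
  refine Fin.cases ?_ (fun i => ?_) j
  · have : Fin.cast (Nat.add_comm 1 n).symm (0 : Fin (n + 1)) = Fin.castAdd n (0 : Fin 1) := by
      apply Fin.ext; simp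
    simp only [Function.comp_apply, Fin.cons_zero]
    rw [this, Fin.append_left]
    rfl
  · have : Fin.cast (Nat.add_comm 1 n).symm i.succ = Fin.natAdd 1 i := by
      apply Fin.ext; simp [add_comm]
    simp only [Function.comp_apply, Fin.cons_succ]
    rw [this, Fin.append_right]

/-- Let B be a discrete valuation ring with fraction field F and residue field κ, let u be a unit of B
with residue class ū, and let ∂ denote the residue maps (tame symbols) K_{n+1}(F) → K_n(κ) and
K_{n+2}(F) → K_{n+1}(κ) on Milnor K-groups. Then ∂({u} · ρ) = −{ū} · ∂(ρ) for every ρ in K_{n+1}(F),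
the products {u} · ρ in K_{1+(n+1)}(F) and {ū} · ∂ρ in K_{1+n}(κ) being regarded in K_{n+2}(F) and
K_{n+1}(κ). (The published statement concerns discrete valuations of geometric type on fields
finitely generated over a base field; it is stated here for an arbitrary discrete valuation ring,
which is all the printed computation uses.) -/
theorem result
    (B : Type u) [CommRing B] [IsDomain B] [IsDiscreteValuationRing B]
    (F : Type v) [Field F] [Algebra B F] [IsFractionRing B F] (n : ℕ)
    (d : MilK.K F (n + 1) →+ MilK.K (IsLocalRing.ResidueField B) n) (hd : MilK.IsTameSymbol B F n d)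
    (d' : MilK.K F (n + 1 + 1) →+ MilK.K (IsLocalRing.ResidueField B) (n + 1))
    (hd' : MilK.IsTameSymbol B F (n + 1) d')
    (u : Bˣ) (ρ : MilK.K F (n + 1)) :
    d' (MilK.cast F (Nat.add_comm 1 (n + 1)) (MilK.mul F 1 (n + 1) (MilK.symbol ![MilK.unitToFrac B F u]) ρ)) =
      -(MilK.cast (IsLocalRing.ResidueField B) (Nat.add_comm 1 n)
          (MilK.mul (IsLocalRing.ResidueField B) 1 n (MilK.symbol ![MilK.unitResidue B u]) (d ρ))) := by
  obtain ⟨ϖ, hϖ⟩ := IsDiscreteValuationRing.exists_irreducible B
  induction ρ using tame_induction (L := F) ϖ hϖ with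
  | h1 w =>
    rw [mul_symbol_symbol, cast_symbol, append_one_cast, hd ϖ hϖ w, mul_symbol_symbol, cast_symbol,
      append_one_cast]
    set π := unitFrac B F ϖ hϖ.ne_zero with hπ
    -- swap the first two slots
    set z : Fin (n + 1 + 1) → Fˣ :=
      Fin.cons π (fun i => unitToFrac B F ((Fin.cons u w : Fin (n + 1) → Bˣ) i)) with hz
    have h01 : (0 : Fin (n + 1 + 1)) ≠ 1 := by
      intro h; exact absurd (congrArg Fin.val h) (by simp)
    have e1 : (Fin.cons (unitToFrac B F u) (Fin.cons π fun i => unitToFrac B F (w i)) :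
        Fin (n + 1 + 1) → Fˣ) = z ∘ Equiv.swap 0 1 := by
      funext j
      refine Fin.cases ?_ (fun i => ?_) j
      · simp only [Fin.cons_zero, Function.comp_apply, Equiv.swap_apply_left, hz]
        change _ = (Fin.cons π (fun i => unitToFrac B F ((Fin.cons u w : Fin (n + 1) → Bˣ) i)) :
          Fin (n + 1 + 1) → Fˣ) (Fin.succ 0)
        rw [Fin.cons_succ, Fin.cons_zero]
      · refine Fin.cases ?_ (fun i' => ?_) i
        · simp only [Fin.cons_succ, Fin.cons_zero, Function.comp_apply]
          have : (Fin.succ (0 : Fin (n + 1)) : Fin (n + 1 + 1)) = 1 := rfl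
          rw [this, Equiv.swap_apply_right, hz, Fin.cons_zero]
        · simp only [Fin.cons_succ, Function.comp_apply]
          have hne0 : (Fin.succ (Fin.succ i') : Fin (n + 1 + 1)) ≠ 0 := Fin.succ_ne_zero _
          have hne1 : (Fin.succ (Fin.succ i') : Fin (n + 1 + 1)) ≠ 1 := by
            intro h; exact absurd (congrArg Fin.val h) (by simp)
          rw [Equiv.swap_apply_of_ne_of_ne hne0 hne1, hz, Fin.cons_succ, Fin.cons_succ]
    rw [e1, symbol_swap z h01, map_neg, hz, hd' ϖ hϖ (Fin.cons u w)]
    congr 2
    funext j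
    refine Fin.cases ?_ (fun i => ?_) j <;> simp
  | h2 w =>
    rw [tame_unit_symbol hd, map_zero, map_zero, neg_zero, mul_symbol_symbol, cast_symbol,
      append_one_cast]
    have e : (Fin.cons (unitToFrac B F u) fun i => unitToFrac B F (w i) : Fin (n + 1 + 1) → Fˣ) =
        fun i => unitToFrac B F ((Fin.cons u w : Fin (n + 1 + 1) → Bˣ) i) := by
      funext j
      refine Fin.cases ?_ (fun i => ?_) j <;> simp
    rw [e]
    exact tame_unit_symbol hd' _
  | hadd x y hx hy =>
    rw [map_add, map_add, map_add, hx, hy, map_add, map_add, map_add, neg_add]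
  | hneg x hx =>
    rw [map_neg, map_neg, map_neg, hx, map_neg, map_neg, map_neg]

end Groth.Agent.S19016
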