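import Groth.Statements.S19018
import Mathlib.Tactic
-- import your own Groth.Agent.* helpers here

set_option autoImplicit false
open Pointwise
universe u
open TensorProduct
open SymTen

namespace Groth.Agent.S19018

/-- Suppose k is a field in which 2 ≠ 0 and R is a commutative k-algebra. Write I for the ideal of the
diagonal, i.e. the kernel of multiplication R ⊗_k R → R, and write S for the subalgebra of R ⊗_k R
consisting of elements invariant under interchanging the two tensor factors. Then, viewed as ideals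
of S, the swap-invariant elements of I^4 form precisely the square of the ideal of swap-invariant
elements of I^2. (The source is stated over the complex numbers; the proof needs only that 2 is
invertible.) -/
theorem result
    (k R : Type u) [Field k] [NeZero (2 : k)] [CommRing R] [Algebra k R] :
    Ideal.comap
        (AlgHom.equalizer ((Algebra.TensorProduct.comm k R R : R ⊗[k] R ≃ₐ[k] R ⊗[k] R) : R ⊗[k] R →ₐ[k] R ⊗[k] R)
          (AlgHom.id k (R ⊗[k] R))).val
        (KaehlerDifferential.ideal k R ^ 4) =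
      (Ideal.comap
        (AlgHom.equalizer ((Algebra.TensorProduct.comm k R R : R ⊗[k] R ≃ₐ[k] R ⊗[k] R) : R ⊗[k] R →ₐ[k] R ⊗[k] R)
          (AlgHom.id k (R ⊗[k] R))).val
        (KaehlerDifferential.ideal k R ^ 2)) ^ 2 := by
  classical
  set σ : (R ⊗[k] R) ≃ₐ[k] (R ⊗[k] R) := Algebra.TensorProduct.comm k R R with hσ
  set Sub : Subalgebra k (R ⊗[k] R) := AlgHom.equalizer (σ : (R ⊗[k] R) →ₐ[k] (R ⊗[k] R)) (AlgHom.id k (R ⊗[k] R)) with hSub
  set I : Ideal (R ⊗[k] R) := KaehlerDifferential.ideal k R with hI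
  set J : Ideal Sub := Ideal.comap Sub.val (I ^ 2) with hJ
  have hσσ : ∀ t : (R ⊗[k] R), σ (σ t) = t := by
    intro t
    induction t using TensorProduct.induction_on with
    | zero => simp
    | tmul a b => simp [hσ]
    | add x y hx hy => rw [map_add, map_add, hx, hy]
  have hmemS : ∀ t : (R ⊗[k] R), t ∈ Sub ↔ σ t = t := by
    intro t
    rw [hSub, AlgHom.mem_equalizer]
    rfl
  have h2 : (2 : k) ≠ 0 := NeZero.ne 2
  -- symmetrization
  set π : (R ⊗[k] R) → (R ⊗[k] R) := fun t => (2⁻¹ : k) • (t + σ t) with hπ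
  have hπadd : ∀ x y, π (x + y) = π x + π y := by
    intro x y
    simp only [hπ, map_add]
    rw [← smul_add]
    congr 1
    abel
  have hπS : ∀ t, π t ∈ Sub := by
    intro t
    rw [hmemS]
    simp only [hπ, map_smul, map_add, hσσ]
    rw [add_comm]
  have hπfix : ∀ t, σ t = t → π t = t := by
    intro t ht
    simp only [hπ, ht]
    rw [← two_smul k t, smul_smul, inv_mul_cancel₀ h2, one_smul]
  have hπmul : ∀ t g, σ g = g → π (t * g) = π t * g := by
    intro t g hg
    simp only [hπ, map_mul, hg]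
    rw [← add_mul, smul_mul_assoc]
  -- generators
  set d : R → (R ⊗[k] R) := fun r => (1 : R) ⊗ₜ[k] r - r ⊗ₜ[k] (1 : R) with hd
  have hσd : ∀ r, σ (d r) = - d r := by
    intro r
    simp only [hd, map_sub, hσ, Algebra.TensorProduct.comm_tmul]
    abel
  have hIspan : I = Ideal.span (Set.range d) :=
    (KaehlerDifferential.span_range_eq_ideal k R).symm
  set G2 : Set (R ⊗[k] R) := Set.range d * Set.range d with hG2
  have hI2 : I ^ 2 = Ideal.span G2 := by
    rw [sq, hIspan, Ideal.span_mul_span']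
  have hI4 : I ^ 4 = Ideal.span (G2 * G2) := by
    have : I ^ 4 = I ^ 2 * I ^ 2 := by rw [← pow_add]
    rw [this, hI2, Ideal.span_mul_span']
  have hG2σ : ∀ g ∈ G2, σ g = g := by
    rintro g ⟨x, ⟨a, rfl⟩, y, ⟨b, rfl⟩, rfl⟩
    simp only
    rw [map_mul, hσd, hσd, neg_mul_neg]
  have hG2I : ∀ g ∈ G2, g ∈ I ^ 2 := by
    intro g hg
    rw [hI2]
    exact Ideal.subset_span hg
  have hG2J : ∀ g (hg : g ∈ G2), (⟨g, (hmemS g).2 (hG2σ g hg)⟩ : Sub) ∈ J := by
    intro g hg
    rw [hJ, Ideal.mem_comap]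
    exact hG2I g hg
  apply le_antisymm
  · -- ⊆
    intro x hx
    rw [Ideal.mem_comap] at hx
    -- predicate
    have key : ∀ y ∈ I ^ 4, ∀ t : (R ⊗[k] R), ∃ s : Sub, s ∈ J ^ 2 ∧ (s : (R ⊗[k] R)) = π (t * y) := by
      intro y hy
      rw [hI4] at hy
      induction hy using Submodule.span_induction with
      | mem y hy =>
        obtain ⟨g₁, hg₁, g₂, hg₂, rfl⟩ := hy
        intro t
        refine ⟨⟨π t, hπS t⟩ * (⟨g₁, (hmemS g₁).2 (hG2σ g₁ hg₁)⟩ * ⟨g₂, (hmemS g₂).2 (hG2σ g₂ hg₂)⟩),
          ?_, ?_⟩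
        · apply Ideal.mul_mem_left
          rw [sq]
          exact Ideal.mul_mem_mul (hG2J g₁ hg₁) (hG2J g₂ hg₂)
        · rw [hπmul t (g₁ * g₂) (by rw [map_mul, hG2σ g₁ hg₁, hG2σ g₂ hg₂])]
          rfl
      | zero =>
        intro t
        refine ⟨0, Ideal.zero_mem _, ?_⟩
        simp [hπ]
      | add y z _ _ hy hz =>
        intro t
        obtain ⟨s₁, hs₁, e₁⟩ := hy t
        obtain ⟨s₂, hs₂, e₂⟩ := hz t
        refine ⟨s₁ + s₂, Ideal.add_mem _ hs₁ hs₂, ?_⟩
        rw [mul_add, hπadd, ← e₁, ← e₂]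
        rfl
      | smul a y _ hy =>
        intro t
        obtain ⟨s, hs, e⟩ := hy (t * a)
        refine ⟨s, hs, ?_⟩
        rw [e, smul_eq_mul, mul_assoc]
    obtain ⟨s, hs, e⟩ := key _ hx 1
    rw [one_mul] at e
    have hxfix : σ (Sub.val x) = Sub.val x := (hmemS _).1 x.2
    rw [hπfix _ hxfix] at e
    have : s = x := Subtype.ext e
    rw [← this]
    exact hs
  · -- ⊇
    rw [sq, Ideal.mul_le]
    intro a ha b hb
    rw [Ideal.mem_comap] at ha hb ⊢
    rw [map_mul]
    have : I ^ 4 = I ^ 2 * I ^ 2 := by rw [← pow_add]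
    rw [this]
    exact Ideal.mul_mem_mul ha hb

end Groth.Agent.S19018
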