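import Groth.Statements.S19019
import Mathlib.Tactic
import Mathlib.Analysis.SpecialFunctions.Complex.Log
import Mathlib.Analysis.Real.Cardinality
-- import your own Groth.Agent.* helpers here

set_option autoImplicit false
open scoped ComplexOrder
open Toeplitz

namespace Groth.Agent.S19019

/-- sample points -/
noncomputable def smp (N : ℕ) (θ : ℝ) (l : ℕ) : ℝ := θ + 2 * Real.pi * l / N

/-- character -/
noncomputable def ee (k : ℤ) (y : ℝ) : ℂ := Complex.exp (Complex.I * (k : ℂ) * (y : ℂ))

theorem ee_add (k k' : ℤ) (y : ℝ) : ee k y * ee k' y = ee (k + k') y := by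
  unfold ee
  rw [← Complex.exp_add]
  congr 1
  push_cast
  ring

theorem ee_zero (y : ℝ) : ee 0 y = 1 := by
  unfold ee
  simp

theorem orth (N : ℕ) (hN : 0 < N) (θ : ℝ) (k : ℤ) (hk : |k| < N) :
    ∑ l ∈ Finset.range N, ee k (smp N θ l) = if k = 0 then (N : ℂ) else 0 := by
  split_ifs with h0
  · subst h0
    simp [ee_zero]
  · have hNC : (N : ℂ) ≠ 0 := by exact_mod_cast hN.ne'
    set ζ : ℂ := Complex.exp (2 * Real.pi * Complex.I * (k : ℂ) / (N : ℂ)) with hζ
    have hterm : ∀ l : ℕ, ee k (smp N θ l) = ee k θ * ζ ^ l := by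
      intro l
      unfold ee smp
      rw [hζ, ← Complex.exp_nat_mul, ← Complex.exp_add]
      congr 1
      push_cast
      field_simp
    simp_rw [hterm]
    rw [← Finset.mul_sum]
    have hpow : ζ ^ N = 1 := by
      rw [hζ, ← Complex.exp_nat_mul]
      have : (N : ℂ) * (2 * Real.pi * Complex.I * (k : ℂ) / (N : ℂ)) = (k : ℂ) * (2 * Real.pi * Complex.I) := by
        field_simp
      rw [this]
      exact Complex.exp_int_mul_two_pi_mul_I k
    have hne : ζ ≠ 1 := by
      intro h1
      rw [hζ, Complex.exp_eq_one_iff] at h1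
      obtain ⟨n, hn⟩ := h1
      have hpi : (2 * (Real.pi : ℂ) * Complex.I) ≠ 0 := by
        simp [Real.pi_ne_zero]
      have h2 : (k : ℂ) = (n : ℂ) * (N : ℂ) := by
        field_simp at hn
        linear_combination hn
      have h4 : k = n * (N : ℤ) := by exact_mod_cast h2
      have hdvd : (N : ℤ) ∣ k := ⟨n, by rw [h4]; ring⟩
      exact h0 (Int.eq_zero_of_abs_lt_dvd hdvd hk)
    rw [geom_sum_eq hne, hpow, sub_self, zero_div, mul_zero]

/-- sampling identity -/
theorem gen (m N : ℕ) (hN : 0 < N) (hmN : 2 * m ≤ N) (t : ℤ → ℂ) (x : Fin m → ℂ) (θ : ℝ) :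
    ∑ l ∈ Finset.range N,
      (∑ i : Fin m, star (x i) * ee (i : ℤ) (smp N θ l)) *
      (∑ k ∈ Finset.Ioo (-(m : ℤ)) (m : ℤ), t k * ee k (smp N θ l)) *
      (∑ j : Fin m, x j * ee (-(j : ℤ)) (smp N θ l))
    = (N : ℂ) * ∑ i : Fin m, ∑ j : Fin m, star (x i) * t ((j : ℤ) - (i : ℤ)) * x j := by
  have h1 : ∀ y : ℝ,
      (∑ i : Fin m, star (x i) * ee (i : ℤ) y) *
      (∑ k ∈ Finset.Ioo (-(m : ℤ)) (m : ℤ), t k * ee k y) *
      (∑ j : Fin m, x j * ee (-(j : ℤ)) y)
      = ∑ i : Fin m, ∑ j : Fin m, ∑ k ∈ Finset.Ioo (-(m : ℤ)) (m : ℤ),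
          star (x i) * t k * x j * ee ((i : ℤ) + k - (j : ℤ)) y := by
    intro y
    rw [Finset.sum_mul_sum, Finset.sum_mul]
    apply Finset.sum_congr rfl
    intro i _
    rw [Finset.sum_mul, Finset.sum_comm]
    apply Finset.sum_congr rfl
    intro k _
    rw [Finset.mul_sum]
    apply Finset.sum_congr rfl
    intro j _
    have : ee ((i : ℤ) + k - (j : ℤ)) y = ee (i : ℤ) y * ee k y * ee (-(j : ℤ)) y := by
      rw [ee_add, ee_add]
      congr 1
    rw [this]
    ring
  simp_rw [h1]
  rw [Finset.sum_comm, Finset.mul_sum]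
  apply Finset.sum_congr rfl
  intro i _
  rw [Finset.sum_comm, Finset.mul_sum]
  apply Finset.sum_congr rfl
  intro j _
  rw [Finset.sum_comm]
  have h2 : ∀ k ∈ Finset.Ioo (-(m : ℤ)) (m : ℤ),
      ∑ l ∈ Finset.range N, star (x i) * t k * x j * ee ((i : ℤ) + k - (j : ℤ)) (smp N θ l)
      = if k = (j : ℤ) - (i : ℤ) then (N : ℂ) * (star (x i) * t k * x j) else 0 := by
    intro k hk
    rw [Finset.mem_Ioo] at hk
    rw [← Finset.mul_sum, orth N hN θ _ (by
      have hi := i.2
      have hj := j.2
      rw [abs_lt]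
      constructor <;> omega)]
    by_cases hkk : k = (j : ℤ) - (i : ℤ)
    · rw [if_pos hkk, if_pos (by omega)]
      ring
    · rw [if_neg hkk, if_neg (by omega), mul_zero]
  rw [Finset.sum_congr rfl h2, Finset.sum_ite_eq', if_pos]
  rw [Finset.mem_Ioo]
  have hi := i.2
  have hj := j.2
  constructor <;> omega


/-- Let A be an m × m complex Hermitian Toeplitz matrix, with entries A i j = t (j - i) constant along
diagonals, and let f(y) = Σ_{-m < k < m} t k · exp(i k y) be the trigonometric polynomial attached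
to it. If f has positive real part at every real y outside a countable set, then A is positive
definite (hence nondegenerate). (The source also states the mirror case: f negative off a countable
set gives A negative definite, which is this statement for -A.) -/
theorem result
    (m : ℕ) (t : ℤ → ℂ) (A : Matrix (Fin m) (Fin m) ℂ)
    (hA : ∀ i j : Fin m, A i j = t ((j : ℤ) - (i : ℤ))) (hH : A.IsHermitian)
    (hpos : Set.Countable {y : ℝ | ¬ 0 < (∑ k ∈ Finset.Ioo (-(m : ℤ)) (m : ℤ),
        t k * Complex.exp (Complex.I * (k : ℂ) * (y : ℂ))).re}) :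
    A.PosDef := by
  classical
  apply Matrix.PosDef.of_dotProduct_mulVec_pos hH
  intro x hx
  set N : ℕ := 2 * m + 1 with hNdef
  have hN : 0 < N := by omega
  have hmN : 2 * m ≤ N := by omega
  set S : Set ℝ := {y : ℝ | ¬ 0 < (∑ k ∈ Finset.Ioo (-(m : ℤ)) (m : ℤ),
        t k * Complex.exp (Complex.I * (k : ℂ) * (y : ℂ))).re} with hS
  -- choose θ
  have hθ : ∃ θ : ℝ, ∀ l ∈ Finset.range N, smp N θ l ∉ S := by
    by_contra hcon
    push Not at hcon
    have hcov : (Set.univ : Set ℝ) ⊆ ⋃ l ∈ (Finset.range N : Set ℕ), (fun θ => smp N θ l) ⁻¹' S := by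
      intro θ _
      obtain ⟨l, hl, h⟩ := hcon θ
      exact Set.mem_biUnion (Finset.mem_coe.2 hl) h
    have hcount : (⋃ l ∈ (Finset.range N : Set ℕ), (fun θ => smp N θ l) ⁻¹' S).Countable := by
      apply Set.Countable.biUnion (Finset.countable_toSet _)
      intro l _
      apply hpos.preimage_of_injOn
      intro a _ b _ hab
      simp only [smp] at hab
      linarith
    exact Cardinal.not_countable_real (hcount.mono hcov)
  obtain ⟨θ, hθ⟩ := hθ
  set q : ℝ → ℂ := fun y => ∑ j : Fin m, x j * ee (-(j : ℤ)) y with hq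
  set f : ℝ → ℂ := fun y => ∑ k ∈ Finset.Ioo (-(m : ℤ)) (m : ℤ), t k * ee k y with hf
  have hfpos : ∀ l ∈ Finset.range N, 0 < (f (smp N θ l)).re := by
    intro l hl
    have := hθ l hl
    simp only [hS, Set.mem_ofPred_eq, not_not] at this
    exact this
  have hqbar : ∀ y : ℝ, ∑ i : Fin m, star (x i) * ee (i : ℤ) y = star (q y) := by
    intro y
    simp only [hq, star_sum, star_mul']
    apply Finset.sum_congr rfl
    intro i _
    congr 1
    unfold ee
    rw [Complex.star_def, ← Complex.exp_conj]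
    congr 1
    simp only [map_mul, Complex.conj_I, Complex.conj_ofReal, map_intCast, Int.cast_neg, map_neg]
    ring
  have hz : star x ⬝ᵥ A.mulVec x
      = ∑ i : Fin m, ∑ j : Fin m, star (x i) * t ((j : ℤ) - (i : ℤ)) * x j := by
    simp only [dotProduct, Matrix.mulVec, Pi.star_apply, Finset.mul_sum]
    apply Finset.sum_congr rfl
    intro i _
    apply Finset.sum_congr rfl
    intro j _
    rw [hA]
    ring
  have key : (N : ℂ) * (star x ⬝ᵥ A.mulVec x)
      = ∑ l ∈ Finset.range N, ((Complex.normSq (q (smp N θ l)) : ℝ) : ℂ) * f (smp N θ l) := by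
    rw [hz, ← gen m N hN hmN t x θ]
    apply Finset.sum_congr rfl
    intro l _
    rw [hqbar, Complex.normSq_eq_conj_mul_self, Complex.star_def]
    ring
  have hre : (N : ℝ) * (star x ⬝ᵥ A.mulVec x).re
      = ∑ l ∈ Finset.range N, Complex.normSq (q (smp N θ l)) * (f (smp N θ l)).re := by
    have := congrArg Complex.re key
    rw [Complex.re_sum] at this
    simp only [Complex.re_ofReal_mul] at this
    rw [← this]
    have : ((N : ℂ) * (star x ⬝ᵥ A.mulVec x)).re = (N : ℝ) * (star x ⬝ᵥ A.mulVec x).re := by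
      rw [show (N : ℂ) = ((N : ℝ) : ℂ) by push_cast; rfl, Complex.re_ofReal_mul]
    rw [this]
  -- some sample point with q ≠ 0
  have hex : ∃ l ∈ Finset.range N, q (smp N θ l) ≠ 0 := by
    by_contra hcon
    push Not at hcon
    have hgen' := gen m N hN hmN (fun k => if k = 0 then (1 : ℂ) else 0) x θ
    have h0 : ∑ l ∈ Finset.range N,
        (∑ i : Fin m, star (x i) * ee (i : ℤ) (smp N θ l)) *
        (∑ k ∈ Finset.Ioo (-(m : ℤ)) (m : ℤ), (fun k => if k = 0 then (1 : ℂ) else 0) k * ee k (smp N θ l)) *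
        (∑ j : Fin m, x j * ee (-(j : ℤ)) (smp N θ l)) = 0 := by
      apply Finset.sum_eq_zero
      intro l hl
      have := hcon l hl
      simp only [hq] at this
      rw [this, mul_zero]
    rw [h0] at hgen'
    have h1 : ∑ i : Fin m, ∑ j : Fin m,
        star (x i) * (fun k : ℤ => if k = 0 then (1 : ℂ) else 0) ((j : ℤ) - (i : ℤ)) * x j
        = ((∑ i : Fin m, Complex.normSq (x i) : ℝ) : ℂ) := by
      push_cast
      apply Finset.sum_congr rfl
      intro i _
      rw [Finset.sum_eq_single i]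
      · simp only [sub_self, if_true, mul_one]
        rw [Complex.normSq_eq_conj_mul_self, Complex.star_def]
      · intro j _ hne
        have : ¬ ((j : ℤ) - (i : ℤ) = 0) := by
          intro h
          apply hne
          apply Fin.ext
          omega
        simp only [this, if_false, mul_zero, zero_mul]
      · intro h
        exact absurd (Finset.mem_univ _) h
    rw [h1] at hgen'
    have hNC : (N : ℂ) ≠ 0 := by exact_mod_cast hN.ne'
    have h2 : ((∑ i : Fin m, Complex.normSq (x i) : ℝ) : ℂ) = 0 := by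
      rcases mul_eq_zero.1 hgen'.symm with h | h
      · exact absurd h hNC
      · exact h
    have h3 : ∑ i : Fin m, Complex.normSq (x i) = 0 := by exact_mod_cast h2
    have h4 := (Finset.sum_eq_zero_iff_of_nonneg (fun i _ => Complex.normSq_nonneg (x i))).1 h3
    apply hx
    funext i
    exact Complex.normSq_eq_zero.1 (h4 i (Finset.mem_univ _))
  have hsumpos : 0 < ∑ l ∈ Finset.range N,
      Complex.normSq (q (smp N θ l)) * (f (smp N θ l)).re := by
    obtain ⟨l₀, hl₀, hq0⟩ := hex
    apply Finset.sum_pos'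
    · intro l hl
      exact mul_nonneg (Complex.normSq_nonneg _) (hfpos l hl).le
    · exact ⟨l₀, hl₀, mul_pos (Complex.normSq_pos.2 hq0) (hfpos l₀ hl₀)⟩
  rw [Complex.pos_iff]
  constructor
  · rw [← hre] at hsumpos
    have hNR : (0 : ℝ) < N := by exact_mod_cast hN
    exact (mul_pos_iff_of_pos_left hNR).1 hsumpos
  · -- imaginary part zero by Hermitian
    have hstar : star (star x ⬝ᵥ A.mulVec x) = star x ⬝ᵥ A.mulVec x := by
      symm
      conv_lhs => rw [Matrix.star_dotProduct, Matrix.star_mulVec, hH.eq, ← Matrix.dotProduct_mulVec]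
    have := Complex.conj_eq_iff_im.1 hstar
    exact this.symm

end Groth.Agent.S19019
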