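import Groth.Statements.S19020
import Mathlib.Tactic
import Mathlib.Data.Nat.Choose.Vandermonde
import Mathlib.Algebra.Order.Star.Real
-- import your own Groth.Agent.* helpers here

set_option autoImplicit false
open Toeplitz

namespace Groth.Agent.S19020

/-- Vandermonde in shifted form. -/
theorem core (n k N : ℕ) (hN : n < N + k) :
    ∑ a ∈ Finset.range N, (n.choose (a + k)) * (n.choose a) = (2 * n).choose (n + k) := by
  rcases le_or_gt k n with hk | hk
  · -- restrict to range (n - k + 1)
    have hsub : Finset.range (n - k + 1) ⊆ Finset.range N := by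
      exact Finset.range_mono (by omega)
    rw [← Finset.sum_subset hsub]
    · have h1 : (2 * n).choose (n + k) = (2 * n).choose (n - k) := by
        rw [← Nat.choose_symm (by omega : n + k ≤ 2 * n)]
        congr 1; omega
      rw [h1, two_mul, Nat.add_choose_eq, Finset.Nat.sum_antidiagonal_eq_sum_range_succ_mk]
      apply Finset.sum_congr rfl
      intro a ha
      rw [Finset.mem_range] at ha
      simp only
      rw [mul_comm]
      congr 1
      rw [← Nat.choose_symm (by omega : a + k ≤ n)]
      congr 1; omega
    · intro a _ ha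
      rw [Finset.mem_range, not_lt] at ha
      rw [Nat.choose_eq_zero_of_lt (by omega : n < a + k), zero_mul]
  · rw [Nat.choose_eq_zero_of_lt (by omega : 2 * n < n + k)]
    apply Finset.sum_eq_zero
    intro a _
    rw [Nat.choose_eq_zero_of_lt (by omega : n < a + k), zero_mul]

/-- The Gram identity, for `i ≤ j`. -/
theorem gram_le (n m i j : ℕ) (hij : i ≤ j) (hj : j < m) :
    ∑ l ∈ Finset.range (m + n),
      (if i ≤ l then n.choose (l - i) else 0) * (if j ≤ l then n.choose (l - j) else 0)
      = (2 * n).choose (n + (j - i)) := by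
  have hmn : m + n = j + (m + n - j) := by omega
  rw [hmn, Finset.sum_range_add]
  have h0 : ∑ l ∈ Finset.range j,
      (if i ≤ l then n.choose (l - i) else 0) * (if j ≤ l then n.choose (l - j) else 0) = 0 := by
    apply Finset.sum_eq_zero
    intro l hl
    rw [Finset.mem_range] at hl
    rw [if_neg (by omega : ¬ j ≤ l), mul_zero]
  rw [h0, zero_add, ← core n (j - i) (m + n - j) (by omega)]
  apply Finset.sum_congr rfl
  intro a _
  rw [if_pos (by omega : i ≤ j + a), if_pos (by omega : j ≤ j + a)]
  congr 2 <;> omega

theorem gram (n m i j : ℕ) (hi : i < m) (hj : j < m) :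
    ∑ l ∈ Finset.range (m + n),
      (if i ≤ l then n.choose (l - i) else 0) * (if j ≤ l then n.choose (l - j) else 0)
      = (2 * n).choose (n + Nat.dist i j) := by
  rcases le_total i j with h | h
  · rw [gram_le n m i j h hj, Nat.dist_eq_sub_of_le h]
  · rw [Nat.dist_comm, Nat.dist_eq_sub_of_le h, ← gram_le n m j i h hi]
    apply Finset.sum_congr rfl
    intro l _
    rw [mul_comm]


/-- For natural numbers n and m, the m × m real Toeplitz matrix with (i, j) entry (-1)^(i+j) · C(2n, n +
|i - j|), i.e. with t_k = (-1)^k C(2n, n + k) on the k-th diagonal for |k| ≤ n and zero beyond, is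
positive definite; in particular it is nondegenerate, which is the printed assertion (positive
definiteness is what the printed proof establishes; m = 0 is the empty matrix). -/
theorem result (n m : ℕ) :
    (Matrix.of fun i j : Fin m =>
        (-1 : ℝ) ^ ((i : ℕ) + (j : ℕ)) * (Nat.choose (2 * n) (n + Nat.dist i j) : ℝ)).PosDef := by
  classical
  set B : Matrix (Fin (m + n)) (Fin m) ℝ := Matrix.of fun l i =>
    if (i : ℕ) ≤ (l : ℕ) then (-1 : ℝ) ^ (i : ℕ) * (n.choose ((l : ℕ) - (i : ℕ)) : ℝ) else 0 with hB
  have hM : (Matrix.of fun i j : Fin m =>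
        (-1 : ℝ) ^ ((i : ℕ) + (j : ℕ)) * (Nat.choose (2 * n) (n + Nat.dist i j) : ℝ))
      = B.conjTranspose * B := by
    ext i j
    rw [Matrix.mul_apply]
    simp only [Matrix.conjTranspose_apply, Matrix.of_apply, star_trivial, hB]
    rw [Fin.sum_univ_eq_sum_range (fun l => (if (i : ℕ) ≤ l then
        (-1 : ℝ) ^ (i : ℕ) * (n.choose (l - (i : ℕ)) : ℝ) else 0) *
      (if (j : ℕ) ≤ l then (-1 : ℝ) ^ (j : ℕ) * (n.choose (l - (j : ℕ)) : ℝ) else 0)) (m + n)]
    rw [← gram n m i j i.2 j.2]
    push_cast
    rw [Finset.mul_sum]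
    apply Finset.sum_congr rfl
    intro l _
    split_ifs <;> ring
  rw [hM]
  apply Matrix.PosDef.conjTranspose_mul_self
  intro x y hxy
  have hz : B.mulVec (x - y) = 0 := by rw [Matrix.mulVec_sub, hxy, sub_self]
  have key : ∀ k : ℕ, ∀ (hk : k < m), (x - y) ⟨k, hk⟩ = 0 := by
    intro k
    induction k using Nat.strong_induction_on with
    | _ k ih =>
      intro hk
      have h1 := congrFun hz ⟨k, by omega⟩
      rw [Matrix.mulVec, dotProduct, Pi.zero_apply] at h1
      rw [Finset.sum_eq_single ⟨k, hk⟩] at h1
      · simp only [hB, Matrix.of_apply, le_refl, if_true, Nat.sub_self, Nat.choose_zero_right,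
          Nat.cast_one, mul_one] at h1
        rcases mul_eq_zero.1 h1 with h2 | h2
        · exact absurd h2 (pow_ne_zero _ (by norm_num))
        · exact h2
      · intro i _ hne
        rcases lt_or_gt_of_ne (fun h => hne (Fin.ext h) : (i : ℕ) ≠ k) with hlt | hgt
        · have := ih i hlt i.2
          rw [show (⟨(i : ℕ), i.2⟩ : Fin m) = i from rfl] at this
          rw [this, mul_zero]
        · simp only [hB, Matrix.of_apply]
          rw [if_neg (by simp; omega), zero_mul]
      · intro h
        exact absurd (Finset.mem_univ _) h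
  have : x - y = 0 := by
    funext i
    exact key i i.2
  exact sub_eq_zero.1 this

end Groth.Agent.S19020
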