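import Groth.Statements.S19021
import Groth.Agent.S19020
import Mathlib.LinearAlgebra.Matrix.ToLinearEquiv
-- import your own Groth.Agent.* helpers here

set_option autoImplicit false
open Toeplitz

namespace Groth.Agent.S19021

/-- For natural numbers n and m, the m × m integer Toeplitz matrix with (i, j) entry (-1)^(i+j) ·
C(2n+1, n+1+i-j) (the binomial coefficient being 0 outside the range 0 ≤ n+1+i-j ≤ 2n+1;
equivalently s_k = (-1)^k C(2n+1, n+k+1) on the diagonal i - j = k for -n-1 ≤ k ≤ n and zero beyond)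
is nondegenerate: its determinant is nonzero (m = 0 is the empty matrix, of determinant 1). -/
theorem result (n m : ℕ) :
    (Matrix.of fun i j : Fin m =>
        (-1 : ℤ) ^ ((i : ℕ) + (j : ℕ)) *
          (if (j : ℕ) ≤ (i : ℕ) then (Nat.choose (2 * n + 1) (n + 1 + ((i : ℕ) - (j : ℕ))) : ℤ)
            else (Nat.choose (2 * n + 1) (n + ((j : ℕ) - (i : ℕ))) : ℤ))).det ≠ 0 := by
  classical
  intro hdet
  set A : Matrix (Fin m) (Fin m) ℤ := Matrix.of fun i j : Fin m =>
        (-1 : ℤ) ^ ((i : ℕ) + (j : ℕ)) *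
          (if (j : ℕ) ≤ (i : ℕ) then (Nat.choose (2 * n + 1) (n + 1 + ((i : ℕ) - (j : ℕ))) : ℤ)
            else (Nat.choose (2 * n + 1) (n + ((j : ℕ) - (i : ℕ))) : ℤ)) with hA
  set Ar : Matrix (Fin m) (Fin m) ℝ := A.map (fun x => (x : ℝ)) with hAr
  have hdetr : Ar.det = 0 := by
    rw [hAr, ← Int.cast_det, hdet, Int.cast_zero]
  obtain ⟨x, hx0, hx⟩ := Matrix.exists_mulVec_eq_zero_iff.2 hdetr
  have hPD := Groth.Agent.S19020.result (n + 1) m
  -- the S19020 matrix is Ar + Arᵀ
  have hsum : (Matrix.of fun i j : Fin m =>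
        (-1 : ℝ) ^ ((i : ℕ) + (j : ℕ)) * (Nat.choose (2 * (n + 1)) (n + 1 + Nat.dist i j) : ℝ))
      = Ar + Ar.transpose := by
    ext i j
    simp only [Matrix.add_apply, Matrix.transpose_apply, hAr, Matrix.map_apply, hA, Matrix.of_apply]
    have h2 : 2 * (n + 1) = (2 * n + 1) + 1 := by ring
    rcases lt_trichotomy (i : ℕ) (j : ℕ) with hlt | heq | hgt
    · rw [if_neg (by omega), if_pos (by omega), Nat.dist_eq_sub_of_le hlt.le, h2,
        show n + 1 + ((j : ℕ) - (i : ℕ)) = (n + ((j : ℕ) - (i : ℕ))) + 1 by ring,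
        Nat.choose_succ_succ', add_comm (j : ℕ) (i : ℕ)]
      push_cast
      ring
    · rw [heq, if_pos le_rfl, Nat.dist_self, Nat.sub_self, add_zero, h2,
        Nat.choose_succ_succ', Nat.choose_symm_half]
      push_cast
      ring
    · rw [if_pos (by omega), if_neg (by omega), Nat.dist_comm, Nat.dist_eq_sub_of_le hgt.le, h2,
        show n + 1 + ((i : ℕ) - (j : ℕ)) = (n + ((i : ℕ) - (j : ℕ))) + 1 by ring,
        Nat.choose_succ_succ', add_comm (j : ℕ) (i : ℕ)]
      push_cast
      ring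
  have hpos := hPD.dotProduct_mulVec_pos hx0
  rw [hsum, Matrix.add_mulVec, dotProduct_add, hx, dotProduct_zero, zero_add,
    Matrix.mulVec_transpose, star_trivial] at hpos
  have : x ⬝ᵥ (Matrix.vecMul x Ar) = 0 := by
    rw [dotProduct_comm, ← Matrix.dotProduct_mulVec, hx, dotProduct_zero]
  rw [this] at hpos
  exact lt_irrefl _ hpos

end Groth.Agent.S19021
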