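import Groth.Statements.S19022
import Groth.Agent.Lib.SemilocalFree2

set_option autoImplicit false
universe u
open CategoryTheory AlgebraicGeometry
open PicF

namespace Groth.Agent.S19022

/-- Let X be a scheme, L an invertible O_X-module and T a finite set of closed points of X that lies in
some affine open of X. Then T lies in an affine open U of X on which L is trivial (L restricted to U
is isomorphic to the structure sheaf). (The source states this for a smooth quasi-projective complex
surface, where every finite set of points lies in an affine open, and phrases it as: X^n and the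
symmetric product S^n X are covered by the opens U^n and S^n U with U affine and L trivial on U; the
printed argument uses only that the finitely many points lie in one affine open, which is taken as
the hypothesis here.) -/
theorem result
    (X : Scheme.{u}) (L : X.Modules) (hL : PicF.IsInvertible L)
    (T : Finset X) (hT : ∀ x ∈ T, IsClosed ({x} : Set X))
    (hU : ∃ U : X.Opens, IsAffineOpen U ∧ ∀ x ∈ T, x ∈ U) :
    ∃ U : X.Opens, IsAffineOpen U ∧ (∀ x ∈ T, x ∈ U) ∧
      Nonempty (L.restrict U.ι ≅ Coh.structureModule (↑U : Scheme.{u})) := by
  obtain ⟨U0, hU0, hTU0⟩ := hU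
  have hL1 := (Groth.Agent.Lib.H90Invertible.isInvertible_iff_isFinLocFreeOfRank_one L).mp hL
  obtain ⟨f, hTf, ⟨e⟩⟩ := Groth.Agent.Lib.SemilocalFree.exists_basicOpen_free_of_finite 1 L hL1
    (T : Set X) T.finite_toSet U0 hU0 (fun x hx => hTU0 x (Finset.mem_coe.mp hx))
  exact ⟨X.basicOpen f, hU0.basicOpen f, fun x hx => hTf (Finset.mem_coe.mpr hx),
    ⟨e ≪≫ Groth.Agent.Lib.H90Invertible.freeModOneIso _⟩⟩

end Groth.Agent.S19022
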