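import Groth.Statements.S19024
-- import your own Groth.Agent.* helpers here

set_option autoImplicit false
open SymIdx

namespace Groth.Agent.S19024

/-- Let a be a map from Fin k to finite subsets of Fin n, R a set of elements of Fin n, and H^R(a) the
set of permutations of Fin k preserving each fibre a⁻¹({r}) for r ∈ R and fixing all other points.
Let τ be a permutation of Fin n carrying R onto itself and τ' a permutation of Fin k that lifts τ on
the singleton fibres (a i = {j} implies a (τ' i) = {τ j}), is increasing on each such fibre, and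
fixes every i for which a i is not a singleton. Then for every g in H^R(a) the conjugate τ' g τ'⁻¹
lies in H^R(a). (In the source τ ranges over the permutations supported on R that preserve the fibre
cardinalities, which is exactly when such a lift exists, the pairs (τ, τ') form the group Δ^R(a),
and the printed consequences — H^R(a) is normalised by Δ^R(a), so the group they generate is a
semidirect product — follow formally from this conjugation statement.) -/
theorem result
    (n k : ℕ) (a : Fin k → Finset (Fin n)) (R : Set (Fin n))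
    (τ : Equiv.Perm (Fin n)) (hτ : ∀ j : Fin n, τ j ∈ R ↔ j ∈ R)
    (τ' : Equiv.Perm (Fin k))
    (h1 : ∀ (i : Fin k) (j : Fin n), a i = {j} → a (τ' i) = {τ j})
    (h2 : ∀ i : Fin k, (∀ j : Fin n, a i ≠ {j}) → τ' i = i)
    (h3 : ∀ (i i' : Fin k) (j : Fin n), a i = {j} → a i' = {j} → i < i' → τ' i < τ' i')
    (g : Equiv.Perm (Fin k))
    (hg1 : ∀ (i : Fin k) (r : Fin n), r ∈ R → a i = {r} → a (g i) = {r})
    (hg2 : ∀ i : Fin k, (∀ r : Fin n, r ∈ R → a i ≠ {r}) → g i = i) :
    (∀ (i : Fin k) (r : Fin n), r ∈ R → a i = {r} → a ((τ' * g * τ'⁻¹) i) = {r}) ∧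
      (∀ i : Fin k, (∀ r : Fin n, r ∈ R → a i ≠ {r}) → (τ' * g * τ'⁻¹) i = i) := by
  have hmul : ∀ i, (τ' * g * τ'⁻¹) i = τ' (g (τ'⁻¹ i)) := fun i => rfl
  constructor
  · intro i r hr hi
    rw [hmul]
    set i' := τ'⁻¹ i with hi'
    have hτi' : τ' i' = i := by rw [hi']; exact Equiv.apply_symm_apply τ' i
    -- a i' is a singleton
    have hsing : ∃ j, a i' = {j} := by
      by_contra hno
      have hno' : ∀ j, a i' ≠ {j} := fun j hj => hno ⟨j, hj⟩
      have := h2 i' hno'
      rw [hτi'] at this
      rw [← this] at hno'
      exact hno' r hi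
    obtain ⟨j, hj⟩ := hsing
    have h4 := h1 i' j hj
    rw [hτi', hi] at h4
    have hτj : τ j = r := (Finset.singleton_injective h4).symm
    have hjR : j ∈ R := (hτ j).1 (by rw [hτj]; exact hr)
    have h5 := hg1 i' j hjR hj
    have h6 := h1 (g i') j h5
    rw [hτj] at h6
    exact h6
  · intro i hi
    rw [hmul]
    set i' := τ'⁻¹ i with hi'
    have hτi' : τ' i' = i := by rw [hi']; exact Equiv.apply_symm_apply τ' i
    have hno : ∀ r, r ∈ R → a i' ≠ {r} := by
      intro r hr hai'
      have h4 := h1 i' r hai'
      rw [hτi'] at h4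
      exact hi (τ r) ((hτ r).2 hr) h4
    rw [hg2 i' hno, hτi']

end Groth.Agent.S19024
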