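import Groth.Statements.S19025
import Mathlib.Tactic
-- import your own Groth.Agent.* helpers here

set_option autoImplicit false
universe u
open HigherRestr

namespace Groth.Agent.S19025

noncomputable section
variable {S : Type u} [CommRing S]

def E : Module.End S (ℕ → S) := LinearMap.funLeft S S (fun n => n + 1)

lemma E_apply (f : ℕ → S) (x : ℕ) : E f x = f (x + 1) := rfl

lemma E_pow_apply (k : ℕ) (f : ℕ → S) (x : ℕ) : (E ^ k) f x = f (x + k) := by
  induction k generalizing f x with
  | zero => simp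
  | succ k ih =>
    rw [pow_succ, Module.End.mul_apply, ih, E_apply]
    rfl

def D : Module.End S (ℕ → S) := E - 1

lemma D_apply (f : ℕ → S) : D f = fwdDiff (1 : ℕ) f := by
  ext x
  simp [D, E_apply, fwdDiff]

lemma D_pow_apply (k : ℕ) (f : ℕ → S) : (D ^ k) f = (fwdDiff (1 : ℕ))^[k] f := by
  induction k generalizing f with
  | zero => rfl
  | succ k ih =>
    rw [pow_succ, Module.End.mul_apply, ih, D_apply, Function.iterate_succ_apply]

lemma commute_E_D : Commute (E : Module.End S (ℕ → S)) D :=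
  (Commute.refl E).sub_right (Commute.one_right E)

lemma op_eq (g₀ g₁ : S) :
    g₁ • (E : Module.End S (ℕ → S)) + (-g₀) • (1 : Module.End S (ℕ → S))
      = g₀ • D + (g₁ - g₀) • E := by
  ext f x
  simp [D, E_apply]
  ring

lemma lhs_eval (g₀ g₁ : S) (N : ℕ) (y : ℕ → S) :
    ((g₁ • (E : Module.End S (ℕ → S)) + (-g₀) • (1 : Module.End S (ℕ → S))) ^ N) y 0
      = (fwdDiff (1 : ℕ))^[N] (fun j : ℕ => g₀ ^ (N - j) * g₁ ^ j * y j) 0 := by
  have hc : Commute (g₁ • (E : Module.End S (ℕ → S))) ((-g₀) • (1 : Module.End S (ℕ → S))) :=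
    ((Commute.one_right E).smul_right _).smul_left _
  rw [hc.add_pow, fwdDiff_iter_eq_sum_shift]
  simp only [LinearMap.sum_apply, Finset.sum_apply]
  apply Finset.sum_congr rfl
  intro m hm
  rw [smul_pow, smul_pow, one_pow]
  simp only [Module.End.mul_apply, LinearMap.smul_apply, Module.End.one_apply,
    Module.End.natCast_apply, Pi.smul_apply, E_pow_apply, zero_add, smul_eq_mul, nsmul_eq_mul,
    zsmul_eq_mul, Pi.natCast_def, Pi.mul_apply]
  rw [mul_one, neg_pow]
  push_cast
  ring

lemma helper (c₁ c₂ : S) (n : ℕ) (A B : Module.End S (ℕ → S)) (y : ℕ → S) :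
    ((c₁ • A) * (c₂ • B) * (n : Module.End S (ℕ → S))) y = (c₁ * c₂ * (n : S)) • (A (B y)) := by
  rw [Module.End.mul_apply, Module.End.mul_apply, Module.End.natCast_apply, LinearMap.smul_apply,
    LinearMap.smul_apply, map_nsmul, map_smul, map_nsmul, ← Nat.cast_smul_eq_nsmul S, smul_smul,
    smul_smul]

lemma rhs_eval (g₀ δ : S) (N : ℕ) (y : ℕ → S) :
    ((g₀ • (D : Module.End S (ℕ → S)) + δ • (E : Module.End S (ℕ → S))) ^ N) y 0
      = ∑ m ∈ Finset.range (N + 1),
          g₀ ^ m * δ ^ (N - m) * (N.choose m : S) * (fwdDiff (1 : ℕ))^[m] y (N - m) := by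
  have hc : Commute (g₀ • (D : Module.End S (ℕ → S))) (δ • (E : Module.End S (ℕ → S))) :=
    ((commute_E_D.symm).smul_right _).smul_left _
  rw [hc.add_pow]
  simp only [LinearMap.sum_apply, Finset.sum_apply]
  apply Finset.sum_congr rfl
  intro m hm
  rw [smul_pow, smul_pow, helper]
  have h1 : (E ^ (N - m)) y = fun r => y (r + (N - m)) := by
    ext r
    rw [E_pow_apply]
  rw [D_pow_apply, h1, Pi.smul_apply, fwdDiff_iter_comp_add, zero_add, smul_eq_mul]

end

/-- In abstract form, the estimate its proof establishes. Let S be a commutative ring, I an ideal of S,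
g₀ and g₁ elements with g₁ - g₀ ∈ I, N a natural number and y a sequence in S such that, for 1 ≤ i ≤
N, the (N-i)-fold unit-step forward difference of y taken at i lies in I^(N-i). Then g₀^N times the
N-fold forward difference of y at 0, minus the N-fold forward difference at 0 of the twisted
sequence j ↦ g₀^(N-j) g₁^j y_j, lies in I^N. (In the source S is the ring of functions on an affine
chart of X^n, I the ideal of a pairwise diagonal, g₀ and g₁ the two pullbacks of a transition unit
of L, and y_j the components x_λ along the compositions a₀^(N-j) a₁^j μ; the estimate is what makes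
the higher order restrictions D^l_L well defined on ker D^(l-1)_L independently of the
trivialisation.) -/
theorem result
    (S : Type u) [CommRing S] (I : Ideal S) (g₀ g₁ : S) (hg : g₁ - g₀ ∈ I)
    (N : ℕ) (y : ℕ → S)
    (hy : ∀ i : ℕ, 1 ≤ i → i ≤ N → (fwdDiff (1 : ℕ))^[N - i] y i ∈ I ^ (N - i)) :
    g₀ ^ N * (fwdDiff (1 : ℕ))^[N] y 0 -
        (fwdDiff (1 : ℕ))^[N] (fun j : ℕ => g₀ ^ (N - j) * g₁ ^ j * y j) 0 ∈ I ^ N := by
  have h1 := lhs_eval g₀ g₁ N y
  rw [op_eq, rhs_eval] at h1
  rw [← h1, Finset.sum_range_succ]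
  have hlast : g₀ ^ N * (g₁ - g₀) ^ (N - N) * (N.choose N : S) * (fwdDiff (1 : ℕ))^[N] y (N - N)
      = g₀ ^ N * (fwdDiff (1 : ℕ))^[N] y 0 := by
    rw [Nat.sub_self, pow_zero, Nat.choose_self, Nat.cast_one, mul_one, mul_one]
  rw [hlast, sub_add_cancel_right]
  apply Ideal.neg_mem_iff _ |>.2
  apply Ideal.sum_mem
  intro m hm
  rw [Finset.mem_range] at hm
  have hi := hy (N - m) (by omega) (by omega)
  have hNm : N - (N - m) = m := by omega
  rw [hNm] at hi
  have h2 : (g₁ - g₀) ^ (N - m) * (fwdDiff (1 : ℕ))^[m] y (N - m) ∈ I ^ N := by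
    have : I ^ (N - m) * I ^ m = I ^ N := by rw [← pow_add]; congr 1; omega
    rw [← this]
    exact Ideal.mul_mem_mul (Ideal.pow_mem_pow hg _) hi
  have h3 : g₀ ^ m * (g₁ - g₀) ^ (N - m) * (N.choose m : S) * (fwdDiff (1 : ℕ))^[m] y (N - m)
      = (g₀ ^ m * (N.choose m : S)) * ((g₁ - g₀) ^ (N - m) * (fwdDiff (1 : ℕ))^[m] y (N - m)) := by
    ring
  rw [h3]
  exact Ideal.mul_mem_left _ _ h2

end Groth.Agent.S19025
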