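import Groth.Statements.S19033
import Groth.Agent.Lib.H87LabGraph
-- import your own Groth.Agent.* helpers here

set_option autoImplicit false
universe u
open LabGraph

namespace Groth.Agent.S19033

open LabGraph in
/-- Let X be a quasi-wp-stable curve of genus g ≥ 2 over an algebraically closed field, encoded by a
weighted multigraph: vertices are the irreducible components C_v, with the weight w v and the loops
at v chosen so that w v plus the number of loops at v is the arithmetic genus of C_v; two distinct
components are joined by one edge for each node and by two edges for each tacnode at which they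
meet. For a set Y of vertices (a subcurve) canDeg Y is then deg_Y ω_X = 2 g_Y − 2 + k_Y and cut Y is
k_Y, the length of the intersection of Y with its complementary subcurve; a vertex is exceptional
(weight zero, loopless, exactly two edges to other vertices) exactly when C_v is an exceptional
component; the twist of the indicator function of Y is the multidegree Σ_{C ⊆ Y} C of the degree
class group construction; and the graph is a connected quasistable graph. Let d, d' be properly
balanced multidegrees of the same total degree D (each satisfies the Basic Inequality 2·|K·d_Y −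
D·canDeg Y| ≤ cut Y·K for every Y, where K = 2g − 2 = canDeg of the whole graph, and takes the value
1 on every exceptional vertex), with d strictly balanced: for every nonempty proper Y with d_Y equal
to the upper extreme, i.e. 2(K·d_Y − D·canDeg Y) = K·cut Y, every edge with exactly one endpoint in
Y has an exceptional endpoint. Suppose d' = d + Σ_i twist(1_{Z_i}) for nested vertex sets Z_1 ⊆ ⋯ ⊆
Z_m, each with d at its upper extreme, such that for j < i no edge joins a vertex of Z_j to a vertex
outside Z_i. Then d = d'. (The source assumes only that d − d' lies in the lattice generated by the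
multidegrees of the components and takes the existence of such a nested family from an earlier paper
it cites without proof; this row carries that description as its hypothesis.) -/
theorem result {V E : Type u} [Fintype V] [Fintype E]
    [DecidableEq V] [DecidableEq E] (ends : E → V × V) (w : V → ℕ) (hX : IsQuasistableGraph ends w)
    (hg : 2 ≤ genus ends w) (d d' : V → ℤ) (hD : ∑ v, d v = ∑ v, d' v)
    (hBI : SatisfiesBI ends w d) (hBI' : SatisfiesBI ends w d')
    (hone : ∀ v : V, IsExceptional ends w v → d v = 1) (hone' : ∀ v : V, IsExceptional ends w v → d' v = 1)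
    (hstrict : ∀ Y : Finset V, Y.Nonempty → Y ≠ Finset.univ →
      2 * (canDeg ends w Finset.univ * (∑ v ∈ Y, d v) - (∑ v, d v) * canDeg ends w Y)
          = (cut ends Y : ℤ) * canDeg ends w Finset.univ →
      ∀ e : E, (((ends e).1 ∈ Y ∧ (ends e).2 ∉ Y) ∨ ((ends e).1 ∉ Y ∧ (ends e).2 ∈ Y)) →
        (IsExceptional ends w (ends e).1 ∨ IsExceptional ends w (ends e).2))
    (m : ℕ) (Z : Fin m → Finset V) (hmono : ∀ i j : Fin m, i ≤ j → Z i ⊆ Z j)
    (hext : ∀ i : Fin m, 2 * (canDeg ends w Finset.univ * (∑ v ∈ Z i, d v) - (∑ v, d v) * canDeg ends w (Z i))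
          = (cut ends (Z i) : ℤ) * canDeg ends w Finset.univ)
    (hsep : ∀ i j : Fin m, j < i → ∀ e : E,
      ¬ (((ends e).1 ∈ Z j ∧ (ends e).2 ∉ Z i) ∨ ((ends e).2 ∈ Z j ∧ (ends e).1 ∉ Z i)))
    (hsum : ∀ v : V, d' v = d v + ∑ i : Fin m, twist ends (fun u => if u ∈ Z i then (1 : ℤ) else 0) v) :
    d = d' := by
  classical
  have hK : 0 < canDeg ends w Finset.univ := by
    rw [Groth.Agent.Lib.H87LabGraph.canDeg_univ]
    linarith
  -- the predicate "nonempty proper"
  by_cases hP : ∃ i : Fin m, (Z i).Nonempty ∧ Z i ≠ Finset.univ
  · exfalso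
    -- minimal such index
    obtain ⟨i₁, hi₁, hmin⟩ : ∃ i₁ : Fin m, ((Z i₁).Nonempty ∧ Z i₁ ≠ Finset.univ) ∧
        ∀ i : Fin m, i < i₁ → ¬ ((Z i).Nonempty ∧ Z i ≠ Finset.univ) := by
      obtain ⟨i₀, hi₀⟩ := hP
      set F : Finset (Fin m) :=
        Finset.univ.filter (fun i : Fin m => (Z i).Nonempty ∧ Z i ≠ Finset.univ) with hF
      have hne : F.Nonempty := ⟨i₀, by rw [hF, Finset.mem_filter]; exact ⟨Finset.mem_univ _, hi₀⟩⟩
      have hmem := Finset.min'_mem F hne
      have hmem2 := (Finset.mem_filter.1 hmem).2
      refine ⟨Finset.min' F hne, hmem2, ?_⟩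
      intro i hi hPi
      have hiF : i ∈ F := by rw [hF, Finset.mem_filter]; exact ⟨Finset.mem_univ _, hPi⟩
      have := Finset.min'_le F i hiF
      exact absurd hi (not_lt.2 this)
    obtain ⟨hne₁, hnu₁⟩ := hi₁
    have hempty : ∀ i : Fin m, i < i₁ → Z i = ∅ := by
      intro i hi
      have h := hmin i hi
      by_contra hne
      have hne' : (Z i).Nonempty := Finset.nonempty_iff_ne_empty.2 hne
      have : Z i = Finset.univ := by
        by_contra hh
        exact h ⟨hne', hh⟩
      apply hnu₁
      apply Finset.eq_univ_iff_forall.2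
      intro v
      exact hmono i i₁ hi.le (this ▸ Finset.mem_univ v)
    obtain ⟨e, he⟩ := Groth.Agent.Lib.H87LabGraph.exists_crossing ends hX.1.1 (Z i₁) hne₁ hnu₁
    have hexc := hstrict (Z i₁) hne₁ hnu₁ (hext i₁) e he
    -- general claims
    have caseIn : ∀ x : V, IsExceptional ends w x → x ∈ Z i₁ →
        (((ends e).1 = x ∧ (ends e).2 ∉ Z i₁) ∨ ((ends e).2 = x ∧ (ends e).1 ∉ Z i₁)) → False := by
      intro x hx hxZ hedge
      have hsumx := hsum x
      rw [hone x hx, hone' x hx] at hsumx
      have hle : ∑ i : Fin m, twist ends (fun u => if u ∈ Z i then (1 : ℤ) else 0) x ≤ -1 := by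
        rw [← Finset.add_sum_erase _ _ (Finset.mem_univ i₁)]
        have h1 := Groth.Agent.Lib.H87LabGraph.twist_ind_neg ends (Z i₁) hxZ e hedge
        have h2 : ∑ i ∈ Finset.univ.erase i₁,
            twist ends (fun u => if u ∈ Z i then (1 : ℤ) else 0) x ≤ 0 := by
          apply Finset.sum_nonpos
          intro i _
          rcases lt_or_ge i i₁ with hlt | hge
          · rw [hempty i hlt]
            exact le_of_eq (Groth.Agent.Lib.H87LabGraph.twist_ind_empty ends x)
          · exact Groth.Agent.Lib.H87LabGraph.twist_ind_nonpos ends (Z i) (hmono i₁ i hge hxZ)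
        linarith
      linarith
    have caseOut : ∀ x o : V, IsExceptional ends w x → x ∉ Z i₁ → o ∈ Z i₁ →
        (ends e = (x, o) ∨ ends e = (o, x)) → False := by
      intro x o hx hxZ ho hedge
      have hcut := Groth.Agent.Lib.H87LabGraph.cut_insert_le ends w hx hxZ ho e hedge
      have hcan := Groth.Agent.Lib.H87LabGraph.canDeg_insert_exceptional ends w hx hxZ
      have hbi := hBI (insert x (Z i₁))
      rw [hcan, Finset.sum_insert hxZ, hone x hx] at hbi
      have hext₁ := hext i₁
      have habs := le_abs_self (canDeg ends w Finset.univ * (1 + ∑ v ∈ Z i₁, d v) -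
        (∑ v, d v) * canDeg ends w (Z i₁))
      have hcut' : (cut ends (insert x (Z i₁)) : ℤ) ≤ (cut ends (Z i₁) : ℤ) := by
        exact_mod_cast hcut
      have := mul_le_mul_of_nonneg_right hcut' hK.le
      nlinarith
    rcases he with ⟨h1, h2⟩ | ⟨h1, h2⟩
    · rcases hexc with hx | hx
      · exact caseIn _ hx h1 (Or.inl ⟨rfl, h2⟩)
      · exact caseOut _ _ hx h2 h1 (Or.inr (Prod.ext rfl rfl))
    · rcases hexc with hx | hx
      · exact caseOut _ _ hx h1 h2 (Or.inl (Prod.ext rfl rfl))
      · exact caseIn _ hx h2 (Or.inr ⟨rfl, h1⟩)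
  · -- all Z i are empty or everything: twists vanish
    push Not at hP
    funext v
    rw [hsum v]
    have : ∑ i : Fin m, twist ends (fun u => if u ∈ Z i then (1 : ℤ) else 0) v = 0 := by
      apply Finset.sum_eq_zero
      intro i _
      by_cases hne : (Z i).Nonempty
      · rw [hP i hne]
        exact Groth.Agent.Lib.H87LabGraph.twist_ind_univ ends v
      · rw [Finset.not_nonempty_iff_eq_empty.1 hne]
        exact Groth.Agent.Lib.H87LabGraph.twist_ind_empty ends v
    rw [this, add_zero]

end Groth.Agent.S19033
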