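import Groth.Statements.S19034
import Groth.Agent.Lib.H87LabGraph
-- import your own Groth.Agent.* helpers here

set_option autoImplicit false
universe u
open LabGraph

namespace Groth.Agent.S19034

open LabGraph Groth.Agent.Lib.H87LabGraph in
theorem cut_hat_le {V E : Type u} [Fintype V] [Fintype E] [DecidableEq V] [DecidableEq E]
    (ends : E → V × V) (w : V → ℕ) (hZ : IsQuasistableGraph ends w) (S : Finset V)
    (hS : ∀ v ∈ S, IsExceptional ends w v) (Y W What : Finset V)
    (hW : ∀ v, v ∈ W ↔ v ∈ Y ∧ v ∉ S)
    (hWhat : ∀ v, v ∈ What ↔ (v ∈ W ∨ (v ∈ S ∧ ∀ e : E,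
      ((ends e).1 = v → (ends e).2 ∈ W) ∧ ((ends e).2 = v → (ends e).1 ∈ W)))) :
    cut ends What ≤ cut ends Y := by
  classical
  have key : ∀ U : Finset V, U ⊆ S →
      cut ends (Finset.univ.filter (fun v => if v ∈ U then v ∈ What else v ∈ Y)) ≤ cut ends Y := by
    intro U
    induction U using Finset.induction_on with
    | empty =>
      intro _
      have : Finset.univ.filter (fun v => if v ∈ (∅ : Finset V) then v ∈ What else v ∈ Y) = Y := by
        ext v; simp
      rw [this]
    | insert s U' hs ih =>
      intro hsub
      have hU' : U' ⊆ S := (Finset.insert_subset_iff.1 hsub).2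
      have hsS : s ∈ S := (Finset.insert_subset_iff.1 hsub).1
      refine le_trans ?_ (ih hU')
      set T' := Finset.univ.filter (fun v => if v ∈ U' then v ∈ What else v ∈ Y) with hT'
      set T := Finset.univ.filter (fun v => if v ∈ insert s U' then v ∈ What else v ∈ Y) with hT
      have hmemT' : ∀ v, v ∈ T' ↔ (if v ∈ U' then v ∈ What else v ∈ Y) := by
        intro v; rw [hT', Finset.mem_filter]; simp
      have hmemT : ∀ v, v ∈ T ↔ (if v ∈ insert s U' then v ∈ What else v ∈ Y) := by
        intro v; rw [hT, Finset.mem_filter]; simp
      have hsT' : s ∈ T' ↔ s ∈ Y := by rw [hmemT', if_neg hs]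
      have hsT : s ∈ T ↔ s ∈ What := by rw [hmemT, if_pos (Finset.mem_insert_self _ _)]
      have hother : ∀ v, v ≠ s → (v ∈ T ↔ v ∈ T') := by
        intro v hv
        rw [hmemT, hmemT']
        simp only [Finset.mem_insert, hv, false_or]
      have hsW : s ∉ W := fun h => ((hW s).1 h).2 hsS
      have hsx := hS s hsS
      by_cases h1 : s ∈ What <;> by_cases h2 : s ∈ Y
      · have : T = T' := by
          ext v
          by_cases hv : v = s
          · subst hv; rw [hsT, hsT']; tauto
          · exact hother v hv
        rw [this]
      · -- add s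
        have hTeq : T = insert s T' := by
          ext v
          by_cases hv : v = s
          · subst hv; rw [hsT]; simp [h1]
          · rw [hother v hv, Finset.mem_insert]; tauto
        rw [hTeq]
        obtain ⟨e, o, hos, he⟩ := exists_edge_of_isExceptional ends w hsx
        have hall := ((hWhat s).1 h1).resolve_left hsW
        have hoW : o ∈ W := by
          rcases he with h | h
          · have := (hall.2 e).1 (by rw [h])
            rw [h] at this; exact this
          · have := (hall.2 e).2 (by rw [h])
            rw [h] at this; exact this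
        have hoY := (hW o).1 hoW
        have hoT' : o ∈ T' := by
          rw [hmemT', if_neg (fun h => hoY.2 (hU' h))]
          exact hoY.1
        exact cut_insert_le ends w hsx (by rw [hsT']; exact h2) hoT' e he
      · -- remove s
        have hTeq : T = T'.erase s := by
          ext v
          by_cases hv : v = s
          · subst hv; rw [hsT]; simp [h1]
          · rw [hother v hv, Finset.mem_erase]; tauto
        rw [hTeq]
        have hnot : ¬ ∀ e : E, ((ends e).1 = s → (ends e).2 ∈ W) ∧ ((ends e).2 = s → (ends e).1 ∈ W) := by
          intro hall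
          exact h1 ((hWhat s).2 (Or.inr ⟨hsS, hall⟩))
        push Not at hnot
        obtain ⟨e, he⟩ := hnot
        -- other endpoint
        have hex : ∃ o : V, o ∉ W ∧ (ends e = (s, o) ∨ ends e = (o, s)) := by
          by_cases ha : (ends e).1 = s
          · by_cases hb : (ends e).2 ∈ W
            · have hc := he (fun _ => hb)
              exact ⟨(ends e).1, hc.2, Or.inr (Prod.ext rfl hc.1)⟩
            · exact ⟨(ends e).2, hb, Or.inl (Prod.ext ha rfl)⟩
          · have hc := he (fun h => absurd h ha)
            exact ⟨(ends e).1, hc.2, Or.inr (Prod.ext rfl hc.1)⟩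
        obtain ⟨o, hoW, heo⟩ := hex
        have hos : o ≠ s := by
          rintro rfl
          rcases heo with h | h <;> exact hsx.2.1 e h
        have hoS : o ∉ S := by
          intro hoS
          have hox := hS o hoS
          rcases heo with h | h
          · exact hZ.2 e (by rw [h]; exact hos.symm) (by rw [h]; exact ⟨hsx, hox⟩)
          · exact hZ.2 e (by rw [h]; exact hos) (by rw [h]; exact ⟨hox, hsx⟩)
        have hoY : o ∉ Y := fun h => hoW ((hW o).2 ⟨h, hoS⟩)
        have hoT' : o ∉ T' := by
          rw [hmemT', if_neg (fun h => hoS (hU' h))]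
          exact hoY
        exact cut_erase_le ends w hsx (by rw [hsT']; exact h2) hoT' e heo
      · have : T = T' := by
          ext v
          by_cases hv : v = s
          · subst hv; rw [hsT, hsT']; tauto
          · exact hother v hv
        rw [this]
  have hfin : Finset.univ.filter (fun v => if v ∈ S then v ∈ What else v ∈ Y) = What := by
    ext v
    rw [Finset.mem_filter]
    simp only [Finset.mem_univ, true_and]
    by_cases hv : v ∈ S
    · rw [if_pos hv]
    · rw [if_neg hv, hWhat, hW]
      tauto
  rw [← hfin]
  exact key S (Finset.Subset.refl S)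

open LabGraph Groth.Agent.Lib.H87LabGraph in
theorem bi_of {V E : Type u} [Fintype V] [Fintype E] [DecidableEq V] [DecidableEq E]
    (ends : E → V × V) (w : V → ℕ) (hZ : IsQuasistableGraph ends w)
    (hg : 2 ≤ genus ends w) (S : Finset V) (hS : ∀ v ∈ S, IsExceptional ends w v)
    (dt : V → ℤ) (hzero : ∀ v ∈ S, dt v = 0) (Y W What : Finset V)
    (hW : ∀ v, v ∈ W ↔ v ∈ Y ∧ v ∉ S)
    (hWhat : ∀ v, v ∈ What ↔ (v ∈ W ∨ (v ∈ S ∧ ∀ e : E,
      ((ends e).1 = v → (ends e).2 ∈ W) ∧ ((ends e).2 = v → (ends e).1 ∈ W))))
    (hbi : 2 * |canDeg ends w Finset.univ * (∑ v ∈ W, dt v) - (∑ v, dt v) * canDeg ends w What|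
        ≤ (cut ends What : ℤ) * canDeg ends w Finset.univ) :
    2 * |canDeg ends w Finset.univ * (∑ v ∈ Y, dt v) - (∑ v : V, dt v) * canDeg ends w Y|
      ≤ (cut ends Y : ℤ) * canDeg ends w Finset.univ := by
  classical
  have hK : 0 ≤ canDeg ends w Finset.univ := by
    rw [canDeg_univ]; linarith
  have hWeq : W = Y.filter (fun v => v ∉ S) := by
    ext v; rw [hW, Finset.mem_filter]
  have hsum : ∑ v ∈ Y, dt v = ∑ v ∈ W, dt v := by
    rw [hWeq]
    symm
    apply Finset.sum_filter_of_ne
    intro v _ hne hvS
    exact hne (hzero v hvS)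
  have hc0 : ∀ v ∈ S, (2 * (w v : ℤ) - 2 + (endCount ends Finset.univ v : ℤ)) = 0 := by
    intro v hv
    have hx := hS v hv
    rw [endCount_of_isExceptional ends w hx, hx.1]
    norm_num
  have hcanY : canDeg ends w Y = canDeg ends w W := by
    unfold canDeg
    rw [hWeq]
    symm
    apply Finset.sum_filter_of_ne
    intro v _ hne hvS
    exact hne (hc0 v hvS)
  have hWeq' : W = What.filter (fun v => v ∉ S) := by
    ext v
    rw [Finset.mem_filter, hWhat]
    constructor
    · intro h; exact ⟨Or.inl h, ((hW v).1 h).2⟩
    · rintro ⟨h | h, h'⟩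
      · exact h
      · exact absurd h.1 h'
  have hcanW : canDeg ends w What = canDeg ends w W := by
    unfold canDeg
    rw [hWeq']
    symm
    apply Finset.sum_filter_of_ne
    intro v _ hne hvS
    exact hne (hc0 v hvS)
  rw [hsum, hcanY, ← hcanW]
  refine hbi.trans ?_
  have hcut := cut_hat_le ends w hZ S hS Y W What hW hWhat
  have hcut' : (cut ends What : ℤ) ≤ (cut ends Y : ℤ) := by exact_mod_cast hcut
  exact mul_le_mul_of_nonneg_right hcut' hK

open LabGraph in
/-- Let σ : Z → X be the contraction of some exceptional components of a quasi-wp-stable curve Z of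
genus g ≥ 2 onto a quasi-wp-stable curve X, and d a properly balanced multidegree on X; then the
pull-back d̃ of d to Z (d̃_W = d_{σ(W)} when σ(W) is a curve, d̃ = 0 on contracted components) is
balanced. Encode Z by its weighted multigraph (vertices = irreducible components, weight plus number
of loops = arithmetic genus of the component, one edge per node and two per tacnode joining distinct
components; canDeg Y = deg_Y ω_Z, cut Y = k_Y, K = canDeg of all vertices = 2g − 2; exceptional
vertex = exceptional component), and let S be the set of contracted components, each an exceptional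
vertex. The components of X are the vertices outside S; for a set W of them, the subcurve σ(W) of X
has deg ω_X equal to canDeg Ŵ and k equal to cut Ŵ, where Ŵ is W together with the vertices of S all
of whose edges end in W, and the exceptional components of X are the exceptional vertices outside S.
So the hypotheses below say that d̃ vanishes on S and that d = d̃|_{V∖S} is properly balanced on X
(Basic Inequality 2·|K·d_W − D·canDeg Ŵ| ≤ cut Ŵ·K for every W disjoint from S, D the total degree,
and value 1 on exceptional vertices outside S); the conclusion is the Basic Inequality for d̃ on Z,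
for every set of vertices. -/
theorem result {V E : Type u} [Fintype V] [Fintype E]
    [DecidableEq V] [DecidableEq E] (ends : E → V × V) (w : V → ℕ) (hZ : IsQuasistableGraph ends w)
    (hg : 2 ≤ genus ends w) (S : Finset V) (hS : ∀ v ∈ S, IsExceptional ends w v)
    (dt : V → ℤ) (hzero : ∀ v ∈ S, dt v = 0)
    (hBI : ∀ W : Finset V, Disjoint W S →
      2 * |canDeg ends w Finset.univ * (∑ v ∈ W, dt v) - (∑ v, dt v) * canDeg ends w (Finset.univ.filter (fun v : V => v ∈ W ∨ (v ∈ S ∧ ∀ e : E, ((ends e).1 = v → (ends e).2 ∈ W) ∧ ((ends e).2 = v → (ends e).1 ∈ W))))|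
        ≤ (cut ends (Finset.univ.filter (fun v : V => v ∈ W ∨ (v ∈ S ∧ ∀ e : E, ((ends e).1 = v → (ends e).2 ∈ W) ∧ ((ends e).2 = v → (ends e).1 ∈ W)))) : ℤ) * canDeg ends w Finset.univ)
    (hone : ∀ v : V, v ∉ S → IsExceptional ends w v → dt v = 1) :
    SatisfiesBI ends w dt := by
  intro Y
  classical
  have hdisj : Disjoint (Y.filter (fun v => v ∉ S)) S := by
    rw [Finset.disjoint_left]
    intro v hv
    exact (Finset.mem_filter.1 hv).2
  exact bi_of ends w hZ hg S hS dt hzero Y (Y.filter (fun v => v ∉ S)) _
    (fun v => by rw [Finset.mem_filter])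
    (fun v => by rw [Finset.mem_filter]; simp only [Finset.mem_univ, true_and])
    (hBI _ hdisj)

end Groth.Agent.S19034
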