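import Groth.Statements.S19035
import Mathlib.Tactic
import Mathlib.Data.Finset.Order
-- import your own Groth.Agent.* helpers here

set_option autoImplicit false
universe u v w x
open CAlg

namespace Groth.Agent.S19035

/-- Let p be a prime and k a perfect field of characteristic p. Let (A_i) be a directed system of
finitely generated commutative k-algebras, indexed by a nonempty directed preorder, with compatible
k-algebra transition maps, and let B be a finitely generated k-algebra with compatible k-algebra
maps A_i → B which present B as the direct limit of the system (every element of B is the image of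
an element of some A_i, and two elements of some A_i with the same image in B have the same image in
some A_j). Then the p-typical Witt vectors commute with this direct limit: every Witt vector over B
is the image of a Witt vector over some A_i, and two Witt vectors over some A_i with the same image
over B already have the same image over some A_j. (Both finiteness hypotheses matter: for an
arbitrary filtered direct limit of commutative rings either assertion can fail.) -/
theorem result
    (p : ℕ) [Fact p.Prime] (k : Type u) [Field k] [CharP k p] [PerfectRing k p]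
    {ι : Type v} [Preorder ι] [IsDirected ι (· ≤ ·)] [Nonempty ι]
    (A : ι → Type w) [∀ i, CommRing (A i)] [∀ i, Algebra k (A i)]
    [∀ i, Algebra.FiniteType k (A i)]
    (f : ∀ i j, i ≤ j → (A i →ₐ[k] A j))
    (hf : ∀ i j l (hij : i ≤ j) (hjl : j ≤ l) (x : A i),
      f j l hjl (f i j hij x) = f i l (hij.trans hjl) x)
    (B : Type x) [CommRing B] [Algebra k B] [Algebra.FiniteType k B]
    (g : ∀ i, A i →ₐ[k] B)
    (hfg : ∀ i j (hij : i ≤ j) (x : A i), g j (f i j hij x) = g i x)
    (hsurj : ∀ b : B, ∃ i, ∃ x : A i, g i x = b)
    (hinj : ∀ i (x y : A i), g i x = g i y → ∃ j, ∃ hij : i ≤ j, f i j hij x = f i j hij y) :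
    (∀ w : WittVector p B, ∃ i, ∃ v : WittVector p (A i),
        WittVector.map (g i).toRingHom v = w) ∧
    (∀ i (v v' : WittVector p (A i)),
        WittVector.map (g i).toRingHom v = WittVector.map (g i).toRingHom v' →
        ∃ j, ∃ hij : i ≤ j,
          WittVector.map (f i j hij).toRingHom v = WittVector.map (f i j hij).toRingHom v') := by
  classical
  constructor
  · -- surjectivity
    obtain ⟨s, hs⟩ := (Algebra.FiniteType.out : (⊤ : Subalgebra k B).FG)
    have hch : ∀ b : B, ∃ i, ∃ x : A i, g i x = b := hsurj
    choose ib xb hxb using hch
    obtain ⟨i₀, hi₀⟩ := Finset.exists_le (s.image ib)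
    have hsurj₀ : Function.Surjective (g i₀) := by
      have hle : Algebra.adjoin k (s : Set B) ≤ (g i₀).range := by
        apply Algebra.adjoin_le
        intro b hb
        have hle : ib b ≤ i₀ := hi₀ _ (Finset.mem_image_of_mem ib hb)
        exact ⟨f (ib b) i₀ hle (xb b), (hfg _ _ hle _).trans (hxb b)⟩
      rw [hs, top_le_iff] at hle
      intro b
      have : b ∈ (g i₀).range := by rw [hle]; exact Algebra.mem_top
      exact this
    intro w
    choose sec hsec using hsurj₀
    refine ⟨i₀, WittVector.mk p (fun n => sec (w.coeff n)), ?_⟩
    ext n
    rw [WittVector.map_coeff, WittVector.coeff_mk]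
    exact hsec _
  · -- injectivity
    intro i v v' hvv
    have : IsNoetherianRing (A i) := Algebra.FiniteType.isNoetherianRing k (A i)
    obtain ⟨s, hs⟩ := (IsNoetherian.noetherian (RingHom.ker (g i).toRingHom) :
      (RingHom.ker (g i).toRingHom).FG)
    have hz : ∀ x : A i, g i x = 0 → ∃ j, ∃ hij : i ≤ j, f i j hij x = 0 := by
      intro x hx
      obtain ⟨j, hij, h⟩ := hinj i x 0 (by rw [hx, map_zero])
      exact ⟨j, hij, by rw [h, map_zero]⟩
    choose J hJ hJ0 using hz
    have hsker : ∀ x ∈ s, g i x = 0 := by
      intro x hx
      have : x ∈ RingHom.ker (g i).toRingHom := by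
        rw [← hs]; exact Ideal.subset_span hx
      exact this
    let jf : {x // x ∈ s} → ι := fun x => J x.1 (hsker x.1 x.2)
    obtain ⟨j, hj⟩ := Finset.exists_le (insert i (s.attach.image jf))
    have hij : i ≤ j := hj i (Finset.mem_insert_self _ _)
    refine ⟨j, hij, ?_⟩
    have hkill : ∀ x ∈ s, f i j hij x = 0 := by
      intro x hx
      have hle : J x (hsker x hx) ≤ j := by
        apply hj
        apply Finset.mem_insert_of_mem
        exact Finset.mem_image.2 ⟨(⟨x, hx⟩ : {x // x ∈ s}), Finset.mem_attach _ _, rfl⟩
      rw [← hf i _ j (hJ x (hsker x hx)) hle, hJ0, map_zero]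
    have hker : RingHom.ker (g i).toRingHom ≤ RingHom.ker (f i j hij).toRingHom := by
      rw [← hs, Ideal.span_le]
      intro x hx
      exact hkill x hx
    ext n
    rw [WittVector.map_coeff, WittVector.map_coeff]
    have hn := congrArg (fun z => z.coeff n) hvv
    simp only [WittVector.map_coeff] at hn
    have hmem : v.coeff n - v'.coeff n ∈ RingHom.ker (g i).toRingHom := by
      rw [RingHom.mem_ker, map_sub, hn, sub_self]
    have := hker hmem
    rw [RingHom.mem_ker, map_sub, sub_eq_zero] at this
    exact this

end Groth.Agent.S19035
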