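import Groth.Statements.S19037
import Mathlib.Tactic
-- import your own Groth.Agent.* helpers here

set_option autoImplicit false
universe u v
open scoped Polynomial LaurentPolynomial
open Instab

namespace Groth.Agent.S19037

/-- Affine form over a ring R. Let A be a commutative ℤ-graded R-algebra and t an element of degree −1
(so A is a graded algebra over R[t] with t in degree −1), and let ψ : A[1/t] → R[T, T⁻¹] be an
R-algebra map sending t to T which is graded, in the sense that each homogeneous element of degree n
of A goes to an element of R times T^(−n). Then ψ is obtained by inverting t from an R-algebra map χ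
: A → R[T] (compared through the inclusion of R[T] in R[T, T⁻¹]) if and only if ψ kills t·a for
every homogeneous a of degree 1; such a χ is unique. (The source states this for quasi-coherent
graded algebras over an arbitrary base scheme; the statement is local on the base and is given here
over an affine base.) -/
theorem result
    {R : Type u} {A : Type v} [CommRing R] [CommRing A] [Algebra R A]
    (𝒜 : ℤ → Submodule R A) [GradedAlgebra 𝒜] (t : A) (ht : t ∈ 𝒜 (-1))
    (ψ : Localization.Away t →ₐ[R] R[T;T⁻¹])
    (hψt : ψ (algebraMap A (Localization.Away t) t) = LaurentPolynomial.T 1)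
    (hψ : ∀ (n : ℤ) (a : A), a ∈ 𝒜 n →
      ∃ r : R, ψ (algebraMap A (Localization.Away t) a) = LaurentPolynomial.C r * LaurentPolynomial.T (-n)) :
    (∃! χ : A →ₐ[R] R[X], ∀ a : A,
        ψ (algebraMap A (Localization.Away t) a) = Polynomial.toLaurentAlg (χ a)) ↔
      ∀ a ∈ 𝒜 1, ψ (algebraMap A (Localization.Away t) (t * a)) = 0 := by
  classical
  set ι : A →ₐ[R] Localization.Away t := IsScalarTower.toAlgHom R A (Localization.Away t) with hι
  have hιa : ∀ a, ι a = algebraMap A (Localization.Away t) a := fun _ => rfl
  have hinj : Function.Injective (Polynomial.toLaurentAlg : R[X] →ₐ[R] R[T;T⁻¹]) := by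
    intro p q hpq
    rw [Polynomial.toLaurentAlg_apply, Polynomial.toLaurentAlg_apply] at hpq
    exact Polynomial.toLaurent_injective hpq
  constructor
  · rintro ⟨χ, hχ, -⟩ a ha
    obtain ⟨r, hr⟩ := hψ 1 a ha
    have h1' : Polynomial.toLaurent (χ a) = LaurentPolynomial.C r * LaurentPolynomial.T (-1) := by
      rw [← Polynomial.toLaurentAlg_apply, ← hχ a, hr]
    have h1 : Polynomial.toLaurent (Polynomial.C r) = Polynomial.toLaurent (χ a * Polynomial.X) := by
      rw [map_mul, Polynomial.toLaurent_X, h1', Polynomial.toLaurent_C, mul_assoc,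
        ← LaurentPolynomial.T_add]
      simp
    have h2 := Polynomial.toLaurent_injective h1
    have h3 := congrArg (fun p => Polynomial.coeff p 0) h2
    simp only [Polynomial.coeff_C_zero, Polynomial.coeff_mul_X_zero] at h3
    rw [map_mul, map_mul, hψt, hr, h3, map_zero, zero_mul, mul_zero]
  · intro h
    -- every ψ (ι a) lies in the range of toLaurentAlg
    have hmem : ∀ a : A, ψ (ι a) ∈ (Polynomial.toLaurentAlg : R[X] →ₐ[R] R[T;T⁻¹]).range := by
      intro a
      induction a using DirectSum.Decomposition.inductionOn 𝒜 with
      | zero => rw [map_zero, map_zero]; exact Subalgebra.zero_mem _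
      | @homogeneous n a =>
        obtain ⟨a, ha⟩ := a
        obtain ⟨r, hr⟩ := hψ n a ha
        simp only
        rw [hιa, hr]
        rcases le_or_gt n 0 with hn | hn
        · obtain ⟨k, hk⟩ := Int.eq_ofNat_of_zero_le (neg_nonneg.2 hn)
          rw [hk]
          exact ⟨Polynomial.monomial k r,
            (Polynomial.toLaurentAlg_apply _).trans (Polynomial.toLaurent_C_mul_T k r)⟩
        · -- n ≥ 1 : ψ a = 0
          obtain ⟨k, hk⟩ := Int.eq_ofNat_of_zero_le (by omega : 0 ≤ n - 1)
          have hmem1 : t ^ k * a ∈ 𝒜 1 := by
            have h1 : t ^ k ∈ 𝒜 (k • (-1 : ℤ)) := SetLike.pow_mem_graded k ht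
            have h2 := SetLike.mul_mem_graded h1 ha
            have : k • (-1 : ℤ) + n = 1 := by
              simp only [nsmul_eq_mul]; omega
            rwa [this] at h2
          have h0 := h _ hmem1
          simp only [map_mul, map_pow, hψt] at h0
          have hu : IsUnit ((LaurentPolynomial.T 1 : R[T;T⁻¹]) * (LaurentPolynomial.T 1) ^ k) :=
            (LaurentPolynomial.isUnit_T 1).mul ((LaurentPolynomial.isUnit_T 1).pow k)
          rw [← mul_assoc] at h0
          have := (hu.mul_right_eq_zero).1 h0
          rw [← hr, this]
          exact Subalgebra.zero_mem _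
      | add a b ha hb =>
        rw [map_add, map_add]
        exact Subalgebra.add_mem _ ha hb
    set e := AlgEquiv.ofInjective (Polynomial.toLaurentAlg : R[X] →ₐ[R] R[T;T⁻¹]) hinj with he
    set χ : A →ₐ[R] R[X] := (e.symm : _ →ₐ[R] R[X]).comp ((ψ.comp ι).codRestrict _ hmem) with hχ
    have hχa : ∀ a, ψ (algebraMap A (Localization.Away t) a) = Polynomial.toLaurentAlg (χ a) := by
      intro a
      have h1 : (e (χ a) : R[T;T⁻¹]) = Polynomial.toLaurentAlg (χ a) :=
        AlgEquiv.ofInjective_apply _ hinj _
      rw [← h1, hχ, AlgHom.comp_apply]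
      have h2 : e ((e.symm : _ →ₐ[R] R[X]) (((ψ.comp ι).codRestrict _ hmem) a))
          = ((ψ.comp ι).codRestrict _ hmem) a := e.apply_symm_apply _
      rw [h2]
      rfl
    refine ⟨χ, hχa, ?_⟩
    intro χ' hχ'
    ext a
    apply congrArg (fun p => Polynomial.coeff p _)
    apply hinj
    rw [← hχ' a, ← hχa a]

end Groth.Agent.S19037
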