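import Mathlib
import Groth.Agent.Lib.StDominant27
import Groth.Agent.Lib.DiagDescent27b
import Groth.Statements.S19039

set_option autoImplicit false
universe u
open Instab

namespace Groth.Agent.S19039

section Helpers

open CategoryTheory CategoryTheory.Limits MonoidalCategory CartesianMonoidalCategory MonObj GrpObj
  AlgebraicGeometry
open scoped Polynomial

variable (R : Type u) [CommRing R]

/-- the inclusion `j : G_m → A¹` -/
noncomputable abbrev jj : ThetaS.Gm R ⟶ ThetaS.Line R :=
  CoactBr.pt (ThetaS.linePt (ThetaS.zPow R 1))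

/-- the `R`-linear retraction of `R[x] → R[z, z⁻¹]`: truncate negative powers -/
noncomputable def retr : ThetaS.Lau R →+ R[X] :=
  MonoidAlgebra.liftNC (Polynomial.C : R →+* R[X]).toAddMonoidHom
    (fun g : Multiplicative ℤ => if 0 ≤ g.toAdd then (Polynomial.X : R[X]) ^ g.toAdd.toNat else 0)

theorem retr_single (g : Multiplicative ℤ) (c : R) :
    retr R (MonoidAlgebra.single g c) =
      Polynomial.C c * (if 0 ≤ g.toAdd then (Polynomial.X : R[X]) ^ g.toAdd.toNat else 0) := by
  simp [retr, MonoidAlgebra.liftNC_single]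

theorem retr_smul (s : R) (x : ThetaS.Lau R) :
    retr R (algebraMap R (ThetaS.Lau R) s * x) = algebraMap R R[X] s * retr R x := by
  induction x using MonoidAlgebra.induction_linear with
  | zero => simp
  | add f g hf hg => rw [mul_add, map_add, map_add, hf, hg, mul_add]
  | single g c =>
    rw [MonoidAlgebra.coe_algebraMap, Function.comp_apply, Algebra.algebraMap_self, RingHom.id_apply,
      MonoidAlgebra.single_mul_single, _root_.one_mul, retr_single, retr_single,
      Polynomial.algebraMap_apply, Algebra.algebraMap_self, RingHom.id_apply, map_mul,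
      _root_.mul_assoc]

theorem retr_aeval (p : R[X]) : retr R (ThetaS.linePt (ThetaS.zPow R 1) p) = p := by
  induction p using Polynomial.induction_on' with
  | add p q hp hq => rw [map_add, map_add, hp, hq]
  | monomial n c =>
    have h1 : ThetaS.linePt (ThetaS.zPow R 1) (Polynomial.monomial n c) =
        MonoidAlgebra.single (Multiplicative.ofAdd (n : ℤ)) c := by
      rw [ThetaS.linePt, Polynomial.aeval_monomial, ThetaS.zPow, MonoidAlgebra.single_pow, one_pow,
        MonoidAlgebra.coe_algebraMap, Function.comp_apply, Algebra.algebraMap_self, RingHom.id_apply,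
        MonoidAlgebra.single_mul_single, _root_.one_mul, _root_.mul_one]
      congr 1
      simp [← ofAdd_nsmul]
    rw [h1, retr_single]
    simp [Polynomial.C_mul_X_pow_eq_monomial]


theorem dominant_whiskerRight (T : Over (Spec (CommRingCat.of R))) :
    IsSchemeTheoreticallyDominant (jj R ▷ T).left := by
  refine Groth.Agent.Lib.StDominant27.isSchemeTheoreticallyDominant_of_split'
    (CommRingCat.ofHom (algebraMap R R[X])) (CommRingCat.ofHom (algebraMap R (ThetaS.Lau R)))
    (CommRingCat.ofHom (ThetaS.linePt (ThetaS.zPow R 1)).toRingHom) ?_ (retr R) (retr_smul R)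
    (retr_aeval R) T.hom
    (pullback.fst (ThetaS.Line R).hom T.hom) (pullback.snd (ThetaS.Line R).hom T.hom)
    (IsPullback.of_hasPullback (ThetaS.Line R).hom T.hom)
    (pullback.fst (ThetaS.Gm R).hom T.hom) (pullback.snd (ThetaS.Gm R).hom T.hom)
    (IsPullback.of_hasPullback (ThetaS.Gm R).hom T.hom) _ ?_ ?_
  · refine CommRingCat.hom_ext (RingHom.ext fun x => ?_)
    exact (ThetaS.linePt (ThetaS.zPow R 1)).commutes x
  · exact Over.whiskerRight_left_fst _
  · exact Over.whiskerRight_left_snd _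

theorem flat_Gm_hom : Flat (ThetaS.Gm R).hom := by
  change Flat (Spec.map (CommRingCat.ofHom (algebraMap R (ThetaS.Lau R))))
  rw [Flat.SpecMap_iff]
  change (algebraMap R (ThetaS.Lau R)).Flat
  rw [RingHom.flat_algebraMap_iff]
  infer_instance

theorem dominant_whiskerLeft (T : Over (Spec (CommRingCat.of R))) :
    IsSchemeTheoreticallyDominant (ThetaS.Gm R ◁ (jj R ▷ T)).left := by
  have hdom := dominant_whiskerRight R T
  have hqc : QuasiCompact (jj R ▷ T).left := by
    have h1 : IsAffine (ThetaS.Gm R).left := inferInstanceAs (IsAffine (Spec _))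
    have h2 : IsAffine (ThetaS.Line R).left := inferInstanceAs (IsAffine (Spec _))
    have h3 : IsAffineHom (jj R).left := isAffineHom_of_isAffine _
    have h4 : QuasiCompact (jj R).left := inferInstance
    exact MorphismProperty.of_isPullback
      (Groth.Agent.Lib.DiagDescent27.isPullback_whiskerRight_left _ (jj R) T).flip h4
  have hflat : Flat (pullback.snd (ThetaS.Gm R).hom (ThetaS.Line R ⊗ T).hom) := by
    have := flat_Gm_hom R
    infer_instance
  exact IsSchemeTheoreticallyDominant.of_isPullback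
    (Groth.Agent.Lib.DiagDescent27.isPullback_whiskerLeft_left _ (ThetaS.Gm R) (jj R ▷ T)).flip

/-- `j(g) = g · j(1)` -/
theorem jj_orbit_univ :
    lift (𝟙 (ThetaS.Gm R)) (toUnit (ThetaS.Gm R) ≫ η[ThetaS.Gm R] ≫ jj R) ≫ (ThetaS.lineAction R).act =
      jj R := by
  have h1 : toUnit (ThetaS.Gm R) ≫ η[ThetaS.Gm R] ≫ jj R =
      CoactBr.pt (ThetaS.linePt (1 : ThetaS.Lau R)) := by
    have key : Spec.map (CommRingCat.ofHom (algebraMap R (ThetaS.Lau R))) ≫
        Spec.map (CommRingCat.ofHom (Bialgebra.counitAlgHom R (ThetaS.Lau R) : ThetaS.Lau R →+* R)) ≫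
          Spec.map (CommRingCat.ofHom (ThetaS.linePt (R := R) (ThetaS.zPow R 1)).toRingHom) =
        Spec.map (CommRingCat.ofHom (ThetaS.linePt (R := R) (1 : ThetaS.Lau R)).toRingHom) := by
      rw [← Spec.map_comp, ← Spec.map_comp]
      congr 1
      apply CommRingCat.hom_ext
      apply Polynomial.ringHom_ext
      · intro r
        simp
      · simp
        rfl
    apply Over.OverMorphism.ext
    exact key
  have h2 := ThetaS.lineAction_pt (R := R) (AlgHom.id R (ThetaS.Lau R)) (1 : ThetaS.Lau R)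
  rw [CoactBr.pt_id] at h2
  rw [h1, h2]
  congr 2
  simp


theorem jj_orbit {T' : Over (Spec (CommRingCat.of R))} (g : T' ⟶ ThetaS.Gm R) :
    lift g ((1 : T' ⟶ ThetaS.Gm R) ≫ jj R) ≫ (ThetaS.lineAction R).act = g ≫ jj R := by
  have h : g ≫ lift (𝟙 (ThetaS.Gm R)) (toUnit (ThetaS.Gm R) ≫ η[ThetaS.Gm R] ≫ jj R) ≫
      (ThetaS.lineAction R).act = g ≫ jj R := by rw [jj_orbit_univ]
  rw [← Category.assoc, comp_lift, Category.comp_id] at h
  have h1 : g ≫ toUnit (ThetaS.Gm R) ≫ η[ThetaS.Gm R] ≫ jj R = (1 : T' ⟶ ThetaS.Gm R) ≫ jj R := by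
    rw [← Category.assoc, toUnit_unique (g ≫ toUnit _) (toUnit T'), ← Category.assoc, Hom.one_def]
  rw [h1] at h
  exact h

theorem jj_mul {T' : Over (Spec (CommRingCat.of R))} (g g' : T' ⟶ ThetaS.Gm R) :
    lift g (g' ≫ jj R) ≫ (ThetaS.lineAction R).act = (g * g') ≫ jj R := by
  rw [← jj_orbit R g', ← jj_orbit R (g * g')]
  exact (Magnet.MonAct.lift_mul_act (Magnet.MonAct.ofAction (ThetaS.lineAction R)) g g' _).symm

variable {R} in
theorem equivariant_points {X T : Over (Spec (CommRingCat.of R))} (a : AlgGrp.Action (ThetaS.Gm R) X)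
    (u : ThetaS.Line R ⊗ T ⟶ X)
    (hu : (α_ (ThetaS.Gm R) (ThetaS.Line R) T).inv ≫ ((ThetaS.lineAction R).act ▷ T) ≫ u =
      (ThetaS.Gm R ◁ u) ≫ a.act)
    {T' : Over (Spec (CommRingCat.of R))} (g : T' ⟶ ThetaS.Gm R) (l : T' ⟶ ThetaS.Line R) (t : T' ⟶ T) :
    lift (lift g l ≫ (ThetaS.lineAction R).act) t ≫ u = lift g (lift l t ≫ u) ≫ a.act := by
  have h : lift g (lift l t) ≫ (α_ (ThetaS.Gm R) (ThetaS.Line R) T).inv ≫
      ((ThetaS.lineAction R).act ▷ T) ≫ u = lift g (lift l t) ≫ (ThetaS.Gm R ◁ u) ≫ a.act := by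
    rw [hu]
  rw [lift_whiskerLeft_assoc] at h
  rw [← h, lift_lift_associator_inv_assoc, lift_whiskerRight_assoc]

variable {R} in
/-- restriction of an equivariant map to `G_m ⊗ T` is the orbit map of its value at `1` -/
theorem whiskerRight_comp_eq {X T : Over (Spec (CommRingCat.of R))} (a : AlgGrp.Action (ThetaS.Gm R) X)
    (u : ThetaS.Line R ⊗ T ⟶ X)
    (hu : (α_ (ThetaS.Gm R) (ThetaS.Line R) T).inv ≫ ((ThetaS.lineAction R).act ▷ T) ≫ u =
      (ThetaS.Gm R ◁ u) ≫ a.act) :
    (jj R ▷ T) ≫ u =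
      (ThetaS.Gm R ◁ (lift ((1 : T ⟶ ThetaS.Gm R) ≫ jj R) (𝟙 T) ≫ u)) ≫ a.act := by
  apply Magnet.hom_ext_lift₂
  intro T' g t
  have h1 := equivariant_points a u hu g ((1 : T' ⟶ ThetaS.Gm R) ≫ jj R) t
  rw [jj_orbit] at h1
  have h2 : t ≫ lift ((1 : T ⟶ ThetaS.Gm R) ≫ jj R) (𝟙 T) = lift ((1 : T' ⟶ ThetaS.Gm R) ≫ jj R) t := by
    rw [comp_lift, Category.comp_id, ← Category.assoc, MonObj.comp_one]
  rw [lift_whiskerRight_assoc, h1, lift_whiskerLeft_assoc, ← Category.assoc t, h2]

end Helpers

open CategoryTheory MonoidalCategory CartesianMonoidalCategory MonObj GrpObj AlgebraicGeometry in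
/-- The case n = 1 for a scheme X separated over an affine base Spec R, stated as the two facts that
identify equivariant families with maps whose orbit map extends. Let G_m act on X (a left action a :
G_m × X → X over Spec R) and on A¹ × T through the scaling action on A¹, for an R-scheme T; write j
: G_m → A¹ for the inclusion t ↦ t. (a) If u, v : A¹ × T → X are G_m-equivariant R-morphisms with
the same restriction to the section {1} × T, then u = v. (b) If x : T → X is an R-morphism and u :
A¹ × T → X is an R-morphism whose restriction along j × T is the orbit family (g, t) ↦ g · x(t),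
then u is G_m-equivariant. (The source works with an algebraic space X quasi-separated and locally
of finite presentation over a base B with an action of G_mⁿ and deduces that X⁺ → X is a locally
finitely presented unramified monomorphism; only the elementary identification for n = 1 is stated
here, which uses separatedness alone.) -/
theorem result
    (R : Type u) [CommRing R] (X : Over (Spec (CommRingCat.of R))) [IsSeparated X.hom]
    (a : AlgGrp.Action (ThetaS.Gm R) X) (T : Over (Spec (CommRingCat.of R))) :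
    (∀ u v : ThetaS.Line R ⊗ T ⟶ X,
        (α_ (ThetaS.Gm R) (ThetaS.Line R) T).inv ≫ ((ThetaS.lineAction R).act ▷ T) ≫ u = (ThetaS.Gm R ◁ u) ≫ a.act →
        (α_ (ThetaS.Gm R) (ThetaS.Line R) T).inv ≫ ((ThetaS.lineAction R).act ▷ T) ≫ v = (ThetaS.Gm R ◁ v) ≫ a.act →
        lift ((1 : T ⟶ ThetaS.Gm R) ≫ (CoactBr.pt (ThetaS.linePt (ThetaS.zPow R 1)) : ThetaS.Gm R ⟶ ThetaS.Line R)) (𝟙 T) ≫ u =
          lift ((1 : T ⟶ ThetaS.Gm R) ≫ (CoactBr.pt (ThetaS.linePt (ThetaS.zPow R 1)) : ThetaS.Gm R ⟶ ThetaS.Line R)) (𝟙 T) ≫ v →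
        u = v) ∧
    (∀ (x : T ⟶ X) (u : ThetaS.Line R ⊗ T ⟶ X),
        ((CoactBr.pt (ThetaS.linePt (ThetaS.zPow R 1)) : ThetaS.Gm R ⟶ ThetaS.Line R) ▷ T) ≫ u = (ThetaS.Gm R ◁ x) ≫ a.act →
        (α_ (ThetaS.Gm R) (ThetaS.Line R) T).inv ≫ ((ThetaS.lineAction R).act ▷ T) ≫ u =
          (ThetaS.Gm R ◁ u) ≫ a.act) := by
  constructor
  · intro u v hu hv huv
    have hdom := Groth.Agent.S19039.dominant_whiskerRight R T
    apply Groth.Agent.Lib.StDominant27.over_ext_of_isSchemeTheoreticallyDominant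
      (Groth.Agent.S19039.jj R ▷ T)
    rw [Groth.Agent.S19039.whiskerRight_comp_eq a u hu,
      Groth.Agent.S19039.whiskerRight_comp_eq a v hv, huv]
  · intro x u hxu
    have hdom := Groth.Agent.S19039.dominant_whiskerLeft R T
    apply Groth.Agent.Lib.StDominant27.over_ext_of_isSchemeTheoreticallyDominant
      (ThetaS.Gm R ◁ (Groth.Agent.S19039.jj R ▷ T))
    apply Magnet.hom_ext_lift₂
    intro T' g w
    have hw : w = lift (w ≫ fst _ _) (w ≫ snd _ _) := (lift_comp_fst_snd w).symm
    generalize w ≫ fst _ _ = g' at hw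
    generalize w ≫ snd _ _ = t at hw
    subst hw
    have h1 : lift g' t ≫ (Groth.Agent.S19039.jj R ▷ T) ≫ u = lift g' (t ≫ x) ≫ a.act := by
      rw [hxu, lift_whiskerLeft_assoc]
    have h2 : lift (g * g') t ≫ (Groth.Agent.S19039.jj R ▷ T) ≫ u = lift (g * g') (t ≫ x) ≫ a.act := by
      rw [hxu, lift_whiskerLeft_assoc]
    rw [lift_whiskerRight_assoc] at h1 h2
    rw [lift_whiskerLeft_assoc, lift_whiskerLeft_assoc, lift_whiskerRight,
      lift_lift_associator_inv_assoc, lift_whiskerRight_assoc, Groth.Agent.S19039.jj_mul, h2,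
      lift_whiskerLeft_assoc, h1]
    exact Magnet.MonAct.lift_mul_act (Magnet.MonAct.ofAction a) g g' _

end Groth.Agent.S19039
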