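import Groth.Statements.S19042
import Mathlib
import Groth.Agent.Lib.H90GcMod

set_option autoImplicit false
universe u
open Dieu

namespace Groth.Agent.S19042

/-- Let `k` be a perfect field of characteristic `2` and `c` a natural number, and consider the explicit
`2c`-dimensional `k`-space on `X_1, …, X_c, Y_1, …, Y_c` with its operators `F` and `V` (`F Y_j =
0`; `F X_j = X_{j/2}` for `j` even and `Y_{c-(j-1)/2}` for `j` odd; `V Y_j = Y_{2j}` when `2j ≤ c`,
else `0`; `V X_j = Y_{2c-2j+1}` when `2j > c`, else `0`). The vectors `X_j` with `c < 2j ≤ 2c`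
generate it as a module over `k[F, V]`: a `k`-subspace stable under `F` and `V` containing them is
everything. (Stated over any perfect field of characteristic `2`; the source works over an
algebraically closed one.) -/
theorem result (c : ℕ) (k : Type u) [Field k] [CharP k 2] [PerfectRing k 2]
    (N : Submodule k (W4c6eohyperellchar2.GcMod c k))
    (hF : ∀ v ∈ N, W4c6eohyperellchar2.F c k v ∈ N) (hV : ∀ v ∈ N, W4c6eohyperellchar2.V c k v ∈ N)
    (hX : ∀ j : ℕ, c < 2 * j → j ≤ c → W4c6eohyperellchar2.X c k j ∈ N) : N = ⊤ := by
  classical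
  have hXall : ∀ n i, c - i ≤ n → 1 ≤ i → i ≤ c → W4c6eohyperellchar2.X c k i ∈ N := by
    intro n
    induction n with
    | zero =>
      intro i h h1 hc
      exact hX i (by omega) hc
    | succ n ih =>
      intro i h h1 hc
      by_cases h2 : c < 2 * i
      · exact hX i h2 hc
      · have h3 := hF _ (ih (2 * i) (by omega) (by omega) (by omega))
        rw [Groth.Agent.Lib.H90GcMod.F_X_even c k (by omega) (by omega)] at h3
        have : 2 * i / 2 = i := by omega
        rwa [this] at h3
  have hYall : ∀ m, 1 ≤ m → m ≤ c → W4c6eohyperellchar2.Y c k m ∈ N := by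
    intro m
    induction m using Nat.strong_induction_on with
    | _ m ih =>
      intro h1 hc
      by_cases hm : m % 2 = 0
      · have h3 := hV _ (ih (m / 2) (by omega) (by omega) (by omega))
        rw [Groth.Agent.Lib.H90GcMod.V_Y c k (m / 2) (by omega)] at h3
        have : 2 * (m / 2) = m := by omega
        rwa [this] at h3
      · have h3 := hV _ (hX (c - (m - 1) / 2) (by omega) (by omega))
        rw [Groth.Agent.Lib.H90GcMod.V_X_of_lt c k (by omega) (by omega)] at h3
        have : 2 * c - 2 * (c - (m - 1) / 2) + 1 = m := by omega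
        rwa [this] at h3
  exact Groth.Agent.Lib.H90GcMod.eq_top_of_basis_mem c k N
    (fun j h1 hc => hXall (c - j) j le_rfl h1 hc) hYall

end Groth.Agent.S19042
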