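import Groth.Statements.S19043
import Mathlib
import Groth.Agent.Lib.H90GcMod

set_option autoImplicit false
universe u
open Dieu

namespace Groth.Agent.S19043

open W4c6eohyperellchar2 in
/-- vectors whose `X_j`-coordinates vanish for `2j > c`. -/
def T (c : ℕ) (k : Type u) [Field k] : Submodule k (GcMod c k) where
  carrier := {v | ∀ i : Fin c, c < 2 * (i.val + 1) → v.1 i = 0}
  add_mem' := by
    intro a b ha hb i hi
    show a.1 i + b.1 i = 0
    rw [ha i hi, hb i hi, add_zero]
  zero_mem' := fun _ _ => rfl
  smul_mem' := by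
    intro r a ha i hi
    show r * a.1 i = 0
    rw [ha i hi, mul_zero]

open W4c6eohyperellchar2 in
lemma span_le_T (c : ℕ) (k : Type u) [Field k] [CharP k 2] [PerfectRing k 2] :
    Submodule.span k (Set.range (F c k) ∪ Set.range (V c k)) ≤ T c k := by
  rw [Submodule.span_le]
  rintro _ (⟨v, rfl⟩ | ⟨v, rfl⟩)
  · intro i hi
    show coefX v (2 * (i.val + 1)) ^ 2 = 0
    unfold coefX
    rw [dif_neg (by omega)]; simp
  · intro i _
    rfl

/-- Let `k` be a perfect field of characteristic `2` and `c` a natural number, and let `M` be the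
explicit `2c`-dimensional `k`-space on `X_1, …, X_c, Y_1, …, Y_c` with its operators `F` and `V` (`F
Y_j = 0`; `F X_j = X_{j/2}` for `j` even and `Y_{c-(j-1)/2}` for `j` odd; `V Y_j = Y_{2j}` when `2j
≤ c`, else `0`; `V X_j = Y_{2c-2j+1}` when `2j > c`, else `0`). The classes of the `X_j` with `c <
2j ≤ 2c` in the quotient of `M` by the `k`-span of `F(M) ∪ V(M)` are linearly independent and span
that quotient. (Stated over any perfect field of characteristic `2`; the source works over an
algebraically closed one.) -/
theorem result (c : ℕ) (k : Type u) [Field k] [CharP k 2] [PerfectRing k 2] :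
    LinearIndependent k (fun j : {j : ℕ // c < 2 * j ∧ j ≤ c} =>
        Submodule.mkQ (Submodule.span k (Set.range (W4c6eohyperellchar2.F c k) ∪ Set.range (W4c6eohyperellchar2.V c k))) (W4c6eohyperellchar2.X c k j.1)) ∧
      Submodule.span k (Set.range (fun j : {j : ℕ // c < 2 * j ∧ j ≤ c} =>
        Submodule.mkQ (Submodule.span k (Set.range (W4c6eohyperellchar2.F c k) ∪ Set.range (W4c6eohyperellchar2.V c k))) (W4c6eohyperellchar2.X c k j.1))) = ⊤ := by
  classical
  set S := Submodule.span k (Set.range (W4c6eohyperellchar2.F c k) ∪ Set.range (W4c6eohyperellchar2.V c k)) with hS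
  constructor
  · rw [linearIndependent_iff']
    intro s g hsum j₀ hj₀
    have h1 : (∑ j ∈ s, g j • W4c6eohyperellchar2.X c k j.1) ∈ S := by
      rw [← Submodule.Quotient.mk_eq_zero, ← Submodule.mkQ_apply, map_sum]
      simpa only [map_smul] using hsum
    have h2 := span_le_T c k h1
    have hj1 : 1 ≤ j₀.1 := by have := j₀.2.1; omega
    have h3 := h2 ⟨j₀.1 - 1, by have := j₀.2.2; omega⟩ (by have := j₀.2.1; simp only; omega)
    simp only [Prod.fst_sum, Prod.smul_fst, Finset.sum_apply, Pi.smul_apply,
      W4c6eohyperellchar2.X, smul_eq_mul] at h3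
    rw [Finset.sum_eq_single j₀] at h3
    · rw [if_pos (by omega), mul_one] at h3
      exact h3
    · intro b _ hb
      rw [if_neg, mul_zero]
      intro h; apply hb; apply Subtype.ext; omega
    · intro h; exact absurd hj₀ h
  · rw [Set.range_comp' , ← Submodule.map_span, Submodule.map_mkQ_eq_top]
    apply Groth.Agent.Lib.H90GcMod.eq_top_of_basis_mem
    · intro j h1 hc
      by_cases h2 : c < 2 * j
      · apply Submodule.mem_sup_right
        exact Submodule.subset_span ⟨⟨j, h2, hc⟩, rfl⟩
      · apply Submodule.mem_sup_left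
        apply Submodule.subset_span
        left
        refine ⟨W4c6eohyperellchar2.X c k (2 * j), ?_⟩
        rw [Groth.Agent.Lib.H90GcMod.F_X_even c k (by omega) (by omega)]
        congr 1; omega
    · intro m h1 hc
      apply Submodule.mem_sup_left
      apply Submodule.subset_span
      right
      by_cases hm : m % 2 = 0
      · refine ⟨W4c6eohyperellchar2.Y c k (m / 2), ?_⟩
        rw [Groth.Agent.Lib.H90GcMod.V_Y c k (m / 2) (by omega)]
        congr 1; omega
      · refine ⟨W4c6eohyperellchar2.X c k (c - (m - 1) / 2), ?_⟩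
        rw [Groth.Agent.Lib.H90GcMod.V_X_of_lt c k (by omega) (by omega)]
        congr 1; omega

end Groth.Agent.S19043
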