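import Groth.Statements.S19045
import Groth.Agent.Lib.H40FunFldASOrd

set_option autoImplicit false
universe u v
open FunFld

namespace Groth.Agent.S19045

/-- Let `k` be algebraically closed of characteristic `2` and `K = k(x, y)` with `y² + y = f(x)`, `K`
separable of degree `2` over `k(x)`; let `B ⊆ k` be a finite set containing `0` such that `f` has a
pole of odd order `d_β` at `x = β` for every `β ∈ B` and is integral at all other places of `k(x)`.
Then `y` is integral at the places of `K` above `x = ∞` and has order `0` at one of them, and for `α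
∈ B` and `j ∈ ℤ` the divisor of poles of `y (x - α)^j` consists of: order `max(d_α - 2j, 0)` at the
place above `α`, order exactly `d_β` above every other `β ∈ B`, order `max(j - ord_P y, 0)` at each
place `P` above `∞`, and nothing elsewhere. -/
theorem result (k : Type u) (K : Type v)
    [Field k] [IsAlgClosed k] [CharP k 2] [Field K] [Algebra k K] [Algebra (RatFunc k) K] [IsScalarTower k (RatFunc k) K]
    (hK : FunFld.IsFunctionField k K) (hdeg : Module.finrank (RatFunc k) K = 2) [Algebra.IsSeparable (RatFunc k) K]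
    (y : K) (hy : y ∉ Set.range (algebraMap (RatFunc k) K)) (f : RatFunc k)
    (heq : y ^ 2 + y = algebraMap (RatFunc k) K f)
    (B : Finset k) (h0 : (0 : k) ∈ B) (d : k → ℕ) (hd : ∀ β ∈ B, Odd (d β))
    (hpole : ∀ (p : FunFld.Place k (RatFunc k)) (β : k), β ∈ B →
      p.1 ((RatFunc.X : RatFunc k) - RatFunc.C β) < 1 → p.ord f = -(d β : ℤ))
    (hint : ∀ p : FunFld.Place k (RatFunc k), (∀ β ∈ B, 1 ≤ p.1 ((RatFunc.X : RatFunc k) - RatFunc.C β)) → p.1 f ≤ 1) :
    (∀ P : FunFld.Place k K, 1 < P.1 (algebraMap (RatFunc k) K RatFunc.X) → 0 ≤ P.ord y) ∧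
    (∃ P : FunFld.Place k K, 1 < P.1 (algebraMap (RatFunc k) K RatFunc.X) ∧ P.ord y = 0) ∧
    ∀ (α : k), α ∈ B → ∀ (j : ℤ) (P : FunFld.Place k K),
      (P.1 ((algebraMap (RatFunc k) K RatFunc.X) - (algebraMap k K α)) < 1 →
        max (-(P.ord (y * ((algebraMap (RatFunc k) K RatFunc.X) - (algebraMap k K α)) ^ j))) 0 = max ((d α : ℤ) - 2 * j) 0) ∧
      (∀ β : k, β ∈ B → β ≠ α → P.1 ((algebraMap (RatFunc k) K RatFunc.X) - (algebraMap k K β)) < 1 →
        P.ord (y * ((algebraMap (RatFunc k) K RatFunc.X) - (algebraMap k K α)) ^ j) = -(d β : ℤ)) ∧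
      (1 < P.1 (algebraMap (RatFunc k) K RatFunc.X) → max (-(P.ord (y * ((algebraMap (RatFunc k) K RatFunc.X) - (algebraMap k K α)) ^ j))) 0 = max (j - P.ord y) 0) ∧
      (P.1 (algebraMap (RatFunc k) K RatFunc.X) ≤ 1 → (∀ β : k, β ∈ B → 1 ≤ P.1 ((algebraMap (RatFunc k) K RatFunc.X) - (algebraMap k K β))) → 0 ≤ P.ord (y * ((algebraMap (RatFunc k) K RatFunc.X) - (algebraMap k K α)) ^ j)) := by
  open Groth.Agent.Lib.H40FunFld in
  have h2 : ringChar k = 2 := ringChar.eq k 2
  have hKF := isFunctionField_ratFunc k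
  haveI : FiniteDimensional (RatFunc k) K :=
    Module.finite_of_finrank_pos (by rw [hdeg]; norm_num)
  have hfinf : ∀ p : FunFld.Place k (RatFunc k), 1 < p.1 (RatFunc.X : RatFunc k) → p.1 f ≤ 1 := by
    intro p hp
    apply hint p
    intro β _
    have h1 : p.1 (RatFunc.C β) < p.1 (RatFunc.X : RatFunc k) := by
      refine lt_of_le_of_lt ?_ hp
      rw [← RatFunc.algebraMap_eq_C]
      exact p.2.1 β
    rw [Valuation.map_sub_eq_of_lt_left _ h1]
    exact hp.le
  refine ⟨fun P hP => (as_at_inf h2 hdeg hy heq hfinf hP 0).1,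
    as_exists_unit_at_inf h2 hdeg hy heq hfinf, ?_⟩
  intro α hα j P
  refine ⟨fun hP => ?_, fun β hβ hne hP => ?_, fun hP => ?_, fun hPX hB => ?_⟩
  · rw [as_ord_mul_zpow_at_root h2 hdeg hy heq (hd α hα) (fun p hp => hpole p α hα hp) hP j]
    congr 1
    ring
  · exact as_ord_mul_zpow_at_other h2 hdeg hy heq hne (hd β hβ) (fun p hp => hpole p β hβ hp) hP j
  · rw [as_ord_mul_zpow_at_inf h2 hdeg hy heq hfinf hP α j]
    congr 1
    ring
  · apply as_ord_mul_zpow_nonneg hdeg hy heq hPX (hB α hα) _ j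
    rintro p ⟨e, he⟩
    apply hint p
    intro β hβ
    by_contra hlt
    push Not at hlt
    have h3 : P.1 (algebraMap (RatFunc k) K RatFunc.X - algebraMap k K β) < 1 := by
      rw [algebraMap_X_sub_C, isOverWith_lt_one_iff he, map_sub, RatFunc.algebraMap_X,
        RatFunc.algebraMap_C]
      exact hlt
    exact absurd (hB β hβ) (not_le.2 h3)

end Groth.Agent.S19045
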