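import Groth.Statements.S19048
import Mathlib
-- import your own Groth.Agent.* helpers here

set_option autoImplicit false
universe u
open Dieu

namespace Groth.Agent.S19048

open W4c6eohyperellchar2

section
variable {c : ℕ} {k : Type u} [Field k]

theorem mem_Nfil (i : ℕ) (v : GcMod c k) :
    v ∈ Nfil c k i ↔ (∀ j : Fin c, min i c < j.val + 1 → v.2 j = 0) ∧
      (∀ j : Fin c, j.val + 1 ≤ 2 * c - i → v.1 j = 0) := by
  constructor
  · intro hv
    let T : Submodule k (GcMod c k) :=
      { carrier := {v | (∀ j : Fin c, min i c < j.val + 1 → v.2 j = 0) ∧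
            (∀ j : Fin c, j.val + 1 ≤ 2 * c - i → v.1 j = 0)}
        zero_mem' := by simp
        add_mem' := by
          rintro x y ⟨hx1, hx2⟩ ⟨hy1, hy2⟩
          refine ⟨fun j hj => ?_, fun j hj => ?_⟩
          · simp [hx1 j hj, hy1 j hj]
          · simp [hx2 j hj, hy2 j hj]
        smul_mem' := by
          rintro t x ⟨hx1, hx2⟩
          refine ⟨fun j hj => ?_, fun j hj => ?_⟩
          · simp [hx1 j hj]
          · simp [hx2 j hj] }
    have hle : Nfil c k i ≤ T := by
      unfold Nfil
      rw [Submodule.span_le]
      rintro x (⟨n, hn, rfl⟩ | ⟨n, hn, rfl⟩)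
      · refine ⟨fun j hj => ?_, fun j hj => ?_⟩
        · simp only [Y]
          rw [if_neg]
          have := hn.2
          omega
        · simp [Y]
      · refine ⟨fun j hj => ?_, fun j hj => ?_⟩
        · simp [X]
        · simp only [X]
          rw [if_neg]
          have := hn.1
          omega
    exact hle hv
  · rintro ⟨h1, h2⟩
    have hdecomp : v = ∑ j : Fin c, (v.1 j • X c k (j.val + 1) + v.2 j • Y c k (j.val + 1)) := by
      refine Prod.ext ?_ ?_
      · rw [Prod.fst_sum]
        funext l
        rw [Finset.sum_apply, Finset.sum_eq_single l]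
        · simp [X, Y]
        · intro b _ hb
          have : ¬ (l.val = b.val) := by
            intro h
            exact hb (Fin.ext (by omega))
          simp [X, Y, this]
        · intro h
          exact absurd (Finset.mem_univ l) h
      · rw [Prod.snd_sum]
        funext l
        rw [Finset.sum_apply, Finset.sum_eq_single l]
        · simp [X, Y]
        · intro b _ hb
          have : ¬ (l.val = b.val) := by
            intro h
            exact hb (Fin.ext (by omega))
          simp [X, Y, this]
        · intro h
          exact absurd (Finset.mem_univ l) h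
    rw [hdecomp]
    refine Submodule.sum_mem _ fun j _ => Submodule.add_mem _ ?_ ?_
    · by_cases hj : j.val + 1 ≤ 2 * c - i
      · rw [h2 j hj, zero_smul]
        exact Submodule.zero_mem _
      · refine Submodule.smul_mem _ _ (Submodule.subset_span (Or.inr ⟨j.val + 1, ⟨?_, ?_⟩, rfl⟩))
        · omega
        · have := j.isLt
          omega
    · by_cases hj : min i c < j.val + 1
      · rw [h1 j hj, zero_smul]
        exact Submodule.zero_mem _
      · refine Submodule.smul_mem _ _ (Submodule.subset_span (Or.inl ⟨j.val + 1, ⟨?_, ?_⟩, rfl⟩))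
        · omega
        · omega

theorem finrank_Nfil (i : ℕ) (hi : i ≤ 2 * c) : Module.finrank k (Nfil c k i) = i := by
  classical
  let e : Fin i → GcMod c k := fun m => if m.val < c then Y c k (m.val + 1) else X c k (2 * c - m.val)
  have hli : LinearIndependent k e := by
    rw [Fintype.linearIndependent_iff]
    intro g hg m
    by_cases hm : m.val < c
    · have h2 := congrArg (fun v : GcMod c k => v.2 ⟨m.val, hm⟩) hg
      simp only [Prod.snd_sum, Finset.sum_apply, Prod.snd_zero, Pi.zero_apply] at h2
      rw [Finset.sum_eq_single m] at h2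
      · simpa [e, hm, Y] using h2
      · intro b _ hb
        by_cases hbc : b.val < c
        · have : ¬ (m.val = b.val) := by
            intro h
            exact hb (Fin.ext (by omega))
          simp [e, hbc, Y, this]
        · simp [e, hbc, X]
      · intro h
        exact absurd (Finset.mem_univ m) h
    · have hlt : 2 * c - m.val - 1 < c := by
        have := m.isLt
        omega
      have h2 := congrArg (fun v : GcMod c k => v.1 ⟨2 * c - m.val - 1, hlt⟩) hg
      simp only [Prod.fst_sum, Finset.sum_apply, Prod.fst_zero, Pi.zero_apply] at h2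
      rw [Finset.sum_eq_single m] at h2
      · have hmm : 2 * c - m.val - 1 + 1 = 2 * c - m.val := by
          have := m.isLt
          omega
        simpa [e, hm, X, hmm] using h2
      · intro b _ hb
        by_cases hbc : b.val < c
        · simp [e, hbc, Y]
        · have : ¬ (2 * c - m.val - 1 + 1 = 2 * c - b.val) := by
            intro h
            have := m.isLt
            have := b.isLt
            exact hb (Fin.ext (by omega))
          simp [e, hbc, X, this]
      · intro h
        exact absurd (Finset.mem_univ m) h
  have hspan : Nfil c k i = Submodule.span k (Set.range e) := by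
    unfold Nfil
    congr 1
    ext x
    constructor
    · rintro (⟨n, hn, rfl⟩ | ⟨n, hn, rfl⟩)
      · have h1 := hn.1
        have h2 := hn.2
        refine ⟨⟨n - 1, by omega⟩, ?_⟩
        have hlt : n - 1 < c := by omega
        have hn1 : n - 1 + 1 = n := by omega
        simp [e, hlt, hn1]
      · have h1 := hn.1
        have h2 := hn.2
        refine ⟨⟨2 * c - n, by omega⟩, ?_⟩
        have hlt : ¬ (2 * c - n < c) := by omega
        have hn1 : 2 * c - (2 * c - n) = n := by omega
        simp [e, hlt, hn1]
    · rintro ⟨m, rfl⟩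
      by_cases hm : m.val < c
      · left
        refine ⟨m.val + 1, ⟨by omega, ?_⟩, by simp [e, hm]⟩
        have := m.isLt
        omega
      · right
        refine ⟨2 * c - m.val, ⟨?_, by omega⟩, by simp [e, hm]⟩
        have := m.isLt
        omega
  rw [hspan, finrank_span_eq_card hli, Fintype.card_fin]

end

section
variable {c : ℕ} {k : Type u} [Field k] [CharP k 2] [PerfectRing k 2]

theorem coefY_add (v w : GcMod c k) (n : ℕ) : coefY (v + w) n = coefY v n + coefY w n := by
  unfold coefY
  split_ifs <;> simp

theorem coefY_smul (t : k) (v : GcMod c k) (n : ℕ) : coefY (t • v) n = t * coefY v n := by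
  unfold coefY
  split_ifs <;> simp

theorem NV_add (a : ℕ → k) (v w : GcMod c k) :
    NV c k a (v + w) = NV c k a v + NV c k a w := by
  unfold NV
  refine Prod.ext (by simp) ?_
  funext ι
  simp only [Prod.snd_add, Pi.add_apply, Prod.fst_add, coefY_add, map_add]
  rw [add_add_add_comm, ← Finset.sum_add_distrib]
  congr 1
  refine Finset.sum_congr rfl fun j _ => ?_
  split_ifs
  · rw [add_mul, map_add]
  · simp

theorem NV_smul (a : ℕ → k) (t : k) (v : GcMod c k) :
    NV c k a (t • v) = (frobeniusEquiv k 2).symm t • NV c k a v := by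
  unfold NV
  refine Prod.ext (by simp) ?_
  funext ι
  simp only [Prod.smul_snd, Pi.smul_apply, Prod.smul_fst, coefY_smul, map_mul, smul_eq_mul, mul_add,
    Finset.mul_sum]
  congr 1
  refine Finset.sum_congr rfl fun j _ => ?_
  split_ifs
  · first | rfl | simp [mul_assoc]
  · simp

theorem NV_zero (a : ℕ → k) : NV c k a (0 : GcMod c k) = 0 := by
  have := NV_smul a (0 : k) (0 : GcMod c k)
  simpa using this

theorem NV_fst (a : ℕ → k) (v : GcMod c k) : (NV c k a v).1 = 0 := rfl

/-- the triangular pivot vectors -/
theorem pivot (a : ℕ → k) (ha : a c ≠ 0) (i : ℕ) (hi : i ≤ 2 * c) (n : ℕ) (hn : n + 1 ≤ i / 2) :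
    ∃ x ∈ Nfil c k i, ∃ hnc : n < c, (NV c k a x).2 ⟨n, hnc⟩ ≠ 0 ∧
      ∀ j : Fin c, n < j.val → (NV c k a x).2 j = 0 := by
  classical
  have hnc : n < c := by omega
  by_cases h2 : 2 * (n + 1) ≤ c
  · refine ⟨Y c k (2 * (n + 1)), ?_, hnc, ?_, ?_⟩
    · exact Submodule.subset_span (Or.inl ⟨2 * (n + 1), ⟨by omega, by omega⟩, rfl⟩)
    · have h1 : (1 ≤ 2 * (n + 1) ∧ 2 * (n + 1) ≤ c) := ⟨by omega, h2⟩
      have h3 : 2 * (n + 1) - 1 + 1 = 2 * (n + 1) := by omega
      simp [NV, Y, coefY, h1, h3]
    · intro j hj
      have h3 : ¬ (2 * (j.val + 1) - 1 + 1 = 2 * (n + 1)) := by omega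
      simp only [NV, Y, coefY]
      split_ifs <;> simp [h3]
  · have hp : 2 * (c - n - 1) < c := by omega
    refine ⟨X c k (2 * (c - n - 1) + 1), ?_, hnc, ?_, ?_⟩
    · exact Submodule.subset_span (Or.inr ⟨2 * (c - n - 1) + 1, ⟨by omega, by omega⟩, rfl⟩)
    · have hs : (NV c k a (X c k (2 * (c - n - 1) + 1))).2 ⟨n, hnc⟩
          = (frobeniusEquiv k 2).symm (a c) := by
        simp only [NV, X, coefY]
        rw [Finset.sum_eq_single ⟨2 * (c - n - 1), hp⟩]
        · have h5 : (2 * (c - n - 1) + 1) % 2 = 1 ∧ n + 1 + 2 * (c - n - 1) / 2 ≤ c := by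
            constructor <;> omega
          have h6 : n + 1 + 2 * (c - n - 1) / 2 = c := by omega
          have h7 : n + 1 + (c - n - 1) = c := by omega
          simp [h7]
        · intro b _ hb
          have : ¬ (b.val = 2 * (c - n - 1)) := by
            intro h
            exact hb (Fin.ext (by simpa using h))
          simp [this]
        · intro h
          exact absurd (Finset.mem_univ _) h
      rw [hs]
      simpa using ha
    · intro j hj
      simp only [NV, X, coefY]
      have h0 : ∀ b : Fin c, (if (b.val + 1) % 2 = 1 ∧ j.val + 1 + b.val / 2 ≤ c then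
          (frobeniusEquiv k 2).symm ((if b.val + 1 = 2 * (c - n - 1) + 1 then (1 : k) else 0) *
            a (j.val + 1 + b.val / 2)) else 0) = 0 := by
        intro b
        split_ifs with h5 h6
        · exfalso
          omega
        · simp
        · rfl
      rw [Finset.sum_eq_zero fun b _ => h0 b]
      simp

theorem NV_surj (a : ℕ → k) (ha : a c ≠ 0) (i : ℕ) (hi : i ≤ 2 * c) :
    ∀ n, n ≤ i / 2 → ∀ w : GcMod c k, w.1 = 0 → (∀ j : Fin c, n ≤ j.val → w.2 j = 0) →
      w ∈ NV c k a '' (Nfil c k i : Set (GcMod c k)) := by
  intro n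
  induction n with
  | zero =>
    intro _ w h1 h2
    refine ⟨0, Submodule.zero_mem _, ?_⟩
    rw [NV_zero]
    refine Prod.ext h1.symm ?_
    funext j
    exact (h2 j (Nat.zero_le _)).symm
  | succ n ih =>
    intro hn w h1 h2
    obtain ⟨x, hx, hnc, hu, hx2⟩ := pivot a ha i hi n hn
    set u := (NV c k a x).2 ⟨n, hnc⟩ with hu_def
    set s := w.2 ⟨n, hnc⟩ / u with hs_def
    have hw' : w - s • NV c k a x ∈ NV c k a '' (Nfil c k i : Set (GcMod c k)) := by
      apply ih (by omega)
      · simp [h1, NV_fst]
      · intro j hj
        rcases Nat.eq_or_lt_of_le hj with hj | hj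
        · have hjn : j = ⟨n, hnc⟩ := Fin.ext hj.symm
          subst hjn
          simp only [Prod.snd_sub, Pi.sub_apply, Prod.smul_snd, Pi.smul_apply, smul_eq_mul]
          rw [← hu_def, hs_def, div_mul_cancel₀ _ hu, sub_self]
        · simp only [Prod.snd_sub, Pi.sub_apply, Prod.smul_snd, Pi.smul_apply, smul_eq_mul]
          rw [hx2 j hj, h2 j (by omega)]
          simp
    obtain ⟨v', hv', hv'eq⟩ := hw'
    refine ⟨v' + (s ^ 2) • x, Submodule.add_mem _ hv' (Submodule.smul_mem _ _ hx), ?_⟩
    rw [NV_add, NV_smul, hv'eq, frobeniusEquiv_symm_pow]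
    abel

end

/-- Let `k` be a perfect field of characteristic `2`, `c` a natural number and `a_1, …, a_c ∈ k` with
`a_c ≠ 0`. On the `2c`-dimensional `k`-space with basis `λ_1, …, λ_c, σ_1, …, σ_c` let `F` be
Frobenius-semilinear with `F λ_j = 0`, `F σ_j = σ_{2j}` for `2j ≤ c`, `F σ_j = Σ_{i=j}^{c} a_i
λ_{2i-2j+1}` for `2j > c`, and `V` inverse-Frobenius-semilinear with `V λ_j = λ_{j/2}` (`j` even),
`0` (`j` odd), `V σ_j = 0` (`j` even), `V σ_j = Σ_{i=(j+1)/2}^{c} a_i^{1/2} λ_{i-(j-1)/2}` (`j` odd)
— the shape of `F` and `V` on the block of the first de Rham cohomology of `y² − y = f(x)` belonging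
to a branch point with invariant `d = 2c + 1`, `a_i` the coefficients of the odd polynomial `f_α`.
Put `N_i = ⟨λ_1, …, λ_i⟩` for `i ≤ c` and `N_i = ⟨λ_1, …, λ_c, σ_{2c-i+1}, …, σ_c⟩` for `c ≤ i ≤
2c`. Then for `0 ≤ i ≤ 2c`: `dim N_i = i`, `V(N_i) = N_{⌊i/2⌋}` and `F⁻¹(N_i) = N_{c+⌈i/2⌉}`; so
`(N_i)` is a final filtration with `dim V(N_i) = ⌊i/2⌋`. (The published statement adjoins the `σ_j`
starting from `σ_1`; then `V(N_{c+1})` contains `V σ_1`, whose `λ_c`-coefficient is a square root of
`a_c ≠ 0`, so it is not `N_{⌊(c+1)/2⌋}` once `c ≥ 2`; adjoining them from `σ_c` downward, as here,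
makes both identities hold.) -/
theorem result (c : ℕ) (k : Type u) [Field k] [CharP k 2] [PerfectRing k 2]
    (a : ℕ → k) (ha : a c ≠ 0) (i : ℕ) (hi : i ≤ 2 * c) :
    Module.finrank k (W4c6eohyperellchar2.Nfil c k i) = i ∧
      W4c6eohyperellchar2.NV c k a '' (W4c6eohyperellchar2.Nfil c k i : Set (W4c6eohyperellchar2.GcMod c k)) = (W4c6eohyperellchar2.Nfil c k (i / 2) : Set (W4c6eohyperellchar2.GcMod c k)) ∧
      W4c6eohyperellchar2.NF c k a ⁻¹' (W4c6eohyperellchar2.Nfil c k i : Set (W4c6eohyperellchar2.GcMod c k)) = (W4c6eohyperellchar2.Nfil c k (c + (i + 1) / 2) : Set (W4c6eohyperellchar2.GcMod c k)) := by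
  classical
  refine ⟨finrank_Nfil i hi, ?_, ?_⟩
  · ext w
    constructor
    · rintro ⟨v, hv, rfl⟩
      rw [SetLike.mem_coe, mem_Nfil] at hv ⊢
      obtain ⟨hv1, hv2⟩ := hv
      refine ⟨fun ι hι => ?_, fun ι _ => rfl⟩
      have hιc := ι.isLt
      simp only [W4c6eohyperellchar2.NV, W4c6eohyperellchar2.coefY]
      have hA : (if h : 1 ≤ 2 * (ι.val + 1) ∧ 2 * (ι.val + 1) ≤ c then
          v.2 ⟨2 * (ι.val + 1) - 1, by omega⟩ else 0) = 0 := by
        split_ifs with h
        · apply hv1
          simp only
          omega
        · rfl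
      have hB : ∀ j : Fin c, (if (j.val + 1) % 2 = 1 ∧ ι.val + 1 + j.val / 2 ≤ c then
          (frobeniusEquiv k 2).symm (v.1 j * a (ι.val + 1 + j.val / 2)) else 0) = 0 := by
        intro j
        split_ifs with h
        · rw [hv2 j (by omega)]
          simp
        · rfl
      rw [hA, Finset.sum_eq_zero fun j _ => hB j]
      simp
    · intro hw
      rw [SetLike.mem_coe, mem_Nfil] at hw
      obtain ⟨hw1, hw2⟩ := hw
      apply NV_surj a ha i hi (i / 2) le_rfl
      · funext j
        apply hw2
        have := j.isLt
        omega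
      · intro j hj
        apply hw1
        have := j.isLt
        omega
  · ext v
    rw [Set.mem_preimage, SetLike.mem_coe, SetLike.mem_coe, mem_Nfil, mem_Nfil]
    constructor
    · rintro ⟨h1, h2⟩
      refine ⟨fun j hj => ?_, ?_⟩
      · exfalso
        have := j.isLt
        omega
      · have key : ∀ n, ∀ j : Fin c, j.val = n → j.val + 1 ≤ 2 * c - (c + (i + 1) / 2) →
            v.1 j = 0 := by
          intro n
          induction n using Nat.strong_induction_on with
          | _ n ih =>
            intro j hjn hjB
            have hjc := j.isLt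
            by_cases hcase : 2 * (j.val + 1) ≤ c
            · have hι : 2 * j.val + 1 < c := by omega
              have := h2 ⟨2 * j.val + 1, hι⟩ (by simp only; omega)
              simp only [W4c6eohyperellchar2.NF, W4c6eohyperellchar2.coefX] at this
              have e1 : (2 * j.val + 1 + 1) % 2 = 0 := by omega
              have e2 : (2 * j.val + 1 + 1) / 2 = j.val + 1 := by omega
              have e3 : 1 ≤ j.val + 1 ∧ j.val + 1 ≤ c := ⟨by omega, by omega⟩
              rw [if_pos e1] at this
              simp only [e2, e3, and_self, dite_true] at this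
              have h3 := pow_eq_zero_iff (two_ne_zero) |>.1 this
              simpa using h3
            · have hι : 2 * (c - (j.val + 1)) < c := by omega
              have := h1 ⟨2 * (c - (j.val + 1)), hι⟩ (by simp only; omega)
              simp only [W4c6eohyperellchar2.NF] at this
              have e1 : (2 * (c - (j.val + 1)) + 1) % 2 = 1 := by omega
              rw [if_pos e1, Finset.sum_eq_single j] at this
              · have e2 : c < 2 * (j.val + 1) ∧ j.val + 1 + 2 * (c - (j.val + 1)) / 2 ≤ c := by
                  constructor <;> omega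
                have e3 : j.val + 1 + 2 * (c - (j.val + 1)) / 2 = c := by omega
                rw [if_pos e2, e3] at this
                rcases mul_eq_zero.1 this with h3 | h3
                · exact pow_eq_zero_iff (two_ne_zero) |>.1 h3
                · exact absurd h3 ha
              · intro b _ hb
                split_ifs with h5
                · have hbj : b.val < j.val := by
                    have : b.val ≠ j.val := fun h => hb (Fin.ext h)
                    omega
                  rw [ih b.val (by omega) b rfl (by omega)]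
                  simp
                · rfl
              · intro h
                exact absurd (Finset.mem_univ _) h
        intro j hj
        exact key j.val j rfl hj
    · rintro ⟨_, hB⟩
      refine ⟨fun ι hι => ?_, fun ι hι => ?_⟩
      · have hιc := ι.isLt
        simp only [W4c6eohyperellchar2.NF]
        split_ifs with h5
        · apply Finset.sum_eq_zero
          intro j _
          split_ifs with h6
          · rw [hB j (by omega)]
            simp
          · rfl
        · rfl
      · have hιc := ι.isLt
        simp only [W4c6eohyperellchar2.NF, W4c6eohyperellchar2.coefX]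
        split_ifs with h5 h6
        · rw [hB ⟨(ι.val + 1) / 2 - 1, by omega⟩ (by simp only; omega)]
          simp
        · simp
        · rfl

end Groth.Agent.S19048
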