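import Groth.Statements.S19060
import Groth.Agent.Lib.FibreDictAffH44
import Groth.Agent.Lib.FibreTruncH44
import Groth.Agent.Lib.CurveVanishing54
import Groth.Agent.Lib.SmoothCurve67
import Groth.Agent.Lib.TFunAcyclic
import Groth.Agent.Lib.PullbackAffine
import Groth.Agent.S11560

set_option autoImplicit false
universe u
open CategoryTheory CategoryTheory.Limits AlgebraicGeometry Opposite
open Curves

namespace Groth.Agent.S19060

/-- fibres of a relative curve have no cohomology in degrees `≥ 2` -/
theorem subsingleton_fiberH_add_two (R : Type u) [CommRing R]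
    (X : Scheme.{u}) [X.Over (Spec (CommRingCat.of R))] [IsProper (X ↘ Spec (CommRingCat.of R))]
    [Smooth (X ↘ Spec (CommRingCat.of R))] [GeometricallyConnected (X ↘ Spec (CommRingCat.of R))]
    (hdim : ∀ s : Spec (CommRingCat.of R), topologicalKrullDim ↥((X ↘ Spec (CommRingCat.of R)).fiber s) = 1)
    (F : X.Modules) [F.IsQuasicoherent] (y : ↥(Spec (CommRingCat.of R))) (n : ℕ) :
    Subsingleton (CohIII.fiberH (X ↘ Spec (CommRingCat.of R)) F y (n + 2)) := by
  letI : ((X ↘ Spec (CommRingCat.of R)).fiber y).Over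
      (Spec (CommRingCat.of ((Spec (CommRingCat.of R)).residueField y))) :=
    ⟨(X ↘ Spec (CommRingCat.of R)).fiberToSpecResidueField y⟩
  haveI : Smooth ((X ↘ Spec (CommRingCat.of R)).fiber y ↘
      Spec (CommRingCat.of ((Spec (CommRingCat.of R)).residueField y))) :=
    MorphismProperty.pullback_snd (P := @Smooth) _ _ inferInstance
  haveI : IsProper ((X ↘ Spec (CommRingCat.of R)).fiber y ↘
      Spec (CommRingCat.of ((Spec (CommRingCat.of R)).residueField y))) :=
    MorphismProperty.pullback_snd (P := @IsProper) _ _ inferInstance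
  haveI : GeometricallyConnected ((X ↘ Spec (CommRingCat.of R)).fiber y ↘
      Spec (CommRingCat.of ((Spec (CommRingCat.of R)).residueField y))) :=
    inferInstanceAs (GeometricallyConnected ((X ↘ Spec (CommRingCat.of R)).fiberToSpecResidueField y))
  obtain ⟨hint, hnoeth, -⟩ := Groth.Agent.Lib.SmoothCurve67.curve_setup
    ((Spec (CommRingCat.of R)).residueField y) ((X ↘ Spec (CommRingCat.of R)).fiber y) (le_of_eq (hdim y))
  haveI := hint
  haveI := hnoeth
  haveI : IsSeparated ((X ↘ Spec (CommRingCat.of R)).fiberToSpecResidueField y) :=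
    MorphismProperty.pullback_snd (P := @IsSeparated) _ _ inferInstance
  exact Groth.Agent.Lib.CurveVanishing54.subsingleton_HH_add_two
    ((X ↘ Spec (CommRingCat.of R)).fiberToSpecResidueField y) (le_of_eq (hdim y))
    (CohIII.fiberMod (X ↘ Spec (CommRingCat.of R)) F y) n


/-- Let R be a Noetherian ring and X a relative curve over Spec R (proper and smooth, with geometrically
connected fibres of dimension one, and projective: X carries an ample invertible module). Let F be a
coherent O_X-module which is flat over Spec R (every stalk is a flat module over the local ring of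
the base). If H^1(X, F) is a projective R-module, then H^0(X, F) is a projective R-module. (The
source says only that F is an O_X-module flat over the base; F is taken coherent here, as the
finiteness of its cohomology over R used there requires.) -/
theorem result (R : Type u) [CommRing R] [IsNoetherianRing R]
    (X : Scheme.{u}) [X.Over (Spec (CommRingCat.of R))] [IsProper (X ↘ Spec (CommRingCat.of R))]
    [Smooth (X ↘ Spec (CommRingCat.of R))] [GeometricallyConnected (X ↘ Spec (CommRingCat.of R))]
    (hdim : ∀ s : Spec (CommRingCat.of R), topologicalKrullDim ↥((X ↘ Spec (CommRingCat.of R)).fiber s) = 1)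
    (hproj : ∃ M : X.Modules, CohB1.IsAmple M)
    (F : X.Modules) (hF : Coh.IsCoh F) (hfl : FlatMod.IsFlatOver (X ↘ Spec (CommRingCat.of R)) F)
    (h1 : Module.Projective R (Coh.HH X F 1)) :
    Module.Projective R (Coh.HH X F 0) := by
  haveI : F.IsQuasicoherent := hF.1
  obtain ⟨L, h1, ⟨c, hc⟩, h3, h4, -, -, h7⟩ :=
    Groth.Agent.Lib.FibreDictAffH44.exists_model_fibre R X F hF hfl
  have hflat : ∀ i, Module.Flat R (L.X i) := fun i => haveI := (h1 i).2; inferInstance
  have hfin : ∀ i, Module.Finite R (L.X i) := fun i => (h1 i).1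
  -- fibrewise vanishing in degrees `≥ 2`
  have hvan : ∀ (y : ↥(Spec (CommRingCat.of R))) (n : ℕ),
      CohIII.dRank L ((n + 2 : ℕ) : ℤ) y = 0 := by
    intro y n
    rw [← h7 y (n + 2)]
    haveI := subsingleton_fiberH_add_two R X hdim F y n
    exact Module.finrank_zero_of_subsingleton
  -- a model concentrated in degrees `[0, 1]`
  obtain ⟨E, -, hE2, hE3⟩ := Groth.Agent.Lib.FibreTruncH44.exists_fp_model L
    (fun i => ⟨(h1 i).1, (h1 i).2⟩) c hc 0 1 (by
      intro m hm i hi
      rcases hi with hi | hi
      · exact Groth.Agent.Lib.FibreTruncH44.exactAt_bc_of_isZero_TFun m L i (h4 i hi _)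
      · obtain ⟨n, rfl⟩ : ∃ n : ℕ, i = ((n + 2 : ℕ) : ℤ) := ⟨(i - 2).toNat, by push_cast; omega⟩
        exact Groth.Agent.Lib.FibreTruncH44.exactAt_bc_of_dRank_eq_zero m L hfin _ (hvan ⟨m, hm.isPrime⟩ n))
  have hT2 : ∀ M : ModuleCat.{u} R, IsZero ((CohIII.TFun L 2).obj M) := by
    intro M
    obtain ⟨e⟩ := hE3 2
    exact (Groth.Agent.Lib.TFunUnit.isZero_TFun_obj_of_isZero E 2 (hE2 2 (Or.inr (by norm_num))) M).of_iso
      (e.symm.app M)
  have hm2 : (CohIII.TFun L 2).PreservesMonomorphisms :=
    Groth.Agent.Lib.TFun.preservesMono_of_isZero_obj _ hT2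
  have he1 : (CohIII.TFun L 1).PreservesEpimorphisms :=
    (Groth.Agent.Lib.TFun.preservesEpi_iff_preservesMono L hflat 1 2 (by norm_num)).mpr hm2
  obtain ⟨e1⟩ := Groth.Agent.S11560.nonempty_HH_linearEquiv_homology R F L 1 (h3 1)
  obtain ⟨e0⟩ := Groth.Agent.S11560.nonempty_HH_linearEquiv_homology R F L 0 (h3 0)
  have hH1 : Module.Flat R (L.homology 1) := by
    haveI : Module.Flat R (Coh.HH X F 1) := Module.Flat.of_projective
    exact Module.Flat.of_linearEquiv e1.symm
  have hm1 : (CohIII.TFun L 1).PreservesMonomorphisms :=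
    Groth.Agent.Lib.TFunUnit.preservesMono_of_preservesEpi_of_flat_homology L hflat 1 he1 hH1
  have he0 : (CohIII.TFun L 0).PreservesEpimorphisms :=
    (Groth.Agent.Lib.TFun.preservesEpi_iff_preservesMono L hflat 0 1 (by norm_num)).mpr hm1
  have hen : (CohIII.TFun L (-1)).PreservesEpimorphisms :=
    Groth.Agent.Lib.TFun.preservesEpi_of_isZero_obj _ (h4 (-1) (by norm_num))
  have hm0 : (CohIII.TFun L 0).PreservesMonomorphisms :=
    (Groth.Agent.Lib.TFun.preservesEpi_iff_preservesMono L hflat (-1) 0 (by norm_num)).mp hen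
  have e := Groth.Agent.Lib.TFun.isoTensorLeftOfPreservesEpi L 0 hflat he0
  have hm' : (MonoidalCategory.tensorLeft ((CohIII.TFun L 0).obj (ModuleCat.of R R))).PreservesMonomorphisms :=
    Functor.PreservesMonomorphisms.of_iso e.symm
  haveI hfl0 : Module.Flat R ((CohIII.TFun L 0).obj (ModuleCat.of R R)) :=
    Groth.Agent.Lib.TFun.flat_of_preservesMono_tensorLeft _ hm'
  haveI hfin0 : Module.Finite R ((CohIII.TFun L 0).obj (ModuleCat.of R R)) :=
    Groth.Agent.Lib.TFun.finite_TFun_obj L 0 (hfin 0) (ModuleCat.of R R)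
  haveI : Module.FinitePresentation R ((CohIII.TFun L 0).obj (ModuleCat.of R R)) :=
    Module.finitePresentation_of_finite R _
  have hproj : Module.Projective R ((CohIII.TFun L 0).obj (ModuleCat.of R R)) :=
    Module.Flat.projective_of_finitePresentation
  exact Module.Projective.of_equiv
    ((Groth.Agent.Lib.TFunUnit.TUnitIso L 0).toLinearEquiv.trans e0.symm)

end Groth.Agent.S19060
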