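import Groth.Statements.S19093
-- import your own Groth.Agent.* helpers here
import Groth.Agent.S19092
import Groth.Prelude.Def_FrobAlg
import Mathlib.RingTheory.PowerSeries.Expand
import Mathlib.RingTheory.IntegralClosure.IsIntegralClosure.Basic
import Mathlib.RingTheory.FiniteType
import Mathlib.FieldTheory.Perfect
import Mathlib.RingTheory.Finiteness.Basic
import Mathlib.Algebra.CharP.Algebra

set_option autoImplicit false
universe u
open FrobAlg

namespace Groth.Agent.S19093

open TensorProduct

section relative
variable (p : ℕ) [Fact p.Prime] (R : Type u) [CommRing R] [CharP R p]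
  (S : Type u) [CommRing S] [Algebra R S] [CharP S p]

lemma relFrob_tmul (s : S) (r : Twist p R) :
    relFrob p R S (s ⊗ₜ[R] r) = s ^ p * algebraMap R S ((toTwist p R).symm r) := by
  unfold relFrob
  rw [RingHom.comp_apply]
  change (toTarget p R S).symm ((Algebra.TensorProduct.lift (frobHom p R S) (inclHom p R S)
    (fun _ _ => Commute.all _ _)) (s ⊗ₜ[R] r)) = _
  rw [Algebra.TensorProduct.lift_tmul, map_mul]
  rfl

theorem finite_of_finiteType (hF : (frobenius R p).Finite) [Algebra.FiniteType R S] :
    (frobenius S p).Finite := by
  have hfin : Module.Finite R (Twist p R) := hF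
  -- the first map
  have h1 : (algebraMap S (BaseChange p R S)).Finite := by
    rw [RingHom.finite_algebraMap]
    infer_instance
  -- the relative Frobenius
  have h2 : (relFrob p R S).Finite := by
    apply RingHom.IsIntegral.to_finite
    · intro s
      have hs : (relFrob p R S).IsIntegralElem (s ^ p) := by
        have : s ^ p = relFrob p R S (s ⊗ₜ[R] (1 : Twist p R)) := by
          rw [relFrob_tmul, map_one, map_one, mul_one]
        rw [this]
        exact (relFrob p R S).isIntegralElem_map
      letI := (relFrob p R S).toAlgebra
      exact IsIntegral.of_pow (Fact.out : p.Prime).pos hs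
    · have hcomp : (algebraMap R S) = (relFrob p R S).comp
          ((Algebra.TensorProduct.includeRight : Twist p R →ₐ[R] BaseChange p R S).toRingHom.comp
            (toTwist p R : R →+* Twist p R)) := by
        ext r
        simp only [RingHom.comp_apply]
        change _ = relFrob p R S ((1 : S) ⊗ₜ[R] toTwist p R r)
        rw [relFrob_tmul, one_pow, one_mul, RingEquiv.symm_apply_apply]
      have hft : (algebraMap R S).FiniteType := (RingHom.finiteType_algebraMap).mpr inferInstance
      rw [hcomp] at hft
      exact RingHom.FiniteType.of_comp_finiteType hft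
  have h3 : frobenius S p = (relFrob p R S).comp (algebraMap S (BaseChange p R S)) := by
    ext s
    rw [RingHom.comp_apply, Algebra.TensorProduct.algebraMap_apply, relFrob_tmul]
    simp [frobenius_def]
  rw [h3]
  exact h2.comp h1

end relative

section powerSeries
variable (p : ℕ) [Fact p.Prime] (k : Type u) [Field k] [Finite k] [CharP k p]

lemma charP_powerSeries : CharP (PowerSeries k) p :=
  charP_of_injective_algebraMap (FaithfulSMul.algebraMap_injective k (PowerSeries k)) p

lemma coeff_pow_p (g : PowerSeries k) (n : ℕ) :
    PowerSeries.coeff n (g ^ p) = if p ∣ n then (PowerSeries.coeff (n / p) g) ^ p else 0 := by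
  have hp : p ≠ 0 := (Fact.out : p.Prime).ne_zero
  have h := MvPowerSeries.map_frobenius_expand (σ := Unit) (R := k) p hp (f := g)
  have h2 : g ^ p = PowerSeries.map (frobenius k p) (PowerSeries.expand p hp g) := h.symm
  rw [h2, PowerSeries.coeff_map, PowerSeries.coeff_expand]
  split_ifs
  · rw [frobenius_def]
  · rw [map_zero]

theorem frobenius_powerSeries_finite [CharP (PowerSeries k) p] :
    (frobenius (PowerSeries k) p).Finite := by
  classical
  have hp : 0 < p := (Fact.out : p.Prime).pos
  unfold RingHom.Finite
  letI alg : Algebra (PowerSeries k) (PowerSeries k) := (frobenius (PowerSeries k) p).toAlgebra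
  have hsmul : ∀ g f : PowerSeries k, alg.toSMul.smul g f = g ^ p * f := fun g f => rfl
  refine @Module.Finite.of_fg_top _ _ _ _ alg.toModule
    ⟨Finset.univ.image (fun i : Fin p => (PowerSeries.X : PowerSeries k) ^ (i : ℕ)), ?_⟩
  rw [eq_top_iff]
  rintro f -
  let g : Fin p → PowerSeries k := fun i =>
    PowerSeries.mk fun m => (frobeniusEquiv k p).symm (PowerSeries.coeff (m * p + i) f)
  have hf : f = ∑ i : Fin p, alg.toSMul.smul (g i) ((PowerSeries.X : PowerSeries k) ^ (i : ℕ)) := by
    ext n
    rw [map_sum]
    have hterm : ∀ i : Fin p, PowerSeries.coeff n (alg.toSMul.smul (g i) ((PowerSeries.X : PowerSeries k) ^ (i : ℕ))) =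
        if (i : ℕ) = n % p then PowerSeries.coeff n f else 0 := by
      intro i
      rw [hsmul, PowerSeries.coeff_mul_X_pow']
      split_ifs with h1 h2 h2
      · rw [coeff_pow_p]
        have hdvd : p ∣ n - i := by
          rw [h2]
          exact (Nat.modEq_iff_dvd' (Nat.mod_le n p)).mp (Nat.mod_modEq n p)
        rw [if_pos hdvd, PowerSeries.coeff_mk]
        have : (n - i) / p * p + i = n := by
          rw [Nat.div_mul_cancel hdvd]; omega
        rw [this]
        exact frobeniusEquiv_symm_pow_p k p _
      · rw [coeff_pow_p, if_neg]
        intro hdvd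
        apply h2
        have := (Nat.modEq_iff_dvd' h1).mpr hdvd
        have h3 : (i : ℕ) % p = n % p := this
        rw [Nat.mod_eq_of_lt i.2] at h3
        exact h3
      · exfalso
        apply h1
        rw [h2]
        exact Nat.mod_le n p
      · rfl
    rw [Finset.sum_congr rfl (fun i _ => hterm i)]
    rw [Finset.sum_eq_single ⟨n % p, Nat.mod_lt n hp⟩]
    · rw [if_pos rfl]
    · intro i _ hi
      rw [if_neg]
      intro h
      apply hi
      exact Fin.ext h
    · intro h
      exact absurd (Finset.mem_univ _) h
  rw [hf]
  apply Submodule.sum_mem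
  intro i _
  refine @Submodule.smul_mem _ _ _ _ alg.toModule _ _ (g i) ?_
  refine @Submodule.subset_span _ _ _ _ alg.toModule _ _ ?_
  exact Finset.mem_coe.mpr (Finset.mem_image_of_mem _ (Finset.mem_univ i))

end powerSeries

/-- Let p be a prime, k a finite field of characteristic p, A a commutative k[[t]]-algebra of finite
type over the power series ring k[[t]], and P a prime ideal of A. Then the absolute Frobenius a ↦
a^p of the local ring A_P is a finite ring homomorphism. In particular every local ring of a scheme
of finite type over k[[t]] has finite absolute Frobenius. (The instance hypothesis that A_P has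
characteristic p always holds, A_P being a nonzero algebra over k.) The published statement is for
the local rings of a projective strictly semistable scheme over k[[t]] and adds that such a scheme
is regular with F-finite local rings; its proof uses only that the scheme is of finite type over
k[[t]], which is the form stated here. -/
theorem result (p : ℕ) [Fact p.Prime]
    (k : Type u) [Field k] [Finite k] [CharP k p]
    (A : Type u) [CommRing A] [Algebra (PowerSeries k) A] [Algebra.FiniteType (PowerSeries k) A]
    (P : Ideal A) [P.IsPrime] [CharP (Localization.AtPrime P) p] :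
    (frobenius (Localization.AtPrime P) p).Finite := by
  letI := charP_powerSeries p k
  have hnt : Nontrivial A := ⟨⟨0, 1, fun h => (Ideal.IsPrime.ne_top ‹P.IsPrime›)
    ((Ideal.eq_top_iff_one P).mpr (h ▸ P.zero_mem))⟩⟩
  have hpA : ((p : ℕ) : A) = 0 := by
    have : ((p : ℕ) : A) = algebraMap (PowerSeries k) A ((p : ℕ) : PowerSeries k) := by
      rw [map_natCast]
    rw [this, CharP.cast_eq_zero, map_zero]
  have hcharA : CharP A p := by
    have h1 := CharP.ringChar_of_prime_eq_zero (R := A) (Fact.out : p.Prime) hpA
    have h2 := ringChar.charP A
    rw [h1] at h2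
    exact h2
  have hA : (frobenius A p).Finite :=
    finite_of_finiteType p (PowerSeries k) A (frobenius_powerSeries_finite p k)
  exact (Groth.Agent.S19092.result p A hA).2 P.primeCompl (Localization.AtPrime P)

end Groth.Agent.S19093
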