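import Groth.Statements.S19106

set_option autoImplicit false
open HilbD

namespace Groth.Agent.S19106

theorem card_shift (μ : YoungDiagram) (a b : ℕ) :
    (μ.cells.filter (fun c => (c.1 + a, c.2 + b) ∈ μ)).card =
      (μ.cells.filter (fun c => a ≤ c.1 ∧ b ≤ c.2)).card := by
  refine Finset.card_bij (fun c _ => (c.1 + a, c.2 + b)) ?_ ?_ ?_
  · rintro ⟨i, j⟩ hc
    rw [Finset.mem_filter] at hc ⊢
    exact ⟨(YoungDiagram.mem_cells _).mpr hc.2, Nat.le_add_left a i, Nat.le_add_left b j⟩
  · rintro ⟨i₁, j₁⟩ _ ⟨i₂, j₂⟩ _ h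
    simp only [Prod.mk.injEq] at h ⊢
    omega
  · rintro ⟨i, j⟩ hc
    rw [Finset.mem_filter] at hc
    obtain ⟨hc1, hi, hj⟩ := hc
    simp only at hi hj
    have hmem : (i, j) ∈ μ := (YoungDiagram.mem_cells _).mp hc1
    refine ⟨(i - a, j - b), ?_, ?_⟩
    · rw [Finset.mem_filter]
      refine ⟨(YoungDiagram.mem_cells _).mpr
        (μ.up_left_mem (Nat.sub_le _ _) (Nat.sub_le _ _) hmem), ?_⟩
      simp only
      rw [Nat.sub_add_cancel hi, Nat.sub_add_cancel hj]
      exact hmem
    · simp only
      rw [Nat.sub_add_cancel hi, Nat.sub_add_cancel hj]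

/-- Let μ be a non-empty Young diagram, V the number of its cells, E the number of unordered pairs of
cells sharing a side (a cell together with the cell immediately below it, or immediately to its
right, both in μ) and Q the number of 2 × 2 blocks of cells of μ (cells c such that the cell
diagonally below-right of c is in μ, the other two corners being in μ automatically). Then V − E + Q
− 1 = 0, stated as V + Q = E + 1 in the naturals. (The empty diagram, for which the count reads 0 −
0 + 0 − 1, is excluded.) -/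
theorem result (μ : YoungDiagram) (hμ : μ ≠ ⊥) :
    μ.cells.card + (μ.cells.filter (fun c => (c.1 + 1, c.2 + 1) ∈ μ)).card =
      (μ.cells.filter (fun c => (c.1 + 1, c.2) ∈ μ)).card + (μ.cells.filter (fun c => (c.1, c.2 + 1) ∈ μ)).card + 1 := by
  classical
  have h00 : ((0, 0) : ℕ × ℕ) ∈ μ.cells := by
    have hne : μ.cells.Nonempty := by
      rw [Finset.nonempty_iff_ne_empty]
      intro h
      apply hμ
      apply SetLike.ext
      intro x
      rw [← YoungDiagram.mem_cells, h]
      simp [YoungDiagram.notMem_bot]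
    obtain ⟨⟨i, j⟩, hc⟩ := hne
    rw [YoungDiagram.mem_cells] at hc ⊢
    exact μ.up_left_mem (Nat.zero_le _) (Nat.zero_le _) hc
  have hQ := card_shift μ 1 1
  have hD := card_shift μ 1 0
  have hR := card_shift μ 0 1
  simp only [add_zero, Nat.zero_le, true_and, and_true] at hD hR
  rw [hQ, hD, hR]
  have hinter : μ.cells.filter (fun c => 1 ≤ c.1) ∩ μ.cells.filter (fun c => 1 ≤ c.2) =
      μ.cells.filter (fun c => 1 ≤ c.1 ∧ 1 ≤ c.2) := by
    ext c
    simp only [Finset.mem_inter, Finset.mem_filter]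
    tauto
  have hunion : μ.cells.filter (fun c => 1 ≤ c.1) ∪ μ.cells.filter (fun c => 1 ≤ c.2) =
      μ.cells.erase (0, 0) := by
    ext ⟨i, j⟩
    simp only [Finset.mem_union, Finset.mem_filter, Finset.mem_erase, ne_eq, Prod.mk.injEq]
    constructor
    · rintro (⟨h, h1⟩ | ⟨h, h1⟩)
      · exact ⟨by omega, h⟩
      · exact ⟨by omega, h⟩
    · rintro ⟨h1, h⟩
      by_cases hi : 1 ≤ i
      · exact Or.inl ⟨h, hi⟩
      · exact Or.inr ⟨h, by omega⟩
  have h1 := Finset.card_union_add_card_inter (μ.cells.filter (fun c => 1 ≤ c.1))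
    (μ.cells.filter (fun c => 1 ≤ c.2))
  rw [hinter, hunion, Finset.card_erase_of_mem h00] at h1
  have hpos : 0 < μ.cells.card := Finset.card_pos.mpr ⟨_, h00⟩
  omega

end Groth.Agent.S19106
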