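import Groth.Statements.S19127
import Groth.Agent.S0314
import Groth.Agent.Lib.AdicNoeth
import Groth.Agent.Lib.PowTorsCompl75
import Groth.Agent.Lib.HSLComplete75

set_option autoImplicit false
set_option linter.style.haveILetI false
universe u v
open FrobAlg

namespace Groth.Agent.S19127

open IsLocalRing Groth.Agent.Lib

/-- Embedding of a cofinite module into a finite power of the injective hull (any universe). -/
theorem exists_embedding (A : Type u) [CommRing A] [IsLocalRing A]
    (E : Type u) [AddCommGroup E] [Module A E] (ι : ResidueField A →ₗ[A] E)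
    (hι : InjHull.IsInjectiveHull ι)
    (M : Type v) [AddCommGroup M] [Module A M]
    (htors : LocCoh.IsPowerTorsion (maximalIdeal A) M)
    (hsoc : Module.Finite A ↥(LocCoh.torsionBy (maximalIdeal A) M)) :
    ∃ (n : ℕ) (g : M →ₗ[A] (Fin n → E)), Function.Injective g := by
  classical
  set m := maximalIdeal A with hm
  let S : Submodule A M := LocCoh.torsionBy m M
  -- the socle is essential in M
  have hess : ∀ x : M, x ≠ 0 → ∃ r : A, r • x ≠ 0 ∧ r • x ∈ S := by
    intro x hx
    have hex : ∃ N : ℕ, ∀ a ∈ m ^ N, a • x = 0 := htors x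
    have hN := Nat.find_spec hex
    have hN0 : Nat.find hex ≠ 0 := by
      intro h0
      rw [h0] at hN
      exact hx (by simpa using hN 1 (by simp))
    obtain ⟨N', hN'⟩ := Nat.exists_eq_succ_of_ne_zero hN0
    have hmin : ¬ ∀ a ∈ m ^ N', a • x = 0 := Nat.find_min hex (by omega)
    push Not at hmin
    obtain ⟨r, hr, hrx⟩ := hmin
    refine ⟨r, hrx, ?_⟩
    change r • x ∈ Submodule.torsionBySet A M (m : Set A)
    rw [Submodule.mem_torsionBySet_iff]
    rintro ⟨a, ha⟩
    rw [smul_smul]
    apply hN
    rw [hN', pow_succ']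
    exact Ideal.mul_mem_mul ha hr
  -- the socle is a finite-dimensional vector space over the residue field
  letI : Field (A ⧸ m) := Ideal.Quotient.field m
  haveI : Module.Finite (A ⧸ m) S := Module.Finite.of_restrictScalars_finite A (A ⧸ m) S
  let b := Module.finBasis (A ⧸ m) S
  let e : S ≃ₗ[A] (Fin (Module.finrank (A ⧸ m) S) → A ⧸ m) := b.equivFun.restrictScalars A
  let f' : (A ⧸ m) →ₗ[A] E := ι
  have hf' : Function.Injective f' := hι.injective
  let φ : S →ₗ[A] (Fin (Module.finrank (A ⧸ m) S) → E) :=
    (f'.compLeft (Fin (Module.finrank (A ⧸ m) S))) ∘ₗ e.toLinearMap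
  have hφ : Function.Injective φ := by
    intro x y hxy
    apply e.injective
    exact (Function.Injective.comp_left hf') hxy
  haveI : Module.Injective A E := hι.isInjective
  haveI hpi : Module.Injective A (Fin (Module.finrank (A ⧸ m) S) → E) := inferInstance
  obtain ⟨g, hg⟩ := Module.Injective.extension_property A
    (Fin (Module.finrank (A ⧸ m) S) → E) S M S.subtype S.injective_subtype φ
  refine ⟨_, g, ?_⟩
  rw [← LinearMap.ker_eq_bot, Submodule.eq_bot_iff]
  intro x hx
  by_contra hx0
  obtain ⟨r, hr0, hrS⟩ := hess x hx0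
  have h1 : g (r • x) = 0 := by rw [map_smul, LinearMap.mem_ker.mp hx, smul_zero]
  have h2 : g (r • x) = φ ⟨r • x, hrS⟩ := by
    rw [← hg]
    rfl
  rw [h2] at h1
  have h3 : (⟨r • x, hrS⟩ : S) = 0 := hφ (h1.trans (map_zero φ).symm)
  exact hr0 (congrArg Subtype.val h3)


/-- Let p be a prime, A a Noetherian local ring of characteristic p with maximal ideal m, and M an
A-module which is cofinite, meaning that every element of M is annihilated by some power of m and
that the socle of M (the elements annihilated by m) is a finitely generated A-module. Let φ : M → M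
be an additive map that is semilinear for the Frobenius of A, φ(a x) = a^p φ(x). If φ is locally
nilpotent, i.e. every element of M is annihilated by some iterate of φ, then φ is nilpotent: one
iterate of φ is zero on all of M. -/
theorem result
    (p : ℕ) [Fact p.Prime] (A : Type u) [CommRing A] [IsNoetherianRing A] [IsLocalRing A] [CharP A p]
    (M : Type v) [AddCommGroup M] [Module A M]
    (htors : LocCoh.IsPowerTorsion (IsLocalRing.maximalIdeal A) M)
    (hsoc : Module.Finite A ↥(LocCoh.torsionBy (IsLocalRing.maximalIdeal A) M))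
    (φ : M →ₛₗ[frobenius A p] M)
    (hloc : ∀ x : M, ∃ n : ℕ, (⇑φ)^[n] x = 0) :
    ∃ n : ℕ, ∀ x : M, (⇑φ)^[n] x = 0 := by
  classical
  -- injective hull and embedding
  obtain ⟨E, _, _, ι, hι⟩ := Groth.Agent.S0299.result A (ResidueField A)
  obtain ⟨n, g, hg⟩ := exists_embedding A E ι hι M htors hsoc
  let N : Submodule A (Fin n → E) := LinearMap.range g
  let e : M ≃ₗ[A] N := LinearEquiv.ofInjective g hg
  haveI : IsArtinian A E := Groth.Agent.S0314.result A E ι hι
  haveI : IsArtinian A N := inferInstance
  have hN : PowTorsCompl75.IsPT (maximalIdeal A) N := by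
    intro y
    obtain ⟨k, hk⟩ := htors (e.symm y)
    refine ⟨k, fun a ha => ?_⟩
    have := hk a ha
    rw [← map_smul] at this
    exact e.symm.injective (this.trans (map_zero e.symm).symm)
  -- the completion acts
  letI := PowTorsCompl75.cmodule hN
  haveI := PowTorsCompl75.isScalarTower hN
  haveI : IsNoetherianRing (AdicCompletion (maximalIdeal A) A) :=
    AdicNoeth.isNoetherianRing_adicCompletion _
  haveI : IsArtinian (AdicCompletion (maximalIdeal A) A) N := isArtinian_of_tower A inferInstance
  -- the transported map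
  let f : N →+ N := (e.toAddMonoidHom.comp φ.toAddMonoidHom).comp e.symm.toAddMonoidHom
  have hfe : ∀ x : M, f (e x) = e (φ x) := by
    intro x
    show e (φ (e.symm (e x))) = e (φ x)
    rw [LinearEquiv.symm_apply_apply]
  have hfA : ∀ (a : A) (y : N), f (a • y) = a ^ p • f y := by
    intro a y
    show e (φ (e.symm (a • y))) = a ^ p • e (φ (e.symm y))
    rw [map_smul, LinearMap.map_smulₛₗ, map_smul, frobenius_def]
  have hfB := PowTorsCompl75.map_smul_pow hN p (⇑f) hfA
  have hiter : ∀ (k : ℕ) (x : M), (⇑f)^[k] (e x) = e ((⇑φ)^[k] x) := by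
    intro k
    induction k with
    | zero => intro x; rfl
    | succ k ih =>
      intro x
      rw [Function.iterate_succ_apply', Function.iterate_succ_apply', ih, hfe]
  have hlocN : ∀ y : N, ∃ k : ℕ, (⇑f)^[k] y = 0 := by
    intro y
    obtain ⟨k, hk⟩ := hloc (e.symm y)
    refine ⟨k, ?_⟩
    have := hiter k (e.symm y)
    rw [LinearEquiv.apply_symm_apply] at this
    rw [this, hk, map_zero]
  obtain ⟨k, hk⟩ := HSLComplete75.main (B := AdicCompletion (maximalIdeal A) A) p f hfB
    (Fact.out : p.Prime).two_le hlocN
  refine ⟨k, fun x => ?_⟩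
  have := hk (e x)
  rw [hiter] at this
  exact e.injective (this.trans (map_zero e).symm)

end Groth.Agent.S19127
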