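import Groth.Statements.S19136
import Mathlib.Tactic

set_option autoImplicit false
universe u
open Instab

namespace Groth.Agent.S19136

/-- Let p be a seminorm and ℓ a linear form on a real vector space, let y₀ and y₁ be vectors at which p
is positive and ℓ is non-negative, and let y = t y₀ + (1 - t) y₁ with 0 < t < 1 be a point of the
open segment at which p is positive. Then ℓ(y)/p(y) is at least the smaller of ℓ(y₀)/p(y₀) and
ℓ(y₁)/p(y₁), and if it equals that smaller value then ℓ(y₀)/p(y₀) = ℓ(y₁)/p(y₁). (The published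
lemma concerns the numerical invariant attached to a degree-two cohomology class and a semi-norm on
graded points of a stack; restricted to one rational simplex that invariant is the quotient of a
linear form by a semi-norm on the non-negative orthant of a real coordinate space, and local
quasi-concavity there amounts to this inequality with its equality clause, the set where the linear
form is non-negative being automatically convex; the lemma's further assertion, that the invariant
is positive at no pair of antipodal points, is not stated here. The vector space is arbitrary here.) -/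
theorem result {E : Type u} [AddCommGroup E] [Module ℝ E]
    (p : Seminorm ℝ E) (ℓ : E →ₗ[ℝ] ℝ) (y₀ y₁ : E) (h₀ : 0 < p y₀) (h₁ : 0 < p y₁)
    (hℓ₀ : 0 ≤ ℓ y₀) (hℓ₁ : 0 ≤ ℓ y₁) (t : ℝ) (ht₀ : 0 < t) (ht₁ : t < 1)
    (hy : 0 < p (t • y₀ + (1 - t) • y₁)) :
    min (ℓ y₀ / p y₀) (ℓ y₁ / p y₁) ≤ ℓ (t • y₀ + (1 - t) • y₁) / p (t • y₀ + (1 - t) • y₁) ∧
      (ℓ (t • y₀ + (1 - t) • y₁) / p (t • y₀ + (1 - t) • y₁) = min (ℓ y₀ / p y₀) (ℓ y₁ / p y₁) →
        ℓ y₀ / p y₀ = ℓ y₁ / p y₁) := by
  have hP : p (t • y₀ + (1 - t) • y₁) ≤ t * p y₀ + (1 - t) * p y₁ := by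
    refine (map_add_le_add p _ _).trans ?_
    rw [map_smul_eq_mul, map_smul_eq_mul, Real.norm_of_nonneg ht₀.le,
      Real.norm_of_nonneg (by linarith : (0 : ℝ) ≤ 1 - t)]
  have hℓ : ℓ (t • y₀ + (1 - t) • y₁) = t * ℓ y₀ + (1 - t) * ℓ y₁ := by
    simp [map_add, map_smul]
  set a := ℓ y₀
  set b := ℓ y₁
  set P₀ := p y₀
  set P₁ := p y₁
  set P := p (t • y₀ + (1 - t) • y₁)
  set μ := min (a / P₀) (b / P₁) with hμ
  have hμ0 : 0 ≤ μ := le_min (div_nonneg hℓ₀ h₀.le) (div_nonneg hℓ₁ h₁.le)
  have ha : μ * P₀ ≤ a := by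
    have : μ ≤ a / P₀ := min_le_left _ _
    rwa [le_div_iff₀ h₀] at this
  have hb : μ * P₁ ≤ b := by
    have : μ ≤ b / P₁ := min_le_right _ _
    rwa [le_div_iff₀ h₁] at this
  have h1t : 0 < 1 - t := by linarith
  have hkey : μ * P ≤ t * a + (1 - t) * b := by
    have h2 : μ * P ≤ μ * (t * P₀ + (1 - t) * P₁) := mul_le_mul_of_nonneg_left hP hμ0
    nlinarith
  rw [hℓ]
  refine ⟨by rw [le_div_iff₀ hy]; exact hkey, fun heq => ?_⟩
  rw [div_eq_iff hy.ne'] at heq
  -- equalities
  have h2 : μ * P ≤ μ * (t * P₀ + (1 - t) * P₁) := mul_le_mul_of_nonneg_left hP hμ0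
  have e1 : t * (a - μ * P₀) + (1 - t) * (b - μ * P₁) ≤ 0 := by nlinarith
  have ea : a - μ * P₀ = 0 := by
    have h3 : 0 ≤ t * (a - μ * P₀) := mul_nonneg ht₀.le (by linarith)
    have h4 : 0 ≤ (1 - t) * (b - μ * P₁) := mul_nonneg h1t.le (by linarith)
    have h5 : t * (a - μ * P₀) = 0 := by linarith
    rcases mul_eq_zero.mp h5 with h | h
    · linarith
    · exact h
  have eb : b - μ * P₁ = 0 := by
    have h3 : 0 ≤ t * (a - μ * P₀) := mul_nonneg ht₀.le (by linarith)
    have h4 : 0 ≤ (1 - t) * (b - μ * P₁) := mul_nonneg h1t.le (by linarith)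
    have h5 : (1 - t) * (b - μ * P₁) = 0 := by linarith
    rcases mul_eq_zero.mp h5 with h | h
    · linarith
    · exact h
  have : a / P₀ = μ := by
    rw [div_eq_iff h₀.ne']
    linarith
  have : b / P₁ = μ := by
    rw [div_eq_iff h₁.ne']
    linarith
  linarith

end Groth.Agent.S19136
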