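import Groth.Statements.S1914
import Groth.Agent.Lib.KoszulTor

set_option autoImplicit false
universe u
open CategoryTheory
attribute [local instance] HasDerivedCategory.standard
open IntMult

namespace Groth.Agent.S1914

/-- Let A be a Noetherian local ring, I = (g₁, …, g_c) an ideal generated by a regular sequence and M a
finite A-module with Supp(M/IM) of dimension ≤ 0. Then c! · length_A(M/I^t M)/t^c tends, as t → ∞,
to Σ_i (−1)^i length_A Tor_i^A(A/I, M); that is, e_I(M, c) equals this alternating sum. -/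
theorem result (A : Type u) [CommRing A] [IsNoetherianRing A] [IsLocalRing A] (c : ℕ) (g : Fin c → A) (hreg : RingTheory.Sequence.IsRegular A (List.ofFn g)) (M : Type u) [AddCommGroup M] [Module A M] [Module.Finite A M] (h0 : Module.supportDim A (M ⧸ (Ideal.span (Set.range g) • (⊤ : Submodule A M))) ≤ 0) : Filter.Tendsto (fun t : ℕ => (c.factorial : ℝ) * ((Module.length A (M ⧸ (Ideal.span (Set.range g) ^ t • (⊤ : Submodule A M)))).toNat : ℝ) / (t : ℝ) ^ c) Filter.atTop (nhds (IntMult.chi A (A ⧸ Ideal.span (Set.range g)) M : ℝ)) := by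
  have hI : Ideal.ofList (List.ofFn g) = Ideal.span (Set.range g) := by
    unfold Ideal.ofList
    congr 1
    ext b
    simp [List.mem_ofFn']
  have hgood : Groth.Agent.Lib.KoszulEuler.Good M (List.ofFn g) := by
    intro p hp hpl
    have hpq : p ∈ Module.support A (M ⧸ (Ideal.span (Set.range g) • (⊤ : Submodule A M))) := by
      rw [Module.support_quotient]
      refine ⟨hp, ?_⟩
      rw [PrimeSpectrum.zeroLocus_span]
      rintro a ⟨j, rfl⟩
      exact hpl _ ((List.mem_ofFn' _ _).mpr ⟨j, rfl⟩)
    unfold Module.supportDim at h0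
    rw [Order.krullDim_nonpos_iff_forall_isMax] at h0
    obtain ⟨m, hm, hpm⟩ := Ideal.exists_le_maximal p.asIdeal p.2.ne_top
    let q : PrimeSpectrum A := ⟨m, hm.isPrime⟩
    have hq : q ∈ Module.support A (M ⧸ (Ideal.span (Set.range g) • (⊤ : Submodule A M))) :=
      Module.mem_support_mono (show p ≤ q from hpm) hpq
    have hle : (⟨q, hq⟩ : Module.support A (M ⧸ (Ideal.span (Set.range g) • (⊤ : Submodule A M))))
        ≤ ⟨p, hpq⟩ := h0 ⟨p, hpq⟩ (show p ≤ q from hpm)
    have heq : p.asIdeal = m := le_antisymm hpm hle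
    rw [heq]
    exact hm
  have h1 := Groth.Agent.Lib.SerreMult.tendsto_samuel_kchi M c g hgood
  rw [← Groth.Agent.Lib.KoszulTor.chi_tor_eq_kchi (List.ofFn g) hreg.toIsWeaklyRegular M] at h1
  have hchi : IntMult.chi A (A ⧸ Ideal.ofList (List.ofFn g)) M =
      IntMult.chi A (A ⧸ Ideal.span (Set.range g)) M := by
    rw [hI]
  rw [hchi] at h1
  exact h1

end Groth.Agent.S1914
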