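import Groth.Statements.S19154
import Mathlib
-- import your own Groth.Agent.* helpers here

set_option autoImplicit false
open scoped TensorProduct
universe u v w
open FiltMod

namespace Groth.Agent.S19154

/-- (as in helper2's S19158) independence from disjointness with the sup of the later terms -/
theorem iSupIndep_of_disjoint_gt {ι α : Type*} [LinearOrder ι] [CompleteLattice α]
    [IsModularLattice α] [IsCompactlyGenerated α] (f : ι → α)
    (h : ∀ i, Disjoint (f i) (⨆ j ∈ Set.Ioi i, f j)) : iSupIndep f := by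
  rw [iSupIndep_iff_supIndep]
  intro s
  induction s using Finset.induction_on_min with
  | empty => exact Finset.supIndep_empty f
  | insert a s ha ih =>
    exact ih.insert ((h a).mono_right
      (Finset.sup_le fun j hj => le_iSup₂_of_le j (ha j hj) le_rfl))

theorem finrank_biSup {K H : Type*} [Field K] [AddCommGroup H] [Module K H]
    [FiniteDimensional K H] {ι : Type*} [DecidableEq ι]
    (Hs : ι → Submodule K H) (hind : iSupIndep Hs) (S : Finset ι) :
    Module.finrank K ↥(⨆ i ∈ S, Hs i) = ∑ i ∈ S, Module.finrank K (Hs i) := by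
  induction S using Finset.induction_on with
  | empty => simp
  | insert k S hk ih =>
    rw [Finset.iSup_insert, Finset.sum_insert hk, ← ih]
    have hdisj : Hs k ⊓ (⨆ i ∈ S, Hs i) = ⊥ := by
      have := hind.disjoint_biSup (x := k) (y := (S : Set ι)) (by simpa using hk)
      simpa using this.eq_bot
    have := Submodule.finrank_sup_add_finrank_inf_eq (Hs k) (⨆ i ∈ S, Hs i)
    rw [hdisj, finrank_bot, add_zero] at this
    exact this

section BC

variable {R : Type*} [CommRing R] {M : Type*} [AddCommGroup M] [Module R M]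
  (A : Type*) [CommRing A] [Algebra R A]

lemma bc_iSup {ι : Sort*} (p : ι → Submodule R M) :
    (⨆ i, p i).baseChange A = ⨆ i, (p i).baseChange A := by
  apply le_antisymm
  · rw [Submodule.baseChange_eq_span, Submodule.span_le]
    rintro _ ⟨m, hm, rfl⟩
    refine Submodule.iSup_induction p
      (motive := fun m => (1 : A) ⊗ₜ[R] m ∈ ⨆ i, (p i).baseChange A) hm ?_ ?_ ?_
    · intro i x hx
      exact (le_iSup (fun i => (p i).baseChange A) i) (Submodule.tmul_mem_baseChange_of_mem 1 hx)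
    · simp
    · intro x y hx hy
      rw [TensorProduct.tmul_add]
      exact add_mem hx hy
  · exact iSup_le fun i => Submodule.baseChange_mono A (le_iSup p i)

lemma bc_biSup {ι : Type*} (s : Set ι) (p : ι → Submodule R M) :
    (⨆ i ∈ s, p i).baseChange A = ⨆ i ∈ s, (p i).baseChange A := by
  rw [bc_iSup]
  refine iSup_congr fun i => ?_
  rw [bc_iSup]

lemma bc_sup (p q : Submodule R M) :
    (p ⊔ q).baseChange A = p.baseChange A ⊔ q.baseChange A := by
  rw [sup_eq_iSup, bc_iSup, sup_eq_iSup]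
  refine iSup_congr fun b => ?_
  cases b <;> rfl

end BC

section Field

variable {Γ : Type*} [LinearOrder Γ] {K : Type*} [Field K] {V : Type*} [AddCommGroup V]
  [Module K V] [FiniteDimensional K V]

lemma finsum_le_finrank (B C : Γ → Submodule K V) (hC : ∀ γ, C γ ≤ B γ)
    (hBC : ∀ γ, B γ ≤ (⨆ η ∈ Set.Ioi γ, B η) ⊔ C γ) :
    ∑ᶠ γ, (Module.finrank K (B γ) - Module.finrank K ↥(⨆ η ∈ Set.Ioi γ, B η)) ≤
      Module.finrank K ↥(⨆ γ, C γ) := by
  classical
  by_cases hfin : (Function.support fun γ =>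
      Module.finrank K (B γ) - Module.finrank K ↥(⨆ η ∈ Set.Ioi γ, B η)).Finite
  swap
  · rw [finsum_of_infinite_support hfin]; exact Nat.zero_le _
  have hex : ∀ γ, ∃ D : Submodule K V, D ≤ C γ ∧ Disjoint D (⨆ η ∈ Set.Ioi γ, B η) ∧
      C γ ≤ (⨆ η ∈ Set.Ioi γ, B η) ⊔ D := by
    intro γ
    set Bp := ⨆ η ∈ Set.Ioi γ, B η with hBp
    obtain ⟨q, hq⟩ := Submodule.exists_isCompl (C γ ⊓ Bp)
    refine ⟨C γ ⊓ q, inf_le_left, ?_, ?_⟩
    · rw [disjoint_iff]
      calc C γ ⊓ q ⊓ Bp = (C γ ⊓ Bp) ⊓ q := by ac_rfl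
        _ = ⊥ := hq.inf_eq_bot
    · calc C γ = ((C γ ⊓ Bp) ⊔ q) ⊓ C γ := by rw [hq.sup_eq_top, top_inf_eq]
        _ = (C γ ⊓ Bp) ⊔ (q ⊓ C γ) := sup_inf_assoc_of_le q inf_le_left
        _ ≤ Bp ⊔ (C γ ⊓ q) := by rw [inf_comm q]; exact sup_le_sup inf_le_right le_rfl
  choose D hDC hDdisj hDsup using hex
  have hind : iSupIndep D := iSupIndep_of_disjoint_gt D fun i =>
    (hDdisj i).mono_right (iSup₂_mono fun j _ => (hDC j).trans (hC j))
  have hle : ∀ γ, Module.finrank K (B γ) - Module.finrank K ↥(⨆ η ∈ Set.Ioi γ, B η)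
      ≤ Module.finrank K (D γ) := by
    intro γ
    have h1 : B γ ≤ (⨆ η ∈ Set.Ioi γ, B η) ⊔ D γ := (hBC γ).trans (sup_le le_sup_left (hDsup γ))
    have h2 := Submodule.finrank_mono h1
    have h3 := Submodule.finrank_add_le_finrank_add_finrank (⨆ η ∈ Set.Ioi γ, B η) (D γ)
    omega
  rw [finsum_eq_sum_of_support_subset _ (s := hfin.toFinset) (by simp)]
  calc _ ≤ ∑ γ ∈ hfin.toFinset, Module.finrank K (D γ) := Finset.sum_le_sum fun γ _ => hle γ
    _ = Module.finrank K ↥(⨆ γ ∈ hfin.toFinset, D γ) := (finrank_biSup D hind _).symm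
    _ ≤ Module.finrank K ↥(⨆ γ, C γ) :=
      Submodule.finrank_mono (iSup₂_le fun γ _ => (hDC γ).trans (le_iSup C γ))

end Field

section ModLevel

variable {Γ : Type w} [LinearOrder Γ] {R : Type u} [CommRing R] {M : Type v} [AddCommGroup M]
  [Module R M]

lemma indep_of_disjoint (F G : Γ → Submodule R M) (hGF : ∀ γ, G γ ≤ F γ)
    (hdisj : ∀ γ, Disjoint (G γ) (⨆ η ∈ Set.Ioi γ, F η)) : iSupIndep G :=
  iSupIndep_of_disjoint_gt G fun i => (hdisj i).mono_right (iSup₂_mono fun j _ => hGF j)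

lemma le_biSup_of_internal (F G : Γ → Submodule R M) (hGF : ∀ γ, G γ ≤ F γ)
    (hdisj : ∀ γ, Disjoint (G γ) (⨆ η ∈ Set.Ioi γ, F η)) (hint : DirectSum.IsInternal G) (γ : Γ) :
    F γ ≤ ⨆ η ∈ Set.Ici γ, G η := by
  classical
  let _ : DirectSum.Decomposition G := hint.chooseDecomposition
  intro x hx
  have hsum := DirectSum.sum_support_decompose G x
  set d := DirectSum.decompose G x with hd
  by_cases hs : ∀ η ∈ d.support, γ ≤ η
  · rw [← hsum]
    exact Submodule.sum_mem _ fun η hη =>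
      Submodule.mem_iSup_of_mem η (Submodule.mem_iSup_of_mem (hs η hη) (d η).2)
  · exfalso
    push Not at hs
    obtain ⟨η₁, hη₁, hlt⟩ := hs
    let s := d.support.filter (· < γ)
    have hsne : s.Nonempty := ⟨η₁, by simp [s, hη₁, hlt]⟩
    have hη₀s : s.min' hsne ∈ s := s.min'_mem hsne
    set η₀ := s.min' hsne with hη₀def
    have hη₀ : η₀ ∈ d.support ∧ η₀ < γ := by simpa [s] using hη₀s
    have key : ((d η₀ : G η₀) : M) ∈ ⨆ η ∈ Set.Ioi η₀, F η := by
      have : ((d η₀ : G η₀) : M) = x - ∑ η ∈ d.support.erase η₀, ((d η : G η) : M) := by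
        rw [eq_sub_iff_add_eq,
          Finset.add_sum_erase d.support (fun η => ((d η : G η) : M)) hη₀.1, hsum]
      rw [this]
      apply Submodule.sub_mem
      · exact (le_iSup₂_of_le γ hη₀.2 le_rfl : F γ ≤ _) hx
      · apply Submodule.sum_mem
        intro η hη
        rw [Finset.mem_erase] at hη
        have hgt : η₀ < η := by
          rcases lt_trichotomy η η₀ with h | h | h
          · exfalso
            have hmem : η ∈ s := by simp [s, hη.2, h.trans hη₀.2]
            exact absurd (s.min'_le η hmem) (not_le.mpr h)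
          · exact absurd h hη.1
          · exact h
        exact (le_iSup₂_of_le η hgt le_rfl : F η ≤ _) (hGF η (d η).2)
    have h0 : ((d η₀ : G η₀) : M) = 0 := by
      have := (hdisj η₀).le_bot ⟨(d η₀).2, key⟩
      simpa using this
    have h0' : d η₀ = 0 := Subtype.ext h0
    exact (DFinsupp.mem_support_iff.mp hη₀.1) h0'

end ModLevel


section Back

variable {Γ : Type w} [LinearOrder Γ]
  {R : Type u} [CommRing R] {M : Type v} [AddCommGroup M] [Module R M]

/-- a complement of `Fpγ` inside `Fγ` from projectivity of the quotient -/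
lemma exists_compl (Fγ Fpγ : Submodule R M)
    (hproj : Module.Projective R (↥Fγ ⧸ Submodule.comap Fγ.subtype Fpγ)) :
    ∃ G : Submodule R M, G ≤ Fγ ∧ Disjoint G Fpγ ∧ Fγ ≤ Fpγ ⊔ G := by
  obtain ⟨s, hs⟩ := Module.projective_lifting_property
    (Submodule.comap Fγ.subtype Fpγ).mkQ LinearMap.id (Submodule.mkQ_surjective _)
  have hs' : ∀ q, (Submodule.comap Fγ.subtype Fpγ).mkQ (s q) = q := fun q =>
    LinearMap.congr_fun hs q
  refine ⟨(LinearMap.range s).map Fγ.subtype, ?_, ?_, ?_⟩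
  · rintro _ ⟨y, _, rfl⟩
    exact y.2
  · rw [Submodule.disjoint_def]
    rintro _ ⟨y, ⟨q, rfl⟩, rfl⟩ hmem
    have h0 : (Submodule.comap Fγ.subtype Fpγ).mkQ (s q) = 0 := by
      rw [Submodule.mkQ_apply, Submodule.Quotient.mk_eq_zero]
      exact hmem
    have hq : q = 0 := by rw [← hs' q, h0]
    simp [hq]
  · intro y hy
    have h1 : (⟨y, hy⟩ : Fγ) - s ((Submodule.comap Fγ.subtype Fpγ).mkQ ⟨y, hy⟩)
        ∈ Submodule.comap Fγ.subtype Fpγ := by
      rw [← Submodule.Quotient.mk_eq_zero, Submodule.Quotient.mk_sub, sub_eq_zero]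
      exact (hs' _).symm
    have hy_eq : y = Fγ.subtype ((⟨y, hy⟩ : Fγ) - s ((Submodule.comap Fγ.subtype Fpγ).mkQ ⟨y, hy⟩))
        + Fγ.subtype (s ((Submodule.comap Fγ.subtype Fpγ).mkQ ⟨y, hy⟩)) := by
      simp
    rw [hy_eq]
    exact Submodule.add_mem_sup h1 ⟨_, ⟨_, rfl⟩, rfl⟩

variable [Module.Finite R M]

lemma eq_top_of_fibres (N : Submodule R M)
    (h : ∀ p : PrimeSpectrum R, N.baseChange p.asIdeal.ResidueField = ⊤) : N = ⊤ := by
  rw [← Submodule.Quotient.subsingleton_iff, ← Module.support_eq_empty_iff (R := R)]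
  ext p
  simp only [Set.mem_empty_iff_false, iff_false]
  rw [Module.mem_support_iff_nontrivial_residueField_tensorProduct,
    not_nontrivial_iff_subsingleton]
  refine ⟨fun a b => ?_⟩
  have hsurj : Function.Surjective (N.mkQ.baseChange p.asIdeal.ResidueField) := by
    rw [LinearMap.baseChange_eq_ltensor]
    exact LinearMap.lTensor_surjective _ (Submodule.mkQ_surjective N)
  have hzero : ∀ v : p.asIdeal.ResidueField ⊗[R] M,
      N.mkQ.baseChange p.asIdeal.ResidueField v = 0 := by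
    intro v
    have hv : v ∈ N.baseChange p.asIdeal.ResidueField := by rw [h p]; trivial
    obtain ⟨w, rfl⟩ := hv
    rw [← LinearMap.comp_apply, ← LinearMap.baseChange_comp]
    have : N.mkQ ∘ₗ N.subtype = 0 := by
      ext x; simp
    rw [this, LinearMap.baseChange_zero, LinearMap.zero_apply]
  obtain ⟨a', rfl⟩ := hsurj a
  obtain ⟨b', rfl⟩ := hsurj b
  rw [hzero, hzero]

lemma back (F Fp : Γ → Submodule R M)
    (hFp : ∀ γ, Fp γ = ⨆ η ∈ Set.Ioi γ, F η)
    (hproj : ∀ γ, Module.Projective R (↥(F γ) ⧸ Submodule.comap (F γ).subtype (Fp γ)))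
    (hF : Antitone F)
    (hdim : ∀ p : PrimeSpectrum R,
      Module.finrank p.asIdeal.ResidueField (p.asIdeal.ResidueField ⊗[R] M) =
        ∑ᶠ γ, (Module.finrank p.asIdeal.ResidueField ↥((F γ).baseChange p.asIdeal.ResidueField) -
          Module.finrank p.asIdeal.ResidueField
            ↥(⨆ η ∈ Set.Ioi γ, (F η).baseChange p.asIdeal.ResidueField))) :
    ∃ G : Γ → Submodule R M, DirectSum.IsInternal G ∧ ∀ γ, F γ = ⨆ η ∈ Set.Ici γ, G η := by
  choose G hGF hGdisj hGsup using fun γ => exists_compl (F γ) (Fp γ) (hproj γ)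
  have hdisj' : ∀ γ, Disjoint (G γ) (⨆ η ∈ Set.Ioi γ, F η) := fun γ => hFp γ ▸ hGdisj γ
  have hind := indep_of_disjoint F G hGF hdisj'
  have htop : ⨆ γ, G γ = ⊤ := by
    apply eq_top_of_fibres
    intro p
    rw [bc_iSup]
    apply Submodule.eq_top_of_finrank_eq
    apply le_antisymm (Submodule.finrank_le _)
    rw [hdim p]
    apply finsum_le_finrank
    · exact fun γ => Submodule.baseChange_mono _ (hGF γ)
    · intro γ
      rw [← bc_biSup, ← hFp γ, ← bc_sup]
      exact Submodule.baseChange_mono _ (hGsup γ)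
  have hint : DirectSum.IsInternal G :=
    (DirectSum.isInternal_submodule_iff_iSupIndep_and_iSup_eq_top _).2 ⟨hind, htop⟩
  refine ⟨G, hint, fun γ => le_antisymm (le_biSup_of_internal F G hGF hdisj' hint γ) ?_⟩
  exact iSup₂_le fun η hη => (hGF η).trans (hF hη)

end Back


section Fwd

variable {Γ : Type w} [LinearOrder Γ]
  {R : Type u} [CommRing R] {M : Type v} [AddCommGroup M] [Module R M]

lemma Ici_eq_sup {α : Type*} [CompleteLattice α] (G : Γ → α) (γ : Γ) :
    (⨆ η ∈ Set.Ici γ, G η) = G γ ⊔ ⨆ η ∈ Set.Ioi γ, G η := by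
  apply le_antisymm
  · apply iSup₂_le
    intro η hη
    rcases eq_or_lt_of_le (Set.mem_Ici.mp hη) with h | h
    · rw [← h]; exact le_sup_left
    · exact le_sup_of_le_right (le_iSup₂_of_le η h le_rfl)
  · exact sup_le (le_iSup₂_of_le γ (Set.mem_Ici.mpr le_rfl) le_rfl)
      (iSup₂_le fun η hη => le_iSup₂_of_le η (le_of_lt hη) le_rfl)

lemma Ioi_Ici_eq {α : Type*} [CompleteLattice α] (G : Γ → α) (γ : Γ) :
    (⨆ η ∈ Set.Ioi γ, ⨆ ζ ∈ Set.Ici η, G ζ) = ⨆ η ∈ Set.Ioi γ, G η := by
  apply le_antisymm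
  · apply iSup₂_le
    intro η hη
    exact iSup₂_le fun ζ hζ => le_iSup₂_of_le ζ (lt_of_lt_of_le hη hζ) le_rfl
  · exact iSup₂_mono fun η hη => le_iSup₂_of_le η (Set.mem_Ici.mpr le_rfl) le_rfl

lemma Ioi_le_ne {α : Type*} [CompleteLattice α] (G : Γ → α) (γ : Γ) :
    (⨆ η ∈ Set.Ioi γ, G η) ≤ ⨆ (j) (_ : j ≠ γ), G j :=
  iSup₂_le fun η hη => le_iSup₂_of_le η (ne_of_gt hη) le_rfl

lemma isCompl_of_internal (G : Γ → Submodule R M) (hind : iSupIndep G) (htop : ⨆ γ, G γ = ⊤)
    (γ : Γ) : IsCompl (G γ) (⨆ (j) (_ : j ≠ γ), G j) := by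
  refine ⟨hind γ, ?_⟩
  rw [codisjoint_iff, eq_top_iff, ← htop]
  apply iSup_le
  intro j
  by_cases h : j = γ
  · rw [h]; exact le_sup_left
  · exact le_sup_of_le_right (le_iSup₂_of_le j h le_rfl)

lemma gr_equiv (F Fp G : Γ → Submodule R M) (hind : iSupIndep G)
    (hFG : ∀ γ, F γ = ⨆ η ∈ Set.Ici γ, G η) (hFp : ∀ γ, Fp γ = ⨆ η ∈ Set.Ioi γ, F η) (γ : Γ) :
    Nonempty (G γ ≃ₗ[R] (↥(F γ) ⧸ Submodule.comap (F γ).subtype (Fp γ))) := by
  have hGF : G γ ≤ F γ := by
    rw [hFG γ]; exact le_iSup₂_of_le γ (Set.mem_Ici.mpr le_rfl) le_rfl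
  have hFp' : Fp γ = ⨆ η ∈ Set.Ioi γ, G η := by
    rw [hFp γ]
    simp_rw [hFG]
    exact Ioi_Ici_eq G γ
  let f : G γ →ₗ[R] (↥(F γ) ⧸ Submodule.comap (F γ).subtype (Fp γ)) :=
    (Submodule.comap (F γ).subtype (Fp γ)).mkQ ∘ₗ Submodule.inclusion hGF
  refine ⟨LinearEquiv.ofBijective f ⟨?_, ?_⟩⟩
  · rw [injective_iff_map_eq_zero]
    intro x hx
    have hx' : (x : M) ∈ Fp γ := by
      have : Submodule.inclusion hGF x ∈ Submodule.comap (F γ).subtype (Fp γ) := by
        rw [← Submodule.Quotient.mk_eq_zero]; exact hx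
      exact this
    rw [hFp'] at hx'
    have := (hind γ).le_bot ⟨x.2, Ioi_le_ne G γ hx'⟩
    exact Subtype.ext (by simpa using this)
  · intro q
    obtain ⟨y, rfl⟩ := Submodule.Quotient.mk_surjective _ q
    have hy : (y : M) ∈ G γ ⊔ Fp γ := by
      rw [hFp', ← Ici_eq_sup, ← hFG γ]; exact y.2
    obtain ⟨g, hg, z, hz, hgz⟩ := Submodule.mem_sup.mp hy
    refine ⟨⟨g, hg⟩, ?_⟩
    show Submodule.Quotient.mk (Submodule.inclusion hGF ⟨g, hg⟩) = Submodule.Quotient.mk y
    rw [Submodule.Quotient.eq]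
    show ((Submodule.inclusion hGF ⟨g, hg⟩ - y : F γ) : M) ∈ Fp γ
    have : ((Submodule.inclusion hGF ⟨g, hg⟩ - y : F γ) : M) = -z := by
      rw [Submodule.coe_sub, ← hgz]; simp
    rw [this]
    exact neg_mem hz

lemma summand_finite_projective [Module.Finite R M] [Module.Projective R M]
    (G : Γ → Submodule R M) (hind : iSupIndep G) (htop : ⨆ γ, G γ = ⊤) (γ : Γ) :
    Module.Finite R (G γ) ∧ Module.Projective R (G γ) := by
  have hc := isCompl_of_internal G hind htop γ
  constructor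
  · exact Module.Finite.of_surjective (Submodule.projectionOnto _ _ hc)
      (Submodule.projectionOnto_surjective hc)
  · exact Module.Projective.of_split (G γ).subtype (Submodule.projectionOnto _ _ hc)
      (Submodule.projectionOnto_comp_subtype hc)

lemma bc_disjoint (K : Type*) [CommRing K] [Algebra R K] (P Q : Submodule R M) (h : IsCompl P Q) :
    Disjoint (P.baseChange K) (Q.baseChange K) := by
  let e : M →ₗ[R] M := P.subtype ∘ₗ Submodule.projectionOnto P Q h
  have he1 : e ∘ₗ P.subtype = P.subtype := by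
    ext x
    simp only [e, LinearMap.comp_apply, Submodule.subtype_apply]
    rw [Submodule.projectionOnto_apply_left h x]
  have he2 : e ∘ₗ Q.subtype = 0 := by
    ext x
    simp only [e, LinearMap.comp_apply, Submodule.subtype_apply, LinearMap.zero_apply]
    rw [Submodule.projectionOnto_apply_right h x]
    rfl
  rw [Submodule.disjoint_def]
  rintro v ⟨a, rfl⟩ ⟨b, hb⟩
  have h1 : e.baseChange K (P.subtype.baseChange K a) = P.subtype.baseChange K a := by
    rw [← LinearMap.comp_apply, ← LinearMap.baseChange_comp, he1]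
  have h2 : e.baseChange K (Q.subtype.baseChange K b) = 0 := by
    rw [← LinearMap.comp_apply, ← LinearMap.baseChange_comp, he2, LinearMap.baseChange_zero,
      LinearMap.zero_apply]
  rw [← h1, ← hb, h2]

lemma fibre_formula [Module.Finite R M] (G : Γ → Submodule R M) (hind : iSupIndep G)
    (htop : ⨆ γ, G γ = ⊤) (K : Type*) [Field K] [Algebra R K] :
    Module.finrank K (K ⊗[R] M) =
      ∑ᶠ γ, (Module.finrank K ↥((⨆ η ∈ Set.Ici γ, G η).baseChange K) -
        Module.finrank K ↥(⨆ η ∈ Set.Ioi γ, (⨆ ζ ∈ Set.Ici η, G ζ).baseChange K)) := by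
  classical
  set Gb : Γ → Submodule K (K ⊗[R] M) := fun γ => (G γ).baseChange K with hGb
  have hindb : iSupIndep Gb := by
    intro γ
    have hc := isCompl_of_internal G hind htop γ
    have := bc_disjoint K _ _ hc
    rw [bc_iSup] at this
    simp_rw [bc_iSup] at this
    exact this
  have htopb : ⨆ γ, Gb γ = ⊤ := by
    rw [← bc_iSup, htop, Submodule.baseChange_top]
  have h1 : ∀ γ, (⨆ η ∈ Set.Ici γ, G η).baseChange K = Gb γ ⊔ ⨆ η ∈ Set.Ioi γ, Gb η := by
    intro γ
    rw [bc_biSup, Ici_eq_sup]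
  have h2 : ∀ γ, (⨆ η ∈ Set.Ioi γ, (⨆ ζ ∈ Set.Ici η, G ζ).baseChange K)
      = ⨆ η ∈ Set.Ioi γ, Gb η := by
    intro γ
    simp_rw [bc_biSup]
    exact Ioi_Ici_eq Gb γ
  have h3 : ∀ γ, Module.finrank K ↥((⨆ η ∈ Set.Ici γ, G η).baseChange K) -
        Module.finrank K ↥(⨆ η ∈ Set.Ioi γ, (⨆ ζ ∈ Set.Ici η, G ζ).baseChange K)
      = Module.finrank K (Gb γ) := by
    intro γ
    rw [h1, h2]
    have hd : Gb γ ⊓ (⨆ η ∈ Set.Ioi γ, Gb η) = ⊥ :=
      ((hindb γ).mono_right (Ioi_le_ne Gb γ)).eq_bot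
    have := Submodule.finrank_sup_add_finrank_inf_eq (Gb γ) (⨆ η ∈ Set.Ioi γ, Gb η)
    rw [hd, finrank_bot, add_zero] at this
    omega
  simp_rw [h3]
  have hfin : {γ | Gb γ ≠ ⊥}.Finite := WellFoundedGT.finite_ne_bot_of_iSupIndep hindb
  rw [finsum_eq_sum_of_support_subset _ (s := hfin.toFinset)]
  · rw [← finrank_biSup Gb hindb]
    have : (⨆ γ ∈ hfin.toFinset, Gb γ) = ⊤ := by
      rw [eq_top_iff, ← htopb]
      apply iSup_le
      intro γ
      by_cases h : Gb γ = ⊥
      · rw [h]; exact bot_le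
      · exact le_iSup₂_of_le γ (by simpa using h) le_rfl
    rw [this, finrank_top]
  · intro γ hγ
    simp only [Function.mem_support, ne_eq] at hγ
    simp only [Set.Finite.coe_toFinset, Set.mem_ofPred_eq]
    intro h0
    apply hγ
    rw [h0, finrank_bot]

end Fwd


/-- (1) ⇔ (4): in affine form, let Γ be a non-trivial totally ordered commutative group, R a commutative
ring, M a finitely generated projective R-module (a finite locally free sheaf on X = Spec R) and F a
non-increasing Γ-indexed family of submodules of M; write F^γ_+ for the sum of the F^η with η > γ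
and Gr^γ = F^γ/F^γ_+. Then the following are equivalent: (1) there is a Γ-grading M = ⊕_γ G_γ by
submodules (internal direct sum) with F^γ = Σ_{η ≥ γ} G_η for every γ; (4) every Gr^γ is finitely
generated projective over R and, for every prime p of R, dim_{κ(p)} (κ(p) ⊗ M) = Σ_γ dim_{κ(p)} Gr^γ
of the image filtration on κ(p) ⊗ M (whose γ-th term F_x^γ is the image of κ(p) ⊗ F^γ; dim Gr^γ is
written as dim F_x^γ − dim F_x^γ_+, and the sum has finitely many non-zero terms). (The source's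
conditions (2), (3) are the Zariski- and fpqc-local forms of (1) on a general scheme; its further
assertions on F^γ ⊗ κ(x) are not stated.) -/
theorem result
    {Γ : Type w} [AddCommGroup Γ] [LinearOrder Γ] [IsOrderedAddMonoid Γ] [Nontrivial Γ]
    {R : Type u} [CommRing R] {M : Type v} [AddCommGroup M] [Module R M] [Module.Finite R M] [Module.Projective R M]
    (F : Γ → Submodule R M) (hF : Antitone F)
    (Fp : Γ → Submodule R M) (hFp : ∀ γ, Fp γ = ⨆ η ∈ Set.Ioi γ, F η) :
    (∃ G : Γ → Submodule R M, DirectSum.IsInternal G ∧ ∀ γ, F γ = ⨆ η ∈ Set.Ici γ, G η) ↔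
    ((∀ γ, Module.Finite R (↥(F γ) ⧸ Submodule.comap (F γ).subtype (Fp γ)) ∧
        Module.Projective R (↥(F γ) ⧸ Submodule.comap (F γ).subtype (Fp γ))) ∧
      ∀ (p : PrimeSpectrum R) (Fx : Γ → Submodule p.asIdeal.ResidueField (p.asIdeal.ResidueField ⊗[R] M)),
        (∀ γ, Fx γ = LinearMap.range ((F γ).subtype.baseChange p.asIdeal.ResidueField)) →
        Module.finrank p.asIdeal.ResidueField (p.asIdeal.ResidueField ⊗[R] M) =
          ∑ᶠ γ, (Module.finrank p.asIdeal.ResidueField ↥(Fx γ) -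
            Module.finrank p.asIdeal.ResidueField ↥(⨆ η ∈ Set.Ioi γ, Fx η))) := by
  constructor
  · rintro ⟨G, hint, hFG⟩
    obtain ⟨hind, htop⟩ := (DirectSum.isInternal_submodule_iff_iSupIndep_and_iSup_eq_top _).1 hint
    refine ⟨fun γ => ?_, fun p Fx hFx => ?_⟩
    · obtain ⟨e⟩ := gr_equiv F Fp G hind hFG hFp γ
      obtain ⟨h1, h2⟩ := summand_finite_projective G hind htop γ
      exact ⟨Module.Finite.equiv e, Module.Projective.of_equiv e⟩
    · have hFx' : Fx = fun γ => (⨆ η ∈ Set.Ici γ, G η).baseChange p.asIdeal.ResidueField := by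
        funext γ
        rw [hFx γ, ← hFG γ]
        rfl
      rw [hFx']
      exact fibre_formula G hind htop p.asIdeal.ResidueField
  · rintro ⟨h1, h2⟩
    exact back F Fp hFp (fun γ => (h1 γ).2) hF
      (fun p => h2 p (fun γ => (F γ).baseChange p.asIdeal.ResidueField) (fun γ => rfl))

end Groth.Agent.S19154
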