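import Groth.Statements.S19155
import Groth.Agent.Lib.RootDWord

set_option autoImplicit false
open RootPairing
open RootD

namespace Groth.Agent.S19155

open RootPairing Groth.Agent.Lib.RootDBasic Groth.Agent.Lib.RootDWeyl Groth.Agent.Lib.RootDWord
  Groth.Agent.S2953

/-- If `f` vanishes on `g • root a` then `f ∘ (g * s_a) = f ∘ g`. -/
theorem apply_mul_reflection {ι M N : Type*} [AddCommGroup M] [AddCommGroup N]
    (P : RootPairing ι ℤ M N) {Γ : Type*} [AddCommGroup Γ] (f : M →+ Γ) (g : P.Aut) (a : ι)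
    (h0 : f (g • P.root a) = 0) (m : M) :
    f ((g * Equiv.reflection P a) • m) = f (g • m) := by
  rw [mul_smul, Equiv.reflection_smul, RootPairing.reflection_apply, smul_sub, map_sub,
    smul_comm, map_zsmul, h0, smul_zero, sub_zero]

/-- If `f` is dominant and `f ∘ w` is non-negative on the simple roots, then `f ∘ w = f`. -/
theorem comp_eq_of_dominant {ι M N : Type*} [AddCommGroup M] [AddCommGroup N]
    (P : RootPairing ι ℤ M N) [Finite ι] (Δ : Set ι) (hΔ : IsSimpleSys P Δ)
    {Γ : Type*} [AddCommGroup Γ] [LinearOrder Γ] [IsOrderedAddMonoid Γ] (f : M →+ Γ)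
    (hf : ∀ i ∈ posOf P Δ, 0 ≤ f (P.root i)) (n : ℕ) :
    ∀ l : List ι, l.length = n → (∀ c ∈ l, c ∈ Δ) →
      (∀ i ∈ Δ, 0 ≤ f (wprod P l • P.root i)) → ∀ m : M, f (wprod P l • m) = f m := by
  induction n using Nat.strong_induction_on with
  | _ n ih =>
    intro l hlen hl hdom m
    by_cases hpos : ∀ i ∈ Δ, wprod P l • i ∈ posOf P Δ
    · rw [eq_one_of_list P hΔ n l hlen hl hpos, one_smul]
    · push Not at hpos
      obtain ⟨a, ha, hneg⟩ := hpos
      obtain ⟨l', hl', hlen', hprod⟩ := deletion P hΔ l hl a ha hneg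
      have h0 : f (wprod P l • P.root a) = 0 := by
        apply le_antisymm _ (hdom a ha)
        have h1 : P.reflectionPerm (wprod P l • a) (wprod P l • a) ∈ posOf P Δ :=
          (neg_mem_posOf_iff P hΔ _).mpr hneg
        have h2 := hf _ h1
        rw [root_reflectionPerm_self, root_smul, map_neg] at h2
        exact neg_nonneg.mp h2
      have key : ∀ m, f (wprod P l' • m) = f (wprod P l • m) := by
        intro m
        rw [← hprod]
        exact apply_mul_reflection P f _ a h0 m
      rw [← key]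
      apply ih l'.length (by omega) l' rfl hl'
      intro i hi
      rw [key]
      exact hdom i hi

/-- Let P be a root datum (root pairing over ℤ with finitely many roots, roots in M), S a system of
positive roots, Γ a non-trivial totally ordered commutative group and f : M → Γ additive. Call f
dominant when f(α) ≥ 0 for every positive root α. Then the dominant maps form a fundamental domain
for the Weyl group W acting on Hom(M, Γ) through M: there is w ∈ W with f ∘ w dominant, and if f and
f ∘ w are both dominant (w ∈ W) then f ∘ w = f. -/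
theorem result {ι M N : Type*} [AddCommGroup M] [AddCommGroup N]
    (P : RootPairing ι ℤ M N) [Finite ι] (S : Set ι) (hS : RootD.IsPosSys P S)
    {Γ : Type*} [AddCommGroup Γ] [LinearOrder Γ] [IsOrderedAddMonoid Γ] [Nontrivial Γ] (f : M →+ Γ) :
    (∃ g : P.Aut, g ∈ P.weylGroup ∧ ∀ i ∈ S, 0 ≤ f (RootPairing.Equiv.weightHom P g (P.root i))) ∧
    (∀ g : P.Aut, g ∈ P.weylGroup → (∀ i ∈ S, 0 ≤ f (P.root i)) →
      (∀ i ∈ S, 0 ≤ f (RootPairing.Equiv.weightHom P g (P.root i))) →
      ∀ m : M, f (RootPairing.Equiv.weightHom P g m) = f m) := by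
  obtain ⟨Δ, hΔ, hΔS, hSΔ⟩ := Groth.Agent.Lib.RootDWeyl.exists_simple_of_isPosSys P hS
  constructor
  · have hP2 : ∀ i : ι, i ∈ {i | 0 ≤ f (P.root i)} ∨
        P.reflectionPerm i i ∈ {i | 0 ≤ f (P.root i)} := by
      intro i
      rcases le_total 0 (f (P.root i)) with h | h
      · left; exact h
      · right
        show 0 ≤ f (P.root (P.reflectionPerm i i))
        rw [Groth.Agent.Lib.RootDBasic.root_reflectionPerm_self, map_neg]
        exact neg_nonneg.mpr h
    have hcl : RootD.IsClosedSub P {i | 0 ≤ f (P.root i)} := by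
      intro i j k hi hj hk
      show 0 ≤ f (P.root k)
      rw [hk, map_add]
      exact add_nonneg hi hj
    obtain ⟨g, hg, hsub⟩ := Groth.Agent.Lib.RootDWeyl.exists_weyl_image_subset P hS hP2 hcl
    refine ⟨g, hg, fun i hi => ?_⟩
    have h2 : 0 ≤ f (P.root (g • i)) := hsub ⟨i, hi, rfl⟩
    rw [Groth.Agent.Lib.RootDWeyl.root_smul] at h2
    exact h2
  · intro g hg hf hfg m
    obtain ⟨l, hl, rfl⟩ := Groth.Agent.Lib.RootDWord.exists_list_of_mem P hΔ g hg
    exact Groth.Agent.S19155.comp_eq_of_dominant P Δ hΔ f (by rw [← hSΔ]; exact hf) l.length l rfl hl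
      (fun i hi => hfg i (hΔS hi)) m

end Groth.Agent.S19155
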