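import Groth.Statements.S19156
import Groth.Agent.S19155
import Groth.Agent.Lib.RootDWord
import Groth.Agent.Lib.RootDIrr

set_option autoImplicit false
open RootPairing
open RootD

namespace Groth.Agent.S19156

open RootPairing Groth.Agent.Lib.RootDBasic Groth.Agent.Lib.RootDWeyl Groth.Agent.Lib.RootDWord
  Groth.Agent.S2953

/-- The sum of the positive roots pairs strictly positively with every positive coroot. -/
theorem exists_regular_dominant {ι M N : Type*} [AddCommGroup M] [AddCommGroup N]
    (P : RootPairing ι ℤ M N) [Finite ι] (S : Set ι) (hS : IsPosSys P S) :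
    ∃ m : M, ∀ a ∈ S, 0 < P.coroot' a m := by
  classical
  let _ : Fintype ι := Fintype.ofFinite ι
  set T : Finset ι := Finset.univ.filter (· ∈ S) with hT
  have hTmem : ∀ k, k ∈ T ↔ k ∈ S := by intro k; simp [hT]
  refine ⟨∑ k ∈ T, P.root k, fun a ha => ?_⟩
  rw [map_sum]
  simp only [P.root_coroot'_eq_pairing]
  have hσσ : ∀ k, P.reflectionPerm a (P.reflectionPerm a k) = k := fun k => P.reflectionPerm_self a k
  have hpair : ∀ k, P.pairing (P.reflectionPerm a k) a = - P.pairing k a := by
    intro k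
    rw [Groth.Agent.Lib.RootDIrr.pairing_reflectionPerm_left, P.pairing_same]
    ring
  rw [← Finset.sum_filter_add_sum_filter_not T (fun k => P.reflectionPerm a k ∈ S)]
  have h1 : ∑ k ∈ T.filter (fun k => P.reflectionPerm a k ∈ S), P.pairing k a = 0 := by
    have : ∑ k ∈ T.filter (fun k => P.reflectionPerm a k ∈ S), P.pairing k a =
        ∑ k ∈ T.filter (fun k => P.reflectionPerm a k ∈ S), - P.pairing k a := by
      apply Finset.sum_equiv (P.reflectionPerm a)
      · intro k
        simp only [Finset.mem_filter, hTmem, hσσ]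
        tauto
      · intro k _
        rw [hpair, neg_neg]
    rw [Finset.sum_neg_distrib] at this
    omega
  rw [h1, zero_add]
  apply Finset.sum_pos
  · intro k hk
    simp only [Finset.mem_filter, hTmem] at hk
    by_contra hle
    push Not at hle
    apply hk.2
    apply hS.sat 1 one_pos
    rw [one_smul, Groth.Agent.Lib.RootDSimple.root_reflectionPerm']
    have : P.root k - P.pairing k a • P.root a = P.root k + (-(P.pairing k a)).toNat • P.root a := by
      rw [sub_eq_add_neg, ← neg_smul, ← natCast_zsmul (P.root a) (Int.toNat _),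
        Int.toNat_of_nonneg (by omega)]
    rw [this]
    exact AddSubmonoid.add_mem _ (root_mem_natSpan P hk.1)
      (AddSubmonoid.nsmul_mem _ (root_mem_natSpan P ha) _)
  · exact ⟨a, by simp only [Finset.mem_filter, hTmem]; exact ⟨ha, hS.disjoint ha⟩⟩

/-- Strong dominance: if `f` is dominant then `f - f ∘ w` is a non-negative combination of the
positive coroots. -/
theorem strong_of_dominant {ι M N : Type*} [AddCommGroup M] [AddCommGroup N]
    (P : RootPairing ι ℤ M N) [Fintype ι] (Δ : Set ι) (hΔ : IsSimpleSys P Δ)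
    {Γ : Type*} [AddCommGroup Γ] [LinearOrder Γ] [IsOrderedAddMonoid Γ] (f : M →+ Γ)
    (hf : ∀ i ∈ posOf P Δ, 0 ≤ f (P.root i)) (n : ℕ) :
    ∀ l : List ι, l.length = n → (∀ c ∈ l, c ∈ Δ) →
      ∃ c : ι → Γ, (∀ i, 0 ≤ c i) ∧ (∀ i, i ∉ posOf P Δ → c i = 0) ∧
        ∀ m : M, f m - f (wprod P l • m) = ∑ i, (P.coroot' i m) • c i := by
  classical
  induction n using Nat.strong_induction_on with
  | _ n ih =>
    intro l hlen hl
    by_cases hpos : ∀ i ∈ Δ, wprod P l • i ∈ posOf P Δ
    · refine ⟨fun _ => 0, fun _ => le_rfl, fun _ _ => rfl, fun m => ?_⟩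
      rw [eq_one_of_list P hΔ n l hlen hl hpos, one_smul, sub_self]
      simp
    · push Not at hpos
      obtain ⟨a, ha, hneg⟩ := hpos
      obtain ⟨l', hl', hlen', hprod⟩ := deletion P hΔ l hl a ha hneg
      obtain ⟨c', hc'0, hc'S, hc'⟩ := ih l'.length (by omega) l' rfl hl'
      have hsq : Equiv.reflection P a * Equiv.reflection P a = 1 :=
        mul_eq_one_iff_eq_inv.mpr (Equiv.reflection_inv P a).symm
      have hg : wprod P l = wprod P l' * Equiv.reflection P a := by
        rw [← hprod, mul_assoc, hsq, mul_one]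
      have hga : wprod P l' • a ∈ posOf P Δ := by
        rw [← hprod, mul_smul, reflection_smul_idx, smul_reflectionPerm_self]
        exact (neg_mem_posOf_iff P hΔ _).mpr hneg
      have hx : 0 ≤ f (wprod P l' • P.root a) := by
        have := hf _ hga
        rwa [root_smul] at this
      refine ⟨c' + Pi.single a (f (wprod P l' • P.root a)), ?_, ?_, ?_⟩
      · intro i
        by_cases h : i = a
        · subst h
          simpa using add_nonneg (hc'0 _) hx
        · simpa [Pi.single_eq_of_ne h] using hc'0 i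
      · intro i hi
        have h : i ≠ a := fun h => hi (h ▸ subset_posOf P Δ ha)
        simpa [Pi.single_eq_of_ne h] using hc'S i hi
      · intro m
        rw [hg, mul_smul, Equiv.reflection_smul, P.reflection_apply, smul_sub, map_sub, smul_comm,
          map_zsmul]
        simp only [Pi.add_apply, smul_add, Finset.sum_add_distrib]
        rw [← hc' m, Finset.sum_eq_single a]
        · simp only [Pi.single_eq_same]
          abel
        · intro b _ hb
          rw [Pi.single_eq_of_ne hb, smul_zero]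
        · intro h
          exact absurd (Finset.mem_univ a) h

/-- Let P be a root datum (root pairing over ℤ with finitely many roots indexed by ι), S a system of
positive roots, Γ a non-trivial totally ordered commutative group and f : M → Γ additive. Then f is
dominant (non-negative on the positive roots) if and only if, for every w in the Weyl group, f − f ∘
w is a combination m ↦ Σ_{α ∈ S} ⟨m, α∨⟩ c_α of the positive coroots with coefficients c_α ≥ 0 in Γ
(f ∘ w is strongly dominated by f); and f is dominant if and only if f(w m) ≤ f(m) for every w ∈ W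
and every dominant weight m (weak dominance). -/
theorem result {ι M N : Type*} [AddCommGroup M] [AddCommGroup N]
    (P : RootPairing ι ℤ M N) [Fintype ι] (S : Set ι) (hS : RootD.IsPosSys P S)
    {Γ : Type*} [AddCommGroup Γ] [LinearOrder Γ] [IsOrderedAddMonoid Γ] [Nontrivial Γ] (f : M →+ Γ) :
    ((∀ i ∈ S, 0 ≤ f (P.root i)) ↔
      ∀ g : P.Aut, g ∈ P.weylGroup → ∃ c : ι → Γ, (∀ i, 0 ≤ c i) ∧ (∀ i, i ∉ S → c i = 0) ∧
        ∀ m : M, f m - f (RootPairing.Equiv.weightHom P g m) = ∑ i, (P.coroot' i m) • c i) ∧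
    ((∀ i ∈ S, 0 ≤ f (P.root i)) ↔
      ∀ g : P.Aut, g ∈ P.weylGroup → ∀ m : M, (∀ i ∈ S, 0 ≤ P.coroot' i m) →
        f (RootPairing.Equiv.weightHom P g m) ≤ f m) := by
  obtain ⟨Δ, hΔ, hΔS, hSΔ⟩ := Groth.Agent.Lib.RootDWeyl.exists_simple_of_isPosSys P hS
  -- dominant ⇒ strong
  have hA : (∀ i ∈ S, 0 ≤ f (P.root i)) →
      ∀ g : P.Aut, g ∈ P.weylGroup → ∃ c : ι → Γ, (∀ i, 0 ≤ c i) ∧ (∀ i, i ∉ S → c i = 0) ∧
        ∀ m : M, f m - f (RootPairing.Equiv.weightHom P g m) = ∑ i, (P.coroot' i m) • c i := by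
    intro hf g hg
    obtain ⟨l, hl, rfl⟩ := Groth.Agent.Lib.RootDWord.exists_list_of_mem P hΔ g hg
    obtain ⟨c, hc0, hcS, hc⟩ := Groth.Agent.S19156.strong_of_dominant P Δ hΔ f
      (by rw [← hSΔ]; exact hf) l.length l rfl hl
    exact ⟨c, hc0, by rw [hSΔ]; exact hcS, hc⟩
  -- strong ⇒ weak
  have hB : (∀ g : P.Aut, g ∈ P.weylGroup → ∃ c : ι → Γ, (∀ i, 0 ≤ c i) ∧ (∀ i, i ∉ S → c i = 0) ∧
        ∀ m : M, f m - f (RootPairing.Equiv.weightHom P g m) = ∑ i, (P.coroot' i m) • c i) →
      ∀ g : P.Aut, g ∈ P.weylGroup → ∀ m : M, (∀ i ∈ S, 0 ≤ P.coroot' i m) →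
        f (RootPairing.Equiv.weightHom P g m) ≤ f m := by
    intro h g hg m hm
    obtain ⟨c, hc0, hcS, hc⟩ := h g hg
    rw [← sub_nonneg, hc m]
    apply Finset.sum_nonneg
    intro i _
    by_cases hi : i ∈ S
    · exact zsmul_nonneg (hc0 i) (hm i hi)
    · rw [hcS i hi, smul_zero]
  -- weak ⇒ dominant
  have hC : (∀ g : P.Aut, g ∈ P.weylGroup → ∀ m : M, (∀ i ∈ S, 0 ≤ P.coroot' i m) →
        f (RootPairing.Equiv.weightHom P g m) ≤ f m) → ∀ i ∈ S, 0 ≤ f (P.root i) := by
    intro h i hi
    obtain ⟨ρ, hρ⟩ := Groth.Agent.S19156.exists_regular_dominant P S hS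
    have h1 := h (RootPairing.Equiv.reflection P i) (Subgroup.subset_closure ⟨i, rfl⟩) ρ
      (fun j hj => (hρ j hj).le)
    have h2 : RootPairing.Equiv.weightHom P (RootPairing.Equiv.reflection P i) ρ =
        ρ - P.coroot' i ρ • P.root i := by
      show RootPairing.Equiv.reflection P i • ρ = _
      rw [RootPairing.Equiv.reflection_smul, P.reflection_apply]
    rw [h2, map_sub, map_zsmul, sub_le_self_iff] at h1
    have := (zsmul_le_zsmul_iff_right (a := 0) (b := f (P.root i)) (hρ i hi)).mp
    rw [smul_zero] at this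
    exact this h1
  exact ⟨⟨hA, fun h => hC (hB h)⟩, ⟨fun h => hB (hA h), hC⟩⟩

end Groth.Agent.S19156
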