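import Groth.Statements.S19158
import Mathlib

set_option autoImplicit false
universe u v w
open FiltMod

namespace Groth.Agent.S19158


section back
variable {Γ : Type w} [LinearOrder Γ]
    {R : Type u} [CommRing R] {A : Type v} [Fintype A] (M : A → Type v) [∀ a, AddCommGroup (M a)]
    [∀ a, Module R (M a)]

open Classical in
/-- `single a` maps `N a` into the product submodule. -/
theorem map_single_le_pi (N : ∀ a, Submodule R (M a)) (a : A) :
    (N a).map (LinearMap.single R M a) ≤ Submodule.pi Set.univ N := by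
  rintro _ ⟨y, hy, rfl⟩
  intro b _
  by_cases hb : b = a
  · subst hb
    simpa using hy
  · simp [LinearMap.single_apply, Pi.single_eq_of_ne hb]

theorem map_proj_pi_le (N : ∀ a, Submodule R (M a)) (a : A) :
    (Submodule.pi Set.univ N).map (LinearMap.proj a) ≤ N a := by
  rintro _ ⟨y, hy, rfl⟩
  exact hy a (Set.mem_univ a)

open Classical in
theorem pi_le_of_forall_single (N : ∀ a, Submodule R (M a)) (P : Submodule R (∀ a, M a))
    (h : ∀ a, (N a).map (LinearMap.single R M a) ≤ P) :
    Submodule.pi Set.univ N ≤ P := by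
  intro x hx
  have : x = ∑ a, LinearMap.single R M a (x a) := by
    ext b
    simp [Finset.sum_apply, LinearMap.single_apply, Pi.single_apply]
  rw [this]
  exact Submodule.sum_mem _ fun a _ => h a ⟨x a, hx a (Set.mem_univ a), rfl⟩

omit [Fintype A] in
theorem biSup_Ici_le_of {P : Type*} [CompleteLattice P] (G : Γ → P) (γ η : Γ) (h : γ ≤ η) :
    G η ≤ ⨆ ζ ∈ Set.Ici γ, G ζ :=
  le_iSup₂_of_le η h le_rfl

open Classical in
theorem back (F : ∀ a, Γ → Submodule R (M a))
    (h : ∀ a, ∃ G : Γ → Submodule R (M a), DirectSum.IsInternal G ∧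
      ∀ γ, F a γ = ⨆ η ∈ Set.Ici γ, G η) :
    ∃ G : Γ → Submodule R (∀ a, M a), DirectSum.IsInternal G ∧
        ∀ γ, Submodule.pi Set.univ (fun a => F a γ) = ⨆ η ∈ Set.Ici γ, G η := by
  choose G hG hFG using h
  refine ⟨fun γ => Submodule.pi Set.univ (fun a => G a γ), ?_, ?_⟩
  · rw [DirectSum.isInternal_submodule_iff_iSupIndep_and_iSup_eq_top]
    constructor
    · rw [iSupIndep_def]
      intro γ
      rw [Submodule.disjoint_def]
      intro x hx hx'
      ext a
      have h1 : x a ∈ G a γ := hx a (Set.mem_univ a)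
      have h2 : x a ∈ ⨆ (η : Γ) (_ : η ≠ γ), G a η := by
        have : (⨆ (η : Γ) (_ : η ≠ γ), Submodule.pi Set.univ (fun a => G a η)).map
            (LinearMap.proj a) ≤ ⨆ (η : Γ) (_ : η ≠ γ), G a η := by
          simp only [Submodule.map_iSup]
          exact iSup₂_mono fun η _ => map_proj_pi_le M _ a
        exact this ⟨x, hx', rfl⟩
      have hind := ((DirectSum.isInternal_submodule_iff_iSupIndep_and_iSup_eq_top _).1 (hG a)).1
      rw [iSupIndep_def] at hind
      exact (Submodule.disjoint_def.1 (hind γ)) _ h1 h2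
    · rw [eq_top_iff]
      have htop : ∀ a, (⨆ γ, G a γ) = ⊤ := fun a =>
        ((DirectSum.isInternal_submodule_iff_iSupIndep_and_iSup_eq_top _).1 (hG a)).2
      have : Submodule.pi Set.univ (fun a => (⊤ : Submodule R (M a))) ≤
          ⨆ γ, Submodule.pi Set.univ (fun a => G a γ) := by
        apply pi_le_of_forall_single
        intro a
        rw [← htop a, Submodule.map_iSup]
        exact iSup_mono fun γ => map_single_le_pi M (fun a => G a γ) a
      refine le_trans ?_ this
      intro x _ a _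
      trivial
  · intro γ
    apply le_antisymm
    · apply pi_le_of_forall_single
      intro a
      rw [hFG a γ]
      simp only [Submodule.map_iSup]
      exact iSup₂_mono fun η _ => map_single_le_pi M (fun a => G a η) a
    · refine iSup₂_le fun η hη => ?_
      intro x hx a ha
      show x a ∈ F a γ
      rw [hFG a γ]
      exact biSup_Ici_le_of (G a) γ η hη (hx a ha)

end back


theorem iSupIndep_of_disjoint_gt {ι α : Type*} [LinearOrder ι] [CompleteLattice α]
    [IsModularLattice α] [IsCompactlyGenerated α] (f : ι → α)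
    (h : ∀ i, Disjoint (f i) (⨆ j ∈ Set.Ioi i, f j)) : iSupIndep f := by
  rw [iSupIndep_iff_supIndep]
  intro s
  induction s using Finset.induction_on_min with
  | empty => exact Finset.supIndep_empty f
  | insert a s ha ih =>
    exact ih.insert ((h a).mono_right
      (Finset.sup_le fun j hj => le_iSup₂_of_le j (ha j hj) le_rfl))

section proj
variable {Γ : Type w} [DecidableEq Γ] {R : Type u} [CommRing R] {N : Type*} [AddCommGroup N]
  [Module R N] (G : Γ → Submodule R N)

/-- projection onto a graded piece -/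
noncomputable def pr [DirectSum.Decomposition G] (γ : Γ) : N →ₗ[R] N :=
  (G γ).subtype ∘ₗ DirectSum.component R Γ (fun i => G i) γ ∘ₗ
    (DirectSum.decomposeLinearEquiv G).toLinearMap

variable [DirectSum.Decomposition G]

theorem pr_mem (γ : Γ) (x : N) : pr G γ x ∈ G γ := by
  unfold pr
  simp

theorem pr_apply (γ : Γ) (x : N) : pr G γ x = (DirectSum.decompose G x γ : N) := rfl

theorem pr_of_mem_same {γ : Γ} {x : N} (hx : x ∈ G γ) : pr G γ x = x := by
  rw [pr_apply]
  exact DirectSum.decompose_of_mem_same G hx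

theorem pr_of_mem_ne {γ η : Γ} {x : N} (hx : x ∈ G η) (h : η ≠ γ) : pr G γ x = 0 := by
  rw [pr_apply]
  exact DirectSum.decompose_of_mem_ne G hx h

end proj

section fwd
variable {Γ : Type w} [LinearOrder Γ] {R : Type u} [CommRing R] {N : Type*} [AddCommGroup N]
  [Module R N] {V : Type*} [AddCommGroup V] [Module R V]

/-- finite support of an internal grading of a finite module -/
theorem exists_finset_support [Module.Finite R N] (G : Γ → Submodule R N)
    (hG : DirectSum.IsInternal G) : ∃ T : Finset Γ, ∀ γ, γ ∉ T → G γ = ⊥ := by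
  obtain ⟨hind, htop⟩ := (DirectSum.isInternal_submodule_iff_iSupIndep_and_iSup_eq_top _).1 hG
  have hc : IsCompactElement (⊤ : Submodule R N) :=
    (Submodule.fg_iff_compact _).1 Module.Finite.fg_top
  obtain ⟨T, hT⟩ := CompleteLattice.IsCompactElement.exists_finset_of_le_iSup _ hc G htop.ge
  refine ⟨T, fun γ hγ => ?_⟩
  have hd : Disjoint (G γ) (⨆ i ∈ T, G i) := hind.disjoint_biSup hγ
  exact hd.eq_bot_of_le (le_top.trans hT)

theorem fwd_abstract [Module.Finite R N]
    (ι : V →ₗ[R] N) (π : N →ₗ[R] V) (hπι : ∀ x, π (ι x) = x)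
    (G : Γ → Submodule R N) (hG : DirectSum.IsInternal G)
    (FV : Γ → Submodule R V)
    (h1 : ∀ γ, (FV γ).map ι ≤ ⨆ η ∈ Set.Ici γ, G η)
    (h2 : ∀ γ, (⨆ η ∈ Set.Ici γ, G η).map π ≤ FV γ) :
    ∃ C : Γ → Submodule R V, DirectSum.IsInternal C ∧ ∀ γ, FV γ = ⨆ η ∈ Set.Ici γ, C η := by
  classical
  obtain ⟨T, hT⟩ := exists_finset_support G hG
  let _ : DirectSum.Decomposition G := hG.chooseDecomposition
  set FN : Γ → Submodule R N := fun γ => ⨆ η ∈ Set.Ici γ, G η with hFN
  have hFNanti : Antitone FN := by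
    intro γ γ' h
    exact iSup₂_le fun η hη => le_iSup₂_of_le η (le_trans h hη) le_rfl
  have hGle : ∀ γ, G γ ≤ FN γ := fun γ => le_iSup₂_of_le γ (le_refl γ) le_rfl
  -- FV is the image of FN
  have hFV : ∀ γ, FV γ = (FN γ).map π := by
    intro γ
    apply le_antisymm _ (h2 γ)
    intro x hx
    exact ⟨ι x, h1 γ ⟨x, hx, rfl⟩, hπι x⟩
  have hFVanti : Antitone FV := by
    intro γ γ' h
    rw [hFV γ, hFV γ']
    exact Submodule.map_mono (hFNanti h)
  -- reduction to the support
  have red : ∀ γ, FN γ = ⊥ ∨ ∃ s ∈ T, γ ≤ s ∧ FN γ = FN s := by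
    intro γ
    by_cases hT' : (T.filter (γ ≤ ·)).Nonempty
    · right
      have hs := Finset.min'_mem _ hT'
      rw [Finset.mem_filter] at hs
      refine ⟨_, hs.1, hs.2, le_antisymm ?_ (hFNanti hs.2)⟩
      refine iSup₂_le fun η hη => ?_
      by_cases hηT : η ∈ T
      · have : (T.filter (γ ≤ ·)).min' hT' ≤ η :=
          Finset.min'_le _ _ (Finset.mem_filter.2 ⟨hηT, hη⟩)
        exact le_iSup₂_of_le η this le_rfl
      · rw [hT η hηT]; exact bot_le
    · left
      rw [eq_bot_iff]
      refine iSup₂_le fun η hη => ?_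
      by_cases hηT : η ∈ T
      · exact absurd ⟨η, Finset.mem_filter.2 ⟨hηT, hη⟩⟩ hT'
      · rw [hT η hηT]
  have redV : ∀ γ, FV γ = ⊥ ∨ ∃ s ∈ T, γ ≤ s ∧ FV γ = FV s := by
    intro γ
    rcases red γ with h | ⟨s, hs, hγs, h⟩
    · left; rw [hFV, h, Submodule.map_bot]
    · right; exact ⟨s, hs, hγs, by rw [hFV, hFV, h]⟩
  -- the idempotent-like maps
  set ρ : Γ → V →ₗ[R] V := fun γ => π ∘ₗ pr G γ ∘ₗ ι with hρ
  set K : Γ → Submodule R V := fun γ => ⨆ η ∈ Set.Ioi γ, FV η with hK
  set C : Γ → Submodule R V := fun γ => (FV γ).map (ρ γ) with hC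
  -- pr kills the higher part
  have hker : ∀ γ, (⨆ η ∈ Set.Ioi γ, FN η) ≤ LinearMap.ker (pr G γ) := by
    intro γ
    refine iSup₂_le fun η hη => iSup₂_le fun ζ hζ => ?_
    intro x hx
    have hne : ζ ≠ γ := ne_of_gt (lt_of_lt_of_le hη hζ)
    exact pr_of_mem_ne G hx hne
  have hsub : ∀ γ, FN γ ≤ Submodule.comap (LinearMap.id - pr G γ) (⨆ η ∈ Set.Ioi γ, FN η) := by
    intro γ
    refine iSup₂_le fun η hη => ?_
    intro x hx
    rw [Submodule.mem_comap, LinearMap.sub_apply, LinearMap.id_apply]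
    rcases eq_or_lt_of_le (show γ ≤ η from hη) with h | h
    · subst h
      rw [pr_of_mem_same G hx, sub_self]
      exact zero_mem _
    · rw [pr_of_mem_ne G hx (ne_of_gt h), sub_zero]
      exact (le_iSup₂_of_le η h le_rfl : FN η ≤ _) (hGle η hx)
  have hπK : ∀ γ, (⨆ η ∈ Set.Ioi γ, FN η).map π ≤ K γ := by
    intro γ
    simp only [Submodule.map_iSup]
    exact iSup₂_mono fun η _ => h2 η
  have hιK : ∀ γ, (K γ).map ι ≤ ⨆ η ∈ Set.Ioi γ, FN η := by
    intro γ
    simp only [hK, Submodule.map_iSup]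
    exact iSup₂_mono fun η _ => h1 η
  -- (a)
  have ha : ∀ γ, C γ ≤ FV γ := by
    rintro γ _ ⟨x, hx, rfl⟩
    apply h2 γ
    exact ⟨pr G γ (ι x), hGle γ (pr_mem G γ _), rfl⟩
  -- (b)
  have hb : ∀ γ x, x ∈ FV γ → x - ρ γ x ∈ K γ := by
    intro γ x hx
    have h3 : ι x ∈ FN γ := h1 γ ⟨x, hx, rfl⟩
    have h4 := hsub γ h3
    rw [Submodule.mem_comap, LinearMap.sub_apply, LinearMap.id_apply] at h4
    have h5 : π (ι x - pr G γ (ι x)) ∈ K γ := hπK γ ⟨_, h4, rfl⟩
    rw [map_sub, hπι] at h5
    exact h5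
  -- (c)
  have hc : ∀ γ x, x ∈ K γ → ρ γ x = 0 := by
    intro γ x hx
    have h3 : ι x ∈ ⨆ η ∈ Set.Ioi γ, FN η := hιK γ ⟨x, hx, rfl⟩
    have h4 : pr G γ (ι x) = 0 := hker γ h3
    simp [hρ, h4]
  -- (d)
  have hd : ∀ γ, Disjoint (C γ) (K γ) := by
    intro γ
    rw [Submodule.disjoint_def]
    rintro _ ⟨x, hx, rfl⟩ hy
    have h3 : x ∈ K γ := by
      have := (K γ).add_mem (hb γ x hx) hy
      simpa using this
    exact hc γ x h3
  -- (e')
  have he' : ∀ n, ∀ s ∈ T, (T.filter (s ≤ ·)).card = n → FV s ≤ ⨆ η ∈ Set.Ici s, C η := by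
    intro n
    induction n using Nat.strong_induction_on with
    | _ n ih =>
      intro s hs hn x hx
      have hx' : x = ρ s x + (x - ρ s x) := by abel
      rw [hx']
      refine Submodule.add_mem _ ?_ ?_
      · exact (le_iSup₂_of_le s (le_refl s) le_rfl : C s ≤ _) ⟨x, hx, rfl⟩
      · have hKs : K s ≤ ⨆ η ∈ Set.Ici s, C η := by
          refine iSup₂_le fun η hη => ?_
          rcases redV η with h | ⟨s', hs', hηs', h⟩
          · rw [h]; exact bot_le
          · rw [h]
            have hlt : (T.filter (s' ≤ ·)).card < n := by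
              rw [← hn]
              apply Finset.card_lt_card
              rw [Finset.ssubset_iff_of_subset]
              · refine ⟨s, Finset.mem_filter.2 ⟨hs, le_refl s⟩, ?_⟩
                rw [Finset.mem_filter]
                rintro ⟨_, h6⟩
                exact absurd (lt_of_lt_of_le hη hηs') (not_lt.2 h6)
              · intro t ht
                rw [Finset.mem_filter] at ht ⊢
                exact ⟨ht.1, le_trans (le_trans (le_of_lt hη) hηs') ht.2⟩
            refine le_trans (ih _ hlt s' hs' rfl) ?_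
            exact iSup₂_le fun ζ hζ =>
              le_iSup₂_of_le ζ (le_trans (le_trans (le_of_lt hη) hηs') hζ) le_rfl
        exact hKs (hb s x hx)
  have he : ∀ γ, FV γ ≤ ⨆ η ∈ Set.Ici γ, C η := by
    intro γ
    rcases redV γ with h | ⟨s, hs, hγs, h⟩
    · rw [h]; exact bot_le
    · rw [h]
      refine le_trans (he' _ s hs rfl) ?_
      exact iSup₂_le fun ζ hζ => le_iSup₂_of_le ζ (le_trans hγs hζ) le_rfl
  have hf : ∀ γ, FV γ = ⨆ η ∈ Set.Ici γ, C η := by
    intro γ
    apply le_antisymm (he γ)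
    exact iSup₂_le fun η hη => le_trans (ha η) (hFVanti hη)
  refine ⟨C, ?_, hf⟩
  rw [DirectSum.isInternal_submodule_iff_iSupIndep_and_iSup_eq_top]
  constructor
  · apply iSupIndep_of_disjoint_gt
    intro γ
    exact (hd γ).mono_right (iSup₂_mono fun η _ => ha η)
  · rw [eq_top_iff]
    intro x _
    have htop := ((DirectSum.isInternal_submodule_iff_iSupIndep_and_iSup_eq_top _).1 hG).2
    have h3 : ι x ∈ ⨆ γ, G γ := by rw [htop]; trivial
    have h4 : (⨆ γ, G γ).map π ≤ ⨆ γ, C γ := by
      rw [Submodule.map_iSup]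
      refine iSup_le fun γ => ?_
      refine le_trans (Submodule.map_mono (hGle γ)) ?_
      refine le_trans (h2 γ) ?_
      rw [hf γ]
      exact iSup₂_le fun η _ => le_iSup C η
    have := h4 ⟨ι x, h3, rfl⟩
    rwa [hπι] at this

end fwd


theorem result'
    {Γ : Type w} [AddCommGroup Γ] [LinearOrder Γ] [IsOrderedAddMonoid Γ] [Nontrivial Γ]
    {R : Type u} [CommRing R] {A : Type v} [Fintype A] (M : A → Type v) [∀ a, AddCommGroup (M a)] [∀ a, Module R (M a)]
    [∀ a, Module.Finite R (M a)] [∀ a, Module.Projective R (M a)]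
    (F : ∀ a, Γ → Submodule R (M a)) (hF : ∀ a, Antitone (F a)) :
    (∃ G : Γ → Submodule R (∀ a, M a), DirectSum.IsInternal G ∧
        ∀ γ, Submodule.pi Set.univ (fun a => F a γ) = ⨆ η ∈ Set.Ici γ, G η) ↔
    ∀ a, ∃ G : Γ → Submodule R (M a), DirectSum.IsInternal G ∧ ∀ γ, F a γ = ⨆ η ∈ Set.Ici γ, G η := by
  classical
  constructor
  · rintro ⟨G, hG, hFG⟩ a
    refine fwd_abstract (LinearMap.single R M a) (LinearMap.proj a) (fun x => by simp) G hG (F a)
      ?_ ?_
    · intro γ
      rw [← hFG γ]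
      exact map_single_le_pi M (fun a => F a γ) a
    · intro γ
      rw [← hFG γ]
      exact map_proj_pi_le M (fun a => F a γ) a
  · exact back M F


/-- In affine form, let Γ be a non-trivial totally ordered commutative group, R a commutative ring and
(M_a) a finite family of finitely generated projective R-modules, each carrying a non-increasing
Γ-indexed family of submodules F_a; give M = Π_a M_a the family F^γ = Π_a F_a^γ. Then F is split by
a Γ-grading of M (an internal direct sum decomposition M = ⊕_γ G_γ with F^γ = Σ_{η ≥ γ} G_η for all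
γ) if and only if each F_a is split by a Γ-grading of M_a. (The published statement is for finite
locally free sheaves on a scheme, where a filtration counts as split when it is split by a grading
locally on the scheme; this row is the affine case, in which that is the same as being split by one
global grading.) -/
theorem result
    {Γ : Type w} [AddCommGroup Γ] [LinearOrder Γ] [IsOrderedAddMonoid Γ] [Nontrivial Γ]
    {R : Type u} [CommRing R] {A : Type v} [Fintype A] (M : A → Type v) [∀ a, AddCommGroup (M a)] [∀ a, Module R (M a)]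
    [∀ a, Module.Finite R (M a)] [∀ a, Module.Projective R (M a)]
    (F : ∀ a, Γ → Submodule R (M a)) (hF : ∀ a, Antitone (F a)) :
    (∃ G : Γ → Submodule R (∀ a, M a), DirectSum.IsInternal G ∧
        ∀ γ, Submodule.pi Set.univ (fun a => F a γ) = ⨆ η ∈ Set.Ici γ, G η) ↔
    ∀ a, ∃ G : Γ → Submodule R (M a), DirectSum.IsInternal G ∧ ∀ γ, F a γ = ⨆ η ∈ Set.Ici γ, G η := by
  exact result' M F hF

end Groth.Agent.S19158
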