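import Groth.Statements.S1916
import Groth.Agent.Lib.QCohSupport
import Mathlib.Topology.NoetherianSpace
import Mathlib.RingTheory.Length
-- import your own Groth.Agent.* helpers here

set_option autoImplicit false
universe u
open CategoryTheory AlgebraicGeometry
open Cyc

namespace Groth.Agent.S1916

open TopologicalSpace in
/-- In a space covered by Noetherian opens, the irreducible components of any subspace form a
locally finite family. -/
theorem locallyFinite_irreducibleComponents_subtype {X : Type*} [TopologicalSpace X] (S : Set X)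
    (hX : ∀ x : X, ∃ U : Set X, IsOpen U ∧ x ∈ U ∧ NoetherianSpace U) :
    LocallyFinite (fun Z : irreducibleComponents S => (Subtype.val '' (Z : Set S) : Set X)) := by
  intro x
  obtain ⟨U, hUo, hxU, hUN⟩ := hX x
  refine ⟨U, hUo.mem_nhds hxU, ?_⟩
  set W : Set S := Subtype.val ⁻¹' U with hW
  have hWo : IsOpen W := hUo.preimage continuous_subtype_val
  have hf : Topology.IsOpenEmbedding (Subtype.val : W → S) := hWo.isOpenEmbedding_subtypeVal
  -- `W` is a Noetherian space
  haveI : NoetherianSpace W := by
    let g : W → U := fun w => ⟨w.1.1, w.2⟩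
    have hg : Topology.IsInducing g := by
      have h1 : Topology.IsInducing (fun w : W => (w.1.1 : X)) :=
        Topology.IsInducing.subtypeVal.comp Topology.IsInducing.subtypeVal
      exact Topology.IsInducing.of_comp (by fun_prop) continuous_subtype_val h1
    exact hg.noetherianSpace
  have hfin : (irreducibleComponents W).Finite := NoetherianSpace.finite_irreducibleComponents
  haveI := hfin.to_subtype
  -- the map `Z ↦ Z ∩ W` is injective on the components meeting `U`
  have hne : ∀ Z : {Z : irreducibleComponents S // ((Subtype.val '' (Z : Set S)) ∩ U).Nonempty},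
      ((Z.1 : Set S) ∩ Set.range (Subtype.val : W → S)).Nonempty := by
    rintro ⟨Z, ⟨_, ⟨s, hsZ, rfl⟩, hsU⟩⟩
    exact ⟨s, hsZ, ⟨⟨s, hsU⟩, rfl⟩⟩
  let Φ : {Z : irreducibleComponents S // ((Subtype.val '' (Z : Set S)) ∩ U).Nonempty} →
      irreducibleComponents W :=
    fun Z => ⟨Subtype.val ⁻¹' (Z.1 : Set S), preimage_mem_irreducibleComponents Z.1.2 hf (hne Z)⟩
  have hΦ : Function.Injective Φ := by
    intro Z Z' h
    have h' : (Subtype.val : W → S) ⁻¹' (Z.1 : Set S) = Subtype.val ⁻¹' (Z'.1 : Set S) :=
      congrArg Subtype.val h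
    have key : ∀ Z : {Z : irreducibleComponents S //
        ((Subtype.val '' (Z : Set S)) ∩ U).Nonempty},
        closure ((Subtype.val : W → S) '' (Subtype.val ⁻¹' (Z.1 : Set S))) = (Z.1 : Set S) := by
      intro Z
      apply closure_image_preimage_of_isPreirreducible _ hf.isOpenMap
      · obtain ⟨s, hsZ, ⟨w, rfl⟩⟩ := hne Z
        exact ⟨w, hsZ⟩
      · exact Z.1.2.1.2
      · exact isClosed_of_mem_irreducibleComponents _ Z.1.2
    apply Subtype.ext
    apply Subtype.ext
    rw [← key Z, ← key Z', h']
  have hfin' : Finite {Z : irreducibleComponents S // ((Subtype.val '' (Z : Set S)) ∩ U).Nonempty} :=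
    Finite.of_injective Φ hΦ
  exact Set.finite_coe_iff.mp hfin'

/-- Let F be a coherent O_X-module on a locally Noetherian scheme X. The irreducible components of Supp
F form a locally finite family of subsets of X, and at every point ξ of Supp F admitting no proper
generalization inside Supp F the stalk F_ξ has finite length over O_{X,ξ}. -/
theorem result (X : Scheme.{u}) [IsLocallyNoetherian X] (F : X.Modules) (hF : Coh.IsCoh F) : LocallyFinite (fun Z : irreducibleComponents {x : X | Nontrivial (F.presheaf.stalk x)} => ((↑) '' (Z : Set {x : X | Nontrivial (F.presheaf.stalk x)}) : Set X)) ∧ ∀ ξ : X, Nontrivial (F.presheaf.stalk ξ) → (∀ x : X, Nontrivial (F.presheaf.stalk x) → x ⤳ ξ → x = ξ) → Module.length (X.presheaf.stalk ξ) (F.presheaf.stalk ξ) < ⊤ := by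
  constructor
  · apply locallyFinite_irreducibleComponents_subtype
    intro x
    obtain ⟨_, ⟨U, hU, rfl⟩, hxU, -⟩ :=
      X.isBasis_affineOpens.exists_subset_of_mem_open (Set.mem_univ x) isOpen_univ
    haveI : IsNoetherianRing Γ(X, U) := IsLocallyNoetherian.component_noetherian ⟨U, hU⟩
    exact ⟨U, U.2, hxU, noetherianSpace_of_isAffineOpen U hU⟩
  · intro ξ _ hmax
    rw [lt_top_iff_ne_top, Module.length_ne_top_iff]
    exact (Groth.Agent.Lib.QCohSupport.isFiniteLength_stalk_iff F hF ξ).mpr hmax

end Groth.Agent.S1916
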