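import Groth.Statements.S19160
import Mathlib.Algebra.TrivSqZeroExt.Basic
import Mathlib.RingTheory.TensorProduct.Basic
import Mathlib.LinearAlgebra.TensorProduct.Tower

set_option autoImplicit false
open scoped TensorProduct
universe u
open PureMod

namespace Groth.Agent.S19160

/-- (2) ⇒ (3): in affine form, let R be a commutative ring and i : A → B an R-linear map such that for
every commutative R-algebra R' the base change R' ⊗ A → R' ⊗ B is injective (the pull-back of i to
every affine scheme over Spec R is a monomorphism). Then F ⊗ A → F ⊗ B is injective for every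
R-module F, i.e. i is universally injective (pure). (Modules and algebras are taken in the universe
of R.) -/
theorem result (R : Type u) [CommRing R]
    (A B : Type u) [AddCommGroup A] [Module R A] [AddCommGroup B] [Module R B] (i : A →ₗ[R] B)
    (h : ∀ (R' : Type u) [CommRing R'] [Algebra R R'], Function.Injective (i.baseChange R'))
    (F : Type u) [AddCommGroup F] [Module R F] :
    Function.Injective (i.lTensor F) := by
  let _ : Module Rᵐᵒᵖ F := Module.compHom F ((RingHom.id R).fromOpposite mul_comm)
  have : IsCentralScalar R F := ⟨fun r m => rfl⟩
  have hinj := h (TrivSqZeroExt R F)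
  let inr : F →ₗ[R] TrivSqZeroExt R F := TrivSqZeroExt.inrHom R F
  let snd : TrivSqZeroExt R F →ₗ[R] F := TrivSqZeroExt.sndHom R F
  have hsi : snd ∘ₗ inr = LinearMap.id := by
    ext m; simp [inr, snd]
  rw [injective_iff_map_eq_zero]
  intro x hx
  have h1 : (i.baseChange (TrivSqZeroExt R F)) (inr.rTensor A x) = 0 := by
    have : (i.baseChange (TrivSqZeroExt R F)) (inr.rTensor A x) =
        inr.rTensor B (i.lTensor F x) := by
      rw [LinearMap.baseChange_eq_ltensor]
      simp only [← LinearMap.comp_apply]
      congr 1
      ext f a
      simp
    rw [this, hx, map_zero]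
  have h2 : inr.rTensor A x = 0 := by
    apply hinj
    rw [h1, map_zero]
  have h3 : snd.rTensor A (inr.rTensor A x) = x := by
    rw [← LinearMap.comp_apply, ← LinearMap.rTensor_comp, hsi, LinearMap.rTensor_id,
      LinearMap.id_apply]
  rw [← h3, h2, map_zero]

end Groth.Agent.S19160
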