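import Mathlib
import Groth.Agent.Lib.ClosedCond27k
import Groth.Agent.Lib.SchLfpCancel
import Groth.Statements.S19163

set_option autoImplicit false
open CategoryTheory MonoidalCategory CartesianMonoidalCategory MonObj GrpObj AlgebraicGeometry
universe u
open SGA3x

namespace Groth.Agent.S19163

section Helpers

variable {C : Type*} [Category C] [CartesianMonoidalCategory C] {D H G : C} [GrpObj D] [GrpObj H]
  [GrpObj G]

omit [GrpObj D] in
theorem lift_whiskerLeft' {X T T' : C} (g : X ⟶ D) (t : X ⟶ T') (a : T' ⟶ T) :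
    lift g t ≫ (D ◁ a) = lift g (t ≫ a) := by
  apply CartesianMonoidalCategory.hom_ext
  · rw [Category.assoc, whiskerLeft_fst, lift_fst, lift_fst]
  · rw [Category.assoc, whiskerLeft_snd, lift_snd_assoc, lift_snd]

/-- abstract form: a closed condition representing "factors through `k`" identifies the Hom-objects. -/
theorem exists_iso_of_represents (k : H ⟶ G) [IsMonHom k] [Mono k]
    {AH AG : C} (υH : D ⊗ AH ⟶ H) (υG : D ⊗ AG ⟶ G)
    (hH1 : ∀ (X : C) (g₁ g₂ : X ⟶ D) (t : X ⟶ AH),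
      lift (g₁ * g₂) t ≫ υH = (lift g₁ t ≫ υH) * (lift g₂ t ≫ υH))
    (hH2 : ∀ (T : C) (ψ : D ⊗ T ⟶ H), (∀ (X : C) (g₁ g₂ : X ⟶ D) (t : X ⟶ T),
      lift (g₁ * g₂) t ≫ ψ = (lift g₁ t ≫ ψ) * (lift g₂ t ≫ ψ)) → ∃! a : T ⟶ AH, (D ◁ a) ≫ υH = ψ)
    (hG1 : ∀ (X : C) (g₁ g₂ : X ⟶ D) (t : X ⟶ AG),
      lift (g₁ * g₂) t ≫ υG = (lift g₁ t ≫ υG) * (lift g₂ t ≫ υG))
    (hG2 : ∀ (T : C) (ψ : D ⊗ T ⟶ G), (∀ (X : C) (g₁ g₂ : X ⟶ D) (t : X ⟶ T),
      lift (g₁ * g₂) t ≫ ψ = (lift g₁ t ≫ ψ) * (lift g₂ t ≫ ψ)) → ∃! a : T ⟶ AG, (D ◁ a) ≫ υG = ψ)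
    (φ : AH ⟶ AG) (hφ : (D ◁ φ) ≫ υG = υH ≫ k)
    {Z : C} (i : Z ⟶ AG) [Mono i]
    (hZ : ∀ (T' : C) (t : T' ⟶ AG), (∃ z : T' ⟶ Z, z ≫ i = t) ↔
      ∃ w : D ⊗ T' ⟶ H, w ≫ k = (D ◁ t) ≫ υG) :
    ∃ e : AH ≅ Z, e.hom ≫ i = φ := by
  obtain ⟨z₀, hz₀⟩ := (hZ AH φ).mpr ⟨υH, hφ.symm⟩
  obtain ⟨w, hw⟩ := (hZ Z i).mp ⟨𝟙 Z, Category.id_comp i⟩
  have hGi : ∀ (X : C) (g₁ g₂ : X ⟶ D) (t : X ⟶ Z),
      lift (g₁ * g₂) t ≫ (D ◁ i) ≫ υG =
        (lift g₁ t ≫ (D ◁ i) ≫ υG) * (lift g₂ t ≫ (D ◁ i) ≫ υG) := by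
    intro X g₁ g₂ t
    rw [← Category.assoc, ← Category.assoc, ← Category.assoc, lift_whiskerLeft', lift_whiskerLeft',
      lift_whiskerLeft', hG1]
  have hwfam : ∀ (X : C) (g₁ g₂ : X ⟶ D) (t : X ⟶ Z),
      lift (g₁ * g₂) t ≫ w = (lift g₁ t ≫ w) * (lift g₂ t ≫ w) := by
    intro X g₁ g₂ t
    rw [← cancel_mono k, MonObj.mul_comp, Category.assoc, Category.assoc, Category.assoc, hw]
    exact hGi X g₁ g₂ t
  obtain ⟨a, ha, -⟩ := hH2 Z w hwfam
  have hai : a ≫ φ = i := by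
    obtain ⟨b, -, hb⟩ := hG2 Z ((D ◁ i) ≫ υG) hGi
    have h1 : a ≫ φ = b := by
      apply hb
      rw [MonoidalCategory.whiskerLeft_comp, Category.assoc, hφ, ← Category.assoc, ha, hw]
    have h2 : i = b := hb i rfl
    rw [h1, h2]
  have hza : z₀ ≫ a = 𝟙 AH := by
    obtain ⟨b, -, hb⟩ := hH2 AH υH hH1
    have h1 : z₀ ≫ a = b := by
      apply hb
      rw [MonoidalCategory.whiskerLeft_comp, Category.assoc, ha, ← cancel_mono k, Category.assoc, hw,
        ← Category.assoc, ← MonoidalCategory.whiskerLeft_comp, hz₀, hφ]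
    have h2 : 𝟙 AH = b := by
      apply hb
      rw [MonoidalCategory.whiskerLeft_id, Category.id_comp]
    rw [h1, h2]
  have haz : a ≫ z₀ = 𝟙 Z := by
    rw [← cancel_mono i, Category.assoc, hz₀, hai, Category.id_comp]
  exact ⟨⟨z₀, a, hza, haz⟩, hz₀⟩

end Helpers

/-- Let Γ be a non-trivial totally ordered commutative group and H ⟶ G a closed immersion of reductive
S-groups (a homomorphism which is a closed immersion). Let A_H with υ_H, resp. A_G with υ_G,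
represent the functor of group homomorphisms D_S(Γ) ⟶ H, resp. D_S(Γ) ⟶ G, and let φ : A_H ⟶ A_G be
the S-morphism induced by composing with H ⟶ G (the universal family over A_H followed by H ⟶ G is
the pull-back of υ_G along φ). Then φ is a closed immersion, locally of finite presentation. -/
theorem result {S : Scheme.{u}}
    (Γ : Type) [AddCommGroup Γ] [LinearOrder Γ] [IsOrderedAddMonoid Γ] [Nontrivial Γ]
    (H G : Over S) [GrpObj H] [GrpObj G] (hH : Red.IsReductive H) (hG : Red.IsReductive G)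
    (k : H ⟶ G) [IsMonHom k] (hk : IsClosedImmersion k.left)
    (AH : Over S) (υH : Red.DS S Γ ⊗ AH ⟶ H) (hAH : AutFam.RepresentsHom (Red.DS S Γ) H AH υH)
    (AG : Over S) (υG : Red.DS S Γ ⊗ AG ⟶ G) (hAG : AutFam.RepresentsHom (Red.DS S Γ) G AG υG)
    (φ : AH ⟶ AG) (hφ : (Red.DS S Γ ◁ φ) ≫ υG = υH ≫ k) :
    IsClosedImmersion φ.left ∧ LocallyOfFinitePresentation φ.left := by
  obtain ⟨hHa, hHs, -⟩ := hH
  obtain ⟨hGa, hGs, -⟩ := hG
  have : IsClosedImmersion k.left := hk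
  have hHfp : LocallyOfFinitePresentation H.hom := inferInstance
  have hGfp : LocallyOfFinitePresentation G.hom := inferInstance
  have hkfp : LocallyOfFinitePresentation k.left := by
    have h1 : LocallyOfFinitePresentation (k.left ≫ G.hom) := by
      rw [Over.w k]
      exact hHfp
    exact Groth.Agent.Lib.SchLfpCancel.lfp_of_comp_of_lft h1 inferInstance
  obtain ⟨Z, i, hi, hifp, hZ⟩ :=
    Groth.Agent.Lib.ClosedCond27.exists_closedImmersion_of_factors_of_good_fg (Red.DS S Γ) AG G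
      (Groth.Agent.Lib.ClosedCond27.good_DS S Γ) (Groth.Agent.Lib.ClosedCond27.goodFG_DS S Γ) υG k
  have hkmono : Mono k := by
    have : Mono ((Over.forget _).map k) := by
      change Mono k.left
      infer_instance
    exact (Over.forget _).mono_of_mono_map this
  have himono : Mono i := by
    have : Mono ((Over.forget _).map i) := by
      change Mono i.left
      infer_instance
    exact (Over.forget _).mono_of_mono_map this
  obtain ⟨e, he⟩ := Groth.Agent.S19163.exists_iso_of_represents k υH υG hAH.1 hAH.2 hAG.1 hAG.2 φ hφ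
    i hZ
  have heq : φ.left = e.hom.left ≫ i.left := by
    rw [← Over.comp_left, he]
  have hiso : IsIso e.hom.left := inferInstanceAs (IsIso ((Over.forget S).map e.hom))
  rw [heq]
  exact ⟨inferInstance, inferInstance⟩

end Groth.Agent.S19163
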