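import Groth.Statements.S19170
import Mathlib.Tactic
import Mathlib.GroupTheory.FiniteAbelian.Basic
import Mathlib.GroupTheory.Index
import Mathlib.Topology.Algebra.Group.Basic
-- import your own Groth.Agent.* helpers here

set_option autoImplicit false
universe u
open ProCompl

namespace Groth.Agent.S19170

/-- Let B be a topological abelian group generated as a group by a compact subset. Then every character
χ : B → ℚ/ℤ with open kernel (a continuous character for discrete ℚ/ℤ) has kernel of finite index;
consequently each such character factors through B^∧, the completion of B taken along its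
finite-index open subgroups, i.e. (B^∧)^D = B^D. (The published statement assumes moreover that B is
Hausdorff, locally compact and totally disconnected; only compact generation is needed for this
assertion, so those assumptions are dropped here.) -/
theorem result
    {B : Type u} [AddCommGroup B] [TopologicalSpace B] [IsTopologicalAddGroup B]
    (hcg : ∃ K : Set B, IsCompact K ∧ AddSubgroup.closure K = ⊤)
    (χ : B →+ ℚ ⧸ AddSubgroup.zmultiples (1 : ℚ)) (hχ : IsOpen (χ.ker : Set B)) : χ.ker.FiniteIndex := by
  classical
  obtain ⟨K, hK, hKgen⟩ := hcg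
  have hopen : ∀ y : ℚ ⧸ AddSubgroup.zmultiples (1 : ℚ), IsOpen (χ ⁻¹' {y}) := by
    intro y
    by_cases hy : ∃ b, χ b = y
    · obtain ⟨b, rfl⟩ := hy
      have : χ ⁻¹' {χ b} = (Homeomorph.addLeft b) '' (χ.ker : Set B) := by
        ext x
        simp only [Set.mem_preimage, Set.mem_singleton_iff, Set.mem_image, SetLike.mem_coe,
          AddMonoidHom.mem_ker, Homeomorph.coe_addLeft]
        constructor
        · intro hx
          refine ⟨x - b, by rw [map_sub, hx, sub_self], by abel⟩
        · rintro ⟨z, hz, rfl⟩
          rw [map_add, hz, add_zero]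
      rw [this]
      exact (Homeomorph.addLeft b).isOpenMap _ hχ
    · have : χ ⁻¹' {y} = ∅ := by
        ext x
        simp only [Set.mem_preimage, Set.mem_singleton_iff, Set.mem_empty_iff_false, iff_false]
        exact fun hx => hy ⟨x, hx⟩
      rw [this]; exact isOpen_empty
  obtain ⟨t, ht⟩ := hK.elim_finite_subcover (fun y : ℚ ⧸ AddSubgroup.zmultiples (1 : ℚ) => χ ⁻¹' {y})
    hopen (fun x _ => Set.mem_iUnion.mpr ⟨χ x, rfl⟩)
  have hfin : (χ '' K).Finite := by
    apply (t.finite_toSet).subset
    rintro _ ⟨x, hx, rfl⟩
    have := ht hx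
    simp only [Set.mem_iUnion, Set.mem_preimage, Set.mem_singleton_iff, exists_prop] at this
    obtain ⟨y, hy, hxy⟩ := this
    rw [hxy]; exact hy
  have hrange : χ.range = AddSubgroup.closure (χ '' K) := by
    rw [← AddMonoidHom.map_closure, hKgen, AddMonoidHom.range_eq_map]
  have hfg : AddGroup.FG χ.range := by
    rw [hrange]
    haveI : Finite (χ '' K) := hfin
    exact AddGroup.closure_finite_fg _
  have htors : IsAddTorsion χ.range := by
    rintro ⟨x, hx⟩
    obtain ⟨q, rfl⟩ := QuotientAddGroup.mk_surjective x
    rw [isOfFinAddOrder_iff_nsmul_eq_zero]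
    refine ⟨q.den, q.den_pos, ?_⟩
    apply Subtype.ext
    show q.den • (QuotientAddGroup.mk q : ℚ ⧸ AddSubgroup.zmultiples (1 : ℚ)) = 0
    rw [← QuotientAddGroup.mk_nsmul, QuotientAddGroup.eq_zero_iff, AddSubgroup.mem_zmultiples_iff]
    refine ⟨q.num, ?_⟩
    rw [zsmul_eq_mul, mul_one, nsmul_eq_mul, mul_comm, Rat.mul_den_eq_num]
  haveI : Finite χ.range := AddCommGroup.finite_of_fg_isAddTorsion _ htors
  refine ⟨?_⟩
  rw [AddSubgroup.index_ker]
  exact Nat.card_pos.ne'
end Groth.Agent.S19170
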