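import Groth.Statements.S19169
import Mathlib.Tactic
import Mathlib.Algebra.Module.CharacterModule
import Groth.Agent.Lib.VanDantzig97
import Groth.Agent.S19170
-- import your own Groth.Agent.* helpers here

set_option autoImplicit false
universe u
open ProCompl

namespace Groth.Agent.S19169

/-- Let B be a Hausdorff, locally compact, totally disconnected topological abelian group which is
compactly generated, i.e. generated as a group by a compact subset. Then the open subgroups of
finite index of B have trivial intersection: every nonzero b lies outside some open subgroup of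
finite index. Equivalently, the natural map from B to its completion with respect to open subgroups
of finite index is injective. -/
theorem result
    {B : Type u} [AddCommGroup B] [TopologicalSpace B] [IsTopologicalAddGroup B]
    [T2Space B] [LocallyCompactSpace B] [TotallyDisconnectedSpace B]
    (hcg : ∃ K : Set B, IsCompact K ∧ AddSubgroup.closure K = ⊤) (b : B) (hb : b ≠ 0) :
    ∃ B' : AddSubgroup B, IsOpen (B' : Set B) ∧ B'.FiniteIndex ∧ b ∉ B' := by
  have hO : ({b}ᶜ : Set B) ∈ nhds (0 : B) :=
    isOpen_compl_singleton.mem_nhds (by simpa using hb.symm)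
  obtain ⟨U, hUo, hUb⟩ := Groth.Agent.Lib.VanDantzig97.exists_open_addSubgroup_subset hO
  have hbU : b ∉ U := fun h => hUb h rfl
  have hmk : (QuotientAddGroup.mk b : B ⧸ U) ≠ 0 := by
    rwa [Ne, QuotientAddGroup.eq_zero_iff]
  obtain ⟨c, hc⟩ := CharacterModule.exists_character_apply_ne_zero_of_ne_zero hmk
  let c' : (B ⧸ U) →+ ℚ ⧸ AddSubgroup.zmultiples (1 : ℚ) := c
  let χ : B →+ ℚ ⧸ AddSubgroup.zmultiples (1 : ℚ) := c'.comp (QuotientAddGroup.mk' U)
  have hχU : (U : Set B) ⊆ (χ.ker : Set B) := by
    intro u hu
    show c' (QuotientAddGroup.mk u) = 0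
    rw [(QuotientAddGroup.eq_zero_iff u).mpr hu, map_zero]
  have hχo : IsOpen (χ.ker : Set B) :=
    AddSubgroup.isOpen_of_mem_nhds _
      (Filter.mem_of_superset (hUo.mem_nhds U.zero_mem) hχU)
  refine ⟨χ.ker, hχo, Groth.Agent.S19170.result hcg χ hχo, ?_⟩
  intro hbk
  exact hc hbk
end Groth.Agent.S19169
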