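import Groth.Statements.S19171
import Mathlib.Tactic
import Mathlib.Algebra.Module.CharacterModule
import Groth.Agent.Lib.VanDantzig97
-- import your own Groth.Agent.* helpers here

set_option autoImplicit false
universe u v
open ProCompl

namespace Groth.Agent.S19171

open Topology in
/-- Let B be a Hausdorff, locally compact, totally disconnected topological abelian group generated as a
group by a compact subset, and let i : A → B be an injective continuous homomorphism inducing the
topology of A from that of B (a strict injection) whose image is closed. Then every character χ : A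
→ ℚ/ℤ with open kernel extends along i to a character ψ : B → ℚ/ℤ with open kernel; with ℚ/ℤ
discrete this says that restriction B^D → A^D of continuous characters is surjective, i.e. the dual
of a topological exact sequence 0 → A → B → C → 0 with such B, strict closed i and open p is a short
exact sequence 0 → C^D → B^D → A^D → 0. -/
theorem result
    {A : Type u} {B : Type v} [AddCommGroup A] [TopologicalSpace A] [IsTopologicalAddGroup A]
    [AddCommGroup B] [TopologicalSpace B] [IsTopologicalAddGroup B]
    [T2Space B] [LocallyCompactSpace B] [TotallyDisconnectedSpace B]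
    (hcg : ∃ K : Set B, IsCompact K ∧ AddSubgroup.closure K = ⊤)
    (i : A →+ B) (hi : Continuous i) (hinj : Function.Injective i) (hind : IsInducing i)
    (hcl : IsClosed (Set.range i))
    (χ : A →+ ℚ ⧸ AddSubgroup.zmultiples (1 : ℚ)) (hχ : IsOpen (χ.ker : Set A)) :
    ∃ ψ : B →+ ℚ ⧸ AddSubgroup.zmultiples (1 : ℚ), IsOpen (ψ.ker : Set B) ∧ ψ.comp i = χ := by
  obtain ⟨O, hOo, hOχ⟩ := hind.isOpen_iff.mp hχ
  have h0O : (0 : B) ∈ O := by
    have : (0 : A) ∈ i ⁻¹' O := by rw [hOχ]; exact χ.ker.zero_mem
    simpa using this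
  obtain ⟨U, hUo, hUO⟩ :=
    Groth.Agent.Lib.VanDantzig97.exists_open_addSubgroup_subset (hOo.mem_nhds h0O)
  have hN : U.comap i ≤ χ.ker := by
    intro a ha
    have : a ∈ i ⁻¹' O := hUO ha
    rw [hOχ] at this
    exact this
  let χb : A ⧸ U.comap i →+ ℚ ⧸ AddSubgroup.zmultiples (1 : ℚ) :=
    QuotientAddGroup.lift (U.comap i) χ hN
  let j : A ⧸ U.comap i →+ B ⧸ U := QuotientAddGroup.map (U.comap i) U i le_rfl
  have hj : Function.Injective j := by
    rw [injective_iff_map_eq_zero]
    intro x hx
    obtain ⟨a, rfl⟩ := QuotientAddGroup.mk_surjective x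
    have : (QuotientAddGroup.mk (i a) : B ⧸ U) = 0 := hx
    rw [QuotientAddGroup.eq_zero_iff] at this ⊢
    exact this
  obtain ⟨ψb, hψb⟩ := (Module.Baer.of_divisible (AddCircle (1 : ℚ))).extension_property_addMonoidHom
    j hj (χb : A ⧸ U.comap i →+ AddCircle (1 : ℚ))
  let ψb' : B ⧸ U →+ ℚ ⧸ AddSubgroup.zmultiples (1 : ℚ) := ψb
  refine ⟨ψb'.comp (QuotientAddGroup.mk' U), ?_, ?_⟩
  · apply AddSubgroup.isOpen_of_mem_nhds
    apply Filter.mem_of_superset (hUo.mem_nhds U.zero_mem)
    intro u hu
    show ψb' (QuotientAddGroup.mk u) = 0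
    rw [(QuotientAddGroup.eq_zero_iff u).mpr hu, map_zero]
  · ext a
    have h1 : ψb (j (QuotientAddGroup.mk a)) = χb (QuotientAddGroup.mk a) :=
      DFunLike.congr_fun hψb (QuotientAddGroup.mk a)
    exact h1
end Groth.Agent.S19171
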