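import Groth.Statements.S19172
import Groth.Agent.Lib.FIComplLim97
-- import your own Groth.Agent.* helpers here

set_option autoImplicit false
universe u v w
open ProCompl

namespace Groth.Agent.S19172

open W4c61motalbduality Groth.Agent.Lib.FIComplLim97

section aux

variable {A : Type u} {B : Type v} {C : Type w}
  [AddCommGroup A] [TopologicalSpace A]
  [AddCommGroup B] [TopologicalSpace B]
  [AddCommGroup C] [TopologicalSpace C]

/-- A representative of the `U`-component is a representative of every coarser component. -/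
theorem rep_of_le (x : FICompl A) {U V : OpenFI A} (h : U.toAddSubgroup ≤ V.toAddSubgroup) {a : A}
    (ha : x.1 U = (QuotientAddGroup.mk a : A ⧸ U.toAddSubgroup)) :
    x.1 V = (QuotientAddGroup.mk a : A ⧸ V.toAddSubgroup) := by
  rw [← x.2 U V h, ha, QuotientAddGroup.map_mk]
  rfl

/-- The components of the image under `FICompl.map`, via representatives. -/
theorem map_rep (f : A →+ B) (hf : Continuous f) (x : FICompl A) (V : OpenFI B) {a : A}
    (ha : x.1 (V.comap f hf) = (QuotientAddGroup.mk a : A ⧸ (V.comap f hf).toAddSubgroup)) :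
    (FICompl.map f hf x).1 V = (QuotientAddGroup.mk (f a) : B ⧸ V.toAddSubgroup) := by
  change QuotientAddGroup.map (V.comap f hf).toAddSubgroup V.toAddSubgroup f
      (V.comap_le f) (x.1 (V.comap f hf)) = _
  rw [ha, QuotientAddGroup.map_mk]

/-- The image of an open subgroup of finite index under an open surjective homomorphism. -/
def mapFI (p : B →+ C) (hpo : IsOpenMap p) (hps : Function.Surjective p) (V : OpenFI B) :
    OpenFI C where
  toAddSubgroup := V.toAddSubgroup.map p
  isOpen' := by
    have := hpo _ V.isOpen'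
    simpa [AddSubgroup.coe_map] using this
  finiteIndex' := by
    have := V.finiteIndex'
    refine ⟨?_⟩
    intro h0
    have hdvd := AddSubgroup.index_map_dvd V.toAddSubgroup hps
    rw [h0] at hdvd
    exact AddSubgroup.FiniteIndex.index_ne_zero (zero_dvd_iff.mp hdvd)

theorem eq_of_le_of_index_le {G : Type*} [AddCommGroup G] {H K : AddSubgroup G} (h : H ≤ K)
    (hH : H.index ≠ 0) (hK : K.index ≠ 0) (hidx : H.index ≤ K.index) : K ≤ H := by
  rw [← AddSubgroup.relIndex_eq_one]
  have h1 := AddSubgroup.relIndex_mul_index h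
  have h2 : H.relIndex K * K.index ≤ 1 * K.index := by rw [h1, one_mul]; exact hidx
  have h3 : H.relIndex K ≤ 1 := Nat.le_of_mul_le_mul_right h2 (Nat.pos_of_ne_zero hK)
  have h4 : H.relIndex K ≠ 0 := by
    intro h0
    rw [h0, zero_mul] at h1
    exact hH h1.symm
  omega

end aux

open W4c61motalbduality in
/-- Let i : A → B and p : B → C be continuous homomorphisms of topological abelian groups with p
surjective and open and with the kernel of p equal to the image of i. Then the induced sequence of
completions with respect to open subgroups of finite index, A^∧ → B^∧ → C^∧ → 0, is exact: the map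
B^∧ → C^∧ is surjective and its kernel is the image of A^∧. The completion is the group of
compatible families of residues modulo all open subgroups of finite index. (The published statement
takes i injective, as the first map of an exact sequence 0 → A → B → C → 0 of topological abelian
groups; here it is only assumed that the image of i is the kernel of p, which is all the proof
uses.) -/
theorem result
    {A : Type u} {B : Type v} {C : Type w}
    [AddCommGroup A] [TopologicalSpace A] [IsTopologicalAddGroup A]
    [AddCommGroup B] [TopologicalSpace B] [IsTopologicalAddGroup B]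
    [AddCommGroup C] [TopologicalSpace C] [IsTopologicalAddGroup C]
    (i : A →+ B) (hi : Continuous i) (p : B →+ C) (hp : Continuous p)
    (hpo : IsOpenMap p) (hps : Function.Surjective p) (hex : p.ker = i.range) :
    Function.Surjective (FICompl.map p hp) ∧ (FICompl.map p hp).ker = (FICompl.map i hi).range := by
  refine ⟨?_, le_antisymm ?_ ?_⟩
  · -- surjectivity
    intro z
    let S : ∀ V : OpenFI B, Set (B ⧸ V.toAddSubgroup) := fun V =>
      {y | ∃ b : B, y = (QuotientAddGroup.mk b : B ⧸ V.toAddSubgroup) ∧
        z.1 (mapFI p hpo hps V) = (QuotientAddGroup.mk (p b) : C ⧸ (mapFI p hpo hps V).toAddSubgroup)}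
    have hmap : ∀ (U V : OpenFI B) (h : U.toAddSubgroup ≤ V.toAddSubgroup)
        (x : B ⧸ U.toAddSubgroup), x ∈ S U →
        QuotientAddGroup.map U.toAddSubgroup V.toAddSubgroup (AddMonoidHom.id B) h x ∈ S V := by
      rintro U V h x ⟨b, rfl, hb⟩
      refine ⟨b, ?_, ?_⟩
      · rw [QuotientAddGroup.map_mk]; rfl
      · exact rep_of_le z (U := mapFI p hpo hps U) (V := mapFI p hpo hps V)
          (AddSubgroup.map_mono h) hb
    have hne : ∀ V, (S V).Nonempty := by
      intro V
      obtain ⟨c, hc⟩ := QuotientAddGroup.mk_surjective (z.1 (mapFI p hpo hps V))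
      obtain ⟨b, rfl⟩ := hps c
      exact ⟨QuotientAddGroup.mk b, b, rfl, hc.symm⟩
    obtain ⟨y, hy⟩ := exists_mem_FICompl S hmap hne
    refine ⟨y, ?_⟩
    apply Subtype.ext
    funext W
    obtain ⟨b, hb1, hb2⟩ := hy (W.comap p hp)
    rw [map_rep p hp y W hb1]
    have hle : (mapFI p hpo hps (W.comap p hp)).toAddSubgroup ≤ W.toAddSubgroup := by
      change (W.toAddSubgroup.comap p).map p ≤ W.toAddSubgroup
      exact AddSubgroup.map_comap_le _ _
    exact (rep_of_le z hle hb2).symm
  · -- ker ≤ range
    intro y hy
    rw [AddMonoidHom.mem_ker] at hy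
    -- Step A
    have stepA : ∀ V : OpenFI B, ∃ a : A,
        y.1 V = (QuotientAddGroup.mk (i a) : B ⧸ V.toAddSubgroup) := by
      intro V
      obtain ⟨b, hb⟩ := QuotientAddGroup.mk_surjective (y.1 V)
      have hle : V.toAddSubgroup ≤ ((mapFI p hpo hps V).comap p hp).toAddSubgroup := by
        change V.toAddSubgroup ≤ (V.toAddSubgroup.map p).comap p
        exact AddSubgroup.le_comap_map _ _
      have h1 := rep_of_le y hle hb.symm
      have h2 := map_rep p hp y (mapFI p hpo hps V) h1
      rw [hy] at h2
      change (0 : C ⧸ (mapFI p hpo hps V).toAddSubgroup) = _ at h2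
      have h3 : p b ∈ V.toAddSubgroup.map p := by
        have := h2.symm
        rwa [QuotientAddGroup.eq_zero_iff] at this
      obtain ⟨v, hv, hvb⟩ := h3
      have h4 : b - v ∈ p.ker := by
        rw [AddMonoidHom.mem_ker, map_sub, hvb, sub_self]
      rw [hex] at h4
      obtain ⟨a, ha⟩ := h4
      refine ⟨a, ?_⟩
      rw [← hb, ha, QuotientAddGroup.eq]
      have hbv : -b + (b - v) = -v := by abel
      rw [hbv]
      exact V.toAddSubgroup.neg_mem hv
    -- Step B
    let T : ∀ U : OpenFI A, Set (A ⧸ U.toAddSubgroup) := fun U =>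
      {x | ∃ a : A, x = (QuotientAddGroup.mk a : A ⧸ U.toAddSubgroup) ∧
        ∀ V : OpenFI B, U.toAddSubgroup ≤ V.toAddSubgroup.comap i →
          y.1 V = (QuotientAddGroup.mk (i a) : B ⧸ V.toAddSubgroup)}
    have hmap : ∀ (U V : OpenFI A) (h : U.toAddSubgroup ≤ V.toAddSubgroup)
        (x : A ⧸ U.toAddSubgroup), x ∈ T U →
        QuotientAddGroup.map U.toAddSubgroup V.toAddSubgroup (AddMonoidHom.id A) h x ∈ T V := by
      rintro U V h x ⟨a, rfl, ha⟩
      refine ⟨a, ?_, fun W hW => ha W (h.trans hW)⟩
      rw [QuotientAddGroup.map_mk]; rfl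
    have hne : ∀ U, (T U).Nonempty := by
      intro U
      have hUfi := U.finiteIndex'
      -- choose V₀ maximizing the index of the preimage
      let P : ℕ → Prop := fun n => ∃ V : OpenFI B, U.toAddSubgroup ≤ V.toAddSubgroup.comap i ∧
        (V.toAddSubgroup.comap i).index = n
      have hbound : ∀ n, P n → n ≤ U.toAddSubgroup.index := by
        rintro n ⟨V, hV, rfl⟩
        exact Nat.le_of_dvd (Nat.pos_of_ne_zero AddSubgroup.FiniteIndex.index_ne_zero)
          (AddSubgroup.index_dvd_of_le hV)
      have hP1 : P ((top B).toAddSubgroup.comap i).index := ⟨top B, by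
        intro a _; trivial, rfl⟩
      classical
      have hfg := Nat.findGreatest_spec (P := P) (hbound _ hP1) hP1
      obtain ⟨V₀, hV₀, hV₀idx⟩ := hfg
      have hmax : ∀ V : OpenFI B, U.toAddSubgroup ≤ V.toAddSubgroup.comap i →
          (V.toAddSubgroup.comap i).index ≤ (V₀.toAddSubgroup.comap i).index := by
        intro V hV
        rw [hV₀idx]
        exact Nat.le_findGreatest (hbound _ ⟨V, hV, rfl⟩) ⟨V, hV, rfl⟩
      obtain ⟨a₀, ha₀⟩ := stepA V₀
      refine ⟨QuotientAddGroup.mk a₀, a₀, rfl, ?_⟩
      intro V hV
      have hV' : U.toAddSubgroup ≤ (inter V₀ V).toAddSubgroup.comap i := by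
        intro a ha
        exact ⟨hV₀ ha, hV ha⟩
      have hle : (inter V₀ V).toAddSubgroup.comap i ≤ V₀.toAddSubgroup.comap i :=
        AddSubgroup.comap_mono (inter_le_left V₀ V)
      have hfi₀ : (V₀.toAddSubgroup.comap i).index ≠ 0 := by
        intro h0
        have := AddSubgroup.index_dvd_of_le hV₀
        rw [h0] at this
        exact AddSubgroup.FiniteIndex.index_ne_zero (zero_dvd_iff.mp this)
      have hfi' : ((inter V₀ V).toAddSubgroup.comap i).index ≠ 0 := by
        intro h0
        have := AddSubgroup.index_dvd_of_le hV'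
        rw [h0] at this
        exact AddSubgroup.FiniteIndex.index_ne_zero (zero_dvd_iff.mp this)
      have heq : V₀.toAddSubgroup.comap i ≤ (inter V₀ V).toAddSubgroup.comap i :=
        eq_of_le_of_index_le hle hfi' hfi₀ (hmax _ hV')
      obtain ⟨a', ha'⟩ := stepA (inter V₀ V)
      have h1 := rep_of_le y (inter_le_left V₀ V) ha'
      have h2 := rep_of_le y (inter_le_right V₀ V) ha'
      rw [h2]
      rw [ha₀, QuotientAddGroup.eq] at h1
      have h3 : a' - a₀ ∈ V₀.toAddSubgroup.comap i := by
        rw [AddSubgroup.mem_comap, map_sub]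
        have hab : i a' - i a₀ = -i a₀ + i a' := by abel
        rw [hab]
        exact h1
      have h4 := heq h3
      have h5 : i a' - i a₀ ∈ V.toAddSubgroup := by
        have := (inter_le_right V₀ V) (by simpa [AddSubgroup.mem_comap, map_sub] using h4 :
          i a' - i a₀ ∈ (inter V₀ V).toAddSubgroup)
        exact this
      rw [QuotientAddGroup.eq]
      have hab : -i a' + i a₀ = -(i a' - i a₀) := by abel
      rw [hab]
      exact V.toAddSubgroup.neg_mem h5
    obtain ⟨x, hx⟩ := exists_mem_FICompl T hmap hne
    refine ⟨x, ?_⟩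
    apply Subtype.ext
    funext V
    obtain ⟨a, ha1, ha2⟩ := hx (V.comap i hi)
    rw [map_rep i hi x V ha1]
    exact (ha2 V le_rfl).symm
  · -- range ≤ ker
    rintro _ ⟨x, rfl⟩
    rw [AddMonoidHom.mem_ker]
    apply Subtype.ext
    funext W
    obtain ⟨a, ha⟩ := QuotientAddGroup.mk_surjective (x.1 (((W.comap p hp)).comap i hi))
    have h1 := map_rep i hi x (W.comap p hp) ha.symm
    rw [map_rep p hp _ W h1]
    have : p (i a) = 0 := by
      have : i a ∈ p.ker := by rw [hex]; exact ⟨a, rfl⟩
      exact this
    rw [this]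
    rfl

end Groth.Agent.S19172
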