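import Groth.Statements.S19173
import Mathlib.Tactic
import Mathlib.Algebra.Module.CharacterModule
import Groth.Agent.Lib.VanDantzig97
import Groth.Agent.S19170
-- import your own Groth.Agent.* helpers here

set_option autoImplicit false
universe u v
open ProCompl

namespace Groth.Agent.S19173

lemma key {A : Type u} {B : Type v} [AddCommGroup A] [TopologicalSpace A] [IsTopologicalAddGroup A]
    [AddCommGroup B] [TopologicalSpace B] [IsTopologicalAddGroup B]
    [T2Space B] [LocallyCompactSpace B] [TotallyDisconnectedSpace B]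
    (hcg : ∃ K : Set B, IsCompact K ∧ AddSubgroup.closure K = ⊤)
    (i : A →+ B) (hind : Topology.IsInducing i)
    (U : AddSubgroup A) (hUo : IsOpen (U : Set A)) (hUf : U.FiniteIndex) :
    ∃ V : AddSubgroup B, IsOpen (V : Set B) ∧ V.FiniteIndex ∧ V.comap i ≤ U := by
  classical
  obtain ⟨O, hOo, hOU⟩ := hind.isOpen_iff.mp hUo
  have h0O : (0 : B) ∈ O := by
    have : (0 : A) ∈ i ⁻¹' O := by rw [hOU]; exact U.zero_mem
    simpa using this
  obtain ⟨U₀, hU₀o, hU₀O⟩ :=
    Groth.Agent.Lib.VanDantzig97.exists_open_addSubgroup_subset (hOo.mem_nhds h0O)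
  have hU₀U : U₀.comap i ≤ U := by
    intro a ha
    have : a ∈ i ⁻¹' O := hU₀O ha
    rw [hOU] at this
    exact this
  set H₀ : AddSubgroup B := U₀ ⊔ U.map i with hH₀
  have hH₀U : H₀.comap i ≤ U := by
    intro x hx
    obtain ⟨u₀, hu₀, y, hy, hxy⟩ := AddSubgroup.mem_sup.mp (show i x ∈ U₀ ⊔ U.map i from hx)
    obtain ⟨u, hu, rfl⟩ := hy
    have : x - u ∈ U := hU₀U (by
      show i (x - u) ∈ U₀
      rw [map_sub, ← hxy, add_sub_cancel_right]; exact hu₀)
    have h2 := U.add_mem this hu
    rwa [sub_add_cancel] at h2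
  have hH₀o : IsOpen (H₀ : Set B) :=
    AddSubgroup.isOpen_of_mem_nhds _
      (Filter.mem_of_superset (hU₀o.mem_nhds U₀.zero_mem) (le_sup_left : U₀ ≤ H₀))
  let φ : A →+ B ⧸ H₀ := (QuotientAddGroup.mk' H₀).comp i
  have hUφ : U ≤ φ.ker := by
    intro a ha
    show (QuotientAddGroup.mk (i a) : B ⧸ H₀) = 0
    rw [QuotientAddGroup.eq_zero_iff]
    exact (le_sup_right : U.map i ≤ H₀) ⟨a, ha, rfl⟩
  have hfin : (Set.range φ).Finite := by
    have : Finite (A ⧸ U) := AddSubgroup.finite_quotient_of_finiteIndex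
    have hr : Set.range φ = Set.range (QuotientAddGroup.lift U φ hUφ) := by
      ext y
      constructor
      · rintro ⟨a, rfl⟩; exact ⟨QuotientAddGroup.mk a, rfl⟩
      · rintro ⟨q, rfl⟩
        obtain ⟨a, rfl⟩ := QuotientAddGroup.mk_surjective q
        exact ⟨a, rfl⟩
    rw [hr]
    exact Set.finite_range _
  -- characters separating the nonzero elements of the range
  have hchar : ∀ f : B ⧸ H₀, f ≠ 0 → ∃ χ : B →+ ℚ ⧸ AddSubgroup.zmultiples (1 : ℚ),
      IsOpen (χ.ker : Set B) ∧ χ.ker.FiniteIndex ∧ H₀ ≤ χ.ker ∧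
        ∀ b : B, (QuotientAddGroup.mk b : B ⧸ H₀) = f → χ b ≠ 0 := by
    intro f hf
    obtain ⟨c, hc⟩ := CharacterModule.exists_character_apply_ne_zero_of_ne_zero hf
    let c' : (B ⧸ H₀) →+ ℚ ⧸ AddSubgroup.zmultiples (1 : ℚ) := c
    let χ : B →+ ℚ ⧸ AddSubgroup.zmultiples (1 : ℚ) := c'.comp (QuotientAddGroup.mk' H₀)
    have hχH : H₀ ≤ χ.ker := by
      intro u hu
      show c' (QuotientAddGroup.mk u) = 0
      rw [(QuotientAddGroup.eq_zero_iff u).mpr hu, map_zero]
    have hχo : IsOpen (χ.ker : Set B) :=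
      AddSubgroup.isOpen_of_mem_nhds _
        (Filter.mem_of_superset (hH₀o.mem_nhds H₀.zero_mem) hχH)
    refine ⟨χ, hχo, Groth.Agent.S19170.result hcg χ hχo, hχH, ?_⟩
    rintro b rfl
    exact hc
  choose! χ hχo hχf hχH hχne using hchar
  let ι := {f : B ⧸ H₀ // f ∈ Set.range φ ∧ f ≠ 0}
  have : Finite ι := (hfin.subset (fun f hf => hf.1)).to_subtype
  refine ⟨⨅ f : ι, (χ f.1).ker, ?_, ?_, ?_⟩
  · rw [AddSubgroup.coe_iInf]
    exact isOpen_iInter_of_finite fun f => hχo f.1 f.2.2
  · exact AddSubgroup.finiteIndex_iInf fun f => hχf f.1 f.2.2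
  · intro x hx
    apply hH₀U
    show i x ∈ H₀
    by_contra hxH
    have hne : (QuotientAddGroup.mk (i x) : B ⧸ H₀) ≠ 0 := by
      rwa [Ne, QuotientAddGroup.eq_zero_iff]
    have hmem : i x ∈ ⨅ f : ι, (χ f.1).ker := hx
    rw [AddSubgroup.mem_iInf] at hmem
    have := hmem ⟨QuotientAddGroup.mk (i x), ⟨x, rfl⟩, hne⟩
    exact hχne _ hne (i x) rfl this


open W4c61motalbduality Topology in
/-- Let B be a Hausdorff, locally compact, totally disconnected topological abelian group generated as a
group by a compact subset, and let i : A → B be an injective continuous homomorphism inducing the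
topology of A from that of B (a strict injection) with closed image. Then the map induced by i on
completions with respect to open subgroups of finite index is injective; together with right
exactness for open surjections this makes 0 → A^∧ → B^∧ → C^∧ → 0 exact for a topological exact
sequence 0 → A → B → C → 0 with such B, strict closed i and open p. -/
theorem result
    {A : Type u} {B : Type v} [AddCommGroup A] [TopologicalSpace A] [IsTopologicalAddGroup A]
    [AddCommGroup B] [TopologicalSpace B] [IsTopologicalAddGroup B]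
    [T2Space B] [LocallyCompactSpace B] [TotallyDisconnectedSpace B]
    (hcg : ∃ K : Set B, IsCompact K ∧ AddSubgroup.closure K = ⊤)
    (i : A →+ B) (hi : Continuous i) (hinj : Function.Injective i) (hind : IsInducing i)
    (hcl : IsClosed (Set.range i)) :
    Function.Injective (FICompl.map i hi) := by
  rw [injective_iff_map_eq_zero]
  intro x hx
  apply Subtype.ext
  funext U
  obtain ⟨V, hVo, hVf, hVU⟩ := key hcg i hind U.toAddSubgroup U.isOpen' U.finiteIndex'
  let V' : OpenFI B := ⟨V, hVo, hVf⟩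
  have hxV : (FICompl.map i hi x).1 V' = 0 := by rw [hx]; rfl
  obtain ⟨a, ha⟩ := QuotientAddGroup.mk_surjective (x.1 (V'.comap i hi))
  have hxV' : QuotientAddGroup.map (V'.comap i hi).toAddSubgroup V'.toAddSubgroup i
      (V'.comap_le i) (x.1 (V'.comap i hi)) = 0 := hxV
  rw [← ha, QuotientAddGroup.map_mk, QuotientAddGroup.eq_zero_iff] at hxV'
  have h0 : x.1 (V'.comap i hi) = 0 := by
    rw [← ha, QuotientAddGroup.eq_zero_iff]
    exact hxV'
  have hcomp := x.2 (V'.comap i hi) U hVU
  rw [h0, map_zero] at hcomp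
  exact hcomp.symm
end Groth.Agent.S19173
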