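import Groth.Statements.S19176
import Mathlib
-- import your own Groth.Agent.* helpers here

set_option autoImplicit false
universe u
open PlaneCurve

namespace Groth.Agent.S19176

section aux
open MvPolynomial

variable {k : Type u} [Field k]

lemma finrank_eq_of_ker_eq {M N N' : Type*} [AddCommGroup M] [Module k M] [AddCommGroup N]
    [Module k N] [AddCommGroup N'] [Module k N'] (f : M →ₗ[k] N) (g : M →ₗ[k] N')
    (hf : Function.Surjective f) (hg : Function.Surjective g)
    (h : LinearMap.ker f = LinearMap.ker g) : Module.finrank k N = Module.finrank k N' := by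
  rw [← (f.quotKerEquivOfSurjective hf).finrank_eq, ← (g.quotKerEquivOfSurjective hg).finrank_eq]
  exact (Submodule.quotEquivOfEq _ _ h).finrank_eq

/-- exponent vector `x^i y^j`. -/
noncomputable def mon (i j : ℕ) : Fin 2 →₀ ℕ := Finsupp.single 0 i + Finsupp.single 1 j

lemma mon_zero (i j : ℕ) : mon i j 0 = i := by simp [mon]
lemma mon_one (i j : ℕ) : mon i j 1 = j := by simp [mon]

lemma eq_mon (m : Fin 2 →₀ ℕ) : m = mon (m 0) (m 1) := by
  ext x
  fin_cases x
  · exact (mon_zero _ _).symm
  · exact (mon_one _ _).symm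

lemma mon_inj {i j i' j' : ℕ} (h : mon i j = mon i' j') : i = i' ∧ j = j' := by
  constructor
  · have := congrArg (fun m => m 0) h
    simpa [mon_zero] using this
  · have := congrArg (fun m => m 1) h
    simpa [mon_one] using this

/-- coefficient map onto the box of size `a × b`. -/
noncomputable def phi (a b : ℕ) : MvPolynomial (Fin 2) k →ₗ[k] (Fin a × Fin b → k) where
  toFun P ij := coeff (mon ij.1 ij.2) P
  map_add' P Q := by funext ij; simp
  map_smul' c P := by funext ij; simp

lemma phi_surjective (a b : ℕ) : Function.Surjective (phi (k := k) a b) := by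
  intro g
  refine ⟨∑ ij : Fin a × Fin b, monomial (mon ij.1 ij.2) (g ij), ?_⟩
  funext ij'
  show coeff (mon ij'.1 ij'.2) (∑ ij : Fin a × Fin b, monomial (mon ij.1 ij.2) (g ij)) = g ij'
  rw [coeff_sum]
  rw [Finset.sum_eq_single ij']
  · simp
  · intro ij _ hne
    rw [coeff_monomial, if_neg]
    intro h
    apply hne
    obtain ⟨h1, h2⟩ := mon_inj h
    exact Prod.ext (Fin.ext h1) (Fin.ext h2)
  · intro h; exact (h (Finset.mem_univ _)).elim

lemma mem_box_ideal (a b : ℕ) (P : MvPolynomial (Fin 2) k) :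
    P ∈ Ideal.span ({X 0 ^ a, X 1 ^ b} : Set (MvPolynomial (Fin 2) k)) ↔
      ∀ m ∈ P.support, a ≤ m 0 ∨ b ≤ m 1 := by
  have : ({X 0 ^ a, X 1 ^ b} : Set (MvPolynomial (Fin 2) k)) =
      (fun s => monomial s (1 : k)) '' {Finsupp.single 0 a, Finsupp.single 1 b} := by
    rw [Set.image_pair, X_pow_eq_monomial, X_pow_eq_monomial]
  rw [this, mem_ideal_span_monomial_image]
  apply forall₂_congr
  intro m _
  constructor
  · rintro ⟨si, hsi, hle⟩
    rcases hsi with rfl | rfl
    · left; exact Finsupp.single_le_iff.mp hle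
    · right; exact Finsupp.single_le_iff.mp hle
  · rintro (h | h)
    · exact ⟨_, Or.inl rfl, Finsupp.single_le_iff.mpr h⟩
    · exact ⟨_, Or.inr rfl, Finsupp.single_le_iff.mpr h⟩

lemma ker_phi (a b : ℕ) : LinearMap.ker (phi (k := k) a b) =
    LinearMap.ker (Ideal.Quotient.mkₐ k
      (Ideal.span ({X 0 ^ a, X 1 ^ b} : Set (MvPolynomial (Fin 2) k)))).toLinearMap := by
  ext P
  rw [LinearMap.mem_ker, LinearMap.mem_ker]
  show _ ↔ Ideal.Quotient.mk _ P = 0
  rw [Ideal.Quotient.eq_zero_iff_mem, mem_box_ideal]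
  constructor
  · intro h m hm
    by_contra hcon
    push Not at hcon
    have := congrFun h (⟨m 0, hcon.1⟩, ⟨m 1, hcon.2⟩)
    have h' : coeff (mon (m 0) (m 1)) P = 0 := this
    rw [← eq_mon m] at h'
    exact (mem_support_iff.mp hm) h'
  · intro h
    funext ij
    show coeff (mon ij.1 ij.2) P = 0
    by_contra hne
    have hm : mon ij.1 ij.2 ∈ P.support := mem_support_iff.mpr hne
    have := h _ hm
    rw [mon_zero, mon_one] at this
    rcases this with h1 | h1
    · exact absurd ij.1.2 (by omega)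
    · exact absurd ij.2.2 (by omega)

lemma finrank_box (a b : ℕ) : Module.finrank k (MvPolynomial (Fin 2) k ⧸
    Ideal.span ({X 0 ^ a, X 1 ^ b} : Set (MvPolynomial (Fin 2) k))) = a * b := by
  have := finrank_eq_of_ker_eq (phi (k := k) a b)
    (Ideal.Quotient.mkₐ k
      (Ideal.span ({X 0 ^ a, X 1 ^ b} : Set (MvPolynomial (Fin 2) k)))).toLinearMap
    (phi_surjective a b) (Ideal.Quotient.mkₐ_surjective k _) (ker_phi a b)
  rw [← this]
  simp

end aux


open MvPolynomial in
/-- Let k be a field of characteristic p (p = 0 allowed) and F = y² − x³ in k[x, y] (x the variable of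
index 0, y of index 1). The singular subscheme of the plane curve F = 0, cut out by F and its two
partial derivatives, is finite over k of degree 4 when p = 2, of degree 3 when p = 3, and of degree
2 otherwise: the k-dimension of k[x, y]/(F, ∂F/∂x, ∂F/∂y) is that number. (The source phrases this
through the complete local ring of a cusp; the row is the computation for the standard cusp y² =
x³.) -/
theorem result (k : Type u) [Field k] (p : ℕ) [CharP k p] :
    Module.finrank k (MvPolynomial (Fin 2) k ⧸ Ideal.span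
      ({X 1 ^ 2 - X 0 ^ 3, pderiv 0 (X 1 ^ 2 - X 0 ^ 3), pderiv 1 (X 1 ^ 2 - X 0 ^ 3)} :
        Set (MvPolynomial (Fin 2) k))) = (if p = 2 then 4 else if p = 3 then 3 else 2) := by
  have hd0 : pderiv (0 : Fin 2) (X 1 ^ 2 - X 0 ^ 3 : MvPolynomial (Fin 2) k) = - (3 * X 0 ^ 2) := by
    simp
  have hd1 : pderiv (1 : Fin 2) (X 1 ^ 2 - X 0 ^ 3 : MvPolynomial (Fin 2) k) = 2 * X 1 := by
    simp
  rw [hd0, hd1]
  have h2 : (2 : k) = 0 ↔ p ∣ 2 := by
    have := CharP.cast_eq_zero_iff k p 2
    simpa using this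
  have h3 : (3 : k) = 0 ↔ p ∣ 3 := by
    have := CharP.cast_eq_zero_iff k p 3
    simpa using this
  have hp1 : p ≠ 1 := CharP.char_ne_one k p
  have hC2 : (2 : MvPolynomial (Fin 2) k) = C (2 : k) :=
    (map_ofNat (C : k →+* MvPolynomial (Fin 2) k) 2).symm
  have hC3 : (3 : MvPolynomial (Fin 2) k) = C (3 : k) :=
    (map_ofNat (C : k →+* MvPolynomial (Fin 2) k) 3).symm
  have hmem : ∀ {I : Ideal (MvPolynomial (Fin 2) k)} {f g : MvPolynomial (Fin 2) k},
      f ∈ I → f = g → g ∈ I := fun hf h => h ▸ hf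
  by_cases hp2 : p = 2
  · rw [if_pos hp2]
    have e2 : (2 : k) = 0 := h2.mpr (by rw [hp2])
    have e3 : (3 : k) = 1 := by
      have : (3 : k) = 2 + 1 := by norm_num
      rw [this, e2, zero_add]
    have hI : Ideal.span ({X 1 ^ 2 - X 0 ^ 3, -(3 * X 0 ^ 2), 2 * X 1} :
        Set (MvPolynomial (Fin 2) k)) = Ideal.span {X 0 ^ 2, X 1 ^ 2} := by
      rw [hC2, hC3, e2, e3]
      simp only [map_zero, map_one, zero_mul, one_mul]
      apply le_antisymm
      · rw [Ideal.span_le]
        rintro x (rfl | rfl | rfl)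
        · have h1 : (X 0 ^ 2 : MvPolynomial (Fin 2) k) ∈ Ideal.span {X 0 ^ 2, X 1 ^ 2} :=
            Ideal.subset_span (by simp)
          have h2' : (X 1 ^ 2 : MvPolynomial (Fin 2) k) ∈ Ideal.span {X 0 ^ 2, X 1 ^ 2} :=
            Ideal.subset_span (by simp)
          exact hmem (Ideal.sub_mem _ h2' (Ideal.mul_mem_left _ (X 0) h1)) (by ring)
        · exact neg_mem (Ideal.subset_span (by simp))
        · exact Ideal.zero_mem _
      · rw [Ideal.span_le]
        have hF : (X 1 ^ 2 - X 0 ^ 3 : MvPolynomial (Fin 2) k) ∈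
            Ideal.span {X 1 ^ 2 - X 0 ^ 3, -(X 0 ^ 2), 0} := Ideal.subset_span (by simp)
        have hx : (X 0 ^ 2 : MvPolynomial (Fin 2) k) ∈
            Ideal.span {X 1 ^ 2 - X 0 ^ 3, -(X 0 ^ 2), 0} :=
          hmem (neg_mem (Ideal.subset_span (by simp : (-(X 0 ^ 2) : MvPolynomial (Fin 2) k)
            ∈ ({X 1 ^ 2 - X 0 ^ 3, -(X 0 ^ 2), 0} : Set _)))) (by ring)
        rintro x (rfl | rfl)
        · exact hx
        · exact hmem (Ideal.add_mem _ hF (Ideal.mul_mem_left _ (X 0) hx)) (by ring)
    rw [hI, finrank_box]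
  · rw [if_neg hp2]
    have e2 : (2 : k) ≠ 0 := by
      intro h
      have := h2.mp h
      have hle := Nat.le_of_dvd (by norm_num) this
      interval_cases p
      · simp at this
      · exact hp1 rfl
      · exact hp2 rfl
    by_cases hp3 : p = 3
    · rw [if_pos hp3]
      have e3 : (3 : k) = 0 := h3.mpr (by rw [hp3])
      have hI : Ideal.span ({X 1 ^ 2 - X 0 ^ 3, -(3 * X 0 ^ 2), 2 * X 1} :
          Set (MvPolynomial (Fin 2) k)) = Ideal.span {X 0 ^ 3, X 1 ^ 1} := by
        rw [hC2, hC3, e3]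
        simp only [map_zero, zero_mul, neg_zero, pow_one]
        apply le_antisymm
        · rw [Ideal.span_le]
          have h1 : (X 0 ^ 3 : MvPolynomial (Fin 2) k) ∈ Ideal.span {X 0 ^ 3, X 1} :=
            Ideal.subset_span (by simp)
          have h2' : (X 1 : MvPolynomial (Fin 2) k) ∈ Ideal.span {X 0 ^ 3, X 1} :=
            Ideal.subset_span (by simp)
          rintro x (rfl | rfl | rfl)
          · exact hmem (Ideal.sub_mem _ (Ideal.mul_mem_left _ (X 1) h2') h1) (by ring)
          · exact Ideal.zero_mem _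
          · exact Ideal.mul_mem_left _ _ h2'
        · rw [Ideal.span_le]
          have hF : (X 1 ^ 2 - X 0 ^ 3 : MvPolynomial (Fin 2) k) ∈
              Ideal.span {X 1 ^ 2 - X 0 ^ 3, 0, C 2 * X 1} := Ideal.subset_span (by simp)
          have hy : (X 1 : MvPolynomial (Fin 2) k) ∈
              Ideal.span {X 1 ^ 2 - X 0 ^ 3, 0, C 2 * X 1} := by
            have h0 : (C 2 * X 1 : MvPolynomial (Fin 2) k) ∈
              Ideal.span {X 1 ^ 2 - X 0 ^ 3, 0, C 2 * X 1} := Ideal.subset_span (by simp)
            refine hmem (Ideal.mul_mem_left _ (C (2⁻¹ : k)) h0) ?_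
            rw [← mul_assoc, ← C_mul, inv_mul_cancel₀ e2, C_1, one_mul]
          rintro x (rfl | rfl)
          · exact hmem (Ideal.sub_mem _ (Ideal.mul_mem_left _ (X 1) hy) hF) (by ring)
          · exact hy
      rw [hI, finrank_box]
    · rw [if_neg hp3]
      have e3 : (3 : k) ≠ 0 := by
        intro h
        have := h3.mp h
        have hle := Nat.le_of_dvd (by norm_num) this
        interval_cases p
        · simp at this
        · exact hp1 rfl
        · exact hp2 rfl
        · exact hp3 rfl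
      have hI : Ideal.span ({X 1 ^ 2 - X 0 ^ 3, -(3 * X 0 ^ 2), 2 * X 1} :
          Set (MvPolynomial (Fin 2) k)) = Ideal.span {X 0 ^ 2, X 1 ^ 1} := by
        rw [hC2, hC3]
        simp only [pow_one]
        apply le_antisymm
        · rw [Ideal.span_le]
          have h1 : (X 0 ^ 2 : MvPolynomial (Fin 2) k) ∈ Ideal.span {X 0 ^ 2, X 1} :=
            Ideal.subset_span (by simp)
          have h2' : (X 1 : MvPolynomial (Fin 2) k) ∈ Ideal.span {X 0 ^ 2, X 1} :=
            Ideal.subset_span (by simp)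
          rintro x (rfl | rfl | rfl)
          · exact hmem (Ideal.sub_mem _ (Ideal.mul_mem_left _ (X 1) h2')
              (Ideal.mul_mem_left _ (X 0) h1)) (by ring)
          · exact neg_mem (Ideal.mul_mem_left _ _ h1)
          · exact Ideal.mul_mem_left _ _ h2'
        · rw [Ideal.span_le]
          have hx : (X 0 ^ 2 : MvPolynomial (Fin 2) k) ∈
              Ideal.span {X 1 ^ 2 - X 0 ^ 3, -(C 3 * X 0 ^ 2), C 2 * X 1} := by
            have h0 : (-(C 3 * X 0 ^ 2) : MvPolynomial (Fin 2) k) ∈
              Ideal.span {X 1 ^ 2 - X 0 ^ 3, -(C 3 * X 0 ^ 2), C 2 * X 1} :=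
              Ideal.subset_span (by simp)
            refine hmem (Ideal.mul_mem_left _ (C (-(3⁻¹ : k))) h0) ?_
            rw [mul_neg, C_neg, neg_mul, neg_neg, ← mul_assoc, ← C_mul, inv_mul_cancel₀ e3, C_1,
              one_mul]
          have hy : (X 1 : MvPolynomial (Fin 2) k) ∈
              Ideal.span {X 1 ^ 2 - X 0 ^ 3, -(C 3 * X 0 ^ 2), C 2 * X 1} := by
            have h0 : (C 2 * X 1 : MvPolynomial (Fin 2) k) ∈
              Ideal.span {X 1 ^ 2 - X 0 ^ 3, -(C 3 * X 0 ^ 2), C 2 * X 1} :=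
              Ideal.subset_span (by simp)
            refine hmem (Ideal.mul_mem_left _ (C (2⁻¹ : k)) h0) ?_
            rw [← mul_assoc, ← C_mul, inv_mul_cancel₀ e2, C_1, one_mul]
          rintro x (rfl | rfl)
          · exact hx
          · exact hy
      rw [hI, finrank_box]

end Groth.Agent.S19176
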