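import Groth.Statements.S19177
import Mathlib

set_option autoImplicit false
universe u
open CAlg

namespace Groth.Agent.S19177

/-- A finite projective algebra of positive rank everywhere admits a linear retraction of the
structure map. -/
theorem exists_retraction (S R : Type u) [CommRing S] [CommRing R] [Algebra S R] [Module.Finite S R]
    [Module.Projective S R]
    (h2 : ∀ p : PrimeSpectrum S, Module.rankAtStalk (R := S) R p ≠ 0) :
    ∃ ρ : R →ₗ[S] S, ρ 1 = 1 := by
  obtain ⟨n, f, g, -, -, hfg⟩ := Module.Finite.exists_comp_eq_id_of_projective S R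
  have hx : ∀ x : R, x = ∑ i, g x i • f (Pi.single i 1) := by
    intro x
    have h1 : f (g x) = x := LinearMap.congr_fun hfg x
    conv_lhs => rw [← h1, ← (Finset.univ_sum_single (g x) : ∑ i, Pi.single i (g x i) = g x)]
    rw [map_sum]
    refine Finset.sum_congr rfl fun i _ => ?_
    rw [← map_smul]
    congr 1
    rw [← Pi.single_smul, smul_eq_mul, mul_one]
  have htop : Ideal.span (Set.range (g 1)) = ⊤ := by
    by_contra hne
    obtain ⟨p, hp, hle⟩ := Ideal.exists_le_maximal _ hne
    have hmem : ∀ r : R, r ∈ p • (⊤ : Submodule S R) := by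
      intro r
      have : r = ∑ i, g 1 i • (r * f (Pi.single i 1)) := by
        conv_lhs => rw [← mul_one r, hx 1, Finset.mul_sum]
        refine Finset.sum_congr rfl fun i _ => ?_
        rw [mul_smul_comm]
      rw [this]
      exact Submodule.sum_mem _ fun i _ =>
        Submodule.smul_mem_smul (hle (Ideal.subset_span ⟨i, rfl⟩)) Submodule.mem_top
    have htop' : (⊤ : Submodule S R) ≤ p • (⊤ : Submodule S R) := fun r _ => hmem r
    obtain ⟨r, hr1, hr0⟩ := Submodule.exists_sub_one_mem_and_smul_eq_zero_of_fg_of_le_smul p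
      (⊤ : Submodule S R) (Module.Finite.fg_top) htop'
    have hrp : r ∉ p := by
      intro hr
      apply hp.ne_top
      rw [Ideal.eq_top_iff_one]
      have : (1 : S) = r - (r - 1) := by ring
      rw [this]
      exact Ideal.sub_mem _ hr hr1
    have := hp.isPrime
    apply h2 ⟨p, inferInstance⟩
    rw [Module.rankAtStalk_eq_zero_iff_notMem_support, Module.mem_support_iff_of_finite]
    intro hann
    apply hrp
    apply hann
    rw [Module.mem_annihilator]
    intro m
    exact hr0 m Submodule.mem_top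
  have h1 : (1 : S) ∈ Ideal.span (Set.range (g 1)) := by rw [htop]; trivial
  obtain ⟨c, hc⟩ := (Ideal.mem_span_range_iff_exists_fun).1 h1
  let ℓ : (Fin n → S) →ₗ[S] S := ∑ i, c i • LinearMap.proj i
  refine ⟨ℓ ∘ₗ g, ?_⟩
  rw [LinearMap.comp_apply]
  simp only [ℓ, LinearMap.sum_apply, LinearMap.smul_apply, LinearMap.proj_apply, smul_eq_mul]
  exact hc

/-- Let S → R be a homomorphism of commutative rings making R a finitely generated projective S-module
of rank 2 at every prime of S (the affine form of a finite locally free morphism of degree 2). Then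
the cokernel of the (injective) structure map S → R, the S-module R/S, is a projective S-module of
rank 1 at every prime of S (locally free of rank 1). -/
theorem result
    (S R : Type u) [CommRing S] [CommRing R] [Algebra S R] [Module.Finite S R] [Module.Projective S R]
    (h2 : ∀ p : PrimeSpectrum S, Module.rankAtStalk (R := S) R p = 2) :
    Module.Projective S (R ⧸ LinearMap.range (Algebra.linearMap S R)) ∧
      ∀ p : PrimeSpectrum S,
        Module.rankAtStalk (R := S) (R ⧸ LinearMap.range (Algebra.linearMap S R)) p = 1 := by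
  obtain ⟨ρ, hρ⟩ := exists_retraction S R (fun p => by rw [h2 p]; norm_num)
  set ι := Algebra.linearMap S R with hι
  set K := LinearMap.range ι with hK
  have hρι : ∀ s : S, ρ (ι s) = s := by
    intro s
    rw [hι, Algebra.linearMap_apply, Algebra.algebraMap_eq_smul_one, map_smul, hρ, smul_eq_mul,
      mul_one]
  let τ : R →ₗ[S] R := LinearMap.id - ι ∘ₗ ρ
  have hτ : ∀ x, τ x = x - ι (ρ x) := fun x => rfl
  have hτK : K ≤ LinearMap.ker τ := by
    rintro _ ⟨s, rfl⟩
    rw [LinearMap.mem_ker, hτ, hρι, sub_self]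
  have hρτ : ∀ x, ρ (τ x) = 0 := by
    intro x
    rw [hτ, map_sub, hρι, sub_self]
  let σ : (R ⧸ K) →ₗ[S] R := K.liftQ τ hτK
  have hσ : ∀ x : R, σ (Submodule.Quotient.mk x) = τ x := fun x => rfl
  have hsplit' : ∀ q : R ⧸ K, K.mkQ (σ q) = q := by
    intro q
    obtain ⟨x, rfl⟩ := Submodule.Quotient.mk_surjective _ q
    rw [hσ, hτ, Submodule.mkQ_apply, Submodule.Quotient.mk_sub]
    have : (Submodule.Quotient.mk (ι (ρ x)) : R ⧸ K) = 0 :=
      (Submodule.Quotient.mk_eq_zero _).2 ⟨ρ x, rfl⟩
    rw [this, sub_zero]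
  have hsplit : K.mkQ ∘ₗ σ = LinearMap.id := LinearMap.ext hsplit'
  have hproj : Module.Projective S (R ⧸ K) := Module.Projective.of_split σ K.mkQ hsplit
  refine ⟨hproj, fun p => ?_⟩
  have : Nontrivial S := ⟨⟨0, 1, fun h => p.isPrime.ne_top
    ((Ideal.eq_top_iff_one _).2 (by rw [← h]; exact Ideal.zero_mem _))⟩⟩
  have hρσ : ∀ q : R ⧸ K, ρ (σ q) = 0 := by
    intro q
    obtain ⟨x, rfl⟩ := Submodule.Quotient.mk_surjective _ q
    rw [hσ, hρτ]
  have hmkι : ∀ s : S, K.mkQ (ι s) = 0 := fun s =>
    (Submodule.Quotient.mk_eq_zero _).2 ⟨s, rfl⟩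
  let e : R ≃ₗ[S] S × (R ⧸ K) := LinearEquiv.ofLinearMap (ρ.prod K.mkQ)
    (ι.coprod σ)
    (LinearMap.ext fun sq => by
      obtain ⟨s, q⟩ := sq
      refine Prod.ext ?_ ?_
      · change ρ (ι s + σ q) = s
        rw [map_add, hρι, hρσ, add_zero]
      · change K.mkQ (ι s + σ q) = q
        rw [map_add, hmkι, hsplit', zero_add])
    (LinearMap.ext fun x => by
      change ι (ρ x) + σ (K.mkQ x) = x
      rw [Submodule.mkQ_apply, hσ, hτ]
      abel)
  have h3 := congrFun (Module.rankAtStalk_eq_of_equiv e) p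
  rw [Module.rankAtStalk_prod, Pi.add_apply, Module.rankAtStalk_self, Pi.one_apply, h2 p] at h3
  omega

end Groth.Agent.S19177
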