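import Groth.Statements.S19178
import Mathlib
-- import your own Groth.Agent.* helpers here

set_option autoImplicit false
universe u
open Curves

namespace Groth.Agent.S19178

/-- For every field k and every choice of coefficients a₁, a₂, a₃, a₄, a₆ in k, the homogeneous
Weierstrass cubic Y²Z + a₁XYZ + a₃YZ² − (X³ + a₂X²Z + a₄XZ² + a₆Z³) is an irreducible polynomial in
k[X, Y, Z]. Applied to all fields, this says every fibre of the Weierstrass family over the affine
space of coefficients is geometrically integral. -/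
theorem result (k : Type u) [Field k]
    (W : WeierstrassCurve k) :
    Irreducible (WeierstrassCurve.Projective.polynomial W) := by
  classical
  have h1 : (1 : Fin 3) = Fin.succ (0 : Fin 2) := rfl
  have h2 : (2 : Fin 3) = Fin.succ (1 : Fin 2) := rfl
  have e0 : MvPolynomial.finSuccEquiv k 2 (MvPolynomial.X 0) = Polynomial.X :=
    MvPolynomial.finSuccEquiv_X_zero
  have e1 : MvPolynomial.finSuccEquiv k 2 (MvPolynomial.X 1) = Polynomial.C (MvPolynomial.X 0) := by
    rw [h1, MvPolynomial.finSuccEquiv_X_succ]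
  have e2 : MvPolynomial.finSuccEquiv k 2 (MvPolynomial.X 2) = Polynomial.C (MvPolynomial.X 1) := by
    rw [h2, MvPolynomial.finSuccEquiv_X_succ]
  have eC : ∀ a : k, MvPolynomial.finSuccEquiv k 2 (MvPolynomial.C a) =
      Polynomial.C (MvPolynomial.C a) := fun a => by
    rw [MvPolynomial.finSuccEquiv_apply, MvPolynomial.eval₂Hom_C]; rfl
  -- coefficients
  set y : MvPolynomial (Fin 2) k := MvPolynomial.X 0 with hy
  set z : MvPolynomial (Fin 2) k := MvPolynomial.X 1 with hz
  set a : MvPolynomial (Fin 2) k := MvPolynomial.C W.a₂ * z with ha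
  set b : MvPolynomial (Fin 2) k := -(MvPolynomial.C W.a₁ * y * z - MvPolynomial.C W.a₄ * z ^ 2)
    with hb
  set c : MvPolynomial (Fin 2) k :=
    -(y ^ 2 * z + MvPolynomial.C W.a₃ * y * z ^ 2 - MvPolynomial.C W.a₆ * z ^ 3) with hc
  set g : Polynomial (MvPolynomial (Fin 2) k) :=
    Polynomial.X ^ 3 + (Polynomial.C a * Polynomial.X ^ 2 + Polynomial.C b * Polynomial.X +
      Polynomial.C c) with hg
  have hfg : MvPolynomial.finSuccEquiv k 2 (WeierstrassCurve.Projective.polynomial W) = -g := by
    rw [WeierstrassCurve.Projective.polynomial]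
    simp only [map_add, map_sub, map_mul, map_pow, e0, e1, e2, eC, hg, ha, hb, hc, map_neg]
    ring
  -- reduce to irreducibility of g
  rw [← MulEquiv.irreducible_iff (MvPolynomial.finSuccEquiv k 2).toMulEquiv]
  show Irreducible (MvPolynomial.finSuccEquiv k 2 (WeierstrassCurve.Projective.polynomial W))
  rw [hfg]
  have hassoc : Associated g (-g) := ⟨-1, by simp⟩
  rw [← hassoc.irreducible_iff]
  -- Eisenstein at (z)
  have hdeg_low : (Polynomial.C a * Polynomial.X ^ 2 + Polynomial.C b * Polynomial.X +
      Polynomial.C c).degree < ((3 : ℕ) : WithBot ℕ) :=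
    lt_of_le_of_lt Polynomial.degree_quadratic_le (by norm_num)
  have hmonic : g.Monic := Polynomial.monic_X_pow_add hdeg_low
  have hdeg : g.degree = 3 := by
    rw [hg, Polynomial.degree_add_eq_left_of_degree_lt]
    · simp
    · rw [Polynomial.degree_X_pow]; exact hdeg_low
  have hcoeff0 : g.coeff 0 = c := by simp [hg]
  have hcoeff1 : g.coeff 1 = b := by simp [hg, Polynomial.coeff_X_pow, Polynomial.coeff_X]
  have hcoeff2 : g.coeff 2 = a := by simp [hg, Polynomial.coeff_X_pow, Polynomial.coeff_X]
  have hzprime : Prime z := MvPolynomial.X_prime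
  have hPprime : (Ideal.span {z}).IsPrime :=
    (Ideal.span_singleton_prime hzprime.ne_zero).mpr hzprime
  have hnot : ¬ z ∣ y := by
    rintro ⟨h, hh⟩
    have := congrArg (MvPolynomial.eval (![1, 0] : Fin 2 → k)) hh
    simp [hy, hz] at this
  apply Polynomial.irreducible_of_eisenstein_criterion hPprime
  · rw [hmonic.leadingCoeff]
    intro h
    exact hPprime.ne_top ((Ideal.eq_top_iff_one _).mpr h)
  · intro n hn
    rw [hdeg] at hn
    have hn' : n < 3 := by exact_mod_cast hn
    rw [Ideal.mem_span_singleton]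
    interval_cases n
    · rw [hcoeff0, hc]
      exact ⟨-(y ^ 2 + MvPolynomial.C W.a₃ * y * z - MvPolynomial.C W.a₆ * z ^ 2), by ring⟩
    · rw [hcoeff1, hb]
      exact ⟨-(MvPolynomial.C W.a₁ * y - MvPolynomial.C W.a₄ * z), by ring⟩
    · rw [hcoeff2, ha]
      exact ⟨MvPolynomial.C W.a₂, by ring⟩
  · rw [hdeg]; norm_num
  · rw [hcoeff0, Ideal.span_singleton_pow, Ideal.mem_span_singleton]
    rintro ⟨h, hh⟩
    -- z^2 * h = c = -z * (y^2 + ...)
    have h3 : z * (z * h + (y ^ 2 + MvPolynomial.C W.a₃ * y * z - MvPolynomial.C W.a₆ * z ^ 2)) = 0 := by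
      have : z ^ 2 * h - c = 0 := by rw [hh]; ring
      rw [hc] at this
      linear_combination this
    have h4 := (mul_eq_zero.mp h3).resolve_left hzprime.ne_zero
    have h5 : z ∣ y ^ 2 := by
      refine ⟨-(h + MvPolynomial.C W.a₃ * y - MvPolynomial.C W.a₆ * z), ?_⟩
      linear_combination h4
    exact hnot (hzprime.dvd_of_dvd_pow h5)
  · exact hmonic.isPrimitive

end Groth.Agent.S19178
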