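import Groth.Statements.S19181
import Mathlib.Algebra.Polynomial.Monic
import Mathlib.Algebra.Polynomial.AlgebraMap
import Mathlib.Algebra.Polynomial.Degree.TrailingDegree
import Mathlib.Tactic.ComputeDegree
import Mathlib.Tactic.FinCases

set_option autoImplicit false
universe u
open CAlg

namespace Groth.Agent.S19181

open MvPolynomial

variable {R : Type*} [CommRing R]

/-- evaluation X0 ↦ 0, X1 ↦ X -/
noncomputable def ev0 : MvPolynomial (Fin 2) R →ₐ[R] Polynomial R :=
  MvPolynomial.aeval ![0, Polynomial.X]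

noncomputable def ι : Polynomial R →ₐ[R] MvPolynomial (Fin 2) R :=
  Polynomial.aeval (X 1)

lemma ev0_X0 : ev0 (X 0 : MvPolynomial (Fin 2) R) = 0 := by simp [ev0]
lemma ev0_X1 : ev0 (X 1 : MvPolynomial (Fin 2) R) = Polynomial.X := by simp [ev0]
lemma ev0_C (a : R) : ev0 (C a : MvPolynomial (Fin 2) R) = Polynomial.C a := by simp [ev0]

lemma X0_dvd_sub (p : MvPolynomial (Fin 2) R) : X 0 ∣ p - ι (ev0 p) := by
  induction p using MvPolynomial.induction_on with
  | C a => simp [ev0, ι]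
  | add p q hp hq =>
    have : p + q - ι (ev0 (p + q)) = (p - ι (ev0 p)) + (q - ι (ev0 q)) := by
      simp only [map_add]; ring
    rw [this]; exact dvd_add hp hq
  | mul_X p i hp =>
    fin_cases i
    · simp [ev0_X0]
    · have : p * X 1 - ι (ev0 (p * X 1)) = (p - ι (ev0 p)) * X 1 := by
        simp only [map_mul, ev0_X1, ι, Polynomial.aeval_X]; ring
      simp only [Fin.mk_one]
      rw [this]; exact Dvd.dvd.mul_right hp _

lemma X0_dvd_of_ev0 (p : MvPolynomial (Fin 2) R) (h : ev0 p = 0) : X 0 ∣ p := by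
  have := X0_dvd_sub p
  rwa [h, map_zero, sub_zero] at this

lemma key (g : MvPolynomial (Fin 2) R) (hg : ∀ q, ev0 g * q = 0 → q = 0) :
    ∀ (m : ℕ) (s t : MvPolynomial (Fin 2) R), X 0 ^ m * s = g * t → g ∣ s := by
  intro m
  induction m with
  | zero => intro s t h; exact ⟨t, by simpa using h⟩
  | succ m ih =>
    intro s t h
    have h0 : ev0 g * ev0 t = 0 := by
      rw [← map_mul, ← h, map_mul, map_pow, ev0_X0, zero_pow (Nat.succ_ne_zero m), zero_mul]
    obtain ⟨t', rfl⟩ := X0_dvd_of_ev0 t (hg _ h0)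
    refine ih s t' ?_
    have hreg : IsRegular (X 0 : MvPolynomial (Fin 2) R) := MvPolynomial.isRegular_X
    apply hreg.left
    simp only
    rw [← mul_assoc, ← pow_succ', h]; ring

lemma main (g : MvPolynomial (Fin 2) R) (hg : ∀ q, ev0 g * q = 0 → q = 0)
    (s : MvPolynomial (Fin 2) R) :
    (∃ n : ℕ, X 0 ^ n * s ∈ Ideal.span ({X 0 ^ 2 * g} : Set (MvPolynomial (Fin 2) R))) ↔
      s ∈ Ideal.span ({g} : Set (MvPolynomial (Fin 2) R)) := by
  simp only [Ideal.mem_span_singleton]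
  constructor
  · rintro ⟨n, t, ht⟩
    exact key g hg n s (X 0 ^ 2 * t) (by rw [ht]; ring)
  · rintro ⟨t, rfl⟩
    exact ⟨2, t, by ring⟩

lemma reg_of_coeff_zero (p : Polynomial R) (hp : p.coeff 0 = 1) (q : Polynomial R)
    (h : p * q = 0) : q = 0 := by
  rcases subsingleton_or_nontrivial R with hR | hR
  · exact Subsingleton.elim _ _
  have hp0 : p.natTrailingDegree = 0 := by
    apply Nat.eq_zero_of_le_zero
    apply Polynomial.natTrailingDegree_le_of_ne_zero
    rw [hp]; exact one_ne_zero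
  have htc : p.trailingCoeff = 1 := by
    rw [Polynomial.trailingCoeff, hp0, hp]
  have := Polynomial.coeff_mul_natTrailingDegree_add_natTrailingDegree (p := p) (q := q)
  rw [h, htc, one_mul, Polynomial.coeff_zero] at this
  exact Polynomial.trailingCoeff_eq_zero.mp this.symm

theorem result' (R : Type u) [CommRing R] (a₁ a₂ : R) :
    (∀ s : MvPolynomial (Fin 2) R,
      (∃ n : ℕ, X 0 ^ n * s ∈ Ideal.span ({X 0 ^ 2 * (1 + C a₁ * X 1 - X 0 * X 1 ^ 3 - C a₂ * X 1 ^ 2)} :
        Set (MvPolynomial (Fin 2) R))) ↔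
      s ∈ Ideal.span ({1 + C a₁ * X 1 - X 0 * X 1 ^ 3 - C a₂ * X 1 ^ 2} : Set (MvPolynomial (Fin 2) R))) ∧
    (∀ s : MvPolynomial (Fin 2) R,
      (∃ n : ℕ, X 0 ^ n * s ∈ Ideal.span ({X 0 ^ 2 * (X 1 ^ 2 + C a₁ * X 1 - X 0 - C a₂)} :
        Set (MvPolynomial (Fin 2) R))) ↔
      s ∈ Ideal.span ({X 1 ^ 2 + C a₁ * X 1 - X 0 - C a₂} : Set (MvPolynomial (Fin 2) R))) := by
  constructor
  · intro s
    apply main
    intro q hq
    apply reg_of_coeff_zero _ _ q hq
    simp [ev0_X0, ev0_X1]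
  · intro s
    apply main
    intro q hq
    have hm : (ev0 (X 1 ^ 2 + C a₁ * X 1 - X 0 - C a₂ : MvPolynomial (Fin 2) R)).Monic := by
      simp only [map_sub, map_add, map_mul, map_pow, ev0_X0, ev0_X1, ev0_C, sub_zero]
      monicity!
    exact hm.isRegular.left (by simpa using hq)


open MvPolynomial in
/-- Let R be a commutative ring, a₁, a₂ ∈ R, and C ⊂ A²_R the curve y² + a₁xy = x³ + a₂x², blown up at
the section x = y = 0. In the chart where x = yα (variables y = X 0, α = X 1) the equation of C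
becomes y²·g₁ with g₁ = 1 + a₁α − yα³ − a₂α², and the y-saturation of the ideal (y²g₁) is (g₁): for
s ∈ R[y, α], some yⁿs lies in (y²g₁) if and only if s ∈ (g₁). In the chart where y = xβ (variables x
= X 0, β = X 1) the equation becomes x²·g₂ with g₂ = β² + a₁β − x − a₂, and some xⁿs lies in (x²g₂)
if and only if s ∈ (g₂). In other words the strict transform of C is cut out by g₁, resp. g₂, in the
two charts. -/
theorem result (R : Type u) [CommRing R] (a₁ a₂ : R) :
    (∀ s : MvPolynomial (Fin 2) R,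
      (∃ n : ℕ, X 0 ^ n * s ∈ Ideal.span ({X 0 ^ 2 * (1 + C a₁ * X 1 - X 0 * X 1 ^ 3 - C a₂ * X 1 ^ 2)} :
        Set (MvPolynomial (Fin 2) R))) ↔
      s ∈ Ideal.span ({1 + C a₁ * X 1 - X 0 * X 1 ^ 3 - C a₂ * X 1 ^ 2} : Set (MvPolynomial (Fin 2) R))) ∧
    (∀ s : MvPolynomial (Fin 2) R,
      (∃ n : ℕ, X 0 ^ n * s ∈ Ideal.span ({X 0 ^ 2 * (X 1 ^ 2 + C a₁ * X 1 - X 0 - C a₂)} :
        Set (MvPolynomial (Fin 2) R))) ↔
      s ∈ Ideal.span ({X 1 ^ 2 + C a₁ * X 1 - X 0 - C a₂} : Set (MvPolynomial (Fin 2) R))) := by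
  exact result' R a₁ a₂

end Groth.Agent.S19181
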