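import Groth.Statements.S19182
import Mathlib
-- import your own Groth.Agent.* helpers here

set_option autoImplicit false
universe u
open CAlg

namespace Groth.Agent.S19182

section aux
open MvPolynomial
variable {R : Type u} [CommRing R]

lemma smooth_of_unit_pderiv (f : MvPolynomial (Fin 2) R) (i : Fin 2)
    (hu : ∃ g, pderiv i f * g - 1 ∈ Ideal.span ({f} : Set (MvPolynomial (Fin 2) R))) :
    Algebra.Smooth R (MvPolynomial (Fin 2) R ⧸ Ideal.span ({f} : Set (MvPolynomial (Fin 2) R))) := by
  classical
  have hrange : Ideal.span (Set.range (fun _ : Unit => f)) =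
      Ideal.span ({f} : Set (MvPolynomial (Fin 2) R)) := by
    rw [Set.range_const]
  let P0 : Algebra.Presentation R
      (MvPolynomial (Fin 2) R ⧸ Ideal.span (Set.range (fun _ : Unit => f))) (Fin 2) Unit :=
    Algebra.Presentation.naive (v := fun _ : Unit => f)
  let P1 : Algebra.PreSubmersivePresentation R
      (MvPolynomial (Fin 2) R ⧸ Ideal.span (Set.range (fun _ : Unit => f))) (Fin 2) Unit :=
    { toPresentation := P0
      map := fun _ => i
      map_inj := fun _ _ _ => rfl }
  have hjac : P1.jacobian = Ideal.Quotient.mk _ (pderiv i f) := by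
    rw [Algebra.PreSubmersivePresentation.jacobian_eq_jacobiMatrix_det, Matrix.det_unique,
      Algebra.PreSubmersivePresentation.jacobiMatrix_apply, Algebra.Generators.algebraMap_apply]
    show (aeval P0.val) ((pderiv i) f) = _
    have : (aeval P0.val : MvPolynomial (Fin 2) R →ₐ[R] _) =
        Ideal.Quotient.mkₐ R (Ideal.span (Set.range (fun _ : Unit => f))) := by
      ext j
      simp [P0, Algebra.Presentation.naive]
    rw [this]
    rfl
  let P2 : Algebra.SubmersivePresentation R
      (MvPolynomial (Fin 2) R ⧸ Ideal.span (Set.range (fun _ : Unit => f))) (Fin 2) Unit :=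
    { toPreSubmersivePresentation := P1
      jacobian_isUnit := by
        rw [hjac]
        obtain ⟨g, hg⟩ := hu
        rw [← hrange] at hg
        refine IsUnit.of_mul_eq_one (Ideal.Quotient.mk _ g) ?_
        rw [← map_mul, ← sub_eq_zero, ← map_one (Ideal.Quotient.mk _), ← map_sub]
        exact Ideal.Quotient.eq_zero_iff_mem.mpr hg }
  have hss := P2.isStandardSmooth
  have hsm : Algebra.Smooth R
      (MvPolynomial (Fin 2) R ⧸ Ideal.span (Set.range (fun _ : Unit => f))) := inferInstance
  exact Algebra.Smooth.of_equiv (Ideal.quotientEquivAlgOfEq R hrange)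

end aux


open MvPolynomial in
/-- Let R be a commutative ring and a₁, a₂ ∈ R. The two affine charts of the blow-up of the plane curve
y² + a₁xy = x³ + a₂x² at the section x = y = 0, with coordinate rings R[y, α]/(1 + a₁α − yα³ − a₂α²)
and R[x, β]/(β² + a₁β − x − a₂) (variables indexed 0 and 1 in this order), are smooth R-algebras
(formally smooth of finite presentation). This is the local computation behind the statement that
the blow-up of a Weierstrass curve along a section through its singular locus is a smooth proper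
curve of genus 0. -/
theorem result (R : Type u) [CommRing R] (a₁ a₂ : R) :
    Algebra.Smooth R (MvPolynomial (Fin 2) R ⧸
      Ideal.span ({1 + C a₁ * X 1 - X 0 * X 1 ^ 3 - C a₂ * X 1 ^ 2} : Set (MvPolynomial (Fin 2) R))) ∧
    Algebra.Smooth R (MvPolynomial (Fin 2) R ⧸
      Ideal.span ({X 1 ^ 2 + C a₁ * X 1 - X 0 - C a₂} : Set (MvPolynomial (Fin 2) R))) := by
  constructor
  · apply smooth_of_unit_pderiv _ 0
    have hd : pderiv (0 : Fin 2) (1 + C a₁ * X 1 - X 0 * X 1 ^ 3 - C a₂ * X 1 ^ 2 :
        MvPolynomial (Fin 2) R) = - X 1 ^ 3 := by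
      simp [pderiv_X_of_ne]
    rw [hd]
    refine ⟨-(X 0 * X 1 ^ 2 + C a₂ * X 1 - C a₁) ^ 3, ?_⟩
    rw [Ideal.mem_span_singleton']
    refine ⟨-((X 1 * (X 0 * X 1 ^ 2 + C a₂ * X 1 - C a₁)) ^ 2 +
      X 1 * (X 0 * X 1 ^ 2 + C a₂ * X 1 - C a₁) + 1), ?_⟩
    ring
  · apply smooth_of_unit_pderiv _ 0
    have hd : pderiv (0 : Fin 2) (X 1 ^ 2 + C a₁ * X 1 - X 0 - C a₂ :
        MvPolynomial (Fin 2) R) = - 1 := by
      simp [pderiv_X_of_ne]
    rw [hd]
    refine ⟨-1, ?_⟩
    have : (-1 : MvPolynomial (Fin 2) R) * -1 - 1 = 0 := by ring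
    rw [this]
    exact Ideal.zero_mem _

end Groth.Agent.S19182
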