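import Groth.Statements.S19183
import Mathlib.Tactic
import Mathlib.LinearAlgebra.Dimension.Constructions
import Mathlib.LinearAlgebra.FreeModule.Finite.Basic
-- import your own Groth.Agent.* helpers here

set_option autoImplicit false
universe u
open CAlg

namespace Groth.Agent.S19183

/-- Let A be a non-zero commutative ring and f ∈ A a non-zero-divisor. The fibre product A ×_{A/(f)} A
of two copies of A over A/(f) — the A-submodule of A × A of pairs (x, y) with x − y ∈ (f), which is
the coordinate ring of two copies of Spec A glued along the Cartier divisor f = 0 — is a free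
A-module of rank 2. (This is what makes the gluing of two copies of a curve along an effective
Cartier divisor finite locally free of degree 2 over the curve.) -/
theorem result (A : Type u) [CommRing A] [Nontrivial A]
    (f : A) (hf : f ∈ nonZeroDivisors A) :
    Module.Free A (Submodule.comap (LinearMap.fst A A A - LinearMap.snd A A A) (Ideal.span ({f} : Set A))) ∧
      Module.finrank A (Submodule.comap (LinearMap.fst A A A - LinearMap.snd A A A) (Ideal.span ({f} : Set A))) = 2 := by
  have hmem : ∀ z : A × A, z ∈ Submodule.comap (LinearMap.fst A A A - LinearMap.snd A A A)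
      (Ideal.span ({f} : Set A)) ↔ z.1 - z.2 ∈ Ideal.span ({f} : Set A) := fun z => Iff.rfl
  let φ : (A × A) →ₗ[A] Submodule.comap (LinearMap.fst A A A - LinearMap.snd A A A)
      (Ideal.span ({f} : Set A)) :=
    { toFun := fun st => ⟨(st.1 + st.2 * f, st.1), by
        rw [hmem]
        simp only [add_sub_cancel_left]
        exact Ideal.mul_mem_left _ _ (Ideal.subset_span rfl)⟩
      map_add' := by
        intro x y
        apply Subtype.ext
        simp only [Prod.fst_add, Prod.snd_add, Submodule.coe_add, Prod.mk_add_mk, Prod.mk.injEq]
        constructor
        · ring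
        · trivial
      map_smul' := by
        intro c x
        apply Subtype.ext
        simp only [Prod.smul_fst, Prod.smul_snd, smul_eq_mul, RingHom.id_apply, Submodule.coe_smul,
          Prod.smul_mk, Prod.mk.injEq]
        constructor
        · ring
        · trivial }
  have hφ : ∀ st : A × A, ((φ st : A × A)) = (st.1 + st.2 * f, st.1) := fun st => rfl
  have hbij : Function.Bijective φ := by
    constructor
    · rw [injective_iff_map_eq_zero]
      intro st hst
      have h := congrArg Subtype.val hst
      rw [hφ] at h
      simp only [ZeroMemClass.coe_zero, Prod.mk_eq_zero] at h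
      obtain ⟨h1, h2⟩ := h
      rw [h2, zero_add] at h1
      have h3 : st.2 = 0 := (mem_nonZeroDivisors_iff.mp hf).2 _ h1
      exact Prod.ext h2 h3
    · rintro ⟨⟨x, y⟩, hz⟩
      rw [hmem, Ideal.mem_span_singleton'] at hz
      obtain ⟨c, hc⟩ := hz
      refine ⟨(y, c), ?_⟩
      apply Subtype.ext
      rw [hφ]
      simp only [Prod.mk.injEq, and_true]
      simp only at hc
      rw [hc]; ring
  let e := LinearEquiv.ofBijective φ hbij
  refine ⟨Module.Free.of_equiv e, ?_⟩
  rw [← e.finrank_eq]
  simp
end Groth.Agent.S19183
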