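import Groth.Statements.S19184
import Mathlib.Tactic
import Mathlib.Algebra.Polynomial.Div
import Mathlib.Algebra.Polynomial.Degree.SmallDegree
-- import your own Groth.Agent.* helpers here

set_option autoImplicit false
universe u
open CAlg

namespace Groth.Agent.S19184

open Polynomial in
/-- Let S be a commutative ring, a, b ∈ S, f = x² + ax + b ∈ S[x] and R = S[x]/(f), a free S-algebra of
rank 2. Let A ⊂ S[x] be the S-subalgebra of polynomials whose class in R lies in the image of S → R;
it is the fibre product S[x] ×_R S, the coordinate ring of the affine line over S with the degree-2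
subscheme Spec R collapsed onto Spec S. Then A is a free S-module and S[x] is a finitely generated
A-module. -/
theorem result (S : Type u) [CommRing S] (a b : S) :
    Module.Free S ((⊥ : Subalgebra S (S[X] ⧸ Ideal.span ({X ^ 2 + C a * X + C b} : Set S[X]))).comap
        (Ideal.Quotient.mkₐ S (Ideal.span ({X ^ 2 + C a * X + C b} : Set S[X])))) ∧
      Module.Finite ((⊥ : Subalgebra S (S[X] ⧸ Ideal.span ({X ^ 2 + C a * X + C b} : Set S[X]))).comap
        (Ideal.Quotient.mkₐ S (Ideal.span ({X ^ 2 + C a * X + C b} : Set S[X])))) S[X] := by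
  rcases subsingleton_or_nontrivial S with hS | hS
  · have : Subsingleton S[X] := inferInstance
    exact ⟨Module.Free.of_subsingleton _ _, Module.Finite.of_finite⟩
  have hfm : (X ^ 2 + C a * X + C b : S[X]).Monic := by
    rw [add_assoc]
    exact Polynomial.monic_X_pow_add (lt_of_le_of_lt Polynomial.degree_linear_le (by norm_num))
  have hfdeg : (X ^ 2 + C a * X + C b : S[X]).natDegree = 2 := by compute_degree!
  have hmem : ∀ P : S[X], P ∈ (⊥ : Subalgebra S (S[X] ⧸ Ideal.span ({X ^ 2 + C a * X + C b} : Set S[X]))).comap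
        (Ideal.Quotient.mkₐ S (Ideal.span ({X ^ 2 + C a * X + C b} : Set S[X]))) ↔
      ∃ (s : S) (Q : S[X]), P = C s + (X ^ 2 + C a * X + C b) * Q := by
    intro P
    rw [Subalgebra.mem_comap, Algebra.mem_bot]
    constructor
    · rintro ⟨s, hs⟩
      have h0 : (Ideal.Quotient.mk (Ideal.span ({X ^ 2 + C a * X + C b} : Set S[X]))) (P - C s) = 0 := by
        rw [map_sub, sub_eq_zero]
        exact hs.symm
      rw [Ideal.Quotient.eq_zero_iff_mem, Ideal.mem_span_singleton'] at h0
      obtain ⟨Q, hQ⟩ := h0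
      exact ⟨s, Q, by rw [mul_comm, hQ]; ring⟩
    · rintro ⟨s, Q, rfl⟩
      refine ⟨s, ?_⟩
      symm
      show (Ideal.Quotient.mk (Ideal.span ({X ^ 2 + C a * X + C b} : Set S[X])))
        (C s + (X ^ 2 + C a * X + C b) * Q) = (Ideal.Quotient.mk _) (C s)
      rw [Ideal.Quotient.eq, add_sub_cancel_left]
      exact Ideal.mul_mem_right _ _ (Ideal.subset_span rfl)
  constructor
  · let φ : (S × S[X]) →ₗ[S] ((⊥ : Subalgebra S (S[X] ⧸ Ideal.span ({X ^ 2 + C a * X + C b} : Set S[X]))).comap
        (Ideal.Quotient.mkₐ S (Ideal.span ({X ^ 2 + C a * X + C b} : Set S[X])))) :=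
      { toFun := fun sQ => ⟨C sQ.1 + (X ^ 2 + C a * X + C b) * sQ.2, (hmem _).mpr ⟨_, _, rfl⟩⟩
        map_add' := by
          intro x y
          apply Subtype.ext
          simp only [Prod.fst_add, Prod.snd_add, map_add, Subalgebra.coe_add]
          ring
        map_smul' := by
          intro c x
          apply Subtype.ext
          simp only [Prod.smul_fst, Prod.smul_snd, smul_eq_mul, map_mul, RingHom.id_apply,
            Subalgebra.coe_smul, Polynomial.smul_eq_C_mul]
          ring }
    have hφ : ∀ sQ, ((φ sQ : S[X])) = C sQ.1 + (X ^ 2 + C a * X + C b) * sQ.2 := fun _ => rfl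
    have hbij : Function.Bijective φ := by
      constructor
      · rw [injective_iff_map_eq_zero]
        rintro ⟨s, Q⟩ hsQ
        have h := congrArg Subtype.val hsQ
        rw [hφ] at h
        simp only [ZeroMemClass.coe_zero] at h
        have hQ : Q = 0 := by
          by_contra hQ
          have hd := hfm.natDegree_mul' hQ
          have : (X ^ 2 + C a * X + C b) * Q = - C s := by
            rw [eq_neg_iff_add_eq_zero, add_comm]; exact h
          rw [this, Polynomial.natDegree_neg, Polynomial.natDegree_C, hfdeg] at hd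
          omega
        rw [hQ, mul_zero, add_zero] at h
        have hs : s = 0 := Polynomial.C_eq_zero.mp h
        rw [hs, hQ]; rfl
      · rintro ⟨P, hP⟩
        obtain ⟨s, Q, rfl⟩ := (hmem P).mp hP
        exact ⟨(s, Q), rfl⟩
    exact Module.Free.of_equiv (LinearEquiv.ofBijective φ hbij)
  · classical
    refine ⟨⟨({1, X} : Finset S[X]), ?_⟩⟩
    rw [eq_top_iff]
    rintro P -
    have hdiv := Polynomial.modByMonic_add_div P (X ^ 2 + C a * X + C b : S[X])
    have hf1 : (X ^ 2 + C a * X + C b : S[X]) ≠ 1 := by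
      intro h
      rw [h, Polynomial.natDegree_one] at hfdeg
      omega
    have hr : (P %ₘ (X ^ 2 + C a * X + C b)).natDegree ≤ 1 := by
      have := Polynomial.natDegree_modByMonic_lt P hfm hf1
      rw [hfdeg] at this
      omega
    have hr' := Polynomial.eq_X_add_C_of_natDegree_le_one hr
    have h1 : C ((P %ₘ (X ^ 2 + C a * X + C b)).coeff 0) +
        (X ^ 2 + C a * X + C b) * (P /ₘ (X ^ 2 + C a * X + C b)) ∈
        (⊥ : Subalgebra S (S[X] ⧸ Ideal.span ({X ^ 2 + C a * X + C b} : Set S[X]))).comap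
        (Ideal.Quotient.mkₐ S (Ideal.span ({X ^ 2 + C a * X + C b} : Set S[X]))) :=
      (hmem _).mpr ⟨_, _, rfl⟩
    have h2 : C ((P %ₘ (X ^ 2 + C a * X + C b)).coeff 1) ∈
        (⊥ : Subalgebra S (S[X] ⧸ Ideal.span ({X ^ 2 + C a * X + C b} : Set S[X]))).comap
        (Ideal.Quotient.mkₐ S (Ideal.span ({X ^ 2 + C a * X + C b} : Set S[X]))) :=
      (hmem _).mpr ⟨(P %ₘ (X ^ 2 + C a * X + C b)).coeff 1, 0, by simp⟩
    have hP : P = (⟨_, h1⟩ : ((⊥ : Subalgebra S (S[X] ⧸ Ideal.span ({X ^ 2 + C a * X + C b} : Set S[X]))).comap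
        (Ideal.Quotient.mkₐ S (Ideal.span ({X ^ 2 + C a * X + C b} : Set S[X]))))) • (1 : S[X]) +
        (⟨_, h2⟩ : ((⊥ : Subalgebra S (S[X] ⧸ Ideal.span ({X ^ 2 + C a * X + C b} : Set S[X]))).comap
        (Ideal.Quotient.mkₐ S (Ideal.span ({X ^ 2 + C a * X + C b} : Set S[X]))))) • (X : S[X]) := by
      rw [Subalgebra.smul_def, Subalgebra.smul_def, smul_eq_mul, smul_eq_mul]
      conv_lhs => rw [← hdiv, hr']
      ring
    rw [hP]
    exact Submodule.add_mem _
      (Submodule.smul_mem _ _ (Submodule.subset_span (by simp)))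
      (Submodule.smul_mem _ _ (Submodule.subset_span (by simp)))
end Groth.Agent.S19184
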