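import Mathlib
import Groth.Statements.S19185
import Groth.Agent.Lib.H79Jac

set_option autoImplicit false
universe u
open Curves

namespace Groth.Agent.S19185

open Groth.Agent.Lib.H79Jac

section aux

variable {k : Type u} [Field k]

/-- one-variable polynomials as polynomials in `X 0`. -/
noncomputable def toMv (A : Polynomial k) : MvPolynomial (Fin 2) k :=
  Polynomial.aeval (MvPolynomial.X 0 : MvPolynomial (Fin 2) k) A

/-- the chart polynomial `A(t) + B(t) w`. -/
noncomputable def G (A B : Polynomial k) : MvPolynomial (Fin 2) k :=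
  toMv A + toMv B * MvPolynomial.X 1

def Jac (F : MvPolynomial (Fin 2) k) : Prop :=
  ∃ (α : Fin 2 → MvPolynomial (Fin 2) k) (γ : MvPolynomial (Fin 2) k),
    ∑ i, α i * MvPolynomial.pderiv i F + γ * F = 1

theorem toMv_add (A B : Polynomial k) : toMv (A + B) = toMv A + toMv B := map_add _ _ _
theorem toMv_mul (A B : Polynomial k) : toMv (A * B) = toMv A * toMv B := map_mul _ _ _
theorem toMv_one : toMv (1 : Polynomial k) = 1 := map_one _

theorem pderiv_zero_toMv (A : Polynomial k) :
    MvPolynomial.pderiv 0 (toMv A) = toMv (Polynomial.derivative A) := by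
  unfold toMv
  rw [Derivation.map_aeval, MvPolynomial.pderiv_X_self, smul_eq_mul, mul_one]

theorem pderiv_one_toMv (A : Polynomial k) :
    MvPolynomial.pderiv 1 (toMv A) = 0 := by
  unfold toMv
  rw [Derivation.map_aeval, MvPolynomial.pderiv_X_of_ne (by decide), smul_zero]

theorem aeval_toMv {L : Type*} [CommRing L] [Algebra k L] (x : Fin 2 → L) (A : Polynomial k) :
    MvPolynomial.aeval x (toMv A) = Polynomial.aeval (x 0) A := by
  unfold toMv
  rw [← Polynomial.aeval_algHom_apply, MvPolynomial.aeval_X]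

theorem pderiv_zero_G (A B : Polynomial k) :
    MvPolynomial.pderiv 0 (G A B) =
      toMv (Polynomial.derivative A) + toMv (Polynomial.derivative B) * MvPolynomial.X 1 := by
  unfold G
  rw [map_add, Derivation.leibniz, pderiv_zero_toMv, pderiv_zero_toMv,
    MvPolynomial.pderiv_X_of_ne (by decide)]
  simp [mul_comm]

theorem pderiv_one_G (A B : Polynomial k) :
    MvPolynomial.pderiv 1 (G A B) = toMv B := by
  unfold G
  rw [map_add, Derivation.leibniz, pderiv_one_toMv, pderiv_one_toMv,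
    MvPolynomial.pderiv_X_self]
  simp

theorem G_ne_zero (A B : Polynomial k) (h : A ≠ 0 ∨ B ≠ 0) : G A B ≠ 0 := by
  intro h0
  have h1 : MvPolynomial.aeval (![Polynomial.X, 0] : Fin 2 → Polynomial k) (G A B) = A := by
    unfold G
    rw [map_add, map_mul, aeval_toMv, aeval_toMv, MvPolynomial.aeval_X]
    simp
  have h2 : MvPolynomial.aeval (![Polynomial.X, 1] : Fin 2 → Polynomial k) (G A B) = A + B := by
    unfold G
    rw [map_add, map_mul, aeval_toMv, aeval_toMv, MvPolynomial.aeval_X]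
    simp
  rw [h0, map_zero] at h1 h2
  have hA : A = 0 := h1.symm
  have hB : B = 0 := by rw [hA, zero_add] at h2; exact h2.symm
  rcases h with h | h
  · exact h hA
  · exact h hB

theorem jac_of_isCoprime (A B : Polynomial k) (h : IsCoprime A B) : Jac (G A B) := by
  obtain ⟨u, v, huv⟩ := h
  refine ⟨![0, toMv v - toMv u * MvPolynomial.X 1], toMv u, ?_⟩
  rw [Fin.sum_univ_two, pderiv_one_G]
  simp only [Matrix.cons_val_zero, Matrix.cons_val_one, zero_mul, zero_add]
  have h1 : toMv u * toMv A + toMv v * toMv B = 1 := by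
    rw [← toMv_mul, ← toMv_mul, ← toMv_add, huv, toMv_one]
  unfold G
  linear_combination h1

theorem no_common_root (A B : Polynomial k) (h1 : Jac (G A B)) (h2 : Jac (G B A))
    {L : Type*} [Field L] [Algebra k L] (θ : L)
    (hA : Polynomial.aeval θ A = 0) (hB : Polynomial.aeval θ B = 0) : False := by
  set a1 := Polynomial.aeval θ (Polynomial.derivative A) with ha1
  set b1 := Polynomial.aeval θ (Polynomial.derivative B) with hb1
  have key : ∀ (A B : Polynomial k), Jac (G A B) → Polynomial.aeval θ A = 0 →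
      Polynomial.aeval θ B = 0 → ∀ w : L,
      Polynomial.aeval θ (Polynomial.derivative A) +
        Polynomial.aeval θ (Polynomial.derivative B) * w ≠ 0 := by
    intro A B hJ hA hB w h0
    obtain ⟨α, γ, hαγ⟩ := hJ
    have h := congrArg (MvPolynomial.aeval (![θ, w] : Fin 2 → L)) hαγ
    rw [Fin.sum_univ_two, pderiv_one_G, pderiv_zero_G] at h
    simp only [map_add, map_mul, aeval_toMv, MvPolynomial.aeval_X, map_one] at h
    unfold G at h
    simp only [map_add, map_mul, aeval_toMv, MvPolynomial.aeval_X] at h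
    simp only [Matrix.cons_val_zero, Matrix.cons_val_one] at h
    rw [hA, hB, h0] at h
    simp at h
  have k1 := key A B h1 hA hB
  have k2 := key B A h2 hB hA
  have ha : a1 ≠ 0 := by simpa using k1 0
  have hb : b1 ≠ 0 := by simpa using k2 0
  apply k1 (-a1 / b1)
  field_simp
  ring

end aux

section poly

variable {k : Type u} [Field k]

/-- the polynomial with coefficient vector `c`. -/
noncomputable def pol {N : ℕ} (c : Fin (N + 1) → k) : Polynomial k :=
  ∑ i : Fin (N + 1), Polynomial.C (c i) * Polynomial.X ^ (i : ℕ)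

/-- the reversed polynomial with coefficient vector `c`. -/
noncomputable def rpol {N : ℕ} (c : Fin (N + 1) → k) : Polynomial k :=
  ∑ i : Fin (N + 1), Polynomial.C (c i) * Polynomial.X ^ (N - (i : ℕ))

theorem natDegree_pol_le {N : ℕ} (c : Fin (N + 1) → k) : (pol c).natDegree ≤ N := by
  unfold pol
  refine Polynomial.natDegree_sum_le_of_forall_le _ _ fun i _ => ?_
  exact (Polynomial.natDegree_C_mul_X_pow_le _ _).trans (Nat.lt_succ_iff.mp i.2)

theorem coeff_pol {N : ℕ} (c : Fin (N + 1) → k) (i : Fin (N + 1)) :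
    (pol c).coeff (i : ℕ) = c i := by
  unfold pol
  rw [Polynomial.finsetSum_coeff]
  rw [Finset.sum_eq_single i]
  · simp
  · intro j _ hj
    rw [Polynomial.coeff_C_mul_X_pow, if_neg]
    intro h
    exact hj (Fin.ext h.symm)
  · intro h; exact absurd (Finset.mem_univ i) h

theorem pol_eq_zero_iff {N : ℕ} (c : Fin (N + 1) → k) : pol c = 0 ↔ c = 0 := by
  constructor
  · intro h
    funext i
    rw [← coeff_pol c i, h]; simp
  · rintro rfl
    simp [pol]

theorem reflect_sum {ι : Type*} (s : Finset ι) (N : ℕ) (f : ι → Polynomial k) :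
    Polynomial.reflect N (∑ i ∈ s, f i) = ∑ i ∈ s, Polynomial.reflect N (f i) := by
  classical
  induction s using Finset.induction_on with
  | empty => simp
  | insert a s ha ih => rw [Finset.sum_insert ha, Finset.sum_insert ha, Polynomial.reflect_add, ih]

theorem reflect_pol {N : ℕ} (c : Fin (N + 1) → k) : Polynomial.reflect N (pol c) = rpol c := by
  unfold pol rpol
  rw [reflect_sum]
  refine Finset.sum_congr rfl fun i _ => ?_
  rw [Polynomial.reflect_C_mul_X_pow, Polynomial.revAt_le (Nat.lt_succ_iff.mp i.2)]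

theorem eval_zero_rpol {N : ℕ} (c : Fin (N + 1) → k) :
    Polynomial.aeval (0 : k) (rpol c) = c (Fin.last N) := by
  unfold rpol
  rw [map_sum, Finset.sum_eq_single (Fin.last N)]
  · simp
  · intro j _ hj
    have : N - (j : ℕ) ≠ 0 := by
      have h1 : (j : ℕ) < N := by
        rcases Nat.lt_or_ge (j : ℕ) N with h | h
        · exact h
        · exfalso; apply hj; ext; simp; have := j.2; omega
      omega
    simp [this]
  · intro h; exact absurd (Finset.mem_univ _) h

theorem toMv_pol {N : ℕ} (c : Fin (N + 1) → k) :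
    toMv (pol c) = ∑ i : Fin (N + 1), MvPolynomial.C (c i) * MvPolynomial.X 0 ^ (i : ℕ) := by
  unfold toMv pol
  simp [MvPolynomial.algebraMap_eq]

theorem toMv_rpol {N : ℕ} (c : Fin (N + 1) → k) :
    toMv (rpol c) = ∑ i : Fin (N + 1), MvPolynomial.C (c i) * MvPolynomial.X 0 ^ (N - (i : ℕ)) := by
  unfold toMv rpol
  simp [MvPolynomial.algebraMap_eq]

theorem res_ne_zero_gen (f g : Polynomial k) (m n : ℕ) (hf : f.natDegree ≤ m)
    (hg : g.natDegree ≤ n) (hcop : IsCoprime f g) (hinf : f.coeff m ≠ 0 ∨ g.coeff n ≠ 0) :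
    Polynomial.resultant f g m n ≠ 0 := by
  have hres := Polynomial.resultant_ne_zero _ _ hcop
  rcases hinf with h | h
  · have hdeg : f.natDegree = m := Polynomial.natDegree_eq_of_le_of_coeff_ne_zero hf h
    obtain ⟨kk, hkk⟩ := Nat.exists_eq_add_of_le hg
    rw [hkk, Polynomial.resultant_add_right_deg _ _ _ _ kk le_rfl]
    refine mul_ne_zero (pow_ne_zero _ h) ?_
    rw [hdeg] at hres
    exact hres
  · have hdeg : g.natDegree = n := Polynomial.natDegree_eq_of_le_of_coeff_ne_zero hg h
    obtain ⟨kk, hkk⟩ := Nat.exists_eq_add_of_le hf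
    rw [hkk, Polynomial.resultant_add_left_deg _ _ _ _ kk le_rfl]
    refine mul_ne_zero (mul_ne_zero (pow_ne_zero _ (by norm_num)) (pow_ne_zero _ h)) ?_
    rw [hdeg] at hres
    exact hres

theorem res_ne_zero_of (n : ℕ) (q : Fin 3 → k) (ξ : Fin (n + 1) → k)
    (hcop : IsCoprime (pol q) (pol ξ)) (hinf : q 2 ≠ 0 ∨ ξ (Fin.last n) ≠ 0) :
    Polynomial.resultant (pol q) (pol ξ) 2 n ≠ 0 := by
  have hc2 : (pol q).coeff 2 = q 2 := coeff_pol q 2
  have hcn : (pol ξ).coeff n = ξ (Fin.last n) := coeff_pol ξ (Fin.last n)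
  refine res_ne_zero_gen _ _ _ _ (natDegree_pol_le q) (natDegree_pol_le ξ) hcop ?_
  rw [hc2, hcn]
  exact hinf

theorem coprime_of_res_ne_zero (n : ℕ) (hn : 3 ≤ n) (q : Fin 3 → k) (ξ : Fin (n + 1) → k)
    (hres : Polynomial.resultant (pol q) (pol ξ) 2 n ≠ 0) :
    IsCoprime (pol q) (pol ξ) ∧ IsCoprime (rpol q) (rpol ξ) := by
  have ha := natDegree_pol_le q
  have hb := natDegree_pol_le ξ
  constructor
  · obtain ⟨p, r, -, -, hpr⟩ := Polynomial.exists_mul_add_mul_eq_C_resultant (pol q) (pol ξ) ha hb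
      (Or.inl two_ne_zero)
    refine ⟨Polynomial.C (Polynomial.resultant (pol q) (pol ξ) 2 n)⁻¹ * p,
      Polynomial.C (Polynomial.resultant (pol q) (pol ξ) 2 n)⁻¹ * r, ?_⟩
    have : Polynomial.C (Polynomial.resultant (pol q) (pol ξ) 2 n)⁻¹ *
        Polynomial.C (Polynomial.resultant (pol q) (pol ξ) 2 n) = 1 := by
      rw [← Polynomial.C_mul, inv_mul_cancel₀ hres, Polynomial.C_1]
    linear_combination (Polynomial.C (Polynomial.resultant (pol q) (pol ξ) 2 n)⁻¹) * hpr + this
  · have hmem : (Polynomial.X ^ (n + 1) : Polynomial k) ∈ Polynomial.degreeLT k (2 + n) := by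
      rw [Polynomial.mem_degreeLT, Polynomial.degree_X_pow]
      exact_mod_cast (by omega : n + 1 < 2 + n)
    set Y := Polynomial.adjSylvester (m := 2) (n := n) (pol q) (pol ξ) ⟨_, hmem⟩ with hY
    have h1 := congrArg (fun φ => ((φ ⟨_, hmem⟩ : Polynomial.degreeLT k (2 + n)) : Polynomial k))
      (Polynomial.sylveserMap_comp_adjSylvester (pol q) (pol ξ) ha hb)
    simp only [LinearMap.comp_apply, Polynomial.sylvesterMap_apply_coe, LinearMap.smul_apply,
      LinearMap.id_apply, Submodule.coe_smul] at h1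
    rw [← hY] at h1
    have hY1 : (Y.1 : Polynomial k).natDegree ≤ 1 := by
      have := Polynomial.mem_degreeLT.mp Y.1.2
      by_cases h0 : (Y.1 : Polynomial k) = 0
      · rw [h0]; simp
      · rw [Polynomial.degree_eq_natDegree h0] at this
        have : (Y.1 : Polynomial k).natDegree < 2 := by exact_mod_cast this
        omega
    have hY2 : (Y.2 : Polynomial k).natDegree ≤ n - 1 := by
      have := Polynomial.mem_degreeLT.mp Y.2.2
      by_cases h0 : (Y.2 : Polynomial k) = 0
      · rw [h0]; simp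
      · rw [Polynomial.degree_eq_natDegree h0] at this
        have : (Y.2 : Polynomial k).natDegree < n := by exact_mod_cast this
        omega
    have h2 := congrArg (Polynomial.reflect (n + 1)) h1
    rw [Polynomial.reflect_add] at h2
    have e1 : n + 1 = 2 + (n - 1) := by omega
    have e2 : n + 1 = n + 1 := rfl
    have h3 : Polynomial.reflect (n + 1) (pol q * (Y.2 : Polynomial k)) =
        rpol q * Polynomial.reflect (n - 1) (Y.2 : Polynomial k) := by
      rw [e1, Polynomial.reflect_mul _ _ ha hY2, reflect_pol]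
    have h4 : Polynomial.reflect (n + 1) (pol ξ * (Y.1 : Polynomial k)) =
        rpol ξ * Polynomial.reflect 1 (Y.1 : Polynomial k) := by
      rw [Polynomial.reflect_mul _ _ hb hY1, reflect_pol]
    rw [h3, h4, Polynomial.smul_eq_C_mul, Polynomial.reflect_C_mul_X_pow,
      Polynomial.revAt_le le_rfl, Nat.sub_self, pow_zero, mul_one] at h2
    refine ⟨Polynomial.C (Polynomial.resultant (pol q) (pol ξ) 2 n)⁻¹ *
        Polynomial.reflect (n - 1) (Y.2 : Polynomial k),
      Polynomial.C (Polynomial.resultant (pol q) (pol ξ) 2 n)⁻¹ *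
        Polynomial.reflect 1 (Y.1 : Polynomial k), ?_⟩
    have : Polynomial.C (Polynomial.resultant (pol q) (pol ξ) 2 n)⁻¹ *
        Polynomial.C (Polynomial.resultant (pol q) (pol ξ) 2 n) = 1 := by
      rw [← Polynomial.C_mul, inv_mul_cancel₀ hres, Polynomial.C_1]
    linear_combination (Polynomial.C (Polynomial.resultant (pol q) (pol ξ) 2 n)⁻¹) * h2 + this

theorem core (n : ℕ) (hn : 3 ≤ n) (q : Fin 3 → k) (ξ : Fin (n + 1) → k) :
    (Jac (G (pol q) (pol ξ)) ∧ Jac (G (pol ξ) (pol q)) ∧ Jac (G (rpol q) (rpol ξ)) ∧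
      Jac (G (rpol ξ) (rpol q))) ↔ Polynomial.resultant (pol q) (pol ξ) 2 n ≠ 0 := by
  constructor
  · rintro ⟨h1, h2, h3, h4⟩
    have hcop : IsCoprime (pol q) (pol ξ) := by
      rw [Polynomial.isCoprime_iff_aeval_ne_zero_of_isAlgClosed k (AlgebraicClosure k)]
      intro θ
      by_contra hc
      rw [not_or, not_not, not_not] at hc
      exact no_common_root _ _ h1 h2 θ hc.1 hc.2
    have hinf : q 2 ≠ 0 ∨ ξ (Fin.last n) ≠ 0 := by
      by_contra hc
      rw [not_or, not_not, not_not] at hc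
      refine no_common_root _ _ h3 h4 (0 : k) ?_ ?_
      · rw [eval_zero_rpol]; exact hc.1
      · rw [eval_zero_rpol]; exact hc.2
    exact res_ne_zero_of n q ξ hcop hinf
  · intro hres
    obtain ⟨c1, c2⟩ := coprime_of_res_ne_zero n hn q ξ hres
    exact ⟨jac_of_isCoprime _ _ c1, jac_of_isCoprime _ _ c1.symm, jac_of_isCoprime _ _ c2,
      jac_of_isCoprime _ _ c2.symm⟩

theorem smooth_iff_jac (F : MvPolynomial (Fin 2) k) (hF : F ≠ 0) :
    Algebra.Smooth k (MvPolynomial (Fin 2) k ⧸ Ideal.span ({F} : Set (MvPolynomial (Fin 2) k))) ↔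
      Jac F := by
  rw [Algebra.smooth_iff]
  exact smooth_quotient_span_singleton_iff F hF

end poly

/-- Let k be a field, n ≥ 3, q a binary quadratic form and ξ a binary form of degree n over k, given by
coefficient vectors (q_i the coefficient of x^i y^(2−i), ξ_j that of x^j y^(n−j)), not both zero.
The pair (q, ξ) is a global section of O(2) ⊕ O(n) on P¹_k, i.e. of the line bundle of class e + nf
on the Hirzebruch surface F_{n−2} = P(O ⊕ O(n−2)) → P¹_k, and cuts out the curve W : q·u + ξ·v = 0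
there ([u : v] the fibre coordinates). Over the two standard opens of P¹ (t = x/y, s = y/x) and the
two opens u ≠ 0, v ≠ 0 of the fibres, W is covered by four affine charts with coordinate rings k[t,
w]/(q(t,1) + ξ(t,1)·w), k[t, w]/(q(t,1)·w + ξ(t,1)), k[s, w]/(q(1,s) + ξ(1,s)·w) and k[s,
w]/(q(1,s)·w + ξ(1,s)) (variables indexed 0 for t or s and 1 for w). Then W is smooth over k — all
four chart algebras are smooth k-algebras — if and only if the resultant of q and ξ (the Sylvester
determinant of the two coefficient vectors with size parameters 2 and n) is nonzero. (The published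
statement is over a general base scheme B, for a section (q, ξ) vanishing on no fibre, with 'the
resultant is a unit on B' in place of 'nonzero'; its proof reduces at once to the statement over a
field given here, which is the case B = Spec k.) -/
theorem result (k : Type u) [Field k] (n : ℕ) (hn : 3 ≤ n)
    (q : Fin 3 → k) (ξ : Fin (n + 1) → k) (hqξ : q ≠ 0 ∨ ξ ≠ 0) :
    (Algebra.Smooth k (MvPolynomial (Fin 2) k ⧸ Ideal.span ({(∑ i : Fin 3, MvPolynomial.C (q i) * MvPolynomial.X 0 ^ (i : ℕ)) + (∑ j : Fin (n + 1), MvPolynomial.C (ξ j) * MvPolynomial.X 0 ^ (j : ℕ)) * MvPolynomial.X 1} : Set (MvPolynomial (Fin 2) k))) ∧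
      Algebra.Smooth k (MvPolynomial (Fin 2) k ⧸ Ideal.span ({(∑ i : Fin 3, MvPolynomial.C (q i) * MvPolynomial.X 0 ^ (i : ℕ)) * MvPolynomial.X 1 + (∑ j : Fin (n + 1), MvPolynomial.C (ξ j) * MvPolynomial.X 0 ^ (j : ℕ))} : Set (MvPolynomial (Fin 2) k))) ∧
      Algebra.Smooth k (MvPolynomial (Fin 2) k ⧸ Ideal.span ({(∑ i : Fin 3, MvPolynomial.C (q i) * MvPolynomial.X 0 ^ (2 - (i : ℕ))) + (∑ j : Fin (n + 1), MvPolynomial.C (ξ j) * MvPolynomial.X 0 ^ (n - (j : ℕ))) * MvPolynomial.X 1} : Set (MvPolynomial (Fin 2) k))) ∧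
      Algebra.Smooth k (MvPolynomial (Fin 2) k ⧸ Ideal.span ({(∑ i : Fin 3, MvPolynomial.C (q i) * MvPolynomial.X 0 ^ (2 - (i : ℕ))) * MvPolynomial.X 1 + (∑ j : Fin (n + 1), MvPolynomial.C (ξ j) * MvPolynomial.X 0 ^ (n - (j : ℕ)))} : Set (MvPolynomial (Fin 2) k)))) ↔
    Polynomial.resultant (∑ i : Fin 3, Polynomial.C (q i) * Polynomial.X ^ (i : ℕ))
      (∑ j : Fin (n + 1), Polynomial.C (ξ j) * Polynomial.X ^ (j : ℕ)) 2 n ≠ 0 := by
  have hab : pol q ≠ 0 ∨ pol ξ ≠ 0 := by
    rcases hqξ with h | h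
    · exact Or.inl fun h0 => h ((pol_eq_zero_iff q).mp h0)
    · exact Or.inr fun h0 => h ((pol_eq_zero_iff ξ).mp h0)
  have hab' : rpol q ≠ 0 ∨ rpol ξ ≠ 0 := by
    rcases hab with h | h
    · left; rw [← reflect_pol]; exact fun h0 => h (Polynomial.reflect_eq_zero_iff.mp h0)
    · right; rw [← reflect_pol]; exact fun h0 => h (Polynomial.reflect_eq_zero_iff.mp h0)
  have e1 : (∑ i : Fin 3, MvPolynomial.C (q i) * MvPolynomial.X 0 ^ (i : ℕ)) +
      (∑ j : Fin (n + 1), MvPolynomial.C (ξ j) * MvPolynomial.X 0 ^ (j : ℕ)) * MvPolynomial.X 1 =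
      G (pol q) (pol ξ) := by
    unfold G; rw [toMv_pol, toMv_pol]
  have e2 : (∑ i : Fin 3, MvPolynomial.C (q i) * MvPolynomial.X 0 ^ (i : ℕ)) * MvPolynomial.X 1 +
      (∑ j : Fin (n + 1), MvPolynomial.C (ξ j) * MvPolynomial.X 0 ^ (j : ℕ)) =
      G (pol ξ) (pol q) := by
    unfold G; rw [toMv_pol, toMv_pol, add_comm]
  have e3 : (∑ i : Fin 3, MvPolynomial.C (q i) * MvPolynomial.X 0 ^ (2 - (i : ℕ))) +
      (∑ j : Fin (n + 1), MvPolynomial.C (ξ j) * MvPolynomial.X 0 ^ (n - (j : ℕ))) *
        MvPolynomial.X 1 = G (rpol q) (rpol ξ) := by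
    unfold G; rw [toMv_rpol, toMv_rpol]
  have e4 : (∑ i : Fin 3, MvPolynomial.C (q i) * MvPolynomial.X 0 ^ (2 - (i : ℕ))) *
      MvPolynomial.X 1 +
      (∑ j : Fin (n + 1), MvPolynomial.C (ξ j) * MvPolynomial.X 0 ^ (n - (j : ℕ))) =
      G (rpol ξ) (rpol q) := by
    unfold G; rw [toMv_rpol, toMv_rpol, add_comm]
  rw [e1, e2, e3, e4, smooth_iff_jac _ (G_ne_zero _ _ hab), smooth_iff_jac _ (G_ne_zero _ _ hab.symm),
    smooth_iff_jac _ (G_ne_zero _ _ hab'), smooth_iff_jac _ (G_ne_zero _ _ hab'.symm)]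
  exact core n hn q ξ

end Groth.Agent.S19185
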