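import Groth.Statements.S19186
import Mathlib.Tactic
-- import your own Groth.Agent.* helpers here

set_option autoImplicit false
universe u
open OneMot

namespace Groth.Agent.S19186

/-- Let p and ℓ be distinct prime numbers, r and n natural numbers, and f : A → B a homomorphism of
abelian groups whose kernel and cokernel are annihilated by p^r (f a = 0 implies p^r • a = 0, and
every p^r • b lies in the image of f). Then f induces a bijection between the ℓ^n-torsion subgroups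
of A and B and a bijection A/ℓ^n A → B/ℓ^n B. Spelled out without quotients: every ℓ^n-torsion
element of B has exactly one ℓ^n-torsion preimage; an element of A whose image is an ℓ^n-multiple is
itself an ℓ^n-multiple; and every element of B is the sum of an image and an ℓ^n-multiple. -/
theorem result {A B : Type u} [AddCommGroup A] [AddCommGroup B] (f : A →+ B) (p ℓ r n : ℕ) (hp : p.Prime) (hl : ℓ.Prime) (hne : ℓ ≠ p) (hker : ∀ a : A, f a = 0 → p ^ r • a = 0) (hcoker : ∀ b : B, ∃ a : A, f a = p ^ r • b) : (∀ b : B, ℓ ^ n • b = 0 → ∃! a : A, ℓ ^ n • a = 0 ∧ f a = b) ∧ (∀ a : A, (∃ b' : B, f a = ℓ ^ n • b') → ∃ a' : A, a = ℓ ^ n • a') ∧ (∀ b : B, ∃ (a : A) (b' : B), b = f a + ℓ ^ n • b') := by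
  have hcop : Nat.Coprime (ℓ ^ n) (p ^ r) :=
    Nat.Coprime.pow _ _ ((Nat.coprime_primes hl hp).mpr hne)
  -- Bezout: u * ℓ^n + w * p^r = 1 over ℤ
  obtain ⟨u, w, huw⟩ : ∃ u w : ℤ, u * (ℓ ^ n : ℤ) + w * (p ^ r : ℤ) = 1 := by
    have h := Int.isCoprime_iff_gcd_eq_one.mpr (by
      have : Int.gcd ((ℓ ^ n : ℕ) : ℤ) ((p ^ r : ℕ) : ℤ) = 1 := by
        rw [Int.gcd_natCast_natCast]; exact hcop
      exact this)
    obtain ⟨u, w, h⟩ := h
    exact ⟨u, w, by push_cast at h; exact h⟩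
  have bezA : ∀ a : A, a = u • ((ℓ ^ n : ℕ) • a) + w • ((p ^ r : ℕ) • a) := by
    intro a
    rw [← natCast_zsmul a (ℓ ^ n), ← natCast_zsmul a (p ^ r), ← mul_zsmul, ← mul_zsmul, ← add_zsmul]
    push_cast
    rw [huw, one_zsmul]
  have bezB : ∀ b : B, b = u • ((ℓ ^ n : ℕ) • b) + w • ((p ^ r : ℕ) • b) := by
    intro b
    rw [← natCast_zsmul b (ℓ ^ n), ← natCast_zsmul b (p ^ r), ← mul_zsmul, ← mul_zsmul, ← add_zsmul]
    push_cast
    rw [huw, one_zsmul]
  refine ⟨?_, ?_, ?_⟩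
  · intro b hb
    obtain ⟨a₀, ha₀⟩ := hcoker b
    -- b = w • p^r • b = f (w • a₀); then correct a := w • a₀ to be torsion
    have hb' : b = f (w • a₀) := by
      rw [map_zsmul, ha₀]
      conv_lhs => rw [bezB b, hb, smul_zero, zero_add]
    -- ℓ^n • (w • a₀) lies in ker f, so killed by p^r
    have hk : (p ^ r : ℕ) • ((ℓ ^ n : ℕ) • (w • a₀)) = 0 := by
      apply hker
      rw [map_nsmul, ← hb', hb]
    -- take a := (w * p^r) • (w • a₀)
    refine ⟨w • ((p ^ r : ℕ) • (w • a₀)), ⟨?_, ?_⟩, ?_⟩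
    · rw [smul_comm ((ℓ ^ n : ℕ)) w, smul_comm ((ℓ ^ n : ℕ)) (p ^ r : ℕ), hk, smul_zero]
    · rw [map_zsmul, map_nsmul, ← hb']
      conv_rhs => rw [bezB b, hb, smul_zero, zero_add]
    · rintro a' ⟨ha't, ha'f⟩
      -- a' - a in ker f and ℓ^n-torsion => zero
      set a := w • ((p ^ r : ℕ) • (w • a₀)) with ha
      have hat : (ℓ ^ n : ℕ) • a = 0 := by
        rw [ha, smul_comm ((ℓ ^ n : ℕ)) w, smul_comm ((ℓ ^ n : ℕ)) (p ^ r : ℕ), hk, smul_zero]
      have haf : f a = b := by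
        rw [ha, map_zsmul, map_nsmul, ← hb']
        conv_rhs => rw [bezB b, hb, smul_zero, zero_add]
      have h1 : (p ^ r : ℕ) • (a' - a) = 0 := hker _ (by rw [map_sub, ha'f, haf, sub_self])
      have h2 : (ℓ ^ n : ℕ) • (a' - a) = 0 := by rw [smul_sub, ha't, hat, sub_self]
      have := bezA (a' - a)
      rw [h1, h2, smul_zero, smul_zero, add_zero] at this
      exact sub_eq_zero.mp this
  · rintro a ⟨b', hb'⟩
    -- a = u • ℓ^n • a + w • p^r • a ; need p^r • a ∈ ℓ^n A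
    obtain ⟨a₁, ha₁⟩ := hcoker b'
    -- f (p^r • a) = p^r • ℓ^n • b' = ℓ^n • f a₁ = f (ℓ^n • a₁)
    have hk : (p ^ r : ℕ) • ((p ^ r : ℕ) • a - (ℓ ^ n : ℕ) • a₁) = 0 := by
      apply hker
      rw [map_sub, map_nsmul, map_nsmul, hb', ha₁, smul_comm, sub_self]
    -- p^r • p^r • a = ℓ^n • (p^r • a₁)
    have hk' : (p ^ r : ℕ) • ((p ^ r : ℕ) • a) = (ℓ ^ n : ℕ) • ((p ^ r : ℕ) • a₁) := by
      rw [smul_sub, sub_eq_zero] at hk
      rw [hk, smul_comm]
    -- use Bezout twice: a = u ℓ^n a + w p^r a, and p^r a = u ℓ^n (p^r a) + w p^r p^r a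
    have e1 := bezA a
    have e2 := bezA ((p ^ r : ℕ) • a)
    rw [hk'] at e2
    refine ⟨u • a + w • (u • ((p ^ r : ℕ) • a) + w • ((p ^ r : ℕ) • a₁)), ?_⟩
    rw [smul_add, smul_comm ((ℓ ^ n : ℕ)) u a, smul_comm ((ℓ ^ n : ℕ)) w, smul_add,
      smul_comm ((ℓ ^ n : ℕ)) u, smul_comm ((ℓ ^ n : ℕ)) w, ← e2]
    exact e1
  · intro b
    obtain ⟨a₀, ha₀⟩ := hcoker b
    refine ⟨w • a₀, u • b, ?_⟩
    rw [map_zsmul, ha₀, smul_comm ((ℓ ^ n : ℕ)) u b, add_comm]
    exact bezB b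
end Groth.Agent.S19186
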