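import Groth.Statements.S19187
import Mathlib.Tactic
import Mathlib.AlgebraicGeometry.Morphisms.Proper
-- import your own Groth.Agent.* helpers here

set_option autoImplicit false
universe u
open Cpct

namespace Groth.Agent.S19187

open CategoryTheory AlgebraicGeometry in
/-- Let k be a field, X̄ and Ȳ schemes proper over Spec k, j : X → X̄ an open immersion with dense image
and v : Y → Ȳ an open immersion (compactifications of X and Y), f : X → Y a proper morphism and f̄ :
X̄ → Ȳ a morphism over Spec k with f̄ ∘ j = v ∘ f. Then the preimage under f̄ of the open v(Y) is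
the open j(X); equivalently, the complement of X in X̄ is the preimage of the complement of Y in Ȳ.
(The base field k is arbitrary: no perfectness assumption is needed.) -/
theorem result {k : Type u} [Field k] {X Y Xb Yb : Scheme.{u}} (a : Xb ⟶ Spec (CommRingCat.of k)) (b : Yb ⟶ Spec (CommRingCat.of k)) [IsProper a] [IsProper b] (j : X ⟶ Xb) [IsOpenImmersion j] (hj : Dense (Set.range j.base)) (v : Y ⟶ Yb) [IsOpenImmersion v] (f : X ⟶ Y) [IsProper f] (fb : Xb ⟶ Yb) (hfb : fb ≫ b = a) (hsq : j ≫ fb = f ≫ v) : fb ⁻¹ᵁ v.opensRange = j.opensRange := by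
  have : IsProper (fb ≫ b) := by rw [hfb]; infer_instance
  have : IsProper fb := IsProper.of_comp fb b
  let Γ : X ⟶ Limits.pullback fb v := Limits.pullback.lift j f hsq
  have hΓfst : Γ ≫ Limits.pullback.fst fb v = j := Limits.pullback.lift_fst _ _ _
  have hΓsnd : Γ ≫ Limits.pullback.snd fb v = f := Limits.pullback.lift_snd _ _ _
  have : IsProper (Γ ≫ Limits.pullback.snd fb v) := by rw [hΓsnd]; infer_instance
  have : IsProper Γ := IsProper.of_comp Γ (Limits.pullback.snd fb v)
  have hclosed : IsClosed (Set.range Γ.base) := Γ.isClosedMap.isClosed_range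
  have hemb : Topology.IsOpenEmbedding (Limits.pullback.fst fb v).base :=
    (Limits.pullback.fst fb v).isOpenEmbedding
  have hdense : Dense (Set.range Γ.base) := by
    rw [dense_iff_inter_open]
    intro O hO hOne
    have hO' : IsOpen ((Limits.pullback.fst fb v).base '' O) := hemb.isOpenMap _ hO
    have hne : ((Limits.pullback.fst fb v).base '' O).Nonempty := hOne.image _
    obtain ⟨y, hyO, hyj⟩ := hj.inter_open_nonempty _ hO' hne
    obtain ⟨z, hzO, rfl⟩ := hyO
    obtain ⟨x, hx⟩ := hyj
    refine ⟨z, hzO, x, ?_⟩
    apply hemb.injective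
    rw [← hx, ← hΓfst]
    rfl
  have hsurj : Set.range Γ.base = Set.univ := by
    rw [← hclosed.closure_eq]; exact hdense.closure_eq
  rw [← Scheme.Hom.opensRange_pullbackFst]
  apply TopologicalSpace.Opens.ext
  rw [Scheme.Hom.coe_opensRange, Scheme.Hom.coe_opensRange, ← hΓfst, Scheme.Hom.comp_base,
    TopCat.coe_comp, Set.range_comp, hsurj, Set.image_univ]
end Groth.Agent.S19187
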