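import Groth.Statements.S19189
import Mathlib.CategoryTheory.Triangulated.TStructure.TruncLTGE
import Mathlib.Tactic.NoncommRing

set_option autoImplicit false
set_option linter.unusedSectionVars false
universe v u
open CategoryTheory CategoryTheory.Limits CategoryTheory.Pretriangulated CategoryTheory.Triangulated
open CohDer

namespace Groth.Agent.S19189

/-- two idempotents of a ring whose difference squares to zero are conjugate -/
theorem ring_conj {R : Type*} [Ring R] (e f : R) (he : e * e = e) (hf : f * f = f)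
    (h : (e - f) * (e - f) = 0) :
    ∃ w w' : R, w * w' = 1 ∧ w' * w = 1 ∧ e * w = w * f := by
  have h' : e * f + f * e = e + f := by
    have : (e - f) * (e - f) = e * e - e * f - f * e + f * f := by noncomm_ring
    rw [this, he, hf] at h
    have h2 : e + f - (e * f + f * e) = 0 := by rw [← h]; abel
    exact (sub_eq_zero.1 h2).symm
  refine ⟨e * f + (1 - e) * (1 - f), f * e + (1 - f) * (1 - e), ?_, ?_, ?_⟩
  · have : (e * f + (1 - e) * (1 - f)) * (f * e + (1 - f) * (1 - e)) =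
        e * (f * f) * e + e * (f - f * f) * (1 - e) + (1 - e) * (f - f * f) * e +
          (1 - e) * (1 - f - f + f * f) * (1 - e) := by noncomm_ring
    rw [this, hf]
    have : e * f * e + e * (f - f) * (1 - e) + (1 - e) * (f - f) * e +
        (1 - e) * (1 - f - f + f) * (1 - e) =
        1 - (e + f) + (e * f + f * e) + (e * e - e) := by noncomm_ring
    rw [this, he, h']
    simp
  · have : (f * e + (1 - f) * (1 - e)) * (e * f + (1 - e) * (1 - f)) =
        f * (e * e) * f + f * (e - e * e) * (1 - f) + (1 - f) * (e - e * e) * f +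
          (1 - f) * (1 - e - e + e * e) * (1 - f) := by noncomm_ring
    rw [this, he]
    have : f * e * f + f * (e - e) * (1 - f) + (1 - f) * (e - e) * f +
        (1 - f) * (1 - e - e + e) * (1 - f) =
        1 - (e + f) + (e * f + f * e) + (f * f - f) := by noncomm_ring
    rw [this, hf, h']
    simp
  · have h1 : e * (e * f + (1 - e) * (1 - f)) = (e * e) * f + (e - e * e) * (1 - f) := by
      noncomm_ring
    have h2 : (e * f + (1 - e) * (1 - f)) * f = e * (f * f) + (1 - e) * (f - f * f) := by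
      noncomm_ring
    rw [h1, h2, he, hf]
    simp

section

variable {C : Type u} [Category.{v} C]

/-- the idempotent `p` splits -/
def Splits {X : C} (p : X ⟶ X) : Prop :=
  ∃ (Y : C) (i : Y ⟶ X) (e : X ⟶ Y), i ≫ e = 𝟙 Y ∧ e ≫ i = p

variable [Preadditive C]

/-- idempotents whose difference squares to zero split simultaneously -/
theorem splits_of_sq_zero {X : C} (e f : X ⟶ X) (he : e ≫ e = e) (hf : f ≫ f = f)
    (h : (e - f) ≫ (e - f) = 0) (hs : Splits f) : Splits e := by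
  obtain ⟨w, w', h1, h2, h3⟩ := ring_conj (R := End X) e f he hf h
  obtain ⟨Y, i, p, hip, hpi⟩ := hs
  -- in diagrammatic order: `w' ≫ w = 𝟙`, `w ≫ w' = 𝟙`, `w ≫ e = f ≫ w`
  have h1' : w' ≫ w = 𝟙 X := h1
  have h2' : w ≫ w' = 𝟙 X := h2
  have h3' : w ≫ e = f ≫ w := h3
  refine ⟨Y, i ≫ w, w' ≫ p, ?_, ?_⟩
  · rw [Category.assoc, reassoc_of% h2', hip]
  · have : w' ≫ f ≫ w = e := by rw [← h3', reassoc_of% h1']
    rw [Category.assoc, reassoc_of% hpi, this]

variable [HasZeroObject C] [HasShift C ℤ] [∀ n : ℤ, (shiftFunctor C n).Additive]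
  [Pretriangulated C]

/-- Le–Chen's lemma: an idempotent endomorphism of a distinguished triangle whose outer components
split has a split middle component -/
theorem splits_hom₂ (T : Triangle C) (hT : T ∈ distTriang C) (φ : T ⟶ T)
    (he : φ.hom₂ ≫ φ.hom₂ = φ.hom₂) (h₁ : Splits φ.hom₁) (h₃ : Splits φ.hom₃) :
    Splits φ.hom₂ := by
  obtain ⟨A₁, iA, pA, hA1, hA2⟩ := h₁
  obtain ⟨B₁, iB, pB, hB1, hB2⟩ := h₃
  obtain ⟨δ₁, hδ₁⟩ : ∃ δ₁ : B₁ ⟶ A₁⟦(1 : ℤ)⟧, δ₁ = iB ≫ T.mor₃ ≫ pA⟦(1 : ℤ)⟧' := ⟨_, rfl⟩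
  obtain ⟨X₁, f₁, g₁, hT₁⟩ := distinguished_cocone_triangle₂ δ₁
  have c3 : T.mor₃ ≫ φ.hom₁⟦(1 : ℤ)⟧' = φ.hom₃ ≫ T.mor₃ := φ.comm₃
  have c2 : T.mor₂ ≫ φ.hom₃ = φ.hom₂ ≫ T.mor₂ := φ.comm₂
  have c1 : T.mor₁ ≫ φ.hom₂ = φ.hom₁ ≫ T.mor₁ := φ.comm₁
  have comm1 : δ₁ ≫ iA⟦(1 : ℤ)⟧' = iB ≫ T.mor₃ := by
    rw [hδ₁, Category.assoc, Category.assoc, ← Functor.map_comp, hA2, c3, ← reassoc_of% hB2,
      reassoc_of% hB1]
  have comm2 : T.mor₃ ≫ pA⟦(1 : ℤ)⟧' = pB ≫ δ₁ := by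
    rw [hδ₁, reassoc_of% hB2, ← reassoc_of% c3, ← Functor.map_comp, ← hA2, Category.assoc, hA1,
      Category.comp_id]
  -- the inclusion of triangles
  obtain ⟨i, hi1, hi2⟩ : ∃ i : X₁ ⟶ T.obj₂, f₁ ≫ i = iA ≫ T.mor₁ ∧ g₁ ≫ iB = i ≫ T.mor₂ :=
    complete_distinguished_triangle_morphism₂ (Triangle.mk f₁ g₁ δ₁) T hT₁ hT iA iB comm1
  -- the projection of triangles
  obtain ⟨p, hp1, hp2⟩ : ∃ p : T.obj₂ ⟶ X₁, T.mor₁ ≫ p = pA ≫ f₁ ∧ T.mor₂ ≫ pB = p ≫ g₁ :=
    complete_distinguished_triangle_morphism₂ T (Triangle.mk f₁ g₁ δ₁) hT hT₁ pA pB comm2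
  have hf₁ : f₁ ≫ i ≫ p = f₁ := by
    rw [reassoc_of% hi1, hp1, reassoc_of% hA1]
  have hg₁ : (i ≫ p) ≫ g₁ = g₁ := by
    rw [Category.assoc, ← hp2, ← reassoc_of% hi2, hB1, Category.comp_id]
  let ψ : Triangle.mk f₁ g₁ δ₁ ⟶ Triangle.mk f₁ g₁ δ₁ :=
    { hom₁ := 𝟙 _
      hom₂ := i ≫ p
      hom₃ := 𝟙 _
      comm₁ := hf₁.trans (Category.id_comp f₁).symm
      comm₂ := (Category.comp_id g₁).trans hg₁.symm
      comm₃ := by
        show δ₁ ≫ (shiftFunctor C (1 : ℤ)).map (𝟙 A₁) = 𝟙 B₁ ≫ δ₁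
        rw [CategoryTheory.Functor.map_id, Category.comp_id, Category.id_comp] }
  have hiso : IsIso (i ≫ p) :=
    isIso₂_of_isIso₁₃ ψ hT₁ hT₁ (by dsimp [ψ]; infer_instance) (by dsimp [ψ]; infer_instance)
  obtain ⟨u, hu⟩ : ∃ u : X₁ ⟶ X₁, u = inv (i ≫ p) := ⟨_, rfl⟩
  have hu1 : (i ≫ p) ≫ u = 𝟙 _ := by rw [hu, IsIso.hom_inv_id]
  have hu2 : u ≫ i ≫ p = 𝟙 _ := by rw [hu, IsIso.inv_hom_id]
  have hfu : f₁ ≫ u = f₁ := by
    have := congrArg (fun z => z ≫ u) hf₁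
    simp only [Category.assoc] at this
    rw [← this]
    rw [← Category.assoc i p u, hu1, Category.comp_id]
  have hug : u ≫ g₁ = g₁ := by
    have := congrArg (fun z => u ≫ z) hg₁
    simp only [Category.assoc] at this
    rw [← this, reassoc_of% hu2]
  -- the split idempotent `ê`
  obtain ⟨ê, hê⟩ : ∃ ê : T.obj₂ ⟶ T.obj₂, ê = p ≫ u ≫ i := ⟨_, rfl⟩
  have hsplit : Splits ê := ⟨X₁, i, p ≫ u, by rw [← Category.assoc, hu1], by rw [hê, Category.assoc]⟩
  have hêê : ê ≫ ê = ê := by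
    have h1 : ê ≫ ê = p ≫ (u ≫ i ≫ p) ≫ u ≫ i := by
      rw [hê]; simp only [Category.assoc]
    rw [h1, hu2, Category.id_comp, hê]
  have hfn : T.mor₁ ≫ (φ.hom₂ - ê) = 0 := by
    rw [Preadditive.comp_sub, c1, hê, reassoc_of% hp1, reassoc_of% hfu, hi1, reassoc_of% hA2,
      sub_self]
  have hng : (φ.hom₂ - ê) ≫ T.mor₂ = 0 := by
    rw [Preadditive.sub_comp, ← c2, hê]
    simp only [Category.assoc]
    rw [← hi2, reassoc_of% hug, ← reassoc_of% hp2, hB2, sub_self]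
  obtain ⟨s, hs⟩ := Triangle.coyoneda_exact₂ T hT _ hng
  have hnn : (φ.hom₂ - ê) ≫ (φ.hom₂ - ê) = 0 := by
    have h1 : (φ.hom₂ - ê) ≫ (φ.hom₂ - ê) = s ≫ (T.mor₁ ≫ (φ.hom₂ - ê)) := by
      rw [← Category.assoc, ← hs]
    rw [h1, hfn, comp_zero]
  exact splits_of_sq_zero _ _ he hêê hnn hsplit

variable [IsTriangulated C] (t : TStructure C)

/-- base case: objects concentrated in one degree -/
theorem splits_of_isLE_of_isGE (X : C) (b : ℤ) [t.IsLE X b] [t.IsGE X b] (e : X ⟶ X)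
    (he : e ≫ e = e) : Splits e := by
  obtain ⟨Cn, q, δ, hT⟩ := distinguished_cocone_triangle (𝟙 X - e)
  have he0 : (𝟙 X - e) ≫ e = 0 := by rw [Preadditive.sub_comp, Category.id_comp, he, sub_self]
  obtain ⟨ē, hē⟩ : ∃ ē : Cn ⟶ X, e = q ≫ ē := Triangle.yoneda_exact₂ _ hT e he0
  have hq : (𝟙 X - e) ≫ q = 0 := comp_distTriang_mor_zero₁₂ _ hT
  have hq' : e ≫ q = q := by
    rw [Preadditive.sub_comp, Category.id_comp, sub_eq_zero] at hq
    exact hq.symm
  obtain ⟨π, hπ⟩ : ∃ π : Cn ⟶ (t.truncGE b).obj Cn, π = (t.truncGEπ b).app Cn := ⟨_, rfl⟩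
  obtain ⟨i, hi⟩ : ∃ i : (t.truncGE b).obj Cn ⟶ X, π ≫ i = ē :=
    ⟨t.descTruncGE ē b, by rw [hπ, t.π_descTruncGE]⟩
  refine ⟨(t.truncGE b).obj Cn, i, q ≫ π, ?_, by rw [Category.assoc, hi, ← hē]⟩
  apply t.from_truncGE_obj_ext (n := b)
  rw [← hπ, Category.comp_id]
  -- `φ' := π ≫ i ≫ q ≫ π - π` is zero
  rw [← sub_eq_zero]
  have hq0 : q ≫ (π ≫ i ≫ q ≫ π - π) = 0 := by
    rw [Preadditive.comp_sub, reassoc_of% hi, ← reassoc_of% hē, reassoc_of% hq', sub_self]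
  obtain ⟨g, hg⟩ : ∃ g : X⟦(1 : ℤ)⟧ ⟶ (t.truncGE b).obj Cn, π ≫ i ≫ q ≫ π - π = δ ≫ g :=
    Triangle.yoneda_exact₃ _ hT _ hq0
  have : t.IsLE (X⟦(1 : ℤ)⟧) (b - 1) := t.isLE_shift X b 1 (b - 1) (by lia)
  have hg0 : g = 0 := t.zero_of_isLE_of_isGE g (b - 1) b (by lia) inferInstance inferInstance
  rw [hg, hg0, comp_zero]

/-- the induction on the amplitude -/
theorem splits_of_amplitude (d : ℕ) : ∀ (X : C) (a b : ℤ), t.IsGE X a → t.IsLE X b →
    b - a ≤ d → ∀ (e : X ⟶ X), e ≫ e = e → Splits e := by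
  induction d with
  | zero =>
    intro X a b hXa hXb hab e he
    rcases (show b < a ∨ b = a by push_cast at hab; lia) with h | h
    · have hX : IsZero X := t.isZero X b a h
      exact ⟨X, 𝟙 X, 𝟙 X, Category.id_comp _, hX.eq_of_src _ _⟩
    · subst h
      exact splits_of_isLE_of_isGE t X b e he
  | succ d ih =>
    intro X a b hXa hXb hab e he
    have hφ₂ : ((t.triangleLTGE b).map e).hom₂ = e := rfl
    have key := splits_hom₂ ((t.triangleLTGE b).obj X) (t.triangleLTGE_distinguished b X)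
      ((t.triangleLTGE b).map e) he ?_ ?_
    · rwa [hφ₂] at key
    · have h1 : ((t.triangleLTGE b).map e).hom₁ = (t.truncLT b).map e := rfl
      rw [h1]
      refine ih ((t.truncLT b).obj X) a (b - 1) inferInstance inferInstance
        (by push_cast at hab; lia) _ ?_
      rw [← Functor.map_comp, he]
    · have h3 : ((t.triangleLTGE b).map e).hom₃ = (t.truncGE b).map e := rfl
      rw [h3]
      refine splits_of_isLE_of_isGE t ((t.truncGE b).obj X) b _ ?_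
      rw [← Functor.map_comp, he]

end

/-- Let `C` be a triangulated category (octahedron axiom included) and `t` a t-structure on `C` which is
bounded, i.e. every object of `C` is both `≥ a` and `≤ b` for some integers `a`, `b`. Then `C` is
idempotent complete (Karoubian): every idempotent endomorphism `p = p ≫ p` of an object splits as `p
= e ≫ i` with `i ≫ e = 𝟙`. -/
theorem result {C : Type u} [Category.{v} C] [Preadditive C]
    [HasZeroObject C] [HasShift C ℤ] [∀ n : ℤ, (shiftFunctor C n).Additive] [Pretriangulated C]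
    [IsTriangulated C] (t : TStructure C) (hb : ∀ X : C, t.bounded X) :
    IsIdempotentComplete C := by
  refine ⟨fun X p hp => ?_⟩
  obtain ⟨⟨a, ha⟩, ⟨b, hb'⟩⟩ := hb X
  exact splits_of_amplitude t (b - a).toNat X a b ha hb' (Int.self_le_toNat _) p hp

end Groth.Agent.S19189
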