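import Groth.Statements.S1919
import Groth.Agent.Lib.PurInsepTensorLength
import Groth.Agent.Lib.FibreStalk33
import Groth.Agent.Lib.H71SepClosedGeom
import Groth.Agent.S14514

set_option autoImplicit false
universe u
open CategoryTheory AlgebraicGeometry
open CategoryTheory.Limits
open RelCyc

namespace Groth.Agent.S1919

open TensorProduct

section FibreRing

variable (k : Type u) [Field k] (k' : Type u) [Field k'] [Algebra k k']

/-- the fibre of the base change projection over `x` is `Spec (κ(x) ⊗[k] k')` -/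
theorem exists_fibre_iso {X : Scheme.{u}} (f : X ⟶ Spec (CommRingCat.of k)) (x : X) :
    ∃ (_ : Algebra k (X.residueField x)),
      Nonempty ((pullback.fst f (Spec.map (CommRingCat.ofHom (algebraMap k k')))).fiber x ≅
        Spec (CommRingCat.of (X.residueField x ⊗[k] k'))) := by
  let φ : CommRingCat.of k ⟶ X.residueField x := Spec.preimage (X.fromSpecResidueField x ≫ f)
  have hφ : Spec.map φ = X.fromSpecResidueField x ≫ f := Spec.map_preimage _
  letI : Algebra k (X.residueField x) := φ.hom.toAlgebra
  refine ⟨φ.hom.toAlgebra, ⟨?_⟩⟩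
  refine pullbackSymmetry _ _ ≪≫
    pullbackRightPullbackFstIso f _ (X.fromSpecResidueField x) ≪≫
    pullback.congrHom ?_ rfl ≪≫ pullbackSpecIso k (X.residueField x) k'
  rw [← hφ]
  rfl

open Groth.Agent.Lib.PurInsepTensorLength in
/-- the multiplicity of the flat pullback along a purely inseparable base field extension is a
power of the exponential characteristic -/
theorem exists_length_eq_pow (p : ℕ) [ExpChar k p] [IsPurelyInseparable k k'] {X : Scheme.{u}}
    (f : X ⟶ Spec (CommRingCat.of k)) [LocallyOfFiniteType f]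
    (x' : ↥(pullback f (Spec.map (CommRingCat.ofHom (algebraMap k k'))))) :
    ∃ n : ℕ, Module.length
      ((pullback f (Spec.map (CommRingCat.ofHom (algebraMap k k')))).presheaf.stalk x')
      ((pullback f (Spec.map (CommRingCat.ofHom (algebraMap k k')))).presheaf.stalk x' ⧸
        Ideal.map ((pullback.fst f (Spec.map (CommRingCat.ofHom (algebraMap k k')))).stalkMap x').hom
          (IsLocalRing.maximalIdeal (X.presheaf.stalk
            (pullback.fst f (Spec.map (CommRingCat.ofHom (algebraMap k k'))) x')))) =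
      (p ^ n : ℕ) := by
  obtain ⟨π, hπ⟩ : ∃ π : pullback f (Spec.map (CommRingCat.ofHom (algebraMap k k'))) ⟶ X,
    π = pullback.fst f (Spec.map (CommRingCat.ofHom (algebraMap k k'))) := ⟨_, rfl⟩
  rw [← hπ]
  obtain ⟨alg, ⟨E⟩⟩ := exists_fibre_iso k k' f (π x')
  rw [← hπ] at E
  letI := alg
  -- the local ring of the fibre
  let e1 := Groth.Agent.Lib.FibreStalk33.fibreStalkEquiv π x'
  let e2 : (Spec (CommRingCat.of (X.residueField (π x') ⊗[k] k'))).presheaf.stalk
      (E.hom (π.asFiber x')) ≃+* (π.fiber (π x')).presheaf.stalk (π.asFiber x') :=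
    (asIso (E.hom.stalkMap (π.asFiber x'))).commRingCatIsoToRingEquiv
  letI : Algebra (X.residueField (π x') ⊗[k] k')
      ((Spec (CommRingCat.of (X.residueField (π x') ⊗[k] k'))).presheaf.stalk
        (E.hom (π.asFiber x'))) :=
    StructureSheaf.stalkAlgebra (X.residueField (π x') ⊗[k] k') (E.hom (π.asFiber x'))
  haveI : IsLocalization.AtPrime
      ((Spec (CommRingCat.of (X.residueField (π x') ⊗[k] k'))).presheaf.stalk
        (E.hom (π.asFiber x'))) (E.hom (π.asFiber x')).asIdeal :=
    StructureSheaf.IsLocalization.to_stalk (CommRingCat.of (X.residueField (π x') ⊗[k] k')) _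
  have hq : (E.hom (π.asFiber x')).asIdeal =
      IsLocalRing.maximalIdeal (X.residueField (π x') ⊗[k] k') :=
    eq_maximalIdeal_of_isPrime (k := k) (X.residueField (π x')) k' _
  have hunits : (E.hom (π.asFiber x')).asIdeal.primeCompl ≤
      IsUnit.submonoid (X.residueField (π x') ⊗[k] k') := by
    intro a ha
    have ha' : a ∉ (E.hom (π.asFiber x')).asIdeal := ha
    rw [hq] at ha'
    exact IsLocalRing.notMem_maximalIdeal.mp ha'
  let e3 : (X.residueField (π x') ⊗[k] k') ≃+*
      (Spec (CommRingCat.of (X.residueField (π x') ⊗[k] k'))).presheaf.stalk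
        (E.hom (π.asFiber x')) :=
    (IsLocalization.atUnits (X.residueField (π x') ⊗[k] k')
      (E.hom (π.asFiber x')).asIdeal.primeCompl hunits).toRingEquiv
  let e : (X.residueField (π x') ⊗[k] k') ≃+*
      ((pullback f (Spec.map (CommRingCat.ofHom (algebraMap k k')))).presheaf.stalk x' ⧸
        Ideal.map (π.stalkMap x').hom (IsLocalRing.maximalIdeal (X.presheaf.stalk (π x')))) :=
    (e3.trans e2).trans e1.symm
  -- Noetherianity
  haveI : LocallyOfFiniteType (pullback.snd f (Spec.map (CommRingCat.ofHom (algebraMap k k')))) :=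
    MorphismProperty.pullback_snd _ _ inferInstance
  haveI : IsLocallyNoetherian (pullback f (Spec.map (CommRingCat.ofHom (algebraMap k k')))) :=
    LocallyOfFiniteType.isLocallyNoetherian
      (pullback.snd f (Spec.map (CommRingCat.ofHom (algebraMap k k'))))
  haveI : IsNoetherianRing (X.residueField (π x') ⊗[k] k') :=
    isNoetherianRing_of_ringEquiv _ e.symm
  obtain ⟨n, hn⟩ := Groth.Agent.Lib.PurInsepTensorLength.exists_length_eq_pow (k := k)
    (X.residueField (π x')) k' p
  refine ⟨n, ?_⟩
  rw [← hn, length_self_eq_of_ringEquiv e]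
  exact Module.length_eq_of_surjective Ideal.Quotient.mk_surjective

end FibreRing

section Delta

open Groth.Agent.Lib.H30DimRel Groth.Agent.Lib.H30DimField

theorem dim_closure_eq_of_isHomeomorph {A B : Type*} [TopologicalSpace A] [TopologicalSpace B]
    (h : A → B) (hh : IsHomeomorph h) (a : A) :
    topologicalKrullDim ↥(closure ({a} : Set A)) = topologicalKrullDim ↥(closure ({h a} : Set B)) := by
  let e : A ≃ₜ B := hh.homeomorph h
  have himg : e '' closure ({a} : Set A) = closure ({h a} : Set B) := by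
    rw [e.image_closure, Set.image_singleton]
    rfl
  let e' : ↥(closure ({a} : Set A)) ≃ₜ ↥(closure ({h a} : Set B)) :=
    (e.image (closure ({a} : Set A))).trans (Homeomorph.setCongr himg)
  exact IsHomeomorph.topologicalKrullDim_eq e' e'.isHomeomorph

/-- a dimension function compatible with the structure morphism to a field is the relative
transcendence degree -/
theorem delta_eq_rt {k : Type u} [Field k] {X : Scheme.{u}} (f : X ⟶ Spec (CommRingCat.of k))
    [LocallyOfFiniteType f] (δ : X → ℤ) (hδ : Cyc.DeltaCompat f δ (fun _ => 0)) (x : X) :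
    δ x = (rt f x : ℤ) := by
  obtain ⟨n, hn, hδn⟩ := hδ x
  rw [hδn, rt_eq_of_trdeg_eq f x n hn]
  simp

theorem dim_closure_eq_rt {k : Type u} [Field k] {X : Scheme.{u}} (f : X ⟶ Spec (CommRingCat.of k))
    [LocallyOfFiniteType f] (x : X) :
    topologicalKrullDim ↥(closure ({x} : Set X)) = ((rt f x : ℕ) : WithBot ℕ∞) := by
  letI : X.Over (Spec (CommRingCat.of k)) := ⟨f⟩
  haveI : LocallyOfFiniteType (X ↘ Spec (CommRingCat.of k)) := ‹LocallyOfFiniteType f›
  have h1 := Groth.Agent.S14514.dim_closure_eq k X x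
  have h2 := Groth.Agent.S14514.td_eq_rt k X x
  rw [h1, h2]
  rfl

end Delta

section Main

open Groth.Agent.Lib.H30DimRel

variable (k : Type u) [Field k] (k' : Type u) [Field k'] [Algebra k k']

theorem delta_eq (p : ℕ) [IsPurelyInseparable k k'] {X : Scheme.{u}}
    (f : X ⟶ Spec (CommRingCat.of k)) [LocallyOfFiniteType f]
    (δ : X → ℤ) (hδ : Cyc.DeltaCompat f δ (fun _ => 0))
    (δ' : ↥(pullback f (Spec.map (CommRingCat.ofHom (algebraMap k k')))) → ℤ)
    (hδ' : Cyc.DeltaCompat (pullback.snd f (Spec.map (CommRingCat.ofHom (algebraMap k k')))) δ'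
      (fun _ => 0))
    (x' : ↥(pullback f (Spec.map (CommRingCat.ofHom (algebraMap k k'))))) :
    δ' x' = δ (pullback.fst f (Spec.map (CommRingCat.ofHom (algebraMap k k'))) x') := by
  haveI : LocallyOfFiniteType (pullback.snd f (Spec.map (CommRingCat.ofHom (algebraMap k k')))) :=
    MorphismProperty.pullback_snd _ _ inferInstance
  have hπ : IsHomeomorph ⇑(pullback.fst f (Spec.map (CommRingCat.ofHom (algebraMap k k')))) :=
    Groth.Agent.Lib.H71SepClosedGeom.isHomeomorph_pullback_fst k' f
  rw [delta_eq_rt _ δ' hδ' x', delta_eq_rt f δ hδ]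
  have h1 := dim_closure_eq_rt (pullback.snd f (Spec.map (CommRingCat.ofHom (algebraMap k k')))) x'
  have h2 := dim_closure_eq_rt f (pullback.fst f (Spec.map (CommRingCat.ofHom (algebraMap k k'))) x')
  have h3 := dim_closure_eq_of_isHomeomorph _ hπ x'
  rw [h1, h2] at h3
  exact_mod_cast h3

theorem main (p : ℕ) [ExpChar k p] [IsPurelyInseparable k k'] {X : Scheme.{u}}
    (f : X ⟶ Spec (CommRingCat.of k)) [LocallyOfFiniteType f] [QuasiCompact f]
    (δ : X → ℤ) (hδ : Cyc.DeltaCompat f δ (fun _ => 0))
    (δ' : ↥(pullback f (Spec.map (CommRingCat.ofHom (algebraMap k k')))) → ℤ)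
    (hδ' : Cyc.DeltaCompat (pullback.snd f (Spec.map (CommRingCat.ofHom (algebraMap k k')))) δ'
      (fun _ => 0))
    (r : ℤ) (β : AlgebraicCycle (pullback f (Spec.map (CommRingCat.ofHom (algebraMap k k')))) ℤ)
    (hβ : β ∈ Cyc.Zk _ δ' r) :
    ∃ (n : ℕ) (α : AlgebraicCycle X ℤ), α ∈ Cyc.Zk X δ r ∧
      (p : ℤ) ^ n • ⇑β =
        Cyc.pullFun (pullback.fst f (Spec.map (CommRingCat.ofHom (algebraMap k k')))) δ' δ 0 ⇑α := by
  classical
  obtain ⟨π, hπdef⟩ : ∃ π : pullback f (Spec.map (CommRingCat.ofHom (algebraMap k k'))) ⟶ X,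
    π = pullback.fst f (Spec.map (CommRingCat.ofHom (algebraMap k k'))) := ⟨_, rfl⟩
  rw [← hπdef]
  have hπ : IsHomeomorph ⇑π := by
    rw [hπdef]
    exact Groth.Agent.Lib.H71SepClosedGeom.isHomeomorph_pullback_fst k' f
  have hdelta : ∀ x', δ' x' = δ (π x') := by
    intro x'
    rw [hπdef]
    exact delta_eq k k' p f δ hδ δ' hδ' x'
  -- multiplicities
  have hmult : ∀ x' : ↥(pullback f (Spec.map (CommRingCat.ofHom (algebraMap k k')))),
      ∃ n : ℕ, Module.length
      ((pullback f (Spec.map (CommRingCat.ofHom (algebraMap k k')))).presheaf.stalk x')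
      ((pullback f (Spec.map (CommRingCat.ofHom (algebraMap k k')))).presheaf.stalk x' ⧸
        Ideal.map (π.stalkMap x').hom
          (IsLocalRing.maximalIdeal (X.presheaf.stalk (π x')))) = (p ^ n : ℕ) := by
    intro x'
    subst hπdef
    exact exists_length_eq_pow k k' p f x'
  choose m hm using hmult
  -- compactness and finite support
  haveI : CompactSpace X := QuasiCompact.compactSpace_of_compactSpace f
  let e : ↥(pullback f (Spec.map (CommRingCat.ofHom (algebraMap k k')))) ≃ₜ ↥X := hπ.homeomorph π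
  haveI : CompactSpace ↥(pullback f (Spec.map (CommRingCat.ofHom (algebraMap k k')))) :=
    e.symm.compactSpace
  have hfin : (Function.support ⇑β).Finite := by
    have := (Function.locallyFinsupp.locallyFiniteSupport β).finite_inter_support_of_isCompact
      isCompact_univ
    rwa [Set.univ_inter] at this
  let N : ℕ := hfin.toFinset.sup m
  have hN : ∀ x', β x' ≠ 0 → m x' ≤ N := by
    intro x' hx'
    exact Finset.le_sup (f := m) (hfin.mem_toFinset.mpr hx')
  have heπ : ∀ x', e.symm (π x') = x' := fun x' => e.symm_apply_apply x'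
  have hπe : ∀ x, π (e.symm x) = x := fun x => e.apply_symm_apply x
  -- the cycle downstairs
  let a : X → ℤ := fun x => β (e.symm x) * (p : ℤ) ^ (N - m (e.symm x))
  have hasupp : Function.support a ⊆ π '' Function.support ⇑β := by
    intro x hx
    refine ⟨e.symm x, ?_, hπe x⟩
    intro h0
    apply hx
    show β (e.symm x) * (p : ℤ) ^ (N - m (e.symm x)) = 0
    rw [h0, zero_mul]
  let α : AlgebraicCycle X ℤ :=
    { toFun := a
      supportWithinDomain' := Set.subset_univ _
      supportLocallyFiniteWithinDomain' := fun z _ =>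
        ⟨Set.univ, Filter.univ_mem, ((hfin.image π).subset hasupp).subset Set.inter_subset_right⟩ }
  refine ⟨N, α, ?_, ?_⟩
  · intro x hx
    show β (e.symm x) * (p : ℤ) ^ (N - m (e.symm x)) = 0
    have h1 : δ' (e.symm x) ≠ r := by
      rw [hdelta, hπe]
      exact hx
    rw [hβ _ h1, zero_mul]
  · funext x'
    rw [Pi.smul_apply, smul_eq_mul]
    unfold Cyc.pullFun
    rw [if_pos (by rw [hdelta x', add_zero])]
    show (p : ℤ) ^ N * β x' = β (e.symm (π x')) * (p : ℤ) ^ (N - m (e.symm (π x'))) * _
    rw [heπ, hm x', ENat.toNat_coe]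
    by_cases h0 : β x' = 0
    · rw [h0, mul_zero, zero_mul, zero_mul]
    · have hle := hN x' h0
      push_cast
      rw [mul_assoc, ← pow_add, Nat.sub_add_cancel hle, mul_comm]

end Main

/-- For a scheme X of finite type over a field k of characteristic p > 0, with base change X' = X ×_k k'
to the perfect closure k', the base change map Z_r(X) → Z_r(X') (flat pullback along the projection)
has p-power torsion cokernel: for every r-cycle β on X' some p^n β is the base change of an r-cycle
on X. Dimension functions are transcendence degrees of residue fields over the ground fields. -/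
theorem result (k : Type u) [Field k] (p : ℕ) [Fact p.Prime] [CharP k p] (X : Scheme.{u}) (f : X ⟶ Spec (CommRingCat.of k)) [LocallyOfFiniteType f] [QuasiCompact f] (δ : X → ℤ) (hδ : Cyc.DeltaCompat f δ (fun _ => 0)) (δ' : ↥(pullback f (Spec.map (CommRingCat.ofHom (PerfectClosure.of k p)))) → ℤ) (hδ' : Cyc.DeltaCompat (pullback.snd f (Spec.map (CommRingCat.ofHom (PerfectClosure.of k p)))) δ' (fun _ => 0)) (r : ℤ) (β : AlgebraicCycle (pullback f (Spec.map (CommRingCat.ofHom (PerfectClosure.of k p)))) ℤ) (hβ : β ∈ Cyc.Zk _ δ' r) : ∃ (n : ℕ) (α : AlgebraicCycle X ℤ), α ∈ Cyc.Zk X δ r ∧ (p : ℤ) ^ n • ⇑β = Cyc.pullFun (pullback.fst f (Spec.map (CommRingCat.ofHom (PerfectClosure.of k p)))) δ' δ 0 ⇑α := by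
  letI : Algebra k (PerfectClosure k p) := (PerfectClosure.of k p).toAlgebra
  haveI : ExpChar k p := ExpChar.prime Fact.out
  haveI : IsPRadical (algebraMap k (PerfectClosure k p)) p := PerfectClosure.isPRadical k p
  haveI : IsPurelyInseparable k (PerfectClosure k p) := IsPRadical.isPurelyInseparable k _ p
  exact main k (PerfectClosure k p) p f δ hδ δ' hδ' r β hβ

end Groth.Agent.S1919
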