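-- Statement S19190.
import Groth.Statements.S19190
import Mathlib

set_option autoImplicit false
universe w v u v' u'
open CategoryTheory CategoryTheory.Limits CategoryTheory.Pretriangulated CategoryTheory.Triangulated
open CohDer

namespace Groth.Agent.S19190

section Helpers

variable {A : Type w} [CommRing A] (S : Submonoid A)
  {T : Type u} [Category.{v} T] [Preadditive T] [Linear A T] [HasZeroObject T] [HasShift T ℤ]
  [∀ n : ℤ, (shiftFunctor T n).Additive] [∀ n : ℤ, (shiftFunctor T n).Linear A]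
  [Pretriangulated T]

/-- Objects whose identity is killed by an element of `S`. -/
def killed : ObjectProperty T := fun Z => ∃ s ∈ S, s • 𝟙 Z = 0

instance killed_iso : (killed S : ObjectProperty T).IsClosedUnderIsomorphisms where
  of_iso {X Y} e := by
    rintro ⟨s, hs, h⟩
    refine ⟨s, hs, ?_⟩
    have : s • 𝟙 Y = e.inv ≫ (s • 𝟙 X) ≫ e.hom := by
      rw [Linear.smul_comp, Linear.comp_smul, Category.id_comp, e.inv_hom_id]
    rw [this, h, zero_comp, comp_zero]

instance killed_retract : (killed S : ObjectProperty T).IsStableUnderRetracts where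
  of_retract {X Y} r := by
    rintro ⟨s, hs, h⟩
    refine ⟨s, hs, ?_⟩
    have : s • 𝟙 X = r.i ≫ (s • 𝟙 Y) ≫ r.r := by
      rw [Linear.smul_comp, Linear.comp_smul, Category.id_comp, r.retract]
    rw [this, h, zero_comp, comp_zero]

theorem killed_shift (Z : T) (n : ℤ) (h : killed S Z) : killed S (Z⟦n⟧) := by
  obtain ⟨s, hs, h⟩ := h
  refine ⟨s, hs, ?_⟩
  have : s • 𝟙 (Z⟦n⟧) = (shiftFunctor T n).map (s • 𝟙 Z) := by
    rw [Functor.map_smul, CategoryTheory.Functor.map_id]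
  rw [this, h, Functor.map_zero]

open ZeroObject in
instance killed_triangulated : (killed S : ObjectProperty T).IsTriangulated where
  exists_zero := ⟨(0 : T), isZero_zero T, 1, S.one_mem, (isZero_zero T).eq_of_src _ _⟩
  isStableUnderShiftBy n := { le_shift := fun Z h => killed_shift S Z n h }
  ext₂' := by
    have := ObjectProperty.IsTriangulatedClosed₂.mk' (P := (killed S : ObjectProperty T)) ?_
    · exact this.ext₂'
    · rintro Tr hTr ⟨s₁, hs₁, h₁⟩ ⟨s₃, hs₃, h₃⟩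
      refine ⟨s₁ * s₃, S.mul_mem hs₁ hs₃, ?_⟩
      have h0 : (s₃ • 𝟙 Tr.obj₂) ≫ Tr.mor₂ = 0 := by
        have : (s₃ • 𝟙 Tr.obj₂) ≫ Tr.mor₂ = Tr.mor₂ ≫ (s₃ • 𝟙 Tr.obj₃) := by
          rw [Linear.smul_comp, Linear.comp_smul, Category.id_comp, Category.comp_id]
        rw [this, h₃, comp_zero]
      obtain ⟨a, ha⟩ := Triangle.coyoneda_exact₂ Tr hTr _ h0
      have : (s₁ * s₃) • 𝟙 Tr.obj₂ = a ≫ (s₁ • 𝟙 Tr.obj₁) ≫ Tr.mor₁ := by
        rw [mul_smul, ha, Linear.smul_comp, Linear.comp_smul, Category.id_comp]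
      rw [this, h₁, zero_comp, comp_zero]

theorem killed_cone (X : T) (s : A) (hs : s ∈ S) (Z : T) (g : X ⟶ Z) (h : Z ⟶ X⟦(1 : ℤ)⟧)
    (hT : Triangle.mk (s • 𝟙 X) g h ∈ distTriang T) : killed S Z := by
  refine ⟨s * s, S.mul_mem hs hs, ?_⟩
  have h0 : (s • 𝟙 Z) ≫ h = 0 := by
    have e1 : (s • 𝟙 Z) ≫ h = h ≫ (s • 𝟙 X)⟦(1 : ℤ)⟧' := by
      rw [Functor.map_smul, CategoryTheory.Functor.map_id, Linear.smul_comp, Linear.comp_smul,
        Category.id_comp, Category.comp_id]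
    rw [e1]
    exact comp_distTriang_mor_zero₃₁ _ hT
  obtain ⟨b, hb'⟩ : ∃ b : Z ⟶ X, s • 𝟙 Z = b ≫ g := Triangle.coyoneda_exact₃ _ hT (s • 𝟙 Z) h0
  have : (s * s) • 𝟙 Z = b ≫ ((s • 𝟙 X) ≫ g) := by
    rw [mul_smul, hb', Linear.smul_comp, Category.id_comp, Linear.comp_smul]
  rw [this]
  have h12 : (s • 𝟙 X) ≫ g = 0 := comp_distTriang_mor_zero₁₂ _ hT
  rw [h12, comp_zero]

/-- If the cone of `t : Y ⟶ Y'` is killed by `s`, then `s • 𝟙 Y` factors through `t`. -/
theorem exists_factor {Y Y' Z : T} (t : Y ⟶ Y') (g : Y' ⟶ Z) (h : Z ⟶ Y⟦(1 : ℤ)⟧)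
    (hT : Triangle.mk t g h ∈ distTriang T) (hZ : killed S Z) :
    ∃ s ∈ S, ∃ t' : Y' ⟶ Y, t ≫ t' = s • 𝟙 Y := by
  obtain ⟨s, hs, hs0⟩ := killed_shift S Z (-1) hZ
  refine ⟨s, hs, ?_⟩
  have hT' := inv_rot_of_distTriang _ hT
  have h0 : ∀ m : Z⟦(-1 : ℤ)⟧ ⟶ Y, m ≫ (s • 𝟙 Y) = 0 := by
    intro m
    have : m ≫ (s • 𝟙 Y) = (s • 𝟙 (Z⟦(-1 : ℤ)⟧)) ≫ m := by
      rw [Linear.smul_comp, Linear.comp_smul, Category.id_comp, Category.comp_id]
    rw [this, hs0, zero_comp]
  obtain ⟨t', ht'⟩ : ∃ t' : Y' ⟶ Y, s • 𝟙 Y = t ≫ t' :=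
    Triangle.yoneda_exact₂ _ hT' (s • 𝟙 Y) (h0 _)
  exact ⟨t', ht'.symm⟩

end Helpers

/-- Let `A` be a commutative ring, `S` a multiplicative subset of `A` and `T` an `A`-linear triangulated
category (octahedron axiom included; the shift functors are `A`-linear). Call an object of `T`
`S`-torsion when it lies in the smallest thick subcategory `U` of `T` (a property of objects
containing zero, stable under shifts, extensions, isomorphisms and direct factors) containing every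
cone of an endomorphism `f • 𝟙 X` with `f ∈ S`. Let `Q : T ⥤ E` exhibit `E` as the localization of
`T` at the morphisms whose cone lies in `U` (the Verdier quotient `T/U`), where `E` is preadditive
and `A`-linear and `Q` is `A`-linear. Then for all objects `X`, `Y` of `T` the `A`-linear map
`Hom_T(X, Y) → Hom_E(Q X, Q Y)` given by `Q` exhibits its target as the localization of `Hom_T(X,
Y)` at `S`. Since `Q` is essentially surjective, this says that the comparison functor from `T/U` to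
the category having the objects of `T` and morphism modules `Hom_T(X, Y) ⊗_A S⁻¹A` is an
equivalence. -/
theorem result
    {A : Type w} [CommRing A] (S : Submonoid A)
    {T : Type u} [Category.{v} T] [Preadditive T] [Linear A T] [HasZeroObject T] [HasShift T ℤ]
    [∀ n : ℤ, (shiftFunctor T n).Additive] [∀ n : ℤ, (shiftFunctor T n).Linear A]
    [Pretriangulated T] [IsTriangulated T]
    (U : ObjectProperty T) [U.IsTriangulated] [U.IsClosedUnderIsomorphisms] [U.IsStableUnderRetracts]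
    (hU : ∀ (X : T) (f : A), f ∈ S → ∀ (Z : T) (g : X ⟶ Z) (h : Z ⟶ X⟦(1 : ℤ)⟧),
      Triangle.mk (f • 𝟙 X) g h ∈ distTriang T → U Z)
    (hmin : ∀ (U' : ObjectProperty T) [U'.IsTriangulated] [U'.IsClosedUnderIsomorphisms]
      [U'.IsStableUnderRetracts],
      (∀ (X : T) (f : A), f ∈ S → ∀ (Z : T) (g : X ⟶ Z) (h : Z ⟶ X⟦(1 : ℤ)⟧),
        Triangle.mk (f • 𝟙 X) g h ∈ distTriang T → U' Z) → U ≤ U')
    {E : Type u'} [Category.{v'} E] [Preadditive E] [Linear A E]
    (Q : T ⥤ E) [Q.Additive] [Q.Linear A] [Q.IsLocalization U.trW] (X Y : T) :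
    IsLocalizedModule S (Q.mapLinearMap A : (X ⟶ Y) →ₗ[A] (Q.obj X ⟶ Q.obj Y)) := by
  have hUk : U ≤ killed S := hmin (killed S) (fun X f hf Z g h hT => killed_cone S X f hf Z g h hT)
  -- key: every morphism of trW becomes split up to an element of S
  have key : ∀ {Y Y' : T} (t : Y ⟶ Y'), U.trW t → ∃ s ∈ S, ∃ t' : Y' ⟶ Y, t ≫ t' = s • 𝟙 Y := by
    intro Y Y' t ht
    obtain ⟨Z, g, h, hT, hZ⟩ := ht
    exact exists_factor S t g h hT (hUk _ hZ)
  have hiso : ∀ (s : A), s ∈ S → IsIso (s • 𝟙 (Q.obj X)) := by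
    intro s hs
    obtain ⟨Z, g, h, hT⟩ := distinguished_cocone_triangle (s • 𝟙 X)
    have hW : U.trW (s • 𝟙 X) := ⟨Z, g, h, hT, hU X s hs Z g h hT⟩
    have := Localization.inverts Q U.trW _ hW
    have e : Q.map (s • 𝟙 X) = s • 𝟙 (Q.obj X) := by
      rw [Functor.map_smul, CategoryTheory.Functor.map_id]
    rwa [e] at this
  refine ⟨?_, ?_, ?_⟩
  · rintro ⟨s, hs⟩
    rw [Module.End.isUnit_iff]
    have := hiso s hs
    constructor
    · intro y₁ y₂ hy
      simp only [Module.algebraMap_end_apply] at hy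
      have h1 : (s • 𝟙 (Q.obj X)) ≫ y₁ = (s • 𝟙 (Q.obj X)) ≫ y₂ := by
        rw [Linear.smul_comp, Linear.smul_comp, Category.id_comp, Category.id_comp]; exact hy
      exact (cancel_epi _).mp h1
    · intro y
      refine ⟨inv (s • 𝟙 (Q.obj X)) ≫ y, ?_⟩
      simp only [Module.algebraMap_end_apply]
      have : s • (inv (s • 𝟙 (Q.obj X)) ≫ y) = (s • 𝟙 (Q.obj X)) ≫ inv (s • 𝟙 (Q.obj X)) ≫ y := by
        rw [Linear.smul_comp, Category.id_comp]
      rw [this, IsIso.hom_inv_id_assoc]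
  · intro y
    obtain ⟨φ, hφ⟩ := Localization.exists_leftFraction Q U.trW y
    obtain ⟨s, hs, t', ht'⟩ := key φ.s φ.hs
    refine ⟨(φ.f ≫ t', ⟨s, hs⟩), ?_⟩
    have h1 : y ≫ Q.map φ.s = Q.map φ.f := by
      rw [hφ]; exact MorphismProperty.LeftFraction.map_comp_map_s φ Q _
    show s • y = Q.map (φ.f ≫ t')
    have h2 : s • y = y ≫ Q.map (s • 𝟙 Y) := by
      rw [Functor.map_smul, CategoryTheory.Functor.map_id, Linear.comp_smul, Category.comp_id]
    rw [h2, ← ht', Q.map_comp, ← Category.assoc, h1, ← Q.map_comp]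
  · intro x₁ x₂ hx
    have hx' : Q.map x₁ = Q.map x₂ := hx
    rw [MorphismProperty.map_eq_iff_postcomp Q U.trW] at hx'
    obtain ⟨Z, t, ht, hfac⟩ := hx'
    obtain ⟨s, hs, t', ht'⟩ := key t ht
    refine ⟨⟨s, hs⟩, ?_⟩
    show s • x₁ = s • x₂
    have e1 : s • x₁ = x₁ ≫ (s • 𝟙 Y) := by rw [Linear.comp_smul, Category.comp_id]
    have e2 : s • x₂ = x₂ ≫ (s • 𝟙 Y) := by rw [Linear.comp_smul, Category.comp_id]
    rw [e1, e2, ← ht', ← Category.assoc, ← Category.assoc, hfac]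

end Groth.Agent.S19190
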