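import Groth.Statements.S6603
-- import your own Groth.Agent.* helpers here
import Mathlib.CategoryTheory.Localization.CalculusOfFractions.Preadditive

set_option autoImplicit false
universe v u v' u'
open CategoryTheory CategoryTheory.Limits
open CohDer

namespace Groth.Agent.S6603

open CategoryTheory.Pretriangulated ZeroObject

section

variable {D : Type u} [Category.{v} D] [Preadditive D]
    (S : MorphismProperty D) [S.HasLeftCalculusOfFractions]
    {E : Type u'} [Category.{v'} E] (Q : D ⥤ E) [Q.IsLocalization S]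

theorem isZero_iff_left (Z : D) : IsZero (Q.obj Z) ↔ ∃ Z' : D, S (0 : Z ⟶ Z') := by
  let _ := Localization.preadditive Q S
  have := Localization.functor_additive Q S
  rw [IsZero.iff_id_eq_zero, ← Q.map_id, ← Q.map_zero,
    MorphismProperty.map_eq_iff_postcomp Q S]
  constructor
  · rintro ⟨Z', s, hs, h⟩
    rw [Category.id_comp, zero_comp] at h
    subst h
    exact ⟨Z', hs⟩
  · rintro ⟨Z', hs⟩
    exact ⟨Z', 0, hs, by simp⟩

theorem isZero_iff_right [S.HasRightCalculusOfFractions] (Z : D) :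
    IsZero (Q.obj Z) ↔ ∃ Z' : D, S (0 : Z' ⟶ Z) := by
  let _ := Localization.preadditive Q S
  have := Localization.functor_additive Q S
  rw [IsZero.iff_id_eq_zero, ← Q.map_id, ← Q.map_zero,
    MorphismProperty.map_eq_iff_precomp Q S]
  constructor
  · rintro ⟨Z', s, hs, h⟩
    rw [Category.comp_id, comp_zero] at h
    subst h
    exact ⟨Z', hs⟩
  · rintro ⟨Z', hs⟩
    exact ⟨Z', 0, hs, by simp⟩

end

theorem isZero_of_retract {E : Type u'} [Category.{v'} E] {X C : E} (i : X ⟶ C) (r : C ⟶ X)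
    (h : i ≫ r = 𝟙 X) (hC : IsZero C) : IsZero X := by
  refine ⟨fun W => ⟨{ default := i ≫ hC.to_ W, uniq := fun f => ?_ }⟩,
    fun W => ⟨{ default := hC.from_ W ≫ r, uniq := fun f => ?_ }⟩⟩
  · have : f = i ≫ (r ≫ f) := by rw [← Category.assoc, h, Category.id_comp]
    rw [this, hC.eq_of_src (r ≫ f) (hC.to_ W)]
  · have : f = (f ≫ i) ≫ r := by rw [Category.assoc, h, Category.comp_id]
    rw [this, hC.eq_of_tgt (f ≫ i) (hC.from_ W)]

set_option backward.isDefEq.respectTransparency false in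
theorem zero_inl_snd_distinguished {D : Type u} [Category.{v} D] [Preadditive D] [HasZeroObject D]
    [HasShift D ℤ] [∀ n : ℤ, (shiftFunctor D n).Additive] [Pretriangulated D] (Z Z' : D) :
    Triangle.mk (0 : Z' ⟶ Z) (biprod.inl : Z ⟶ Z ⊞ (shiftFunctor D (1 : ℤ)).obj Z')
      biprod.snd ∈ distinguishedTriangles := by
  rw [rotate_distinguished_triangle]
  refine isomorphic_distinguished _
    (binaryBiproductTriangle_distinguished Z ((shiftFunctor D (1 : ℤ)).obj Z')) _ ?_
  exact Triangle.isoMk _ _ (Iso.refl _) (Iso.refl _) (Iso.refl _) (by simp) (by simp) (by simp)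


open CategoryTheory.Pretriangulated in
/-- (1) ⇔ (2) ⇔ (3) ⇔ (4): let D be a pretriangulated category, S a multiplicative system compatible
with the triangulated structure, and Q : D → S⁻¹D the localization functor. For an object Z of D the
following are equivalent: (1) Q(Z) = 0; (2) 0 : Z ⟶ Z' is in S for some Z'; (3) 0 : Z' ⟶ Z is in S
for some Z'; (4) there are an object Z' and a distinguished triangle (X, Y, Z ⊞ Z', f, g, h) with f
∈ S. (The further equivalences (5)–(7) for saturated S are not asserted.) -/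
theorem result {D : Type u} [Category.{v} D] [Preadditive D] [HasZeroObject D] [HasShift D ℤ]
    [∀ n : ℤ, (shiftFunctor D n).Additive] [Pretriangulated D]
    (S : MorphismProperty D) [S.HasLeftCalculusOfFractions] [S.HasRightCalculusOfFractions]
    [S.IsCompatibleWithTriangulation]
    {E : Type u'} [Category.{v'} E] (Q : D ⥤ E) [Q.IsLocalization S] (Z : D) :
    (IsZero (Q.obj Z) ↔ ∃ Z' : D, S (0 : Z ⟶ Z')) ∧
    (IsZero (Q.obj Z) ↔ ∃ Z' : D, S (0 : Z' ⟶ Z)) ∧
    (IsZero (Q.obj Z) ↔ ∃ (Z' X Y : D) (f : X ⟶ Y) (g : Y ⟶ Z ⊞ Z') (h : Z ⊞ Z' ⟶ (shiftFunctor D (1 : ℤ)).obj X),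
      Triangle.mk f g h ∈ distinguishedTriangles ∧ S f) := by
  refine ⟨isZero_iff_left S Q Z, isZero_iff_right S Q Z, ?_⟩
  constructor
  · intro hZ
    obtain ⟨Z', hZ'⟩ := (isZero_iff_right S Q Z).1 hZ
    exact ⟨(shiftFunctor D (1 : ℤ)).obj Z', Z', Z, 0, biprod.inl, biprod.snd,
      zero_inl_snd_distinguished Z Z', hZ'⟩
  · rintro ⟨Z', X, Y, f, g, h, hT, hf⟩
    have hid : (Triangle.mk (𝟙 Y) (0 : Y ⟶ 0) 0) ∈ distinguishedTriangles :=
      contractible_distinguished Y
    obtain ⟨c, hc, -, -⟩ := MorphismProperty.compatible_with_triangulation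
      (Triangle.mk f g h) (Triangle.mk (𝟙 Y) (0 : Y ⟶ 0) 0) hT hid f (𝟙 Y) hf
      (S.id_mem Y) rfl
    have hc0 : c = 0 := (isZero_zero D).eq_of_tgt _ _
    rw [hc0] at hc
    have hC : IsZero (Q.obj (Z ⊞ Z')) := (isZero_iff_left S Q (Z ⊞ Z')).2 ⟨0, hc⟩
    exact isZero_of_retract (Q.map biprod.inl) (Q.map biprod.fst)
      (by rw [← Q.map_comp, biprod.inl_fst, Q.map_id]) hC

end Groth.Agent.S6603
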