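-- Statement S19193.
import Groth.Statements.S19193
import Mathlib

set_option autoImplicit false
universe u
open CategoryTheory Opposite TopologicalSpace
open CohTop

namespace Groth.Agent.S19193

section Helpers

open W4c6blochformula0cyc

variable {X : Type u} [TopologicalSpace X]

theorem res_res (F : (Opens X)ᵒᵖ ⥤ AddCommGrpCat.{u}) {V W Z : Opens X} (h1 : W ≤ V) (h2 : Z ≤ W)
    (x : F.obj (op V)) : res F h2 (res F h1 x) = res F (h2.trans h1) x := by
  unfold res
  rw [← ConcreteCategory.comp_apply, ← F.map_comp]
  rfl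

theorem res_id (F : (Opens X)ᵒᵖ ⥤ AddCommGrpCat.{u}) {V : Opens X} (h : V ≤ V)
    (x : F.obj (op V)) : res F h x = x := by
  unfold res
  have : (homOfLE h).op = 𝟙 (op V) := rfl
  rw [this, F.map_id]
  rfl

theorem cochain_congr (F : (Opens X)ᵒᵖ ⥤ AddCommGrpCat.{u}) {ι : Type u} (U : ι → Opens X) {n : ℕ}
    (f : Cochain F U n) {s s' : Fin n → ι} (hs : s = s') {W : Opens X}
    (h : W ≤ cechOpen U s) (h' : W ≤ cechOpen U s') : res F h (f s) = res F h' (f s') := by
  subst hs
  rfl

theorem E_congr (F : (Opens X)ᵒᵖ ⥤ AddCommGrpCat.{u}) {ι : Type u} (U : ι → Opens X)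
    (E : ∀ (V : Opens X) (α : ι), F.obj (op (V ⊓ U α)) →+ F.obj (op V)) {V W : Opens X} (hVW : V = W)
    (α : ι) (h : V ≤ W) (h' : V ⊓ U α ≤ W ⊓ U α) (x : F.obj (op (W ⊓ U α))) :
    res F h (E W α x) = E V α (res F h' x) := by
  subst hVW
  rw [res_id, res_id]

theorem cechOpen_eq_inf {ι : Type u} (U : ι → Opens X) {n : ℕ} (t : Fin (n + 1) → ι) (i : Fin (n + 1)) :
    cechOpen U t = cechOpen U (t ∘ i.succAbove) ⊓ U (t i) := by
  apply le_antisymm
  · exact le_inf (cechOpen_le_comp U t i) (iInf_le (fun j => U (t j)) i)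
  · refine le_iInf fun j => ?_
    rcases Fin.eq_self_or_eq_succAbove i j with h | ⟨k, hk⟩
    · subst h; exact inf_le_right
    · subst hk
      exact inf_le_left.trans (iInf_le (fun k => U ((t ∘ i.succAbove) k)) k)

theorem cons_comp_succAbove_zero {ι : Type u} {n : ℕ} (α : ι) (t : Fin n → ι) :
    (Fin.cons α t : Fin (n + 1) → ι) ∘ (0 : Fin (n + 1)).succAbove = t := by
  funext k
  simp [Fin.succAbove_zero]

theorem cons_comp_succAbove_succ {ι : Type u} {n : ℕ} (α : ι) (t : Fin (n + 1) → ι) (i : Fin (n + 1)) :
    (Fin.cons α t : Fin (n + 2) → ι) ∘ (i.succ).succAbove = Fin.cons α (t ∘ i.succAbove) := by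
  funext k
  refine Fin.cases ?_ (fun k => ?_) k
  · simp
  · simp


theorem res_E_comp (F : (Opens X)ᵒᵖ ⥤ AddCommGrpCat.{u}) {ι : Type u} (U : ι → Opens X)
    (E : ∀ (V : Opens X) (α : ι), F.obj (op (V ⊓ U α)) →+ F.obj (op V))
    (h3 : ∀ (m : ℕ) (t : Fin (m + 1) → ι) (α β : ι) (g : F.obj (op (cechOpen U t ⊓ U α))),
      res F inf_le_left (E (cechOpen U t) α g) =
        E (cechOpen U t ⊓ U β) α (res F (inf_le_inf_right (U α) inf_le_left) g))
    {n : ℕ} (t : Fin (n + 2) → ι) (i : Fin (n + 2)) (α : ι)
    (x : F.obj (op (cechOpen U (t ∘ i.succAbove) ⊓ U α))) :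
    res F (cechOpen_le_comp U t i) (E (cechOpen U (t ∘ i.succAbove)) α x) =
      E (cechOpen U t) α (res F (inf_le_inf_right (U α) (cechOpen_le_comp U t i)) x) := by
  have heq := cechOpen_eq_inf U t i
  have e1 : res F (cechOpen_le_comp U t i) (E (cechOpen U (t ∘ i.succAbove)) α x) =
      res F heq.le (res F inf_le_left (E (cechOpen U (t ∘ i.succAbove)) α x)) := by
    rw [res_res]
  rw [e1, h3 n (t ∘ i.succAbove) α (t i) x,
    E_congr F U E heq α heq.le (inf_le_inf_right (U α) heq.le), res_res]

end Helpers

open W4c6blochformula0cyc in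
/-- Let `F` be a presheaf of abelian groups on a topological space `X`, `U` a family of opens of `X`
indexed by a finite type, and suppose given, for every open `V` and every index `α`, an additive map
`E V α : F(V ∩ U_α) → F(V)` such that for every nonempty tuple of indices `t`, with `V = U_{t_0} ∩ ⋯
∩ U_{t_m}`: (i) `∑_α E V α (f|_{V ∩ U_α}) = f` for all `f ∈ F(V)`, and (ii) `(E V α g)|_{V ∩ U_β} =
E (V ∩ U_β) α (g|_{V ∩ U_β ∩ U_α})` for all indices `α, β` and all `g ∈ F(V ∩ U_α)`. Then the
operator `H` on ordered Čech cochains, `(H f)_t = ∑_α E (U_t) α (f_{(α, t)})`, satisfies `H (δ f) +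
δ (H f) = f` for every Čech cochain `f` on tuples of length at least `2`, i.e. in every Čech degree
`≥ 1`. (The published statement takes a flasque sheaf on an open cover and extension maps attached
to pairs of finite intersections; this row takes any presheaf, any finite family of opens, and maps
that may depend on the index, none of which the printed argument needs. The published statement also
asserts the identity in every degree of the Čech complex without augmentation term, and allows an
infinite index set with finitely supported sums; in Čech degree `0`, where that complex has no term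
below and the identity reads `H (δ f) = f`, it fails in general — for the one-member cover of a
point and the constant presheaf `ℤ` with `E` the identity, `δ f` vanishes on the pair while `f` need
not — so it is stated here from degree `1` on, i.e. for cochains on tuples of length at least `2`
(the whole-space term on the empty tuple carried by the cochain groups used here plays no role), and
for a finite index type.) -/
theorem result {X : Type u} [TopologicalSpace X]
    {ι : Type u} [Fintype ι] (F : (Opens X)ᵒᵖ ⥤ AddCommGrpCat.{u}) (U : ι → Opens X)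
    (E : ∀ (V : Opens X) (α : ι), F.obj (op (V ⊓ U α)) →+ F.obj (op V))
    (h2 : ∀ (m : ℕ) (t : Fin (m + 1) → ι) (f : F.obj (op (cechOpen U t))),
      ∑ α, E (cechOpen U t) α (res F inf_le_left f) = f)
    (h3 : ∀ (m : ℕ) (t : Fin (m + 1) → ι) (α β : ι) (g : F.obj (op (cechOpen U t ⊓ U α))),
      res F inf_le_left (E (cechOpen U t) α g) =
        E (cechOpen U t ⊓ U β) α (res F (inf_le_inf_right (U α) inf_le_left) g))
    (n : ℕ) (f : Cochain F U (n + 2)) :
    homotopy F U E (n + 2) (delta F U (n + 2) f) + delta F U (n + 1) (homotopy F U E (n + 1) f) = f := by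
  funext t
  -- the common double sum
  set D : ι → Fin (n + 2) → F.obj (op (cechOpen U t)) := fun α i =>
    ((-1 : ℤ) ^ (i : ℕ)) • E (cechOpen U t) α
      (res F ((inf_le_inf_right (U α) (cechOpen_le_comp U t i)).trans
        (inf_le_cechOpen_cons U (t ∘ i.succAbove) α)) (f (Fin.cons α (t ∘ i.succAbove)))) with hD
  have hA : (homotopy F U E (n + 2) (delta F U (n + 2) f)) t = f t - ∑ α, ∑ i, D α i := by
    have h1 : ∀ α : ι, E (cechOpen U t) α (res F (inf_le_cechOpen_cons U t α)
        ((delta F U (n + 2) f) (Fin.cons α t))) =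
        E (cechOpen U t) α (res F inf_le_left (f t)) - ∑ i, D α i := by
      intro α
      have hd : (delta F U (n + 2) f) (Fin.cons α t) =
          ∑ j : Fin (n + 2 + 1), ((-1 : ℤ) ^ (j : ℕ)) •
            res F (cechOpen_le_comp U (Fin.cons α t : Fin (n + 2 + 1) → ι) j)
              (f ((Fin.cons α t : Fin (n + 2 + 1) → ι) ∘ j.succAbove)) := rfl
      rw [hd, Fin.sum_univ_succ, map_add, map_add, map_sum, map_sum]
      have t0 : E (cechOpen U t) α (res F (inf_le_cechOpen_cons U t α)
          (((-1 : ℤ) ^ ((0 : Fin (n + 2 + 1)) : ℕ)) •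
            res F (cechOpen_le_comp U (Fin.cons α t : Fin (n + 2 + 1) → ι) 0)
              (f ((Fin.cons α t : Fin (n + 2 + 1) → ι) ∘ (0 : Fin (n + 2 + 1)).succAbove)))) =
          E (cechOpen U t) α (res F inf_le_left (f t)) := by
        congr 1
        simp only [Fin.val_zero, pow_zero, one_smul]
        rw [res_res]
        exact cochain_congr F U f (cons_comp_succAbove_zero α t) _ _
      rw [t0, sub_eq_add_neg, ← Finset.sum_neg_distrib]
      congr 1
      apply Finset.sum_congr rfl
      intro i _
      rw [hD]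
      simp only [Fin.val_succ, pow_succ, mul_neg, mul_one, neg_smul, map_neg, map_zsmul]
      congr 3
      rw [res_res]
      exact cochain_congr F U f (cons_comp_succAbove_succ α t i) _ _
    have : (homotopy F U E (n + 2) (delta F U (n + 2) f)) t =
        ∑ α, E (cechOpen U t) α (res F (inf_le_cechOpen_cons U t α)
          ((delta F U (n + 2) f) (Fin.cons α t))) := rfl
    rw [this, Finset.sum_congr rfl (fun α _ => h1 α), Finset.sum_sub_distrib, h2 (n + 1) t (f t)]
  have hB : (delta F U (n + 1) (homotopy F U E (n + 1) f)) t = ∑ i, ∑ α, D α i := by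
    have : (delta F U (n + 1) (homotopy F U E (n + 1) f)) t =
        ∑ i : Fin (n + 1 + 1), ((-1 : ℤ) ^ (i : ℕ)) • res F (cechOpen_le_comp U t i)
          (∑ α, E (cechOpen U (t ∘ i.succAbove)) α
            (res F (inf_le_cechOpen_cons U (t ∘ i.succAbove) α) (f (Fin.cons α (t ∘ i.succAbove))))) := rfl
    rw [this]
    apply Finset.sum_congr rfl
    intro i _
    rw [map_sum, Finset.smul_sum]
    apply Finset.sum_congr rfl
    intro α _
    rw [hD]
    simp only
    rw [res_E_comp F U E h3 t i α, res_res]
  show (homotopy F U E (n + 2) (delta F U (n + 2) f)) t +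
    (delta F U (n + 1) (homotopy F U E (n + 1) f)) t = f t
  rw [hA, hB, Finset.sum_comm]
  abel

end Groth.Agent.S19193
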