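-- Statement S19196.
import Groth.Statements.S19196
import Mathlib

set_option autoImplicit false
universe u
open RelS1

namespace Groth.Agent.S19196

/-- Let R be a Noetherian commutative ring and N a finitely generated R-module which fails Serre's
condition (S_1), in the sense that some associated prime of N is not a minimal prime of the
annihilator of N. Then there exist an element a of R lying in no minimal prime of the annihilator of
N and a nonzero element b of N with a • b = 0; thus the basic open set D(a) meets the support of N
densely while restriction to it is not injective on N. -/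
theorem result (R N : Type u) [CommRing R] [IsNoetherianRing R]
    [AddCommGroup N] [Module R N] [Module.Finite R N]
    (h : ¬ associatedPrimes R N ⊆ (Module.annihilator R N).minimalPrimes) :
    ∃ (a : R) (b : N), (∀ P ∈ (Module.annihilator R N).minimalPrimes, a ∉ P) ∧ b ≠ 0 ∧ a • b = 0 := by
  classical
  rw [Set.not_subset] at h
  obtain ⟨p, hpAss, hpmin⟩ := h
  obtain ⟨hpp, b, hb⟩ := (isAssociatedPrime_iff).mp hpAss
  have hmem : ∀ r : R, r ∈ p ↔ r • b = 0 := by
    intro r
    rw [hb, Submodule.mem_colon_singleton, Submodule.mem_bot]
  have hann : Module.annihilator R N ≤ p := by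
    intro r hr
    rw [hmem]
    exact Module.mem_annihilator.mp hr b
  have hfin := (Module.annihilator R N).finite_minimalPrimes_of_isNoetherianRing R
  have hnot : ¬ ((p : Set R) ⊆ ⋃ q ∈ (↑hfin.toFinset : Set (Ideal R)), (id q : Ideal R)) := by
    rw [Ideal.subset_union_prime (f := id) ⊥ ⊥ (fun q hq _ _ => by
      rw [Set.Finite.mem_toFinset] at hq; exact hq.1.1)]
    rintro ⟨q, hq, hpq⟩
    rw [Set.Finite.mem_toFinset] at hq
    have hqp : q ≤ p := hq.2 ⟨hpp, hann⟩ hpq
    have : p = q := le_antisymm hpq hqp
    exact hpmin (this ▸ hq)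
  rw [Set.not_subset] at hnot
  obtain ⟨a, hap, ha⟩ := hnot
  refine ⟨a, b, ?_, ?_, ?_⟩
  · intro P hP haP
    apply ha
    simp only [Set.mem_iUnion, Finset.mem_coe, Set.Finite.mem_toFinset, id]
    exact ⟨P, hP, haP⟩
  · intro hb0
    apply hpp.ne_top
    rw [Ideal.eq_top_iff_one, hmem, hb0, smul_zero]
  · exact (hmem a).mp hap

end Groth.Agent.S19196
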