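import Groth.Statements.S19203
import Groth.Agent.Lib.CohGrowthPosHH

set_option autoImplicit false
universe u
open CategoryTheory AlgebraicGeometry
open Coh

namespace Groth.Agent.S19203

/-- Let X be a scheme proper over a field k with dim X = r, and L an invertible O_X-module generated by
its global sections. Then for each i ≥ 1 the dimensions dim_k H^i(X, L^{⊗n}) are O(n^{r-1}): there
is a real constant C with dim_k H^i(X, L^{⊗n}) ≤ C·n^{r-1} for every n ≥ 1. (For r = 0 the exponent
r − 1 is read as 0; k is any field.) -/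
theorem result (k : Type u) [Field k] (X : Scheme.{u})
    [X.Over (Spec (CommRingCat.of k))] [IsProper (X ↘ (Spec (CommRingCat.of k)))]
    (r : ℕ) (hdim : topologicalKrullDim X = r)
    (L : X.Modules) (hL : PicF.IsInvertible L) (hgen : Curv2.IsGloballyGenerated L)
    (i : ℕ) (hi : 1 ≤ i) :
    ∃ C : ℝ, ∀ n : ℕ, 1 ≤ n →
      (Module.finrank k (Coh.HH X (CohB1.tensorPow L n) i) : ℝ) ≤ C * (n : ℝ) ^ (r - 1) := by
  have hO : Coh.IsCoh (Coh.structureModule X) :=
    Groth.Agent.Lib.CohFinAmple.isCoh_structureModule X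
  have hr : topologicalKrullDim ↥(CohB1.support (Coh.structureModule X)) ≤ (r : WithBot ℕ∞) := by
    rw [← hdim]
    exact (Groth.Agent.Lib.DimDrop.topologicalKrullDim_mono (Set.subset_univ _)).trans
      (le_of_eq (IsHomeomorph.topologicalKrullDim_eq _ (Homeomorph.Set.univ X).isHomeomorph))
  obtain ⟨C, hC⟩ := Groth.Agent.Lib.CohGrowthPosHH.exists_bound_pos k hL hgen
    (Coh.structureModule X) hO r hr
  obtain ⟨i', rfl⟩ : ∃ i', i = i' + 1 := ⟨i - 1, by omega⟩
  refine ⟨((C * 2 ^ r : ℕ) : ℝ), fun n hn => ?_⟩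
  have h1 := hC i' n
  have h2 := Groth.Agent.Lib.CohGrowthPosHH.g_le_two_pow_mul r n hn
  have h3 : Module.finrank k (Coh.HH X (CohB1.tensorPow L n) (i' + 1)) =
      Module.finrank k (Coh.HH X (CohB1.tensorMod (Coh.structureModule X) (CohB1.tensorPow L n))
        (i' + 1)) :=
    (Groth.Agent.Lib.CohGrowthHH.hh_congr k (Groth.Agent.Lib.OXModTensor.leftUnitor _) (i' + 1)).symm
  have h4 : Module.finrank k (Coh.HH X (CohB1.tensorPow L n) (i' + 1)) ≤
      C * 2 ^ r * n ^ (r - 1) := by
    rw [h3]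
    calc _ ≤ C * Groth.Agent.Lib.CohGrowth.g r n := h1
      _ ≤ C * (2 ^ r * n ^ (r - 1)) := Nat.mul_le_mul_left C h2
      _ = C * 2 ^ r * n ^ (r - 1) := by ring
  exact_mod_cast h4

end Groth.Agent.S19203
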