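import Groth.Statements.S19208
import Groth.Agent.Lib.SamuelPoly
import Mathlib

set_option autoImplicit false
universe u
open Filter
open LocAlg

namespace Groth.Agent.S19208

open Filter Topology Groth.Agent.Lib.EulerLES Groth.Agent.Lib.SamuelPoly

variable (O : Type u) [CommRing O] [IsNoetherianRing O] [IsLocalRing O]

/-- the normalized Samuel function of the maximal ideal -/
noncomputable def F (r n : ℕ) : ℝ :=
  (r.factorial : ℝ) * ((Module.length O (O ⧸ IsLocalRing.maximalIdeal O ^ n)).toNat : ℝ) / (n : ℝ) ^ r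

omit [IsNoetherianRing O] [IsLocalRing O] in
theorem length_quot_eq (J : Ideal O) :
    Module.length O (O ⧸ J) = Module.length O (O ⧸ (J • (⊤ : Submodule O O))) := by
  have heq : J • (⊤ : Submodule O O) = J := by rw [smul_eq_mul, Ideal.mul_top]
  exact (Submodule.quotEquivOfEq _ _ heq).length_eq.symm

theorem exists_limit (r : ℕ) (hr : ringKrullDim O = r) :
    ∃ e₀ : ℝ, 0 < e₀ ∧ Tendsto (F O r) atTop (𝓝 e₀) := by
  have : Finite (MaximalSpectrum O) := inferInstance
  obtain ⟨P, ⟨n₁, hP⟩, hdeg⟩ := exists_samuelPoly O (IsLocalRing.maximalIdeal O)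
    (by rw [IsLocalRing.ringJacobson_eq_maximalIdeal]) 1
    (by rw [IsLocalRing.ringJacobson_eq_maximalIdeal, pow_one])
  rw [Module.supportDim_self_eq_ringKrullDim, hr] at hdeg
  have hnd : P.natDegree = r := by
    have h5 : ((P.natDegree : ℕ) : ℕ∞) = (r : ℕ∞) := by
      have : (((P.natDegree : ℕ) : ℕ∞) : WithBot ℕ∞) = ((r : ℕ∞) : WithBot ℕ∞) := by
        simpa using hdeg
      exact WithBot.coe_injective this
    exact_mod_cast h5
  have hP0 : P ≠ 0 := by
    rintro rfl
    have h1 := hP (n₁ + 1) (by omega)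
    simp only [Polynomial.eval_zero] at h1
    have h2 : len O (O ⧸ (IsLocalRing.maximalIdeal O ^ (n₁ + 1) • (⊤ : Submodule O O))) = 0 := by
      exact_mod_cast h1
    unfold len at h2
    have hfl := isFiniteLength_quot_pow_smul O (IsLocalRing.maximalIdeal O) 1
      (by rw [IsLocalRing.ringJacobson_eq_maximalIdeal, pow_one]) (n₁ + 1)
    have h3 := Module.length_ne_top_iff.mpr hfl
    have h4 : Module.length O (O ⧸ (IsLocalRing.maximalIdeal O ^ (n₁ + 1) •
        (⊤ : Submodule O O))) = 0 := by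
      rcases (ENat.toNat_eq_zero).mp h2 with h | h
      · exact h
      · exact absurd h h3
    rw [Module.length_eq_zero_iff, Submodule.Quotient.subsingleton_iff, smul_eq_mul,
      Ideal.mul_top] at h4
    have h5 : IsLocalRing.maximalIdeal O ^ (n₁ + 1) ≤ IsLocalRing.maximalIdeal O :=
      Ideal.pow_le_self (by omega)
    rw [h4] at h5
    exact (IsLocalRing.maximalIdeal.isMaximal O).ne_top (top_le_iff.mp h5)
  have hc : P.coeff r ≠ 0 := by
    rw [← hnd]
    exact Polynomial.leadingCoeff_ne_zero.mpr hP0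
  have h1 := tendsto_eval_div_pow P r hnd.le
  have h2 := h1.const_mul (r.factorial : ℝ)
  have hF : Tendsto (F O r) atTop (𝓝 ((r.factorial : ℝ) * ((P.coeff r : ℚ) : ℝ))) := by
    refine h2.congr' ?_
    filter_upwards [eventually_ge_atTop n₁] with t ht
    unfold F
    have := hP t ht
    unfold len at this
    rw [length_quot_eq, ← this, mul_div_assoc]
    simp
  refine ⟨_, ?_, hF⟩
  have hnonneg : (0 : ℝ) ≤ (r.factorial : ℝ) * ((P.coeff r : ℚ) : ℝ) := by
    refine ge_of_tendsto' hF fun n => ?_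
    unfold F
    positivity
  have hne : (r.factorial : ℝ) * ((P.coeff r : ℚ) : ℝ) ≠ 0 := by
    apply mul_ne_zero
    · positivity
    · exact_mod_cast hc
  exact lt_of_le_of_ne hnonneg hne.symm

theorem result' (K : Type u) [Field K] [Algebra K O] (r : ℕ) (hr : ringKrullDim O = r)
    (ε : ℝ) (hε : 0 < ε) :
    ∃ (I : Ideal O) (e : ℝ), I ≤ IsLocalRing.maximalIdeal O ∧
      (∃ N : ℕ, IsLocalRing.maximalIdeal O ^ N ≤ I) ∧
      Tendsto (fun n : ℕ => (r.factorial : ℝ) * ((Module.length O (O ⧸ I ^ n)).toNat : ℝ) / (n : ℝ) ^ r)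
        atTop (nhds e) ∧
      (1 - ε) * ((r.factorial : ℝ) * ((Module.length O (O ⧸ I)).toNat : ℝ)) ≤ e := by
  obtain ⟨e₀, he₀, hF⟩ := exists_limit O r hr
  have h1 : Tendsto (fun n => (1 - ε) * F O r n) atTop (𝓝 ((1 - ε) * e₀)) := hF.const_mul _
  have hlt : (1 - ε) * e₀ < e₀ := by nlinarith
  have hev := (h1.eventually_lt_const hlt).and (eventually_ge_atTop 1)
  obtain ⟨N, hN1, hN2⟩ := hev.exists
  have hNpos : (0 : ℝ) < (N : ℝ) := by exact_mod_cast hN2
  refine ⟨IsLocalRing.maximalIdeal O ^ N, (N : ℝ) ^ r * e₀, Ideal.pow_le_self (by omega),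
    ⟨N, le_refl _⟩, ?_, ?_⟩
  · have hcomp : Tendsto (fun n : ℕ => F O r (N * n)) atTop (𝓝 e₀) := by
      refine hF.comp ?_
      exact tendsto_atTop_mono (fun n => Nat.le_mul_of_pos_left n hN2) tendsto_id
    have h2 := hcomp.const_mul ((N : ℝ) ^ r)
    refine h2.congr' ?_
    filter_upwards [eventually_ge_atTop 1] with n hn
    have hnpos : (0 : ℝ) < (n : ℝ) := by exact_mod_cast hn
    unfold F
    rw [← pow_mul]
    push_cast
    rw [mul_pow]
    field_simp
  · unfold F at hN1
    have h3 : (0 : ℝ) < (N : ℝ) ^ r := by positivity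
    have h4 : (1 - ε) * ((r.factorial : ℝ) *
        ((Module.length O (O ⧸ IsLocalRing.maximalIdeal O ^ N)).toNat : ℝ)) / (N : ℝ) ^ r < e₀ := by
      rw [mul_div_assoc]
      exact hN1
    rw [div_lt_iff₀ h3] at h4
    linarith


/-- Let O be a Noetherian local ring of Krull dimension r containing a field, with maximal ideal m. The
zeroth flat multiplicity e_0(O), the supremum over m-primary ideals I of e(I)/(r!·length(O/I)) with
e(I) the Samuel multiplicity, is at least 1: for every ε > 0 there is an m-primary ideal I (I ⊆ m,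
m^N ⊆ I for some N) whose multiplicity e(I), the limit of r!·length(O/I^n)/n^r, satisfies e(I) ≥ (1
− ε)·r!·length(O/I). (The same statement for the power-series rings O[[t_1, …, t_k]] is the bound
e_k(O) ≥ 1 for the k-th flat multiplicity.) -/
theorem result (O : Type u) [CommRing O] [IsNoetherianRing O]
    [IsLocalRing O] (K : Type u) [Field K] [Algebra K O] (r : ℕ) (hr : ringKrullDim O = r)
    (ε : ℝ) (hε : 0 < ε) :
    ∃ (I : Ideal O) (e : ℝ), I ≤ IsLocalRing.maximalIdeal O ∧
      (∃ N : ℕ, IsLocalRing.maximalIdeal O ^ N ≤ I) ∧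
      Tendsto (fun n : ℕ => (r.factorial : ℝ) * ((Module.length O (O ⧸ I ^ n)).toNat : ℝ) / (n : ℝ) ^ r)
        atTop (nhds e) ∧
      (1 - ε) * ((r.factorial : ℝ) * ((Module.length O (O ⧸ I)).toNat : ℝ)) ≤ e := by
  exact result' O K r hr ε hε

end Groth.Agent.S19208
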