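-- Statement S19209.
import Groth.Statements.S19209
import Mathlib

set_option autoImplicit false
universe u
open Curves

namespace Groth.Agent.S19209

theorem gauss (e : ℕ) (a : ℝ) :
    ∑ t ∈ Finset.range e, 2 * (a - (t : ℝ)) = e * (2 * a - e + 1) := by
  induction e with
  | zero => simp
  | succ e ih => rw [Finset.sum_range_succ, ih]; push_cast; ring

/-- Let n ≥ 1 and let p_0 ≥ p_1 ≥ … ≥ p_n = 0 be real numbers. Then some chain 0 = s_0 < s_1 < … < s_l =
n satisfies Σ_{k<l} (p_{s_k} − p_{s_{k+1}})·(s_k + s_{k+1}) ≤ (2n/(n+1))·(p_0 + p_1 + … + p_n).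
Equivalently the minimum of these sums over all chains, which is twice the area under the Newton
polygon (lower convex hull) of the points (k, p_k), is at most 2n/(n+1) times the sum of the
weights. -/
theorem result (n : ℕ) (hn : 1 ≤ n) (p : ℕ → ℝ)
    (hp : ∀ i j : ℕ, i ≤ j → j ≤ n → p j ≤ p i) (hpn : p n = 0) :
    ∃ (l : ℕ) (s : ℕ → ℕ), s 0 = 0 ∧ s l = n ∧ (∀ k : ℕ, k < l → s k < s (k + 1)) ∧
      (∑ k ∈ Finset.range l, (p (s k) - p (s (k + 1))) * ((s k : ℝ) + (s (k + 1) : ℝ))) ≤
        2 * (n : ℝ) / ((n : ℝ) + 1) * ∑ i ∈ Finset.range (n + 1), p i := by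
  classical
  set N : ℝ := (n : ℝ) with hNdef
  have hN : 0 < N := by
    have : (1 : ℝ) ≤ (n : ℝ) := by exact_mod_cast hn
    rw [hNdef]; linarith
  let Pm : ℕ → Prop := fun i => p i * N ≤ p 0 * (N - i)
  have claim : ∀ m, m ≤ n → Pm m → ∃ (l : ℕ) (s : ℕ → ℕ), s 0 = 0 ∧ s l = m ∧
      (∀ k, k < l → s k < s (k + 1)) ∧
      (∑ k ∈ Finset.range l, (p (s k) - p (s (k + 1))) * ((s k : ℝ) + (s (k + 1) : ℝ))) ≤
        2 * ∑ i ∈ Finset.range m, p i - p 0 + p m - 2 * m * p m ∧
      N * (∑ k ∈ Finset.range l, (p (s k) - p (s (k + 1))) * ((s k : ℝ) + (s (k + 1) : ℝ))) ≤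
        p 0 * (2 * N * m - (m : ℝ) ^ 2) - 2 * m * N * p m := by
    intro m
    induction m using Nat.strong_induction_on with
    | _ m ih =>
      intro hmn hPm
      rcases Nat.eq_zero_or_pos m with rfl | hmpos
      · exact ⟨0, fun _ => 0, rfl, rfl, by simp, by simp, by simp⟩
      · have hP0 : Pm 0 := by simp [Pm]
        have hPm' : Pm (Nat.findGreatest Pm (m - 1)) := Nat.findGreatest_spec (Nat.zero_le _) hP0
        have hm'lt : Nat.findGreatest Pm (m - 1) < m := by
          have := Nat.findGreatest_le (P := Pm) (m - 1); omega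
        have hgap : ∀ i, Nat.findGreatest Pm (m - 1) < i → i < m → ¬ Pm i :=
          fun i h1 h2 => Nat.findGreatest_is_greatest h1 (by omega)
        generalize Nat.findGreatest Pm (m - 1) = m' at hPm' hm'lt hgap
        obtain ⟨l', s', hs0, hsl, hmono, hI1, hI2⟩ := ih m' hm'lt (by omega) hPm'
        obtain ⟨e, hme⟩ : ∃ e, m = m' + (e + 1) := ⟨m - m' - 1, by omega⟩
        have hmeR : (m : ℝ) = (m' : ℝ) + (e : ℝ) + 1 := by rw [hme]; push_cast; ring
        -- sums
        have hsum : ∑ i ∈ Finset.range m, p i =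
            ∑ i ∈ Finset.range m', p i + p m' + ∑ t ∈ Finset.range e, p (m' + (t + 1)) := by
          rw [hme, Finset.sum_range_add, Finset.sum_range_succ']
          simp only [add_zero]
          ring
        -- gap bound
        have hgapsum : p 0 * ((e : ℝ) * (2 * (N - m' - 1) - e + 1)) ≤
            N * (2 * ∑ t ∈ Finset.range e, p (m' + (t + 1))) := by
          rw [← gauss e (N - m' - 1), Finset.mul_sum, Finset.mul_sum, Finset.mul_sum]
          apply Finset.sum_le_sum
          intro t ht
          rw [Finset.mem_range] at ht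
          have hnot := hgap (m' + (t + 1)) (by omega) (by omega)
          simp only [Pm, not_le] at hnot
          push_cast at hnot
          nlinarith
        have hb : p m' * N ≤ p 0 * (N - m') := hPm'
        have hc : p m * N ≤ p 0 * (N - m) := hPm
        have he0 : (0 : ℝ) ≤ (e : ℝ) := Nat.cast_nonneg e
        have hb' := mul_le_mul_of_nonneg_left hb he0
        have hc' := mul_le_mul_of_nonneg_left hc he0
        have hkey : (e : ℝ) * (p m' + p m) ≤ 2 * ∑ t ∈ Finset.range e, p (m' + (t + 1)) := by
          apply le_of_mul_le_mul_left _ hN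
          rw [hmeR] at hc'
          nlinarith
        have hS : (∑ k ∈ Finset.range (l' + 1),
            (p ((fun k => if k ≤ l' then s' k else m) k) - p ((fun k => if k ≤ l' then s' k else m) (k + 1))) *
              ((((fun k => if k ≤ l' then s' k else m) k : ℕ) : ℝ) +
                (((fun k => if k ≤ l' then s' k else m) (k + 1) : ℕ) : ℝ))) =
            (∑ k ∈ Finset.range l', (p (s' k) - p (s' (k + 1))) * ((s' k : ℝ) + (s' (k + 1) : ℝ))) +
              (p m' - p m) * ((m' : ℝ) + (m : ℝ)) := by
          rw [Finset.sum_range_succ]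
          congr 1
          · apply Finset.sum_congr rfl
            intro k hk
            rw [Finset.mem_range] at hk
            simp only [show k ≤ l' by omega, show k + 1 ≤ l' by omega, if_true]
          · simp only [le_refl, if_true, show ¬ (l' + 1 ≤ l') by omega, if_false, hsl]
        refine ⟨l' + 1, fun k => if k ≤ l' then s' k else m, ?_, ?_, ?_, ?_, ?_⟩
        · simp [hs0]
        · simp
        · intro k hk
          by_cases hkl : k < l'
          · simp only [show k ≤ l' by omega, show k + 1 ≤ l' by omega, if_true]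
            exact hmono k hkl
          · have : k = l' := by omega
            subst this
            simp only [le_refl, if_true, show ¬ (k + 1 ≤ k) by omega, if_false, hsl]
            exact hm'lt
        · rw [hS, hsum, hmeR]
          linarith
        · rw [hS]
          have hd0 : (0 : ℝ) ≤ (e : ℝ) + 1 := by positivity
          have hb'' := mul_le_mul_of_nonneg_left hb hd0
          have hc'' := mul_le_mul_of_nonneg_left hc hd0
          rw [hmeR] at hc'' ⊢
          nlinarith
  have hPn : Pm n := by
    simp only [Pm, hpn, zero_mul]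
    rw [hNdef, sub_self, mul_zero]
  obtain ⟨l, s, hs0, hsl, hmono, hI1, hI2⟩ := claim n le_rfl hPn
  refine ⟨l, s, hs0, hsl, hmono, ?_⟩
  rw [Finset.sum_range_succ, hpn, add_zero]
  rw [hpn] at hI1 hI2
  have hNN : (n : ℝ) = N := rfl
  rw [hNN] at hI1 hI2
  rw [div_mul_eq_mul_div, le_div_iff₀ (by positivity)]
  have h2 : (∑ k ∈ Finset.range l, (p (s k) - p (s (k + 1))) * ((s k : ℝ) + (s (k + 1) : ℝ))) ≤ N * p 0 := by
    apply le_of_mul_le_mul_left _ hN
    nlinarith
  nlinarith [mul_le_mul_of_nonneg_left hI1 hN.le]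

end Groth.Agent.S19209
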