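-- Statement S19210.
import Groth.Statements.S19210
import Mathlib

set_option autoImplicit false
universe u
open LocAlg

namespace Groth.Agent.S19210

theorem faulhaber_bound (b : ℕ) : ∃ C : ℝ, ∀ n : ℕ, 1 ≤ n →
    |(∑ i ∈ Finset.range n, (i : ℝ) ^ b) - 1 / ((b : ℝ) + 1) * (n : ℝ) ^ (b + 1)| ≤ C * (n : ℝ) ^ b := by
  refine ⟨∑ i ∈ Finset.range b, |(bernoulli (i + 1) : ℝ)| * ((b + 1).choose (i + 1) : ℝ) / ((b : ℝ) + 1), ?_⟩
  intro n hn
  have h := sum_range_pow n b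
  have h' : (∑ k ∈ Finset.range n, (k : ℝ) ^ b) =
      ∑ i ∈ Finset.range (b + 1), (bernoulli i : ℝ) * ((b + 1).choose i : ℝ) * (n : ℝ) ^ (b + 1 - i) / ((b : ℝ) + 1) := by
    have := congrArg (fun q : ℚ => (q : ℝ)) h
    push_cast at this
    exact this
  rw [h', Finset.sum_range_succ']
  have h0 : (bernoulli 0 : ℝ) * ((b + 1).choose 0 : ℝ) * (n : ℝ) ^ (b + 1 - 0) / ((b : ℝ) + 1) =
      1 / ((b : ℝ) + 1) * (n : ℝ) ^ (b + 1) := by
    simp [bernoulli_zero]; ring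
  rw [h0, add_sub_cancel_right, Finset.sum_mul]
  have hn1 : (1 : ℝ) ≤ (n : ℝ) := by exact_mod_cast hn
  have hb1 : (0 : ℝ) < (b : ℝ) + 1 := by positivity
  refine (Finset.abs_sum_le_sum_abs _ _).trans (Finset.sum_le_sum fun i hi => ?_)
  rw [Finset.mem_range] at hi
  rw [abs_div, abs_mul, abs_mul, abs_of_pos hb1, abs_of_nonneg (by positivity : (0 : ℝ) ≤ ((b + 1).choose (i + 1) : ℝ)),
    abs_of_nonneg (by positivity : (0 : ℝ) ≤ (n : ℝ) ^ (b + 1 - (i + 1)))]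
  have hpow : (n : ℝ) ^ (b + 1 - (i + 1)) ≤ (n : ℝ) ^ b := pow_le_pow_right₀ hn1 (by omega)
  rw [div_mul_eq_mul_div]
  apply div_le_div_of_nonneg_right _ hb1.le
  exact mul_le_mul_of_nonneg_left hpow (by positivity)


theorem main_bound (a : ℕ) : ∀ b : ℕ, ∃ C : ℝ, ∀ n : ℕ, 1 ≤ n →
    |(∑ i ∈ Finset.range n, ((n : ℝ) - (i : ℝ)) ^ a * (i : ℝ) ^ b) -
      (a.factorial : ℝ) * (b.factorial : ℝ) / ((a + b + 1).factorial : ℝ) * (n : ℝ) ^ (a + b + 1)| ≤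
      C * (n : ℝ) ^ (a + b) := by
  induction a with
  | zero =>
    intro b
    obtain ⟨C, hC⟩ := faulhaber_bound b
    refine ⟨C, fun n hn => ?_⟩
    have := hC n hn
    have hc : ((0 : ℕ).factorial : ℝ) * (b.factorial : ℝ) / ((0 + b + 1).factorial : ℝ) = 1 / ((b : ℝ) + 1) := by
      rw [zero_add, Nat.factorial_succ]
      have : (b.factorial : ℝ) ≠ 0 := by positivity
      push_cast
      field_simp
      simp
    rw [hc]
    simpa using this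
  | succ a ih =>
    intro b
    obtain ⟨C₁, hC₁⟩ := ih b
    obtain ⟨C₂, hC₂⟩ := ih (b + 1)
    refine ⟨C₁ + C₂, fun n hn => ?_⟩
    have h1 := hC₁ n hn
    have h2 := hC₂ n hn
    have hn0 : (0 : ℝ) ≤ (n : ℝ) := by positivity
    have hsum : (∑ i ∈ Finset.range n, ((n : ℝ) - (i : ℝ)) ^ (a + 1) * (i : ℝ) ^ b) =
        (n : ℝ) * (∑ i ∈ Finset.range n, ((n : ℝ) - (i : ℝ)) ^ a * (i : ℝ) ^ b) -
        ∑ i ∈ Finset.range n, ((n : ℝ) - (i : ℝ)) ^ a * (i : ℝ) ^ (b + 1) := by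
      rw [Finset.mul_sum, ← Finset.sum_sub_distrib]
      apply Finset.sum_congr rfl
      intro i _
      ring
    have hc : ((a + 1).factorial : ℝ) * (b.factorial : ℝ) / ((a + 1 + b + 1).factorial : ℝ) =
        (a.factorial : ℝ) * (b.factorial : ℝ) / ((a + b + 1).factorial : ℝ) -
        (a.factorial : ℝ) * ((b + 1).factorial : ℝ) / ((a + (b + 1) + 1).factorial : ℝ) := by
      have e1 : a + 1 + b + 1 = (a + b + 1) + 1 := by ring
      have e2 : a + (b + 1) + 1 = (a + b + 1) + 1 := by ring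
      rw [e1, e2, Nat.factorial_succ (a + b + 1), Nat.factorial_succ a, Nat.factorial_succ b]
      have : ((a + b + 1).factorial : ℝ) ≠ 0 := by positivity
      push_cast
      field_simp
      ring
    rw [hsum, hc]
    have key : (n : ℝ) * (∑ i ∈ Finset.range n, ((n : ℝ) - (i : ℝ)) ^ a * (i : ℝ) ^ b) -
        ∑ i ∈ Finset.range n, ((n : ℝ) - (i : ℝ)) ^ a * (i : ℝ) ^ (b + 1) -
        ((a.factorial : ℝ) * (b.factorial : ℝ) / ((a + b + 1).factorial : ℝ) -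
        (a.factorial : ℝ) * ((b + 1).factorial : ℝ) / ((a + (b + 1) + 1).factorial : ℝ)) * (n : ℝ) ^ (a + 1 + b + 1) =
        (n : ℝ) * ((∑ i ∈ Finset.range n, ((n : ℝ) - (i : ℝ)) ^ a * (i : ℝ) ^ b) -
          (a.factorial : ℝ) * (b.factorial : ℝ) / ((a + b + 1).factorial : ℝ) * (n : ℝ) ^ (a + b + 1)) -
        ((∑ i ∈ Finset.range n, ((n : ℝ) - (i : ℝ)) ^ a * (i : ℝ) ^ (b + 1)) -
          (a.factorial : ℝ) * ((b + 1).factorial : ℝ) / ((a + (b + 1) + 1).factorial : ℝ) *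
            (n : ℝ) ^ (a + (b + 1) + 1)) := by
      have e1 : a + 1 + b + 1 = (a + b + 1) + 1 := by ring
      have e2 : a + (b + 1) + 1 = (a + b + 1) + 1 := by ring
      rw [e1, e2, pow_succ (n : ℝ) (a + b + 1)]
      ring
    rw [key]
    calc |(n : ℝ) * ((∑ i ∈ Finset.range n, ((n : ℝ) - (i : ℝ)) ^ a * (i : ℝ) ^ b) -
          (a.factorial : ℝ) * (b.factorial : ℝ) / ((a + b + 1).factorial : ℝ) * (n : ℝ) ^ (a + b + 1)) -
        ((∑ i ∈ Finset.range n, ((n : ℝ) - (i : ℝ)) ^ a * (i : ℝ) ^ (b + 1)) -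
          (a.factorial : ℝ) * ((b + 1).factorial : ℝ) / ((a + (b + 1) + 1).factorial : ℝ) *
            (n : ℝ) ^ (a + (b + 1) + 1))|
        ≤ |(n : ℝ) * ((∑ i ∈ Finset.range n, ((n : ℝ) - (i : ℝ)) ^ a * (i : ℝ) ^ b) -
          (a.factorial : ℝ) * (b.factorial : ℝ) / ((a + b + 1).factorial : ℝ) * (n : ℝ) ^ (a + b + 1))| +
        |((∑ i ∈ Finset.range n, ((n : ℝ) - (i : ℝ)) ^ a * (i : ℝ) ^ (b + 1)) -
          (a.factorial : ℝ) * ((b + 1).factorial : ℝ) / ((a + (b + 1) + 1).factorial : ℝ) *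
            (n : ℝ) ^ (a + (b + 1) + 1))| := abs_sub _ _
      _ ≤ (n : ℝ) * (C₁ * (n : ℝ) ^ (a + b)) + C₂ * (n : ℝ) ^ (a + (b + 1)) := by
          rw [abs_mul, abs_of_nonneg hn0]
          exact add_le_add (mul_le_mul_of_nonneg_left h1 hn0) h2
      _ = (C₁ + C₂) * (n : ℝ) ^ (a + 1 + b) := by
          have e3 : a + (b + 1) = (a + b) + 1 := by ring
          have e4 : a + 1 + b = (a + b) + 1 := by ring
          rw [e3, e4, pow_succ]
          ring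

/-- For natural numbers j ≤ r, the sums Σ_{i=0}^{n−1} (n − i)^{r−j} i^j equal n^{r+1}·(r − j)!·j!/(r +
1)! up to O(n^r): there is a real constant C with |Σ_{i<n} (n − i)^{r−j} i^j − ((r − j)!·j!/(r +
1)!)·n^{r+1}| ≤ C·n^r for all n ≥ 1. -/
theorem result (r j : ℕ) (hj : j ≤ r) :
    ∃ C : ℝ, ∀ n : ℕ, 1 ≤ n →
      |(∑ i ∈ Finset.range n, ((n : ℝ) - (i : ℝ)) ^ (r - j) * (i : ℝ) ^ j) -
          ((r - j).factorial : ℝ) * (j.factorial : ℝ) / ((r + 1).factorial : ℝ) * (n : ℝ) ^ (r + 1)| ≤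
        C * (n : ℝ) ^ r := by
  obtain ⟨C, hC⟩ := main_bound (r - j) j
  have e : r - j + j = r := Nat.sub_add_cancel hj
  rw [e] at hC
  exact ⟨C, hC⟩

end Groth.Agent.S19210
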