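import Groth.Statements.S19212
import Mathlib
import Groth.Agent.Lib.H79DiagSym3

set_option autoImplicit false
universe u v
open TensorProduct
open DiagIdeal

namespace Groth.Agent.S19212

open Groth.Agent.Lib.H79DiagSym3

section aux
variable {k : Type u} [Field k] [CharZero k] {A : Type v} [CommRing A] [Algebra k A]

/-- the invariants of `S₃` (generated by the two swaps) as a `k`-submodule -/
def Inv (k : Type u) [Field k] (A : Type v) [CommRing A] [Algebra k A] :
    Submodule k (A ⊗[k] (A ⊗[k] A)) where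
  carrier := {x | S1 k A x = x ∧ S2 k A x = x}
  add_mem' := by
    rintro x y ⟨h1, h2⟩ ⟨h3, h4⟩
    exact ⟨by rw [map_add, h1, h3], by rw [map_add, h2, h4]⟩
  zero_mem' := ⟨map_zero _, map_zero _⟩
  smul_mem' := by
    rintro c x ⟨h1, h2⟩
    exact ⟨by rw [map_smul, h1], by rw [map_smul, h2]⟩

lemma mem_Inv (x : A ⊗[k] (A ⊗[k] A)) : x ∈ Inv k A ↔ S1 k A x = x ∧ S2 k A x = x := Iff.rfl

/-- the explicit symmetric lift of a generator of `I²` -/
lemma gen_mem (a b c d : A) :
    (c ⊗ₜ[k] d) * (((1 : A) ⊗ₜ[k] a - a ⊗ₜ[k] (1 : A)) * ((1 : A) ⊗ₜ[k] b - b ⊗ₜ[k] (1 : A))) ∈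
      Submodule.map (ρ12 k A).toLinearMap (Inv k A) := by
  set G : A ⊗[k] (A ⊗[k] A) :=
    (ι1 k A a - ι2 k A a) * (ι1 k A b - ι2 k A b) * ι3 k A c * (ι1 k A d + ι2 k A d - ι3 k A d) +
    (ι1 k A a - ι3 k A a) * (ι1 k A b - ι3 k A b) * ι2 k A c * (ι1 k A d + ι3 k A d - ι2 k A d) +
    (ι2 k A a - ι3 k A a) * (ι2 k A b - ι3 k A b) * ι1 k A c * (ι2 k A d + ι3 k A d - ι1 k A d)
    with hG
  refine ⟨(2 : k)⁻¹ • G, ⟨?_, ?_⟩, ?_⟩
  · rw [map_smul]
    congr 1
    rw [hG]
    simp only [map_add, map_mul, map_sub, S1_ι1, S1_ι2, S1_ι3]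
    ring
  · rw [map_smul]
    congr 1
    rw [hG]
    simp only [map_add, map_mul, map_sub, S2_ι1, S2_ι2, S2_ι3]
    ring
  · have hcd : c ⊗ₜ[k] d = (c ⊗ₜ[k] (1 : A)) * ((1 : A) ⊗ₜ[k] d) := by
      rw [Algebra.TensorProduct.tmul_mul_tmul, mul_one, one_mul]
    have h2 : ρ12 k A G = (c ⊗ₜ[k] d) * (((1 : A) ⊗ₜ[k] a - a ⊗ₜ[k] (1 : A)) *
        ((1 : A) ⊗ₜ[k] b - b ⊗ₜ[k] (1 : A))) + (c ⊗ₜ[k] d) * (((1 : A) ⊗ₜ[k] a - a ⊗ₜ[k] (1 : A)) *
        ((1 : A) ⊗ₜ[k] b - b ⊗ₜ[k] (1 : A))) := by
      rw [hG, hcd]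
      simp only [map_add, map_mul, map_sub, ρ12_ι1, ρ12_ι2, ρ12_ι3]
      ring
    rw [AlgHom.toLinearMap_apply, map_smul, h2, ← two_smul k, smul_smul,
      inv_mul_cancel₀ (two_ne_zero), one_smul]

end aux


/-- Let k be an algebraically closed field of characteristic zero and A a smooth k-algebra which is a
domain. Let the symmetric group on three letters permute the factors of A ⊗ A ⊗ A (it is generated
by the swap of the first two factors and the swap of the last two), let r : A ⊗ (A ⊗ A) → A ⊗ A be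
the k-linear map a ⊗ b ⊗ c ↦ ab ⊗ c, and let D : A ⊗ A → Ω_{A/k} be the k-linear map a ⊗ b ↦ 2a·db −
b·da. Then an element y of A ⊗ A satisfies D y = 0 if and only if y = r x for some x fixed by both
swaps, and D is surjective. (This is exactness at the last two places of the four-term right
resolution of the invariants of the ideal of the big diagonal on the symmetric cube of X = Spec A,
namely invariant functions on X³, then functions on X × X through restriction to a diagonal, then
one-forms on X; exactness at the first two places is immediate. The published statement is the sheaf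
version on the symmetric cube of a smooth complex variety of any dimension; an algebraically closed
field of characteristic zero is used here.) -/
theorem result (k : Type u) [Field k] [IsAlgClosed k] [CharZero k]
    (A : Type v) [CommRing A] [Algebra k A] [Algebra.Smooth k A] [IsDomain A]
    (r : A ⊗[k] (A ⊗[k] A) →ₗ[k] A ⊗[k] A)
    (hr : ∀ a b c : A, r (a ⊗ₜ[k] (b ⊗ₜ[k] c)) = (a * b) ⊗ₜ[k] c)
    (D : A ⊗[k] A →ₗ[k] Ω[A⁄k])
    (hD : ∀ a b : A, D (a ⊗ₜ[k] b) = (2 : A) • (a • KaehlerDifferential.D k A b) - b • KaehlerDifferential.D k A a) :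
    (∀ y : A ⊗[k] A, D y = 0 ↔ ∃ x : A ⊗[k] (A ⊗[k] A),
        TensorProduct.leftComm k A A A x = x ∧
        LinearMap.lTensor A (TensorProduct.comm k A A).toLinearMap x = x ∧ r x = y) ∧
    Function.Surjective D := by
  classical
  -- replace the data by the algebra maps
  have hrρ : ∀ x, r x = ρ12 k A x := eq_ρ12 r hr
  have hs1 : ∀ x : A ⊗[k] (A ⊗[k] A), TensorProduct.leftComm k A A A x = S1 k A x := leftComm_eq_S1
  have hs2 : ∀ x : A ⊗[k] (A ⊗[k] A),
      LinearMap.lTensor A (TensorProduct.comm k A A).toLinearMap x = S2 k A x := lTensor_comm_eq_S2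
  -- D = 3 Φ - d ∘ m
  have hD1 : ∀ y, D y = (3 : ℕ) • Phi k A y -
      KaehlerDifferential.D k A (Algebra.TensorProduct.lmul' k (S := A) y) := by
    intro y
    have : D = (3 : ℕ) • Phi k A - (KaehlerDifferential.D k A).toLinearMap ∘ₗ
        (Algebra.TensorProduct.lmul' k (S := A)).toLinearMap := by
      apply TensorProduct.ext'
      intro a b
      simp only [hD, LinearMap.sub_apply, LinearMap.smul_apply, Phi_tmul, LinearMap.comp_apply,
        AlgHom.toLinearMap_apply, Algebra.TensorProduct.lmul'_apply_tmul, Derivation.coeFn_coe,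
        Derivation.leibniz, two_smul]
      abel
    rw [this]
    rfl
  refine ⟨fun y => ⟨fun hy => ?_, ?_⟩, ?_⟩
  · -- D y = 0 ⇒ y is the restriction of an invariant
    set f : A := Algebra.TensorProduct.lmul' k (S := A) y with hf
    set F1 : A ⊗[k] (A ⊗[k] A) := (3 : k)⁻¹ • (ι1 k A f + ι2 k A f + ι3 k A f) with hF1
    have hF1inv : F1 ∈ Inv k A := by
      refine ⟨?_, ?_⟩
      · rw [hF1, map_smul]; congr 1
        simp only [map_add, S1_ι1, S1_ι2, S1_ι3]; abel
      · rw [hF1, map_smul]; congr 1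
        simp only [map_add, S2_ι1, S2_ι2, S2_ι3]; abel
    have h3 : (3 : k) ≠ 0 := by norm_num
    have hΦy : Phi k A y = (3 : k)⁻¹ • KaehlerDifferential.D k A f := by
      have := hD1 y
      rw [hy, ← hf] at this
      have h4 : (3 : k) • Phi k A y = KaehlerDifferential.D k A f := by
        rw [ofNat_smul_eq_nsmul k 3]
        exact (sub_eq_zero.mp this.symm)
      rw [← h4, smul_smul, inv_mul_cancel₀ h3, one_smul]
    have hy' : y - ρ12 k A F1 ∈ KaehlerDifferential.ideal k A ^ 2 := by
      apply mem_sq_of_Phi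
      · rw [map_sub, ← hf, hF1, map_smul, map_smul]
        simp only [map_add, ρ12_ι1, ρ12_ι2, ρ12_ι3, Algebra.TensorProduct.lmul'_apply_tmul, mul_one,
          one_mul]
        have e : f + f + f = (3 : k) • f := by
          rw [Algebra.smul_def, map_ofNat]; ring
        rw [e, smul_smul, inv_mul_cancel₀ h3, one_smul, sub_self]
      · rw [map_sub, hΦy, hF1, map_smul, map_smul]
        simp only [map_add, ρ12_ι1, ρ12_ι2, ρ12_ι3, Phi_tmul, Derivation.map_one_eq_zero, smul_zero,
          zero_add, one_smul, sub_self]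
    obtain ⟨F2, hF2inv, hF2⟩ := sq_le_of_gens (Submodule.map (ρ12 k A).toLinearMap (Inv k A))
      gen_mem _ hy'
    refine ⟨F1 + F2, ?_, ?_, ?_⟩
    · rw [hs1]; exact ((Inv k A).add_mem hF1inv hF2inv).1
    · rw [hs2]; exact ((Inv k A).add_mem hF1inv hF2inv).2
    · rw [hrρ, map_add]
      rw [AlgHom.toLinearMap_apply] at hF2
      rw [hF2]; abel
  · -- restriction of an invariant is killed by D
    rintro ⟨x, hx1, hx2, rfl⟩
    rw [hs1] at hx1
    rw [hs2] at hx2
    -- the symmetrised map
    set T : A ⊗[k] (A ⊗[k] A) →ₗ[k] Ω[A⁄k] :=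
      D ∘ₗ r ∘ₗ (LinearMap.id + (S1 k A).toLinearMap + (S2 k A).toLinearMap +
        (S1 k A).toLinearMap ∘ₗ (S2 k A).toLinearMap + (S2 k A).toLinearMap ∘ₗ (S1 k A).toLinearMap +
        (S1 k A).toLinearMap ∘ₗ (S2 k A).toLinearMap ∘ₗ (S1 k A).toLinearMap) with hT
    have hT0 : T = 0 := by
      apply ext3
      intro a b c
      simp only [hT, LinearMap.comp_apply, LinearMap.add_apply, LinearMap.id_apply,
        AlgEquiv.toLinearMap_apply, S1_tmul, S2_tmul, map_add, hr, hD, Derivation.leibniz,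
        LinearMap.zero_apply]
      module
    have hTx : T x = (6 : ℕ) • D (r x) := by
      simp only [hT, LinearMap.comp_apply, LinearMap.add_apply, LinearMap.id_apply,
        AlgEquiv.toLinearMap_apply, hx1, hx2, map_add]
      abel
    rw [hT0, LinearMap.zero_apply] at hTx
    have h6 : (6 : k) • D (r x) = 0 := by
      rw [ofNat_smul_eq_nsmul k 6]; exact hTx.symm
    rcases smul_eq_zero.mp h6 with h | h
    · exact absurd h (by norm_num)
    · exact h
  · -- surjectivity
    intro ω
    obtain ⟨z, hz⟩ := KaehlerDifferential.tensorProductTo_surjective k A ω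
    set E : A ⊗[k] A →ₗ[k] A ⊗[k] A :=
      (3 : k)⁻¹ • ((2 : ℕ) • LinearMap.id + (TensorProduct.comm k A A).toLinearMap) with hE
    have hDE : D ∘ₗ E = Phi k A := by
      apply TensorProduct.ext'
      intro a b
      simp only [hE, LinearMap.comp_apply, LinearMap.smul_apply, LinearMap.add_apply,
        LinearMap.id_apply, LinearEquiv.coe_coe, TensorProduct.comm_tmul, map_smul, map_add,
        hD, Phi_tmul, two_smul]
      have h3 : (3 : k) ≠ 0 := by norm_num
      rw [show a • (KaehlerDifferential.D k A) b + a • (KaehlerDifferential.D k A) b -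
          b • (KaehlerDifferential.D k A) a + (a • (KaehlerDifferential.D k A) b +
          a • (KaehlerDifferential.D k A) b - b • (KaehlerDifferential.D k A) a) +
          (b • (KaehlerDifferential.D k A) a + b • (KaehlerDifferential.D k A) a -
          a • (KaehlerDifferential.D k A) b) = (3 : ℕ) • (a • (KaehlerDifferential.D k A) b) by abel]
      rw [← ofNat_smul_eq_nsmul k 3, smul_smul, inv_mul_cancel₀ h3, one_smul]
    refine ⟨E z, ?_⟩
    have := LinearMap.congr_fun hDE z
    rw [LinearMap.comp_apply] at this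
    rw [this]
    exact hz

end Groth.Agent.S19212
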