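import Groth.Statements.S19213
import Mathlib
import Groth.Agent.Lib.H79DiagSym3

set_option autoImplicit false
universe u v
open TensorProduct
open DiagIdeal

namespace Groth.Agent.S19213

open Groth.Agent.Lib.H79DiagSym3

section aux
variable {k : Type u} [Field k] [CharZero k] {A : Type v} [CommRing A] [Algebra k A]

/-- invariants of the swap of the last two factors restricting to `0` on the diagonal `x₁ = x₂` -/
def Inv0 (k : Type u) [Field k] (A : Type v) [CommRing A] [Algebra k A] :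
    Submodule k (A ⊗[k] (A ⊗[k] A)) where
  carrier := {x | S2 k A x = x ∧ ρ12 k A x = 0}
  add_mem' := by
    rintro x y ⟨h1, h2⟩ ⟨h3, h4⟩
    exact ⟨by rw [map_add, h1, h3], by rw [map_add, h2, h4, add_zero]⟩
  zero_mem' := ⟨map_zero _, map_zero _⟩
  smul_mem' := by
    rintro c x ⟨h1, h2⟩
    exact ⟨by rw [map_smul, h1], by rw [map_smul, h2, smul_zero]⟩

/-- the explicit lift of a generator of `I²` (on the diagonal `x₂ = x₃`) -/
lemma gen_mem (a b c d : A) :
    (c ⊗ₜ[k] d) * (((1 : A) ⊗ₜ[k] a - a ⊗ₜ[k] (1 : A)) * ((1 : A) ⊗ₜ[k] b - b ⊗ₜ[k] (1 : A))) ∈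
      Submodule.map (ρ23 k A).toLinearMap (Inv0 k A) := by
  set G : A ⊗[k] (A ⊗[k] A) :=
    ((ι1 k A a - ι2 k A a) * (ι1 k A b - ι3 k A b) + (ι1 k A a - ι3 k A a) * (ι1 k A b - ι2 k A b)) *
      (ι2 k A c * ι2 k A d + ι3 k A c * ι3 k A d) +
    2 * ((ι1 k A a - ι2 k A a) * (ι1 k A b - ι2 k A b) * ι2 k A c * (ι1 k A d - ι3 k A d) +
      (ι1 k A a - ι3 k A a) * (ι1 k A b - ι3 k A b) * ι3 k A c * (ι1 k A d - ι2 k A d))
    with hG
  refine ⟨(4 : k)⁻¹ • G, ⟨?_, ?_⟩, ?_⟩
  · rw [map_smul]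
    congr 1
    rw [hG]
    simp only [map_add, map_mul, map_sub, map_ofNat, S2_ι1, S2_ι2, S2_ι3]
    ring
  · rw [map_smul, hG]
    simp only [map_add, map_mul, map_sub, map_ofNat, ρ12_ι1, ρ12_ι2, ρ12_ι3]
    have : ∀ x y : A ⊗[k] A, ((x - x) * y + (x - x) * y : A ⊗[k] A) = 0 := by intros; ring
    rw [smul_eq_zero]; right
    ring
  · have hcd : c ⊗ₜ[k] d = (c ⊗ₜ[k] (1 : A)) * ((1 : A) ⊗ₜ[k] d) := by
      rw [Algebra.TensorProduct.tmul_mul_tmul, mul_one, one_mul]
    have h2 : ρ23 k A G = 4 * ((c ⊗ₜ[k] d) * (((1 : A) ⊗ₜ[k] a - a ⊗ₜ[k] (1 : A)) *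
        ((1 : A) ⊗ₜ[k] b - b ⊗ₜ[k] (1 : A)))) := by
      rw [hG, hcd]
      simp only [map_add, map_mul, map_sub, map_ofNat, ρ23_ι1, ρ23_ι2, ρ23_ι3]
      ring
    have h4 : (4 : k) ≠ 0 := by norm_num
    rw [AlgHom.toLinearMap_apply, map_smul, h2]
    rw [show (4 : A ⊗[k] A) = algebraMap k (A ⊗[k] A) 4 from (map_ofNat _ 4).symm, ← Algebra.smul_def,
      smul_smul, inv_mul_cancel₀ h4, one_smul]

end aux


/-- Let k be an algebraically closed field of characteristic zero and A a smooth k-algebra which is a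
domain. Let r₁₂, r₂₃ : A ⊗ (A ⊗ A) → A ⊗ A be the k-linear maps a ⊗ u ⊗ v ↦ au ⊗ v and a ⊗ u ⊗ v ↦
uv ⊗ a (restriction to the diagonal of factors 1, 2, resp. 2, 3, the repeated coordinate written
first), let m : A ⊗ A → A be multiplication, and let ψ : (A ⊗ A) × (A ⊗ A) → Ω_{A/k} be the k-linear
map with ψ(a ⊗ u, b ⊗ v) = 2a·du − v·db. Then for p, q in A ⊗ A with m p = m q one has ψ(p, q) = 0
if and only if (p, q) = (r₁₂ x, r₂₃ x) for some x fixed by the swap of the last two tensor factors;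
and every element of Ω_{A/k} is ψ(p, q) for some pair with m p = m q. (This is exactness at the last
two places of the right resolution, on the symmetric cube of X = Spec A, of the invariants of the
ideal of the big diagonal under the transposition of the last two factors; exactness at the first
two places is immediate. The published statement is the sheaf version for a smooth complex variety
of any dimension; an algebraically closed field of characteristic zero is used here.) -/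
theorem result (k : Type u) [Field k] [IsAlgClosed k] [CharZero k]
    (A : Type v) [CommRing A] [Algebra k A] [Algebra.Smooth k A] [IsDomain A]
    (r₁₂ r₂₃ : A ⊗[k] (A ⊗[k] A) →ₗ[k] A ⊗[k] A)
    (h₁₂ : ∀ a u v : A, r₁₂ (a ⊗ₜ[k] (u ⊗ₜ[k] v)) = (a * u) ⊗ₜ[k] v)
    (h₂₃ : ∀ a u v : A, r₂₃ (a ⊗ₜ[k] (u ⊗ₜ[k] v)) = (u * v) ⊗ₜ[k] a)
    (ψ : (A ⊗[k] A) × (A ⊗[k] A) →ₗ[k] Ω[A⁄k])
    (hψ : ∀ a u b v : A, ψ (a ⊗ₜ[k] u, b ⊗ₜ[k] v) =
      (2 : A) • (a • KaehlerDifferential.D k A u) - v • KaehlerDifferential.D k A b) :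
    (∀ p q : A ⊗[k] A, LinearMap.mul' k A p = LinearMap.mul' k A q →
      (ψ (p, q) = 0 ↔ ∃ x : A ⊗[k] (A ⊗[k] A),
        LinearMap.lTensor A (TensorProduct.comm k A A).toLinearMap x = x ∧ r₁₂ x = p ∧ r₂₃ x = q)) ∧
    (∀ ω : Ω[A⁄k], ∃ p q : A ⊗[k] A, LinearMap.mul' k A p = LinearMap.mul' k A q ∧ ψ (p, q) = ω) := by
  classical
  have hr12 : ∀ x, r₁₂ x = ρ12 k A x := eq_ρ12 r₁₂ h₁₂
  have hr23 : ∀ x, r₂₃ x = ρ23 k A x := eq_ρ23 r₂₃ h₂₃
  have hs2 : ∀ x : A ⊗[k] (A ⊗[k] A),
      LinearMap.lTensor A (TensorProduct.comm k A A).toLinearMap x = S2 k A x := lTensor_comm_eq_S2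
  have hm : ∀ z : A ⊗[k] A, LinearMap.mul' k A z = Algebra.TensorProduct.lmul' k (S := A) z :=
    fun z => rfl
  -- the swap of `A ⊗ A`
  set sw : A ⊗[k] A ≃ₐ[k] A ⊗[k] A := Algebra.TensorProduct.comm k A A with hsw
  -- decompose ψ
  have hψ1 : ∀ p, ψ (p, 0) = (2 : ℕ) • Phi k A p := by
    intro p
    have : ψ ∘ₗ LinearMap.inl k _ _ = (2 : ℕ) • Phi k A := by
      apply TensorProduct.ext'
      intro a u
      have := hψ a u 0 0
      simp only [TensorProduct.zero_tmul, map_zero, smul_zero, sub_zero] at this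
      simp only [LinearMap.comp_apply, LinearMap.inl_apply, this, LinearMap.smul_apply, Phi_tmul,
        two_smul, LinearMap.add_apply]
    exact LinearMap.congr_fun this p
  have hψ2 : ∀ q, ψ (0, q) = - Phi k A (sw q) := by
    intro q
    have : ψ ∘ₗ LinearMap.inr k _ _ = - (Phi k A ∘ₗ sw.toLinearMap) := by
      apply TensorProduct.ext'
      intro b v
      have := hψ 0 0 b v
      simp only [TensorProduct.zero_tmul, map_zero, smul_zero, zero_sub] at this
      simp only [LinearMap.comp_apply, LinearMap.inr_apply, this, LinearMap.neg_apply,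
        AlgEquiv.toLinearMap_apply, hsw, Algebra.TensorProduct.comm_tmul, Phi_tmul]
    exact LinearMap.congr_fun this q
  have hψs : ∀ p q, ψ (p, q) = (2 : ℕ) • Phi k A p - Phi k A (sw q) := by
    intro p q
    have : ((p, q) : (A ⊗[k] A) × (A ⊗[k] A)) = (p, 0) + (0, q) := by simp
    rw [this, map_add, hψ1, hψ2, sub_eq_add_neg]
  -- the first order lift
  set L : A ⊗[k] A →ₗ[k] A ⊗[k] (A ⊗[k] A) :=
    LinearMap.lTensor A (Algebra.TensorProduct.includeLeft (R := k) (S := k) (A := A) (B := A)).toLinearMap +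
    LinearMap.lTensor A (Algebra.TensorProduct.includeRight (R := k) (A := A) (B := A)).toLinearMap -
    (ι1 k A).toLinearMap ∘ₗ (Algebra.TensorProduct.lmul' k (S := A)).toLinearMap with hL
  have hLtmul : ∀ a u : A, L (a ⊗ₜ[k] u) = a ⊗ₜ[k] (u ⊗ₜ[k] (1 : A)) + a ⊗ₜ[k] ((1 : A) ⊗ₜ[k] u) -
      (a * u) ⊗ₜ[k] ((1 : A) ⊗ₜ[k] (1 : A)) := by
    intro a u
    simp [hL, ι1_apply]
  have hL1 : ∀ p, S2 k A (L p) = L p := by
    intro p
    have : (S2 k A).toLinearMap ∘ₗ L = L := by
      apply TensorProduct.ext'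
      intro a u
      simp only [LinearMap.comp_apply, hLtmul, AlgEquiv.toLinearMap_apply, map_add, map_sub, S2_tmul]
      abel
    exact LinearMap.congr_fun this p
  have hL2 : ∀ p, ρ12 k A (L p) = p := by
    intro p
    have : (ρ12 k A).toLinearMap ∘ₗ L = LinearMap.id := by
      apply TensorProduct.ext'
      intro a u
      simp only [LinearMap.comp_apply, hLtmul, AlgHom.toLinearMap_apply, map_add, map_sub, ρ12_tmul,
        mul_one, LinearMap.id_apply]
      abel
    exact LinearMap.congr_fun this p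
  have hL3 : ∀ p, Algebra.TensorProduct.lmul' k (S := A) (ρ23 k A (L p)) =
      Algebra.TensorProduct.lmul' k (S := A) p := by
    intro p
    have : (Algebra.TensorProduct.lmul' k (S := A)).toLinearMap ∘ₗ (ρ23 k A).toLinearMap ∘ₗ L =
        (Algebra.TensorProduct.lmul' k (S := A)).toLinearMap := by
      apply TensorProduct.ext'
      intro a u
      simp only [LinearMap.comp_apply, hLtmul, AlgHom.toLinearMap_apply, map_add, map_sub, ρ23_tmul,
        mul_one, one_mul, Algebra.TensorProduct.lmul'_apply_tmul]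
      ring
    exact LinearMap.congr_fun this p
  have hL4 : ∀ p, Phi k A (sw (ρ23 k A (L p))) = (2 : ℕ) • Phi k A p := by
    intro p
    have : Phi k A ∘ₗ sw.toLinearMap ∘ₗ (ρ23 k A).toLinearMap ∘ₗ L = (2 : ℕ) • Phi k A := by
      apply TensorProduct.ext'
      intro a u
      simp only [LinearMap.comp_apply, hLtmul, AlgHom.toLinearMap_apply, AlgEquiv.toLinearMap_apply,
        map_add, map_sub, ρ23_tmul, mul_one, one_mul, hsw, Algebra.TensorProduct.comm_tmul, Phi_tmul,
        Derivation.map_one_eq_zero, smul_zero, sub_zero, LinearMap.smul_apply, two_smul,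
        LinearMap.add_apply]
    exact LinearMap.congr_fun this p
  have hmsw : ∀ z : A ⊗[k] A, Algebra.TensorProduct.lmul' k (S := A) (sw z) =
      Algebra.TensorProduct.lmul' k (S := A) z := by
    intro z
    have : (Algebra.TensorProduct.lmul' k (S := A)).toLinearMap ∘ₗ sw.toLinearMap =
        (Algebra.TensorProduct.lmul' k (S := A)).toLinearMap := by
      apply TensorProduct.ext'
      intro a u
      simp [hsw, mul_comm]
    exact LinearMap.congr_fun this z
  refine ⟨fun p q hpq => ⟨fun hψ0 => ?_, ?_⟩, ?_⟩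
  · -- construct the invariant
    rw [hm, hm] at hpq
    rw [hψs, sub_eq_zero] at hψ0
    set q' : A ⊗[k] A := q - ρ23 k A (L p) with hq'
    have hq'sq : sw q' ∈ KaehlerDifferential.ideal k A ^ 2 := by
      apply mem_sq_of_Phi
      · rw [hmsw, hq', map_sub, hL3, hpq, sub_self]
      · rw [hq', map_sub, map_sub, hL4, hψ0, sub_self]
    -- the submodule of achievable `q'`, pulled back along the swap
    have hgen : ∀ a b c d : A, (c ⊗ₜ[k] d) * (((1 : A) ⊗ₜ[k] a - a ⊗ₜ[k] (1 : A)) *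
        ((1 : A) ⊗ₜ[k] b - b ⊗ₜ[k] (1 : A))) ∈
        (Submodule.map (ρ23 k A).toLinearMap (Inv0 k A)).comap sw.toLinearMap := by
      intro a b c d
      rw [Submodule.mem_comap, AlgEquiv.toLinearMap_apply]
      have : sw ((c ⊗ₜ[k] d) * (((1 : A) ⊗ₜ[k] a - a ⊗ₜ[k] (1 : A)) *
          ((1 : A) ⊗ₜ[k] b - b ⊗ₜ[k] (1 : A)))) =
          (d ⊗ₜ[k] c) * (((1 : A) ⊗ₜ[k] a - a ⊗ₜ[k] (1 : A)) *
          ((1 : A) ⊗ₜ[k] b - b ⊗ₜ[k] (1 : A))) := by
        simp only [map_mul, map_sub, hsw, Algebra.TensorProduct.comm_tmul]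
        ring
      rw [this]
      exact gen_mem a b d c
    have hmem := sq_le_of_gens _ hgen _ hq'sq
    rw [Submodule.mem_comap, AlgEquiv.toLinearMap_apply] at hmem
    have hsw2 : sw (sw q') = q' := by
      have : sw.toLinearMap ∘ₗ sw.toLinearMap = LinearMap.id := by
        apply TensorProduct.ext'
        intro a u
        simp [hsw]
      exact LinearMap.congr_fun this q'
    rw [hsw2] at hmem
    obtain ⟨F2, ⟨hF2a, hF2b⟩, hF2⟩ := hmem
    rw [AlgHom.toLinearMap_apply] at hF2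
    refine ⟨L p + F2, ?_, ?_, ?_⟩
    · rw [hs2, map_add, hL1, hF2a]
    · rw [hr12, map_add, hL2, hF2b, add_zero]
    · rw [hr23, map_add, hF2, hq']; abel
  · -- restrictions of an invariant
    rintro ⟨x, hx, rfl, rfl⟩
    rw [hs2] at hx
    rw [hψs]
    set T : A ⊗[k] (A ⊗[k] A) →ₗ[k] Ω[A⁄k] :=
      ((2 : ℕ) • (Phi k A ∘ₗ r₁₂) - Phi k A ∘ₗ sw.toLinearMap ∘ₗ r₂₃) ∘ₗ
        (LinearMap.id + (S2 k A).toLinearMap) with hT
    have hT0 : T = 0 := by
      apply ext3
      intro a u v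
      simp only [hT, LinearMap.comp_apply, LinearMap.add_apply, LinearMap.id_apply,
        AlgEquiv.toLinearMap_apply, S2_tmul, map_add, h₁₂, h₂₃, LinearMap.sub_apply,
        LinearMap.smul_apply, Phi_tmul, hsw, Algebra.TensorProduct.comm_tmul, Derivation.leibniz,
        LinearMap.zero_apply, two_smul]
      module
    have hTx : T x = (2 : ℕ) • ((2 : ℕ) • Phi k A (r₁₂ x) - Phi k A (sw (r₂₃ x))) := by
      simp only [hT, LinearMap.comp_apply, LinearMap.add_apply, LinearMap.id_apply,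
        AlgEquiv.toLinearMap_apply, hx, LinearMap.sub_apply, LinearMap.smul_apply, two_smul, map_add]
    rw [hT0, LinearMap.zero_apply] at hTx
    have h2 : (2 : k) • ((2 : ℕ) • Phi k A (r₁₂ x) - Phi k A (sw (r₂₃ x))) = 0 := by
      rw [ofNat_smul_eq_nsmul k 2]; exact hTx.symm
    rcases smul_eq_zero.mp h2 with h | h
    · exact absurd h (by norm_num)
    · exact h
  · -- surjectivity
    intro ω
    obtain ⟨z, hz⟩ := KaehlerDifferential.tensorProductTo_surjective k A ω
    have h2 : (2 : k) ≠ 0 := by norm_num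
    refine ⟨(2 : k)⁻¹ • (z - (Algebra.TensorProduct.lmul' k (S := A) z) ⊗ₜ[k] (1 : A)), 0, ?_, ?_⟩
    · rw [hm, hm, map_zero, map_smul, map_sub, Algebra.TensorProduct.lmul'_apply_tmul, mul_one,
        sub_self, smul_zero]
    · rw [hψ1, map_smul, map_sub, Phi_tmul, Derivation.map_one_eq_zero, smul_zero, sub_zero,
        ← ofNat_smul_eq_nsmul k 2, smul_smul, mul_inv_cancel₀ h2, one_smul]
      exact hz

end Groth.Agent.S19213
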