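import Mathlib
import Groth.Statements.S19216

set_option autoImplicit false
universe u
open SymRep

namespace Groth.Agent.S19216

/-- Let k be a field of characteristic zero and r, s ≥ 1. Realise the standard representation of the
symmetric group on a finite set T as the hyperplane of functions T → k with sum zero, the group
acting by precomposition with the inverse. Then the standard representation of the symmetric group
of Fin r ⊕ Fin s, restricted to the subgroup S_r × S_s, is isomorphic to the direct sum of the
standard representations of S_r and of S_s and of a one-dimensional trivial representation: there is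
a k-linear map E from functions on Fin r ⊕ Fin s to triples (function on Fin r, function on Fin s,
scalar), compatible with the actions of S_r × S_s (trivial on the scalar), which maps the sum-zero
hyperplane bijectively onto the product of the two sum-zero hyperplanes and k. (The published
statement is over the complex numbers; a field of characteristic zero is used here. The published
statement also gives the analogous decomposition for any number of blocks, which follows by
induction; only the two-block case is stated here.) -/
theorem result (k : Type u) [Field k] [CharZero k]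
    (r s : ℕ) (hr : 1 ≤ r) (hs : 1 ≤ s) :
    ∃ E : (Fin r ⊕ Fin s → k) →ₗ[k] (Fin r → k) × (Fin s → k) × k,
      (∀ (σ : Equiv.Perm (Fin r)) (τ : Equiv.Perm (Fin s)) (f : Fin r ⊕ Fin s → k),
        E (f ∘ ⇑(Equiv.sumCongr σ τ).symm) = ((E f).1 ∘ ⇑σ.symm, (E f).2.1 ∘ ⇑τ.symm, (E f).2.2)) ∧
      Set.BijOn E {f | ∑ i, f i = 0}
        ({g : Fin r → k | ∑ i, g i = 0} ×ˢ ({h : Fin s → k | ∑ i, h i = 0} ×ˢ Set.univ)) := by
  have hr0 : (r : k) ≠ 0 := by exact_mod_cast (by omega : r ≠ 0)
  have hs0 : (s : k) ≠ 0 := by exact_mod_cast (by omega : s ≠ 0)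
  -- the two block sums, as linear functionals
  let SA : (Fin r ⊕ Fin s → k) →ₗ[k] k :=
    { toFun := fun f => ∑ i, f (Sum.inl i)
      map_add' := fun f g => by simp [Finset.sum_add_distrib]
      map_smul' := fun c f => by simp [Finset.mul_sum] }
  let SB : (Fin r ⊕ Fin s → k) →ₗ[k] k :=
    { toFun := fun f => ∑ j, f (Sum.inr j)
      map_add' := fun f g => by simp [Finset.sum_add_distrib]
      map_smul' := fun c f => by simp [Finset.mul_sum] }
  let E1 : (Fin r ⊕ Fin s → k) →ₗ[k] (Fin r → k) :=
    { toFun := fun f i => f (Sum.inl i) - (r : k)⁻¹ * SA f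
      map_add' := fun f g => by ext i; simp only [map_add, Pi.add_apply]; ring
      map_smul' := fun c f => by
        ext i; simp only [map_smul, Pi.smul_apply, smul_eq_mul, RingHom.id_apply]; ring }
  let E2 : (Fin r ⊕ Fin s → k) →ₗ[k] (Fin s → k) :=
    { toFun := fun f j => f (Sum.inr j) - (s : k)⁻¹ * SB f
      map_add' := fun f g => by ext i; simp only [map_add, Pi.add_apply]; ring
      map_smul' := fun c f => by
        ext i; simp only [map_smul, Pi.smul_apply, smul_eq_mul, RingHom.id_apply]; ring }
  have hSA : ∀ f, SA f = ∑ i, f (Sum.inl i) := fun _ => rfl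
  have hSB : ∀ f, SB f = ∑ j, f (Sum.inr j) := fun _ => rfl
  have hE1 : ∀ f i, E1 f i = f (Sum.inl i) - (r : k)⁻¹ * SA f := fun _ _ => rfl
  have hE2 : ∀ f j, E2 f j = f (Sum.inr j) - (s : k)⁻¹ * SB f := fun _ _ => rfl
  refine ⟨E1.prod (E2.prod SA), ?_, ?_, ?_, ?_⟩
  · intro σ τ f
    have h1 : SA (f ∘ ⇑(Equiv.sumCongr σ τ).symm) = SA f := by
      rw [hSA, hSA]
      exact Fintype.sum_equiv σ.symm _ _ (fun i => by simp)
    have h2 : SB (f ∘ ⇑(Equiv.sumCongr σ τ).symm) = SB f := by
      rw [hSB, hSB]
      exact Fintype.sum_equiv τ.symm _ _ (fun i => by simp)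
    simp only [LinearMap.prod_apply, Function.prod]
    refine Prod.ext ?_ (Prod.ext ?_ ?_)
    · funext i
      show E1 (f ∘ ⇑(Equiv.sumCongr σ τ).symm) i = E1 f (σ.symm i)
      rw [hE1, hE1, h1]
      simp
    · funext j
      show E2 (f ∘ ⇑(Equiv.sumCongr σ τ).symm) j = E2 f (τ.symm j)
      rw [hE2, hE2, h2]
      simp
    · exact h1
  · -- maps to
    intro f hf
    simp only [Set.mem_prod, Set.mem_univ, and_true, LinearMap.prod_apply, Function.prod]
    constructor
    · show ∑ i, E1 f i = 0
      simp only [hE1, Finset.sum_sub_distrib, Finset.sum_const, Finset.card_univ, Fintype.card_fin,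
        nsmul_eq_mul, ← hSA]
      field_simp
      ring
    · show ∑ j, E2 f j = 0
      simp only [hE2, Finset.sum_sub_distrib, Finset.sum_const, Finset.card_univ, Fintype.card_fin,
        nsmul_eq_mul, ← hSB]
      field_simp
      ring
  · -- injective on the hyperplane
    intro f hf f' hf' h
    have hf0 : SA f + SB f = 0 := by
      rw [hSA, hSB, ← Fintype.sum_sum_type]; exact hf
    have hf0' : SA f' + SB f' = 0 := by
      rw [hSA, hSB, ← Fintype.sum_sum_type]; exact hf'
    simp only [LinearMap.prod_apply, Function.prod, Prod.mk.injEq] at h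
    obtain ⟨h1, h2, h3⟩ := h
    have h4 : SB f = SB f' := by
      have := hf0.trans hf0'.symm
      rw [h3] at this
      exact add_left_cancel this
    funext x
    rcases x with i | j
    · have := congrFun h1 i
      rw [hE1, hE1, h3] at this
      exact sub_left_injective this
    · have := congrFun h2 j
      rw [hE2, hE2, h4] at this
      exact sub_left_injective this
  · -- surjective onto the product
    rintro ⟨g, h, c⟩ hgh
    simp only [Set.mem_prod, Set.mem_univ, and_true] at hgh
    obtain ⟨hg, hh⟩ := hgh
    have hg : ∑ i, g i = 0 := hg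
    have hh : ∑ j, h j = 0 := hh
    let f : Fin r ⊕ Fin s → k := Sum.elim (fun i => g i + (r : k)⁻¹ * c) (fun j => h j - (s : k)⁻¹ * c)
    have hfA : SA f = c := by
      rw [hSA]
      simp only [f, Sum.elim_inl, Finset.sum_add_distrib, hg, Finset.sum_const, Finset.card_univ,
        Fintype.card_fin, nsmul_eq_mul, zero_add]
      field_simp
    have hfB : SB f = -c := by
      rw [hSB]
      simp only [f, Sum.elim_inr, Finset.sum_sub_distrib, hh, Finset.sum_const, Finset.card_univ,
        Fintype.card_fin, nsmul_eq_mul, zero_sub]
      field_simp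
    refine ⟨f, ?_, ?_⟩
    · show ∑ x, f x = 0
      rw [Fintype.sum_sum_type, ← hSA, ← hSB, hfA, hfB]; ring
    · simp only [LinearMap.prod_apply, Function.prod]
      refine Prod.ext ?_ (Prod.ext ?_ ?_)
      · funext i
        simp only [hE1, hfA]
        simp [f]
      · funext j
        simp only [hE2, hfB]
        simp [f]
      · exact hfA

end Groth.Agent.S19216
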