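import Groth.Statements.S19223
import Groth.Agent.Lib.GroupCohKer57
import Mathlib.RingTheory.Henselian
import Mathlib.Algebra.Ring.GeomSum
import Mathlib.RingTheory.LocalRing.ResidueField.Basic

set_option autoImplicit false
attribute [local instance] Units.mulDistribMulActionRight
open GalCoh

namespace Groth.Agent.S19223

section helpers

open IsLocalRing Polynomial

variable {R : Type*} [CommRing R] [IsLocalRing R]

theorem isUnit_of_residue_ne_zero {r : R} (h : residue R r ≠ 0) : IsUnit r := by
  by_contra hr
  exact h ((residue_eq_zero_iff r).mpr ((mem_maximalIdeal r).mpr hr))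

/-- In a local ring, a unit congruent to `1` whose `N`-th power is `1`, with `N` invertible in the
residue field, equals `1`. -/
theorem eq_one_of_pow_eq_one (N : ℕ) (hN : (N : ResidueField R) ≠ 0) (u : R)
    (hu : residue R u = 1) (huN : u ^ N = 1) : u = 1 := by
  have h1 : (∑ i ∈ Finset.range N, u ^ i) * (u - 1) = 0 := by
    rw [geom_sum_mul, huN, sub_self]
  have h2 : IsUnit (∑ i ∈ Finset.range N, u ^ i) := by
    apply isUnit_of_residue_ne_zero
    rw [map_sum]
    simp only [map_pow, hu, one_pow, Finset.sum_const, Finset.card_range, nsmul_eq_mul, mul_one]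
    exact hN
  exact sub_eq_zero.mp ((h2.mul_right_eq_zero).mp h1)

/-- In a henselian local ring, an element congruent to `1` has an `N`-th root congruent to `1`,
when `N` is invertible in the residue field. -/
theorem exists_pow_eq {R : Type*} [CommRing R] [HenselianLocalRing R] (N : ℕ) (hN : (N : ResidueField R) ≠ 0) (u : R)
    (hu : residue R u = 1) : ∃ v : R, v ^ N = u ∧ residue R v = 1 := by
  have hN0 : N ≠ 0 := by
    rintro rfl
    exact hN (by simp)
  obtain ⟨a, ha, ha1⟩ := HenselianLocalRing.is_henselian (X ^ N - C u : R[X])
    (monic_X_pow_sub_C u hN0) 1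
    (by
      rw [← residue_eq_zero_iff]
      simp [hu])
    (by
      apply isUnit_of_residue_ne_zero
      simp only [derivative_sub, derivative_X_pow, derivative_C, sub_zero, eval_mul, eval_C,
        eval_pow, eval_X, one_pow, mul_one]
      simpa using hN)
  refine ⟨a, ?_, ?_⟩
  · have : a ^ N - u = 0 := by simpa [IsRoot] using ha
    exact sub_eq_zero.mp this
  · have := (residue_eq_zero_iff _).mpr ha1
    rw [map_sub, map_one] at this
    exact sub_eq_zero.mp this

end helpers

/-- For a strictly henselian local ring R whose residue field k has characteristic p ≥ 0, and a finite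
group G of order prime to p acting on R by ring automorphisms (hence on the unit groups R^× and
k^×), consider the homomorphism H^n(G, R^×) → H^n(G, k^×) induced by the reduction map. It is
bijective for every n ≥ 2; it is also bijective for n = 1 provided that p = 0 or the only p-power
root of unity in R is 1. (The reduction map on cohomology is pinned by its values on units; groups,
rings and modules are taken in the lowest universe, as integral coefficients in the group-cohomology
library require.) -/
theorem result (R : Type) [CommRing R]
    [HenselianLocalRing R] [IsSepClosed (IsLocalRing.ResidueField R)] (p : ℕ) [CharP (IsLocalRing.ResidueField R) p]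
    (G : Type) [Group G] [Finite G] [MulSemiringAction G R] (hp : ¬ p ∣ Nat.card G)
    (φ : Rep.ofMulDistribMulAction G Rˣ ⟶ Rep.ofMulDistribMulAction G (IsLocalRing.ResidueField R)ˣ)
    (hφ : ∀ x : Rˣ, Additive.toMul (φ.hom (Additive.ofMul x)) = Units.map (IsLocalRing.residue R).toMonoidHom x)
    (n : ℕ) (hn : 1 ≤ n) (h1 : n = 1 → p ≠ 0 → ∀ (ζ : Rˣ) (m : ℕ), ζ ^ p ^ m = 1 → ζ = 1) :
    Function.Bijective ((groupCohomology.functor ℤ G n).map φ).hom := by
  have hNk : ((Nat.card G : ℕ) : IsLocalRing.ResidueField R) ≠ 0 := fun h =>
    hp ((CharP.cast_eq_zero_iff _ p _).mp h)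
  have hφ' : ∀ x : Rˣ, φ.hom (Additive.ofMul x) =
      Additive.ofMul (Units.map (IsLocalRing.residue R).toMonoidHom x) := fun x => hφ x
  have hker : ∀ x : Rˣ, φ.hom (Additive.ofMul x) = 0 ↔ IsLocalRing.residue R (x : R) = 1 := by
    intro x
    rw [hφ']
    constructor
    · intro h
      have h2 : Units.map (IsLocalRing.residue R).toMonoidHom x = 1 := h
      have := congrArg Units.val h2
      simpa using this
    · intro h
      have h2 : Units.map (IsLocalRing.residue R).toMonoidHom x = 1 := Units.ext (by simpa using h)
      rw [h2]
      rfl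
  refine Groth.Agent.Lib.GroupCohKer57.bijective_of_kernel_divisible φ ?_ ?_ ?_ n hn
  · -- surjectivity
    intro y
    obtain ⟨r, hr⟩ := IsLocalRing.residue_surjective (R := R) ((Additive.toMul y : (IsLocalRing.ResidueField R)ˣ) : IsLocalRing.ResidueField R)
    have hru : IsUnit r := isUnit_of_residue_ne_zero (by rw [hr]; exact Units.ne_zero _)
    refine ⟨Additive.ofMul hru.unit, ?_⟩
    rw [hφ']
    have : Units.map (IsLocalRing.residue R).toMonoidHom hru.unit = Additive.toMul y :=
      Units.ext hr
    rw [this]
    rfl
  · -- injectivity of multiplication by |G| on the kernel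
    intro x hx hNx
    have hx1 : IsLocalRing.residue R ((Additive.toMul x : Rˣ) : R) = 1 := (hker _).mp hx
    have hpow : ((Additive.toMul x : Rˣ) : R) ^ Nat.card G = 1 := by
      have h2 : (Additive.toMul x : Rˣ) ^ Nat.card G = 1 := hNx
      have := congrArg Units.val h2
      simpa using this
    have h3 := eq_one_of_pow_eq_one _ hNk _ hx1 hpow
    have h4 : (Additive.toMul x : Rˣ) = 1 := Units.ext h3
    exact h4
  · -- surjectivity of multiplication by |G| on the kernel
    intro x hx
    have hx1 : IsLocalRing.residue R ((Additive.toMul x : Rˣ) : R) = 1 := (hker _).mp hx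
    obtain ⟨v, hv, hv1⟩ := exists_pow_eq _ hNk _ hx1
    have hvu : IsUnit v := isUnit_of_residue_ne_zero (by rw [hv1]; exact one_ne_zero)
    refine ⟨Additive.ofMul hvu.unit, (hker _).mpr (by simpa using hv1), ?_⟩
    have h2 : hvu.unit ^ Nat.card G = Additive.toMul x := Units.ext hv
    exact congrArg Additive.ofMul h2

end Groth.Agent.S19223
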