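import Groth.Statements.S19224
import Groth.Agent.Lib.GroupCohCard
import Mathlib.RepresentationTheory.Homological.GroupCohomology.LongExactSequence
import Mathlib.RepresentationTheory.Invariants
import Mathlib.RepresentationTheory.Coinvariants
import Mathlib.FieldTheory.IsSepClosed
import Mathlib.RingTheory.RootsOfUnity.Basic

set_option autoImplicit false
open GalCoh

namespace Groth.Agent.S19224

section helpers

open CategoryTheory Limits groupCohomology

universe u
variable {k G : Type u} [CommRing k] [Group G]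

noncomputable instance : PreservesLimitsOfSize.{u, u} (Rep.trivialFunctor k G) :=
  (Rep.coinvariantsAdjunction k G).rightAdjoint_preservesLimits

noncomputable instance : PreservesColimitsOfSize.{u, u} (Rep.trivialFunctor k G) :=
  (Rep.invariantsAdjunction k G).leftAdjoint_preservesColimits

instance : (Rep.trivialFunctor k G).PreservesZeroMorphisms where
  map_zero _ _ := rfl

variable (G) in
/-- The short complex of trivial representations attached to two composable linear maps. -/
noncomputable def trivSC {V₁ V₂ V₃ : Type u} [AddCommGroup V₁] [Module k V₁] [AddCommGroup V₂]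
    [Module k V₂] [AddCommGroup V₃] [Module k V₃] (f : V₁ →ₗ[k] V₂) (g : V₂ →ₗ[k] V₃)
    (w : g ∘ₗ f = 0) : ShortComplex (Rep.{u} k G) :=
  (ShortComplex.mk (ModuleCat.ofHom f) (ModuleCat.ofHom g)
    (by rw [← ModuleCat.ofHom_comp, w]; rfl)).map (Rep.trivialFunctor k G)

variable (G) in
theorem trivSC_shortExact {V₁ V₂ V₃ : Type u} [AddCommGroup V₁] [Module k V₁] [AddCommGroup V₂]
    [Module k V₂] [AddCommGroup V₃] [Module k V₃] (f : V₁ →ₗ[k] V₂) (g : V₂ →ₗ[k] V₃)
    (w : g ∘ₗ f = 0) (hf : Function.Injective f) (hg : Function.Surjective g)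
    (hfg : ∀ x, g x = 0 → ∃ y, f y = x) : (trivSC G f g w).ShortExact := by
  refine ShortComplex.ShortExact.map_of_exact ?_ _
  refine ShortComplex.ShortExact.mk' ?_ ?_ ?_
  · rw [ShortComplex.moduleCat_exact_iff]
    exact hfg
  · exact (ModuleCat.mono_iff_injective _).mpr hf
  · exact (ModuleCat.epi_iff_surjective _).mpr hg


variable (G) in
/-- The map of trivial representations induced by a linear map. -/
noncomputable abbrev trivMap {V W : Type u} [AddCommGroup V] [Module k V] [AddCommGroup W]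
    [Module k W] (f : V →ₗ[k] W) : Rep.trivial k G V ⟶ Rep.trivial k G W :=
  (Rep.trivialFunctor k G).map (ModuleCat.ofHom f)

variable (G) in
/-- The map on cohomology (trivial coefficients) induced by a linear map. -/
noncomputable def H (i : ℕ) {V W : Type u} [AddCommGroup V] [Module k V] [AddCommGroup W]
    [Module k W] (f : V →ₗ[k] W) :
    groupCohomology (Rep.trivial k G V) i →ₗ[k] groupCohomology (Rep.trivial k G W) i :=
  ((functor k G i).map (trivMap G f)).hom

theorem H_comp (i : ℕ) {V W U : Type u} [AddCommGroup V] [Module k V] [AddCommGroup W]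
    [Module k W] [AddCommGroup U] [Module k U] (f : V →ₗ[k] W) (g : W →ₗ[k] U) :
    H G i (g ∘ₗ f) = H G i g ∘ₗ H G i f := by
  have h1 : trivMap G (g ∘ₗ f) = trivMap G f ≫ trivMap G g := by
    unfold trivMap
    rw [ModuleCat.ofHom_comp, Functor.map_comp]
  unfold H
  rw [h1, Functor.map_comp, ModuleCat.hom_comp]
  rfl

theorem H_nsmul_id (i : ℕ) (n : ℕ) {V : Type u} [AddCommGroup V] [Module k V]
    (c : groupCohomology (Rep.trivial k G V) i) :
    H G i ((n : ℤ) • (LinearMap.id : V →ₗ[k] V)) c = n • c := by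
  have h1 : trivMap G ((n : ℤ) • (LinearMap.id : V →ₗ[k] V)) = n • 𝟙 (Rep.trivial k G V) := by
    ext x
    rw [Rep.nsmul_hom]
    change ((n : ℤ) • (LinearMap.id : V →ₗ[k] V)) x = n • x
    simp
  unfold H
  rw [h1, Functor.map_nsmul, CategoryTheory.Functor.map_id, ModuleCat.hom_nsmul]
  rfl

theorem H_nsmul (i : ℕ) (n : ℕ) {V W : Type u} [AddCommGroup V] [Module k V] [AddCommGroup W]
    [Module k W] (f : V →ₗ[k] W) (c : groupCohomology (Rep.trivial k G V) i) :
    H G i (n • f) c = n • H G i f c := by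
  have h1 : trivMap G (n • f) = n • trivMap G f := by
    ext x
    rw [Rep.nsmul_hom]
    rfl
  unfold H
  rw [h1, Functor.map_nsmul, ModuleCat.hom_nsmul]
  rfl

theorem H_exact (i : ℕ) {V₁ V₂ V₃ : Type u} [AddCommGroup V₁] [Module k V₁] [AddCommGroup V₂]
    [Module k V₂] [AddCommGroup V₃] [Module k V₃] (f : V₁ →ₗ[k] V₂) (g : V₂ →ₗ[k] V₃)
    (w : g ∘ₗ f = 0) (hX : (trivSC G f g w).ShortExact)
    (c : groupCohomology (Rep.trivial k G V₂) i) (hc : H G i g c = 0) :
    ∃ c1, H G i f c1 = c := by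
  have h1 := mapShortComplex₂_exact hX i
  rw [ShortComplex.moduleCat_exact_iff] at h1
  exact h1 c hc

theorem H_surjective (i : ℕ) {V₁ V₂ V₃ : Type u} [AddCommGroup V₁] [Module k V₁] [AddCommGroup V₂]
    [Module k V₂] [AddCommGroup V₃] [Module k V₃] (f : V₁ →ₗ[k] V₂) (g : V₂ →ₗ[k] V₃)
    (w : g ∘ₗ f = 0) (hX : (trivSC G f g w).ShortExact)
    (hs : Subsingleton (groupCohomology (Rep.trivial k G V₁) (i + 1)))
    (c : groupCohomology (Rep.trivial k G V₃) i) :
    ∃ c2, H G i g c2 = c := by
  have h1 := mapShortComplex₃_exact hX (i := i) (j := i + 1) rfl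
  rw [ShortComplex.moduleCat_exact_iff] at h1
  exact h1 c (hs.elim _ _)

end helpers

/-- Let Q be a finite group such that H^3(Q, ℤ) = 0 for the trivial action, and let k be a separably
closed field of characteristic p ≥ 0 with p not dividing the order of Q. Then H^2(Q, k^×) = 0, where
Q acts trivially on the units of k. (Groups and fields are taken in the lowest universe, as integral
coefficients in the group-cohomology library require.) -/
theorem result (Q : Type) [Group Q] [Finite Q]
    (hQ : Subsingleton (groupCohomology (Rep.trivial ℤ Q ℤ) 3)) (k : Type) [Field k] [IsSepClosed k]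
    (p : ℕ) [CharP k p] (hp : ¬ p ∣ Nat.card Q) :
    Subsingleton (groupCohomology (Rep.trivial ℤ Q (Additive kˣ)) 2) := by
  classical
  set n := Nat.card Q with hn
  have hnpos : 0 < n := Nat.card_pos
  have hnk : (n : k) ≠ 0 := fun h => hp ((CharP.cast_eq_zero_iff k p n).mp h)
  have : NeZero (n : k) := ⟨hnk⟩
  -- n-divisibility of the units
  have hdiv : ∀ x : kˣ, ∃ y : kˣ, y ^ n = x := by
    intro x
    obtain ⟨z, hz⟩ := IsSepClosed.exists_pow_nat_eq (x : k) n
    have hz0 : z ≠ 0 := by
      rintro rfl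
      rw [zero_pow hnpos.ne'] at hz
      exact x.ne_zero hz.symm
    exact ⟨Units.mk0 z hz0, Units.ext (by simpa using hz)⟩
  -- a generator of the n-th roots of unity
  obtain ⟨ζ, hζ⟩ := (inferInstance : IsCyclic (rootsOfUnity n k)).exists_generator
  have hζn : (ζ : kˣ) ^ n = 1 := (mem_rootsOfUnity _ _).mp ζ.2
  obtain ⟨ξ, hξ⟩ := hdiv (ζ : kˣ)
  set d := orderOf (ζ : kˣ) with hd
  have hdpos : 0 < d := orderOf_pos_iff.mpr (isOfFinOrder_iff_pow_eq_one.mpr ⟨n, hnpos, hζn⟩)
  -- the linear maps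
  let gM : Additive kˣ →ₗ[ℤ] Additive kˣ := (n : ℤ) • LinearMap.id
  let N : Submodule ℤ (Additive kˣ) := LinearMap.ker gM
  let fN : N →ₗ[ℤ] Additive kˣ := N.subtype
  have hgM : ∀ x : Additive kˣ, gM x = n • x := fun x => by
    simp [gM]
  have hζN : Additive.ofMul (ζ : kˣ) ∈ N := by
    show gM _ = 0
    rw [hgM, ← ofMul_pow, hζn, ofMul_one]
  let ζ' : N := ⟨Additive.ofMul (ζ : kˣ), hζN⟩
  let π : ℤ →ₗ[ℤ] N := LinearMap.toSpanSingleton ℤ N ζ'
  let dm : ℤ →ₗ[ℤ] ℤ := (d : ℤ) • LinearMap.id
  let ψ : ℤ →ₗ[ℤ] Additive kˣ := LinearMap.toSpanSingleton ℤ (Additive kˣ) (Additive.ofMul ξ)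
  -- first short exact sequence: 0 → N → M → M → 0
  have w1 : gM ∘ₗ fN = 0 := LinearMap.ext fun x => x.2
  have hX1 := trivSC_shortExact Q fN gM w1 Subtype.val_injective
    (fun x => by
      obtain ⟨y, hy⟩ := hdiv (Additive.toMul x)
      refine ⟨Additive.ofMul y, ?_⟩
      rw [hgM, ← ofMul_pow, hy]
      rfl)
    (fun x hx => ⟨⟨x, hx⟩, rfl⟩)
  -- second short exact sequence: 0 → ℤ → ℤ → N → 0
  have hπ : ∀ a : ℤ, (π a : Additive kˣ) = Additive.ofMul ((ζ : kˣ) ^ a) := by
    intro a
    simp [π, ζ', LinearMap.toSpanSingleton_apply]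
  have w2 : π ∘ₗ dm = 0 := by
    refine LinearMap.ext fun a => Subtype.ext ?_
    simp only [LinearMap.coe_comp, Function.comp_apply, hπ, dm, LinearMap.smul_apply,
      LinearMap.id_coe, id_eq, smul_eq_mul, LinearMap.zero_apply,
      ZeroMemClass.coe_zero]
    rw [zpow_mul, zpow_natCast, hd, pow_orderOf_eq_one, one_zpow]
    rfl
  have hX2 := trivSC_shortExact Q dm π w2
    (fun a b hab => by
      simp only [dm, LinearMap.smul_apply, LinearMap.id_coe, id_eq, smul_eq_mul] at hab
      exact mul_left_cancel₀ (Int.natCast_ne_zero.mpr hdpos.ne') hab)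
    (fun x => by
      have hx : Additive.toMul (x : Additive kˣ) ∈ rootsOfUnity n k := by
        rw [mem_rootsOfUnity]
        have := x.2
        change gM _ = 0 at this
        rw [hgM] at this
        exact this
      obtain ⟨a, ha⟩ := Subgroup.mem_zpowers_iff.mp (hζ ⟨_, hx⟩)
      refine ⟨a, Subtype.ext ?_⟩
      rw [hπ]
      have := congrArg (fun t : rootsOfUnity n k => (t : kˣ)) ha
      simp only [Subgroup.coe_zpow] at this
      rw [this]
      rfl)
    (fun a ha => by
      have h1 : (ζ : kˣ) ^ a = 1 := by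
        have := congrArg (fun t : N => (t : Additive kˣ)) ha
        simp only [hπ, ZeroMemClass.coe_zero] at this
        exact this
      obtain ⟨b, hb⟩ := (orderOf_dvd_iff_zpow_eq_one.mpr h1)
      exact ⟨b, by simp [dm, hb, hd]⟩)
  suffices h0 : ∀ c : groupCohomology (Rep.trivial ℤ Q (Additive kˣ)) 2, c = 0 from
    ⟨fun c c' => (h0 c).trans (h0 c').symm⟩
  intro c
  -- `n` kills `c`, so `c` comes from `H²(Q, N)`
  have hc0 : H Q 2 gM c = 0 := by
    rw [H_nsmul_id]
    exact Groth.Agent.Lib.GroupCohCard.natCard_smul_eq_zero _ 2 (by norm_num) c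
  obtain ⟨c1, hc1⟩ := H_exact 2 fN gM w1 hX1 c hc0
  -- `H²(Q, ℤ) → H²(Q, N)` is surjective since `H³(Q, ℤ) = 0`
  obtain ⟨c2, hc2⟩ := H_surjective 2 dm π w2 hX2 hQ c1
  -- the composite `ℤ → N → M` is `n • ψ`
  have hcomp : fN ∘ₗ π = n • ψ := by
    refine LinearMap.ext_ring ?_
    simp only [LinearMap.coe_comp, Function.comp_apply, LinearMap.smul_apply, fN, π, ψ, ζ',
      LinearMap.toSpanSingleton_apply, one_smul, Submodule.subtype_apply]
    rw [← ofMul_pow, hξ]
  rw [← hc1, ← hc2, ← LinearMap.comp_apply, ← H_comp, hcomp, H_nsmul]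
  exact Groth.Agent.Lib.GroupCohCard.natCard_smul_eq_zero _ 2 (by norm_num) _

end Groth.Agent.S19224
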