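import Groth.Agent.Lib.SigmaLin
import Groth.Statements.S19230

set_option autoImplicit false
universe u v
open SigmaLin

namespace Groth.Agent.S19230

open Groth.Agent.Lib.SigmaLin in
/-- Let k be a field, σ a surjective ring endomorphism of k, V a finite-dimensional k-vector space and T
: V → V additive with T (c • v) = σ c • T v. Then the set of vectors killed by some iterate of T is
a k-subspace on which a single iterate of T vanishes, it is a complement of the intersection over n
of the k-spans of the images of the n-th iterates, and T restricts to a bijection of that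
intersection onto itself. -/
theorem result
    (k : Type u) [Field k] (σ : k →+* k) (hσ : Function.Surjective σ)
    (V : Type v) [AddCommGroup V] [Module k V] [FiniteDimensional k V] (T : V →ₛₗ[σ] V) :
    (∃ W : Submodule k V, (W : Set V) = {v : V | ∃ n : ℕ, (⇑T)^[n] v = 0} ∧
      (∃ N : ℕ, ∀ v ∈ W, (⇑T)^[N] v = 0) ∧
      IsCompl W (⨅ n : ℕ, Submodule.span k (Set.range ((⇑T)^[n])))) ∧
    Set.BijOn (⇑T) (⋂ n : ℕ, (Submodule.span k (Set.range ((⇑T)^[n])) : Set V))
      (⋂ n : ℕ, (Submodule.span k (Set.range ((⇑T)^[n])) : Set V)) := by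
  obtain ⟨N₁, hN₁⟩ := exists_K_stable T
  refine ⟨⟨K T N₁, ?_, ⟨N₁, fun v hv => hv⟩, isCompl_K_S T hσ hN₁⟩, ?_⟩
  · ext v
    exact mem_K_stable_iff T hN₁
  · have := bijOn_iInf_S T hσ
    rwa [Submodule.coe_iInf] at this

end Groth.Agent.S19230
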