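import Groth.Statements.S1924
import Groth.Agent.Lib.CycClosedImm2

set_option autoImplicit false
universe u
open CategoryTheory AlgebraicGeometry
open Cyc

namespace Groth.Agent.S1924

/-- Let L be invertible on X, ι : Y → X a closed immersion with δ ≤ k + 1 on Y, and s a global section
of L|_Y = ι^*L such that the points of its zero locus have δ ≤ k and, at every such point ξ with
δ(ξ) = k, multiplication by the germ of s is injective on O_{Y,ξ}. Then c_1(L) ∩ [Y]_{k+1} ∼_rat
ι_*[Z(s)]_k as k-cycles on X (for any nonzero rational sections used to compute the left side and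
any cycle on Y with the coefficients of [Z(s)]_k). Here L(ξ) = L_ξ/𝔪_ξ L_ξ is the space of rational
sections of L on the closure of ξ, div_{L|W}(s) and c_1(L) ∩ α are computed as coefficient functions
from chosen nonzero rational sections (Cyc.secDivFun, Cyc.c1CapFun), and results are compared up to
rational equivalence for any cycles with those coefficients. A pair (X, δ) with Cyc.IsSetup plays
the role of a scheme locally of finite type over a fixed base with a dimension function (X locally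
Noetherian with universally catenary local rings, δ a dimension function), and Cyc.DeltaCompat
records that the dimension function upstairs is the induced one. -/
theorem result (X Y : Scheme.{u}) (δ : X → ℤ) (hX : Cyc.IsSetup X δ) (L : X.Modules) (hL : PicF.IsInvertible L) (ι : Y ⟶ X) [IsClosedImmersion ι] (k : ℤ) (hY : ∀ y : Y, δ (ι y) ≤ k + 1) (s : ((Scheme.Modules.pullback ι).obj L).presheaf.obj (Opposite.op ⊤)) (hZ : ∀ y : Y, (((Scheme.Modules.pullback ι).obj L).presheaf.germ ⊤ y trivial) s ∈ IsLocalRing.maximalIdeal (Y.presheaf.stalk y) • (⊤ : Submodule (Y.presheaf.stalk y) (((Scheme.Modules.pullback ι).obj L).presheaf.stalk y)) → δ (ι y) ≤ k) (hreg : ∀ y : Y, δ (ι y) = k → Function.Injective (fun a : Y.presheaf.stalk y => a • (((Scheme.Modules.pullback ι).obj L).presheaf.germ ⊤ y trivial) s)) (v : (ξ : X) → Cyc.secFibre L ξ) (hv : ∀ ξ, v ξ ≠ 0) (γ : AlgebraicCycle X ℤ) (hγ : ⇑γ = Cyc.c1CapFun δ L (Cyc.subschemeFun δ (k + 1) ι) v) (ζ : AlgebraicCycle Y ℤ) (hζ : ⇑ζ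 = Cyc.zeroSectionFun (fun y => δ (ι y)) k ((Scheme.Modules.pullback ι).obj L) s) : Cyc.RatEquiv δ k γ (AlgebraicCycle.map ι (fun y => δ (ι y)) δ ζ) := by
  classical
  haveI := hX.1
  have hδ := hX.2.2
  haveI : IsLocallyNoetherian Y := Groth.Agent.Lib.CycClosedImm.isLocallyNoetherian_closedImm' ι
  have hδY := Groth.Agent.Lib.CycClosedImm.isDimFun_closedImm ι hδ
  have hM := Groth.Agent.Lib.H90Invertible.isInvertible_pullback ι hL
  have hS := Groth.Agent.Lib.ZeroSectionC1.zeroSectionFun_eq_c1CapFun Y (fun y => δ (ι y)) hδY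
    ((Scheme.Modules.pullback ι).obj L) hM k hY s hZ hreg
  obtain ⟨β, hβ, hβZ⟩ := Groth.Agent.Lib.CycClosedImm2.exists_subschemeCycle ι hδ (k + 1) hY
  let sbar : (y : Y) → Cyc.secFibre ((Scheme.Modules.pullback ι).obj L) y := fun y =>
    Submodule.Quotient.mk ((((Scheme.Modules.pullback ι).obj L).presheaf.germ ⊤ y trivial) s)
  have hP : ∀ y : Y, ∃ l : L.presheaf.stalk (ι y),
      (sbar y ≠ 0 → (Submodule.Quotient.mk (Groth.Agent.Lib.PullbackStalkGen.tau ι L y l) :
        Cyc.secFibre ((Scheme.Modules.pullback ι).obj L) y) = sbar y) ∧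
      (Submodule.Quotient.mk l : Cyc.secFibre L (ι y)) ≠ 0 := by
    intro y
    by_cases h : sbar y ≠ 0
    · obtain ⟨l, h1, h2⟩ := Groth.Agent.Lib.CycClosedImm2.exists_lift_section ι hL y (sbar y) h
      exact ⟨l, fun _ => h1, h2⟩
    · obtain ⟨l, hl⟩ := Submodule.Quotient.mk_surjective _ (v (ι y))
      exact ⟨l, fun h' => absurd h' h, hl ▸ hv (ι y)⟩
  choose lY hlY1 hlY2 using hP
  obtain ⟨v', hv'1, hv'2⟩ := Groth.Agent.Lib.CycClosedImm2.exists_extend_sections ι v lY
  have hv' : ∀ ξ, v' ξ ≠ 0 := by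
    intro ξ
    by_cases hξ : ξ ∈ Set.range ι
    · obtain ⟨y, rfl⟩ := hξ
      rw [hv'1]
      exact hlY2 y
    · rw [hv'2 ξ hξ]
      exact hv ξ
  have hγ' : ⇑γ = Cyc.c1CapFun δ L ⇑β v := by rw [hγ, hβ]
  refine Groth.Agent.Lib.C1CapIndep.ratEquiv_c1CapFun δ hL k β hβZ v v' hv hv' γ
    (AlgebraicCycle.map ι (fun y => δ (ι y)) δ ζ) hγ' ?_
  funext x
  have e1 : Cyc.c1CapFun δ L ⇑β v' x = ∑ᶠ ξ, β ξ * Cyc.secDivFun δ L ξ (v' ξ) x := rfl
  rw [e1]
  by_cases hx : x ∈ Set.range ι
  · obtain ⟨y', rfl⟩ := hx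
    rw [Groth.Agent.Lib.CycClosedImm.map_closedImm_apply, hζ, hS]
    have e2 : Cyc.c1CapFun (X := Y) (fun y => δ (ι y)) ((Scheme.Modules.pullback ι).obj L)
        (Cyc.subschemeFun (X := Y) (fun y => δ (ι y)) (k + 1) (𝟙 Y))
        (fun ξ => Submodule.Quotient.mk
          ((((Scheme.Modules.pullback ι).obj L).presheaf.germ ⊤ ξ trivial) s)) y' =
        ∑ᶠ y : Y, Cyc.subschemeFun (X := Y) (fun y => δ (ι y)) (k + 1) (𝟙 Y) y *
          Cyc.secDivFun (X := Y) (fun y => δ (ι y)) ((Scheme.Modules.pullback ι).obj L) y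
            (sbar y) y' := rfl
    rw [e2, Groth.Agent.Lib.CycClosedImm.finsum_eq_finsum_closedImm ι _
      (fun x hx => by
        rw [hβ, Groth.Agent.Lib.CycClosedImm2.subschemeFun_eq_zero_of_notMem_range ι δ _ x hx,
          zero_mul])]
    refine finsum_congr fun y => ?_
    rw [hβ, Groth.Agent.Lib.CycClosedImm2.subschemeFun_closedImm, hv'1]
    by_cases hb : Cyc.subschemeFun (X := Y) (fun y => δ (ι y)) (k + 1) (𝟙 Y) y = 0
    · rw [hb, zero_mul, zero_mul]
    · have hδy : δ (ι y) = k + 1 := by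
        by_contra hne
        apply hb
        unfold Cyc.subschemeFun
        rw [if_neg hne]
      have hne : sbar y ≠ 0 := by
        intro h0
        have := hZ y ((Submodule.Quotient.mk_eq_zero _).mp h0)
        omega
      rw [← Groth.Agent.Lib.CycClosedImm.secDivFun_closedImm ι hδ hL y y' (lY y), hlY1 y hne]
  · rw [Groth.Agent.Lib.CycClosedImm.map_closedImm_apply_of_notMem ι δ ζ x hx]
    symm
    refine finsum_eq_zero_of_forall_eq_zero fun ξ => ?_
    by_cases hξ : ξ ∈ Set.range ι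
    · obtain ⟨y, rfl⟩ := hξ
      rw [Groth.Agent.Lib.CycClosedImm.secDivFun_eq_zero_of_notMem_range ι y _ x hx, mul_zero]
    · rw [hβ, Groth.Agent.Lib.CycClosedImm2.subschemeFun_eq_zero_of_notMem_range ι δ _ ξ hξ,
        zero_mul]

end Groth.Agent.S1924
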