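import Groth.Statements.S19244
-- import your own Groth.Agent.* helpers here

set_option autoImplicit false
universe v v' u u'
open HomAlg3

namespace Groth.Agent.S19244

open CategoryTheory CategoryTheory.Limits in
lemma smul_id_isoModSerre
    {A : Type u} [Category.{v} A] [Abelian A]
    (P : ObjectProperty A) (hP : ∀ X : A, P X ↔ ∃ n : ℤ, n ≠ 0 ∧ n • (𝟙 X) = 0) [P.IsSerreClass]
    (Y : A) (n : ℤ) (hn : n ≠ 0) : P.isoModSerre (n • 𝟙 Y) := by
  rw [ObjectProperty.isoModSerre_iff]
  constructor
  · rw [ObjectProperty.monoModSerre_iff, hP]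
    refine ⟨n, hn, ?_⟩
    rw [← cancel_mono (kernel.ι (n • 𝟙 Y))]
    have h := kernel.condition (n • 𝟙 Y)
    rw [Preadditive.comp_zsmul, Category.comp_id] at h
    rw [Preadditive.zsmul_comp, Category.id_comp, zero_comp, h]
  · rw [ObjectProperty.epiModSerre_iff, hP]
    refine ⟨n, hn, ?_⟩
    rw [← cancel_epi (cokernel.π (n • 𝟙 Y))]
    have h := cokernel.condition (n • 𝟙 Y)
    rw [Preadditive.zsmul_comp, Category.id_comp] at h
    rw [Preadditive.comp_zsmul, Category.comp_id, comp_zero, h]

open CategoryTheory CategoryTheory.Limits in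
lemma exists_quasi_inverse
    {A : Type u} [Category.{v} A] [Abelian A] {Y Y' : A} (s : Y ⟶ Y') (a b : ℤ)
    (ha : a • 𝟙 (kernel s) = 0) (hb : b • 𝟙 (cokernel s) = 0) :
    ∃ t : Y' ⟶ Y, s ≫ t = (b * a) • 𝟙 Y := by
  have h1 : (b • 𝟙 Y') ≫ cokernel.π s = 0 := by
    rw [Preadditive.zsmul_comp, Category.id_comp]
    have : cokernel.π s ≫ (b • 𝟙 (cokernel s)) = 0 := by rw [hb, comp_zero]
    rw [Preadditive.comp_zsmul, Category.comp_id] at this
    exact this
  have h2 : kernel.ι s ≫ (a • 𝟙 Y) = 0 := by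
    rw [Preadditive.comp_zsmul, Category.comp_id]
    have : (a • 𝟙 (kernel s)) ≫ kernel.ι s = 0 := by rw [ha, zero_comp]
    rw [Preadditive.zsmul_comp, Category.id_comp] at this
    exact this
  let u : Y' ⟶ Abelian.image s := kernel.lift (cokernel.π s) (b • 𝟙 Y') h1
  have hu : u ≫ Abelian.image.ι s = b • 𝟙 Y' := kernel.lift_ι _ _ _
  let w : Abelian.coimage s ⟶ Y := cokernel.desc (kernel.ι s) (a • 𝟙 Y) h2
  have hw : Abelian.coimage.π s ≫ w = a • 𝟙 Y := cokernel.π_desc _ _ _
  refine ⟨u ≫ inv (Abelian.coimageImageComparison s) ≫ w, ?_⟩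
  have hs : s ≫ u = b • (Abelian.coimage.π s ≫ Abelian.coimageImageComparison s) := by
    rw [← cancel_mono (Abelian.image.ι s), Category.assoc, hu, Preadditive.comp_zsmul,
      Category.comp_id, Preadditive.zsmul_comp, Category.assoc]
    congr 1
    exact (Abelian.coimage_image_factorisation s).symm
  rw [← Category.assoc, hs, Preadditive.zsmul_comp, Category.assoc, IsIso.hom_inv_id_assoc, hw,
    smul_smul]

open CategoryTheory in
/-- Let A be an abelian category and let P be the class of bounded-torsion objects of A, those X with n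
• 𝟙_X = 0 for some nonzero integer n; assume P is a Serre class. Let L : A ⥤ D be an additive
functor to a preadditive category exhibiting D as the localization of A at the morphisms whose
kernel and cokernel are in P (so D is the quotient category A_ℚ = A ⧸ A_{b-tor}; the source assumes
A well-powered, which guarantees that this quotient exists). Then for all objects X, Y of A: (1) for
every nonzero integer n, multiplication by n is bijective on Hom_D(L X, L Y), so that this group is
naturally a ℚ-vector space; (2) a morphism f : X ⟶ Y satisfies L f = 0 if and only if n • f = 0 for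
some nonzero integer n; (3) for every g : L X ⟶ L Y there are a nonzero integer n and f : X ⟶ Y with
n • g = L f. Equivalently, the natural map Hom_A(X, Y) ⊗_ℤ ℚ → Hom_D(L X, L Y) is an isomorphism. -/
theorem result
    {A : Type u} [Category.{v} A] [Abelian A] {D : Type u'} [Category.{v'} D] [Preadditive D]
    (P : ObjectProperty A) (hP : ∀ X : A, P X ↔ ∃ n : ℤ, n ≠ 0 ∧ n • (𝟙 X) = 0) [P.IsSerreClass]
    (L : A ⥤ D) [L.Additive] [L.IsLocalization P.isoModSerre] (X Y : A) :
    (∀ n : ℤ, n ≠ 0 → Function.Bijective (fun g : L.obj X ⟶ L.obj Y => n • g)) ∧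
    (∀ f : X ⟶ Y, L.map f = 0 ↔ ∃ n : ℤ, n ≠ 0 ∧ n • f = 0) ∧
    (∀ g : L.obj X ⟶ L.obj Y, ∃ (n : ℤ) (f : X ⟶ Y), n ≠ 0 ∧ n • g = L.map f) := by
  have hinv : ∀ n : ℤ, n ≠ 0 → IsIso (n • 𝟙 (L.obj Y)) := by
    intro n hn
    have h := (ObjectProperty.SerreClassLocalization.isIso_map_iff L P (n • 𝟙 Y)).2 (smul_id_isoModSerre P hP Y n hn)
    rwa [Functor.map_zsmul, L.map_id] at h
  have hbij : ∀ n : ℤ, n ≠ 0 → Function.Bijective (fun g : L.obj X ⟶ L.obj Y => n • g) := by
    intro n hn
    have := hinv n hn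
    have : (fun g : L.obj X ⟶ L.obj Y => n • g) = fun g => g ≫ (n • 𝟙 (L.obj Y)) := by
      funext g
      rw [Preadditive.comp_zsmul, Category.comp_id]
    rw [this]
    constructor
    · intro g₁ g₂ h
      exact (cancel_mono _).1 h
    · intro g
      exact ⟨g ≫ inv (n • 𝟙 (L.obj Y)), by simp⟩
  refine ⟨hbij, ?_, ?_⟩
  · intro f
    constructor
    · intro hf
      rw [ObjectProperty.SerreClassLocalization.map_eq_zero_iff L P, hP] at hf
      obtain ⟨n, hn, h⟩ := hf
      refine ⟨n, hn, ?_⟩
      rw [← Abelian.image.fac f]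
      have : n • (Abelian.factorThruImage f ≫ Abelian.image.ι f) =
          Abelian.factorThruImage f ≫ (n • 𝟙 _) ≫ Abelian.image.ι f := by
        rw [Preadditive.zsmul_comp, Category.id_comp, Preadditive.comp_zsmul]
      rw [this, h, Limits.zero_comp, Limits.comp_zero]
    · rintro ⟨n, hn, h⟩
      apply (hbij n hn).1
      change n • L.map f = n • 0
      rw [← Functor.map_zsmul, h, L.map_zero, smul_zero]
  · intro g
    obtain ⟨φ, hφ⟩ := Localization.exists_leftFraction L P.isoModSerre g
    have hs := φ.hs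
    rw [ObjectProperty.isoModSerre_iff, ObjectProperty.monoModSerre_iff,
      ObjectProperty.epiModSerre_iff, hP, hP] at hs
    obtain ⟨⟨a, ha, ha'⟩, ⟨b, hb, hb'⟩⟩ := hs
    obtain ⟨t, ht⟩ := exists_quasi_inverse φ.s a b ha' hb'
    refine ⟨b * a, φ.f ≫ t, mul_ne_zero hb ha, ?_⟩
    have h1 : g ≫ L.map φ.s = L.map φ.f := by
      rw [hφ]
      exact MorphismProperty.LeftFraction.map_comp_map_s φ L _
    rw [L.map_comp, ← h1, Category.assoc, ← L.map_comp, ht, Functor.map_zsmul, L.map_id,
      Preadditive.comp_zsmul, Category.comp_id]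

end Groth.Agent.S19244
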