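import Groth.Statements.S19246
import Groth.Agent.Lib.TowerLimSections

set_option autoImplicit false
universe u
open CohTop

namespace Groth.Agent.S19246

open CategoryTheory CategoryTheory.Limits TopologicalSpace Opposite Groth.Agent.Lib.TowerLimSections

lemma tr_restrict {X : TopCat.{u}} (M : ℕᵒᵖ ⥤ CohTop.Ab X) (n : ℕ) {W V : Opens X}
    (i : op W ⟶ op V) (x : (M.obj (op (n + 1))).obj.obj (op W)) :
    tr M n V ((M.obj (op (n + 1))).obj.map i x) = (M.obj (op n)).obj.map i (tr M n W x) :=
  ConcreteCategory.congr_hom ((M.map (homOfLE (Nat.le_succ n)).op).hom.naturality i) x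

lemma ι_restrict {X : TopCat.{u}} {F G : CohTop.Ab X} (f : F ⟶ G) {W V : Opens X}
    (i : op W ⟶ op V) (k : (kernel f : CohTop.Ab X).obj.obj (op W)) :
    (kernel.ι f).hom.app (op V) ((kernel f : CohTop.Ab X).obj.map i k) =
      F.obj.map i ((kernel.ι f).hom.app (op W) k) :=
  ConcreteCategory.congr_hom ((kernel.ι f).hom.naturality i) k

lemma sectionwise {X : TopCat.{u}} (M : ℕᵒᵖ ⥤ CohTop.Ab X)
    (h1 : ∀ n : ℕ, TopCat.Sheaf.IsFlasque (M.obj (op n)))
    (e1 : ∀ n : ℕ, Epi (M.map (homOfLE (Nat.le_succ n)).op))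
    (k1 : ∀ n : ℕ, TopCat.Sheaf.IsFlasque (kernel (M.map (homOfLE (Nat.le_succ n)).op) : CohTop.Ab X))
    {W V : Opens X} (i : op W ⟶ op V) :
    Function.Surjective ((limit M : CohTop.Ab X).obj.map i) := by
  intro c
  let sn : ∀ n : ℕ, (M.obj (op n)).obj.obj (op V) :=
    fun n => (limit.π M (op n)).hom.app (op V) c
  have hsn : ∀ n, tr M n V (sn (n + 1)) = sn n := fun n => π_compat M V c n
  have htr : ∀ n : ℕ, Function.Surjective (tr M n W) := by
    intro n
    have := e1 n
    exact surjective_of_epi_of_flasque_kernel _ (k1 n) W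
  have step : ∀ (n : ℕ) (b : {b : (M.obj (op n)).obj.obj (op W) //
      (M.obj (op n)).obj.map i b = sn n}),
      ∃ b' : {b : (M.obj (op (n + 1))).obj.obj (op W) //
        (M.obj (op (n + 1))).obj.map i b = sn (n + 1)}, tr M n W b'.1 = b.1 := by
    rintro n ⟨b, hb⟩
    obtain ⟨b1, hb1⟩ := htr n b
    have h0 : tr M n V ((M.obj (op (n + 1))).obj.map i b1 - sn (n + 1)) = 0 := by
      rw [map_sub, tr_restrict, hb1, hb, hsn, sub_self]
    obtain ⟨k, hk⟩ := exists_kernel_section _ V _ h0
    obtain ⟨k', hk'⟩ := restrict_surjective_of_flasque _ (k1 n) i k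
    refine ⟨⟨b1 - (kernel.ι (M.map (homOfLE (Nat.le_succ n)).op)).hom.app (op W) k', ?_⟩, ?_⟩
    · rw [map_sub, ← ι_restrict, hk', hk]
      abel
    · change tr M n W (b1 - (kernel.ι (M.map (homOfLE (Nat.le_succ n)).op)).hom.app (op W) k') = b
      rw [map_sub, hb1]
      have := kernel_ι_comp_apply (M.map (homOfLE (Nat.le_succ n)).op) W k'
      change tr M n W _ = 0 at this
      rw [this, sub_zero]
  choose nxt hnxt using step
  obtain ⟨b0, hb0⟩ := restrict_surjective_of_flasque _ (h1 0) i (sn 0)
  let seq : ∀ n : ℕ, {b : (M.obj (op n)).obj.obj (op W) //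
      (M.obj (op n)).obj.map i b = sn n} :=
    fun n => Nat.rec ⟨b0, hb0⟩ (fun n b => nxt n b) n
  have hseq : ∀ n, tr M n W (seq (n + 1)).1 = (seq n).1 := fun n => hnxt n (seq n)
  obtain ⟨t, ht⟩ := exists_section M W (fun n => (seq n).1) hseq
  refine ⟨t, ?_⟩
  apply section_ext
  intro n
  rw [π_restrict, ht]
  exact (seq n).2

open CategoryTheory CategoryTheory.Limits TopologicalSpace Opposite in
/-- Let X be a topological space and (M_n)_{n ≥ 0} an inverse system of abelian sheaves on X indexed by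
the natural numbers, such that every M_n is flasque and every transition map M_{n+1} ⟶ M_n is an
epimorphism of sheaves with flasque kernel. Then the limit sheaf lim_n M_n is flasque. (The source's
statement is about flasque de Rham–Witt systems on a scheme, whose definition is exactly this
condition on the underlying tower of abelian sheaves; the additional structure plays no role in the
assertion or its proof, so the row is stated for towers of abelian sheaves on any space.) -/
theorem result {X : TopCat.{u}} (M : ℕᵒᵖ ⥤ CohTop.Ab X) :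
    (∀ n : ℕ, TopCat.Sheaf.IsFlasque (M.obj (op n))) →
      (∀ n : ℕ, Epi (M.map (homOfLE (Nat.le_succ n)).op)) →
      (∀ n : ℕ, TopCat.Sheaf.IsFlasque (kernel (M.map (homOfLE (Nat.le_succ n)).op) : CohTop.Ab X)) →
      TopCat.Sheaf.IsFlasque (limit M : CohTop.Ab X) := by
  intro h1 e1 k1
  constructor
  intro U V i
  obtain ⟨W⟩ := U
  obtain ⟨V'⟩ := V
  exact (AddCommGrpCat.epi_iff_surjective _).2 (sectionwise M h1 e1 k1 i)

end Groth.Agent.S19246
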