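import Groth.Statements.S19247
import Groth.Agent.Lib.TowerLimSections

set_option autoImplicit false
universe u
open CohTop

namespace Groth.Agent.S19247

open CategoryTheory CategoryTheory.Limits TopologicalSpace Opposite Groth.Agent.Lib.TowerLimSections

lemma nat_apply {X : TopCat.{u}} {M N : ℕᵒᵖ ⥤ CohTop.Ab X} (φ : M ⟶ N) (n : ℕ) (U : Opens X)
    (x : (M.obj (op (n + 1))).obj.obj (op U)) :
    (φ.app (op n)).hom.app (op U) (tr M n U x) =
      tr N n U ((φ.app (op (n + 1))).hom.app (op U) x) := by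
  have h := φ.naturality (homOfLE (Nat.le_succ n)).op
  have h2 := congrArg (fun ψ => ψ.hom.app (op U)) h
  exact ConcreteCategory.congr_hom h2 x

lemma sectionwise {X : TopCat.{u}}
    (S : ShortComplex (ℕᵒᵖ ⥤ CohTop.Ab X)) (hS : S.ShortExact)
    (h1 : ∀ n : ℕ, TopCat.Sheaf.IsFlasque (S.X₁.obj (op n)))
    (k1 : ∀ n : ℕ, Epi (S.X₁.map (homOfLE (Nat.le_succ n)).op) ∧
      TopCat.Sheaf.IsFlasque (kernel (S.X₁.map (homOfLE (Nat.le_succ n)).op) : CohTop.Ab X))
    (U : Opens X) : Function.Surjective ((limMap S.g).hom.app (op U)) := by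
  intro c
  have hSn : ∀ n : ℕ, (S.map ((evaluation ℕᵒᵖ (CohTop.Ab X)).obj (op n))).ShortExact :=
    fun n => hS.map_of_exact _
  have hg : ∀ n : ℕ, Function.Surjective ((S.g.app (op n)).hom.app (op U)) := by
    intro n
    have : TopCat.Sheaf.IsFlasque
        (S.map ((evaluation ℕᵒᵖ (CohTop.Ab X)).obj (op n))).X₁ := h1 n
    have := TopCat.Sheaf.IsFlasque.epi_of_shortExact (U := U) (hSn n)
    exact (AddCommGrpCat.epi_iff_surjective _).1 this
  have hex : ∀ (n : ℕ) (x : (S.X₂.obj (op n)).obj.obj (op U)),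
      (S.g.app (op n)).hom.app (op U) x = 0 →
        ∃ y : (S.X₁.obj (op n)).obj.obj (op U), (S.f.app (op n)).hom.app (op U) y = x := by
    intro n x hx
    exact TopCat.Sheaf.sections_exact_of_left_exact (U := U) (hSn n).exact (hSn n).mono_f x hx
  have hfg : ∀ (n : ℕ) (y : (S.X₁.obj (op n)).obj.obj (op U)),
      (S.g.app (op n)).hom.app (op U) ((S.f.app (op n)).hom.app (op U) y) = 0 := by
    intro n y
    have h := congrArg (fun ψ => (ψ.app (op n)).hom.app (op U)) S.zero
    exact ConcreteCategory.congr_hom h y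
  have htr : ∀ n : ℕ, Function.Surjective (tr S.X₁ n U) := by
    intro n
    have := (k1 n).1
    exact surjective_of_epi_of_flasque_kernel _ (k1 n).2 U
  let cn : ∀ n : ℕ, (S.X₃.obj (op n)).obj.obj (op U) :=
    fun n => (limit.π S.X₃ (op n)).hom.app (op U) c
  have hcn : ∀ n, tr S.X₃ n U (cn (n + 1)) = cn n := fun n => π_compat S.X₃ U c n
  have step : ∀ (n : ℕ) (b : {b : (S.X₂.obj (op n)).obj.obj (op U) //
      (S.g.app (op n)).hom.app (op U) b = cn n}),
      ∃ b' : {b : (S.X₂.obj (op (n + 1))).obj.obj (op U) //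
        (S.g.app (op (n + 1))).hom.app (op U) b = cn (n + 1)}, tr S.X₂ n U b'.1 = b.1 := by
    rintro n ⟨b, hb⟩
    obtain ⟨b1, hb1⟩ := hg (n + 1) (cn (n + 1))
    have h0 : (S.g.app (op n)).hom.app (op U) (tr S.X₂ n U b1 - b) = 0 := by
      rw [map_sub, nat_apply, hb1, hcn, hb, sub_self]
    obtain ⟨a, ha⟩ := hex n _ h0
    obtain ⟨a', ha'⟩ := htr n a
    refine ⟨⟨b1 - (S.f.app (op (n + 1))).hom.app (op U) a', ?_⟩, ?_⟩
    · rw [map_sub, hb1, hfg, sub_zero]
    · change tr S.X₂ n U (b1 - (S.f.app (op (n + 1))).hom.app (op U) a') = b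
      rw [map_sub, ← nat_apply, ha', ha]
      abel
  choose nxt hnxt using step
  obtain ⟨b0, hb0⟩ := hg 0 (cn 0)
  let seq : ∀ n : ℕ, {b : (S.X₂.obj (op n)).obj.obj (op U) //
      (S.g.app (op n)).hom.app (op U) b = cn n} :=
    fun n => Nat.rec ⟨b0, hb0⟩ (fun n b => nxt n b) n
  have hseq : ∀ n, tr S.X₂ n U (seq (n + 1)).1 = (seq n).1 := fun n => hnxt n (seq n)
  obtain ⟨t, ht⟩ := exists_section S.X₂ U (fun n => (seq n).1) hseq
  refine ⟨t, ?_⟩
  apply section_ext
  intro n
  rw [limMap_π_apply, ht]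
  exact (seq n).2

open CategoryTheory CategoryTheory.Limits TopologicalSpace Opposite in
/-- Let X be a topological space and S : 0 ⟶ M' ⟶ M ⟶ M'' ⟶ 0 a short exact sequence of ℕ-indexed
inverse systems of abelian sheaves on X (short exact in the abelian category of such systems, i.e.
levelwise), such that each of M', M, M'' is a flasque tower: every term is flasque and every
transition map is an epimorphism of sheaves with flasque kernel. Then the induced map lim M ⟶ lim
M'' is an epimorphism of sheaves, so that, lim being left exact, the sequence 0 ⟶ lim M' ⟶ lim M ⟶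
lim M'' ⟶ 0 is exact. (The source's statement is the exactness of lim on flasque de Rham–Witt
systems on a scheme; the de Rham–Witt structure plays no role, so the row is stated for towers of
abelian sheaves on any space.) -/
theorem result {X : TopCat.{u}}
    (S : ShortComplex (ℕᵒᵖ ⥤ CohTop.Ab X)) (hS : S.ShortExact) :
    (∀ n : ℕ, TopCat.Sheaf.IsFlasque (S.X₁.obj (op n))) →
      (∀ n : ℕ, Epi (S.X₁.map (homOfLE (Nat.le_succ n)).op)) →
      (∀ n : ℕ, TopCat.Sheaf.IsFlasque (kernel (S.X₁.map (homOfLE (Nat.le_succ n)).op) : CohTop.Ab X)) →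
    (∀ n : ℕ, TopCat.Sheaf.IsFlasque (S.X₂.obj (op n))) →
      (∀ n : ℕ, Epi (S.X₂.map (homOfLE (Nat.le_succ n)).op)) →
      (∀ n : ℕ, TopCat.Sheaf.IsFlasque (kernel (S.X₂.map (homOfLE (Nat.le_succ n)).op) : CohTop.Ab X)) →
    (∀ n : ℕ, TopCat.Sheaf.IsFlasque (S.X₃.obj (op n))) →
      (∀ n : ℕ, Epi (S.X₃.map (homOfLE (Nat.le_succ n)).op)) →
      (∀ n : ℕ, TopCat.Sheaf.IsFlasque (kernel (S.X₃.map (homOfLE (Nat.le_succ n)).op) : CohTop.Ab X)) →
      Epi (limMap S.g) := by
  intro h1 e1 k1 _ _ _ _ _ _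
  apply epi_of_sectionwise_surjective
  intro U
  exact sectionwise S hS h1 (fun n => ⟨e1 n, k1 n⟩) U

end Groth.Agent.S19247
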