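import Groth.Statements.S1925
import Groth.Agent.S1923
import Groth.Agent.S1907

set_option autoImplicit false
universe u
open CategoryTheory AlgebraicGeometry
open Cyc

namespace Groth.Agent.S1925

open Groth.Agent.Lib.LocFact82 Groth.Agent.Lib.LenQuotFormula

theorem cast_finsum_mem {ι : Type*} (s : Set ι) (g : ι → ℕ) :
    ((∑ᶠ i ∈ s, g i : ℕ) : ℤ) = ∑ᶠ i ∈ s, (g i : ℤ) := by
  have h := (Nat.castAddMonoidHom ℤ).map_finsum_of_injective Nat.cast_injective
    (fun i => ∑ᶠ (_ : i ∈ s), g i)
  simp only [Nat.coe_castAddMonoidHom] at h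
  rw [h]
  refine finsum_congr fun i => ?_
  by_cases hi : i ∈ s <;> simp [hi]

theorem finsum_eq_finsum_subtype {α M : Type*} [AddCommMonoid M] (F : α → M) (P : α → Prop)
    (h : ∀ a, ¬ P a → F a = 0) : ∑ᶠ a, F a = ∑ᶠ a : {a // P a}, F a.1 := by
  classical
  rw [finsum_subtype_eq_finsum_cond (f := F) P]
  refine finsum_congr fun a => ?_
  rw [finsum_eq_if]
  by_cases ha : P a
  · rw [if_pos ha]
  · rw [if_neg ha, h a ha]

/-- the order of the rational section induced by a global section `s`, in terms of the local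
equation `f` of `s` at `x`. -/
theorem secOrdAt_mk_germ {X : Scheme.{u}} {L : X.Modules} (hL : PicF.IsInvertible L) (ξ x : X)
    (h : ξ ⤳ x) (s : L.presheaf.obj (Opposite.op ⊤))
    (ht : ∃ t : L.presheaf.stalk x, Submodule.span (X.presheaf.stalk x) {t} = ⊤)
    (f : X.presheaf.stalk x) (hf : (L.presheaf.germ ⊤ x trivial) s = f • Classical.choose ht) :
    Cyc.secOrdAt L ξ x h (Submodule.Quotient.mk ((L.presheaf.germ ⊤ ξ trivial) s)) =
      Cyc.ordAt x ξ h (Cyc.specMap x ξ h f) := by
  have htspec := Classical.choose_spec ht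
  have bij := Groth.Agent.S1923.bijective_smul_stalkSpecializes hL h (Classical.choose ht) htspec
  have hgerm : (L.presheaf.stalkSpecializes h) ((L.presheaf.germ ⊤ x trivial) s) =
      (L.presheaf.germ ⊤ ξ trivial) s :=
    ConcreteCategory.congr_hom (L.presheaf.germ_stalkSpecializes (U := ⊤) trivial h) s
  have h1 : (L.presheaf.germ ⊤ ξ trivial) s =
      (X.presheaf.stalkSpecializes h f) •
        (L.presheaf.stalkSpecializes h) (Classical.choose ht) := by
    rw [← hgerm, hf, Groth.Agent.Lib.GenericFree.stalkSpecializes_smul]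
  have hφ : ∃ φ : X.presheaf.stalk ξ,
      (Submodule.Quotient.mk ((L.presheaf.germ ⊤ ξ trivial) s) : Cyc.secFibre L ξ) =
      φ • (Submodule.Quotient.mk ((L.presheaf.stalkSpecializes h) (Classical.choose ht)) :
        Cyc.secFibre L ξ) := by
    refine ⟨X.presheaf.stalkSpecializes h f, ?_⟩
    rw [← Submodule.Quotient.mk_smul]
    exact congrArg _ h1
  obtain ⟨φ, hφs, hL1⟩ := Groth.Agent.S1923.secOrdAt_eq L ξ x h _ ht hφ
  rw [hL1]
  congr 1
  -- `φ - sp f ∈ 𝔪_ξ`
  rw [← Submodule.Quotient.mk_smul, Submodule.Quotient.eq, h1, ← sub_smul] at hφs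
  let e : X.presheaf.stalk ξ →ₗ[X.presheaf.stalk ξ] L.presheaf.stalk ξ :=
    LinearMap.toSpanSingleton _ _ ((L.presheaf.stalkSpecializes h) (Classical.choose ht))
  have he : ∀ a, e a = a • (L.presheaf.stalkSpecializes h) (Classical.choose ht) := fun a => rfl
  have hsurj : Function.Surjective e := bij.2
  have hinj : Function.Injective e := bij.1
  have htop : IsLocalRing.maximalIdeal (X.presheaf.stalk ξ) •
      (⊤ : Submodule (X.presheaf.stalk ξ) (L.presheaf.stalk ξ)) =
      Submodule.map e (IsLocalRing.maximalIdeal (X.presheaf.stalk ξ)) := by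
    rw [← LinearMap.range_eq_top.mpr hsurj, LinearMap.range_eq_map, ← Submodule.map_smul'',
      smul_eq_mul, Ideal.mul_top]
  rw [htop, ← he] at hφs
  obtain ⟨a, ha, hae⟩ := hφs
  have hmem : X.presheaf.stalkSpecializes h f - φ ∈
      IsLocalRing.maximalIdeal (X.presheaf.stalk ξ) := by
    rw [← hinj hae]; exact ha
  have hres : X.residue ξ (X.presheaf.stalkSpecializes h f - φ) = 0 :=
    (IsLocalRing.residue_eq_zero_iff _).mpr hmem
  rw [map_sub, sub_eq_zero] at hres
  exact hres.symm


/-- Let L be an invertible O_Y-module and s a global section of L; assume δ ≤ k + 1 on Y, δ ≤ k on the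
zero locus of s, and multiplication by the germ of s injective on O_{Y,ξ} at the points ξ of
δ-dimension k. Writing [Y]_{k+1} = Σ n_i[Y_i] over the irreducible components of δ-dimension k + 1,
one has [Z(s)]_k = Σ n_i [Z(s|_{Y_i})]_k as k-cycles on Y; here the right side is computed as c_1(L)
∩ [Y]_{k+1} with the rational sections induced by s. Here L(ξ) = L_ξ/𝔪_ξ L_ξ is the space of
rational sections of L on the closure of ξ, div_{L|W}(s) and c_1(L) ∩ α are computed as coefficient
functions from chosen nonzero rational sections (Cyc.secDivFun, Cyc.c1CapFun), and results are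
compared up to rational equivalence for any cycles with those coefficients. A pair (X, δ) with
Cyc.IsSetup plays the role of a scheme locally of finite type over a fixed base with a dimension
function (X locally Noetherian with universally catenary local rings, δ a dimension function), and
Cyc.DeltaCompat records that the dimension function upstairs is the induced one. -/
theorem result (Y : Scheme.{u}) (δ : Y → ℤ) (hY : Cyc.IsSetup Y δ) (L : Y.Modules) (hL : PicF.IsInvertible L) (k : ℤ) (hdim : ∀ y : Y, δ y ≤ k + 1) (s : L.presheaf.obj (Opposite.op ⊤)) (hZ : ∀ y : Y, (L.presheaf.germ ⊤ y trivial) s ∈ IsLocalRing.maximalIdeal (Y.presheaf.stalk y) • (⊤ : Submodule (Y.presheaf.stalk y) (L.presheaf.stalk y)) → δ y ≤ k) (hreg : ∀ y : Y, δ y = k → Function.Injective (fun a : Y.presheaf.stalk y => a • (L.presheaf.germ ⊤ y trivial) s)) : Cyc.zeroSectionFun δ k L s = Cyc.c1CapFun δ L (Cyc.subschemeFun δ (k + 1) (𝟙 Y)) (fun ξ => Submodule.Quotient.mk ((L.presheaf.germ ⊤ ξ trivial) s)) := by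
  classical
  obtain ⟨hNoeth, _, hdimfun⟩ := hY
  haveI := hNoeth
  funext x
  have hc1 : ∀ (α : Y → ℤ) (v : (ξ : Y) → Cyc.secFibre L ξ),
      Cyc.c1CapFun δ L α v x = ∑ᶠ ξ : Y, α ξ * Cyc.secDivFun δ L ξ (v ξ) x := fun _ _ => rfl
  rw [hc1]
  by_cases hk : δ x = k
  · -- generator of `L_x`
    obtain ⟨m, hm⟩ := Groth.Agent.Lib.H90PushStalkLocal.exists_stalk_bijective_of_isInvertible hL x
    have ht : ∃ t : L.presheaf.stalk x, Submodule.span (Y.presheaf.stalk x) {t} = ⊤ := by
      refine ⟨m, ?_⟩
      rw [eq_top_iff]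
      intro y _
      obtain ⟨a, ha⟩ := hm.2 y
      exact Submodule.mem_span_singleton.mpr ⟨a, ha⟩
    have htspec := Classical.choose_spec ht
    have hf : ∃ f : Y.presheaf.stalk x,
        (L.presheaf.germ ⊤ x trivial) s = f • Classical.choose ht := by
      have hmem : (L.presheaf.germ ⊤ x trivial) s ∈
          Submodule.span (Y.presheaf.stalk x) {Classical.choose ht} := by rw [htspec]; trivial
      obtain ⟨a, ha⟩ := Submodule.mem_span_singleton.mp hmem
      exact ⟨a, ha.symm⟩
    obtain ⟨f, hfs, hR1⟩ := Groth.Agent.S1923.zeroSectionFun_eq δ k L s x hk ht hf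
    rw [hR1]
    -- `f` is a nonzerodivisor
    have hnzd : ∀ a : Y.presheaf.stalk x, a * f = 0 → a = 0 := by
      intro a ha
      apply hreg x hk
      simp only
      rw [hfs, ← mul_smul, ha, zero_smul, zero_smul]
    have hker : LinearMap.ker (LinearMap.lsmul (Y.presheaf.stalk x) (Y.presheaf.stalk x) f) = ⊥ := by
      rw [eq_bot_iff]
      intro a ha
      rw [LinearMap.mem_ker, LinearMap.lsmul_apply, smul_eq_mul, mul_comm] at ha
      exact (Submodule.mem_bot _).mpr (hnzd a ha)
    -- points `ζ ⤳ x`, `ζ ≠ x`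
    have hgen : ∀ ζ : Y, ζ ⤳ x → ζ ≠ x → δ ζ = k + 1 := by
      intro ζ h hne
      have h1 := (hdimfun ζ x h hne).1
      have h2 := hdim ζ
      omega
    have hfmem : ∀ ζ : Y, ∀ h : ζ ⤳ x, ζ ≠ x → f ∉ genPrime Y h := by
      intro ζ h hne hmem
      have h1 := hgen ζ h hne
      have h2 : δ ζ ≤ k := by
        apply hZ ζ
        have hgerm : (L.presheaf.stalkSpecializes h) ((L.presheaf.germ ⊤ x trivial) s) =
            (L.presheaf.germ ⊤ ζ trivial) s :=
          ConcreteCategory.congr_hom (L.presheaf.germ_stalkSpecializes (U := ⊤) trivial h) s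
        rw [← hgerm, hfs, Groth.Agent.Lib.GenericFree.stalkSpecializes_smul]
        exact Submodule.smul_mem_smul hmem Submodule.mem_top
      omega
    have hG : Good f (Y.presheaf.stalk x) := by
      constructor
      · intro q _ q' _ hlt
        by_contra hne
        obtain ⟨ζ, h, hζ⟩ := exists_genPrime_eq Y x q.asIdeal
        obtain ⟨ζ', h', hζ'⟩ := exists_genPrime_eq Y x q'.asIdeal
        have hζx : ζ ≠ x := fun e => hne (hζ ▸ Groth.Agent.S1907.genPrime_eq_maximalIdeal h e)
        have hle : genPrime Y h' ≤ genPrime Y h := by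
          rw [hζ, hζ']; exact hlt.le
        have hsp := Groth.Agent.S1907.specializes_of_genPrime_le h h' hle
        have hζζ' : ζ' ≠ ζ := by
          intro e
          subst e
          have : q'.asIdeal = q.asIdeal := by rw [← hζ, ← hζ']
          exact hlt.ne (PrimeSpectrum.ext this)
        have h1 := (hdimfun ζ' ζ hsp hζζ').1
        have h2 := hgen ζ h hζx
        have h3 := hdim ζ'
        omega
      · intro q _ hfq
        by_contra hne
        obtain ⟨ζ, h, hζ⟩ := exists_genPrime_eq Y x q.asIdeal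
        have hζx : ζ ≠ x := fun e => hne (hζ ▸ Groth.Agent.S1907.genPrime_eq_maximalIdeal h e)
        exact hfmem ζ h hζx (hζ ▸ hfq)
    have hform := Groth.Agent.S1907.toNat_length_formula f hG hker
    rw [hform, cast_finsum_mem]
    -- reindex the right hand side
    rw [finsum_eq_finsum_subtype _ (fun ξ => ξ ≠ x)]
    swap
    · intro a ha
      have hax : a = x := not_not.mp ha
      subst hax
      unfold Cyc.secDivFun
      rw [dif_neg (fun h => by omega), mul_zero]
    symm
    refine Groth.Agent.S1907.reindex x (fun ξ => ξ ≠ x) _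
      (fun q => ((ellq (Y.presheaf.stalk x) q).toNat : ℤ) * ((c f q).toNat : ℤ) ) ?_ ?_ ?_ ?_ |>.trans ?_
    · intro ξ h
      have hδξ := hgen ξ.1 h ξ.2
      have h1 : Cyc.subschemeFun δ (k + 1) (𝟙 Y) ξ.1 =
          ((Module.length (Y.presheaf.stalk ξ.1) (Y.presheaf.stalk ξ.1)).toNat : ℤ) := by
        unfold Cyc.subschemeFun
        rw [if_pos hδξ]
        have hset : {z : Y | (𝟙 Y : Y ⟶ Y) z = ξ.1} = {ξ.1} := by
          ext z
          simp
        rw [hset, finsum_mem_singleton]
      have h2 : Cyc.secDivFun δ L ξ.1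
          (Submodule.Quotient.mk ((L.presheaf.germ ⊤ ξ.1 trivial) s)) x =
          ((c f (⟨genPrime Y h, inferInstance⟩ : PrimeSpectrum (Y.presheaf.stalk x))).toNat : ℤ) := by
        unfold Cyc.secDivFun
        rw [dif_pos ⟨h, by omega⟩, secOrdAt_mk_germ hL ξ.1 x h s ht f hfs]
        have hfne : Cyc.specMap x ξ.1 h f ≠ 0 := by
          intro h0
          apply hfmem ξ.1 h ξ.2
          rw [← Groth.Agent.S1907.ker_specMap_eq_genPrime]
          exact RingHom.mem_ker.mpr h0
        have h1ne : Cyc.specMap x ξ.1 h 1 ≠ 0 := by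
          rw [map_one]; exact one_ne_zero
        have := Groth.Agent.S1907.ordAt_eq hdimfun x ξ.1 h (by omega) f 1 hfne h1ne
        rw [map_one, div_one] at this
        rw [this]
        have hc1 : c (1 : Y.presheaf.stalk x)
            (⟨genPrime Y h, inferInstance⟩ : PrimeSpectrum (Y.presheaf.stalk x)) = 0 := by
          unfold c
          rw [map_one]
          exact Ring.ord_one _
        rw [hc1]
        simp
      rw [h1, h2, Groth.Agent.S1907.ellq_genPrime]
    · intro ξ hns
      unfold Cyc.secDivFun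
      rw [dif_neg (fun h => hns h.1), mul_zero]
    · intro ξ
      exact ξ.2
    · intro ζ _ hne
      exact hne
    · refine finsum_mem_congr rfl fun q _ => ?_
      push_cast
      ring
  · -- `δ x ≠ k`
    have hL0 : Cyc.zeroSectionFun δ k L s x = 0 := by
      unfold Cyc.zeroSectionFun
      rw [if_neg hk]
    rw [hL0]
    symm
    refine finsum_eq_zero_of_forall_eq_zero fun ξ => ?_
    by_cases hξ : δ ξ = k + 1
    · unfold Cyc.secDivFun
      rw [dif_neg (fun h => hk (by omega)), mul_zero]
    · unfold Cyc.subschemeFun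
      rw [if_neg hξ, zero_mul]

end Groth.Agent.S1925
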