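import Groth.Statements.S19258
import Mathlib.Algebra.Category.Grp.Injective
import Mathlib.Topology.Instances.AddCircle.Defs
import Mathlib.GroupTheory.QuotientGroup.Basic

set_option autoImplicit false
universe u
open PontDual

namespace Groth.Agent.S19258

lemma torsion_eq (n : ℕ) (hn : 0 < n) (u : AddCircle (1 : ℚ)) (hu : n • u = 0) :
    ∃ m : ℤ, u = m • ((((1 : ℚ) / n : ℚ)) : AddCircle (1 : ℚ)) := by
  obtain ⟨q, rfl⟩ := QuotientAddGroup.mk_surjective u
  have h1 : ((n • q : ℚ) : AddCircle (1 : ℚ)) = 0 := hu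
  rw [AddCircle.coe_eq_zero_iff] at h1
  obtain ⟨m, hm⟩ := h1
  refine ⟨m, ?_⟩
  have h2 : q = m • ((1 : ℚ) / n) := by
    have hn' : (n : ℚ) ≠ 0 := by exact_mod_cast hn.ne'
    simp only [zsmul_eq_mul, nsmul_eq_mul, mul_one] at hm ⊢
    field_simp
    linarith
  rw [h2]
  rfl

lemma one_char {G : Type u} [AddCommGroup G] (ψ χ : G →+ AddCircle (1 : ℚ)) (n : ℕ) (hn : 0 < n)
    (hψ : ∀ x, n • ψ x = 0) (h : ∀ x, ψ x = 0 → χ x = 0) : ∃ a : ℤ, ∀ x, χ x = a • ψ x := by
  let φ : G ⧸ ψ.ker →+ AddCircle (1 : ℚ) := QuotientAddGroup.lift ψ.ker χ (fun x hx => h x hx)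
  obtain ⟨θ, hθ⟩ := (Module.Baer.of_divisible (AddCircle (1 : ℚ))).extension_property_addMonoidHom
    (QuotientAddGroup.kerLift ψ) (QuotientAddGroup.kerLift_injective ψ) φ
  have hχ : ∀ x, χ x = θ (ψ x) := by
    intro x
    have := DFunLike.congr_fun hθ (x : G ⧸ ψ.ker)
    exact this.symm
  let g : AddCircle (1 : ℚ) := (((1 : ℚ) / n : ℚ) : AddCircle (1 : ℚ))
  have hg : n • g = 0 := by
    have hn' : (n : ℚ) ≠ 0 := by exact_mod_cast hn.ne'
    change ((n • ((1 : ℚ) / n) : ℚ) : AddCircle (1 : ℚ)) = 0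
    rw [AddCircle.coe_eq_zero_iff]
    refine ⟨1, ?_⟩
    simp only [one_smul, nsmul_eq_mul]
    field_simp
  obtain ⟨a, ha⟩ := torsion_eq n hn (θ g) (by rw [← map_nsmul, hg, map_zero])
  refine ⟨a, fun x => ?_⟩
  obtain ⟨m, hm⟩ := torsion_eq n hn (ψ x) (hψ x)
  rw [hχ, hm, map_zsmul, ha, smul_smul, smul_smul, mul_comm]

/-- restriction of characters to a subgroup -/
def resHom {G : Type u} [AddCommGroup G] (H : AddSubgroup G) :
    (G →+ AddCircle (1 : ℚ)) →+ (H →+ AddCircle (1 : ℚ)) where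
  toFun ψ := ψ.comp H.subtype
  map_zero' := rfl
  map_add' _ _ := rfl

lemma finite_case {G' : Type u} [AddCommGroup G'] (hG' : IsAddTorsion G') (T : Finset G') :
    ∀ (G : Type u) [AddCommGroup G] (β : G' →+ (G →+ AddCircle (1 : ℚ)))
      (χ : G →+ AddCircle (1 : ℚ)),
      (∀ x, (∀ f ∈ T, β f x = 0) → χ x = 0) → ∃ f' : G', β f' = χ := by
  classical
  induction T using Finset.induction_on with
  | empty =>
    intro G _ β χ h
    refine ⟨0, ?_⟩
    ext x
    rw [map_zero]
    exact (h x (by simp)).symm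
  | insert f T hf ih =>
    intro G _ β χ h
    let H : AddSubgroup G := (β f).ker
    obtain ⟨f₁, hf₁⟩ := ih H ((resHom H).comp β) (χ.comp H.subtype) (by
      intro x hx
      apply h
      intro f' hf'
      rw [Finset.mem_insert] at hf'
      rcases hf' with rfl | hf'
      · exact x.2
      · exact hx f' hf')
    have hf₁' : ∀ x : G, β f x = 0 → (χ - β f₁) x = 0 := by
      intro x hx
      have := DFunLike.congr_fun hf₁ (⟨x, hx⟩ : H)
      change β f₁ x = χ x at this
      rw [AddMonoidHom.sub_apply, this, sub_self]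
    obtain ⟨n, hn, hn'⟩ := (hG' f).exists_nsmul_eq_zero
    obtain ⟨a, ha⟩ := one_char (β f) (χ - β f₁) n hn (by
      intro x
      rw [← AddMonoidHom.nsmul_apply, ← map_nsmul, hn', map_zero, AddMonoidHom.zero_apply]) hf₁'
    refine ⟨f₁ + a • f, ?_⟩
    ext x
    have := ha x
    rw [AddMonoidHom.sub_apply, sub_eq_iff_eq_add] at this
    rw [this, map_add, map_zsmul, AddMonoidHom.add_apply, AddMonoidHom.zsmul_apply, add_comm]

lemma topological (G : Type u) (G' : Type u) [AddCommGroup G] [AddCommGroup G']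
    (β : G' →+ (G →+ AddCircle (1 : ℚ))) (χ : G →+ AddCircle (1 : ℚ))
    (hχ : @Continuous G (AddCircle (1 : ℚ))
      (⨅ f' : G', TopologicalSpace.induced (fun x : G => β f' x) ⊥) ⊥ χ) :
    ∃ T : Finset G', ∀ x, (∀ f ∈ T, β f x = 0) → χ x = 0 := by
  classical
  let τ : TopologicalSpace G := ⨅ f' : G', TopologicalSpace.induced (fun x : G => β f' x) ⊥
  have hopen : @IsOpen G τ (χ ⁻¹' {0}) :=
    @IsOpen.preimage G (AddCircle (1 : ℚ)) τ ⊥ χ hχ {0} (by trivial)
  have hmem : χ ⁻¹' {0} ∈ @nhds G τ 0 := by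
    let _ := τ
    exact IsOpen.mem_nhds hopen (by simp)
  have hb : @nhds (AddCircle (1 : ℚ)) ⊥ = pure := @nhds_discrete (AddCircle (1 : ℚ)) ⊥ (@DiscreteTopology.mk _ ⊥ rfl)
  rw [nhds_iInf] at hmem
  simp_rw [nhds_induced, hb] at hmem
  rw [Filter.mem_iInf] at hmem
  obtain ⟨I, hI, V, hV, hU⟩ := hmem
  refine ⟨hI.toFinset, fun x hx => ?_⟩
  have : x ∈ χ ⁻¹' {0} := by
    rw [hU]
    rw [Set.mem_iInter]
    intro i
    have hi := hV i
    rw [Filter.mem_comap] at hi
    obtain ⟨t, ht, hts⟩ := hi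
    apply hts
    rw [Set.mem_preimage]
    have h0 : β i x = 0 := hx i (by simp)
    rw [h0]
    have : (β (i : G')) 0 ∈ t := ht
    rwa [map_zero] at this
  exact this


/-- Let G and G' be abelian groups such that every element of G' has finite order, and let β : G' →
Hom(G, ℚ/ℤ) be an injective homomorphism (equivalently a pairing G' × G → ℚ/ℤ with no left kernel).
Endow G with the weak topology defined by G': the coarsest topology for which every character β(f),
f ∈ G', is continuous when ℚ/ℤ carries the discrete topology. Then every homomorphism χ : G → ℚ/ℤ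
that is continuous for this topology on G and the discrete topology on ℚ/ℤ equals β(f) for some f ∈
G', so that β is a bijection from G' onto the group of continuous characters of G. -/
theorem result
    (G : Type u) (G' : Type u) [AddCommGroup G] [AddCommGroup G'] (hG' : IsAddTorsion G')
    (β : G' →+ (G →+ AddCircle (1 : ℚ))) (hβ : Function.Injective β)
    (χ : G →+ AddCircle (1 : ℚ))
    (hχ : @Continuous G (AddCircle (1 : ℚ)) (⨅ f' : G', TopologicalSpace.induced (fun x : G => β f' x) ⊥) ⊥ χ) :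
    ∃ f' : G', β f' = χ := by
  obtain ⟨T, hT⟩ := topological G G' β χ hχ
  exact finite_case hG' T G β χ hT

end Groth.Agent.S19258
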