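import Mathlib
import Groth.Statements.S19272

set_option autoImplicit false
universe u
open WittFil

namespace Groth.Agent.S19272

section Helpers

theorem key {A B : Type u} [CommRing A] [IsDomain A]
    [UniqueFactorizationMonoid A] [CommRing B] [Algebra A B] {r : ℕ} (x : Fin r → A)
    (hx : ∀ i, Prime (x i)) (hxa : ∀ i j, Associated (x i) (x j) → i = j)
    [IsLocalization.Away (∏ i, x i) B] (u : Fin r → Bˣ)
    (hu : ∀ i, (u i : B) = algebraMap A B (x i)) (n : Fin r → ℤ) (hn : ∀ i, n i < 0)
    (y : B) (N : ℕ) (hN : 0 < N)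
    (hy : y ^ N * WittFil.zmon u n ∈ (algebraMap A B).range) :
    ∃ b : A, y = algebraMap A B ((∏ i, x i) * b) := by
  classical
  obtain ⟨a', ha'⟩ := hy
  set π : A := ∏ i, x i with hπ
  have hπ0 : π ≠ 0 := Finset.prod_ne_zero_iff.2 (fun i _ => (hx i).ne_zero)
  let K := FractionRing A
  -- the exponents
  set k : Fin r → ℕ := fun i => (-(n i)).toNat with hk
  have hk1 : ∀ i, 1 ≤ k i := by
    intro i
    have := hn i
    simp only [hk]
    omega
  have hkn : ∀ i, n i + (k i : ℤ) = 0 := by
    intro i
    have := hn i
    simp only [hk]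
    omega
  set d : A := ∏ i, x i ^ k i with hd
  have hcd : WittFil.zmon u n * algebraMap A B d = 1 := by
    have h1 : algebraMap A B d = ((∏ i, u i ^ (k i : ℤ) : Bˣ) : B) := by
      rw [hd, map_prod, Units.coe_prod]
      refine Finset.prod_congr rfl (fun i _ => ?_)
      rw [map_pow, ← hu i, zpow_natCast, Units.val_pow_eq_pow_val]
    rw [h1, WittFil.zmon, ← Units.val_mul, ← Finset.prod_mul_distrib]
    have : ∀ i ∈ (Finset.univ : Finset (Fin r)), u i ^ n i * u i ^ (k i : ℤ) = 1 := by
      intro i _
      rw [← zpow_add, hkn i, zpow_zero]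
    rw [Finset.prod_congr rfl this, Finset.prod_const_one, Units.val_one]
  have hyN : y ^ N = algebraMap A B (a' * d) := by
    rw [map_mul, ha', mul_assoc, hcd, mul_one]
  -- the map to the fraction field
  have hg : ∀ z : Submonoid.powers π, IsUnit (algebraMap A K (z : A)) := by
    rintro ⟨z, m, rfl⟩
    rw [map_pow]
    exact (IsUnit.mk0 _ ((map_ne_zero_iff _ (IsFractionRing.injective A K)).2 hπ0)).pow m
  let ι : B →+* K := IsLocalization.lift (M := Submonoid.powers π) (S := B) hg
  have hι : ∀ a : A, ι (algebraMap A B a) = algebraMap A K a := fun a => IsLocalization.lift_eq hg a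
  have hAB : Function.Injective (algebraMap A B) :=
    IsLocalization.injective B (powers_le_nonZeroDivisors_of_noZeroDivisors hπ0)
  have hιinj : Function.Injective ι := by
    rw [IsLocalization.lift_injective_iff]
    intro a b
    rw [hAB.eq_iff, (IsFractionRing.injective A K).eq_iff]
  have hint : IsIntegral A ((ι y) ^ N) := by
    rw [← map_pow, hyN, hι]
    exact isIntegral_algebraMap
  obtain ⟨a0, ha0⟩ := IsIntegrallyClosed.exists_algebraMap_eq_of_isIntegral_pow (R := A) hN hint
  have h5 : a0 ^ N = a' * d := by
    apply IsFractionRing.injective A K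
    rw [map_pow, ha0, ← map_pow, hyN, hι]
  have h6 : ∀ i, x i ∣ a0 := by
    intro i
    have h1 : x i ∣ d := by
      rw [hd]
      exact (dvd_pow_self (x i) (by have := hk1 i; omega)).trans
        (Finset.dvd_prod_of_mem _ (Finset.mem_univ i))
    have h2 : x i ∣ a0 ^ N := h5 ▸ (h1.mul_left a')
    exact (hx i).dvd_of_dvd_pow h2
  have h7 : π ∣ a0 := by
    rw [hπ]
    refine Finset.prod_dvd_of_isRelPrime ?_ (fun i _ => h6 i)
    intro i _ j _ hij
    show IsRelPrime (x i) (x j)
    rw [(hx i).irreducible.isRelPrime_iff_not_dvd]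
    intro hdvd
    exact hij (hxa i j ((hx i).associated_of_dvd (hx j) hdvd))
  obtain ⟨b, hb⟩ := h7
  refine ⟨b, ?_⟩
  apply hιinj
  rw [hι, ← hb, ha0]

end Helpers

/-- Let A be a unique factorisation domain of characteristic p, x_1, …, x_r pairwise non-associate prime
elements of A, B = A[1/(x_1⋯x_r)] with u_i the unit of B defined by x_i, m ≥ 0, and n ∈ ℤ^r with n_i
< 0 for every i. Then every truncated p-typical Witt vector of length m over B lying in the filtered
piece cut out by ∏ u_i ^ n_i (every coordinate y_j has y_j ^ (p ^ (m−1−j)) · ∏ u_i ^ n_i in the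
image of A) has all its coordinates in the image of the ideal (x_1⋯x_r)·A. (The published item,
stated for the filtered de Rham–Witt pieces in all degrees over a regular local ring, says only that
such vectors have all coordinates in A; this row states the divisibility of every coordinate by
x_1⋯x_r that its proof establishes, in degree zero, for a unique factorisation domain in place of a
regular local ring.) -/
theorem result (p : ℕ) [Fact p.Prime] {A B : Type u} [CommRing A] [IsDomain A]
    [UniqueFactorizationMonoid A] [CharP A p] [CommRing B] [Algebra A B] {r : ℕ} (x : Fin r → A)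
    (hx : ∀ i, Prime (x i)) (hxa : ∀ i j, Associated (x i) (x j) → i = j)
    [IsLocalization.Away (∏ i, x i) B] (u : Fin r → Bˣ)
    (hu : ∀ i, (u i : B) = algebraMap A B (x i)) (m : ℕ) (n : Fin r → ℤ) (hn : ∀ i, n i < 0)
    (a : TruncatedWittVector p m B) (ha : a ∈ WittFil.fil p m (A := A) (WittFil.zmon u n))
    (j : Fin m) :
    ∃ b : A, TruncatedWittVector.coeff j a = algebraMap A B ((∏ i, x i) * b) := by
  exact key x hx hxa u hu n hn _ (p ^ (m - 1 - (j : ℕ))) (pow_pos (Fact.out : p.Prime).pos _) (ha j)

end Groth.Agent.S19272
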