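import Mathlib
import Groth.Agent.S19272
import Groth.Statements.S19264

set_option autoImplicit false
universe u
open WittFil

namespace Groth.Agent.S19264

section Helpers

variable {A B : Type u} [CommRing A] [CommRing B] [Algebra A B] {r : ℕ}

lemma zmon_add (u : Fin r → Bˣ) (a b : Fin r → ℤ) :
    WittFil.zmon u (a + b) = WittFil.zmon u a * WittFil.zmon u b := by
  unfold WittFil.zmon
  rw [← Units.val_mul, ← Finset.prod_mul_distrib]
  congr 1
  exact Finset.prod_congr rfl (fun i _ => by rw [Pi.add_apply, zpow_add])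

lemma zmon_nsmul (u : Fin r → Bˣ) (k : ℕ) (a : Fin r → ℤ) :
    WittFil.zmon u (fun i => (k : ℤ) * a i) = (WittFil.zmon u a) ^ k := by
  unfold WittFil.zmon
  rw [← Units.val_pow_eq_pow_val, ← Finset.prod_pow]
  congr 1
  refine Finset.prod_congr rfl (fun i _ => ?_)
  show u i ^ ((k : ℤ) * a i) = (u i ^ a i) ^ k
  rw [mul_comm, zpow_mul, zpow_natCast]

lemma zmon_natCast (x : Fin r → A) (u : Fin r → Bˣ) (hu : ∀ i, (u i : B) = algebraMap A B (x i))
    (k : Fin r → ℕ) :
    WittFil.zmon u (fun i => (k i : ℤ)) = algebraMap A B (∏ i, x i ^ k i) := by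
  unfold WittFil.zmon
  rw [map_prod, Units.coe_prod]
  refine Finset.prod_congr rfl (fun i _ => ?_)
  rw [map_pow, ← hu i, zpow_natCast, Units.val_pow_eq_pow_val]

lemma zmon_neg_mul (u : Fin r → Bˣ) (a : Fin r → ℤ) :
    WittFil.zmon u (-a) * WittFil.zmon u a = 1 := by
  rw [← zmon_add, neg_add_cancel]
  unfold WittFil.zmon
  simp

theorem floor_lemma (p : ℕ) (hp : 0 < p) [IsDomain A] [UniqueFactorizationMonoid A] (x : Fin r → A)
    (hx : ∀ i, Prime (x i)) (hxa : ∀ i j, Associated (x i) (x j) → i = j)
    [IsLocalization.Away (∏ i, x i) B] (u : Fin r → Bˣ)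
    (hu : ∀ i, (u i : B) = algebraMap A B (x i)) (n : Fin r → ℤ) (w : B) :
    w ^ p * WittFil.zmon u n ∈ (algebraMap A B).range ↔
      w * WittFil.zmon u (fun i => n i / (p : ℤ)) ∈ (algebraMap A B).range := by
  have hp' : (0 : ℤ) < (p : ℤ) := by exact_mod_cast hp
  set q : Fin r → ℤ := fun i => n i / (p : ℤ) with hq
  set e : Fin r → ℕ := fun i => (n i % (p : ℤ)).toNat with he
  have hen : ∀ i, (e i : ℤ) = n i % (p : ℤ) := fun i => by
    simp only [he]
    exact Int.toNat_of_nonneg (Int.emod_nonneg _ hp'.ne')
  have hep : ∀ i, e i < p := fun i => by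
    have h1 := Int.emod_lt_of_pos (n i) hp'
    have h2 := hen i
    omega
  have hn : n = (fun i => (p : ℤ) * q i) + (fun i => (e i : ℤ)) := by
    funext i
    simp only [Pi.add_apply, hen i, hq]
    exact (Int.mul_ediv_add_emod (n i) p).symm
  have hzn : WittFil.zmon u n = (WittFil.zmon u q) ^ p * algebraMap A B (∏ i, x i ^ e i) := by
    conv_lhs => rw [hn]
    rw [zmon_add, zmon_nsmul, zmon_natCast x u hu]
  constructor
  · rintro ⟨t, ht⟩
    set z := w * WittFil.zmon u q with hz
    have hzp : z ^ p * algebraMap A B (∏ i, x i ^ e i) = algebraMap A B t := by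
      rw [ht, hzn, hz, mul_pow, mul_assoc]
    -- y = z * π
    set one : Fin r → ℤ := fun _ => 1 with hone
    have hπ : WittFil.zmon u one = algebraMap A B (∏ i, x i) := by
      have := zmon_natCast x u hu (fun _ => 1)
      simpa using this
    set n' : Fin r → ℤ := fun i => (e i : ℤ) - (p : ℤ) with hn'
    have hn'neg : ∀ i, n' i < 0 := fun i => by
      have := hep i
      simp only [hn']
      omega
    have hn'eq : n' = (fun i => (e i : ℤ)) + -(fun i => (p : ℤ) * one i) := by
      funext i
      simp [hn', hone, sub_eq_add_neg]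
    have hA : (WittFil.zmon u one) ^ p * WittFil.zmon u n' = algebraMap A B (∏ i, x i ^ e i) := by
      rw [hn'eq, zmon_add, zmon_natCast x u hu, ← zmon_nsmul]
      have h1 := zmon_neg_mul u (fun i => (p : ℤ) * one i)
      calc WittFil.zmon u (fun i => (p : ℤ) * one i) * (algebraMap A B (∏ i, x i ^ e i) *
              WittFil.zmon u (-(fun i => (p : ℤ) * one i)))
          = algebraMap A B (∏ i, x i ^ e i) * (WittFil.zmon u (-(fun i => (p : ℤ) * one i)) *
              WittFil.zmon u (fun i => (p : ℤ) * one i)) := by ring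
        _ = _ := by rw [h1, mul_one]
    have hy : (z * WittFil.zmon u one) ^ p * WittFil.zmon u n' ∈ (algebraMap A B).range := by
      refine ⟨t, ?_⟩
      rw [← hzp, mul_pow z (WittFil.zmon u one) p, mul_assoc (z ^ p), hA]
    obtain ⟨b, hb⟩ := Groth.Agent.S19272.key x hx hxa u hu n' hn'neg _ p hp hy
    refine ⟨b, ?_⟩
    rw [map_mul, ← hπ] at hb
    have hunit : IsUnit (WittFil.zmon u one) := by
      unfold WittFil.zmon
      exact Units.isUnit _
    rw [mul_comm (WittFil.zmon u one)] at hb
    exact (hunit.mul_left_injective hb).symm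
  · rintro ⟨t, ht⟩
    refine ⟨t ^ p * ∏ i, x i ^ e i, ?_⟩
    rw [map_mul, map_pow, ht, hzn, mul_pow, mul_assoc]

end Helpers

/-- Let A be a unique factorisation domain of characteristic p, x_1, …, x_r pairwise non-associate prime
elements of A, B = A[1/(x_1⋯x_r)] with u_i the unit of B defined by x_i, n ∈ ℤ^r and m ≥ 0. The
restriction map from truncated p-typical Witt vectors of length m+1 to those of length m over B
(forgetting the last coordinate) maps the filtered piece cut out by ∏ u_i ^ n_i onto the filtered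
piece cut out by ∏ u_i ^ ⌊n_i / p⌋; that is, the image is exactly that piece. (The other parts of
the exact sequence, injectivity of the (m-fold) Verschiebung from the fractional ideal generated by
(∏ u_i ^ n_i)⁻¹ and exactness in the middle, are immediate from the definition and are not restated.
The published setting is a regular local ring; only unique factorisation is used.) -/
theorem result (p : ℕ) [Fact p.Prime] {A B : Type u} [CommRing A] [IsDomain A]
    [UniqueFactorizationMonoid A] [CharP A p] [CommRing B] [Algebra A B] {r : ℕ} (x : Fin r → A)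
    (hx : ∀ i, Prime (x i)) (hxa : ∀ i j, Associated (x i) (x j) → i = j)
    [IsLocalization.Away (∏ i, x i) B] (u : Fin r → Bˣ)
    (hu : ∀ i, (u i : B) = algebraMap A B (x i)) (n : Fin r → ℤ) (m : ℕ) :
    (TruncatedWittVector.truncate (Nat.le_succ m)) '' WittFil.fil p (m + 1) (A := A) (WittFil.zmon u n) =
      WittFil.fil p m (A := A) (WittFil.zmon u (fun i => n i / (p : ℤ))) := by
  have hp : 0 < p := (Fact.out : p.Prime).pos
  have hfl := floor_lemma (A := A) p hp x hx hxa u hu n
  ext b
  constructor
  · rintro ⟨a, ha, rfl⟩ j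
    rw [TruncatedWittVector.coeff_truncate]
    have := ha (Fin.castLE (Nat.le_succ m) j)
    rw [← hfl]
    have hj : (j : ℕ) < m := j.2
    have hexp : m + 1 - 1 - ((Fin.castLE (Nat.le_succ m) j : Fin (m + 1)) : ℕ) = (m - 1 - (j : ℕ)) + 1 := by
      simp only [Fin.val_castLE]
      omega
    rw [hexp, pow_succ, pow_mul] at this
    exact this
  · intro hb
    refine ⟨TruncatedWittVector.mk p (fun i : Fin (m + 1) =>
      if h : (i : ℕ) < m then TruncatedWittVector.coeff ⟨i, h⟩ b else 0), ?_, ?_⟩
    · intro j
      rw [TruncatedWittVector.coeff_mk]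
      by_cases h : (j : ℕ) < m
      · rw [dif_pos h]
        have := (hfl _).2 (hb ⟨j, h⟩)
        have hexp : m + 1 - 1 - (j : ℕ) = (m - 1 - (j : ℕ)) + 1 := by omega
        rw [hexp, pow_succ, pow_mul]
        exact this
      · rw [dif_neg h]
        have hj : (j : ℕ) = m := by have := j.2; omega
        refine ⟨0, ?_⟩
        rw [map_zero, zero_pow (by positivity), zero_mul]
    · ext j
      rw [TruncatedWittVector.coeff_truncate, TruncatedWittVector.coeff_mk]
      have h : ((Fin.castLE (Nat.le_succ m) j : Fin (m + 1)) : ℕ) < m := by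
        simp only [Fin.val_castLE]; exact j.2
      rw [dif_pos h]
      congr 1

end Groth.Agent.S19264
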