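import Mathlib
import Groth.Agent.Lib.TeichMulCoeff27
import Groth.Agent.S19272
import Groth.Agent.S19264
import Groth.Statements.S19266

set_option autoImplicit false
universe u
open WittFil

namespace Groth.Agent.S19266

section Helpers

open Groth.Agent.Lib.TeichMulCoeff27 Groth.Agent.S19264

theorem mem_range_of_pow_mem {A B : Type u} [CommRing A] [IsDomain A]
    [UniqueFactorizationMonoid A] [CommRing B] [Algebra A B] {r : ℕ} (x : Fin r → A)
    (hx : ∀ i, Prime (x i)) (hxa : ∀ i j, Associated (x i) (x j) → i = j)
    [IsLocalization.Away (∏ i, x i) B] (u : Fin r → Bˣ)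
    (hu : ∀ i, (u i : B) = algebraMap A B (x i)) (z : B) (N : ℕ) (hN : 0 < N)
    (hz : z ^ N ∈ (algebraMap A B).range) : z ∈ (algebraMap A B).range := by
  set one : Fin r → ℤ := fun _ => 1 with hone
  have hπ : WittFil.zmon u one = algebraMap A B (∏ i, x i) := by
    have := zmon_natCast x u hu (fun _ => 1)
    simpa using this
  set n' : Fin r → ℤ := -(fun i => (N : ℤ) * one i) with hn'
  have hn'neg : ∀ i, n' i < 0 := fun i => by
    simp only [hn', hone, Pi.neg_apply, mul_one]
    omega
  have hy : (z * WittFil.zmon u one) ^ N * WittFil.zmon u n' ∈ (algebraMap A B).range := by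
    obtain ⟨t, ht⟩ := hz
    refine ⟨t, ?_⟩
    rw [ht, mul_pow, ← zmon_nsmul, mul_assoc, mul_comm (WittFil.zmon u _), hn', zmon_neg_mul, mul_one]
  obtain ⟨b, hb⟩ := Groth.Agent.S19272.key x hx hxa u hu n' hn'neg _ N hN hy
  refine ⟨b, ?_⟩
  rw [map_mul, ← hπ] at hb
  have hunit : IsUnit (WittFil.zmon u one) := by
    unfold WittFil.zmon
    exact Units.isUnit _
  rw [mul_comm (WittFil.zmon u one)] at hb
  exact (hunit.mul_left_injective hb).symm

end Helpers

/-- Let A be a unique factorisation domain of characteristic p, x_1, …, x_r pairwise non-associate prime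
elements of A, B = A[1/(x_1⋯x_r)] with u_i the unit of B defined by x_i, n ∈ ℤ^r, m ≥ 0 and c = ∏
u_i ^ n_i. A truncated p-typical Witt vector a of length m over B lies in the filtered piece cut out
by c ^ (p ^ (m-1)) if and only if all coordinates of the product a · [c] lie in A, where [c] denotes
the (truncated) Teichmüller representative of c; in other words that filtered piece is the
invertible module [c]⁻¹ · W_m(A). (Published for a regular local ring; only unique factorisation is
used.) -/
theorem result (p : ℕ) [Fact p.Prime] {A B : Type u} [CommRing A] [IsDomain A]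
    [UniqueFactorizationMonoid A] [CharP A p] [CommRing B] [Algebra A B] {r : ℕ} (x : Fin r → A)
    (hx : ∀ i, Prime (x i)) (hxa : ∀ i j, Associated (x i) (x j) → i = j)
    [IsLocalization.Away (∏ i, x i) B] (u : Fin r → Bˣ)
    (hu : ∀ i, (u i : B) = algebraMap A B (x i)) (n : Fin r → ℤ) (m : ℕ)
    (a : TruncatedWittVector p m B) :
    a ∈ WittFil.fil p m (A := A) ((WittFil.zmon u n) ^ (p ^ (m - 1))) ↔
      ∀ j : Fin m, TruncatedWittVector.coeff j
          (a * WittVector.truncate m (WittVector.teichmuller p (WittFil.zmon u n))) ∈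
        (algebraMap A B).range := by
  have hp : 0 < p := (Fact.out : p.Prime).pos
  have key : ∀ j : Fin m,
      (TruncatedWittVector.coeff j a) ^ (p ^ (m - 1 - (j : ℕ))) * (WittFil.zmon u n) ^ (p ^ (m - 1)) =
      (TruncatedWittVector.coeff j
          (a * WittVector.truncate m (WittVector.teichmuller p (WittFil.zmon u n)))) ^
        (p ^ (m - 1 - (j : ℕ))) := by
    intro j
    rw [Groth.Agent.Lib.TeichMulCoeff27.truncated_mul_teichmuller_coeff, mul_pow, ← pow_mul, ← pow_add]
    have hj : (j : ℕ) + (m - 1 - (j : ℕ)) = m - 1 := by have := j.2; omega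
    rw [hj]
  constructor
  · intro h j
    have := h j
    rw [key j] at this
    exact mem_range_of_pow_mem x hx hxa u hu _ _ (pow_pos hp _) this
  · intro h j
    rw [key j]
    obtain ⟨t, ht⟩ := h j
    exact ⟨t ^ (p ^ (m - 1 - (j : ℕ))), by rw [map_pow, ht]⟩

end Groth.Agent.S19266
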