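import Mathlib
import Groth.Agent.Lib.WittIsobaric27
import Groth.Agent.S19264
import Groth.Agent.S19266
import Groth.Statements.S19265

set_option autoImplicit false
universe u
open WittFil

namespace Groth.Agent.S19265

section Helpers

open Groth.Agent.Lib.WittIsobaric27

variable (p : ℕ) [hp : Fact p.Prime] {A B : Type u} [CommRing A] [CommRing B] [Algebra A B]
  [CharP B p]

/-- The bigraded family: `z` with `z ^ (p ^ e) * (c ^ k * c' ^ l)` in the image of `A`. -/
def GG (e : ℕ) (c c' : B) : ℕ × ℕ → AddSubgroup B := fun kl =>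
  { carrier := {z | z ^ p ^ e * (c ^ kl.1 * c' ^ kl.2) ∈ (algebraMap A B).range}
    zero_mem' := by
      refine ⟨0, ?_⟩
      rw [map_zero, zero_pow (pow_ne_zero _ hp.out.ne_zero), zero_mul]
    add_mem' := by
      intro z z' hz hz'
      simp only [Set.mem_ofPred_eq] at hz hz' ⊢
      rw [add_pow_char_pow, add_mul]
      exact add_mem hz hz'
    neg_mem' := by
      intro z hz
      simp only [Set.mem_ofPred_eq] at hz ⊢
      obtain ⟨t, ht⟩ := hz
      refine ⟨(-1) ^ p ^ e * t, ?_⟩
      rw [map_mul, ht, neg_pow z, map_pow, map_neg, map_one, mul_assoc] }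

lemma mem_GG (e : ℕ) (c c' : B) (kl : ℕ × ℕ) (z : B) :
    z ∈ GG (A := A) p e c c' kl ↔ z ^ p ^ e * (c ^ kl.1 * c' ^ kl.2) ∈ (algebraMap A B).range :=
  Iff.rfl

lemma one_mem_GG (e : ℕ) (c c' : B) : (1 : B) ∈ GG (A := A) p e c c' 0 := by
  rw [mem_GG]
  exact ⟨1, by simp⟩

lemma GG_mul (e : ℕ) (c c' : B) : ∀ a b : ℕ × ℕ, ∀ x ∈ GG (A := A) p e c c' a,
    ∀ y ∈ GG (A := A) p e c c' b, x * y ∈ GG (A := A) p e c c' (a + b) := by
  intro a b x hx y hy
  rw [mem_GG] at hx hy ⊢
  obtain ⟨s, hs⟩ := hx
  obtain ⟨t, ht⟩ := hy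
  refine ⟨s * t, ?_⟩
  rw [map_mul, hs, ht, Prod.fst_add, Prod.snd_add, pow_add, pow_add, mul_pow]
  ring

omit hp [CharP B p] in
lemma pow_identity (e i : ℕ) (hi : i ≤ e) (c c' z : B) (s t : ℕ) :
    z ^ p ^ e * (c ^ (p ^ i * s) * c' ^ (p ^ i * t)) =
      (z ^ p ^ (e - i) * (c ^ s * c' ^ t)) ^ p ^ i := by
  rw [mul_pow, mul_pow, ← pow_mul, ← pow_mul, ← pow_mul, ← pow_add, Nat.sub_add_cancel hi,
    mul_comm s, mul_comm t]

omit [CharP B p] in
theorem mem_GG_iff [IsDomain A] [UniqueFactorizationMonoid A] {r : ℕ} (x : Fin r → A)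
    (hx : ∀ i, Prime (x i)) (hxa : ∀ i j, Associated (x i) (x j) → i = j)
    [IsLocalization.Away (∏ i, x i) B] (u : Fin r → Bˣ)
    (hu : ∀ i, (u i : B) = algebraMap A B (x i)) [CharP B p]
    (e i : ℕ) (hi : i ≤ e) (c c' z : B) (s t : ℕ) :
    z ∈ GG (A := A) p e c c' (p ^ i • (s, t)) ↔
      z ^ p ^ (e - i) * (c ^ s * c' ^ t) ∈ (algebraMap A B).range := by
  rw [mem_GG]
  have : (p ^ i • ((s, t) : ℕ × ℕ)) = (p ^ i * s, p ^ i * t) := by
    simp [Prod.smul_mk]
  rw [this]
  simp only
  rw [pow_identity p e i hi]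
  constructor
  · intro h
    exact Groth.Agent.S19266.mem_range_of_pow_mem x hx hxa u hu _ _
      (pow_pos hp.out.pos _) h
  · rintro ⟨w, hw⟩
    exact ⟨w ^ p ^ i, by rw [map_pow, hw]⟩

omit hp [CharP B p] in
lemma out_coeff_of_ge {m : ℕ} (a : TruncatedWittVector p m B) (i : ℕ) (hi : m ≤ i) :
    a.out.coeff i = 0 := by
  rw [TruncatedWittVector.out]
  show (if h : i < m then a.coeff ⟨i, h⟩ else 0) = 0
  rw [dif_neg (by omega)]

omit [CharP B p] in
lemma truncate_out {m : ℕ} (a : TruncatedWittVector p m B) :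
    WittVector.truncate m a.out = a :=
  TruncatedWittVector.truncateFun_out a

end Helpers

/-- Let A be a unique factorisation domain of characteristic p, x_1, …, x_r pairwise non-associate prime
elements of A, B = A[1/(x_1⋯x_r)] with u_i the unit of B defined by x_i, n, n' ∈ ℤ^r and m ≥ 0. If a
truncated p-typical Witt vector a of length m over B lies in the filtered piece cut out by ∏ u_i ^
n_i and b lies in the piece cut out by ∏ u_i ^ n'_i, then the product a · b lies in the piece cut
out by ∏ u_i ^ (n_i + n'_i). In particular (n' = 0) each filtered piece is a module over the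
truncated Witt vectors of A. (The published statement also asserts the analogous inclusion for sums,
which holds only when both multi-indices are non-negative and is then immediate from monotonicity;
the published setting is a regular local ring, and only unique factorisation is used.) -/
theorem result (p : ℕ) [Fact p.Prime] {A B : Type u} [CommRing A] [IsDomain A]
    [UniqueFactorizationMonoid A] [CharP A p] [CommRing B] [Algebra A B] {r : ℕ} (x : Fin r → A)
    (hx : ∀ i, Prime (x i)) (hxa : ∀ i j, Associated (x i) (x j) → i = j)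
    [IsLocalization.Away (∏ i, x i) B] (u : Fin r → Bˣ)
    (hu : ∀ i, (u i : B) = algebraMap A B (x i)) (n n' : Fin r → ℤ) (m : ℕ)
    (a b : TruncatedWittVector p m B) (ha : a ∈ WittFil.fil p m (A := A) (WittFil.zmon u n))
    (hb : b ∈ WittFil.fil p m (A := A) (WittFil.zmon u n')) :
    a * b ∈ WittFil.fil p m (A := A) (WittFil.zmon u (n + n')) := by
  have hπ0 : (∏ i, x i) ≠ 0 := Finset.prod_ne_zero_iff.2 (fun i _ => (hx i).ne_zero)
  have hAB : Function.Injective (algebraMap A B) :=
    IsLocalization.injective B (M := Submonoid.powers (∏ i, x i))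
      (powers_le_nonZeroDivisors_of_noZeroDivisors hπ0)
  have : CharP B p := charP_of_injective_algebraMap hAB p
  set c := WittFil.zmon u n with hc
  set c' := WittFil.zmon u n' with hc'
  set e := m - 1 with he
  have hG1 := one_mem_GG (A := A) p e c c'
  have hGm := GG_mul (A := A) p e c c'
  have hxa' : ∀ i, a.out.coeff i ∈ GG (A := A) p e c c' (p ^ i • ((1, 0) : ℕ × ℕ)) := by
    intro i
    by_cases hi : i < m
    · rw [mem_GG_iff p x hx hxa u hu e i (by omega)]
      have := ha ⟨i, hi⟩
      rw [← TruncatedWittVector.coeff_out] at this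
      simpa using this
    · rw [out_coeff_of_ge p a i (by omega)]
      exact zero_mem _
  have hxb' : ∀ i, b.out.coeff i ∈ GG (A := A) p e c c' (p ^ i • ((0, 1) : ℕ × ℕ)) := by
    intro i
    by_cases hi : i < m
    · rw [mem_GG_iff p x hx hxa u hu e i (by omega)]
      have := hb ⟨i, hi⟩
      rw [← TruncatedWittVector.coeff_out] at this
      simpa using this
    · rw [out_coeff_of_ge p b i (by omega)]
      exact zero_mem _
  intro j
  have hj : (j : ℕ) ≤ e := by have := j.2; omega
  have key := Groth.Agent.Lib.WittIsobaric27.mul_coeff_mem p (GG (A := A) p e c c') hG1 hGm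
    (1, 0) (0, 1) a.out b.out hxa' hxb' j
  have h11 : ((1, 0) : ℕ × ℕ) + (0, 1) = (1, 1) := by simp
  rw [h11, mem_GG_iff p x hx hxa u hu e j hj] at key
  have hab : a * b = WittVector.truncate m (a.out * b.out) := by
    rw [map_mul, truncate_out, truncate_out]
  rw [hab, WittVector.coeff_truncate, Groth.Agent.S19264.zmon_add]
  simpa using key

end Groth.Agent.S19265
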