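import Mathlib
import Groth.Agent.Lib.WittIsobaric27
import Groth.Agent.S19265
import Groth.Statements.S19263

set_option autoImplicit false
universe u
open WittFil

namespace Groth.Agent.S19263

/-- Let A be a unique factorisation domain of characteristic p, x_1, …, x_r pairwise non-associate prime
elements of A, B the localisation A[1/(x_1⋯x_r)] with u_i the unit of B defined by x_i, n ∈ ℤ^r and
m ≥ 0. The filtered piece of the length-m truncated p-typical Witt vectors of B cut out by c = ∏ u_i
^ n_i, namely the set of vectors whose j-th coordinate y_j satisfies y_j ^ (p ^ (m-1-j)) · c ∈ A for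
every j < m, is closed under subtraction (so it is an additive subgroup). (The published setting is
a regular local ring A and the prime elements cutting out the components of a divisor; the argument
uses only unique factorisation.) -/
theorem result (p : ℕ) [Fact p.Prime] {A B : Type u} [CommRing A] [IsDomain A]
    [UniqueFactorizationMonoid A] [CharP A p] [CommRing B] [Algebra A B] {r : ℕ} (x : Fin r → A)
    (hx : ∀ i, Prime (x i)) (hxa : ∀ i j, Associated (x i) (x j) → i = j)
    [IsLocalization.Away (∏ i, x i) B] (u : Fin r → Bˣ)
    (hu : ∀ i, (u i : B) = algebraMap A B (x i)) (n : Fin r → ℤ) (m : ℕ)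
    (a b : TruncatedWittVector p m B) (ha : a ∈ WittFil.fil p m (A := A) (WittFil.zmon u n))
    (hb : b ∈ WittFil.fil p m (A := A) (WittFil.zmon u n)) :
    a - b ∈ WittFil.fil p m (A := A) (WittFil.zmon u n) := by
  have hπ0 : (∏ i, x i) ≠ 0 := Finset.prod_ne_zero_iff.2 (fun i _ => (hx i).ne_zero)
  have hAB : Function.Injective (algebraMap A B) :=
    IsLocalization.injective B (M := Submonoid.powers (∏ i, x i))
      (powers_le_nonZeroDivisors_of_noZeroDivisors hπ0)
  have : CharP B p := charP_of_injective_algebraMap hAB p
  set c := WittFil.zmon u n with hc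
  set e := m - 1 with he
  have hG1 := Groth.Agent.S19265.one_mem_GG (A := A) p e c 1
  have hGm := Groth.Agent.S19265.GG_mul (A := A) p e c 1
  have hmem : ∀ (d : TruncatedWittVector p m B), d ∈ WittFil.fil p m (A := A) c →
      ∀ i, d.out.coeff i ∈ Groth.Agent.S19265.GG (A := A) p e c 1 (p ^ i • ((1, 0) : ℕ × ℕ)) := by
    intro d hd i
    by_cases hi : i < m
    · rw [Groth.Agent.S19265.mem_GG_iff p x hx hxa u hu e i (by omega)]
      have := hd ⟨i, hi⟩
      rw [← TruncatedWittVector.coeff_out] at this
      simpa using this
    · rw [Groth.Agent.S19265.out_coeff_of_ge p d i (by omega)]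
      exact zero_mem _
  intro j
  have hj : (j : ℕ) ≤ e := by have := j.2; omega
  have key := Groth.Agent.Lib.WittIsobaric27.sub_coeff_mem p
    (Groth.Agent.S19265.GG (A := A) p e c 1) hG1 hGm (1, 0) a.out b.out (hmem a ha) (hmem b hb) j
  rw [Groth.Agent.S19265.mem_GG_iff p x hx hxa u hu e j hj] at key
  have hab : a - b = WittVector.truncate m (a.out - b.out) := by
    rw [map_sub, Groth.Agent.S19265.truncate_out, Groth.Agent.S19265.truncate_out]
  rw [hab, WittVector.coeff_truncate]
  simpa using key

end Groth.Agent.S19263
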