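import Mathlib
import Groth.Agent.Lib.TeichMulCoeff27
import Groth.Statements.S19267

set_option autoImplicit false
universe u
open WittFil

namespace Groth.Agent.S19267

section Helpers

open Groth.Agent.Lib.TeichMulCoeff27

variable (p : ℕ) [Fact p.Prime] {A B : Type u} [CommRing A] [CommRing B] [Algebra A B]

/-- Truncated Teichmüller representative of `u ^ l`. -/
noncomputable def T (m : ℕ) (u : Bˣ) (l : ℤ) : TruncatedWittVector p m B :=
  WittVector.truncate m (WittVector.teichmuller p ((u ^ l : Bˣ) : B))

lemma T_mul_T_neg (m : ℕ) (u : Bˣ) (l : ℤ) : T p m u l * T p m u (-l) = 1 := by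
  unfold T
  rw [← map_mul, ← map_mul, ← Units.val_mul, ← zpow_add, add_neg_cancel, zpow_zero, Units.val_one,
    map_one, map_one]

lemma mem_fil_T_mul_iff (m : ℕ) (u : Bˣ) (l e : ℤ) (a : TruncatedWittVector p m B) :
    T p m u l * a ∈ WittFil.fil p m (A := A) ((u ^ e : Bˣ) : B) ↔
      a ∈ WittFil.fil p m (A := A) ((u ^ (e + (p : ℤ) ^ (m - 1) * l) : Bˣ) : B) := by
  have key : ∀ j : Fin m,
      (TruncatedWittVector.coeff j (T p m u l * a)) ^ (p ^ (m - 1 - (j : ℕ))) * ((u ^ e : Bˣ) : B) =
      (TruncatedWittVector.coeff j a) ^ (p ^ (m - 1 - (j : ℕ))) *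
        ((u ^ (e + (p : ℤ) ^ (m - 1) * l) : Bˣ) : B) := by
    intro j
    unfold T
    rw [truncated_teichmuller_mul_coeff, mul_pow, ← pow_mul, ← pow_add]
    have hj : (j : ℕ) + (m - 1 - (j : ℕ)) = m - 1 := by have := j.2; omega
    rw [hj, ← Units.val_pow_eq_pow_val, ← zpow_natCast, ← zpow_mul, mul_comm _ ((TruncatedWittVector.coeff j a) ^ _),
      mul_assoc, ← Units.val_mul, ← zpow_add]
    congr 3
    push_cast
    ring
  constructor
  · intro h j
    rw [← key j]; exact h j
  · intro h j
    rw [key j]; exact h j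

end Helpers

/-- Let A → B be a homomorphism of commutative rings, u a unit of B, m ≥ 0 and n, l integers. For an
element c of B call the filtered piece cut out by c the set of truncated p-typical Witt vectors of
length m over B whose j-th coordinate y_j satisfies: y_j ^ (p ^ (m-1-j)) · c lies in the image of A,
for every j < m. Then the piece cut out by u ^ (n − p^(m−1)·l) is exactly the image of the piece cut
out by u ^ n under multiplication by the truncated Teichmüller representative [u ^ l]. (The
published case is B = S[[π]][1/π] over A = S[[π]] with u = π; the computation is the same in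
general.) -/
theorem result (p : ℕ) [Fact p.Prime] {A B : Type u}
    [CommRing A] [CommRing B] [Algebra A B] (m : ℕ) (u : Bˣ) (n l : ℤ) :
    WittFil.fil p m (A := A) ((u ^ (n - (p : ℤ) ^ (m - 1) * l) : Bˣ) : B) =
      (fun a => WittVector.truncate m (WittVector.teichmuller p ((u ^ l : Bˣ) : B)) * a) ''
        WittFil.fil p m (A := A) ((u ^ n : Bˣ) : B) := by
  ext a
  constructor
  · intro ha
    refine ⟨T p m u (-l) * a, ?_, ?_⟩
    · rw [mem_fil_T_mul_iff]
      have : n + (p : ℤ) ^ (m - 1) * (-l) = n - (p : ℤ) ^ (m - 1) * l := by ring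
      rw [this]; exact ha
    · show T p m u l * (T p m u (-l) * a) = a
      rw [← mul_assoc, T_mul_T_neg, one_mul]
  · rintro ⟨a', ha', rfl⟩
    show T p m u l * a' ∈ _
    rw [mem_fil_T_mul_iff]
    have : n - (p : ℤ) ^ (m - 1) * l + (p : ℤ) ^ (m - 1) * l = n := by ring
    rw [this]; exact ha'

end Groth.Agent.S19267
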