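import Groth.Statements.S19270
import Groth.Agent.Lib.CoeffField6
-- import your own Groth.Agent.* helpers here

set_option autoImplicit false
universe u
open CAlg

namespace Groth.Agent.S19270

open IsLocalRing KaehlerDifferential TensorProduct

section Helpers

/-- In characteristic `p`, `A ⧸ 𝔪² → κ` has a ring-theoretic section. -/
theorem exists_section_kerSquareLift (p : ℕ) [Fact p.Prime] (A : Type u) [CommRing A]
    [IsLocalRing A] [CharP A p] :
    ∃ g : ResidueField A →ₐ[ℤ]
        A ⧸ (RingHom.ker (IsScalarTower.toAlgHom ℤ A (ResidueField A)).toRingHom ^ 2),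
      (IsScalarTower.toAlgHom ℤ A (ResidueField A)).kerSquareLift.comp g = AlgHom.id ℤ _ := by
  have hp : p.Prime := Fact.out
  have hker : RingHom.ker (IsScalarTower.toAlgHom ℤ A (ResidueField A)).toRingHom =
      maximalIdeal A := ker_residue
  have hne : RingHom.ker (IsScalarTower.toAlgHom ℤ A (ResidueField A)).toRingHom ^ 2 ≠ ⊤ := by
    rw [hker]
    intro h
    exact (maximalIdeal.isMaximal A).ne_top
      (top_le_iff.mp (h ▸ Ideal.pow_le_self (two_ne_zero)))
  haveI : Nontrivial
      (A ⧸ (RingHom.ker (IsScalarTower.toAlgHom ℤ A (ResidueField A)).toRingHom ^ 2)) :=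
    Ideal.Quotient.nontrivial_iff.mpr hne
  haveI : CharP
      (A ⧸ (RingHom.ker (IsScalarTower.toAlgHom ℤ A (ResidueField A)).toRingHom ^ 2)) p := by
    rw [CharP.charP_iff_prime_eq_zero hp]
    have : ((p : ℕ) : A ⧸
        (RingHom.ker (IsScalarTower.toAlgHom ℤ A (ResidueField A)).toRingHom ^ 2)) =
        Ideal.Quotient.mk _ ((p : ℕ) : A) := by rw [map_natCast]
    rw [this, CharP.cast_eq_zero, map_zero]
  have hπ : Function.Surjective
      ((IsScalarTower.toAlgHom ℤ A (ResidueField A)).kerSquareLift.toRingHom) := by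
    intro y
    obtain ⟨a, rfl⟩ := residue_surjective y
    exact ⟨Ideal.Quotient.mk _ a, rfl⟩
  have hn : ∀ x, (IsScalarTower.toAlgHom ℤ A (ResidueField A)).kerSquareLift.toRingHom x = 0 →
      x ^ p = 0 := by
    intro x hx
    obtain ⟨a, rfl⟩ := Ideal.Quotient.mk_surjective x
    have ha : a ∈ RingHom.ker (IsScalarTower.toAlgHom ℤ A (ResidueField A)).toRingHom := hx
    rw [← map_pow, Ideal.Quotient.eq_zero_iff_mem]
    exact Ideal.pow_le_pow_right hp.two_le (Ideal.pow_mem_pow ha p)
  obtain ⟨σ, hσ⟩ := Groth.Agent.Lib.CoeffField6.exists_section p hπ hn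
  refine ⟨σ.toIntAlgHom, ?_⟩
  ext y
  exact RingHom.congr_fun hσ y

/-- In characteristic `p`, the conormal map `𝔪/𝔪² → κ ⊗ Ω_{A/ℤ}` is injective. -/
theorem injective_kerCotangentToTensor (p : ℕ) [Fact p.Prime] (A : Type u) [CommRing A]
    [IsLocalRing A] [CharP A p] :
    Function.Injective (kerCotangentToTensor ℤ A (ResidueField A)) := by
  obtain ⟨g, hg⟩ := exists_section_kerSquareLift p A
  obtain ⟨l, hl⟩ := (retractionKerCotangentToTensorEquivSection (R := ℤ) (P := A)
    (S := ResidueField A) residue_surjective).symm ⟨g, hg⟩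
  exact Function.LeftInverse.injective (g := l) (fun x => LinearMap.congr_fun hl x)

/-- A regular system of parameters gives a basis of the cotangent space. -/
theorem linearIndependent_toCotangent {A : Type u} [CommRing A] [IsRegularLocalRing A]
    {N : ℕ} (x : Fin N → A) (hx : Ideal.span (Set.range x) = maximalIdeal A)
    (hN : ringKrullDim A = (N : WithBot ℕ∞)) (hxm : ∀ i, x i ∈ maximalIdeal A) :
    LinearIndependent (ResidueField A)
      (fun i => (maximalIdeal A).toCotangent ⟨x i, hxm i⟩ : Fin N → CotangentSpace A) := by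
  apply linearIndependent_of_top_le_span_of_card_eq_finrank
  · have h1 : Submodule.span A (Set.range (fun i => (⟨x i, hxm i⟩ : maximalIdeal A))) = ⊤ := by
      apply Submodule.map_injective_of_injective (maximalIdeal A).injective_subtype
      rw [Submodule.map_span, ← Set.range_comp, Submodule.map_subtype_top]
      exact hx
    have h2 : Submodule.span A (Set.range
        (fun i => (maximalIdeal A).toCotangent ⟨x i, hxm i⟩ : Fin N → CotangentSpace A)) = ⊤ := by
      have : (fun i => (maximalIdeal A).toCotangent ⟨x i, hxm i⟩ : Fin N → CotangentSpace A) =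
          (maximalIdeal A).toCotangent ∘ (fun i => (⟨x i, hxm i⟩ : maximalIdeal A)) := rfl
      rw [this, Set.range_comp, ← Submodule.map_span, h1, Submodule.map_top,
        LinearMap.range_eq_top]
      exact Ideal.toCotangent_surjective _
    rw [← Submodule.restrictScalars_span A (ResidueField A) residue_surjective] at h2
    exact (Submodule.restrictScalars_eq_top_iff _ _ _).mp h2 |>.ge
  · rw [Fintype.card_fin]
    have h1 := IsRegularLocalRing.spanFinrank_maximalIdeal (R := A)
    rw [hN] at h1
    have h2 : (maximalIdeal A).spanFinrank = N := by exact_mod_cast h1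
    rw [← h2, spanFinrank_maximalIdeal_eq_finrank_cotangentSpace]

theorem mem_of_sum_mem_sq {A : Type u} [CommRing A] [IsRegularLocalRing A]
    {N : ℕ} (x : Fin N → A) (hx : Ideal.span (Set.range x) = maximalIdeal A)
    (hN : ringKrullDim A = (N : WithBot ℕ∞)) (hxm : ∀ i, x i ∈ maximalIdeal A)
    (c : Fin N → A) (h : ∑ i, c i * x i ∈ maximalIdeal A ^ 2) : ∀ i, c i ∈ maximalIdeal A := by
  have hli := linearIndependent_toCotangent x hx hN hxm
  rw [Fintype.linearIndependent_iff] at hli
  have key : ∑ i, residue A (c i) • (maximalIdeal A).toCotangent ⟨x i, hxm i⟩ = 0 := by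
    have h1 : ∑ i, residue A (c i) • (maximalIdeal A).toCotangent ⟨x i, hxm i⟩ =
        (maximalIdeal A).toCotangent (∑ i, c i • (⟨x i, hxm i⟩ : maximalIdeal A)) := by
      rw [map_sum]
      refine Finset.sum_congr rfl (fun i _ => ?_)
      rw [map_smul]
      rfl
    rw [h1, Ideal.toCotangent_eq_zero]
    convert h
    simp [Submodule.coe_sum]
  intro i
  exact (residue_eq_zero_iff _).mp (hli _ key i)

theorem linearIndependent_D (p : ℕ) [Fact p.Prime] {A : Type u} [CommRing A]
    [IsRegularLocalRing A] [CharP A p]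
    {N : ℕ} (x : Fin N → A) (hx : Ideal.span (Set.range x) = maximalIdeal A)
    (hN : ringKrullDim A = (N : WithBot ℕ∞)) (hxm : ∀ i, x i ∈ maximalIdeal A) :
    LinearIndependent (ResidueField A)
      (fun i => (1 : ResidueField A) ⊗ₜ[A] D ℤ A (x i)) := by
  rw [Fintype.linearIndependent_iff]
  intro g hg
  choose c hc using fun i => residue_surjective (g i)
  have hker : RingHom.ker (algebraMap A (ResidueField A)) = maximalIdeal A := ker_residue
  have hy : ∑ i, c i * x i ∈ RingHom.ker (algebraMap A (ResidueField A)) := by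
    rw [hker]
    exact Ideal.sum_mem _ (fun i _ => Ideal.mul_mem_left _ _ (hxm i))
  have h1 : kerCotangentToTensor ℤ A (ResidueField A) (Ideal.toCotangent _ ⟨_, hy⟩) = 0 := by
    rw [kerCotangentToTensor_toCotangent]
    rw [← hg]
    simp only [map_sum, Derivation.leibniz, tmul_add, tmul_sum]
    refine Finset.sum_congr rfl (fun i _ => ?_)
    have e1 : (1 : ResidueField A) ⊗ₜ[A] (c i • D ℤ A (x i)) =
        g i • ((1 : ResidueField A) ⊗ₜ[A] D ℤ A (x i)) := by
      rw [tmul_smul, ← hc i]
      rfl
    have e2 : (1 : ResidueField A) ⊗ₜ[A] (x i • D ℤ A (c i)) = 0 := by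
      rw [← smul_tmul, Algebra.smul_def, mul_one]
      have : algebraMap A (ResidueField A) (x i) = 0 := (residue_eq_zero_iff _).mpr (hxm i)
      rw [this, zero_tmul]
    rw [e1, e2, add_zero]
  have h2 := injective_kerCotangentToTensor p A (h1.trans (map_zero _).symm)
  rw [Ideal.toCotangent_eq_zero] at h2
  have h3 : ∑ i, c i * x i ∈ maximalIdeal A ^ 2 := by
    rw [← hker]
    exact h2
  intro i
  rw [← hc i]
  exact (residue_eq_zero_iff _).mpr (mem_of_sum_mem_sq x hx hN hxm c h3 i)

end Helpers

open IsLocalRing in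
/-- Let A be a regular local ring of prime characteristic p, of Krull dimension N, with maximal ideal
generated by x_1, …, x_N, and assume that the module Ω_A of absolute Kähler differentials of A
(differentials relative to ℤ, equivalently relative to the prime field) is a free A-module of finite
rank. Then dx_1, …, dx_N are part of a basis of Ω_A: there exist a basis b of Ω_A and an injection e
of the indices 1, …, N into the index type of b with b (e i) = d(x_i) for all i. (In the published
statement A is a regular local F-finite algebra over the prime field and the freeness and finiteness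
of Ω_A form the first assertion, taken there from the literature; here they are hypotheses.) -/
theorem result (p : ℕ) [Fact p.Prime]
    {A : Type u} [CommRing A] [IsRegularLocalRing A] [CharP A p]
    [Module.Free A (KaehlerDifferential ℤ A)] [Module.Finite A (KaehlerDifferential ℤ A)]
    {N : ℕ} (x : Fin N → A) (hx : Ideal.span (Set.range x) = maximalIdeal A)
    (hN : ringKrullDim A = (N : WithBot ℕ∞)) :
    ∃ (ι : Type u) (b : Module.Basis ι A (KaehlerDifferential ℤ A)) (e : Fin N ↪ ι),
      ∀ i : Fin N, b (e i) = KaehlerDifferential.D ℤ A (x i) := by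
  classical
  have hxm : ∀ i, x i ∈ maximalIdeal A := fun i => hx ▸ Ideal.subset_span ⟨i, rfl⟩
  have hli := linearIndependent_D p x hx hN hxm
  -- extend to a basis of `κ ⊗ Ω`
  let bk := Module.Basis.extend hli.linearIndepOn_id
  have hsurj : Function.Surjective (TensorProduct.mk A (ResidueField A) (Ω[A⁄ℤ]) 1) :=
    TensorProduct.mk_surjective A _ _ residue_surjective
  -- the family of lifts
  let v : ↥(hli.linearIndepOn_id.extend (Set.subset_univ _)) → Ω[A⁄ℤ] := fun j =>
    if h : ∃ i, (1 : ResidueField A) ⊗ₜ[A] D ℤ A (x i) = j.1 then D ℤ A (x h.choose)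
    else (hsurj j.1).choose
  have hv : ∀ j, TensorProduct.mk A (ResidueField A) (Ω[A⁄ℤ]) 1 (v j) = j.1 := by
    intro j
    by_cases h : ∃ i, (1 : ResidueField A) ⊗ₜ[A] D ℤ A (x i) = j.1
    · simp only [v, dif_pos h]
      exact h.choose_spec
    · simp only [v, dif_neg h]
      exact (hsurj j.1).choose_spec
  have hv' : (TensorProduct.mk A (ResidueField A) (Ω[A⁄ℤ]) 1) ∘ v = bk := by
    ext j
    rw [Module.Basis.coe_extend]
    exact hv j
  haveI : Module.FinitePresentation A (Ω[A⁄ℤ]) := Module.finitePresentation_of_finite A _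
  obtain ⟨b, hb⟩ := Module.exists_basis_of_basis_baseChange v
    (hv' ▸ bk.linearIndependent) (hv' ▸ bk.span_eq)
    (Module.Flat.rTensor_preserves_injective_linearMap _ Subtype.val_injective)
  have hmem : ∀ i, (1 : ResidueField A) ⊗ₜ[A] D ℤ A (x i) ∈
      hli.linearIndepOn_id.extend (Set.subset_univ _) := fun i =>
    hli.linearIndepOn_id.subset_extend _ ⟨i, rfl⟩
  refine ⟨_, b, ⟨fun i => ⟨_, hmem i⟩, fun i j hij => hli.injective (Subtype.ext_iff.mp hij)⟩,
    fun i => ?_⟩
  rw [hb]
  have h : ∃ i', (1 : ResidueField A) ⊗ₜ[A] D ℤ A (x i') =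
      (1 : ResidueField A) ⊗ₜ[A] D ℤ A (x i) := ⟨i, rfl⟩
  change v ⟨_, hmem i⟩ = _
  simp only [v, dif_pos h]
  rw [hli.injective h.choose_spec]

end Groth.Agent.S19270
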