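import Groth.Statements.S19273
import Mathlib

set_option autoImplicit false
universe u
open CAlg

namespace Groth.Agent.S19273
set_option linter.style.haveILetI false
set_option linter.unusedSectionVars false

open KaehlerDifferential

section Helpers

variable {A B : Type u} [CommRing A] [CommRing B] [Algebra A B]

/-- the `B`-basis of `Ω_B` obtained from an `A`-basis of `Ω_A` when `B` is a localization of `A` -/
noncomputable def bcBasis {ι : Type*} (M : Submonoid A) [IsLocalization M B]
    (b : Module.Basis ι A (Ω[A⁄ℤ])) : Module.Basis ι B (Ω[B⁄ℤ]) :=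
  haveI := Algebra.FormallyEtale.of_isLocalization (Rₘ := B) M
  (b.baseChange B).map (KaehlerDifferential.isBaseChange_of_formallyEtale ℤ A B).equiv

lemma bcBasis_apply {ι : Type*} (M : Submonoid A) [IsLocalization M B]
    (b : Module.Basis ι A (Ω[A⁄ℤ])) (i : ι) :
    bcBasis M b i = KaehlerDifferential.map ℤ ℤ A B (b i) := by
  haveI := Algebra.FormallyEtale.of_isLocalization (Rₘ := B) M
  simp [bcBasis, IsBaseChange.equiv_tmul]

end Helpers

open KaehlerDifferential in

open KaehlerDifferential in
/-- Let A be an integral domain of prime characteristic p, x_1, …, x_N elements of A, r ≤ N, B =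
A[1/(x_1⋯x_r)] with u_i the unit of B defined by x_i for i ≤ r, and suppose that the module Ω_A of
absolute Kähler differentials of A is free with a basis b indexed by {1, …, N} ⊔ ι whose i-th vector
is d(x_i) for i ≤ N. Then the module of logarithmic 1-forms — the A-submodule of Ω_B spanned by the
image of Ω_A and the forms u_i⁻¹ · d(x_i), i ≤ r — is a free A-module: it has a basis indexed by {1,
…, N} ⊔ ι whose vector at i ≤ r is u_i⁻¹ · d(x_i), at r < i ≤ N is d(x_i), and at k ∈ ι is the image
of b_k. (In the published statement A is a regular local F-finite algebra over the prime field with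
maximal ideal (x_1, …, x_N), the basis of Ω_A comes from the preceding lemma, and the assertion
covers the logarithmic q-forms for all q together with their identification with the log de Rham
complex of the log ring; only the degree-one freeness is stated here, from the properties of A
actually used.) -/
theorem result (p : ℕ) [Fact p.Prime]
    {A B : Type u} [CommRing A] [IsDomain A] [CharP A p] [CommRing B] [Algebra A B] {r N : ℕ}
    (hr : r ≤ N) (x : Fin N → A) [IsLocalization.Away (∏ i : Fin r, x (Fin.castLE hr i)) B]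
    (u : Fin r → Bˣ) (hu : ∀ i, (u i : B) = algebraMap A B (x (Fin.castLE hr i)))
    {ι : Type u} (b : Module.Basis (Fin N ⊕ ι) A (Ω[A⁄ℤ])) (hb : ∀ i, b (Sum.inl i) = D ℤ A (x i)) :
    ∃ e : Module.Basis (Fin N ⊕ ι) A
        (W4c6katofilta.logForms1 (fun i : Fin r => x (Fin.castLE hr i)) u),
      (∀ i : Fin r, (e (Sum.inl (Fin.castLE hr i)) : Ω[B⁄ℤ]) =
          ((u i)⁻¹ : Bˣ) • KaehlerDifferential.map ℤ ℤ A B (D ℤ A (x (Fin.castLE hr i)))) ∧
      (∀ i : Fin N, r ≤ (i : ℕ) →
          (e (Sum.inl i) : Ω[B⁄ℤ]) = KaehlerDifferential.map ℤ ℤ A B (D ℤ A (x i))) ∧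
      (∀ k : ι, (e (Sum.inr k) : Ω[B⁄ℤ]) = KaehlerDifferential.map ℤ ℤ A B (b (Sum.inr k))) := by
  classical
  -- all `x i` are nonzero
  have hx0 : ∀ i, x i ≠ 0 := by
    intro i h0
    have := b.ne_zero (Sum.inl i)
    rw [hb, h0, map_zero] at this
    exact this rfl
  set s : A := ∏ i : Fin r, x (Fin.castLE hr i) with hs
  have hs0 : s ≠ 0 := Finset.prod_ne_zero_iff.mpr (fun i _ => hx0 _)
  have hinj : Function.Injective (algebraMap A B) :=
    IsLocalization.injective B (M := Submonoid.powers s)
      (powers_le_nonZeroDivisors_of_noZeroDivisors hs0)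
  -- the `B`-basis
  let bB : Module.Basis (Fin N ⊕ ι) B (Ω[B⁄ℤ]) := bcBasis (Submonoid.powers s) b
  -- the weights
  let w : Fin N ⊕ ι → Bˣ := fun j =>
    Sum.elim (fun i : Fin N => if h : (i : ℕ) < r then (u ⟨i, h⟩)⁻¹ else 1) (fun _ => 1) j
  let eB : Module.Basis (Fin N ⊕ ι) B (Ω[B⁄ℤ]) := bB.unitsSMul w
  have heB : ∀ j, eB j = w j • KaehlerDifferential.map ℤ ℤ A B (b j) := by
    intro j
    rw [Module.Basis.unitsSMul_apply, bcBasis_apply]
  have hli : LinearIndependent A (fun j => eB j) := by
    refine LinearIndependent.restrict_scalars (R := A) (K := B) ?_ eB.linearIndependent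
    intro a a' h
    apply hinj
    simpa [Algebra.smul_def] using h
  -- values of the weights
  have hw_lt : ∀ (i : Fin N) (h : (i : ℕ) < r), w (Sum.inl i) = (u ⟨i, h⟩)⁻¹ := by
    intro i h
    simp only [w, Sum.elim_inl, dif_pos h]
  have hw_ge : ∀ (i : Fin N), r ≤ (i : ℕ) → w (Sum.inl i) = 1 := by
    intro i h
    simp only [w, Sum.elim_inl, dif_neg (not_lt.mpr h)]
  have hw_inr : ∀ k : ι, w (Sum.inr k) = 1 := fun k => rfl
  have hcast : ∀ (i : Fin N) (h : (i : ℕ) < r), Fin.castLE hr ⟨i, h⟩ = i := fun i h => Fin.ext rfl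
  -- the span is the module of log forms
  have hspan : Submodule.span A (Set.range (fun j => eB j)) =
      W4c6katofilta.logForms1 (fun i : Fin r => x (Fin.castLE hr i)) u := by
    apply le_antisymm
    · rw [Submodule.span_le]
      rintro _ ⟨j, rfl⟩
      show eB j ∈ W4c6katofilta.logForms1 _ u
      rw [heB]
      rcases j with i | k
      · by_cases h : (i : ℕ) < r
        · rw [hw_lt i h, hb]
          apply Submodule.subset_span
          right
          refine ⟨⟨i, h⟩, ?_⟩
          simp only [hcast i h]
        · rw [hw_ge i (not_lt.mp h), one_smul]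
          exact Submodule.subset_span (Or.inl ⟨_, rfl⟩)
      · rw [hw_inr, one_smul]
        exact Submodule.subset_span (Or.inl ⟨_, rfl⟩)
    · unfold W4c6katofilta.logForms1
      rw [Submodule.span_le]
      rintro _ (⟨ω, rfl⟩ | ⟨i, rfl⟩)
      · have hω : ω ∈ Submodule.span A (Set.range b) := by rw [b.span_eq]; trivial
        have : Submodule.map (KaehlerDifferential.map ℤ ℤ A B) (Submodule.span A (Set.range b)) ≤
            Submodule.span A (Set.range (fun j => eB j)) := by
          rw [Submodule.map_span, Submodule.span_le]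
          rintro _ ⟨_, ⟨j, rfl⟩, rfl⟩
          show KaehlerDifferential.map ℤ ℤ A B (b j) ∈ Submodule.span A (Set.range (fun j => eB j))
          have hmem : eB j ∈ Submodule.span A (Set.range (fun j => eB j)) :=
            Submodule.subset_span ⟨j, rfl⟩
          rcases j with i | k
          · by_cases h : (i : ℕ) < r
            · have hux : algebraMap A B (x i) = (u ⟨i, h⟩ : B) := by
                rw [hu, hcast i h]
              have : KaehlerDifferential.map ℤ ℤ A B (b (Sum.inl i)) = x i • eB (Sum.inl i) := by
                rw [heB, hw_lt i h, ← algebraMap_smul B (x i), hux, Units.smul_def, smul_smul,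
                  Units.mul_inv, one_smul]
              rw [this]
              exact Submodule.smul_mem _ _ hmem
            · have : KaehlerDifferential.map ℤ ℤ A B (b (Sum.inl i)) = eB (Sum.inl i) := by
                rw [heB, hw_ge i (not_lt.mp h), one_smul]
              rw [this]; exact hmem
          · have : KaehlerDifferential.map ℤ ℤ A B (b (Sum.inr k)) = eB (Sum.inr k) := by
              rw [heB, hw_inr, one_smul]
            rw [this]; exact hmem
        exact this (Submodule.mem_map_of_mem hω)
      · have : ((u i)⁻¹ : Bˣ) • KaehlerDifferential.map ℤ ℤ A B (D ℤ A (x (Fin.castLE hr i))) =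
            eB (Sum.inl (Fin.castLE hr i)) := by
          rw [heB, hw_lt (Fin.castLE hr i) i.2, hb]
          rfl
        show ((u i)⁻¹ : Bˣ) • KaehlerDifferential.map ℤ ℤ A B (D ℤ A (x (Fin.castLE hr i))) ∈
          Submodule.span A (Set.range fun j => eB j)
        rw [this]
        exact Submodule.subset_span ⟨_, rfl⟩
  let e : Module.Basis (Fin N ⊕ ι) A
      (W4c6katofilta.logForms1 (fun i : Fin r => x (Fin.castLE hr i)) u) :=
    (Module.Basis.span hli).map (LinearEquiv.ofEq _ _ hspan)
  have he : ∀ j, (e j : Ω[B⁄ℤ]) = eB j := by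
    intro j
    show ((LinearEquiv.ofEq _ _ hspan (Module.Basis.span hli j) : _) : Ω[B⁄ℤ]) = eB j
    rw [LinearEquiv.coe_ofEq_apply, Module.Basis.coe_span_apply]
  refine ⟨e, fun i => ?_, fun i hi => ?_, fun k => ?_⟩
  · rw [he, heB, hw_lt (Fin.castLE hr i) i.2, hb]
    rfl
  · rw [he, heB, hw_ge i hi, one_smul, hb]
  · rw [he, heB, hw_inr, one_smul]

end Groth.Agent.S19273
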