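import Mathlib
import Groth.Statements.S19274

set_option autoImplicit false
universe u
open WittFil

namespace Groth.Agent.S19274

section Helpers

variable {A B : Type u} [CommRing A] [IsDomain A] [UniqueFactorizationMonoid A]
  [CommRing B] [Algebra A B] (x : A) (hx : Prime x) [IsLocalization.Away x B] (u : Bˣ)
  (hu : (u : B) = algebraMap A B x)

include hx in
omit [UniqueFactorizationMonoid A] in
lemma algebraMap_inj : Function.Injective (algebraMap A B) :=
  IsLocalization.injective B (M := Submonoid.powers x)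
    (powers_le_nonZeroDivisors_of_noZeroDivisors hx.ne_zero)

omit [IsDomain A] [UniqueFactorizationMonoid A] [IsLocalization.Away x B] in
include hu in
lemma coe_zpow_natCast (k : ℕ) : ((u ^ (k : ℤ) : Bˣ) : B) = algebraMap A B (x ^ k) := by
  rw [zpow_natCast, Units.val_pow_eq_pow_val, hu, map_pow]

include hx hu in
lemma decomp (w : B) (hw : w ≠ 0) :
    ∃ (α : A) (v : ℤ), ¬ x ∣ α ∧ w = algebraMap A B α * ((u ^ v : Bˣ) : B) := by
  obtain ⟨k, β, h⟩ := IsLocalization.Away.surj x w
  have hβ0 : β ≠ 0 := by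
    rintro rfl
    rw [map_zero, ← hu, ← Units.val_pow_eq_pow_val] at h
    exact hw ((Units.mul_left_eq_zero _).1 h)
  obtain ⟨s, α, hα, hβ⟩ := WfDvdMonoid.max_power_factor hβ0 hx.irreducible
  refine ⟨α, (s : ℤ) - (k : ℤ), hα, ?_⟩
  have hk : IsUnit ((u ^ (k : ℤ) : Bˣ) : B) := Units.isUnit _
  apply hk.mul_left_injective
  show w * ((u ^ (k : ℤ) : Bˣ) : B) = algebraMap A B α * ((u ^ ((s : ℤ) - (k : ℤ)) : Bˣ) : B) *
    ((u ^ (k : ℤ) : Bˣ) : B)
  rw [mul_assoc, ← Units.val_mul, ← zpow_add, sub_add_cancel, coe_zpow_natCast x u hu,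
    coe_zpow_natCast x u hu, map_pow, h, hβ, map_mul, mul_comm]

include hx hu in
omit [UniqueFactorizationMonoid A] in
lemma nonneg_of_mem (α : A) (hα : ¬ x ∣ α) (M : ℤ)
    (h : algebraMap A B α * ((u ^ M : Bˣ) : B) ∈ (algebraMap A B).range) : 0 ≤ M := by
  by_contra hM
  rw [not_le] at hM
  obtain ⟨t, ht⟩ := h
  obtain ⟨j, hj⟩ : ∃ j : ℕ, M = -((j : ℤ) + 1) := ⟨(-M - 1).toNat, by omega⟩
  apply hα
  have h1 : algebraMap A B α = algebraMap A B (t * x ^ (j + 1)) := by
    rw [map_mul, ← coe_zpow_natCast x u hu, ht, mul_assoc, ← Units.val_mul, ← zpow_add, hj]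
    have : -((j : ℤ) + 1) + ((j + 1 : ℕ) : ℤ) = 0 := by push_cast; ring
    rw [this, zpow_zero, Units.val_one, mul_one]
  have h2 := algebraMap_inj (B := B) x hx h1
  rw [h2, pow_succ]
  exact ⟨t * x ^ j, by ring⟩

include hx hu in
theorem shift_lemma (N : ℕ) (hN0 : 0 < N) (n : ℤ) (hn : ¬ ((N : ℤ) ∣ n)) (w : B)
    (h : w ^ N * ((u ^ n : Bˣ) : B) ∈ (algebraMap A B).range) :
    w ^ N * ((u ^ (n - 1) : Bˣ) : B) ∈ (algebraMap A B).range := by
  have hN : N ≠ 0 := hN0.ne'
  by_cases hw : w = 0
  · subst hw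
    refine ⟨0, ?_⟩
    rw [map_zero, zero_pow hN, zero_mul]
  obtain ⟨α, v, hα, rfl⟩ := decomp x hx u hu w hw
  have hαN : ¬ x ∣ α ^ N := fun h => hα (hx.dvd_of_dvd_pow h)
  have hform : ∀ e : ℤ, (algebraMap A B α * ((u ^ v : Bˣ) : B)) ^ N * ((u ^ e : Bˣ) : B) =
      algebraMap A B (α ^ N) * ((u ^ (v * N + e) : Bˣ) : B) := by
    intro e
    rw [mul_pow, ← Units.val_pow_eq_pow_val, ← zpow_natCast, ← zpow_mul, mul_assoc, ← Units.val_mul,
      ← zpow_add, map_pow]
  rw [hform] at h ⊢
  have hM := nonneg_of_mem x hx u hu (α ^ N) hαN _ h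
  have hM0 : v * N + n ≠ 0 := by
    intro h0
    apply hn
    exact ⟨-v, by linarith⟩
  obtain ⟨j, hj⟩ : ∃ j : ℕ, v * N + (n - 1) = (j : ℤ) := ⟨(v * N + (n - 1)).toNat, by omega⟩
  refine ⟨α ^ N * x ^ j, ?_⟩
  rw [hj, coe_zpow_natCast x u hu, map_mul]

end Helpers

/-- Let A be a unique factorisation domain of characteristic p, x a prime element of A, B = A[1/x] with
u the unit of B defined by x, m ≥ 1, and n an integer NOT divisible by p^m. For e in B and k ≥ 0
write fil_k(e) for the set of truncated p-typical Witt vectors of length k over B whose j-th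
coordinate y_j satisfies y_j ^ (p ^ (k−1−j)) · e ∈ A for all j < k (the filtered piece; fil_k(u^n)
is the piece of index n). Then fil_{m+1}(u^n) is contained in fil_{m+1}(u^(n−1)) + V(fil_m(u^n))
(the reverse inclusion is immediate): every a in fil_{m+1}(u^n) can be written a = b + V(y) with b
in fil_{m+1}(u^(n−1)) and y a Witt vector over B whose length-m truncation lies in fil_m(u^n), V(y)
being truncated to length m+1. (In the source A is a henselian discrete valuation ring, n = p^r·l >
1 with p not dividing l, and the condition reads m ≥ r + 1.) -/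
theorem result (p : ℕ) [Fact p.Prime]
    {A B : Type u} [CommRing A] [IsDomain A] [UniqueFactorizationMonoid A] [CharP A p]
    [CommRing B] [Algebra A B] (x : A) (hx : Prime x) [IsLocalization.Away x B] (u : Bˣ)
    (hu : (u : B) = algebraMap A B x) (m : ℕ) (hm : 0 < m) (n : ℤ) (hn : ¬ ((p : ℤ) ^ m ∣ n)) :
    ∀ a ∈ WittFil.fil p (m + 1) (A := A) ((u ^ n : Bˣ) : B),
      ∃ b ∈ WittFil.fil p (m + 1) (A := A) ((u ^ (n - 1) : Bˣ) : B),
        ∃ y : WittVector p B,
          WittVector.truncate m y ∈ WittFil.fil p m (A := A) ((u ^ n : Bˣ) : B) ∧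
            a = b + WittVector.truncate (m + 1) (WittVector.verschiebung y) := by
  intro a ha
  have hp : 0 < p := (Fact.out : p.Prime).pos
  set a0 : B := TruncatedWittVector.coeff 0 a with ha0
  set y : WittVector p B := WittVector.mk p
    (fun i => if h : i + 1 < m + 1 then TruncatedWittVector.coeff ⟨i + 1, h⟩ a else 0) with hy
  refine ⟨WittVector.truncate (m + 1) (WittVector.teichmuller p a0), ?_, y, ?_, ?_⟩
  · intro j
    rw [WittVector.coeff_truncate]
    by_cases hj : (j : ℕ) = 0
    · rw [hj, WittVector.teichmuller_coeff_zero]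
      have h0 := ha 0
      have hn' : ¬ (((p ^ m : ℕ) : ℤ) ∣ n) := by push_cast; exact hn
      have := shift_lemma x hx u hu (p ^ m) (pow_pos hp m) n hn' a0
      simp only [Fin.val_zero, Nat.add_sub_cancel, Nat.sub_zero] at h0 ⊢
      exact this h0
    · rw [WittVector.teichmuller_coeff_pos p a0 _ (Nat.pos_of_ne_zero hj)]
      refine ⟨0, ?_⟩
      rw [map_zero, zero_pow (by positivity), zero_mul]
  · intro j
    rw [WittVector.coeff_truncate, hy, WittVector.coeff_mk]
    have hj : (j : ℕ) + 1 < m + 1 := by have := j.2; omega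
    rw [dif_pos hj]
    have := ha ⟨(j : ℕ) + 1, hj⟩
    have hexp : m + 1 - 1 - ((j : ℕ) + 1) = m - 1 - (j : ℕ) := by omega
    simp only [hexp] at this
    exact this
  · rw [← map_add]
    ext j
    rw [WittVector.coeff_truncate, WittVector.coeff_add_of_disjoint]
    · by_cases hj : (j : ℕ) = 0
      · have : j = 0 := Fin.ext hj
        subst this
        rw [Fin.val_zero, WittVector.teichmuller_coeff_zero, WittVector.verschiebung_coeff_zero,
          add_zero]
      · obtain ⟨i, hi⟩ := Nat.exists_eq_succ_of_ne_zero hj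
        rw [hi, WittVector.teichmuller_coeff_pos p a0 _ (Nat.succ_pos i),
          WittVector.verschiebung_coeff_succ, zero_add, hy, WittVector.coeff_mk]
        have hlt : i + 1 < m + 1 := by have := j.2; omega
        rw [dif_pos hlt]
        congr 1
        exact Fin.ext hi
    · intro k
      by_cases hk : k = 0
      · right; rw [hk, WittVector.verschiebung_coeff_zero]
      · left; exact WittVector.teichmuller_coeff_pos p a0 _ (Nat.pos_of_ne_zero hk)

end Groth.Agent.S19274
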