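import Groth.Statements.S19277
import Groth.Agent.Lib.GrpAlgCyc

set_option autoImplicit false
universe u v
open GrpAlg

namespace Groth.Agent.S19277

/-- Let `M` be a commutative group, `B ≠ B'` subgroups of finite index with `M ⧸ B` and `M ⧸ B'` cyclic,
and `Λ` a commutative ring in which both indices are invertible. Then the localization of the
`Λ[M]`-module `Λ[M ⧸ B]/(Φ_{|M/B|})` at the multiplicative subset of `Λ[M]` of elements with image
`1` in `Λ[M ⧸ B']/(Φ_{|M/B'|})` is zero. (In terms of group schemes: for two distinct dual cyclic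
subgroups σ, σ' of the diagonalizable group with character group `M`, the ring R̃(σ) with
coefficients in `Λ` vanishes after localization at σ'. The published statement has a split torus,
i.e. `M` free of finite rank, and `Λ = ℤ[1/N]` for `N` the order of the subgroup generated by σ and
σ'; here `M` is any commutative group and `Λ` any commutative ring in which the orders of σ and σ'
are invertible.) -/
theorem result (Λ : Type u) [CommRing Λ] (M : Type v)
    [AddCommGroup M] (B B' : AddSubgroup M) [B.FiniteIndex] [B'.FiniteIndex]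
    [IsAddCyclic (M ⧸ B)] [IsAddCyclic (M ⧸ B')] (hne : B ≠ B')
    (hu : IsUnit ((B.index * B'.index : ℕ) : Λ)) :
    Subsingleton (LocalizedModule (W4c6equivkfinstab.locSubmonoid Λ M B')
      (W4c6equivkfinstab.CycQuot Λ (M ⧸ B))) := by
  open Groth.Agent.Lib.GrpAlgCyc W4c6equivkfinstab in
  have hB : IsUnit ((B.index : ℕ) : Λ) := by
    rw [Nat.cast_mul] at hu
    exact (IsUnit.mul_iff.mp hu).1
  have hB' : IsUnit ((B'.index : ℕ) : Λ) := by
    rw [Nat.cast_mul] at hu
    exact (IsUnit.mul_iff.mp hu).2
  rw [LocalizedModule.subsingleton_iff]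
  intro m
  have hcases : (¬ B ≤ B') ∨ (¬ B' ≤ B) := by
    by_contra h
    push Not at h
    exact hne (le_antisymm h.1 h.2)
  rcases hcases with h | h
  · -- some `b ∈ B`, `b ∉ B'`
    obtain ⟨b, hbB, hb⟩ := SetLike.not_le_iff_exists.mp h
    obtain ⟨y, hy⟩ := exists_mul_cycQuotMap_eq_one Λ M B' hB' hb
    refine ⟨(AddMonoidAlgebra.single b 1 - 1) * y, hy, ?_⟩
    rw [smul_cycQuot_def, map_mul, cycQuotMap_single_sub_one_of_mem Λ M B hbB, zero_mul, zero_mul]
  · -- some `b ∈ B'`, `b ∉ B`
    obtain ⟨b, hbB', hb⟩ := SetLike.not_le_iff_exists.mp h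
    obtain ⟨y, hy⟩ := exists_mul_cycQuotMap_eq_one Λ M B hB hb
    refine ⟨1 - (AddMonoidAlgebra.single b 1 - 1) * y, ?_, ?_⟩
    · rw [mem_locSubmonoid, map_sub, map_one, map_mul,
        cycQuotMap_single_sub_one_of_mem Λ M B' hbB', zero_mul, sub_zero]
    · rw [smul_cycQuot_def, map_sub, map_one, hy, sub_self, zero_mul]

end Groth.Agent.S19277
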