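import Groth.Statements.S19288
-- import your own Groth.Agent.* helpers here
import Groth.Agent.Lib.EtDescH52b

set_option autoImplicit false
universe u
open CategoryTheory CategoryTheory.Limits MonoidalCategory CartesianMonoidalCategory MonObj AlgebraicGeometry
open AbSch

namespace Groth.Agent.S19288

/-- Let S be a scheme, X a commutative S-group scheme which is etale and separated over S (hence locally
of finite presentation), and P a commutative S-group scheme of finite presentation over S all of
whose fibres are connected. Then every homomorphism of S-group schemes from P to X is trivial (it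
factors through the unit section). -/
theorem result {S : Scheme.{u}} (P X : Over S)
    [GrpObj P] [IsCommMonObj P] [GrpObj X] [IsCommMonObj X]
    [Etale X.hom] [IsSeparated X.hom]
    [QuasiCompact P.hom] [QuasiSeparated P.hom] [LocallyOfFinitePresentation P.hom]
    (hP : ∀ s : S, ConnectedSpace ↥(P.hom.fiber s))
    (f : P ⟶ X) [IsMonHom f] : f = 1 := by
  -- the unit section
  let e : S ⟶ X.left := (η[X]).left
  have he : e ≫ X.hom = 𝟙 S := Over.w (η[X])
  have hopen : IsOpenImmersion e :=
    Groth.Agent.Lib.EtDescH52.isOpenImmersion_of_section X.hom e he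
  have hclosed : IsClosedImmersion e := by
    have : IsClosedImmersion (e ≫ X.hom) := by rw [he]; infer_instance
    exact IsClosedImmersion.of_comp e X.hom
  have hclopen : IsClopen (Set.range e) := ⟨e.isClosedEmbedding.isClosed_range, e.isOpenEmbedding.isOpen_range⟩
  let eP : S ⟶ P.left := (η[P]).left
  have heP : eP ≫ P.hom = 𝟙 S := Over.w (η[P])
  have hunit : eP ≫ f.left = e := by
    have h1 : η[P] ≫ f = η[X] := IsMonHom.one_hom (f := f)
    exact congrArg CommaMorphism.left h1
  -- the preimage of the unit section is everything
  have hW : IsClopen (f.left ⁻¹' Set.range e) := hclopen.preimage f.left.continuous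
  have hall : ∀ p : P.left, f.left p ∈ Set.range e := by
    intro p
    let s := P.hom p
    have hconn : _root_.IsPreconnected (P.hom ⁻¹' {s}) := by
      rw [← Scheme.Hom.range_fiberι]
      have := hP s
      exact (isPreconnected_range (P.hom.fiberι s).continuous)
    have hne : ((P.hom ⁻¹' {s}) ∩ (f.left ⁻¹' Set.range e)).Nonempty := by
      refine ⟨eP s, ?_, ?_⟩
      · show P.hom (eP s) = s
        rw [← Scheme.Hom.comp_apply, heP]; rfl
      · show f.left (eP s) ∈ Set.range e
        rw [← Scheme.Hom.comp_apply, hunit]
        exact ⟨s, rfl⟩
    exact hconn.subset_isClopen hW hne rfl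
  have hrange : Set.range f.left ⊆ Set.range e := by
    rintro _ ⟨p, rfl⟩; exact hall p
  let h : P.left ⟶ S := IsOpenImmersion.lift e f.left hrange
  have hh : h ≫ e = f.left := IsOpenImmersion.lift_fac _ _ _
  have hh2 : h = P.hom := by
    calc h = h ≫ e ≫ X.hom := by rw [he, Category.comp_id]
      _ = f.left ≫ X.hom := by rw [← Category.assoc, hh]
      _ = P.hom := Over.w f
  ext1
  rw [← hh, hh2]
  rfl

end Groth.Agent.S19288
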