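import Groth.Statements.S19306
import Mathlib
-- import your own Groth.Agent.* helpers here

set_option autoImplicit false
universe u
open PowerSeries
open CAlg

namespace Groth.Agent.S19306

open scoped TensorProduct

section shift
variable {R : Type u} [CommRing R]

/-- drop the first `M` coefficients -/
noncomputable def sh (M : ℕ) : R⟦X⟧ →ₗ[R] R⟦X⟧ where
  toFun f := PowerSeries.mk fun k => PowerSeries.coeff (k + M) f
  map_add' f g := by ext k; simp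
  map_smul' a f := by ext k; simp

theorem sh_X_pow_mul (M : ℕ) (f : R⟦X⟧) : sh M ((X : R⟦X⟧) ^ M * f) = f := by
  ext k
  simp [sh, PowerSeries.coeff_X_pow_mul]
theorem map_smul_top_le {A B : Type u} [AddCommGroup A] [Module R A] [AddCommGroup B] [Module R B]
    (I : Ideal R) (ρ : A →ₗ[R] B) (N : Submodule R A) (N' : Submodule R B)
    (h : ∀ x ∈ N, ρ x ∈ N') {a : A} (ha : a ∈ I • N) :
    ρ a ∈ I • N' := by
  have : ρ a ∈ Submodule.map ρ (I • N) := Submodule.mem_map_of_mem ha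
  rw [Submodule.map_smul''] at this
  have hle : Submodule.map ρ N ≤ N' := by
    rintro _ ⟨x, hx, rfl⟩
    exact h x hx
  exact (smul_mono_right I hle : I • Submodule.map ρ N ≤ I • N') this

theorem cancel {P : Type u} [AddCommGroup P] [Module R⟦X⟧ P] [Module R P]
    [IsScalarTower R R⟦X⟧ P] [Module.Projective R⟦X⟧ P] (I : Ideal R) (M : ℕ) (p : P)
    (h : (X : R⟦X⟧) ^ M • p ∈ I • (⊤ : Submodule R P)) : p ∈ I • (⊤ : Submodule R P) := by
  obtain ⟨s, hs⟩ := Module.projective_def'.mp (inferInstance : Module.Projective R⟦X⟧ P)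
  let shG : (P →₀ R⟦X⟧) →ₗ[R] (P →₀ R⟦X⟧) := Finsupp.mapRange.linearMap (sh M)
  let ρ : P →ₗ[R] P :=
    ((Finsupp.linearCombination R⟦X⟧ (id : P → P)).restrictScalars R) ∘ₗ shG ∘ₗ
      (s.restrictScalars R)
  have hρ : ρ ((X : R⟦X⟧) ^ M • p) = p := by
    have h1 : shG (s ((X : R⟦X⟧) ^ M • p)) = s p := by
      rw [map_smul]
      ext b
      simp only [shG, Finsupp.mapRange.linearMap_apply, Finsupp.mapRange_apply,
        Finsupp.smul_apply, smul_eq_mul]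
      exact congrArg _ (sh_X_pow_mul M _)
    simp only [ρ, LinearMap.comp_apply, LinearMap.restrictScalars_apply, h1]
    exact LinearMap.congr_fun hs p
  rw [← hρ]
  exact map_smul_top_le I ρ ⊤ ⊤ (fun _ _ => Submodule.mem_top) h

end shift

section crit
variable {R : Type u} [CommRing R] {E Q : Type u} [AddCommGroup E] [Module R E]
  [AddCommGroup Q] [Module R Q]

theorem flat_of_crit [Module.Flat R E] (l : E →ₗ[R] Q) (hl : Function.Surjective l)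
    (hc : ∀ (I : Ideal R) (c : E), c ∈ LinearMap.ker l → c ∈ I • (⊤ : Submodule R E) →
      c ∈ I • LinearMap.ker l) : Module.Flat R Q := by
  rw [Module.Flat.iff_lift_lsmul_comp_subtype_injective]
  intro I hI
  have hE := (Module.Flat.iff_lift_lsmul_comp_subtype_injective (R := R) (M := E)).mp
    inferInstance hI
  set μE := TensorProduct.lift ((LinearMap.lsmul R E).comp I.subtype) with hμE
  set μQ := TensorProduct.lift ((LinearMap.lsmul R Q).comp I.subtype) with hμQ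
  have hnat : ∀ y, l (μE y) = μQ (LinearMap.lTensor I l y) := by
    intro y
    induction y using TensorProduct.induction_on with
    | zero => simp
    | tmul a x => simp [hμE, hμQ]
    | add a b ha hb => simp [map_add, ha, hb]
  have hrange : ∀ y, μE y ∈ I • (⊤ : Submodule R E) := by
    intro y
    induction y using TensorProduct.induction_on with
    | zero => simp
    | tmul a x =>
      simp only [hμE, TensorProduct.lift.tmul, LinearMap.comp_apply, Submodule.subtype_apply,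
        LinearMap.lsmul_apply]
      exact Submodule.smul_mem_smul a.2 Submodule.mem_top
    | add a b ha hb => rw [map_add]; exact Submodule.add_mem _ ha hb
  rw [injective_iff_map_eq_zero]
  intro z hz
  obtain ⟨y, rfl⟩ := LinearMap.lTensor_surjective I hl z
  have hker : μE y ∈ LinearMap.ker l := by
    rw [LinearMap.mem_ker, hnat, hz]
  have hmem := hc I _ hker (hrange y)
  have key : ∀ e ∈ I • LinearMap.ker l, ∃ y₂ : I ⊗[R] E, μE y₂ = e ∧ LinearMap.lTensor I l y₂ = 0 := by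
    intro e he
    induction he using Submodule.smul_induction_on' with
    | smul a ha k hk =>
      refine ⟨(⟨a, ha⟩ : I) ⊗ₜ k, by simp [hμE], ?_⟩
      rw [LinearMap.lTensor_tmul, LinearMap.mem_ker.mp hk, TensorProduct.tmul_zero]
    | add x hx y hy ihx ihy =>
      obtain ⟨y₁, h1, h1'⟩ := ihx
      obtain ⟨y₂, h2, h2'⟩ := ihy
      exact ⟨y₁ + y₂, by rw [map_add, h1, h2], by rw [map_add, h1', h2', add_zero]⟩
  obtain ⟨y₂, h2, h2'⟩ := key _ hmem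
  have : y = y₂ := hE (by rw [h2])
  rw [this, h2']

end crit

section trunc
variable {R : Type u} [CommRing R] (n M : ℕ)

noncomputable def tr : (Fin n → R⟦X⟧) →ₗ[R] (Fin n → Fin M → R) :=
  LinearMap.pi fun j => LinearMap.pi fun i =>
    (PowerSeries.coeff (R := R) (i : ℕ)) ∘ₗ LinearMap.proj j

noncomputable def emb : (Fin n → Fin M → R) →ₗ[R] (Fin n → R⟦X⟧) :=
  LinearMap.pi fun j => ∑ i : Fin M,
    (PowerSeries.monomial (R := R) (i : ℕ)) ∘ₗ (LinearMap.proj i) ∘ₗ (LinearMap.proj j)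

theorem tr_apply (v : Fin n → R⟦X⟧) (j : Fin n) (i : Fin M) :
    tr n M v j i = PowerSeries.coeff (i : ℕ) (v j) := rfl

theorem emb_apply (c : Fin n → Fin M → R) (j : Fin n) :
    emb n M c j = ∑ i : Fin M, PowerSeries.monomial (i : ℕ) (c j i) := by
  simp [emb]

theorem tr_emb (c : Fin n → Fin M → R) : tr n M (emb n M c) = c := by
  ext j i
  rw [tr_apply, emb_apply, map_sum]
  simp [PowerSeries.coeff_monomial, Fin.val_inj]

theorem decomp (v : Fin n → R⟦X⟧) :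
    v = emb n M (tr n M v) + (X : R⟦X⟧) ^ M • (fun j => sh M (v j)) := by
  ext j k
  simp only [Pi.add_apply, Pi.smul_apply, smul_eq_mul, map_add, emb_apply, map_sum,
    PowerSeries.coeff_monomial, tr_apply, PowerSeries.coeff_X_pow_mul']
  by_cases hk : k < M
  · have h1 : ∑ x : Fin M, (if k = (x : ℕ) then PowerSeries.coeff (x : ℕ) (v j) else 0) =
        PowerSeries.coeff k (v j) := by
      rw [Finset.sum_eq_single (⟨k, hk⟩ : Fin M)]
      · simp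
      · intro b _ hb
        rw [if_neg]
        intro h
        exact hb (Fin.ext h.symm)
      · simp
    rw [h1, if_neg (by omega), add_zero]
  · have h1 : ∑ x : Fin M, (if k = (x : ℕ) then PowerSeries.coeff (x : ℕ) (v j) else 0) = 0 := by
      apply Finset.sum_eq_zero
      intro x _
      rw [if_neg]
      have := x.2
      omega
    rw [h1, if_pos (by omega), zero_add]
    simp only [sh, LinearMap.coe_mk, AddHom.coe_mk, PowerSeries.coeff_mk]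
    rw [Nat.sub_add_cancel (by omega)]

theorem tr_X_pow_smul (w : Fin n → R⟦X⟧) : tr n M ((X : R⟦X⟧) ^ M • w) = 0 := by
  ext j i
  rw [tr_apply]
  simp only [Pi.smul_apply, smul_eq_mul, PowerSeries.coeff_X_pow_mul', Pi.zero_apply]
  rw [if_neg]
  have := i.2
  omega

end trunc


section fwd
variable {R : Type u} [CommRing R] (n M : ℕ) (Λ : Submodule R⟦X⟧ (Fin n → R⟦X⟧))

/-- the `R`-linear surjection from the truncated free module to the quotient -/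
noncomputable def lmap : (Fin n → Fin M → R) →ₗ[R] ((Fin n → R⟦X⟧) ⧸ Λ) :=
  (Λ.mkQ.restrictScalars R) ∘ₗ emb n M

theorem lmap_apply (c : Fin n → Fin M → R) : lmap n M Λ c = Λ.mkQ (emb n M c) := rfl

variable (hΛ : ∀ v : Fin n → R⟦X⟧, ((PowerSeries.X : R⟦X⟧) ^ M) • v ∈ Λ)
include hΛ

theorem lmap_tr (v : Fin n → R⟦X⟧) : lmap n M Λ (tr n M v) = Λ.mkQ v := by
  rw [lmap_apply]
  conv_rhs => rw [decomp n M v]
  have h0 : Λ.mkQ ((X : R⟦X⟧) ^ M • fun j => (sh M) (v j)) = 0 := by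
    rw [Submodule.mkQ_apply]
    exact (Submodule.Quotient.mk_eq_zero Λ).mpr (hΛ _)
  rw [map_add, h0, add_zero]

theorem lmap_surjective : Function.Surjective (lmap n M Λ) := by
  intro q
  obtain ⟨v, rfl⟩ := Λ.mkQ_surjective q
  exact ⟨tr n M v, lmap_tr n M Λ hΛ v⟩

theorem tr_mem_ker {v : Fin n → R⟦X⟧} (hv : v ∈ Λ) : tr n M v ∈ LinearMap.ker (lmap n M Λ) := by
  rw [LinearMap.mem_ker, lmap_tr n M Λ hΛ]
  exact (Submodule.Quotient.mk_eq_zero Λ).mpr hv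

omit hΛ in
theorem emb_mem_of_mem_ker {c : Fin n → Fin M → R} (hc : c ∈ LinearMap.ker (lmap n M Λ)) :
    emb n M c ∈ Λ := by
  rw [LinearMap.mem_ker, lmap_apply] at hc
  exact (Submodule.Quotient.mk_eq_zero Λ).mp hc

theorem crit_holds [Module.Projective R⟦X⟧ Λ] (I : Ideal R) (c : Fin n → Fin M → R)
    (hcK : c ∈ LinearMap.ker (lmap n M Λ)) (hcI : c ∈ I • (⊤ : Submodule R (Fin n → Fin M → R))) :
    c ∈ I • LinearMap.ker (lmap n M Λ) := by
  have hμ : emb n M c ∈ Λ := emb_mem_of_mem_ker n M Λ hcK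
  have hμI : emb n M c ∈ I • (⊤ : Submodule R (Fin n → R⟦X⟧)) :=
    map_smul_top_le I (emb n M) ⊤ ⊤ (fun _ _ => Submodule.mem_top) hcI
  let θ : (Fin n → R⟦X⟧) →ₗ[R] Λ :=
    { toFun := fun v => ⟨(X : R⟦X⟧) ^ M • v, hΛ v⟩
      map_add' := fun a b => Subtype.ext (smul_add _ _ _)
      map_smul' := fun a b => Subtype.ext (smul_comm _ _ _) }
  let p : Λ := ⟨emb n M c, hμ⟩
  have h1 : (X : R⟦X⟧) ^ M • p ∈ I • (⊤ : Submodule R Λ) := by
    have : θ (emb n M c) = (X : R⟦X⟧) ^ M • p := Subtype.ext rfl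
    rw [← this]
    exact map_smul_top_le I θ ⊤ ⊤ (fun _ _ => Submodule.mem_top) hμI
  have h2 : p ∈ I • (⊤ : Submodule R Λ) := cancel I M p h1
  let ρ' : Λ →ₗ[R] (Fin n → Fin M → R) := tr n M ∘ₗ (Λ.subtype.restrictScalars R)
  have h3 : ρ' p ∈ I • LinearMap.ker (lmap n M Λ) :=
    map_smul_top_le I ρ' ⊤ _ (fun x _ => tr_mem_ker n M Λ hΛ x.2) h2
  have h4 : ρ' p = c := tr_emb n M c
  rwa [h4] at h3

theorem ker_fg (hfg : Λ.FG) : (LinearMap.ker (lmap n M Λ)).FG := by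
  obtain ⟨r, g, hg⟩ := Submodule.fg_iff_exists_fin_generating_family.mp hfg
  have hgmem : ∀ k, g k ∈ Λ := fun k => hg ▸ Submodule.subset_span (Set.mem_range_self k)
  let gen : Fin M × Fin r → (Fin n → Fin M → R) :=
    fun ik => tr n M ((X : R⟦X⟧) ^ (ik.1 : ℕ) • g ik.2)
  have heq : LinearMap.ker (lmap n M Λ) = Submodule.span R (Set.range gen) := by
    apply le_antisymm
    · intro c hc
      have hμ : emb n M c ∈ Λ := emb_mem_of_mem_ker n M Λ hc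
      rw [← hg] at hμ
      obtain ⟨s, hs⟩ := (Submodule.mem_span_range_iff_exists_fun _).mp hμ
      have hc' : c = ∑ k, tr n M (s k • g k) := by
        rw [← map_sum, hs, tr_emb]
      rw [hc']
      refine Submodule.sum_mem _ fun k _ => ?_
      -- decompose s k
      have hdec : s k = (∑ i : Fin M, PowerSeries.monomial (i : ℕ) (PowerSeries.coeff (i : ℕ) (s k)))
          + (X : R⟦X⟧) ^ M * sh M (s k) := by
        have := congrFun (decomp 1 M (fun _ => s k)) 0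
        simpa [emb_apply, tr_apply] using this
      rw [hdec, add_smul, map_add, mul_smul, tr_X_pow_smul, add_zero, Finset.sum_smul, map_sum]
      refine Submodule.sum_mem _ fun i _ => ?_
      have : (PowerSeries.monomial (i : ℕ) (PowerSeries.coeff (i : ℕ) (s k))) • g k =
          (PowerSeries.coeff (i : ℕ) (s k)) • ((X : R⟦X⟧) ^ (i : ℕ) • g k) := by
        rw [PowerSeries.monomial_eq_C_mul_X_pow, mul_smul, PowerSeries.C_eq_algebraMap,
          algebraMap_smul]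
      rw [this, map_smul]
      exact Submodule.smul_mem _ _ (Submodule.subset_span ⟨(i, k), rfl⟩)
    · rw [Submodule.span_le]
      rintro _ ⟨ik, rfl⟩
      exact tr_mem_ker n M Λ hΛ (Λ.smul_mem _ (hgmem ik.2))
  rw [heq]
  exact Submodule.fg_span (Set.finite_range gen)

theorem forward (hfin : Module.Finite R⟦X⟧ Λ) (hproj : Module.Projective R⟦X⟧ Λ) :
    Module.Projective R ((Fin n → R⟦X⟧) ⧸ Λ) := by
  have hflat : Module.Flat R ((Fin n → R⟦X⟧) ⧸ Λ) :=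
    flat_of_crit (lmap n M Λ) (lmap_surjective n M Λ hΛ) (crit_holds n M Λ hΛ)
  have hfp : Module.FinitePresentation R ((Fin n → R⟦X⟧) ⧸ Λ) :=
    Module.finitePresentation_of_free_of_surjective (lmap n M Λ) (lmap_surjective n M Λ hΛ)
      (ker_fg n M Λ hΛ (Module.Finite.iff_fg.mp hfin))
  exact Module.Flat.projective_of_finitePresentation

end fwd


section bwd
variable {R : Type u} [CommRing R] {n : ℕ} (M : ℕ) (Λ : Submodule R⟦X⟧ (Fin n → R⟦X⟧))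

/-- the counit `S ⊗ Q → Q` -/
noncomputable def eps : R⟦X⟧ ⊗[R] ((Fin n → R⟦X⟧) ⧸ Λ) →ₗ[R⟦X⟧] ((Fin n → R⟦X⟧) ⧸ Λ) :=
  LinearMap.liftBaseChange R⟦X⟧ (LinearMap.id)

/-- multiplication by `X` on the quotient, as an `R`-linear map -/
noncomputable def xR : Module.End R ((Fin n → R⟦X⟧) ⧸ Λ) :=
  ((LinearMap.lsmul R⟦X⟧ ((Fin n → R⟦X⟧) ⧸ Λ)) X).restrictScalars R

noncomputable def BB : Module.End R⟦X⟧ (R⟦X⟧ ⊗[R] ((Fin n → R⟦X⟧) ⧸ Λ)) :=
  LinearMap.baseChange R⟦X⟧ (xR Λ)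

noncomputable def DD : Module.End R⟦X⟧ (R⟦X⟧ ⊗[R] ((Fin n → R⟦X⟧) ⧸ Λ)) :=
  algebraMap R⟦X⟧ _ X - BB Λ

noncomputable def DD' : Module.End R⟦X⟧ (R⟦X⟧ ⊗[R] ((Fin n → R⟦X⟧) ⧸ Λ)) :=
  ∑ i ∈ Finset.range M, (algebraMap R⟦X⟧ _ X) ^ i * (BB Λ) ^ (M - 1 - i)

theorem eps_tmul (a : R⟦X⟧) (q : (Fin n → R⟦X⟧) ⧸ Λ) : eps Λ (a ⊗ₜ q) = a • q := by
  simp [eps]

theorem eps_surjective : Function.Surjective (eps Λ) := fun q => ⟨1 ⊗ₜ q, by simp [eps_tmul]⟩

theorem xR_pow_apply (i : ℕ) (q : (Fin n → R⟦X⟧) ⧸ Λ) : (xR Λ ^ i) q = (X : R⟦X⟧) ^ i • q := by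
  induction i generalizing q with
  | zero => simp
  | succ i ih =>
    rw [pow_succ, Module.End.mul_apply, ih, pow_succ, mul_smul]
    rfl

theorem DD_tmul (a : R⟦X⟧) (q : (Fin n → R⟦X⟧) ⧸ Λ) :
    DD Λ (a ⊗ₜ q) = (X * a) ⊗ₜ q - a ⊗ₜ ((X : R⟦X⟧) • q) := by
  simp only [DD, BB, LinearMap.sub_apply, Module.algebraMap_end_apply, LinearMap.baseChange_tmul,
    TensorProduct.smul_tmul', smul_eq_mul]
  rfl

theorem eps_DD (t : R⟦X⟧ ⊗[R] ((Fin n → R⟦X⟧) ⧸ Λ)) : eps Λ (DD Λ t) = 0 := by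
  induction t using TensorProduct.induction_on with
  | zero => simp
  | tmul a q =>
    rw [DD_tmul, map_sub, eps_tmul, eps_tmul, mul_smul, smul_comm, sub_self]
  | add a b ha hb => rw [map_add, map_add, ha, hb, add_zero]

variable (hΛ : ∀ v : Fin n → R⟦X⟧, ((PowerSeries.X : R⟦X⟧) ^ M) • v ∈ Λ)
include hΛ

theorem X_pow_smul_eq_zero (q : (Fin n → R⟦X⟧) ⧸ Λ) : (X : R⟦X⟧) ^ M • q = 0 := by
  obtain ⟨v, rfl⟩ := Λ.mkQ_surjective q
  rw [← map_smul, Submodule.mkQ_apply]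
  exact (Submodule.Quotient.mk_eq_zero Λ).mpr (hΛ v)

theorem BB_pow : BB Λ ^ M = 0 := by
  have h0 : xR Λ ^ M = 0 := by
    ext q
    rw [xR_pow_apply, X_pow_smul_eq_zero M Λ hΛ]
    rfl
  rw [BB, ← LinearMap.baseChange_pow, h0, LinearMap.baseChange_zero]

theorem DD'_mul_DD : DD' M Λ * DD Λ = algebraMap R⟦X⟧ _ ((X : R⟦X⟧) ^ M) := by
  have hc : Commute (algebraMap R⟦X⟧ (Module.End R⟦X⟧ (R⟦X⟧ ⊗[R] ((Fin n → R⟦X⟧) ⧸ Λ))) X) (BB Λ) :=
    Algebra.commute_algebraMap_left _ _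
  have h := Commute.geom_sum₂_mul (R := Module.End R⟦X⟧ (R⟦X⟧ ⊗[R] ((Fin n → R⟦X⟧) ⧸ Λ))) hc M
  rw [BB_pow M Λ hΛ, ← map_pow] at h
  exact h.trans (sub_zero (G := Module.End R⟦X⟧ (R⟦X⟧ ⊗[R] ((Fin n → R⟦X⟧) ⧸ Λ))) _)

theorem DD_mul_DD' : DD Λ * DD' M Λ = algebraMap R⟦X⟧ _ ((X : R⟦X⟧) ^ M) := by
  have hc : Commute (algebraMap R⟦X⟧ (Module.End R⟦X⟧ (R⟦X⟧ ⊗[R] ((Fin n → R⟦X⟧) ⧸ Λ))) X) (BB Λ) :=
    Algebra.commute_algebraMap_left _ _
  have h := Commute.mul_geom_sum₂ (R := Module.End R⟦X⟧ (R⟦X⟧ ⊗[R] ((Fin n → R⟦X⟧) ⧸ Λ))) hc M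
  rw [BB_pow M Λ hΛ, ← map_pow] at h
  exact h.trans (sub_zero (G := Module.End R⟦X⟧ (R⟦X⟧ ⊗[R] ((Fin n → R⟦X⟧) ⧸ Λ))) _)

theorem X_pow_smul_mem_range (t : R⟦X⟧ ⊗[R] ((Fin n → R⟦X⟧) ⧸ Λ)) :
    (X : R⟦X⟧) ^ M • t ∈ LinearMap.range (DD Λ) := by
  refine ⟨DD' M Λ t, ?_⟩
  rw [← Module.End.mul_apply, DD_mul_DD' M Λ hΛ]
  rfl

theorem DD_injective [Module.Projective R ((Fin n → R⟦X⟧) ⧸ Λ)] :
    Function.Injective (DD Λ) := by
  rw [injective_iff_map_eq_zero]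
  intro t ht
  have h1 : (X : R⟦X⟧) ^ M • t = 0 := by
    have h0 : (DD' M Λ * DD Λ) t = (X : R⟦X⟧) ^ M • t := by
      rw [DD'_mul_DD M Λ hΛ]
      rfl
    rw [← h0, Module.End.mul_apply, ht, map_zero]
  have h2 := cancel (R := R) ⊥ M t (by rw [h1]; exact Submodule.zero_mem _)
  rw [Submodule.bot_smul] at h2
  exact (Submodule.mem_bot _).mp h2

end bwd


theorem decomp1 {R : Type u} [CommRing R] (M : ℕ) (a : R⟦X⟧) :
    a = (∑ i : Fin M, PowerSeries.monomial (i : ℕ) (PowerSeries.coeff (i : ℕ) a))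
      + (X : R⟦X⟧) ^ M * sh M a := by
  have := congrFun (decomp 1 M (fun _ => a)) 0
  simpa [emb_apply, tr_apply] using this

section bwd2
variable {R : Type u} [CommRing R] {n : ℕ} (M : ℕ) (Λ : Submodule R⟦X⟧ (Fin n → R⟦X⟧))

theorem pow_tmul_sub_mem (i : ℕ) (q : (Fin n → R⟦X⟧) ⧸ Λ) :
    ((X : R⟦X⟧) ^ i) ⊗ₜ[R] q - (1 : R⟦X⟧) ⊗ₜ[R] ((X : R⟦X⟧) ^ i • q) ∈ LinearMap.range (DD Λ) := by
  induction i with
  | zero => simp
  | succ i ih =>
    have h1 : ((X : R⟦X⟧) ^ (i + 1)) ⊗ₜ[R] q - (1 : R⟦X⟧) ⊗ₜ[R] ((X : R⟦X⟧) ^ (i + 1) • q) =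
        (X : R⟦X⟧) • (((X : R⟦X⟧) ^ i) ⊗ₜ[R] q - (1 : R⟦X⟧) ⊗ₜ[R] ((X : R⟦X⟧) ^ i • q)) +
          DD Λ ((1 : R⟦X⟧) ⊗ₜ[R] ((X : R⟦X⟧) ^ i • q)) := by
      rw [DD_tmul, smul_sub, TensorProduct.smul_tmul', TensorProduct.smul_tmul', smul_eq_mul,
        smul_eq_mul, pow_succ', mul_smul]
      abel
    rw [h1]
    exact Submodule.add_mem _ (Submodule.smul_mem _ _ ih) (LinearMap.mem_range_self _ _)

variable (hΛ : ∀ v : Fin n → R⟦X⟧, ((PowerSeries.X : R⟦X⟧) ^ M) • v ∈ Λ)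
include hΛ

theorem tmul_sub_mem (a : R⟦X⟧) (q : (Fin n → R⟦X⟧) ⧸ Λ) :
    a ⊗ₜ[R] q - (1 : R⟦X⟧) ⊗ₜ[R] (a • q) ∈ LinearMap.range (DD Λ) := by
  have hadd : ∀ a₁ a₂ : R⟦X⟧,
      a₁ ⊗ₜ[R] q - (1 : R⟦X⟧) ⊗ₜ[R] (a₁ • q) ∈ LinearMap.range (DD Λ) →
      a₂ ⊗ₜ[R] q - (1 : R⟦X⟧) ⊗ₜ[R] (a₂ • q) ∈ LinearMap.range (DD Λ) →
      (a₁ + a₂) ⊗ₜ[R] q - (1 : R⟦X⟧) ⊗ₜ[R] ((a₁ + a₂) • q) ∈ LinearMap.range (DD Λ) := by
    intro a₁ a₂ h1 h2
    have : (a₁ + a₂) ⊗ₜ[R] q - (1 : R⟦X⟧) ⊗ₜ[R] ((a₁ + a₂) • q) =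
        (a₁ ⊗ₜ[R] q - (1 : R⟦X⟧) ⊗ₜ[R] (a₁ • q)) + (a₂ ⊗ₜ[R] q - (1 : R⟦X⟧) ⊗ₜ[R] (a₂ • q)) := by
      rw [TensorProduct.add_tmul, add_smul, TensorProduct.tmul_add]
      abel
    rw [this]
    exact Submodule.add_mem _ h1 h2
  rw [decomp1 M a]
  apply hadd
  · -- the polynomial part
    have hsum : ∀ (s : Finset (Fin M)),
        (∑ i ∈ s, PowerSeries.monomial (i : ℕ) (PowerSeries.coeff (i : ℕ) a)) ⊗ₜ[R] q -
          (1 : R⟦X⟧) ⊗ₜ[R] ((∑ i ∈ s, PowerSeries.monomial (i : ℕ) (PowerSeries.coeff (i : ℕ) a)) • q)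
          ∈ LinearMap.range (DD Λ) := by
      intro s
      induction s using Finset.induction_on with
      | empty => simp
      | insert i s hi ih =>
        rw [Finset.sum_insert hi]
        apply hadd _ _ _ ih
        have h1 : (PowerSeries.monomial (i : ℕ) (PowerSeries.coeff (i : ℕ) a)) ⊗ₜ[R] q =
            ((X : R⟦X⟧) ^ (i : ℕ)) ⊗ₜ[R] ((PowerSeries.coeff (i : ℕ) a) • q) := by
          rw [PowerSeries.monomial_eq_C_mul_X_pow, PowerSeries.C_eq_algebraMap,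
            ← Algebra.smul_def, TensorProduct.smul_tmul]
        have h2 : (PowerSeries.monomial (i : ℕ) (PowerSeries.coeff (i : ℕ) a)) • q =
            (X : R⟦X⟧) ^ (i : ℕ) • ((PowerSeries.coeff (i : ℕ) a) • q) := by
          rw [PowerSeries.monomial_eq_C_mul_X_pow, mul_comm, mul_smul, PowerSeries.C_eq_algebraMap,
            algebraMap_smul]
        rw [h1, h2]
        exact pow_tmul_sub_mem Λ _ _
    exact hsum Finset.univ
  · have h1 : ((X : R⟦X⟧) ^ M * sh M a) • q = 0 := by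
      rw [mul_comm, mul_smul, X_pow_smul_eq_zero M Λ hΛ, smul_zero]
    have h2 : ((X : R⟦X⟧) ^ M * sh M a) ⊗ₜ[R] q = (X : R⟦X⟧) ^ M • ((sh M a) ⊗ₜ[R] q) := by
      rw [TensorProduct.smul_tmul', smul_eq_mul]
    rw [h1, TensorProduct.tmul_zero, sub_zero, h2]
    exact X_pow_smul_mem_range M Λ hΛ _

theorem sub_eps_mem (t : R⟦X⟧ ⊗[R] ((Fin n → R⟦X⟧) ⧸ Λ)) :
    t - (1 : R⟦X⟧) ⊗ₜ[R] (eps Λ t) ∈ LinearMap.range (DD Λ) := by
  induction t using TensorProduct.induction_on with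
  | zero => simp
  | tmul a q => rw [eps_tmul]; exact tmul_sub_mem M Λ hΛ a q
  | add a b ha hb =>
    have : a + b - (1 : R⟦X⟧) ⊗ₜ[R] (eps Λ (a + b)) =
        (a - (1 : R⟦X⟧) ⊗ₜ[R] (eps Λ a)) + (b - (1 : R⟦X⟧) ⊗ₜ[R] (eps Λ b)) := by
      rw [map_add, TensorProduct.tmul_add]; abel
    rw [this]
    exact Submodule.add_mem _ ha hb

theorem ker_eps_le : LinearMap.ker (eps Λ) ≤ LinearMap.range (DD Λ) := by
  intro t ht
  have := sub_eps_mem M Λ hΛ t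
  rwa [LinearMap.mem_ker.mp ht, TensorProduct.tmul_zero, sub_zero] at this

theorem backward (hproj : Module.Projective R ((Fin n → R⟦X⟧) ⧸ Λ)) :
    Module.Finite R⟦X⟧ Λ ∧ Module.Projective R⟦X⟧ Λ := by
  have : Module.Finite R ((Fin n → R⟦X⟧) ⧸ Λ) :=
    Module.Finite.of_surjective (lmap n M Λ) (lmap_surjective n M Λ hΛ)
  obtain ⟨φ, hφ⟩ := Module.projective_lifting_property (eps Λ) Λ.mkQ (eps_surjective Λ)
  obtain ⟨ψ, hψ⟩ := Module.projective_lifting_property Λ.mkQ (eps Λ) Λ.mkQ_surjective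
  have hφ' : ∀ v, eps Λ (φ v) = Λ.mkQ v := fun v => LinearMap.congr_fun hφ v
  have hψ' : ∀ t, Λ.mkQ (ψ t) = eps Λ t := fun t => LinearMap.congr_fun hψ t
  let eD := LinearEquiv.ofInjective (DD Λ) (DD_injective M Λ hΛ)
  let s0 : (Fin n → R⟦X⟧) × (R⟦X⟧ ⊗[R] ((Fin n → R⟦X⟧) ⧸ Λ)) →ₗ[R⟦X⟧] (Fin n → R⟦X⟧) :=
    LinearMap.fst _ _ _ - ψ ∘ₗ (DD Λ ∘ₗ LinearMap.snd _ _ _ + φ ∘ₗ LinearMap.fst _ _ _)
  have hs0 : ∀ x, s0 x ∈ Λ := by
    intro x
    rw [← Submodule.Quotient.mk_eq_zero, ← Submodule.mkQ_apply]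
    simp only [s0, LinearMap.sub_apply, LinearMap.comp_apply, LinearMap.add_apply, map_sub,
      map_add, hψ', eps_DD, hφ', LinearMap.fst_apply, LinearMap.snd_apply]
    abel
  let s : (Fin n → R⟦X⟧) × (R⟦X⟧ ⊗[R] ((Fin n → R⟦X⟧) ⧸ Λ)) →ₗ[R⟦X⟧] Λ :=
    LinearMap.codRestrict Λ s0 hs0
  have hi0 : ∀ l : Λ, (-(φ ∘ₗ Λ.subtype)) l ∈ LinearMap.range (DD Λ) := by
    intro l
    apply ker_eps_le M Λ hΛ
    rw [LinearMap.mem_ker, LinearMap.neg_apply, map_neg, LinearMap.comp_apply, hφ',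
      Submodule.subtype_apply, Submodule.mkQ_apply, (Submodule.Quotient.mk_eq_zero Λ).mpr l.2,
      neg_zero]
  let i : Λ →ₗ[R⟦X⟧] (Fin n → R⟦X⟧) × (R⟦X⟧ ⊗[R] ((Fin n → R⟦X⟧) ⧸ Λ)) :=
    LinearMap.prod Λ.subtype
      (eD.symm.toLinearMap ∘ₗ LinearMap.codRestrict (LinearMap.range (DD Λ)) (-(φ ∘ₗ Λ.subtype)) hi0)
  have hsi : s ∘ₗ i = LinearMap.id := by
    ext l : 1
    apply Subtype.ext
    have hD : DD Λ (eD.symm (LinearMap.codRestrict (LinearMap.range (DD Λ)) (-(φ ∘ₗ Λ.subtype)) hi0 l))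
        = -(φ l) := by
      have := congrArg Subtype.val (eD.apply_symm_apply
        (LinearMap.codRestrict (LinearMap.range (DD Λ)) (-(φ ∘ₗ Λ.subtype)) hi0 l))
      rw [LinearEquiv.ofInjective_apply] at this
      rw [this]
      rfl
    have hil : i l = ((l : Fin n → R⟦X⟧),
        eD.symm (LinearMap.codRestrict (LinearMap.range (DD Λ)) (-(φ ∘ₗ Λ.subtype)) hi0 l)) := rfl
    have hs0v : ∀ (a : Fin n → R⟦X⟧) (t : R⟦X⟧ ⊗[R] ((Fin n → R⟦X⟧) ⧸ Λ)),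
        s0 (a, t) = a - ψ (DD Λ t + φ a) := fun a t => rfl
    show ((s (i l) : Λ) : Fin n → R⟦X⟧) = l
    rw [hil]
    show s0 _ = _
    rw [hs0v, hD, neg_add_cancel, map_zero, sub_zero]
  have hs_surj : Function.Surjective s := fun l => ⟨i l, LinearMap.congr_fun hsi l⟩
  exact ⟨Module.Finite.of_surjective s hs_surj, Module.Projective.of_split i s hsi⟩

end bwd2


/-- Let k be a field, R a commutative k-algebra, n, M natural numbers and Λ an R⟦X⟧-submodule of the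
free module R⟦X⟧^n with X^M · R⟦X⟧^n ⊆ Λ. Then Λ is a finitely generated projective R⟦X⟧-module if
and only if the quotient R⟦X⟧^n / Λ is projective as an R-module. (The published statement
identifies, functorially in R, the families of lattices between t^N Λ₀ and t^{-N} Λ₀ in R((t))^n, Λ₀
the standard lattice, with the R⟦t⟧-submodules in that range whose quotient t^{-N} Λ₀ / Λ is
R-projective; after multiplying by t^N this is the pointwise statement here, with 2N replaced by any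
exponent M; a submodule containing X^M · R⟦X⟧^n automatically spans R((X))^n.) -/
theorem result
    (k : Type u) [Field k] (R : Type u) [CommRing R] [Algebra k R] (n M : ℕ)
    (Λ : Submodule R⟦X⟧ (Fin n → R⟦X⟧))
    (hΛ : ∀ v : Fin n → R⟦X⟧, ((PowerSeries.X : R⟦X⟧) ^ M) • v ∈ Λ) :
    (Module.Finite R⟦X⟧ Λ ∧ Module.Projective R⟦X⟧ Λ) ↔
      Module.Projective R ((Fin n → R⟦X⟧) ⧸ Λ) := by
  constructor
  · rintro ⟨h1, h2⟩
    exact forward n M Λ hΛ h1 h2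
  · intro h
    exact backward M Λ hΛ h

end Groth.Agent.S19306
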