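import Groth.Statements.S19310
import Groth.Agent.Lib.AlgClosedTensor2
import Mathlib.RingTheory.TensorProduct.Free
import Mathlib.RingTheory.Flat.Basic
import Mathlib.LinearAlgebra.Dual.Lemmas
import Mathlib.RingTheory.Nakayama
import Mathlib.Algebra.Module.Torsion.Basic

set_option autoImplicit false
universe u
open TensorProduct
open CAlg

namespace Groth.Agent.S19310

open TensorProduct in
/-- Core algebraic statement: if `g ^ N * f = 0` in `T = R ⊗[k] A` and `f ≠ 0`, there is a maximal
ideal `m` of `R` such that `g` lies in every prime of `T` over `m`. -/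
theorem exists_maximal_forall_mem
    (k : Type u) [Field k] [IsAlgClosed k]
    (A : Type u) [CommRing A] [Algebra k A] [IsDomain A]
    (R : Type u) [CommRing R] [Algebra k R]
    (f : TensorProduct k R A) (hne : f ≠ 0) :
    ∃ m : Ideal R, m.IsMaximal ∧ ∀ (g : TensorProduct k R A) (N : ℕ), g ^ N * f = 0 →
      ∀ P : Ideal (TensorProduct k R A), P.IsPrime →
        P.comap (Algebra.TensorProduct.includeLeftRingHom : R →+* TensorProduct k R A) = m →
          g ∈ P := by
  classical
  let T := TensorProduct k R A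
  let 𝔟 := Module.Free.chooseBasis k A
  let B : Module.Basis _ R T := Algebra.TensorProduct.basis R 𝔟
  let c := B.repr f
  have hc0 : c ≠ 0 := fun h => hne (B.repr.map_eq_zero_iff.mp h)
  -- the coefficient ideal
  let I : Ideal R := Ideal.span (Set.range c)
  have hcI : ∀ i, c i ∈ I := fun i => Ideal.subset_span ⟨i, rfl⟩
  have hfin : (Set.range c).Finite := c.finite_range
  have hfg : (I : Submodule R R).FG := Submodule.fg_span hfin
  obtain ⟨i₀, hi₀⟩ : ∃ i, c i ≠ 0 := by
    by_contra h
    push Not at h
    exact hc0 (Finsupp.ext h)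
  have hann : (I : Submodule R R).annihilator ≠ ⊤ := by
    intro h
    have h1 : (1 : R) ∈ (I : Submodule R R).annihilator := h ▸ Submodule.mem_top
    have := Submodule.mem_annihilator.mp h1 (c i₀) (hcI i₀)
    rw [one_smul] at this
    exact hi₀ this
  obtain ⟨m, hm, hle⟩ := Ideal.exists_le_maximal _ hann
  refine ⟨m, hm, ?_⟩
  -- Nakayama: `I ≠ m I`
  have hnak : ¬ (I : Submodule R R) ≤ m • (I : Submodule R R) := by
    intro h
    obtain ⟨r, hr1, hr2⟩ := Submodule.exists_sub_one_mem_and_smul_eq_zero_of_fg_of_le_smul m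
      (I : Submodule R R) hfg h
    have hrm : r ∈ m := hle (Submodule.mem_annihilator.mpr hr2)
    have : (1 : R) ∈ m := by
      have := m.sub_mem hrm hr1
      simpa using this
    exact hm.ne_top ((Ideal.eq_top_iff_one m).mpr this)
  obtain ⟨i₁, hi₁⟩ : ∃ i, c i ∉ m • (I : Submodule R R) := by
    by_contra h
    push Not at h
    apply hnak
    change Ideal.span (Set.range c) ≤ _
    rw [Ideal.span_le]
    rintro _ ⟨i, rfl⟩
    exact h i
  -- a functional on `I` with values in the residue field, nonzero at `c i₁`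
  letI : Field (R ⧸ m) := Ideal.Quotient.field m
  let V := (↥I) ⧸ (m • (⊤ : Submodule R ↥I))
  let v₁ : V := Submodule.Quotient.mk ⟨c i₁, hcI i₁⟩
  have hv₁ : v₁ ≠ 0 := by
    intro h
    rw [Submodule.Quotient.mk_eq_zero] at h
    apply hi₁
    have h2 : (I.subtype : ↥I →ₗ[R] R) ⟨c i₁, hcI i₁⟩ ∈
        Submodule.map (I.subtype : ↥I →ₗ[R] R) (m • (⊤ : Submodule R ↥I)) :=
      Submodule.mem_map_of_mem h
    rw [Submodule.map_smul'', Submodule.map_top, Submodule.range_subtype] at h2
    exact h2
  obtain ⟨φ, hφ⟩ := Module.Projective.exists_dual_ne_zero (R ⧸ m) hv₁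
  let lam : ↥I →ₗ[R] (R ⧸ m) := (φ.restrictScalars R).comp (Submodule.mkQ _)
  have hlam : lam ⟨c i₁, hcI i₁⟩ ≠ 0 := hφ
  intro g N hgN P hP hPm
  by_contra hgP
  -- the lift of `f` to `I ⊗ T`
  let f'' : ↥I ⊗[R] T := ∑ i ∈ c.support, (⟨c i, hcI i⟩ : ↥I) ⊗ₜ[R] B i
  let G : T →ₗ[R] T := LinearMap.mulLeft R (g ^ N)
  let J : ↥I ⊗[R] T →ₗ[R] T := (TensorProduct.lid R T).toLinearMap.comp (I.subtype.rTensor T)
  have hJinj : Function.Injective J := by
    have h1 : Function.Injective (I.subtype.rTensor T) :=
      Module.Flat.rTensor_preserves_injective_linearMap _ I.injective_subtype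
    exact (TensorProduct.lid R T).injective.comp h1
  have hJf : J f'' = f := by
    simp only [J, f'', map_sum, LinearMap.comp_apply, LinearMap.rTensor_tmul,
      LinearEquiv.coe_coe, Submodule.subtype_apply, TensorProduct.lid_tmul]
    have h3 := B.linearCombination_repr f
    rw [Finsupp.linearCombination_apply, Finsupp.sum] at h3
    exact h3
  -- `G` kills `f''`
  have hG0 : (G.lTensor ↥I) f'' = 0 := by
    apply hJinj
    rw [map_zero]
    have hnat : ∀ z : ↥I ⊗[R] T, J ((G.lTensor ↥I) z) = G (J z) := by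
      intro z
      induction z using TensorProduct.induction_on with
      | zero => simp
      | tmul x t =>
        simp only [J, LinearMap.comp_apply, LinearMap.lTensor_tmul, LinearMap.rTensor_tmul,
          LinearEquiv.coe_coe, TensorProduct.lid_tmul, Submodule.subtype_apply, map_smul]
      | add z₁ z₂ h₁ h₂ => simp only [map_add, h₁, h₂]
    rw [hnat, hJf]
    exact hgN
  -- push forward to the fibre ring `D' = (R ⧸ m) ⊗[R] T`
  let D' := (R ⧸ m) ⊗[R] T
  let F : D' := ∑ i ∈ c.support, lam ⟨c i, hcI i⟩ ⊗ₜ[R] B i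
  have hF : (lam.rTensor T) f'' = F := by
    simp only [f'', F, map_sum, LinearMap.rTensor_tmul]
  have hGF : (G.lTensor (R ⧸ m)) F = 0 := by
    rw [← hF, ← LinearMap.comp_apply, LinearMap.lTensor_comp_rTensor,
      ← LinearMap.rTensor_comp_lTensor, LinearMap.comp_apply, hG0, map_zero]
  have hmul : ∀ z : D', (G.lTensor (R ⧸ m)) z = ((1 : R ⧸ m) ⊗ₜ[R] (g ^ N)) * z := by
    intro z
    induction z using TensorProduct.induction_on with
    | zero => simp
    | tmul x t =>
      rw [LinearMap.lTensor_tmul, Algebra.TensorProduct.tmul_mul_tmul, one_mul]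
      rfl
    | add z₁ z₂ h₁ h₂ => rw [map_add, h₁, h₂, mul_add]
  -- the fibre ring is a domain
  let e : D' ≃ₐ[R] (R ⧸ m) ⊗[k] A := Algebra.TensorProduct.cancelBaseChange k R R (R ⧸ m) A
  haveI : IsDomain ((R ⧸ m) ⊗[k] A) := Groth.Agent.Lib.AlgClosedTensor2.isDomain_tensorProduct
  haveI : IsDomain D' := e.toMulEquiv.isDomain _
  have hprod : ((1 : R ⧸ m) ⊗ₜ[R] (g ^ N) : D') * F = 0 := by rw [← hmul, hGF]
  rcases mul_eq_zero.mp hprod with h | h
  · -- `1 ⊗ g ^ N = 0` contradicts `g ∉ P`
    let f1 : (R ⧸ m) →ₐ[R] (T ⧸ P) := Ideal.Quotient.liftₐ m (Algebra.ofId R (T ⧸ P)) (by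
      intro a ha
      rw [← hPm] at ha
      change algebraMap R (T ⧸ P) a = 0
      rw [IsScalarTower.algebraMap_apply R T (T ⧸ P), Ideal.Quotient.algebraMap_eq,
        Ideal.Quotient.eq_zero_iff_mem]
      exact ha)
    let ψ := Algebra.TensorProduct.productMap f1 (Ideal.Quotient.mkₐ R P)
    have h2 := congrArg ψ h
    rw [Algebra.TensorProduct.productMap_apply_tmul, map_one, one_mul, map_zero,
      Ideal.Quotient.mkₐ_eq_mk, Ideal.Quotient.eq_zero_iff_mem] at h2
    exact hgP (hP.mem_of_pow_mem N h2)
  · -- `F = 0` contradicts `lam (c i₁) ≠ 0`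
    let Bκ : Module.Basis _ (R ⧸ m) D' := Algebra.TensorProduct.basis (R ⧸ m) B
    have hrepr : ∀ i, Bκ.repr (lam ⟨c i, hcI i⟩ ⊗ₜ[R] B i) =
        Finsupp.single i (lam ⟨c i, hcI i⟩) := by
      intro i
      rw [Algebra.TensorProduct.basis_repr_tmul, Module.Basis.repr_self, Finsupp.mapRange_single,
        map_one, Finsupp.smul_single, smul_eq_mul, mul_one]
    have hi₁supp : i₁ ∈ c.support := by
      rw [Finsupp.mem_support_iff]
      intro h0
      apply hi₁
      rw [h0]
      exact Submodule.zero_mem _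
    have h3 : Bκ.repr F i₁ = lam ⟨c i₁, hcI i₁⟩ := by
      simp only [F, map_sum, hrepr, Finsupp.coe_finsetSum, Finset.sum_apply,
        Finsupp.single_apply]
      rw [Finset.sum_ite_eq' c.support i₁, if_pos hi₁supp]
    rw [h, map_zero, Finsupp.zero_apply] at h3
    exact hlam h3.symm

/-- Let k be an algebraically closed field, A a finitely generated k-algebra which is an integral domain
(X = Spec A an affine variety), R a commutative k-algebra, possibly non-reduced, and U an open
subset of X_R = Spec (R ⊗_k A) meeting every fibre of X_R → Spec R (a very dense open subset). Then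
a regular function on X_R whose restriction to U vanishes is zero: if f ∈ R ⊗_k A maps to 0 in the
localisation (R ⊗_k A)[1/g] for every g with D(g) ⊆ U, then f = 0. (The published statement is that
automorphisms of a torsor under a smooth affine group scheme over X_R which are the identity over a
very dense open subset are the identity, for X a smooth projective curve; its proof reduces this to
the present assertion about functions, for quasi-projective X; this row is the affine case.) -/
theorem result
    (k : Type u) [Field k] [IsAlgClosed k]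
    (A : Type u) [CommRing A] [Algebra k A] [IsDomain A] [Algebra.FiniteType k A]
    (R : Type u) [CommRing R] [Algebra k R]
    (U : TopologicalSpace.Opens (PrimeSpectrum (TensorProduct k R A)))
    (hsurj : ∀ q : PrimeSpectrum R, ∃ P ∈ U,
      PrimeSpectrum.comap (Algebra.TensorProduct.includeLeftRingHom : R →+* TensorProduct k R A) P = q)
    (f : TensorProduct k R A)
    (hf : ∀ g : TensorProduct k R A, (PrimeSpectrum.basicOpen g : Set (PrimeSpectrum (TensorProduct k R A))) ⊆ U →
      algebraMap (TensorProduct k R A) (Localization.Away g) f = 0) :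
    f = 0 := by
  by_contra hne
  obtain ⟨m, hm, hkey⟩ := exists_maximal_forall_mem k A R f hne
  obtain ⟨P, hPU, hPm⟩ := hsurj ⟨m, hm.isPrime⟩
  obtain ⟨_, ⟨_, ⟨g, rfl⟩, rfl⟩, hPg, hgU⟩ :=
    PrimeSpectrum.isBasis_basic_opens.exists_subset_of_mem_open hPU U.isOpen
  have h0 := hf g hgU
  obtain ⟨⟨_, N, rfl⟩, hN⟩ :=
    (IsLocalization.map_eq_zero_iff (Submonoid.powers g) (Localization.Away g) f).mp h0
  have hgP : g ∈ P.asIdeal := hkey g N hN P.asIdeal P.isPrime (by
    have := congrArg PrimeSpectrum.asIdeal hPm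
    exact this)
  exact hPg hgP

end Groth.Agent.S19310
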