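import Groth.Statements.S19308
import Groth.Agent.S19310
import Mathlib.RingTheory.Ideal.Operations
import Mathlib.RingTheory.Flat.Tensor
import Mathlib.RingTheory.Localization.Away.Basic
import Mathlib.RingTheory.Spectrum.Prime.Topology

set_option autoImplicit false
universe u
open TensorProduct
open CAlg

namespace Groth.Agent.S19308


section Coeff

variable {k : Type u} [Field k] {A : Type u} [CommRing A] [Algebra k A]

/-- coefficients w.r.t. the base-changed basis are compatible with change of the left factor -/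
theorem repr_map {R R' : Type u} [CommRing R] [Algebra k R] [CommRing R'] [Algebra k R']
    (ρ : R →ₐ[k] R') {ι : Type u} (𝔟 : Module.Basis ι k A) (t : R ⊗[k] A) (i : ι) :
    (Algebra.TensorProduct.basis R' 𝔟).repr
        (Algebra.TensorProduct.map ρ (AlgHom.id k A) t) i =
      ρ ((Algebra.TensorProduct.basis R 𝔟).repr t i) := by
  induction t using TensorProduct.induction_on with
  | zero => simp
  | tmul r a =>
    rw [Algebra.TensorProduct.map_tmul, Algebra.TensorProduct.basis_repr_tmul,
      Algebra.TensorProduct.basis_repr_tmul]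
    simp only [AlgHom.coe_id, id_eq, Finsupp.smul_apply, Finsupp.mapRange_apply, smul_eq_mul,
      map_mul, AlgHom.commutes]
  | add x y hx hy => simp only [map_add, Finsupp.add_apply, hx, hy]

end Coeff

section Main

variable (k : Type u) [Field k] [IsAlgClosed k] (A : Type u) [CommRing A] [Algebra k A] [IsDomain A]

/-- An element of `R ⊗ A` one of whose coefficients is a unit is a non-zero-divisor. -/
theorem eq_zero_of_mul_eq_zero (R : Type u) [CommRing R] [Algebra k R] {ι : Type u}
    (𝔟 : Module.Basis ι k A) (f : R ⊗[k] A) (i₀ : ι)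
    (hu : IsUnit ((Algebra.TensorProduct.basis R 𝔟).repr f i₀))
    (g : R ⊗[k] A) (hfg : f * g = 0) : g = 0 := by
  by_contra hne
  obtain ⟨m, hm, hkey⟩ := Groth.Agent.S19310.exists_maximal_forall_mem k A R g hne
  haveI : IsDomain (R ⧸ m) := Ideal.Quotient.isDomain m
  haveI : IsDomain ((R ⧸ m) ⊗[k] A) := Groth.Agent.Lib.AlgClosedTensor2.isDomain_tensorProduct
  let ρ : R →ₐ[k] (R ⧸ m) := Ideal.Quotient.mkₐ k m
  let φ : R ⊗[k] A →ₐ[k] (R ⧸ m) ⊗[k] A := Algebra.TensorProduct.map ρ (AlgHom.id k A)
  have hP : (RingHom.ker φ.toRingHom).IsPrime := RingHom.ker_isPrime _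
  have hPm : (RingHom.ker φ.toRingHom).comap
      (Algebra.TensorProduct.includeLeftRingHom : R →+* R ⊗[k] A) = m := by
    ext r
    rw [Ideal.mem_comap, RingHom.mem_ker]
    change φ (r ⊗ₜ 1) = 0 ↔ _
    rw [Algebra.TensorProduct.map_tmul, map_one]
    have hinj : Function.Injective
        (Algebra.TensorProduct.includeLeft : (R ⧸ m) →ₐ[k] (R ⧸ m) ⊗[k] A) :=
      Algebra.TensorProduct.includeLeft_injective (S := k) (algebraMap k A).injective
    constructor
    · intro h
      have h2 : (Algebra.TensorProduct.includeLeft : (R ⧸ m) →ₐ[k] (R ⧸ m) ⊗[k] A) (ρ r) = 0 := h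
      rw [map_eq_zero_iff _ hinj] at h2
      exact Ideal.Quotient.eq_zero_iff_mem.mp h2
    · intro h
      have : ρ r = 0 := Ideal.Quotient.eq_zero_iff_mem.mpr h
      rw [this, TensorProduct.zero_tmul]
  have hfP : f ∈ RingHom.ker φ.toRingHom :=
    hkey f 1 (by rw [pow_one]; exact hfg) _ hP hPm
  have h0 : φ f = 0 := hfP
  have h1 := repr_map ρ 𝔟 f i₀
  change (Algebra.TensorProduct.basis (R ⧸ m) 𝔟).repr (φ f) i₀ = _ at h1
  rw [h0, map_zero, Finsupp.zero_apply] at h1
  have h2 : IsUnit (ρ ((Algebra.TensorProduct.basis R 𝔟).repr f i₀)) := hu.map ρ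
  rw [← h1] at h2
  exact not_isUnit_zero h2

/-- The quotient of `R ⊗ A` by an element with a unit coefficient is flat over `R`. -/
theorem flat_quotient (R : Type u) [CommRing R] [Algebra k R] {ι : Type u}
    (𝔟 : Module.Basis ι k A) (f : R ⊗[k] A) (i₀ : ι)
    (hu : IsUnit ((Algebra.TensorProduct.basis R 𝔟).repr f i₀)) :
    Module.Flat R ((R ⊗[k] A) ⧸ Ideal.span {f}) := by
  classical
  let T := R ⊗[k] A
  let B : Module.Basis ι R T := Algebra.TensorProduct.basis R 𝔟
  rw [Module.Flat.iff_rTensor_injective']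
  intro I
  rw [injective_iff_map_eq_zero]
  intro x hx
  let π : T →ₗ[R] (T ⧸ Ideal.span {f}) := (Ideal.Quotient.mkₐ R (Ideal.span {f})).toLinearMap
  have hπ : Function.Surjective π := Ideal.Quotient.mk_surjective
  obtain ⟨y, rfl⟩ := LinearMap.lTensor_surjective I hπ x
  let G : T →ₗ[R] T := LinearMap.mulLeft R f
  let J : ↥I ⊗[R] T →ₗ[R] T := (TensorProduct.lid R T).toLinearMap.comp (I.subtype.rTensor T)
  have hJinj : Function.Injective J := by
    have h1 : Function.Injective (I.subtype.rTensor T) :=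
      Module.Flat.rTensor_preserves_injective_linearMap _ I.injective_subtype
    exact (TensorProduct.lid R T).injective.comp h1
  have hnat : ∀ z : ↥I ⊗[R] T, J ((G.lTensor ↥I) z) = G (J z) := by
    intro z
    induction z using TensorProduct.induction_on with
    | zero => simp
    | tmul x t =>
      simp only [J, LinearMap.comp_apply, LinearMap.lTensor_tmul, LinearMap.rTensor_tmul,
        LinearEquiv.coe_coe, TensorProduct.lid_tmul, Submodule.subtype_apply, map_smul]
    | add z₁ z₂ h₁ h₂ => simp only [map_add, h₁, h₂]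
  have hπJ : ∀ z : ↥I ⊗[R] T,
      (TensorProduct.lid R (T ⧸ Ideal.span {f})) ((I.subtype.rTensor (T ⧸ Ideal.span {f}))
        ((π.lTensor ↥I) z)) = π (J z) := by
    intro z
    induction z using TensorProduct.induction_on with
    | zero => simp
    | tmul x t =>
      simp only [J, LinearMap.comp_apply, LinearMap.lTensor_tmul, LinearMap.rTensor_tmul,
        LinearEquiv.coe_coe, TensorProduct.lid_tmul, Submodule.subtype_apply, map_smul]
    | add z₁ z₂ h₁ h₂ => simp only [map_add, h₁, h₂]
  have h1 : π (J y) = 0 := by rw [← hπJ, hx, map_zero]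
  obtain ⟨t, ht⟩ : ∃ t, J y = f * t := by
    have h2 : J y ∈ Ideal.span {f} := Ideal.Quotient.eq_zero_iff_mem.mp h1
    obtain ⟨t, ht⟩ := Ideal.mem_span_singleton'.mp h2
    exact ⟨t, by rw [← ht, mul_comm]⟩
  let ρ : R →ₐ[k] (R ⧸ I) := Ideal.Quotient.mkₐ k I
  let φ : T →ₐ[k] (R ⧸ I) ⊗[k] A := Algebra.TensorProduct.map ρ (AlgHom.id k A)
  have hJI : ∀ (z : ↥I ⊗[R] T) (i : ι), B.repr (J z) i ∈ I := by
    intro z i
    induction z using TensorProduct.induction_on with
    | zero => simp
    | tmul x t =>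
      simp only [J, LinearMap.comp_apply, LinearMap.rTensor_tmul,
        LinearEquiv.coe_coe, TensorProduct.lid_tmul, Submodule.subtype_apply, map_smul,
        Finsupp.smul_apply, smul_eq_mul]
      exact I.mul_mem_right _ x.2
    | add z₁ z₂ h₁ h₂ =>
      simp only [map_add, Finsupp.add_apply]
      exact I.add_mem h₁ h₂
  have hφ0 : ∀ s : T, (∀ i, B.repr s i ∈ I) → φ s = 0 := by
    intro s hs
    apply (Algebra.TensorProduct.basis (R ⧸ I) 𝔟).repr.injective
    ext i
    rw [repr_map ρ 𝔟 s i, map_zero, Finsupp.zero_apply]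
    exact Ideal.Quotient.eq_zero_iff_mem.mpr (hs i)
  have hφt : φ t = 0 := by
    apply eq_zero_of_mul_eq_zero k A (R ⧸ I) 𝔟 (φ f) i₀
    · rw [repr_map ρ 𝔟 f i₀]
      exact hu.map ρ
    · rw [← map_mul, ← ht]
      exact hφ0 _ (hJI y)
  have htI : ∀ i, B.repr t i ∈ I := by
    intro i
    have h3 := repr_map ρ 𝔟 t i
    change (Algebra.TensorProduct.basis (R ⧸ I) 𝔟).repr (φ t) i = _ at h3
    rw [hφt, map_zero, Finsupp.zero_apply] at h3
    exact Ideal.Quotient.eq_zero_iff_mem.mp h3.symm
  let y' : ↥I ⊗[R] T := ∑ i ∈ (B.repr t).support, (⟨B.repr t i, htI i⟩ : ↥I) ⊗ₜ[R] B i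
  have hJy' : J y' = t := by
    simp only [J, y', map_sum, LinearMap.comp_apply, LinearMap.rTensor_tmul,
      LinearEquiv.coe_coe, Submodule.subtype_apply, TensorProduct.lid_tmul]
    have h3 := B.linearCombination_repr t
    rw [Finsupp.linearCombination_apply, Finsupp.sum] at h3
    exact h3
  have hy : y = (G.lTensor ↥I) y' := hJinj (by rw [hnat, hJy', ht]; rfl)
  have hπG : π ∘ₗ G = 0 := by
    refine LinearMap.ext fun s => ?_
    change Ideal.Quotient.mk (Ideal.span {f}) (f * s) = 0
    rw [Ideal.Quotient.eq_zero_iff_mem]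
    exact Ideal.mul_mem_right _ _ (Ideal.mem_span_singleton_self f)
  rw [hy, ← LinearMap.comp_apply, ← LinearMap.lTensor_comp, hπG, LinearMap.lTensor_zero,
    LinearMap.zero_apply]

theorem result'
    (k : Type u) [Field k] [IsAlgClosed k]
    (A : Type u) [CommRing A] [Algebra k A] [IsDomain A] [Algebra.FiniteType k A]
    (Z : Finset (A →ₐ[k] k))
    (R : Type u) [CommRing R] [Algebra k R]
    (U : TopologicalSpace.Opens (PrimeSpectrum (TensorProduct k R A)))
    (hU : Dense (U : Set (PrimeSpectrum (TensorProduct k R A))))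
    (hZ : ∀ z ∈ Z, ∀ q : PrimeSpectrum R,
      PrimeSpectrum.comap (Algebra.TensorProduct.lift (AlgHom.id k R) ((Algebra.ofId k R).comp z)
        (fun _ _ => Commute.all _ _)).toRingHom q ∈ U)
    (hsurj : ∀ q : PrimeSpectrum R, ∃ P ∈ U,
      PrimeSpectrum.comap (Algebra.TensorProduct.includeLeftRingHom : R →+* TensorProduct k R A) P = q)
    (p : PrimeSpectrum R) :
    ∃ r : R, r ∉ p.asIdeal ∧
      ∃ f : TensorProduct k (Localization.Away r) A,
        f ∈ nonZeroDivisors (TensorProduct k (Localization.Away r) A) ∧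
        Module.Flat (Localization.Away r)
          (TensorProduct k (Localization.Away r) A ⧸ Ideal.span {f}) ∧
        (∀ z ∈ Z, IsUnit (Algebra.TensorProduct.lift (AlgHom.id k (Localization.Away r))
          ((Algebra.ofId k (Localization.Away r)).comp z) (fun _ _ => Commute.all _ _) f)) ∧
        (∀ P : PrimeSpectrum (TensorProduct k (Localization.Away r) A), f ∉ P.asIdeal →
          PrimeSpectrum.comap (Algebra.TensorProduct.map
            (IsScalarTower.toAlgHom k R (Localization.Away r)) (AlgHom.id k A)).toRingHom P ∈ U) := by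
  classical
  let T := R ⊗[k] A
  let ι := Module.Free.ChooseBasisIndex k A
  let 𝔟 : Module.Basis ι k A := Module.Free.chooseBasis k A
  let B : Module.Basis ι R T := Algebra.TensorProduct.basis R 𝔟
  -- the ideal of the complement of `U`
  let I : Ideal T := PrimeSpectrum.vanishingIdeal ((U : Set (PrimeSpectrum T))ᶜ)
  have hmemU : ∀ P : PrimeSpectrum T, P ∈ U ↔ ∃ g ∈ I, g ∉ P.asIdeal := by
    intro P
    have hcl : IsClosed ((U : Set (PrimeSpectrum T))ᶜ) := U.isOpen.isClosed_compl
    have h1 : PrimeSpectrum.zeroLocus (I : Set T) = (U : Set (PrimeSpectrum T))ᶜ := by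
      rw [PrimeSpectrum.zeroLocus_vanishingIdeal_eq_closure, hcl.closure_eq]
    have h2 : P ∈ U ↔ P ∉ PrimeSpectrum.zeroLocus (I : Set T) := by
      rw [h1, Set.mem_compl_iff, not_not]; rfl
    rw [h2, PrimeSpectrum.mem_zeroLocus, Set.not_subset]
    rfl
  -- evaluation at a point
  let ev : (A →ₐ[k] k) → (T →ₐ[k] R) := fun z =>
    Algebra.TensorProduct.lift (AlgHom.id k R) ((Algebra.ofId k R).comp z)
      (fun _ _ => Commute.all _ _)
  -- the fibre prime
  haveI : IsDomain (R ⧸ p.asIdeal) := Ideal.Quotient.isDomain p.asIdeal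
  haveI : IsDomain ((R ⧸ p.asIdeal) ⊗[k] A) :=
    Groth.Agent.Lib.AlgClosedTensor2.isDomain_tensorProduct
  let ρ : R →ₐ[k] (R ⧸ p.asIdeal) := Ideal.Quotient.mkₐ k p.asIdeal
  let φ : T →ₐ[k] (R ⧸ p.asIdeal) ⊗[k] A := Algebra.TensorProduct.map ρ (AlgHom.id k A)
  let P₀ : Ideal T := RingHom.ker φ.toRingHom
  have hP₀ : P₀.IsPrime := RingHom.ker_isPrime _
  have hφ0 : ∀ s : T, (∀ i, B.repr s i ∈ p.asIdeal) → φ s = 0 := by
    intro s hs
    apply (Algebra.TensorProduct.basis (R ⧸ p.asIdeal) 𝔟).repr.injective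
    ext i
    rw [repr_map ρ 𝔟 s i, map_zero, Finsupp.zero_apply]
    exact Ideal.Quotient.eq_zero_iff_mem.mpr (hs i)
  have hφ0' : ∀ s : T, φ s = 0 → ∀ i, B.repr s i ∈ p.asIdeal := by
    intro s hs i
    have h3 := repr_map ρ 𝔟 s i
    change (Algebra.TensorProduct.basis (R ⧸ p.asIdeal) 𝔟).repr (φ s) i = _ at h3
    rw [hs, map_zero, Finsupp.zero_apply] at h3
    exact Ideal.Quotient.eq_zero_iff_mem.mp h3.symm
  -- `I` is not contained in `P₀`
  have hIP₀ : ¬ I ≤ P₀ := by
    intro hle
    obtain ⟨P, hPU, hPp⟩ := hsurj p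
    obtain ⟨g, hgI, hgP⟩ := (hmemU P).mp hPU
    apply hgP
    have hg0 : φ g = 0 := hle hgI
    have hc := hφ0' g hg0
    have h3 := B.linearCombination_repr g
    rw [Finsupp.linearCombination_apply, Finsupp.sum] at h3
    rw [← h3]
    refine Ideal.sum_mem _ fun i _ => ?_
    have h4 : B.repr g i ∈ (PrimeSpectrum.comap
        (Algebra.TensorProduct.includeLeftRingHom : R →+* T) P).asIdeal := by
      rw [hPp]; exact hc i
    have h5 : (Algebra.TensorProduct.includeLeftRingHom : R →+* T) (B.repr g i) ∈ P.asIdeal := h4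
    have h6 : B.repr g i • B i =
        (Algebra.TensorProduct.includeLeftRingHom : R →+* T) (B.repr g i) * B i := by
      rw [Algebra.smul_def]; rfl
    rw [h6]
    exact Ideal.mul_mem_right _ _ h5
  -- the primes of the points
  let Q : (A →ₐ[k] k) → Ideal T := fun z => (p.asIdeal).comap (ev z).toRingHom
  have hQ : ∀ z, (Q z).IsPrime := fun z => Ideal.comap_isPrime _ _
  have hIQ : ∀ z ∈ Z, ¬ I ≤ Q z := by
    intro z hz hle
    obtain ⟨g, hgI, hgP⟩ := (hmemU _).mp (hZ z hz p)
    exact hgP (hle hgI)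
  -- prime avoidance
  let F : Option (A →ₐ[k] k) → Ideal T := fun o => o.elim P₀ Q
  let s : Finset (Option (A →ₐ[k] k)) := Finset.insertNone Z
  have hFprime : ∀ o ∈ s, o ≠ none → o ≠ none → (F o).IsPrime := by
    intro o _ _ _
    cases o with
    | none => exact hP₀
    | some z => exact hQ z
  have havoid : ¬ ((I : Set T) ⊆ ⋃ o ∈ (↑s : Set (Option (A →ₐ[k] k))), F o) := by
    rw [Ideal.subset_union_prime none none hFprime]
    rintro ⟨o, ho, hle⟩
    cases o with
    | none => exact hIP₀ hle
    | some z =>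
      have hz : z ∈ Z := by simpa [s] using ho
      exact hIQ z hz hle
  obtain ⟨f₀, hf₀I, hf₀⟩ := Set.not_subset.mp havoid
  have hf₀P₀ : f₀ ∉ P₀ := fun h => hf₀ (Set.mem_biUnion (x := none) (by simp [s]) h)
  have hf₀Q : ∀ z ∈ Z, ev z f₀ ∉ p.asIdeal := fun z hz h =>
    hf₀ (Set.mem_biUnion (x := some z) (by simpa [s] using hz) h)
  obtain ⟨i₀, hi₀⟩ : ∃ i, B.repr f₀ i ∉ p.asIdeal := by
    by_contra h
    push Not at h
    exact hf₀P₀ (hφ0 f₀ h)
  -- the element `r`
  let r : R := B.repr f₀ i₀ * ∏ z ∈ Z, ev z f₀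
  have hr : r ∉ p.asIdeal := by
    intro h
    rcases p.isPrime.mem_or_mem h with h | h
    · exact hi₀ h
    · obtain ⟨z, hz, hzp⟩ := (p.isPrime.prod_mem_iff).mp h
      exact hf₀Q z hz hzp
  refine ⟨r, hr, ?_⟩
  let R' := Localization.Away r
  let σ : R →ₐ[k] R' := IsScalarTower.toAlgHom k R R'
  let ψ : T →ₐ[k] R' ⊗[k] A := Algebra.TensorProduct.map σ (AlgHom.id k A)
  have hur : IsUnit (σ r) := IsLocalization.Away.algebraMap_isUnit r
  have hu₀ : IsUnit ((Algebra.TensorProduct.basis R' 𝔟).repr (ψ f₀) i₀) := by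
    rw [repr_map σ 𝔟 f₀ i₀]
    exact isUnit_of_dvd_unit (map_dvd σ (Dvd.intro _ rfl)) hur
  refine ⟨ψ f₀, ?_, ?_, ?_, ?_⟩
  · rw [mem_nonZeroDivisors_iff_left]
    exact fun g hg => eq_zero_of_mul_eq_zero k A R' 𝔟 (ψ f₀) i₀ hu₀ g hg
  · exact flat_quotient k A R' 𝔟 (ψ f₀) i₀ hu₀
  · intro z hz
    have hcomp : (Algebra.TensorProduct.lift (AlgHom.id k R') ((Algebra.ofId k R').comp z)
        (fun _ _ => Commute.all _ _)).comp ψ = σ.comp (ev z) := by
      apply Algebra.TensorProduct.ext'
      intro a b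
      simp [ψ, ev, σ, Algebra.ofId_apply]
      rw [← IsScalarTower.algebraMap_apply k R R']
    have h1 := DFunLike.congr_fun hcomp f₀
    rw [AlgHom.comp_apply, AlgHom.comp_apply] at h1
    rw [h1]
    refine isUnit_of_dvd_unit (map_dvd σ ?_) hur
    exact Dvd.dvd.mul_left (Finset.dvd_prod_of_mem _ hz) _
  · intro P hP
    rw [hmemU]
    exact ⟨f₀, hf₀I, hP⟩

end Main


/-- Let k be an algebraically closed field, A a finitely generated k-algebra which is an integral domain
(an affine variety X = Spec A), Z a finite (possibly empty) set of k-points of A, R a commutative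
k-algebra and U an open dense subset of Spec (R ⊗_k A) = X_R containing every point of Z_R and
meeting every fibre of X_R → Spec R. Then locally on Spec R there is a principal relative effective
Cartier divisor missing Z_R whose complement lies in U: for every prime p of R there are r ∉ p and f
∈ R[1/r] ⊗_k A such that f is a non-zero-divisor, (R[1/r] ⊗_k A)/(f) is flat over R[1/r], f maps to
a unit under every point of Z, and the basic open set D(f) of X_{R[1/r]} maps into U. (The published
statement is for a quasi-projective variety X and asks for relative Cartier divisors D_i over an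
open cover of Spec R; this row is the affine case, to which the published proof reduces, where the
divisors produced are principal.) -/
theorem result
    (k : Type u) [Field k] [IsAlgClosed k]
    (A : Type u) [CommRing A] [Algebra k A] [IsDomain A] [Algebra.FiniteType k A]
    (Z : Finset (A →ₐ[k] k))
    (R : Type u) [CommRing R] [Algebra k R]
    (U : TopologicalSpace.Opens (PrimeSpectrum (TensorProduct k R A)))
    (hU : Dense (U : Set (PrimeSpectrum (TensorProduct k R A))))
    (hZ : ∀ z ∈ Z, ∀ q : PrimeSpectrum R,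
      PrimeSpectrum.comap (Algebra.TensorProduct.lift (AlgHom.id k R) ((Algebra.ofId k R).comp z)
        (fun _ _ => Commute.all _ _)).toRingHom q ∈ U)
    (hsurj : ∀ q : PrimeSpectrum R, ∃ P ∈ U,
      PrimeSpectrum.comap (Algebra.TensorProduct.includeLeftRingHom : R →+* TensorProduct k R A) P = q)
    (p : PrimeSpectrum R) :
    ∃ r : R, r ∉ p.asIdeal ∧
      ∃ f : TensorProduct k (Localization.Away r) A,
        f ∈ nonZeroDivisors (TensorProduct k (Localization.Away r) A) ∧
        Module.Flat (Localization.Away r)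
          (TensorProduct k (Localization.Away r) A ⧸ Ideal.span {f}) ∧
        (∀ z ∈ Z, IsUnit (Algebra.TensorProduct.lift (AlgHom.id k (Localization.Away r))
          ((Algebra.ofId k (Localization.Away r)).comp z) (fun _ _ => Commute.all _ _) f)) ∧
        (∀ P : PrimeSpectrum (TensorProduct k (Localization.Away r) A), f ∉ P.asIdeal →
          PrimeSpectrum.comap (Algebra.TensorProduct.map
            (IsScalarTower.toAlgHom k R (Localization.Away r)) (AlgHom.id k A)).toRingHom P ∈ U) := by
  exact result' k A Z R U hU hZ hsurj p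

end Groth.Agent.S19308
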