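import Groth.Statements.S19309
-- import your own Groth.Agent.* helpers here

set_option autoImplicit false
universe u
open PowerSeries LaurentSeries
open CAlg

namespace Groth.Agent.S19309


lemma coeff_neg_ofPowerSeries {R : Type*} [CommRing R] (p : R⟦X⟧) (j : ℤ) (hj : j < 0) :
    (HahnSeries.ofPowerSeries ℤ R p).coeff j = 0 := by
  rw [HahnSeries.ofPowerSeries_apply]
  apply HahnSeries.embDomain_of_notMem_range
  rintro ⟨n, hn⟩
  simp only [Nat.castOrderEmbedding_apply] at hn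
  omega

/-- Every Laurent series times a power of `X` is a power series. -/
lemma exists_mul_pow {R : Type*} [CommRing R] (a : R⸨X⸩) :
    ∃ (N : ℕ) (b : R⟦X⟧), a * HahnSeries.single (N : ℤ) 1 = HahnSeries.ofPowerSeries ℤ R b := by
  obtain ⟨⟨b, ⟨_, N, rfl⟩⟩, h⟩ :=
    IsLocalization.surj (Submonoid.powers (PowerSeries.X : R⟦X⟧)) a
  refine ⟨N, b, ?_⟩
  simpa [HahnSeries.ofPowerSeries_X_pow] using h

lemma coeff_theta {R R' : Type*} [CommRing R] [CommRing R'] (φ : R →+* R') (θ : R⸨X⸩ →+* R'⸨X⸩)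
    (hθ : θ.comp (algebraMap R⟦X⟧ R⸨X⸩) = (algebraMap R'⟦X⟧ R'⸨X⸩).comp (PowerSeries.map φ))
    (a : R⸨X⸩) (j : ℤ) : (θ a).coeff j = φ (a.coeff j) := by
  obtain ⟨N, b, hb⟩ := exists_mul_pow a
  have hθ' : ∀ p : R⟦X⟧, θ (HahnSeries.ofPowerSeries ℤ R p) =
      HahnSeries.ofPowerSeries ℤ R' (PowerSeries.map φ p) := fun p => RingHom.congr_fun hθ p
  have hX : θ (HahnSeries.single (N : ℤ) 1) = HahnSeries.single (N : ℤ) 1 := by
    rw [← HahnSeries.ofPowerSeries_X_pow, hθ', map_pow, PowerSeries.map_X,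
      HahnSeries.ofPowerSeries_X_pow]
  have h1 : θ a * HahnSeries.single (N : ℤ) 1 =
      HahnSeries.ofPowerSeries ℤ R' (PowerSeries.map φ b) := by
    rw [← hX, ← map_mul, hb, hθ']
  have h2 : (θ a).coeff j = (θ a * HahnSeries.single (N : ℤ) 1).coeff (j + N) := by
    rw [HahnSeries.coeff_mul_single_add, mul_one]
  have h3 : a.coeff j = (a * HahnSeries.single (N : ℤ) 1).coeff (j + N) := by
    rw [HahnSeries.coeff_mul_single_add, mul_one]
  rw [h2, h3, h1, hb]
  by_cases hj : j + N < 0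
  · rw [coeff_neg_ofPowerSeries _ _ hj, coeff_neg_ofPowerSeries _ _ hj, map_zero]
  · obtain ⟨m, hm⟩ := Int.eq_ofNat_of_zero_le (not_lt.mp hj)
    rw [hm, HahnSeries.ofPowerSeries_apply_coeff, HahnSeries.ofPowerSeries_apply_coeff,
      PowerSeries.coeff_map]

lemma mem_range_iff {R : Type*} [CommRing R] (x : R⸨X⸩) :
    x ∈ (algebraMap R⟦X⟧ R⸨X⸩).range ↔ ∀ j : ℤ, j < 0 → x.coeff j = 0 := by
  constructor
  · rintro ⟨p, rfl⟩ j hj
    exact coeff_neg_ofPowerSeries p j hj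
  · intro h
    refine ⟨PowerSeries.mk fun n => x.coeff n, ?_⟩
    ext j
    rw [LaurentSeries.coe_algebraMap]
    by_cases hj : j < 0
    · rw [coeff_neg_ofPowerSeries _ _ hj, h j hj]
    · obtain ⟨m, hm⟩ := Int.eq_ofNat_of_zero_le (not_lt.mp hj)
      rw [hm, HahnSeries.ofPowerSeries_apply_coeff, PowerSeries.coeff_mk]

theorem result'
    (R : Type u) [CommRing R]
    (B : Type u) [CommRing B] [Algebra R⟦X⟧ B]
    (s : B →ₐ[R⟦X⟧] R⸨X⸩) :
    ∃ I : Ideal R, ∀ (R' : Type u) [CommRing R'] (φ : R →+* R') (θ : R⸨X⸩ →+* R'⸨X⸩),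
      θ.comp (algebraMap R⟦X⟧ R⸨X⸩) = (algebraMap R'⟦X⟧ R'⸨X⸩).comp (PowerSeries.map φ) →
      ((∃ s' : B →+* R'⟦X⟧, s'.comp (algebraMap R⟦X⟧ B) = PowerSeries.map φ ∧
          (algebraMap R'⟦X⟧ R'⸨X⸩).comp s' = θ.comp s.toRingHom) ↔ I ≤ RingHom.ker φ) := by
  refine ⟨Ideal.span {r | ∃ (b : B) (j : ℤ), j < 0 ∧ r = (s b).coeff j}, ?_⟩
  intro R' _ φ θ hθ
  rw [Ideal.span_le]
  have hinj : Function.Injective (algebraMap R'⟦X⟧ R'⸨X⸩) := HahnSeries.ofPowerSeries_injective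
  constructor
  · rintro ⟨s', -, h2⟩ r ⟨b, j, hj, rfl⟩
    rw [SetLike.mem_coe, RingHom.mem_ker, ← coeff_theta φ θ hθ]
    have : θ (s b) = algebraMap R'⟦X⟧ R'⸨X⸩ (s' b) := (RingHom.congr_fun h2 b).symm
    rw [this]
    exact coeff_neg_ofPowerSeries _ _ hj
  · intro h
    have hmem : ∀ b : B, (θ.comp s.toRingHom) b ∈ (algebraMap R'⟦X⟧ R'⸨X⸩).range := by
      intro b
      rw [mem_range_iff]
      intro j hj
      rw [RingHom.comp_apply, coeff_theta φ θ hθ]
      exact h ⟨b, j, hj, rfl⟩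
    let e : R'⟦X⟧ ≃+* (algebraMap R'⟦X⟧ R'⸨X⸩).range :=
      RingEquiv.ofBijective (algebraMap R'⟦X⟧ R'⸨X⸩).rangeRestrict
        ⟨fun x y hxy => hinj (by simpa using congrArg Subtype.val hxy),
          (algebraMap R'⟦X⟧ R'⸨X⸩).rangeRestrict_surjective⟩
    have he : ∀ y, algebraMap R'⟦X⟧ R'⸨X⸩ (e.symm y) = y := by
      intro y
      have := e.apply_symm_apply y
      exact congrArg Subtype.val this
    let s' : B →+* R'⟦X⟧ :=
      e.symm.toRingHom.comp ((θ.comp s.toRingHom).codRestrict _ hmem)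
    have hs' : ∀ b, algebraMap R'⟦X⟧ R'⸨X⸩ (s' b) = θ (s b) := by
      intro b
      simp only [s', RingHom.comp_apply, RingEquiv.toRingHom_eq_coe, RingHom.coe_coe, he]
      rfl
    refine ⟨s', ?_, ?_⟩
    · ext1 p
      apply hinj
      rw [RingHom.comp_apply, hs', AlgHom.commutes]
      exact RingHom.congr_fun hθ p
    · ext1 b
      exact hs' b


/-- Let k be a field, R a commutative k-algebra, B a finitely presented R⟦X⟧-algebra (an affine scheme V
= Spec B of finite presentation over the disc D_R = Spec R⟦X⟧) and s : B → R((X)) an R⟦X⟧-algebra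
map (a section of V over the punctured disc). Then there is an ideal I of R such that for every ring
map φ : R → R', writing θ : R((X)) → R'((X)) for the ring map compatible with R⟦X⟧ → R'⟦X⟧, the
section s extends to a section over D_{R'} — an R⟦X⟧-algebra map s' : B → R'⟦X⟧ whose composite with
R'⟦X⟧ → R'((X)) is θ ∘ s — if and only if φ kills I. In other words the sub-presheaf of Spec R where
s extends over the disc is the closed subscheme defined by I. -/
theorem result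
    (k : Type u) [Field k] (R : Type u) [CommRing R] [Algebra k R]
    (B : Type u) [CommRing B] [Algebra R⟦X⟧ B] [Algebra.FinitePresentation R⟦X⟧ B]
    (s : B →ₐ[R⟦X⟧] R⸨X⸩) :
    ∃ I : Ideal R, ∀ (R' : Type u) [CommRing R'] (φ : R →+* R') (θ : R⸨X⸩ →+* R'⸨X⸩),
      θ.comp (algebraMap R⟦X⟧ R⸨X⸩) = (algebraMap R'⟦X⟧ R'⸨X⸩).comp (PowerSeries.map φ) →
      ((∃ s' : B →+* R'⟦X⟧, s'.comp (algebraMap R⟦X⟧ B) = PowerSeries.map φ ∧
          (algebraMap R'⟦X⟧ R'⸨X⸩).comp s' = θ.comp s.toRingHom) ↔ I ≤ RingHom.ker φ) := by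
  exact result' R B s

end Groth.Agent.S19309
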