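import Groth.Statements.S19322
import Mathlib
import Groth.Agent.S14284

set_option autoImplicit false
universe v u
open CategoryTheory CategoryTheory.Limits
open SpSeq

namespace Groth.Agent.S19322
set_option linter.style.haveILetI false
set_option linter.unusedSectionVars false
open Module
open Groth.Agent.S14284 (iCycles_injective homologyπ_surjective Bd Bd_eq pMap pMap_surjective
  exact_i_p exact_j_q)

section LA
variable {K : Type*} [Field K] {M' M M'' : Type*} [AddCommGroup M'] [AddCommGroup M]
  [AddCommGroup M''] [Module K M'] [Module K M] [Module K M'']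

theorem finrank_of_exact (f : M' →ₗ[K] M) (g : M →ₗ[K] M'') (hf : Function.Injective f)
    (hg : Function.Surjective g) (hex : Function.Exact f g) [Module.Finite K M] :
    finrank K M = finrank K M' + finrank K M'' := by
  have h1 := LinearMap.finrank_range_add_finrank_ker g
  rw [LinearMap.range_eq_top.mpr hg, finrank_top] at h1
  rw [(LinearMap.exact_iff.mp hex), LinearMap.finrank_range_of_inj hf] at h1
  omega
end LA

section MC
variable {K : Type u} [Field K]

theorem finite_of_isZero {M : ModuleCat.{v} K} (h : IsZero M) : Module.Finite K M :=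
  haveI : Subsingleton M := ModuleCat.subsingleton_of_isZero h
  inferInstance

theorem finrank_of_isZero {M : ModuleCat.{v} K} (h : IsZero M) : finrank K M = 0 :=
  haveI : Subsingleton M := ModuleCat.subsingleton_of_isZero h
  finrank_zero_of_subsingleton

theorem finrank_of_iso {M N : ModuleCat.{v} K} (e : M ≅ N) : finrank K M = finrank K N :=
  LinearEquiv.finrank_eq e.toLinearEquiv

theorem finite_of_iso {M N : ModuleCat.{v} K} (e : M ≅ N) [Module.Finite K M] :
    Module.Finite K N :=
  Module.Finite.equiv e.toLinearEquiv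

/-- rank additivity for a mono and its cokernel -/
theorem ses_finrank {A B : ModuleCat.{v} K} (f : A ⟶ B) [Mono f]
    [Module.Finite K A] [Module.Finite K (cokernel f : ModuleCat.{v} K)] :
    Module.Finite K B ∧ finrank K B = finrank K A + finrank K (cokernel f : ModuleCat.{v} K) := by
  have hi : Function.Injective f.hom := (ModuleCat.mono_iff_injective f).mp inferInstance
  have hp : Function.Surjective (cokernel.π f).hom :=
    (ModuleCat.epi_iff_surjective (cokernel.π f)).mp inferInstance
  have hex : Function.Exact f.hom (cokernel.π f).hom := by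
    have h := ShortComplex.exact_of_g_is_cokernel
      (ShortComplex.mk f (cokernel.π f) (cokernel.condition f)) (cokernelIsCokernel f)
    rw [LinearMap.exact_iff]
    exact h.moduleCat_range_eq_ker.symm
  haveI : Module.Finite K B := Module.Finite.of_exact hex hp
  exact ⟨inferInstance, finrank_of_exact f.hom (cokernel.π f).hom hi hp hex⟩

section Fil
variable {M : ModuleCat.{v} K} (F : ℤ → Subobject M) (hF : Antitone F)

theorem isZero_of_eq_bot (S : Subobject M) (h : S = ⊥) : IsZero (S : ModuleCat.{v} K) := by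
  subst h
  exact IsZero.of_iso (isZero_zero _) Subobject.botCoeIsoZero

theorem fil_step (p : ℤ) [h1 : Module.Finite K (F (p + 1) : ModuleCat.{v} K)]
    [h2 : Module.Finite K (grPiece F hF p : ModuleCat.{v} K)] :
    Module.Finite K (F p : ModuleCat.{v} K) ∧
      finrank K (F p : ModuleCat.{v} K) =
        finrank K (F (p + 1) : ModuleCat.{v} K) + finrank K (grPiece F hF p : ModuleCat.{v} K) :=
  @ses_finrank _ _ _ _ ((F (p + 1)).ofLE (F p) (hF (Int.le_add_one le_rfl))) _ h1 h2

theorem fil_down (hi : ℤ) (hhi : F hi = ⊥)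
    (hgr : ∀ p, Module.Finite K (grPiece F hF p : ModuleCat.{v} K)) :
    ∀ (k : ℕ) (p : ℤ), p + k = hi → Module.Finite K (F p : ModuleCat.{v} K) ∧
      finrank K (F p : ModuleCat.{v} K) =
        ∑ i ∈ Finset.Ico p hi, finrank K (grPiece F hF i : ModuleCat.{v} K) := by
  intro k
  induction k with
  | zero =>
    intro p hp
    obtain rfl : p = hi := by simpa using hp
    have hz := isZero_of_eq_bot _ hhi
    exact ⟨finite_of_isZero hz, by rw [finrank_of_isZero hz, Finset.Ico_self, Finset.sum_empty]⟩
  | succ k ih =>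
    intro p hp
    obtain ⟨ih1, ih2⟩ := ih (p + 1) (by push_cast at hp; omega)
    haveI := ih1
    haveI := hgr p
    obtain ⟨s1, s2⟩ := fil_step F hF p
    refine ⟨s1, ?_⟩
    rw [s2, ih2, ← Finset.insert_Ico_add_one_left_eq_Ico (by push_cast at hp; omega : p < hi),
      Finset.sum_insert (by simp)]
    ring

include hF in
theorem fil_total (lo hi : ℤ) (hlo : F lo = ⊤) (hhi : F hi = ⊥)
    (hgr : ∀ p, Module.Finite K (grPiece F hF p : ModuleCat.{v} K)) :
    Module.Finite K M ∧
      finrank K M = ∑ i ∈ Finset.Ico lo hi, finrank K (grPiece F hF i : ModuleCat.{v} K) := by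
  have key : ∀ hi' : ℤ, lo ≤ hi' → F hi' = ⊥ →
      Module.Finite K M ∧
        finrank K M = ∑ i ∈ Finset.Ico lo hi', finrank K (grPiece F hF i : ModuleCat.{v} K) := by
    intro hi' hle hbot
    obtain ⟨f1, f2⟩ := fil_down F hF hi' hbot hgr (hi' - lo).toNat lo
      (by rw [Int.toNat_of_nonneg (by omega)]; omega)
    haveI : IsIso (F lo).arrow := (Subobject.isIso_arrow_iff_eq_top _).mpr hlo
    haveI := f1
    exact ⟨finite_of_iso (asIso (F lo).arrow), by rw [← finrank_of_iso (asIso (F lo).arrow), f2]⟩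
  rcases le_or_gt lo hi with h | h
  · exact key hi h hhi
  · have hbot : F lo = ⊥ := le_bot_iff.mp (hhi ▸ hF h.le)
    obtain ⟨f1, f2⟩ := key lo le_rfl hbot
    refine ⟨f1, ?_⟩
    rw [f2, Finset.Ico_self, Finset.Ico_eq_empty (by omega)]

include hF in
theorem fil_sum (hfinF : (∃ a, F a = ⊤) ∧ ∃ b, F b = ⊥)
    (hgr : ∀ p, Module.Finite K (grPiece F hF p : ModuleCat.{v} K)) (s : Finset ℤ)
    (hs : ∀ p ∉ s, IsZero (grPiece F hF p)) :
    Module.Finite K M ∧ finrank K M = ∑ i ∈ s, finrank K (grPiece F hF i : ModuleCat.{v} K) := by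
  obtain ⟨⟨a, ha⟩, ⟨b, hb⟩⟩ := hfinF
  obtain ⟨u, hu⟩ := s.bddAbove
  obtain ⟨l, hl⟩ := s.bddBelow
  have hlo : F (min a l) = ⊤ := top_le_iff.mp (ha ▸ hF (min_le_left a l))
  have hhi : F (max b (u + 1)) = ⊥ := le_bot_iff.mp (hb ▸ hF (le_max_left b (u + 1)))
  obtain ⟨f1, f2⟩ := fil_total F hF _ _ hlo hhi hgr
  refine ⟨f1, ?_⟩
  rw [f2]
  symm
  apply Finset.sum_subset
  · intro x hx
    rw [Finset.mem_Ico]
    have h1 := hu hx
    have h2 := hl hx
    exact ⟨(min_le_right a l).trans h2, lt_of_lt_of_le (by omega) (le_max_right b (u + 1))⟩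
  · intro x _ hx
    exact finrank_of_isZero (hs x hx)
end Fil
end MC

section Page
variable {K : Type u} [Field K] {r₀ : ℤ} (E : CohomologicalSpectralSequence (ModuleCat.{v} K) r₀)

/-- the shift `(p,q) ↦ (p + r, q + 1 - r)` -/
def sh (r : ℤ) : ℤ × ℤ ≃ ℤ × ℤ := Equiv.addRight (r, 1 - r)

theorem sh_rel (r : ℤ) (n : ℤ × ℤ) : (ComplexShape.up' (r, 1 - r)).Rel n (sh r n) := rfl

theorem page_step (r : ℤ) (hr : r₀ ≤ r) (n : ℤ × ℤ) [Module.Finite K ((E.page r hr).X n)] :
    Module.Finite K ((E.page (r + 1) (hr.trans (Int.le_add_one le_rfl))).X n) ∧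
    finrank K ((E.page (r + 1) (hr.trans (Int.le_add_one le_rfl))).X n) ≤
      finrank K ((E.page r hr).X n) ∧
    (finrank K ((E.page (r + 1) (hr.trans (Int.le_add_one le_rfl))).X n) =
      finrank K ((E.page r hr).X n) →
      (E.page r hr).d (n - (r, 1 - r)) n = 0 ∧ (E.page r hr).d n (n + (r, 1 - r)) = 0) := by
  have hσ := sh_rel r
  have i_inj := iCycles_injective (E.page r hr) n
  have p_surj := pMap_surjective (E.page r hr) (sh r) n
  have ip_ex := exact_i_p (E.page r hr) (sh r) hσ n
  have q_surj := homologyπ_surjective (E.page r hr) n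
  have jq_ex := exact_j_q (E.page r hr) (sh r) hσ n
  haveI : Module.Finite K ((E.page r hr).cycles n) := Module.Finite.of_injective _ i_inj
  have e1 := finrank_of_exact _ _ i_inj p_surj ip_ex
  have e2 := finrank_of_exact _ _ (Submodule.subtype_injective _) q_surj jq_ex
  have e3 : finrank K ((E.page r hr).homology n) =
      finrank K ((E.page (r + 1) (hr.trans (Int.le_add_one le_rfl))).X n) :=
    finrank_of_iso (E.iso r (r + 1) n rfl hr)
  haveI : Module.Finite K ((E.page r hr).homology n) := Module.Finite.of_surjective _ q_surj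
  haveI : Module.Finite K (Bd (E.page r hr) (sh r) (sh r n)) := Module.Finite.of_surjective _ p_surj
  refine ⟨finite_of_iso (E.iso r (r + 1) n rfl hr), by omega, fun heq => ?_⟩
  have b1 : finrank K (Bd (E.page r hr) (sh r) n) = 0 := by omega
  have b2 : finrank K (Bd (E.page r hr) (sh r) (sh r n)) = 0 := by omega
  rw [Submodule.finrank_eq_zero] at b1 b2
  have hn : sh r (n - (r, 1 - r)) = n := by simp [sh]
  rw [Bd_eq (E.page r hr) (sh r) (n - (r, 1 - r)) n hn, LinearMap.range_eq_bot] at b1
  rw [Bd_eq (E.page r hr) (sh r) n (sh r n) rfl, LinearMap.range_eq_bot] at b2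
  have c1 : (E.page r hr).toCycles (n - (r, 1 - r)) n = 0 := ModuleCat.hom_ext b1
  have c2 : (E.page r hr).toCycles n (sh r n) = 0 := ModuleCat.hom_ext b2
  constructor
  · rw [← (E.page r hr).toCycles_i, c1, Limits.zero_comp]
  · show (E.page r hr).d n (sh r n) = 0
    rw [← (E.page r hr).toCycles_i, c2, Limits.zero_comp]

theorem page_mono (hfd : ∀ pq : ℤ × ℤ, Module.Finite K ((E.page r₀ le_rfl).X pq)) :
    ∀ (r : ℤ) (hr : r₀ ≤ r), (∀ pq : ℤ × ℤ, Module.Finite K ((E.page r hr).X pq)) := by
  intro r hr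
  induction r, hr using Int.le_induction with
  | base => exact hfd
  | succ r hr ih =>
    intro pq
    haveI := ih pq
    exact (page_step E r hr pq).1

theorem page_le (hfin : ∀ (r : ℤ) (hr : r₀ ≤ r) (pq : ℤ × ℤ), Module.Finite K ((E.page r hr).X pq))
    (pq : ℤ × ℤ) (r : ℤ) (hr : r₀ ≤ r) :
    ∀ (r' : ℤ) (h : r ≤ r'), finrank K ((E.page r' (hr.trans h)).X pq) ≤
      finrank K ((E.page r hr).X pq) := by
  intro r' h
  induction r', h using Int.le_induction with
  | base => exact le_rfl
  | succ r' h ih =>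
    haveI := hfin r' (hr.trans h) pq
    exact (page_step E r' (hr.trans h) pq).2.1.trans ih

end Page


/-- Let K be a field and E a cohomological spectral sequence of K-vector spaces, pages from r₀,
concentrated in the first quadrant on page r₀ and with all terms of page r₀ finite-dimensional, and
let H be abutment data for E whose filtration in degree n is finite, H n finite-dimensional. If the
dimensions of the page-r₀ terms E^{s, n-s}, 0 ≤ s ≤ n, add up to the dimension of H n, then every
position of total degree n is stationary from page r₀ on: all differentials into and out of it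
vanish on every page. (The printed statement takes r₀ a positive integer and n ≥ 0; neither
restriction is needed.) -/
theorem result
    {K : Type u} [Field K] {r₀ : ℤ}
    (E : CohomologicalSpectralSequence (ModuleCat.{v} K) r₀) (H : ℤ → ModuleCat.{v} K)
    (a : SpSeq.Abutment E H) (n : ℤ) (hfin : a.IsFinite n)
    (hquad : ∀ pq : ℤ × ℤ, pq.1 < 0 ∨ pq.2 < 0 → IsZero ((E.page r₀ le_rfl).X pq))
    (hfd : ∀ pq : ℤ × ℤ, Module.Finite K ((E.page r₀ le_rfl).X pq))
    (hH : Module.Finite K (H n))
    (hsum : ∑ s ∈ Finset.Icc (0 : ℤ) n, Module.finrank K ((E.page r₀ le_rfl).X (s, n - s)) =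
      Module.finrank K (H n)) :
    ∀ s : ℤ, SpSeq.StationaryAt E (s, n - s) r₀ := by
  intro s
  have hfin_all := page_mono E hfd
  have hle := page_le E hfin_all
  have zero_all : ∀ (r : ℤ) (hr : r₀ ≤ r) (pq : ℤ × ℤ), pq.1 < 0 ∨ pq.2 < 0 →
      IsZero ((E.page r hr).X pq) := by
    intro r hr pq hpq
    have h0 := finrank_of_isZero (hquad pq hpq)
    have h1 := hle pq r₀ le_rfl r hr
    haveI := hfin_all r hr pq
    have h2 : finrank K ((E.page r hr).X pq) = 0 := by omega
    rw [Module.finrank_zero_iff] at h2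
    exact ModuleCat.isZero_of_subsingleton _
  -- graded pieces
  have key : ∀ (pq : ℤ × ℤ) (m : ℤ), pq.1 + pq.2 = m →
      Nonempty ((E.page (a.rk pq) (a.stat pq).1).X pq ≅
        grPiece (a.fil m) (a.anti m) pq.1) := by
    rintro pq m rfl
    exact ⟨a.β pq⟩
  have hgr : ∀ p : ℤ, Module.Finite K (grPiece (a.fil n) (a.anti n) p : ModuleCat.{v} K) := by
    intro p
    obtain ⟨e⟩ := key (p, n - p) n (by simp)
    haveI := hfin_all _ (a.stat (p, n - p)).1 (p, n - p)
    exact finite_of_iso e
  have hzero : ∀ p ∉ Finset.Icc (0 : ℤ) n, IsZero (grPiece (a.fil n) (a.anti n) p) := by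
    intro p hp
    obtain ⟨e⟩ := key (p, n - p) n (by simp)
    refine IsZero.of_iso ?_ e.symm
    apply zero_all
    rw [Finset.mem_Icc] at hp
    simp only
    omega
  obtain ⟨-, f2⟩ := fil_sum (a.fil n) (a.anti n) hfin hgr (Finset.Icc (0 : ℤ) n) hzero
  have hterm : ∀ p : ℤ, finrank K (grPiece (a.fil n) (a.anti n) p : ModuleCat.{v} K) =
      finrank K ((E.page (a.rk (p, n - p)) (a.stat (p, n - p)).1).X (p, n - p)) := by
    intro p
    obtain ⟨e⟩ := key (p, n - p) n (by simp)
    exact (finrank_of_iso e).symm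
  have hEq : ∀ p ∈ Finset.Icc (0 : ℤ) n,
      finrank K ((E.page (a.rk (p, n - p)) (a.stat (p, n - p)).1).X (p, n - p)) =
        finrank K ((E.page r₀ le_rfl).X (p, n - p)) := by
    refine (Finset.sum_eq_sum_iff_of_le (fun p _ => ?_)).mp ?_
    · exact hle (p, n - p) r₀ le_rfl _ (a.stat (p, n - p)).1
    · rw [hsum, f2]
      exact Finset.sum_congr rfl fun p _ => (hterm p).symm
  refine ⟨le_rfl, fun r' h₀ _ => ?_⟩
  by_cases hs : s ∈ Finset.Icc (0 : ℤ) n
  · by_cases hrk : a.rk (s, n - s) ≤ r'
    · exact (a.stat (s, n - s)).2 r' h₀ hrk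
    · push Not at hrk
      haveI := hfin_all r' h₀ (s, n - s)
      obtain ⟨-, s2, s3⟩ := page_step E r' h₀ (s, n - s)
      apply s3
      have t1 := hle (s, n - s) (r' + 1) (h₀.trans (Int.le_add_one le_rfl)) (a.rk (s, n - s))
        (by omega)
      have t2 := hle (s, n - s) r₀ le_rfl r' h₀
      have t3 := hEq s hs
      omega
  · have hz : IsZero ((E.page r' h₀).X (s, n - s)) := by
      apply zero_all
      rw [Finset.mem_Icc] at hs
      simp only
      omega
    exact ⟨hz.eq_of_tgt _ _, hz.eq_of_src _ _⟩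

end Groth.Agent.S19322
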