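import Groth.Statements.S19323
import Mathlib

set_option autoImplicit false
universe v u
open CategoryTheory CategoryTheory.Limits
open SpSeq

namespace Groth.Agent.S19323
set_option linter.style.haveILetI false
set_option linter.unusedSectionVars false

section Gen
variable {C : Type u} [Category.{v} C] [Abelian C] {ι : Type*} {c : ComplexShape ι}

theorem isZero_homology {K : HomologicalComplex C c} (j : ι) (h : IsZero (K.X j)) :
    IsZero (K.homology j) := by
  have h1 : IsZero (K.cycles j) := IsZero.of_mono (K.iCycles j) h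
  exact IsZero.of_epi (K.homologyπ j) h1

theorem mono_homologyMap {K K' : HomologicalComplex C c} (ψ : K ⟶ K') (i j : ι)
    (hij : c.Rel i j) (h1 : K.d i j = 0) (h1' : K'.d i j = 0) [Mono (ψ.f j)] :
    Mono (HomologicalComplex.homologyMap ψ j) := by
  haveI : IsIso (K.homologyπ j) := K.isIso_homologyπ i j (c.prev_eq' hij) h1
  haveI : IsIso (K'.homologyπ j) := K'.isIso_homologyπ i j (c.prev_eq' hij) h1'
  haveI : Mono (HomologicalComplex.cyclesMap ψ j) := by
    apply mono_of_mono_fac (HomologicalComplex.cyclesMap_i ψ j)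
  have e : HomologicalComplex.homologyMap ψ j =
      inv (K.homologyπ j) ≫ HomologicalComplex.cyclesMap ψ j ≫ K'.homologyπ j := by
    rw [IsIso.eq_inv_comp, HomologicalComplex.homologyπ_naturality]
  rw [e]
  infer_instance
end Gen


/-- In an abelian category let E and E' be first-quadrant E₂ cohomological spectral sequences and φ : E
⟶ E' a morphism of spectral sequences such that (i) every differential of E' leaving a position
whose first coordinate is nonzero vanishes, (ii) on every page the map φ at each position followed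
by the outgoing differential of E' is zero, and (iii) φ is a monomorphism at every position of page
2. Then E degenerates at page 2. -/
theorem result
    {C : Type u} [Category.{v} C] [Abelian C]
    (E E' : E₂CohomologicalSpectralSequence C) (φ : E ⟶ E')
    (hE : ∀ pq : ℤ × ℤ, pq.1 < 0 ∨ pq.2 < 0 → IsZero ((E.page 2 le_rfl).X pq))
    (hE' : ∀ pq : ℤ × ℤ, pq.1 < 0 ∨ pq.2 < 0 → IsZero ((E'.page 2 le_rfl).X pq))
    (hd' : ∀ (r : ℤ) (hr : 2 ≤ r) (pq : ℤ × ℤ), pq.1 ≠ 0 →
      (E'.page r hr).d pq (pq + (r, 1 - r)) = 0)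
    (hφd : ∀ (r : ℤ) (hr : 2 ≤ r) (pq : ℤ × ℤ),
      (φ.hom r hr).f pq ≫ (E'.page r hr).d pq (pq + (r, 1 - r)) = 0)
    (hmono : ∀ pq : ℤ × ℤ, Mono ((φ.hom 2 le_rfl).f pq)) :
    SpSeq.Degenerates E 2 := by
  -- the inductive claim
  have main : ∀ (r : ℤ) (hr : 2 ≤ r),
      (∀ pq : ℤ × ℤ, pq.1 < 0 → IsZero ((E.page r hr).X pq)) ∧
      (∀ pq : ℤ × ℤ, r ≤ pq.1 → Mono ((φ.hom r hr).f pq)) ∧
      (∀ pq pq' : ℤ × ℤ, (E.page r hr).d pq pq' = 0) := by
    -- the differentials vanish given the first two
    have dz : ∀ (r : ℤ) (hr : 2 ≤ r),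
        (∀ pq : ℤ × ℤ, pq.1 < 0 → IsZero ((E.page r hr).X pq)) →
        (∀ pq : ℤ × ℤ, r ≤ pq.1 → Mono ((φ.hom r hr).f pq)) →
        (∀ pq pq' : ℤ × ℤ, (E.page r hr).d pq pq' = 0) := by
      intro r hr ha hb pq pq'
      by_cases hrel : (ComplexShape.up' (r, 1 - r)).Rel pq pq'
      · have hpq' : pq + (r, 1 - r) = pq' := hrel
        subst hpq'
        by_cases hneg : pq.1 < 0
        · exact (ha pq hneg).eq_of_src _ _
        · haveI := hb (pq + (r, 1 - r)) (by simp only [Prod.fst_add]; omega)
          rw [← cancel_mono ((φ.hom r hr).f (pq + (r, 1 - r))), Limits.zero_comp,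
            ← (φ.hom r hr).comm, hφd r hr pq]
      · exact (E.page r hr).shape _ _ hrel
    intro r hr
    induction r, hr using Int.le_induction with
    | base =>
      have ha : ∀ pq : ℤ × ℤ, pq.1 < 0 → IsZero ((E.page 2 le_rfl).X pq) :=
        fun pq h => hE pq (Or.inl h)
      have hb : ∀ pq : ℤ × ℤ, 2 ≤ pq.1 → Mono ((φ.hom 2 le_rfl).f pq) := fun pq _ => hmono pq
      exact ⟨ha, hb, dz 2 le_rfl ha hb⟩
    | succ r hr ih =>
      obtain ⟨ha, hb, hd⟩ := ih
      have ha' : ∀ pq : ℤ × ℤ, pq.1 < 0 →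
          IsZero ((E.page (r + 1) (hr.trans (Int.le_add_one le_rfl))).X pq) := by
        intro pq hpq
        exact IsZero.of_iso (isZero_homology pq (ha pq hpq)) (E.iso r (r + 1) pq rfl hr).symm
      have hb' : ∀ pq : ℤ × ℤ, r + 1 ≤ pq.1 →
          Mono ((φ.hom (r + 1) (hr.trans (Int.le_add_one le_rfl))).f pq) := by
        intro pq hpq
        haveI := hb pq (by omega)
        have hrel : (ComplexShape.up' (r, 1 - r)).Rel (pq - (r, 1 - r)) pq := by
          show pq - (r, 1 - r) + (r, 1 - r) = pq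
          exact sub_add_cancel _ _
        have h1' : (E'.page r hr).d (pq - (r, 1 - r)) pq = 0 := by
          have := hd' r hr (pq - (r, 1 - r)) (by simp only [Prod.fst_sub]; omega)
          rwa [sub_add_cancel] at this
        haveI := mono_homologyMap (φ.hom r hr) (pq - (r, 1 - r)) pq hrel (hd _ _) h1'
        have hc := φ.comm r (r + 1) pq rfl hr
        have e : (φ.hom (r + 1) (hr.trans (Int.le_add_one le_rfl))).f pq =
            (E.iso r (r + 1) pq rfl hr).inv ≫ HomologicalComplex.homologyMap (φ.hom r hr) pq ≫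
              (E'.iso r (r + 1) pq rfl hr).hom := by
          rw [Iso.eq_inv_comp]
          exact hc.symm
        rw [e]
        infer_instance
      exact ⟨ha', hb', dz _ _ ha' hb'⟩
  exact ⟨le_rfl, fun r' h₀ _ pq pq' => (main r' h₀).2.2 pq pq'⟩

end Groth.Agent.S19323
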