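import Groth.Statements.S19328
import Mathlib.RingTheory.AdjoinRoot
import Mathlib.RingTheory.Polynomial.ScaleRoots
import Mathlib.Algebra.Polynomial.Lifts
import Mathlib.RingTheory.Spectrum.Prime.Topology
import Mathlib.Tactic

set_option autoImplicit false
universe u
open CategoryTheory CategoryTheory.Limits AlgebraicGeometry
open ModPair

namespace Groth.Agent.S19328

section helpers
open Polynomial

/-- a monic polynomial of positive degree over `A` has a root in `A`, when `Spec A` is fppf-local. -/
lemma exists_root_of_local (A : Type u) [CommRing A]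
    (hloc : ∀ (X : Scheme.{u}) (R : Presieve X),
      R ∈ Scheme.precoverage (@Flat ⊓ @LocallyOfFinitePresentation ⊓ @QuasiCompact ⊓ @QuasiSeparated) X →
      ∀ g : Spec (CommRingCat.of A) ⟶ X,
        ∃ (Y : Scheme.{u}) (v : Y ⟶ X) (h : Spec (CommRingCat.of A) ⟶ Y), R v ∧ h ≫ v = g)
    (G : A[X]) (hG : G.Monic) (hdeg : 0 < G.natDegree) : ∃ a : A, G.eval a = 0 := by
  haveI := hG.free_adjoinRoot
  haveI := hG.finite_adjoinRoot
  let φ : CommRingCat.of A ⟶ CommRingCat.of (AdjoinRoot G) :=
    CommRingCat.ofHom (algebraMap A (AdjoinRoot G))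
  have hinj : Function.Injective (algebraMap A (AdjoinRoot G)) := by
    rw [injective_iff_map_eq_zero]
    intro a ha
    by_contra ha0
    have h1 : AdjoinRoot.mk G (C a) = 0 := ha
    rw [AdjoinRoot.mk_eq_zero] at h1
    refine hG.not_dvd_of_degree_lt (q := C a) (by simpa using ha0) ?_ h1
    haveI : Nontrivial A := nontrivial_of_ne a 0 ha0
    rw [degree_C ha0, degree_eq_natDegree hG.ne_zero]
    exact_mod_cast hdeg
  have hsurj : Function.Surjective (Spec.map φ).base := by
    haveI : FaithfulSMul A (AdjoinRoot G) := (faithfulSMul_iff_algebraMap_injective _ _).2 hinj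
    have h0 := Algebra.IsIntegral.comap_surjective A (AdjoinRoot G)
    intro x
    obtain ⟨y, hy⟩ := h0 x
    exact ⟨y, hy⟩
  have hmem : Presieve.singleton (Spec.map φ) ∈ Scheme.precoverage
      (@Flat ⊓ @LocallyOfFinitePresentation ⊓ @QuasiCompact ⊓ @QuasiSeparated)
      (Spec (CommRingCat.of A)) := by
    rw [Scheme.singleton_mem_precoverage_iff]
    refine ⟨hsurj, ⟨⟨⟨?_, ?_⟩, inferInstance⟩, inferInstance⟩⟩
    · rw [Flat.SpecMap_iff]
      exact RingHom.flat_algebraMap_iff.2 inferInstance
    · rw [LocallyOfFinitePresentation.SpecMap_iff]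
      exact RingHom.finitePresentation_algebraMap.2 inferInstance
  obtain ⟨Y, v, h, hv, hh⟩ := hloc (Spec (CommRingCat.of A)) (Presieve.singleton (Spec.map φ))
    hmem (𝟙 _)
  cases hv
  obtain ⟨σ, rfl⟩ := Spec.map_surjective h
  rw [← Spec.map_comp, ← Spec.map_id] at hh
  have hσ := Spec.map_injective hh
  refine ⟨σ.hom (AdjoinRoot.root G), ?_⟩
  have h2 : σ.hom.comp (algebraMap A (AdjoinRoot G)) = RingHom.id A := by
    have := congrArg CommRingCat.Hom.hom hσ
    simpa [φ] using this
  have h3 := Polynomial.hom_eval₂ G (algebraMap A (AdjoinRoot G)) σ.hom (AdjoinRoot.root G)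
  rw [h2, AdjoinRoot.algebraMap_eq, AdjoinRoot.eval₂_root, map_zero] at h3
  rw [Polynomial.eval, ← h3]

lemma exists_num_den {A : Type u} [CommRing A] (p : Ideal A) [p.IsPrime] (c : p.ResidueField) :
    ∃ (a s : A), s ∉ p ∧ algebraMap A p.ResidueField a = algebraMap A p.ResidueField s * c := by
  obtain ⟨x, rfl⟩ := IsLocalRing.residue_surjective (R := Localization.AtPrime p) c
  obtain ⟨a, s, rfl⟩ := IsLocalization.exists_mk'_eq p.primeCompl x
  refine ⟨a, s, s.2, ?_⟩
  rw [IsScalarTower.algebraMap_apply A (Localization.AtPrime p) p.ResidueField,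
    IsScalarTower.algebraMap_apply A (Localization.AtPrime p) p.ResidueField (s : A)]
  change IsLocalRing.residue _ _ = IsLocalRing.residue _ _ * IsLocalRing.residue _ _
  rw [← map_mul, IsLocalization.mk'_spec']

end helpers

/-- Let A be a commutative ring such that Spec A is local for fppf coverings, in the sense that for
every scheme X, every jointly surjective family of morphisms to X each of which is flat and of
finite presentation (locally of finite presentation, quasi-compact and quasi-separated), and every
morphism Spec A ⟶ X, the morphism factors through a member of the family. Then the residue field of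
A at every prime ideal is algebraically closed. -/
theorem result (A : Type u) [CommRing A]
    (hloc : ∀ (X : Scheme.{u}) (R : Presieve X),
      R ∈ Scheme.precoverage (@Flat ⊓ @LocallyOfFinitePresentation ⊓ @QuasiCompact ⊓ @QuasiSeparated) X →
      ∀ g : Spec (CommRingCat.of A) ⟶ X,
        ∃ (Y : Scheme.{u}) (v : Y ⟶ X) (h : Spec (CommRingCat.of A) ⟶ Y), R v ∧ h ≫ v = g)
    (p : Ideal A) [p.IsPrime] : IsAlgClosed p.ResidueField := by
  classical
  refine IsAlgClosed.of_exists_root _ fun f hfm hfi => ?_
  have hn : 0 < f.natDegree := hfi.natDegree_pos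
  choose a s hs has using fun c : p.ResidueField => exists_num_den p c
  -- common denominator
  let S : A := ∏ i ∈ Finset.range f.natDegree, s (f.coeff i)
  have hS : S ∉ p := by
    intro h
    obtain ⟨i, -, hi⟩ := (Ideal.IsPrime.prod_mem_iff).1 h
    exact hs _ hi
  have hS0 : algebraMap A p.ResidueField S ≠ 0 := by
    rw [Ne, Ideal.algebraMap_residueField_eq_zero]
    exact hS
  have hcoef : ∀ i < f.natDegree, ∃ b : A,
      algebraMap A p.ResidueField b = algebraMap A p.ResidueField S * f.coeff i := by
    intro i hi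
    refine ⟨(∏ j ∈ (Finset.range f.natDegree).erase i, s (f.coeff j)) * a (f.coeff i), ?_⟩
    have hprod := Finset.mul_prod_erase (Finset.range f.natDegree) (fun j => s (f.coeff j))
      (Finset.mem_range.2 hi)
    rw [map_mul, has, ← mul_assoc, ← map_mul, mul_comm _ (s (f.coeff i)), hprod]
  -- the rescaled polynomial
  have hglifts : Polynomial.scaleRoots f (algebraMap A p.ResidueField S)
      ∈ Polynomial.lifts (algebraMap A p.ResidueField) := by
    rw [Polynomial.lifts_iff_coeff_lifts]
    intro i
    rw [Polynomial.coeff_scaleRoots]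
    rcases lt_trichotomy i f.natDegree with hi | hi | hi
    · obtain ⟨b, hb⟩ := hcoef i hi
      obtain ⟨m, hm⟩ : ∃ m, f.natDegree - i = m + 1 := ⟨f.natDegree - i - 1, by omega⟩
      refine ⟨b * S ^ m, ?_⟩
      rw [hm, pow_succ, map_mul, hb, map_pow]
      ring
    · refine ⟨1, ?_⟩
      rw [hi, Polynomial.coeff_natDegree, hfm.leadingCoeff]
      simp
    · refine ⟨0, ?_⟩
      rw [Polynomial.coeff_eq_zero_of_natDegree_lt hi]
      simp
  obtain ⟨G, hGmap, hGdeg, hGmonic⟩ := Polynomial.lifts_and_degree_eq_and_monic hglifts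
    ((Polynomial.monic_scaleRoots_iff _).2 hfm)
  have hGn : 0 < G.natDegree := by
    have h1 : G.natDegree = (Polynomial.scaleRoots f (algebraMap A p.ResidueField S)).natDegree :=
      Polynomial.natDegree_eq_natDegree hGdeg
    rw [h1, Polynomial.natDegree_scaleRoots]
    exact hn
  obtain ⟨r, hr⟩ := exists_root_of_local A hloc G hGmonic hGn
  refine ⟨algebraMap A p.ResidueField r / algebraMap A p.ResidueField S, ?_⟩
  have h1 : Polynomial.eval (algebraMap A p.ResidueField r)
      (Polynomial.scaleRoots f (algebraMap A p.ResidueField S)) = 0 := by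
    rw [← hGmap, Polynomial.eval_map, Polynomial.eval₂_at_apply, hr, map_zero]
  have h2 := Polynomial.scaleRoots_eval_mul f
    (algebraMap A p.ResidueField r / algebraMap A p.ResidueField S) (algebraMap A p.ResidueField S)
  rw [mul_div_cancel₀ _ hS0, h1] at h2
  exact (mul_eq_zero.1 h2.symm).resolve_left (pow_ne_zero _ hS0)

end Groth.Agent.S19328
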