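import Groth.Statements.S19329
import Groth.Agent.Lib.IdealExtBlowUp68
import Groth.Agent.Lib.BlowUpUniv3
import Groth.Agent.Lib.AffineBlowupChart

set_option autoImplicit false
universe u
open CategoryTheory CategoryTheory.Limits AlgebraicGeometry TopologicalSpace
open ModPair

namespace Groth.Agent.S19329

open CategoryTheory AlgebraicGeometry TopologicalSpace

/-- Local data: around any point, `J = (c)` with `c` a nonzerodivisor, `K' = (κ)` and `c = u * κ`. -/
theorem exists_local {Y : Scheme.{u}} (J K' : Y.IdealSheafData) (hJ : BlowUp.IsEffCartierIdeal J)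
    (hK' : Groth.Agent.Lib.BlowUpUniv.IsLocPrincipal' K') (hle : J ≤ K') (y : Y) :
    ∃ (N : Y.affineOpens) (c κ u : Γ(Y, N.1)), y ∈ N.1 ∧ c ∈ nonZeroDivisors Γ(Y, N.1) ∧
      J.ideal N = Ideal.span {c} ∧ K'.ideal N = Ideal.span {κ} ∧ c = u * κ := by
  obtain ⟨N₁, hy₁, c₁, hc₁, hJ₁⟩ := hJ y
  obtain ⟨N₂, hy₂, κ₂, hK₂⟩ := hK' y
  obtain ⟨_, ⟨N, hN, rfl⟩, hyN, hNle⟩ :=
    Y.isBasis_affineOpens.exists_subset_of_mem_open (show y ∈ N₁.1 ⊓ N₂.1 from ⟨hy₁, hy₂⟩)
      (N₁.1 ⊓ N₂.1).2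
  have h1 : (⟨N, hN⟩ : Y.affineOpens) ≤ N₁ := fun z hz => (hNle hz).1
  have h2 : (⟨N, hN⟩ : Y.affineOpens) ≤ N₂ := fun z hz => (hNle hz).2
  obtain ⟨hc, hJN⟩ := Groth.Agent.Lib.RelCartier.cartier_restrict J h1 c₁ hc₁ hJ₁
  have hKN : K'.ideal ⟨N, hN⟩ =
      Ideal.span {(Y.presheaf.map (homOfLE h2).op κ₂ : Γ(Y, N))} := by
    rw [← K'.map_ideal h2, hK₂, Ideal.map_span, Set.image_singleton]
  have hmem : (Y.presheaf.map (homOfLE h1).op c₁ : Γ(Y, N)) ∈
      Ideal.span {(Y.presheaf.map (homOfLE h2).op κ₂ : Γ(Y, N))} := by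
    rw [← hKN]
    apply hle ⟨N, hN⟩
    rw [hJN]
    exact Ideal.mem_span_singleton_self _
  obtain ⟨u, hu⟩ := Ideal.mem_span_singleton'.mp hmem
  exact ⟨⟨N, hN⟩, _, _, u, hyN, hc, hJN, hKN, hu.symm⟩

/-- On the basic open `D(u)` the two ideals agree. -/
theorem ideal_basicOpen_eq {Y : Scheme.{u}} (J K' : Y.IdealSheafData) (N : Y.affineOpens)
    (c κ u : Γ(Y, N.1)) (hJN : J.ideal N = Ideal.span {c}) (hKN : K'.ideal N = Ideal.span {κ})
    (hu : c = u * κ) : J.ideal (Y.affineBasicOpen u) = K'.ideal (Y.affineBasicOpen u) := by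
  rw [← J.map_ideal_basicOpen N u, ← K'.map_ideal_basicOpen N u, hJN, hKN, Ideal.map_span,
    Ideal.map_span, Set.image_singleton, Set.image_singleton, hu, map_mul]
  exact Ideal.span_singleton_mul_left_unit (RingedSpace.isUnit_res_basicOpen _ u) _

/-- Let (X, I), (Y, J), (Z, K) be modulus pairs, i.e. schemes with quasi-coherent ideal sheaves of
effective Cartier divisors, and let f : X ⟶ Y and g : Y ⟶ Z satisfy the modulus conditions I ≤
J.comap f and J ≤ K.comap g. Suppose the composite X ⟶ Z is minimal, I = K.comap (f ≫ g). Then f is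
minimal, and there is an open subset U of Y whose inclusion is quasi-compact, which contains the
image of f, and such that U ⟶ Z is minimal for the modulus of Y restricted to U. -/
theorem result {X Y Z : Scheme.{u}}
    (I : X.IdealSheafData) (J : Y.IdealSheafData) (K : Z.IdealSheafData)
    (hI : BlowUp.IsEffCartierIdeal I) (hJ : BlowUp.IsEffCartierIdeal J)
    (hK : BlowUp.IsEffCartierIdeal K) (f : X ⟶ Y) (g : Y ⟶ Z)
    (hf : ModPair.IsAmbient I J f) (hg : ModPair.IsAmbient J K g)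
    (hfg : ModPair.IsMinimal I K (f ≫ g)) :
    ModPair.IsMinimal I J f ∧
      ∃ U : Y.Opens, QuasiCompact U.ι ∧ Set.range f.base ⊆ (U : Set Y) ∧
        ModPair.IsMinimal (J.comap U.ι) K (U.ι ≫ g) := by
  classical
  have hf' : I ≤ J.comap f := hf
  have hg' : J ≤ K.comap g := hg
  have hfg' : I = K.comap (f ≫ g) := hfg
  have hIJ : I = J.comap f := by
    apply le_antisymm hf'
    rw [hfg', Scheme.IdealSheafData.comap_comp]
    exact Scheme.IdealSheafData.comap_mono _ hg'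
  refine ⟨hIJ, ?_⟩
  set K' := K.comap g with hK'def
  have hK'lp : Groth.Agent.Lib.BlowUpUniv.IsLocPrincipal' K' :=
    Groth.Agent.Lib.BlowUpUniv.isLocPrincipal_comap g K
      (Groth.Agent.Lib.BlowUpUniv.isLocPrincipal_of_isEffCartier K hK)
  have hIK' : I = K'.comap f := by rw [hfg', Scheme.IdealSheafData.comap_comp]
  -- the open locus where `J = K'`
  let U : Y.Opens := ⨆ (N : {N : Y.affineOpens // J.ideal N = K'.ideal N}), N.1.1
  have hmemU : ∀ z : Y, z ∈ U ↔ ∃ N : Y.affineOpens, z ∈ N.1 ∧ J.ideal N = K'.ideal N := by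
    intro z
    constructor
    · intro hz
      obtain ⟨⟨N, hN⟩, hzN⟩ := Opens.mem_iSup.mp hz
      exact ⟨N, hzN, hN⟩
    · rintro ⟨N, hzN, hN⟩
      exact Opens.mem_iSup.mpr ⟨⟨N, hN⟩, hzN⟩
  -- Step A: agreement on every affine open inside `U`
  have hA : ∀ D : Y.affineOpens, D.1 ≤ U → J.ideal D = K'.ideal D := by
    intro D hD
    apply le_antisymm (hg' D)
    apply Groth.Agent.Lib.IdealExt68.ideal_le_of_forall_exists_basicOpen K' J D
    intro z hzD
    obtain ⟨N, hzN, hN⟩ := (hmemU z).mp (hD hzD)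
    obtain ⟨r, r', hrr', hzr⟩ := exists_basicOpen_le_affine_inter D.2 N.2 z ⟨hzD, hzN⟩
    refine ⟨r, hzr, ?_⟩
    have e : Y.affineBasicOpen r = Y.affineBasicOpen r' := Subtype.ext hrr'
    rw [e, ← J.map_ideal_basicOpen N r', ← K'.map_ideal_basicOpen N r', hN]
  -- local structure of `U`
  have hUloc : ∀ (N : Y.affineOpens) (c κ u : Γ(Y, N.1)), c ∈ nonZeroDivisors Γ(Y, N.1) →
      J.ideal N = Ideal.span {c} → K'.ideal N = Ideal.span {κ} → c = u * κ →
      U ⊓ N.1 = Y.basicOpen u := by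
    intro N c κ u hc hJN hKN hu
    apply le_antisymm
    · rintro z ⟨hzU, hzN⟩
      obtain ⟨N₀, hzN₀, hN₀⟩ := (hmemU z).mp hzU
      obtain ⟨_, ⟨N'', hN'', rfl⟩, hzN'', hN''le⟩ :=
        Y.isBasis_affineOpens.exists_subset_of_mem_open (show z ∈ N₀.1 ⊓ N.1 from ⟨hzN₀, hzN⟩)
          (N₀.1 ⊓ N.1).2
      have h0 : (⟨N'', hN''⟩ : Y.affineOpens) ≤ N₀ := fun w hw => (hN''le hw).1
      have h1 : (⟨N'', hN''⟩ : Y.affineOpens) ≤ N := fun w hw => (hN''le hw).2
      have hgood : J.ideal ⟨N'', hN''⟩ = K'.ideal ⟨N'', hN''⟩ := by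
        rw [← J.map_ideal h0, ← K'.map_ideal h0, hN₀]
      obtain ⟨hc', hJ'⟩ := Groth.Agent.Lib.RelCartier.cartier_restrict J h1 c hc hJN
      have hK' : K'.ideal ⟨N'', hN''⟩ =
          Ideal.span {(Y.presheaf.map (homOfLE h1).op κ : Γ(Y, N''))} := by
        rw [← K'.map_ideal h1, hKN, Ideal.map_span, Set.image_singleton]
      set ρ : Γ(Y, N.1) →+* Γ(Y, N'') :=
        (Y.presheaf.map (homOfLE (show N'' ≤ N.1 from h1)).op).hom with hρ
      have hmem : ρ κ ∈ Ideal.span {ρ c} := by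
        have : ρ κ ∈ K'.ideal ⟨N'', hN''⟩ := by rw [hK']; exact Ideal.mem_span_singleton_self _
        rw [← hgood, hJ'] at this
        exact this
      obtain ⟨w, hw⟩ := Ideal.mem_span_singleton'.mp hmem
      have hunit : IsUnit (ρ u) := by
        have h3 : (ρ u * w - 1) * ρ c = 0 := by
          have : ρ c = ρ u * ρ κ := by rw [hu, map_mul]
          calc (ρ u * w - 1) * ρ c = ρ u * (w * ρ c) - ρ c := by ring
            _ = 0 := by rw [hw, ← this, sub_self]
        have h4 := mem_nonZeroDivisors_iff_right.mp hc' _ h3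
        exact IsUnit.of_mul_eq_one w (sub_eq_zero.mp h4)
      have h5 : Y.basicOpen (ρ u) = N'' := Y.basicOpen_of_isUnit hunit
      have h6 : Y.basicOpen (ρ u) ≤ Y.basicOpen u := by
        rw [hρ]
        change Y.basicOpen ((Y.presheaf.map (homOfLE (show N'' ≤ N.1 from h1)).op) u) ≤ _
        rw [Scheme.basicOpen_res]
        exact inf_le_right
      rw [h5] at h6
      exact h6 hzN''
    · intro z hz
      refine ⟨(hmemU z).mpr ⟨Y.affineBasicOpen u, hz, ideal_basicOpen_eq J K' N c κ u hJN hKN hu⟩,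
        Y.basicOpen_le u hz⟩
  refine ⟨U, ?_, ?_, ?_⟩
  · -- quasi-compactness of the inclusion
    have haff : IsAffineHom U.ι := by
      apply isAffineHom_of_forall_exists_isAffineOpen
      intro y
      obtain ⟨N, c, κ, u, hyN, hc, hJN, hKN, hu⟩ := exists_local J K' hJ hK'lp hg' y
      refine ⟨N.1, hyN, N.2, ?_⟩
      apply U.ι.isAffineOpen_iff_of_isOpenImmersion.mp
      rw [Scheme.Hom.image_preimage_eq_opensRange_inf, Scheme.Opens.opensRange_ι,
        hUloc N c κ u hc hJN hKN hu]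
      exact N.2.basicOpen u
    infer_instance
  · -- the image of `f` lies in `U`
    rintro _ ⟨x, rfl⟩
    obtain ⟨N, c, κ, u, hyN, hc, hJN, hKN, hu⟩ := exists_local J K' hJ hK'lp hg' (f x)
    have hfxU : f x ∈ Y.basicOpen u := by
      obtain ⟨M₁, hxM₁, a₁, ha₁, hIM₁⟩ := hI x
      obtain ⟨_, ⟨M, hM, rfl⟩, hxM, hMle⟩ :=
        X.isBasis_affineOpens.exists_subset_of_mem_open
          (show x ∈ M₁.1 ⊓ f ⁻¹ᵁ N.1 from ⟨hxM₁, hyN⟩) (M₁.1 ⊓ f ⁻¹ᵁ N.1).2
      have h1 : (⟨M, hM⟩ : X.affineOpens) ≤ M₁ := fun w hw => (hMle hw).1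
      have hMN : M ≤ f ⁻¹ᵁ N.1 := fun w hw => (hMle hw).2
      obtain ⟨ha, hIM⟩ := Groth.Agent.Lib.RelCartier.cartier_restrict I h1 a₁ ha₁ hIM₁
      set φ := (f.appLE N.1 M hMN).hom with hφ
      have e1 : I.ideal ⟨M, hM⟩ = Ideal.span {φ c} := by
        rw [hIJ, Groth.Agent.Lib.IdealComap.ideal_comap J f N.1 N.2 M hM hMN, hJN, Ideal.map_span,
          Set.image_singleton]
      have e2 : I.ideal ⟨M, hM⟩ = Ideal.span {φ κ} := by
        rw [hIK', Groth.Agent.Lib.IdealComap.ideal_comap K' f N.1 N.2 M hM hMN, hKN,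
          Ideal.map_span, Set.image_singleton]
      have hcnzd : φ c ∈ nonZeroDivisors Γ(X, M) :=
        Groth.Agent.Lib.AffineBlowupChart.mem_nonZeroDivisors_of_span_eq _ _ ha (e1.symm.trans hIM)
      have hmem : φ κ ∈ Ideal.span {φ c} := by
        rw [← e1, e2]; exact Ideal.mem_span_singleton_self _
      obtain ⟨w, hw⟩ := Ideal.mem_span_singleton'.mp hmem
      have hunit : IsUnit (φ u) := by
        have h3 : (φ u * w - 1) * φ c = 0 := by
          have : φ c = φ u * φ κ := by rw [hu, map_mul]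
          calc (φ u * w - 1) * φ c = φ u * (w * φ c) - φ c := by ring
            _ = 0 := by rw [hw, ← this, sub_self]
        have h4 := mem_nonZeroDivisors_iff_right.mp hcnzd _ h3
        exact IsUnit.of_mul_eq_one w (sub_eq_zero.mp h4)
      have h5 : X.basicOpen (φ u) = M := X.basicOpen_of_isUnit hunit
      have h6 : X.basicOpen (φ u) ≤ f ⁻¹ᵁ Y.basicOpen u := by
        rw [Scheme.preimage_basicOpen]
        have : φ u = (X.presheaf.map (homOfLE hMN).op).hom ((f.app N.1).hom u) := rfl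
        rw [this, Scheme.basicOpen_res]
        exact inf_le_right
      rw [h5] at h6
      exact h6 hxM
    exact (hmemU _).mpr ⟨Y.affineBasicOpen u, hfxU,
      ideal_basicOpen_eq J K' N c κ u hJN hKN hu⟩
  · -- minimality over `U`
    change J.comap U.ι = K.comap (U.ι ≫ g)
    rw [Scheme.IdealSheafData.comap_comp]
    exact Groth.Agent.Lib.IdealExtBlowUp68.comap_ι_eq_of_forall_ideal_eq J K' U hA

end Groth.Agent.S19329
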