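import Groth.Statements.S19330
import Groth.Agent.Lib.EffCartier68
import Groth.Agent.Lib.SchDense68
import Mathlib.AlgebraicGeometry.Morphisms.Immersion

set_option autoImplicit false
universe u
open CategoryTheory CategoryTheory.Limits AlgebraicGeometry TopologicalSpace
open ModPair

namespace Groth.Agent.S19330

/-- Every point of a modulus pair is a specialization of a point of the interior. -/
theorem exists_specializes_interior {S : Scheme.{u}} (I : S.IdealSheafData)
    (hI : BlowUp.IsEffCartierIdeal I) (s : S) :
    ∃ u : S, u ∈ ModPair.interior I ∧ u ⤳ s := by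
  obtain ⟨W, hsW, a, ha, hIa⟩ := hI s
  have hW : IsAffineOpen W.1 := W.2
  let x : PrimeSpectrum Γ(S, W.1) := hW.primeIdealOf ⟨s, hsW⟩
  obtain ⟨q, hq, hqx⟩ := Ideal.exists_minimalPrimes_le (bot_le : (⊥ : Ideal Γ(S, W.1)) ≤ x.asIdeal)
  have hqp : q.IsPrime := hq.1.1
  let y : PrimeSpectrum Γ(S, W.1) := ⟨q, hqp⟩
  have hyx : y ⤳ x := (PrimeSpectrum.le_iff_specializes y x).mp hqx
  have haq : a ∉ q := by
    intro haq
    have hq' : q ∈ minimalPrimes Γ(S, W.1) := hq
    exact (Set.disjoint_left.mp (Ideal.disjoint_nonZeroDivisors_of_mem_minimalPrimes hq')) haq ha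
  refine ⟨hW.fromSpec y, ?_, ?_⟩
  · have h1 : hW.fromSpec y ∈ S.basicOpen a := by
      have : y ∈ hW.fromSpec ⁻¹ᵁ S.basicOpen a := by
        rw [hW.fromSpec_preimage_basicOpen]
        exact haq
      exact this
    rw [← Groth.Agent.Lib.EffCartier68.interior_inf_eq_basicOpen I W a hIa] at h1
    exact h1.1
  · have h2 := hyx.map hW.fromSpec.continuous
    have h3 : hW.fromSpec x = s := hW.fromSpec_primeIdealOf ⟨s, hsW⟩
    rw [h3] at h2
    exact h2

/-- The canonical map to the scheme-theoretic image of a quasi-compact morphism has trivial kernel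
(same proof as helper34's `Lib/LocImm3.ker_toImage_eq_bot`). -/
theorem ker_toImage_eq_bot {X Y : Scheme.{u}} (g : X ⟶ Y) [QuasiCompact g] : g.toImage.ker = ⊥ := by
  refine Scheme.IdealSheafData.ext_of_iSup_eq_top (fun U : Y.affineOpens =>
    (⟨g.imageι ⁻¹ᵁ U.1, U.2.preimage g.imageι⟩ : g.image.affineOpens)) ?_ ?_
  · rw [eq_top_iff]
    intro z _
    have hz : g.imageι z ∈ (⊤ : Y.Opens) := trivial
    rw [← iSup_affineOpens_eq_top Y] at hz
    obtain ⟨U, hU⟩ := TopologicalSpace.Opens.mem_iSup.1 hz
    exact TopologicalSpace.Opens.mem_iSup.2 ⟨U, hU⟩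
  · intro U
    rw [Scheme.Hom.ker_apply]
    simp only [Scheme.IdealSheafData.ideal_bot, Pi.bot_apply]
    exact (RingHom.injective_iff_ker_eq_bot _).1 (g.toImage_app_injective U)

/-- Let (S, I) be a modulus pair, i.e. a scheme with the quasi-coherent ideal sheaf of an effective
Cartier divisor, with interior U, and let g_i : V_i ⟶ U be a jointly surjective family of closed
immersions into the interior. Let V̄_i be the scheme-theoretic image of V_i ⟶ U ⟶ S. Then the closed
immersions V̄_i ⟶ S are jointly surjective, the modulus restricted to each V̄_i is again the ideal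
sheaf of an effective Cartier divisor (so that V̄_i ⟶ S is a minimal morphism of modulus pairs), and
the interior of V̄_i is V_i: the canonical morphism V_i ⟶ V̄_i is an open immersion whose image is
the preimage of U. -/
theorem result {S : Scheme.{u}} (I : S.IdealSheafData)
    (hI : BlowUp.IsEffCartierIdeal I) {ι : Type u} (V : ι → Scheme.{u})
    (g : ∀ i, V i ⟶ (ModPair.interior I : Scheme.{u})) [∀ i, IsClosedImmersion (g i)]
    (hsurj : ∀ u : (ModPair.interior I : Scheme.{u}), ∃ (i : ι) (v : V i), (g i).base v = u) :
    (∀ s : S, ∃ (i : ι) (v : (g i ≫ (ModPair.interior I).ι).image),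
        (g i ≫ (ModPair.interior I).ι).imageι.base v = s) ∧
      (∀ i, BlowUp.IsEffCartierIdeal (I.comap (g i ≫ (ModPair.interior I).ι).imageι)) ∧
      ∀ i, IsOpenImmersion (g i ≫ (ModPair.interior I).ι).toImage ∧
        Set.range (g i ≫ (ModPair.interior I).ι).toImage.base =
          (g i ≫ (ModPair.interior I).ι).imageι.base ⁻¹' (ModPair.interior I : Set S) := by
  have hqcU : QuasiCompact (ModPair.interior I).ι :=
    Groth.Agent.Lib.EffCartier68.quasiCompact_interior_ι I hI
  have hqc : ∀ i, QuasiCompact (g i ≫ (ModPair.interior I).ι) := fun i => inferInstance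
  have himm : ∀ i, IsImmersion (g i ≫ (ModPair.interior I).ι) := fun i => inferInstance
  refine ⟨fun s => ?_, fun i => ?_, fun i => ⟨inferInstance, ?_⟩⟩
  · -- joint surjectivity
    obtain ⟨u, huU, hus⟩ := exists_specializes_interior I hI s
    obtain ⟨i, v, hv⟩ := hsurj ⟨u, huU⟩
    refine ⟨i, ?_⟩
    set h := g i ≫ (ModPair.interior I).ι with hh
    have hcl : IsClosed (Set.range h.imageι.base) := h.imageι.isClosedEmbedding.isClosed_range
    have hu : u ∈ Set.range h.imageι.base := by
      refine ⟨h.toImage.base v, ?_⟩
      rw [← Scheme.Hom.comp_apply, h.toImage_imageι, hh, Scheme.Hom.comp_apply, hv]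
      rfl
    have hs : s ∈ Set.range h.imageι.base := hus.mem_closed hcl hu
    obtain ⟨z, hz⟩ := hs
    exact ⟨z, hz⟩
  · -- effective Cartier on the closure
    set h := g i ≫ (ModPair.interior I).ι with hh
    have hfac : h.toImage =
        IsOpenImmersion.lift (h.imageι ⁻¹ᵁ ModPair.interior I).ι h.toImage (by
          rintro _ ⟨v, rfl⟩
          simp only [Scheme.Opens.range_ι, TopologicalSpace.Opens.map_coe, Set.mem_preimage,
            SetLike.mem_coe]
          rw [← Scheme.Hom.comp_apply, h.toImage_imageι, hh, Scheme.Hom.comp_apply]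
          exact ((g i).base v).2) ≫ (h.imageι ⁻¹ᵁ ModPair.interior I).ι :=
      (IsOpenImmersion.lift_fac _ _ _).symm
    have hdom : IsSchemeTheoreticallyDominant (h.imageι ⁻¹ᵁ ModPair.interior I).ι := by
      constructor
      have h1 := Scheme.Hom.le_ker_comp
        (IsOpenImmersion.lift (h.imageι ⁻¹ᵁ ModPair.interior I).ι h.toImage (by
          rintro _ ⟨v, rfl⟩
          simp only [Scheme.Opens.range_ι, TopologicalSpace.Opens.map_coe, Set.mem_preimage,
            SetLike.mem_coe]
          rw [← Scheme.Hom.comp_apply, h.toImage_imageι, hh, Scheme.Hom.comp_apply]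
          exact ((g i).base v).2)) (h.imageι ⁻¹ᵁ ModPair.interior I).ι
      rw [← hfac] at h1
      have h2 : h.toImage.ker = ⊥ := ker_toImage_eq_bot h
      rw [h2] at h1
      exact le_bot_iff.mp h1
    exact Groth.Agent.Lib.EffCartier68.isEffCartierIdeal_comap_of_dominant I hI h.imageι
  · -- range of toImage
    set h := g i ≫ (ModPair.interior I).ι with hh
    apply Set.Subset.antisymm
    · rintro _ ⟨v, rfl⟩
      simp only [Set.mem_preimage, SetLike.mem_coe]
      rw [← Scheme.Hom.comp_apply, h.toImage_imageι, hh, Scheme.Hom.comp_apply]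
      exact ((g i).base v).2
    · intro p hp
      have hpb := IsImmersion.isPullback_toImage_liftCoborder h
      have hp' : h.imageι.base p ∈ ModPair.interior I := hp
      have hcob : h.imageι.base p ∈ coborder (Set.range h.base) := by
        rw [coborder_eq_union_closure_compl]
        by_cases hc : h.imageι.base p ∈ closure (Set.range h.base)
        · left
          have hgcl : IsClosed (Set.range (g i).base) := (g i).isClosedEmbedding.isClosed_range
          have hind : Topology.IsInducing (ModPair.interior I).ι.base :=
            (ModPair.interior I).ι.isOpenEmbedding.isInducing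
          have hrange : Set.range h.base = (ModPair.interior I).ι.base '' Set.range (g i).base := by
            rw [hh, Scheme.Hom.comp_base, TopCat.coe_comp, Set.range_comp]
          have hu : (⟨h.imageι.base p, hp'⟩ : ModPair.interior I) ∈
              closure (Set.range (g i).base) := by
            rw [hind.closure_eq_preimage_closure_image, ← hrange]
            exact hc
          rw [hgcl.closure_eq] at hu
          obtain ⟨v, hv⟩ := hu
          refine ⟨v, ?_⟩
          have h5 : h.base v = (ModPair.interior I).ι.base ((g i).base v) := by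
            simp only [hh, Scheme.Hom.comp_apply]
          rw [h5, hv]
          rfl
        · right
          exact hc
      obtain ⟨v, hv, -⟩ := Scheme.exists_preimage_of_isPullback hpb p
        (⟨h.imageι.base p, hcob⟩ : h.coborderRange) rfl
      exact ⟨v, hv⟩

end Groth.Agent.S19330
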