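import Groth.Statements.S19331
import Groth.Agent.Lib.ZMTFin
import Groth.Agent.Lib.ModPairClosure68
import Groth.Agent.Lib.PhRefine68

set_option autoImplicit false
universe u
open CategoryTheory CategoryTheory.Limits AlgebraicGeometry TopologicalSpace
open ModPair

namespace Groth.Agent.S19331

/-- Let (S, I) be a modulus pair, i.e. a scheme with the quasi-coherent ideal sheaf of an effective
Cartier divisor, with S quasi-compact and quasi-separated and with interior U, and let t₀ : T₀ ⟶ U
be a finite surjective morphism. Then there are a finite surjective morphism t : T ⟶ S such that the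
pulled-back modulus I.comap t is again the ideal sheaf of an effective Cartier divisor, making T ⟶ S
a minimal morphism of modulus pairs, and an open immersion j : T₀ ⟶ T with image t⁻¹(U) and j ≫ t =
t₀ ≫ (U ⟶ S), so that t₀ is the interior of t. -/
theorem result {S : Scheme.{u}}
    [CompactSpace S] [QuasiSeparatedSpace S] (I : S.IdealSheafData)
    (hI : BlowUp.IsEffCartierIdeal I) {T₀ : Scheme.{u}}
    (t₀ : T₀ ⟶ (ModPair.interior I : Scheme.{u})) [IsFinite t₀] [Surjective t₀] :
    ∃ (T : Scheme.{u}) (t : T ⟶ S) (j : T₀ ⟶ T), IsFinite t ∧ Surjective t ∧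
      BlowUp.IsEffCartierIdeal (I.comap t) ∧ IsOpenImmersion j ∧
      Set.range j.base = t.base ⁻¹' (ModPair.interior I : Set S) ∧
      j ≫ t = t₀ ≫ (ModPair.interior I).ι := by
  have hqcU : QuasiCompact (ModPair.interior I).ι :=
    Groth.Agent.Lib.EffCartier68.quasiCompact_interior_ι I hI
  have hsdU : IsSchemeTheoreticallyDominant (ModPair.interior I).ι :=
    Groth.Agent.Lib.EffCartier96.isSchemeTheoreticallyDominant_interior_ι I hI
  obtain ⟨T₁, j₁, π₁, hj₁, hj₁qc, hπ₁, hjπ⟩ :=
    Groth.Agent.Lib.ZMTFin.zmt_finite (t₀ ≫ (ModPair.interior I).ι)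
  have hjt : j₁.toImage ≫ j₁.imageι ≫ π₁ = t₀ ≫ (ModPair.interior I).ι := by
    rw [← Category.assoc, Scheme.Hom.toImage_imageι, hjπ]
  have hsub : Set.range j₁.toImage.base ⊆
      (j₁.imageι ≫ π₁).base ⁻¹' (ModPair.interior I : Set S) := by
    rintro _ ⟨x, rfl⟩
    change (j₁.imageι ≫ π₁) (j₁.toImage x) ∈ ModPair.interior I
    rw [← Scheme.Hom.comp_apply, hjt, Scheme.Hom.comp_apply]
    exact (t₀ x).2
  have hrange : Set.range j₁.toImage.base =
      (j₁.imageι ≫ π₁).base ⁻¹' (ModPair.interior I : Set S) := by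
    apply Set.Subset.antisymm hsub
    intro x hx
    have hx' : π₁ (j₁.imageι x) ∈ ModPair.interior I := by
      rw [← Scheme.Hom.comp_apply]; exact hx
    exact Groth.Agent.Lib.PhRefine68.mem_range_toImage j₁ π₁ (ModPair.interior I) t₀
      (by rw [hjπ]) x hx'
  refine ⟨j₁.image, j₁.imageι ≫ π₁, j₁.toImage, inferInstance, ?_, ?_, inferInstance, hrange,
    hjt⟩
  · -- surjective
    have hdom : IsDominant (ModPair.interior I).ι := inferInstance
    have hcl : IsClosed (Set.range (j₁.imageι ≫ π₁)) := (j₁.imageι ≫ π₁).isClosedMap.isClosed_range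
    have hsubr : Set.range (ModPair.interior I).ι ⊆ Set.range (j₁.imageι ≫ π₁) := by
      rintro _ ⟨u, rfl⟩
      obtain ⟨x, rfl⟩ := t₀.surjective u
      refine ⟨j₁.toImage x, ?_⟩
      rw [← Scheme.Hom.comp_apply, hjt, Scheme.Hom.comp_apply]
    refine ⟨fun s => ?_⟩
    have h1 : s ∈ closure (Set.range (ModPair.interior I).ι) := by
      rw [(ModPair.interior I).ι.denseRange.closure_eq]; trivial
    exact hcl.closure_subset_iff.mpr hsubr h1
  · -- effective Cartier
    have hsub' : Set.range j₁.toImage.base ⊆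
        Set.range ((j₁.imageι ≫ π₁) ⁻¹ᵁ ModPair.interior I).ι.base := by
      rw [Scheme.Opens.range_ι]
      exact hsub
    have hfac : j₁.toImage =
        IsOpenImmersion.lift ((j₁.imageι ≫ π₁) ⁻¹ᵁ ModPair.interior I).ι j₁.toImage hsub' ≫
          ((j₁.imageι ≫ π₁) ⁻¹ᵁ ModPair.interior I).ι :=
      (IsOpenImmersion.lift_fac _ _ _).symm
    have hdom : IsSchemeTheoreticallyDominant ((j₁.imageι ≫ π₁) ⁻¹ᵁ ModPair.interior I).ι := by
      constructor
      have h1 := Scheme.Hom.le_ker_comp
        (IsOpenImmersion.lift ((j₁.imageι ≫ π₁) ⁻¹ᵁ ModPair.interior I).ι j₁.toImage hsub')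
        ((j₁.imageι ≫ π₁) ⁻¹ᵁ ModPair.interior I).ι
      rw [← hfac] at h1
      have h2 : j₁.toImage.ker = ⊥ := Groth.Agent.Lib.ModPairClosure68.ker_toImage_eq_bot j₁
      rw [h2] at h1
      exact le_bot_iff.mp h1
    exact Groth.Agent.Lib.EffCartier68.isEffCartierIdeal_comap_of_dominant I hI (j₁.imageι ≫ π₁)

end Groth.Agent.S19331
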