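import Groth.Statements.S19333
import Mathlib.RingTheory.Valuation.LocalSubring
import Mathlib.RingTheory.Ideal.Maximal
import Mathlib.Algebra.Polynomial.Lifts
import Mathlib.RingTheory.Localization.FractionRing
import Mathlib.Tactic

set_option autoImplicit false
universe u
open ModPair

namespace Groth.Agent.S19333

section helpers
open Polynomial

variable {A B : Type u} [CommRing A] [CommRing B] [Algebra A B]

/-- the multiplicative set of values of monic polynomials at `x` -/
def monicValues (x : B) : Submonoid B where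
  carrier := {b | ∃ p : A[X], p.Monic ∧ aeval x p = b}
  one_mem' := ⟨1, monic_one, by simp⟩
  mul_mem' := by
    rintro _ _ ⟨p, hp, rfl⟩ ⟨q, hq, rfl⟩
    exact ⟨p * q, hp.mul hq, by simp⟩

lemma forward (x : B) (hx : IsIntegral A x) (K : Type u) [Field K] (R : ValuationSubring K)
    (φ : B →+* K) (hφ : ∀ a : A, φ (algebraMap A B a) ∈ R) : φ x ∈ R := by
  obtain ⟨P, hP, hPx⟩ := hx
  let ψ : A →+* R := (φ.comp (algebraMap A B)).codRestrict R.toSubring hφ
  have hint : IsIntegral R (φ x) := by
    refine ⟨P.map ψ, hP.map ψ, ?_⟩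
    rw [eval₂_map]
    have : (algebraMap R K).comp ψ = φ.comp (algebraMap A B) := by
      ext a; rfl
    rw [this, ← hom_eval₂, hPx, map_zero]
  obtain ⟨y, hy⟩ := (IsIntegrallyClosed.isIntegral_iff (R := R) (K := K)).1 hint
  rw [← hy]
  exact y.2

lemma backward (x : B)
    (h : ∀ (K : Type u) [Field K] (R : ValuationSubring K) (φ : B →+* K),
      (∀ a : A, φ (algebraMap A B a) ∈ R) → φ x ∈ R) : IsIntegral A x := by
  by_contra hx
  have hdisj : Disjoint ((⊥ : Ideal B) : Set B) (monicValues (A := A) x) := by
    rw [Set.disjoint_left]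
    rintro b hb ⟨p, hp, hpx⟩
    have hb0 : b = 0 := hb
    exact hx ⟨p, hp, by rw [← aeval_def, hpx, hb0]⟩
  obtain ⟨𝔓, h𝔓, -, hd⟩ := Ideal.exists_le_prime_disjoint ⊥ (monicValues (A := A) x) hdisj
  let K := FractionRing (B ⧸ 𝔓)
  let φ : B →+* K := (algebraMap (B ⧸ 𝔓) K).comp (Ideal.Quotient.mk 𝔓)
  let ψ : A →+* K := φ.comp (algebraMap A B)
  have hmem : φ x ∈ (integralClosure (Subring.closure (Set.range ψ)) K).toSubring := by
    rw [← iInf_valuationSubring_superset, Subring.mem_iInf]
    rintro ⟨V, hV⟩
    exact h K V φ (fun a => hV ⟨a, rfl⟩)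
  have hint : IsIntegral (Subring.closure (Set.range ψ)) (φ x) := hmem
  obtain ⟨p, hp, hpx⟩ := hint
  have hTle : Subring.closure (Set.range ψ) ≤ ψ.range :=
    Subring.closure_le.2 (by rintro _ ⟨a, rfl⟩; exact ⟨a, rfl⟩)
  let ψ' : A →+* Subring.closure (Set.range ψ) :=
    ψ.codRestrict _ (fun a => Subring.subset_closure ⟨a, rfl⟩)
  have hψ' : Function.Surjective ψ' := by
    rintro ⟨t, ht⟩
    obtain ⟨a, ha⟩ := hTle ht
    exact ⟨a, Subtype.ext ha⟩
  obtain ⟨P, hPmap, -, hPmonic⟩ := lifts_and_degree_eq_and_monic
    ((mem_lifts p).2 (map_surjective ψ' hψ' p)) hp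
  have hcomp : (algebraMap (Subring.closure (Set.range ψ)) K).comp ψ' = φ.comp (algebraMap A B) := by
    ext a; rfl
  rw [← hPmap, eval₂_map, hcomp, ← hom_eval₂, ← aeval_def] at hpx
  have hker : aeval x P ∈ 𝔓 := by
    have hinj : Function.Injective (algebraMap (B ⧸ 𝔓) K) := IsFractionRing.injective _ _
    have : algebraMap (B ⧸ 𝔓) K (Ideal.Quotient.mk 𝔓 (aeval x P)) = 0 := hpx
    rw [map_eq_zero_iff _ hinj, Ideal.Quotient.eq_zero_iff_mem] at this
    exact this
  exact Set.disjoint_left.1 hd hker ⟨P, hPmonic, rfl⟩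

end helpers

/-- Let A → B be any homomorphism of commutative rings. An element x of B is integral over A if and only
if for every field K, every valuation subring R of K and every ring homomorphism φ : B → K which
sends the image of A into R, the element φ(x) lies in R. In other words the integral closure of A in
B is the intersection of the subrings R ×_K B taken over all commutative squares A → R ⊆ K ← B with
R a valuation ring of the field K. -/
theorem result {A B : Type u} [CommRing A]
    [CommRing B] [Algebra A B] (x : B) :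
    x ∈ integralClosure A B ↔
      ∀ (K : Type u) [Field K] (R : ValuationSubring K) (φ : B →+* K),
        (∀ a : A, φ (algebraMap A B a) ∈ R) → φ x ∈ R := by
  constructor
  · intro hx K _ R φ hφ
    exact forward x hx K R φ hφ
  · intro h
    exact backward x h

end Groth.Agent.S19333
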