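import Groth.Statements.S19334
import Groth.Agent.Lib.ValTest
import Groth.Agent.Lib.ValTestGeom

set_option autoImplicit false
universe u
open CategoryTheory CategoryTheory.Limits AlgebraicGeometry TopologicalSpace
open ModPair

namespace Groth.Agent.S19334

/-- Let (X, I) be a modulus pair, i.e. a scheme X with the quasi-coherent ideal sheaf I of an effective
Cartier divisor. Suppose that for every valuation ring R and every morphism p : Spec R ⟶ X along
which the divisor of I pulls back to an effective Cartier divisor on Spec R (so that p is a minimal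
morphism of modulus pairs for the pulled-back modulus), the pulled-back divisor is empty, I.comap p
= ⊤. Then the divisor of I is empty: I = ⊤. -/
theorem result {X : Scheme.{u}}
    (I : X.IdealSheafData) (hI : BlowUp.IsEffCartierIdeal I)
    (h : ∀ (R : Type u) [CommRing R] [IsDomain R] [ValuationRing R]
      (p : Spec (CommRingCat.of R) ⟶ X), BlowUp.IsEffCartierIdeal (I.comap p) → I.comap p = ⊤) :
    I = ⊤ := by
  rw [← Scheme.IdealSheafData.support_eq_bot_iff]
  by_contra hne
  obtain ⟨x, hx⟩ : ∃ x, x ∈ I.support := by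
    by_contra hno
    push Not at hno
    apply hne
    ext x
    simp [hno]
  obtain ⟨U, hxU, f, hf, hIf⟩ := hI x
  have hxf : x ∉ X.basicOpen f := by
    rw [Scheme.IdealSheafData.mem_support_iff_of_mem hxU, hIf, Scheme.mem_zeroLocus_iff] at hx
    exact hx f (Ideal.mem_span_singleton_self f)
  have hfp : f ∈ (U.2.primeIdealOf ⟨x, hxU⟩).asIdeal := by
    by_contra h'
    exact hxf ((Groth.Agent.Lib.ClosedImmStalk.mem_basicOpen_iff_notMem_primeIdealOf
      U.1 U.2 x hxU f).mpr h')
  obtain ⟨K, _, V, ψ, ha, hb, hc⟩ := Groth.Agent.Lib.ValTest.exists_valuationRing_test Γ(X, U.1)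
    (U.2.primeIdealOf ⟨x, hxU⟩).asIdeal f hf
  have hcart := Groth.Agent.Lib.ValTestGeom.isEffCartier_comap_testHom U ψ I f hIf hb
  have htop := h V (Groth.Agent.Lib.ValTestGeom.testHom U ψ) hcart
  have hmap := Groth.Agent.Lib.ValTestGeom.map_eq_top_of_comap_eq_top U ψ I htop
  rw [hIf, Ideal.map_span, Set.image_singleton, Ideal.span_singleton_eq_top] at hmap
  exact (ha f).mp hfp hmap

end Groth.Agent.S19334
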