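import Groth.Statements.S19335
import Groth.Agent.Lib.ValTest
import Groth.Agent.Lib.ValTestGeom

set_option autoImplicit false
universe u
open CategoryTheory CategoryTheory.Limits AlgebraicGeometry TopologicalSpace
open ModPair

namespace Groth.Agent.S19335

/-- Let X be a scheme and I, J quasi-coherent ideal sheaves of effective Cartier divisors D_I ≤ D_J on
X, i.e. J ≤ I. Suppose that for every valuation ring R and every morphism p : Spec R ⟶ X such that
I.comap p is the ideal sheaf of an effective Cartier divisor on Spec R (so p is a minimal morphism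
of modulus pairs for (X, I)) whose open complement consists of the generic point of Spec R only, the
two divisors agree after pull-back, I.comap p = J.comap p. Then I = J. -/
theorem result {X : Scheme.{u}} (I J : X.IdealSheafData)
    (hI : BlowUp.IsEffCartierIdeal I) (hJ : BlowUp.IsEffCartierIdeal J) (hJI : J ≤ I)
    (h : ∀ (R : Type u) [CommRing R] [IsDomain R] [ValuationRing R]
      (p : Spec (CommRingCat.of R) ⟶ X), BlowUp.IsEffCartierIdeal (I.comap p) →
        (∀ x : Spec (CommRingCat.of R),
          x ∈ (ModPair.interior (I.comap p) : Set (Spec (CommRingCat.of R))) ↔ x.asIdeal = ⊥) →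
        I.comap p = J.comap p) :
    I = J := by
  refine le_antisymm ?_ hJI
  have claim : ∀ x : X, ∃ W : X.affineOpens, x ∈ W.1 ∧ I.ideal W ≤ J.ideal W := by
    intro x
    obtain ⟨U, hxU, f, hf, hIf⟩ := hI x
    obtain ⟨K, _, V, ψ, ha, hb, hc⟩ := Groth.Agent.Lib.ValTest.exists_valuationRing_test Γ(X, U.1)
      (U.2.primeIdealOf ⟨x, hxU⟩).asIdeal f hf
    have hcart := Groth.Agent.Lib.ValTestGeom.isEffCartier_comap_testHom U ψ I f hIf hb
    have hint : ∀ z : Spec (CommRingCat.of V),
        z ∈ (ModPair.interior (I.comap (Groth.Agent.Lib.ValTestGeom.testHom U ψ)) :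
          Set (Spec (CommRingCat.of V))) ↔ z.asIdeal = ⊥ := by
      intro z
      rw [Groth.Agent.Lib.ValTestGeom.mem_interior_comap_testHom_iff U ψ I f hIf z]
      constructor
      · intro hz
        by_contra hne
        exact hz (hc z.asIdeal z.isPrime hne)
      · intro hz
        rw [hz]
        simpa using hb
    have heq := h V (Groth.Agent.Lib.ValTestGeom.testHom U ψ) hcart hint
    have hmap := Groth.Agent.Lib.ValTestGeom.map_eq_of_comap_eq U ψ I J heq
    obtain ⟨s, hs, hsf⟩ : ∃ s, s ∉ (U.2.primeIdealOf ⟨x, hxU⟩).asIdeal ∧ s * f ∈ J.ideal U := by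
      by_contra hno
      push Not at hno
      have hle : (J.ideal U).map ψ ≤ IsLocalRing.maximalIdeal V * Ideal.span {ψ f} := by
        rw [Ideal.map_le_iff_le_comap]
        intro j hj
        have hjI : j ∈ I.ideal U := hJI U hj
        rw [hIf] at hjI
        obtain ⟨c, rfl⟩ := Ideal.mem_span_singleton'.mp hjI
        have hc𝔭 : c ∈ (U.2.primeIdealOf ⟨x, hxU⟩).asIdeal := by
          by_contra hc'
          exact hno c hc' hj
        rw [Ideal.mem_comap, map_mul]
        exact Ideal.mul_mem_mul ((ha c).mp hc𝔭) (Ideal.mem_span_singleton_self _)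
      have hmem : ψ f ∈ (I.ideal U).map ψ := by
        rw [hIf]; exact Ideal.mem_map_of_mem _ (Ideal.mem_span_singleton_self f)
      rw [hmap] at hmem
      obtain ⟨m, hm, hmf⟩ := Ideal.mem_mul_span_singleton.mp (hle hmem)
      have h0 : (m - 1) * ψ f = 0 := by rw [sub_mul, hmf, one_mul, sub_self]
      rcases mul_eq_zero.mp h0 with h1 | h1
      · have h2 : m = 1 := sub_eq_zero.mp h1
        rw [h2] at hm
        exact hm isUnit_one
      · exact hb h1
    refine ⟨X.affineBasicOpen s, ?_, ?_⟩
    · exact (Groth.Agent.Lib.ClosedImmStalk.mem_basicOpen_iff_notMem_primeIdealOf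
        U.1 U.2 x hxU s).mpr hs
    · rw [← I.map_ideal_basicOpen U s, ← J.map_ideal_basicOpen U s, hIf, Ideal.map_span,
        Set.image_singleton]
      refine (Ideal.span_singleton_le_iff_mem _).mpr ?_
      have h1 := Ideal.mem_map_of_mem (X.presheaf.map (homOfLE (X.basicOpen_le s)).op).hom hsf
      rw [map_mul] at h1
      exact (Ideal.unit_mul_mem_iff_mem _ (RingedSpace.isUnit_res_basicOpen _ s)).mp h1
  choose W hxW hW using claim
  refine Scheme.IdealSheafData.le_of_iSup_eq_top W ?_ hW
  rw [eq_top_iff]
  intro x _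
  exact TopologicalSpace.Opens.mem_iSup.mpr ⟨x, hxW x⟩

end Groth.Agent.S19335
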