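import Groth.Statements.S19336
import Groth.Agent.Lib.IdealExtBlowUp68
import Groth.Agent.Lib.EffCartier68
import Groth.Agent.Lib.EffCartier96
import Groth.Agent.Lib.BlowUpGlue68

set_option autoImplicit false
universe u
open CategoryTheory CategoryTheory.Limits AlgebraicGeometry TopologicalSpace
open ModPair

namespace Groth.Agent.S19336

/-- Let (S, I) be a modulus pair, i.e. a scheme S with the quasi-coherent ideal sheaf I of an effective
Cartier divisor, with S quasi-compact and quasi-separated and with interior U, and let (V_i) be a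
covering of U by quasi-compact open subsets. Then there are a quasi-coherent ideal sheaf F of finite
type on S whose support is disjoint from U, a blow-up b : Y ⟶ S of S in F (an admissible blow-up)
such that I.comap b is again the ideal sheaf of an effective Cartier divisor, and a covering of Y by
quasi-compact open subsets W_j such that each W_j ∩ b⁻¹(U) is contained in b⁻¹(V_i) for some i: the
Zariski covering of the interior extends, after an admissible blow-up, to a Zariski covering of the
total space. -/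
theorem result {S : Scheme.{u}}
    [CompactSpace S] [QuasiSeparatedSpace S] (I : S.IdealSheafData)
    (hI : BlowUp.IsEffCartierIdeal I) {ι : Type u} (V : ι → S.Opens)
    (hVU : ∀ i, V i ≤ ModPair.interior I) (hVqc : ∀ i, IsCompact (V i : Set S))
    (hcov : ModPair.interior I ≤ ⨆ i, V i) :
    ∃ (F : S.IdealSheafData) (Y : Scheme.{u}) (b : Y ⟶ S) (κ : Type u) (W : κ → Y.Opens),
      BlowUp.IsAdmissibleFor (ModPair.interior I) F ∧ BlowUp.IsBlowUp b F ∧
        BlowUp.IsEffCartierIdeal (I.comap b) ∧ (∀ k, IsCompact (W k : Set Y)) ∧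
        (⨆ k, W k) = ⊤ ∧ ∀ k, ∃ i, W k ⊓ b ⁻¹ᵁ ModPair.interior I ≤ b ⁻¹ᵁ V i := by
  classical
  -- the interior is quasi-compact
  have hqcU : QuasiCompact (ModPair.interior I).ι :=
    Groth.Agent.Lib.EffCartier68.quasiCompact_interior_ι I hI
  have hUcs : CompactSpace (ModPair.interior I : Scheme.{u}) :=
    QuasiCompact.compactSpace_of_compactSpace (ModPair.interior I).ι
  have hUc : IsCompact ((ModPair.interior I : S.Opens) : Set S) :=
    isCompact_iff_compactSpace.mpr hUcs
  obtain ⟨s, hs⟩ := hUc.elim_finite_subcover (fun i => (V i : Set S)) (fun i => (V i).2)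
    (fun x hx => by
      have := hcov hx
      simpa using this)
  -- finite type ideals cutting out the complements of the `V i`
  choose 𝓙 h𝓙fg h𝓙supp using fun i =>
    Groth.Agent.Lib.IdealExt68.exists_finiteType_support_eq (V i) (hVqc i)
  set F : S.IdealSheafData := ⨆ i ∈ s, 𝓙 i with hF
  have hFideal : ∀ W : S.affineOpens, F.ideal W = ⨆ i ∈ s, (𝓙 i).ideal W := by
    intro W
    simp only [hF, Scheme.IdealSheafData.ideal_iSup, iSup_apply]
    refine iSup_congr fun i => ?_
    by_cases hi : i ∈ s
    · simp [hi]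
    · simp [hi]
  have hFfg : BlowUp.IsFiniteTypeIdeal F := by
    intro W
    rw [hFideal]
    exact Submodule.fg_biSup s _ (fun i _ => h𝓙fg i W)
  have hFsupp : (F.support : Set S) = ((ModPair.interior I : S.Opens) : Set S)ᶜ := by
    ext x
    simp only [hF, Scheme.IdealSheafData.support_iSup, Closeds.coe_iInf, Set.mem_iInter,
      SetLike.mem_coe, Set.mem_compl_iff]
    constructor
    · intro h hx
      have := hs hx
      simp only [Set.mem_iUnion] at this
      obtain ⟨i, hi, hxi⟩ := this
      have h2 : x ∈ ((𝓙 i).support : Set S) := h i hi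
      rw [h𝓙supp i] at h2
      exact h2 hxi
    · intro hx i _
      change x ∈ ((𝓙 i).support : Set S)
      rw [h𝓙supp i]
      exact fun hxi => hx (hVU i hxi)
  obtain ⟨Y, b, hb⟩ := Groth.Agent.Lib.BlowUpGlue68.exists_isBlowUp S F
  have hle : ∀ i ∈ s, (𝓙 i).comap b ≤ F.comap b := fun i hi =>
    Scheme.IdealSheafData.comap_mono _ (le_biSup 𝓙 hi)
  have hFcomap : F.comap b = ⨆ i ∈ s, (𝓙 i).comap b :=
    (Scheme.IdealSheafData.map_gc b).l_iSup₂
  refine ⟨F, Y, b, {N : Y.affineOpens // ∃ i ∈ s, ((𝓙 i).comap b).ideal N = (F.comap b).ideal N},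
    fun k => k.1.1, ⟨hFfg, ?_⟩, hb, ?_, fun k => k.1.2.isCompact, ?_, ?_⟩
  · rw [hFsupp]; exact disjoint_compl_left
  · -- `I.comap b` is effective Cartier
    have hEq : b ⁻¹ᵁ ModPair.interior I = ModPair.interior (F.comap b) := by
      ext y
      change b y ∈ ModPair.interior I ↔ y ∈ (((F.comap b).support : Set Y))ᶜ
      rw [Scheme.IdealSheafData.support_comap]
      change _ ↔ b y ∉ (F.support : Set S)
      rw [hFsupp]
      simp
    have : IsSchemeTheoreticallyDominant (b ⁻¹ᵁ ModPair.interior I).ι := by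
      rw [hEq]
      exact Groth.Agent.Lib.EffCartier96.isSchemeTheoreticallyDominant_interior_ι _ hb.1
    exact Groth.Agent.Lib.EffCartier68.isEffCartierIdeal_comap_of_dominant I hI b
  · -- covering
    rw [eq_top_iff]
    intro y _
    obtain ⟨U', hyU', t, ht, hEt⟩ := hb.1 y
    have htmem : t ∈ ⨆ i ∈ s, ((𝓙 i).comap b).ideal U' := by
      have h1 : (F.comap b).ideal U' = ⨆ i ∈ s, ((𝓙 i).comap b).ideal U' := by
        rw [hFcomap]
        simp only [Scheme.IdealSheafData.ideal_iSup, iSup_apply]
        refine iSup_congr fun i => ?_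
        by_cases hi : i ∈ s
        · simp [hi]
        · simp [hi]
      rw [← h1, hEt]
      exact Ideal.mem_span_singleton_self t
    obtain ⟨μ, hμ⟩ := (Submodule.mem_iSup_finset_iff_exists_sum _ _).1 htmem
    have hβ : ∀ i, ∃ β : Γ(Y, U'.1), (i ∈ s → (μ i : Γ(Y, U'.1)) = β * t) := by
      intro i
      by_cases hi : i ∈ s
      · have h2 : (μ i : Γ(Y, U'.1)) ∈ Ideal.span {t} := hEt ▸ hle i hi U' (μ i).2
        obtain ⟨β, hβ⟩ := Ideal.mem_span_singleton'.1 h2
        exact ⟨β, fun _ => hβ.symm⟩
      · exact ⟨0, fun h => (hi h).elim⟩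
    choose β hβ using hβ
    have hsum : ∑ i ∈ s, β i = 1 := by
      have h3 : (∑ i ∈ s, β i) * t = 1 * t := by
        rw [Finset.sum_mul, one_mul]
        exact (Finset.sum_congr rfl fun i hi => (hβ i hi).symm).trans hμ
      have h4 : ((∑ i ∈ s, β i) - 1) * t = 0 := by rw [sub_mul, h3, sub_self]
      have h5 := (mem_nonZeroDivisors_iff_right.mp ht) _ h4
      exact sub_eq_zero.mp h5
    -- some `β i` does not vanish at `y`
    obtain ⟨i, hi, hyi⟩ : ∃ i ∈ s, y ∈ Y.basicOpen (β i) := by
      by_contra hcon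
      push Not at hcon
      have h6 : ∑ i ∈ s, β i ∈ Groth.Agent.Lib.BlowUpSeparate68.P U' y hyU' :=
        Ideal.sum_mem _ fun i hi => by
          by_contra h7
          exact hcon i hi ((Groth.Agent.Lib.BlowUpSeparate68.mem_basicOpen_iff U' y hyU' _).2 h7)
      rw [hsum] at h6
      exact (Groth.Agent.Lib.BlowUpSeparate68.P U' y hyU').ne_top_iff_one.1
        (IsAffineOpen.primeIdealOf U'.2 ⟨y, hyU'⟩).isPrime.ne_top h6
    refine Opens.mem_iSup.2 ⟨⟨Y.affineBasicOpen (β i), i, hi, ?_⟩, hyi⟩
    apply le_antisymm (hle i hi _)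
    intro x hx
    rw [← (F.comap b).map_ideal_basicOpen U' (β i), hEt, Ideal.map_span,
      Set.image_singleton] at hx
    obtain ⟨c, rfl⟩ := Ideal.mem_span_singleton'.1 hx
    apply Ideal.mul_mem_left
    have h8 : (Y.presheaf.map (homOfLE (Y.basicOpen_le (β i))).op).hom (μ i) ∈
        ((𝓙 i).comap b).ideal (Y.affineBasicOpen (β i)) := by
      rw [← ((𝓙 i).comap b).map_ideal_basicOpen U' (β i)]
      exact Ideal.mem_map_of_mem _ (μ i).2
    rw [hβ i hi, map_mul] at h8
    have hunit : IsUnit ((Y.presheaf.map (homOfLE (Y.basicOpen_le (β i))).op).hom (β i)) :=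
      RingedSpace.isUnit_res_basicOpen Y.toRingedSpace (β i)
    exact (Ideal.unit_mul_mem_iff_mem _ hunit).1 h8
  · rintro ⟨N, i, hi, hN⟩
    refine ⟨i, ?_⟩
    rintro y ⟨hyN, hyU⟩
    change b y ∈ V i
    by_contra hyV
    have h1 : y ∈ ((𝓙 i).comap b).support := by
      rw [Scheme.IdealSheafData.support_comap]
      change b y ∈ ((𝓙 i).support : Set S)
      rw [h𝓙supp i]
      exact hyV
    rw [Scheme.IdealSheafData.mem_support_iff_of_mem (U := N) hyN, hN,
      ← Scheme.IdealSheafData.mem_support_iff_of_mem (U := N) hyN,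
      Scheme.IdealSheafData.support_comap] at h1
    have h2 : b y ∈ (F.support : Set S) := h1
    rw [hFsupp] at h2
    exact h2 hyU

end Groth.Agent.S19336
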