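import Groth.Statements.S19338
-- import your own Groth.Agent.* helpers here

set_option autoImplicit false
universe w v u
open CategoryTheory
open ModPair

namespace Groth.Agent.S19338

/-- Let C be a category and S a class of morphisms which contains the identities, is closed under
composition, admits a right calculus of fractions, and consists of monomorphisms. Then the sieves
containing a morphism of S are the covering sieves of a Grothendieck topology on C, and for every
such topology J a presheaf of types F on C is a J-sheaf if and only if it is S-local, i.e. F sends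
every morphism of S to a bijection. -/
theorem result {C : Type u} [Category.{v} C]
    (S : MorphismProperty C) [S.HasRightCalculusOfFractions]
    (hmono : ∀ ⦃X Y : C⦄ (s : X ⟶ Y), S s → Mono s) :
    (∃ J : GrothendieckTopology C, ∀ (X : C) (T : Sieve X),
        T ∈ J X ↔ ∃ (Y : C) (s : Y ⟶ X), S s ∧ T s) ∧
      ∀ J : GrothendieckTopology C, (∀ (X : C) (T : Sieve X),
          T ∈ J X ↔ ∃ (Y : C) (s : Y ⟶ X), S s ∧ T s) →
        ∀ F : Cᵒᵖ ⥤ Type w,
          Presheaf.IsSheaf J F ↔ ∀ ⦃X Y : C⦄ (s : X ⟶ Y), S s → IsIso (F.map s.op) := by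
  have hfrac : ∀ ⦃X Y Z : C⦄ (f : Z ⟶ X) (s : Y ⟶ X), S s →
      ∃ (W : C) (s' : W ⟶ Z) (f' : W ⟶ Y), S s' ∧ s' ≫ f = f' ≫ s := by
    intro X Y Z f s hs
    obtain ⟨ψ, hψ⟩ := MorphismProperty.HasRightCalculusOfFractions.exists_rightFraction
      (W := S) ⟨f, s, hs⟩
    exact ⟨ψ.X', ψ.s, ψ.f, ψ.hs, hψ⟩
  constructor
  · refine ⟨{ sieves := fun X => {T | ∃ (Y : C) (s : Y ⟶ X), S s ∧ T s}
              top_mem' := ?_
              pullback_stable' := ?_
              transitive' := ?_ }, fun X T => Iff.rfl⟩
    · intro X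
      exact ⟨X, 𝟙 X, S.id_mem X, trivial⟩
    · rintro X Y' T f ⟨Y, s, hs, hTs⟩
      obtain ⟨W, s', f', hs', e⟩ := hfrac f s hs
      refine ⟨W, s', hs', ?_⟩
      show T (s' ≫ f)
      rw [e]
      exact T.downward_closed hTs f'
    · rintro X T ⟨Y, s, hs, hTs⟩ R hR
      obtain ⟨Z, t, ht, hRt⟩ := hR hTs
      exact ⟨Z, t ≫ s, S.comp_mem _ _ ht hs, hRt⟩
  · intro J hJ F
    rw [isSheaf_iff_isSheaf_of_type]
    constructor
    · intro hF X Y s hs
      have hcov : Sieve.generate (Presieve.singleton s) ∈ J Y :=
        (hJ _ _).mpr ⟨X, s, hs, Sieve.le_generate _ _ s (Presieve.singleton_self s)⟩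
      have hsh := hF _ hcov
      rw [← Presieve.isSheafFor_iff_generate, Presieve.isSheafFor_singleton] at hsh
      have := hmono s hs
      rw [isIso_iff_bijective]
      constructor
      · intro y1 y2 h
        obtain ⟨y, -, huniq⟩ := hsh (F.map s.op y1) (by
          intro Z p₁ p₂ hp
          rw [(cancel_mono s).mp hp])
        rw [huniq y1 rfl, huniq y2 h.symm]
      · intro x
        obtain ⟨y, hy, -⟩ := hsh x (by
          intro Z p₁ p₂ hp
          rw [(cancel_mono s).mp hp])
        exact ⟨y, hy⟩
    · intro hinv X T hT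
      obtain ⟨Y, s, hs, hTs⟩ := (hJ X T).mp hT
      have hbij : Function.Bijective (F.map s.op) := (isIso_iff_bijective _).mp (hinv s hs)
      intro x hx
      obtain ⟨y, hy⟩ := hbij.2 (x s hTs)
      refine ⟨y, ?_, ?_⟩
      · intro Z f hf
        obtain ⟨W, s', f', hs', e⟩ := hfrac f s hs
        have hinj : Function.Injective (F.map s'.op) :=
          ((isIso_iff_bijective _).mp (hinv s' hs')).1
        apply hinj
        have h1 : F.map s'.op (F.map f.op y) = F.map f'.op (F.map s.op y) := by
          rw [← Functor.map_comp_apply, ← Functor.map_comp_apply, ← op_comp,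
            ← op_comp, e]
        rw [h1, hy]
        exact hx f' s' hTs hf e.symm
      · intro y' hy'
        apply hbij.1
        rw [hy, hy' s hTs]

end Groth.Agent.S19338
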