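import Groth.Statements.S19340

set_option autoImplicit false
universe v v' u u'
open CategoryTheory
open ModPair

namespace Groth.Agent.S19340

/-- Let C be a category, S a class of morphisms of C containing the identities, closed under composition
and admitting a right calculus of fractions, and L : C ⥤ D a localization functor for S. Then for
every object X of C the comma category of L under X, whose objects are pairs (Y, L(X) ⟶ L(Y)) and
whose morphisms are morphisms Y ⟶ Y' of C compatible with the structure maps, is cofiltered. The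
published statement calls this category filtered; its proof verifies, and this row states,
cofilteredness. -/
theorem result {C : Type u}
    [Category.{v} C] {D : Type u'} [Category.{v'} D] (S : MorphismProperty C)
    [S.HasRightCalculusOfFractions] (L : C ⥤ D) [L.IsLocalization S] (X : C) :
    IsCofiltered (StructuredArrow (L.obj X) L) := by
  have hinv : S.IsInvertedBy L := Localization.inverts L S
  refine @IsCofiltered.mk _ _ ⟨?_, ?_⟩ ⟨StructuredArrow.mk (𝟙 (L.obj X))⟩
  · -- cones over two objects
    intro A₁ A₂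
    obtain ⟨φ₁, hφ₁⟩ := Localization.exists_rightFraction L S A₁.hom
    obtain ⟨φ₂, hφ₂⟩ := Localization.exists_rightFraction L S A₂.hom
    -- common denominator
    obtain ⟨ψ, hψ⟩ := MorphismProperty.HasRightCalculusOfFractions.exists_rightFraction
      (MorphismProperty.LeftFraction.mk (W := S) φ₁.s φ₂.s φ₂.hs)
    dsimp only at hψ
    have hs : S (ψ.s ≫ φ₁.s) := S.comp_mem _ _ ψ.hs φ₁.hs
    have : IsIso (L.map (ψ.s ≫ φ₁.s)) := hinv _ hs
    let B : StructuredArrow (L.obj X) L := StructuredArrow.mk (inv (L.map (ψ.s ≫ φ₁.s)))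
    refine ⟨B, StructuredArrow.homMk (ψ.s ≫ φ₁.f) ?_, StructuredArrow.homMk (ψ.f ≫ φ₂.f) ?_,
      trivial⟩
    · change inv (L.map (ψ.s ≫ φ₁.s)) ≫ L.map (ψ.s ≫ φ₁.f) = A₁.hom
      rw [IsIso.inv_comp_eq, hφ₁, L.map_comp, L.map_comp, Category.assoc,
        MorphismProperty.RightFraction.map_s_comp_map]
    · change inv (L.map (ψ.s ≫ φ₁.s)) ≫ L.map (ψ.f ≫ φ₂.f) = A₂.hom
      rw [IsIso.inv_comp_eq, hφ₂, hψ, L.map_comp, L.map_comp, Category.assoc,
        MorphismProperty.RightFraction.map_s_comp_map]
  · -- equalizing parallel maps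
    intro A₁ A₂ g g'
    obtain ⟨φ₁, hφ₁⟩ := Localization.exists_rightFraction L S A₁.hom
    have hg : A₁.hom ≫ L.map g.right = A₂.hom := StructuredArrow.w g
    have hg' : A₁.hom ≫ L.map g'.right = A₂.hom := StructuredArrow.w g'
    have : IsIso (L.map φ₁.s) := hinv _ φ₁.hs
    have heq : L.map (φ₁.f ≫ g.right) = L.map (φ₁.f ≫ g'.right) := by
      have h1 : L.map φ₁.f = L.map φ₁.s ≫ A₁.hom := by
        rw [hφ₁, MorphismProperty.RightFraction.map_s_comp_map]
      rw [L.map_comp, L.map_comp, h1, Category.assoc, Category.assoc, hg, hg']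
    obtain ⟨Z, t, ht, htt⟩ := (MorphismProperty.map_eq_iff_precomp L S _ _).mp heq
    have hs : S (t ≫ φ₁.s) := S.comp_mem _ _ ht φ₁.hs
    have : IsIso (L.map (t ≫ φ₁.s)) := hinv _ hs
    let B : StructuredArrow (L.obj X) L := StructuredArrow.mk (inv (L.map (t ≫ φ₁.s)))
    refine ⟨B, StructuredArrow.homMk (t ≫ φ₁.f) ?_, ?_⟩
    · change inv (L.map (t ≫ φ₁.s)) ≫ L.map (t ≫ φ₁.f) = A₁.hom
      rw [IsIso.inv_comp_eq, hφ₁, L.map_comp, L.map_comp, Category.assoc,
        MorphismProperty.RightFraction.map_s_comp_map]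
    · apply StructuredArrow.hom_ext
      change (t ≫ φ₁.f) ≫ g.right = (t ≫ φ₁.f) ≫ g'.right
      rw [Category.assoc, Category.assoc, htt]

end Groth.Agent.S19340
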