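import Groth.Statements.S19358
import Groth.Agent.Lib.FanCone

set_option autoImplicit false
universe u
open CategoryTheory Opposite Instab
open Instab Instab.Fan

namespace Groth.Agent.S19358

/-- Let f : F ⟶ G be a map of formal fans. If f is injective on n-cones for every n, then the induced
continuous map of projective realizations P F → P G is injective; if f is surjective on n-cones for
every n, then P F → P G is surjective. -/
theorem result {F G : Fan.{u}} (f : F ⟶ G) :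
    ((∀ n : ICone, Function.Injective (f.app (op n))) → Function.Injective (Fan.P.map f)) ∧
    ((∀ n : ICone, Function.Surjective (f.app (op n))) → Function.Surjective (Fan.P.map f)) := by
  constructor
  · intro hinj x y hxy
    obtain ⟨⟨⟨n₁, σ₁⟩, v₁⟩, rfl⟩ := Quot.exists_rep x
    obtain ⟨⟨⟨n₂, σ₂⟩, v₂⟩, rfl⟩ := Quot.exists_rep y
    have h1 : Fan.P.mk (f.app _ σ₁) v₁ = Fan.P.mk (f.app _ σ₂) v₂ := hxy
    obtain ⟨k, φ₁, φ₂, y, c₁, c₂, he, hc₁, hc₂, hv₁, hv₂⟩ :=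
      (Groth.Agent.Lib.FanCone.mk_eq_mk_iff _ _ v₁ v₂).1 h1
    have e1 : f.app _ (F.map φ₁.op σ₁) = G.map φ₁.op (f.app _ σ₁) :=
      NatTrans.naturality_apply f φ₁.op σ₁
    have e2 : f.app _ (F.map φ₂.op σ₂) = G.map φ₂.op (f.app _ σ₂) :=
      NatTrans.naturality_apply f φ₂.op σ₂
    have he' : F.map φ₁.op σ₁ = F.map φ₂.op σ₂ := hinj k (by rw [e1, e2, he])
    exact (Groth.Agent.Lib.FanCone.mk_eq_mk_iff σ₁ σ₂ v₁ v₂).2
      ⟨k, φ₁, φ₂, y, c₁, c₂, he', hc₁, hc₂, hv₁, hv₂⟩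
  · intro hsurj x
    obtain ⟨⟨⟨n, τ⟩, v⟩, rfl⟩ := Quot.exists_rep x
    obtain ⟨σ, rfl⟩ := hsurj n τ
    exact ⟨Fan.P.mk σ v, rfl⟩

end Groth.Agent.S19358
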