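import Groth.Statements.S1936
import Groth.Agent.S1342
import Groth.Agent.Lib.CMQF33h
import Groth.Agent.Lib.FibreStalkCM33
import Groth.Agent.Lib.GrpdPts
import Groth.Agent.Lib.GrpdBasic

set_option autoImplicit false
universe u
open CategoryTheory CategoryTheory.Limits AlgebraicGeometry
open Grpd

namespace Groth.Agent.S1936

/-- Let (U, R, s, t, c) be a groupoid scheme over S with s, t flat and locally of finite presentation.
There is an open U' ⊆ U such that t⁻¹(U') is exactly the set of points of R at which s is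
Cohen–Macaulay, s⁻¹(U') is exactly the set of points at which t is Cohen–Macaulay, and both t
restricted to s⁻¹(U') and s restricted to t⁻¹(U') are surjective onto U. (Part (5), that the
restriction of R to U' is a groupoid with Cohen–Macaulay s', t', then follows and is not restated.)
Cohen–Macaulay at a point: flat there with Cohen–Macaulay fibre local ring (Grpd.IsCMAt). (A
groupoid scheme carries U, R, s, t, c, e, i over S with the groupoid axioms on T-points; 'finite
locally free' is finite, flat and locally of finite presentation; C ⊂ Γ(U) is the ring of functions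
a with s♯(a) = t♯(a) and M = Spec C.) -/
theorem result (S : Scheme.{u}) (G : Grpd.GroupoidScheme S) [Flat G.s] [LocallyOfFinitePresentation G.s] [Flat G.t] [LocallyOfFinitePresentation G.t] : ∃ U' : G.U.Opens, (G.t ⁻¹ᵁ U' : Set G.R) = {r | Grpd.IsCMAt G.s r} ∧ (G.s ⁻¹ᵁ U' : Set G.R) = {r | Grpd.IsCMAt G.t r} ∧ ⇑G.t '' (G.s ⁻¹ᵁ U' : Set G.R) = Set.univ ∧ ⇑G.s '' (G.t ⁻¹ᵁ U' : Set G.R) = Set.univ := by
  classical
  have hiso : IsIso G.i := Groth.Agent.Lib.GrpdBasic.isIso_i G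
  -- translation between the two notions of Cohen–Macaulay at a point
  have hcm : ∀ {X Y : Scheme.{u}} (f : X ⟶ Y) (x : X), Grpd.IsCMAt f x ↔ MoreMor.IsCMAt f x :=
    fun f x => (Groth.Agent.Lib.FibreStalkCM33.isCMAt_iff f x).symm
  have hexists : ∀ {P X Y Z : Scheme.{u}} {fst : P ⟶ X} {snd : P ⟶ Y} {f : X ⟶ Z} {g : Y ⟶ Z}
      (_ : IsPullback fst snd f g) (x : X) (y : Y) (_ : f x = g y),
      ∃ p : P, fst p = x ∧ snd p = y := by
    intro P X Y Z fst snd f g h x y hxy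
    obtain ⟨z, hz1, hz2⟩ := Scheme.Pullback.exists_preimage_pullback x y hxy
    refine ⟨h.isoPullback.inv z, ?_, ?_⟩
    · rw [← Scheme.Hom.comp_apply, h.isoPullback_inv_fst, hz1]
    · rw [← Scheme.Hom.comp_apply, h.isoPullback_inv_snd, hz2]
  let W : Set G.R := {r | MoreMor.IsCMAt G.s r}
  have hW : IsOpen W := Groth.Agent.Lib.CMQF33.isOpen_CMLocus G.s
  let U' : G.U.Opens := ⟨G.t '' W, G.t.isOpenMap _ hW⟩
  -- the key invariance
  have hA := Groth.Agent.S1342.result G.s (pullback.snd G.s G.t) (pullback.fst G.s G.t) G.t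
    (IsPullback.of_hasPullback G.s G.t)
  have hC := Groth.Agent.S1342.result G.s (pullback.snd G.s G.t) G.c G.s
    (Groth.Agent.Lib.GrpdPts.isPullback_c_snd G)
  have hkey : ∀ p : ↑(pullback G.s G.t), pullback.fst G.s G.t p ∈ W ↔ G.c p ∈ W := by
    intro p
    have h1 : p ∈ (pullback.fst G.s G.t) ⁻¹' W ↔ p ∈ G.c ⁻¹' W := by rw [← hA, ← hC]
    exact h1
  have hinv : ∀ r r' : G.R, G.t r = G.t r' → r' ∈ W → r ∈ W := by
    intro r r' hrr' hr'
    obtain ⟨p, hp1, hp2⟩ := hexists (Groth.Agent.Lib.GrpdPts.isPullback_c_fst G) r r' hrr'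
    rw [← hp1, ← hkey p, hp2]
    exact hr'
  have h1 : (G.t ⁻¹ᵁ U' : Set G.R) = W := by
    ext r
    constructor
    · rintro ⟨r', hr', hrr'⟩
      exact hinv r r' hrr'.symm hr'
    · intro hr
      exact ⟨r, hr, rfl⟩
  have hts : ∀ r : G.R, G.t (G.i r) = G.s r := fun r => by
    rw [← Scheme.Hom.comp_apply, G.i_t]
  have hst : ∀ r : G.R, G.s (G.i r) = G.t r := fun r => by
    rw [← Scheme.Hom.comp_apply, G.i_s]
  have h2 : (G.s ⁻¹ᵁ U' : Set G.R) = {r | MoreMor.IsCMAt G.t r} := by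
    ext r
    have e1 : MoreMor.IsCMAt (G.i ≫ G.s) r ↔ MoreMor.IsCMAt G.s (G.i r) :=
      Groth.Agent.Lib.CMQF33.isCMAt_iff_of_comm (G.i ≫ G.s) G.s G.i (𝟙 _) (Category.comp_id _) r
    rw [G.i_s] at e1
    change G.s r ∈ U' ↔ MoreMor.IsCMAt G.t r
    rw [e1, ← hts r]
    change G.i r ∈ (G.t ⁻¹ᵁ U' : Set G.R) ↔ _
    rw [h1]
    rfl
  have hfib : ∀ u : G.U, ∃ r' : G.R, r' ∈ W ∧ G.s r' = u := by
    intro u
    have hd := Groth.Agent.Lib.CMQF33.dense_CMLocus_fiber G.s u
    have hne : Nonempty ↑(G.s.fiber u) := by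
      have : G.e u ∈ Set.range (G.s.fiberι u) := by
        rw [G.s.range_fiberι u]
        change G.s (G.e u) = u
        rw [← Scheme.Hom.comp_apply, G.e_s]
        rfl
      obtain ⟨z, -⟩ := this
      exact ⟨z⟩
    obtain ⟨z, hz⟩ := hd.nonempty
    refine ⟨G.s.fiberι u z, hz, ?_⟩
    have : G.s.fiberι u z ∈ Set.range (G.s.fiberι u) := ⟨z, rfl⟩
    rw [G.s.range_fiberι u] at this
    exact this
  refine ⟨U', ?_, ?_, ?_, ?_⟩
  · rw [h1]
    ext r
    exact (hcm G.s r).symm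
  · rw [h2]
    ext r
    exact (hcm G.t r).symm
  · rw [Set.eq_univ_iff_forall]
    intro u
    obtain ⟨r', hr'W, hr'u⟩ := hfib u
    refine ⟨G.i r', ?_, ?_⟩
    · change G.s (G.i r') ∈ U'
      rw [hst]
      exact ⟨r', hr'W, rfl⟩
    · rw [hts, hr'u]
  · rw [Set.eq_univ_iff_forall]
    intro u
    obtain ⟨r', hr'W, hr'u⟩ := hfib u
    exact ⟨r', ⟨r', hr'W, rfl⟩, hr'u⟩

end Groth.Agent.S1936
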