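import Groth.Statements.S19378
import Groth.Agent.Lib.H14NormalHom
import Groth.Agent.Lib.AdicNoeth
import Groth.Agent.Lib.ComplMap

set_option autoImplicit false
universe u
open EGA4

namespace Groth.Agent.S19378

/-- Let A be a Noetherian ring, J a proper ideal of A, Â the J-adic completion and A_T the localization
of A at T = 1 + J. If the canonical map A → Â is a normal homomorphism (flat with geometrically
normal fibres), then A_T is a normal ring (all local rings integrally closed domains) if and only if
Â is. (The case of the henselization of the pair and of the weak completion is not stated here.) -/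
theorem result
    (A : Type u) [CommRing A] [IsNoetherianRing A] (J : Ideal A) (hJ : J ≠ ⊤)
    (hf : EGA4.IsNormalHom A (AdicCompletion J A))
    (T : Submonoid A) (hT : T = MonoidHom.mker (Ideal.Quotient.mk J)) :
    EGA4.IsNormalRing (Localization T) ↔ EGA4.IsNormalRing (AdicCompletion J A) := by
  open Groth.Agent.Lib.H14NormalHom in
  subst hT
  haveI : IsNoetherianRing (AdicCompletion J A) :=
    Groth.Agent.Lib.AdicNoeth.isNoetherianRing_adicCompletion J
  haveI : Module.Flat A (AdicCompletion J A) := hf.1
  -- elements of `1 + J` become units in the completion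
  have hunit : ∀ t ∈ MonoidHom.mker (Ideal.Quotient.mk J),
      IsUnit (algebraMap A (AdicCompletion J A) t) := by
    intro t ht
    rw [Groth.Agent.Lib.ComplMap.isUnit_iff_isUnit_evalₐ_one, AlgHom.commutes]
    have h1 : (Ideal.Quotient.mk J) t = 1 := ht
    have h2 : t - 1 ∈ J ^ 1 := by
      rw [pow_one, ← Ideal.Quotient.eq_zero_iff_mem, map_sub, h1, map_one, sub_self]
    have h3 : algebraMap A (A ⧸ J ^ 1) t = 1 := by
      rw [← sub_eq_zero, ← map_one (algebraMap A (A ⧸ J ^ 1)), ← map_sub]
      exact Ideal.Quotient.eq_zero_iff_mem.mpr h2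
    rw [h3]
    exact isUnit_one
  -- primes of the completion contract to primes disjoint from `1 + J`
  have hdisj : ∀ (Q : Ideal (AdicCompletion J A)) [Q.IsPrime],
      Disjoint ((MonoidHom.mker (Ideal.Quotient.mk J) : Submonoid A) : Set A)
        ((Q.comap (algebraMap A (AdicCompletion J A)) : Ideal A) : Set A) := by
    intro Q hQ
    rw [Set.disjoint_left]
    intro t ht htQ
    exact hQ.ne_top (Ideal.eq_top_of_isUnit_mem _ htQ (hunit t ht))
  constructor
  · intro h Q _
    exact normal_atPrime_of_isNormalHom A (AdicCompletion J A) hf Q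
      (normal_atPrime_of_isNormalRing_localization _ h _ (hdisj Q))
  · intro h
    apply isNormalRing_localization_of_atPrime
    intro p _ hp
    -- find a prime of the completion over `p`
    have hpJ : p ⊔ J ≠ ⊤ := by
      intro htop
      have h1 : (1 : A) ∈ p ⊔ J := by rw [htop]; trivial
      obtain ⟨x, hx, j, hj, hxj⟩ := Submodule.mem_sup.mp h1
      have hxT : x ∈ MonoidHom.mker (Ideal.Quotient.mk J) := by
        show (Ideal.Quotient.mk J) x = 1
        have : x = 1 - j := by rw [← hxj]; ring
        rw [this, map_sub, map_one, Ideal.Quotient.eq_zero_iff_mem.mpr hj, sub_zero]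
      exact (Set.disjoint_left.mp hp) hxT hx
    obtain ⟨m, hm, hle⟩ := Ideal.exists_le_maximal _ hpJ
    have hJm : J ^ 1 ≤ m := by rw [pow_one]; exact le_sup_right.trans hle
    let φ : AdicCompletion J A →+* A ⧸ m :=
      (Ideal.Quotient.factor hJm).comp (AdicCompletion.evalₐ J 1).toRingHom
    have hφ : ∀ a : A, φ (algebraMap A (AdicCompletion J A) a) = Ideal.Quotient.mk m a := by
      intro a
      show (Ideal.Quotient.factor hJm) ((AdicCompletion.evalₐ J 1) (algebraMap A _ a)) = _
      rw [AlgHom.commutes]
      rfl
    haveI : (RingHom.ker φ).IsPrime := RingHom.ker_isPrime φ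
    haveI : (RingHom.ker φ).LiesOver m := by
      refine ⟨?_⟩
      ext a
      rw [Ideal.under, Ideal.mem_comap, RingHom.mem_ker, hφ, Ideal.Quotient.eq_zero_iff_mem]
    obtain ⟨Q, -, hQprime, hQp⟩ := Ideal.exists_ideal_le_liesOver_of_le (p := p) (q := m)
      (RingHom.ker φ) (le_sup_left.trans hle)
    have hQ := normal_descent_atPrime A (AdicCompletion J A) Q (h Q)
    have key : ∀ (p' : Ideal A) [p'.IsPrime], p' = p →
        (IsDomain (Localization.AtPrime p') ∧ IsIntegrallyClosed (Localization.AtPrime p')) →
        (IsDomain (Localization.AtPrime p) ∧ IsIntegrallyClosed (Localization.AtPrime p)) := by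
      intro p' _ hp' hh
      subst hp'
      exact hh
    exact key _ hQp.over.symm hQ

end Groth.Agent.S19378
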