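import Groth.Statements.S19375
import Groth.Agent.S19378
import Groth.Agent.Lib.H14NormalConn
import Groth.Agent.Lib.HenselQuot

set_option autoImplicit false
universe u
open EGA4

namespace Groth.Agent.S19375

/-- Let A be a Noetherian ring, J a proper ideal of A, Â the J-adic completion of A and A_T the
localization of A at the multiplicative set T = 1 + J (the elements congruent to 1 modulo J). Assume
that the canonical map A → Â is a normal homomorphism (flat, with geometrically normal fibres), as
happens when A is excellent. Then Â is an integrally closed domain if and only if A_T is an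
integrally closed domain and the spectrum of A/J is connected. (The published statement asserts the
equivalence of the first two conditions alone; for A = ℤ and J = 6ℤ the localization A_T is an
integrally closed domain while Â ≅ ℤ_2 × ℤ_3 is not a domain, and the published proof tacitly uses
that Spec Â, whose connected components correspond to those of Spec(A/J), is connected. The case of
the henselization of the pair and of the weak completion is not stated here.) -/
theorem result
    (A : Type u) [CommRing A] [IsNoetherianRing A] (J : Ideal A) (hJ : J ≠ ⊤)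
    (hf : EGA4.IsNormalHom A (AdicCompletion J A))
    (T : Submonoid A) (hT : T = MonoidHom.mker (Ideal.Quotient.mk J)) :
    (IsDomain (AdicCompletion J A) ∧ IsIntegrallyClosed (AdicCompletion J A)) ↔
      ((IsDomain (Localization T) ∧ IsIntegrallyClosed (Localization T)) ∧
        ConnectedSpace (PrimeSpectrum (A ⧸ J))) := by
  open Groth.Agent.Lib.H14NormalConn in
  have hS := Groth.Agent.S19378.result A J hJ hf T hT
  subst hT
  haveI : IsNoetherianRing (AdicCompletion J A) :=
    Groth.Agent.Lib.AdicNoeth.isNoetherianRing_adicCompletion J
  haveI hntq : Nontrivial (A ⧸ J) := Ideal.Quotient.nontrivial_iff.mpr hJ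
  set ψ : AdicCompletion J A →ₐ[A] A ⧸ J := AdicCompletion.evalOneₐ J with hψ
  have hψι : ∀ a : A, ψ (algebraMap A (AdicCompletion J A) a) = Ideal.Quotient.mk J a := by
    intro a
    rw [AlgHom.commutes]; rfl
  -- `ψ` reflects units
  have hψunit : ∀ x : AdicCompletion J A, IsUnit (ψ x) → IsUnit x := by
    intro x hx
    rw [Groth.Agent.Lib.ComplMap.isUnit_iff_isUnit_evalₐ_one]
    obtain ⟨z, hz⟩ := hx.exists_right_inv
    obtain ⟨z', rfl⟩ := AdicCompletion.evalOneₐ_surjective J z
    have h1 : ψ (x * z') = 1 := by rw [map_mul]; exact hz
    -- x * z' - 1 maps to zero mod J, hence mod J^1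
    have h2 : AdicCompletion.evalₐ J 1 (x * z') = 1 := by
      obtain ⟨a, ha⟩ := Ideal.Quotient.mk_surjective (AdicCompletion.evalₐ J 1 (x * z'))
      have h3 : ψ (x * z') = Ideal.Quotient.mk J a := by
        show Ideal.Quotient.factor (show J ^ 1 ≤ J by simp)
          (AdicCompletion.evalₐ J 1 (x * z')) = _
        rw [← ha]; rfl
      rw [h1] at h3
      have h4 : a - 1 ∈ J := by
        rw [← Ideal.Quotient.eq_zero_iff_mem, map_sub, ← h3, map_one, sub_self]
      have h5 : a - 1 ∈ J ^ 1 := by rwa [pow_one]
      rw [← ha, ← sub_eq_zero, ← map_one (Ideal.Quotient.mk (J ^ 1)), ← map_sub]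
      exact Ideal.Quotient.eq_zero_iff_mem.mpr h5
    rw [map_mul] at h2
    exact IsUnit.of_mul_eq_one _ h2
  constructor
  · rintro ⟨hd, hic⟩
    have hN : EGA4.IsNormalRing (AdicCompletion J A) := isNormalRing_of_isIntegrallyClosed _
    have hNT := hS.mpr hN
    -- elements of `1 + J` become units
    have hunit : ∀ t : (MonoidHom.mker (Ideal.Quotient.mk J) : Submonoid A),
        IsUnit (algebraMap A (AdicCompletion J A) (t : A)) := by
      intro t
      apply hψunit
      rw [hψι]
      have : (Ideal.Quotient.mk J) (t : A) = 1 := t.2
      rw [this]; exact isUnit_one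
    -- the kernel of `A → Â` dies in the localization
    have hker : ∀ a : A, algebraMap A (AdicCompletion J A) a = 0 →
        algebraMap A (Localization (MonoidHom.mker (Ideal.Quotient.mk J))) a = 0 := by
      intro a ha
      have hmem : a ∈ (⨅ i : ℕ, J ^ i • ⊤ : Submodule A A) := by
        rw [Submodule.mem_iInf]
        intro n
        have h1 : AdicCompletion.evalₐ J n (algebraMap A (AdicCompletion J A) a) = 0 := by
          rw [ha, map_zero]
        rw [AlgHom.commutes] at h1
        have h2 : a ∈ J ^ n := Ideal.Quotient.eq_zero_iff_mem.mp h1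
        simpa using h2
      obtain ⟨r, hr⟩ := (Ideal.mem_iInf_smul_pow_eq_bot_iff J a).mp hmem
      have hrT : (1 - (r : A)) ∈ MonoidHom.mker (Ideal.Quotient.mk J) := by
        show (Ideal.Quotient.mk J) (1 - (r : A)) = 1
        rw [map_sub, map_one, Ideal.Quotient.eq_zero_iff_mem.mpr r.2, sub_zero]
      rw [IsLocalization.map_eq_zero_iff (MonoidHom.mker (Ideal.Quotient.mk J))]
      refine ⟨⟨_, hrT⟩, ?_⟩
      have : (r : A) * a = a := hr
      show (1 - (r : A)) * a = 0
      rw [sub_mul, one_mul, this, sub_self]
    have hinj : Function.Injective (IsLocalization.lift (M := MonoidHom.mker (Ideal.Quotient.mk J))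
        (S := Localization (MonoidHom.mker (Ideal.Quotient.mk J))) hunit) := by
      rw [injective_iff_map_eq_zero]
      intro x hx
      obtain ⟨a, t, rfl⟩ := IsLocalization.exists_mk'_eq (MonoidHom.mker (Ideal.Quotient.mk J)) x
      have h1 : algebraMap A (AdicCompletion J A) a = 0 := by
        have hspec := IsLocalization.mk'_spec
          (Localization (MonoidHom.mker (Ideal.Quotient.mk J))) a t
        have := congrArg (IsLocalization.lift (M := MonoidHom.mker (Ideal.Quotient.mk J))
          (S := Localization (MonoidHom.mker (Ideal.Quotient.mk J))) hunit) hspec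
        rw [map_mul, IsLocalization.lift_eq, IsLocalization.lift_eq, hx, zero_mul] at this
        exact this.symm
      rw [IsLocalization.mk'_eq_zero_iff]
      have h2 := hker a h1
      rw [IsLocalization.map_eq_zero_iff (MonoidHom.mker (Ideal.Quotient.mk J))] at h2
      exact h2
    haveI hdT : IsDomain (Localization (MonoidHom.mker (Ideal.Quotient.mk J))) :=
      hinj.isDomain _
    refine ⟨⟨hdT, IsIntegrallyClosed.of_localization_maximal (fun p _ hp => (hNT p).2)⟩, ?_⟩
    -- connectedness of Spec (A/J) by lifting idempotents
    rw [connectedSpace_iff_idem]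
    refine ⟨hntq, ?_⟩
    intro eb heb
    obtain ⟨a, rfl⟩ := Ideal.Quotient.mk_surjective eb
    haveI : IsAdicComplete (J.map (algebraMap A (AdicCompletion J A))) (AdicCompletion J A) :=
      AdicCompletion.isAdicComplete_self J ((isNoetherianRing_iff_ideal_fg A).mp inferInstance J)
    have hψJ : ∀ y ∈ J.map (algebraMap A (AdicCompletion J A)), ψ y = 0 := by
      intro y hy
      have hle : J.map (algebraMap A (AdicCompletion J A)) ≤ RingHom.ker ψ.toRingHom := by
        rw [Ideal.map_le_iff_le_comap]
        intro j hj
        rw [Ideal.mem_comap, RingHom.mem_ker]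
        show ψ (algebraMap A (AdicCompletion J A) j) = 0
        rw [hψι]
        exact Ideal.Quotient.eq_zero_iff_mem.mpr hj
      exact hle hy
    have ha : a * a - a ∈ J := by
      rw [← Ideal.Quotient.eq_zero_iff_mem, map_sub, map_mul]
      rw [heb.eq, sub_self]
    set x := algebraMap A (AdicCompletion J A) a with hx
    have hxx : x * x - x ∈ J.map (algebraMap A (AdicCompletion J A)) := by
      rw [hx, ← map_mul, ← map_sub]
      exact Ideal.mem_map_of_mem _ ha
    obtain ⟨e', he', hex⟩ := Groth.Agent.Lib.HenselQuot.exists_idempotent_lift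
      (I := J.map (algebraMap A (AdicCompletion J A))) x hxx
    have h01 : e' = 0 ∨ e' = 1 := by
      have h : e' * (e' - 1) = 0 := by rw [mul_sub, mul_one, he'.eq, sub_self]
      rcases mul_eq_zero.mp h with h | h
      · exact Or.inl h
      · exact Or.inr (sub_eq_zero.mp h)
    have hψe : ψ e' = Ideal.Quotient.mk J a := by
      have := hψJ _ hex
      rw [map_sub, hx, hψι, sub_eq_zero] at this
      exact this
    rcases h01 with h | h
    · left; rw [← hψe, h, map_zero]
    · right; rw [← hψe, h, map_one]
  · rintro ⟨⟨hdT, hicT⟩, hconn⟩
    have hNT : EGA4.IsNormalRing (Localization (MonoidHom.mker (Ideal.Quotient.mk J))) :=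
      isNormalRing_of_isIntegrallyClosed _
    have hN := hS.mp hNT
    obtain ⟨-, hidemq⟩ := (connectedSpace_iff_idem _).mp hconn
    haveI : Nontrivial (AdicCompletion J A) := by
      refine ⟨⟨0, 1, fun h => ?_⟩⟩
      have := congrArg ψ h
      rw [map_zero, map_one] at this
      exact zero_ne_one this
    apply isDomain_and_isIntegrallyClosed_of_isNormalRing _ hN
    intro e he
    have hmul : e * (1 - e) = 0 := by rw [mul_sub, mul_one, he.eq, sub_self]
    rcases hidemq (ψ e) (he.map ψ) with h | h
    · left
      have hu : IsUnit (1 - e) := by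
        apply hψunit
        rw [map_sub, map_one, h, sub_zero]; exact isUnit_one
      exact hu.mul_left_eq_zero.mp hmul
    · right
      have hu : IsUnit e := by
        apply hψunit
        rw [h]; exact isUnit_one
      have := hu.mul_right_eq_zero.mp hmul
      exact (sub_eq_zero.mp this).symm

end Groth.Agent.S19375
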