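import Groth.Statements.S19379
-- import your own Groth.Agent.* helpers here
import Groth.Agent.Lib.FSFlat2
import Groth.Agent.Lib.JacobianSplitH44
import Groth.Agent.Lib.H14ComplFlat2
import Groth.Agent.Lib.AdicFSPow50
import Groth.Agent.Lib.H14AdicLocal

set_option autoImplicit false
set_option linter.style.haveILetI false
universe u
open CAlg

namespace Groth.Agent.S19379

open IsLocalRing TensorProduct

/-- flatness of a formally smooth Noetherian algebra over a Noetherian ring -/
theorem flat_of_formallySmooth (A B : Type u) [CommRing A] [CommRing B] [Algebra A B]
    [IsNoetherianRing A] [IsNoetherianRing B] [Algebra.FormallySmooth A B] : Module.Flat A B := by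
  refine Module.flat_of_isLocalized_maximal B B (fun P _ => Localization.AtPrime P)
    (fun P _ => Algebra.linearMap B (Localization.AtPrime P)) (fun q _ => ?_)
  letI := (Localization.localRingHom (Ideal.comap (algebraMap A B) q) q (algebraMap A B) rfl).toAlgebra
  haveI := Groth.Agent.Lib.H14AdicLocal.isLocalHom_localRingHom A B q
  haveI := Groth.Agent.Lib.H14AdicLocal.isScalarTower_localRingHom A B q
  haveI : Algebra.FormallySmooth A (Localization.AtPrime q) := inferInstance
  haveI : Algebra.FormallySmooth (Localization.AtPrime (Ideal.comap (algebraMap A B) q))
      (Localization.AtPrime q) :=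
    Algebra.FormallySmooth.localization_base (Ideal.comap (algebraMap A B) q).primeCompl
  have h1 : CAlgX.IsAdicFormallySmooth (Localization.AtPrime (Ideal.comap (algebraMap A B) q))
      (Localization.AtPrime q) (maximalIdeal (Localization.AtPrime q)) :=
    Groth.Agent.Lib.AdicFSPow50.isAdicFormallySmooth_of_formallySmooth _
  haveI : Module.Flat (Localization.AtPrime (Ideal.comap (algebraMap A B) q))
      (Localization.AtPrime q) := Groth.Agent.Lib.FSFlat.flat_of_isAdicFormallySmooth h1
  exact Module.Flat.trans A (Localization.AtPrime (Ideal.comap (algebraMap A B) q))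
    (Localization.AtPrime q)

/-- Let A and B be Noetherian rings and let B be an A-algebra which is formally smooth for the discrete
topologies. Then A → B is a regular homomorphism, that is, flat with (Noetherian) geometrically
regular fibres. -/
theorem result
    (A B : Type u) [CommRing A] [CommRing B] [Algebra A B]
    [IsNoetherianRing A] [IsNoetherianRing B] [Algebra.FormallySmooth A B] :
    CAlg.IsRegularHom A B := by
  refine ⟨flat_of_formallySmooth A B, fun p _ => ?_⟩
  haveI : IsNoetherianRing (p.Fiber B) := Groth.Agent.Lib.H14ComplFlat.isNoetherianRing_fiber A B p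
  refine ⟨inferInstance, ?_⟩
  haveI : Algebra.FormallySmooth p.ResidueField (p.Fiber B) := inferInstance
  exact Groth.Agent.Lib.JacobianSplitH44.isGeometricallyRegular_of_formallySmooth _ _

end Groth.Agent.S19379
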