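import Groth.Statements.S19380

set_option autoImplicit false
universe u
open CAlg

namespace Groth.Agent.S19380

open Polynomial Matrix in
theorem charpolyRev_map' {R S : Type*} [CommRing R] [CommRing S] {n : Type*} [DecidableEq n]
    [Fintype n] (f : R →+* S) (M : Matrix n n R) :
    (M.map f).charpolyRev = M.charpolyRev.map f := by
  unfold Matrix.charpolyRev
  rw [← Polynomial.coe_mapRingHom, RingHom.map_det]
  congr 1
  ext i j : 1
  simp only [RingHom.mapMatrix_apply, Matrix.map_apply, Matrix.sub_apply, Matrix.smul_apply,
    Matrix.one_apply, smul_eq_mul, map_sub, map_mul, Polynomial.coe_mapRingHom, Polynomial.map_X,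
    Polynomial.map_C]
  split_ifs <;> simp

open Polynomial Matrix in
theorem charpolyRev_mul_comm' {R : Type*} [CommRing R] {n : Type*} [DecidableEq n] [Fintype n]
    (A B : Matrix n n R) : (A * B).charpolyRev = (B * A).charpolyRev := by
  unfold Matrix.charpolyRev
  rw [Matrix.map_mul, Matrix.map_mul, ← Matrix.smul_mul, Matrix.det_one_sub_mul_comm,
    Matrix.mul_smul]

/-- Let L be a commutative ring, σ a ring automorphism of L of finite order dividing d (σ^d = 1), and C
an r × r matrix over L. The reverse characteristic polynomial det(1 − T·N) of the twisted product N
= C·σ(C)·σ²(C)⋯σ^(d−1)(C), with σ applied to the entries, is fixed by σ acting on coefficients. (In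
the source this is phrased for the fibre at a closed point x of degree d of a convergent F-module
with Frobenius matrix C: the d-th iterate of the semilinear Frobenius of the fibre is the linear map
with matrix N, so its characteristic polynomial has coefficients in the subfield fixed by the
Frobenius of K(x), namely K, and likewise with the valuation ring in place of K for an integral
F-module; only this linear-algebra statement, over any commutative ring, is given here.) -/
theorem result
    (L : Type u) [CommRing L] (σ : L ≃+* L) (d : ℕ) (hσ : σ ^ d = 1)
    (r : ℕ) (C : Matrix (Fin r) (Fin r) L) :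
    (Matrix.charpolyRev (((List.range d).map fun i => C.map ⇑(σ ^ i)).prod)).map (σ : L →+* L) =
      Matrix.charpolyRev (((List.range d).map fun i => C.map ⇑(σ ^ i)).prod) := by
  set f : ℕ → Matrix (Fin r) (Fin r) L := fun i => C.map ⇑(σ ^ i) with hf
  have hfs : ∀ i, (f i).map (σ : L →+* L) = f (i + 1) := by
    intro i
    ext a b
    simp only [hf, Matrix.map_apply, pow_succ']
    rfl
  have hmap : ∀ l : List ℕ, ((l.map f).prod).map (σ : L →+* L) = (l.map (fun i => f (i + 1))).prod := by
    intro l
    have := map_list_prod (σ : L →+* L).mapMatrix (l.map f)
    rw [RingHom.mapMatrix_apply] at this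
    rw [this, List.map_map]
    congr 1
    apply List.map_congr_left
    intro i _
    simp only [Function.comp, RingHom.mapMatrix_apply]
    exact hfs i
  rw [← charpolyRev_map']
  cases d with
  | zero => simp
  | succ d' =>
    rw [hmap, List.range_succ, List.map_append, List.prod_append]
    have h1 : ((List.range (d' + 1)).map f).prod = f 0 * ((List.range d').map (fun i => f (i + 1))).prod := by
      rw [List.range_succ_eq_map, List.map_cons, List.prod_cons, List.map_map]
      rfl
    rw [List.range_succ] at h1
    rw [h1]
    have h2 : f (d' + 1) = f 0 := by
      simp only [hf, hσ, pow_zero]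
    simp only [List.map_cons, List.map_nil, List.prod_cons, List.prod_nil, mul_one]
    rw [h2]
    exact charpolyRev_mul_comm' _ _

end Groth.Agent.S19380
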