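import Groth.Statements.S19382
import Mathlib
import Groth.Agent.S19381
import Groth.Agent.Lib.SmoothFibreRelSch

set_option autoImplicit false
universe u
open CategoryTheory CategoryTheory.Limits AlgebraicGeometry
open FlatMor

namespace Groth.Agent.S19382

section helpers
open Groth.Agent.S19381

theorem fromSpecResidueField_appTop_eq_zero (R : CommRingCat.{u}) (x : Spec R) (v : R)
    (hv : v ∈ x.asIdeal) :
    ((Spec R).fromSpecResidueField x).appTop.hom ((Scheme.ΓSpecIso R).inv.hom v) = 0 := by
  rw [← Scheme.Spec.map_residueFieldIso_inv_eq_fromSpecResidueField, ← Spec.map_comp]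
  have h1 := congr($(Scheme.ΓSpecIso_inv_naturality
    (CommRingCat.ofHom (algebraMap R x.asIdeal.ResidueField) ≫
      (Scheme.Spec.residueFieldIso R x).inv)) v)
  simp only [CommRingCat.hom_comp, RingHom.coe_comp, Function.comp_apply,
    CommRingCat.hom_ofHom] at h1
  change _ = ((Spec.map (CommRingCat.ofHom (algebraMap R x.asIdeal.ResidueField) ≫
      (Scheme.Spec.residueFieldIso R x).inv)).appTop.hom ((Scheme.ΓSpecIso R).inv.hom v)) at h1
  rw [← h1, Ideal.algebraMap_residueField_eq_zero.mpr hv, map_zero, map_zero]

/-- The fibre of `Spec A → Spec V` over the closed point maps to `Spec (A/𝔪A)`. -/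
theorem exists_fiberι_factor (V : Type u) [CommRing V] [IsLocalRing V]
    (A : Type u) [CommRing A] [Algebra V A] (s : Spec (.of V))
    (hs : s.asIdeal = IsLocalRing.maximalIdeal V) :
    ∃ t : (Spec.map (CommRingCat.ofHom (algebraMap V A))).fiber s ⟶
        Spec (.of (A ⧸ (IsLocalRing.maximalIdeal V).map (algebraMap V A))),
      t ≫ qI ((IsLocalRing.maximalIdeal V).map (algebraMap V A)) =
        (Spec.map (CommRingCat.ofHom (algebraMap V A))).fiberι s := by
  set I := (IsLocalRing.maximalIdeal V).map (algebraMap V A) with hI
  set σ := Spec.map (CommRingCat.ofHom (algebraMap V A)) with hσ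
  have hci : IsClosedImmersion (qI I) :=
    IsClosedImmersion.spec_of_surjective _ Ideal.Quotient.mk_surjective
  have hker : RingHom.ker (qI I).appTop.hom ≤ RingHom.ker (σ.fiberι s).appTop.hom := by
    intro a' ha'
    obtain ⟨a, rfl⟩ : ∃ a, (Scheme.ΓSpecIso (.of A)).inv.hom a = a' :=
      ⟨(Scheme.ΓSpecIso (.of A)).hom.hom a', by simp⟩
    have h1 := congr($(Scheme.ΓSpecIso_inv_naturality
      (CommRingCat.ofHom (Ideal.Quotient.mk I))) a)
    simp only [CommRingCat.hom_comp, RingHom.coe_comp, Function.comp_apply,
      CommRingCat.hom_ofHom] at h1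
    rw [RingHom.mem_ker] at ha'
    change _ = (qI I).appTop.hom ((Scheme.ΓSpecIso (.of A)).inv.hom a) at h1
    rw [ha'] at h1
    have h2 : Ideal.Quotient.mk I a = 0 := by
      have := congr((Scheme.ΓSpecIso (.of (A ⧸ I))).hom.hom $h1)
      simpa using this
    have haI : a ∈ I := Ideal.Quotient.eq_zero_iff_mem.mp h2
    have hle : I ≤ (RingHom.ker (σ.fiberι s).appTop.hom).comap (Scheme.ΓSpecIso (.of A)).inv.hom := by
      rw [hI, Ideal.map_le_iff_le_comap]
      intro v hv
      rw [Ideal.mem_comap, Ideal.mem_comap, RingHom.mem_ker]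
      have e1 := congr($(Scheme.ΓSpecIso_inv_naturality
        (CommRingCat.ofHom (algebraMap V A))) v)
      simp only [CommRingCat.hom_comp, RingHom.coe_comp, Function.comp_apply,
        CommRingCat.hom_ofHom] at e1
      change _ = σ.appTop.hom ((Scheme.ΓSpecIso (.of V)).inv.hom v) at e1
      rw [e1]
      have e2 : σ.appTop ≫ (σ.fiberι s).appTop =
          ((Spec (.of V)).fromSpecResidueField s).appTop ≫ (σ.fiberToSpecResidueField s).appTop := by
        rw [← Scheme.Hom.comp_appTop, ← Scheme.Hom.comp_appTop]
        congr 1
        exact pullback.condition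
      have e3 := congr($e2 ((Scheme.ΓSpecIso (.of V)).inv.hom v))
      simp only [CommRingCat.hom_comp, RingHom.coe_comp, Function.comp_apply] at e3
      rw [e3, fromSpecResidueField_appTop_eq_zero (.of V) s v (by rw [hs]; exact hv), map_zero]
    exact hle haI
  have H : (qI I).ker ≤ (σ.fiberι s).ker := by
    rw [Scheme.ker_of_isAffine, Scheme.ker_of_isAffine]
    apply Scheme.IdealSheafData.le_of_isAffine
    simp only [Scheme.IdealSheafData.ofIdealTop_ideal]
    exact Ideal.map_mono hker
  exact ⟨IsClosedImmersion.lift (qI I) (σ.fiberι s) H, IsClosedImmersion.lift_fac _ _ H⟩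

end helpers

/-- Over a discrete valuation ring, let V be a henselian discrete valuation ring with maximal ideal 𝔪, A
a smooth V-algebra, Â the 𝔪A-adic completion of A, and h : X → Spec A a proper morphism with
reduction h₀ over Spec(A/𝔪A). Then X is flat over V and h₀ is smooth if and only if the base change
of h to Spec Â is smooth. (As for the flat case, the published statement concerns an excellent
normal base ring with a henselian pair and the projective lift built from lifted equations, together
with the weak completion and the henselization; it is given here over a discrete valuation ring and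
for an arbitrary proper h.) -/
theorem result
    (V : Type u) [CommRing V] [IsDomain V] [IsDiscreteValuationRing V] [HenselianLocalRing V]
    (A : Type u) [CommRing A] [Algebra V A] [Algebra.Smooth V A]
    (X : Scheme.{u}) (h : X ⟶ Spec (.of A)) [IsProper h] :
    (Flat (h ≫ Spec.map (CommRingCat.ofHom (algebraMap V A))) ∧
        Smooth (pullback.snd h (Spec.map (CommRingCat.ofHom
          (Ideal.Quotient.mk ((IsLocalRing.maximalIdeal V).map (algebraMap V A))))))) ↔
      Smooth (pullback.snd h (Spec.map (CommRingCat.ofHom
          (algebraMap A (AdicCompletion ((IsLocalRing.maximalIdeal V).map (algebraMap V A)) A))))) := by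
  have hflA : Module.Flat V A := Algebra.Smooth.flat V A
  have hnA : IsNoetherianRing A := Algebra.FiniteType.isNoetherianRing V A
  have hI : ((IsLocalRing.maximalIdeal V).map (algebraMap V A)).FG := IsNoetherian.noetherian _
  have hlfp : LocallyOfFinitePresentation h := inferInstance
  have hσfp : LocallyOfFinitePresentation (Spec.map (CommRingCat.ofHom (algebraMap V A))) := by
    rw [HasRingHomProperty.Spec_iff (P := @LocallyOfFinitePresentation)]
    exact RingHom.finitePresentation_algebraMap.mpr inferInstance
  constructor
  · rintro ⟨hfl, hsm0⟩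
    have hU : ∀ x : X, (IsLocalRing.maximalIdeal V).map (algebraMap V A) ≤ (h x).asIdeal →
        x ∈ h.smoothLocus := by
      intro x hx
      rw [Scheme.Hom.mem_smoothLocus]
      have hs : ((Spec.map (CommRingCat.ofHom (algebraMap V A))) (h x)).asIdeal =
          IsLocalRing.maximalIdeal V := by
        have hle : IsLocalRing.maximalIdeal V ≤
            ((Spec.map (CommRingCat.ofHom (algebraMap V A))) (h x)).asIdeal := by
          rw [Ideal.map_le_iff_le_comap] at hx
          exact hx
        exact ((IsLocalRing.maximalIdeal.isMaximal V).eq_of_le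
          (PrimeSpectrum.isPrime _).ne_top hle).symm
      obtain ⟨t, ht⟩ := exists_fiberι_factor V A _ hs
      have H : Smooth (pullback.snd h ((Spec.map (CommRingCat.ofHom (algebraMap V A))).fiberι
          ((Spec.map (CommRingCat.ofHom (algebraMap V A))) (h x)))) :=
        Groth.Agent.S19381.pullback_snd_of_comp @Smooth h (Groth.Agent.S19381.qI _) t _ ht hsm0
      exact Groth.Agent.Lib.SmoothFibreRelSch.formallySmooth_stalkMap_of_smooth_fibre
        (Spec.map (CommRingCat.ofHom (algebraMap V A))) h x
        (Flat.stalkMap (h ≫ Spec.map (CommRingCat.ofHom (algebraMap V A))) x) H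
    have hP : Smooth (h.smoothLocus.ι ≫ h) := by
      rw [← Scheme.Hom.smoothLocus_eq_top_iff, ← Scheme.Hom.preimage_smoothLocus_eq]
      simp
    exact Groth.Agent.S19381.pullback_snd_of_open _ @Smooth h hI h.smoothLocus hU hP
  · intro hsm
    have hfl : Flat (pullback.snd h (Groth.Agent.S19381.pHat
        ((IsLocalRing.maximalIdeal V).map (algebraMap V A)))) := inferInstance
    exact ⟨Groth.Agent.S19381.flat_comp_of_flat_pullback V A h hfl,
      Groth.Agent.S19381.pullback_snd_of_comp @Smooth h (Groth.Agent.S19381.pHat _)
        (Groth.Agent.S19381.rI _) (Groth.Agent.S19381.qI _) (Groth.Agent.S19381.rI_pHat _) hsm⟩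

end Groth.Agent.S19382
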