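import Groth.Statements.S19383
import Mathlib.RingTheory.Flat.TorsionFree
import Mathlib.RingTheory.AdicCompletion.AsTensorProduct
import Mathlib.RingTheory.Filtration

set_option autoImplicit false
universe u
open CAlg

namespace Groth.Agent.S19383

/-- Over a discrete valuation ring, let V be a henselian discrete valuation ring with maximal ideal 𝔪
and B a Noetherian V-algebra, B̂ its 𝔪B-adic completion. Then B is flat over V if and only if B̂ is
flat over V. (The published lemma takes V an excellent normal ring with an ideal I such that (V,
V/I) is a henselian pair and B of finite type; in that generality it fails: for V = ℤ_p[[x]], I =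
(p) and B = V[y]/(x, py − 1) ≅ ℚ_p one has IB = B, so B̂ = 0 is flat while B is not flat over V.
Over a discrete valuation ring flatness is torsion-freeness and the statement holds for every
Noetherian B.) -/
theorem result
    (V : Type u) [CommRing V] [IsDomain V] [IsDiscreteValuationRing V] [HenselianLocalRing V]
    (B : Type u) [CommRing B] [Algebra V B] [IsNoetherianRing B] :
    Module.Flat V B ↔
      Module.Flat V (AdicCompletion ((IsLocalRing.maximalIdeal V).map (algebraMap V B)) B) := by
  set I : Ideal B := (IsLocalRing.maximalIdeal V).map (algebraMap V B) with hI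
  constructor
  · intro hflat
    exact Module.Flat.trans V B (AdicCompletion I B)
  · intro hflat
    rw [Module.Flat.flat_iff_torsion_eq_bot_of_isBezout] at hflat ⊢
    rw [eq_bot_iff]
    intro b hb
    rw [Submodule.mem_torsion_iff] at hb
    obtain ⟨a, hab⟩ := hb
    rw [Submodule.mem_bot]
    -- the image of b in the completion is torsion, hence zero
    have h1 : AdicCompletion.of I B b ∈ Submodule.torsion V (AdicCompletion I B) := by
      rw [Submodule.mem_torsion_iff]
      refine ⟨a, ?_⟩
      have : (a : V) • AdicCompletion.of I B b = AdicCompletion.of I B ((a : V) • b) := by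
        rw [← algebraMap_smul B (a : V) (AdicCompletion.of I B b), ← LinearMap.map_smul,
          algebraMap_smul]
      show (a : V) • AdicCompletion.of I B b = 0
      rw [this]
      have hab' : (a : V) • b = 0 := hab
      rw [hab', map_zero]
    rw [hflat, Submodule.mem_bot] at h1
    -- so b lies in all powers of I
    have h2 : b ∈ (⨅ n : ℕ, I ^ n • (⊤ : Submodule B B)) := by
      rw [Submodule.mem_iInf]
      intro n
      have := congrArg (fun x : AdicCompletion I B => x.1 n) h1
      simp only [AdicCompletion.of_apply, AdicCompletion.val_zero, Pi.zero_apply] at this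
      exact (Submodule.Quotient.mk_eq_zero _).mp this
    obtain ⟨⟨r, hrI⟩, hr⟩ := (Ideal.mem_iInf_smul_pow_eq_bot_iff I b).mp h2
    simp only at hr
    -- a = unit * ϖ ^ k
    obtain ⟨ϖ, hϖ⟩ := IsDiscreteValuationRing.exists_irreducible V
    have ha0 : (a : V) ≠ 0 := nonZeroDivisors.coe_ne_zero a
    obtain ⟨k, u, hu⟩ := IsDiscreteValuationRing.eq_unit_mul_pow_irreducible ha0 hϖ
    have hmax : IsLocalRing.maximalIdeal V = Ideal.span {ϖ} :=
      (IsDiscreteValuationRing.irreducible_iff_uniformizer ϖ).mp hϖ
    have hIspan : I = Ideal.span {algebraMap V B ϖ} := by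
      rw [hI, hmax, Ideal.map_span, Set.image_singleton]
    have hrk : r ^ k ∈ I ^ k := Ideal.pow_mem_pow hrI k
    rw [hIspan, Ideal.span_singleton_pow, Ideal.mem_span_singleton'] at hrk
    obtain ⟨c, hc⟩ := hrk
    have hbk : ∀ j : ℕ, r ^ j * b = b := by
      intro j
      induction j with
      | zero => simp
      | succ j ih =>
        have hr' : r * b = b := hr
        rw [pow_succ, mul_assoc, hr', ih]
    have hϖb : (algebraMap V B ϖ) ^ k * b = 0 := by
      have hab' : (a : V) • b = 0 := hab
      rw [hu, Algebra.smul_def, map_mul, map_pow] at hab'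
      have hunit : IsUnit (algebraMap V B (u : V)) := (u.isUnit).map _
      rw [mul_assoc] at hab'
      exact (hunit.mul_right_eq_zero).mp hab'
    rw [← hbk k, ← hc, mul_assoc, hϖb, mul_zero]

end Groth.Agent.S19383
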