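import Groth.Statements.S19384
import Groth.Agent.Lib.Versch58b

set_option autoImplicit false
universe u
open Versch

namespace Groth.Agent.S19384

/-- Over a field and for one finite level, let k be a field of characteristic p > 0 and G = Spec A a
finite commutative k-group scheme (A a finite-dimensional commutative cocommutative Hopf algebra)
killed by p^n, i.e. the p^n-th power map of G is the trivial homomorphism, and suppose the
Verschiebung of G is an isomorphism (the ring map v : A → A ⊗_k k^(p) characterised as the
Verschiebung is bijective). Then G is infinitesimal, more precisely the n-th iterate of its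
Frobenius is trivial: a^(p^n) = 0 for every a in the augmentation ideal. (The source states this for
the p^n-torsion levels of a p-divisible group of multiplicative type over any scheme of
characteristic p and reduces to a field fibre by fibre; it also records that the Cartier dual has
unipotent fibres, which is not stated here.) -/
theorem result
    (p : ℕ) [Fact p.Prime] (k : Type u) [Field k] [CharP k p]
    (A : Type u) [CommRing A] [HopfAlgebra k A] [Coalgebra.IsCocomm k A] [Module.Finite k A]
    (n : ℕ)
    (hn : SGA3b.powConv k A (p ^ n) = (Algebra.ofId k A).comp (Bialgebra.counitAlgHom k A))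
    (v : A →+* FrobAlg.BaseChange p k A) (hv : Versch.IsVerschiebung p k A v)
    (hbij : Function.Bijective v)
    (a : A) (ha : Coalgebra.counit (R := k) a = 0) : a ^ (p ^ n) = 0 := by
  have hnt : Nontrivial A := by
    refine ⟨⟨1, 0, fun h => ?_⟩⟩
    have h1 := congrArg (Coalgebra.counit (R := k)) h
    rw [Bialgebra.counit_one, map_zero] at h1
    exact one_ne_zero h1
  have hA : CharP A p := charP_of_injective_algebraMap (algebraMap k A).injective p
  have key : ∀ m : ℕ, ∀ a : A, Coalgebra.counit (R := k) a = 0 →
      ∃ b : A, Coalgebra.counit (R := k) b = 0 ∧ a ^ (p ^ m) = SGA3b.powConv k A (p ^ m) b := by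
    intro m
    induction m with
    | zero =>
      intro a ha
      refine ⟨a, ha, ?_⟩
      rw [pow_zero, pow_one]
      unfold SGA3b.powConv
      rw [pow_one]
      rfl
    | succ m ih =>
      intro a ha
      obtain ⟨b, hb, hab⟩ := ih a ha
      obtain ⟨c, hc⟩ := hbij.2 (b ⊗ₜ[k] (1 : FrobAlg.Twist p k))
      have hc0 : Coalgebra.counit (R := k) c = 0 := by
        have h1 := Groth.Agent.Lib.Versch58.counit_verschiebung p k A v hv c
        rw [hc, Versch.evTw_tmul, mul_one] at h1
        have h2 : ((1 : CartDual.D k A) b) = Coalgebra.counit (R := k) b := by
          rw [LinearMap.convOne_apply]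
          simp
        rw [h2, hb, map_zero] at h1
        have h3 := congrArg (FrobAlg.toTwist p k).symm h1
        rw [RingEquiv.symm_apply_apply, map_zero] at h3
        exact h3.symm
      refine ⟨c, hc0, ?_⟩
      have h4 : b ^ p = SGA3b.powConv k A p c := by
        rw [← Groth.Agent.Lib.Versch58.relFrob_comp_verschiebung p k A v hv c, hc,
          Groth.Agent.Lib.Versch58.relFrob_tmul, map_one, map_one, mul_one]
      rw [pow_succ, pow_mul, hab, ← map_pow, h4,
        Groth.Agent.Lib.PowConvMul58.powConv_powConv, mul_comm]
  obtain ⟨b, hb, hab⟩ := key n a ha
  rw [hab, hn]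
  show algebraMap k A (Coalgebra.counit (R := k) b) = 0
  rw [hb, map_zero]

end Groth.Agent.S19384
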