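import Groth.Statements.S1939
import Groth.Agent.Lib.CycBCShift

set_option autoImplicit false
universe u
open CategoryTheory AlgebraicGeometry
open CategoryTheory.Limits
open Cyc

namespace Groth.Agent.S1939

/-- Let (S, δS) and (S', δS') be two pairs satisfying Cyc.IsSetup, g : S' → S flat with δS'(s') = δS(g
s') + c for every s' generic in an irreducible component of its fibre g⁻¹(g s'), a : X → S locally
of finite type with X integral of δ-dimension k (δX induced from δS), and X' = X ×_S S' with δX'
induced from δS'. Then every generic point x' of an irreducible component of X' has δX'(x') = k + c.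
A pair (X, δ) with Cyc.IsSetup plays the role of a scheme locally of finite type over a fixed base
with a dimension function (X locally Noetherian with universally catenary local rings, δ a dimension
function), and Cyc.DeltaCompat records that the dimension function upstairs is the induced one. -/
theorem result (S S' X : Scheme.{u}) (δS : S → ℤ) (δS' : S' → ℤ) (hS : Cyc.IsSetup S δS) (hS' : Cyc.IsSetup S' δS') (g : S' ⟶ S) [Flat g] (c : ℤ) (hc : ∀ s' : S', (∀ y, g y = g s' → y ⤳ s' → y = s') → δS' s' = δS (g s') + c) (a : X ⟶ S) [LocallyOfFiniteType a] [IsIntegral X] (δX : X → ℤ) (hX : Cyc.DeltaCompat a δX δS) (δX' : ↥(pullback a g) → ℤ) (hX' : Cyc.DeltaCompat (pullback.snd a g) δX' δS') (k : ℤ) (hk : δX (genericPoint X) = k) (x' : ↥(pullback a g)) (hx' : ∀ y : ↥(pullback a g), y ⤳ x' → y = x') : δX' x' = k + c := by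
  open Groth.Agent.Lib.H30DimRel Groth.Agent.Lib.CycBCShift in
  have hsq : IsPullback (pullback.fst a g) (pullback.snd a g) a g := IsPullback.of_hasPullback a g
  -- Step 1: the image of `x'` in `X` is the generic point
  have h1 : pullback.fst a g x' = genericPoint X := by
    obtain ⟨x'', hx''1, hx''2⟩ := Flat.generalizingMap (pullback.fst a g)
      (show genericPoint X ⤳ pullback.fst a g x' from genericPoint_specializes _)
    rw [hx' x'' hx''1] at hx''2
    exact hx''2
  -- Step 2: the image of `x'` in `S'` is maximal in its fibre
  have h2 : δS' (pullback.snd a g x') = δS (g (pullback.snd a g x')) + c :=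
    hc _ (fun y hy hsp => max_snd_of_max hsq x' hx' y hy hsp)
  -- Step 3: transcendence degrees
  have hmaxq : ∀ w : ↥(pullback a g), pullback.snd a g w = pullback.snd a g x' → w ⤳ x' → w = x' :=
    fun w _ hw => hx' w hw
  have hmaxa : ∀ w : X, a w = a (pullback.fst a g x') → w ⤳ pullback.fst a g x' →
      w = pullback.fst a g x' := by
    intro w _ hw
    rw [h1] at hw ⊢
    exact ((genericPoint_specializes w).antisymm hw).eq.symm
  have h3 := rt_eq_of_isPullback_of_max a g _ _ hsq x' hmaxq hmaxa
  obtain ⟨n', hn'1, hn'2⟩ := hX' x'
  obtain ⟨n, hn1, hn2⟩ := hX (pullback.fst a g x')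
  have e1 : rt (pullback.snd a g) x' = n' := rt_eq_of_trdeg_eq _ x' n' hn'1
  have e2 : rt a (pullback.fst a g x') = n := rt_eq_of_trdeg_eq _ _ n hn1
  have hnn : n' = n := by rw [← e1, ← e2]; exact h3
  have hcomm : g (pullback.snd a g x') = a (pullback.fst a g x') := by
    have := congrArg (fun φ : pullback a g ⟶ S => φ x') (pullback.condition (f := a) (g := g))
    exact this.symm
  rw [hn'2, h2, hcomm, hnn, ← hk, ← h1, hn2]
  ring

end Groth.Agent.S1939
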