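import Mathlib
import Groth.Statements.S19390

set_option autoImplicit false
universe u
open GIT

namespace Groth.Agent.S19390

section Helpers

variable {V : Type} [DecidableEq V] {α : Type u} [DecidableEq α]

theorem three_classes (x : V → α) (R : Finset V) (u1 u2 u3 : α) (h12 : u1 ≠ u2) (h13 : u1 ≠ u3)
    (h23 : u2 ≠ u3) :
    (R.filter fun v => x v = u1).card + (R.filter fun v => x v = u2).card +
      (R.filter fun v => x v = u3).card ≤ R.card := by
  have d12 : Disjoint (R.filter fun v => x v = u1) (R.filter fun v => x v = u2) := by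
    rw [Finset.disjoint_filter]; intro v _ h1 h2; exact h12 (h1.symm.trans h2)
  have d13 : Disjoint (R.filter fun v => x v = u1) (R.filter fun v => x v = u3) := by
    rw [Finset.disjoint_filter]; intro v _ h1 h2; exact h13 (h1.symm.trans h2)
  have d23 : Disjoint (R.filter fun v => x v = u2) (R.filter fun v => x v = u3) := by
    rw [Finset.disjoint_filter]; intro v _ h1 h2; exact h23 (h1.symm.trans h2)
  rw [← Finset.card_union_of_disjoint d12,
    ← Finset.card_union_of_disjoint (Finset.disjoint_union_left.2 ⟨d13, d23⟩)]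
  apply Finset.card_le_card
  intro v hv
  simp only [Finset.mem_union, Finset.mem_filter] at hv
  rcases hv with (h | h) | h <;> exact h.1

theorem mult_erase_le (x : V → α) (R : Finset V) (v : V) (u : α) :
    ((R.erase v).filter fun z => x z = u).card ≤ (R.filter fun z => x z = u).card :=
  Finset.card_le_card (Finset.filter_subset_filter _ (Finset.erase_subset _ _))

theorem mult_erase_self (x : V → α) (R : Finset V) (v : V) (hv : v ∈ R) :
    ((R.erase v).filter fun z => x z = x v).card + 1 = (R.filter fun z => x z = x v).card := by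
  rw [Finset.filter_erase]
  exact Finset.card_erase_add_one (Finset.mem_filter.2 ⟨hv, rfl⟩)

/-- Perfect matching with distinct values. -/
theorem matching (x : V → α) : ∀ (f : ℕ) (R : Finset V), R.card = 2 * f →
    (∀ u, (R.filter fun v => x v = u).card ≤ f) →
    ∃ τ : Equiv.Perm V, (∀ v, v ∉ R → τ v = v) ∧ (∀ v, τ (τ v) = v) ∧
      (∀ v ∈ R, x (τ v) ≠ x v) := by
  intro f
  induction f with
  | zero =>
    intro R hR _
    have : R = ∅ := Finset.card_eq_zero.1 (by simpa using hR)
    subst this
    exact ⟨1, fun _ _ => rfl, fun _ => rfl, fun v hv => absurd hv (Finset.notMem_empty v)⟩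
  | succ f ih =>
    intro R hR hmult
    have hne : R.Nonempty := by
      rw [← Finset.card_pos]; omega
    obtain ⟨v, hvR, hvmax⟩ := Finset.exists_max_image R
      (fun v => (R.filter fun z => x z = x v).card) hne
    -- points of other values
    have hsplit := Finset.card_filter_add_card_filter_not (s := R) (fun z => x z = x v)
    have hne1 : (R.filter fun z => ¬ x z = x v).Nonempty := by
      rw [← Finset.card_pos]
      have := hmult (x v)
      omega
    obtain ⟨w, hwR1, hwmax⟩ := Finset.exists_max_image (R.filter fun z => ¬ x z = x v)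
      (fun w => (R.filter fun z => x z = x w).card) hne1
    have hwR : w ∈ R := (Finset.mem_filter.1 hwR1).1
    have hxwv : x w ≠ x v := (Finset.mem_filter.1 hwR1).2
    have hwv : w ≠ v := fun h => hxwv (by rw [h])
    set R' := (R.erase v).erase w with hR'
    have hR'card : R'.card = 2 * f := by
      rw [hR', Finset.card_erase_of_mem (Finset.mem_erase.2 ⟨hwv, hwR⟩),
        Finset.card_erase_of_mem hvR, hR]
      omega
    have hR'comm : R' = (R.erase w).erase v := Finset.erase_right_comm
    have hmult' : ∀ u, (R'.filter fun z => x z = u).card ≤ f := by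
      intro u
      by_cases huv : u = x v
      · subst huv
        have h1 := mult_erase_le x (R.erase v) w (x v)
        have h2 := mult_erase_self x R v hvR
        have h3 := hmult (x v)
        rw [hR']; omega
      by_cases huw : u = x w
      · subst huw
        have h1 := mult_erase_le x (R.erase w) v (x w)
        have h2 := mult_erase_self x R w hwR
        have h3 := hmult (x w)
        rw [hR'comm]; omega
      · have h1 : (R'.filter fun z => x z = u).card ≤ (R.filter fun z => x z = u).card :=
          Finset.card_le_card (Finset.filter_subset_filter _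
            ((Finset.erase_subset _ _).trans (Finset.erase_subset _ _)))
        by_contra hcon
        rw [not_le] at hcon
        have hbig : f + 1 ≤ (R.filter fun z => x z = u).card := by omega
        have hpos : 0 < (R.filter fun z => x z = u).card := by omega
        obtain ⟨v', hv'⟩ := Finset.card_pos.1 hpos
        obtain ⟨hv'R, hv'u⟩ := Finset.mem_filter.1 hv'
        have hv'1 : v' ∈ R.filter fun z => ¬ x z = x v := by
          rw [Finset.mem_filter]; exact ⟨hv'R, by rw [hv'u]; exact huv⟩
        have m1 := hwmax v' hv'1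
        have m2 := hvmax w hwR
        simp only [hv'u] at m1
        have := three_classes x R u (x w) (x v) huw huv hxwv
        omega
    obtain ⟨τ', hfix', hinv', hval'⟩ := ih R' hR'card hmult'
    have hvR' : v ∉ R' := by
      rw [hR'comm]; exact Finset.notMem_erase v _
    have hwR' : w ∉ R' := by
      rw [hR']; exact Finset.notMem_erase w _
    have hτv : τ' v = v := hfix' v hvR'
    have hτw : τ' w = w := hfix' w hwR'
    have hne_v : ∀ z, z ≠ v → τ' z ≠ v := by
      intro z hz h
      apply hz
      have := hinv' z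
      rw [h, hτv] at this
      exact this.symm
    have hne_w : ∀ z, z ≠ w → τ' z ≠ w := by
      intro z hz h
      apply hz
      have := hinv' z
      rw [h, hτw] at this
      exact this.symm
    refine ⟨Equiv.swap v w * τ', ?_, ?_, ?_⟩
    · intro z hz
      have hzv : z ≠ v := fun h => hz (h ▸ hvR)
      have hzw : z ≠ w := fun h => hz (h ▸ hwR)
      have hzR' : z ∉ R' := fun h => hz (Finset.mem_of_mem_erase (Finset.mem_of_mem_erase h))
      rw [Equiv.Perm.mul_apply, hfix' z hzR', Equiv.swap_apply_of_ne_of_ne hzv hzw]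
    · intro z
      simp only [Equiv.Perm.mul_apply]
      by_cases hzv : z = v
      · subst hzv
        rw [hτv, Equiv.swap_apply_left, hτw, Equiv.swap_apply_right]
      by_cases hzw : z = w
      · subst hzw
        rw [hτw, Equiv.swap_apply_right, hτv, Equiv.swap_apply_left]
      · rw [Equiv.swap_apply_of_ne_of_ne (hne_v z hzv) (hne_w z hzw), hinv',
          Equiv.swap_apply_of_ne_of_ne hzv hzw]
    · intro z hzR
      simp only [Equiv.Perm.mul_apply]
      by_cases hzv : z = v
      · subst hzv
        rw [hτv, Equiv.swap_apply_left]; exact hxwv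
      by_cases hzw : z = w
      · subst hzw
        rw [hτw, Equiv.swap_apply_right]; exact hxwv.symm
      · rw [Equiv.swap_apply_of_ne_of_ne (hne_v z hzv) (hne_w z hzw)]
        apply hval'
        rw [hR']
        exact Finset.mem_erase.2 ⟨hzw, Finset.mem_erase.2 ⟨hzv, hzR⟩⟩

/-- A permutation sending three given distinct points to three given distinct points. -/
theorem exists_perm3 (p0 p1 p2 a b c : V) (hp01 : p0 ≠ p1) (hp02 : p0 ≠ p2) (hp12 : p1 ≠ p2)
    (hab : a ≠ b) (hac : a ≠ c) (hbc : b ≠ c) :
    ∃ π : Equiv.Perm V, π p0 = a ∧ π p1 = b ∧ π p2 = c := by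
  -- build g with g a = p0, g b = p1, g c = p2
  let s0 : Equiv.Perm V := Equiv.swap a p0
  have s0a : s0 a = p0 := Equiv.swap_apply_left a p0
  have s0b : s0 b ≠ p0 := fun h => hab (s0.injective (s0a.trans h.symm))
  let s1 : Equiv.Perm V := Equiv.swap (s0 b) p1
  have s1b : s1 (s0 b) = p1 := Equiv.swap_apply_left _ _
  have s1p0 : s1 p0 = p0 := Equiv.swap_apply_of_ne_of_ne (Ne.symm s0b) hp01
  have hc0 : s1 (s0 c) ≠ p0 := by
    intro h
    have : s1 (s0 c) = s1 (s0 a) := by rw [s0a, s1p0, h]
    exact hac (s0.injective (s1.injective this)).symm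
  have hc1 : s1 (s0 c) ≠ p1 := by
    intro h
    have : s1 (s0 c) = s1 (s0 b) := by rw [s1b, h]
    exact hbc (s0.injective (s1.injective this)).symm
  let s2 : Equiv.Perm V := Equiv.swap (s1 (s0 c)) p2
  have s2c : s2 (s1 (s0 c)) = p2 := Equiv.swap_apply_left _ _
  have s2p0 : s2 p0 = p0 := Equiv.swap_apply_of_ne_of_ne (Ne.symm hc0) hp02
  have s2p1 : s2 p1 = p1 := Equiv.swap_apply_of_ne_of_ne (Ne.symm hc1) hp12
  let g : Equiv.Perm V := s2 * s1 * s0
  have ga : g a = p0 := by
    change s2 (s1 (s0 a)) = p0
    rw [s0a, s1p0, s2p0]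
  have gb : g b = p1 := by
    change s2 (s1 (s0 b)) = p1
    rw [s1b, s2p1]
  have gc : g c = p2 := s2c
  refine ⟨g.symm, ?_, ?_, ?_⟩
  · rw [← ga]; exact g.symm_apply_apply a
  · rw [← gb]; exact g.symm_apply_apply b
  · rw [← gc]; exact g.symm_apply_apply c

theorem card_filter_perm_eq {n : ℕ} (π : Equiv.Perm (Fin n)) (m : Fin n) :
    (Finset.univ.filter fun k => π k = m).card = 1 := by
  have : (Finset.univ.filter fun k => π k = m) = {π.symm m} := by
    ext k
    simp only [Finset.mem_filter, Finset.mem_univ, true_and, Finset.mem_singleton]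
    exact (Equiv.eq_symm_apply π).symm
  rw [this, Finset.card_singleton]

end Helpers

/-- Let e ≥ 1, n = 2e + 1, and let x_1, …, x_n be points such that no point occurs more than e times
among them (the stability condition for n ordered points on a line, n odd). Then there are index
sequences i_1, …, i_n and j_1, …, j_n in which every index between 1 and n occurs exactly twice in
total, such that x_{i_k} ≠ x_{j_k} for every k and (i_1, i_2, i_3) = (j_3, j_1, j_2). Indices are
written 0, …, n − 1 here. -/
theorem result {α : Type u} [DecidableEq α] (e : ℕ) (he : 1 ≤ e)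
    (x : Fin (2 * e + 1) → α)
    (hx : ∀ a : α, (Finset.univ.filter fun k => x k = a).card ≤ e) :
    ∃ i j : Fin (2 * e + 1) → Fin (2 * e + 1),
      (∀ m : Fin (2 * e + 1),
        (Finset.univ.filter fun k => i k = m).card + (Finset.univ.filter fun k => j k = m).card = 2) ∧
      (∀ k, x (i k) ≠ x (j k)) ∧
      i 0 = j 2 ∧ i 1 = j 0 ∧ i 2 = j 1 := by
  classical
  have c : Fin (2 * e + 1) := 0
  set R : Finset (Fin (2 * e + 1)) := Finset.univ.erase c with hR
  have hRcard : R.card = 2 * e := by
    rw [hR, Finset.card_erase_of_mem (Finset.mem_univ _), Finset.card_univ, Fintype.card_fin]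
    omega
  have hRmult : ∀ u, (R.filter fun v => x v = u).card ≤ e := fun u =>
    (mult_erase_le x Finset.univ c u).trans (hx u)
  obtain ⟨τ, hfix, hinv, hval⟩ := matching x e R hRcard hRmult
  have hcR : c ∉ R := Finset.notMem_erase c _
  have hτc : τ c = c := hfix c hcR
  have hmemR : ∀ v, v ∈ R ↔ v ≠ c := fun v => by
    rw [hR, Finset.mem_erase]; simp
  have hτR : ∀ v ∈ R, τ v ∈ R := by
    intro v hv
    rw [hmemR] at hv ⊢
    intro h
    apply hv
    have := hinv v
    rw [h, hτc] at this
    exact this.symm
  -- multiplicity of x c in R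
  have hmc : (R.filter fun v => x v = x c).card + 1 ≤ e := by
    have := mult_erase_self x Finset.univ c (Finset.mem_univ _)
    have h2 := hx (x c)
    rw [hR]; omega
  -- pigeonhole
  obtain ⟨a, haR, hac, hτac⟩ : ∃ a ∈ R, x a ≠ x c ∧ x (τ a) ≠ x c := by
    by_contra hcon
    have hcon' : ∀ a ∈ R, x a = x c ∨ x (τ a) = x c := by
      intro a ha
      by_contra h
      rw [not_or] at h
      exact hcon ⟨a, ha, h.1, h.2⟩
    have hsub : R ⊆ (R.filter fun v => x v = x c) ∪ (R.filter fun v => x (τ v) = x c) := by
      intro a ha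
      rw [Finset.mem_union, Finset.mem_filter, Finset.mem_filter]
      rcases hcon' a ha with h | h
      · exact Or.inl ⟨ha, h⟩
      · exact Or.inr ⟨ha, h⟩
    have hcard2 : (R.filter fun v => x (τ v) = x c).card ≤ (R.filter fun v => x v = x c).card := by
      apply Finset.card_le_card_of_injOn (fun v => τ v)
      · intro v hv
        have hv' := Finset.mem_filter.1 hv
        exact Finset.mem_filter.2 ⟨hτR v hv'.1, hv'.2⟩
      · intro v _ w _ h
        exact τ.injective h
    have := (Finset.card_le_card hsub).trans (Finset.card_union_le _ _)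
    omega
  set b := τ a with hb
  have hab : a ≠ b := fun h => hval a haR (by rw [← hb, ← h])
  have hac' : a ≠ c := fun h => hac (by rw [h])
  have hbc : b ≠ c := fun h => hτac (by rw [h])
  have hτb : τ b = a := hinv a
  -- the permutation ρ
  set ρ : Equiv.Perm (Fin (2 * e + 1)) := τ * Equiv.swap b c with hρ
  have hρa : ρ a = b := by
    rw [hρ, Equiv.Perm.mul_apply, Equiv.swap_apply_of_ne_of_ne hab hac']
  have hρb : ρ b = c := by
    rw [hρ, Equiv.Perm.mul_apply, Equiv.swap_apply_left, hτc]
  have hρc : ρ c = a := by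
    rw [hρ, Equiv.Perm.mul_apply, Equiv.swap_apply_right, hτb]
  have hρval : ∀ v, x (ρ v) ≠ x v := by
    intro v
    by_cases hvb : v = b
    · rw [hvb, hρb]; exact fun h => hτac h.symm
    by_cases hvc : v = c
    · rw [hvc, hρc]; exact hac
    · rw [hρ, Equiv.Perm.mul_apply, Equiv.swap_apply_of_ne_of_ne hvb hvc]
      exact hval v ((hmemR v).2 hvc)
  -- positions 0, 1, 2
  have h3 : 3 ≤ 2 * e + 1 := by omega
  have hv0 : ((0 : Fin (2 * e + 1)) : ℕ) = 0 := rfl
  have hv1 : ((1 : Fin (2 * e + 1)) : ℕ) = 1 := by
    rw [Fin.val_one', Nat.mod_eq_of_lt (by omega)]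
  have hv2 : ((2 : Fin (2 * e + 1)) : ℕ) = 2 := by
    rw [Fin.coe_ofNat_eq_mod, Nat.mod_eq_of_lt (by omega)]
  have h01 : (0 : Fin (2 * e + 1)) ≠ 1 := by
    intro h
    have := congrArg Fin.val h
    rw [hv0, hv1] at this
    omega
  have h02 : (0 : Fin (2 * e + 1)) ≠ 2 := by
    intro h
    have := congrArg Fin.val h
    rw [hv0, hv2] at this
    omega
  have h12 : (1 : Fin (2 * e + 1)) ≠ 2 := by
    intro h
    have := congrArg Fin.val h
    rw [hv1, hv2] at this
    omega
  obtain ⟨π, hπ0, hπ1, hπ2⟩ := exists_perm3 (0 : Fin (2 * e + 1)) 1 2 a b c h01 h02 h12 hab hac' hbc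
  refine ⟨π, fun k => ρ (π k), ?_, ?_, ?_, ?_, ?_⟩
  · intro m
    have h1 := card_filter_perm_eq π m
    have h2 : (Finset.univ.filter fun k => ρ (π k) = m).card = 1 := card_filter_perm_eq (ρ * π) m
    rw [h1, h2]
  · intro k
    exact (hρval (π k)).symm
  · change π 0 = ρ (π 2)
    rw [hπ0, hπ2, hρc]
  · change π 1 = ρ (π 0)
    rw [hπ1, hπ0, hρa]
  · change π 2 = ρ (π 1)
    rw [hπ2, hπ1, hρb]

end Groth.Agent.S19390
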