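import Groth.Statements.S19391
-- import your own Groth.Agent.* helpers here

set_option autoImplicit false
universe u
open InvQ

namespace Groth.Agent.S19391

open Polynomial W4c6intromoduli

section Aux

variable {R : Type u} [CommRing R]

theorem rootPoly_eq (la mu : Fin 4 → R) :
    rootPoly la mu =
      C (mu 0 * mu 1 * mu 2 * mu 3) +
      C (-(la 0 * mu 1 * mu 2 * mu 3 + mu 0 * la 1 * mu 2 * mu 3 + mu 0 * mu 1 * la 2 * mu 3 +
          mu 0 * mu 1 * mu 2 * la 3)) * X +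
      C (la 0 * la 1 * mu 2 * mu 3 + la 0 * mu 1 * la 2 * mu 3 + la 0 * mu 1 * mu 2 * la 3 +
          mu 0 * la 1 * la 2 * mu 3 + mu 0 * la 1 * mu 2 * la 3 + mu 0 * mu 1 * la 2 * la 3) * X ^ 2 +
      C (-(la 0 * la 1 * la 2 * mu 3 + la 0 * la 1 * mu 2 * la 3 + la 0 * mu 1 * la 2 * la 3 +
          mu 0 * la 1 * la 2 * la 3)) * X ^ 3 +
      C (la 0 * la 1 * la 2 * la 3) * X ^ 4 := by
  unfold rootPoly
  rw [Fin.prod_univ_four]
  simp only [C_mul, C_add, C_neg]
  ring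

theorem coef_zero (la mu : Fin 4 → R) : coef la mu 0 = mu 0 * mu 1 * mu 2 * mu 3 := by
  unfold coef
  rw [rootPoly_eq]
  simp only [coeff_add, coeff_C_mul_X_pow, coeff_C_mul_X, coeff_C]
  norm_num

theorem coef_one (la mu : Fin 4 → R) : coef la mu 1 =
    -(la 0 * mu 1 * mu 2 * mu 3 + mu 0 * la 1 * mu 2 * mu 3 + mu 0 * mu 1 * la 2 * mu 3 +
          mu 0 * mu 1 * mu 2 * la 3) := by
  unfold coef
  rw [rootPoly_eq]
  simp only [coeff_add, coeff_C_mul_X_pow, coeff_C_mul_X, coeff_C]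
  norm_num

theorem coef_two (la mu : Fin 4 → R) : coef la mu 2 =
    la 0 * la 1 * mu 2 * mu 3 + la 0 * mu 1 * la 2 * mu 3 + la 0 * mu 1 * mu 2 * la 3 +
          mu 0 * la 1 * la 2 * mu 3 + mu 0 * la 1 * mu 2 * la 3 + mu 0 * mu 1 * la 2 * la 3 := by
  unfold coef
  rw [rootPoly_eq]
  simp only [coeff_add, coeff_C_mul_X_pow, coeff_C_mul_X, coeff_C]
  norm_num

theorem coef_three (la mu : Fin 4 → R) : coef la mu 3 =
    -(la 0 * la 1 * la 2 * mu 3 + la 0 * la 1 * mu 2 * la 3 + la 0 * mu 1 * la 2 * la 3 +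
          mu 0 * la 1 * la 2 * la 3) := by
  unfold coef
  rw [rootPoly_eq]
  simp only [coeff_add, coeff_C_mul_X_pow, coeff_C_mul_X, coeff_C]
  norm_num

theorem coef_four (la mu : Fin 4 → R) : coef la mu 4 = la 0 * la 1 * la 2 * la 3 := by
  unfold coef
  rw [rootPoly_eq]
  simp only [coeff_add, coeff_C_mul_X_pow, coeff_C_mul_X, coeff_C]
  norm_num

theorem disc_eq (la mu : Fin 4 → R) : disc la mu =
    (la 1 * mu 0 - la 0 * mu 1) ^ 2 * (la 2 * mu 0 - la 0 * mu 2) ^ 2 *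
    (la 3 * mu 0 - la 0 * mu 3) ^ 2 * (la 2 * mu 1 - la 1 * mu 2) ^ 2 *
    (la 3 * mu 1 - la 1 * mu 3) ^ 2 * (la 3 * mu 2 - la 2 * mu 3) ^ 2 := by
  unfold disc
  rw [Finset.prod_filter, Fintype.prod_prod_type]
  simp [Fin.prod_univ_four]
  ring

end Aux

/-- For a binary quartic written as a product of four linear forms μ_i X₀ − λ_i X₁, with coefficients
a_0, …, a_4, the discriminant D = ∏_{i<j} (λ_j μ_i − λ_i μ_j)² is a constant multiple of P³ − 6Q²
for the two basic invariants P, Q. With the integral normalisation I = 6P = 12a₀a₄ − 3a₁a₃ + a₂², J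
= 72Q = 72a₀a₂a₄ + 9a₁a₂a₃ − 27a₀a₃² − 27a₁²a₄ − 2a₂³ used here, the identity reads 27 D = 4 I³ − J²
(so the constant is 32: D = 32 (P³ − 6Q²)); it is stated over an arbitrary commutative ring. -/
theorem result (R : Type u) [CommRing R] (la mu : Fin 4 → R) :
    27 * W4c6intromoduli.disc la mu =
      4 * W4c6intromoduli.invI (W4c6intromoduli.coef la mu) ^ 3
        - W4c6intromoduli.invJ (W4c6intromoduli.coef la mu) ^ 2 := by
  unfold invI invJ
  rw [disc_eq, coef_zero, coef_one, coef_two, coef_three, coef_four]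
  ring

end Groth.Agent.S19391
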