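import Groth.Statements.S19392
import Groth.Agent.S19391
import Mathlib.Tactic
-- import your own Groth.Agent.* helpers here

set_option autoImplicit false
universe u
open InvQ

namespace Groth.Agent.S19392

open W4c6intromoduli Groth.Agent.S19391

section Aux

variable {R : Type u} [CommRing R]

/-- The three products of cross-differences attached to the three pairings of four points. -/
def pA (la mu : Fin 4 → R) : R := (la 0 * mu 1 - la 1 * mu 0) * (la 2 * mu 3 - la 3 * mu 2)
def pB (la mu : Fin 4 → R) : R := (la 0 * mu 2 - la 2 * mu 0) * (la 3 * mu 1 - la 1 * mu 3)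
def pC (la mu : Fin 4 → R) : R := (la 0 * mu 3 - la 3 * mu 0) * (la 1 * mu 2 - la 2 * mu 1)

theorem pA_add_pB_add_pC (la mu : Fin 4 → R) : pA la mu + pB la mu + pC la mu = 0 := by
  unfold pA pB pC; ring

theorem two_mul_invI (la mu : Fin 4 → R) :
    2 * invI (coef la mu) = pA la mu ^ 2 + pB la mu ^ 2 + pC la mu ^ 2 := by
  unfold invI pA pB pC
  rw [coef_zero, coef_one, coef_two, coef_three, coef_four]
  ring

theorem invJ_eq (la mu : Fin 4 → R) :
    invJ (coef la mu) = (pA la mu - pB la mu) * (pB la mu - pC la mu) * (pC la mu - pA la mu) := by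
  unfold invJ pA pB pC
  rw [coef_zero, coef_one, coef_two, coef_three, coef_four]
  ring

end Aux

/-- Over a field of characteristic different from 2 and 3, a nonzero binary quartic f has P(f) = Q(f) =
0 for the two basic invariants P, Q if and only if f has a triple zero. Stated for f = ∏_i (μ_i X₀ −
λ_i X₁) given by four root points (λ_i, μ_i) ≠ (0, 0) (over an algebraically closed field every
nonzero quartic form is of this shape), with the integral invariants I = 6P and J = 72Q of the
coefficients of f; a triple zero means that three of the four root points are pairwise proportional. -/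
theorem result (k : Type u) [Field k]
    (h2 : (2 : k) ≠ 0) (h3 : (3 : k) ≠ 0) (la mu : Fin 4 → k) (hne : ∀ i, la i ≠ 0 ∨ mu i ≠ 0) :
    (W4c6intromoduli.invI (W4c6intromoduli.coef la mu) = 0 ∧
        W4c6intromoduli.invJ (W4c6intromoduli.coef la mu) = 0) ↔
      ∃ i j l : Fin 4, i ≠ j ∧ j ≠ l ∧ i ≠ l ∧
        la i * mu j = la j * mu i ∧ la j * mu l = la l * mu j := by
  have h6 : (6 : k) ≠ 0 := by
    have : (6 : k) = 2 * 3 := by norm_num
    rw [this]; exact mul_ne_zero h2 h3
  constructor
  · rintro ⟨hI, hJ⟩
    have hsum := pA_add_pB_add_pC la mu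
    have hsq : pA la mu ^ 2 + pB la mu ^ 2 + pC la mu ^ 2 = 0 := by
      rw [← two_mul_invI, hI, mul_zero]
    have hprod : (pA la mu - pB la mu) * (pB la mu - pC la mu) * (pC la mu - pA la mu) = 0 := by
      rw [← invJ_eq, hJ]
    -- all three vanish
    have hAB : pA la mu = 0 ∧ pB la mu = 0 := by
      rcases mul_eq_zero.mp hprod with h | h
      · rcases mul_eq_zero.mp h with h | h
        · -- A = B, C = -2A, 6 A^2 = 0
          have hA : pA la mu = 0 := by
            have : 6 * pA la mu ^ 2 = 0 := by
              linear_combination hsq + (6 * pA la mu - 2 * (pA la mu - pB la mu) -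
                2 * (pA la mu + pB la mu + pC la mu)) * h +
                (4 * pA la mu - (pA la mu + pB la mu + pC la mu)) * hsum
            exact pow_eq_zero_iff (two_ne_zero) |>.mp ((mul_eq_zero.mp this).resolve_left h6)
          exact ⟨hA, by linear_combination hA - h⟩
        · -- B = C, A = -2B
          have hB : pB la mu = 0 := by
            have : 6 * pB la mu ^ 2 = 0 := by
              linear_combination hsq + (6 * pB la mu - 2 * (pB la mu - pC la mu) -
                2 * (pA la mu + pB la mu + pC la mu)) * h +
                (4 * pB la mu - (pA la mu + pB la mu + pC la mu)) * hsum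
            exact pow_eq_zero_iff (two_ne_zero) |>.mp ((mul_eq_zero.mp this).resolve_left h6)
          have hC : pC la mu = 0 := by linear_combination hB - h
          exact ⟨by linear_combination hsum - hB - hC, hB⟩
      · -- C = A, B = -2C
        have hC : pC la mu = 0 := by
          have : 6 * pC la mu ^ 2 = 0 := by
            linear_combination hsq + (6 * pC la mu - 2 * (pC la mu - pA la mu) -
              2 * (pA la mu + pB la mu + pC la mu)) * h +
              (4 * pC la mu - (pA la mu + pB la mu + pC la mu)) * hsum
          exact pow_eq_zero_iff (two_ne_zero) |>.mp ((mul_eq_zero.mp this).resolve_left h6)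
        have hA : pA la mu = 0 := by linear_combination hC - h
        exact ⟨hA, by linear_combination hsum - hA - hC⟩
    obtain ⟨hA, hB⟩ := hAB
    unfold pA at hA
    unfold pB at hB
    rcases mul_eq_zero.mp hA with h01 | h23 <;> rcases mul_eq_zero.mp hB with h02 | h31
    · exact ⟨1, 0, 2, by decide, by decide, by decide, by linear_combination -h01,
        by linear_combination h02⟩
    · exact ⟨0, 1, 3, by decide, by decide, by decide, by linear_combination h01,
        by linear_combination -h31⟩
    · exact ⟨3, 2, 0, by decide, by decide, by decide, by linear_combination -h23,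
        by linear_combination -h02⟩
    · exact ⟨2, 3, 1, by decide, by decide, by decide, by linear_combination h23,
        by linear_combination h31⟩
  · rintro ⟨i, j, l, hij, hjl, hil, h1, h2'⟩
    -- the third proportionality
    have h3' : la i * mu l = la l * mu i := by
      rcases hne j with hj | hj
      · apply mul_left_cancel₀ hj
        linear_combination la l * h1 + la i * h2'
      · apply mul_left_cancel₀ hj
        linear_combination mu l * h1 + mu i * h2'
    have hT : ∀ a b : Fin 4, (a = i ∨ a = j ∨ a = l) → (b = i ∨ b = j ∨ b = l) →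
        la a * mu b - la b * mu a = 0 := by
      rintro a b (rfl | rfl | rfl) (rfl | rfl | rfl)
      · ring
      · linear_combination h1
      · linear_combination h3'
      · linear_combination -h1
      · ring
      · linear_combination h2'
      · linear_combination -h3'
      · linear_combination -h2'
      · ring
    have hcomb : ∀ i j l : Fin 4, i ≠ j → j ≠ l → i ≠ l → ∀ a b c d : Fin 4,
        a ≠ b → a ≠ c → a ≠ d → b ≠ c → b ≠ d → c ≠ d →
        ((a = i ∨ a = j ∨ a = l) ∧ (b = i ∨ b = j ∨ b = l)) ∨
          ((c = i ∨ c = j ∨ c = l) ∧ (d = i ∨ d = j ∨ d = l)) := by decide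
    have hA : pA la mu = 0 := by
      unfold pA
      rcases hcomb i j l hij hjl hil 0 1 2 3 (by decide) (by decide) (by decide) (by decide)
        (by decide) (by decide) with ⟨ha, hb⟩ | ⟨hc, hd⟩
      · rw [hT 0 1 ha hb, zero_mul]
      · rw [hT 2 3 hc hd, mul_zero]
    have hB : pB la mu = 0 := by
      unfold pB
      rcases hcomb i j l hij hjl hil 0 2 3 1 (by decide) (by decide) (by decide) (by decide)
        (by decide) (by decide) with ⟨ha, hb⟩ | ⟨hc, hd⟩
      · rw [hT 0 2 ha hb, zero_mul]
      · rw [hT 3 1 hc hd, mul_zero]
    have hC : pC la mu = 0 := by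
      unfold pC
      rcases hcomb i j l hij hjl hil 0 3 1 2 (by decide) (by decide) (by decide) (by decide)
        (by decide) (by decide) with ⟨ha, hb⟩ | ⟨hc, hd⟩
      · rw [hT 0 3 ha hb, zero_mul]
      · rw [hT 1 2 hc hd, mul_zero]
    refine ⟨?_, ?_⟩
    · have := two_mul_invI la mu
      rw [hA, hB, hC] at this
      have h0 : 2 * invI (coef la mu) = 0 := by rw [this]; ring
      exact (mul_eq_zero.mp h0).resolve_left h2
    · rw [invJ_eq, hA, hB, hC]; ring

end Groth.Agent.S19392
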