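import Groth.Statements.S19393
import Mathlib
-- import your own Groth.Agent.* helpers here

set_option autoImplicit false
universe u
open InvQ

namespace Groth.Agent.S19393

open W4c6intromoduli

section
variable {k : Type u} [Field k]

section
open Polynomial
theorem rootPoly_eq (la mu : Fin 4 → k) :
    rootPoly la mu =
      C (mu 0 * mu 1 * mu 2 * mu 3)
      + C (-(la 0 * mu 1 * mu 2 * mu 3 + mu 0 * la 1 * mu 2 * mu 3 + mu 0 * mu 1 * la 2 * mu 3 + mu 0 * mu 1 * mu 2 * la 3)) * X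
      + C (la 0 * la 1 * mu 2 * mu 3 + la 0 * mu 1 * la 2 * mu 3 + la 0 * mu 1 * mu 2 * la 3
            + mu 0 * la 1 * la 2 * mu 3 + mu 0 * la 1 * mu 2 * la 3 + mu 0 * mu 1 * la 2 * la 3) * X ^ 2
      + C (-(mu 0 * la 1 * la 2 * la 3 + la 0 * mu 1 * la 2 * la 3 + la 0 * la 1 * mu 2 * la 3 + la 0 * la 1 * la 2 * mu 3)) * X ^ 3
      + C (la 0 * la 1 * la 2 * la 3) * X ^ 4 := by
  unfold rootPoly
  rw [Fin.prod_univ_four]
  simp only [map_add, map_mul, map_neg]
  ring

theorem coeff_quartic (a0 a1 a2 a3 a4 : k) :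
    (C a0 + C a1 * X + C a2 * X ^ 2 + C a3 * X ^ 3 + C a4 * X ^ 4 : k[X]).coeff 0 = a0 ∧
    (C a0 + C a1 * X + C a2 * X ^ 2 + C a3 * X ^ 3 + C a4 * X ^ 4 : k[X]).coeff 1 = a1 ∧
    (C a0 + C a1 * X + C a2 * X ^ 2 + C a3 * X ^ 3 + C a4 * X ^ 4 : k[X]).coeff 2 = a2 ∧
    (C a0 + C a1 * X + C a2 * X ^ 2 + C a3 * X ^ 3 + C a4 * X ^ 4 : k[X]).coeff 3 = a3 ∧
    (C a0 + C a1 * X + C a2 * X ^ 2 + C a3 * X ^ 3 + C a4 * X ^ 4 : k[X]).coeff 4 = a4 := by
  refine ⟨?_, ?_, ?_, ?_, ?_⟩ <;>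
  simp [coeff_X, coeff_C, coeff_X_pow]

theorem coef_vals (la mu : Fin 4 → k) :
    coef la mu 0 = mu 0 * mu 1 * mu 2 * mu 3 ∧
    coef la mu 1 = -(la 0 * mu 1 * mu 2 * mu 3 + mu 0 * la 1 * mu 2 * mu 3 + mu 0 * mu 1 * la 2 * mu 3 + mu 0 * mu 1 * mu 2 * la 3) ∧
    coef la mu 2 = (la 0 * la 1 * mu 2 * mu 3 + la 0 * mu 1 * la 2 * mu 3 + la 0 * mu 1 * mu 2 * la 3
            + mu 0 * la 1 * la 2 * mu 3 + mu 0 * la 1 * mu 2 * la 3 + mu 0 * mu 1 * la 2 * la 3) ∧
    coef la mu 3 = -(mu 0 * la 1 * la 2 * la 3 + la 0 * mu 1 * la 2 * la 3 + la 0 * la 1 * mu 2 * la 3 + la 0 * la 1 * la 2 * mu 3) ∧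
    coef la mu 4 = la 0 * la 1 * la 2 * la 3 := by
  unfold coef
  rw [rootPoly_eq]
  exact coeff_quartic _ _ _ _ _

/-- brackets -/
def br (la mu : Fin 4 → k) (i j : Fin 4) : k := la i * mu j - mu i * la j

theorem invI_eq (la mu : Fin 4 → k) :
    invI (coef la mu) =
      -( (br la mu 0 1 * br la mu 2 3) * (br la mu 0 2 * br la mu 3 1)
        + (br la mu 0 2 * br la mu 3 1) * (br la mu 0 3 * br la mu 1 2)
        + (br la mu 0 3 * br la mu 1 2) * (br la mu 0 1 * br la mu 2 3)) := by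
  obtain ⟨h0, h1, h2, h3, h4⟩ := coef_vals la mu
  unfold invI br
  rw [h0, h1, h2, h3, h4]
  ring

theorem invJ_eq (la mu : Fin 4 → k) :
    invJ (coef la mu) =
      ((br la mu 0 1 * br la mu 2 3) - (br la mu 0 2 * br la mu 3 1))
      * ((br la mu 0 2 * br la mu 3 1) - (br la mu 0 3 * br la mu 1 2))
      * ((br la mu 0 3 * br la mu 1 2) - (br la mu 0 1 * br la mu 2 3)) := by
  obtain ⟨h0, h1, h2, h3, h4⟩ := coef_vals la mu
  unfold invJ br
  rw [h0, h1, h2, h3, h4]
  ring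
end

theorem fact (t s : k) :
    (t^2-t+1)^3 * (-(s+1)*(2*s-1)*(s-2))^2 - (s^2-s+1)^3 * (-(t+1)*(2*t-1)*(t-2))^2
      = -27 * ((s-t)*(t*s-1)*(s+t-1)*((1-t)*s-1)*((t-1)*s-t)*(t*s-t+1)) := by
  ring

theorem key (A B C A' B' C' : k) (hA : A + B + C = 0) (hA' : A' + B' + C' = 0)
    (hC : C ≠ 0) (hC' : C' ≠ 0) (h3 : (3 : k) ≠ 0)
    (h : (-(A*B+B*C+C*A))^3 * ((A'-B')*(B'-C')*(C'-A'))^2
        = (-(A'*B'+B'*C'+C'*A'))^3 * ((A-B)*(B-C)*(C-A))^2) :
    ∃ t s : k, B = -t * C ∧ B' = -s * C' ∧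
      (s-t)*(t*s-1)*(s+t-1)*((1-t)*s-1)*((t-1)*s-t)*(t*s-t+1) = 0 := by
  refine ⟨-B/C, -B'/C', by field_simp, by field_simp, ?_⟩
  obtain ⟨t, ht⟩ : ∃ t, t = -B/C := ⟨_, rfl⟩
  obtain ⟨s, hs⟩ : ∃ s, s = -B'/C' := ⟨_, rfl⟩
  rw [← ht, ← hs]
  have hB : B = -t * C := by rw [ht]; field_simp
  have hB' : B' = -s * C' := by rw [hs]; field_simp
  have hA2 : A = (t - 1) * C := by linear_combination hA - hB
  have hA2' : A' = (s - 1) * C' := by linear_combination hA' - hB'
  rw [hA2, hB, hA2', hB'] at h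
  have h27 : (27 : k) ≠ 0 := by
    have : (27 : k) = 3 ^ 3 := by norm_num
    rw [this]; exact pow_ne_zero _ h3
  have hCC : C ^ 6 * C' ^ 6 ≠ 0 := mul_ne_zero (pow_ne_zero _ hC) (pow_ne_zero _ hC')
  have : 27 * (C ^ 6 * C' ^ 6) * ((s-t)*(t*s-1)*(s+t-1)*((1-t)*s-1)*((t-1)*s-t)*(t*s-t+1)) = 0 := by
    linear_combination -h
  rcases mul_eq_zero.mp this with h' | h'
  · exact absurd h' (mul_ne_zero h27 hCC)
  · exact h'

def Eqv (f g : MvPolynomial (Fin 2) k) : Prop :=
  ∃ (M : Matrix (Fin 2) (Fin 2) k) (c : k), IsUnit M.det ∧ c ≠ 0 ∧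
    g = MvPolynomial.C c * subst M f

theorem subst_X (M : Matrix (Fin 2) (Fin 2) k) (i : Fin 2) :
    subst M (MvPolynomial.X i) = MvPolynomial.C (M i 0) * MvPolynomial.X 0
      + MvPolynomial.C (M i 1) * MvPolynomial.X 1 := by
  simp [subst, Fin.sum_univ_two]

theorem subst_comp (M M' : Matrix (Fin 2) (Fin 2) k) (f : MvPolynomial (Fin 2) k) :
    subst M' (subst M f) = subst (M * M') f := by
  have : (subst M').comp (subst M) = subst (M * M') := by
    apply MvPolynomial.algHom_ext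
    intro i
    rw [AlgHom.comp_apply, subst_X, subst_X]
    simp only [map_add, map_mul, MvPolynomial.algHom_C, subst_X, Matrix.mul_apply, Fin.sum_univ_two,
      MvPolynomial.algebraMap_eq]
    ring
  rw [← this]; rfl

theorem subst_one (f : MvPolynomial (Fin 2) k) : subst (1 : Matrix (Fin 2) (Fin 2) k) f = f := by
  have : subst (1 : Matrix (Fin 2) (Fin 2) k) = AlgHom.id k _ := by
    apply MvPolynomial.algHom_ext
    intro i
    rw [subst_X]
    fin_cases i <;> simp [Matrix.one_apply]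
  rw [this]; rfl

theorem Eqv.refl (f : MvPolynomial (Fin 2) k) : Eqv f f :=
  ⟨1, 1, by simp, one_ne_zero, by simp [subst_one]⟩

theorem Eqv.trans {f g h : MvPolynomial (Fin 2) k} (h1 : Eqv f g) (h2 : Eqv g h) : Eqv f h := by
  obtain ⟨M, c, hM, hc, rfl⟩ := h1
  obtain ⟨M', c', hM', hc', rfl⟩ := h2
  refine ⟨M * M', c' * c, ?_, mul_ne_zero hc' hc, ?_⟩
  · rw [Matrix.det_mul]; exact hM.mul hM'
  · rw [map_mul, MvPolynomial.algHom_C, subst_comp, MvPolynomial.algebraMap_eq, map_mul, mul_assoc]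

theorem Eqv.symm {f g : MvPolynomial (Fin 2) k} (h1 : Eqv f g) : Eqv g f := by
  obtain ⟨M, c, hM, hc, rfl⟩ := h1
  refine ⟨M⁻¹, c⁻¹, ?_, inv_ne_zero hc, ?_⟩
  · rw [Matrix.det_nonsing_inv]; exact (Ring.inverse_unit hM.unit ▸ (hM.unit⁻¹).isUnit : _)
  · rw [map_mul, MvPolynomial.algHom_C, subst_comp, MvPolynomial.algebraMap_eq, ← mul_assoc, ← map_mul,
      inv_mul_cancel₀ hc, Matrix.mul_nonsing_inv _ hM, subst_one, map_one, one_mul]

theorem binForm_subst_scaled (M : Matrix (Fin 2) (Fin 2) k) (la mu la2 mu2 s : Fin 4 → k)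
    (h1 : ∀ i, la i * M 1 1 - mu i * M 0 1 = s i * la2 i)
    (h2 : ∀ i, mu i * M 0 0 - la i * M 1 0 = s i * mu2 i) :
    subst M (binForm la mu) = MvPolynomial.C (∏ i, s i) * binForm la2 mu2 := by
  unfold binForm
  rw [map_prod, map_prod, ← Finset.prod_mul_distrib]
  refine Finset.prod_congr rfl fun i _ => ?_
  rw [map_sub, map_mul, map_mul, subst_X, subst_X, MvPolynomial.algHom_C, MvPolynomial.algHom_C,
    MvPolynomial.algebraMap_eq]
  have e1 : (MvPolynomial.C (s i) * (MvPolynomial.C (mu2 i) * MvPolynomial.X 0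
      - MvPolynomial.C (la2 i) * MvPolynomial.X 1) : MvPolynomial (Fin 2) k)
      = MvPolynomial.C (s i * mu2 i) * MvPolynomial.X 0 - MvPolynomial.C (s i * la2 i) * MvPolynomial.X 1 := by
    rw [map_mul, map_mul]; ring
  refine Eq.trans ?_ e1.symm
  rw [← h1, ← h2]
  simp only [map_sub, map_mul]
  ring

def Wla (t : k) : Fin 4 → k := ![1, 0, 1, t]
def Wmu : Fin 4 → k := ![0, 1, 1, 1]

theorem binForm_W (t : k) : binForm (Wla t) Wmu =
    (-MvPolynomial.X 1) * MvPolynomial.X 0 * (MvPolynomial.X 0 - MvPolynomial.X 1)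
      * (MvPolynomial.X 0 - MvPolynomial.C t * MvPolynomial.X 1) := by
  simp [binForm, Fin.prod_univ_four, Wla, Wmu]

theorem gen_sigma (t t' : k) (h : t * t' = 1) :
    Eqv (binForm (Wla t) Wmu) (binForm (Wla t') Wmu) := by
  refine ⟨!![0, 1; 1, 0], t', ?_, ?_, ?_⟩
  · simp [Matrix.det_fin_two]
  · rintro rfl; simp at h
  · rw [binForm_W, binForm_W]
    simp only [map_mul, map_sub, map_neg, subst_X, MvPolynomial.algHom_C, MvPolynomial.algebraMap_eq]
    have hC : (MvPolynomial.C t * MvPolynomial.C t' : MvPolynomial (Fin 2) k) = 1 := by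
      rw [← map_mul, h, map_one]
    simp
    linear_combination (-(MvPolynomial.X 1 * MvPolynomial.X 0 * (MvPolynomial.X 0 - MvPolynomial.X 1) * MvPolynomial.X 0)) * hC

theorem gen_tau (t t' : k) (h : t + t' = 1) :
    Eqv (binForm (Wla t) Wmu) (binForm (Wla t') Wmu) := by
  refine ⟨!![-1, 1; 0, 1], -1, ?_, ?_, ?_⟩
  · simp [Matrix.det_fin_two]
  · simp
  · rw [binForm_W, binForm_W]
    simp only [map_mul, map_sub, map_neg, subst_X, MvPolynomial.algHom_C, MvPolynomial.algebraMap_eq]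
    have hC : (MvPolynomial.C t' : MvPolynomial (Fin 2) k) = 1 - MvPolynomial.C t := by
      rw [← map_one MvPolynomial.C, ← map_sub, ← h]; congr 1; ring
    simp
    rw [hC]
    ring


theorem br_ne_of_disc (la mu : Fin 4 → k) (hd : disc la mu ≠ 0) (i j : Fin 4) (hij : i < j) :
    br la mu i j ≠ 0 := by
  unfold disc at hd
  rw [Finset.prod_ne_zero_iff] at hd
  have := hd (i, j) (by simp [hij])
  have h2 := (pow_ne_zero_iff (two_ne_zero)).mp this
  intro h0
  apply h2
  unfold br at h0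
  linear_combination -h0

theorem nf (la mu : Fin 4 → k) (hb : ∀ i j, i < j → br la mu i j ≠ 0) (t : k)
    (ht : br la mu 0 2 * br la mu 3 1 = -t * (br la mu 0 3 * br la mu 1 2)) :
    Eqv (binForm la mu) (binForm (Wla t) Wmu) := by
  have hr : br la mu 0 1 ≠ 0 := hb 0 1 (by decide)
  have hq : br la mu 0 2 ≠ 0 := hb 0 2 (by decide)
  have hu : br la mu 0 3 ≠ 0 := hb 0 3 (by decide)
  have hp' : br la mu 1 2 ≠ 0 := hb 1 2 (by decide)
  have hp : br la mu 2 1 ≠ 0 := by
    intro h0; apply hp'; unfold br at h0 ⊢; linear_combination -h0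
  have hsub := binForm_subst_scaled
    !![la 0 / br la mu 0 2, la 1 / br la mu 2 1; mu 0 / br la mu 0 2, mu 1 / br la mu 2 1]
    la mu (Wla t) Wmu
    ![br la mu 0 1 / br la mu 2 1, br la mu 0 1 / br la mu 0 2, 1, br la mu 0 3 / br la mu 0 2]
    ?_ ?_
  · refine ⟨!![la 0 / br la mu 0 2, la 1 / br la mu 2 1; mu 0 / br la mu 0 2, mu 1 / br la mu 2 1],
      (∏ i, (![br la mu 0 1 / br la mu 2 1, br la mu 0 1 / br la mu 0 2, 1,
      br la mu 0 3 / br la mu 0 2] : Fin 4 → k) i)⁻¹, ?_, ?_, ?_⟩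
    · rw [Matrix.det_fin_two_of, isUnit_iff_ne_zero]
      have : la 0 / br la mu 0 2 * (mu 1 / br la mu 2 1) - la 1 / br la mu 2 1 * (mu 0 / br la mu 0 2)
          = br la mu 0 1 / (br la mu 0 2 * br la mu 2 1) := by
        field_simp
        unfold br; ring
      rw [this]
      exact div_ne_zero hr (mul_ne_zero hq hp)
    · apply inv_ne_zero
      rw [Fin.prod_univ_four]
      simp only [Matrix.cons_val_zero, Matrix.cons_val_one, Matrix.cons_val]
      exact mul_ne_zero (mul_ne_zero (mul_ne_zero (div_ne_zero hr hp) (div_ne_zero hr hq)) one_ne_zero)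
        (div_ne_zero hu hq)
    · rw [hsub, ← mul_assoc, ← map_mul, inv_mul_cancel₀, map_one, one_mul]
      rw [Fin.prod_univ_four]
      simp only [Matrix.cons_val_zero, Matrix.cons_val_one, Matrix.cons_val]
      exact mul_ne_zero (mul_ne_zero (mul_ne_zero (div_ne_zero hr hp) (div_ne_zero hr hq)) one_ne_zero)
        (div_ne_zero hu hq)
  · intro i
    have ht' : br la mu 3 1 * br la mu 0 2 = br la mu 0 3 * t * br la mu 2 1 := by
      have : br la mu 1 2 = - br la mu 2 1 := by unfold br; ring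
      rw [this] at ht
      linear_combination ht
    fin_cases i
    · simp [Wla]; field_simp; unfold br; ring
    · simp [Wla]; field_simp; ring
    · simp [Wla]; field_simp; unfold br; ring
    · simp [Wla]
      have : la 3 * (mu 1 / br la mu 2 1) - mu 3 * (la 1 / br la mu 2 1) = br la mu 3 1 / br la mu 2 1 := by
        unfold br; field_simp
      rw [this]
      field_simp
      linear_combination ht'
  · intro i
    fin_cases i
    · simp [Wmu]; field_simp; ring
    · simp [Wmu]; field_simp; unfold br; ring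
    · simp [Wmu]; field_simp; unfold br; ring
    · simp [Wmu]; field_simp; unfold br; ring

end

/-- Over a field of characteristic different from 2 and 3, two binary quartics without double zeros
lying in the same fibre of the map to the projective line given by the invariants, i.e. with
proportional (P³, Q²), are equivalent under a linear substitution of the variables up to a nonzero
constant factor. Stated for split quartics f = ∏_i (μ_i X₀ − λ_i X₁) given by root points (λ_i, μ_i)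
≠ (0, 0), with the integral invariants I = 6P, J = 72Q and the discriminant ∏_{i<j} (λ_j μ_i − λ_i
μ_j)²; only the assertion that such a fibre is a single orbit is stated (not its closedness). -/
theorem result (k : Type u) [Field k]
    (h2 : (2 : k) ≠ 0) (h3 : (3 : k) ≠ 0) (la mu la' mu' : Fin 4 → k)
    (hne : ∀ i, la i ≠ 0 ∨ mu i ≠ 0) (hne' : ∀ i, la' i ≠ 0 ∨ mu' i ≠ 0)
    (hd : W4c6intromoduli.disc la mu ≠ 0) (hd' : W4c6intromoduli.disc la' mu' ≠ 0)
    (h : W4c6intromoduli.invI (W4c6intromoduli.coef la mu) ^ 3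
          * W4c6intromoduli.invJ (W4c6intromoduli.coef la' mu') ^ 2 =
        W4c6intromoduli.invI (W4c6intromoduli.coef la' mu') ^ 3
          * W4c6intromoduli.invJ (W4c6intromoduli.coef la mu) ^ 2) :
    ∃ (M : Matrix (Fin 2) (Fin 2) k) (c : k), IsUnit M.det ∧ c ≠ 0 ∧
      W4c6intromoduli.binForm la' mu' =
        MvPolynomial.C c * W4c6intromoduli.subst M (W4c6intromoduli.binForm la mu) := by
  have hb := br_ne_of_disc la mu hd
  have hb' := br_ne_of_disc la' mu' hd'
  rw [invI_eq, invJ_eq, invI_eq, invJ_eq] at h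
  have hP : br la mu 0 1 * br la mu 2 3 + br la mu 0 2 * br la mu 3 1 + br la mu 0 3 * br la mu 1 2 = 0 := by
    unfold br; ring
  have hP' : br la' mu' 0 1 * br la' mu' 2 3 + br la' mu' 0 2 * br la' mu' 3 1
      + br la' mu' 0 3 * br la' mu' 1 2 = 0 := by
    unfold br; ring
  have hC : br la mu 0 3 * br la mu 1 2 ≠ 0 := mul_ne_zero (hb 0 3 (by decide)) (hb 1 2 (by decide))
  have hC' : br la' mu' 0 3 * br la' mu' 1 2 ≠ 0 :=
    mul_ne_zero (hb' 0 3 (by decide)) (hb' 1 2 (by decide))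
  obtain ⟨t, s, ht, hs, hts⟩ := key _ _ _ _ _ _ hP hP' hC hC' h3 h
  have e1 := nf la mu hb t ht
  have e2 := nf la' mu' hb' s hs
  suffices hW : Eqv (binForm (Wla t) Wmu) (binForm (Wla s) Wmu) from
    (e1.trans hW).trans e2.symm
  simp only [mul_eq_zero] at hts
  rcases hts with ((((h1 | h1) | h1) | h1) | h1) | h1
  · have : s = t := by linear_combination h1
    rw [this]; exact Eqv.refl _
  · exact gen_sigma t s (by linear_combination h1)
  · exact gen_tau t s (by linear_combination h1)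
  · exact (gen_tau t (1 - t) (by ring)).trans (gen_sigma (1 - t) s (by linear_combination h1))
  · exact ((gen_tau t (1 - t) (by ring)).trans
      (gen_sigma (1 - t) (1 - s) (by linear_combination h1))).trans (gen_tau (1 - s) s (by ring))
  · exact (gen_sigma t (1 - s) (by linear_combination -h1)).trans (gen_tau (1 - s) s (by ring))
  

end Groth.Agent.S19393
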